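import Groth.Statements.S2085
import Groth.Agent.H11.SuppLoc
import Groth.Agent.H14.ZClos.DepthLocal

set_option autoImplicit false
universe u
open CAlg

namespace Groth.Agent.S2085

/-- Let `M` be a finite module over a Noetherian ring `R`. Then every associated prime of `M` is minimal
in the support of `M` (no embedded primes) if and only if `M` satisfies Serre's condition `(S_1)`. -/
theorem result {R M : Type u} [CommRing R] [IsNoetherianRing R] [AddCommGroup M] [Module R M]
    [Module.Finite R M] :
    (∀ p ∈ associatedPrimes R M, p ∈ (Module.annihilator R M).minimalPrimes) ↔ LocCoh.HasSk 1 R M := by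
  classical
  constructor
  · intro h p hp
    by_cases hass : p ∈ associatedPrimes R M
    · have hmin := h p hass
      have hsd : Module.supportDim (Localization.AtPrime p) (LocalizedModule p.primeCompl M)
          ≤ 0 := by
        unfold Module.supportDim
        haveI : Subsingleton (Module.support (Localization.AtPrime p)
            (LocalizedModule p.primeCompl M)) := by
          have key : ∀ a ∈ Module.support (Localization.AtPrime p)
              (LocalizedModule p.primeCompl M),
              (PrimeSpectrum.comap (algebraMap R (Localization.AtPrime p)) a).asIdeal = p := by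
            intro a ha
            have hca := Groth.Agent.H11.SuppLoc.comap_mem_support M p a ha
            have hann := Module.annihilator_le_of_mem_support hca
            have hle : (PrimeSpectrum.comap (algebraMap R (Localization.AtPrime p)) a).asIdeal
                ≤ p := by
              have h1 : a.asIdeal ≤ IsLocalRing.maximalIdeal (Localization.AtPrime p) :=
                IsLocalRing.le_maximalIdeal a.2.ne_top
              have h2 := Ideal.comap_mono (f := algebraMap R (Localization.AtPrime p)) h1
              have h3 : Ideal.comap (algebraMap R (Localization.AtPrime p))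
                  (IsLocalRing.maximalIdeal (Localization.AtPrime p)) = p :=
                IsLocalization.AtPrime.under_maximalIdeal (Localization.AtPrime p) p
              rw [h3] at h2
              exact h2
            exact le_antisymm hle (hmin.2
              ⟨(PrimeSpectrum.comap (algebraMap R (Localization.AtPrime p)) a).2, hann⟩ hle)
          refine ⟨fun a b => Subtype.ext ?_⟩
          apply PrimeSpectrum.localization_comap_injective (Localization.AtPrime p) p.primeCompl
          apply PrimeSpectrum.ext
          rw [key a.1 a.2, key b.1 b.2]
        exact Order.krullDim_nonpos_of_subsingleton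
      refine (min_le_right _ _).trans (hsd.trans ?_)
      rw [← WithBot.coe_zero]
      exact WithBot.coe_le_coe.mpr zero_le
    · have h1 := (Groth.Agent.H14.ZClos.one_le_depth_localization_iff M p).mpr hass
      refine (min_le_left _ _).trans ?_
      exact_mod_cast h1
  · intro hS p hass
    haveI hpp : p.IsPrime := hass.isPrime
    have hd0 := Groth.Agent.H14.D15.depth_localization_eq_zero_of_mem_associatedPrimes M p hass
    have hSp := hS p
    have hsd : Module.supportDim (Localization.AtPrime p) (LocalizedModule p.primeCompl M)
        ≤ 0 := by
      have h0 : ((LocCoh.depth (Localization.AtPrime p) (LocalizedModule p.primeCompl M) : ℕ∞)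
          : WithBot ℕ∞) ≤ 0 := by exact_mod_cast hd0
      rcases min_le_iff.mp (hSp.trans h0) with h1 | h1
      · exfalso
        have : ((1 : ℕ∞) : WithBot ℕ∞) ≤ ((0 : ℕ∞) : WithBot ℕ∞) := by exact_mod_cast h1
        have := WithBot.coe_le_coe.mp this
        simp at this
      · exact h1
    have hpann : Module.annihilator R M ≤ p := by
      have := IsAssociatedPrime.annihilator_le hass
      rwa [Submodule.annihilator_top] at this
    refine ⟨⟨hpp, hpann⟩, ?_⟩
    rintro q ⟨hqprime, hqann⟩ hqp
    by_contra hnle
    obtain ⟨q', hq'S, hq'c⟩ := Groth.Agent.H11.SuppLoc.exists_mem_support_comap_eq M p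
      ⟨q, hqprime⟩ hqp (Module.mem_support_iff_of_finite.mpr hqann)
    let m' : PrimeSpectrum (Localization.AtPrime p) := IsLocalRing.closedPoint _
    have hle : q' ≤ m' := IsLocalRing.le_maximalIdeal q'.2.ne_top
    have hm'S : m' ∈ Module.support (Localization.AtPrime p) (LocalizedModule p.primeCompl M) :=
      Module.mem_support_mono hle hq'S
    have hne : q' ≠ m' := by
      intro heq
      apply hnle
      have h1 := congrArg (fun z => (PrimeSpectrum.comap
        (algebraMap R (Localization.AtPrime p)) z).asIdeal) heq
      simp only [hq'c] at h1
      have h2 : (PrimeSpectrum.comap (algebraMap R (Localization.AtPrime p)) m').asIdeal = p :=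
        IsLocalization.AtPrime.under_maximalIdeal (Localization.AtPrime p) p
      rw [h2] at h1
      exact h1.symm.le
    have hpos : 0 < Module.supportDim (Localization.AtPrime p)
        (LocalizedModule p.primeCompl M) := by
      unfold Module.supportDim
      rw [Order.krullDim_pos_iff]
      exact ⟨⟨q', hq'S⟩, ⟨m', hm'S⟩, lt_of_le_of_ne hle (fun h => hne (congrArg Subtype.val h))⟩
    exact absurd hsd (not_le.mpr hpos)


end Groth.Agent.S2085
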