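import Groth.Statements.S4730
import Groth.Agent.H24.PolyHeight
import Mathlib.RingTheory.AlgebraicIndependent.TranscendenceBasis
import Mathlib.RingTheory.Algebraic.Integral
import Mathlib.SetTheory.Cardinal.ENat

set_option autoImplicit false
universe u
open EGA4

namespace Groth.Agent.S4730

open Polynomial in
/-- Let A be a Noetherian ring, p a prime ideal of A and q a prime ideal of the polynomial ring A[T]
lying over p. Then ht(p) + 1 = ht(q) + deg.tr_{κ(p)} κ(q), the transcendence degree being that of
the domain A[T]/q over the domain A/p. -/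
theorem result (A : Type u) [CommRing A] [IsNoetherianRing A]
    (p : Ideal A) [p.IsPrime] (q : Ideal A[X]) [q.IsPrime] [q.LiesOver p] :
    (p.height : Cardinal.{u}) + 1 = (q.height : Cardinal.{u}) + Algebra.trdeg (A ⧸ p) (A[X] ⧸ q) := by
  by_cases hq : q = p.map (Polynomial.C : A →+* A[X])
  · -- transcendental case
    have hht : q.height = p.height := by
      rw [hq]; exact Groth.Agent.H24.height_map_C_of_isPrime p
    rw [hht]
    congr 1
    subst hq
    let e : (A ⧸ p)[X] ≃+* A[X] ⧸ (p.map (Polynomial.C : A →+* A[X])) :=
      Ideal.polynomialQuotientEquivQuotientPolynomial p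
    have he : ∀ x : A ⧸ p, e (algebraMap (A ⧸ p) (A ⧸ p)[X] x) =
        algebraMap (A ⧸ p) (A[X] ⧸ (p.map (Polynomial.C : A →+* A[X]))) x := by
      intro x
      obtain ⟨a, rfl⟩ := Ideal.Quotient.mk_surjective x
      rw [Ideal.Quotient.algebraMap_mk_of_liesOver]
      have := Ideal.polynomialQuotientEquivQuotientPolynomial_map_mk p (Polynomial.C a)
      rw [Polynomial.map_C] at this
      exact this
    let e' : (A ⧸ p)[X] ≃ₐ[A ⧸ p] A[X] ⧸ (p.map (Polynomial.C : A →+* A[X])) :=
      AlgEquiv.ofRingEquiv (f := e) he
    rw [← e'.trdeg_eq, Polynomial.trdeg_of_isDomain]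
  · have hht : q.height = p.height + 1 :=
      Groth.Agent.H24.height_eq_add_one_of_ne_map_C p q hq
    have hIq : p.map (Polynomial.C : A →+* A[X]) ≤ q := by
      rw [Ideal.map_le_iff_le_comap]
      exact (Ideal.LiesOver.over (P := q) (p := p)).le
    -- there is f ∈ q not in p.map C
    have hex : ∃ f ∈ q, f ∉ p.map (Polynomial.C : A →+* A[X]) := by
      by_contra h
      push Not at h
      exact hq (le_antisymm h hIq)
    obtain ⟨f, hfq, hfp⟩ := hex
    have hXalg : IsAlgebraic (A ⧸ p) (Ideal.Quotient.mk q Polynomial.X) := by
      refine ⟨f.map (Ideal.Quotient.mk p), ?_, ?_⟩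
      · intro h0
        apply hfp
        rw [Ideal.mem_map_C_iff]
        intro n
        have := congrArg (fun g => Polynomial.coeff g n) h0
        simp only [Polynomial.coeff_map, Polynomial.coeff_zero] at this
        exact Ideal.Quotient.eq_zero_iff_mem.mp this
      · have h1 : Polynomial.aeval (Ideal.Quotient.mk q Polynomial.X) (f.map (Ideal.Quotient.mk p)) =
            Polynomial.aeval (Ideal.Quotient.mk q Polynomial.X) f := by
          have := Polynomial.aeval_map_algebraMap (A := A ⧸ p) (B := A[X] ⧸ q)
            (Ideal.Quotient.mk q Polynomial.X) f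
          simpa using this
        rw [h1]
        have h2 := Polynomial.aeval_algHom_apply (Ideal.Quotient.mkₐ A q) (Polynomial.X : A[X]) f
        simp only [Ideal.Quotient.mkₐ_eq_mk] at h2
        rw [h2, Polynomial.aeval_X_left_apply]
        exact Ideal.Quotient.eq_zero_iff_mem.mpr hfq
    have hall : ∀ g : A[X], IsAlgebraic (A ⧸ p) (Ideal.Quotient.mk q g) := by
      intro g
      induction g using Polynomial.induction_on with
      | C a =>
        have : Ideal.Quotient.mk q (Polynomial.C a) =
            algebraMap (A ⧸ p) (A[X] ⧸ q) (Ideal.Quotient.mk p a) := by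
          rw [Ideal.Quotient.algebraMap_mk_of_liesOver]
          rfl
        rw [this]
        exact isAlgebraic_algebraMap _
      | add f g hf hg =>
        rw [map_add]
        exact hf.add hg
      | monomial n a h =>
        rw [pow_succ, ← mul_assoc, map_mul]
        exact h.mul hXalg
    have halg : Algebra.IsAlgebraic (A ⧸ p) (A[X] ⧸ q) := by
      constructor
      intro x
      obtain ⟨g, rfl⟩ := Ideal.Quotient.mk_surjective x
      exact hall g
    rw [hht, trdeg_eq_zero, add_zero]
    simp [Cardinal.ofENat_add]

end Groth.Agent.S4730
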