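import Mathlib
import Groth.Statements.S14424
import Groth.Agent.H72.DepthCM
-- import your own Groth.Agent.* helpers here

set_option autoImplicit false
universe u
open LocCoh

namespace Groth.Agent.S14424

open Groth.Agent.H15 Groth.Agent.H26 Groth.Agent.H72.DepthCM

/-- Let R be a Noetherian ring. Then R is Cohen–Macaulay (every localization at a prime ideal is a
Cohen–Macaulay local ring) if and only if for every proper ideal a of R the a-depth of R equals the
height (codimension) of a. (The published statement defines a Cohen–Macaulay ring by its
localizations at maximal ideals; this row uses all prime ideals, an equivalent definition because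
Cohen–Macaulayness passes to localizations.) -/
theorem result (R : Type u) [CommRing R] [IsNoetherianRing R] :
    LocCoh.IsCohenMacaulayRing R ↔ ∀ a : Ideal R, a ≠ ⊤ → LocCoh.idealDepth a R = a.height := by
  have hdim : ∀ (p : Ideal R) [p.IsPrime],
      Module.supportDim (Localization.AtPrime p) (Localization.AtPrime p) =
        ((p.height : ℕ∞) : WithBot ℕ∞) := by
    intro p _
    rw [Module.supportDim_self_eq_ringKrullDim,
      IsLocalization.AtPrime.ringKrullDim_eq_height p (Localization.AtPrime p)]
  constructor
  · intro hCM a _
    rw [idealDepth_eq_iInf_depth_localization a R, ← iInf_height_eq_height a]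
    refine iInf_congr fun p => iInf_congr fun hp => ?_
    have h1 := (hCM.isCohenMacaulayLocalRing_localization p.asIdeal).supportDim_eq_depth
    rw [hdim p.asIdeal] at h1
    rw [depth_localizedModule_self]
    exact (WithBot.coe_injective h1).symm
  · intro h
    refine { isCohenMacaulayLocalRing_localization := fun p _ => ?_ }
    refine { supportDim_eq_depth := ?_ }
    apply le_antisymm
    · rw [hdim p]
      refine WithBot.coe_le_coe.mpr ?_
      rw [← h p (Ideal.IsPrime.ne_top ‹_›), idealDepth_eq_iInf_depth_localization p R,
        ← depth_localizedModule_self]
      exact iInf₂_le (⟨p, ‹_›⟩ : PrimeSpectrum R) le_rfl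
    · exact depth_le_supportDim _

end Groth.Agent.S14424
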