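import Groth.Statements.S5765
import Groth.Agent.H31.Support
import Mathlib.RingTheory.KrullDimension.Module
import Mathlib.RingTheory.Localization.AtPrime.Basic
import Mathlib.RingTheory.Spectrum.Prime.Topology
import Mathlib.RingTheory.IsTensorProduct

set_option autoImplicit false
universe u
open EGA41

namespace Groth.Agent.S5765

open TensorProduct

/-- Let A be a ring, M a finitely generated A-module and p a prime ideal of A. Then dim_{A_p}(M_p) +
dim_A(M/pM) ≤ dim_A(M). -/
theorem result (A : Type u) [CommRing A] (M : Type u)
    [AddCommGroup M] [Module A M] [Module.Finite A M] (p : Ideal A) [p.IsPrime] :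
    Module.supportDim (Localization.AtPrime p) (LocalizedModule p.primeCompl M) +
        Module.supportDim A (M ⧸ (p • (⊤ : Submodule A M))) ≤ Module.supportDim A M := by
  by_cases hp : (⟨p, inferInstance⟩ : PrimeSpectrum A) ∈ Module.support A M
  swap
  · have : Subsingleton (LocalizedModule p.primeCompl M) := Module.notMem_support_iff.mp hp
    rw [Module.supportDim_eq_bot_of_subsingleton, WithBot.bot_add]
    exact bot_le
  set P : Module.support A M := ⟨⟨p, inferInstance⟩, hp⟩ with hP
  have hsuppLoc : Module.support (Localization.AtPrime p) (LocalizedModule p.primeCompl M) =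
      PrimeSpectrum.comap (algebraMap A (Localization.AtPrime p)) ⁻¹' Module.support A M := by
    have hbc : IsBaseChange (Localization.AtPrime p) (LocalizedModule.mkLinearMap p.primeCompl M) :=
      IsLocalizedModule.isBaseChange p.primeCompl (Localization.AtPrime p) _
    rw [← hbc.equiv.support_eq]
    exact Groth.Agent.H31.support_baseChange_eq_preimage M
  have h1 : Module.supportDim (Localization.AtPrime p) (LocalizedModule p.primeCompl M) ≤
      Order.krullDim (Set.Iic P) := by
    rw [Module.supportDim]
    refine Order.krullDim_le_of_strictMono (fun q => ⟨⟨PrimeSpectrum.comap (algebraMap A (Localization.AtPrime p)) q.1, ?_⟩, ?_⟩) ?_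
    · exact (Set.ext_iff.mp hsuppLoc q.1).mp q.2
    · change (PrimeSpectrum.comap (algebraMap A (Localization.AtPrime p)) q.1).asIdeal ≤ p
      have h2 : q.1.asIdeal ≤ IsLocalRing.maximalIdeal (Localization.AtPrime p) :=
        IsLocalRing.le_maximalIdeal q.1.2.ne_top
      have h3 := Ideal.comap_mono (f := algebraMap A (Localization.AtPrime p)) h2
      rw [← Ideal.under_def, ← Ideal.under_def, Localization.AtPrime.under_maximalIdeal] at h3
      exact h3
    · intro a b hab
      have hle : a.1.asIdeal ≤ b.1.asIdeal := le_of_lt hab
      have hle' : (PrimeSpectrum.comap (algebraMap A (Localization.AtPrime p)) a.1).asIdeal ≤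
          (PrimeSpectrum.comap (algebraMap A (Localization.AtPrime p)) b.1).asIdeal :=
        Ideal.comap_mono hle
      have hne : (PrimeSpectrum.comap (algebraMap A (Localization.AtPrime p)) a.1).asIdeal ≠
          (PrimeSpectrum.comap (algebraMap A (Localization.AtPrime p)) b.1).asIdeal := by
        intro heq
        have : a.1 = b.1 := PrimeSpectrum.localization_comap_injective (Localization.AtPrime p)
          p.primeCompl (PrimeSpectrum.ext heq)
        exact (ne_of_lt hab) (Subtype.ext this)
      have hlt : (PrimeSpectrum.comap (algebraMap A (Localization.AtPrime p)) a.1).asIdeal <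
          (PrimeSpectrum.comap (algebraMap A (Localization.AtPrime p)) b.1).asIdeal :=
        lt_of_le_of_ne hle' hne
      exact hlt
  have h2 : Module.supportDim A (M ⧸ (p • (⊤ : Submodule A M))) ≤ Order.krullDim (Set.Ici P) := by
    rw [Module.supportDim]
    have hq : ∀ q : Module.support A (M ⧸ (p • (⊤ : Submodule A M))),
        q.1 ∈ Module.support A M ∩ PrimeSpectrum.zeroLocus (p : Set A) := by
      intro q
      rw [← Module.support_quotient]
      exact q.2
    refine Order.krullDim_le_of_strictMono
      (fun q => ⟨⟨q.1, (hq q).1⟩, (hq q).2⟩) ?_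
    intro a b hab
    exact hab
  have h3 : (Order.height P : WithBot ℕ∞) + Order.coheight P ≤ Module.supportDim A M := by
    have : Nonempty (Module.support A M) := ⟨P⟩
    rw [Module.supportDim, Order.krullDim_eq_iSup_height_add_coheight_of_nonempty]
    exact_mod_cast le_iSup (fun a : Module.support A M => Order.height a + Order.coheight a) P
  rw [← Order.height_eq_krullDim_Iic] at h1
  rw [← Order.coheight_eq_krullDim_Ici] at h2
  exact (add_le_add h1 h2).trans h3

end Groth.Agent.S5765
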