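import Groth.Statements.S2092
import Groth.Agent.H26.CMFlat

set_option autoImplicit false
universe u
open CAlg

namespace Groth.Agent.S2092

/-- Case `M = R`: if `R` is a Cohen–Macaulay ring then so is the polynomial ring `R[x_1, …, x_n]`. -/
theorem result {R : Type u} [CommRing R] [LocCoh.IsCohenMacaulayRing R] (n : ℕ) :
    LocCoh.IsCohenMacaulayRing (MvPolynomial (Fin n) R) := by
  have hR : LocCoh.IsCohenMacaulayRing R := inferInstance
  haveI : IsNoetherianRing R := hR.toIsNoetherian
  refine Groth.Agent.H26.CMFlat.isCohenMacaulayRing_of_flat_of_fibres R (MvPolynomial (Fin n) R) hR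
    (fun p hp => ?_)
  have hreg : IsRegularRing (MvPolynomial (Fin n) p.ResidueField) := inferInstance
  have h2 : IsRegularRing (p.Fiber (MvPolynomial (Fin n) R)) :=
    @IsRegularRing.of_ringEquiv _ _ _ _
      (MvPolynomial.algebraTensorAlgEquiv R p.ResidueField (σ := Fin n)).symm.toRingEquiv hreg
  exact Groth.Agent.H26.CMFlat.isCohenMacaulayRing_of_isRegularRing _

end Groth.Agent.S2092
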