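import Groth.Statements.S9125
import Groth.Agent.H46.Catenary
import Mathlib.RingTheory.Spectrum.Prime.RingHom
-- import your own Groth.Agent.* helpers here

set_option autoImplicit false
universe u
open CAlg

namespace Groth.Agent.S9125

/-- A quotient of a catenary ring is catenary. -/
theorem result (A : Type u) [CommRing A] (I : Ideal A)
    (hA : CAlg.IsCatenary A) : CAlg.IsCatenary (A ⧸ I) := by
  have hsurj : Function.Surjective (Ideal.Quotient.mk I) := Ideal.Quotient.mk_surjective
  refine Groth.Agent.H46.isCatenary_of_convex_embedding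
    (PrimeSpectrum.comap (Ideal.Quotient.mk I)) ?_ ?_ hA
  · intro p q
    constructor
    · intro h
      have h' : p.asIdeal.comap (Ideal.Quotient.mk I) ≤ q.asIdeal.comap (Ideal.Quotient.mk I) := h
      have := Ideal.map_mono (f := Ideal.Quotient.mk I) h'
      rw [Ideal.map_comap_of_surjective _ hsurj, Ideal.map_comap_of_surjective _ hsurj] at this
      exact this
    · intro h
      exact Ideal.comap_mono h
  · intro p q y hpy _
    rw [_root_.range_comap_of_surjective _ _ hsurj]
    have hp : PrimeSpectrum.comap (Ideal.Quotient.mk I) p ∈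
        Set.range (PrimeSpectrum.comap (Ideal.Quotient.mk I)) := ⟨p, rfl⟩
    rw [_root_.range_comap_of_surjective _ _ hsurj] at hp
    rw [PrimeSpectrum.mem_zeroLocus] at hp ⊢
    exact hp.trans hpy

end Groth.Agent.S9125
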