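import Groth.Statements.S0386
import Groth.Agent.H1.FlatLocusExists
import Groth.Agent.H25.FlatBCpt

set_option autoImplicit false
universe u
open FlatMor

namespace Groth.Agent.S0386

open AlgebraicGeometry CategoryTheory Limits in
/-- Openness of the flat locus: for a morphism f : X ⟶ S locally of finite presentation, the set of
points x of X at which the local ring O_{X,x} is flat over O_{S,f(x)} is open in X. (The published
statement also treats the flat locus of a finitely presented quasi-coherent module; stated here for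
the structure sheaf.) -/
theorem result {X S : Scheme.{u}} (f : X ⟶ S) [LocallyOfFinitePresentation f] :
    IsOpen {x : X | (f.stalkMap x).hom.Flat} := by
  rw [isOpen_iff_forall_mem_open]
  intro x₀ hx₀
  -- affine neighbourhoods
  obtain ⟨⟨U, hU⟩, hfxU⟩ : ∃ U : S.affineOpens, f x₀ ∈ U.1 := by
    obtain ⟨_, ⟨U, hU, rfl⟩, hxU, -⟩ :=
      S.isBasis_affineOpens.exists_subset_of_mem_open (Set.mem_univ (f x₀)) isOpen_univ
    exact ⟨⟨U, hU⟩, hxU⟩
  obtain ⟨⟨V, hV⟩, hxV, hVU⟩ : ∃ V : X.affineOpens, x₀ ∈ V.1 ∧ V.1 ≤ f ⁻¹ᵁ U := by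
    obtain ⟨_, ⟨V, hV, rfl⟩, hxV, hVU⟩ :=
      X.isBasis_affineOpens.exists_subset_of_mem_open (show x₀ ∈ ((f ⁻¹ᵁ U : X.Opens) : Set X)
        from hfxU) (f ⁻¹ᵁ U).isOpen
    exact ⟨⟨V, hV⟩, hxV, hVU⟩
  let _ := (f.appLE U V hVU).hom.toAlgebra
  have hfp : Algebra.FinitePresentation Γ(S, U) Γ(X, V) :=
    LocallyOfFinitePresentation.finitePresentation_appLE f hU hV hVU
  have hfpm : Module.FinitePresentation Γ(X, V) Γ(X, V) := inferInstance
  have hT : IsOpen (Groth.Agent.H1.FlatLocus.flatLocus Γ(S, U) (S := Γ(X, V)) Γ(X, V)) :=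
    Groth.Agent.H1.FlatLocus.isOpen_flatLocus_of_finitePresentation
  -- comparison of the two localizations
  have hiff : ∀ q : PrimeSpectrum Γ(X, V),
      q ∈ Groth.Agent.H1.FlatLocus.flatLocus Γ(S, U) (S := Γ(X, V)) Γ(X, V) ↔
        Module.Flat Γ(S, U) (Localization.AtPrime q.asIdeal) := by
    intro q
    have e : LocalizedModule q.asIdeal.primeCompl Γ(X, V) ≃ₗ[Γ(X, V)]
        Localization.AtPrime q.asIdeal :=
      IsLocalizedModule.iso q.asIdeal.primeCompl
        (Algebra.linearMap Γ(X, V) (Localization.AtPrime q.asIdeal))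
    exact Module.Flat.equiv_iff (e.restrictScalars Γ(S, U))
  refine ⟨Subtype.val '' (hV.primeIdealOf ⁻¹'
    (Groth.Agent.H1.FlatLocus.flatLocus Γ(S, U) (S := Γ(X, V)) Γ(X, V))), ?_, ?_, ?_⟩
  · rintro _ ⟨⟨x, hx⟩, hxT, rfl⟩
    exact Groth.Agent.H25.FlatBCpt.flat_stalkMap_of_flat_localization U hU V hV hVU hx
      ((hiff _).mp hxT)
  · exact V.isOpen.isOpenMap_subtype_val _ (hT.preimage hV.isoSpec.hom.continuous)
  · refine ⟨⟨x₀, hxV⟩, ?_, rfl⟩
    exact (hiff _).mpr
      (Groth.Agent.H25.EtaleAt.flat_localization_of_flat_stalkMap U hU V hV hVU hxV hx₀)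

end Groth.Agent.S0386
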