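import Groth.Statements.S4848
import Groth.Agent.H1.FlatLocusColim

set_option autoImplicit false
universe u
open TensorProduct
open EGA43

namespace Groth.Agent.S4848

/-- Let A₀ be a commutative ring, (A_i) a directed system of A₀-algebras with colimit A, B₀ a finitely
presented A₀-algebra and M₀ a finitely presented B₀-module. Then the A-module A ⊗_{A₀} M₀ is flat if
and only if, for some index i, the A_i-module A_i ⊗_{A₀} M₀ is flat. -/
theorem result {A₀ : Type u} [CommRing A₀]
    {ι : Type u} [Preorder ι] (G : ι → Type u) [∀ i, CommRing (G i)] [∀ i, Algebra A₀ (G i)]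
    (g : ∀ i j, i ≤ j → G i →ₐ[A₀] G j)
    (A : Type u) [CommRing A] [Algebra A₀ A] [∀ i, Algebra (G i) A] [∀ i, IsScalarTower A₀ (G i) A]
    (hcolim : FlatCA.IsDirectedColimitRing G (fun i j h => (g i j h).toRingHom) A)
    {B₀ : Type u} [CommRing B₀] [Algebra A₀ B₀] [Algebra.FinitePresentation A₀ B₀]
    (M₀ : Type u) [AddCommGroup M₀] [Module B₀ M₀] [Module A₀ M₀] [IsScalarTower A₀ B₀ M₀]
    [Module.FinitePresentation B₀ M₀] :
    Module.Flat A (A ⊗[A₀] M₀) ↔ ∃ i : ι, Module.Flat (G i) (G i ⊗[A₀] M₀) := by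
  classical
  -- a model of `(B₀, M₀)` over a finitely generated `ℤ`-subalgebra of `A₀`
  obtain ⟨Z, hZfg, 𝓜, φ, e, hφ, he⟩ := Groth.Agent.H1.FlatLocus.exists_model A₀ B₀ M₀
  have : Algebra.FiniteType ℤ Z := (Subalgebra.fg_iff_finiteType Z).mp hZfg
  have : IsNoetherianRing Z := Algebra.FiniteType.isNoetherianRing ℤ Z
  -- `e` is `A₀`-linear
  let e' : 𝓜.Mod A₀ ≃ₗ[A₀] M₀ :=
    { e with
      map_smul' := fun a x => by
        have h1 : a • x = (algebraMap A₀ (𝓜.P A₀) a) • x := (algebraMap_smul _ a x).symm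
        have h2 : e (algebraMap A₀ (𝓜.P A₀) a • x) = φ (algebraMap A₀ (𝓜.P A₀) a) • e x :=
          he _ _
        change e (a • x) = a • e x
        rw [h1, h2, φ.commutes, algebraMap_smul] }
  -- comparison with the model over any `A₀`-algebra
  have key : ∀ (D : Type u) [CommRing D] [Algebra A₀ D],
      Module.Flat D (D ⊗[A₀] M₀) ↔ Module.Flat D (𝓜.Mod D) := fun D _ _ =>
    Module.Flat.equiv_iff ((LinearEquiv.baseChange A₀ D _ _ e'.symm).trans
      (𝓜.baseChangeEquiv A₀ D))
  constructor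
  · intro hflat
    have : Module.Flat A (𝓜.Mod A) := (key A).mp hflat
    obtain ⟨C, hCfg, hC⟩ := 𝓜.exists_fg_subalgebra_flat A
    have : Algebra.FiniteType Z C := (Subalgebra.fg_iff_finiteType C).mp hCfg
    have : Algebra.FinitePresentation Z C := Algebra.FinitePresentation.of_finiteType.mp ‹_›
    obtain ⟨j, ψ, -⟩ := Groth.Agent.H1.FlatLocus.exists_algHom_of_isDirectedColimitRing
      (Z := Z) G (fun i j h => (g i j h).toRingHom)
      (fun i j h z => (g i j h).commutes (z : A₀)) A hcolim C C.val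
    refine ⟨j, (key (G j)).mpr ?_⟩
    let _ : Algebra C (G j) := ψ.toRingHom.toAlgebra
    have : IsScalarTower Z C (G j) := IsScalarTower.of_algebraMap_eq fun z => (ψ.commutes z).symm
    exact 𝓜.flat_of_algebra C (G j) hC
  · rintro ⟨i, hi⟩
    exact Module.Flat.of_linearEquiv
      (TensorProduct.AlgebraTensorModule.cancelBaseChange A₀ (G i) A A M₀).symm

end Groth.Agent.S4848
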