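import Groth.Statements.S0527
import Groth.Agent.H3.HenselBasic
import Mathlib.RingTheory.Nilpotent.Basic

set_option autoImplicit false
universe u
open Hensel

namespace Groth.Agent.S0527

/-- A ring is Henselian at any locally nilpotent ideal, i.e. an ideal all of whose elements are
nilpotent. -/
theorem result (A : Type u) [CommRing A] (I : Ideal A) (hI : ∀ x ∈ I, IsNilpotent x) :
    HenselianRing A I := by
  have hjac : I ≤ Ideal.jacobson ⊥ := by
    intro x hx
    rw [Ideal.mem_jacobson_bot]
    intro y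
    have h : IsNilpotent (x * y) := (Commute.all x y).isNilpotent_mul_right (hI x hx)
    exact IsNilpotent.isUnit_add_one h
  refine ⟨hjac, ?_⟩
  intro f hf a₀ h₁ h₂
  obtain ⟨N, hN⟩ := hI _ h₁
  have hJ : (Ideal.span {f.eval a₀}) ^ N = (⊥ : Ideal A) := by
    rw [Ideal.span_singleton_pow, hN]; simp
  have := Groth.Agent.H3.isAdicComplete_of_pow_eq_bot (Ideal.span {f.eval a₀}) N hJ A
  have hJI : Ideal.span {f.eval a₀} ≤ I := (Ideal.span_singleton_le_iff_mem _).mpr h₁
  have hu : IsUnit (f.derivative.eval a₀) := by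
    have := isLocalHom_of_le_jacobson_bot I hjac
    exact IsUnit.of_map (Ideal.Quotient.mk I) _ h₂
  obtain ⟨a, ha, haJ⟩ := HenselianRing.is_henselian (I := Ideal.span {f.eval a₀}) f hf a₀
    (Ideal.subset_span rfl) (hu.map _)
  exact ⟨a, ha, hJI haJ⟩

end Groth.Agent.S0527
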