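import Groth.Statements.S0499
import Groth.Agent.H3.HenselSection
import Groth.Agent.H3.IdemLocal
import Mathlib.RingTheory.Etale.QuasiFinite
import Mathlib.RingTheory.Ideal.GoingUp

set_option autoImplicit false
universe u
open Hensel

namespace Groth.Agent.S0499

open IsLocalRing TensorProduct in
/-- An algebra over a henselian local ring that is finitely generated as a module is isomorphic, as a
ring, to a finite product of local rings. -/
theorem result (R : Type u) [CommRing R]
    [HenselianLocalRing R] (S : Type u) [CommRing S] [Algebra R S] [Module.Finite R S] :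
    ∃ (ι : Type u) (_ : Fintype ι) (A : ι → Type u) (_ : ∀ i, CommRing (A i)),
      (∀ i, IsLocalRing (A i)) ∧ Nonempty (S ≃+* (∀ i, A i)) := by
  classical
  obtain ⟨R', _, _, _, P, _, _, n, e, he, P', _, _, hbij, hP', H⟩ :=
    Algebra.exists_etale_completeOrthogonalIdempotents_forall_liesOver_eq (R := R) (S := S)
      (maximalIdeal R)
  have hsurj : Function.Surjective (algebraMap R P.ResidueField) := by
    have h1 := Ideal.algebraMap_residueField_surjective (maximalIdeal R)
    have h2 := hbij.surjective.comp h1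
    convert h2 using 1
    ext r
    simp
  obtain ⟨ρ, hρ⟩ := Groth.Agent.H3.exists_section_of_etale R R' P hsurj
  let Φ : R' ⊗[R] S →ₐ[R] S :=
    Algebra.TensorProduct.lift ((Algebra.ofId R S).comp ρ) (AlgHom.id R S)
      (fun _ _ => Commute.all _ _)
  have hΦsurj : Function.Surjective Φ := fun s => ⟨1 ⊗ₜ s, by simp [Φ]⟩
  have hΦalg : ∀ r' : R', Φ (algebraMap R' (R' ⊗[R] S) r') = algebraMap R S (ρ r') := by
    intro r'
    simp [Φ, Algebra.TensorProduct.algebraMap_apply, Algebra.ofId_apply]
  have hInt : Algebra.IsIntegral R S := inferInstance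
  -- key: maximal ideals of `S` pull back to primes over `P`
  have key : ∀ (Q : Ideal S) [Q.IsMaximal], (Q.comap Φ.toRingHom).LiesOver P := by
    intro Q hQ
    have hQm : Q.comap (algebraMap R S) = maximalIdeal R :=
      eq_maximalIdeal (Ideal.isMaximal_comap_of_isIntegral_of_isMaximal Q)
    constructor
    ext r'
    rw [Ideal.under, Ideal.mem_comap, Ideal.mem_comap]
    change _ ↔ Φ (algebraMap R' _ r') ∈ Q
    rw [hΦalg, ← Ideal.mem_comap, hQm, ← hρ, Ideal.mem_comap]
    rfl
  let ebar : Fin (n + 1) → S := fun i => Φ (e i)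
  have hebar : CompleteOrthogonalIdempotents ebar := he.map Φ.toRingHom
  have hlast : ebar (Fin.last n) = 0 := by
    have hjac : ebar (Fin.last n) ∈ Ideal.jacobson (⊥ : Ideal S) := by
      rw [Ideal.jacobson, Ideal.mem_sInf]
      rintro Q ⟨-, hQ⟩
      have := key Q
      exact (H (Q.comap Φ.toRingHom) inferInstance this).1
    have hu := (Ideal.mem_jacobson_bot.mp hjac) (-1)
    have hidem := hebar.idem (Fin.last n)
    have h0 : (ebar (Fin.last n) * -1 + 1) * ebar (Fin.last n) = 0 := by
      have := hidem.eq
      linear_combination -this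
    exact (hu.mul_right_eq_zero).mp h0
  apply Groth.Agent.H3.exists_pi_isLocalRing_of_completeOrthogonalIdempotents ebar hebar
  intro i hi
  have hil : i ≠ Fin.last n := fun h => hi (h ▸ hlast)
  obtain ⟨j, rfl⟩ := Fin.exists_castSucc_eq.mpr hil
  have hnt : Nontrivial (S ⧸ Ideal.span {1 - ebar j.castSucc}) := by
    rw [Ideal.Quotient.nontrivial_iff, Ne, Ideal.span_singleton_eq_top]
    intro hu
    apply hi
    have h0 : (1 - ebar j.castSucc) * ebar j.castSucc = 0 := by
      have := (hebar.idem j.castSucc).eq
      linear_combination -this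
    exact (hu.mul_right_eq_zero).mp h0
  apply IsLocalRing.of_unique_max_ideal
  obtain ⟨M, hM⟩ := Ideal.exists_maximal (S ⧸ Ideal.span {1 - ebar j.castSucc})
  have aux : ∀ (M : Ideal (S ⧸ Ideal.span {1 - ebar j.castSucc})), M.IsMaximal →
      (M.comap (Ideal.Quotient.mk _)).comap Φ.toRingHom = P' j := by
    intro M hM
    have hQ : (M.comap (Ideal.Quotient.mk (Ideal.span {1 - ebar j.castSucc}))).IsMaximal :=
      Ideal.comap_isMaximal_of_surjective _ Ideal.Quotient.mk_surjective
    have hlies := key (M.comap (Ideal.Quotient.mk (Ideal.span {1 - ebar j.castSucc})))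
    refine (H _ inferInstance hlies).2 j ?_
    intro hmem
    rw [Ideal.mem_comap, Ideal.mem_comap] at hmem
    change Ideal.Quotient.mk _ (ebar j.castSucc) ∈ M at hmem
    have h1 : Ideal.Quotient.mk (Ideal.span {1 - ebar j.castSucc}) (1 - ebar j.castSucc) = 0 :=
      Ideal.Quotient.eq_zero_iff_mem.mpr (Ideal.subset_span rfl)
    rw [map_sub, map_one, sub_eq_zero] at h1
    rw [← h1] at hmem
    exact hM.ne_top ((Ideal.eq_top_iff_one _).mpr hmem)
  refine ⟨M, hM, fun M' hM' => ?_⟩
  have e1 := aux M hM
  have e2 := aux M' hM'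
  have e3 : M'.comap (Ideal.Quotient.mk _) = M.comap (Ideal.Quotient.mk _) :=
    Ideal.comap_injective_of_surjective Φ.toRingHom hΦsurj (e2.trans e1.symm)
  exact Ideal.comap_injective_of_surjective _ Ideal.Quotient.mk_surjective e3

end Groth.Agent.S0499
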