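import Groth.Statements.S17970
import Mathlib
import Groth.Agent.H89.IdemLocal
import Groth.Agent.H89.Jac

set_option autoImplicit false
universe u
open Hensel

namespace Groth.Agent.S17970

/-- Let A be a local ring with maximal ideal m and B a commutative A-algebra which is finitely generated
as an A-module. Then B is ring-isomorphic to a finite product of local rings if and only if every
idempotent of B/mB is the image of an idempotent of B. (Reduction modulo mB is always injective on
the idempotents of B, because mB lies in the Jacobson radical of B; so this surjectivity amounts to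
the bijectivity on idempotents in the printed assertion.) -/
theorem result
    (A : Type u) [CommRing A] [IsLocalRing A] (B : Type u) [CommRing B] [Algebra A B] [Module.Finite A B] :
    (∃ (ι : Type u) (_ : Fintype ι) (C : ι → Type u) (_ : ∀ j, CommRing (C j)),
        (∀ j, IsLocalRing (C j)) ∧ Nonempty (B ≃+* (∀ j, C j))) ↔
      Set.SurjOn (Ideal.Quotient.mk (Ideal.map (algebraMap A B) (IsLocalRing.maximalIdeal A)))
        {e : B | IsIdempotentElem e} {e | IsIdempotentElem e} := by
  classical
  constructor
  · rintro ⟨ι, _, C, _, hC, ⟨e⟩⟩ ē hē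
    obtain ⟨b, rfl⟩ := Ideal.Quotient.mk_surjective ē
    have hb : b * b - b ∈ Ideal.map (algebraMap A B) (IsLocalRing.maximalIdeal A) := by
      rw [← Ideal.Quotient.eq_zero_iff_mem, map_sub, map_mul]
      have : Ideal.Quotient.mk _ b * Ideal.Quotient.mk _ b = Ideal.Quotient.mk _ b := hē
      rw [this, sub_self]
    obtain ⟨ε, hε, hεb⟩ := Groth.Agent.H89.pi_local_idem_lift C
      ((Ideal.map (algebraMap A B) (IsLocalRing.maximalIdeal A)).comap
        (e.symm : (∀ j, C j) →+* B)) (e b) (by
        rw [Ideal.mem_comap]
        simpa using hb)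
    refine ⟨e.symm ε, ?_, ?_⟩
    · change e.symm ε * e.symm ε = e.symm ε
      rw [← map_mul, hε.eq]
    · rw [Ideal.mem_comap] at hεb
      rw [Ideal.Quotient.eq]
      simpa using hεb
  · intro hlift
    have hI : Ideal.map (algebraMap A B) (IsLocalRing.maximalIdeal A) ≤
        Ideal.jacobson (⊥ : Ideal B) :=
      Groth.Agent.H89.map_le_jacobson_of_isIntegral _
        (IsLocalRing.maximalIdeal_le_jacobson ⊥)
    have hfin : Module.Finite (A ⧸ IsLocalRing.maximalIdeal A)
        (B ⧸ Ideal.map (algebraMap A B) (IsLocalRing.maximalIdeal A)) :=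
      Module.Finite.of_restrictScalars_finite A _ _
    have hartk : IsArtinianRing (A ⧸ IsLocalRing.maximalIdeal A) := by
      let _ := Ideal.Quotient.field (IsLocalRing.maximalIdeal A)
      exact DivisionRing.instIsArtinianRing
    have hart : IsArtinianRing (B ⧸ Ideal.map (algebraMap A B) (IsLocalRing.maximalIdeal A)) :=
      IsArtinianRing.of_finite (A ⧸ IsLocalRing.maximalIdeal A) _
    have : Fintype (MaximalSpectrum
        (B ⧸ Ideal.map (algebraMap A B) (IsLocalRing.maximalIdeal A))) := Fintype.ofFinite _
    obtain ⟨C, _, hC, hiso⟩ := Groth.Agent.H89.exists_prod_local_of_lift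
      (Ideal.map (algebraMap A B) (IsLocalRing.maximalIdeal A)) hI
      (fun n : MaximalSpectrum (B ⧸ Ideal.map (algebraMap A B) (IsLocalRing.maximalIdeal A)) =>
        Localization.AtPrime n.asIdeal)
      (MaximalSpectrum.toPiLocalizationEquiv
        (B ⧸ Ideal.map (algebraMap A B) (IsLocalRing.maximalIdeal A))).toRingEquiv hlift
    exact ⟨_, inferInstance, C, inferInstance, hC, hiso⟩

end Groth.Agent.S17970
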