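import Groth.Statements.S17982
import Mathlib
import Groth.Agent.H89.FinProdLocal

set_option autoImplicit false
universe u
open Hensel

namespace Groth.Agent.S17982

/-- Let A be a local ring and B a commutative A-algebra which is finitely generated as an A-module. Then
B is ring-isomorphic to a finite product of local rings if and only if the canonical homomorphism
from B to the product of the localizations of B at its maximal ideals is bijective. -/
theorem result
    (A : Type u) [CommRing A] [IsLocalRing A] (B : Type u) [CommRing B] [Algebra A B] [Module.Finite A B] :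
    (∃ (ι : Type u) (_ : Fintype ι) (C : ι → Type u) (_ : ∀ j, CommRing (C j)),
        (∀ j, IsLocalRing (C j)) ∧ Nonempty (B ≃+* (∀ j, C j))) ↔
    Function.Bijective
      (RingHom.pi (fun n : MaximalSpectrum B => algebraMap B (Localization.AtPrime n.asIdeal))) := by
  have hfun : ⇑(RingHom.pi (fun n : MaximalSpectrum B =>
      algebraMap B (Localization.AtPrime n.asIdeal))) = ⇑(MaximalSpectrum.toPiLocalization B) := by
    funext b
    rfl
  rw [hfun]
  constructor
  · rintro ⟨ι, _, C, _, hC, ⟨e⟩⟩
    refine ⟨MaximalSpectrum.toPiLocalization_injective B, ?_⟩
    have hsurj := Groth.Agent.H89.toPiLocalization_pi_surjective C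
    have hnat := MaximalSpectrum.mapPiLocalization_naturality (e : B →+* (∀ j, C j)) e.bijective
    have hb := MaximalSpectrum.mapPiLocalization_bijective (e : B →+* (∀ j, C j)) e.bijective
    intro x
    obtain ⟨p, hp⟩ := hsurj (MaximalSpectrum.mapPiLocalization (e : B →+* (∀ j, C j)) e.bijective x)
    refine ⟨e.symm p, ?_⟩
    apply hb.1
    have := congrArg (fun t => t (e.symm p)) hnat
    simp only [RingHom.comp_apply] at this
    refine Eq.trans this ?_
    rw [← hp]
    change (MaximalSpectrum.toPiLocalization ((j : ι) → C j)) (e (e.symm p)) = _
    rw [e.apply_symm_apply]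
  · intro h
    have hfin : Finite (MaximalSpectrum B) :=
      MaximalSpectrum.finite_of_toPiLocalization_surjective h.2
    have : Fintype (MaximalSpectrum B) := Fintype.ofFinite _
    refine ⟨MaximalSpectrum B, inferInstance, fun n => Localization.AtPrime n.asIdeal,
      fun n => inferInstance, fun n => inferInstance, ⟨?_⟩⟩
    exact RingEquiv.ofBijective (MaximalSpectrum.toPiLocalization B) h

end Groth.Agent.S17982
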