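import Groth.Statements.S9405
import Mathlib
import Groth.Agent.H89.ComplFinite
import Groth.Agent.H89.Jac
import Groth.Agent.H44.AdicLemmas
import Groth.Agent.S17970
import Groth.Agent.S17982

set_option autoImplicit false
universe u
open CAlg

namespace Groth.Agent.S9405

/-- A module-finite algebra S over a complete Noetherian local ring R is a finite product of complete
Noetherian local rings; precisely, S has finitely many maximal ideals, S maps bijectively onto the
product of its localizations at them, and each of these localizations is Noetherian and complete for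
its maximal ideal. -/
theorem result (R : Type u) [CommRing R]
    [IsLocalRing R] [IsNoetherianRing R] [IsAdicComplete (IsLocalRing.maximalIdeal R) R]
    (S : Type u) [CommRing S] [Algebra R S] [Module.Finite R S] :
    Finite (MaximalSpectrum S) ∧
      Function.Bijective
        (algebraMap S ((m : MaximalSpectrum S) → Localization.AtPrime m.asIdeal)) ∧
      ∀ m : MaximalSpectrum S, IsNoetherianRing (Localization.AtPrime m.asIdeal) ∧
        IsAdicComplete (IsLocalRing.maximalIdeal (Localization.AtPrime m.asIdeal))
          (Localization.AtPrime m.asIdeal) := by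
  classical
  have hSn : IsNoetherianRing S := IsNoetherianRing.of_finite R S
  -- completeness of `S`
  have hSc0 : IsAdicComplete (IsLocalRing.maximalIdeal R) S :=
    Groth.Agent.H89.isAdicComplete_of_finite_noeth (IsLocalRing.maximalIdeal R) S
  have hSc : IsAdicComplete ((IsLocalRing.maximalIdeal R).map (algebraMap R S)) S :=
    (IsAdicComplete.map_algebraMap_iff (IsLocalRing.maximalIdeal R) S).mpr hSc0
  have hlift := Groth.Agent.H89.idem_lift_of_henselianRing
    ((IsLocalRing.maximalIdeal R).map (algebraMap R S))
  have hprod := (Groth.Agent.S17970.result R S).mpr hlift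
  have hbij := (Groth.Agent.S17982.result R S).mp hprod
  have hfun : ⇑(RingHom.pi (fun n : MaximalSpectrum S =>
      algebraMap S (Localization.AtPrime n.asIdeal))) =
      ⇑(algebraMap S ((m : MaximalSpectrum S) → Localization.AtPrime m.asIdeal)) := by
    funext b
    rfl
  rw [hfun] at hbij
  have hfun2 : ⇑(algebraMap S ((m : MaximalSpectrum S) → Localization.AtPrime m.asIdeal)) =
      ⇑(MaximalSpectrum.toPiLocalization S) := by
    funext b
    rfl
  refine ⟨MaximalSpectrum.finite_of_toPiLocalization_surjective (hfun2 ▸ hbij.2), hbij, ?_⟩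
  intro M
  have hLn : IsNoetherianRing (Localization.AtPrime M.asIdeal) :=
    IsLocalization.isNoetherianRing M.asIdeal.primeCompl _ hSn
  refine ⟨hLn, ?_⟩
  -- `S → S_M` is surjective
  have hsurj : Function.Surjective (algebraMap S (Localization.AtPrime M.asIdeal)) := by
    intro y
    obtain ⟨s, hs⟩ := hbij.2 (Pi.single M y)
    refine ⟨s, ?_⟩
    have := congrFun hs M
    rw [Pi.single_eq_same] at this
    exact this
  have hfin : Module.Finite S (Localization.AtPrime M.asIdeal) :=
    Module.Finite.of_surjective (Algebra.linearMap S (Localization.AtPrime M.asIdeal)) hsurj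
  have hLc0 : IsAdicComplete ((IsLocalRing.maximalIdeal R).map (algebraMap R S))
      (Localization.AtPrime M.asIdeal) :=
    Groth.Agent.H89.isAdicComplete_of_finite_noeth _ _
  have hLc : IsAdicComplete (((IsLocalRing.maximalIdeal R).map (algebraMap R S)).map
      (algebraMap S (Localization.AtPrime M.asIdeal))) (Localization.AtPrime M.asIdeal) :=
    (IsAdicComplete.map_algebraMap_iff _ _).mpr hLc0
  -- compare the two ideals
  have hjac : (IsLocalRing.maximalIdeal R).map (algebraMap R S) ≤ M.asIdeal := by
    have h1 : (IsLocalRing.maximalIdeal R).map (algebraMap R S) ≤ Ideal.jacobson (⊥ : Ideal S) :=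
      IsAdicComplete.le_jacobson_bot _
    refine h1.trans ?_
    have hM : M.asIdeal.IsMaximal := M.isMaximal
    exact (Ideal.jacobson_mono bot_le).trans (le_of_eq Ideal.jacobson_eq_self_of_isMaximal)
  have hle : ((IsLocalRing.maximalIdeal R).map (algebraMap R S)).map
      (algebraMap S (Localization.AtPrime M.asIdeal)) ≤
      IsLocalRing.maximalIdeal (Localization.AtPrime M.asIdeal) := by
    rw [← Localization.AtPrime.map_eq_maximalIdeal]
    exact Ideal.map_mono hjac
  -- the quotient `S_M / m S_M` is Artinian
  have hfinq : Module.Finite (R ⧸ IsLocalRing.maximalIdeal R)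
      (S ⧸ Ideal.map (algebraMap R S) (IsLocalRing.maximalIdeal R)) :=
    Module.Finite.of_restrictScalars_finite R _ _
  have hartk : IsArtinianRing (R ⧸ IsLocalRing.maximalIdeal R) := by
    let _ := Ideal.Quotient.field (IsLocalRing.maximalIdeal R)
    exact DivisionRing.instIsArtinianRing
  have hart : IsArtinianRing (S ⧸ Ideal.map (algebraMap R S) (IsLocalRing.maximalIdeal R)) :=
    IsArtinianRing.of_finite (R ⧸ IsLocalRing.maximalIdeal R) _
  have hqsurj : Function.Surjective (Ideal.quotientMap
      (((IsLocalRing.maximalIdeal R).map (algebraMap R S)).map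
        (algebraMap S (Localization.AtPrime M.asIdeal)))
      (algebraMap S (Localization.AtPrime M.asIdeal)) Ideal.le_comap_map) :=
    Ideal.quotientMap_surjective hsurj
  have hartL : IsArtinianRing ((Localization.AtPrime M.asIdeal) ⧸
      (((IsLocalRing.maximalIdeal R).map (algebraMap R S)).map
        (algebraMap S (Localization.AtPrime M.asIdeal)))) :=
    hqsurj.isArtinianRing
  obtain ⟨N, hN⟩ := IsArtinianRing.isNilpotent_jacobson_bot
    (R := (Localization.AtPrime M.asIdeal) ⧸
      (((IsLocalRing.maximalIdeal R).map (algebraMap R S)).map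
        (algebraMap S (Localization.AtPrime M.asIdeal))))
  have hmapjac : (IsLocalRing.maximalIdeal (Localization.AtPrime M.asIdeal)).map
      (Ideal.Quotient.mk (((IsLocalRing.maximalIdeal R).map (algebraMap R S)).map
        (algebraMap S (Localization.AtPrime M.asIdeal)))) ≤ Ideal.jacobson ⊥ := by
    rw [Ideal.map_le_iff_le_comap]
    intro x hx
    rw [Ideal.mem_comap, Ideal.mem_jacobson_bot]
    intro y
    obtain ⟨y', rfl⟩ := Ideal.Quotient.mk_surjective y
    rw [← map_mul, ← map_one (Ideal.Quotient.mk _), ← map_add]
    apply IsUnit.map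
    have h2 : x * y' ∈ IsLocalRing.maximalIdeal (Localization.AtPrime M.asIdeal) :=
      Ideal.mul_mem_right _ _ hx
    by_contra hnu
    have h3 : x * y' + 1 ∈ IsLocalRing.maximalIdeal (Localization.AtPrime M.asIdeal) :=
      (IsLocalRing.mem_maximalIdeal _).mpr hnu
    have h4 : (1 : Localization.AtPrime M.asIdeal) ∈
        IsLocalRing.maximalIdeal (Localization.AtPrime M.asIdeal) := by
      have := Ideal.sub_mem _ h3 h2
      simp at this
    exact (Ideal.ne_top_iff_one _).mp (IsLocalRing.maximalIdeal.isMaximal _).ne_top h4
  have hpow : IsLocalRing.maximalIdeal (Localization.AtPrime M.asIdeal) ^ N ≤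
      ((IsLocalRing.maximalIdeal R).map (algebraMap R S)).map
        (algebraMap S (Localization.AtPrime M.asIdeal)) := by
    have h5 : ((IsLocalRing.maximalIdeal (Localization.AtPrime M.asIdeal)) ^ N).map
        (Ideal.Quotient.mk (((IsLocalRing.maximalIdeal R).map (algebraMap R S)).map
          (algebraMap S (Localization.AtPrime M.asIdeal)))) = ⊥ := by
      rw [Ideal.map_pow]
      apply le_bot_iff.mp
      calc _ ≤ (Ideal.jacobson ⊥) ^ N := Ideal.pow_right_mono hmapjac N
        _ = ⊥ := hN
    intro x hx
    rw [← Ideal.Quotient.eq_zero_iff_mem]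
    have : Ideal.Quotient.mk _ x ∈ ((IsLocalRing.maximalIdeal (Localization.AtPrime M.asIdeal)) ^ N).map
        (Ideal.Quotient.mk (((IsLocalRing.maximalIdeal R).map (algebraMap R S)).map
          (algebraMap S (Localization.AtPrime M.asIdeal)))) := Ideal.mem_map_of_mem _ hx
    rw [h5] at this
    exact this
  exact Groth.Agent.H44.isAdicComplete_of_pow_le _ _ hle N hpow

end Groth.Agent.S9405
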