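import Groth.Statements.S10621
import Groth.Agent.H53.FormalCharts

set_option autoImplicit false
universe u
open CategoryTheory CategoryTheory.Limits AlgebraicGeometry
open AlgSp

namespace Groth.Agent.S10621

/-- For a morphism f : X ⟶ Y of algebraic spaces over S, these conditions are equivalent: f is formally
unramified (lifting along square-zero thickenings of affine schemes); for every scheme U with a
representable etale U ⟶ X, every scheme V with a representable etale V ⟶ Y and every compatible U ⟶
V, the morphism of schemes U ⟶ V is formally unramified; and this holds as soon as it holds for one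
such diagram in which both charts are moreover surjective. Formal unramifiedness of a morphism of
schemes is Mathlib's FormallyUnramified (formally unramified ring maps on affine opens, no
finite-type condition), which agrees with the lifting definition used here. -/
theorem result {S : Scheme.{u}} {X Y : AlgSp.Space S} (f : X ⟶ Y) :
    (AlgSp.IsFormallyUnramifiedMor f.hom ↔ AlgSp.LocP @FormallyUnramified f.hom) ∧
    (∀ (U V : Over S) (a : (AlgSp.yon S).obj U ⟶ X.obj) (b : (AlgSp.yon S).obj V ⟶ Y.obj) (h : U ⟶ V),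
      AlgSp.RepWith @Etale a → AlgSp.RepWith @Surjective a → AlgSp.RepWith @Etale b → AlgSp.RepWith @Surjective b →
      a ≫ f.hom = (AlgSp.yon S).map h ≫ b → FormallyUnramified h.left → AlgSp.IsFormallyUnramifiedMor f.hom) := by
  refine ⟨⟨Groth.Agent.H53.locP_formallyUnramified f.hom, fun hloc => ?_⟩,
    fun U V a b h ha ha' hb _ hcomm hh =>
      Groth.Agent.H53.isFormallyUnramifiedMor_of_chart f.hom a b h ha ha' hb hcomm hh⟩
  obtain ⟨U₀, a₀, ha₀, ha₀'⟩ := X.property.atlas
  obtain ⟨V, b, hb, hb'⟩ := Y.property.atlas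
  have P := hb.rep.isPullback (a₀ ≫ f.hom)
  obtain ⟨h, hh⟩ := (AlgSp.yon S).map_surjective (hb.rep.fst (a₀ ≫ f.hom))
  have hq1 : Etale (hb.rep.snd (a₀ ≫ f.hom)).left := hb.property_snd _
  have hq2 : Surjective (hb.rep.snd (a₀ ≫ f.hom)).left := hb'.property _ _ _ P
  have ha : AlgSp.RepWith @Etale ((AlgSp.yon S).map (hb.rep.snd (a₀ ≫ f.hom)) ≫ a₀) :=
    Groth.Agent.H53.repWith_etale_map_comp _ hq1 a₀ ha₀
  have ha' : AlgSp.RepWith @Surjective ((AlgSp.yon S).map (hb.rep.snd (a₀ ≫ f.hom)) ≫ a₀) :=
    (AlgSp.RepWith @Surjective).comp_mem _ _ ((AlgSp.repWith_yon_map_iff _ _).2 hq2) ha₀'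
  have hcomm : ((AlgSp.yon S).map (hb.rep.snd (a₀ ≫ f.hom)) ≫ a₀) ≫ f.hom =
      (AlgSp.yon S).map h ≫ b := by
    rw [hh, Category.assoc]
    exact P.w.symm
  exact Groth.Agent.H53.isFormallyUnramifiedMor_of_chart f.hom _ b h ha ha' hb hcomm
    (hloc _ b h ha hb hcomm)

end Groth.Agent.S10621
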