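import Groth.Statements.S10260
import Groth.Agent.H53.ZMT.LqfSep2

set_option autoImplicit false
universe u
open CategoryTheory CategoryTheory.Limits AlgebraicGeometry
open AlgSp

namespace Groth.Agent.S10260

/-- A locally quasi-finite separated morphism of algebraic spaces is representable by schemes. -/
theorem result {S : Scheme.{u}} {X Y : AlgSp.Space S} (f : X ⟶ Y)
    (hqf : AlgSp.LocP (@LocallyQuasiFinite ⊓ @LocallyOfFiniteType) f.hom) (hsep : AlgSp.IsSeparatedMor f.hom) :
    AlgSp.Representable f.hom := by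
  intro a g
  have sq : IsPullback (pullback.fst f.hom g) (pullback.snd f.hom g) f.hom g :=
    IsPullback.of_hasPullback _ _
  have hP : AlgSp.IsAlgSpace (pullback f.hom g) :=
    Groth.Agent.H49.isAlgSpace_of_isPullback sq Y.property.diag X.property
      (AlgSp.IsAlgSpace.yon_obj a)
  have hsep' : AlgSp.IsSeparatedMor (pullback.snd f.hom g) :=
    Groth.Agent.H53.ZMT.isSeparatedMor_of_isPullback sq hsep
  have hqf' : AlgSp.LocP (@LocallyQuasiFinite ⊓ @LocallyOfFiniteType) (pullback.snd f.hom g) :=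
    Groth.Agent.H53.ZMT.locP_lqf_of_isPullback X.property Y.property (AlgSp.IsAlgSpace.yon_obj a)
      sq hqf
  obtain ⟨G, ⟨e⟩⟩ := Groth.Agent.H53.ZMT.exists_iso_yon_of_lqf_separated hP
    (pullback.snd f.hom g) hsep' hqf'
  obtain ⟨s, hs⟩ := (AlgSp.yon S).map_surjective (e.hom ≫ pullback.snd f.hom g)
  refine ⟨G, s, e.hom ≫ pullback.fst f.hom g, ?_⟩
  rw [hs]
  exact IsPullback.of_iso sq e.symm (Iso.refl _) (Iso.refl _) (Iso.refl _) (by simp) (by simp)
    (by simp) (by simp)

end Groth.Agent.S10260
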