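import Groth.Statements.S10613
import Groth.Agent.H53.ZMT.MonoUnram
import Groth.Agent.S10260

set_option autoImplicit false
universe u
open CategoryTheory CategoryTheory.Limits AlgebraicGeometry
open AlgSp

namespace Groth.Agent.S10613

/-- For a morphism f : X ⟶ Y of algebraic spaces over S, these four conditions on f are equivalent: (a)
unramified plus monomorphism; (b) unramified plus universally injective; (c) a monomorphism that is
locally of finite type; (d) universally injective, locally of finite type and formally unramified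
(lifting sense). In that case f is representable by schemes, separated and locally quasi-finite.
(Unramified is the etale-local condition locally of finite type and formally unramified on charts;
monomorphisms are taken in fppf sheaves.) -/
theorem result {S : Scheme.{u}} {X Y : AlgSp.Space S} (f : X ⟶ Y) :
    ((AlgSp.LocP (@LocallyOfFiniteType ⊓ @FormallyUnramified) f.hom ∧ Mono f.hom) ↔
      (AlgSp.LocP (@LocallyOfFiniteType ⊓ @FormallyUnramified) f.hom ∧ AlgSp.IsUnivInjectiveMor f.hom)) ∧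
    ((AlgSp.LocP (@LocallyOfFiniteType ⊓ @FormallyUnramified) f.hom ∧ Mono f.hom) ↔
      (AlgSp.LocP @LocallyOfFiniteType f.hom ∧ Mono f.hom)) ∧
    ((AlgSp.LocP (@LocallyOfFiniteType ⊓ @FormallyUnramified) f.hom ∧ Mono f.hom) ↔
      (AlgSp.IsUnivInjectiveMor f.hom ∧ AlgSp.LocP @LocallyOfFiniteType f.hom ∧ AlgSp.IsFormallyUnramifiedMor f.hom)) ∧
    (AlgSp.LocP @LocallyOfFiniteType f.hom ∧ Mono f.hom →
      AlgSp.Representable f.hom ∧ AlgSp.IsSeparatedMor f.hom ∧
        AlgSp.LocP (@LocallyQuasiFinite ⊓ @LocallyOfFiniteType) f.hom) := by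
  have hsplit : AlgSp.LocP (@LocallyOfFiniteType ⊓ @FormallyUnramified) f.hom ↔
      (AlgSp.LocP @LocallyOfFiniteType f.hom ∧ AlgSp.LocP @FormallyUnramified f.hom) :=
    ⟨fun h => ⟨fun U V a b k ha hb w => (h a b k ha hb w).1,
      fun U V a b k ha hb w => (h a b k ha hb w).2⟩,
      fun h U V a b k ha hb w => ⟨h.1 a b k ha hb w, h.2 a b k ha hb w⟩⟩
  have hfu := (Groth.Agent.S10621.result f).1
  have B : Mono f.hom → AlgSp.IsUnivInjectiveMor f.hom := fun hm =>
    Groth.Agent.H53.ZMT.isUnivInjectiveMor_of_mono X.property f.hom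
  have A : AlgSp.LocP (@LocallyOfFiniteType ⊓ @FormallyUnramified) f.hom →
      AlgSp.IsUnivInjectiveMor f.hom → Mono f.hom :=
    Groth.Agent.H53.ZMT.mono_of_unramified_of_isUnivInjectiveMor f
  have C : AlgSp.LocP @LocallyOfFiniteType f.hom → Mono f.hom →
      AlgSp.LocP (@LocallyOfFiniteType ⊓ @FormallyUnramified) f.hom := fun h hm =>
    Groth.Agent.H53.ZMT.unramified_of_mono_of_lft f h
  refine ⟨⟨fun h => ⟨h.1, B h.2⟩, fun h => ⟨h.1, A h.1 h.2⟩⟩,
    ⟨fun h => ⟨(hsplit.1 h.1).1, h.2⟩, fun h => ⟨C h.1 h.2, h.2⟩⟩,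
    ⟨fun h => ⟨B h.2, (hsplit.1 h.1).1, hfu.2 (hsplit.1 h.1).2⟩,
      fun h => ⟨hsplit.2 ⟨h.2.1, hfu.1 h.2.2⟩, A (hsplit.2 ⟨h.2.1, hfu.1 h.2.2⟩) h.1⟩⟩, ?_⟩
  rintro ⟨hlft, hm⟩
  have hsep : AlgSp.IsSeparatedMor f.hom := Groth.Agent.H53.ZMT.isSeparatedMor_of_mono f.hom
  have hqf : AlgSp.LocP (@LocallyQuasiFinite ⊓ @LocallyOfFiniteType) f.hom :=
    Groth.Agent.H53.ZMT.locP_lqf_of_unramified f.hom (C hlft hm)
  exact ⟨Groth.Agent.S10260.result f hqf hsep, hsep, hqf⟩

end Groth.Agent.S10613
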