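import Groth.Statements.S10614
import Groth.Agent.S10613
import Groth.Agent.S9948
import Groth.Agent.H49.AlgSpSepDescent
import Groth.Agent.H50.SchImage
import Groth.Agent.H50.Charts

set_option autoImplicit false
universe u
open CategoryTheory CategoryTheory.Limits AlgebraicGeometry
open AlgSp

namespace Groth.Agent.S10614

/-- For a morphism f : X ⟶ Y of algebraic spaces over S, being a closed immersion (representable by
closed immersions) is equivalent to each of: (a) universally closed plus unramified plus
monomorphism; (b) universally closed plus unramified plus universally injective; (c) a universally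
closed monomorphism that is locally of finite type; (d) universally closed, universally injective,
locally of finite type and formally unramified (lifting sense). (Unramified is the etale-local
condition locally of finite type and formally unramified on charts; monomorphisms are taken in fppf
sheaves.) -/
theorem result {S : Scheme.{u}} {X Y : AlgSp.Space S} (f : X ⟶ Y) :
    (AlgSp.RepWith @IsClosedImmersion f.hom ↔
      (AlgSp.IsUnivClosedMor f.hom ∧ AlgSp.LocP (@LocallyOfFiniteType ⊓ @FormallyUnramified) f.hom ∧ Mono f.hom)) ∧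
    (AlgSp.RepWith @IsClosedImmersion f.hom ↔
      (AlgSp.IsUnivClosedMor f.hom ∧ AlgSp.LocP (@LocallyOfFiniteType ⊓ @FormallyUnramified) f.hom ∧ AlgSp.IsUnivInjectiveMor f.hom)) ∧
    (AlgSp.RepWith @IsClosedImmersion f.hom ↔
      (AlgSp.IsUnivClosedMor f.hom ∧ AlgSp.LocP @LocallyOfFiniteType f.hom ∧ Mono f.hom)) ∧
    (AlgSp.RepWith @IsClosedImmersion f.hom ↔
      (AlgSp.IsUnivClosedMor f.hom ∧ AlgSp.IsUnivInjectiveMor f.hom ∧ AlgSp.LocP @LocallyOfFiniteType f.hom ∧
        AlgSp.IsFormallyUnramifiedMor f.hom)) := by
  obtain ⟨e1, e2, e3, e4⟩ := Groth.Agent.S10613.result f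
  have key : AlgSp.RepWith @IsClosedImmersion f.hom ↔
      (AlgSp.IsUnivClosedMor f.hom ∧ AlgSp.LocP @LocallyOfFiniteType f.hom ∧ Mono f.hom) := by
    constructor
    · intro h
      refine ⟨Groth.Agent.H49.isUnivClosedMor_of_repWith (Groth.Agent.H49.repWith_of_le
          (fun _ _ k hk => by
            have : IsClosedImmersion k := hk
            exact (inferInstance : UniversallyClosed k)) h),
        Groth.Agent.H50.locP_of_repWith @LocallyOfFiniteType (fun _ _ k hk => by
            have : Etale k := hk
            exact (inferInstance : LocallyOfFiniteType k)) f.hom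
          (Groth.Agent.H49.repWith_of_le (fun _ _ k hk => by
            have : IsClosedImmersion k := hk
            exact (inferInstance : LocallyOfFiniteType k)) h),
        Groth.Agent.H49.mono_of_repWith_mono Groth.Agent.H50.isClosedImmersion_le_mono f.hom h⟩
    · rintro ⟨huc, hlft, hm⟩
      obtain ⟨hrep, -, -⟩ := e4 ⟨hlft, hm⟩
      have h1 : AlgSp.RepWith @UniversallyClosed f.hom :=
        Groth.Agent.H49.repWith_universallyClosed_of_isUnivClosedMor hrep huc
      have h2 : AlgSp.RepWith @LocallyOfFiniteType f.hom :=
        (Groth.Agent.S9948.result @LocallyOfFiniteType (Or.inl rfl) f hrep).1 hlft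
      have h3 : AlgSp.RepWith (MorphismProperty.monomorphisms Scheme.{u}) f.hom := by
        refine ⟨hrep, fun T V g fst snd sq => ?_⟩
        have hm1 : Mono ((AlgSp.yon S).map snd) :=
          MorphismProperty.of_isPullback (P := MorphismProperty.monomorphisms _) sq
            (MorphismProperty.monomorphisms.infer_property f.hom)
        have hm2 : Mono snd := (AlgSp.yon S).mono_of_mono_map hm1
        exact (inferInstance : Mono snd.left)
      exact Groth.Agent.H49.repWith_isClosedImmersion_of_univClosed_lft_mono h1 h2 h3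
  refine ⟨?_, ?_, key, ?_⟩
  · rw [key]
    exact ⟨fun h => ⟨h.1, e2.2 h.2⟩, fun h => ⟨h.1, e2.1 h.2⟩⟩
  · rw [key]
    exact ⟨fun h => ⟨h.1, e1.1 (e2.2 h.2)⟩, fun h => ⟨h.1, e2.1 (e1.2 h.2)⟩⟩
  · rw [key]
    exact ⟨fun h => ⟨h.1, e3.1 (e2.2 h.2)⟩, fun h => ⟨h.1, e2.1 (e3.2 h.2)⟩⟩

end Groth.Agent.S10614
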