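import Groth.Statements.S12209
import Mathlib

set_option autoImplicit false
universe u
open CAlg

namespace Groth.Agent.S12209

/-- Let (R_i) be a system of commutative rings over a nonempty directed preorder, with colimit R, and
let M be an R-module which is flat as an R_i-module for every i (the R_i-module structure being
restriction of scalars along R_i → R). Then M is flat as an R-module. -/
theorem result {ι : Type u} [Preorder ι] [Nonempty ι] [IsDirectedOrder ι]
    (G : ι → Type u) [∀ i, CommRing (G i)] (f : ∀ i j, i ≤ j → G i →+* G j)
    [DirectedSystem G fun i j h => f i j h]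
    (M : Type u) [AddCommGroup M] [Module (Ring.DirectLimit G fun i j h => f i j h) M]
    (hflat : ∀ i, letI : Module (G i) M := Module.compHom M (Ring.DirectLimit.of G (fun i j h => f i j h) i);
      Module.Flat (G i) M) :
    Module.Flat (Ring.DirectLimit G fun i j h => f i j h) M := by
  classical
  apply Module.Flat.of_forall_isTrivialRelation
  intro l r x h
  have hex : ∀ j : Fin l, ∃ (i : ι) (g : G i),
      Ring.DirectLimit.of G (fun i j h => f i j h) i g = r j :=
    fun j => Ring.DirectLimit.exists_of (r j)
  choose idx g hg using hex
  obtain ⟨i, hi⟩ := Finset.exists_le (Finset.univ.image idx)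
  have hi' : ∀ j, idx j ≤ i := fun j => hi _ (Finset.mem_image_of_mem _ (Finset.mem_univ j))
  let g' : Fin l → G i := fun j => f (idx j) i (hi' j) (g j)
  have hg' : ∀ j, Ring.DirectLimit.of G (fun i j h => f i j h) i (g' j) = r j := by
    intro j
    rw [← hg j]
    exact Ring.DirectLimit.of_f (hi' j) (g j)
  letI : Module (G i) M := Module.compHom M (Ring.DirectLimit.of G (fun i j h => f i j h) i)
  have hflat_i : Module.Flat (G i) M := hflat i
  have hsmul : ∀ (c : G i) (m : M),
      c • m = Ring.DirectLimit.of G (fun i j h => f i j h) i c • m := fun _ _ => rfl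
  have h' : ∑ j, g' j • x j = 0 := by
    simp only [hsmul, hg']
    exact h
  obtain ⟨k, a, y, hxy, ha⟩ := Module.Flat.isTrivialRelation_of_sum_smul_eq_zero h'
  refine ⟨k, fun j c => Ring.DirectLimit.of G (fun i j h => f i j h) i (a j c), y, ?_, ?_⟩
  · intro j
    rw [hxy j]
    rfl
  · intro c
    simp only [← hg', ← map_mul, ← map_sum, ha c, map_zero]

end Groth.Agent.S12209
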