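import Groth.Statements.S13576

set_option autoImplicit false
universe u
open CategoryTheory CategoryTheory.Limits MonoidalCategory
attribute [local instance] HasDerivedCategory.standard
open DTen

namespace Groth.Agent.S13576

/-- `braidCx` is an involution. -/
lemma braidCx_braidCx {A : Type u} [CommRing A] (K L : DRing.Cx A) :
    (braidCx K L).hom ≫ (braidCx L K).hom = 𝟙 _ := by
  refine HomologicalComplex.hom_ext _ _ (fun n => HomologicalComplex.mapBifunctor.hom_ext (fun p q h => ?_))
  rw [HomologicalComplex.comp_f]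
  erw [ι_braidCx_hom_assoc K L p q n h]
  simp only [Linear.units_smul_comp, Category.assoc]
  erw [ι_braidCx_hom L K q p n (by dsimp at h; omega)]
  simp only [Linear.comp_units_smul, smul_smul]
  rw [mul_comm q p, ← Int.negOnePow_add, Int.negOnePow_even _ ⟨p * q, rfl⟩, one_smul]
  erw [SymmetricCategory.symmetry_assoc]
  simp
  rfl

/-- The composite `symm ∘ symm` as an endo-transformation of `LTen₂`. -/
noncomputable def symm2 (A : Type u) [CommRing A] [DTen.HasLTen A] : LTen₂ A ⟶ LTen₂ A where
  app X := (DTen.symm A).app (X.2, X.1) ≫ (DTen.symm A).app X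
  naturality := by
    rintro ⟨K, L⟩ ⟨K', L'⟩ ⟨f, g⟩
    have h1 := (DTen.symm A).naturality (X := (L, K)) (Y := (L', K')) (⟨g, f⟩ : (L, K) ⟶ (L', K'))
    have h2 := (DTen.symm A).naturality (X := (K, L)) (Y := (K', L')) (⟨f, g⟩ : (K, L) ⟶ (K', L'))
    dsimp at h1 h2 ⊢
    rw [reassoc_of% h1, h2, Category.assoc]

lemma symm2_eq (A : Type u) [CommRing A] [DTen.HasLTen A] : symm2 A = 𝟙 _ := by
  apply (LTen₂ A).leftDerived_ext (ε A) (qis₂ A)
  ext ⟨K, L⟩
  dsimp [symm2]
  rw [Category.assoc]
  erw [symm_fac A K L, reassoc_of% (symm_fac A L K)]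
  rw [← Functor.map_comp, braidCx_braidCx]
  erw [CategoryTheory.Functor.map_id, Category.comp_id, Category.id_comp]

/-- For a commutative ring `A` and objects `K`, `L` of `D(A)`, the canonical symmetry morphism `L ⊗^L K
⟶ K ⊗^L L` of the derived tensor product, the one compatible with the swap of complexes carrying the
sign `(-1)^{pq}` on `K^p ⊗ L^q`, is an isomorphism. -/
theorem result (A : Type u) [CommRing A] [DTen.HasLTen A] (K L : Dual.D A) :
    IsIso ((DTen.symm A).app (K, L)) := by
  have h1 : (DTen.symm A).app (L, K) ≫ (DTen.symm A).app (K, L) = 𝟙 _ :=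
    congrArg (fun t => t.app (K, L)) (symm2_eq A)
  have h2 : (DTen.symm A).app (K, L) ≫ (DTen.symm A).app (L, K) = 𝟙 _ :=
    congrArg (fun t => t.app (L, K)) (symm2_eq A)
  exact ⟨⟨(DTen.symm A).app (L, K), h2, h1⟩⟩

end Groth.Agent.S13576
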