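import Groth.Statements.S6937
import Groth.Agent.H28.PCohRing

set_option autoImplicit false
universe u
open CategoryTheory CategoryTheory.Limits
attribute [local instance] HasDerivedCategory.standard
open DRing

namespace Groth.Agent.S6937

/-- Let R be a commutative ring, m an integer and K, L objects of D(R). If K ⊕ L is m-pseudo-coherent
then K and L are m-pseudo-coherent; if K ⊕ L is pseudo-coherent (isomorphic in D(R) to a bounded
above complex of finite free modules) then so are K and L. -/
theorem result (R : Type u) [CommRing R] (m : ℤ) (K L : Dual.D R)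
    [HasBinaryBiproduct K L] :
    (DRing.IsPseudoCoherent R m (K ⊞ L) → DRing.IsPseudoCoherent R m K ∧ DRing.IsPseudoCoherent R m L) ∧
      (DRing.IsPseudoCoherent' R (K ⊞ L) → DRing.IsPseudoCoherent' R K ∧ DRing.IsPseudoCoherent' R L) := by
  have hql := Groth.Agent.H28.PCohRing.hql_finFree R
  have hqs := Groth.Agent.H28.PCohRing.hqs_finFree R
  have hsum := Groth.Agent.H28.PCohRing.finFree_prod R
  have : HasBinaryBiproduct L K := HasBinaryBiproducts.has_binary_biproduct L K
  have key : ∀ n : ℤ, Groth.Agent.H28.PCohDer.IsNPC (Groth.Agent.H28.PCohRing.finFree R) n (K ⊞ L) →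
      Groth.Agent.H28.PCohDer.IsNPC (Groth.Agent.H28.PCohRing.finFree R) n K ∧
        Groth.Agent.H28.PCohDer.IsNPC (Groth.Agent.H28.PCohRing.finFree R) n L := by
    intro n h
    refine ⟨Groth.Agent.H28.PCohSum.isNPC_left_of_biprod _ hql hsum hqs K L h, ?_⟩
    exact Groth.Agent.H28.PCohSum.isNPC_left_of_biprod _ hql hsum hqs L K
      (Groth.Agent.H28.PCohDer.IsNPC.of_iso _ h (biprod.braiding K L))
  constructor
  · simp only [Groth.Agent.H28.PCohRing.isPseudoCoherent_iff_isNPC]
    exact key m
  · simp only [Groth.Agent.H28.PCohRing.isPseudoCoherent'_iff]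
    intro h
    exact ⟨fun n => (key n (h n)).1, fun n => (key n (h n)).2⟩

end Groth.Agent.S6937
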