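import Groth.Statements.S2938
import Groth.Agent.H15.DepthFlat

set_option autoImplicit false
universe u
open scoped TensorProduct
open LocCoh

namespace Groth.Agent.S2938

/-- Suppose A and B are Noetherian rings with a ring map A → B, I is an ideal of A and M is a finitely
generated A-module. When B is A-flat, depth_{IB}(B ⊗_A M) ≥ depth_I(M); when B is faithfully flat
over A, the two depths are equal. -/
theorem result (A B : Type u) [CommRing A] [CommRing B] [Algebra A B] [IsNoetherianRing A] [IsNoetherianRing B] (I : Ideal A) (M : Type u) [AddCommGroup M] [Module A M] [Module.Finite A M] : (Module.Flat A B → LocCoh.idealDepth I M ≤ LocCoh.idealDepth (I.map (algebraMap A B)) (B ⊗[A] M)) ∧ (Module.FaithfullyFlat A B → LocCoh.idealDepth (I.map (algebraMap A B)) (B ⊗[A] M) = LocCoh.idealDepth I M) := by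
  have part1 : Module.Flat A B →
      LocCoh.idealDepth I M ≤ LocCoh.idealDepth (I.map (algebraMap A B)) (B ⊗[A] M) := by
    intro hflat
    by_cases hIM : I • (⊤ : Submodule A M) = ⊤
    · rw [Groth.Agent.H15.idealDepth_eq_top_of_smul_top_eq _ _
        (Groth.Agent.H15.map_smul_top_eq_top_of_smul_top_eq_top (B := B) I M hIM)]
      exact le_top
    · apply Groth.Agent.H15.idealDepth_le_of_forall I M hIM
      intro rs hrs hmem
      have h1 : RingTheory.Sequence.IsWeaklyRegular (B ⊗[A] M) (rs.map (algebraMap A B)) :=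
        hrs.of_flat_of_isBaseChange (TensorProduct.isBaseChange A M B)
      have h2 := Groth.Agent.H15.le_idealDepth (I.map (algebraMap A B)) (B ⊗[A] M) h1 (by
        intro r hr
        obtain ⟨a, ha, rfl⟩ := List.mem_map.mp hr
        exact Ideal.mem_map_of_mem _ (hmem a ha))
      simpa using h2
  refine ⟨part1, fun hff => ?_⟩
  have hflat : Module.Flat A B := inferInstance
  refine le_antisymm ?_ (part1 hflat)
  by_cases hIM : I • (⊤ : Submodule A M) = ⊤
  · rw [Groth.Agent.H15.idealDepth_eq_top_of_smul_top_eq I M hIM]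
    exact le_top
  · have hneB : I.map (algebraMap A B) • (⊤ : Submodule B (B ⊗[A] M)) ≠ ⊤ :=
      ((TensorProduct.isBaseChange A M B).map_smul_top_ne_top_iff_of_faithfullyFlat A M I).mpr hIM
    apply Groth.Agent.H15.idealDepth_le_of_forall _ _ hneB
    intro rs' hrs' hmem'
    have hreg' := Groth.Agent.H15.isRegular_of_isWeaklyRegular_of_mem _ _ hneB hrs' hmem'
    obtain ⟨rs, hlen, hmem, hreg⟩ := Groth.Agent.H15.exists_isRegular_of_faithfullyFlat (B := B) I
      rs'.length M hIM ⟨rs', rfl, hmem', hreg'⟩
    rw [← hlen]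
    exact Groth.Agent.H15.le_idealDepth I M hreg.toIsWeaklyRegular hmem

end Groth.Agent.S2938
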