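import Groth.Statements.S5766
import Groth.Agent.H54.Dim
import Mathlib.RingTheory.KrullDimension.Module
import Mathlib.LinearAlgebra.Matrix.Charpoly.LinearMap

set_option autoImplicit false
universe u
open EGA41

namespace Groth.Agent.S5766


/-- Let A be a Noetherian ring, ρ : A → B a ring homomorphism and M a B-module which is finitely
generated as an A-module via ρ. Then the dimension of M as an A-module equals its dimension as a
B-module. -/
theorem result (A B : Type u) [CommRing A] [CommRing B] [IsNoetherianRing A]
    [Algebra A B] (M : Type u) [AddCommGroup M] [Module B M] [Module A M] [IsScalarTower A B M]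
    [Module.Finite A M] : Module.supportDim A M = Module.supportDim B M := by
  have hfin : Module.Finite B M := Module.Finite.of_restrictScalars_finite A B M
  rw [Module.supportDim_eq_ringKrullDim_quotient_annihilator,
    Module.supportDim_eq_ringKrullDim_quotient_annihilator]
  have hle : Module.annihilator A M ≤ (Module.annihilator B M).comap (algebraMap A B) := by
    intro a ha
    rw [Ideal.mem_comap, Module.mem_annihilator]
    intro m
    rw [algebraMap_smul]
    exact Module.mem_annihilator.mp ha m
  have hge : (Module.annihilator B M).comap (algebraMap A B) ≤ Module.annihilator A M := by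
    intro a ha
    rw [Ideal.mem_comap, Module.mem_annihilator] at ha
    rw [Module.mem_annihilator]
    intro m
    rw [← algebraMap_smul B a m]
    exact ha m
  apply Groth.Agent.H54.ringKrullDim_eq_of_ringHom_isIntegral_of_injective
    (Ideal.quotientMap (Module.annihilator B M) (algebraMap A B) hle)
  · intro y
    obtain ⟨b, rfl⟩ := Ideal.Quotient.mk_surjective y
    let ψ : B →ₐ[A] Module.End A M := Algebra.lsmul A A M
    obtain ⟨p, hp, hpφ⟩ := LinearMap.exists_monic_and_aeval_eq_zero A (ψ b)
    refine ⟨p.map (Ideal.Quotient.mk (Module.annihilator A M)), hp.map _, ?_⟩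
    rw [Polynomial.eval₂_map]
    have hcomp : (Ideal.quotientMap (Module.annihilator B M) (algebraMap A B) hle).comp
        (Ideal.Quotient.mk (Module.annihilator A M)) =
        (Ideal.Quotient.mk (Module.annihilator B M)).comp (algebraMap A B) := by
      ext a
      simp
    rw [hcomp, ← Polynomial.hom_eval₂, Ideal.Quotient.eq_zero_iff_mem, Module.mem_annihilator]
    intro m
    rw [Polynomial.aeval_algHom_apply] at hpφ
    have h2 : (ψ (Polynomial.aeval b p)) m = 0 := by rw [hpφ]; rfl
    exact h2
  · exact Ideal.quotientMap_injective' hge

end Groth.Agent.S5766
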