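import Groth.Statements.S5777
import Groth.Agent.H29.Tor1R

set_option autoImplicit false
universe u
open EGA41

namespace Groth.Agent.S5777

open Groth.Agent.H29 RingTheory.Sequence IsLocalRing

/-- Let φ : A → B be a local homomorphism of Noetherian local rings, M a finitely generated B-module and
(f_i)_{1 ≤ i ≤ n} an A-regular sequence of elements of the maximal ideal of A, generating the ideal
J. Then M is flat over A if and only if M/JM is flat over A/J and (f_i) is an M-regular sequence. -/
theorem result (A B : Type u) [CommRing A] [CommRing B]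
    [IsLocalRing A] [IsLocalRing B] [IsNoetherianRing A] [IsNoetherianRing B] [Algebra A B]
    [IsLocalHom (algebraMap A B)] (M : Type u) [AddCommGroup M] [Module B M] [Module A M]
    [IsScalarTower A B M] [Module.Finite B M] (fs : List A) (hfs : ∀ f ∈ fs, f ∈ IsLocalRing.maximalIdeal A)
    (hA : RingTheory.Sequence.IsWeaklyRegular A fs) :
    Module.Flat A M ↔
      Module.Flat (A ⧸ Ideal.ofList fs) (M ⧸ (Ideal.ofList fs • (⊤ : Submodule A M))) ∧
        RingTheory.Sequence.IsWeaklyRegular M fs := by
  let e : (TensorProduct A (A ⧸ Ideal.ofList fs) M) ≃ₗ[A ⧸ Ideal.ofList fs]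
      (M ⧸ (Ideal.ofList fs • (⊤ : Submodule A M))) :=
    (TensorProduct.quotTensorEquivQuotSMul M (Ideal.ofList fs)).extendScalarsOfSurjective
      Ideal.Quotient.mk_surjective
  constructor
  · intro hflat
    refine ⟨Module.Flat.of_linearEquiv e.symm, ⟨fun i h => ?_⟩⟩
    have h1 := hA.regular_mod_prev i h
    have h2 : IsSMulRegular (A ⧸ Ideal.ofList (fs.take i)) fs[i] :=
      ((Submodule.quotEquivOfEq (Ideal.ofList (fs.take i) • (⊤ : Submodule A A))
        (Ideal.ofList (fs.take i)) (by simp)).isSMulRegular_congr fs[i]).mp h1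
    have h3 := IsSMulRegular.rTensor M h2
    exact ((TensorProduct.quotTensorEquivQuotSMul M (Ideal.ofList (fs.take i))).isSMulRegular_congr
      fs[i]).mp h3
  · rintro ⟨hflat, hM⟩
    have hT := Tor1R.tor1Zero_take M fs hM fs.length le_rfl
    rw [List.take_length] at hT
    have hT' := (Groth.Agent.H2.tor1Zero_quotient_iff (Ideal.ofList fs)).mp hT
    have hI : (Ideal.ofList fs).map (algebraMap A B) ≤ Ideal.jacobson ⊥ := by
      rw [IsLocalRing.jacobson_eq_maximalIdeal ⊥ bot_ne_top]
      have h1 : Ideal.ofList fs ≤ maximalIdeal A := by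
        rw [Ideal.ofList, Ideal.span_le]
        exact fun f hf => hfs f hf
      exact (Ideal.map_mono h1).trans
        (((IsLocalRing.local_hom_TFAE (algebraMap A B)).out 0 2).mp ‹_›)
    have : Module.Flat (A ⧸ Ideal.ofList fs) (TensorProduct A (A ⧸ Ideal.ofList fs) M) :=
      Module.Flat.of_linearEquiv e
    exact Groth.Agent.H2.flat_of_rTensor_injective_of_flat_quotient (S := B) (Ideal.ofList fs) hI hT'

end Groth.Agent.S5777
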