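import Groth.Statements.S7128
import Groth.Agent.H36.FlatTwist
import Groth.Agent.H36.AbsFlat
import Mathlib.RingTheory.LocalRing.ResidueField.Ideal
import Mathlib.RingTheory.Spectrum.Prime.Basic

set_option autoImplicit false
universe u
open EtAlg

namespace Groth.Agent.S7128

open TensorProduct

/-- the product of all residue fields of `A` -/
abbrev PiRes (A : Type u) [CommRing A] : Type u :=
  ∀ p : PrimeSpectrum A, p.asIdeal.ResidueField

theorem algebraMap_piRes_injective (A : Type u) [CommRing A] [IsReduced A] :
    Function.Injective (algebraMap A (PiRes A)) := by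
  rw [injective_iff_map_eq_zero]
  intro a ha
  have hmem : a ∈ nilradical A := by
    rw [nilradical_eq_sInf, Ideal.mem_sInf]
    intro p hp
    have hp' : p.IsPrime := hp
    have := congrFun ha ⟨p, hp'⟩
    rw [Pi.algebraMap_apply] at this
    exact (Ideal.algebraMap_residueField_eq_zero (I := p)).mp this
  rw [nilradical_eq_zero, Ideal.zero_eq_bot, Ideal.mem_bot] at hmem
  exact hmem

/-- A weakly étale algebra over a reduced ring is itself reduced. -/
theorem result (A B : Type u) [CommRing A] [CommRing B] [Algebra A B] [IsReduced A]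
    [Algebra.WeaklyEtale A B] : IsReduced B := by
  have hinj : Function.Injective
      (Algebra.TensorProduct.includeRight : B →ₐ[A] (PiRes A) ⊗[A] B) :=
    Algebra.TensorProduct.includeRight_injective (algebraMap_piRes_injective A)
  have hvnrA : Groth.Agent.H36.IsVNR (PiRes A) :=
    Groth.Agent.H36.isVNR_pi_field (fun p : PrimeSpectrum A => p.asIdeal.ResidueField)
  have hvnrB : Groth.Agent.H36.IsVNR ((PiRes A) ⊗[A] B) := by
    apply Groth.Agent.H36.IsVNR.of_forall_flat_quotient
    intro a
    haveI : Module.Flat (PiRes A) ((PiRes A ⊗[A] B) ⧸ Ideal.span {a}) := hvnrA.flat _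
    exact Groth.Agent.H36.flat_of_flat_lmul' (PiRes A) (PiRes A ⊗[A] B) _
      (Algebra.WeaklyEtale.flat_lmul' (PiRes A) (PiRes A ⊗[A] B))
  haveI : IsReduced ((PiRes A) ⊗[A] B) := hvnrB.isReduced
  exact isReduced_of_injective
    (Algebra.TensorProduct.includeRight : B →ₐ[A] (PiRes A) ⊗[A] B) hinj

end Groth.Agent.S7128
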