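import Groth.Statements.S7127
import Groth.Agent.H36.FlatTwist

set_option autoImplicit false
universe u
open EtAlg

namespace Groth.Agent.S7127

open TensorProduct

/-- Let A be a ring and B → C an A-algebra homomorphism between weakly étale A-algebras. Then C is
weakly étale over B. -/
theorem result (A B C : Type u) [CommRing A] [CommRing B] [CommRing C]
    [Algebra A B] [Algebra A C] [Algebra B C] [IsScalarTower A B C] [Algebra.WeaklyEtale A B]
    [Algebra.WeaklyEtale A C] : Algebra.WeaklyEtale B C := by
  have hflat : Module.Flat B C :=
    Groth.Agent.H36.flat_of_flat_lmul' A B C (Algebra.WeaklyEtale.flat_lmul' A B)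
  refine ⟨hflat, ?_⟩
  have hcomp : ((Algebra.TensorProduct.lmul' B (S := C)).toRingHom).comp
      (Algebra.TensorProduct.mapOfCompatibleSMul B A C C C).toRingHom =
      (Algebra.TensorProduct.lmul' A (S := C)).toRingHom := by
    apply RingHom.ext
    intro x
    induction x using TensorProduct.induction_on with
    | zero => simp
    | add x y hx hy => rw [map_add, map_add, hx, hy]
    | tmul c d => rfl
  apply Groth.Agent.H36.ringHom_flat_of_comp_of_surjective
    (f := (Algebra.TensorProduct.mapOfCompatibleSMul B A C C C).toRingHom)
    (Algebra.TensorProduct.mapOfCompatibleSMul_surjective B A C C C)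
  rw [hcomp]
  exact Algebra.WeaklyEtale.flat_lmul' A C

end Groth.Agent.S7127
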