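import Groth.Statements.S4530
import Groth.Agent.H23.LeftInv

set_option autoImplicit false
universe u
open EGA41

namespace Groth.Agent.S4530

open Groth.Agent.H23.LeftInv in
/-- From left invertibility at a prime to left invertibility on a basic open neighbourhood. -/
theorem exists_powers {A : Type u} [CommRing A] {M N : Type u} [AddCommGroup M] [Module A M]
    [Module.Finite A M] [AddCommGroup N] [Module A N] [Module.Projective A N] (u : M →ₗ[A] N)
    (p : PrimeSpectrum A)
    (h : ∃ w : LocalizedModule p.asIdeal.primeCompl N →ₗ[A] LocalizedModule p.asIdeal.primeCompl M,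
          w ∘ₗ LocalizedModule.map p.asIdeal.primeCompl u = LinearMap.id) :
    ∃ f : A, f ∉ p.asIdeal ∧
      ∃ w : LocalizedModule (Submonoid.powers f) N →ₗ[A] LocalizedModule (Submonoid.powers f) M,
        w ∘ₗ LocalizedModule.map (Submonoid.powers f) u = LinearMap.id := by
  obtain ⟨ι, _, a, b, hab⟩ := exists_finite_free_factor u
  have h0 := (leftInv_lmap_iff_of_factor p.asIdeal.primeCompl u a b hab).mp h
  obtain ⟨f, hf, hw⟩ := exists_leftInv_lmap_powers p.asIdeal.primeCompl (a ∘ₗ u) h0
  exact ⟨f, hf, (leftInv_lmap_iff_of_factor (Submonoid.powers f) u a b hab).mpr hw⟩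

open Groth.Agent.H23.LeftInv in
/-- From left invertibility on a basic open to left invertibility at each of its points. -/
theorem of_powers {A : Type u} [CommRing A] {M N : Type u} [AddCommGroup M] [Module A M]
    [AddCommGroup N] [Module A N] (u : M →ₗ[A] N)
    (p : PrimeSpectrum A) (f : A) (hf : f ∉ p.asIdeal)
    (h : ∃ w : LocalizedModule (Submonoid.powers f) N →ₗ[A] LocalizedModule (Submonoid.powers f) M,
        w ∘ₗ LocalizedModule.map (Submonoid.powers f) u = LinearMap.id) :
    ∃ w : LocalizedModule p.asIdeal.primeCompl N →ₗ[A] LocalizedModule p.asIdeal.primeCompl M,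
          w ∘ₗ LocalizedModule.map p.asIdeal.primeCompl u = LinearMap.id := by
  have hle : Submonoid.powers f ≤ p.asIdeal.primeCompl := by
    rw [Submonoid.powers_le]
    exact hf
  exact leftInv_lmap_of_le hle u h

open TensorProduct in
/-- Let A be a ring, M an A-module of finite type, N a projective A-module, u : M → N a homomorphism.
For a prime ideal 𝔭 the following are equivalent: (a) u_𝔭 : M_𝔭 → N_𝔭 is left invertible; (b) u ⊗ 1
: M ⊗ k(𝔭) → N ⊗ k(𝔭) is injective; (d) there is f ∉ 𝔭 with u_f : M_f → N_f left invertible.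
Moreover the set of such 𝔭 is open in Spec A. (The published statement also has a determinant
criterion (c); this row omits it.) -/
theorem result {A : Type u} [CommRing A] {M N : Type u} [AddCommGroup M] [Module A M]
    [Module.Finite A M] [AddCommGroup N] [Module A N] [Module.Projective A N] (u : M →ₗ[A] N) :
    (∀ p : PrimeSpectrum A,
      [∃ w : LocalizedModule p.asIdeal.primeCompl N →ₗ[A] LocalizedModule p.asIdeal.primeCompl M,
          w ∘ₗ LocalizedModule.map p.asIdeal.primeCompl u = LinearMap.id,
       Function.Injective (u.lTensor p.asIdeal.ResidueField),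
       ∃ f : A, f ∉ p.asIdeal ∧
          ∃ w : LocalizedModule (Submonoid.powers f) N →ₗ[A] LocalizedModule (Submonoid.powers f) M,
            w ∘ₗ LocalizedModule.map (Submonoid.powers f) u = LinearMap.id].TFAE) ∧
    IsOpen {p : PrimeSpectrum A |
      ∃ w : LocalizedModule p.asIdeal.primeCompl N →ₗ[A] LocalizedModule p.asIdeal.primeCompl M,
        w ∘ₗ LocalizedModule.map p.asIdeal.primeCompl u = LinearMap.id} := by
  constructor
  · intro p
    obtain ⟨ι, _, a, b, hab⟩ := Groth.Agent.H23.LeftInv.exists_finite_free_factor u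
    tfae_have 1 ↔ 2 := by
      rw [Groth.Agent.H23.LeftInv.leftInv_lmap_iff_of_factor p.asIdeal.primeCompl u a b hab,
        Groth.Agent.H23.LeftInv.leftInv_lmap_prime_iff p.asIdeal (a ∘ₗ u), LinearMap.lTensor_comp]
      symm
      apply Groth.Agent.H23.LeftInv.injective_iff_of_factor
      rw [← LinearMap.lTensor_comp, ← LinearMap.lTensor_comp, hab]
    tfae_have 1 → 3 := exists_powers u p
    tfae_have 3 → 1 := by
      rintro ⟨f, hf, h⟩
      exact of_powers u p f hf h
    tfae_finish
  · rw [isOpen_iff_forall_mem_open]
    intro p hp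
    obtain ⟨f, hf, h⟩ := exists_powers u p hp
    refine ⟨PrimeSpectrum.basicOpen f, ?_, (PrimeSpectrum.basicOpen f).2, hf⟩
    intro q hq
    exact of_powers u q f hq h

end Groth.Agent.S4530
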