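import Groth.Statements.S17539
import Groth.Agent.H87.Dec2

set_option autoImplicit false
universe u v w
open W4c5adicflatcompl
open CAlg

namespace Groth.Agent.S17539

/-- membership of finitely supported functions in `J • ⊤`, pointwise -/
theorem finsupp_mem_smul_top_iff {A : Type*} [CommRing A] {Z : Type*} {M : Type*} [AddCommGroup M]
    [Module A M] (J : Ideal A) (c : Z →₀ M) :
    c ∈ (J • ⊤ : Submodule A (Z →₀ M)) ↔ ∀ z, c z ∈ (J • ⊤ : Submodule A M) := by
  classical
  constructor
  · intro hc z
    exact Groth.Agent.H87.map_mem_smul_top _ (Finsupp.lapply (R := A) (M := M) z) J hc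
  · intro hc
    rw [← Finsupp.sum_single c]
    refine Submodule.sum_mem _ fun z _ => ?_
    exact Groth.Agent.H87.map_mem_smul_top _ (Finsupp.lsingle (R := A) (M := M) z) J (hc z)

open Groth.Agent.H87 in
/-- For a commutative ring A, an ideal I, a set Z and an A-module M whose I-adic completion M^ is itself
I-adically complete, the canonical map from the I-adic completion of Z →₀ M to the functions Z → M^,
whose z-th coordinate is the completion of evaluation at z, is injective with image the I-adically
decaying functions Z → M^. (The source states bijectivity of the inverse map, from decaying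
functions to the limit of the finitely supported functions Z → M/I^n M, induced by the projections
M^ → M/I^n M; the two formulations are equivalent.) -/
theorem result {A : Type u} [CommRing A] (I : Ideal A) (Z : Type v)
    (M : Type w) [AddCommGroup M] [Module A M] [IsAdicComplete I (AdicCompletion I M)] :
    Function.Injective
        (LinearMap.pi fun z : Z =>
          (AdicCompletion.map I (Finsupp.lapply (M := M) (R := A) z)).restrictScalars A) ∧
      LinearMap.range
        (LinearMap.pi fun z : Z =>
          (AdicCompletion.map I (Finsupp.lapply (M := M) (R := A) z)).restrictScalars A) =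
        decaying I Z (AdicCompletion I M) := by
  classical
  set Φ : AdicCompletion I (Z →₀ M) →ₗ[A] (Z → AdicCompletion I M) :=
    LinearMap.pi fun z : Z =>
      (AdicCompletion.map I (Finsupp.lapply (M := M) (R := A) z)).restrictScalars A with hΦ
  have hΦmk : ∀ (a : AdicCompletion.AdicCauchySequence I (Z →₀ M)) (z : Z) (n : ℕ),
      (Φ (AdicCompletion.mk I _ a) z).val n = Submodule.Quotient.mk (a n z) := by
    intro a z n
    rfl
  refine ⟨?_, ?_⟩
  · rw [injective_iff_map_eq_zero]
    intro ξ hξ
    obtain ⟨a, rfl⟩ := AdicCompletion.mk_surjective I _ ξ
    apply AdicCompletion.ext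
    intro n
    show Submodule.Quotient.mk (a n) = 0
    rw [Submodule.Quotient.mk_eq_zero, finsupp_mem_smul_top_iff]
    intro z
    have := hΦmk a z n
    rw [hξ] at this
    rw [← Submodule.Quotient.mk_eq_zero]
    exact this.symm
  · apply le_antisymm
    · rintro _ ⟨ξ, rfl⟩
      obtain ⟨a, rfl⟩ := AdicCompletion.mk_surjective I _ ξ
      intro n
      refine ((a n).support.finite_toSet).subset ?_
      intro z hz
      by_contra hcon
      apply hz
      rw [Finset.mem_coe, Finsupp.notMem_support_iff] at hcon
      rw [← ker_eval_eq_of_complete, LinearMap.mem_ker, AdicCompletion.eval_apply, hΦmk, hcon]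
      simp
    · intro x hx
      -- sections
      let σ : ∀ n : ℕ, (M ⧸ (I ^ n • ⊤ : Submodule A M)) → M := fun n q =>
        if q = 0 then 0 else Quotient.out q
      have hσ : ∀ n q, Submodule.Quotient.mk (σ n q) = q := by
        intro n q
        by_cases hq : q = 0
        · simp [σ, hq]
        · simp only [σ, hq, if_false]
          exact Quotient.out_eq q
      have hσ0 : ∀ n, σ n 0 = 0 := fun n => by simp [σ]
      let a : ℕ → (Z →₀ M) := fun n =>
        Finsupp.onFinset (hx n).toFinset (fun z => σ n ((x z).val n)) (by
          intro z hz
          rw [Set.Finite.mem_toFinset]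
          intro hcon
          apply hz
          have : (x z).val n = 0 := by
            have := AdicCompletion.pow_smul_top_le_ker_eval I n hcon
            exact this
          rw [this, hσ0])
      have ha : ∀ n z, Submodule.Quotient.mk (p := (I ^ n • ⊤ : Submodule A M)) (a n z) = (x z).val n :=
        fun n z => hσ n _
      have hcauchy : ∀ n, a n ≡ a (n + 1) [SMOD (I ^ n • ⊤ : Submodule A (Z →₀ M))] := by
        intro n
        rw [SModEq.sub_mem, finsupp_mem_smul_top_iff]
        intro z
        rw [Finsupp.sub_apply, ← Submodule.Quotient.mk_eq_zero, Submodule.Quotient.mk_sub, ha,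
          sub_eq_zero, ← (x z).property (Nat.le_succ n), ← ha (n + 1) z]
        rfl
      refine ⟨AdicCompletion.mk I _ (AdicCompletion.AdicCauchySequence.mk I _ a hcauchy), ?_⟩
      funext z
      apply AdicCompletion.ext
      intro n
      rw [hΦmk]
      exact ha n z

end Groth.Agent.S17539
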