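import Groth.Statements.S5671
import Groth.Agent.H29.CM
import Groth.Agent.Lead.RegularGlDim
import Mathlib.RingTheory.Depth.Rees

set_option autoImplicit false
universe u
open CategoryTheory
open Dual

namespace Groth.Agent.S5671

open IsLocalRing RingTheory.Sequence Groth.Agent.H29.CML

section CM

variable {A : Type u} [CommRing A] [IsLocalRing A] [IsNoetherianRing A]

/-- an ideal of small dimension contains a regular element of a CM module -/
theorem exists_regular (N : Type u) [AddCommGroup N] [Module A N] [Module.Finite A N]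
    (hN : LocCoh.IsCohenMacaulayModule A N) (I : Ideal A)
    (hlt : ringKrullDim (A ⧸ I) < Module.supportDim A N) : ∃ x ∈ I, IsSMulRegular N x := by
  classical
  by_contra hcon
  push Not at hcon
  have hfin : (associatedPrimes A N).Finite := associatedPrimes.finite A N
  have hsub : (I : Set A) ⊆ ⋃ q ∈ associatedPrimes A N, (q : Set A) := by
    intro r hr
    rw [biUnion_associatedPrimes_eq_compl_regular]
    exact hcon r hr
  have hsub' : (I : Set A) ⊆
      ⋃ q ∈ (hfin.toFinset : Set (Ideal A)), ((id q : Ideal A) : Set A) := by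
    simpa using hsub
  rw [Ideal.subset_union_prime (f := id) ⊥ ⊥ (fun q hq _ _ => by
    have : q ∈ associatedPrimes A N := by simpa using hq
    exact this.isPrime)] at hsub'
  obtain ⟨q, hq, hIq⟩ := hsub'
  have hq' : q ∈ associatedPrimes A N := by simpa using hq
  have hqd := ringKrullDim_quotient_eq_supportDim_of_isCM N hN q hq'
  have hle : ringKrullDim (A ⧸ q) ≤ ringKrullDim (A ⧸ I) :=
    ringKrullDim_le_of_surjective (Ideal.Quotient.factor hIq)
      (Ideal.Quotient.factor_surjective hIq)
  rw [hqd] at hle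
  exact absurd hlt (not_lt.mpr hle)

/-- grade of an ideal on a CM module is at least the codimension -/
theorem exists_isRegular : ∀ (p : ℕ) (N : Type u) [AddCommGroup N] [Module A N]
    [Module.Finite A N], LocCoh.IsCohenMacaulayModule A N → ∀ (I : Ideal A), I ≠ ⊤ →
    ringKrullDim (A ⧸ I) + p ≤ Module.supportDim A N →
    ∃ rs : List A, rs.length = p ∧ (∀ r ∈ rs, r ∈ I) ∧ IsRegular N rs := by
  intro p
  induction p with
  | zero =>
    intro N _ _ _ hN I _ _
    have hNnt := nontrivial_of_isCM N hN
    refine ⟨[], rfl, by simp, ?_⟩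
    rw [isRegular_iff]
    refine ⟨IsWeaklyRegular.nil A N, ?_⟩
    simp only [Ideal.ofList_nil, Submodule.bot_smul]
    exact top_ne_bot
  | succ p ih =>
    intro N _ _ _ hN I hI hdim
    have hNnt := nontrivial_of_isCM N hN
    haveI : Nontrivial (A ⧸ I) := Ideal.Quotient.nontrivial_iff.mpr hI
    obtain ⟨dN, hdN⟩ := exists_nat_supportDim_eq (A := A) N
    obtain ⟨dI, hdI⟩ : ∃ dI : ℕ, ringKrullDim (A ⧸ I) = dI := by
      have h1 : ringKrullDim (A ⧸ I) ≤ (dN : WithBot ℕ∞) := by
        rw [← hdN]
        refine le_trans (le_add_of_nonneg_right ?_) hdim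
        exact_mod_cast Nat.zero_le _
      have h0 : ringKrullDim (A ⧸ I) ≠ ⊥ :=
        ne_bot_of_le_ne_bot (by simp) (ringKrullDim_nonneg_of_nontrivial (R := A ⧸ I))
      exact Groth.Agent.H29.DimL.exists_nat_eq _ h0
        (ne_top_of_le_ne_top (WithBot.coe_lt_coe.mpr (ENat.natCast_lt_top dN)).ne h1)
    rw [hdI, hdN] at hdim
    have hdim' : dI + (p + 1) ≤ dN := by exact_mod_cast hdim
    obtain ⟨x, hxI, hx⟩ := exists_regular N hN I (by
      rw [hdI, hdN]
      exact_mod_cast (by omega : dI < dN))
    have hxm : x ∈ maximalIdeal A := le_maximalIdeal hI hxI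
    have hN' := isCM_quotSMulTop N hN x hxm hx
    have hd' := Module.supportDim_quotSMulTop_succ_eq_supportDim hx hxm
    have hN'nt := nontrivial_of_isCM _ hN'
    obtain ⟨dN', hdN'⟩ := exists_nat_supportDim_eq (A := A) (QuotSMulTop x N)
    rw [hdN', hdN] at hd'
    have hd'' : dN' + 1 = dN := by exact_mod_cast hd'
    obtain ⟨rs, hlen, hmem, hreg⟩ := ih (QuotSMulTop x N) hN' I hI (by
      rw [hdI, hdN']
      exact_mod_cast (by omega : dI + p ≤ dN'))
    refine ⟨x :: rs, by simp [hlen], ?_, ?_⟩
    · intro r hr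
      rcases List.mem_cons.mp hr with rfl | hr
      · exact hxI
      · exact hmem r hr
    · rw [isRegular_cons_iff]
      exact ⟨hx, hreg⟩

end CM

/-- a regular local ring is Cohen–Macaulay as a module over itself -/
theorem isCM_self (A : Type u) [CommRing A] [IsRegularLocalRing A] :
    LocCoh.IsCohenMacaulayModule A A := by
  obtain ⟨d, hd, -⟩ := Groth.Agent.Lead.RLR.exists_ringKrullDim_eq A
  obtain ⟨x, hx⟩ := Groth.Agent.Lead.RLR.exists_fin_span_eq A d hd
  have hreg := Groth.Agent.Lead.RLR.isRegular_ofFn A d hd x hx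
  have h1 : (d : ℕ∞) ≤ LocCoh.depth A A := by
    have := Groth.Agent.H15.le_idealDepth (maximalIdeal A) A hreg.toIsWeaklyRegular (by
      intro r hr
      rw [List.mem_ofFn] at hr
      obtain ⟨i, rfl⟩ := hr
      rw [← hx]
      exact Ideal.subset_span ⟨i, rfl⟩)
    rw [List.length_ofFn] at this
    exact this
  have h2 := depth_le_supportDim (A := A) A
  rw [Module.supportDim_self_eq_ringKrullDim, hd] at h2
  have h2' : LocCoh.depth A A ≤ (d : ℕ∞) := by exact_mod_cast h2
  unfold LocCoh.IsCohenMacaulayModule
  rw [Module.supportDim_self_eq_ringKrullDim, hd, le_antisymm h2' h1]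
  rfl

theorem result (A : Type u) [CommRing A] [IsRegularLocalRing A] (M : Type u) [AddCommGroup M] [Module A M] [Module.Finite A M] (p : ℕ) (hdim : Module.supportDim A M + p ≤ ringKrullDim A) (i : ℕ) (hi : i < p) : Subsingleton (Abelian.Ext (ModuleCat.of A M) (ModuleCat.of A A) i) := by
  rcases subsingleton_or_nontrivial M with hM | hM
  · refine ⟨fun y z => ?_⟩
    have key : ∀ w : Abelian.Ext (ModuleCat.of A M) (ModuleCat.of A A) i, w = 0 := by
      intro w
      have h0 : 𝟙 (ModuleCat.of A M) = 0 := by
        ext a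
        exact Subsingleton.elim _ _
      rw [← Abelian.Ext.mk₀_id_comp w, h0, Abelian.Ext.mk₀_zero, Abelian.Ext.zero_comp]
    rw [key y, key z]
  · set I := Module.annihilator A M with hIdef
    have hI : I ≠ ⊤ := by
      intro h
      have h1 : (1 : A) ∈ Module.annihilator A M := by rw [← hIdef, h]; trivial
      rw [Module.mem_annihilator] at h1
      obtain ⟨m, hm⟩ := exists_ne (0 : M)
      exact hm (by simpa using h1 m)
    rw [Module.supportDim_eq_ringKrullDim_quotient_annihilator,
      ← Module.supportDim_self_eq_ringKrullDim (R := A)] at hdim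
    obtain ⟨rs, hlen, hmem, hreg⟩ := exists_isRegular p A (isCM_self A) I hI hdim
    have hsupp : Module.support A (ModuleCat.of A M) ⊆ PrimeSpectrum.zeroLocus I := by
      change Module.support A M ⊆ _
      rw [Module.support_eq_zeroLocus]
    have hlt : I • (⊤ : Submodule A (ModuleCat.of A A)) < ⊤ := by
      change I • (⊤ : Submodule A A) < ⊤
      rw [smul_eq_mul, Ideal.mul_top]
      exact lt_top_iff_ne_top.mpr hI
    exact ModuleCat.subsingleton_ext_of_exists_isRegular I (ModuleCat.of A M) hsupp
      (ModuleCat.of A A) hlt rs hmem hreg i (by rw [hlen]; exact hi)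

end Groth.Agent.S5671
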