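import Groth.Statements.S1482
import Mathlib
import Groth.Agent.H7.PurelyInsepSplit

set_option autoImplicit false
universe u
open FlatMor

namespace Groth.Agent.S1482

open AlgebraicGeometry CategoryTheory Limits in
/-- Let f : X → S be locally of finite type, s a point of S and x_1, …, x_n pairwise distinct points
over s at which f is quasi-finite. Then there are an étale morphism g : U → S with a point u over s
and, for each i, finitely many opens V_{i,j} of X_U = X ×_S U, each finite over U and containing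
exactly one point v_{i,j} over u, with κ(v_{i,j}) finite purely inseparable over κ(u), the v_{i,j}
pairwise distinct, v_{i,j} mapping to x_i, and every point of X_U over u mapping to some x_i equal
to one of the v_{i,j}. -/
theorem result {X S : Scheme.{u}} (f : X ⟶ S) [LocallyOfFiniteType f] (s : S) {ι : Type} [Finite ι]
    (x : ι → ↑X) (hinj : Function.Injective x) (hs : ∀ i, f (x i) = s) (hx : ∀ i, f.QuasiFiniteAt (x i)) :
    ∃ (U : Scheme.{u}) (g : U ⟶ S) (u : U), Etale g ∧ g u = s ∧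
      ∃ (J : ι → Type) (_ : ∀ i, Finite (J i)) (V : ∀ i, J i → (pullback f g).Opens) (v : ∀ i, J i → ↑(pullback f g)),
        (∀ i j, v i j ∈ V i j ∧ IsFinite ((V i j).ι ≫ pullback.snd f g) ∧ pullback.snd f g (v i j) = u ∧
          (∀ w : ↑(pullback f g), w ∈ V i j → pullback.snd f g w = u → w = v i j) ∧
          (letI := ((pullback.snd f g).residueFieldMap (v i j)).hom.toAlgebra
           Module.Finite ↑(U.residueField (pullback.snd f g (v i j))) ↑((pullback f g).residueField (v i j)) ∧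
           IsPurelyInseparable ↑(U.residueField (pullback.snd f g (v i j))) ↑((pullback f g).residueField (v i j))) ∧
          pullback.fst f g (v i j) = x i) ∧
        (∀ i j i' j', v i j = v i' j' → i = i' ∧ HEq j j') ∧
        (∀ (w : ↑(pullback f g)) (i : ι), pullback.snd f g w = u → pullback.fst f g w = x i → ∃ j, w = v i j) := by
  classical
  -- Step 0: the residue field extensions `κ(s) → κ(x i)`
  let a : ∀ i, S.residueField s ⟶ X.residueField (x i) := fun i ↦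
    (S.residueFieldCongr (hs i)).inv ≫ f.residueFieldMap (x i)
  have hafin : ∀ i, (a i).hom.Finite := fun i ↦ by
    rw [CommRingCat.hom_comp]
    exact RingHom.Finite.comp (H7.finite_residueFieldMap_of_quasiFiniteAt f (x i) (hx i))
      (RingHom.Finite.of_surjective _
        (ConcreteCategory.bijective_of_isIso (S.residueFieldCongr (hs i)).inv).2)
  let algK : ∀ i, Algebra (S.residueField s) (X.residueField (x i)) :=
    fun i ↦ (a i).hom.toAlgebra
  have hKfin : ∀ i, FiniteDimensional (S.residueField s) (X.residueField (x i)) := hafin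
  obtain ⟨k', _, _, hk'fin, hk'gal, hemb⟩ :=
    H7.exists_galois_of_family (S.residueField s) (fun i ↦ X.residueField (x i))
  -- Step 1: realise `k'` as the residue field of an étale neighbourhood
  obtain ⟨U₁, g₁, u₁, hu₁, hU₁aff, hg₁et, ⟨ek'⟩⟩ :=
    H7.exists_etale_nbhd_residueField_algEquiv S s k'
  let b₁ : S.residueField s ⟶ U₁.residueField u₁ :=
    (S.residueFieldCongr hu₁).inv ≫ g₁.residueFieldMap u₁
  let algb₁ : Algebra (S.residueField s) (U₁.residueField u₁) := b₁.hom.toAlgebra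
  have hR₁ : ∀ i, H7.SepConjIn (a i).hom b₁.hom := by
    intro i
    have : Normal (S.residueField s) (U₁.residueField u₁) := Normal.of_algEquiv ek'
    obtain ⟨ι_i⟩ := hemb i
    exact H7.sepConjIn_of_normal _ _ _ (ek'.toAlgHom.comp ι_i)
  have hg₁fin : (g₁.residueFieldMap u₁).hom.Finite := by
    have h1 : b₁.hom.Finite := Module.Finite.equiv ek'.toLinearEquiv
    have h2 : g₁.residueFieldMap u₁ = (S.residueFieldCongr hu₁).hom ≫ b₁ := by
      simp [b₁]
    rw [h2, CommRingCat.hom_comp]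
    exact RingHom.Finite.comp h1 (RingHom.Finite.of_surjective _
        (ConcreteCategory.bijective_of_isIso (S.residueFieldCongr hu₁).hom).2)
  -- Step 2: the points of `X ×_S U₁` over `(x i, u₁)`
  let Js : ι → Type u := fun i ↦
    {w : ↑(pullback f g₁) // pullback.fst f g₁ w = x i ∧ pullback.snd f g₁ w = u₁}
  have hJfin : ∀ i, Finite (Js i) := fun i ↦
    (H7.finite_setOf_fst_eq_snd_eq f g₁ (x i) u₁ hg₁fin).to_subtype
  let n : ι → ℕ := fun i ↦ Nat.card (Js i)
  let eJ : ∀ i, Js i ≃ Fin (n i) := fun i ↦ Finite.equivFin (Js i)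
  let y : (Σ i, Fin (n i)) → ↑(pullback f g₁) := fun k ↦ ((eJ k.1).symm k.2).1
  have hy1 : ∀ k, pullback.fst f g₁ (y k) = x k.1 := fun k ↦ ((eJ k.1).symm k.2).2.1
  have hy2 : ∀ k, pullback.snd f g₁ (y k) = u₁ := fun k ↦ ((eJ k.1).symm k.2).2.2
  have hyqf : ∀ k, (pullback.snd f g₁).QuasiFiniteAt (y k) := fun k ↦
    H7.quasiFiniteAt_snd f g₁ (y k) ((hy1 k).symm ▸ hx k.1)
  -- Step 3: split off these points by a residually trivial étale neighbourhood
  obtain ⟨U₂, g₂, u₂, hU₂aff, hg₂et, hu₂, hres₂, V₂, v₂, hV₂⟩ :=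
    H7.exists_etale_nbhd_finite_parts (pullback.snd f g₁) u₁ y hy2 hyqf
  have hres₂' : ∀ u' : U₂, u' = u₂ → Function.Surjective (g₂.residueFieldMap u').hom := by
    rintro _ rfl
    exact hres₂.2
  let e : pullback (pullback.snd f g₁) g₂ ≅ pullback f (g₂ ≫ g₁) :=
    pullbackLeftPullbackSndIso f g₁ g₂
  have he_fst : e.inv ≫ pullback.fst _ _ ≫ pullback.fst _ _ = pullback.fst _ _ :=
    pullbackLeftPullbackSndIso_inv_fst f g₁ g₂
  have he_snd : e.inv ≫ pullback.snd _ _ = pullback.snd _ _ :=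
    pullbackLeftPullbackSndIso_inv_snd_snd f g₁ g₂
  have he_fst' : e.hom ≫ pullback.fst _ _ = pullback.fst _ _ ≫ pullback.fst _ _ :=
    pullbackLeftPullbackSndIso_hom_fst f g₁ g₂
  have he_snd' : e.hom ≫ pullback.snd _ _ = pullback.snd _ _ :=
    pullbackLeftPullbackSndIso_hom_snd f g₁ g₂
  have hgu : (g₂ ≫ g₁) u₂ = s := by rw [Scheme.Hom.comp_apply, hu₂, hu₁]
  have hfstv : ∀ k, pullback.fst f (g₂ ≫ g₁) (e.hom (v₂ k)) = x k.1 := by
    intro k
    rw [← Scheme.Hom.comp_apply, he_fst', Scheme.Hom.comp_apply, (hV₂ k).2.2.2.2, hy1]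
  have hsndv : ∀ k, pullback.snd f (g₂ ≫ g₁) (e.hom (v₂ k)) = u₂ := by
    intro k
    rw [← Scheme.Hom.comp_apply, he_snd', (hV₂ k).2.2.1]
  refine ⟨U₂, g₂ ≫ g₁, u₂, inferInstance, hgu, fun i ↦ Fin (n i), fun i ↦ inferInstance,
    fun i j ↦ e.inv ⁻¹ᵁ V₂ ⟨i, j⟩, fun i j ↦ e.hom (v₂ ⟨i, j⟩), ?_, ?_, ?_⟩
  · intro i j
    have hmem : e.hom (v₂ ⟨i, j⟩) ∈ e.inv ⁻¹ᵁ V₂ ⟨i, j⟩ := by
      change e.inv (e.hom (v₂ ⟨i, j⟩)) ∈ V₂ ⟨i, j⟩
      rw [Scheme.hom_inv_apply]
      exact (hV₂ ⟨i, j⟩).1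
    have hfin : IsFinite ((e.inv ⁻¹ᵁ V₂ ⟨i, j⟩).ι ≫ pullback.snd f (g₂ ≫ g₁)) := by
      have := (hV₂ ⟨i, j⟩).2.1
      rw [← he_snd, ← Category.assoc, ← morphismRestrict_ι, Category.assoc]
      infer_instance
    refine ⟨hmem, hfin, hsndv ⟨i, j⟩, ?_, ⟨?_, ?_⟩, hfstv ⟨i, j⟩⟩
    · intro w hw hwu
      have h1 : e.inv w = v₂ ⟨i, j⟩ := by
        apply (hV₂ ⟨i, j⟩).2.2.2.1 _ hw
        rw [← Scheme.Hom.comp_apply, he_snd, hwu]
      change w = e.hom (v₂ ⟨i, j⟩)
      rw [← h1, Scheme.inv_hom_apply]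
    · have : LocallyQuasiFinite ((e.inv ⁻¹ᵁ V₂ ⟨i, j⟩).ι ≫ pullback.snd f (g₂ ≫ g₁)) :=
        inferInstance
      have hq := ((e.inv ⁻¹ᵁ V₂ ⟨i, j⟩).ι ≫ pullback.snd f (g₂ ≫ g₁)).quasiFiniteAt
        ⟨e.hom (v₂ ⟨i, j⟩), hmem⟩
      rw [Scheme.Hom.quasiFiniteAt_comp_iff_of_isOpenImmersion] at hq
      exact H7.finite_residueFieldMap_of_quasiFiniteAt _ _ hq
    · refine H7.isPurelyInseparable_residueFieldMap_snd f (g₂ ≫ g₁) (e.hom (v₂ ⟨i, j⟩)) (x i) u₂ s
        (hfstv ⟨i, j⟩) (hsndv ⟨i, j⟩) (hs i) hgu (hafin i).to_isIntegral ?_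
      rw [H7.residueFieldCongr_inv_residueFieldMap_comp g₂ g₁ u₂ u₁ s hu₂ hu₁ hgu,
        CommRingCat.hom_comp]
      exact (hR₁ i).comp _
  · intro i j i' j' hv
    have h1 : v₂ ⟨i, j⟩ = v₂ ⟨i', j'⟩ := by
      have := congr(e.inv $hv)
      rwa [Scheme.hom_inv_apply, Scheme.hom_inv_apply] at this
    have h2 : y ⟨i, j⟩ = y ⟨i', j'⟩ := by
      rw [← (hV₂ ⟨i, j⟩).2.2.2.2, ← (hV₂ ⟨i', j'⟩).2.2.2.2, h1]
    have h3 : i = i' := by
      apply hinj
      have := congr(pullback.fst f g₁ $h2)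
      rwa [hy1, hy1] at this
    subst h3
    refine ⟨rfl, heq_of_eq ?_⟩
    have h4 : (eJ i).symm j = (eJ i).symm j' := Subtype.ext h2
    exact (eJ i).symm.injective h4
  · intro w i hw2 hw1
    let w' := e.inv w
    let y' := pullback.fst (pullback.snd f g₁) g₂ w'
    have hy'1 : pullback.fst f g₁ y' = x i := by
      rw [← hw1]
      simp only [y', w', ← Scheme.Hom.comp_apply]
      rw [Category.assoc, he_fst]
    have hw'2 : pullback.snd (pullback.snd f g₁) g₂ w' = u₂ := by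
      rw [← hw2]
      simp only [w', ← Scheme.Hom.comp_apply]
      rw [he_snd]
    have hy'2 : pullback.snd f g₁ y' = u₁ := by
      simp only [y', ← Scheme.Hom.comp_apply]
      rw [pullback.condition, Scheme.Hom.comp_apply, hw'2, hu₂]
    let jy : Js i := ⟨y', hy'1, hy'2⟩
    refine ⟨eJ i jy, ?_⟩
    have hyj : y ⟨i, eJ i jy⟩ = y' := by
      simp only [y, Equiv.symm_apply_apply, jy]
    have h5 : w' = v₂ ⟨i, eJ i jy⟩ := by
      apply H7.eq_of_fst_eq_of_snd_eq (pullback.snd f g₁) g₂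
      · rw [(hV₂ ⟨i, eJ i jy⟩).2.2.2.2, hyj]
      · rw [(hV₂ ⟨i, eJ i jy⟩).2.2.1, hw'2]
      · exact hres₂' _ (hV₂ ⟨i, eJ i jy⟩).2.2.1
    change w = e.hom (v₂ ⟨i, eJ i jy⟩)
    rw [← h5]
    simp only [w', Scheme.inv_hom_apply]

end Groth.Agent.S1482
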