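import Groth.Statements.S9778
import Mathlib
import Groth.Agent.H7.ClopenShrink
import Groth.Agent.S1482

set_option autoImplicit false
universe u
open FlatMor

namespace Groth.Agent.S9778

open AlgebraicGeometry CategoryTheory Limits in
/-- Let f : X ⟶ S be separated and locally of finite type, s a point of S and x_1, …, x_n pairwise
distinct points of X over s at which f is quasi-finite (isolated points of the fibre). Then there
are an étale morphism g : U ⟶ S with a point u over s and finitely many pairwise disjoint open and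
closed subschemes V_{i,j} of X_U = X ×_S U, each finite over U and containing exactly one point
v_{i,j} over u, with v_{i,j} mapping to x_i and κ(v_{i,j}) purely inseparable over κ(u), such that
every point of X_U over u mapping to some x_i lies in one of the V_{i,j} (so the open and closed
complement W of their union has no point over u mapping to any x_i). -/
theorem result {X S : Scheme.{u}} (f : X ⟶ S) [LocallyOfFiniteType f] [IsSeparated f] (s : S)
    {ι : Type} [Finite ι] (x : ι → ↑X) (hinj : Function.Injective x) (hs : ∀ i, f (x i) = s) (hx : ∀ i, f.QuasiFiniteAt (x i)) :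
    ∃ (U : Scheme.{u}) (g : U ⟶ S) (u : U), Etale g ∧ g u = s ∧
      ∃ (J : ι → Type) (_ : ∀ i, Finite (J i)) (V : ∀ i, J i → (pullback f g).Opens) (v : ∀ i, J i → ↑(pullback f g)),
        (∀ i j, IsClopen ((V i j : Set ↑(pullback f g)))) ∧
        (∀ i j i' j', ((V i j : Set ↑(pullback f g)) ∩ (V i' j')).Nonempty → i = i' ∧ HEq j j') ∧
        (∀ i j, v i j ∈ V i j ∧ IsFinite ((V i j).ι ≫ pullback.snd f g) ∧ pullback.snd f g (v i j) = u ∧
          (∀ w : ↑(pullback f g), w ∈ V i j → pullback.snd f g w = u → w = v i j) ∧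
          (letI := ((pullback.snd f g).residueFieldMap (v i j)).hom.toAlgebra
           IsPurelyInseparable ↑(U.residueField (pullback.snd f g (v i j))) ↑((pullback f g).residueField (v i j))) ∧
          pullback.fst f g (v i j) = x i) ∧
        (∀ (w : ↑(pullback f g)) (i : ι), pullback.snd f g w = u → pullback.fst f g w = x i → ∃ j, w ∈ V i j) := by
  classical
  obtain ⟨U, g, u, hget, hgu, J, hJ, V, v, hV, hvinj, hcov⟩ :=
    Groth.Agent.S1482.result f s x hinj hs hx
  have : ∀ i, Finite (J i) := hJ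
  let V₀ : (Σ i, J i) → (pullback f g).Opens := fun k ↦ V k.1 k.2
  let v₀ : (Σ i, J i) → ↑(pullback f g) := fun k ↦ v k.1 k.2
  have hv₀inj : Function.Injective v₀ := by
    rintro ⟨i, j⟩ ⟨i', j'⟩ h
    obtain ⟨rfl, h2⟩ := hvinj i j i' j' h
    rw [eq_of_heq h2]
  obtain ⟨V', hle, hclopen, hdisj, hmem, hfin⟩ :=
    H7.exists_disjoint_clopen_refinement (pullback.snd f g) V₀ v₀ u
      (fun k ↦ (hV k.1 k.2).2.1) (fun k ↦ (hV k.1 k.2).1) (fun k ↦ (hV k.1 k.2).2.2.1)
      (fun k ↦ (hV k.1 k.2).2.2.2.1) hv₀inj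
  refine ⟨U, g, u, hget, hgu, J, hJ, fun i j ↦ V' ⟨i, j⟩, v, fun i j ↦ hclopen ⟨i, j⟩, ?_, ?_, ?_⟩
  · intro i j i' j' hne
    have := hdisj ⟨i, j⟩ ⟨i', j'⟩ hne
    cases this
    exact ⟨rfl, HEq.rfl⟩
  · intro i j
    refine ⟨hmem ⟨i, j⟩, hfin ⟨i, j⟩, (hV i j).2.2.1, ?_, (hV i j).2.2.2.2.1.2, (hV i j).2.2.2.2.2⟩
    intro w hw hwu
    exact (hV i j).2.2.2.1 w (hle ⟨i, j⟩ hw) hwu
  · intro w i hw1 hw2
    obtain ⟨j, rfl⟩ := hcov w i hw1 hw2
    exact ⟨j, hmem ⟨i, j⟩⟩

end Groth.Agent.S9778
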