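import Groth.Statements.S1617
import Groth.Agent.H11.FtChart

set_option autoImplicit false
universe u
open CategoryTheory CategoryTheory.Limits AlgebraicGeometry
open Variety

namespace Groth.Agent.S1617

/-- Let X be locally of finite type over a field k and x a closed point. Then the local dimension of X
at x (infimum of the dimensions of open neighbourhoods) equals the Krull dimension of the local ring
at x. -/
theorem result (k : Type u) [Field k] (X : Scheme.{u}) [X.Over (Spec (CommRingCat.of k))] [LocallyOfFiniteType (X ↘ (Spec (CommRingCat.of k)))] (x : X) (hx : IsClosed ({x} : Set X)) :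
    FlatMor.localDim X x = ringKrullDim (X.presheaf.stalk x) := by
  obtain ⟨_, ⟨U, hU, rfl⟩, hxU, -⟩ := X.isBasis_affineOpens.exists_subset_of_mem_open
    (Set.mem_univ x) isOpen_univ
  have hU' : IsAffineOpen U := hU
  have hxm : x ∈ U := hxU
  letI := Groth.Agent.H11.FtChart.secAlgebra k X U
  haveI := Groth.Agent.H11.FtChart.finiteType_sec k X hU'
  rw [Groth.Agent.H11.FtChart.localDim_eq hU' x hxm,
    Groth.Agent.H11.FtDim.localDim_eq_height_add_coheight (k := k)]
  have h1 := Groth.Agent.H11.FtChart.height_eq hU' x hxm
  have hmax := Groth.Agent.H11.FtChart.isMaximal_of_isClosed hU' x hxm hx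
  have h2 : Order.coheight (hU'.primeIdealOf ⟨x, hxm⟩) = 0 := by
    rw [Order.coheight_eq_zero]
    intro q hq
    have h3 : (hU'.primeIdealOf ⟨x, hxm⟩).asIdeal = q.asIdeal :=
      hmax.eq_of_le q.2.ne_top hq
    exact le_of_eq (PrimeSpectrum.ext h3).symm
  rw [h2, add_zero]
  exact h1


end Groth.Agent.S1617
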