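import Groth.Statements.S1621
import Groth.Agent.H11.FtChart

set_option autoImplicit false
universe u
open CategoryTheory CategoryTheory.Limits AlgebraicGeometry
attribute [local instance] Curv2.stalkAlgebra Curv2.resAlgebra
open Variety

namespace Groth.Agent.S1621

/-- Let X be locally of finite type over a field k and x a point whose residue field has transcendence
degree a over k and whose local ring has dimension b. Then the local dimension of X at x is a + b. -/
theorem result (k : Type u) [Field k] (X : Scheme.{u}) [X.Over (Spec (CommRingCat.of k))] [LocallyOfFiniteType (X ↘ (Spec (CommRingCat.of k)))] (x : X) (a b : ℕ)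
    (ha : Algebra.trdeg k (X.residueField x) = a) (hb : ringKrullDim (X.presheaf.stalk x) = b) :
    FlatMor.localDim X x = (a + b : ℕ) := by
  obtain ⟨_, ⟨U, hU, rfl⟩, hxU, -⟩ := X.isBasis_affineOpens.exists_subset_of_mem_open
    (Set.mem_univ x) isOpen_univ
  have hU' : IsAffineOpen U := hU
  have hx : x ∈ U := hxU
  letI := Groth.Agent.H11.FtChart.secAlgebra k X U
  haveI := Groth.Agent.H11.FtChart.finiteType_sec k X hU'
  rw [Groth.Agent.H11.FtChart.localDim_eq hU' x hx,
    Groth.Agent.H11.FtDim.localDim_eq_height_add_coheight (k := k)]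
  have h1 := Groth.Agent.H11.FtChart.height_eq hU' x hx
  have h2 : Order.coheight (hU'.primeIdealOf ⟨x, hx⟩) = (a : ℕ∞) :=
    Groth.Agent.H11.FtDim.coheight_eq_trdeg (k := k) (hU'.primeIdealOf ⟨x, hx⟩).asIdeal a
      ((Groth.Agent.H11.FtChart.trdeg_eq k hU' x hx).trans ha)
  rw [hb] at h1
  have h3 : Order.height (hU'.primeIdealOf ⟨x, hx⟩) = (b : ℕ∞) := by
    exact_mod_cast h1
  rw [h2, h3]
  push_cast
  exact add_comm _ _

end Groth.Agent.S1621
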