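import Groth.Statements.S2171
import Groth.Agent.H11.QuadForm

set_option autoImplicit false
open Finset
open Models

namespace Groth.Agent.S2171

/-- Let A be a symmetric real n by n matrix with non-negative off-diagonal entries, m a vector with
positive entries such that A m = 0, and assume no proper non-empty index set I has A i j = 0 for all
i in I and j outside I. Then x^t A x is at most 0 for every real vector x, with equality exactly
when x is a real multiple of m. -/
theorem result {n : ℕ} (A : Matrix (Fin n) (Fin n) ℝ)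
    (m : Fin n → ℝ) (hsymm : A.IsSymm) (hA : ∀ i j, i ≠ j → 0 ≤ A i j) (hm : ∀ i, 0 < m i)
    (hAm : A.mulVec m = 0)
    (hconn : ∀ I : Finset (Fin n), I.Nonempty → I ≠ univ → ∃ i ∈ I, ∃ j ∉ I, A i j ≠ 0)
    (x : Fin n → ℝ) :
    dotProduct x (A.mulVec x) ≤ 0 ∧ (dotProduct x (A.mulVec x) = 0 ↔ ∃ q : ℝ, x = q • m) := by
  set c : Fin n → ℝ := fun i => x i / m i with hc
  have hxc : ∀ i, x i = c i * m i := fun i => by
    simp only [hc]; field_simp [(hm i).ne']
  have hxc' : x = fun i => c i * m i := funext hxc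
  have hid := Groth.Agent.H11.quad_identity A m c hsymm
  rw [← hxc'] at hid
  have hid' : 2 * dotProduct x (A.mulVec x) =
      - ∑ i, ∑ j, A i j * m i * m j * (c i - c j) ^ 2 := by
    have h0 : ∑ i, c i ^ 2 * m i * (A.mulVec m) i = 0 := by simp [hAm]
    have h1 : dotProduct x (A.mulVec x) = ∑ i, x i * (A.mulVec x) i := rfl
    have h2 : ∑ i, c i * m i * (A.mulVec x) i = ∑ i, x i * (A.mulVec x) i :=
      Finset.sum_congr rfl (fun i _ => by rw [hxc i])
    rw [h1, ← h2, hid, h0]; ring
  have hterm2 : ∀ i ∈ (univ : Finset (Fin n)), ∀ j ∈ (univ : Finset (Fin n)),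
      0 ≤ A i j * m i * m j * (c i - c j) ^ 2 := by
    intro i _ j _
    by_cases hij : i = j
    · subst hij; simp
    · exact mul_nonneg (mul_nonneg (mul_nonneg (hA i j hij) (hm i).le) (hm j).le) (sq_nonneg _)
  have hR : 0 ≤ ∑ i, ∑ j, A i j * m i * m j * (c i - c j) ^ 2 :=
    Finset.sum_nonneg (fun i hi => Finset.sum_nonneg (hterm2 i hi))
  refine ⟨by linarith, ?_, ?_⟩
  · intro h0
    have hR0 : ∑ i, ∑ j, A i j * m i * m j * (c i - c j) ^ 2 = 0 := by linarith
    have h2 : ∀ i j, A i j ≠ 0 → c i = c j := by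
      intro i j hAij
      have hi := (Finset.sum_eq_zero_iff_of_nonneg
        (fun i hi => Finset.sum_nonneg (hterm2 i hi))).1 hR0 i (Finset.mem_univ i)
      have hj := (Finset.sum_eq_zero_iff_of_nonneg (hterm2 i (Finset.mem_univ i))).1 hi j
        (Finset.mem_univ j)
      have hne : A i j * m i * m j ≠ 0 :=
        mul_ne_zero (mul_ne_zero hAij (hm i).ne') (hm j).ne'
      have := (mul_eq_zero.1 hj).resolve_left hne
      have := pow_eq_zero_iff (two_ne_zero) |>.1 this
      linarith
    have hconst := Groth.Agent.H11.const_of_connected A hconn c h2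
    rcases Nat.eq_zero_or_pos n with hn | hn
    · subst hn
      exact ⟨0, funext (fun i => i.elim0)⟩
    · refine ⟨c ⟨0, hn⟩, funext (fun i => ?_)⟩
      rw [hxc i, hconst i ⟨0, hn⟩]; simp
  · rintro ⟨q, rfl⟩
    rw [Matrix.mulVec_smul, hAm]; simp

end Groth.Agent.S2171
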