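import Groth.Statements.S4366
import Mathlib.AlgebraicGeometry.Morphisms.Flat
import Mathlib.AlgebraicGeometry.Morphisms.Preimmersion
import Mathlib.RingTheory.Flat.FaithfullyFlat.Algebra
import Mathlib.RingTheory.Flat.Localization

set_option autoImplicit false
universe u
open SchMor

namespace Groth.Agent.S4366

open AlgebraicGeometry in
open CategoryTheory in
open CategoryTheory.Limits in
/-- Let f : X -> Y be a morphism, y a point of Y and Z = Spec O_{Y,y} the local scheme of Y at y with
its canonical morphism to Y. Then the projection p : X x_Y Z -> X induces isomorphisms on all local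
rings: for every point t of X x_Y Z the homomorphism O_{X, p t} -> O_{X x_Y Z, t} is bijective. (The
published statement also asserts that p is a homeomorphism onto the preimage of Z; that part is not
stated here.) -/
theorem result
    {X Y : Scheme.{u}} (f : X ⟶ Y) (y : Y) (t : ↑(pullback f (Y.fromSpecStalk y))) :
    IsIso ((pullback.fst f (Y.fromSpecStalk y)).stalkMap t) := by
  have hflat : Flat (Y.fromSpecStalk y) := by
    have hU := isAffineOpen_opensRange (Y.affineCover.f (Y.affineCover.idx y))
    have hy : y ∈ (Y.affineCover.f (Y.affineCover.idx y)).opensRange := Y.affineCover.covers y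
    show Flat (hU.fromSpecStalk hy)
    dsimp only [IsAffineOpen.fromSpecStalk]
    have : Flat (Spec.map (Y.presheaf.germ _ y hy)) := by
      rw [Flat.SpecMap_iff]
      letI : Algebra Γ(Y, (Y.affineCover.f (Y.affineCover.idx y)).opensRange)
        (Y.presheaf.stalk y) := (Y.presheaf.germ _ y hy).hom.toAlgebra
      haveI := hU.isLocalization_stalk ⟨y, hy⟩
      show (algebraMap Γ(Y, (Y.affineCover.f (Y.affineCover.idx y)).opensRange)
        (Y.presheaf.stalk y)).Flat
      rw [RingHom.flat_algebraMap_iff]
      exact IsLocalization.flat _ (hU.primeIdealOf ⟨y, hy⟩).asIdeal.primeCompl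
    infer_instance
  set g := pullback.fst f (Y.fromSpecStalk y) with hg
  have hs : Function.Surjective (g.stalkMap t) := g.stalkMap_surjective t
  have hf : (g.stalkMap t).hom.Flat := Flat.stalkMap g t
  have hinj : Function.Injective (g.stalkMap t) := by
    algebraize [(g.stalkMap t).hom]
    have : IsLocalHom (algebraMap (X.presheaf.stalk (g t)) ((pullback f (Y.fromSpecStalk y)).presheaf.stalk t)) := by
      rw [RingHom.algebraMap_toAlgebra]
      infer_instance
    have := Module.FaithfullyFlat.of_flat_of_isLocalHom (A := X.presheaf.stalk (g t))
      (B := (pullback f (Y.fromSpecStalk y)).presheaf.stalk t)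
    exact FaithfulSMul.algebraMap_injective _ _
  exact (ConcreteCategory.isIso_iff_bijective _).mpr ⟨hinj, hs⟩

end Groth.Agent.S4366
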