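import Groth.Statements.S15745
import Groth.Agent.H18.STL.GenLocus
import Groth.Agent.H8.FreeGen

set_option autoImplicit false
universe u
open QCohSup

namespace Groth.Agent.S15745

open AlgebraicGeometry in
open CategoryTheory in
/-- Let `X` be a scheme, `L` and `L'` invertible `O_X`-modules, `f` a global section of `L` and `g` a
global section of `L'`. Then the open `X_{f ⊗ g}` where `f ⊗ g` generates `L ⊗ L'` is the
intersection of the open `X_f` where `f` generates `L` and the open `X_g` where `g` generates `L'`.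
(The published statement is for a locally ringed space; this row is its case of a scheme.) -/
theorem result
    (X : Scheme.{u}) (L L' : X.Modules) (hL : PicF.IsInvertible L) (hL' : PicF.IsInvertible L')
    (f : Coh.structureModule X ⟶ L) (g : Coh.structureModule X ⟶ L') :
    CohB1.genLocus (CohB1.tensorMod L L') (SecTwist.tmulHom f g) =
      CohB1.genLocus L f ⊓ CohB1.genLocus L' g := by
  classical
  open Groth.Agent.H18 Groth.Agent.H18.PUP Groth.Agent.H18.STL in
  ext x
  obtain ⟨U₁, hxU₁, σ₁, hσ₁'⟩ := Groth.Agent.H8.exists_isFreeGen_of_isInvertible hL x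
  obtain ⟨U₂, hxU₂, σ₂, hσ₂'⟩ := Groth.Agent.H8.exists_isFreeGen_of_isInvertible hL' x
  open Groth.Agent.H18 Groth.Agent.H18.PUP Groth.Agent.H18.STL in
  have hσ₁ : IsBasisOn L U₁ σ₁ := hσ₁'
  open Groth.Agent.H18 Groth.Agent.H18.PUP Groth.Agent.H18.STL in
  have hσ₂ : IsBasisOn L' U₂ σ₂ := hσ₂'
  open Groth.Agent.H18 Groth.Agent.H18.PUP Groth.Agent.H18.STL in
  have key : ∀ (U : X.Opens) (e : Γ(L, U)) (e' : Γ(L', U)) (_ : IsBasisOn L U e)
      (_ : IsBasisOn L' U e'), x ∈ U →
      (x ∈ CohB1.genLocus (CohB1.tensorMod L L') (SecTwist.tmulHom f g) ↔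
        x ∈ CohB1.genLocus L f ⊓ CohB1.genLocus L' g) := by
    intro U e e' he he' hxU
    set a := he.coord le_rfl (SecTwist.val f U) with ha_def
    set b := he'.coord le_rfl (SecTwist.val g U) with hb_def
    have ha : SecTwist.val f U = a • e := by
      have := he.coord_smul le_rfl (SecTwist.val f U)
      rw [mres_self] at this
      exact this.symm
    have hb : SecTwist.val g U = b • e' := by
      have := he'.coord_smul le_rfl (SecTwist.val g U)
      rw [mres_self] at this
      exact this.symm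
    have hab : SecTwist.val (SecTwist.tmulHom f g) U = (a * b) • SecTwist.tmul L L' U e e' := by
      rw [SecTwist.val_tmulHom, ha, hb, tmul_smul_left, tmul_smul_right, mul_smul]
    have h1 := genLocus_inf_eq_basicOpen f he a ha
    have h2 := genLocus_inf_eq_basicOpen g he' b hb
    have h3 := genLocus_inf_eq_basicOpen (SecTwist.tmulHom f g) (isBasisOn_tmul he he') (a * b) hab
    have h4 : X.basicOpen (a * b) = X.basicOpen a ⊓ X.basicOpen b := X.basicOpen_mul a b
    constructor
    · intro hx
      have hx' : x ∈ CohB1.genLocus (CohB1.tensorMod L L') (SecTwist.tmulHom f g) ⊓ U := ⟨hx, hxU⟩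
      rw [h3, h4, ← h1, ← h2] at hx'
      exact ⟨hx'.1.1, hx'.2.1⟩
    · intro hx
      have hx' : x ∈ (CohB1.genLocus L f ⊓ U) ⊓ (CohB1.genLocus L' g ⊓ U) :=
        ⟨⟨hx.1, hxU⟩, ⟨hx.2, hxU⟩⟩
      rw [h1, h2, ← h4, ← h3] at hx'
      exact hx'.1
  open Groth.Agent.H18 Groth.Agent.H18.PUP Groth.Agent.H18.STL in
  exact key (U₁ ⊓ U₂) _ _ (hσ₁.mono inf_le_left) (hσ₂.mono inf_le_right) ⟨hxU₁, hxU₂⟩

end Groth.Agent.S15745
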