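import Groth.Statements.S9826
import Groth.Agent.H18.AffineFG

set_option autoImplicit false
universe u
open CategoryTheory CategoryTheory.Limits AlgebraicGeometry TopologicalSpace Opposite
open Props

namespace Groth.Agent.S9826

/-- The sheaf associated to a module over a ring is of finite type on the spectrum if and only if the
module is finitely generated. -/
theorem result (R : CommRingCat.{u}) (M : ModuleCat.{u} R) :
    CohB1.IsFT (tilde M) ↔ Module.Finite R M := by
  constructor
  · intro hFT
    have hfg := Groth.Agent.H18.fg_top_of_isFiniteType (tilde M) hFT (isAffineOpen_top (Spec R))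
    have hsurj : Function.Surjective (algebraMap R Γ(Spec R, (⊤ : (Spec R).Opens))) := by
      rw [IsAffineOpen.algebraMap_Spec_obj]
      intro x
      refine ⟨(Scheme.ΓSpecIso R).hom.hom x, ?_⟩
      have h1 : (homOfLE (le_top : (⊤ : (Spec R).Opens) ≤ ⊤)).op = 𝟙 _ := rfl
      rw [h1, CategoryTheory.Functor.map_id, Category.comp_id]
      exact congrArg (fun φ => φ.hom x) (Scheme.ΓSpecIso R).hom_inv_id
    obtain ⟨S, hS⟩ := hfg
    have h1 : (⊤ : Submodule R Γ(tilde M, (⊤ : (Spec R).Opens))).FG := by
      refine ⟨S, ?_⟩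
      have := Submodule.restrictScalars_span R Γ(Spec R, (⊤ : (Spec R).Opens)) hsurj
        (S : Set Γ(tilde M, (⊤ : (Spec R).Opens)))
      rw [← this, hS]
      rfl
    have hfin : Module.Finite R ((modulesSpecToSheaf.obj (tilde M)).presheaf.obj (op ⊤)) := ⟨h1⟩
    exact @Module.Finite.equiv _ _ _ _ _ _ _ _ hfin (tilde.isoTop M).toLinearEquiv.symm
  · intro hfin
    obtain ⟨S, hS⟩ := hfin.fg_top
    let e : M ≃ₗ[R] ((modulesSpecToSheaf.obj (tilde M)).presheaf.obj (op ⊤)) := (tilde.isoTop M).toLinearEquiv
    let f : M →ₗ[R] Γ(tilde M, (⊤ : (Spec R).Opens)) := e.toLinearMap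
    have hf : Function.Surjective f := e.surjective
    refine Groth.Agent.H18.isFiniteType_of_isQuasicoherent_of_span_eq_top (tilde M)
      (fun _ : PUnit.{u + 1} => (⊤ : (Spec R).Opens)) ?_ (fun _ => isAffineOpen_top (Spec R))
      (fun _ => ↥S) (fun _ m => f m.1) ?_
    · change iSup _ = ⊤
      exact iSup_const
    · intro _
      rw [eq_top_iff]
      rintro x -
      obtain ⟨m, rfl⟩ := hf x
      have hm : m ∈ Submodule.span R (S : Set M) := by rw [hS]; trivial
      induction hm using Submodule.span_induction with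
      | mem y hy => exact Submodule.subset_span ⟨⟨y, hy⟩, rfl⟩
      | zero => rw [map_zero]; exact Submodule.zero_mem _
      | add y z _ _ hy hz => rw [map_add]; exact Submodule.add_mem _ hy hz
      | smul r y _ hy =>
        rw [map_smul, ← algebraMap_smul Γ(Spec R, (⊤ : (Spec R).Opens)) r]
        exact Submodule.smul_mem _ _ hy

end Groth.Agent.S9826
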