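import Groth.Statements.S4562
import Groth.Agent.H38.PInsepN2

set_option autoImplicit false
universe u
open CAlg

namespace Groth.Agent.S4562

/-- Let A be a Noetherian domain with fraction field K. If the integral closure of A in every finite
purely inseparable extension of K is a finitely generated A-module, then A is Japanese (N-2). -/
theorem result (A : Type u) [CommRing A] [IsDomain A]
    [IsNoetherianRing A]
    (h : ∀ (K' : Type u) [Field K'] [Algebra A K'] [Algebra (FractionRing A) K']
      [IsScalarTower A (FractionRing A) K'], FiniteDimensional (FractionRing A) K' →
      IsPurelyInseparable (FractionRing A) K' → Module.Finite A (integralClosure A K')) :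
    CAlg.IsN2 A := by
  intro L _ _ _ _ hfd
  -- the normal closure of `L` inside an algebraic closure
  let Ω := AlgebraicClosure L
  haveI : Algebra.IsAlgebraic (FractionRing A) Ω :=
    Algebra.IsAlgebraic.trans (FractionRing A) L Ω
  haveI : IsAlgClosure (FractionRing A) Ω := ⟨inferInstance, inferInstance⟩
  haveI : Normal (FractionRing A) Ω := inferInstance
  let N : IntermediateField (FractionRing A) Ω := IntermediateField.normalClosure (FractionRing A) L Ω
  haveI : FiniteDimensional (FractionRing A) N := inferInstance
  haveI : Normal (FractionRing A) N := inferInstance
  obtain ⟨P, hP1, hP2⟩ := Groth.Agent.H38.exists_pinsep_sep (FractionRing A) N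
  have hPfin : Module.Finite A (integralClosure A P) :=
    h P inferInstance hP1
  haveI : IsScalarTower A P N := IsScalarTower.of_algebraMap_eq (fun x => by
    rw [IsScalarTower.algebraMap_apply A (FractionRing A) N,
      IsScalarTower.algebraMap_apply A (FractionRing A) P,
      ← IsScalarTower.algebraMap_apply (FractionRing A) P N])
  haveI : IsScalarTower A L N := IsScalarTower.of_algebraMap_eq (fun x => by
    rw [IsScalarTower.algebraMap_apply A (FractionRing A) N,
      IsScalarTower.algebraMap_apply A (FractionRing A) L,
      ← IsScalarTower.algebraMap_apply (FractionRing A) L N])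
  have hN : Module.Finite A (integralClosure A N) :=
    Groth.Agent.H38.finite_integralClosure_of_separable_over A (FractionRing A) P N hPfin
  let f : L →ₐ[A] N := IsScalarTower.toAlgHom A L N
  let ι : integralClosure A L →ₗ[A] integralClosure A N :=
    { toFun := fun x => ⟨f x.1, x.2.map f⟩
      map_add' := fun x y => Subtype.ext (map_add f x.1 y.1)
      map_smul' := fun a x => Subtype.ext (map_smul f a x.1) }
  have hι : Function.Injective ι := fun x y hxy => Subtype.ext
    (f.toRingHom.injective (congrArg (fun z : integralClosure A N => (z : N)) hxy))
  exact Module.Finite.of_injective ι hι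

end Groth.Agent.S4562
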