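import Groth.Statements.S0578
import Groth.Agent.H80.ResExtIter
import Groth.Agent.H80.DvrOfPrincipal

set_option autoImplicit false
universe u
open CAlg

namespace Groth.Agent.S0578

/-- For every prime `p` and every field `k` of characteristic `p` there is a Cohen ring (a complete
discrete valuation ring with uniformizer `p`) whose residue field is isomorphic to `k`. -/
theorem result (p : ℕ) [Fact p.Prime] (k : Type u) [Field k] [CharP k p] :
    ∃ (Λ : Type u) (_ : CommRing Λ) (_ : IsLocalRing Λ), CAlg.IsCohenRing Λ ∧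
      Nonempty (IsLocalRing.ResidueField Λ ≃+* k) := by
  classical
  let R := ULift.{u} ℤ_[p]
  let e : R ≃+* ℤ_[p] := ULift.ringEquiv
  haveI : IsLocalRing R := e.symm.isLocalRing
  haveI : IsNoetherianRing R := isNoetherianRing_of_ringEquiv _ e.symm
  haveI : IsDomain R := e.toMulEquiv.isDomain ℤ_[p]
  have hunit : ∀ x : R, IsUnit x ↔ IsUnit (e x) := fun x =>
    ⟨fun h => h.map e, fun h => by
      have := h.map e.symm
      rwa [e.symm_apply_apply] at this⟩
  have hpR : (p : R) ≠ 0 := by
    intro h0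
    have h1 : e (p : R) = 0 := by rw [h0, map_zero]
    rw [map_natCast] at h1
    exact (Nat.cast_ne_zero.mpr (Fact.out : p.Prime).ne_zero) h1
  have hmaxR : IsLocalRing.maximalIdeal R = Ideal.span {(p : R)} := by
    ext x
    rw [IsLocalRing.mem_maximalIdeal, mem_nonunits_iff, hunit, Ideal.mem_span_singleton]
    have h1 : ¬ IsUnit (e x) ↔ e x ∈ IsLocalRing.maximalIdeal ℤ_[p] := by
      rw [IsLocalRing.mem_maximalIdeal, mem_nonunits_iff]
    rw [h1, PadicInt.maximalIdeal_eq_span_p, Ideal.mem_span_singleton]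
    constructor
    · rintro ⟨c, hc⟩
      refine ⟨e.symm c, ?_⟩
      apply e.injective
      rw [map_mul, map_natCast, e.apply_symm_apply, hc]
    · rintro ⟨c, hc⟩
      exact ⟨e c, by rw [hc, map_mul, map_natCast]⟩
  let φ₀ : R →+* k := (ZMod.castHom (dvd_refl p) k).comp (PadicInt.toZMod.comp (e : R →+* ℤ_[p]))
  haveI hφ₀ : IsLocalHom φ₀ := by
    constructor
    intro x hx
    rw [hunit]
    by_contra hnu
    have h1 : e x ∈ RingHom.ker (PadicInt.toZMod (p := p)) := by
      rw [PadicInt.ker_toZMod, IsLocalRing.mem_maximalIdeal, mem_nonunits_iff]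
      exact hnu
    have h2 : φ₀ x = 0 := by
      change ZMod.castHom (dvd_refl p) k (PadicInt.toZMod (e x)) = 0
      rw [(RingHom.mem_ker).mp h1, map_zero]
    rw [h2] at hx
    exact not_isUnit_zero hx
  obtain ⟨R', _, f, φ', hW, ⟨hloc, hlh⟩, hcomp, hsurj, hN⟩ := Groth.Agent.H80.ResExt.main R φ₀
  haveI : IsNoetherianRing R' := hN inferInstance
  have hmaxR' : IsLocalRing.maximalIdeal R' = Ideal.span {(p : R')} := by
    rw [← hW.map_maximalIdeal, hmaxR, Ideal.map_span, Set.image_singleton, map_natCast]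
  let Λ := AdicCompletion (IsLocalRing.maximalIdeal R') R'
  have hmaxΛ : IsLocalRing.maximalIdeal Λ = Ideal.span {(p : Λ)} := by
    have h1 : (IsLocalRing.maximalIdeal R').map (algebraMap R' Λ) = Ideal.span {(p : Λ)} := by
      refine (congrArg (Ideal.map (algebraMap R' Λ)) hmaxR').trans ?_
      rw [Ideal.map_span, Set.image_singleton, map_natCast]
    rw [← h1]
    exact AdicCompletion.maximalIdeal_eq_map
  -- flatness chain
  letI algRR' : Algebra R R' := f.toAlgebra
  haveI : Module.Flat R R' := hW.flat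
  haveI : Module.Flat R Λ := Module.Flat.trans R R' Λ
  have hreg : (p : Λ) ∈ nonZeroDivisors Λ := by
    have h1 : IsSMulRegular R (p : R) := by
      intro a b hab
      exact mul_left_cancel₀ hpR hab
    have h2 : IsSMulRegular Λ (algebraMap R Λ (p : R)) := IsSMulRegular.of_flat h1
    rw [map_natCast] at h2
    rw [mem_nonZeroDivisors_iff_right]
    intro z hz
    apply h2
    simp only [smul_eq_mul, mul_zero]
    rw [mul_comm]
    exact hz
  haveI : IsNoetherianRing Λ :=
    Groth.Agent.H20.isNoetherianRing_adicCompletion_of_fg (IsLocalRing.maximalIdeal R')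
      (IsNoetherian.noetherian _)
  haveI hdom : IsDomain Λ := Groth.Agent.H80.DvrOfPrincipal.isDomain (p : Λ) hmaxΛ hreg
  have hdvr : IsDiscreteValuationRing Λ :=
    Groth.Agent.H80.DvrOfPrincipal.isDiscreteValuationRing (p : Λ) hmaxΛ hreg hdom
  refine ⟨Λ, inferInstance, inferInstance, ⟨hdom, hdvr, inferInstance, p, Fact.out, hmaxΛ⟩, ⟨?_⟩⟩
  -- residue field
  have hbij := AdicCompletion.residueField_map_bijective_of_fg (R := R')
    (IsNoetherian.noetherian (IsLocalRing.maximalIdeal R'))
  let e1 : IsLocalRing.ResidueField R' ≃+* IsLocalRing.ResidueField Λ :=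
    RingEquiv.ofBijective _ hbij
  let ψ : IsLocalRing.ResidueField R' →+* k := IsLocalRing.ResidueField.lift φ'
  have hψbij : Function.Bijective ψ := by
    refine ⟨ψ.injective, fun y => ?_⟩
    obtain ⟨x, rfl⟩ := hsurj y
    exact ⟨IsLocalRing.residue R' x, IsLocalRing.ResidueField.lift_residue_apply φ' x⟩
  exact e1.symm.trans (RingEquiv.ofBijective ψ hψbij)

end Groth.Agent.S0578
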