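import Groth.Statements.S0581
import Groth.Agent.H96.CohenFinite2
import Groth.Agent.H96.CohenEqChar
import Groth.Agent.S0578
import Groth.Agent.S0579
-- import your own Groth.Agent.* helpers here

set_option autoImplicit false
universe u
open CAlg

namespace Groth.Agent.S0581

/-- A complete Noetherian local domain `R` contains a subring `R₀` over which it is module-finite with
the same residue field, where `R₀` is a power series ring in finitely many variables over a field or
over a Cohen ring. Stated with `R₀` given as the image of an injective ring map. -/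
theorem result (R : Type u) [CommRing R]
    [IsDomain R] [IsLocalRing R] [IsNoetherianRing R] [IsAdicComplete (IsLocalRing.maximalIdeal R) R] :
    ∃ (Λ : Type u) (_ : CommRing Λ) (n : ℕ) (f : MvPowerSeries (Fin n) Λ →+* R),
      (IsField Λ ∨ CAlg.IsCohenRing Λ) ∧ Function.Injective f ∧ f.Finite ∧
      Function.Surjective ((IsLocalRing.residue R).comp f) := by
  classical
  obtain ⟨p, hp⟩ := CharP.exists (IsLocalRing.ResidueField R)
  rcases CharP.char_is_prime_or_zero (IsLocalRing.ResidueField R) p with hpp | hp0
  · have : Fact p.Prime := ⟨hpp⟩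
    by_cases hpR : (p : R) = 0
    · -- equal characteristic `p`
      obtain ⟨s, hs⟩ := Groth.Agent.H96.CohenEqChar.exists_coeffField (A := R) p hpR
      have hsurj : Function.Surjective ((IsLocalRing.residue R).comp s) := by
        rw [hs]
        exact Function.surjective_id
      obtain ⟨n, f, h1, h2, h3⟩ :=
        Groth.Agent.H96.CohenFinite2.main_of_coeffField R (IsLocalRing.ResidueField R) s hsurj
      exact ⟨IsLocalRing.ResidueField R, inferInstance, n, f, Or.inl (Field.toIsField _), h1, h2, h3⟩
    · -- mixed characteristic
      obtain ⟨Λ, hΛ1, hΛ2, hW, ⟨e⟩⟩ := Groth.Agent.S0578.result p (IsLocalRing.ResidueField R)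
      obtain ⟨n, f, h1, h2, h3⟩ := Groth.Agent.H96.CohenFinite2.main_mixed R p hpR Λ hW e
      exact ⟨Λ, hΛ1, n, f, Or.inr hW, h1, h2, h3⟩
  · subst hp0
    have : CharZero (IsLocalRing.ResidueField R) := CharP.charP_to_charZero _
    obtain ⟨s, hs⟩ := Groth.Agent.S0579.result R
    have hsurj : Function.Surjective ((IsLocalRing.residue R).comp s) := by
      rw [hs]
      exact Function.surjective_id
    obtain ⟨n, f, h1, h2, h3⟩ :=
      Groth.Agent.H96.CohenFinite2.main_of_coeffField R (IsLocalRing.ResidueField R) s hsurj
    exact ⟨IsLocalRing.ResidueField R, inferInstance, n, f, Or.inl (Field.toIsField _), h1, h2, h3⟩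

end Groth.Agent.S0581
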