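import Groth.Statements.S8804
import Groth.Agent.H44.RigDomain
import Groth.Agent.H44.AdicLemmas
import Mathlib.RingTheory.Finiteness.Ideal
import Mathlib.Tactic.TFAE
import Mathlib.RingTheory.KrullDimension.Field

set_option autoImplicit false
universe u
open AdicRing

namespace Groth.Agent.S8804

/-- Let A be a Noetherian ring which is complete for the adic topology of an ideal I, and let q be a
prime ideal of A. The following are equivalent: (1) I ⊄ q and q is maximal among the primes not
containing I; (5) dim(A/q) = 1 and I ⊄ q; (8) A/q is a one-dimensional complete local ring whose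
maximal ideal is the radical of the image of I (stated as: the Krull dimension of A/q is 1, every
maximal ideal of A/q equals the radical of I(A/q), and A/q is adically complete for that radical).
(The other equivalent forms, for other ideals of definition or for the induced topology, are not
stated.) -/
theorem result (A : Type u) [CommRing A] [IsNoetherianRing A] (I : Ideal A) [IsAdicComplete I A] (q : PrimeSpectrum A) : List.TFAE [¬ I ≤ q.asIdeal ∧ ∀ q' : PrimeSpectrum A, q ≤ q' → ¬ I ≤ q'.asIdeal → q' = q, ringKrullDim (A ⧸ q.asIdeal) = 1 ∧ ¬ I ≤ q.asIdeal, ringKrullDim (A ⧸ q.asIdeal) = 1 ∧ (∀ m : Ideal (A ⧸ q.asIdeal), m.IsMaximal → m = (I.map (Ideal.Quotient.mk q.asIdeal)).radical) ∧ IsAdicComplete (I.map (Ideal.Quotient.mk q.asIdeal)).radical (A ⧸ q.asIdeal)] := by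
  classical
  have hmk : Function.Surjective (Ideal.Quotient.mk q.asIdeal) := Ideal.Quotient.mk_surjective
  have hker : RingHom.ker (Ideal.Quotient.mk q.asIdeal) = q.asIdeal := Ideal.mk_ker
  have hK0iff : I.map (Ideal.Quotient.mk q.asIdeal) = ⊥ ↔ I ≤ q.asIdeal := by
    rw [Ideal.map_eq_bot_iff_le_ker, hker]
  have hcomplete : IsAdicComplete (I.map (Ideal.Quotient.mk q.asIdeal)) (A ⧸ q.asIdeal) :=
    Groth.Agent.H44.isAdicComplete_quotient I q.asIdeal
  have hK1 : I.map (Ideal.Quotient.mk q.asIdeal) ≠ ⊤ := by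
    intro h
    have h1 := IsAdicComplete.le_jacobson_bot (I.map (Ideal.Quotient.mk q.asIdeal))
    rw [h, top_le_iff, Ideal.jacobson_eq_top_iff] at h1
    exact bot_ne_top h1
  tfae_have 1 → 3 := by
    rintro ⟨hIq, hmax⟩
    have hK0 : I.map (Ideal.Quotient.mk q.asIdeal) ≠ ⊥ := fun h => hIq (hK0iff.mp h)
    have hK : ∀ P : Ideal (A ⧸ q.asIdeal), P.IsPrime → P ≠ ⊥ →
        I.map (Ideal.Quotient.mk q.asIdeal) ≤ P := by
      intro P hP hP0
      by_contra hnot
      have hqP : q ≤ ⟨P.comap (Ideal.Quotient.mk q.asIdeal), inferInstance⟩ := by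
        change q.asIdeal ≤ P.comap (Ideal.Quotient.mk q.asIdeal)
        have h0 : q.asIdeal = (⊥ : Ideal (A ⧸ q.asIdeal)).comap (Ideal.Quotient.mk q.asIdeal) := by
          rw [← RingHom.ker_eq_comap_bot, hker]
        exact le_trans (le_of_eq h0) (Ideal.comap_mono bot_le)
      have := hmax ⟨P.comap (Ideal.Quotient.mk q.asIdeal), inferInstance⟩ hqP
        (fun h => hnot (Ideal.map_le_iff_le_comap.mpr h))
      have h2 : P.comap (Ideal.Quotient.mk q.asIdeal) = q.asIdeal := congrArg PrimeSpectrum.asIdeal this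
      apply hP0
      rw [← Ideal.map_comap_of_surjective _ hmk P, h2, Ideal.map_quotient_self]
    refine ⟨Groth.Agent.H44.ringKrullDim_eq_one_of_forall_le _ hK0 hK1 hK, ?_, ?_⟩
    · obtain ⟨N, hN⟩ := Ideal.exists_radical_pow_le_of_fg (I.map (Ideal.Quotient.mk q.asIdeal))
        (IsNoetherian.noetherian _)
      have : IsAdicComplete (I.map (Ideal.Quotient.mk q.asIdeal)).radical (A ⧸ q.asIdeal) :=
        Groth.Agent.H44.isAdicComplete_of_pow_le _ _ Ideal.le_radical N hN
      intro m hm
      apply le_antisymm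
      · rw [Ideal.radical_eq_sInf]
        apply le_sInf
        rintro P ⟨hKP, hP⟩
        have hP0 : P ≠ ⊥ := fun h => hK0 (le_bot_iff.mp (h ▸ hKP))
        have hPmax := Groth.Agent.H44.isMaximal_of_ne_bot _ hK0 hK P hP0
        exact (Groth.Agent.H44.maximal_unique _ hK0 hK1 hK m P).le
      · have hm0 : m ≠ ⊥ := Groth.Agent.H44.maximal_ne_bot _ hK0 hK1 m
        exact hm.isPrime.radical_le_iff.mpr (hK m hm.isPrime hm0)
    · obtain ⟨N, hN⟩ := Ideal.exists_radical_pow_le_of_fg (I.map (Ideal.Quotient.mk q.asIdeal))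
        (IsNoetherian.noetherian _)
      exact Groth.Agent.H44.isAdicComplete_of_pow_le _ _ Ideal.le_radical N hN
  tfae_have 3 → 2 := by
    rintro ⟨hdim, hmaxeq, _⟩
    refine ⟨hdim, fun hIq => ?_⟩
    have hK0 : I.map (Ideal.Quotient.mk q.asIdeal) = ⊥ := hK0iff.mpr hIq
    obtain ⟨m, hm⟩ := Ideal.exists_maximal (A ⧸ q.asIdeal)
    have hm0 : m = ⊥ := by
      rw [hmaxeq m hm, hK0]
      exact Ideal.radical_bot_of_isReduced
    have hfield : IsField (A ⧸ q.asIdeal) := Ring.isField_iff_maximal_bot.mpr (hm0 ▸ hm)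
    have : ringKrullDim (A ⧸ q.asIdeal) = 0 := ringKrullDim_eq_zero_of_isField hfield
    rw [this] at hdim
    exact zero_ne_one hdim
  tfae_have 2 → 1 := by
    rintro ⟨hdim, hIq⟩
    refine ⟨hIq, fun q' hqq' hIq' => ?_⟩
    by_contra hne
    have hqq'I : q.asIdeal ≤ q'.asIdeal := hqq'
    have hlt : q.asIdeal < q'.asIdeal := lt_of_le_of_ne hqq'I (fun h => hne (PrimeSpectrum.ext h.symm))
    have hq'nmax : ¬ q'.asIdeal.IsMaximal := by
      intro hmax
      apply hIq'
      refine (IsAdicComplete.le_jacobson_bot I).trans ?_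
      exact sInf_le ⟨bot_le, hmax⟩
    obtain ⟨m, hm, hq'm⟩ := Ideal.exists_le_maximal q'.asIdeal q'.2.ne_top
    have hq'ltm : q'.asIdeal < m := lt_of_le_of_ne hq'm (fun h => hq'nmax (h ▸ hm))
    have hmprime : m.IsPrime := hm.isPrime
    have hP1 : (q'.asIdeal.map (Ideal.Quotient.mk q.asIdeal)).IsPrime :=
      Ideal.map_isPrime_of_surjective hmk (by rw [hker]; exact hqq'I)
    have hP2 : (m.map (Ideal.Quotient.mk q.asIdeal)).IsPrime :=
      Ideal.map_isPrime_of_surjective hmk (by rw [hker]; exact hqq'I.trans hq'm)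
    have hcm : ∀ J : Ideal A, q.asIdeal ≤ J →
        (J.map (Ideal.Quotient.mk q.asIdeal)).comap (Ideal.Quotient.mk q.asIdeal) = J := by
      intro J hJ
      rw [Ideal.comap_map_of_surjective _ hmk, ← RingHom.ker_eq_comap_bot, hker, sup_eq_left]
      exact hJ
    have hP1ne : q'.asIdeal.map (Ideal.Quotient.mk q.asIdeal) ≠ ⊥ := by
      intro h
      rw [Ideal.map_eq_bot_iff_le_ker, hker] at h
      exact absurd h (not_le_of_gt hlt)
    have hP12 : q'.asIdeal.map (Ideal.Quotient.mk q.asIdeal) < m.map (Ideal.Quotient.mk q.asIdeal) := by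
      refine lt_of_le_of_ne (Ideal.map_mono hq'm) (fun h => ?_)
      have := congrArg (Ideal.comap (Ideal.Quotient.mk q.asIdeal)) h
      rw [hcm _ hqq'I, hcm _ (hqq'I.trans hq'm)] at this
      exact absurd this (ne_of_lt hq'ltm)
    have h1 : (1 : ℕ∞) ≤ (q'.asIdeal.map (Ideal.Quotient.mk q.asIdeal)).height := by
      apply Order.one_le_iff_pos.mpr
      apply pos_iff_ne_zero.mpr
      intro h
      exact hP1ne (Ideal.height_eq_zero_iff_eq_bot.mp h)
    have h2 := Ideal.height_add_one_le_of_lt_of_isPrime hP12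
    have h3 : ((m.map (Ideal.Quotient.mk q.asIdeal)).height : WithBot ℕ∞) ≤ 1 := by
      rw [← hdim]
      exact Ideal.height_le_ringKrullDim_of_isPrime
    have h4 : (m.map (Ideal.Quotient.mk q.asIdeal)).height ≤ 1 := by exact_mod_cast h3
    have h5 : (1 : ℕ∞) + 1 ≤ 1 := (add_le_add_left h1 1).trans (h2.trans h4)
    exact absurd h5 (by decide)
  tfae_finish

end Groth.Agent.S8804
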