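import Groth.Statements.S2461
import Mathlib

set_option autoImplicit false
universe u
open EGA41

namespace Groth.Agent.S2461


/-- kernel of `evalₐ` is the power of the extended ideal. -/
theorem ker_evalₐ {B : Type u} [CommRing B] (𝔟 : Ideal B) (h : 𝔟.FG) (n : ℕ) :
    RingHom.ker (AdicCompletion.evalₐ 𝔟 n : AdicCompletion 𝔟 B →+* B ⧸ 𝔟 ^ n) =
      (𝔟.map (algebraMap B (AdicCompletion 𝔟 B))) ^ n := by
  ext x
  trans x ∈ (AdicCompletion.eval 𝔟 B n).ker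
  · have eq : (𝔟 ^ n • ⊤ : Ideal B) = 𝔟 ^ n := by simp
    rw [RingHom.mem_ker, LinearMap.mem_ker]
    have hx : (AdicCompletion.evalₐ 𝔟 n : AdicCompletion 𝔟 B →+* B ⧸ 𝔟 ^ n) x =
        Ideal.Quotient.factor (le_of_eq eq) (AdicCompletion.eval 𝔟 B n x) :=
      (AdicCompletion.factor_eval_eq_evalₐ 𝔟 x (le_of_eq eq)).symm
    rw [hx]
    have hinj : Function.Injective (Ideal.Quotient.factor (le_of_eq eq)) := by
      rw [RingHom.injective_iff_ker_eq_bot, Ideal.Quotient.factor_ker]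
      exact Ideal.map_mk_eq_bot_of_le (le_of_eq eq.symm)
    exact map_eq_zero_iff _ hinj
  · rw [← AdicCompletion.pow_smul_top_eq_ker_eval h, Ideal.smul_top_eq_map, ← Ideal.map_pow]
    rfl


/-- Let A carry the 𝔞-adic topology and let B be a Noetherian A-algebra with the 𝔟-adic topology. Then B
is formally smooth over A if and only if the 𝔟-adic completion of B, with the adic topology of the
extended ideal, is formally smooth over A. -/
theorem result {A B : Type u} [CommRing A] (𝔞 : Ideal A) [CommRing B] [IsNoetherianRing B] [Algebra A B] (𝔟 : Ideal B) :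
    EGA41.IsFormallySmoothAdic A 𝔞 B 𝔟 ↔
      EGA41.IsFormallySmoothAdic A 𝔞 (AdicCompletion 𝔟 B) (𝔟.map (algebraMap B (AdicCompletion 𝔟 B))) := by
  classical
  have hfg : 𝔟.FG := IsNoetherian.noetherian 𝔟
  let ι : B →ₐ[A] AdicCompletion 𝔟 B := IsScalarTower.toAlgHom A B (AdicCompletion 𝔟 B)
  let ev : ∀ n : ℕ, AdicCompletion 𝔟 B →ₐ[A] B ⧸ 𝔟 ^ n := fun n =>
    (AdicCompletion.evalₐ 𝔟 n).restrictScalars A
  have hev_ι : ∀ n b, ev n (ι b) = Ideal.Quotient.mk (𝔟 ^ n) b := fun n b =>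
    AdicCompletion.evalₐ_of 𝔟 n b
  have hker : ∀ n x, ev n x = 0 ↔ x ∈ (𝔟.map (algebraMap B (AdicCompletion 𝔟 B))) ^ n := by
    intro n x
    rw [← ker_evalₐ 𝔟 hfg n, RingHom.mem_ker]
    rfl
  have hιmem : ∀ n, ∀ b ∈ 𝔟 ^ n, ι b ∈ (𝔟.map (algebraMap B (AdicCompletion 𝔟 B))) ^ n := by
    intro n b hb
    rw [← Ideal.map_pow]
    exact Ideal.mem_map_of_mem _ hb
  constructor
  · intro h C _ _ J hJ ha û hû
    obtain ⟨k, hk⟩ := hû
    obtain ⟨n, hn⟩ := hJ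
    have hu : ∃ k, ∀ x ∈ 𝔟 ^ k, (û.comp ι) x = 0 :=
      ⟨k, fun x hx => hk _ (hιmem k x hx)⟩
    obtain ⟨v, hv⟩ := h C J ⟨n, hn⟩ ha (û.comp ι) hu
    have hvx : ∀ b, Ideal.Quotient.mk J (v b) = û (ι b) := fun b => AlgHom.congr_fun hv b
    have hvJ : Ideal.map (v : B →+* C) (𝔟 ^ k) ≤ J := by
      rw [Ideal.map_le_iff_le_comap]
      intro b hb
      rw [Ideal.mem_comap, ← Ideal.Quotient.eq_zero_iff_mem]
      exact (hvx b).trans (hk _ (hιmem k b hb))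
    have hvN : ∀ x ∈ 𝔟 ^ (k * n + k), v x = 0 := by
      intro x hx
      have h1 : 𝔟 ^ (k * n + k) ≤ 𝔟 ^ (k * n) := Ideal.pow_le_pow_right (Nat.le_add_right _ _)
      have h2 : Ideal.map (v : B →+* C) (𝔟 ^ (k * n)) ≤ ⊥ := by
        rw [pow_mul, Ideal.map_pow, ← Ideal.zero_eq_bot, ← hn]
        exact Ideal.pow_right_mono hvJ n
      have := h2 (Ideal.mem_map_of_mem (v : B →+* C) (h1 hx))
      simpa using this
    let v' : B ⧸ 𝔟 ^ (k * n + k) →ₐ[A] C := Ideal.Quotient.liftₐ (𝔟 ^ (k * n + k)) v hvN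
    refine ⟨v'.comp (ev (k * n + k)), ?_⟩
    ext x
    obtain ⟨b, hb⟩ := Ideal.Quotient.mk_surjective (ev (k * n + k) x)
    have hx : x - ι b ∈ (𝔟.map (algebraMap B (AdicCompletion 𝔟 B))) ^ (k * n + k) := by
      rw [← hker, map_sub, hev_ι, hb, sub_self]
    have hx' : û (x - ι b) = 0 :=
      hk _ (Ideal.pow_le_pow_right (Nat.le_add_left _ _) hx)
    have hx'' : û x = û (ι b) := by
      rw [map_sub, sub_eq_zero] at hx'; exact hx'
    change Ideal.Quotient.mk J (v' (ev (k * n + k) x)) = û x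
    rw [← hb, hx'', ← hvx]
    rfl
  · intro h C _ _ J hJ ha u hu
    obtain ⟨k, hk⟩ := hu
    let u' : B ⧸ 𝔟 ^ k →ₐ[A] C ⧸ J := Ideal.Quotient.liftₐ (𝔟 ^ k) u hk
    obtain ⟨w, hw⟩ := h C J hJ ha (u'.comp (ev k)) ⟨k, fun x hx => by
      rw [AlgHom.comp_apply, (hker k x).mpr hx, map_zero]⟩
    refine ⟨w.comp ι, ?_⟩
    ext b
    have h1 := AlgHom.congr_fun hw (ι b)
    change Ideal.Quotient.mk J (w (ι b)) = u b
    change Ideal.Quotient.mk J (w (ι b)) = u' (ev k (ι b)) at h1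
    rw [h1, hev_ι]
    rfl

end Groth.Agent.S2461
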