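import Groth.Statements.S4756
import Groth.Agent.H24.FibreLoc
import Mathlib.RingTheory.Flat.Localization
import Mathlib.RingTheory.IntegralClosure.IntegrallyClosed

set_option autoImplicit false
universe u
open EGA4

namespace Groth.Agent.S4756

/-- Normality of a ring (in the sense of `EGA4.IsNormalRing`) is invariant under ring isomorphisms. -/
theorem isNormalRing_of_ringEquiv {R R' : Type u} [CommRing R] [CommRing R'] (e : R ≃+* R')
    (h : EGA4.IsNormalRing R) : EGA4.IsNormalRing R' := by
  intro p' hp'
  let e' : Localization.AtPrime (p'.comap e) ≃+* Localization.AtPrime p' :=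
    IsLocalization.ringEquivOfRingEquiv (Localization.AtPrime (p'.comap e))
      (Localization.AtPrime p') e (e.map_primeCompl_comap_eq p')
  obtain ⟨hd, hic⟩ := h (p'.comap e)
  exact ⟨e'.symm.toMulEquiv.isDomain _, IsIntegrallyClosed.of_equiv e'⟩

/-- Let A → B be a normal homomorphism of Noetherian rings (flat, with geometrically normal fibres) and
S a multiplicative subset of A. Then the induced homomorphism S⁻¹A → S⁻¹B (arbitrary localizations
at S and at its image) is normal. -/
theorem result (A B : Type u) [CommRing A] [CommRing B] [IsNoetherianRing A] [IsNoetherianRing B]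
    [Algebra A B] (h : EGA4.IsNormalHom A B) (S : Submonoid A)
    (A' B' : Type u) [CommRing A'] [CommRing B'] [Algebra A A'] [Algebra B B'] [Algebra A' B'] [Algebra A B']
    [IsScalarTower A A' B'] [IsScalarTower A B B'] [IsLocalization S A']
    [IsLocalization (Algebra.algebraMapSubmonoid B S) B'] :
    EGA4.IsNormalHom A' B' := by
  obtain ⟨hflat, hfib⟩ := h
  have hBB' : Module.Flat B B' := IsLocalization.flat B' (Algebra.algebraMapSubmonoid B S)
  have hAB' : Module.Flat A B' := Module.Flat.trans A B B'
  refine ⟨(Module.flat_iff_of_isLocalization A' S B').mpr hAB', fun p' _ => ?_⟩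
  intro k' _ _ hfin
  obtain ⟨inst, hfin', ⟨e⟩⟩ :=
    H24.exists_fibre_ringEquiv_of_isLocalization A B S A' B' p' k'
  exact isNormalRing_of_ringEquiv e (hfib (p'.comap (algebraMap A A')) k' hfin')

end Groth.Agent.S4756
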