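import Groth.Statements.S4749
import Mathlib
import Groth.Agent.H14.GeomBC.ReducedBC
import Groth.Agent.H47.SmoothNormal

set_option autoImplicit false
universe u
open EGA4

namespace Groth.Agent.S4749

open TensorProduct in
/-- Case of normal morphisms, affine form: let A → B be a homomorphism of Noetherian rings and A' a
Noetherian A-algebra, and assume that B or A' is of finite type over A. If A → B is normal then the
base change A' → A' ⊗_A B is normal; the converse holds when A' is faithfully flat over A. -/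
theorem result (A B A' : Type u) [CommRing A] [CommRing B] [CommRing A']
    [IsNoetherianRing A] [IsNoetherianRing B] [IsNoetherianRing A'] [Algebra A B] [Algebra A A']
    (hft : Algebra.FiniteType A B ∨ Algebra.FiniteType A A') :
    (EGA4.IsNormalHom A B → EGA4.IsNormalHom A' (A' ⊗[A] B)) ∧
      (Module.FaithfullyFlat A A' → EGA4.IsNormalHom A' (A' ⊗[A] B) → EGA4.IsNormalHom A B) := by
  constructor
  · intro h
    haveI := h.1
    refine ⟨inferInstance, ?_⟩
    intro p' hp' k' _ _ hfin
    letI : Algebra A' k' := ((algebraMap p'.ResidueField k').comp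
      (algebraMap A' p'.ResidueField)).toAlgebra
    haveI : IsScalarTower A' p'.ResidueField k' := IsScalarTower.of_algebraMap_eq (fun _ => rfl)
    letI : Algebra A k' := ((algebraMap A' k').comp (algebraMap A A')).toAlgebra
    haveI : IsScalarTower A A' k' := IsScalarTower.of_algebraMap_eq (fun _ => rfl)
    have e1 := (Algebra.TensorProduct.cancelBaseChange A' p'.ResidueField k' k'
      (A' ⊗[A] B)).toRingEquiv
    have e2 := (Algebra.TensorProduct.cancelBaseChange A A' k' k' B).toRingEquiv
    exact Groth.Agent.H47.isNormalRing_of_ringEquiv (e1.trans e2).symm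
      (Groth.Agent.H14.GeomBC.isNormalRing_field_tensor_of_isNormalHom A B h k')
  · intro hff h'
    haveI := hff
    haveI := h'.1
    refine ⟨Module.Flat.of_flat_tensorProduct A B A', ?_⟩
    intro p hp k' _ _ hfin
    letI : Algebra A k' := ((algebraMap p.ResidueField k').comp
      (algebraMap A p.ResidueField)).toAlgebra
    haveI : IsScalarTower A p.ResidueField k' := IsScalarTower.of_algebraMap_eq (fun _ => rfl)
    have e1 := (Algebra.TensorProduct.cancelBaseChange A p.ResidueField k' k' B).toRingEquiv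
    refine Groth.Agent.H47.isNormalRing_of_ringEquiv e1.symm ?_
    -- a field containing k' and receiving A'
    haveI : Nontrivial (k' ⊗[A] A') := by
      have := (Module.FaithfullyFlat.lTensor_nontrivial A A' k' :
        Nontrivial (A' ⊗[A] k'))
      exact (Algebra.TensorProduct.comm A A' k').toRingEquiv.injective.nontrivial
    obtain ⟨m, hm⟩ := Ideal.exists_maximal (k' ⊗[A] A')
    letI : Field ((k' ⊗[A] A') ⧸ m) := Ideal.Quotient.field m
    letI : Algebra A' ((k' ⊗[A] A') ⧸ m) :=
      ((Ideal.Quotient.mk m).comp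
        (Algebra.TensorProduct.includeRight (R := A) (A := k') (B := A')).toRingHom).toAlgebra
    haveI : IsScalarTower A k' ((k' ⊗[A] A') ⧸ m) := inferInstance
    haveI : IsScalarTower A A' ((k' ⊗[A] A') ⧸ m) := IsScalarTower.of_algebraMap_eq (fun a => by
      show Ideal.Quotient.mk m (algebraMap A (k' ⊗[A] A') a) =
        Ideal.Quotient.mk m ((1 : k') ⊗ₜ[A] algebraMap A A' a)
      congr 1
      rw [Algebra.TensorProduct.algebraMap_apply,
        Algebra.algebraMap_eq_smul_one, Algebra.algebraMap_eq_smul_one (A := A'),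
        TensorProduct.smul_tmul])
    have hK : EGA4.IsNormalRing (((k' ⊗[A] A') ⧸ m) ⊗[A'] (A' ⊗[A] B)) :=
      Groth.Agent.H14.GeomBC.isNormalRing_field_tensor_of_isNormalHom A' (A' ⊗[A] B) h'
        ((k' ⊗[A] A') ⧸ m)
    have e2 := (Algebra.TensorProduct.cancelBaseChange A A' ((k' ⊗[A] A') ⧸ m)
      ((k' ⊗[A] A') ⧸ m) B).toRingEquiv
    have e3 := (Algebra.TensorProduct.cancelBaseChange A k' ((k' ⊗[A] A') ⧸ m)
      ((k' ⊗[A] A') ⧸ m) B).toRingEquiv
    have e4 := (Algebra.TensorProduct.comm k' ((k' ⊗[A] A') ⧸ m) (k' ⊗[A] B)).toRingEquiv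
    have hK2 : EGA4.IsNormalRing ((k' ⊗[A] B) ⊗[k'] ((k' ⊗[A] A') ⧸ m)) :=
      Groth.Agent.H47.isNormalRing_of_ringEquiv ((e2.trans e3.symm).trans e4) hK
    haveI : Module.Free k' ((k' ⊗[A] A') ⧸ m) := Module.Free.of_divisionRing k' _
    haveI : Nontrivial ((k' ⊗[A] A') ⧸ m) := Ideal.Quotient.nontrivial_iff.mpr hm.ne_top
    haveI : Module.FaithfullyFlat k' ((k' ⊗[A] A') ⧸ m) :=
      Module.FaithfullyFlat.instOfNontrivialOfFree k' _
    haveI : Module.FaithfullyFlat (k' ⊗[A] B) ((k' ⊗[A] B) ⊗[k'] ((k' ⊗[A] A') ⧸ m)) :=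
      inferInstance
    exact Groth.Agent.H47.SN.isNormalRing_of_faithfullyFlat (k' ⊗[A] B)
      ((k' ⊗[A] B) ⊗[k'] ((k' ⊗[A] A') ⧸ m)) hK2

end Groth.Agent.S4749
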