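import Groth.Statements.S0503
import Groth.Agent.H3.HenselQF2

set_option autoImplicit false
universe u
open Hensel

namespace Groth.Agent.S0503

open IsLocalRing Groth.Agent.H3 in
/-- A finite-type quasi-finite algebra `S` over a henselian local ring `R` contains an idempotent `e`
such that `S/(1-e)` is finitely generated as an `R`-module and the maximal ideal of `R` generates
the unit ideal of `S/(e)`; in other words `S` is a product of a module-finite algebra and an algebra
whose fibre over the closed point is empty. -/
theorem result (R : Type u) [CommRing R] [HenselianLocalRing R]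
    (S : Type u) [CommRing S] [Algebra R S] [Algebra.FiniteType R S] [Algebra.QuasiFinite R S] :
    ∃ e : S, IsIdempotentElem e ∧ Module.Finite R (S ⧸ Ideal.span ({1 - e} : Set S)) ∧
      Ideal.map (algebraMap R (S ⧸ Ideal.span ({e} : Set S))) (IsLocalRing.maximalIdeal R) = ⊤ := by
  classical
  have hfin : ((maximalIdeal R).primesOver S).Finite := Algebra.QuasiFinite.finite_primesOver _
  obtain ⟨e, hei, hefg, heF⟩ := exists_idempotent_of_finset R S hfin.toFinset (by
    intro q hq
    rw [Set.Finite.mem_toFinset] at hq
    obtain ⟨h1, h2⟩ := hq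
    exact ⟨h1, h2, inferInstance⟩)
  refine ⟨e, hei, finite_quotient_of_idemSub_fg hefg, ?_⟩
  by_contra hne
  obtain ⟨M, hM, hle⟩ := Ideal.exists_le_maximal _ hne
  have hQp : (M.comap (Ideal.Quotient.mk (Ideal.span ({e} : Set S)))).IsPrime := inferInstance
  have hQm : (M.comap (Ideal.Quotient.mk (Ideal.span ({e} : Set S)))).LiesOver (maximalIdeal R) := by
    constructor
    have h1 : maximalIdeal R ≤ Ideal.under R (M.comap (Ideal.Quotient.mk (Ideal.span ({e} : Set S)))) := by
      rw [Ideal.under, Ideal.comap_comap]
      exact Ideal.map_le_iff_le_comap.mp hle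
    exact (maximalIdeal.isMaximal R).eq_of_le (Ideal.IsPrime.under R _).ne_top h1
  have hmem : M.comap (Ideal.Quotient.mk (Ideal.span ({e} : Set S))) ∈ hfin.toFinset := by
    rw [Set.Finite.mem_toFinset]
    exact ⟨hQp, hQm⟩
  apply heF _ hmem
  rw [Ideal.mem_comap]
  have : Ideal.Quotient.mk (Ideal.span ({e} : Set S)) e = 0 :=
    Ideal.Quotient.eq_zero_iff_mem.mpr (Ideal.subset_span rfl)
  rw [this]
  exact zero_mem _

end Groth.Agent.S0503
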