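import Groth.Statements.S9318
import Groth.Agent.H46.AdicSmooth

set_option autoImplicit false
universe u
open CAlg

namespace Groth.Agent.S9318

open AdicCompletion Groth.Agent.H46 in
/-- Let `R → S` be a ring map and `𝔫 ⊆ S` a finitely generated ideal, and let `S^` be the `𝔫`-adic
completion of `S`. Then `R → S` is formally smooth for the `𝔫`-adic topology if and only if `R → S^`
is formally smooth for the adic topology of the extension of `𝔫` to `S^`. No Noetherian hypothesis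
is made on `S`. -/
theorem result {R S : Type u} [CommRing R] [CommRing S]
    [Algebra R S] (𝔫 : Ideal S) (h𝔫 : 𝔫.FG) :
    CAlgX.IsAdicFormallySmooth R S 𝔫 ↔
      CAlgX.IsAdicFormallySmooth R (AdicCompletion 𝔫 S) (𝔫.map (algebraMap S (AdicCompletion 𝔫 S))) := by
  have hpow : ∀ k : ℕ, (𝔫.map (algebraMap S (AdicCompletion 𝔫 S))) ^ k =
      (𝔫 ^ k).map (algebraMap S (AdicCompletion 𝔫 S)) := fun k => (Ideal.map_pow _ _ _).symm
  constructor
  · intro h A _ _ J hJ ψ' hk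
    obtain ⟨k, hk⟩ := hk
    let ofₐ : S →ₐ[R] AdicCompletion 𝔫 S := IsScalarTower.toAlgHom R S (AdicCompletion 𝔫 S)
    have hψ : ∀ x ∈ 𝔫 ^ k, (ψ'.comp ofₐ) x = 0 := by
      intro x hx
      apply hk
      rw [hpow]
      exact Ideal.mem_map_of_mem _ hx
    obtain ⟨χ, hχ⟩ := h A J hJ (ψ'.comp ofₐ) ⟨k, hψ⟩
    have hχ0 : ∀ x ∈ 𝔫 ^ (k + k), χ x = 0 := by
      apply map_pow_add_eq_zero_of_sq_zero χ.toRingHom 𝔫 J hJ k
      intro x hx
      have := hψ x hx
      rw [← hχ] at this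
      exact Ideal.Quotient.eq_zero_iff_mem.mp this
    let χ' : AdicCompletion 𝔫 S →ₐ[R] A :=
      (Ideal.Quotient.liftₐ (𝔫 ^ (k + k)) χ hχ0).comp ((evalₐ 𝔫 (k + k)).restrictScalars R)
    refine ⟨χ', ?_⟩
    ext x
    obtain ⟨s, hs⟩ := Ideal.Quotient.mk_surjective (evalₐ 𝔫 (k + k) x)
    have hx : x - algebraMap S _ s ∈ (𝔫.map (algebraMap S (AdicCompletion 𝔫 S))) ^ k := by
      rw [hpow]
      have h1 : x - algebraMap S _ s ∈ RingHom.ker (evalₐ 𝔫 (k + k)).toRingHom := by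
        rw [RingHom.mem_ker]
        change evalₐ 𝔫 (k + k) (x - algebraMap S _ s) = 0
        rw [map_sub, ← hs, AdicCompletion.algebraMap_apply, evalₐ_of, Algebra.algebraMap_self,
          RingHom.id_apply, sub_self]
      rw [ker_evalₐ_eq_map 𝔫 h𝔫] at h1
      exact Ideal.map_mono (Ideal.pow_le_pow_right (Nat.le_add_right k k)) h1
    have h2 : ψ' x = ψ' (algebraMap S _ s) := by
      have := hk _ hx
      rw [map_sub, sub_eq_zero] at this
      exact this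
    have h3 : χ' x = χ s := by
      change Ideal.Quotient.liftₐ (𝔫 ^ (k + k)) χ hχ0 (evalₐ 𝔫 (k + k) x) = χ s
      rw [← hs]
      rfl
    rw [AlgHom.comp_apply, h3, h2]
    exact congrArg (fun f : S →ₐ[R] A ⧸ J => f s) hχ
  · intro h A _ _ J hJ ψ hk
    obtain ⟨k, hk⟩ := hk
    let ofₐ : S →ₐ[R] AdicCompletion 𝔫 S := IsScalarTower.toAlgHom R S (AdicCompletion 𝔫 S)
    let ψ' : AdicCompletion 𝔫 S →ₐ[R] A ⧸ J :=
      (Ideal.Quotient.liftₐ (𝔫 ^ k) ψ hk).comp ((evalₐ 𝔫 k).restrictScalars R)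
    have hψ' : ∀ x ∈ (𝔫.map (algebraMap S (AdicCompletion 𝔫 S))) ^ k, ψ' x = 0 := by
      intro x hx
      rw [hpow, ← ker_evalₐ_eq_map 𝔫 h𝔫, RingHom.mem_ker] at hx
      change Ideal.Quotient.liftₐ (𝔫 ^ k) ψ hk (evalₐ 𝔫 k x) = 0
      have hx' : evalₐ 𝔫 k x = 0 := hx
      rw [hx', _root_.map_zero]
    obtain ⟨χ', hχ'⟩ := h A J hJ ψ' ⟨k, hψ'⟩
    refine ⟨χ'.comp ofₐ, ?_⟩
    ext s
    have := congrArg (fun f : AdicCompletion 𝔫 S →ₐ[R] A ⧸ J => f (algebraMap S _ s)) hχ'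
    simp only [AlgHom.comp_apply] at this
    rw [AlgHom.comp_apply, AlgHom.comp_apply]
    change (Ideal.Quotient.mkₐ R J) (χ' (algebraMap S _ s)) = _
    rw [this]
    change Ideal.Quotient.liftₐ (𝔫 ^ k) ψ hk (evalₐ 𝔫 k (algebraMap S _ s)) = ψ s
    rw [AdicCompletion.algebraMap_apply, evalₐ_of, Algebra.algebraMap_self, RingHom.id_apply]
    rfl

end Groth.Agent.S9318
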