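import Groth.Statements.S2045
import Mathlib
import Groth.Agent.H57.GRingMax
import Groth.Agent.S0600
import Groth.Agent.H72.HensGRing

set_option autoImplicit false
universe u
open CAlg

namespace Groth.Agent.S2045

/-- If `R` is a Noetherian local G-ring then its henselization is a G-ring. -/
theorem result {R S : Type u} [CommRing R] [IsLocalRing R] [IsNoetherianRing R]
    (hR : CAlg.IsGRing R) [CommRing S] [IsLocalRing S] [Algebra R S] [IsLocalHom (algebraMap R S)]
    [Hensel.IsHenselization R S] : CAlg.IsGRing S := by
  obtain ⟨hnoe, -, -⟩ := Groth.Agent.H14.HensProp.hens_basic R S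
  haveI := hnoe
  have h1 : CAlg.IsRegularHom R (AdicCompletion (IsLocalRing.maximalIdeal R) R) :=
    Groth.Agent.S0600.result R hR _
  exact Groth.Agent.H57.GRingMax.isGRing_of_isRegularHom_cpl S
    ((Groth.Agent.H72.HensGRing.isRegularHom_cpl_henselization_iff R S).mpr h1)

end Groth.Agent.S2045
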