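import Groth.Statements.S4515
import Mathlib

set_option autoImplicit false
universe u
open EGA41

namespace Groth.Agent.S4515

open TensorProduct

/-- If `M = N / K` is flat then `K ∩ I N = I K` for every ideal `I`. -/
theorem mem_smul_ker_of_flat {A : Type u} [CommRing A] {M N : Type u} [AddCommGroup M] [Module A M]
    [AddCommGroup N] [Module A N] [Module.Flat A M] (u : N →ₗ[A] M) (hu : Function.Surjective u)
    (I : Ideal A) (x : N) (hx : u x = 0) (hxI : x ∈ (I • ⊤ : Submodule A N)) :
    x ∈ I • LinearMap.ker u := by
  have hinj : Function.Injective ((LinearMap.ker u).subtype.lTensor (A ⧸ I)) := by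
    apply lTensor_injective_of_exact_of_exact_of_rTensor_injective
      (LinearMap.exact_subtype_mkQ I) (Submodule.mkQ_surjective I)
      (LinearMap.exact_subtype_ker_map u) hu
    · exact Module.Flat.rTensor_preserves_injective_linearMap _ Subtype.val_injective
    · exact Module.Flat.lTensor_preserves_injective_linearMap _ Subtype.val_injective
  let x' : LinearMap.ker u := ⟨x, hx⟩
  have h1 : (1 : A ⧸ I) ⊗ₜ[A] x = 0 := by
    apply (TensorProduct.quotTensorEquivQuotSMul N I).injective
    rw [TensorProduct.quotTensorEquivQuotSMul_mk_one_tmul, map_zero]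
    exact (Submodule.Quotient.mk_eq_zero _).mpr hxI
  have h2 : (1 : A ⧸ I) ⊗ₜ[A] x' = 0 := by
    apply hinj
    rw [LinearMap.lTensor_tmul, map_zero]
    exact h1
  have h3 : x' ∈ (I • ⊤ : Submodule A (LinearMap.ker u)) := by
    have := congrArg (TensorProduct.quotTensorEquivQuotSMul (LinearMap.ker u) I) h2
    rw [TensorProduct.quotTensorEquivQuotSMul_mk_one_tmul, map_zero] at this
    exact (Submodule.Quotient.mk_eq_zero _).mp this
  have h4 : (LinearMap.ker u).subtype x' ∈
      Submodule.map (LinearMap.ker u).subtype (I • ⊤ : Submodule A (LinearMap.ker u)) :=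
    Submodule.mem_map_of_mem h3
  rw [Submodule.map_smul'', Submodule.map_subtype_top] at h4
  exact h4

/-- Let A be a ring, J an ideal of A, and M, N two A-modules which are Hausdorff for the J-adic
topology; suppose moreover that N is J-adically complete and M is flat. Let u : N → M be A-linear.
If the induced map N/JN → M/JM is bijective (surjectivity and injectivity written out below), then u
is bijective. -/
theorem result {A : Type u} [CommRing A] (J : Ideal A)
    {M N : Type u} [AddCommGroup M] [Module A M] [AddCommGroup N] [Module A N]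
    [IsHausdorff J M] [IsAdicComplete J N] [Module.Flat A M] (u : N →ₗ[A] M)
    (hsurj : ∀ m : M, ∃ n : N, m - u n ∈ (J • ⊤ : Submodule A M))
    (hinj : ∀ n : N, u n ∈ (J • ⊤ : Submodule A M) → n ∈ (J • ⊤ : Submodule A N)) :
    Function.Bijective u := by
  have hs : Function.Surjective u := by
    apply surjective_of_mkQ_comp_surjective (I := J)
    intro y
    obtain ⟨m, rfl⟩ := Submodule.Quotient.mk_surjective _ y
    obtain ⟨n, hn⟩ := hsurj m
    refine ⟨n, ?_⟩
    rw [LinearMap.comp_apply, Submodule.mkQ_apply, eq_comm, Submodule.Quotient.eq]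
    exact hn
  refine ⟨?_, hs⟩
  have hK1 : LinearMap.ker u ≤ (J • ⊤ : Submodule A N) := by
    intro x hx
    apply hinj
    rw [LinearMap.mem_ker.mp hx]
    exact Submodule.zero_mem _
  have hK : ∀ k : ℕ, LinearMap.ker u ≤ (J ^ k • ⊤ : Submodule A N) := by
    intro k
    induction k with
    | zero => simp
    | succ k ih =>
      intro x hx
      have h1 := mem_smul_ker_of_flat u hs (J ^ k) x (LinearMap.mem_ker.mp hx) (ih hx)
      have h2 : J ^ k • LinearMap.ker u ≤ (J ^ (k + 1) • ⊤ : Submodule A N) := by
        rw [pow_succ, mul_smul]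
        exact smul_mono_right _ hK1
      exact h2 h1
  rw [← LinearMap.ker_eq_bot, eq_bot_iff]
  intro x hx
  rw [Submodule.mem_bot]
  apply IsHausdorff.haus' (I := J)
  intro n
  rw [SModEq.zero]
  exact hK n hx

end Groth.Agent.S4515
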