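import Groth.Statements.S4542
import Mathlib

set_option autoImplicit false
universe u
open EGA41

namespace Groth.Agent.S4542

/-- Lifting along a surjection with nilpotent kernel, adic version. -/
theorem adic_lift {A B : Type u} [CommRing A] [CommRing B] [Algebra A B] (𝔞 : Ideal A)
    (𝔟 : Ideal B) (hB : EGA41.IsFormallySmoothAdic A 𝔞 B 𝔟)
    {E P : Type u} [CommRing E] [CommRing P] [Algebra A E] [Algebra A P]
    (g : E →ₐ[A] P) (hg : Function.Surjective g) (hker : IsNilpotent (RingHom.ker g))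
    (hE : ∃ k : ℕ, (𝔞 ^ k).map (algebraMap A E) = ⊥)
    (w : B →ₐ[A] P) (hw : ∃ k : ℕ, ∀ x ∈ 𝔟 ^ k, w x = 0) :
    ∃ v : B →ₐ[A] E, g.comp v = w := by
  let u : B →ₐ[A] E ⧸ RingHom.ker g :=
    (Ideal.quotientKerAlgEquivOfSurjective hg).symm.toAlgHom.comp w
  have hu : ∃ k : ℕ, ∀ x ∈ 𝔟 ^ k, u x = 0 := by
    obtain ⟨k, hk⟩ := hw
    refine ⟨k, fun x hx => ?_⟩
    simp only [u, AlgHom.comp_apply, hk x hx, map_zero]
  obtain ⟨v, hv⟩ := hB E (RingHom.ker g) hker hE u hu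
  refine ⟨v, ?_⟩
  ext b
  have h1 := congrArg (fun φ : B →ₐ[A] _ => φ b) hv
  simp only [AlgHom.comp_apply, Ideal.Quotient.mkₐ_eq_mk, u] at h1
  have h2 := congrArg (Ideal.quotientKerAlgEquivOfSurjective hg) h1
  rw [Ideal.quotientKerAlgEquivOfSurjective_mk] at h2
  rw [AlgHom.comp_apply, h2]
  simp

/-- If `g ∘ v` kills `𝔟 ^ k` and `(ker g) ^ s = 0` then `v` kills `𝔟 ^ (k * s)`. -/
theorem kills_pow {B E P : Type*} [CommRing B] [CommRing E] [CommRing P] (𝔟 : Ideal B)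
    (g : E →+* P) (v : B →+* E) (k s : ℕ) (hk : ∀ x ∈ 𝔟 ^ k, g (v x) = 0)
    (hs : (RingHom.ker g) ^ s = ⊥) : ∀ x ∈ 𝔟 ^ (k * s), v x = 0 := by
  have h1 : Ideal.map v (𝔟 ^ k) ≤ RingHom.ker g := by
    rw [Ideal.map_le_iff_le_comap]
    intro x hx
    exact (RingHom.mem_ker).mpr (hk x hx)
  have h2 : Ideal.map v (𝔟 ^ (k * s)) ≤ ⊥ := by
    rw [pow_mul, Ideal.map_pow, ← hs]
    exact Ideal.pow_right_mono h1 s
  intro x hx
  have := h2 (Ideal.mem_map_of_mem v hx)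
  simpa using this

section step

variable {A B C : Type u} [CommRing A] [CommRing B] [CommRing C] [Algebra A B] [Algebra A C]
  (𝔞 : Ideal A) (𝔟 : Ideal B) (𝔠 : Ideal C) (J : Ideal C) (u : B →ₐ[A] C ⧸ J)

/-- The inductive invariant. -/
def Good (n : ℕ) (v : B →ₐ[A] C ⧸ 𝔠 ^ n) : Prop :=
  (Ideal.Quotient.factorₐ A (le_sup_left : 𝔠 ^ n ≤ 𝔠 ^ n ⊔ J)).comp v =
    (Ideal.Quotient.factorₐ A (le_sup_right : J ≤ 𝔠 ^ n ⊔ J)).comp u ∧
  ∃ K : ℕ, ∀ x ∈ 𝔟 ^ K, v x = 0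

theorem step (hB : EGA41.IsFormallySmoothAdic A 𝔞 B 𝔟)
    (hAC : ∃ k : ℕ, (𝔞 ^ k).map (algebraMap A C) ≤ 𝔠) (hJ : ∃ t : ℕ, J ^ t ≤ 𝔠)
    (hu : ∃ k : ℕ, (𝔟 ^ k).map u.toRingHom ≤ 𝔠.map (Ideal.Quotient.mk J))
    (n : ℕ) (v : B →ₐ[A] C ⧸ 𝔠 ^ n) (hv : Good 𝔟 𝔠 J u n v) :
    ∃ v' : B →ₐ[A] C ⧸ 𝔠 ^ (n + 1), Good 𝔟 𝔠 J u (n + 1) v' ∧
      (Ideal.Quotient.factorₐ A (Ideal.pow_le_pow_right (Nat.le_succ n))).comp v' = v := by
  obtain ⟨t, ht⟩ := hJ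
  obtain ⟨ku, hku⟩ := hu
  obtain ⟨ka, hka⟩ := hAC
  obtain ⟨hv1, K₁, hK₁⟩ := hv
  let f₁ : C ⧸ 𝔠 ^ (n + 1) →ₐ[A] C ⧸ 𝔠 ^ n :=
    Ideal.Quotient.factorₐ A (Ideal.pow_le_pow_right (Nat.le_succ n))
  let f₂ : C ⧸ 𝔠 ^ (n + 1) →ₐ[A] C ⧸ (𝔠 ^ (n + 1) ⊔ J) :=
    Ideal.Quotient.factorₐ A le_sup_left
  let fu : B →ₐ[A] C ⧸ (𝔠 ^ (n + 1) ⊔ J) :=
    (Ideal.Quotient.factorₐ A (le_sup_right : J ≤ 𝔠 ^ (n + 1) ⊔ J)).comp u
  let g : C ⧸ 𝔠 ^ (n + 1) →ₐ[A] (C ⧸ 𝔠 ^ n) × (C ⧸ (𝔠 ^ (n + 1) ⊔ J)) := f₁.prod f₂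
  let w : B →ₐ[A] (C ⧸ 𝔠 ^ n) × (C ⧸ (𝔠 ^ (n + 1) ⊔ J)) := v.prod fu
  have hw : ∀ b : B, w b ∈ g.range := by
    intro b
    obtain ⟨c0, hc0⟩ := Ideal.Quotient.mk_surjective (v b)
    obtain ⟨c1, hc1⟩ := Ideal.Quotient.mk_surjective (u b)
    have h1 := congrArg (fun φ : B →ₐ[A] _ => φ b) hv1
    simp only [AlgHom.comp_apply, ← hc0, ← hc1] at h1
    have h2 : Ideal.Quotient.mk (𝔠 ^ n ⊔ J) c0 = Ideal.Quotient.mk (𝔠 ^ n ⊔ J) c1 := h1
    rw [Ideal.Quotient.eq, Submodule.mem_sup] at h2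
    obtain ⟨x, hx, j, hj, hxj⟩ := h2
    rw [AlgHom.mem_range]
    refine ⟨Ideal.Quotient.mk _ (c0 - x), ?_⟩
    refine Prod.ext ?_ ?_
    · show Ideal.Quotient.mk (𝔠 ^ n) (c0 - x) = v b
      rw [← hc0, Ideal.Quotient.eq]
      simpa using hx
    · show Ideal.Quotient.mk (𝔠 ^ (n + 1) ⊔ J) (c0 - x) = fu b
      have : fu b = Ideal.Quotient.mk (𝔠 ^ (n + 1) ⊔ J) c1 := by
        simp only [fu, AlgHom.comp_apply, ← hc1]
        rfl
      rw [this, Ideal.Quotient.eq]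
      have : c0 - x - c1 = j := by
        have : c0 - c1 = x + j := hxj.symm
        linear_combination this
      rw [this]
      exact Ideal.mem_sup_right hj
  let g' : C ⧸ 𝔠 ^ (n + 1) →ₐ[A] g.range := g.rangeRestrict
  let w' : B →ₐ[A] g.range := w.codRestrict g.range hw
  have hg' : Function.Surjective g' := g.rangeRestrict_surjective
  -- the kernel is nilpotent
  have hI₂ : (𝔠 ^ (n + 1) ⊔ J) ^ (1 + t * (n + 1)) ≤ 𝔠 ^ (n + 1) := by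
    refine Ideal.sup_pow_add_le_pow_sup_pow.trans ?_
    rw [pow_one, sup_le_iff]
    refine ⟨le_rfl, ?_⟩
    rw [pow_mul]
    exact Ideal.pow_right_mono ht (n + 1)
  have hker : (RingHom.ker g') ^ (1 + t * (n + 1)) = ⊥ := by
    have h1 : RingHom.ker g' ≤ (𝔠 ^ (n + 1) ⊔ J).map (Ideal.Quotient.mk (𝔠 ^ (n + 1))) := by
      intro x hx
      obtain ⟨c, rfl⟩ := Ideal.Quotient.mk_surjective x
      rw [RingHom.mem_ker] at hx
      have hx' : g (Ideal.Quotient.mk _ c) = 0 := by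
        have := congrArg Subtype.val hx
        simpa [g'] using this
      have hx2 : Ideal.Quotient.mk (𝔠 ^ (n + 1) ⊔ J) c = 0 := congrArg Prod.snd hx'
      exact Ideal.mem_map_of_mem _ (Ideal.Quotient.eq_zero_iff_mem.mp hx2)
    rw [eq_bot_iff]
    refine (Ideal.pow_right_mono h1 _).trans ?_
    rw [← Ideal.map_pow]
    refine (Ideal.map_mono hI₂).trans ?_
    rw [Ideal.map_quotient_self]
  have hE : ∃ k : ℕ, (𝔞 ^ k).map (algebraMap A (C ⧸ 𝔠 ^ (n + 1))) = ⊥ := by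
    refine ⟨ka * (n + 1), ?_⟩
    rw [eq_bot_iff, Ideal.map_le_iff_le_comap]
    intro a ha
    rw [Ideal.mem_comap, Ideal.mem_bot, IsScalarTower.algebraMap_apply A C (C ⧸ 𝔠 ^ (n + 1)),
      Ideal.Quotient.algebraMap_eq, Ideal.Quotient.eq_zero_iff_mem]
    have : (𝔞 ^ (ka * (n + 1))).map (algebraMap A C) ≤ 𝔠 ^ (n + 1) := by
      rw [pow_mul, Ideal.map_pow]
      exact Ideal.pow_right_mono hka (n + 1)
    exact this (Ideal.mem_map_of_mem _ ha)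
  have hfu : ∀ x ∈ 𝔟 ^ (ku * (n + 1)), fu x = 0 := by
    have h1 : (𝔟 ^ (ku * (n + 1))).map u.toRingHom ≤
        (𝔠 ^ (n + 1)).map (Ideal.Quotient.mk J) := by
      rw [pow_mul, Ideal.map_pow (Ideal.Quotient.mk J), Ideal.map_pow u.toRingHom (𝔟 ^ ku)]
      exact Ideal.pow_right_mono hku (n + 1)
    intro x hx
    have h2 : u x ∈ (𝔠 ^ (n + 1)).map (Ideal.Quotient.mk J) :=
      h1 (Ideal.mem_map_of_mem u.toRingHom hx)
    rw [Ideal.mem_map_iff_of_surjective _ Ideal.Quotient.mk_surjective] at h2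
    obtain ⟨c, hc, hcu⟩ := h2
    simp only [fu, AlgHom.comp_apply, ← hcu]
    show Ideal.Quotient.mk (𝔠 ^ (n + 1) ⊔ J) c = 0
    exact Ideal.Quotient.eq_zero_iff_mem.mpr (Ideal.mem_sup_left hc)
  have hw' : ∃ K : ℕ, ∀ x ∈ 𝔟 ^ K, w' x = 0 := by
    refine ⟨K₁ + ku * (n + 1), fun x hx => ?_⟩
    have hx1 : x ∈ 𝔟 ^ K₁ := Ideal.pow_le_pow_right (Nat.le_add_right _ _) hx
    have hx2 : x ∈ 𝔟 ^ (ku * (n + 1)) := Ideal.pow_le_pow_right (Nat.le_add_left _ _) hx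
    apply Subtype.ext
    show w x = 0
    exact Prod.ext (hK₁ x hx1) (hfu x hx2)
  obtain ⟨v', hv'⟩ := adic_lift 𝔞 𝔟 hB g' hg' ⟨_, hker⟩ hE w' hw'
  have hv'b : ∀ b, g (v' b) = w b := by
    intro b
    have := congrArg (fun φ : B →ₐ[A] g.range => (φ b : (C ⧸ 𝔠 ^ n) × (C ⧸ (𝔠 ^ (n + 1) ⊔ J)))) hv'
    exact this
  refine ⟨v', ⟨?_, ?_⟩, ?_⟩
  · ext b
    exact congrArg Prod.snd (hv'b b)
  · obtain ⟨K, hK⟩ := hw'
    have hkp := kills_pow 𝔟 (g' : _ →+* g.range) (v' : B →+* _) K (1 + t * (n + 1)) (by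
      intro x hx
      have := congrArg (fun φ : B →ₐ[A] g.range => φ x) hv'
      simp only [AlgHom.comp_apply] at this
      exact this.trans (hK x hx)) hker
    exact ⟨K * (1 + t * (n + 1)), fun x hx => hkp x hx⟩
  · ext b
    exact congrArg Prod.fst (hv'b b)

end step

/-- Let B (𝔟-adic) be formally smooth over A (𝔞-adic); let C be a topological A-algebra for the 𝔠-adic
topology (a power of 𝔞 maps into 𝔠) which is complete, and J an ideal which is closed, i.e. C/J is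
Hausdorff for the 𝔠-adic topology, and whose powers tend to 0, i.e. some power of J lies in 𝔠. Then
every continuous A-algebra homomorphism u : B → C/J (a power of 𝔟 maps into the image of 𝔠) factors
as B → C → C/J with B → C a continuous A-algebra homomorphism (a power of 𝔟 maps into 𝔠). -/
theorem result {A B C : Type u} [CommRing A] [CommRing B] [CommRing C] [Algebra A B]
    [Algebra A C] (𝔞 : Ideal A) (𝔟 : Ideal B) (𝔠 : Ideal C) (hB : EGA41.IsFormallySmoothAdic A 𝔞 B 𝔟)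
    [IsAdicComplete 𝔠 C] (hAC : ∃ k : ℕ, (𝔞 ^ k).map (algebraMap A C) ≤ 𝔠)
    (J : Ideal C) (hJ : ∃ t : ℕ, J ^ t ≤ 𝔠) [IsHausdorff (𝔠.map (Ideal.Quotient.mk J)) (C ⧸ J)]
    (u : B →ₐ[A] C ⧸ J) (hu : ∃ k : ℕ, (𝔟 ^ k).map u.toRingHom ≤ 𝔠.map (Ideal.Quotient.mk J)) :
    ∃ v : B →ₐ[A] C, (∃ k : ℕ, (𝔟 ^ k).map v.toRingHom ≤ 𝔠) ∧ (Ideal.Quotient.mkₐ A J).comp v = u := by
  have hstep := step 𝔞 𝔟 𝔠 J u hB hAC hJ hu
  -- the base of the induction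
  have h0 : J ≤ 𝔠 ^ 0 := by simp
  let v0 : B →ₐ[A] C ⧸ 𝔠 ^ 0 := (Ideal.Quotient.factorₐ A h0).comp u
  have hsub0 : Subsingleton (C ⧸ 𝔠 ^ 0) := by
    rw [Ideal.Quotient.subsingleton_iff]; simp
  have hsub0' : Subsingleton (C ⧸ (𝔠 ^ 0 ⊔ J)) := by
    rw [Ideal.Quotient.subsingleton_iff]; simp
  have hv0 : Good 𝔟 𝔠 J u 0 v0 := by
    refine ⟨?_, 0, fun x _ => Subsingleton.elim _ _⟩
    ext b
    exact Subsingleton.elim _ _
  let S' : (n : ℕ) → {v : B →ₐ[A] C ⧸ 𝔠 ^ n // Good 𝔟 𝔠 J u n v} := fun n =>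
    Nat.rec (motive := fun n => {v : B →ₐ[A] C ⧸ 𝔠 ^ n // Good 𝔟 𝔠 J u n v}) ⟨v0, hv0⟩
      (fun n p => ⟨Classical.choose (hstep n p.1 p.2),
        (Classical.choose_spec (hstep n p.1 p.2)).1⟩) n
  let S : (n : ℕ) → B →ₐ[A] C ⧸ 𝔠 ^ n := fun n => (S' n).1
  have hGood : ∀ n, Good 𝔟 𝔠 J u n (S n) := fun n => (S' n).2
  have hcompat1 : ∀ n, (Ideal.Quotient.factorₐ A
      (Ideal.pow_le_pow_right (Nat.le_succ n))).comp (S (n + 1)) = S n := by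
    intro n
    exact (Classical.choose_spec (hstep n (S' n).1 (S' n).2)).2
  have hcompat : ∀ {m n : ℕ} (hle : m ≤ n),
      (Ideal.Quotient.factorₐ A (Ideal.pow_le_pow_right hle)).comp (S n) = S m := by
    intro m n hle
    induction n, hle using Nat.le_induction with
    | base =>
      rw [Ideal.Quotient.factorₐ_refl]
      rfl
    | succ n hmn ih =>
      rw [← ih, ← hcompat1 n, ← AlgHom.comp_assoc, Ideal.Quotient.factorₐ_comp]
  let v : B →ₐ[A] C := IsAdicComplete.liftAlgHom 𝔠 S hcompat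
  have hmk : ∀ n b, Ideal.Quotient.mk (𝔠 ^ n) (v b) = S n b := fun n b =>
    IsAdicComplete.mk_liftAlgHom 𝔠 S hcompat n b
  have hvu : ∀ b, Ideal.Quotient.mk J (v b) = u b := by
    intro b
    rw [← sub_eq_zero]
    apply IsHausdorff.haus' (I := 𝔠.map (Ideal.Quotient.mk J))
    intro n
    rw [SModEq.zero, smul_eq_mul, Ideal.mul_top, ← Ideal.map_pow]
    obtain ⟨c1, hc1⟩ := Ideal.Quotient.mk_surjective (u b)
    have h1 := congrArg (fun φ : B →ₐ[A] _ => φ b) (hGood n).1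
    simp only [AlgHom.comp_apply, ← hc1, ← hmk n b] at h1
    have h2 : Ideal.Quotient.mk (𝔠 ^ n ⊔ J) (v b) = Ideal.Quotient.mk (𝔠 ^ n ⊔ J) c1 := h1
    rw [Ideal.Quotient.eq, Submodule.mem_sup] at h2
    obtain ⟨y, hy, j, hj, hyj⟩ := h2
    have h3 : Ideal.Quotient.mk J (v b) - u b = Ideal.Quotient.mk J y := by
      rw [← hc1, ← map_sub, ← hyj, map_add, Ideal.Quotient.eq_zero_iff_mem.mpr hj, add_zero]
    rw [h3]
    exact Ideal.mem_map_of_mem _ hy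
  refine ⟨v, ?_, ?_⟩
  · obtain ⟨ku, hku⟩ := hu
    obtain ⟨t, ht⟩ := hJ
    refine ⟨ku * (1 + t), ?_⟩
    have h1 : (𝔟 ^ ku).map v.toRingHom ≤ 𝔠 ⊔ J := by
      rw [Ideal.map_le_iff_le_comap]
      intro x hx
      rw [Ideal.mem_comap]
      have h2 : u x ∈ 𝔠.map (Ideal.Quotient.mk J) := hku (Ideal.mem_map_of_mem u.toRingHom hx)
      rw [Ideal.mem_map_iff_of_surjective _ Ideal.Quotient.mk_surjective] at h2
      obtain ⟨c, hc, hcu⟩ := h2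
      have h3 : v x - c ∈ J := by
        rw [← Ideal.Quotient.eq, hcu]
        exact hvu x
      have : v.toRingHom x = c + (v x - c) := by
        show v x = _
        ring
      rw [this]
      exact Ideal.add_mem _ (Ideal.mem_sup_left hc) (Ideal.mem_sup_right h3)
    rw [pow_mul, Ideal.map_pow]
    refine (Ideal.pow_right_mono h1 _).trans ?_
    refine Ideal.sup_pow_add_le_pow_sup_pow.trans ?_
    rw [pow_one, sup_le_iff]
    exact ⟨le_rfl, ht⟩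
  · ext b
    exact hvu b

end Groth.Agent.S4542
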