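import Groth.Statements.S0580
import Groth.Agent.H96.CohenStruct
import Groth.Agent.S0578
import Groth.Agent.S0579
-- import your own Groth.Agent.* helpers here

set_option autoImplicit false
universe u
open CAlg

namespace Groth.Agent.S0580

/-- A local ring complete with respect to a finitely generated maximal ideal is a quotient of a power
series ring in finitely many variables over a ring which is either a field or a Cohen ring. -/
theorem result (R : Type u) [CommRing R]
    [IsLocalRing R] [IsAdicComplete (IsLocalRing.maximalIdeal R) R]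
    (hfg : (IsLocalRing.maximalIdeal R).FG) :
    ∃ (Λ : Type u) (_ : CommRing Λ) (n : ℕ) (f : MvPowerSeries (Fin n) Λ →+* R),
      (IsField Λ ∨ CAlg.IsCohenRing Λ) ∧ Function.Surjective f := by
  classical
  obtain ⟨p, hp⟩ := CharP.exists (IsLocalRing.ResidueField R)
  rcases CharP.char_is_prime_or_zero (IsLocalRing.ResidueField R) p with hpp | hp0
  · -- residue characteristic `p`: a Cohen ring
    have : Fact p.Prime := ⟨hpp⟩
    obtain ⟨Λ, hΛ1, hΛ2, hW, ⟨e⟩⟩ := Groth.Agent.S0578.result p (IsLocalRing.ResidueField R)
    obtain ⟨hdom, hdvr, hcomp, p', hp', hm⟩ := id hW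
    let u : Λ →+* R ⧸ IsLocalRing.maximalIdeal R :=
      (e.toRingHom : IsLocalRing.ResidueField Λ →+* IsLocalRing.ResidueField R).comp
        (IsLocalRing.residue Λ)
    have hu0 : ∀ x ∈ IsLocalRing.maximalIdeal Λ, u x = 0 := by
      intro x hx
      show e (IsLocalRing.residue Λ x) = 0
      rw [(IsLocalRing.residue_eq_zero_iff x).2 hx, map_zero]
    obtain ⟨v, hv⟩ := Groth.Agent.H96.CohenStruct.exists_lift_cohen_residue hW u hu0
    have hsurj : Function.Surjective ((IsLocalRing.residue R).comp v) := by
      have h1 : (IsLocalRing.residue R).comp v = u := hv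
      rw [h1]
      exact e.surjective.comp IsLocalRing.residue_surjective
    obtain ⟨n, f, hf⟩ := Groth.Agent.H96.CohenStruct.exists_surjective_ps R hfg Λ v hsurj
    exact ⟨Λ, hΛ1, n, f, Or.inr hW, hf⟩
  · -- residue characteristic zero: a coefficient field
    subst hp0
    have : CharZero (IsLocalRing.ResidueField R) := CharP.charP_to_charZero _
    obtain ⟨s, hs⟩ := Groth.Agent.S0579.result R
    have hsurj : Function.Surjective ((IsLocalRing.residue R).comp s) := by
      rw [hs]
      exact Function.surjective_id
    have : IsAdicComplete (IsLocalRing.maximalIdeal (IsLocalRing.ResidueField R))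
        (IsLocalRing.ResidueField R) := by
      rw [IsLocalRing.maximalIdeal_eq_bot]
      infer_instance
    obtain ⟨n, f, hf⟩ := Groth.Agent.H96.CohenStruct.exists_surjective_ps R hfg
      (IsLocalRing.ResidueField R) s hsurj
    exact ⟨IsLocalRing.ResidueField R, inferInstance, n, f,
      Or.inl (Field.toIsField _), hf⟩

end Groth.Agent.S0580
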