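import Groth.Statements.S4535
import Groth.Agent.H23.AdicSmooth

set_option autoImplicit false
universe u
open EGA41

namespace Groth.Agent.S4535

open TensorProduct in
/-- Let B (𝔟-adic) be formally smooth over A (𝔞-adic) and let A' (𝔞'-adic) be a topological A-algebra (a
power of 𝔞 maps into 𝔞'). Then the A'-algebra A' ⊗_A B, with the tensor product topology, i.e. the
adic topology of the ideal generated by the images of 𝔞' and 𝔟, is formally smooth over A'. -/
theorem result {A B A' : Type u} [CommRing A] [CommRing B] [CommRing A'] [Algebra A B] [Algebra A A']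
    (𝔞 : Ideal A) (𝔟 : Ideal B) (𝔞' : Ideal A') (hAA' : ∃ k : ℕ, (𝔞 ^ k).map (algebraMap A A') ≤ 𝔞')
    (hB : EGA41.IsFormallySmoothAdic A 𝔞 B 𝔟) :
    EGA41.IsFormallySmoothAdic A' 𝔞' (A' ⊗[A] B)
      (𝔞'.map (algebraMap A' (A' ⊗[A] B)) ⊔
        𝔟.map (Algebra.TensorProduct.includeRight : B →ₐ[A] A' ⊗[A] B).toRingHom) := by
  intro D _ _ J hJ hD u hu
  obtain ⟨k₁, hk₁⟩ := hAA'
  obtain ⟨k, hk⟩ := hD
  obtain ⟨m, hm⟩ := hu
  let _ : Algebra A D := ((algebraMap A' D).comp (algebraMap A A')).toAlgebra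
  have : IsScalarTower A A' D := IsScalarTower.of_algebraMap_eq (fun a => rfl)
  have hD' : ∃ k : ℕ, (𝔞 ^ k).map (algebraMap A D) = ⊥ := by
    refine ⟨k₁ * k, ?_⟩
    rw [eq_bot_iff, IsScalarTower.algebraMap_eq A A' D, ← Ideal.map_map, pow_mul,
      Ideal.map_pow (algebraMap A A'), ← hk]
    exact Ideal.map_mono (Ideal.pow_right_mono hk₁ k)
  let u₀ : B →ₐ[A] D ⧸ J :=
    (u.restrictScalars A).comp (Algebra.TensorProduct.includeRight : B →ₐ[A] A' ⊗[A] B)
  have hu₀ : ∃ k : ℕ, ∀ x ∈ 𝔟 ^ k, u₀ x = 0 := by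
    refine ⟨m, fun x hx => ?_⟩
    apply hm
    have h1 : Ideal.map (Algebra.TensorProduct.includeRight : B →ₐ[A] A' ⊗[A] B).toRingHom (𝔟 ^ m) ≤
        (𝔞'.map (algebraMap A' (A' ⊗[A] B)) ⊔
          𝔟.map (Algebra.TensorProduct.includeRight : B →ₐ[A] A' ⊗[A] B).toRingHom) ^ m := by
      rw [Ideal.map_pow]
      exact Ideal.pow_right_mono le_sup_right m
    exact h1 (Ideal.mem_map_of_mem _ hx)
  obtain ⟨v, hv⟩ := hB D J hJ hD' u₀ hu₀
  let w : A' ⊗[A] B →ₐ[A'] D :=
    Algebra.TensorProduct.lift (Algebra.ofId A' D) v (fun _ _ => Commute.all _ _)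
  refine ⟨w, ?_⟩
  apply Algebra.TensorProduct.ext
  · ext
  · ext b
    have := congrArg (fun φ => φ b) hv
    simp only [AlgHom.comp_apply, Ideal.Quotient.mkₐ_eq_mk] at this
    simp only [AlgHom.comp_apply, Ideal.Quotient.mkₐ_eq_mk, AlgHom.restrictScalars_apply, w,
      Algebra.TensorProduct.includeRight_apply, Algebra.TensorProduct.lift_tmul, map_one, one_mul]
    rw [this]
    rfl

end Groth.Agent.S4535
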