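import Mathlib
import Groth.Statements.S9129
import Groth.Agent.H72.FlatCM
-- import your own Groth.Agent.* helpers here

set_option autoImplicit false
universe u
open CAlg

namespace Groth.Agent.S9129

open Groth.Agent.H72.FlatCM

/-- Suppose R → S is a flat local homomorphism between Noetherian local rings, with R Cohen–Macaulay.
Assume either that S is finite over R or that the Krull dimension of S is at most that of R. Then
the two rings have equal dimension and S is itself Cohen–Macaulay. -/
theorem result (R S : Type u) [CommRing R] [CommRing S]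
    [LocCoh.IsCohenMacaulayLocalRing R] [IsNoetherianRing S] [IsLocalRing S] [Algebra R S]
    [IsLocalHom (algebraMap R S)] [Module.Flat R S]
    (h : Module.Finite R S ∨ ringKrullDim S ≤ ringKrullDim R) :
    LocCoh.IsCohenMacaulayLocalRing S ∧ ringKrullDim R = ringKrullDim S := by
  have hdim := ringKrullDim_eq_add_of_flat (A := R) (B := S)
  obtain ⟨a, ha⟩ := exists_ringKrullDim_eq_natCast R
  obtain ⟨f, hf⟩ := exists_ringKrullDim_eq_natCast
    (S ⧸ Ideal.map (algebraMap R S) (IsLocalRing.maximalIdeal R))
  -- the closed fibre has dimension zero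
  have hF0 : ringKrullDim (S ⧸ Ideal.map (algebraMap R S) (IsLocalRing.maximalIdeal R)) = 0 := by
    apply le_antisymm _ ringKrullDim_nonneg_of_nontrivial
    rcases h with hfin | hle
    · have : Ring.KrullDimLE 0 (S ⧸ Ideal.map (algebraMap R S) (IsLocalRing.maximalIdeal R)) := by
        rw [Ring.krullDimLE_zero_iff]
        intro J hJ
        have hint : Algebra.IsIntegral R
            (S ⧸ Ideal.map (algebraMap R S) (IsLocalRing.maximalIdeal R)) := inferInstance
        apply Ideal.isMaximal_of_isIntegral_of_isMaximal_comap (R := R) J
        have hprime : (J.comap (algebraMap R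
            (S ⧸ Ideal.map (algebraMap R S) (IsLocalRing.maximalIdeal R)))).IsPrime :=
          Ideal.comap_isPrime _ J
        have hle : IsLocalRing.maximalIdeal R ≤ J.comap (algebraMap R
            (S ⧸ Ideal.map (algebraMap R S) (IsLocalRing.maximalIdeal R))) := by
          intro x hx
          rw [Ideal.mem_comap]
          have : algebraMap R (S ⧸ Ideal.map (algebraMap R S) (IsLocalRing.maximalIdeal R)) x
              = 0 := by
            rw [IsScalarTower.algebraMap_apply R S, Ideal.Quotient.algebraMap_eq,
              Ideal.Quotient.eq_zero_iff_mem]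
            exact Ideal.mem_map_of_mem _ hx
          rw [this]
          exact J.zero_mem
        rw [← (IsLocalRing.maximalIdeal.isMaximal R).eq_of_le hprime.ne_top hle]
        exact IsLocalRing.maximalIdeal.isMaximal R
      exact Ring.krullDimLE_iff.mp this
    · rw [hdim, ha, hf] at hle
      rw [hf]
      have : a + f ≤ a := by exact_mod_cast hle
      have hf0 : f = 0 := by omega
      rw [hf0]
      rfl
  have hFCM : LocCoh.IsCohenMacaulayLocalRing
      (S ⧸ Ideal.map (algebraMap R S) (IsLocalRing.maximalIdeal R)) := by
    rw [isCohenMacaulayLocalRing_iff, hF0]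
    have h2 := depth_le_ringKrullDim (S ⧸ Ideal.map (algebraMap R S) (IsLocalRing.maximalIdeal R))
    rw [hF0] at h2
    have h3 : LocCoh.depth (S ⧸ Ideal.map (algebraMap R S) (IsLocalRing.maximalIdeal R))
        (S ⧸ Ideal.map (algebraMap R S) (IsLocalRing.maximalIdeal R)) ≤ 0 := by
      exact_mod_cast h2
    rw [nonpos_iff_eq_zero.mp h3]
    rfl
  refine ⟨(isCohenMacaulayLocalRing_iff_of_flat (A := R) (B := S)).mpr ⟨inferInstance, hFCM⟩, ?_⟩
  rw [hdim, hF0, add_zero]

end Groth.Agent.S9129
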