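import Groth.Statements.S2487
import Groth.Agent.H23.FlatLiftUnique
import Groth.Agent.H23.FlatOfAdic2
import Groth.Agent.S4514
import Groth.Agent.H96.GeomRegAdic
import Groth.Agent.H47.CohenArtin
import Groth.Agent.H47.DVRAdic
import Groth.Agent.H26.ComplQuot

set_option autoImplicit false
universe u
open EGA41

namespace Groth.Agent.S2487

open IsLocalRing TensorProduct

set_option linter.style.haveILetI false

/-- The reduction map `B → B₀` attached to an isomorphism `(A/J) ⊗ B ≃ B₀`. -/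
theorem red {A : Type u} [CommRing A] (J : Ideal A) {B B₀ : Type u} [CommRing B] [CommRing B₀]
    [Algebra A B] [Algebra A B₀] [Algebra (A ⧸ J) B₀] [IsScalarTower A (A ⧸ J) B₀]
    (u : (A ⧸ J) ⊗[A] B ≃ₐ[A ⧸ J] B₀) :
    ∃ p : B →ₐ[A] B₀, Function.Surjective p ∧ RingHom.ker p = J.map (algebraMap A B) ∧
      ∀ b, p b = u ((1 : A ⧸ J) ⊗ₜ[A] b) := by
  let p : B →ₐ[A] B₀ :=
    ((u.restrictScalars A : (A ⧸ J) ⊗[A] B ≃ₐ[A] B₀) : (A ⧸ J) ⊗[A] B →ₐ[A] B₀).comp
      Algebra.TensorProduct.includeRight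
  have hpb : ∀ b, p b = u ((1 : A ⧸ J) ⊗ₜ[A] b) := fun b => rfl
  refine ⟨p, ?_, ?_, hpb⟩
  · intro y
    obtain ⟨c, hc⟩ := TensorProduct.mk_surjective A B (A ⧸ J) Ideal.Quotient.mk_surjective
      (u.symm y)
    refine ⟨c, ?_⟩
    rw [hpb]
    rw [TensorProduct.mk_apply] at hc
    rw [hc, AlgEquiv.apply_symm_apply]
  · ext b
    rw [RingHom.mem_ker]
    show p b = 0 ↔ _
    rw [hpb, map_eq_zero_iff u u.injective,
      ← Algebra.TensorProduct.quotIdealMapEquivQuotTensor_mk (B := B) (I := J),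
      map_eq_zero_iff _ (AlgEquiv.injective _), Ideal.Quotient.eq_zero_iff_mem]


open IsLocalRing TensorProduct in
/-- Let A be a Noetherian local ring, J an ideal contained in the maximal ideal, A₀ = A/J, and B₀ a
complete Noetherian local ring with a local homomorphism A₀ → B₀ making B₀ formally smooth over A₀
(adic topologies). Then (existence) there are a complete Noetherian local ring B, a local
homomorphism A → B making B a flat A-module, and an A₀-algebra isomorphism u : A₀ ⊗_A B ≅ B₀;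
(uniqueness) if (B', u') is another such pair, there is an A-algebra isomorphism v : B ≅ B' with u'
∘ (1 ⊗ v) = u. -/
theorem result {A : Type u} [CommRing A] [IsLocalRing A] [IsNoetherianRing A]
    (J : Ideal A) (hJ : J ≤ maximalIdeal A) [IsLocalRing (A ⧸ J)]
    (B₀ : Type u) [CommRing B₀] [IsLocalRing B₀] [IsNoetherianRing B₀] [IsAdicComplete (maximalIdeal B₀) B₀]
    [Algebra (A ⧸ J) B₀] [IsLocalHom (algebraMap (A ⧸ J) B₀)]
    (hfs : EGA41.IsFormallySmoothAdic (A ⧸ J) (maximalIdeal (A ⧸ J)) B₀ (maximalIdeal B₀)) :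
    (∃ (B : Type u) (_ : CommRing B) (_ : IsLocalRing B) (_ : IsNoetherianRing B) (_ : Algebra A B) (_ : IsLocalHom (algebraMap A B)),
      IsAdicComplete (maximalIdeal B) B ∧ Module.Flat A B ∧ Nonempty ((A ⧸ J) ⊗[A] B ≃ₐ[A ⧸ J] B₀)) ∧
    ∀ (B B' : Type u) [CommRing B] [IsLocalRing B] [IsNoetherianRing B] [Algebra A B] [IsLocalHom (algebraMap A B)]
      [CommRing B'] [IsLocalRing B'] [IsNoetherianRing B'] [Algebra A B'] [IsLocalHom (algebraMap A B')],
      IsAdicComplete (maximalIdeal B) B → Module.Flat A B → IsAdicComplete (maximalIdeal B') B' → Module.Flat A B' →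
      ∀ (u : (A ⧸ J) ⊗[A] B ≃ₐ[A ⧸ J] B₀) (u' : (A ⧸ J) ⊗[A] B' ≃ₐ[A ⧸ J] B₀),
      ∃ v : B ≃ₐ[A] B', (u' : (A ⧸ J) ⊗[A] B' →ₐ[A ⧸ J] B₀).comp
          (Algebra.TensorProduct.map (AlgHom.id (A ⧸ J) (A ⧸ J)) (v : B →ₐ[A] B')) = (u : (A ⧸ J) ⊗[A] B →ₐ[A ⧸ J] B₀) := by
  classical
  have hle₀ : (maximalIdeal (A ⧸ J)).map (algebraMap (A ⧸ J) B₀) ≤ maximalIdeal B₀ := by
    rw [Ideal.map_le_iff_le_comap]
    intro a ha
    rw [Ideal.mem_comap, mem_maximalIdeal, mem_nonunits_iff]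
    intro hu
    exact (mem_maximalIdeal _).1 ha (isUnit_of_map_unit (algebraMap (A ⧸ J) B₀) a hu)
  have hR : CAlgX.IsAdicFormallySmooth (A ⧸ J) B₀ (maximalIdeal B₀) :=
    Groth.Agent.H47.DVRAdic.calgx_of_ega41 _ _ hfs hle₀
  letI algAB₀ : Algebra A B₀ := ((algebraMap (A ⧸ J) B₀).comp (Ideal.Quotient.mk J)).toAlgebra
  haveI : IsScalarTower A (A ⧸ J) B₀ := IsScalarTower.of_algebraMap_eq' rfl
  refine ⟨?_, ?_⟩
  · -- existence
    have hm₀map : (maximalIdeal A).map (Ideal.Quotient.mk J) = maximalIdeal (A ⧸ J) :=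
      Groth.Agent.H47.CohenArtin.map_maximalIdeal_of_surjective _ Ideal.Quotient.mk_surjective
    have hI : (maximalIdeal (A ⧸ J)).map (algebraMap (A ⧸ J) B₀) ≠ ⊤ := fun h' =>
      (maximalIdeal.isMaximal B₀).ne_top (top_le_iff.1 (h' ▸ hle₀))
    haveI : Nontrivial (B₀ ⧸ (maximalIdeal (A ⧸ J)).map (algebraMap (A ⧸ J) B₀)) :=
      Ideal.Quotient.nontrivial_iff.2 hI
    haveI : IsLocalRing (B₀ ⧸ (maximalIdeal (A ⧸ J)).map (algebraMap (A ⧸ J) B₀)) :=
      IsLocalRing.of_surjective' (Ideal.Quotient.mk _) Ideal.Quotient.mk_surjective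
    have hmC : (maximalIdeal B₀).map
        (Ideal.Quotient.mk ((maximalIdeal (A ⧸ J)).map (algebraMap (A ⧸ J) B₀))) =
        maximalIdeal (B₀ ⧸ (maximalIdeal (A ⧸ J)).map (algebraMap (A ⧸ J) B₀)) :=
      Groth.Agent.H47.CohenArtin.map_maximalIdeal_of_surjective _ Ideal.Quotient.mk_surjective
    have h₀₀ := Groth.Agent.H47.DVRAdic.adic_quotient (maximalIdeal (A ⧸ J)) (maximalIdeal B₀) hR
    rw [hmC] at h₀₀
    haveI : IsAdicComplete
        (maximalIdeal (B₀ ⧸ (maximalIdeal (A ⧸ J)).map (algebraMap (A ⧸ J) B₀)))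
        (B₀ ⧸ (maximalIdeal (A ⧸ J)).map (algebraMap (A ⧸ J) B₀)) :=
      Groth.Agent.H26.ComplQuot.isAdicComplete_quotient _
    letI : Field ((A ⧸ J) ⧸ maximalIdeal (A ⧸ J)) := Ideal.Quotient.field _
    haveI : IsRegularLocalRing (B₀ ⧸ (maximalIdeal (A ⧸ J)).map (algebraMap (A ⧸ J) B₀)) :=
      Groth.Agent.H96.GeomRegAdic.regular_of_adic_field ((A ⧸ J) ⧸ maximalIdeal (A ⧸ J)) _ h₀₀
    -- the residue field of `A` acts on the closed fibre
    have hkill : ∀ a ∈ maximalIdeal A,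
        algebraMap A (B₀ ⧸ (maximalIdeal (A ⧸ J)).map (algebraMap (A ⧸ J) B₀)) a = 0 := by
      intro a ha
      show Ideal.Quotient.mk _ (algebraMap (A ⧸ J) B₀ (Ideal.Quotient.mk J a)) = 0
      rw [Ideal.Quotient.eq_zero_iff_mem]
      refine Ideal.mem_map_of_mem _ ?_
      rw [← hm₀map]
      exact Ideal.mem_map_of_mem _ ha
    letI algk : Algebra (A ⧸ maximalIdeal A)
        (B₀ ⧸ (maximalIdeal (A ⧸ J)).map (algebraMap (A ⧸ J) B₀)) :=
      (Ideal.Quotient.lift (maximalIdeal A)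
        (algebraMap A (B₀ ⧸ (maximalIdeal (A ⧸ J)).map (algebraMap (A ⧸ J) B₀))) hkill).toAlgebra
    haveI htow : IsScalarTower A (A ⧸ maximalIdeal A)
        (B₀ ⧸ (maximalIdeal (A ⧸ J)).map (algebraMap (A ⧸ J) B₀)) :=
      IsScalarTower.of_algebraMap_eq (fun a => rfl)
    letI algk' : Algebra (ResidueField A)
        (B₀ ⧸ (maximalIdeal (A ⧸ J)).map (algebraMap (A ⧸ J) B₀)) := algk
    obtain ⟨C, _, _, _, _, _, hCc, hCf, ⟨e⟩⟩ := Groth.Agent.S4514.result (A := A)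
      (B₀ ⧸ (maximalIdeal (A ⧸ J)).map (algebraMap (A ⧸ J) B₀))
    haveI := hCc
    haveI := hCf
    let e' : (A ⧸ maximalIdeal A) ⊗[A] C ≃ₐ[A ⧸ maximalIdeal A]
        (B₀ ⧸ (maximalIdeal (A ⧸ J)).map (algebraMap (A ⧸ J) B₀)) := e
    obtain ⟨g, hg, hgk, hge⟩ := red (maximalIdeal A) e'
    -- the reduction `C ⧸ J C`
    have hleC : (maximalIdeal A).map (algebraMap A C) ≤ maximalIdeal C := by
      rw [Ideal.map_le_iff_le_comap]
      intro a ha
      rw [Ideal.mem_comap, mem_maximalIdeal, mem_nonunits_iff]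
      intro hu
      exact (mem_maximalIdeal _).1 ha (isUnit_of_map_unit (algebraMap A C) a hu)
    have hJC : J.map (algebraMap A C) ≤ (maximalIdeal A).map (algebraMap A C) := Ideal.map_mono hJ
    have hIC : J.map (algebraMap A C) ≠ ⊤ := fun h' =>
      (maximalIdeal.isMaximal C).ne_top (top_le_iff.1 (h' ▸ hJC.trans hleC))
    haveI : Nontrivial (C ⧸ J.map (algebraMap A C)) := Ideal.Quotient.nontrivial_iff.2 hIC
    haveI : IsLocalRing (C ⧸ J.map (algebraMap A C)) :=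
      IsLocalRing.of_surjective' (Ideal.Quotient.mk _) Ideal.Quotient.mk_surjective
    haveI : IsAdicComplete (maximalIdeal (C ⧸ J.map (algebraMap A C)))
        (C ⧸ J.map (algebraMap A C)) :=
      Groth.Agent.H26.ComplQuot.isAdicComplete_quotient _
    haveI : Module.Flat (A ⧸ J) (C ⧸ J.map (algebraMap A C)) :=
      Module.Flat.of_linearEquiv
        (Algebra.TensorProduct.quotIdealMapEquivQuotTensor C J).toLinearEquiv
    haveI : Module.Flat (A ⧸ J) B₀ := Groth.Agent.H23.FlatOfAdic.flat_of_adic hR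
    -- the two reductions
    let p₀ : (C ⧸ J.map (algebraMap A C)) →+*
        (B₀ ⧸ (maximalIdeal (A ⧸ J)).map (algebraMap (A ⧸ J) B₀)) :=
      Ideal.Quotient.lift (J.map (algebraMap A C)) (g : C →+* _) (fun c hc => by
        have : c ∈ RingHom.ker g := hgk ▸ hJC hc
        exact this)
    have hp₀mk : ∀ c : C, p₀ (Ideal.Quotient.mk _ c) = g c := fun c => rfl
    let p : (C ⧸ J.map (algebraMap A C)) →ₐ[A ⧸ J]
        (B₀ ⧸ (maximalIdeal (A ⧸ J)).map (algebraMap (A ⧸ J) B₀)) :=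
      { p₀ with
        commutes' := fun c => by
          obtain ⟨a, rfl⟩ := Ideal.Quotient.mk_surjective c
          show p₀ (Ideal.Quotient.mk _ (algebraMap A C a)) = _
          rw [hp₀mk, AlgHom.commutes]
          rfl }
    have hpmk : ∀ c : C, p (Ideal.Quotient.mk _ c) = g c := fun c => rfl
    have hp : Function.Surjective p := by
      intro y
      obtain ⟨c, rfl⟩ := hg y
      exact ⟨Ideal.Quotient.mk _ c, rfl⟩
    have hpk : RingHom.ker p =
        (maximalIdeal (A ⧸ J)).map (algebraMap (A ⧸ J) (C ⧸ J.map (algebraMap A C))) := by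
      have h1 : (maximalIdeal (A ⧸ J)).map (algebraMap (A ⧸ J) (C ⧸ J.map (algebraMap A C))) =
          ((maximalIdeal A).map (algebraMap A C)).map (Ideal.Quotient.mk (J.map (algebraMap A C))) := by
        rw [← hm₀map, Ideal.map_map, Ideal.map_map]
        rfl
      rw [h1]
      ext x
      obtain ⟨c, rfl⟩ := Ideal.Quotient.mk_surjective x
      rw [RingHom.mem_ker, Ideal.mem_quotient_iff_mem hJC, ← hgk, RingHom.mem_ker]
      rfl
    let p' : B₀ →ₐ[A ⧸ J] (B₀ ⧸ (maximalIdeal (A ⧸ J)).map (algebraMap (A ⧸ J) B₀)) :=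
      Ideal.Quotient.mkₐ (A ⧸ J) ((maximalIdeal (A ⧸ J)).map (algebraMap (A ⧸ J) B₀))
    have hp' : Function.Surjective p' :=
      Ideal.Quotient.mkₐ_surjective (A ⧸ J) ((maximalIdeal (A ⧸ J)).map (algebraMap (A ⧸ J) B₀))
    have hpk' : RingHom.ker p' = (maximalIdeal (A ⧸ J)).map (algebraMap (A ⧸ J) B₀) :=
      Ideal.Quotient.mkₐ_ker (A ⧸ J) ((maximalIdeal (A ⧸ J)).map (algebraMap (A ⧸ J) B₀))
    have key := Groth.Agent.H23.FlatLiftUnique.exists_algEquiv_of_flat_lifts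
      (A := A ⧸ J) (B := C ⧸ J.map (algebraMap A C)) (B' := B₀)
      (R := B₀ ⧸ (maximalIdeal (A ⧸ J)).map (algebraMap (A ⧸ J) B₀))
      (maximalIdeal (A ⧸ J)) h₀₀
    obtain ⟨v, -⟩ := key p hp hpk p' hp' hpk'
    exact ⟨C, inferInstance, inferInstance, inferInstance, inferInstance, inferInstance, hCc, hCf,
      ⟨(Algebra.TensorProduct.quotIdealMapEquivQuotTensor C J).symm.trans v⟩⟩
  · intro B B' _ _ _ _ _ _ _ _ _ _ hBc hBf hB'c hB'f u u'
    haveI := hBc
    haveI := hBf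
    haveI := hB'c
    haveI := hB'f
    obtain ⟨p, hp, hpk, hpu⟩ := red J u
    obtain ⟨p', hp', hpk', hpu'⟩ := red J u'
    obtain ⟨v, hv⟩ := Groth.Agent.H23.FlatLiftUnique.exists_algEquiv_of_flat_lifts J hR p hp hpk
      p' hp' hpk'
    refine ⟨v, ?_⟩
    apply Algebra.TensorProduct.ext
    · ext
    · ext b
      show u' ((1 : A ⧸ J) ⊗ₜ[A] v b) = u ((1 : A ⧸ J) ⊗ₜ[A] b)
      rw [← hpu, ← hpu', hv]

end Groth.Agent.S2487
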