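import Groth.Statements.S9231
import Mathlib
import Groth.Agent.H97.ComplFlat

set_option autoImplicit false
universe u
open CAlg

namespace Groth.Agent.S9231

/-- For a local ring map A → B between Noetherian local rings, let ψ be the induced map from the
completion of A at its maximal ideal to that of B (here: a ring map of the completions whose
composite with A → A^ is the composite A → B → B^; since A is Noetherian such a map is unique, hence
is the canonical one). Then ψ is flat exactly when A → B is flat. -/
theorem result (A B : Type u) [CommRing A] [CommRing B] [IsLocalRing A]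
    [IsLocalRing B] [IsNoetherianRing A] [IsNoetherianRing B] [Algebra A B]
    [IsLocalHom (algebraMap A B)]
    (ψ : AdicCompletion (IsLocalRing.maximalIdeal A) A →+* AdicCompletion (IsLocalRing.maximalIdeal B) B)
    (hψ : ψ.comp (algebraMap A (AdicCompletion (IsLocalRing.maximalIdeal A) A)) =
      (algebraMap B (AdicCompletion (IsLocalRing.maximalIdeal B) B)).comp (algebraMap A B)) :
    ψ.Flat ↔ (algebraMap A B).Flat := by
  classical
  have hNA : IsNoetherianRing (AdicCompletion (IsLocalRing.maximalIdeal A) A) :=
    Groth.Agent.H20.isNoetherianRing_adicCompletion _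
  have hNB : IsNoetherianRing (AdicCompletion (IsLocalRing.maximalIdeal B) B) :=
    Groth.Agent.H20.isNoetherianRing_adicCompletion _
  letI algψ : Algebra (AdicCompletion (IsLocalRing.maximalIdeal A) A)
      (AdicCompletion (IsLocalRing.maximalIdeal B) B) := ψ.toAlgebra
  have hst : IsScalarTower A (AdicCompletion (IsLocalRing.maximalIdeal A) A)
      (AdicCompletion (IsLocalRing.maximalIdeal B) B) := by
    refine IsScalarTower.of_algebraMap_eq (fun a => ?_)
    exact (RingHom.congr_fun hψ a).symm
  have hst' : IsScalarTower A B (AdicCompletion (IsLocalRing.maximalIdeal B) B) :=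
    IsScalarTower.of_algebraMap_eq (fun _ => rfl)
  have hmap : (IsLocalRing.maximalIdeal (AdicCompletion (IsLocalRing.maximalIdeal A) A)) =
      (IsLocalRing.maximalIdeal A).map
        (algebraMap A (AdicCompletion (IsLocalRing.maximalIdeal A) A)) :=
    AdicCompletion.maximalIdeal_eq_map
  have hmapB : (IsLocalRing.maximalIdeal (AdicCompletion (IsLocalRing.maximalIdeal B) B)) =
      (IsLocalRing.maximalIdeal B).map
        (algebraMap B (AdicCompletion (IsLocalRing.maximalIdeal B) B)) :=
    AdicCompletion.maximalIdeal_eq_map
  have hloc : IsLocalHom (algebraMap (AdicCompletion (IsLocalRing.maximalIdeal A) A)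
      (AdicCompletion (IsLocalRing.maximalIdeal B) B)) := by
    refine ((IsLocalRing.local_hom_TFAE (algebraMap (AdicCompletion (IsLocalRing.maximalIdeal A) A)
      (AdicCompletion (IsLocalRing.maximalIdeal B) B))).out 2 0).mp ?_
    rw [hmap, Ideal.map_map, hmapB]
    have : (algebraMap (AdicCompletion (IsLocalRing.maximalIdeal A) A)
        (AdicCompletion (IsLocalRing.maximalIdeal B) B)).comp
          (algebraMap A (AdicCompletion (IsLocalRing.maximalIdeal A) A)) =
        (algebraMap B (AdicCompletion (IsLocalRing.maximalIdeal B) B)).comp (algebraMap A B) := hψ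
    rw [this, ← Ideal.map_map]
    exact Ideal.map_mono (IsLocalRing.map_maximalIdeal_le (algebraMap A B))
  rw [RingHom.flat_algebraMap_iff]
  show Module.Flat (AdicCompletion (IsLocalRing.maximalIdeal A) A)
      (AdicCompletion (IsLocalRing.maximalIdeal B) B) ↔ Module.Flat A B
  constructor
  · intro hfl
    have h1 : Module.Flat A (AdicCompletion (IsLocalRing.maximalIdeal B) B) :=
      Module.Flat.trans A (AdicCompletion (IsLocalRing.maximalIdeal A) A) _
    have h2 : Module.FaithfullyFlat B (AdicCompletion (IsLocalRing.maximalIdeal B) B) :=
      Module.FaithfullyFlat.of_flat_of_isLocalHom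
    exact Groth.Agent.H97.ComplFlat.flat_of_faithfullyFlat_of_flat A B
      (AdicCompletion (IsLocalRing.maximalIdeal B) B)
  · intro hfl
    have h1 : Module.Flat A (AdicCompletion (IsLocalRing.maximalIdeal B) B) :=
      Module.Flat.trans A B _
    apply Groth.Agent.H70.FlatAss.flat_of_tor1Zero_residue
      (A := AdicCompletion (IsLocalRing.maximalIdeal A) A)
      (B := AdicCompletion (IsLocalRing.maximalIdeal B) B)
      (AdicCompletion (IsLocalRing.maximalIdeal B) B)
    rw [Groth.Agent.H70.FC.T1.tor1Zero_quotient_iff, hmap]
    apply Groth.Agent.H97.ComplFlat.rTensor_subtype_injective_of_map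
    exact Module.Flat.rTensor_preserves_injective_linearMap _ (Submodule.injective_subtype _)

end Groth.Agent.S9231
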