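import Mathlib
import Groth.Statements.S9314
import Groth.Agent.H72.AndreMain
import Groth.Agent.H72.FormalLoc
import Groth.Agent.H72.FormalEquidim
import Groth.Agent.S9317
import Groth.Agent.H26.RegHomComp
import Groth.Agent.H26.RegHomDescent
-- import your own Groth.Agent.* helpers here

set_option autoImplicit false
universe u
open CAlg

namespace Groth.Agent.S9314

open IsLocalRing
set_option linter.style.haveILetI false

/-- Let `A` and `B` be Noetherian local rings and `A → B` a local ring map, and suppose that the map
from `A` to its completion along the maximal ideal is a regular ring map. If `A → B` is formally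
smooth for the adic topology of the maximal ideal of `B`, then `A → B` is a regular ring map: flat,
with Noetherian fibres that are geometrically regular over the residue fields of `A`. -/
theorem result {A B : Type u}
    [CommRing A] [CommRing B] [IsLocalRing A] [IsLocalRing B] [IsNoetherianRing A]
    [IsNoetherianRing B] [Algebra A B] [IsLocalHom (algebraMap A B)]
    (hA : CAlg.IsRegularHom A (AdicCompletion (IsLocalRing.maximalIdeal A) A))
    (h : CAlgX.IsAdicFormallySmooth A B (IsLocalRing.maximalIdeal B)) :
    CAlg.IsRegularHom A B := by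
  haveI := Groth.Agent.H72.FormalEquidim.isLocalRing_compl A
  haveI := Groth.Agent.H72.FormalEquidim.isNoetherianRing_compl A
  haveI := Groth.Agent.H72.FormalEquidim.isLocalHom_compl A
  haveI := Groth.Agent.H72.FormalEquidim.isLocalRing_compl B
  haveI := Groth.Agent.H72.FormalEquidim.isNoetherianRing_compl B
  haveI := Groth.Agent.H72.FormalEquidim.isLocalHom_compl B
  haveI hcA : IsAdicComplete (maximalIdeal (AdicCompletion (maximalIdeal A) A))
      (AdicCompletion (maximalIdeal A) A) :=
    AdicCompletion.isAdicComplete_of_fg (maximalIdeal A).fg_of_isNoetherianRing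
  haveI hcB : IsAdicComplete (maximalIdeal (AdicCompletion (maximalIdeal B) B))
      (AdicCompletion (maximalIdeal B) B) :=
    AdicCompletion.isAdicComplete_of_fg (maximalIdeal B).fg_of_isNoetherianRing
  have hle : (maximalIdeal A).map (algebraMap A B) ≤ maximalIdeal B :=
    ((IsLocalRing.local_hom_TFAE (algebraMap A B)).out 0 2).mp ‹IsLocalHom (algebraMap A B)›
  have hψ := Groth.Agent.H72.FormalLoc.complMap_comp_algebraMap (maximalIdeal A) (maximalIdeal B)
    (algebraMap A B) hle
  have h1 := (Groth.Agent.S9317.result (maximalIdeal A) (maximalIdeal B)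
    (maximalIdeal A).fg_of_isNoetherianRing (maximalIdeal B).fg_of_isNoetherianRing
    ⟨1, by rw [pow_one]; exact hle⟩ _ hψ).mp h
  letI alg : Algebra (AdicCompletion (maximalIdeal A) A) (AdicCompletion (maximalIdeal B) B) :=
    (FSch.complMap (maximalIdeal A) (maximalIdeal B) (algebraMap A B) hle).toAlgebra
  have h2 : CAlgX.IsAdicFormallySmooth (AdicCompletion (maximalIdeal A) A)
      (AdicCompletion (maximalIdeal B) B)
      (maximalIdeal (AdicCompletion (maximalIdeal B) B)) := by
    rw [AdicCompletion.maximalIdeal_eq_map (R := B)]
    exact h1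
  haveI hloc : IsLocalHom (algebraMap (AdicCompletion (maximalIdeal A) A)
      (AdicCompletion (maximalIdeal B) B)) := by
    refine ((IsLocalRing.local_hom_TFAE (algebraMap (AdicCompletion (maximalIdeal A) A)
      (AdicCompletion (maximalIdeal B) B))).out 2 0).mp ?_
    rw [AdicCompletion.maximalIdeal_eq_map (R := A), Ideal.map_map,
      AdicCompletion.maximalIdeal_eq_map (R := B)]
    have : (algebraMap (AdicCompletion (maximalIdeal A) A)
        (AdicCompletion (maximalIdeal B) B)).comp
          (algebraMap A (AdicCompletion (maximalIdeal A) A)) =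
        (algebraMap B (AdicCompletion (maximalIdeal B) B)).comp (algebraMap A B) := hψ
    rw [this, ← Ideal.map_map]
    exact Ideal.map_mono hle
  have h3 : CAlg.IsRegularHom (AdicCompletion (maximalIdeal A) A)
      (AdicCompletion (maximalIdeal B) B) :=
    Groth.Agent.H72.Andre.isRegularHom_of_adic _ _ h2
  haveI : IsScalarTower A (AdicCompletion (maximalIdeal A) A)
      (AdicCompletion (maximalIdeal B) B) :=
    IsScalarTower.of_algebraMap_eq' (by
      rw [IsScalarTower.algebraMap_eq A B (AdicCompletion (maximalIdeal B) B)]
      exact hψ.symm)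
  have h4 : CAlg.IsRegularHom A (AdicCompletion (maximalIdeal B) B) :=
    Groth.Agent.H26.RegHomComp.isRegularHom_comp A (AdicCompletion (maximalIdeal A) A)
      (AdicCompletion (maximalIdeal B) B) hA h3
      (fun p _ => Groth.Agent.H26.SkFlat.isNoetherianRing_fiber _ p)
  haveI : Module.FaithfullyFlat B (AdicCompletion (maximalIdeal B) B) :=
    Module.FaithfullyFlat.of_flat_of_isLocalHom
  exact Groth.Agent.H26.RegHomDescent.isRegularHom_of_comp_of_faithfullyFlat A B
    (AdicCompletion (maximalIdeal B) B) h4

end Groth.Agent.S9314
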