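import Groth.Statements.S0791
import Groth.Agent.H4.ProperOver2

set_option autoImplicit false
universe u
open Coherent

namespace Groth.Agent.S0791

open CategoryTheory AlgebraicGeometry in
/-- Let f : X → S be locally of finite type. A finite union of closed subsets of X that are proper over
S is again proper over S. -/
theorem result {X S : Scheme.{u}} (f : X ⟶ S) [LocallyOfFiniteType f]
    (ι : Type) [Finite ι] (Z : ι → Set X) (hZ : ∀ i, ClSub.IsProperOver f (Z i)) :
    ClSub.IsProperOver f (Set.iUnion Z) := by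
  have hW : IsClosed (Set.iUnion Z) := isClosed_iUnion_of_finite fun i => (hZ i).1
  refine ⟨hW, ?_⟩
  have hle : ∀ i, Scheme.IdealSheafData.vanishingIdeal ⟨Set.iUnion Z, hW⟩ ≤
      Scheme.IdealSheafData.vanishingIdeal ⟨Z i, (hZ i).1⟩ := fun i =>
    Scheme.IdealSheafData.vanishingIdeal_antimono (Set.subset_iUnion Z i)
  refine Groth.Agent.H4.isProper_of_finite_jointly_surjective
    (fun i => Scheme.IdealSheafData.inclusion (hle i)) _ ?_ (fun i => inferInstance) ?_
  · intro t
    have ht : (Scheme.IdealSheafData.vanishingIdeal ⟨Set.iUnion Z, hW⟩).subschemeι t ∈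
        Set.iUnion Z :=
      (Groth.Agent.H4.range_vanishingIdeal_subschemeι (Set.iUnion Z) hW).subset
        (Set.mem_range_self t)
    obtain ⟨i, hi⟩ := Set.mem_iUnion.mp ht
    obtain ⟨z, hz⟩ := (Groth.Agent.H4.range_vanishingIdeal_subschemeι (Z i) (hZ i).1).symm.subset hi
    refine ⟨i, z, ?_⟩
    apply (Scheme.IdealSheafData.vanishingIdeal
      ⟨Set.iUnion Z, hW⟩).subschemeι.isClosedEmbedding.injective
    rw [← Scheme.Hom.comp_apply, Scheme.IdealSheafData.inclusion_subschemeι, hz]
  · intro i
    rw [← Category.assoc, Scheme.IdealSheafData.inclusion_subschemeι]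
    exact (hZ i).2

end Groth.Agent.S0791
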