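import Groth.Statements.S2038
import Groth.Agent.H23.AdicOfFlat
import Groth.Agent.H23.FlatOfAdic2
import Groth.Agent.H23.GeomRegIff
import Groth.Agent.H23.AdicLocal

set_option autoImplicit false
universe u
open CAlg

namespace Groth.Agent.S2038

open IsLocalRing TensorProduct


/-- Let `A → B` be a local homomorphism of Noetherian local rings with residue field `k` of `A`. Then `A
→ B` is flat with special fibre `B ⊗ k` geometrically regular over `k` if and only if `A → B` is
formally smooth for the adic topology of the maximal ideal of `B`. -/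
theorem result {A B : Type u} [CommRing A] [CommRing B]
    [IsLocalRing A] [IsLocalRing B] [IsNoetherianRing A] [IsNoetherianRing B] [Algebra A B]
    [IsLocalHom (algebraMap A B)] :
    (Module.Flat A B ∧ CAlg.IsGeometricallyRegular (IsLocalRing.maximalIdeal A).ResidueField
        ((IsLocalRing.maximalIdeal A).Fiber B)) ↔
      CAlgX.IsAdicFormallySmooth A B (IsLocalRing.maximalIdeal B) := by
  classical
  -- notation
  have hmax : (maximalIdeal A).IsMaximal := maximalIdeal.isMaximal A
  have hbij : Function.Bijective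
      (algebraMap (A ⧸ maximalIdeal A) (maximalIdeal A).ResidueField) :=
    (maximalIdeal A).bijective_algebraMap_quotient_residueField
  have hle : (maximalIdeal A).map (algebraMap A B) ≤ maximalIdeal B := by
    rw [Ideal.map_le_iff_le_comap]
    intro a ha
    rw [Ideal.mem_comap, mem_maximalIdeal, mem_nonunits_iff]
    intro hu
    exact (mem_maximalIdeal _).1 ha (isUnit_of_map_unit (algebraMap A B) a hu)
  have hI : (maximalIdeal A).map (algebraMap A B) ≠ ⊤ := fun h' =>
    (maximalIdeal.isMaximal B).ne_top (top_le_iff.1 (h' ▸ hle))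
  haveI : Nontrivial (B ⧸ (maximalIdeal A).map (algebraMap A B)) :=
    Ideal.Quotient.nontrivial_iff.2 hI
  haveI : IsLocalRing (B ⧸ (maximalIdeal A).map (algebraMap A B)) :=
    IsLocalRing.of_surjective' (Ideal.Quotient.mk _) Ideal.Quotient.mk_surjective
  have hmC : (maximalIdeal B).map (Ideal.Quotient.mk ((maximalIdeal A).map (algebraMap A B))) =
      maximalIdeal (B ⧸ (maximalIdeal A).map (algebraMap A B)) :=
    Groth.Agent.H47.CohenArtin.map_maximalIdeal_of_surjective _ Ideal.Quotient.mk_surjective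
  -- the fibre as a quotient
  let e₁ : (B ⧸ (maximalIdeal A).map (algebraMap A B)) ≃ₐ[A ⧸ maximalIdeal A]
      (A ⧸ maximalIdeal A) ⊗[A] B :=
    Algebra.TensorProduct.quotIdealMapEquivQuotTensor B (maximalIdeal A)
  let ι : (A ⧸ maximalIdeal A) ≃ₐ[A ⧸ maximalIdeal A] (maximalIdeal A).ResidueField :=
    AlgEquiv.ofBijective (Algebra.ofId _ _) hbij
  let e₂ : (A ⧸ maximalIdeal A) ⊗[A] B ≃ₐ[A ⧸ maximalIdeal A] (maximalIdeal A).Fiber B :=
    Algebra.TensorProduct.congr ι AlgEquiv.refl
  let e : (B ⧸ (maximalIdeal A).map (algebraMap A B)) ≃ₐ[A ⧸ maximalIdeal A]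
      (maximalIdeal A).Fiber B := e₁.trans e₂
  haveI : IsLocalRing ((maximalIdeal A).Fiber B) := e.toRingEquiv.isLocalRing
  haveI : IsNoetherianRing ((maximalIdeal A).Fiber B) :=
    isNoetherianRing_of_ringEquiv _ e.toRingEquiv
  have he1 : ∀ y ∈ maximalIdeal (B ⧸ (maximalIdeal A).map (algebraMap A B)),
      e y ∈ maximalIdeal ((maximalIdeal A).Fiber B) := by
    intro y hy
    rw [mem_maximalIdeal, mem_nonunits_iff] at hy ⊢
    intro hu
    exact hy ((isUnit_map_iff e.toRingEquiv y).1 hu)
  have he2 : ∀ y ∈ maximalIdeal ((maximalIdeal A).Fiber B),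
      e.symm y ∈ maximalIdeal (B ⧸ (maximalIdeal A).map (algebraMap A B)) := by
    intro y hy
    rw [mem_maximalIdeal, mem_nonunits_iff] at hy ⊢
    intro hu
    exact hy ((isUnit_map_iff e.symm.toRingEquiv y).1 hu)
  have key : CAlgX.IsAdicFormallySmooth (A ⧸ maximalIdeal A)
      (B ⧸ (maximalIdeal A).map (algebraMap A B))
      ((maximalIdeal B).map (Ideal.Quotient.mk ((maximalIdeal A).map (algebraMap A B)))) ↔
      CAlg.IsGeometricallyRegular (maximalIdeal A).ResidueField ((maximalIdeal A).Fiber B) := by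
    rw [hmC, ← Groth.Agent.H23.GeomRegIff.adic_iff_geomReg,
      Groth.Agent.H23.AdicOfFlat.adic_iff_of_bijective hbij]
    constructor
    · intro h
      exact Groth.Agent.H23.AdicLocal.adic_of_algEquiv e.symm _ _ (fun y hy => he1 y hy) h
    · intro h
      exact Groth.Agent.H23.AdicLocal.adic_of_algEquiv e _ _ (fun y hy => he2 y hy) h
  constructor
  · rintro ⟨hflat, hgr⟩
    haveI := hflat
    exact Groth.Agent.H23.AdicOfFlat.adic_of_flat (key.2 hgr)
  · intro h
    exact ⟨Groth.Agent.H23.FlatOfAdic.flat_of_adic h,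
      key.1 (Groth.Agent.H47.DVRAdic.adic_quotient (maximalIdeal A) (maximalIdeal B) h)⟩

end Groth.Agent.S2038
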