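import Groth.Statements.S9235
import Mathlib.RingTheory.Ideal.MinimalPrime.Basic
import Mathlib.RingTheory.LocalRing.MaximalIdeal.Basic
import Mathlib.SetTheory.Cardinal.Finite

set_option autoImplicit false
universe u
open Brnch

namespace Groth.Agent.S9235

/-- A local ring A has exactly one branch if and only if it is unibranch. Here the number of branches is
computed as the number of maximal ideals of the integral closure of A_red in its total ring of
fractions (infinity when A has infinitely many minimal primes). -/
theorem result (A : Type u) [CommRing A] [IsLocalRing A] :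
    Brnch.numBranches A = 1 ↔ CAlg2.IsUnibranch A := by
  classical
  have hnil_le : ∀ q ∈ minimalPrimes A, nilradical A ≤ q := by
    intro q hq
    have : sInf (minimalPrimes A) ≤ q := sInf_le hq
    rwa [minimalPrimes, Ideal.sInf_minimalPrimes] at this
  have hsInf : sInf (minimalPrimes A) = nilradical A := by
    rw [minimalPrimes, Ideal.sInf_minimalPrimes]; rfl
  have hntA : Nontrivial (CAlg2.red A) := by
    apply Ideal.Quotient.nontrivial_iff.mpr
    intro h
    have : (1 : A) ∈ nilradical A := by rw [h]; trivial
    rw [mem_nilradical] at this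
    exact not_isNilpotent_one this
  have hntN : Nontrivial (CAlg2.normRed A) := inferInstance
  constructor
  · intro h
    have hfin : (minimalPrimes A).Finite := by
      by_contra hcon
      unfold Brnch.numBranches at h
      rw [if_neg hcon] at h
      exact ENat.top_ne_one h
    unfold Brnch.numBranches at h
    rw [if_pos hfin, ENat.card_eq_one_iff_unique] at h
    obtain ⟨hU⟩ := h
    have hloc : IsLocalRing (CAlg2.normRed A) := IsLocalRing.of_singleton_maximalSpectrum
    refine ⟨?_, hloc⟩
    -- the reduction is a domain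
    rw [Ideal.Quotient.isDomain_iff_prime]
    by_contra hnp
    -- there are two distinct minimal primes
    obtain ⟨p₁, hp₁, -⟩ := Ideal.exists_minimalPrimes_le (bot_le : (⊥ : Ideal A) ≤ IsLocalRing.maximalIdeal A)
    have hp₁' : p₁ ∈ minimalPrimes A := hp₁
    have hex : ∃ p₂ ∈ minimalPrimes A, p₂ ≠ p₁ := by
      by_contra hcon
      push Not at hcon
      have : minimalPrimes A = {p₁} := by
        ext q
        constructor
        · intro hq; exact hcon q hq
        · rintro rfl; exact hp₁'
      apply hnp
      rw [← hsInf, this, sInf_singleton]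
      exact hp₁'.1.1
    obtain ⟨p₂, hp₂, hp₂ne⟩ := hex
    let s' : Finset (Ideal A) := hfin.toFinset.erase p₁
    have hs' : ∀ q, q ∈ s' ↔ q ∈ minimalPrimes A ∧ q ≠ p₁ := by
      intro q
      simp only [s', Finset.mem_erase, Set.Finite.mem_toFinset]
      tauto
    have hminle : ∀ q ∈ minimalPrimes A, ∀ q' ∈ minimalPrimes A, q ≤ q' → q = q' := by
      intro q hq q' hq' hle
      exact le_antisymm hle (hq'.2 ⟨hq.1.1, bot_le⟩ hle)
    -- the element a
    have ha : ∃ a : A, (∀ q ∈ s', a ∈ q) ∧ a ∉ p₁ := by
      have hnle : ¬ (s'.inf id ≤ p₁) := by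
        intro hle
        rw [Ideal.IsPrime.inf_le' hp₁'.1.1] at hle
        obtain ⟨q, hq, hqle⟩ := hle
        rw [hs'] at hq
        exact hq.2 (hminle q hq.1 p₁ hp₁' hqle)
      rw [SetLike.not_le_iff_exists] at hnle
      obtain ⟨a, ha, hap⟩ := hnle
      refine ⟨a, fun q hq => ?_, hap⟩
      exact (Finset.inf_le hq : s'.inf id ≤ id q) ha
    obtain ⟨a, haq, hap₁⟩ := ha
    -- the element b
    have hb : ∃ b : A, b ∈ p₁ ∧ ∀ q ∈ s', b ∉ q := by
      have hnsub : ¬ ((p₁ : Set A) ⊆ ⋃ q ∈ (s' : Set (Ideal A)), (id q : Ideal A)) := by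
        intro hsub
        rw [Ideal.subset_union_prime (R := A) (s := s') (f := id) p₁ p₁] at hsub
        · obtain ⟨q, hq, hqle⟩ := hsub
          rw [hs'] at hq
          exact hq.2 (hminle p₁ hp₁' q hq.1 hqle).symm
        · intro q hq _ _
          exact ((hs' q).mp hq).1.1.1
      rw [Set.not_subset] at hnsub
      obtain ⟨b, hb, hbn⟩ := hnsub
      refine ⟨b, hb, fun q hq hbq => hbn ?_⟩
      exact Set.mem_biUnion (Finset.mem_coe.mpr hq) hbq
    obtain ⟨b, hbp₁, hbq⟩ := hb
    have hab : a * b ∈ nilradical A := by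
      rw [← hsInf, Ideal.mem_sInf]
      intro q hq
      by_cases hqp : q = p₁
      · rw [hqp]; exact p₁.mul_mem_left a hbp₁
      · exact q.mul_mem_right b (haq q ((hs' q).mpr ⟨hq, hqp⟩))
    have habnot : ∀ q ∈ minimalPrimes A, a + b ∉ q := by
      intro q hq hmem
      by_cases hqp : q = p₁
      · rw [hqp] at hmem
        exact hap₁ ((p₁.add_mem_iff_left hbp₁).mp hmem)
      · have hq' := (hs' q).mpr ⟨hq, hqp⟩
        exact hbq q hq' ((q.add_mem_iff_right (haq q hq')).mp hmem)
    set R := CAlg2.red A
    let c : R := Ideal.Quotient.mk (nilradical A) (a + b)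
    have hc : c ∈ nonZeroDivisors R := by
      rw [mem_nonZeroDivisors_iff_right]
      intro xb hx
      obtain ⟨x, rfl⟩ := Ideal.Quotient.mk_surjective xb
      rw [← map_mul, Ideal.Quotient.eq_zero_iff_mem] at hx
      rw [Ideal.Quotient.eq_zero_iff_mem, ← hsInf, Ideal.mem_sInf]
      intro q hq
      have h1 : x * (a + b) ∈ q := hnil_le q hq hx
      exact (hq.1.1.mem_or_mem h1).resolve_right (habnot q hq)
    let ab : R := Ideal.Quotient.mk (nilradical A) a
    let bb : R := Ideal.Quotient.mk (nilradical A) b
    have habb : ab * bb = 0 := by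
      rw [← map_mul]; exact Ideal.Quotient.eq_zero_iff_mem.mpr hab
    have hcab : c = ab + bb := map_add _ a b
    let ε : FractionRing R := IsLocalization.mk' (FractionRing R) ab ⟨c, hc⟩
    have hεidem : ε * ε = ε := by
      rw [← IsLocalization.mk'_mul, IsLocalization.mk'_eq_iff_eq]
      congr 1
      simp only [Submonoid.coe_mul]
      rw [hcab]
      have : ab * (ab + bb) = ab * ab := by rw [mul_add, habb, add_zero]
      calc (ab + bb) * (ab * ab) = ab * (ab * (ab + bb)) := by ring
        _ = ab * (ab * ab) := by rw [this]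
        _ = (ab + bb) * (ab + bb) * ab := by
          have h2 : (ab + bb) * (ab + bb) * ab = ab * (ab * (ab + bb)) + bb * (ab + bb) * ab := by
            ring
          have h3 : bb * (ab + bb) * ab = (ab * bb) * (ab + bb) := by ring
          rw [h2, h3, habb, zero_mul, add_zero, this]
    have hεint : IsIntegral R ε := by
      refine ⟨Polynomial.X ^ 2 - Polynomial.X, ?_, ?_⟩
      · exact Polynomial.monic_X_pow_sub (by simp)
      · simp [pow_two, hεidem]
    let ε' : CAlg2.normRed A := ⟨ε, hεint⟩
    have hε'idem : ε' * ε' = ε' := Subtype.ext hεidem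
    rcases IsLocalRing.isUnit_or_isUnit_one_sub_self ε' with hu | hu
    · -- ε' = 1
      have h1 : ε' = 1 := by
        have := hu.mul_left_cancel (a := ε') (b := ε') (c := 1) (by rw [hε'idem, mul_one])
        exact this
      have h2 : ε = 1 := congrArg Subtype.val h1
      rw [IsLocalization.mk'_eq_iff_eq_mul, one_mul] at h2
      have h3 : ab = c := IsLocalization.injective (FractionRing R) (le_refl _) h2
      rw [hcab, left_eq_add] at h3
      have h4 : b ∈ nilradical A := Ideal.Quotient.eq_zero_iff_mem.mp h3
      exact hbq p₂ ((hs' p₂).mpr ⟨hp₂, hp₂ne⟩) (hnil_le p₂ hp₂ h4)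
    · -- ε' = 0
      have h1 : ε' = 0 := by
        have h0 : (1 - ε') * ε' = 0 := by rw [sub_mul, one_mul, hε'idem, sub_self]
        exact (hu.mul_right_eq_zero).mp h0
      have h2 : ε = 0 := congrArg Subtype.val h1
      rw [IsLocalization.mk'_eq_zero_iff] at h2
      obtain ⟨m, hm⟩ := h2
      have h3 : ab = 0 := (mem_nonZeroDivisors_iff.mp m.2).1 ab hm
      exact hap₁ (hnil_le p₁ hp₁' (Ideal.Quotient.eq_zero_iff_mem.mp h3))
  · rintro ⟨hdom, hloc⟩
    have hprime : (nilradical A).IsPrime := (Ideal.Quotient.isDomain_iff_prime _).mp hdom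
    have hfin : (minimalPrimes A).Finite := by
      apply (Set.finite_singleton (nilradical A)).subset
      intro q hq
      rw [Set.mem_singleton_iff]
      exact le_antisymm (hq.2 ⟨hprime, bot_le⟩ (hnil_le q hq)) (hnil_le q hq)
    unfold Brnch.numBranches
    rw [if_pos hfin, ENat.card_eq_one_iff_unique]
    exact ⟨inferInstance⟩

end Groth.Agent.S9235
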