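import Groth.Statements.S1996
import Groth.Agent.H10.FlatDescent

set_option autoImplicit false
universe u
open EtAlg

namespace Groth.Agent.S1996

open TensorProduct in
/-- Let A -> B -> C be ring maps with B -> C faithfully flat. Weak etaleness of A -> C then implies weak
etaleness of A -> B. -/
theorem result (A B C : Type u) [CommRing A] [CommRing B] [CommRing C] [Algebra A B]
    [Algebra B C] [Algebra A C] [IsScalarTower A B C] [Module.FaithfullyFlat B C] [Algebra.WeaklyEtale A C] :
    Algebra.WeaklyEtale A B := by
  have hAB : Module.Flat A B := Groth.Agent.H10.flat_of_flat_of_faithfullyFlat A B C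
  refine ⟨hAB, ?_⟩
  let φ : B →ₐ[A] C := IsScalarTower.toAlgHom A B C
  have hφ : φ.Flat := by
    change (algebraMap B C).Flat
    rw [RingHom.flat_algebraMap_iff]
    infer_instance
  have h1 : (Algebra.TensorProduct.map φ φ).Flat := RingHom.Flat.tensorProductMap hφ hφ
  have h2 := Algebra.WeaklyEtale.flat_lmul' A C
  have h3 : ((algebraMap B C).comp (Algebra.TensorProduct.lmul' A (S := B)).toRingHom).Flat := by
    have : (algebraMap B C).comp (Algebra.TensorProduct.lmul' A (S := B)).toRingHom =
        (Algebra.TensorProduct.lmul' A (S := C)).toRingHom.comp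
          (Algebra.TensorProduct.map φ φ).toRingHom := by
      have : (φ.comp (Algebra.TensorProduct.lmul' A (S := B))) =
          (Algebra.TensorProduct.lmul' A (S := C)).comp (Algebra.TensorProduct.map φ φ) := by
        ext <;> simp
      exact congrArg AlgHom.toRingHom this
    rw [this]
    exact h1.comp h2
  exact Groth.Agent.H10.ringHomFlat_of_comp_of_faithfullyFlat _ _
    (RingHom.faithfullyFlat_algebraMap_iff.mpr inferInstance) h3

end Groth.Agent.S1996
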