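import Groth.Statements.S4104
import Groth.Agent.H93.HopfFaithfulSub

set_option autoImplicit false
universe u
open CategoryTheory MonoidalCategory CartesianMonoidalCategory MonObj GrpObj AlgebraicGeometry CategoryTheory.Limits
open SGA3
open TensorProduct

namespace Groth.Agent.S4104

/-- Let φ : A' → A be a bialgebra map between commutative Hopf algebras over a field k (a homomorphism
of affine k-groups Spec A → Spec A', not necessarily of finite type). If the corresponding morphism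
of schemes is a monomorphism, i.e. φ is an epimorphism in the category of commutative rings, then φ
is surjective (the homomorphism is a closed immersion). -/
theorem result (k : Type u) [Field k] (A' A : Type u) [CommRing A'] [HopfAlgebra k A']
    [CommRing A] [HopfAlgebra k A] (φ : A' →ₐc[k] A)
    (hepi : ∀ (R : Type u) [CommRing R] (f g : A →+* R), f.comp (φ : A' →+* A) = g.comp (φ : A' →+* A) → f = g) :
    Function.Surjective φ := by
  classical
  set R₀ := (φ : A' →ₐ[k] A).range with hR₀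
  haveI : Module.FaithfullyFlat ↥R₀ A :=
    Groth.Agent.H93.HopfFaithful.faithfullyFlat_sub R₀
      (Groth.Agent.H93.HopfFaithful.isHopfSub_range φ)
  have hmem : ∀ a' : A', φ a' ∈ R₀ := fun a' => AlgHom.mem_range_self (φ : A' →ₐ[k] A) a'
  have hepi' : ∀ a : A, a ⊗ₜ[↥R₀] (1 : A) = (1 : A) ⊗ₜ[↥R₀] a := by
    intro a
    have h := hepi (A ⊗[↥R₀] A) (Algebra.TensorProduct.includeLeftRingHom)
      ((Algebra.TensorProduct.includeRight : A →ₐ[↥R₀] A ⊗[↥R₀] A) : A →+* A ⊗[↥R₀] A) (by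
        ext a'
        change (φ a') ⊗ₜ[↥R₀] (1 : A) = (1 : A) ⊗ₜ[↥R₀] (φ a')
        have h1 : φ a' = (⟨φ a', hmem a'⟩ : ↥R₀) • (1 : A) := by
          rw [Algebra.smul_def, _root_.mul_one]; rfl
        calc (φ a') ⊗ₜ[↥R₀] (1 : A)
            = ((⟨φ a', hmem a'⟩ : ↥R₀) • (1 : A)) ⊗ₜ[↥R₀] (1 : A) := by rw [← h1]
          _ = (1 : A) ⊗ₜ[↥R₀] ((⟨φ a', hmem a'⟩ : ↥R₀) • (1 : A)) := by
              rw [TensorProduct.smul_tmul]
          _ = (1 : A) ⊗ₜ[↥R₀] (φ a') := by rw [← h1])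
    exact RingHom.congr_fun h a
  have hsurj : Function.Surjective (algebraMap A (A ⊗[↥R₀] A)) := by
    intro x
    induction x using TensorProduct.induction_on with
    | zero => exact ⟨0, map_zero _⟩
    | tmul a b =>
      refine ⟨a * b, ?_⟩
      change (a * b) ⊗ₜ[↥R₀] (1 : A) = a ⊗ₜ[↥R₀] b
      calc (a * b) ⊗ₜ[↥R₀] (1 : A) = a ⊗ₜ[↥R₀] (1 : A) * b ⊗ₜ[↥R₀] (1 : A) := by
            rw [Algebra.TensorProduct.tmul_mul_tmul, _root_.mul_one]
        _ = a ⊗ₜ[↥R₀] (1 : A) * (1 : A) ⊗ₜ[↥R₀] b := by rw [hepi' b]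
        _ = a ⊗ₜ[↥R₀] b := by rw [Algebra.TensorProduct.tmul_mul_tmul, _root_.mul_one, _root_.one_mul]
    | add x y hx hy =>
      obtain ⟨x', rfl⟩ := hx
      obtain ⟨y', rfl⟩ := hy
      exact ⟨x' + y', map_add _ _ _⟩
  have hs := Module.FaithfullyFlat.surjective_of_tensorProduct (R := ↥R₀) (S := A) (T := A) hsurj
  intro a
  obtain ⟨⟨_, ⟨a', rfl⟩⟩, h⟩ := hs a
  exact ⟨a', h⟩

end Groth.Agent.S4104
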