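import Groth.Statements.S5262
import Groth.Agent.H3.MTHensHom
import Groth.Agent.H3.MTFinProps
import Groth.Agent.S2985
set_option linter.style.haveILetI false
open Groth.Agent.H3.CartRing

set_option autoImplicit false
universe u
open TensorProduct SGA3b
open SGA3b

namespace Groth.Agent.S5262

/-- Full faithfulness of the reduction functor. Let A be a henselian local ring with residue field k,
and G = Spec B, H = Spec C two A-groups of multiplicative type with B and C finite over A. Then
reduction to the closed fibre is a bijection from homomorphisms of A-groups G ⟶ H (bialgebra maps C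
→ B) to homomorphisms of k-groups G₀ ⟶ H₀: two bialgebra maps C → B with the same reduction are
equal, and every bialgebra map k ⊗ C → k ⊗ B over k is a reduction. (The published statement is an
equivalence of categories between groups of multiplicative type finite over A and over k; this row
states only full faithfulness, i.e. that reduction is bijective on homomorphisms.) (Affine group
schemes over an affine base are taken in Hopf-algebra form; base change is the tensor product; a
homomorphism of groups Spec A ⟶ Spec C is a bialgebra map C → A.) -/
theorem result (A : Type u) [CommRing A] [HenselianLocalRing A]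
    (B : Type u) [CommRing B] [HopfAlgebra A B] [Module.Finite A B] (hG : IsMultType A B)
    (C : Type u) [CommRing C] [HopfAlgebra A C] [Module.Finite A C] (hH : IsMultType A C) :
    (∀ φ ψ : C →ₐc[A] B, (∀ c : C, (1 : IsLocalRing.ResidueField A) ⊗ₜ[A] (φ c) =
        (1 : IsLocalRing.ResidueField A) ⊗ₜ[A] (ψ c)) → φ = ψ) ∧
    (∀ φ₀ : (IsLocalRing.ResidueField A ⊗[A] C) →ₐc[IsLocalRing.ResidueField A] (IsLocalRing.ResidueField A ⊗[A] B),
      ∃ φ : C →ₐc[A] B, ∀ c : C, φ₀ ((1 : IsLocalRing.ResidueField A) ⊗ₜ[A] c) =
        (1 : IsLocalRing.ResidueField A) ⊗ₜ[A] (φ c)) := by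
  haveI := isCocomm_of_isMultType A B hG
  haveI := isCocomm_of_isMultType A C hH
  haveI := projective_of_isMultType A B hG
  haveI := projective_of_isMultType A C hH
  haveI := etale_dual_of_isMultType A B hG
  have hhens : HenselianRing A (IsLocalRing.maximalIdeal A) := inferInstance
  refine ⟨?_, ?_⟩
  · intro φ ψ hφψ
    haveI : Module.FinitePresentation A C := Module.finitePresentation_of_projective _ _
    have hC : Algebra.FinitePresentation A C := Algebra.FinitePresentation.of_finitePresentation _ _
    refine Groth.Agent.S2985.result A B (inferInstance : Algebra.FiniteType A B) hG C hC φ ψ ?_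
    intro c
    let θ := Algebra.TensorProduct.quotIdealMapEquivQuotTensor (A := A) B
      (IsLocalRing.maximalIdeal A)
    have hθ : ∀ b : B, θ (Ideal.Quotient.mk _ b) = 1 ⊗ₜ b := fun b => rfl
    rw [← Ideal.Quotient.eq]
    apply θ.injective
    rw [hθ, hθ]
    exact hφψ c
  · intro φ₀
    exact exists_lift_bialgHom A (IsLocalRing.maximalIdeal A) hhens B C φ₀

end Groth.Agent.S5262
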