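import Groth.Statements.S5242
import Groth.Agent.H15.MTTors

set_option autoImplicit false
universe u
open TensorProduct SGA3b
open SGA3b

namespace Groth.Agent.S5242

/-- Let G = Spec A be an R-group of multiplicative type and of finite type and n > 0 an integer. Then
the kernel ₙG = Spec (A/J) of the n-th power map of G, J being the ideal generated by the image of
the augmentation ideal under the n-th power endomorphism (a Hopf ideal; the instance hypothesis
holds automatically for this J), is an R-group of multiplicative type which is finite over R.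
(Affine group schemes over an affine base are taken in Hopf-algebra form; base change is the tensor
product; a homomorphism of groups Spec A ⟶ Spec C is a bialgebra map C → A.) -/
theorem result (R : Type u) [CommRing R] (A : Type u) [CommRing A] [HopfAlgebra R A]
    (hft : Algebra.FiniteType R A) (h : IsMultType R A) (n : ℕ) (hn : 0 < n)
    (J : Ideal A) [J.IsHopfIdeal R] (hJ : J = torsionIdeal R A n) :
    IsMultType R (A ⧸ J) ∧ Module.Finite R (A ⧸ J) := by
  classical
  obtain ⟨s, hs, hconst⟩ := h
  have hQ : ∀ f ∈ s, IsMultTypeConst (Localization.Away f) (Localization.Away f ⊗[R] (A ⧸ J)) := by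
    intro f hf
    obtain ⟨R', hR', hA1, hA2, hST, N, hN, L, hFF, hL⟩ :=
      Groth.Agent.H15.MTC.exists_chart R A f (hconst f hf)
    have hD := Groth.Agent.H15.MTQ.hasDChart_torsion L hL.coalg hL.bc n J hJ
    have hD1 := hD.baseChange (Localization.Away f)
    have hD2 := (hD1.baseChange R').nonempty_equiv
    exact ⟨R', hR', hA2, hFF, _, inferInstance, hD2⟩
  have hmt : IsMultType R (A ⧸ J) := ⟨s, hs, hQ⟩
  refine ⟨hmt, ?_⟩
  have hT : torsionIdeal R (A ⧸ J) n = ⊥ := by
    rw [Groth.Agent.H15.MT.torsionIdeal_eq_bot_iff]
    intro x hx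
    obtain ⟨a, rfl⟩ := Ideal.Quotient.mk_surjective x
    have hx' : Coalgebra.counit (R := R) a = 0 := hx
    have h1 := Groth.Agent.H15.MT.powConv_apply (Bialgebra.Quotient.mkBialgHom (R := R) J) n a
    change Ideal.Quotient.mk J (powConv R A n a) = powConv R (A ⧸ J) n (Ideal.Quotient.mk J a) at h1
    rw [← h1, Ideal.Quotient.eq_zero_iff_mem, hJ]
    exact Ideal.mem_map_of_mem _ hx'
  haveI : Algebra.FiniteType R (A ⧸ J) :=
    hft.of_surjective (Ideal.Quotient.mkₐ R J) (Ideal.Quotient.mkₐ_surjective R J)
  haveI : ∀ g : s, IsLocalizedModule.Away g.1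
      (TensorProduct.mk R (Localization.Away g.1) (A ⧸ J) 1) := fun g =>
    (isLocalizedModule_iff_isBaseChange (Submonoid.powers g.1) (Localization.Away g.1) _).mpr
      (TensorProduct.isBaseChange R (A ⧸ J) (Localization.Away g.1))
  apply Module.Finite.of_localizationSpan' s hs
    (Rₚ := fun g => Localization.Away g.1)
    (f := fun g => TensorProduct.mk R (Localization.Away g.1) (A ⧸ J) 1)
  intro g
  exact Groth.Agent.H15.MT.finite_of_torsionIdeal_eq_bot (Localization.Away g.1)
    (Localization.Away g.1 ⊗[R] (A ⧸ J)) inferInstance (hQ g.1 g.2) n hn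
    (Groth.Agent.H15.MT.torsionIdeal_bc_eq_bot _ _ n hT)

end Groth.Agent.S5242
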