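import Groth.Statements.S0532
import Groth.Agent.H78.HensFinEt

set_option autoImplicit false
universe u
open Hensel TensorProduct

namespace Groth.Agent.S0532

/-- If `A` is Henselian at `I`, every finite étale `A/I`-algebra is the base change of a finite étale
`A`-algebra. -/
theorem result (A : Type u) [CommRing A] (I : Ideal A) [HenselianRing A I]
    (C : Type u) [CommRing C] [Algebra (A ⧸ I) C] [Module.Finite (A ⧸ I) C] [Algebra.Etale (A ⧸ I) C] :
    ∃ (B : Type u) (_ : CommRing B) (_ : Algebra A B), Module.Finite A B ∧ Algebra.Etale A B ∧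
      Nonempty (TensorProduct A (A ⧸ I) B ≃ₐ[A ⧸ I] C) := by
  classical
  have h : HenselianRing A I := inferInstance
  obtain ⟨B₀, _, _, hB₀et, ⟨eq₀⟩⟩ := Groth.Agent.H47.exists_etale_lift_quotient A I C
  -- finiteness of the reduction
  have hfinA : Module.Finite A ((A ⧸ I) ⊗[A] B₀) := by
    haveI : Module.Finite (A ⧸ I) ((A ⧸ I) ⊗[A] B₀) :=
      Module.Finite.equiv eq₀.symm.toLinearEquiv
    exact Module.Finite.trans (A ⧸ I) _
  have hfinA' : Module.Finite A (B₀ ⧸ Ideal.map (algebraMap A B₀) I) := by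
    haveI := hfinA
    have e1 := TensorProduct.quotTensorEquivQuotSMul B₀ I
    have e2 : (B₀ ⧸ (I • (⊤ : Submodule A B₀))) ≃ₗ[A]
        (B₀ ⧸ ((Ideal.map (algebraMap A B₀) I).restrictScalars A)) :=
      Submodule.quotEquivOfEq _ _ (Ideal.smul_top_eq_map I)
    exact Module.Finite.equiv (e1.trans e2)
  have hfin : Module.Finite (A ⧸ I) (B₀ ⧸ Ideal.map (algebraMap A B₀) I) :=
    Module.Finite.of_restrictScalars_finite A (A ⧸ I) _
  obtain ⟨e₀, he₀, h1e, hint⟩ := H78.HensFinEt.exists_idempotent_isIntegral_quotient I h hfin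
  let B := B₀ ⧸ Ideal.span {1 - e₀}
  let π : B₀ →ₐ[A] B := Ideal.Quotient.mkₐ A _
  refine ⟨B, inferInstance, inferInstance, Algebra.IsIntegral.finite, ?_, ?_⟩
  · haveI : IsLocalization.Away e₀ B := IsLocalization.Away.quotient_of_isIdempotentElem he₀
    haveI : Algebra.Etale B₀ B := Algebra.Etale.of_isLocalizationAway e₀
    exact Algebra.Etale.comp A B₀ B
  · -- the isomorphism `(A/I) ⊗ B ≃ (A/I) ⊗ B₀ ≃ C`
    let incR : B₀ →ₐ[A] (A ⧸ I) ⊗[A] B₀ := Algebra.TensorProduct.includeRight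
    have hker : ∀ a ∈ Ideal.span {1 - e₀}, incR a = 0 := by
      intro a ha
      obtain ⟨c, rfl⟩ := Ideal.mem_span_singleton'.mp ha
      rw [map_mul]
      have : incR (1 - e₀) = 0 := H78.HensFinEt.one_tmul_eq_zero_of_mem I h1e
      rw [this, mul_zero]
    let φ : B →ₐ[A] (A ⧸ I) ⊗[A] B₀ := Ideal.Quotient.liftₐ _ incR hker
    let f : (A ⧸ I) ⊗[A] B₀ →ₐ[A ⧸ I] (A ⧸ I) ⊗[A] B :=
      Algebra.TensorProduct.map (AlgHom.id (A ⧸ I) (A ⧸ I)) π
    let g : (A ⧸ I) ⊗[A] B →ₐ[A ⧸ I] (A ⧸ I) ⊗[A] B₀ :=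
      Algebra.TensorProduct.lift (Algebra.ofId (A ⧸ I) _) φ (fun _ _ => Commute.all _ _)
    have hfg : f.comp g = AlgHom.id _ _ := by
      apply Algebra.TensorProduct.ext'
      intro a b
      obtain ⟨b, rfl⟩ := Ideal.Quotient.mk_surjective b
      simp only [AlgHom.comp_apply, g, f, Algebra.TensorProduct.lift_tmul, map_mul, AlgHom.id_apply]
      have h1 : φ (Ideal.Quotient.mk _ b) = (1 : A ⧸ I) ⊗ₜ[A] b := rfl
      rw [h1, Algebra.TensorProduct.map_tmul, Algebra.ofId_apply, Algebra.TensorProduct.algebraMap_apply,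
        Algebra.TensorProduct.map_tmul]
      simp only [π, AlgHom.id_apply, map_one, Algebra.TensorProduct.tmul_mul_tmul, mul_one, one_mul]
      rfl
    have hgf : g.comp f = AlgHom.id _ _ := by
      apply Algebra.TensorProduct.ext'
      intro a b
      simp only [AlgHom.comp_apply, g, f, Algebra.TensorProduct.map_tmul,
        Algebra.TensorProduct.lift_tmul, AlgHom.id_apply]
      have h1 : φ (π b) = (1 : A ⧸ I) ⊗ₜ[A] b := rfl
      rw [h1, Algebra.ofId_apply, Algebra.TensorProduct.algebraMap_apply]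
      simp
    exact ⟨(AlgEquiv.ofAlgHom g f hgf hfg).trans eq₀⟩

end Groth.Agent.S0532
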