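import Groth.Statements.S13607

set_option autoImplicit false
open CategoryTheory CategoryTheory.Limits Opposite
universe w v u
open ARSys

namespace Groth.Agent.S13607

theorem homKilled_of_killed {C : Type u} [Category.{v} C] [Preadditive C] {A : Type w} [CommRing A]
    [Linear A C] (I : Ideal A) {X Y : C} (hY : ARSys.KilledBy I Y) (φ : X ⟶ Y) :
    ARSys.HomKilledBy I φ := by
  intro a ha
  have : a • φ = φ ≫ (a • 𝟙 Y) := by simp
  rw [this, hY a ha, comp_zero]

/-- In an abelian category linear over a commutative ring A with an ideal J, let X be a J-adic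
projective system indexed by the natural numbers and Y a projective system whose n-th term is killed
by J^(n+1) for every n. Then for every r, every morphism from the translate X[r] to Y factors
uniquely through the canonical translation map X[r] ⟶ X: there is exactly one morphism g : X ⟶ Y
whose n-th component, precomposed with the transition map X_(n+r) ⟶ X_n, is the n-th component of
the given morphism. In particular morphisms X ⟶ Y up to translation are the same as morphisms X ⟶ Y.
(The published statement is for systems of finitely generated modules over a Noetherian ring, and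
for systems of sheaves of modules on the small etale site; this row states it in any linear abelian
category, which is all the argument uses.) -/
theorem result {C : Type u} [Category.{v} C] [Abelian C] {A : Type w} [CommRing A] [Linear A C]
    (J : Ideal A) (X Y : ARSys.PS C) (hX : ARSys.IsAdic J X) (hY : ARSys.TermKilled J Y) (r : ℕ)
    (f : (ARSys.shift C r).obj X ⟶ Y) :
    ∃! g : X ⟶ Y, ∀ n : ℕ, f.app (op n) = ARSys.shiftMap X r n ≫ g.app (op n) := by
  let tm : ∀ n : ℕ, X.obj (op (n + r)) ⟶ X.obj (op n) :=
    fun n => X.map (homOfLE (Nat.le_add_right n r)).op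
  let fn : ∀ n : ℕ, X.obj (op (n + r)) ⟶ Y.obj (op n) := fun n => f.app (op n)
  have hfn : ∀ (n m : ℕ) (h : n ≤ m),
      X.map (homOfLE (Nat.add_le_add_right h r)).op ≫ fn n = fn m ≫ Y.map (homOfLE h).op :=
    fun n m h => f.naturality (homOfLE h).op
  have htm : ∀ (n m : ℕ) (h : n ≤ m),
      tm m ≫ X.map (homOfLE h).op = X.map (homOfLE (Nat.add_le_add_right h r)).op ≫ tm n := by
    intro n m h
    simp only [tm, ← Functor.map_comp]
    rfl
  -- the quotient property of the shift maps
  have hq : ∀ n : ℕ, ARSys.IsQuot (J ^ (n + 1)) (tm n) :=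
    fun n => hX.2 n (n + r) (Nat.le_add_right n r)
  -- uniqueness of factorisations into killed targets
  have huniq : ∀ (n m : ℕ) (_ : n ≤ m) (ψ₁ ψ₂ : X.obj (op m) ⟶ Y.obj (op n)),
      tm m ≫ ψ₁ = tm m ≫ ψ₂ → ψ₁ = ψ₂ := by
    intro n m hnm ψ₁ ψ₂ h
    have hk : ARSys.KilledBy (J ^ (m + 1)) (Y.obj (op n)) := by
      intro a ha
      exact hY n a (Ideal.pow_le_pow_right (by omega) ha)
    obtain ⟨ψ, -, hψ⟩ := (hq m).2 (Y.obj (op n)) (tm m ≫ ψ₁)
      (homKilled_of_killed _ hk _)
    rw [hψ ψ₁ rfl, hψ ψ₂ h.symm]
  have hex : ∀ n : ℕ, ∃ ψ : X.obj (op n) ⟶ Y.obj (op n), tm n ≫ ψ = fn n := by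
    intro n
    obtain ⟨ψ, hψ, -⟩ := (hq n).2 (Y.obj (op n)) (fn n)
      (homKilled_of_killed _ (hY n) _)
    exact ⟨ψ, hψ⟩
  choose g hg using hex
  have hnat : ∀ (n m : ℕ) (h : n ≤ m),
      X.map (homOfLE h).op ≫ g n = g m ≫ Y.map (homOfLE h).op := by
    intro n m h
    apply huniq n m h
    calc tm m ≫ X.map (homOfLE h).op ≫ g n
        = (tm m ≫ X.map (homOfLE h).op) ≫ g n := by rw [Category.assoc]
      _ = (X.map (homOfLE (Nat.add_le_add_right h r)).op ≫ tm n) ≫ g n := by rw [htm n m h]
      _ = X.map (homOfLE (Nat.add_le_add_right h r)).op ≫ fn n := by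
          rw [Category.assoc, hg n]
      _ = fn m ≫ Y.map (homOfLE h).op := hfn n m h
      _ = tm m ≫ g m ≫ Y.map (homOfLE h).op := by rw [← Category.assoc, hg m]
  refine ⟨{ app := fun k => g k.unop, naturality := ?_ }, fun n => (hg n).symm, ?_⟩
  · intro k l φ
    have h : l.unop ≤ k.unop := leOfHom φ.unop
    have : φ = (homOfLE h).op := rfl
    rw [this]
    exact hnat l.unop k.unop h
  · intro g' hg'
    ext k
    induction k using Opposite.rec with
    | op n =>
      apply huniq n n le_rfl
      have := hg' n
      exact (this.symm.trans (hg n).symm)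

end Groth.Agent.S13607
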