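import Groth.Statements.S0478
import Groth.Agent.H6.DerivedProd
import Groth.Agent.H33.KInj.Main

set_option autoImplicit false
universe v u
open CategoryTheory
open CohDer

namespace Groth.Agent.S0478

open CategoryTheory.Limits in
/-- For a Grothendieck abelian category A the derived category D(A) has all products indexed by small
types. The published statement also computes them as termwise products of K-injective
representatives, which is not asserted here. -/
theorem result {A : Type u} [Category.{v} A] [Abelian A] [IsGrothendieckAbelian.{v} A]
    [HasDerivedCategory.{v} A] : HasProducts.{v} (DerivedCategory A) := by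
  intro J
  refine ⟨fun F => ?_⟩
  let K : J → DerivedCategory A := fun j => F.obj ⟨j⟩
  suffices h : HasProduct K by
    have h' : HasLimit (Discrete.functor (F.obj ∘ Discrete.mk)) := h
    exact hasLimit_of_iso (Discrete.natIsoFunctor (F := F)).symm
  choose I f hI hf _ _ using fun j : J => Groth.Agent.H33.KInj.exists_kInjective_resolution
    ((DerivedCategory.Q : _ ⥤ DerivedCategory A).objPreimage (K j))
  have e : ∀ j, (DerivedCategory.Q : _ ⥤ DerivedCategory A).obj (I j) ≅ K j := fun j => by
    have := hf j
    exact (asIso (DerivedCategory.Q.map (f j))).symm ≪≫
      (DerivedCategory.Q : _ ⥤ DerivedCategory A).objObjPreimageIso (K j)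
  exact Groth.Agent.H6.DerivedProd.hasProduct_of_iso (Fan.mk (∏ᶜ I) (Pi.π I))
    (productIsProduct I) hI K e

end Groth.Agent.S0478
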