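import Groth.Statements.S0881
import Groth.Agent.H16.RlimTruncB
import Groth.Agent.H16.RlimTruncC
import Groth.Agent.S0880

set_option autoImplicit false
universe u
open CategoryTheory
open CohSite

namespace Groth.Agent.S0881

open CategoryTheory.Limits in
/-- Take an object E of the derived category of abelian sheaves on a site together with a class B of
objects covering every object, and suppose every V in B has a function p(V, -) such that every
covering sieve of V contains a covering family {V_i -> V} with H^p(V_i, H^{m-p}(E)) = 0 for all m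
and all p > p(V, m). Then E is a derived limit of the tower τ_{≥ -n} E through the canonical maps
(the existence of the product of the truncations is assumed). -/
theorem result {C : Type u} [SmallCategory C]
    {J : GrothendieckTopology C} [HasDerivedCategory.{u} (Sheaf J AddCommGrpCat.{u})]
    (E : DerivedCategory (Sheaf J AddCommGrpCat.{u})) [HasProduct (CohCx.truncTower E)] (B : Set C)
    (hB : ∀ U : C, ∃ (ι : Type u) (Y : ι → C) (f : ∀ i, Y i ⟶ U), Sieve.ofArrows Y f ∈ J U ∧ ∀ i, Y i ∈ B)
    (h : ∀ V ∈ B, ∃ p : ℤ → ℤ, ∀ T ∈ J V, ∃ (ι : Type u) (Y : ι → C) (f : ∀ i, Y i ⟶ V),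
      (∀ i, T.arrows (f i)) ∧ Sieve.ofArrows Y f ∈ J V ∧
      ∀ (i : ι) (m : ℤ) (k : ℕ), p m < k → Subsingleton (CohSite.HU (CohCx.HD E (m - k)) k (Y i))) :
    CohCx.IsRlimVia (CohCx.truncTower E) (CohCx.truncTowerMap E) E (CohCx.toTruncTower E) := by
  apply Groth.Agent.H16.RlimTruncC.isRlimVia_of_mono E
  intro R a hR m
  let K := CohCx.truncTower E
  let tt := CohCx.truncTowerMap E
  let φ := (DerivedCategory.homologyFunctor (Sheaf J AddCommGrpCat.{u}) m).map (a (-m).toNat)
  -- injectivity on sections over members of `B`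
  have key : ∀ V ∈ B, ∀ s : (CohCx.HD R m).obj.obj (Opposite.op V),
      (φ.hom.app (Opposite.op V)).hom s = 0 → s = 0 := by
    intro V hV s hs
    obtain ⟨p, hp⟩ := h V hV
    let n₀ := (-m).toNat
    let k := (p m - m).toNat
    have hak := Groth.Agent.H16.RlimInjA.a_comp_transition hR n₀ k
    have hiso := Groth.Agent.H16.RlimTruncA.isIso_homologyMap_transition E n₀ k m (by omega)
    have hs' : (((DerivedCategory.homologyFunctor (Sheaf J AddCommGrpCat.{u}) m).map
        (a (n₀ + k))).hom.app (Opposite.op V)).hom s = 0 := by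
      apply (Groth.Agent.H16.RlimInjB.bijective_of_isIso J
        ((DerivedCategory.homologyFunctor (Sheaf J AddCommGrpCat.{u}) m).map
          (CohCx.transition K tt n₀ k)) V).1
      rw [← Groth.Agent.H16.RlimInjB.comp_apply' J, ← Functor.map_comp, hak, map_zero]
      exact hs
    have hinj := Groth.Agent.S0880.result K tt R a hR V m (n₀ + k) (by
      intro T hT
      obtain ⟨ι, Y, f, hfT, hcov, hvan⟩ := hp T hT
      refine ⟨ι, Y, f, hfT, hcov, fun i => ?_⟩
      exact Groth.Agent.H16.RlimTruncB.hyp_of_vanishing E (Y i) m (p m)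
        (fun k' hk' => hvan i m k' hk') (n₀ + k) (by omega) (by omega))
    exact hinj (hs'.trans (map_zero _).symm)
  -- injectivity on all sections
  have hmono : Mono φ.hom := by
    rw [NatTrans.mono_iff_mono_app]
    intro V
    rw [AddCommGrpCat.mono_iff_injective]
    refine (injective_iff_map_eq_zero (φ.hom.app V).hom).2 ?_
    intro s hs
    obtain ⟨ι, Y, f, hcov, hYB⟩ := hB V.unop
    refine Groth.Agent.H16.RlimInjB.eq_zero_of_cover J _ V.unop s (Sieve.ofArrows Y f) hcov ?_
    intro W g hg
    obtain ⟨i, u, rfl⟩ := (Sieve.mem_ofArrows_iff Y f g).1 hg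
    have h1 : ((CohCx.HD R m).obj.map (f i).op).hom s = 0 := by
      apply key (Y i) (hYB i)
      rw [Groth.Agent.H16.RlimInjB.res_comm J]
      have : (φ.hom.app (Opposite.op V.unop)).hom s = 0 := hs
      rw [this, map_zero]
    have h2 : ((CohCx.HD R m).obj.map (u ≫ f i).op).hom s =
        ((CohCx.HD R m).obj.map u.op).hom (((CohCx.HD R m).obj.map (f i).op).hom s) := by
      rw [op_comp, Functor.map_comp]
      rfl
    refine h2.trans ?_
    rw [h1, map_zero]
  exact (Sheaf.Hom.mono_iff_presheaf_mono J AddCommGrpCat.{u} φ).2 hmono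

end Groth.Agent.S0881
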