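import Groth.Statements.S3194
import Groth.Agent.H17.K0.Basic

set_option autoImplicit false
universe u
open CategoryTheory
open SGA6

namespace Groth.Agent.S3194

open Groth.Agent.H17.K0 KZero

variable (A : Type u) [CommRing A]

/-- finitely generated modules -/
abbrev Pf : ObjectProperty (ModuleCat.{u} A) := fun M : ModuleCat.{u} A => Module.Finite A M

theorem pf_punit : Pf A (ModuleCat.of A PUnit.{u + 1}) := by
  change Module.Finite A PUnit.{u + 1}
  infer_instance

section Rank

variable [IsDomain A]

theorem finrank_ses (S : ShortComplex (ModuleCat.{u} A)) (hS : S.ShortExact)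
    (h₂ : Module.Finite A S.X₂) :
    (Module.finrank A S.X₂ : ℤ) = Module.finrank A S.X₁ + Module.finrank A S.X₃ := by
  have hinj := hS.moduleCat_injective_f
  have hsurj := hS.moduleCat_surjective_g
  have hex : LinearMap.range S.f.hom = LinearMap.ker S.g.hom := hS.exact.moduleCat_range_eq_ker
  have e1 : S.X₁ ≃ₗ[A] LinearMap.ker S.g.hom :=
    (LinearEquiv.ofInjective S.f.hom hinj).trans (LinearEquiv.ofEq _ _ hex)
  have e3 : (S.X₂ ⧸ LinearMap.ker S.g.hom) ≃ₗ[A] S.X₃ :=
    LinearMap.quotKerEquivOfSurjective S.g.hom hsurj
  have h := (LinearMap.ker S.g.hom).finrank_quotient_add_finrank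
  rw [e1.finrank_eq, ← e3.finrank_eq, ← h]
  push_cast
  ring

/-- the rank homomorphism -/
noncomputable def rk : K0sub (Pf A) →+ ℤ :=
  lift (Pf A) (fun M : Subtype (Pf A) => (Module.finrank A M.1 : ℤ))
    (fun S _ h₂ _ hS => finrank_ses A S hS h₂)

theorem rk_cl (M : ModuleCat.{u} A) (h : Pf A M) :
    rk A (clSub (Pf A) M) = Module.finrank A M := lift_clSub (Pf A) _ _ h

end Rank

section Gen

variable [IsDomain A] [IsPrincipalIdealRing A]

omit [IsDomain A] [IsPrincipalIdealRing A] in
theorem pf_self : Pf A (ModuleCat.of A A) := by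
  change Module.Finite A A
  infer_instance

/-- a cyclic module has class in `ℤ[A]` -/
theorem cyclic_mem (M : Type u) [AddCommGroup M] [Module A M] (x : M)
    (hx : Submodule.span A {x} = ⊤) :
    ∃ k : ℤ, clSub (Pf A) (ModuleCat.of A M) = k • clSub (Pf A) (ModuleCat.of A A) := by
  let φ : A →ₗ[A] M := LinearMap.toSpanSingleton A M x
  have hφ : Function.Surjective φ := by
    rw [← LinearMap.range_eq_top, LinearMap.range_toSpanSingleton, hx]
  have hM : Module.Finite A M := Module.Finite.of_surjective φ hφ
  have hker : Module.Finite A (LinearMap.ker φ) := inferInstance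
  have h1 := clSub_module_exact (Pf A) (LinearMap.ker φ).subtype φ
    (Submodule.injective_subtype _) hφ (LinearMap.exact_subtype_ker_map φ) hker (pf_self A) hM
  by_cases hz : LinearMap.ker φ = ⊥
  · have hs : Subsingleton (LinearMap.ker φ) := by
      rw [hz]; infer_instance
    rw [clSub_module_subsingleton (Pf A) hker, zero_add] at h1
    exact ⟨1, by rw [one_smul, h1]⟩
  · obtain ⟨a, ha⟩ := (IsPrincipalIdealRing.principal (LinearMap.ker φ)).principal
    have ha0 : a ≠ 0 := by
      rintro rfl
      apply hz
      rw [ha]
      simp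
    have e : A ≃ₗ[A] LinearMap.ker φ :=
      (LinearEquiv.toSpanNonzeroSingleton A A a ha0).trans (LinearEquiv.ofEq _ _ ha.symm)
    have h2 := clSub_module_equiv (Pf A) e (pf_self A) hker (pf_punit A)
    rw [← h2] at h1
    exact ⟨0, by rw [zero_smul]; exact (add_eq_left.mp h1.symm)⟩

theorem gen_mem : ∀ (n : ℕ) (M : Type u) [AddCommGroup M] [Module A M] (s : Fin n → M),
    Submodule.span A (Set.range s) = ⊤ →
    ∃ k : ℤ, clSub (Pf A) (ModuleCat.of A M) = k • clSub (Pf A) (ModuleCat.of A A) := by
  intro n
  induction n with
  | zero =>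
    intro M _ _ s hs
    have hsub : Subsingleton M := by
      have : (⊥ : Submodule A M) = ⊤ := by
        rw [← hs, Set.range_eq_empty, Submodule.span_empty]
      exact (Submodule.subsingleton_iff A).mp (subsingleton_of_bot_eq_top this)
    have hM : Pf A (ModuleCat.of A M) := by
      change Module.Finite A M
      infer_instance
    exact ⟨0, by rw [zero_smul, clSub_module_subsingleton (Pf A) hM]⟩
  | succ n ih =>
    intro M _ _ s hs
    have hM : Module.Finite A M :=
      Module.finite_def.mpr ⟨(Set.finite_range s).toFinset, by simpa using hs⟩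
    let N : Submodule A M := Submodule.span A {s 0}
    have hN : Module.Finite A N := inferInstance
    have hQ : Module.Finite A (M ⧸ N) := inferInstance
    have h1 := clSub_module_exact (Pf A) N.subtype N.mkQ (Submodule.injective_subtype _)
      (Submodule.mkQ_surjective N) (LinearMap.exact_subtype_mkQ N) hN hM hQ
    -- the sub
    obtain ⟨k1, hk1⟩ := cyclic_mem A N ⟨s 0, Submodule.mem_span_singleton_self _⟩ (by
      apply Submodule.map_injective_of_injective (Submodule.injective_subtype N)
      rw [Submodule.map_span, Set.image_singleton, Submodule.map_subtype_top]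
      rfl)
    -- the quotient
    obtain ⟨k2, hk2⟩ := ih (M ⧸ N) (fun j => N.mkQ (s j.succ)) (by
      rw [eq_top_iff]
      have h3 : (⊤ : Submodule A (M ⧸ N)) = Submodule.map N.mkQ (Submodule.span A (Set.range s)) := by
        rw [hs, Submodule.map_top, Submodule.range_mkQ]
      rw [h3, Submodule.map_span, Submodule.span_le]
      rintro _ ⟨_, ⟨i, rfl⟩, rfl⟩
      induction i using Fin.cases with
      | zero =>
        have : N.mkQ (s 0) = 0 := by
          rw [Submodule.mkQ_apply, Submodule.Quotient.mk_eq_zero]
          exact Submodule.mem_span_singleton_self _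
        rw [this]
        exact zero_mem _
      | succ j => exact Submodule.subset_span ⟨j, rfl⟩)
    exact ⟨k1 + k2, by rw [h1, hk1, hk2, add_smul]⟩

end Gen

/-- Let A be a principal ideal domain and K_•(Spec A) = K₀ of the category of finitely generated
A-modules (free abelian group on finitely generated modules modulo short exact sequences). The
homomorphism ℤ ⟶ K_•(Spec A) sending k to k·[A] is bijective. -/
theorem result (A : Type u) [CommRing A] [IsDomain A] [IsPrincipalIdealRing A] :
    Function.Bijective (fun k : ℤ => k • KZero.clSub (fun M : ModuleCat.{u} A => Module.Finite A M) (ModuleCat.of A A)) := by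
  constructor
  · intro k k' h
    have h' := congrArg (rk A) h
    simp only [map_zsmul] at h'
    rw [rk_cl A _ (pf_self A)] at h'
    change k • ((Module.finrank A A : ℕ) : ℤ) = k' • ((Module.finrank A A : ℕ) : ℤ) at h'
    rw [Module.finrank_self] at h'
    simpa using h'
  · intro x
    induction x using induction_on (Pf A) with
    | h0 => exact ⟨0, zero_smul _ _⟩
    | hcl M hM =>
      have hM' : Module.Finite A M := hM
      obtain ⟨n, s, hs⟩ := Module.Finite.exists_fin (R := A) (M := M)
      obtain ⟨k, hk⟩ := gen_mem A n M s hs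
      exact ⟨k, hk.symm⟩
    | hneg x hx =>
      obtain ⟨k, hk⟩ := hx
      exact ⟨-k, by rw [← hk]; exact neg_smul _ _⟩
    | hadd x y hx hy =>
      obtain ⟨k, hk⟩ := hx
      obtain ⟨k', hk'⟩ := hy
      exact ⟨k + k', by rw [← hk, ← hk']; exact add_smul _ _ _⟩

end Groth.Agent.S3194
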