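import Groth.Statements.S6174
import Groth.Agent.H43.CechH0
import Groth.Agent.H30.GrothSSExt

set_option autoImplicit false
universe u
open CategoryTheory
open CohSite

namespace Groth.Agent.S6174

open CategoryTheory.Limits in
/-- C a small category with fibre products; presheaves are the sheaves for the trivial topology: for a
presheaf of abelian groups M, a family of arrows (U_i -> X) and the sieve R it generates, viewed as
a sub-presheaf of h_X, the Cech cohomology group H^q((U_i -> X), M) is isomorphic to H^q(R, M), the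
q-th Ext group out of the free abelian presheaf on R. Existence of an isomorphism only (the source's
is canonical). -/
theorem result {C : Type u} [SmallCategory C] [HasPullbacks C]
    (M : Cᵒᵖ ⥤ AddCommGrpCat.{u}) {X : C} {ι : Type u} (Y : ι → Over X) (q : ℕ) :
    Nonempty (CohCx.cechH M Y q ≅ AddCommGrpCat.of (CohCx.HK (J := (⊥ : GrothendieckTopology C))
      ⟨(Sieve.ofArrows (fun i => (Y i).left) (fun i => (Y i).hom)).functor, Presheaf.isSheaf_bot _⟩
      ⟨M, Presheaf.isSheaf_bot _⟩ q)) := by
  open Groth.Agent.H43.CechDelta Groth.Agent.H43.CechH0 Groth.Agent.H43.PresheafSS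
    Groth.Agent.H30 in
  let _ : HasDerivedCategory.{u + 1} (Sheaf (⊥ : GrothendieckTopology C) AddCommGrpCat.{u}) :=
    HasDerivedCategory.standard _
  let _ : HasDerivedCategory.{u + 1} AddCommGrpCat.{u} := HasDerivedCategory.standard _
  let P : PSh C := ⟨M, Presheaf.isSheaf_bot _⟩
  obtain ⟨e₁⟩ := nonempty_iso_rightDerived Y q P
  obtain ⟨e₂⟩ := ExtDerived.nonempty_iso_rightDerived (ZR Y) q P
  exact ⟨e₁ ≪≫ (GrothSSExt.rightDerivedIsoOfIso (ε₀ Y) q).symm.app P ≪≫ e₂.symm⟩

end Groth.Agent.S6174
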