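import Groth.Statements.S0859
import Groth.Agent.H43.CechSurj
import Groth.Agent.S6174

set_option autoImplicit false
universe u
open CategoryTheory
open CohSite

namespace Groth.Agent.S0859

open Opposite CategoryTheory.Limits in
/-- Consider abelian sheaves F ⊂ G with quotient H on a site with fibre products, and an object U. If
every covering sieve of U can be refined by a covering family with respect to which the first Cech
cohomology group of F vanishes, then G(U) -> H(U) is surjective. -/
theorem result {C : Type u} [SmallCategory C] [HasPullbacks C]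
    {J : GrothendieckTopology C} (S : ShortComplex (Sheaf J AddCommGrpCat.{u})) (hS : S.ShortExact)
    (U : C)
    (h : ∀ T ∈ J U, ∃ (ι : Type u) (Y : ι → Over U), (∀ i, T.arrows (Y i).hom) ∧
      Sieve.ofArrows (fun i => (Y i).left) (fun i => (Y i).hom) ∈ J U ∧
      IsZero (CohCx.cechH S.X₁.obj Y 1)) :
    Function.Surjective (S.g.hom.app (op U)) := by
  open Groth.Agent.H43 Groth.Agent.H43.CechH0 Groth.Agent.H43.CohPresheafRD in
  intro s
  have := hS.epi_g
  have hls : Sheaf.IsLocallySurjective S.g :=
    (Sheaf.isLocallySurjective_iff_epi' _ S.g).2 inferInstance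
  have hT : Presheaf.imageSieve S.g.hom s ∈ J U := Presheaf.imageSieve_mem J S.g.hom s
  obtain ⟨ι, Y, hYT, hYJ, hZ⟩ := h _ hT
  obtain ⟨e⟩ := Groth.Agent.S6174.result S.X₁.obj Y 1
  haveI : Subsingleton (Abelian.Ext (ZR Y) ((T J).obj S.X₁) 1) := by
    have hz : IsZero (AddCommGrpCat.of (Abelian.Ext (ZR Y) ((T J).obj S.X₁) 1)) :=
      IsZero.of_iso hZ e.symm
    exact AddCommGrpCat.subsingleton_of_isZero hz
  have hle : R Y ≤ Presheaf.imageSieve S.g.hom s := by
    intro V f hf
    rw [Sieve.mem_ofArrows_iff] at hf
    obtain ⟨i, a, rfl⟩ := hf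
    exact Sieve.downward_closed _ (hYT i) a
  exact CechSurj.exists_lift Y S hS hYJ s hle

end Groth.Agent.S0859
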