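import Groth.Statements.S0861
import Groth.Agent.H43.Cartan
import Groth.Agent.S0859

set_option autoImplicit false
universe u
open CategoryTheory
open CohSite

namespace Groth.Agent.S0861

open CategoryTheory.Limits in
/-- Let C be a site with fibre products, B a class of objects and Cov a class of covering families
(indexed families of objects over a member of B). Assume: (1) for a family in Cov over U, U and all
iterated fibre products U_{i_0} x_U ... x_U U_{i_p} lie in B; (2) every covering sieve of a member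
of B contains a family from Cov; (3) the abelian sheaf F has vanishing Cech cohomology in positive
degrees for every family in Cov. Then H^p(U, F) = 0 for all p > 0 and U in B. -/
theorem result {C : Type u} [SmallCategory C] [HasPullbacks C]
    (J : GrothendieckTopology C) (B : Set C) (Cov : ∀ (U : C) (ι : Type u), (ι → Over U) → Prop)
    (h1 : ∀ (U : C) (ι : Type u) (Y : ι → Over U), Cov U ι Y → U ∈ B ∧
      Sieve.ofArrows (fun i => (Y i).left) (fun i => (Y i).hom) ∈ J U ∧
      ∀ (p : ℕ) (a : Fin (p + 1) → ι), (∏ᶜ fun k => Y (a k)).left ∈ B)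
    (h2 : ∀ U ∈ B, ∀ T ∈ J U, ∃ (ι : Type u) (Y : ι → Over U), Cov U ι Y ∧ ∀ i, T.arrows (Y i).hom)
    (F : Sheaf J AddCommGrpCat.{u})
    (h3 : ∀ (U : C) (ι : Type u) (Y : ι → Over U), Cov U ι Y → ∀ p : ℕ, IsZero (CohCx.cechH F.obj Y (p + 1)))
    (U : C) (hU : U ∈ B) (p : ℕ) : Subsingleton (CohSite.HU F (p + 1) U) := by
  open Groth.Agent.H43 Groth.Agent.H43.CohPresheafRD Groth.Agent.H43.CechDelta in
  suffices H : ∀ (p : ℕ) (F : Sheaf J AddCommGrpCat.{u}),
      (∀ (U : C) (ι : Type u) (Y : ι → Over U), Cov U ι Y →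
        ∀ p : ℕ, IsZero (CohCx.cechH F.obj Y (p + 1))) →
      ∀ U ∈ B, Subsingleton (CohSite.HU F (p + 1) U) from H p F h3 U hU
  intro p
  induction p with
  | zero =>
    intro F h3 U hU
    let S : ShortComplex (Sheaf J AddCommGrpCat.{u}) :=
      ShortComplex.mk (Injective.ι F) (cokernel.π (Injective.ι F)) (cokernel.condition _)
    have hS : S.ShortExact := { exact := ShortComplex.exact_cokernel _ }
    haveI : Injective S.X₂ := inferInstanceAs (Injective (Injective.under F))
    have hsurj : ∀ V ∈ B, Function.Surjective (S.g.hom.app (Opposite.op V)) := fun V hV =>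
      Groth.Agent.S0859.result S hS V (fun T hT => by
        obtain ⟨ι, Y, hCov, hYT⟩ := h2 V hV T hT
        exact ⟨ι, Y, hYT, (h1 V ι Y hCov).2.1, h3 V ι Y hCov 0⟩)
    exact Cartan.subsingleton_ext_one hS U (hsurj U hU)
  | succ p ih =>
    intro F h3 U hU
    let S : ShortComplex (Sheaf J AddCommGrpCat.{u}) :=
      ShortComplex.mk (Injective.ι F) (cokernel.π (Injective.ι F)) (cokernel.condition _)
    have hS : S.ShortExact := { exact := ShortComplex.exact_cokernel _ }
    haveI : Injective S.X₂ := inferInstanceAs (Injective (Injective.under F))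
    have hsurj : ∀ V ∈ B, Function.Surjective (S.g.hom.app (Opposite.op V)) := fun V hV =>
      Groth.Agent.S0859.result S hS V (fun T hT => by
        obtain ⟨ι, Y, hCov, hYT⟩ := h2 V hV T hT
        exact ⟨ι, Y, hYT, (h1 V ι Y hCov).2.1, h3 V ι Y hCov 0⟩)
    have hQ : ∀ (V : C) (ι : Type u) (Y : ι → Over V), Cov V ι Y →
        ∀ p : ℕ, IsZero (CohCx.cechH S.X₃.obj Y (p + 1)) := fun V ι Y hCov p =>
      Cartan.isZero_cech_quotient hS Y (fun n x => hsurj _ ((h1 V ι Y hCov).2.2 n x)) p
        (h3 V ι Y hCov (p + 1))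
    exact Cartan.subsingleton_ext_succ hS U p (ih S.X₃ hQ U hU)

end Groth.Agent.S0861
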