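import Groth.Statements.S6164
import Groth.Agent.H43.CechH0
import Groth.Agent.H43.CoverFree
import Groth.Agent.H30.GrothSSExt

set_option autoImplicit false
universe u
open CategoryTheory
open CohSite

namespace Groth.Agent.S6164

open CategoryTheory.Limits in
/-- Existence form of the spectral sequence of a covering; abelian sheaves on a small site with fibre
products: for a covering family (U_i -> X) and an abelian sheaf M there is a bounded E_2 spectral
sequence of abelian groups with E_2^{p,q} isomorphic to the Cech cohomology group H^p((U_i -> X),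
H^q(M)) of the family with coefficients in the presheaf V |-> H^q(V, M), for p, q >= 0 and zero
otherwise, with abutment data whose filtrations are finite on H^n(X, M) (n >= 0; zero for n < 0).
The E_2 identifications and abutment isomorphisms are asserted to exist only, not pinned to the
canonical maps, so edge maps are not part of this statement. -/
theorem result {C : Type u} [SmallCategory C] [HasPullbacks C]
    (J : GrothendieckTopology C) (M : Sheaf J AddCommGrpCat.{u}) {X : C} {ι : Type u} (Y : ι → Over X)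
    (hY : Sieve.ofArrows (fun i => (Y i).left) (fun i => (Y i).hom) ∈ J X) :
    ∃ (E : E₂CohomologicalSpectralSequence AddCommGrpCat.{u})
      (a : SpSeq.Abutment E (fun n : ℤ =>
        if 0 ≤ n then AddCommGrpCat.of (CohSite.HU M n.toNat X) else AddCommGrpCat.of PUnit.{u + 1})),
      (∀ n, a.IsFinite n) ∧ SpSeq.IsBounded E ∧
      ∀ p q : ℤ, Nonempty ((E.page 2 le_rfl).X (p, q) ≅
        (if 0 ≤ p ∧ 0 ≤ q then CohCx.cechH (M.cohomologyPresheaf q.toNat) Y p.toNat
         else AddCommGrpCat.of PUnit.{u + 1})) := by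
  open Groth.Agent.H43.CohPresheafRD Groth.Agent.H43.PresheafSS Groth.Agent.H43.CechDelta
    Groth.Agent.H43.CechH0 Groth.Agent.H43.CoverFree Groth.Agent.H30 in
  let _ : HasDerivedCategory.{u + 1} (Sheaf J AddCommGrpCat.{u}) := HasDerivedCategory.standard _
  let _ : HasDerivedCategory.{u + 1} (Sheaf (⊥ : GrothendieckTopology C) AddCommGrpCat.{u}) :=
    HasDerivedCategory.standard _
  let _ : HasDerivedCategory.{u + 1} AddCommGrpCat.{u} := HasDerivedCategory.standard _
  refine GrothSSExt.grothendieck_spectralSequence' (T J) (G Y 0)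
    (fun Q' _ q hq => ?_) M
    (fun n => AddCommGrpCat.of (CohSite.HU M n X))
    (fun p q => CohCx.cechH (M.cohomologyPresheaf q) Y p)
    (AddCommGrpCat.of PUnit.{u + 1})
    (AddCommGrpCat.isZero_of_subsingleton _) (fun n => ?_)
    (fun p q => ?_)
  · obtain ⟨j, rfl⟩ : ∃ j, q = j + 1 := ⟨q - 1, by lia⟩
    exact Functor.isZero_rightDerived_obj_injective_succ _ j _
  · let e₀ : T J ⋙ G Y 0 ≅ ExtDerived.homF (Q J (Rf Y)) :=
      Functor.isoWhiskerLeft (T J) (ε₀ Y).symm ≪≫ compIso J (Rf Y)
    obtain ⟨e⟩ := ExtDerived.nonempty_iso_rightDerived (Q J (Rf Y)) n M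
    let e' : AddCommGrpCat.of (Abelian.Ext (Q J (Rf Y)) M n) ≅
        AddCommGrpCat.of (CohSite.HU M n X) :=
      (((Abelian.extFunctor n).mapIso (isoFree J (R Y) hY).op).app M).symm
    exact ⟨(GrothSSExt.rightDerivedIsoOfIso e₀ n).app M ≪≫ e.symm ≪≫ e'⟩
  · obtain ⟨e₁⟩ := nonempty_rightDerived_iso J M q
    obtain ⟨e₂⟩ := nonempty_iso_rightDerived Y p
      (⟨M.cohomologyPresheaf q, Presheaf.isSheaf_bot _⟩ : PSh C)
    exact ⟨((G Y 0).rightDerived p).mapIso e₁ ≪≫ e₂.symm⟩

end Groth.Agent.S6164
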