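import Groth.Statements.S0941
import Groth.Agent.S6164
import Groth.Agent.H43.SSRow
import Groth.Agent.H43.CechZero

set_option autoImplicit false
universe u
open CategoryTheory
open CohSite

namespace Groth.Agent.S0941

open CategoryTheory.Limits in
/-- Let C be a site with fibre products, {Y_i -> U} a covering family and F an abelian sheaf with
H^q(Y_{i_0} x_U ... x_U Y_{i_p}, F) = 0 for all q > 0 and all finite tuples of indices. Then for
every p the p-th Cech cohomology group of F with respect to the covering is isomorphic to H^p(U, F). -/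
theorem result {C : Type u} [SmallCategory C] [HasPullbacks C]
    (J : GrothendieckTopology C) (F : Sheaf J AddCommGrpCat.{u}) {U : C} {ι : Type u} (Y : ι → Over U)
    (hY : Sieve.ofArrows (fun i => (Y i).left) (fun i => (Y i).hom) ∈ J U)
    (h : ∀ (p : ℕ) (a : Fin (p + 1) → ι) (q : ℕ),
      Subsingleton (CohSite.HU F (q + 1) (∏ᶜ fun k => Y (a k)).left))
    (p : ℕ) : Nonempty (CohCx.cechH F.obj Y p ≃+ CohSite.HU F p U) := by
  open Groth.Agent.H43.CohPresheafRD Groth.Agent.H43.CechDelta Groth.Agent.H43 in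
  obtain ⟨E, a, hfin, _, hE2⟩ := Groth.Agent.S6164.result J F Y hY
  -- the rows `q ≠ 0` vanish
  have hzero : ∀ pq : ℤ × ℤ, pq.2 ≠ 0 → IsZero ((E.page 2 le_rfl).X pq) := by
    rintro ⟨p', q'⟩ hq
    obtain ⟨e⟩ := hE2 p' q'
    refine IsZero.of_iso ?_ e
    by_cases hpq : 0 ≤ p' ∧ 0 ≤ q'
    · rw [if_pos hpq]
      obtain ⟨j, hj⟩ : ∃ j : ℕ, q'.toNat = j + 1 := ⟨q'.toNat - 1, by
        have : q' ≠ 0 := hq
        lia⟩
      rw [hj]
      refine CechZero.isZero_G Y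
        (⟨F.cohomologyPresheaf (j + 1), Presheaf.isSheaf_bot _⟩ : PSh C) p'.toNat (fun x => ?_)
      exact @AddCommGrpCat.isZero_of_subsingleton _ (h p'.toNat x j)
    · rw [if_neg hpq]
      exact AddCommGrpCat.isZero_of_subsingleton _
  obtain ⟨e₁⟩ := SSRow.nonempty_iso E a (by norm_num) hzero (p : ℤ) (hfin p)
  obtain ⟨e₂⟩ := hE2 (p : ℤ) 0
  have hp : (0 : ℤ) ≤ (p : ℤ) := Int.natCast_nonneg p
  rw [if_pos ⟨hp, le_rfl⟩] at e₂
  have e₁' : AddCommGrpCat.of (CohSite.HU F p U) ≅ (E.page 2 le_rfl).X ((p : ℤ), 0) := by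
    refine eqToIso ?_ ≪≫ e₁
    rw [if_pos hp, Int.toNat_natCast]
  have e₂' : (E.page 2 le_rfl).X ((p : ℤ), 0) ≅ CohCx.cechH (F.cohomologyPresheaf 0) Y p := by
    refine e₂ ≪≫ eqToIso ?_
    rw [Int.toNat_natCast, Int.toNat_zero]
  -- `H⁰(-, F) ≅ F` as presheaves
  obtain ⟨e₃⟩ := nonempty_rightDerived_iso J F 0
  let e₄ : (⟨F.cohomologyPresheaf 0, Presheaf.isSheaf_bot _⟩ : PSh C) ≅ (T J).obj F :=
    e₃.symm ≪≫ (Functor.rightDerivedZeroIsoSelf (T J)).app F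
  have e₅ : (G Y p).obj ⟨F.cohomologyPresheaf 0, Presheaf.isSheaf_bot _⟩ ≅
      (G Y p).obj ((T J).obj F) := (G Y p).mapIso e₄
  have e₆ : (G Y p).obj ((T J).obj F) ≅ (G Y p).obj ⟨F.obj, Presheaf.isSheaf_bot _⟩ := Iso.refl _
  have e₇ : (G Y p).obj ⟨F.obj, Presheaf.isSheaf_bot _⟩ ≅ CohCx.cechH F.obj Y p := Iso.refl _
  have e₈ : CohCx.cechH (F.cohomologyPresheaf 0) Y p ≅
     (G Y p).obj ⟨F.cohomologyPresheaf 0, Presheaf.isSheaf_bot _⟩ := Iso.refl _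
  exact ⟨(e₁' ≪≫ e₂' ≪≫ e₈ ≪≫ e₅ ≪≫ e₆ ≪≫ e₇).symm.addCommGroupIsoToAddEquiv⟩

end Groth.Agent.S0941
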