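import Groth.Statements.S1007
import Groth.Agent.H16.RlimModW.TruncO
import Groth.Agent.H16.FormalLim

set_option autoImplicit false
universe u
open CategoryTheory CategoryTheory.Limits AlgebraicGeometry
attribute [local instance] HasDerivedCategory.standard
open Perf

namespace Groth.Agent.S1007

/-- Let X be a scheme and E an object of D(O_X) with quasi-coherent cohomology sheaves. Then the
canonical map from E to the derived limit of its truncations τ_{≥ -n}E is an isomorphism; concretely
(granted the countable product of the truncations exists in D(O_X), which holds): the map E ⟶ ∏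
τ_{≥-n}E with components the truncation morphisms, followed by 'identity minus transition', extends
to a distinguished triangle E ⟶ ∏ τ_{≥-n}E ⟶ ∏ τ_{≥-n}E ⟶ E[1]. -/
theorem result (X : Scheme.{u}) (E : DCoh.D X) (hE : DCoh.IsQCohD E)
    [HasProduct (fun n : ℕ => ((DerivedCategory.TStructure.t : CategoryTheory.Triangulated.TStructure (DCoh.D X)).truncGE (-(n : ℤ))).obj E)] :
    ∃ c : (∏ᶜ fun n : ℕ => ((DerivedCategory.TStructure.t : CategoryTheory.Triangulated.TStructure (DCoh.D X)).truncGE (-(n : ℤ))).obj E) ⟶ E⟦(1 : ℤ)⟧,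
      CategoryTheory.Pretriangulated.Triangle.mk
        (Pi.lift fun n : ℕ => ((DerivedCategory.TStructure.t : CategoryTheory.Triangulated.TStructure (DCoh.D X)).truncGEπ (-(n : ℤ))).app E)
        (Pi.lift fun n : ℕ => Pi.π (fun n : ℕ => ((DerivedCategory.TStructure.t : CategoryTheory.Triangulated.TStructure (DCoh.D X)).truncGE (-(n : ℤ))).obj E) n -
          Pi.π (fun n : ℕ => ((DerivedCategory.TStructure.t : CategoryTheory.Triangulated.TStructure (DCoh.D X)).truncGE (-(n : ℤ))).obj E) (n + 1) ≫
            ((DerivedCategory.TStructure.t : CategoryTheory.Triangulated.TStructure (DCoh.D X)).natTransTruncGEOfLE (-((n + 1 : ℕ) : ℤ)) (-(n : ℤ)) (Int.neg_le_neg (Int.ofNat_le.mpr (Nat.le_succ n)))).app E)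
        c ∈ CategoryTheory.Pretriangulated.distinguishedTriangles := by
  rename_i hP
  letI hD : HasDerivedCategory.{u + 1} (ModSite.Mod X.sheaf) := HasDerivedCategory.standard X.Modules
  have hP' : HasProduct (CohCx.truncTower (A := ModSite.Mod X.sheaf) E) := hP
  refine @Groth.Agent.H16.RlimModW.isRlimVia_truncTower _ _ _ X.sheaf hD E hP'
    (Groth.Agent.H16.FormalLim.Baff X) (Groth.Agent.H16.FormalLim.hB X) ?_
  intro V hV
  refine ⟨fun _ => 0, ?_⟩
  intro T hT
  refine ⟨{W : X.Opens // IsAffineOpen W ∧ ∃ g : W ⟶ V, T.arrows g}, fun i => i.1,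
    fun i => i.2.2.choose, fun i => i.2.2.choose_spec, ?_, ?_⟩
  · intro x hx
    obtain ⟨U, f, hf, hxU⟩ := hT x hx
    obtain ⟨W, hWB, hxW, hWU⟩ := TopologicalSpace.Opens.isBasis_iff_nbhd.1 X.isBasis_affineOpens hxU
    have hTW : T.arrows (homOfLE hWU ≫ f) := T.downward_closed hf _
    exact ⟨W, homOfLE hWU ≫ f,
      Sieve.ofArrows_mk
        (fun i : {W : X.Opens // IsAffineOpen W ∧ ∃ g : W ⟶ V, T.arrows g} => i.1)
        (fun i => i.2.2.choose) ⟨W, hWB, ⟨homOfLE hWU ≫ f, hTW⟩⟩, hxW⟩
  · intro i m k hk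
    obtain ⟨j, rfl⟩ : ∃ j, k = j + 1 := ⟨k - 1, by
      have : (0 : ℤ) < k := hk
      omega⟩
    haveI : ((DerivedCategory.homologyFunctor X.Modules (m - ((j + 1 : ℕ) : ℤ))).obj E).IsQuasicoherent :=
      hE _
    constructor
    intro x y
    have h := Groth.Agent.Lead.Coh.hVanish_of_isAffineOpen X
      ((DerivedCategory.homologyFunctor X.Modules (m - ((j + 1 : ℕ) : ℤ))).obj E) i.2.1 j
    exact (h x).trans (h y).symm

end Groth.Agent.S1007
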