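import Groth.Statements.S1386
import Groth.Agent.H1.FibreCritScheme
import Groth.Agent.H25.FlatBCpt
import Groth.Agent.H25.EtaleStalk
import Groth.Agent.H2.FFlatDescent
import Groth.Agent.S0386

set_option autoImplicit false
universe u
open FlatMor

namespace Groth.Agent.S1386

open AlgebraicGeometry CategoryTheory Limits in
/-- Fibrewise flatness criterion (critère de platitude par fibres), for the structure sheaf: let f : X →
Y and g : Y → S be morphisms of schemes with X locally of finite presentation over S (via g ∘ f) and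
Y locally of finite type over S. For a point x of X with images y = f(x) and s = g(y) the following
are equivalent: (1) X → S is flat at x and the induced morphism of fibres X_s → Y_s is flat at x;
(2) Y → S is flat at y and f is flat at x. Moreover the set of points x at which (2) holds is open
in X. The published statement treats a finitely presented quasi-coherent O_X-module; here the module
is O_X. -/
theorem result {X Y S : Scheme.{u}} (f : X ⟶ Y) (g : Y ⟶ S) [LocallyOfFinitePresentation (f ≫ g)] [LocallyOfFiniteType g] :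
    (∀ x : X, ((f ≫ g).stalkMap x).hom.Flat ∧ ((MoreMor.fiberMap f g (g (f x))).stalkMap ((f ≫ g).asFiber x)).hom.Flat ↔
        (g.stalkMap (f x)).hom.Flat ∧ (f.stalkMap x).hom.Flat) ∧
      IsOpen {x : ↑X | (g.stalkMap (f x)).hom.Flat ∧ (f.stalkMap x).hom.Flat} := by
  refine ⟨fun x => ⟨?_, ?_⟩, ?_⟩
  · -- (1) ⇒ (2): the fibrewise criterion
    rintro ⟨h1, h2⟩
    have hx : (f ≫ g).fiberι _ ((f ≫ g).asFiber x) = x := (f ≫ g).fiberι_asFiber x
    have h1' : ((f ≫ g).stalkMap ((f ≫ g).fiberι _ ((f ≫ g).asFiber x))).hom.Flat :=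
      (RingHom.Flat.respectsIso.arrow_mk_iso_iff ((f ≫ g).arrowStalkMapIsoOfEq hx)).mpr h1
    have h2' := Groth.Agent.H1.FibreCrit.flat_quotient_tensor_of_flat_fiberMap f g (g (f x))
      ((f ≫ g).asFiber x) h2
    obtain ⟨hg, hf⟩ := Groth.Agent.H1.FibreCrit.flat_stalkMap_of_flat_fibre f g _ h1' h2'
    exact ⟨(RingHom.Flat.respectsIso.arrow_mk_iso_iff
        (g.arrowStalkMapIsoOfEq (congrArg (fun z => f z) hx))).mp hg,
      (RingHom.Flat.respectsIso.arrow_mk_iso_iff (f.arrowStalkMapIsoOfEq hx)).mp hf⟩
  · -- (2) ⇒ (1): composition and base change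
    rintro ⟨hg, hf⟩
    constructor
    · rw [Scheme.Hom.stalkMap_comp]
      exact RingHom.Flat.comp hg hf
    · have hx : (f ≫ g).fiberι _ ((f ≫ g).asFiber x) = x := (f ≫ g).fiberι_asFiber x
      have hf' : (f.stalkMap ((f ≫ g).fiberι _ ((f ≫ g).asFiber x))).hom.Flat :=
        (RingHom.Flat.respectsIso.arrow_mk_iso_iff (f.arrowStalkMapIsoOfEq hx)).mpr hf
      have big : IsPullback ((f ≫ g).fiberι (g (f x)))
          ((f ≫ g).fiberToSpecResidueField (g (f x))) (f ≫ g)
          (S.fromSpecResidueField (g (f x))) := IsPullback.of_hasPullback _ _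
      have right : IsPullback (g.fiberι (g (f x))) (g.fiberToSpecResidueField (g (f x))) g
          (S.fromSpecResidueField (g (f x))) := IsPullback.of_hasPullback _ _
      have big' := big.flip
      rw [← Groth.Agent.H1.FibreCrit.fiberMap_fiberToSpecResidueField f g (g (f x))] at big'
      have left := IsPullback.of_right big'
        (Groth.Agent.H1.FibreCrit.fiberMap_fiberι f g (g (f x))) right.flip
      exact Groth.Agent.H25.FlatBCpt.flat_stalkMap_of_isPullback left.flip _ hf'
  · -- openness
    have hlfp : LocallyOfFinitePresentation f := Groth.Agent.H25.EtaleStalk.lfp_of_comp f g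
    have h1 := Groth.Agent.S0386.result (f ≫ g)
    have h2 := Groth.Agent.S0386.result f
    convert h1.inter h2 using 1
    ext x
    simp only [Set.mem_ofPred_eq, Set.mem_inter_iff]
    constructor
    · rintro ⟨hg, hf⟩
      refine ⟨?_, hf⟩
      rw [Scheme.Hom.stalkMap_comp]
      exact RingHom.Flat.comp hg hf
    · rintro ⟨hfg, hf⟩
      refine ⟨?_, hf⟩
      rw [Scheme.Hom.stalkMap_comp] at hfg
      let _ : Algebra (S.presheaf.stalk (g (f x))) (Y.presheaf.stalk (f x)) :=
        (g.stalkMap (f x)).hom.toAlgebra
      let _ : Algebra (Y.presheaf.stalk (f x)) (X.presheaf.stalk x) := (f.stalkMap x).hom.toAlgebra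
      let _ : Algebra (S.presheaf.stalk (g (f x))) (X.presheaf.stalk x) :=
        ((f.stalkMap x).hom.comp (g.stalkMap (f x)).hom).toAlgebra
      have tower : IsScalarTower (S.presheaf.stalk (g (f x))) (Y.presheaf.stalk (f x))
          (X.presheaf.stalk x) := IsScalarTower.of_algebraMap_eq fun _ => rfl
      have hloc : IsLocalHom (algebraMap (Y.presheaf.stalk (f x)) (X.presheaf.stalk x)) :=
        inferInstanceAs (IsLocalHom (f.stalkMap x).hom)
      have hflat : Module.Flat (Y.presheaf.stalk (f x)) (X.presheaf.stalk x) := hf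
      have hff : Module.FaithfullyFlat (Y.presheaf.stalk (f x)) (X.presheaf.stalk x) :=
        Module.FaithfullyFlat.of_flat_of_isLocalHom
      have hflat2 : Module.Flat (S.presheaf.stalk (g (f x))) (X.presheaf.stalk x) := hfg
      exact Groth.Agent.H2.flat_of_faithfullyFlat_module (S.presheaf.stalk (g (f x)))
        (Y.presheaf.stalk (f x)) (X.presheaf.stalk x)

end Groth.Agent.S1386
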