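import Groth.Statements.S5925
import Groth.Agent.H17.Chev.ZeroLoc
import Groth.Agent.H17.Chev.Equidim8

set_option autoImplicit false
open CategoryTheory AlgebraicGeometry
universe u
open EGA43

namespace Groth.Agent.S5925

/-- Let Y be an irreducible locally Noetherian scheme, f : X ⟶ Y a morphism locally of finite type which
is equidimensional at the point x, y = f x and e = dim_x(f⁻¹(y)). Let g be a global section of O_X
vanishing at x whose zero set X' contains no maximal point of f⁻¹(y). Then X', with its reduced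
closed subscheme structure, is equidimensional over Y at x; dim_x(X' ∩ f⁻¹(y)) = e − 1; and every
irreducible component of X' containing x has codimension 1 in X, i.e. the local ring of X at its
generic point has Krull dimension 1. (Stated for a global section; the published statement takes g
on an affine open neighbourhood of x, to which this applies after restriction, and its codimension
assertion codim(X', X) = 1 is read for the components of X' through x: a component of the zero set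
not passing through x can be a whole irreducible component of X disjoint from the fibre, of
codimension 0.) -/
theorem result {X Y : Scheme.{u}} [IrreducibleSpace Y]
    [IsLocallyNoetherian Y] (f : X ⟶ Y) [LocallyOfFiniteType f] (x : X) (hf : EGA43.IsEquidimAt f x)
    (g : Γ(X, ⊤)) (hgx : x ∈ X.zeroLocus ({g} : Set Γ(X, ⊤)))
    (hmax : ∀ z : X, f.base z = f.base x → (∀ z' : X, f.base z' = f.base x → z ∈ closure ({z'} : Set X) → z' = z) →
      z ∉ X.zeroLocus ({g} : Set Γ(X, ⊤))) :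
    (∀ w : ↥(Scheme.IdealSheafData.vanishingIdeal ⟨X.zeroLocus ({g} : Set Γ(X, ⊤)), X.zeroLocus_isClosed _⟩).subscheme,
        (Scheme.IdealSheafData.vanishingIdeal ⟨X.zeroLocus ({g} : Set Γ(X, ⊤)), X.zeroLocus_isClosed _⟩).subschemeι.base w = x →
        EGA43.IsEquidimAt ((Scheme.IdealSheafData.vanishingIdeal ⟨X.zeroLocus ({g} : Set Γ(X, ⊤)), X.zeroLocus_isClosed _⟩).subschemeι ≫ f) w) ∧
      FlatMor.localDim ↥(X.zeroLocus ({g} : Set Γ(X, ⊤)) ∩ f.base ⁻¹' {f.base x}) ⟨x, ⟨hgx, rfl⟩⟩ + 1 = FlatMor.fibreDimAt f x ∧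
      ∀ Z ∈ irreducibleComponents ↥(X.zeroLocus ({g} : Set Γ(X, ⊤))), (⟨x, hgx⟩ : ↥(X.zeroLocus ({g} : Set Γ(X, ⊤)))) ∈ Z →
        ∀ ξ : ↥(X.zeroLocus ({g} : Set Γ(X, ⊤))), closure ({ξ} : Set ↥(X.zeroLocus ({g} : Set Γ(X, ⊤)))) = Z →
          ringKrullDim (X.presheaf.stalk (ξ : X)) = 1 := by
  have hXN : IsLocallyNoetherian X := LocallyOfFiniteType.isLocallyNoetherian f
  have hVc : IsClosed (X.zeroLocus ({g} : Set Γ(X, ⊤))) := X.zeroLocus_isClosed _
  have hS := Groth.Agent.H17.Chev.exists_specializes_ne_of_hmax f x _ hmax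
  have hB := fun ξ hξ hm hξx => Groth.Agent.H17.Chev.zeroLocus_isMax_main f x hf g hS ξ hξ hm hξx
  have hr : Set.range (Scheme.IdealSheafData.vanishingIdeal
      ⟨X.zeroLocus ({g} : Set Γ(X, ⊤)), X.zeroLocus_isClosed _⟩).subschemeι.base =
      X.zeroLocus ({g} : Set Γ(X, ⊤)) := by
    rw [Scheme.IdealSheafData.range_subschemeι]
    exact Scheme.IdealSheafData.coe_support_vanishingIdeal _
  generalize (Scheme.IdealSheafData.vanishingIdeal
      ⟨X.zeroLocus ({g} : Set Γ(X, ⊤)), X.zeroLocus_isClosed _⟩) = I at hr ⊢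
  have hmemV : ∀ w' : ↥I.subscheme, I.subschemeι.base w' ∈ X.zeroLocus ({g} : Set Γ(X, ⊤)) :=
    fun w' => (Set.ext_iff.mp hr _).mp ⟨w', rfl⟩
  have hmaxι : ∀ ζ : ↥I.subscheme, IsMax ζ → ∀ t ∈ X.zeroLocus ({g} : Set Γ(X, ⊤)),
      t ⤳ I.subschemeι.base ζ → t = I.subschemeι.base ζ := by
    intro ζ hζ t ht hsp
    rw [← hr] at ht
    obtain ⟨t', rfl⟩ := ht
    have h1 : t' ⤳ ζ := I.subschemeι.isClosedEmbedding.isInducing.specializes_iff.mp hsp
    have h2 : ζ ⤳ t' := hζ (show ζ ≤ t' from h1)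
    rw [(h1.antisymm h2).eq]
  obtain ⟨e, he⟩ := Groth.Agent.H17.Chev.exists_nat_eq_fibreDimAt f x
  have hVN : IsLocallyNoetherian I.subscheme :=
    LocallyOfFiniteType.isLocallyNoetherian (I.subschemeι ≫ f)
  -- a maximal point of V through x
  obtain ⟨w0, hw0⟩ : x ∈ Set.range I.subschemeι.base := (Set.ext_iff.mp hr _).mpr hgx
  obtain ⟨ζ0, hζ0max, hζ0w⟩ := Groth.Agent.H17.Chev.exists_isMax_specializes I.subscheme w0
  have hζ0x : I.subschemeι.base ζ0 ⤳ x := by
    have := hζ0w.map I.subschemeι.continuous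
    rwa [hw0] at this
  obtain ⟨-, hB02, -, -⟩ := hB _ (hmemV ζ0) (hmaxι ζ0 hζ0max) hζ0x
  have hcast : ∀ a : WithBot ℕ∞, a + 1 = (e : WithBot ℕ∞) → ∃ k : ℕ, a = k ∧ k + 1 = e := by
    intro a ha
    induction a with
    | bot => simp at ha
    | coe a =>
      induction a with
      | top =>
        exfalso
        have h1 : (((⊤ : ℕ∞) + 1 : ℕ∞) : WithBot ℕ∞) = ((e : ℕ∞) : WithBot ℕ∞) := ha
        rw [WithBot.coe_inj, top_add] at h1
        exact ENat.top_ne_natCast e h1
      | coe a =>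
        refine ⟨a, rfl, ?_⟩
        exact_mod_cast ha
  rw [he] at hB02
  obtain ⟨k, hk, hke⟩ := hcast _ hB02
  have hsubV : ∀ ξ ∈ X.zeroLocus ({g} : Set Γ(X, ⊤)),
      closure ({ξ} : Set X) ⊆ X.zeroLocus ({g} : Set Γ(X, ⊤)) := fun ξ hξ =>
    hVc.closure_subset_iff.mpr (Set.singleton_subset_iff.mpr hξ)
  refine ⟨?_, ?_, ?_⟩
  · intro w hw
    subst hw
    refine Groth.Agent.H17.Chev.isEquidimAt_comp_of_forall_isMax f I.subschemeι w k ?_
    intro ζ hζmax hζw
    obtain ⟨-, hB2, hB3, hB4⟩ := hB _ (hmemV ζ) (hmaxι ζ hζmax) (hζw.map I.subschemeι.continuous)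
    rw [he] at hB2
    obtain ⟨k', hk', hke'⟩ := hcast _ hB2
    have hkk : k' = k := by omega
    subst hkk
    refine ⟨hB3, ?_, hk'⟩
    rw [hB4, hk']
  · apply le_antisymm
    · exact Groth.Agent.H17.Chev.localDim_inter_fibre_add_one_le f _ hVc x hgx hS
    · rw [he]
      have hmono := Groth.Agent.H17.Chev.localDim_subtype_mono
        (Set.inter_subset_inter_left (f.base ⁻¹' {f.base x}) (hsubV _ (hmemV ζ0))) x
        ⟨hζ0x.mem_closure, rfl⟩
      rw [hk] at hmono
      calc (e : WithBot ℕ∞) = (k : WithBot ℕ∞) + 1 := by exact_mod_cast hke.symm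
        _ ≤ _ := add_le_add hmono le_rfl
  · intro Z hZ hxZ ξ hξZ
    have hξx : (ξ : X) ⤳ x := by
      have h1 : ξ ⤳ (⟨x, hgx⟩ : ↥(X.zeroLocus ({g} : Set Γ(X, ⊤)))) := by
        rw [specializes_iff_mem_closure, hξZ]; exact hxZ
      exact h1.map continuous_subtype_val
    have hm : ∀ t ∈ X.zeroLocus ({g} : Set Γ(X, ⊤)), t ⤳ (ξ : X) → t = ξ := by
      intro t ht hsp
      have h1 : (⟨t, ht⟩ : ↥(X.zeroLocus ({g} : Set Γ(X, ⊤)))) ⤳ ξ :=
        (subtype_specializes_iff _ _).mpr hsp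
      have h2 : Z ⊆ closure {(⟨t, ht⟩ : ↥(X.zeroLocus ({g} : Set Γ(X, ⊤))))} := by
        rw [← hξZ]; exact h1.closure_subset
      have h3 : closure {(⟨t, ht⟩ : ↥(X.zeroLocus ({g} : Set Γ(X, ⊤))))} ⊆ Z :=
        hZ.2 isIrreducible_singleton.closure h2
      have h4 : (⟨t, ht⟩ : ↥(X.zeroLocus ({g} : Set Γ(X, ⊤)))) ∈ closure {ξ} := by
        rw [hξZ]; exact h3 (subset_closure rfl)
      have h5 : ξ ⤳ (⟨t, ht⟩ : ↥(X.zeroLocus ({g} : Set Γ(X, ⊤)))) :=
        specializes_iff_mem_closure.mpr h4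
      have h6 : (ξ : X) ⤳ t := h5.map continuous_subtype_val
      exact (hsp.antisymm h6).eq
    exact (hB _ ξ.2 hm hξx).1

end Groth.Agent.S5925
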