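import Groth.Statements.S3404
import Groth.Agent.H17.ProConsScheme

set_option autoImplicit false
open CategoryTheory AlgebraicGeometry
universe u
open EGA41

namespace Groth.Agent.S3404

/-- Let f : X ⟶ Y be a morphism of schemes, x a point of X and y = f x. If f is open at x then every
generization of y is the image of a generization of x; when f is locally of finite presentation the
converse holds. -/
theorem result {X Y : Scheme.{u}} (f : X ⟶ Y) (x : X) :
    (EGA43.IsOpenAt f.base x → ∀ y' : Y, y' ⤳ f.base x → ∃ x' : X, x' ⤳ x ∧ f.base x' = y') ∧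
    (LocallyOfFinitePresentation f →
      ((EGA43.IsOpenAt f.base x) ↔ ∀ y' : Y, y' ⤳ f.base x → ∃ x' : X, x' ⤳ x ∧ f.base x' = y')) := by
  have h1 : EGA43.IsOpenAt f.base x → ∀ y' : Y, y' ⤳ f.base x → ∃ x' : X, x' ⤳ x ∧ f.base x' = y' := by
    intro hopen y' hy'
    exact Groth.Agent.H17.exists_specializes_lift (Groth.Agent.H17.goodBasis_scheme X)
      (Groth.Agent.H17.goodBasis_scheme Y) f.continuous
      (fun W' W h hW' hW => Groth.Agent.H17.isSpectralMap_restrict f W' W h hW' hW) x hopen y' hy'
  refine ⟨h1, fun hfp => ⟨h1, fun hlift => ?_⟩⟩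
  exact Groth.Agent.H17.isOpenAt_of_specializes_lift (Groth.Agent.H17.goodBasis_scheme X)
    (Groth.Agent.H17.goodBasis_scheme Y) f.continuous
    (fun W' W h hW' hW T hT => Groth.Agent.H17.isConstructible_image_restrict f W' W h hW' hW T hT)
    x hlift

end Groth.Agent.S3404
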