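import Groth.Statements.S4925
import Groth.Agent.H25.OpenAt

set_option autoImplicit false
open CategoryTheory AlgebraicGeometry
universe u v w
open EGA43
open CategoryTheory.Limits

namespace Groth.Agent.S4925

/-- Let f : X ⟶ Y and g : Y ⟶ Z be morphisms of schemes and x a point of X. If f is universally open at
x and g is universally open at f x, then f ≫ g is universally open at x. -/
theorem result {X Y Z : Scheme.{u}} (f : X ⟶ Y) (g : Y ⟶ Z) (x : X)
    (hf : EGA43.IsUnivOpenAt f x) (hg : EGA43.IsUnivOpenAt g (f.base x)) :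
    EGA43.IsUnivOpenAt (f ≫ g) x := by
  intro Z' h x' hx'
  let l : pullback (f ≫ g) h ⟶ pullback g h :=
    pullback.lift (pullback.fst (f ≫ g) h ≫ f) (pullback.snd (f ≫ g) h)
      (by rw [Category.assoc, pullback.condition])
  have e1 : l ≫ pullback.fst g h = pullback.fst (f ≫ g) h ≫ f := pullback.lift_fst _ _ _
  have e2 : l ≫ pullback.snd g h = pullback.snd (f ≫ g) h := pullback.lift_snd _ _ _
  have sqR : IsPullback (pullback.snd g h) (pullback.fst g h) h g :=
    (IsPullback.of_hasPullback g h).flip
  have sqO : IsPullback (l ≫ pullback.snd g h) (pullback.fst (f ≫ g) h) h (f ≫ g) := by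
    rw [e2]
    exact (IsPullback.of_hasPullback (f ≫ g) h).flip
  have sqL : IsPullback l (pullback.fst (f ≫ g) h) (pullback.fst g h) f :=
    IsPullback.of_right sqO e1 sqR
  have h1 : EGA43.IsOpenAt l.base x' :=
    Groth.Agent.H25.isOpenAt_of_isPullback hf sqL.flip x' hx'
  have h2 : EGA43.IsOpenAt (pullback.snd g h).base (l.base x') := by
    apply hg
    rw [← Scheme.Hom.comp_apply, e1, Scheme.Hom.comp_apply, hx']
  have h3 := Groth.Agent.H25.isOpenAt_comp h1 h2
  refine Groth.Agent.H25.isOpenAt_congr ?_ h3
  funext a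
  rw [Function.comp_apply, ← Scheme.Hom.comp_apply, e2]

end Groth.Agent.S4925
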