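import Groth.Statements.S4926
import Groth.Agent.H25.OpenAt

set_option autoImplicit false
open CategoryTheory AlgebraicGeometry
universe u v w
open EGA43
open CategoryTheory.Limits

namespace Groth.Agent.S4926

/-- Let f : X ⟶ Y and g : Y ⟶ Z be morphisms of schemes and x a point of X. If f ≫ g is universally open
at x, then g is universally open at the point f x. -/
theorem result {X Y Z : Scheme.{u}} (f : X ⟶ Y) (g : Y ⟶ Z) (x : X)
    (h : EGA43.IsUnivOpenAt (f ≫ g) x) : EGA43.IsUnivOpenAt g (f.base x) := by
  intro Z' k y' hy'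
  let l : pullback (f ≫ g) k ⟶ pullback g k :=
    pullback.lift (pullback.fst (f ≫ g) k ≫ f) (pullback.snd (f ≫ g) k)
      (by rw [Category.assoc, pullback.condition])
  have e1 : l ≫ pullback.fst g k = pullback.fst (f ≫ g) k ≫ f := pullback.lift_fst _ _ _
  have e2 : l ≫ pullback.snd g k = pullback.snd (f ≫ g) k := pullback.lift_snd _ _ _
  have sqR : IsPullback (pullback.snd g k) (pullback.fst g k) k g :=
    (IsPullback.of_hasPullback g k).flip
  have sqO : IsPullback (l ≫ pullback.snd g k) (pullback.fst (f ≫ g) k) k (f ≫ g) := by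
    rw [e2]
    exact (IsPullback.of_hasPullback (f ≫ g) k).flip
  have sqL : IsPullback l (pullback.fst (f ≫ g) k) (pullback.fst g k) f :=
    IsPullback.of_right sqO e1 sqR
  obtain ⟨p, hp1, hp2⟩ := Scheme.exists_preimage_of_isPullback sqL y' x hy'
  have h1 : EGA43.IsOpenAt (pullback.snd (f ≫ g) k).base p := h Z' k p hp2
  have h2 : EGA43.IsOpenAt ((pullback.snd g k).base ∘ l.base) p := by
    refine Groth.Agent.H25.isOpenAt_congr ?_ h1
    funext a
    rw [Function.comp_apply, ← Scheme.Hom.comp_apply, e2]
  have h3 := Groth.Agent.H25.isOpenAt_of_comp l.continuous h2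
  rw [hp1] at h3
  exact h3

end Groth.Agent.S4926
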