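import Groth.Statements.S2126
import Groth.Agent.H18.STL.AmpleBasis

set_option autoImplicit false
universe u
open CategoryTheory AlgebraicGeometry
open Mor

namespace Groth.Agent.S2126

/-- Let `X` be a quasi-compact scheme and `L` an invertible `O_X`-module. Then `L` is ample if and only
if the opens `X_s`, for `s` a global section of some positive tensor power of `L`, form a basis for
the topology of `X`. -/
theorem result {X : Scheme.{u}} [CompactSpace X] (L : X.Modules) (hL : PicF.IsInvertible L) :
    CohB1.IsAmple L ↔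
      TopologicalSpace.Opens.IsBasis
        {U : X.Opens | ∃ (n : ℕ) (s : Coh.structureModule X ⟶ CohB1.tensorPow L (n + 1)), U = CohB1.genLocus _ s} := by
  constructor
  · intro hA
    rw [TopologicalSpace.Opens.isBasis_iff_nbhd]
    intro W x hx
    obtain ⟨k, b, hxb, hbW, -⟩ := Groth.Agent.H18.STL.exists_genLocus_nhd_of_isAmple hA W x hx
    exact ⟨_, ⟨k, b, rfl⟩, hxb, hbW⟩
  · intro hB
    rw [TopologicalSpace.Opens.isBasis_iff_nbhd] at hB
    refine ⟨hL, inferInstance, fun x => ?_⟩
    obtain ⟨A, hAaff, hxA, -⟩ := TopologicalSpace.Opens.isBasis_iff_nbhd.1 X.isBasis_affineOpens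
      (show x ∈ (⊤ : X.Opens) from trivial)
    obtain ⟨U, ⟨n, s, rfl⟩, hxU, hUA⟩ := hB hxA
    exact ⟨n, s, hxU, Groth.Agent.H18.STL.isAffineOpen_genLocus_of_le
      (Groth.Agent.H18.STL.isInvertible_tensorPow hL _) s hAaff hUA⟩

end Groth.Agent.S2126
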