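import Groth.Statements.S3586
import Groth.Agent.H18.GrGlue

set_option autoImplicit false
universe u
open CategoryTheory AlgebraicGeometry Opposite TopologicalSpace
open EGA2

namespace Groth.Agent.S3586

/-- Let S be a graded ring, M a graded S-module, f homogeneous of degree d > 0 and n an integer. Then
every section of the sheaf M(n)~ over D_+(f) is given on all of D_+(f) by one fraction m/f^k with m
homogeneous of degree kd + n. (This is the surjectivity half of the identification of the sections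
of M(n)~ over D_+(f) with M(n)_(f).) -/
theorem result {R A : Type u} [CommRing R] [CommRing A] [Algebra R A] (𝒜 : ℕ → Submodule R A) [GradedAlgebra 𝒜]
    {M : Type u} [AddCommGroup M] [Module R M] [Module A M] [IsScalarTower R A M] (ℳ : ℕ → Submodule R M) [DirectSum.Decomposition ℳ] [SetLike.GradedSMul 𝒜 ℳ] (n : ℤ) {d : ℕ} (hd : 0 < d) {f : A} (hf : f ∈ 𝒜 d)
    (s : GrTilde.sect 𝒜 ℳ n (op (ProjectiveSpectrum.basicOpen 𝒜 f))) :
    ∃ (k i : ℕ) (m : ℳ i), (i : ℤ) = k * d + n ∧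
      ∀ x : ProjectiveSpectrum.basicOpen 𝒜 f,
        ((s.1 x : GrTilde.tildeAt 𝒜 ℳ n x.1) : GrTilde.LocMod 𝒜 (M := M) x.1) =
          (LocalizedModule.mk m.1 ⟨f ^ k, fun h => (ProjectiveSpectrum.mem_basicOpen 𝒜 f x.1).mp x.2
            (x.1.isPrime.mem_of_pow_mem k h)⟩ : GrTilde.LocMod 𝒜 (M := M) x.1) := by
  have hσ : Groth.Agent.H18.IsLocFracOn 𝒜 ℳ n f
      (fun y hy => ((s.1 ⟨y, (ProjectiveSpectrum.mem_basicOpen 𝒜 f y).mpr hy⟩ :
        GrTilde.tildeAt 𝒜 ℳ n y) : GrTilde.LocMod 𝒜 (M := M) y)) := by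
    intro x hx
    obtain ⟨V, hxV, iV, i, j, m, t, nin, hdeg, hval⟩ :=
      s.2 ⟨x, (ProjectiveSpectrum.mem_basicOpen 𝒜 f x).mpr hx⟩
    refine ⟨V.1, V.2, hxV, i, j, m.1, t.1, m.2, t.2, hdeg, ?_⟩
    intro y hy hyV
    exact ⟨nin ⟨y, hyV⟩, hval ⟨y, hyV⟩⟩
  obtain ⟨k, i, m, hm, hdeg, hval⟩ := hσ.exists_global hd hf
  exact ⟨k, i, ⟨m, hm⟩, hdeg, fun x => hval x.1 ((ProjectiveSpectrum.mem_basicOpen 𝒜 f x.1).mp x.2)⟩

end Groth.Agent.S3586
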