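import Groth.Statements.S3591
import Groth.Agent.H18.PUP.Charts

set_option autoImplicit false
universe u
open CategoryTheory CategoryTheory.Limits AlgebraicGeometry
open EGA2

namespace Groth.Agent.S3591

/-- Universal property of the projective bundle of a quasi-coherent module over an affine base,
existence part. Let A be a ring, M an A-module and S a graded A-algebra with an A-linear map ι : M →
S_1 making S a symmetric algebra of M (so Proj S = P(M~)). Let q : X → Spec A be a scheme over A, L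
an invertible O_X-module and v : M → Γ(X, L) an A-linear map whose image generates L (these
correspond to the surjections q^*(M~) → L). Then there are an A-morphism r : X → Proj S and an
isomorphism r^*O(1) ≅ L carrying, for every m ∈ M, the pullback of the global section ι(m) of O(1)
to v(m). -/
theorem result {A : Type u} [CommRing A] {S : Type u} [CommRing S] [Algebra A S] (𝒮 : ℕ → Submodule A S) [GradedAlgebra 𝒮]
    {M : Type u} [AddCommGroup M] [Module A M] (ι : M →ₗ[A] S) (hι : ∀ m : M, ι m ∈ 𝒮 1)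
    (hsym : IsSymmetricAlgebra ι)
    {X : Scheme.{u}} (q : X ⟶ Spec (CommRingCat.of A)) (L : X.Modules) (hL : PicF.IsInvertible L)
    (v : M →+ ProjUP.Γm L) (hv : ∀ (a : A) (m : M), v (a • m) = ProjUP.toGlobal q a • v m)
    (hgen : ProjUP.GeneratedBy L v) :
    ∃ (r : X ⟶ Proj 𝒮) (_ : r ≫ Proj.toSpecZero 𝒮 ≫ Spec.map (CommRingCat.ofHom (algebraMap A (𝒮 0))) = q)
      (τ : (Scheme.Modules.pullback r).obj (Twist.twist 𝒮 1) ≅ L),
      ∀ m : M, τ.hom.app ⊤ (ProjUP.pullSec r (Twist.twist 𝒮 1) (Twist.globalOf 𝒮 ⟨ι m, hι m⟩)) = v m := by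
  classical
  let I := {p : M × X.Opens //
    Groth.Agent.H18.PUP.IsBasisOn L p.2 (Groth.Agent.H18.mres L (le_top : p.2 ≤ ⊤) (v p.1))}
  let c : I → Groth.Agent.H18.PUP.Chart q L (fun m => ι m) (fun m => v m) :=
    fun p => Groth.Agent.H18.PUP.chartOf ι hsym q L v hv p.1.2 p.1.1 p.2
  have hcov : ∀ x : X, ∃ i, x ∈ (c i).W := by
    intro x
    obtain ⟨m, W, hxW, hbW⟩ := Groth.Agent.H18.PUP.exists_basis_nhd L hL (fun m => v m) hgen x
    exact ⟨⟨(m, W), hbW⟩, hxW⟩
  have hproj : ∀ y : Proj 𝒮, ∃ m, y ∈ Proj.basicOpen 𝒮 (ι m) := fun y =>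
    Groth.Agent.H18.exists_notMem_of_adjoin_eq_top 𝒮 (fun m => ι m)
      (Groth.Agent.H18.PUP.adjoin_range_eq_top_of_isSymmetricAlgebra hsym) y
  exact Groth.Agent.H18.PUP.exists_hom_of_charts 𝒮 q L (fun m => ι m) (fun m => v m) c hι hcov
    (fun i i' => Groth.Agent.H18.PUP.chart_compat 𝒮 ι hι hsym q L v (c i) (c i')) hproj

end Groth.Agent.S3591
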