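import Groth.Statements.S3572
import Groth.Agent.S3591
import Mathlib.LinearAlgebra.SymmetricAlgebra.Basis

set_option autoImplicit false
universe u
open CategoryTheory CategoryTheory.Limits AlgebraicGeometry
open EGA2

namespace Groth.Agent.S3572

/-- Existence part of the universal property of projective n-space over an affine base Spec R (the
published statement is for P(E) with E an arbitrary quasi-coherent module; here E is the free module
of rank n+1, so that P(E) is projective n-space over R): let X be a scheme over R, L an invertible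
O_X-module and s_0, …, s_n global sections of L generating L. Then there is an R-morphism r from X
to projective n-space over R and an isomorphism r^*O(1) ≅ L carrying the inverse image of the
coordinate T_i to s_i for every i. -/
theorem result {R : Type u} [CommRing R] (n : ℕ) {X : Scheme.{u}}
    (q : X ⟶ Spec (CommRingCat.of R)) (L : X.Modules) (hL : PicF.IsInvertible L)
    (s : Fin (n + 1) → ProjUP.Γm L) (hs : ProjUP.GeneratedBy L s) :
    ∃ (r : X ⟶ CohB1.ProjSpace n R) (_ : r ≫ CohB1.ProjSpace.toSpec n R = q)
      (τ : (Scheme.Modules.pullback r).obj (Twist.twistProjSpace n R 1) ≅ L),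
      ∀ i, τ.hom.app ⊤ (ProjUP.pullSec r (Twist.twistProjSpace n R 1) (ProjUP.coord n R i)) = s i := by
  classical
  let M := Fin (n + 1) → R
  let bs : Module.Basis (Fin (n + 1)) R M := Pi.basisFun R (Fin (n + 1))
  let ι : M →ₗ[R] MvPolynomial (Fin (n + 1)) R :=
    Module.Basis.constr bs R (MvPolynomial.X : Fin (n + 1) → MvPolynomial (Fin (n + 1)) R)
  have hsym : IsSymmetricAlgebra ι := SymmetricAlgebra.IsSymmetricAlgebra.mvPolynomial (Fin (n + 1)) bs
  have hιX : ∀ i, ι (Pi.single i 1) = MvPolynomial.X i := by
    intro i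
    have h1 := Module.Basis.constr_basis bs R
      (MvPolynomial.X : Fin (n + 1) → MvPolynomial (Fin (n + 1)) R) i
    rw [Pi.basisFun_apply] at h1
    exact h1
  have hι : ∀ m : M, ι m ∈ CohB1.polyGrading n R 1 := by
    intro m
    have h1 : ι m = ∑ i, bs.equivFun m i • (MvPolynomial.X i : MvPolynomial (Fin (n + 1)) R) :=
      Module.Basis.constr_apply_fintype (S := R) bs _ m
    rw [h1]
    refine Submodule.sum_mem _ fun i _ => Submodule.smul_mem _ _ ?_
    exact MvPolynomial.isHomogeneous_X R i
  let v : M →+ ProjUP.Γm L :=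
    { toFun := fun c => ∑ i, ProjUP.toGlobal q (c i) • s i
      map_zero' := by
        change ∑ i, ProjUP.toGlobal q ((0 : M) i) • s i = 0
        refine Finset.sum_eq_zero fun i _ => ?_
        rw [Pi.zero_apply, map_zero, zero_smul]
      map_add' := by
        intro c c'
        change ∑ i, ProjUP.toGlobal q ((c + c') i) • s i =
          ∑ i, ProjUP.toGlobal q (c i) • s i + ∑ i, ProjUP.toGlobal q (c' i) • s i
        rw [← Finset.sum_add_distrib]
        refine Finset.sum_congr rfl fun i _ => ?_
        rw [Pi.add_apply, map_add, add_smul] }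
  have hvs : ∀ i, v (Pi.single i 1) = s i := by
    intro i
    change ∑ j, ProjUP.toGlobal q ((Pi.single i 1 : M) j) • s j = s i
    rw [Finset.sum_eq_single i]
    · rw [Pi.single_eq_same, map_one, one_smul]
    · intro j _ hj
      rw [Pi.single_eq_of_ne hj, map_zero, zero_smul]
    · intro h
      exact absurd (Finset.mem_univ i) h
  have hv : ∀ (a : R) (m : M), v (a • m) = ProjUP.toGlobal q a • v m := by
    intro a m
    change ∑ i, ProjUP.toGlobal q ((a • m) i) • s i = ProjUP.toGlobal q a • ∑ i, ProjUP.toGlobal q (m i) • s i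
    rw [Finset.smul_sum]
    refine Finset.sum_congr rfl fun i _ => ?_
    rw [Pi.smul_apply, smul_eq_mul, map_mul, mul_smul]
  have hgen : ProjUP.GeneratedBy L v := by
    intro x
    rw [eq_top_iff, ← hs x]
    apply Submodule.span_mono
    rintro _ ⟨i, rfl⟩
    exact ⟨Pi.single i 1, by simp only [hvs]⟩
  obtain ⟨r, hr, τ, hτ⟩ := Groth.Agent.S3591.result (CohB1.polyGrading n R) ι hι hsym q L hL v hv hgen
  refine ⟨r, hr, τ, fun i => ?_⟩
  have h1 := hτ (Pi.single i 1)
  rw [hvs] at h1
  rw [← h1]
  have h2 : (⟨ι (Pi.single i 1), hι (Pi.single i 1)⟩ : CohB1.polyGrading n R 1) =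
      ⟨MvPolynomial.X i, MvPolynomial.isHomogeneous_X R i⟩ := Subtype.ext (hιX i)
  unfold ProjUP.coord
  rw [h2]
  rfl

end Groth.Agent.S3572
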