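import Groth.Statements.S3573
import Groth.Agent.H18.PUP.Unique2
import Mathlib.LinearAlgebra.SymmetricAlgebra.Basis

set_option autoImplicit false
universe u
open CategoryTheory CategoryTheory.Limits AlgebraicGeometry
open EGA2

namespace Groth.Agent.S3573

/-- Let R be a commutative ring, X a scheme, and r, r' : X → P^n_R two morphisms over Spec R. If there
is an isomorphism τ : r^*O(1) ≅ r'^*O(1) carrying, for each i = 0, …, n, the pullback under r of the
coordinate section T_i of O(1) to its pullback under r', then r = r'. (Stated here for projective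
n-space over an affine base Spec R, that is, for a free module of rank n + 1; the published
statement is for the projective bundle of a more general module over a general base.) -/
theorem result {R : Type u} [CommRing R] (n : ℕ) {X : Scheme.{u}}
    (r r' : X ⟶ CohB1.ProjSpace n R) (hrr' : r ≫ CohB1.ProjSpace.toSpec n R = r' ≫ CohB1.ProjSpace.toSpec n R)
    (τ : (Scheme.Modules.pullback r).obj (Twist.twistProjSpace n R 1) ≅
      (Scheme.Modules.pullback r').obj (Twist.twistProjSpace n R 1))
    (hτ : ∀ i, τ.hom.app ⊤ (ProjUP.pullSec r (Twist.twistProjSpace n R 1) (ProjUP.coord n R i)) =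
      ProjUP.pullSec r' (Twist.twistProjSpace n R 1) (ProjUP.coord n R i)) :
    r = r' := by
  classical
  let M := Fin (n + 1) → R
  let bs : Module.Basis (Fin (n + 1)) R M := Pi.basisFun R (Fin (n + 1))
  let ι : M →ₗ[R] MvPolynomial (Fin (n + 1)) R :=
    Module.Basis.constr bs R (MvPolynomial.X : Fin (n + 1) → MvPolynomial (Fin (n + 1)) R)
  have hsym : IsSymmetricAlgebra ι := SymmetricAlgebra.IsSymmetricAlgebra.mvPolynomial (Fin (n + 1)) bs
  have hιX : ∀ i, ι (Pi.single i 1) = MvPolynomial.X i := by
    intro i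
    have h1 := Module.Basis.constr_basis bs R
      (MvPolynomial.X : Fin (n + 1) → MvPolynomial (Fin (n + 1)) R) i
    rw [Pi.basisFun_apply] at h1
    exact h1
  have hι : ∀ m : M, ι m ∈ CohB1.polyGrading n R 1 := by
    intro m
    have h1 : ι m = ∑ i, bs.equivFun m i • (MvPolynomial.X i : MvPolynomial (Fin (n + 1)) R) :=
      Module.Basis.constr_apply_fintype (S := R) bs _ m
    rw [h1]
    refine Submodule.sum_mem _ fun i _ => Submodule.smul_mem _ _ ?_
    exact MvPolynomial.isHomogeneous_X R i
  let T : Set M := Set.range fun i : Fin (n + 1) => (Pi.single i 1 : M)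
  have hT : Submodule.span R T = ⊤ := by
    have h1 := bs.span_eq
    have h2 : Set.range bs = T := by
      ext m
      constructor
      · rintro ⟨i, rfl⟩
        exact ⟨i, (Pi.basisFun_apply R (Fin (n + 1)) i).symm⟩
      · rintro ⟨i, rfl⟩
        exact ⟨i, Pi.basisFun_apply R (Fin (n + 1)) i⟩
    rw [← h2]
    exact h1
  refine Groth.Agent.H18.PUP.eq_of_iso_pullback_of_span (CohB1.polyGrading n R) ι hι hsym T hT
    r r' hrr' τ ?_
  rintro _ ⟨i, rfl⟩
  have h2 : (⟨ι (Pi.single i 1), hι (Pi.single i 1)⟩ : CohB1.polyGrading n R 1) =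
      ⟨MvPolynomial.X i, MvPolynomial.isHomogeneous_X R i⟩ := Subtype.ext (hιX i)
  have h3 : ∀ ρ : X ⟶ CohB1.ProjSpace n R,
      Groth.Agent.H18.PUP.psec (CohB1.polyGrading n R) ρ (hι (Pi.single i 1)) =
      ProjUP.pullSec ρ (Twist.twistProjSpace n R 1) (ProjUP.coord n R i) := by
    intro ρ
    unfold Groth.Agent.H18.PUP.psec Groth.Agent.H18.PUP.gs ProjUP.coord
    rw [h2]
    rfl
  rw [h3, h3]
  exact hτ i

end Groth.Agent.S3573
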