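import Groth.Statements.S0013
import Groth.Agent.Lead.Coh.Leray
import Groth.Agent.Lead.Coh.AffineOpen
import Groth.Agent.Lead.Coh.TopIso

set_option autoImplicit false
universe u
open Coherent

namespace Groth.Agent.S0013

open AlgebraicGeometry in
/-- Let X be a scheme with an open covering all of whose nonempty finite intersections are affine. For a
quasi-coherent module M and every degree p, Čech cohomology with respect to this covering is
isomorphic to sheaf cohomology; only the existence of an isomorphism of additive groups is asserted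
(the published statement gives an isomorphism of modules over the global sections). -/
theorem result (X : Scheme.{u}) {ι : Type u}
    (U : ι → X.Opens) (hcov : ⨆ i, U i = ⊤)
    (hU : ∀ s : Finset ι, s.Nonempty → IsAffineOpen (⨅ i ∈ s, U i))
    (M : X.Modules) [Coh.IsQCoh M] (p : ℕ) :
    Nonempty (↑(CohB1.cechH U M p) ≃+ Coh.HH X M p) := by
  classical
  have hacyc : Groth.Agent.Lead.Cech.Acyc (X := X.toTopCat) U (Coh.toAb M) := by
    intro p' σ q x
    have haff : IsAffineOpen (Groth.Agent.Lead.Cech.cechOpen (X := X) U σ) := by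
      rw [Groth.Agent.Lead.Cech.cechOpen_eq_iInf]
      have h := hU (Finset.univ.image σ) ⟨σ 0, Finset.mem_image_of_mem σ (Finset.mem_univ 0)⟩
      have heq : (⨅ i ∈ Finset.univ.image σ, U i) = ⨅ a, U (σ a) := by
        apply le_antisymm
        · exact le_iInf fun a => iInf₂_le (σ a) (Finset.mem_image_of_mem σ (Finset.mem_univ a))
        · refine le_iInf₂ fun i hi => ?_
          obtain ⟨a, -, rfl⟩ := Finset.mem_image.mp hi
          exact iInf_le _ a
      rwa [heq] at h
    exact Groth.Agent.Lead.Coh.hVanish_of_isAffineOpen X M haff q x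
  obtain ⟨e₁⟩ := Groth.Agent.Lead.Cech.leray (X := X.toTopCat) U p (Coh.toAb M) hacyc
  have htop : iSup U = (⊤ : X.Opens) := hcov
  rw [htop] at e₁
  obtain ⟨e₂⟩ := Groth.Agent.Lead.Coh.nonempty_ext_freeSheaf_addEquiv_H
    (J := Opens.grothendieckTopology X) (T₀ := (⊤ : X.Opens)) CategoryTheory.Limits.isTerminalTop (Coh.toAb M) p
  exact ⟨e₁.trans e₂⟩

end Groth.Agent.S0013
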