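import Groth.Statements.S4380
import Groth.Agent.H18.STL.BasicOpenCover

set_option autoImplicit false
universe u
open CategoryTheory CategoryTheory.Limits AlgebraicGeometry
open EGA2

namespace Groth.Agent.S4380

/-- Let f : X → Y be a quasi-compact morphism, L an O_X-module and (U_i) a cover of Y by open subsets.
Then L is ample relative to f if and only if, for every i, the restriction of L to f⁻¹(U_i) is ample
relative to the restriction f⁻¹(U_i) → U_i of f. -/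
theorem result {X Y : Scheme.{u}} (f : X ⟶ Y) [QuasiCompact f] (L : X.Modules)
    {ι : Type u} (U : ι → Y.Opens) (hU : ⨆ i, U i = ⊤) :
    RelAmple.IsRelAmple f L ↔ ∀ i, RelAmple.IsRelAmple (f ∣_ (U i)) (L.restrict (f ⁻¹ᵁ (U i)).ι) := by
  have hι : ∀ (U₀ : Y.Opens) (p : (f ⁻¹ᵁ U₀ : Scheme.{u})),
      U₀.ι ((f ∣_ U₀) p) = f ((f ⁻¹ᵁ U₀).ι p) := by
    intro U₀ p
    rw [← Scheme.Hom.comp_apply, morphismRestrict_ι]
    rfl
  constructor
  · rintro ⟨-, hA⟩ i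
    refine ⟨inferInstance, fun V => ?_⟩
    have hV' : IsAffineOpen ((U i).ι ''ᵁ V.1) := V.2.image_of_isOpenImmersion _
    have hcpt : CompactSpace ↥((f ∣_ (U i)) ⁻¹ᵁ V.1 : Scheme.{u}) :=
      isCompact_iff_compactSpace.1 (QuasiCompact.isCompact_preimage (f := f ∣_ (U i)) _
        V.1.isOpen V.2.isCompact)
    have h1 := Groth.Agent.H18.STL.OI.isAmple_restrict_of_range_le (L := L)
      (f ⁻¹ᵁ ((U i).ι ''ᵁ V.1)).ι
      (((f ∣_ (U i)) ⁻¹ᵁ V.1).ι ≫ (f ⁻¹ᵁ (U i)).ι)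
      (by
        rintro _ ⟨p, rfl⟩
        rw [Scheme.Opens.range_ι]
        change f ((f ⁻¹ᵁ (U i)).ι p.1) ∈ (U i).ι ''ᵁ V.1
        rw [← hι]
        exact ⟨_, p.2, rfl⟩)
      hcpt (hA ⟨_, hV'⟩)
    exact Groth.Agent.H18.STL.isAmple_of_iso
      ((Scheme.Modules.restrictFunctorComp _ _).app L) h1
  · intro hA
    refine ⟨inferInstance, fun V => ?_⟩
    haveI : IsAffine (V.1 : Scheme.{u}) := V.2
    haveI : CompactSpace ↥(f ⁻¹ᵁ V.1 : Scheme.{u}) :=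
      isCompact_iff_compactSpace.1 (QuasiCompact.isCompact_preimage (f := f) _ V.1.isOpen
        V.2.isCompact)
    have hex : ∀ v : (V.1 : Scheme.{u}), ∃ (i : ι) (h' : Γ((V.1 : Scheme.{u}), ⊤)),
        v ∈ (V.1 : Scheme.{u}).basicOpen h' ∧
          (V.1 : Scheme.{u}).basicOpen h' ≤ V.1.ι ⁻¹ᵁ (U i) := by
      intro v
      have hv : V.1.ι v ∈ ⨆ i, U i := hU ▸ trivial
      obtain ⟨i, hi⟩ := TopologicalSpace.Opens.mem_iSup.1 hv
      obtain ⟨_, ⟨h', rfl⟩, hvh, hle⟩ := TopologicalSpace.Opens.isBasis_iff_nbhd.1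
        (isBasis_basicOpen (V.1 : Scheme.{u})) (show v ∈ V.1.ι ⁻¹ᵁ (U i) from hi)
      exact ⟨i, h', hvh, hle⟩
    choose i h' hv hle using hex
    refine Groth.Agent.H18.STL.isAmple_of_basicOpen_cover
      (fun v => (f ∣_ V.1).appTop (h' v)) (fun p => ⟨(f ∣_ V.1) p, ?_⟩) (fun v => ?_)
    · rw [← Scheme.preimage_basicOpen_top]
      exact hv _
    · have hcpt : CompactSpace ↥((f ⁻¹ᵁ V.1 : Scheme.{u}).basicOpen ((f ∣_ V.1).appTop (h' v)) :
          Scheme.{u}) := by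
        rw [← Scheme.preimage_basicOpen_top]
        exact isCompact_iff_compactSpace.1 (QuasiCompact.isCompact_preimage (f := f ∣_ V.1) _
          ((V.1 : Scheme.{u}).basicOpen (h' v)).isOpen
          ((isAffineOpen_top (V.1 : Scheme.{u})).basicOpen (h' v)).isCompact)
      -- the affine open `Q` of `Y`
      have hQaff : IsAffineOpen (V.1.ι ''ᵁ (V.1 : Scheme.{u}).basicOpen (h' v)) :=
        ((isAffineOpen_top (V.1 : Scheme.{u})).basicOpen (h' v)).image_of_isOpenImmersion _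
      have hQle : V.1.ι ''ᵁ (V.1 : Scheme.{u}).basicOpen (h' v) ≤ U (i v) := by
        rintro _ ⟨q, hq, rfl⟩
        exact hle v hq
      have hV₀ : IsAffineOpen ((U (i v)).ι ⁻¹ᵁ
          (V.1.ι ''ᵁ (V.1 : Scheme.{u}).basicOpen (h' v))) := by
        rw [← Scheme.Hom.isAffineOpen_iff_of_isOpenImmersion (U (i v)).ι,
          Scheme.Hom.image_preimage_eq_opensRange_inf, Scheme.Opens.opensRange_ι,
          inf_eq_right.2 hQle]
        exact hQaff
      have h0 := (hA (i v)).2 ⟨_, hV₀⟩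
      have h1 : CohB1.IsAmple (L.restrict (((f ∣_ (U (i v))) ⁻¹ᵁ ((U (i v)).ι ⁻¹ᵁ
          (V.1.ι ''ᵁ (V.1 : Scheme.{u}).basicOpen (h' v)))).ι ≫ (f ⁻¹ᵁ (U (i v))).ι)) :=
        Groth.Agent.H18.STL.isAmple_of_iso
          ((Scheme.Modules.restrictFunctorComp _ _).app L).symm h0
      have h2 := Groth.Agent.H18.STL.OI.isAmple_restrict_of_range_le (L := L) _
        (((f ⁻¹ᵁ V.1 : Scheme.{u}).basicOpen ((f ∣_ V.1).appTop (h' v))).ι ≫ (f ⁻¹ᵁ V.1).ι)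
        (by
          rintro _ ⟨p, rfl⟩
          have hp : p.1 ∈ (f ∣_ V.1) ⁻¹ᵁ (V.1 : Scheme.{u}).basicOpen (h' v) := by
            rw [Scheme.preimage_basicOpen_top]
            exact p.2
          have hfQ : f ((f ⁻¹ᵁ V.1).ι p.1) ∈ V.1.ι ''ᵁ (V.1 : Scheme.{u}).basicOpen (h' v) := by
            rw [← hι]
            exact ⟨_, hp, rfl⟩
          have hxU : (f ⁻¹ᵁ V.1).ι p.1 ∈ f ⁻¹ᵁ (U (i v)) := hQle hfQ
          have hq : (⟨(f ⁻¹ᵁ V.1).ι p.1, hxU⟩ : (f ⁻¹ᵁ (U (i v)) : Scheme.{u})) ∈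
              (f ∣_ (U (i v))) ⁻¹ᵁ ((U (i v)).ι ⁻¹ᵁ
                (V.1.ι ''ᵁ (V.1 : Scheme.{u}).basicOpen (h' v))) := by
            change (U (i v)).ι ((f ∣_ (U (i v))) ⟨(f ⁻¹ᵁ V.1).ι p.1, hxU⟩) ∈
              V.1.ι ''ᵁ (V.1 : Scheme.{u}).basicOpen (h' v)
            rw [hι]
            exact hfQ
          exact ⟨⟨⟨(f ⁻¹ᵁ V.1).ι p.1, hxU⟩, hq⟩, rfl⟩)
        hcpt h1
      exact Groth.Agent.H18.STL.isAmple_of_iso
        ((Scheme.Modules.restrictFunctorComp _ _).app L) h2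

end Groth.Agent.S4380
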