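import Groth.Statements.S3833
-- import your own Groth.Agent.* helpers here

set_option autoImplicit false
universe u
open CategoryTheory CategoryTheory.Limits AlgebraicGeometry TopologicalSpace
open Rat20

namespace Groth.Agent.S3833

/-- Stated for a global section, the case of a section over an open subset U being the same statement
for the open subscheme U: let X be a scheme and s a global section of O_X which is regular in the
sense that its germ at every point x is a non-zero-divisor of the local ring O_{X,x} (on an affine
scheme this is the same as being a non-zero-divisor of Γ(X, O_X), but not in general). Then the open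
subset X_s where s is invertible is schematically dense in X. -/
theorem result (X : Scheme.{u}) (s : Γ(X, ⊤))
    (hs : ∀ x : ↥X, (X.presheaf.germ ⊤ x trivial s) ∈ nonZeroDivisors ↑(X.presheaf.stalk x)) :
    CInt.IsSchematicallyDense (X.basicOpen s) := by
  intro W
  rw [injective_iff_map_eq_zero]
  intro a ha
  refine TopCat.Presheaf.section_ext X.sheaf W a 0 (fun x hx => ?_)
  obtain ⟨_, ⟨V, hV, rfl⟩, hxV, hVW : V ≤ W⟩ :=
    X.isBasis_affineOpens.exists_subset_of_mem_open hx W.isOpen
  set a₀ : Γ(X, V) := X.presheaf.map (homOfLE hVW).op a with ha₀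
  set s₀ : Γ(X, V) := X.presheaf.map (homOfLE (le_top : V ≤ ⊤)).op s with hs₀
  have hb : X.basicOpen s₀ ≤ W ⊓ X.basicOpen s := by
    rw [hs₀, Scheme.basicOpen_res]
    exact inf_le_inf_right _ hVW
  have hres : X.presheaf.map (homOfLE (X.basicOpen_le s₀)).op a₀ = 0 := by
    have h1 : X.presheaf.map (homOfLE (X.basicOpen_le s₀)).op a₀ =
        X.presheaf.map (homOfLE hb).op
          (X.presheaf.map (homOfLE (inf_le_left : W ⊓ X.basicOpen s ≤ W)).op a) := by
      rw [ha₀, ← CommRingCat.comp_apply, ← CommRingCat.comp_apply, ← Functor.map_comp,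
        ← Functor.map_comp]
      rfl
    rw [h1, ha, map_zero]
  obtain ⟨n, hn⟩ := exists_pow_mul_eq_zero_of_res_basicOpen_eq_zero_of_isAffineOpen X hV a₀ s₀ hres
  have h2 := congrArg (X.presheaf.germ V x hxV) hn
  rw [map_mul, map_pow, map_zero] at h2
  have h3 : X.presheaf.germ V x hxV s₀ = X.presheaf.germ ⊤ x trivial s := by
    rw [hs₀]
    exact X.presheaf.germ_res_apply (homOfLE (le_top : V ≤ ⊤)) x hxV s
  have h4 : X.presheaf.germ V x hxV a₀ = X.presheaf.germ W x hx a := by
    rw [ha₀]
    exact X.presheaf.germ_res_apply (homOfLE hVW) x hxV a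
  rw [h3, h4] at h2
  have h5 := pow_mem (hs x) n
  rw [map_zero]
  exact (mem_nonZeroDivisors_iff.mp h5).1 _ h2

end Groth.Agent.S3833
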