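import Groth.Statements.S0397
import Mathlib.RingTheory.LocalRing.Module

set_option autoImplicit false
universe u
open FlatMor

namespace Groth.Agent.S0397

open TensorProduct IsLocalRing in
/-- Nakayama for a nilpotent ideal: no finiteness hypothesis needed. -/
theorem eq_top_of_sup_smul_eq_top_of_isNilpotent {R M : Type u} [CommRing R] [AddCommGroup M]
    [Module R M] (I : Ideal R) (hI : IsNilpotent I) (N : Submodule R M)
    (h : N ⊔ I • (⊤ : Submodule R M) = ⊤) : N = ⊤ := by
  obtain ⟨n, hn⟩ := hI
  have key : ∀ j : ℕ, N ⊔ (I ^ j) • (⊤ : Submodule R M) = ⊤ := by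
    intro j
    induction j with
    | zero => simp
    | succ j ih =>
      rw [eq_top_iff]
      calc (⊤ : Submodule R M) = N ⊔ I • (⊤ : Submodule R M) := h.symm
        _ = N ⊔ I • (N ⊔ (I ^ j) • (⊤ : Submodule R M)) := by rw [ih]
        _ = N ⊔ (I • N ⊔ I • ((I ^ j) • (⊤ : Submodule R M))) := by rw [Submodule.smul_sup]
        _ ≤ N ⊔ (I ^ (j + 1)) • (⊤ : Submodule R M) := by
          refine sup_le le_sup_left (sup_le (le_trans Submodule.smul_le_right le_sup_left) ?_)
          rw [← Submodule.mul_smul, ← pow_succ']
          exact le_sup_right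
  have := key n
  rw [hn, Ideal.zero_eq_bot, Submodule.bot_smul, sup_bot_eq] at this
  exact this

open TensorProduct IsLocalRing in
/-- Over a local ring whose maximal ideal is nilpotent, every flat module (not necessarily finitely
generated) is free. -/
theorem result {R M : Type u} [CommRing R] [IsLocalRing R] (hR : IsNilpotent (IsLocalRing.maximalIdeal R))
    [AddCommGroup M] [Module R M] [Module.Flat R M] : Module.Free R M := by
  let k := ResidueField R
  let w := Module.Free.chooseBasis k (k ⊗[R] M)
  have ⟨v, eq⟩ := (TensorProduct.mk_surjective R M k Ideal.Quotient.mk_surjective).comp_left w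
  have eq' : (TensorProduct.mk R k M 1 ∘ v) = w := eq
  have hli : LinearIndependent R v := by
    apply Module.IsLocalRing.linearIndependent_of_flat
    change LinearIndependent k (TensorProduct.mk R k M 1 ∘ v)
    rw [eq']
    exact w.linearIndependent
  refine Module.Free.of_basis (Module.Basis.mk hli ?_)
  apply le_of_eq
  symm
  apply eq_top_of_sup_smul_eq_top_of_isNilpotent (maximalIdeal R) hR
  rw [eq_top_iff]
  intro x _
  -- `1 ⊗ x` lies in the image of the span
  have h1 : (TensorProduct.mk R k M 1) x ∈
      (Submodule.span R (Set.range v)).map (TensorProduct.mk R k M 1) := by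
    rw [Submodule.map_span, ← Set.range_comp]
    have h2 : Submodule.span k (Set.range (TensorProduct.mk R k M 1 ∘ v)) = ⊤ := by
      rw [eq']
      exact w.span_eq
    have h3 := Submodule.restrictScalars_span R k Ideal.Quotient.mk_surjective
      (Set.range (TensorProduct.mk R k M 1 ∘ v))
    have : (TensorProduct.mk R k M 1) x ∈
        (Submodule.span k (Set.range (TensorProduct.mk R k M 1 ∘ v))).restrictScalars R := by
      rw [h2]; trivial
    rw [h3] at this
    exact this
  obtain ⟨y, hy, hxy⟩ := h1
  have h4 : x - y ∈ LinearMap.ker (TensorProduct.mk R k M 1) := by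
    rw [LinearMap.mem_ker, map_sub, hxy, sub_self]
  have h5 : LinearMap.ker (TensorProduct.mk R k M 1) = maximalIdeal R • ⊤ :=
    LinearMap.ker_tensorProductMk M
  rw [h5] at h4
  have : x = y + (x - y) := by abel
  rw [this]
  exact Submodule.add_mem_sup hy h4

end Groth.Agent.S0397
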