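import Mathlib
import Groth.Statements.S7048
import Groth.Agent.H35.DerComplete

set_option autoImplicit false
universe u
attribute [local instance] HasDerivedCategory.standard
open DRing

namespace Groth.Agent.S7048

open Groth.Agent.H35 in
theorem Phi_bijective_of_isAdicComplete {A : Type u} [CommRing A] (I : Ideal A)
    (M : Type u) [AddCommGroup M] [Module A M] [IsAdicComplete I M] (f : A) (hf : f ∈ I) :
    Function.Bijective (Phi f M) := by
  have hpow : ∀ (k : ℕ) (x : M), f ^ k • x ∈ I ^ k • (⊤ : Submodule A M) := fun k x =>
    Submodule.smul_mem_smul (Ideal.pow_mem_pow hf k) Submodule.mem_top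
  constructor
  · rw [injective_iff_map_eq_zero]
    intro m hm
    have h1 : ∀ n, m n = f • m (n + 1) := by
      intro n
      have := congrFun hm n
      simp only [Phi_apply, Pi.zero_apply, sub_eq_zero] at this
      exact this
    have h2 : ∀ k n, m n = f ^ k • m (n + k) := by
      intro k
      induction k with
      | zero => intro n; simp
      | succ k ih =>
        intro n
        rw [ih n, h1 (n + k), pow_succ, mul_smul, add_assoc]
    funext n
    apply IsHausdorff.haus' (I := I)
    intro k
    rw [SModEq.sub_mem, sub_zero, h2 k n]
    exact hpow k _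
  · intro c
    -- partial sums
    let s : ℕ → ℕ → M := fun n N => ∑ k ∈ Finset.range N, f ^ k • c (n + k)
    have hs_succ : ∀ n N, s n (N + 1) = c n + f • s (n + 1) N := by
      intro n N
      simp only [s]
      rw [Finset.sum_range_succ', Finset.smul_sum, add_comm]
      congr 1
      · simp
      · apply Finset.sum_congr rfl
        intro k _
        rw [← mul_smul, ← pow_succ', show n + (k + 1) = n + 1 + k by omega]
    have hcauchy : ∀ n, ∀ {a b : ℕ}, a ≤ b → s n a ≡ s n b [SMOD I ^ a • (⊤ : Submodule A M)] := by
      intro n a b hab
      rw [SModEq.sub_mem]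
      obtain ⟨d, rfl⟩ := Nat.exists_eq_add_of_le hab
      induction d with
      | zero => simp
      | succ d ih =>
        have : s n a - s n (a + (d + 1)) = (s n a - s n (a + d)) - f ^ (a + d) • c (n + (a + d)) := by
          simp only [s]
          rw [← add_assoc, Finset.sum_range_succ]
          abel
        rw [this]
        refine Submodule.sub_mem _ (ih (Nat.le_add_right _ _)) ?_
        exact Submodule.smul_mono_left (Ideal.pow_le_pow_right (Nat.le_add_right a d)) (hpow _ _)
    choose L hL using fun n => IsPrecomplete.prec' (I := I) (s n) (hcauchy n)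
    refine ⟨L, ?_⟩
    funext n
    rw [Phi_apply, ← sub_eq_zero]
    apply IsHausdorff.haus' (I := I)
    intro N
    rw [SModEq.sub_mem, sub_zero]
    have h1 := (SModEq.sub_mem.mp (hL n (N + 1)))
    have h2 := (SModEq.sub_mem.mp (hL (n + 1) N))
    have h1' : s n (N + 1) - L n ∈ I ^ N • (⊤ : Submodule A M) :=
      Submodule.smul_mono_left (Ideal.pow_le_pow_right (Nat.le_succ N)) h1
    have h3 : L n - f • L (n + 1) - c n =
        f • (s (n + 1) N - L (n + 1)) - (s n (N + 1) - L n) := by
      rw [hs_succ, smul_sub]
      abel
    rw [h3]
    exact Submodule.sub_mem _ (Submodule.smul_mem _ _ h2) h1'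

/-- For a commutative ring A, an ideal I and an A-module M which is I-adically complete, the object M[0]
of D(A) is derived complete with respect to I. -/
theorem result {A : Type u} [CommRing A] (I : Ideal A)
    (M : Type u) [AddCommGroup M] [Module A M] [IsAdicComplete I M] :
    DRing.IsDerivedComplete I (Dual.inD A M) := by
  rw [Groth.Agent.H35.isDerivedComplete_inD_iff]
  exact fun f hf => Phi_bijective_of_isAdicComplete I M f hf

end Groth.Agent.S7048
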