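import Groth.Statements.S0315
import Groth.Agent.H2.MatlisArtin
import Groth.Agent.H2.MatlisEmbed
import Groth.Agent.H2.InjHull
import Mathlib.RingTheory.LocalRing.Quotient

set_option autoImplicit false
universe u v
open Matlis

namespace Groth.Agent.S0315

/-- Over a Noetherian local ring a module has the descending chain condition exactly when it is killed
elementwise by powers of the maximal ideal and its socle is finite-dimensional over the residue
field. -/
theorem result (R : Type u) [CommRing R] [IsLocalRing R] [IsNoetherianRing R] (M : Type u) [AddCommGroup M] [Module R M] : IsArtinian R M ↔ (LocCoh.IsPowerTorsion (IsLocalRing.maximalIdeal R) M ∧ Module.Finite (R ⧸ IsLocalRing.maximalIdeal R) ↥(LocCoh.torsionBy (IsLocalRing.maximalIdeal R) M)) := by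
  let _ : Field (R ⧸ IsLocalRing.maximalIdeal R) := Ideal.Quotient.field _
  constructor
  · intro hA
    refine ⟨fun m => ?_, ?_⟩
    · set I : Ideal R := LinearMap.ker (LinearMap.toSpanSingleton R M m) with hI
      have h1 : IsArtinian R (R ⧸ I) :=
        isArtinian_of_injective (Submodule.liftQ I (LinearMap.toSpanSingleton R M m) le_rfl)
          (by
            rw [← LinearMap.ker_eq_bot]
            exact Submodule.ker_liftQ_eq_bot _ _ _ le_rfl)
      have h2 : IsArtinianRing (R ⧸ I) := isArtinian_of_tower R h1
      obtain ⟨n, hn⟩ := IsLocalRing.exists_maximalIdeal_pow_le_of_isArtinianRing_quotient I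
      refine ⟨n, fun a ha => ?_⟩
      have := hn ha
      rwa [hI, LinearMap.mem_ker, LinearMap.toSpanSingleton_apply] at this
    · have h1 : IsArtinian R ↥(LocCoh.torsionBy (IsLocalRing.maximalIdeal R) M) := inferInstance
      have h2 : IsArtinian (R ⧸ IsLocalRing.maximalIdeal R)
          ↥(LocCoh.torsionBy (IsLocalRing.maximalIdeal R) M) := isArtinian_of_tower R h1
      exact ((IsArtinianRing.tfae (R ⧸ IsLocalRing.maximalIdeal R)
        ↥(LocCoh.torsionBy (IsLocalRing.maximalIdeal R) M)).out 0 2).mpr h2
  · rintro ⟨hPT, hfin⟩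
    obtain ⟨E, _, _, f, hf⟩ := Groth.Agent.H2.exists_isInjectiveHull (R := R)
      (IsLocalRing.ResidueField R)
    obtain ⟨g, hg⟩ := Groth.Agent.H2.exists_injective_to_pi_of_isPowerTorsion E f hf M hPT _ rfl
    have hE : IsArtinian R E := Groth.Agent.H2.MatlisArtin.isArtinian f hf
    exact isArtinian_of_injective g hg

end Groth.Agent.S0315
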