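import Groth.Statements.S18731
import Groth.Agent.H19.ComapAff

set_option autoImplicit false
universe u
open CategoryTheory CategoryTheory.Limits AlgebraicGeometry TopologicalSpace
open ModPair

namespace Groth.Agent.S18731

/-- Let I on X and J on Y be quasi-coherent ideal sheaves of effective Cartier divisors and f : X ⟶ Y a
morphism satisfying the modulus condition I ≤ J.comap f (the closed subscheme J ×_Y X of X lies
inside the closed subscheme cut out by I). Then the pull-back of the divisor of J along f is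
defined: J.comap f is the ideal sheaf of an effective Cartier divisor on X. -/
theorem result {X Y : Scheme.{u}} (I : X.IdealSheafData)
    (J : Y.IdealSheafData) (hI : BlowUp.IsEffCartierIdeal I) (hJ : BlowUp.IsEffCartierIdeal J)
    (f : X ⟶ Y) (hf : ModPair.IsAmbient I J f) : BlowUp.IsEffCartierIdeal (J.comap f) := by
  intro x
  obtain ⟨U, hyU, g, hg, hJU⟩ := hJ (f x)
  obtain ⟨V, hxV, h, hh, hIV⟩ := hI x
  obtain ⟨a, haW, hxa⟩ := V.2.exists_basicOpen_le (V := V.1 ⊓ f ⁻¹ᵁ U.1) ⟨x, hxV, hyU⟩ hxV
  let W : X.affineOpens := X.affineBasicOpen a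
  have hWU : W.1 ≤ f ⁻¹ᵁ U.1 := haW.trans inf_le_right
  refine ⟨W, hxa, (f.appLE U.1 W.1 hWU).hom g, ?_, ?_⟩
  · -- nonzerodivisor
    have hIW : I.ideal W = Ideal.span {(X.presheaf.map (homOfLE <| X.basicOpen_le a).op).hom h} := by
      rw [← I.map_ideal_basicOpen V a, hIV, Ideal.map_span, Set.image_singleton]
    have hle : I.ideal W ≤ (J.comap f).ideal W := hf W
    rw [Groth.Agent.H19.ComapAff.ideal_comap_appLE f J U W hWU, hJU, Ideal.map_span,
      Set.image_singleton, hIW] at hle
    obtain ⟨c, hc⟩ := Ideal.mem_span_singleton'.mp (hle (Ideal.mem_span_singleton_self _))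
    have hnzd : (X.presheaf.map (homOfLE <| X.basicOpen_le a).op).hom h ∈ nonZeroDivisors Γ(X, W.1) := by
      letI := (X.presheaf.map (homOfLE <| X.basicOpen_le a).op).hom.toAlgebra
      haveI := V.2.isLocalization_basicOpen a
      exact IsLocalization.map_nonZeroDivisors_le (Submonoid.powers a) Γ(X, X.basicOpen a)
        (Submonoid.mem_map_of_mem _ hh)
    rw [← hc] at hnzd
    exact (mul_mem_nonZeroDivisors.mp hnzd).2
  · rw [Groth.Agent.H19.ComapAff.ideal_comap_appLE f J U W hWU, hJU, Ideal.map_span,
      Set.image_singleton]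

end Groth.Agent.S18731
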