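import Groth.Statements.S1680
import Groth.Agent.H8.BlowUpBasic
import Groth.Agent.S8902

set_option autoImplicit false
universe u
open CategoryTheory CategoryTheory.Limits AlgebraicGeometry TopologicalSpace
open SDiv

namespace Groth.Agent.S1680

/-- Flat pullbacks of effective Cartier divisors are effective Cartier. -/
theorem isEffCartier_comap_of_flat {X Y : Scheme.{u}} (f : X ⟶ Y) [Flat f]
    {𝓘 : Y.IdealSheafData} (hI : BlowUp.IsEffCartierIdeal 𝓘) :
    BlowUp.IsEffCartierIdeal (𝓘.comap f) := by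
  intro x
  obtain ⟨U, hxU, a, ha, haI⟩ := hI (f x)
  obtain ⟨_, ⟨V, hV, rfl⟩, hxV, hVU⟩ :=
    X.isBasis_affineOpens.exists_subset_of_mem_open (show x ∈ f ⁻¹ᵁ U.1 from hxU) (f ⁻¹ᵁ U.1).2
  have hVU' : V ≤ f ⁻¹ᵁ U.1 := hVU
  have hflat : (f.appLE U.1 V hVU').hom.Flat :=
    HasRingHomProperty.appLE @Flat f inferInstance U ⟨V, hV⟩ hVU'
  refine ⟨⟨V, hV⟩, hxV, (f.appLE U.1 V hVU').hom a,
    Groth.Agent.S8902.map_mem_nonZeroDivisors_of_flat _ hflat ha, ?_⟩
  rw [Groth.Agent.H19.ComapAff.ideal_comap_appLE f 𝓘 U ⟨V, hV⟩ hVU', haI, Ideal.map_span,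
    Set.image_singleton]



/-- Let g : X₁ ⟶ X₂ be a flat morphism, 𝓘 a quasi-coherent ideal sheaf on X₂ and b : X₂' ⟶ X₂ a
blowing-up of X₂ along 𝓘. Then the base change X₁ ×_{X₂} X₂' ⟶ X₁ is a blowing-up of X₁ along the
inverse image ideal of 𝓘. -/
theorem result {X₁ X₂ X₂' : Scheme.{u}} (g : X₁ ⟶ X₂) [Flat g] (𝓘 : X₂.IdealSheafData) (b : X₂' ⟶ X₂)
    (hb : BlowUp.IsBlowUp b 𝓘) : BlowUp.IsBlowUp (pullback.fst g b) (𝓘.comap g) := by
  refine ⟨?_, fun Y h hh => ?_⟩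
  · rw [← Scheme.IdealSheafData.comap_comp, pullback.condition, Scheme.IdealSheafData.comap_comp]
    exact isEffCartier_comap_of_flat (pullback.snd g b) hb.1
  · rw [← Scheme.IdealSheafData.comap_comp] at hh
    obtain ⟨k, hk, hku⟩ := hb.2 Y (h ≫ g) hh
    refine ⟨pullback.lift h k hk.symm, pullback.lift_fst _ _ _, fun l hl => ?_⟩
    have hl' : l ≫ pullback.fst g b = h := hl
    apply pullback.hom_ext
    · rw [hl', pullback.lift_fst]
    · rw [pullback.lift_snd]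
      apply hku
      rw [Category.assoc, ← pullback.condition, ← Category.assoc, hl']

end Groth.Agent.S1680
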