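import Groth.Statements.S1682
-- import your own Groth.Agent.* helpers here

set_option autoImplicit false
universe u
open CategoryTheory CategoryTheory.Limits AlgebraicGeometry TopologicalSpace
open SDiv

namespace Groth.Agent.S1682

lemma isEffCartier_top (Y : Scheme.{u}) : BlowUp.IsEffCartierIdeal (⊤ : Y.IdealSheafData) := by
  intro x
  obtain ⟨_, ⟨U, hU, rfl⟩, hxU, -⟩ :=
    Y.isBasis_affineOpens.exists_subset_of_mem_open (Set.mem_univ x) isOpen_univ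
  refine ⟨⟨U, hU⟩, hxU, 1, Submonoid.one_mem _, ?_⟩
  rw [Scheme.IdealSheafData.ideal_top, Ideal.span_singleton_one]
  rfl

lemma comap_eq_top {X Y : Scheme.{u}} (𝓘 : X.IdealSheafData) (g : Y ⟶ X)
    (hg : ∀ y : Y, g y ∉ 𝓘.support) : 𝓘.comap g = ⊤ := by
  rw [← Scheme.IdealSheafData.support_eq_bot_iff, Scheme.IdealSheafData.support_comap]
  ext y
  simp only [Closeds.coe_preimage, Set.mem_preimage, SetLike.mem_coe, Closeds.coe_bot,
    Set.mem_empty_iff_false, iff_false]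
  exact hg y


/-- Let b : X' ⟶ X be a blowing-up of X along the quasi-coherent ideal sheaf 𝓘, with centre Z = support
of 𝓘. Then b restricted over the open complement of Z is an isomorphism. -/
theorem result {X X' : Scheme.{u}} (𝓘 : X.IdealSheafData) (b : X' ⟶ X) (hb : BlowUp.IsBlowUp b 𝓘) :
    IsIso (b ∣_ 𝓘.support.compl) := by
  let U : X.Opens := 𝓘.support.compl
  have hj : BlowUp.IsEffCartierIdeal (𝓘.comap U.ι) := by
    rw [comap_eq_top 𝓘 U.ι (fun y => y.2)]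
    exact isEffCartier_top _
  obtain ⟨h, hh, -⟩ := hb.2 U U.ι hj
  have hrange : Set.range h ⊆ Set.range (b ⁻¹ᵁ U).ι := by
    rintro _ ⟨u, rfl⟩
    rw [Scheme.Opens.range_ι]
    change b (h u) ∈ U
    have : b (h u) = U.ι u := by
      rw [← hh]; rfl
    rw [this]
    exact u.2
  let h' : (U : Scheme.{u}) ⟶ (b ⁻¹ᵁ U : Scheme.{u}) := IsOpenImmersion.lift (b ⁻¹ᵁ U).ι h hrange
  have hh' : h' ≫ (b ⁻¹ᵁ U).ι = h := IsOpenImmersion.lift_fac _ _ _
  refine ⟨h', ?_, ?_⟩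
  · rw [← cancel_mono (b ⁻¹ᵁ U).ι, Category.assoc, hh', Category.id_comp]
    have hg : BlowUp.IsEffCartierIdeal (𝓘.comap ((b ⁻¹ᵁ U).ι ≫ b)) := by
      rw [comap_eq_top 𝓘 ((b ⁻¹ᵁ U).ι ≫ b) (fun y : (b ⁻¹ᵁ U : Scheme.{u}) => y.2)]
      exact isEffCartier_top _
    obtain ⟨k, -, hk⟩ := hb.2 _ ((b ⁻¹ᵁ U).ι ≫ b) hg
    have h1 : (b ∣_ U ≫ h) = k := hk _ (by
      change (b ∣_ U ≫ h) ≫ b = (b ⁻¹ᵁ U).ι ≫ b
      rw [Category.assoc, hh, morphismRestrict_ι])
    have h2 : (b ⁻¹ᵁ U).ι = k := hk _ rfl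
    rw [h1, h2]
  · rw [← cancel_mono U.ι, Category.assoc, morphismRestrict_ι, ← Category.assoc, hh', hh,
      Category.id_comp]

end Groth.Agent.S1682
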