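import Groth.Statements.S14090
import Groth.Agent.H8.BlowUpGlue
import Groth.Agent.H19.ComapAff
import Groth.Agent.S1680

set_option autoImplicit false
universe u
open CategoryTheory AlgebraicGeometry
open BlowUp

namespace Groth.Agent.S14090

open Groth.Agent.H8 Groth.Agent.H19.ComapAff

section Algebra

variable {A B : Type u} [CommRing A] [CommRing B] [Algebra A B]

lemma exists_gen {I : Ideal A}
    (hIB : (Ideal.map (algebraMap A B) I : Set B) ⊆ algebraMap A B '' (I : Set A))
    {f : B} (hgen : Ideal.map (algebraMap A B) I = Ideal.span {f}) :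
    (∃ a ∈ I, algebraMap A B a = f) ∧ ∀ b : B, ∃ x ∈ I, algebraMap A B x = f * b := by
  refine ⟨?_, fun b => ?_⟩
  · have h1 : f ∈ Ideal.map (algebraMap A B) I := hgen ▸ Ideal.mem_span_singleton_self f
    obtain ⟨a, ha, hfa⟩ := hIB h1
    exact ⟨a, ha, hfa⟩
  · have h1 : f * b ∈ Ideal.map (algebraMap A B) I :=
      hgen ▸ Ideal.mul_mem_right b _ (Ideal.mem_span_singleton_self f)
    obtain ⟨x, hx, hfx⟩ := hIB h1
    exact ⟨x, hx, hfx⟩

lemma mul_le (hinj : Function.Injective (algebraMap A B)) {I : Ideal A} {f : B}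
    (hgen : Ideal.map (algebraMap A B) I = Ideal.span {f}) {a : A}
    (hfa : algebraMap A B a = f) (hx : ∀ b : B, ∃ x ∈ I, algebraMap A B x = f * b) :
    I * I ≤ Ideal.span {a} * I := by
  rw [Ideal.mul_le]
  intro x hxI y hyI
  have h1 : algebraMap A B x ∈ Ideal.span {f} := hgen ▸ Ideal.mem_map_of_mem _ hxI
  have h2 : algebraMap A B y ∈ Ideal.span {f} := hgen ▸ Ideal.mem_map_of_mem _ hyI
  obtain ⟨b, hb⟩ := Ideal.mem_span_singleton'.mp h1
  obtain ⟨b', hb'⟩ := Ideal.mem_span_singleton'.mp h2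
  obtain ⟨z, hz, hfz⟩ := hx (b * b')
  have h3 : x * y = a * z := by
    apply hinj
    rw [map_mul, map_mul, ← hb, ← hb', hfz, hfa]
    ring
  rw [h3]
  exact Ideal.mul_mem_mul (Ideal.mem_span_singleton_self a) hz

lemma span_eq_of_map_eq {T : Type*} [CommRing T] (ρ : A →+* T) {t : T}
    (ht : t ∈ nonZeroDivisors T) {I : Ideal A} (hρ : I.map ρ = Ideal.span {t}) {a : A}
    (ha : a ∈ I) (hII : I * I ≤ Ideal.span {a} * I) :
    Ideal.span {ρ a} = Ideal.span {t} ∧ ρ a ∈ nonZeroDivisors T := by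
  have h1 := Ideal.map_mono (f := ρ) hII
  rw [Ideal.map_mul, Ideal.map_mul, hρ, Ideal.map_span, Set.image_singleton,
    Ideal.span_singleton_mul_span_singleton, Ideal.span_singleton_mul_span_singleton,
    Ideal.span_singleton_le_iff_mem] at h1
  obtain ⟨w, hw⟩ := Ideal.mem_span_singleton'.mp h1
  have h2 : t * (t - w * ρ a) = 0 := by rw [mul_sub, ← hw]; ring
  have h3 : t = w * ρ a := sub_eq_zero.mp ((mem_nonZeroDivisors_iff_left.mp ht) _ h2)
  have h4 : ρ a ∈ Ideal.span {t} := hρ ▸ Ideal.mem_map_of_mem _ ha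
  obtain ⟨v, hv⟩ := Ideal.mem_span_singleton'.mp h4
  refine ⟨le_antisymm ?_ ?_, ?_⟩
  · rw [Ideal.span_singleton_le_iff_mem]; exact h4
  · rw [Ideal.span_singleton_le_iff_mem, Ideal.mem_span_singleton']; exact ⟨w, h3.symm⟩
  · have h5 : t * (1 - w * v) = 0 := by
      rw [mul_sub, mul_one, sub_eq_zero]
      calc t = w * ρ a := h3
        _ = w * (v * t) := by rw [hv]
        _ = t * (w * v) := by ring
    have h6 : w * v = 1 := (sub_eq_zero.mp ((mem_nonZeroDivisors_iff_left.mp ht) _ h5)).symm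
    rw [mem_nonZeroDivisors_iff_right]
    intro s hs
    have h7 : s * v * t = 0 := by rw [mul_assoc, hv]; exact hs
    have h8 : s * v = 0 := (mem_nonZeroDivisors_iff_right.mp ht) _ h7
    calc s = s * (w * v) := by rw [h6, mul_one]
      _ = (s * v) * w := by ring
      _ = 0 := by rw [h8, zero_mul]

/-- Pure algebra: extension of `ρ : A → T` to `B` when `ρ a` is a nonzerodivisor generating
`I T`. -/
lemma exists_ringHom_ext (hinj : Function.Injective (algebraMap A B)) {I : Ideal A} {f : B}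
    {a : A} (hfa : algebraMap A B a = f)
    (hx : ∀ b : B, ∃ x ∈ I, algebraMap A B x = f * b)
    {T : Type u} [CommRing T] (ρ : A →+* T) (hnzd : ρ a ∈ nonZeroDivisors T)
    (hspan : I.map ρ = Ideal.span {ρ a}) :
    ∃ χ : B →+* T, χ.comp (algebraMap A B) = ρ := by
  have hcancel : ∀ {u v : T}, u * ρ a = v * ρ a → u = v := fun {u v} huv =>
    (mul_cancel_right_mem_nonZeroDivisors hnzd).mp huv
  have hex : ∀ b : B, ∃ c : T, ∀ x : A, algebraMap A B x = f * b → c * ρ a = ρ x := by
    intro b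
    obtain ⟨x, hxI, hxb⟩ := hx b
    have h1 : ρ x ∈ Ideal.span {ρ a} := by
      rw [← hspan]; exact Ideal.mem_map_of_mem _ hxI
    obtain ⟨c, hc⟩ := Ideal.mem_span_singleton'.mp h1
    refine ⟨c, fun x' hx' => ?_⟩
    have : x' = x := hinj (hx'.trans hxb.symm)
    rw [this, hc]
  choose χ hχ using hex
  have hχφ : ∀ y : A, χ (algebraMap A B y) = ρ y := by
    intro y
    apply hcancel
    rw [hχ _ (a * y) (by rw [map_mul, hfa]), map_mul, mul_comm]
  have h_one : χ 1 = 1 := by
    apply hcancel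
    rw [hχ 1 a (by rw [hfa, mul_one]), one_mul]
  have h_mul : ∀ b b' : B, χ (b * b') = χ b * χ b' := by
    intro b b'
    obtain ⟨x, -, hxb⟩ := hx b
    obtain ⟨x', -, hxb'⟩ := hx b'
    obtain ⟨z, -, hz⟩ := hx (b * b')
    have h1 : x * x' = a * z := by
      apply hinj
      rw [map_mul, map_mul, hxb, hxb', hz, hfa]; ring
    apply hcancel
    apply hcancel
    calc χ (b * b') * ρ a * ρ a = ρ z * ρ a := by rw [hχ _ z hz]
      _ = ρ (x * x') := by rw [h1, map_mul, mul_comm]
      _ = (χ b * ρ a) * (χ b' * ρ a) := by rw [hχ _ x hxb, hχ _ x' hxb', map_mul]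
      _ = χ b * χ b' * ρ a * ρ a := by ring
  have h_zero : χ 0 = 0 := by
    apply hcancel
    rw [hχ 0 0 (by rw [map_zero, mul_zero]), map_zero, zero_mul]
  have h_add : ∀ b b' : B, χ (b + b') = χ b + χ b' := by
    intro b b'
    obtain ⟨x, -, hxb⟩ := hx b
    obtain ⟨x', -, hxb'⟩ := hx b'
    apply hcancel
    rw [hχ _ (x + x') (by rw [map_add, hxb, hxb', mul_add]), add_mul, hχ _ x hxb,
      hχ _ x' hxb', map_add]
  refine ⟨{ toFun := χ, map_one' := h_one, map_mul' := h_mul, map_zero' := h_zero,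
            map_add' := h_add }, ?_⟩
  ext y
  exact hχφ y

end Algebra

section Geometry

variable {A : Type u} [CommRing A]

/-- The ring map `A → Γ(W, ⊤)` attached to a morphism `W ⟶ Spec A`. -/
noncomputable def ringMapTop {W : Scheme.{u}} (g : W ⟶ Spec (.of A)) : A →+* Γ(W, ⊤) :=
  ((Scheme.ΓSpecIso (.of A)).inv ≫ g.appTop).hom

/-- The ring map `A → Γ(W, V)` attached to a morphism `W ⟶ Spec A`. -/
noncomputable def ringMap {W : Scheme.{u}} (g : W ⟶ Spec (.of A)) (V : W.Opens) : A →+* Γ(W, V) :=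
  (W.presheaf.map (homOfLE (le_top : V ≤ ⊤)).op).hom.comp (ringMapTop g)

lemma ringMap_top {W : Scheme.{u}} (g : W ⟶ Spec (.of A)) : ringMap g ⊤ = ringMapTop g := by
  ext x
  simp only [ringMap, RingHom.comp_apply]
  have : (homOfLE (le_top : (⊤ : W.Opens) ≤ ⊤)).op = 𝟙 _ := rfl
  rw [this, W.presheaf.map_id]
  rfl

lemma ideal_comap_idealSheaf (I : Ideal A) {W : Scheme.{u}} (g : W ⟶ Spec (.of A))
    (V : W.affineOpens) :
    ((Curv2.idealSheaf A I).comap g).ideal V = I.map (ringMap g V.1) := by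
  rw [ideal_comap_appLE g _ ⟨⊤, isAffineOpen_top _⟩ V le_top]
  unfold Curv2.idealSheaf
  rw [Scheme.IdealSheafData.ofIdealTop_ideal, Ideal.map_map, Ideal.map_map]
  congr 1

lemma ringMapTop_comp {B : Type u} [CommRing B] (φ : A →+* B) {W : Scheme.{u}}
    (h : W ⟶ Spec (.of B)) :
    ringMapTop (h ≫ Spec.map (CommRingCat.ofHom φ)) = (ringMapTop h).comp φ := by
  ext x
  simp only [ringMapTop, RingHom.comp_apply, CommRingCat.hom_comp, Scheme.Hom.comp_appTop]
  have := congrArg (fun k => h.appTop.hom (k.hom x))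
    (Scheme.ΓSpecIso_inv_naturality (CommRingCat.ofHom φ))
  simp only [CommRingCat.hom_comp, RingHom.comp_apply] at this
  exact this.symm

end Geometry

section Main

variable {A B : Type u} [CommRing A] [CommRing B] [Algebra A B]

/-- `ψ(a)` is a nonzerodivisor on global sections when the inverse image ideal is effective
Cartier. -/
lemma ringMapTop_nzd {I : Ideal A} {a : A} (ha : a ∈ I) (hII : I * I ≤ Ideal.span {a} * I)
    {W : Scheme.{u}} (g : W ⟶ Spec (.of A))
    (hg : BlowUp.IsEffCartierIdeal ((Curv2.idealSheaf A I).comap g)) :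
    ringMapTop g a ∈ nonZeroDivisors Γ(W, ⊤) := by
  rw [mem_nonZeroDivisors_iff_right]
  intro s hs
  refine W.IsSheaf.section_ext fun x _ ↦ ?_
  obtain ⟨V, hxV, t, ht, hVt⟩ := hg x
  refine ⟨V.1, le_top, hxV, ?_⟩
  rw [map_zero]
  rw [ideal_comap_idealSheaf] at hVt
  obtain ⟨-, hnzd⟩ := span_eq_of_map_eq (ringMap g V.1) ht hVt ha hII
  refine (mem_nonZeroDivisors_iff_right.mp hnzd) _ ?_
  have := congrArg (W.presheaf.map (homOfLE (le_top : V.1 ≤ ⊤)).op).hom hs
  rw [map_mul, map_zero] at this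
  exact this

/-- The ring map attached to a morphism built from a ring map. -/
lemma ringMapTop_toSpecΓ {W : Scheme.{u}} (χ : B →+* Γ(W, ⊤)) :
    ringMapTop (W.toSpecΓ ≫ Spec.map (CommRingCat.ofHom χ)) = χ := by
  ext b
  simp only [ringMapTop, Scheme.Hom.comp_appTop, Scheme.toSpecΓ_appTop, CommRingCat.hom_comp,
    RingHom.comp_apply]
  have := congrArg (fun k => (Scheme.ΓSpecIso Γ(W, ⊤)).hom.hom (k.hom b))
    (Scheme.ΓSpecIso_inv_naturality (CommRingCat.ofHom χ))
  simp only [CommRingCat.hom_comp, RingHom.comp_apply] at this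
  rw [← this]
  exact congrArg (fun k => k.hom (χ b)) (Scheme.ΓSpecIso Γ(W, ⊤)).inv_hom_id

lemma ext_of_ringMapTop {W : Scheme.{u}} {g g' : W ⟶ Spec (.of A)}
    (h : ringMapTop g = ringMapTop g') : g = g' := by
  apply ext_to_Spec
  ext y
  exact congrArg (fun k : A →+* Γ(W, ⊤) => k y) h

/-- Existence of the lift on an affine scheme on which the inverse image ideal is principal. -/
lemma exists_lift_affine (hinj : Function.Injective (algebraMap A B)) {I : Ideal A} {f : B}
    {a : A} (ha : a ∈ I) (hfa : algebraMap A B a = f)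
    (hx : ∀ b : B, ∃ x ∈ I, algebraMap A B x = f * b) (hII : I * I ≤ Ideal.span {a} * I)
    {W : Scheme.{u}} [IsAffine W] (g : W ⟶ Spec (.of A)) (t : Γ(W, ⊤))
    (ht : t ∈ nonZeroDivisors Γ(W, ⊤))
    (hW : ((Curv2.idealSheaf A I).comap g).ideal ⟨⊤, isAffineOpen_top W⟩ = Ideal.span {t}) :
    ∃ h : W ⟶ Spec (.of B), h ≫ Spec.map (CommRingCat.ofHom (algebraMap A B)) = g := by
  rw [ideal_comap_idealSheaf, ringMap_top] at hW
  obtain ⟨hspan, hnzd⟩ := span_eq_of_map_eq (ringMapTop g) ht hW ha hII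
  obtain ⟨χ, hχ⟩ := exists_ringHom_ext hinj hfa hx (ringMapTop g) hnzd (hW.trans hspan.symm)
  refine ⟨W.toSpecΓ ≫ Spec.map (CommRingCat.ofHom χ), ?_⟩
  apply ext_of_ringMapTop
  rw [ringMapTop_comp, ringMapTop_toSpecΓ, hχ]

lemma nzd_of_iso {R S : CommRingCat.{u}} (e : R ≅ S) {r : R} (hr : r ∈ nonZeroDivisors R) :
    e.hom.hom r ∈ nonZeroDivisors S := by
  rw [mem_nonZeroDivisors_iff_right]
  intro s hs
  have h1 : e.inv.hom s * r = 0 := by
    have := congrArg e.inv.hom hs
    rw [map_mul, map_zero] at this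
    rwa [show e.inv.hom (e.hom.hom r) = r from congrArg (fun k => k.hom r) e.hom_inv_id] at this
  have h2 := (mem_nonZeroDivisors_iff_right.mp hr) _ h1
  have h3 := congrArg e.hom.hom h2
  rwa [map_zero, show e.hom.hom (e.inv.hom s) = s from
    congrArg (fun k => k.hom s) e.inv_hom_id] at h3

end Main


/-- Let A → B be an injective ring homomorphism and I an ideal of A such that the ideal I·B of B is
contained in the image of I (so I is an ideal of B as well) and I·B is generated by one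
nonzerodivisor of B (I is free of rank one over B). Then Spec B → Spec A is a blowing up of Spec A
in I. (This is the affine statement behind recovering a pair (X̃, D̃), D̃ an effective Cartier
divisor finite flat over D, as the blow-up of the pushout X̃ ⨿_D̃ D along D.) -/
theorem result (A B : Type u) [CommRing A] [CommRing B] [Algebra A B]
    (hinj : Function.Injective (algebraMap A B)) (I : Ideal A)
    (hIB : (Ideal.map (algebraMap A B) I : Set B) ⊆ algebraMap A B '' (I : Set A))
    (f : B) (hf : f ∈ nonZeroDivisors B) (hgen : Ideal.map (algebraMap A B) I = Ideal.span {f}) :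
    BlowUp.IsBlowUp (Spec.map (CommRingCat.ofHom (algebraMap A B))) (Curv2.idealSheaf A I) := by
  obtain ⟨⟨a, ha, hfa⟩, hx⟩ := exists_gen hIB hgen
  have hII := mul_le hinj hgen hfa hx
  refine ⟨?_, ?_⟩
  · intro x
    have e1 : ringMapTop (Spec.map (CommRingCat.ofHom (algebraMap A B))) =
        (Scheme.ΓSpecIso (CommRingCat.of B)).inv.hom.comp (algebraMap A B) := by
      have := ringMapTop_comp (algebraMap A B) (𝟙 (Spec (CommRingCat.of B)))
      rw [Category.id_comp] at this
      rw [this]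
      congr 1
    refine ⟨⟨⊤, isAffineOpen_top _⟩, trivial,
      (Scheme.ΓSpecIso (CommRingCat.of B)).inv.hom f, ?_, ?_⟩
    · exact nzd_of_iso (Scheme.ΓSpecIso (CommRingCat.of B)).symm hf
    · rw [ideal_comap_idealSheaf, ringMap_top, e1, ← Ideal.map_map, hgen, Ideal.map_span,
        Set.image_singleton]
  · intro Y g hg
    apply existsUnique_lift_of_local
    · intro W j _ h h' hh hh'
      have hW : BlowUp.IsEffCartierIdeal ((Curv2.idealSheaf A I).comap (j ≫ g)) := by
        rw [Scheme.IdealSheafData.comap_comp]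
        exact Groth.Agent.S1680.isEffCartier_comap_of_flat j hg
      have hnzd := ringMapTop_nzd ha hII (j ≫ g) hW
      have e1 : ringMapTop (j ≫ g) = (ringMapTop h).comp (algebraMap A B) := by
        rw [← hh, ringMapTop_comp]
      have e2 : ringMapTop (j ≫ g) = (ringMapTop h').comp (algebraMap A B) := by
        rw [← hh', ringMapTop_comp]
      apply ext_of_ringMapTop
      ext b
      obtain ⟨x, -, hxb⟩ := hx b
      apply (mul_cancel_right_mem_nonZeroDivisors hnzd).mp
      have k1 : ringMapTop h b * ringMapTop (j ≫ g) a = ringMapTop (j ≫ g) x := by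
        rw [e1, RingHom.comp_apply, RingHom.comp_apply, ← map_mul, hxb, hfa, mul_comm]
      have k2 : ringMapTop h' b * ringMapTop (j ≫ g) a = ringMapTop (j ≫ g) x := by
        rw [e2, RingHom.comp_apply, RingHom.comp_apply, ← map_mul, hxb, hfa, mul_comm]
      rw [k1, k2]
    · intro y
      obtain ⟨V, hyV, t, ht, hVt⟩ := hg y
      have : IsAffine V.1 := V.2
      refine ⟨V.1, hyV, ?_⟩
      refine exists_lift_affine hinj ha hfa hx hII (V.1.ι ≫ g) (V.1.topIso.inv.hom t) ?_ ?_
      · exact nzd_of_iso V.1.topIso.symm ht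
      · rw [Scheme.IdealSheafData.comap_comp, ideal_comap_ι, hVt, Ideal.map_span,
          Set.image_singleton]

end Groth.Agent.S14090
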