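import Groth.Statements.S16054
import Groth.Agent.H8.ReesProjUniq

set_option autoImplicit false
universe u
open SDiv

namespace Groth.Agent.S16054

open AlgebraicGeometry CategoryTheory in
/-- The affine case: let A be a commutative ring and I an ideal of A, and let R(I) = ⊕_{n ≥ 0} Iⁿ Xⁿ ⊆
A[X] be the Rees algebra of I, graded by the powers of X. Then the structure morphism Proj R(I) ⟶
Spec A is a blowing-up of Spec A in the ideal sheaf defined by I: the inverse image ideal of I on
Proj R(I) is the ideal of an effective Cartier divisor (around every point it is generated on some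
affine open by one nonzerodivisor), and every morphism of schemes Y ⟶ Spec A under which the inverse
image ideal of I is the ideal of an effective Cartier divisor factors uniquely through Proj R(I) ⟶
Spec A. -/
theorem result (A : Type u) [CommRing A] (I : Ideal A) :
    BlowUp.IsBlowUp (Proj (Rees.deg (reesAlgebra I)) ↘ Spec (CommRingCat.of A))
      (Scheme.IdealSheafData.ofIdealTop (I.map (Scheme.ΓSpecIso (CommRingCat.of A)).inv.hom)) := by
  change BlowUp.IsBlowUp (Groth.Agent.H8.ReesProj.π I) (Curv2.idealSheaf A I)
  refine ⟨Groth.Agent.H8.ReesProj.isEffCartier_comap_π I, fun Y g hg => ?_⟩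
  apply Groth.Agent.H8.existsUnique_lift_of_local
  · intro W j _ h h' hh hh'
    have hW : BlowUp.IsEffCartierIdeal ((Curv2.idealSheaf A I).comap (j ≫ g)) := by
      rw [Scheme.IdealSheafData.comap_comp]
      exact Groth.Agent.S1680.isEffCartier_comap_of_flat j hg
    exact Groth.Agent.H8.ReesProj.lift_unique I (j ≫ g) hW h h' hh hh'
  · intro y
    exact Groth.Agent.H8.ReesProj.exists_lift_local I g hg y

end Groth.Agent.S16054
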