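import Groth.Statements.S3556
import Groth.Agent.H18.ProjReduced

set_option autoImplicit false
universe u
open CategoryTheory CategoryTheory.Limits AlgebraicGeometry
open EGA2

namespace Groth.Agent.S3556

/-- Let S be a graded ring which is essentially reduced, i.e. its irrelevant ideal S_+ contains no
nonzero nilpotent element. Then Proj S is a reduced scheme. -/
theorem result {R A : Type u} [CommRing R] [CommRing A] [Algebra R A] (𝒜 : ℕ → Submodule R A) [GradedAlgebra 𝒜]
    (hred : ∀ f ∈ (HomogeneousIdeal.irrelevant 𝒜).toIdeal, IsNilpotent f → f = 0) :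
    AlgebraicGeometry.IsReduced (Proj 𝒜) := by
  have : ∀ i, IsReduced ((Proj.affineOpenCover 𝒜).openCover.X i) := fun i => by
    have := Groth.Agent.H18.isReduced_away 𝒜 hred i.1.2 i.2.2
    change IsReduced (Spec (.of (HomogeneousLocalization.Away 𝒜 (i.2 : A))))
    infer_instance
  exact IsReduced.of_openCover (X := Proj 𝒜) (Proj.affineOpenCover 𝒜).openCover

end Groth.Agent.S3556
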