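import Groth.Statements.S3578
-- import your own Groth.Agent.* helpers here

set_option autoImplicit false
universe u
open EGA2

namespace Groth.Agent.S3578

/-- Via the correspondence between closed subsets of Proj S and radical graded ideals of S_+: let S be a
graded ring and Z a closed subset of Proj S, with J = S_+ ∩ (vanishing ideal of Z). Then Z is
irreducible if and only if J is a prime ideal of the ring-without-unit S_+: J ≠ S_+ and a product of
two elements of S_+ lies in J only if one factor does. -/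
theorem result {R A : Type u} [CommRing R] [CommRing A] [Algebra R A] (𝒜 : ℕ → Submodule R A) [GradedAlgebra 𝒜]
    (Z : Set (ProjectiveSpectrum 𝒜)) (hZ : IsClosed Z) :
    IsIrreducible Z ↔
      (¬ (HomogeneousIdeal.irrelevant 𝒜).toIdeal ≤ (ProjectiveSpectrum.vanishingIdeal Z).toIdeal ∧
        ∀ f ∈ (HomogeneousIdeal.irrelevant 𝒜).toIdeal, ∀ g ∈ (HomogeneousIdeal.irrelevant 𝒜).toIdeal,
          f * g ∈ (ProjectiveSpectrum.vanishingIdeal Z).toIdeal →
            f ∈ (ProjectiveSpectrum.vanishingIdeal Z).toIdeal ∨ g ∈ (ProjectiveSpectrum.vanishingIdeal Z).toIdeal) := by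
  classical
  set I := (HomogeneousIdeal.irrelevant 𝒜).toIdeal with hIdef
  set v := (ProjectiveSpectrum.vanishingIdeal Z).toIdeal with hvdef
  have hvp : ∀ p ∈ Z, v ≤ p.asHomogeneousIdeal.toIdeal := by
    intro p hp f hf
    exact (ProjectiveSpectrum.mem_vanishingIdeal Z f).mp hf p hp
  have hmemv : ∀ f : A, f ∈ v ↔ ∀ p ∈ Z, f ∈ p.asHomogeneousIdeal :=
    fun f => ProjectiveSpectrum.mem_vanishingIdeal Z f
  constructor
  · rintro ⟨⟨p, hp⟩, hpre⟩
    refine ⟨fun hle => p.not_irrelevant_le (fun x hx => hvp p hp (hle hx)), ?_⟩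
    intro f _ g _ hfg
    have hsub : Z ⊆ ProjectiveSpectrum.zeroLocus 𝒜 {f} ∪ ProjectiveSpectrum.zeroLocus 𝒜 {g} := by
      intro q hq
      have hq' : f * g ∈ q.asHomogeneousIdeal.toIdeal := hvp q hq hfg
      rcases q.isPrime.mem_or_mem hq' with h | h
      · left
        simpa [ProjectiveSpectrum.mem_zeroLocus] using h
      · right
        simpa [ProjectiveSpectrum.mem_zeroLocus] using h
    rcases (isPreirreducible_iff_isClosed_union_isClosed.mp hpre) _ _
      (ProjectiveSpectrum.isClosed_zeroLocus 𝒜 {f}) (ProjectiveSpectrum.isClosed_zeroLocus 𝒜 {g}) hsub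
      with h | h
    · left
      rw [hmemv]
      intro q hq
      have := h hq
      simpa [ProjectiveSpectrum.mem_zeroLocus] using this
    · right
      rw [hmemv]
      intro q hq
      have := h hq
      simpa [ProjectiveSpectrum.mem_zeroLocus] using this
  · rintro ⟨hne, hprime⟩
    refine ⟨?_, ?_⟩
    · by_contra hempty
      rw [Set.not_nonempty_iff_eq_empty] at hempty
      apply hne
      intro x _
      rw [hmemv]
      intro p hp
      rw [hempty] at hp
      exact hp.elim
    · rw [isPreirreducible_iff_isClosed_union_isClosed]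
      intro Z₁ Z₂ hZ₁ hZ₂ hsub
      by_contra hcon
      push Not at hcon
      obtain ⟨h1, h2⟩ := hcon
      obtain ⟨p, hpZ, hpZ₁⟩ := Set.not_subset.mp h1
      obtain ⟨q, hqZ, hqZ₂⟩ := Set.not_subset.mp h2
      have key : ∀ (W : Set (ProjectiveSpectrum 𝒜)), IsClosed W → ∀ r : ProjectiveSpectrum 𝒜, r ∉ W →
          ∃ a ∈ I, a ∈ (ProjectiveSpectrum.vanishingIdeal W).toIdeal ∧ a ∉ r.asHomogeneousIdeal.toIdeal := by
        intro W hW r hr
        rw [← hW.closure_eq, ← ProjectiveSpectrum.zeroLocus_vanishingIdeal_eq_closure,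
          ProjectiveSpectrum.mem_zeroLocus] at hr
        obtain ⟨a, haW, har⟩ := Set.not_subset.mp hr
        obtain ⟨c, hcI, hcr⟩ := Set.not_subset.mp (fun h => r.not_irrelevant_le h :
          ¬ ((HomogeneousIdeal.irrelevant 𝒜 : Set A) ⊆ r.asHomogeneousIdeal))
        refine ⟨a * c, Ideal.mul_mem_left _ _ hcI, Ideal.mul_mem_right _ _ haW, ?_⟩
        intro hac
        rcases r.isPrime.mem_or_mem hac with h | h
        · exact har h
        · exact hcr h
      obtain ⟨a, haI, haZ₁, hap⟩ := key Z₁ hZ₁ p hpZ₁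
      obtain ⟨b, hbI, hbZ₂, hbq⟩ := key Z₂ hZ₂ q hqZ₂
      have hab : a * b ∈ v := by
        rw [hmemv]
        intro r hr
        rcases hsub hr with h | h
        · exact Ideal.mul_mem_right _ _
            ((ProjectiveSpectrum.mem_vanishingIdeal Z₁ a).mp haZ₁ r h)
        · exact Ideal.mul_mem_left _ _
            ((ProjectiveSpectrum.mem_vanishingIdeal Z₂ b).mp hbZ₂ r h)
      rcases hprime a haI b hbI hab with h | h
      · exact hap (hvp p hpZ h)
      · exact hbq (hvp q hqZ h)

end Groth.Agent.S3578
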