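import Groth.Statements.S3557
import Groth.Agent.H18.ProjBasic
import Groth.Agent.S3556
import Groth.Agent.S3578

set_option autoImplicit false
universe u
open CategoryTheory CategoryTheory.Limits AlgebraicGeometry
open EGA2

namespace Groth.Agent.S3557

/-- Let S be a graded ring which is essentially reduced (S_+ contains no nonzero nilpotent). Then Proj S
is an integral scheme if and only if S is essentially integral, i.e. S_+ is nonzero and the product
of two nonzero elements of S_+ is nonzero. -/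
theorem result {R A : Type u} [CommRing R] [CommRing A] [Algebra R A] (𝒜 : ℕ → Submodule R A) [GradedAlgebra 𝒜]
    (hred : ∀ f ∈ (HomogeneousIdeal.irrelevant 𝒜).toIdeal, IsNilpotent f → f = 0) :
    AlgebraicGeometry.IsIntegral (Proj 𝒜) ↔
      ((∃ f ∈ (HomogeneousIdeal.irrelevant 𝒜).toIdeal, f ≠ 0) ∧
        ∀ f ∈ (HomogeneousIdeal.irrelevant 𝒜).toIdeal, ∀ g ∈ (HomogeneousIdeal.irrelevant 𝒜).toIdeal,
          f * g = 0 → f = 0 ∨ g = 0) := by
  have hR : AlgebraicGeometry.IsReduced (Proj 𝒜) := Groth.Agent.S3556.result 𝒜 hred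
  have hv : ∀ f ∈ (HomogeneousIdeal.irrelevant 𝒜).toIdeal,
      (f ∈ (ProjectiveSpectrum.vanishingIdeal (Set.univ : Set (ProjectiveSpectrum 𝒜))).toIdeal ↔ f = 0) := by
    intro f hf
    constructor
    · intro h
      apply hred f hf
      have h1 : f ∈ (⊥ : Ideal A).radical :=
        Groth.Agent.H18.mem_radical_of_mem_irrelevant_of_forall_mem 𝒜 ⊥ (Ideal.IsHomogeneous.bot 𝒜) hf
          (fun p _ => (ProjectiveSpectrum.mem_vanishingIdeal _ f).mp h p (Set.mem_univ p))
      exact mem_nilradical.mp h1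
    · rintro rfl
      exact Ideal.zero_mem _
  have h78 := Groth.Agent.S3578.result 𝒜 (Set.univ : Set (ProjectiveSpectrum 𝒜)) isClosed_univ
  have hirr : IrreducibleSpace (Proj 𝒜) ↔ IsIrreducible (Set.univ : Set (ProjectiveSpectrum 𝒜)) :=
    (irreducibleSpace_def (ProjectiveSpectrum 𝒜))
  rw [isIntegral_iff_irreducibleSpace_and_isReduced, hirr, h78]
  constructor
  · rintro ⟨⟨h1, h2⟩, -⟩
    refine ⟨?_, ?_⟩
    · obtain ⟨f, hfI, hfv⟩ := Set.not_subset.mp h1
      exact ⟨f, hfI, fun h0 => hfv ((hv f hfI).mpr h0)⟩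
    · intro f hf g hg hfg
      have hfgI : f * g ∈ (HomogeneousIdeal.irrelevant 𝒜).toIdeal := Ideal.mul_mem_left _ _ hg
      rcases h2 f hf g hg ((hv _ hfgI).mpr hfg) with h | h
      · exact Or.inl ((hv f hf).mp h)
      · exact Or.inr ((hv g hg).mp h)
  · rintro ⟨⟨f, hfI, hf0⟩, h2⟩
    refine ⟨⟨fun hle => hf0 ((hv f hfI).mp (hle hfI)), ?_⟩, hR⟩
    intro f hf g hg hfg
    have hfgI : f * g ∈ (HomogeneousIdeal.irrelevant 𝒜).toIdeal := Ideal.mul_mem_left _ _ hg
    rcases h2 f hf g hg ((hv _ hfgI).mp hfg) with h | h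
    · exact Or.inl ((hv f hf).mpr h)
    · exact Or.inr ((hv g hg).mpr h)

end Groth.Agent.S3557
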