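import Groth.Statements.S1616
import Groth.Agent.H8.SegreMap
import Groth.Agent.H8.SegreBaseChange

set_option autoImplicit false
universe u
open CategoryTheory CategoryTheory.Limits AlgebraicGeometry
open Constr

namespace Groth.Agent.S1616

/-- For any scheme S and n, m ≥ 0 there is a closed immersion from P^n_S ×_S P^m_S into P^{nm+n+m}_S
compatible with the projections to S. -/
theorem result (S : Scheme.{u}) (n m : ℕ) :
    ∃ φ : pullback (CohB1.ProjSpaceOver.toBase n S) (CohB1.ProjSpaceOver.toBase m S) ⟶ CohB1.ProjSpaceOver (n * m + n + m) S,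
      IsClosedImmersion φ ∧ φ ≫ CohB1.ProjSpaceOver.toBase (n * m + n + m) S =
        pullback.fst (CohB1.ProjSpaceOver.toBase n S) (CohB1.ProjSpaceOver.toBase m S) ≫ CohB1.ProjSpaceOver.toBase n S := by
  obtain ⟨σ, hσc, hσ⟩ := Groth.Agent.H8.Segre.exists_segre (ULift.{u} ℤ) n m
  have hσ' : σ ≫ Groth.Agent.H8.Segre.tt (ULift.{u} ℤ) (n * m + n + m) =
      pullback.fst (Groth.Agent.H8.Segre.tt (ULift.{u} ℤ) n) (Groth.Agent.H8.Segre.tt (ULift.{u} ℤ) m) ≫
        Groth.Agent.H8.Segre.tt (ULift.{u} ℤ) n := hσ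
  have hpb := Groth.Agent.H8.SegreBC.isPullback_phi (Groth.Agent.H8.Segre.tt (ULift.{u} ℤ) n)
    (Groth.Agent.H8.Segre.tt (ULift.{u} ℤ) m) (Groth.Agent.H8.Segre.tt (ULift.{u} ℤ) (n * m + n + m))
    (specULiftZIsTerminal.from S) σ hσ'
  have hcl : IsClosedImmersion (Groth.Agent.H8.SegreBC.phi (Groth.Agent.H8.Segre.tt (ULift.{u} ℤ) n)
      (Groth.Agent.H8.Segre.tt (ULift.{u} ℤ) m)
      (Groth.Agent.H8.Segre.tt (ULift.{u} ℤ) (n * m + n + m))
      (specULiftZIsTerminal.from S) σ hσ') :=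
    MorphismProperty.of_isPullback (P := @IsClosedImmersion) hpb.flip hσc
  exact ⟨Groth.Agent.H8.SegreBC.phi (Groth.Agent.H8.Segre.tt (ULift.{u} ℤ) n)
      (Groth.Agent.H8.Segre.tt (ULift.{u} ℤ) m)
      (Groth.Agent.H8.Segre.tt (ULift.{u} ℤ) (n * m + n + m))
      (specULiftZIsTerminal.from S) σ hσ', hcl,
    Groth.Agent.H8.SegreBC.phi_snd _ _ _ _ σ hσ'⟩

end Groth.Agent.S1616
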