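import Groth.Statements.S0501
import Groth.Agent.H3.HenselEtale

set_option autoImplicit false
universe u
open Hensel

namespace Groth.Agent.S0501

open IsLocalRing in
/-- Let `S` be a henselian local ring over a ring `R`, let `A` be an étale `R`-algebra with a prime `q`,
and let `τ` be a ring map from the residue field of `q` to the residue field of `S` compatible with
the two structure maps from `R`. Then there is exactly one `R`-algebra map from `A` to `S` pulling
the maximal ideal back to `q` and inducing `τ`. -/
theorem result (R : Type u) [CommRing R]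
    (S : Type u) [CommRing S] [HenselianLocalRing S] [Algebra R S]
    (A : Type u) [CommRing A] [Algebra R A] [Algebra.Etale R A] (q : Ideal A) [q.IsPrime]
    (τ : q.ResidueField →+* IsLocalRing.ResidueField S)
    (hτ : τ.comp (algebraMap R q.ResidueField) = (IsLocalRing.residue S).comp (algebraMap R S)) :
    ∃! f : A →ₐ[R] S, Ideal.comap f.toRingHom (IsLocalRing.maximalIdeal S) = q ∧
      ∀ a : A, IsLocalRing.residue S (f a) = τ (algebraMap A q.ResidueField a) := by
  obtain ⟨g, hgq, hstd⟩ := Algebra.IsEtaleAt.exists_isStandardEtale (R := R) q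
  obtain ⟨P⟩ := hstd.nonempty_standardEtalePresentation
  -- the residue-field valued point of `A`
  let σ₀ : A →ₐ[R] ResidueField S :=
    { τ.comp (algebraMap A q.ResidueField) with
      commutes' := fun r => by
        have := congr($hτ r)
        simp only [RingHom.comp_apply] at this
        simp only [RingHom.toMonoidHom_eq_coe, OneHom.toFun_eq_coe, MonoidHom.toOneHom_coe,
          MonoidHom.coe_coe, RingHom.comp_apply]
        rw [← IsScalarTower.algebraMap_apply R A q.ResidueField, this]
        rfl }
  have hσ₀ : ∀ a, σ₀ a = τ (algebraMap A q.ResidueField a) := fun a => rfl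
  have hσ₀g : IsUnit (σ₀ g) := by
    rw [hσ₀, isUnit_iff_ne_zero, Ne, map_eq_zero, Ideal.algebraMap_residueField_eq_zero]
    exact hgq
  let σ : Localization.Away g →ₐ[R] ResidueField S := IsLocalization.Away.liftAlgHom g hσ₀g
  have hσ : ∀ a, σ (algebraMap A _ a) = σ₀ a := fun a => IsLocalization.Away.lift_eq g hσ₀g a
  obtain ⟨φ, hφ, hφuniq⟩ := Groth.Agent.H3.existsUnique_lift_of_standardEtalePresentation
    (S := S) P σ
  have key : ∀ (ψ : A →ₐ[R] S),
      (∀ a : A, IsLocalRing.residue S (ψ a) = τ (algebraMap A q.ResidueField a)) →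
      Ideal.comap ψ.toRingHom (IsLocalRing.maximalIdeal S) = q := by
    intro ψ hψ
    ext a
    rw [Ideal.mem_comap, ← Ideal.Quotient.eq_zero_iff_mem]
    change IsLocalRing.residue S (ψ a) = 0 ↔ _
    rw [hψ, map_eq_zero, Ideal.algebraMap_residueField_eq_zero]
  have hφres : ∀ a : A, IsLocalRing.residue S (φ (algebraMap A _ a)) =
      τ (algebraMap A q.ResidueField a) := by
    intro a
    have := congr($hφ (algebraMap A _ a))
    rw [hσ, hσ₀] at this
    exact this
  refine ⟨φ.comp (IsScalarTower.toAlgHom R A _), ⟨key _ hφres, hφres⟩, ?_⟩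
  rintro ψ ⟨hψq, hψres⟩
  have hψg : IsUnit (ψ g) := by
    rw [← notMem_maximalIdeal]
    intro h
    exact hgq (hψq ▸ (Ideal.mem_comap.mpr h))
  let ψ' : Localization.Away g →ₐ[R] S := IsLocalization.Away.liftAlgHom g hψg
  have hψ' : ∀ a, ψ' (algebraMap A _ a) = ψ a := fun a => IsLocalization.Away.lift_eq g hψg a
  have hψ'σ : (IsScalarTower.toAlgHom R S (ResidueField S)).comp ψ' = σ := by
    apply AlgHom.coe_ringHom_injective
    apply IsLocalization.ringHom_ext (Submonoid.powers g)
    ext a
    simp only [AlgHom.coe_ringHom_mk, RingHom.comp_apply, RingHom.coe_coe, AlgHom.comp_apply,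
      hψ', hσ, hσ₀, ← hψres]
    rfl
  have := hφuniq ψ' hψ'σ
  ext a
  rw [← hψ', this]
  rfl

end Groth.Agent.S0501
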