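import Groth.Statements.S8261
import Groth.Agent.H41.RelProj
import Groth.Agent.H41.ProjFT

set_option autoImplicit false
universe u
open CategoryTheory CategoryTheory.Limits AlgebraicGeometry Opposite TopologicalSpace
open scoped HomogeneousIdeal
open EGA2

namespace Groth.Agent.S8261

/-- Let 𝒮 be a quasi-coherent positively graded O_Y-algebra generated by 𝒮_1 with 𝒮_1 of finite type
over O_Y. Then Proj(𝒮) is of finite type over Y. -/
theorem result {Y P : Scheme.{u}} (𝒮 : RelProj.QCGrAlg Y)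
    (hgen : 𝒮.IsGenDegOne) (hft : 𝒮.IsFTDeg 1) (p : P ⟶ Y)
    (chart : ∀ (U : Y.Opens) (hU : IsAffineOpen U), (((p ⁻¹ᵁ U : P.Opens) : Scheme.{u}) ≅ Proj (𝒮.deg U hU)))
    (hP : RelProj.IsRelProj 𝒮 p chart) : LocallyOfFiniteType p ∧ QuasiCompact p := by
  have key : ∀ (U : Y.Opens) (hU : IsAffineOpen U),
      LocallyOfFiniteType (Proj.toSpecZero (𝒮.deg U hU) ≫ Spec.map (𝒮.strZero U hU)) ∧
      QuasiCompact (Proj.toSpecZero (𝒮.deg U hU) ≫ Spec.map (𝒮.strZero U hU)) := by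
    intro U hU
    let _ : Algebra Γ(Y, U) (𝒮.presheaf.obj (op U)) := (𝒮.str.app (op U)).hom.toAlgebra
    obtain ⟨T, hT, hTspan⟩ := hft U hU
    have halg : ∀ r : Γ(Y, U), algebraMap Γ(Y, U) (𝒮.presheaf.obj (op U)) r ∈ 𝒮.deg U hU 0 :=
      fun r => 𝒮.str_mem U hU r
    have hT' : ∀ t ∈ T, t ∈ 𝒮.deg U hU 1 := fun t ht => hT ht
    have hspan : ∀ x ∈ 𝒮.deg U hU 1, x ∈ Submodule.span Γ(Y, U) (T : Set (𝒮.presheaf.obj (op U))) := by
      intro x hx
      obtain ⟨c, hc⟩ := hTspan x hx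
      rw [hc]
      refine Submodule.sum_mem _ fun t ht => ?_
      have : (𝒮.str.app (op U)).hom (c t) * t = c t • t := (Algebra.smul_def _ _).symm
      rw [this]
      exact Submodule.smul_mem _ _ (Submodule.subset_span ht)
    have hψ : ∀ r, (((𝒮.strZero U hU).hom r : 𝒮.deg U hU 0) : 𝒮.presheaf.obj (op U)) =
        algebraMap Γ(Y, U) (𝒮.presheaf.obj (op U)) r := fun r => rfl
    exact ⟨Groth.Agent.H41.ProjFT.locallyOfFiniteType_toSpecZero_comp halg T hT' hspan (hgen U hU)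
        (𝒮.strZero U hU).hom hψ,
      Groth.Agent.H41.ProjFT.quasiCompact_toSpecZero_comp halg T hT' hspan (hgen U hU)
        (𝒮.strZero U hU).hom⟩
  exact ⟨(Groth.Agent.H41.RelProj.relProj_iff 𝒮 p chart hP @LocallyOfFiniteType).2
      fun U hU => (key U hU).1,
    (Groth.Agent.H41.RelProj.relProj_iff 𝒮 p chart hP @QuasiCompact).2 fun U hU => (key U hU).2⟩

end Groth.Agent.S8261
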