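import Groth.Statements.S3869
import Groth.Agent.H20.StalkSubring

set_option autoImplicit false
universe u
open FCompl

namespace Groth.Agent.S3869

/-- For a ring A, an ideal J and a prime ideal 𝔭, let A{S⁻¹}, S = A ∖ 𝔭, be the completion of A_𝔭 for
the topology defined by the extension of J, and for f ∉ 𝔭 let A_{f} be the completion of A_f for the
topology defined by the extension of J. Consider the subring A_{S} of A{S⁻¹} generated by the images
of all the A_{f}, f ∉ 𝔭 (when A is adic Noetherian and 𝔭 is open, this is the inductive limit of the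
A_{f}, i.e. the stalk at 𝔭 of the structure sheaf of Spf(A) as a plain ring). If J ⊆ 𝔭, then A_{S}
is a local ring and its inclusion into A{S⁻¹} is a local homomorphism. -/
theorem result (A : Type u) [CommRing A] (J : Ideal A) (𝔭 : Ideal A) [𝔭.IsPrime]
    (hJ : J ≤ 𝔭) :
    IsLocalRing (FSch.stalkSubring A J 𝔭) ∧ IsLocalHom (FSch.stalkSubring A J 𝔭).subtype := by
  have hkey := Groth.Agent.H20.exists_inv_of_cResidue_ne_zero A J 𝔭 hJ
  have hnt : Nontrivial (FSch.cAtPrime A J 𝔭) :=
    RingHom.domain_nontrivial (Groth.Agent.H20.cResidue A J 𝔭 hJ)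
  -- units of the stalk ring are detected by the residue map
  have hunit : ∀ s : FSch.stalkSubring A J 𝔭,
      Groth.Agent.H20.cResidue A J 𝔭 hJ (s : FSch.cAtPrime A J 𝔭) ≠ 0 → IsUnit s := by
    intro s hs
    obtain ⟨s', hs', h1⟩ := hkey s.1 s.2 hs
    exact IsUnit.of_mul_eq_one ⟨s', hs'⟩ (Subtype.ext h1)
  have hres : ∀ s : FSch.stalkSubring A J 𝔭, IsUnit (s : FSch.cAtPrime A J 𝔭) →
      Groth.Agent.H20.cResidue A J 𝔭 hJ (s : FSch.cAtPrime A J 𝔭) ≠ 0 := by
    intro s hs
    exact (hs.map (Groth.Agent.H20.cResidue A J 𝔭 hJ)).ne_zero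
  constructor
  · apply IsLocalRing.of_nonunits_add
    intro a b ha hb
    have ha0 : Groth.Agent.H20.cResidue A J 𝔭 hJ (a : FSch.cAtPrime A J 𝔭) = 0 := by
      by_contra h
      exact ha (hunit a h)
    have hb0 : Groth.Agent.H20.cResidue A J 𝔭 hJ (b : FSch.cAtPrime A J 𝔭) = 0 := by
      by_contra h
      exact hb (hunit b h)
    intro hab
    have h1 := hres (a + b) (hab.map (FSch.stalkSubring A J 𝔭).subtype)
    apply h1
    rw [Subring.coe_add, map_add, ha0, hb0, add_zero]
  · constructor
    intro s hs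
    exact hunit s (hres s hs)

end Groth.Agent.S3869
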