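import Groth.Statements.S0622
import Groth.Agent.H4.Stalks

set_option autoImplicit false
open CategoryTheory CategoryTheory.Limits AlgebraicGeometry Opposite
universe u
open EtCore

namespace Groth.Agent.S0622

/-- Exactness of a three-term complex of abelian etale sheaves can be tested on stalks at all geometric
points; likewise a morphism of abelian etale sheaves is a monomorphism, respectively an epimorphism,
exactly when every geometric stalk map is injective, respectively surjective. -/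
theorem result {X : Scheme.{u}} (S : ShortComplex (EtCoh.Ab X)) {F G : EtCoh.Ab X} (a : F ⟶ G) :
    (S.Exact ↔ ∀ (Ω : Type u) [Field Ω] [IsSepClosed Ω] (ξ : Spec (CommRingCat.of Ω) ⟶ X),
      (S.map (EtCoh.stalk ξ)).Exact) ∧
    (Mono a ↔ ∀ (Ω : Type u) [Field Ω] [IsSepClosed Ω] (ξ : Spec (CommRingCat.of Ω) ⟶ X),
      Function.Injective ((EtCoh.stalk ξ).map a)) ∧
    (Epi a ↔ ∀ (Ω : Type u) [Field Ω] [IsSepClosed Ω] (ξ : Spec (CommRingCat.of Ω) ⟶ X),
      Function.Surjective ((EtCoh.stalk ξ).map a)) := by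
  open Groth.Agent.H4.Stalks in
  have hJ := jri X
  have hI : ∀ (Φ : (PX X).FullSubcategory), ∃ s : X, Φ.obj = Scheme.pointSmallEtale (geomPt s) := by
    rintro ⟨_, ⟨s⟩⟩
    exact ⟨s, rfl⟩
  have : ∀ (Φ : (PX X).FullSubcategory),
      (Φ.obj.sheafFiber (A := AddCommGrpCat.{u+1})).PreservesHomology := by
    intro Φ
    obtain ⟨s, hs⟩ := hI Φ
    rw [hs]
    exact (inferInstance : (EtCoh.stalk (geomPt s)).PreservesHomology)
  refine ⟨⟨fun h Ω _ _ ξ ↦ h.map _, fun h ↦ ?_⟩, ⟨fun h Ω _ _ ξ ↦ ?_, fun h ↦ ?_⟩,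
    ⟨fun h Ω _ _ ξ ↦ ?_, fun h ↦ ?_⟩⟩
  · rw [hJ.exact_iff]
    intro Φ
    obtain ⟨s, hs⟩ := hI Φ
    rw [hs]
    exact h _ (geomPt s)
  · have : Mono ((EtCoh.stalk ξ).map a) := inferInstance
    exact (AddCommGrpCat.mono_iff_injective _).1 this
  · rw [hJ.jointlyReflectMonomorphisms.mono_iff]
    intro Φ
    obtain ⟨s, hs⟩ := hI Φ
    rw [hs]
    exact (AddCommGrpCat.mono_iff_injective _).2 (h _ (geomPt s))
  · have : Epi ((EtCoh.stalk ξ).map a) := inferInstance
    exact (AddCommGrpCat.epi_iff_surjective _).1 this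
  · rw [hJ.jointlyReflectEpimorphisms.epi_iff]
    intro Φ
    obtain ⟨s, hs⟩ := hI Φ
    rw [hs]
    exact (AddCommGrpCat.epi_iff_surjective _).2 (h _ (geomPt s))

end Groth.Agent.S0622
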