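import Groth.Statements.S0069
import Groth.Agent.H4.Stalks

set_option autoImplicit false
open CategoryTheory CategoryTheory.Limits AlgebraicGeometry Opposite
universe u
open EtBase

namespace Groth.Agent.S0069

/-- Abelian case, first half — the pushforward along a closed immersion has zero stalk at geometric
points outside the closed subscheme. -/
theorem result {Z X : Scheme.{u}} (i : Z ⟶ X) [IsClosedImmersion i] [EtCoh.BCCont i]
    (G : EtCoh.Ab Z) {Ω : Type u} [Field Ω] [IsSepClosed Ω] (ξ : Spec (CommRingCat.of Ω) ⟶ X)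
    (hξ : Disjoint (Set.range ξ.base) (Set.range i.base)) :
    IsZero ((EtCoh.stalk ξ).obj ((EtCoh.push i).obj G)) := by
  open Groth.Agent.H4.Stalks in
  suffices h : ∀ t : (EtCoh.stalk ξ).obj ((EtCoh.push i).obj G), t = 0 by
    have : Subsingleton ((EtCoh.stalk ξ).obj ((EtCoh.push i).obj G)) :=
      ⟨fun a b => (h a).trans (h b).symm⟩
    exact AddCommGrpCat.isZero_of_subsingleton _
  intro t
  obtain ⟨V, x, s, rfl⟩ := Groth.Agent.H4.Stalks.germ_surjective _ t
  rw [Groth.Agent.H4.Stalks.germ_eq_zero_iff']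
  let Uc : X.Opens := ⟨(Set.range i.base)ᶜ, i.isClosedEmbedding.isClosed_range.isOpen_compl⟩
  let W0 : V.left.Opens := V.hom ⁻¹ᵁ Uc
  have : Etale V.hom := V.prop
  let W : X.Etale := Scheme.Etale.mk (W0.ι ≫ V.hom)
  let g : W ⟶ V := MorphismProperty.Over.homMk (A := W) (B := V) W0.ι rfl trivial
  have hx : x.pt ∈ W0 := by
    show V.hom x.pt ∈ (Set.range i.base)ᶜ
    rw [Groth.Agent.H4.Stalks.Fib.hom_pt]
    intro h
    exact Set.disjoint_left.1 hξ ⟨default, rfl⟩ h
  refine ⟨W, g, ⟨x.pt, hx⟩, rfl, ?_⟩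
  have : IsEmpty ((EtCoh.bc i).obj W).left := by
    constructor
    intro z
    have h1 : (pullback.fst W.hom i ≫ W.hom) z = (pullback.snd W.hom i ≫ i) z := by
      rw [pullback.condition]
    have h2 : W0.ι (pullback.fst W.hom i z) ∈ (W0 : Set V.left) := by
      rw [← Scheme.Opens.range_ι]; exact ⟨_, rfl⟩
    have h3 : V.hom (W0.ι (pullback.fst W.hom i z)) ∈ (Set.range i.base)ᶜ := h2
    exact h3 ⟨pullback.snd W.hom i z, h1.symm⟩
  exact Groth.Agent.H4.Stalks.eq_zero_of_isEmpty G _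

end Groth.Agent.S0069
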