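import Groth.Statements.S0101
import Groth.Agent.H1.LanFlat
-- import your own Groth.Agent.* helpers here

set_option autoImplicit false
open CategoryTheory CategoryTheory.Limits AlgebraicGeometry Opposite
universe u
open EtBase

namespace Groth.Agent.S0101

/-- Part (1) — pullback of abelian étale sheaves along a morphism of schemes is exact (it is a left
adjoint and preserves finite limits). -/
theorem result {X Y : Scheme.{u}} (f : X ⟶ Y) [EtCoh.BCCont f] :
    PreservesFiniteLimits (EtCoh.pull f) := by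
  have hfilt : ∀ K : (X.Etale)ᵒᵖ, IsFiltered (CostructuredArrow (EtCoh.bc f).op K) := fun K =>
    IsFiltered.of_equivalence (structuredArrowOpEquivalence (EtCoh.bc f) (unop K))
  have hAB5 : AB5OfSize.{u, u + 1} AddCommGrpCat.{u + 1} :=
    AB5OfSize_of_univLE.{u, u + 1, u + 1, u + 1} AddCommGrpCat.{u + 1}
  have hex : ∀ K : (X.Etale)ᵒᵖ,
      HasExactColimitsOfShape (CostructuredArrow (EtCoh.bc f).op K) AddCommGrpCat.{u + 1} :=
    fun K => inferInstance
  have : PreservesFiniteLimits ((EtCoh.bc f).op.lan :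
      ((Y.Etale)ᵒᵖ ⥤ AddCommGrpCat.{u + 1}) ⥤ (X.Etale)ᵒᵖ ⥤ AddCommGrpCat.{u + 1}) :=
    Groth.Agent.H1.lan_preservesFiniteLimits_of_flat_gen AddCommGrpCat.{u + 1} (EtCoh.bc f)
  exact Functor.sheafPullbackConstruction.preservesFiniteLimits (EtCoh.bc f) AddCommGrpCat.{u + 1}
    Y.smallEtaleTopology X.smallEtaleTopology

end Groth.Agent.S0101
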