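import Groth.Statements.S14577
import Groth.Agent.H42.AntiAffRigid
import Groth.Agent.H90.GrpFlat

set_option autoImplicit false
universe u
open CategoryTheory MonoidalCategory CartesianMonoidalCategory MonObj GrpObj AlgebraicGeometry CategoryTheory.Limits
open AlgGrp

namespace Groth.Agent.S14577

/-- Let k be a field, X a quasi-compact separated k-scheme with O(X) = k, Y a separated, reduced and
irreducible locally Noetherian k-scheme, Z a separated k-scheme, and x₀, y₀ rational points of X, Y.
If a k-morphism f : X × Y → Z satisfies f(x, y₀) = f(x₀, y₀) identically (as morphisms from X), then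
f(x, y) = f(x₀, y) identically on X × Y. (The published statement does not ask Y to be reduced; the
final density step of its proof uses that the infinitesimal neighbourhoods of y₀ are schematically
dense in Y, which holds when Y is moreover reduced, so Y is taken reduced, hence integral, here.) -/
theorem result (k : Type u) [Field k]
    (X Y Z : Over (Spec (CommRingCat.of k))) [QuasiCompact X.hom] [IsSeparated X.hom]
    (hX : Function.Bijective ((Scheme.ΓSpecIso (CommRingCat.of k)).inv ≫ X.hom.appTop).hom)
    [IsSeparated Y.hom] [IsLocallyNoetherian Y.left] [IrreducibleSpace ↥Y.left] [IsReduced Y.left] [IsSeparated Z.hom]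
    (x₀ : 𝟙_ (Over (Spec (CommRingCat.of k))) ⟶ X) (y₀ : 𝟙_ (Over (Spec (CommRingCat.of k))) ⟶ Y) (f : X ⊗ Y ⟶ Z)
    (hf : (X ◁ y₀) ≫ f = toUnit _ ≫ lift x₀ y₀ ≫ f) :
    f = snd X Y ≫ lift (toUnit Y ≫ x₀) (𝟙 Y) ≫ f := by
  have : IsIso ((Scheme.ΓSpecIso (CommRingCat.of k)).inv ≫ X.hom.appTop) :=
    (ConcreteCategory.isIso_iff_bijective _).mpr hX
  have hp : IsIso X.hom.appTop :=
    IsIso.of_isIso_comp_left (Scheme.ΓSpecIso (CommRingCat.of k)).inv X.hom.appTop
  have hx₀ : x₀.left ≫ X.hom = 𝟙 _ := Over.w x₀
  have hf' : f.left ≫ Z.hom = pullback.fst X.hom Y.hom ≫ X.hom := Over.w f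
  have : IsIntegral Y.left := isIntegral_of_irreducibleSpace_of_isReduced Y.left
  let pt : ↥(Spec (CommRingCat.of k)) := IsLocalRing.closedPoint k
  obtain ⟨_, ⟨U, hU, rfl⟩, hzU, -⟩ := Z.left.isBasis_affineOpens.exists_subset_of_mem_open
    (Set.mem_univ ((lift x₀ y₀ ≫ f).left.base pt)) isOpen_univ
  have key := Groth.Agent.H42.AntiAff.rigid_of_isIntegral X.hom Y.hom hx₀ hp f.left Z.hom hf'
    (y₀.left.base pt) U hU ?_
  · apply Over.OverMorphism.ext
    rw [key]
    rw [Groth.Agent.H42.AntiAff.constPart]
    rw [Over.comp_left, Over.comp_left]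
    congr 1
  · intro z hz
    have sq := Groth.Agent.H90.isPullback_whiskerLeft_snd X y₀
    have hrange : Set.range (X ◁ y₀).left.base = (snd X Y).left.base ⁻¹' Set.range y₀.left.base := by
      rw [← sq.isoPullback_hom_fst]
      rw [Scheme.Hom.comp_base, TopCat.coe_comp, Set.range_comp, Set.range_eq_univ.mpr
        (Scheme.Hom.surjective sq.isoPullback.hom), Set.image_univ, Scheme.Pullback.range_fst]
    have hz' : z ∈ Set.range (X ◁ y₀).left.base := by
      rw [hrange]
      exact ⟨pt, hz.symm⟩
    obtain ⟨w, rfl⟩ := hz'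
    have h1 := congrArg (fun m => m.left.base w) hf
    simp only [Over.comp_left, Scheme.Hom.comp_base, TopCat.coe_comp, Function.comp_apply] at h1
    have h2 : (toUnit (X ⊗ 𝟙_ (Over (Spec (CommRingCat.of k))))).left.base w = pt :=
      @Subsingleton.elim _ (inferInstanceAs (Subsingleton (PrimeSpectrum k))) _ _
    rw [h2] at h1
    rw [h1]
    simpa using hzU

end Groth.Agent.S14577
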