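import Groth.Statements.S10830

set_option autoImplicit false
universe u
open Topology TopologicalSpace
open TopDim

namespace Groth.Agent.S10830

/-- In an irreducible topological space X of finite Krull dimension, every proper closed subset Y has
strictly smaller Krull dimension than X. -/
theorem result (X : Type u) [TopologicalSpace X]
    [IrreducibleSpace X] (hfin : topologicalKrullDim X ≠ ⊤) (Y : Set X) (hY : IsClosed Y) (hYX : Y ≠ Set.univ) :
    topologicalKrullDim ↥Y < topologicalKrullDim X := by
  classical
  by_cases hemp : IsEmpty (IrreducibleCloseds ↥Y)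
  · have h1 : topologicalKrullDim ↥Y = ⊥ := Order.krullDim_eq_bot_iff.mpr hemp
    rw [h1]
    have : Nonempty (IrreducibleCloseds X) :=
      ⟨⟨Set.univ, IrreducibleSpace.isIrreducible_univ X, isClosed_univ⟩⟩
    exact Order.bot_lt_krullDim
  · rw [not_isEmpty_iff] at hemp
    let top : IrreducibleCloseds X := ⟨Set.univ, IrreducibleSpace.isIrreducible_univ X, isClosed_univ⟩
    let g : WithTop (IrreducibleCloseds ↥Y) → IrreducibleCloseds X := fun z =>
      match z with
      | ⊤ => top
      | (z : IrreducibleCloseds ↥Y) => IrreducibleCloseds.map Subtype.val continuous_subtype_val z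
    have hlt : ∀ z : IrreducibleCloseds ↥Y,
        IrreducibleCloseds.map Subtype.val continuous_subtype_val z < top := by
      intro z
      refine lt_of_le_of_ne (fun x _ => Set.mem_univ x) ?_
      intro h
      apply hYX
      have h2 : (IrreducibleCloseds.map Subtype.val continuous_subtype_val z : Set X) = Set.univ :=
        congrArg (fun s : IrreducibleCloseds X => (s : Set X)) h
      rw [IrreducibleCloseds.coe_map] at h2
      have h3 : closure (Subtype.val '' (z : Set ↥Y)) ⊆ Y := by
        apply closure_minimal _ hY
        rintro _ ⟨y, _, rfl⟩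
        exact y.2
      exact Set.eq_univ_of_univ_subset (h2 ▸ h3)
    have hg : StrictMono g := by
      intro a b hab
      induction a with
      | top => exact absurd hab (not_top_lt)
      | coe a =>
        induction b with
        | top => exact hlt a
        | coe b =>
          exact IrreducibleCloseds.map_strictMono_of_isInducing IsInducing.subtypeVal
            (WithTop.coe_lt_coe.mp hab)
    have h1 : topologicalKrullDim ↥Y + 1 ≤ topologicalKrullDim X := by
      unfold topologicalKrullDim
      rw [← Order.krullDim_WithTop]
      exact Order.krullDim_le_of_strictMono g hg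
    have h0 : topologicalKrullDim ↥Y ≠ ⊤ := by
      intro h
      apply hfin
      rw [h] at h1
      have h2 : (⊤ : WithBot ℕ∞) + 1 = ⊤ := rfl
      rw [h2] at h1
      exact top_le_iff.mp h1
    have hb : topologicalKrullDim ↥Y ≠ ⊥ := Order.krullDim_ne_bot_iff.mpr hemp
    refine lt_of_lt_of_le ?_ h1
    -- a < a + 1 for finite a
    obtain ⟨n, hn⟩ := WithBot.ne_bot_iff_exists.mp hb
    rw [← hn] at h0 ⊢
    have hn' : n ≠ ⊤ := by
      intro h; apply h0; rw [h]; rfl
    obtain ⟨m, rfl⟩ := ENat.ne_top_iff_exists.mp hn'
    exact_mod_cast Nat.lt_succ_self m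

end Groth.Agent.S10830
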