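import Groth.Statements.S4445
import Groth.Agent.H22.FunFieldHom
import Mathlib.RingTheory.DiscreteValuationRing.TFAE

set_option autoImplicit false
universe u
open CategoryTheory CategoryTheory.Limits AlgebraicGeometry
attribute [local instance] Curv2.stalkAlgebra
open EGA2

namespace Groth.Agent.S4445

/-- Let X be a normal irreducible algebraic curve over a field k with field of rational functions K, and
Y an integral complete (proper over k) algebraic curve with field of rational functions L. Dominant
k-morphisms X ⟶ Y correspond bijectively to k-embeddings L → K: for every k-algebra homomorphism φ :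
L → K there is exactly one k-morphism u : X ⟶ Y mapping the generic point of X to the generic point
of Y and inducing φ on the stalks at the generic points. -/
theorem result (k : Type u) [Field k] (X Y : Scheme.{u})
    [X.Over (Spec (CommRingCat.of k))] [LocallyOfFiniteType (X ↘ (Spec (CommRingCat.of k)))]
    [QuasiCompact (X ↘ (Spec (CommRingCat.of k)))] [IsSeparated (X ↘ (Spec (CommRingCat.of k)))] [IsIntegral X]
    (hX : ∀ x : X, IsClosed ({x} : Set X) → ringKrullDim (X.presheaf.stalk x) = 1) (hnorm : Pi1.IsNormalScheme X)
    [Y.Over (Spec (CommRingCat.of k))] [IsProper (Y ↘ (Spec (CommRingCat.of k)))] [IsIntegral Y]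
    (hY : ∀ y : Y, IsClosed ({y} : Set Y) → ringKrullDim (Y.presheaf.stalk y) = 1)
    (φ : Y.functionField →ₐ[k] X.functionField) :
    ∃! u : X ⟶ Y, u ≫ (Y ↘ (Spec (CommRingCat.of k))) = X ↘ (Spec (CommRingCat.of k)) ∧
      ∃ hu : u.base (genericPoint X) = genericPoint Y,
        (Y.presheaf.stalkSpecializes (specializes_of_eq hu) ≫ u.stalkMap (genericPoint X)).hom = (φ : Y.functionField →+* X.functionField) := by
  classical
  -- abbreviations
  let sX := X ↘ (Spec (CommRingCat.of k))
  let sY := Y ↘ (Spec (CommRingCat.of k))
  -- `X` is locally noetherian and compact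
  have hlN : IsLocallyNoetherian X := LocallyOfFiniteType.isLocallyNoetherian sX
  have hcpt : CompactSpace X := by
    have : QuasiCompact sX := inferInstance
    exact (quasiCompact_iff_compactSpace sX).mp this
  -- closed points have valuation ring stalks
  have hP : ∀ x : X, IsClosed ({x} : Set X) →
      ∃ _ : IsDomain (X.presheaf.stalk x), ValuationRing (X.presheaf.stalk x) := by
    intro x hx
    obtain ⟨hdom, hic⟩ := hnorm x
    refine ⟨hdom, ?_⟩
    have hN : IsNoetherianRing (X.presheaf.stalk x) := inferInstance
    have htf := (tfae_of_isNoetherianRing_of_isLocalRing_of_isDomain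
      (X.presheaf.stalk x)).out 3 1
    refine htf.mp ⟨hic, ?_⟩
    intro P hP0 hPprime
    have hle1 : Ring.KrullDimLE 1 (X.presheaf.stalk x) :=
      Ring.krullDimLE_iff.mpr (hX x hx).le
    have hmax := Ring.krullDimLE_one_iff_of_noZeroDivisors.mp hle1 P hP0 hPprime
    exact IsLocalRing.eq_maximalIdeal hmax
  -- the morphism on the generic point
  let φ₀ : Spec (X.presheaf.stalk (genericPoint X)) ⟶ Y :=
    Spec.map (CommRingCat.ofHom (φ : Y.functionField →+* X.functionField)) ≫
      Y.fromSpecStalk (genericPoint Y)
  have hφ₀ : φ₀ ≫ sY = X.fromSpecStalk (genericPoint X) ≫ sX := by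
    rw [Category.assoc, H22.FunFieldHom.fromSpecStalk_comp_over,
      H22.FunFieldHom.fromSpecStalk_comp_over, ← Spec.map_comp]
    congr 1
    ext c
    exact φ.commutes c
  -- translation between the two forms of the condition
  have key : ∀ u : X ⟶ Y, (X.fromSpecStalk (genericPoint X) ≫ u = φ₀ ↔
      ∃ hu : u.base (genericPoint X) = genericPoint Y,
        (Y.presheaf.stalkSpecializes (specializes_of_eq hu) ≫ u.stalkMap (genericPoint X)).hom =
          (φ : Y.functionField →+* X.functionField)) := by
    intro u
    constructor
    · intro h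
      have hu : u.base (genericPoint X) = genericPoint Y := by
        have h1 := congr($h (IsLocalRing.closedPoint _))
        rw [Scheme.Hom.comp_apply, Scheme.fromSpecStalk_closedPoint] at h1
        rw [h1, Scheme.Hom.comp_apply]
        have : Spec.map (CommRingCat.ofHom (φ : Y.functionField →+* X.functionField))
            (IsLocalRing.closedPoint (X.presheaf.stalk (genericPoint X))) =
            IsLocalRing.closedPoint (Y.presheaf.stalk (genericPoint Y)) := Subsingleton.elim _ _
        exact (congrArg _ this).trans Scheme.fromSpecStalk_closedPoint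
      refine ⟨hu, ?_⟩
      have h2 : Spec.map (Y.presheaf.stalkSpecializes (specializes_of_eq hu) ≫
          u.stalkMap (genericPoint X)) ≫ Y.fromSpecStalk (genericPoint Y) =
          Spec.map (CommRingCat.ofHom (φ : Y.functionField →+* X.functionField)) ≫
            Y.fromSpecStalk (genericPoint Y) := by
        rw [Spec.map_comp, Category.assoc, Scheme.SpecMap_stalkSpecializes_fromSpecStalk,
          Scheme.SpecMap_stalkMap_fromSpecStalk, h]
        rfl
      have h3 := Spec.map_injective ((cancel_mono _).mp h2)
      rw [h3]
      rfl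
    · rintro ⟨hu, h⟩
      rw [← Scheme.SpecMap_stalkMap_fromSpecStalk,
        ← Scheme.SpecMap_stalkSpecializes_fromSpecStalk (specializes_of_eq hu),
        ← Category.assoc, ← Spec.map_comp]
      congr 2
      ext1
      exact h
  obtain ⟨u, ⟨hu1, hu2⟩, huniq⟩ :=
    H22.FunFieldHom.existsUnique_of_fromSpecStalk_genericPoint sY sX hP φ₀ hφ₀
  refine ⟨u, ⟨hu1, (key u).mp hu2⟩, ?_⟩
  rintro u' ⟨hu'1, hu'2⟩
  exact huniq u' ⟨hu'1, (key u').mpr hu'2⟩


end Groth.Agent.S4445
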