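import Groth.Statements.S0343
import Groth.Agent.H2.InjDimQuot

set_option autoImplicit false
universe u v
open Goren

namespace Groth.Agent.S0343

/-- For a Noetherian local ring A and a non-zero-divisor f in the maximal ideal, A is Gorenstein exactly
when A/(f) is. -/
theorem result (A : Type u) [CommRing A] [IsLocalRing A] [IsNoetherianRing A] (f : A) (hf : f ∈ IsLocalRing.maximalIdeal A) (hreg : IsSMulRegular A f) : LocCoh.IsGorensteinLocalRing A ↔ LocCoh.IsGorensteinLocalRing (A ⧸ Ideal.span {f}) := by
  have hloc : IsLocalRing (A ⧸ Ideal.span {f}) :=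
    Groth.Agent.H2.InjDimQuot.isLocalRing_quotient f hf
  constructor
  · intro h
    obtain ⟨n, hn⟩ := h.exists_hasInjectiveDimensionLT
    have hn' : CategoryTheory.HasInjectiveDimensionLT (ModuleCat.of A A) (n + 1) :=
      CategoryTheory.hasInjectiveDimensionLT_of_ge _ n _ (by omega)
    exact { exists_hasInjectiveDimensionLT :=
      ⟨n, Groth.Agent.H2.InjDimQuot.hasInjectiveDimensionLT_quotient f hreg n hn'⟩ }
  · intro h
    obtain ⟨n, hn⟩ := h.exists_hasInjectiveDimensionLT
    have hn' : CategoryTheory.HasInjectiveDimensionLT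
        (ModuleCat.of (A ⧸ Ideal.span {f}) (A ⧸ Ideal.span {f})) (n + 1) :=
      CategoryTheory.hasInjectiveDimensionLT_of_ge _ n _ (by omega)
    exact { exists_hasInjectiveDimensionLT :=
      ⟨n + 2, Groth.Agent.H2.InjDimQuot.hasInjectiveDimensionLT_of_quotient f hreg hf n hn'⟩ }

end Groth.Agent.S0343
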