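import Mathlib
import Groth.Statements.S0603
import Groth.Agent.H72.CMCatenary
-- import your own Groth.Agent.* helpers here

set_option autoImplicit false
universe u
open CAlg

namespace Groth.Agent.S0603

/-- Every Cohen–Macaulay ring (Noetherian with all local rings Cohen–Macaulay) satisfies the universally
catenary chain condition. -/
theorem result (R : Type u) [CommRing R]
    [LocCoh.IsCohenMacaulayRing R] : CAlg.IsUniversallyCatenary R := by
  exact Groth.Agent.H72.CMCatenary.isUniversallyCatenary_of_isCohenMacaulayRing R

end Groth.Agent.S0603
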