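import Groth.Statements.S0376
import Groth.Agent.S0580
import Groth.Agent.H26.PSDualizing

set_option autoImplicit false
universe u v
open CategoryTheory
attribute [local instance] HasDerivedCategory.standard
open Dual

namespace Groth.Agent.S0376

/-- A complete Noetherian local ring has a dualizing complex. -/
theorem result (A : Type u) [CommRing A] [IsLocalRing A] [IsNoetherianRing A] [IsAdicComplete (IsLocalRing.maximalIdeal A) A] : ∃ ω : Dual.D A, Dual.IsDualizing A ω := by
  obtain ⟨Λ, _, n, f, hΛ, hf⟩ := Groth.Agent.S0580.result A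
    (IsNoetherian.noetherian (IsLocalRing.maximalIdeal A))
  obtain ⟨_, hreg⟩ := Groth.Agent.H26.PSDualizing.exists_isRegularLocalRing_ps Λ hΛ n
  exact Groth.Agent.H26.PSDualizing.exists_isDualizing_of_surjective
    (MvPowerSeries (Fin n) Λ) A f hf _
    (Groth.Agent.H26.PSDualizing.isDualizing_self_of_isRegularLocalRing (MvPowerSeries (Fin n) Λ))

end Groth.Agent.S0376
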