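import Groth.Statements.S1725
import Mathlib
import Groth.Agent.H23.CutoffCompl2
import Groth.Agent.H23.Ratliff5
import Groth.Agent.H29.ComplCat
import Groth.Agent.H26.ComplQuot
import Groth.Agent.H72.FormalEquidim4

set_option autoImplicit false
universe u
open LocCoh

namespace Groth.Agent.S1725

/-- Let A be a universally catenary Noetherian local ring, I an ideal, M a finite A-module, and A', M'
the completions of A and M at the maximal ideal. Then s_{A', IA'}(M') ≤ s_{A,I}(M); and when A's
formal fibres satisfy (S_n), the completed invariant s_{A', IA'}(M') is at least min(n + 1,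
s_{A,I}(M)). -/
theorem result (A : Type u) [CommRing A] [IsLocalRing A] [IsNoetherianRing A] (hA : CAlg.IsUniversallyCatenary A) (I : Ideal A) (M : Type u) [AddCommGroup M] [Module A M] [Module.Finite A M] (n : ℕ) : Dual2.cutoff (AdicCompletion (IsLocalRing.maximalIdeal A) A) (I.map (algebraMap A (AdicCompletion (IsLocalRing.maximalIdeal A) A))) (AdicCompletion (IsLocalRing.maximalIdeal A) M) ≤ Dual2.cutoff A I M ∧ (EGA4.HasSnFormalFibres n A → min ((n : ℕ∞) + 1) (Dual2.cutoff A I M) ≤ Dual2.cutoff (AdicCompletion (IsLocalRing.maximalIdeal A) A) (I.map (algebraMap A (AdicCompletion (IsLocalRing.maximalIdeal A) A))) (AdicCompletion (IsLocalRing.maximalIdeal A) M)) := by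
  have := Groth.Agent.H72.FormalEquidim.isLocalRing_compl A
  have := Groth.Agent.H72.FormalEquidim.isNoetherianRing_compl A
  have hlh := Groth.Agent.H72.FormalEquidim.isLocalHom_compl A
  have : Module.Flat A (AdicCompletion (IsLocalRing.maximalIdeal A) A) := inferInstance
  let e₀ := AdicCompletion.ofTensorProductEquivOfFiniteNoetherian (IsLocalRing.maximalIdeal A) M
  refine ⟨?_, fun hS => ?_⟩
  · exact Groth.Agent.H23.CutoffCompl.cutoff_le_of_flat
      (fun q hq => Groth.Agent.H72.EquidimFlat.map_ne_top
        (B := AdicCompletion (IsLocalRing.maximalIdeal A) A) q) I M _ e₀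
  · refine Groth.Agent.H23.CutoffCompl.le_cutoff_of_flat n (fun p hp => hS p) ?_ I M _ e₀
    intro p hp hne
    have : IsAdicComplete (IsLocalRing.maximalIdeal (AdicCompletion (IsLocalRing.maximalIdeal A) A))
        (AdicCompletion (IsLocalRing.maximalIdeal A) A) :=
      AdicCompletion.isAdicComplete_of_fg (IsLocalRing.maximalIdeal A).fg_of_isNoetherianRing
    have : Nontrivial (AdicCompletion (IsLocalRing.maximalIdeal A) A ⧸
        p.map (algebraMap A (AdicCompletion (IsLocalRing.maximalIdeal A) A))) :=
      Ideal.Quotient.nontrivial_iff.mpr hne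
    have : IsLocalRing (AdicCompletion (IsLocalRing.maximalIdeal A) A ⧸
        p.map (algebraMap A (AdicCompletion (IsLocalRing.maximalIdeal A) A))) :=
      IsLocalRing.of_surjective' (Ideal.Quotient.mk _) Ideal.Quotient.mk_surjective
    have := Groth.Agent.H26.ComplQuot.isAdicComplete_quotient
      (p.map (algebraMap A (AdicCompletion (IsLocalRing.maximalIdeal A) A)))
    refine ⟨Groth.Agent.H29.ComplCat.isCatenary_of_isAdicComplete _, ?_⟩
    have hEq₁ : EGA4.IsEquidim (AdicCompletion (IsLocalRing.maximalIdeal (A ⧸ p)) (A ⧸ p)) :=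
      Groth.Agent.H23.Ratliff.isFormallyCatenary_of_isUniversallyCatenary A hA p
    obtain ⟨e, -⟩ := Groth.Agent.H26.ComplQuot.exists_adicCompletion_quotient_equiv A p
    exact Groth.Agent.H72.FormalEquidim.isEquidim_of_ringEquiv e.symm hEq₁

end Groth.Agent.S1725
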