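import Groth.Statements.S4696
import Groth.Agent.H26.FibreProp
import Groth.Agent.H26.NormalFlat
import Groth.Agent.H26.FormalFibreQuot

set_option autoImplicit false
universe u
open EGA4

namespace Groth.Agent.S4696

/-- Case of normal morphisms, affine form: let A → B → C be homomorphisms of Noetherian rings. If A → B
and B → C are normal (flat, with geometrically normal fibres) then the composite A → C is normal. -/
theorem result (A B C : Type u) [CommRing A] [CommRing B] [CommRing C] [IsNoetherianRing A]
    [IsNoetherianRing B] [IsNoetherianRing C] [Algebra A B] [Algebra B C] [Algebra A C] [IsScalarTower A B C]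
    (hAB : EGA4.IsNormalHom A B) (hBC : EGA4.IsNormalHom B C) : EGA4.IsNormalHom A C := by
  haveI : Module.Flat A B := hAB.1
  haveI : Module.Flat B C := hBC.1
  refine ⟨Module.Flat.trans A B C, fun p hp k' _ _ hfin => ?_⟩
  have hiso : ∀ (X Y : Type u) [CommRing X] [CommRing Y], (X ≃+* Y) →
      EGA4.IsNormalRing X → EGA4.IsNormalRing Y :=
    fun X Y _ _ e h => Groth.Agent.H26.FormalFibreQuot.isNormalRing_of_ringEquiv e h
  have hNoeth : ∀ (D : Type u) [CommRing D] [Algebra A D] [IsNoetherianRing D],
      IsNoetherianRing (TensorProduct p.ResidueField k' (p.Fiber D)) := by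
    intro D _ _ _
    have h1 : Algebra.EssFiniteType D (TensorProduct A D p.ResidueField) := inferInstance
    have h2 : IsNoetherianRing (TensorProduct A D p.ResidueField) :=
      Algebra.EssFiniteType.isNoetherianRing D _
    haveI h3 : IsNoetherianRing (p.Fiber D) := isNoetherianRing_of_ringEquiv _
      (Algebra.TensorProduct.comm A D p.ResidueField).toRingEquiv
    have h4 : IsNoetherianRing (TensorProduct p.ResidueField (p.Fiber D) k') :=
      IsNoetherianRing.of_finite (p.Fiber D) _
    exact isNoetherianRing_of_ringEquiv _
      (Algebra.TensorProduct.comm p.ResidueField (p.Fiber D) k').toRingEquiv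
  refine Groth.Agent.H26.FibreProp.comp_generic
    (fun X _ => EGA4.IsNormalRing X) (fun X _ => EGA4.IsNormalRing X) hiso hiso
    (fun R S _ _ _ _ _ _ hR hfib =>
      Groth.Agent.H26.NormalFlat.isNormalRing_of_flat_of_fibres R S hR hfib)
    A B C p k' (hNoeth B) (hAB.2 p k' hfin) ?_ (hNoeth C)
  intro q hq k'' _ _ hfin'
  exact hBC.2 q k'' hfin'

end Groth.Agent.S4696
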