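import Groth.Statements.S4573
import Groth.Agent.H23.GeomRegFS4

set_option autoImplicit false
universe u
open TensorProduct IsLocalRing
open EGA41

namespace Groth.Agent.S4573

/-- Let k be a field of characteristic exponent p and A a Noetherian local k-algebra. Then A is formally
smooth over k for the adic topology of its maximal ideal if and only if, for every finite extension
k' of k with k'^p ⊆ k, the ring k' ⊗_k A is regular. -/
theorem result {k A : Type u} [Field k] (p : ℕ)
    [ExpChar k p] [CommRing A] [IsLocalRing A] [IsNoetherianRing A] [Algebra k A] :
    CAlgX.IsAdicFormallySmooth k A (maximalIdeal A) ↔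
      ∀ (k' : Type u) [Field k'] [Algebra k k'], Module.Finite k k' →
        (∀ x : k', x ^ p ∈ (algebraMap k k').range) → IsRegularRing (k' ⊗[k] A) := by
  constructor
  · intro h k' _ _ hfin _
    exact Groth.Agent.H96.GeomRegAdic.isGeometricallyRegular k A h k' hfin
  · intro H
    rcases ‹ExpChar k p› with _ | ⟨hprime⟩
    · -- characteristic zero
      haveI hregA : IsRegularRing A := by
        haveI := H k (Module.Finite.self k) (fun y => ⟨y, by rw [pow_one]; rfl⟩)
        exact IsRegularRing.of_ringEquiv (Algebra.TensorProduct.lid k A).toRingEquiv
      haveI : IsRegularLocalRing A := IsRegularLocalRing.of_isRegularRing_of_isLocalRing A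
      haveI : PerfectField k := PerfectField.ofCharZero
      haveI : Algebra.FormallySmooth k (ResidueField A) :=
        Groth.Agent.H47.formallySmooth_of_perfectField_field
      haveI : Algebra.IsGeometricallyReduced k (ResidueField A) :=
        Groth.Agent.H47.isGeometricallyReduced_of_formallySmooth_field
      exact Groth.Agent.H96.RegAdicSmooth.adic_of_regular k A
    · haveI : Fact p.Prime := ⟨hprime⟩
      refine Groth.Agent.H23.GeomRegFS.adic_of_wgr p A ?_
      intro k' _ _ hfin hpow
      refine H k' hfin ?_
      intro y
      obtain ⟨f, hf⟩ := hpow y
      exact ⟨f, hf⟩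

end Groth.Agent.S4573
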