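import Groth.Statements.S4544
import Mathlib

set_option autoImplicit false
universe u
open EGA41
open TensorProduct

namespace Groth.Agent.S4544

section

variable {A B : Type u} [CommRing A] [CommRing B] [Algebra A B] (𝔄 : Ideal B)
variable (L : Type u) [AddCommGroup L] [Module (B ⧸ 𝔄) L]

/-- The right action making `L` a central bimodule. -/
@[reducible] def opModule : Module (B ⧸ 𝔄)ᵐᵒᵖ L :=
  Module.compHom L ((RingHom.id (B ⧸ 𝔄)).fromOpposite mul_comm)

attribute [local instance] opModule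

instance : IsCentralScalar (B ⧸ 𝔄) L := ⟨fun _ _ => rfl⟩

/-- The `A`-algebra structure on the trivial extension. -/
@[reducible] noncomputable def algE : Algebra A (TrivSqZeroExt (B ⧸ 𝔄) L) :=
  ((TrivSqZeroExt.inlHom (B ⧸ 𝔄) L).comp (algebraMap A (B ⧸ 𝔄))).toAlgebra

attribute [local instance] algE

theorem algebraMap_E (a : A) : algebraMap A (TrivSqZeroExt (B ⧸ 𝔄) L) a =
    TrivSqZeroExt.inl (algebraMap A (B ⧸ 𝔄) a) := rfl

variable {L}

/-- An algebra map `B → C ⊕ L` from a "derivation". -/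
noncomputable def homOfDer (D : B → L) (hadd : ∀ x y, D (x + y) = D x + D y)
    (hmul : ∀ x y, D (x * y) = Ideal.Quotient.mk 𝔄 x • D y + Ideal.Quotient.mk 𝔄 y • D x)
    (halg : ∀ a : A, D (algebraMap A B a) = 0) : B →ₐ[A] TrivSqZeroExt (B ⧸ 𝔄) L :=
  have h1 : D 1 = 0 := by simpa using halg 1
  have h0 : D 0 = 0 := by simpa using halg 0
  { toFun := fun b => TrivSqZeroExt.inl (Ideal.Quotient.mk 𝔄 b) + TrivSqZeroExt.inr (D b)
    map_one' := by
      ext
      · simp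
      · simp [h1]
    map_mul' := fun x y => by
      ext
      · simp
      · simp [hmul, add_comm]
    map_zero' := by
      ext
      · simp
      · simp [h0]
    map_add' := fun x y => by
      ext
      · simp
      · simp [hadd]
    commutes' := fun a => by
      ext
      · simp [algebraMap_E]
      · simp [algebraMap_E, halg] }


theorem homOfDer_apply (D : B → L) (hadd hmul halg) (b : B) :
    homOfDer (A := A) 𝔄 D hadd hmul halg b =
      TrivSqZeroExt.inl (Ideal.Quotient.mk 𝔄 b) + TrivSqZeroExt.inr (D b) := rfl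

variable {L'' : Type u} [AddCommGroup L''] [Module (B ⧸ 𝔄) L'']

/-- The map `C ⊕ L → C ⊕ L''` as a map of `A`-algebras. -/
noncomputable def mapA (f : L →ₗ[B ⧸ 𝔄] L'') :
    TrivSqZeroExt (B ⧸ 𝔄) L →ₐ[A] TrivSqZeroExt (B ⧸ 𝔄) L'' :=
  { (TrivSqZeroExt.map f).toRingHom with
    commutes' := fun a => by
      simp [algebraMap_E] }

theorem mapA_apply (f : L →ₗ[B ⧸ 𝔄] L'') (x : TrivSqZeroExt (B ⧸ 𝔄) L) :
    mapA (A := A) 𝔄 f x = TrivSqZeroExt.map f x := rfl

theorem lifting (𝔞 : Ideal A) (𝔟 : Ideal B) (hAB : ∃ k : ℕ, (𝔞 ^ k).map (algebraMap A B) ≤ 𝔟)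
    (h : EGA41.IsFormallySmoothAdic A 𝔞 B 𝔟) (h𝔄 : ∃ n : ℕ, 𝔟 ^ n ≤ 𝔄)
    (f : L →ₗ[B ⧸ 𝔄] L'') (hf : Function.Surjective f)
    (D'' : B → L'') (hadd : ∀ x y, D'' (x + y) = D'' x + D'' y)
    (hmul : ∀ x y, D'' (x * y) = Ideal.Quotient.mk 𝔄 x • D'' y + Ideal.Quotient.mk 𝔄 y • D'' x)
    (halg : ∀ a : A, D'' (algebraMap A B a) = 0) :
    ∃ D : B → L, (∀ x y, D (x + y) = D x + D y) ∧
      (∀ x y, D (x * y) = Ideal.Quotient.mk 𝔄 x • D y + Ideal.Quotient.mk 𝔄 y • D x) ∧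
      (∀ a : A, D (algebraMap A B a) = 0) ∧ ∀ b, f (D b) = D'' b := by
  let πA := mapA (A := A) 𝔄 f
  have hπ : Function.Surjective πA := by
    intro y
    obtain ⟨l, hl⟩ := hf y.snd
    refine ⟨TrivSqZeroExt.inl y.fst + TrivSqZeroExt.inr l, ?_⟩
    rw [mapA_apply]
    ext
    · simp
    · simp [hl]
  let K : Ideal (TrivSqZeroExt (B ⧸ 𝔄) L) := RingHom.ker πA
  have hK : K ^ 2 = ⊥ := by
    rw [eq_bot_iff, pow_two, Ideal.mul_le]
    intro x hx y hy
    have hx1 : x.fst = 0 := by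
      have := congrArg TrivSqZeroExt.fst ((RingHom.mem_ker).mp hx)
      simpa [πA, mapA_apply] using this
    have hy1 : y.fst = 0 := by
      have := congrArg TrivSqZeroExt.fst ((RingHom.mem_ker).mp hy)
      simpa [πA, mapA_apply] using this
    rw [Ideal.mem_bot]
    ext
    · simp [hx1]
    · simp [hx1, hy1]
  let φ'' := homOfDer (A := A) 𝔄 D'' hadd hmul halg
  let u : B →ₐ[A] TrivSqZeroExt (B ⧸ 𝔄) L ⧸ K :=
    (Ideal.quotientKerAlgEquivOfSurjective hπ).symm.toAlgHom.comp φ''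
  obtain ⟨n, hn⟩ := h𝔄
  have hφker : ∀ x ∈ 𝔄, ∀ y ∈ 𝔄, φ'' (x * y) = 0 := by
    intro x hx y hy
    have hx0 : Ideal.Quotient.mk 𝔄 x = 0 := Ideal.Quotient.eq_zero_iff_mem.mpr hx
    have hy0 : Ideal.Quotient.mk 𝔄 y = 0 := Ideal.Quotient.eq_zero_iff_mem.mpr hy
    rw [map_mul]
    simp only [φ'', homOfDer_apply, hx0, hy0]
    ext
    · simp
    · simp
  have hu : ∃ k : ℕ, ∀ x ∈ 𝔟 ^ k, u x = 0 := by
    refine ⟨n * 2, fun x hx => ?_⟩
    have h1 : 𝔟 ^ (n * 2) ≤ RingHom.ker φ'' := by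
      rw [pow_mul, pow_two]
      refine (Ideal.mul_mono hn hn).trans ?_
      rw [Ideal.mul_le]
      intro a ha b hb
      exact (RingHom.mem_ker).mpr (hφker a ha b hb)
    have h2 : φ'' x = 0 := (RingHom.mem_ker).mp (h1 hx)
    simp only [u, AlgHom.comp_apply, h2, map_zero]
  have hadic : ∃ k : ℕ, (𝔞 ^ k).map (algebraMap A (TrivSqZeroExt (B ⧸ 𝔄) L)) = ⊥ := by
    obtain ⟨k, hk⟩ := hAB
    refine ⟨k * n, ?_⟩
    rw [eq_bot_iff, Ideal.map_le_iff_le_comap]
    intro a ha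
    rw [Ideal.mem_comap, Ideal.mem_bot, algebraMap_E]
    have h1 : algebraMap A B a ∈ 𝔄 := by
      apply hn
      have : (𝔞 ^ (k * n)).map (algebraMap A B) ≤ 𝔟 ^ n := by
        rw [pow_mul, Ideal.map_pow]
        exact Ideal.pow_right_mono hk n
      exact this (Ideal.mem_map_of_mem _ ha)
    have h2 : algebraMap A (B ⧸ 𝔄) a = 0 := by
      rw [IsScalarTower.algebraMap_apply A B (B ⧸ 𝔄)]
      exact Ideal.Quotient.eq_zero_iff_mem.mpr h1
    rw [h2, TrivSqZeroExt.inl_zero]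
  obtain ⟨v, hv⟩ := h (TrivSqZeroExt (B ⧸ 𝔄) L) K ⟨2, hK⟩ hadic u hu
  have hπv : ∀ b, πA (v b) = φ'' b := by
    intro b
    have h1 := congrArg (fun g : B →ₐ[A] _ => g b) hv
    simp only [AlgHom.comp_apply, Ideal.Quotient.mkₐ_eq_mk, u] at h1
    have h2 := congrArg (Ideal.quotientKerAlgEquivOfSurjective hπ) h1
    rw [Ideal.quotientKerAlgEquivOfSurjective_mk] at h2
    rw [h2]
    simp
  have hfst : ∀ b, (v b).fst = Ideal.Quotient.mk 𝔄 b := by
    intro b
    have := congrArg TrivSqZeroExt.fst (hπv b)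
    simpa [πA, mapA_apply, φ'', homOfDer_apply] using this
  have hsnd : ∀ b, f (v b).snd = D'' b := by
    intro b
    have := congrArg TrivSqZeroExt.snd (hπv b)
    simpa [πA, mapA_apply, φ'', homOfDer_apply] using this
  refine ⟨fun b => (v b).snd, ?_, ?_, ?_, hsnd⟩
  · intro x y
    simp [map_add]
  · intro x y
    simp only [map_mul, TrivSqZeroExt.snd_mul, hfst]
    rw [op_smul_eq_smul, add_comm]
  · intro a
    show (v (algebraMap A B a)).snd = 0
    rw [v.commutes, algebraMap_E]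
    simp


omit [Algebra A B] in
/-- From a "derivation" `D : B → L` to a linear map out of the base-changed differentials. -/
theorem exists_linearMap_of_der [Algebra A B] (D : B → L) (hadd : ∀ x y, D (x + y) = D x + D y)
    (hmul : ∀ x y, D (x * y) = Ideal.Quotient.mk 𝔄 x • D y + Ideal.Quotient.mk 𝔄 y • D x)
    (halg : ∀ a : A, D (algebraMap A B a) = 0) :
    ∃ h' : (B ⧸ 𝔄) ⊗[B] Ω[B⁄A] →ₗ[B ⧸ 𝔄] L,
      ∀ b, h' (1 ⊗ₜ KaehlerDifferential.D A B b) = D b := by
  letI : Module B L := Module.compHom L (Ideal.Quotient.mk 𝔄)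
  letI : Module A L := Module.compHom L (algebraMap A (B ⧸ 𝔄))
  have hBsmul : ∀ (b : B) (x : L), b • x = Ideal.Quotient.mk 𝔄 b • x := fun _ _ => rfl
  have hAsmul : ∀ (a : A) (x : L), a • x = algebraMap A (B ⧸ 𝔄) a • x := fun _ _ => rfl
  haveI : IsScalarTower A B L := ⟨fun a b x => by
    rw [hAsmul, hBsmul, hBsmul, ← mul_smul, Algebra.smul_def, map_mul]
    rfl⟩
  haveI : IsScalarTower B (B ⧸ 𝔄) L := ⟨fun b c x => by
    rw [hBsmul, Algebra.smul_def, mul_smul]
    rfl⟩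
  have h1 : D 1 = 0 := by simpa using halg 1
  let Dder : Derivation A B L :=
    { toFun := D
      map_add' := hadd
      map_smul' := fun a b => by
        rw [Algebra.smul_def, hmul, halg, smul_zero, add_zero, RingHom.id_apply, hAsmul]
        rfl
      map_one_eq_zero' := h1
      leibniz' := fun a b => by
        show D (a * b) = Ideal.Quotient.mk 𝔄 a • D b + Ideal.Quotient.mk 𝔄 b • D a
        exact hmul a b }
  refine ⟨LinearMap.liftBaseChange (B ⧸ 𝔄) Dder.liftKaehlerDifferential, fun b => ?_⟩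
  rw [LinearMap.liftBaseChange_tmul, one_smul, Derivation.liftKaehlerDifferential_comp_D]
  rfl

end

open TensorProduct in
/-- Let B (𝔟-adic) be a formally smooth topological A-algebra over A (𝔞-adic), the structure map being
continuous (a power of 𝔞 maps into 𝔟); squares of open ideals of B are then open. For every open
ideal 𝔄 of B (an ideal containing a power of 𝔟), Ω_{B/A} ⊗_B (B/𝔄) = Ω_{B/A}/𝔄Ω_{B/A} is a
projective (B/𝔄)-module. -/
theorem result {A B : Type u} [CommRing A] [CommRing B] [Algebra A B]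
    (𝔞 : Ideal A) (𝔟 : Ideal B) (hAB : ∃ k : ℕ, (𝔞 ^ k).map (algebraMap A B) ≤ 𝔟)
    (h : EGA41.IsFormallySmoothAdic A 𝔞 B 𝔟) (𝔄 : Ideal B) (h𝔄 : ∃ n : ℕ, 𝔟 ^ n ≤ 𝔄) :
    Module.Projective (B ⧸ 𝔄) ((B ⧸ 𝔄) ⊗[B] Ω[B⁄A]) := by
  apply Module.Projective.of_lifting_property
  intro L L'' _ _ _ _ f g hf
  have hsm : ∀ (b : B) (ω : Ω[B⁄A]), ((1 : B ⧸ 𝔄) ⊗ₜ[B] (b • ω)) =
      Ideal.Quotient.mk 𝔄 b • ((1 : B ⧸ 𝔄) ⊗ₜ[B] ω) := by
    intro b ω
    rw [TensorProduct.smul_tmul', ← TensorProduct.smul_tmul]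
    congr 1
  obtain ⟨D, hadd, hmul, halg, hD⟩ := lifting 𝔄 𝔞 𝔟 hAB h h𝔄 f hf
    (fun b => g (1 ⊗ₜ KaehlerDifferential.D A B b))
    (fun x y => by simp only [map_add, TensorProduct.tmul_add])
    (fun x y => by
      simp only [Derivation.leibniz, TensorProduct.tmul_add, map_add, hsm, map_smul])
    (fun a => by simp)
  obtain ⟨h', hh'⟩ := exists_linearMap_of_der (A := A) 𝔄 D hadd hmul halg
  refine ⟨h', ?_⟩
  have key : ∀ ω : Ω[B⁄A], (f ∘ₗ h') ((1 : B ⧸ 𝔄) ⊗ₜ[B] ω) = g ((1 : B ⧸ 𝔄) ⊗ₜ[B] ω) := by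
    intro ω
    have hω : ω ∈ Submodule.span B (Set.range (KaehlerDifferential.D A B)) := by
      rw [KaehlerDifferential.span_range_derivation]; trivial
    induction hω using Submodule.span_induction with
    | mem x hx =>
      obtain ⟨b, rfl⟩ := hx
      rw [LinearMap.comp_apply, hh', hD]
    | zero => simp
    | add x y _ _ hx hy =>
      rw [TensorProduct.tmul_add, map_add, map_add, hx, hy]
    | smul b x _ hx =>
      rw [hsm, map_smul, map_smul, hx]
  apply LinearMap.ext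
  intro z
  induction z using TensorProduct.induction_on with
  | zero => simp
  | add x y hx hy => rw [map_add, map_add, hx, hy]
  | tmul c ω =>
    have hc : c ⊗ₜ[B] ω = c • ((1 : B ⧸ 𝔄) ⊗ₜ[B] ω) := by
      rw [TensorProduct.smul_tmul', smul_eq_mul, mul_one]
    rw [hc, map_smul, map_smul, key]

end Groth.Agent.S4544
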