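import Groth.Statements.S0392
import Groth.Agent.H2.FFlatDescent

set_option autoImplicit false
universe u
open FlatMor

namespace Groth.Agent.S0392

open TensorProduct in
/-- Fibrewise criterion of flatness, Noetherian local form: for local homomorphisms R → S → S' of
Noetherian local rings and a nonzero finite S'-module M that is flat over R and whose reduction
modulo the maximal ideal of R is flat over the corresponding fibre ring of S, the ring S is flat
over R and M is flat over S. -/
theorem result {R S S' M : Type u} [CommRing R] [CommRing S] [CommRing S'] [IsLocalRing R] [IsLocalRing S] [IsLocalRing S']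
    [IsNoetherianRing R] [IsNoetherianRing S] [IsNoetherianRing S'] [Algebra R S] [Algebra S S'] [Algebra R S'] [IsScalarTower R S S']
    [IsLocalHom (algebraMap R S)] [IsLocalHom (algebraMap S S')]
    [AddCommGroup M] [Module S' M] [Module S M] [Module R M] [IsScalarTower S S' M] [IsScalarTower R S M]
    [Module.Finite S' M] [Nontrivial M] [Module.Flat R M]
    (h : Module.Flat (S ⧸ ((IsLocalRing.maximalIdeal R).map (algebraMap R S))) ((S ⧸ ((IsLocalRing.maximalIdeal R).map (algebraMap R S))) ⊗[S] M)) :
    Module.Flat R S ∧ Module.Flat S M := by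
  have hRS : (IsLocalRing.maximalIdeal R).map (algebraMap R S) ≤ IsLocalRing.maximalIdeal S :=
    ((IsLocalRing.local_hom_TFAE (algebraMap R S)).out 0 2).mp ‹_›
  have hSS' : (IsLocalRing.maximalIdeal S).map (algebraMap S S') ≤ IsLocalRing.maximalIdeal S' :=
    ((IsLocalRing.local_hom_TFAE (algebraMap S S')).out 0 2).mp ‹_›
  have hjac : Ideal.jacobson (⊥ : Ideal S') = IsLocalRing.maximalIdeal S' :=
    IsLocalRing.jacobson_eq_maximalIdeal ⊥ bot_ne_top
  -- Step 1: `M` is flat over `S`
  have hflatS : Module.Flat S M := by
    have := h
    refine Groth.Agent.H2.flat_of_rTensor_injective_of_flat_quotient (R := S) (S := S') (M := M)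
      ((IsLocalRing.maximalIdeal R).map (algebraMap R S)) ?_ ?_
    · rw [hjac]
      exact (Ideal.map_mono hRS).trans hSS'
    · exact Groth.Agent.H2.rTensor_map_injective_of_flat (R := R) (S := S) (M := M) _
  refine ⟨?_, hflatS⟩
  -- Step 2: `M` is faithfully flat over `S`
  have hff : Module.FaithfullyFlat S M := by
    refine ⟨fun m hm htop => ?_⟩
    have hm' : m = IsLocalRing.maximalIdeal S := IsLocalRing.eq_maximalIdeal hm
    subst hm'
    -- then `𝔪_{S'} M = M`, contradiction with Nakayama
    have htop' : (⊤ : Submodule S' M) ≤ IsLocalRing.maximalIdeal S' • (⊤ : Submodule S' M) := by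
      intro x _
      have hx : x ∈ IsLocalRing.maximalIdeal S • (⊤ : Submodule S M) := by rw [htop]; trivial
      refine Submodule.smul_induction_on hx ?_ ?_
      · intro s hs y _
        rw [← algebraMap_smul S' s y]
        exact Submodule.smul_mem_smul (hSS' (Ideal.mem_map_of_mem _ hs)) trivial
      · intro y z hy hz
        exact Submodule.add_mem _ hy hz
    have hbot : (⊤ : Submodule S' M) = ⊥ :=
      Submodule.eq_bot_of_le_smul_of_le_jacobson_bot (IsLocalRing.maximalIdeal S') ⊤
        Module.Finite.fg_top htop' (by rw [hjac])
    exact top_ne_bot hbot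
  exact Groth.Agent.H2.flat_of_faithfullyFlat_module R S M

end Groth.Agent.S0392
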