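import Groth.Statements.S9219
import Groth.Agent.H46.LimPullback

set_option autoImplicit false
universe u
open CategoryTheory CategoryTheory.Limits AlgebraicGeometry
open Lim

namespace Groth.Agent.S9219

/-- Let S = lim S_i be a cofiltered limit of schemes with affine transition morphisms (the S_i are not
assumed quasi-compact or quasi-separated), i an index, and X_i → S_i, Y_i → S_i morphisms locally of
finite presentation with X_i, Y_i quasi-compact and quasi-separated; let X be the base change of X_i
to S (a pullback square). If two S_i-morphisms f_i, g_i : X_i → Y_i have the same base change to S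
(equivalently, the same composite with X → X_i), then for some index j over i their base changes to
S_j agree, i.e. they have the same composite with X_i ×_{S_i} S_j → X_i. This is the faithfulness
part of the equivalence between the colimit of the categories of quasi-compact quasi-separated
schemes locally of finite presentation over the S_i and the corresponding category over S. -/
theorem result {I : Type u} [SmallCategory I] [IsCofiltered I]
    (D : I ⥤ Scheme.{u}) (c : Limits.Cone D) (hc : Limits.IsLimit c)
    [∀ (i j : I) (f : i ⟶ j), IsAffineHom (D.map f)] (i : I)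
    {Xi Yi : Scheme.{u}} (xi : Xi ⟶ D.obj i) (yi : Yi ⟶ D.obj i)
    [CompactSpace Xi] [QuasiSeparatedSpace Xi] [LocallyOfFinitePresentation xi]
    [CompactSpace Yi] [QuasiSeparatedSpace Yi] [LocallyOfFinitePresentation yi]
    {X : Scheme.{u}} (qX : X ⟶ Xi) (pX : X ⟶ c.pt) (hX : IsPullback qX pX xi (c.π.app i))
    (fi gi : Xi ⟶ Yi) (hfi : fi ≫ yi = xi) (hgi : gi ≫ yi = xi) (h : qX ≫ fi = qX ≫ gi) :
    ∃ (j : I) (φ : j ⟶ i), pullback.fst xi (D.map φ) ≫ fi = pullback.fst xi (D.map φ) ≫ gi := by
  classical
  let D' := H46.pbDiagram D i xi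
  let c' := H46.pbCone D c i xi
  have hc' : IsLimit c' := H46.pbConeIsLimit D c i xi hc
  let t : D' ⟶ (Functor.const _).obj (D.obj i) :=
    { app := fun j => pullback.snd (D.map j.hom) xi ≫ xi
      naturality := fun j k f => by
        simp only [Functor.const_obj_obj, Functor.const_obj_map, Category.comp_id]
        exact H46.pbDiagram_map_snd_assoc D i xi f xi }
  let i0 : Over i := Over.mk (𝟙 i)
  have e1 : c'.π.app i0 ≫ pullback.snd (D.map i0.hom) xi = hX.flip.isoPullback.inv ≫ qX :=
    (H46.pbCone_π_snd D c i xi i0).trans (hX.flip.isoPullback_inv_snd).symm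
  have e1' := reassoc_of% e1
  have hab : c'.π.app i0 ≫ (pullback.snd (D.map i0.hom) xi ≫ fi) =
      c'.π.app i0 ≫ (pullback.snd (D.map i0.hom) xi ≫ gi) :=
    (e1' fi).trans ((congrArg (hX.flip.isoPullback.inv ≫ ·) h).trans (e1' gi).symm)
  obtain ⟨k, hk, H⟩ := Scheme.exists_hom_comp_eq_comp_of_locallyOfFiniteType D' t yi c' hc'
    (i := i0) (pullback.snd (D.map i0.hom) xi ≫ fi) (pullback.snd (D.map i0.hom) xi ≫ gi)
    ((congrArg (pullback.snd (D.map i0.hom) xi ≫ ·) hfi.symm).trans (Category.assoc _ _ _).symm)
    ((congrArg (pullback.snd (D.map i0.hom) xi ≫ ·) hgi.symm).trans (Category.assoc _ _ _).symm) hab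
  refine ⟨k.left, k.hom, ?_⟩
  rw [H46.pbDiagram_map_snd_assoc, H46.pbDiagram_map_snd_assoc] at H
  rw [← pullbackSymmetry_hom_comp_snd, Category.assoc, Category.assoc]
  exact congrArg ((pullbackSymmetry xi (D.map k.hom)).hom ≫ ·) H

end Groth.Agent.S9219
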