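import Groth.Statements.S2581
import Groth.Agent.H24.LimitDescent
import Groth.Agent.H50.LfpCancel

set_option autoImplicit false
universe u
open CategoryTheory AlgebraicGeometry
open EGA43

namespace Groth.Agent.S2581

/-- Let S = lim S_i be a cofiltered limit of schemes with affine transition morphisms, S_{i₀} a
quasi-compact quasi-separated stage (the source needs S_{i₀} only quasi-compact; quasi-separatedness
is assumed here), f₀ : X₀ ⟶ Y₀ an S_{i₀}-morphism between schemes of finite presentation over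
S_{i₀}, and f : X ⟶ Y its base change to S (base changes expressed by pullback squares). If f is
surjective, then the base change f_i : X_i ⟶ Y_i of f₀ to some stage S_i is surjective. -/
theorem result {I : Type u} [SmallCategory I] [IsCofiltered I]
    (D : I ⥤ Scheme.{u}) (c : Limits.Cone D) (hc : Limits.IsLimit c)
    [∀ (i j : I) (f : i ⟶ j), IsAffineHom (D.map f)] (i₀ : I) [CompactSpace (D.obj i₀)]
    [QuasiSeparatedSpace (D.obj i₀)] {X₀ Y₀ : Scheme.{u}} (f₀ : X₀ ⟶ Y₀) (g₀ : Y₀ ⟶ D.obj i₀)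
    [LocallyOfFinitePresentation g₀] [QuasiCompact g₀] [QuasiSeparated g₀]
    [LocallyOfFinitePresentation (f₀ ≫ g₀)] [QuasiCompact (f₀ ≫ g₀)] [QuasiSeparated (f₀ ≫ g₀)]
    {X Y : Scheme.{u}} (f : X ⟶ Y) (g : Y ⟶ c.pt) (qY : Y ⟶ Y₀) (qX : X ⟶ X₀)
    (hY : IsPullback qY g g₀ (c.π.app i₀)) (hX : IsPullback qX f f₀ qY) [Surjective f] :
    ∃ (i : I) (φ : i ⟶ i₀) (Xi Yi : Scheme.{u}) (fi : Xi ⟶ Yi) (gi : Yi ⟶ D.obj i) (pY : Yi ⟶ Y₀)
      (pX : Xi ⟶ X₀), IsPullback pY gi g₀ (D.map φ) ∧ IsPullback pX fi f₀ pY ∧ Surjective fi := by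
  open Limits in
  have hfp : LocallyOfFinitePresentation f₀ :=
    Groth.Agent.H50.locallyOfFinitePresentation_of_comp f₀ g₀ inferInstance inferInstance
  have hqc : QuasiCompact f₀ := QuasiCompact.of_comp f₀ g₀
  have hT : ProCons.IsProConstructible (Set.range f₀.base)ᶜ :=
    Groth.Agent.H24.isProConstructible_compl_range f₀
  have hempty : qY.base ⁻¹' (Set.range f₀.base)ᶜ = ∅ := by
    rw [Set.preimage_compl, Set.compl_empty_iff,
      ← Groth.Agent.H24.range_eq_preimage_range_of_isPullback hX]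
    exact Set.range_eq_univ.mpr f.surjective
  obtain ⟨ψ, hψ⟩ := Groth.Agent.H24.exists_preimage_snd_eq_empty D c hc i₀ g₀ g qY hY hT hempty
  refine ⟨ψ.left, ψ.hom, pullback f₀ (pullback.snd (D.map ψ.hom) g₀),
    pullback (D.map ψ.hom) g₀, pullback.snd f₀ _, pullback.fst (D.map ψ.hom) g₀,
    pullback.snd (D.map ψ.hom) g₀, pullback.fst f₀ _,
    (IsPullback.of_hasPullback (D.map ψ.hom) g₀).flip, IsPullback.of_hasPullback f₀ _, ?_⟩
  rw [surjective_iff, ← Set.range_eq_univ,
    Groth.Agent.H24.range_eq_preimage_range_of_isPullback (IsPullback.of_hasPullback f₀ _)]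
  rw [Set.preimage_compl, Set.compl_empty_iff] at hψ
  exact hψ

end Groth.Agent.S2581
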