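import Groth.Statements.S10967
import Mathlib
import Groth.Agent.H7.IndQuasiAffine

set_option autoImplicit false
universe u
open CategoryTheory AlgebraicGeometry TopologicalSpace
open MoreMor

namespace Groth.Agent.S10967

/-- Quasi-affine over an affine base: call a morphism f : X → Y quasi-affine when Y has a cover by
affine opens V_i whose preimages f⁻¹(V_i) are quasi-affine schemes (quasi-compact open subschemes of
affine schemes; equivalently quasi-compact with X → Spec Γ(X, O_X) an immersion). If Y is affine and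
f is quasi-affine in this sense, then X is a quasi-affine scheme. -/
theorem result {X Y : Scheme.{u}} [IsAffine Y]
    (f : X ⟶ Y) {ι : Type u} (V : ι → Y.Opens) (hV : iSup V = ⊤) (hVa : ∀ i, IsAffineOpen (V i))
    (hq : ∀ i, Scheme.IsQuasiAffine (↑(f ⁻¹ᵁ V i) : Scheme.{u})) :
    X.IsQuasiAffine := by
  -- `X` is quasi-compact
  have hcY : CompactSpace Y := inferInstance
  obtain ⟨t, ht⟩ := isCompact_univ.elim_finite_subcover (fun i ↦ ((V i : Y.Opens) : Set Y))
    (fun i ↦ (V i).2) (by
      intro y _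
      have : y ∈ iSup V := by rw [hV]; trivial
      obtain ⟨i, hi⟩ := Opens.mem_iSup.mp this
      exact Set.mem_iUnion.mpr ⟨i, hi⟩)
  have hcX : CompactSpace X := by
    refine ⟨?_⟩
    have hcov : (Set.univ : Set X) = ⋃ i ∈ t, ((f ⁻¹ᵁ V i : X.Opens) : Set X) := by
      ext x
      simp only [Set.mem_univ, Set.mem_iUnion, true_iff]
      obtain ⟨i, hi, hxi⟩ := Set.mem_iUnion₂.mp (ht (Set.mem_univ (f x)))
      exact ⟨i, hi, hxi⟩
    rw [hcov]
    refine t.finite_toSet.isCompact_biUnion fun i _ ↦ ?_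
    have := (hq i).toCompactSpace
    exact isCompact_iff_compactSpace.mpr this
  refine Groth.Agent.H7.isQuasiAffine_of_forall_exists_preimage_basicOpen f ⊤ (fun _ ↦ trivial)
    fun x ↦ ?_
  have hx : f x ∈ iSup V := by rw [hV]; trivial
  obtain ⟨i, hi⟩ := Opens.mem_iSup.mp hx
  obtain ⟨_, ⟨_, ⟨r, rfl⟩, rfl⟩, hxr, hrV⟩ :=
    (AlgebraicGeometry.isBasis_basicOpen Y).exists_subset_of_mem_open hi (V i).2
  refine ⟨r, hxr, ?_⟩
  have hle : f ⁻¹ᵁ Y.basicOpen r ≤ f ⁻¹ᵁ V i := fun y hy ↦ hrV hy
  have hc := Groth.Agent.H7.compactSpace_preimage_basicOpen f ⊤ (fun _ ↦ trivial) r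
  have := hq i
  exact Scheme.IsQuasiAffine.of_isImmersion (X.homOfLE hle)

end Groth.Agent.S10967
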