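import Groth.Statements.S4861
import Mathlib.Tactic.TFAE
import Mathlib.RingTheory.Ideal.KrullsHeightTheorem
import Mathlib.RingTheory.Ideal.MinimalPrime.Noetherian
import Mathlib.RingTheory.Spectrum.Maximal.Basic
import Mathlib.RingTheory.KrullDimension.Basic

set_option autoImplicit false
universe u
open EGA43

namespace Groth.Agent.S4861

variable (B : Type u) [CommRing B] [IsDomain B] [IsNoetherianRing B]

/-- every nonzero element of a prime lies in a height-one prime contained in it -/
theorem exists_height_one_le {B : Type u} [CommRing B] [IsDomain B] [IsNoetherianRing B]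
    (p : Ideal B) [p.IsPrime] (x : B) (hx : x ∈ p) (hx0 : x ≠ 0) :
    ∃ q : Ideal B, q.IsPrime ∧ x ∈ q ∧ q ≤ p ∧ q.height = 1 := by
  have hle : Ideal.span {x} ≤ p := (Ideal.span_singleton_le_iff_mem _).mpr hx
  obtain ⟨q, hq, hqp⟩ := Ideal.exists_minimalPrimes_le hle
  have hqprime : q.IsPrime := hq.isPrime
  have hxq : x ∈ q := hq.1.2 (Ideal.mem_span_singleton_self x)
  refine ⟨q, hqprime, hxq, hqp, ?_⟩
  apply le_antisymm
  · exact Ideal.height_le_one_of_isPrincipal_of_mem_minimalPrimes _ q hq
  · rw [Order.one_le_iff_ne_zero, Ne, Ideal.height_eq_zero_iff_eq_bot]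
    rintro rfl
    exact hx0 ((Ideal.mem_bot).mp hxq)

/-- prime avoidance: a nonzero prime all of whose nonzero elements lie in a member of a finite
set of primes is contained in one of them -/
theorem exists_le_of_cover {B : Type u} [CommRing B] [IsDomain B]
    (T : Finset (Ideal B)) (hT : ∀ q ∈ T, q.IsPrime) (p : Ideal B) (hp0 : p ≠ ⊥)
    (hcov : ∀ x ∈ p, x ≠ 0 → ∃ q ∈ T, x ∈ q) : ∃ q ∈ T, p ≤ q := by
  obtain ⟨x0, hx0p, hx00⟩ := Submodule.exists_mem_ne_zero_of_ne_bot hp0
  obtain ⟨q0, hq0T, -⟩ := hcov x0 hx0p hx00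
  have hsub : (p : Set B) ⊆ ⋃ q ∈ (↑T : Set (Ideal B)), ((fun q : Ideal B => q) q : Set B) := by
    intro x hx
    by_cases hx0 : x = 0
    · rw [hx0]
      exact Set.mem_biUnion (show q0 ∈ (↑T : Set (Ideal B)) from hq0T) (Ideal.zero_mem q0)
    · obtain ⟨q, hqT, hxq⟩ := hcov x hx hx0
      exact Set.mem_biUnion (show q ∈ (↑T : Set (Ideal B)) from hqT) hxq
  exact (Ideal.subset_union_prime (f := fun q : Ideal B => q) q0 q0
    (fun q hq _ _ => hT q hq)).mp hsub

theorem prime_of_away_isField {f : B} (hf : f ≠ 0) (hfield : IsField (Localization.Away f))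
    (p : Ideal B) [hp : p.IsPrime] (hfp : f ∉ p) : p = ⊥ := by
  have hinj : Function.Injective (algebraMap B (Localization.Away f)) :=
    IsLocalization.injective (M := Submonoid.powers f) _
      (powers_le_nonZeroDivisors_of_noZeroDivisors hf)
  have hdisj : Disjoint (Submonoid.powers f : Set B) (p : Set B) := by
    rw [Set.disjoint_left]
    rintro _ ⟨n, rfl⟩ hn
    exact hfp (hp.mem_of_pow_mem n hn)
  have hprime := IsLocalization.isPrime_of_isPrime_disjoint (Submonoid.powers f)
    (Localization.Away f) p hp hdisj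
  have hcm := IsLocalization.under_map_of_isPrime_disjoint (Submonoid.powers f)
    (Localization.Away f) hp hdisj
  let _ : Field (Localization.Away f) := hfield.toField
  have hbot : Ideal.map (algebraMap B (Localization.Away f)) p = ⊥ := by
    rcases Ideal.eq_bot_or_top (Ideal.map (algebraMap B (Localization.Away f)) p) with h | h
    · exact h
    · exact absurd h hprime.ne_top
  rw [hbot, Ideal.under_def, Ideal.comap_bot_of_injective _ hinj] at hcm
  exact hcm.symm

theorem step12 (h : ∃ f : B, f ≠ 0 ∧ IsField (Localization.Away f)) :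
    Finite (PrimeSpectrum B) := by
  obtain ⟨f, hf, hfield⟩ := h
  have hfinmin := Ideal.finite_minimalPrimes_of_isNoetherianRing B (Ideal.span {f})
  -- every nonzero prime is a minimal prime over (f)
  have key : ∀ p : PrimeSpectrum B, p.asIdeal ≠ ⊥ → p.asIdeal ∈ (Ideal.span {f}).minimalPrimes := by
    intro p hp0
    have hpprime := p.isPrime
    have hfp : f ∈ p.asIdeal := by
      by_contra hfp
      exact hp0 (prime_of_away_isField B hf hfield p.asIdeal hfp)
    have hcov : ∀ x ∈ p.asIdeal, x ≠ 0 → ∃ q ∈ hfinmin.toFinset, x ∈ q := by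
      intro x hx hx0
      obtain ⟨q, hqprime, hxq, hqp, hqh⟩ := exists_height_one_le p.asIdeal x hx hx0
      refine ⟨q, ?_, hxq⟩
      rw [Set.Finite.mem_toFinset]
      have hq0 : q ≠ ⊥ := Ideal.ne_bot_of_height_eq_one hqh
      have hfq : f ∈ q := by
        by_contra hfq
        exact hq0 (prime_of_away_isField B hf hfield q hfq)
      refine ⟨⟨hqprime, (Ideal.span_singleton_le_iff_mem _).mpr hfq⟩, ?_⟩
      intro q' ⟨hq'prime, hfq'⟩ hq'q
      by_contra hnle
      have hlt : q' < q := lt_of_le_of_ne hq'q (fun h => hnle (h ▸ le_refl _))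
      have hh := Ideal.height_strict_mono_of_isPrime_of_isPrime hlt
      rw [hqh, Order.lt_one_iff, Ideal.height_eq_zero_iff_eq_bot] at hh
      rw [hh] at hfq'
      have : f ∈ (⊥ : Ideal B) := hfq' (Ideal.mem_span_singleton_self f)
      exact hf ((Ideal.mem_bot).mp this)
    obtain ⟨q, hqT, hpq⟩ := exists_le_of_cover hfinmin.toFinset
      (fun q hq => ((Set.Finite.mem_toFinset _).mp hq).isPrime) p.asIdeal hp0 hcov
    rw [Set.Finite.mem_toFinset] at hqT
    have hqp : q ≤ p.asIdeal := hqT.2 ⟨hpprime, (Ideal.span_singleton_le_iff_mem _).mpr hfp⟩ hpq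
    rw [le_antisymm hpq hqp]
    exact hqT
  have hsub : (Set.univ : Set (PrimeSpectrum B)) ⊆
      PrimeSpectrum.asIdeal ⁻¹' (insert ⊥ (Ideal.span {f}).minimalPrimes) := by
    intro p _
    by_cases hp0 : p.asIdeal = ⊥
    · exact Set.mem_insert_iff.mpr (Or.inl hp0)
    · exact Set.mem_insert_iff.mpr (Or.inr (key p hp0))
  have hfin : (Set.univ : Set (PrimeSpectrum B)).Finite := by
    apply Set.Finite.subset _ hsub
    apply Set.Finite.preimage _ (hfinmin.insert ⊥)
    intro p _ q _ hpq
    exact PrimeSpectrum.ext hpq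
  exact Set.finite_univ_iff.mp hfin

theorem step23 (h : Finite (PrimeSpectrum B)) :
    Finite (MaximalSpectrum B) ∧ ringKrullDim B ≤ 1 := by
  constructor
  · exact Finite.of_injective MaximalSpectrum.toPrimeSpectrum MaximalSpectrum.toPrimeSpectrum_injective
  · rw [ringKrullDim_le_iff_height_le]
    intro p hp
    by_cases hp0 : p = ⊥
    · rw [hp0, Ideal.height_bot]
      exact zero_le_one
    · have hfinset : ({q : Ideal B | q.IsPrime ∧ q.height = 1}).Finite := by
        have : {q : Ideal B | q.IsPrime ∧ q.height = 1} ⊆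
            Set.range (PrimeSpectrum.asIdeal : PrimeSpectrum B → Ideal B) := by
          rintro q ⟨hq, -⟩
          exact ⟨⟨q, hq⟩, rfl⟩
        exact (Set.finite_range _).subset this
      have hcov : ∀ x ∈ p, x ≠ 0 → ∃ q ∈ hfinset.toFinset, x ∈ q := by
        intro x hx hx0
        obtain ⟨q, hqprime, hxq, hqp, hqh⟩ := exists_height_one_le p x hx hx0
        exact ⟨q, (Set.Finite.mem_toFinset _).mpr ⟨hqprime, hqh⟩, hxq⟩
      obtain ⟨q, hqT, hpq⟩ := exists_le_of_cover hfinset.toFinset
        (fun q hq => ((Set.Finite.mem_toFinset _).mp hq).1) p hp0 hcov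
      rw [Set.Finite.mem_toFinset] at hqT
      have := Ideal.height_mono hpq
      rw [hqT.2] at this
      exact_mod_cast this

theorem step31 (h : Finite (MaximalSpectrum B) ∧ ringKrullDim B ≤ 1) :
    ∃ f : B, f ≠ 0 ∧ IsField (Localization.Away f) := by
  obtain ⟨hfin, hdim⟩ := h
  have : Fintype (MaximalSpectrum B) := Fintype.ofFinite _
  have hk : Ring.KrullDimLE 1 B := Ring.krullDimLE_iff.mpr hdim
  classical
  -- choose a nonzero element in each nonzero maximal ideal
  have hch : ∀ m : MaximalSpectrum B, ∃ x : B, x ≠ 0 ∧ (m.asIdeal ≠ ⊥ → x ∈ m.asIdeal) := by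
    intro m
    by_cases hm : m.asIdeal = ⊥
    · exact ⟨1, one_ne_zero, fun h => absurd hm h⟩
    · obtain ⟨x, hx, hx0⟩ := Submodule.exists_mem_ne_zero_of_ne_bot hm
      exact ⟨x, hx0, fun _ => hx⟩
  choose g hg0 hgm using hch
  let f : B := ∏ m : MaximalSpectrum B, g m
  have hf : f ≠ 0 := Finset.prod_ne_zero_iff.mpr (fun m _ => hg0 m)
  refine ⟨f, hf, ?_⟩
  have hdom : IsDomain (Localization.Away f) :=
    IsLocalization.isDomain_localization (powers_le_nonZeroDivisors_of_noZeroDivisors hf)
  by_contra hnf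
  obtain ⟨n, hn0, hn⟩ := Ring.exists_maximal_of_not_isField hnf
  have hnprime := hn.isPrime
  have hp : (n.under B).IsPrime := inferInstance
  have hfp : f ∉ n.under B := by
    intro hfm
    have hfm' : algebraMap B (Localization.Away f) f ∈ n := hfm
    have hunit : IsUnit (algebraMap B (Localization.Away f) f) :=
      IsLocalization.map_units _ (⟨f, Submonoid.mem_powers f⟩ : Submonoid.powers f)
    exact hn.ne_top (Ideal.eq_top_of_isUnit_mem _ hfm' hunit)
  have hp0 : n.under B ≠ ⊥ := by
    intro h0
    apply hn0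
    rw [← IsLocalization.map_under (Submonoid.powers f) (Localization.Away f) n, h0, Ideal.map_bot]
  have hpmax : (n.under B).IsMaximal := Ideal.IsPrime.isMaximal_of_ne_bot hp hp0
  let m : MaximalSpectrum B := ⟨n.under B, hpmax⟩
  have hgm' : g m ∈ n.under B := hgm m hp0
  apply hfp
  exact Ideal.mem_of_dvd _ (Finset.dvd_prod_of_mem g (Finset.mem_univ m)) hgm'

/-- For a Noetherian integral domain B the following are equivalent (and hence equivalent to: the
fraction field of B is a finitely generated B-algebra; the generic point of Spec B is open): a) the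
localization B_f is a field for some nonzero f; e) Spec B is finite; f) B is semi-local (finitely
many maximal ideals) of Krull dimension at most 1. -/
theorem result (B : Type u) [CommRing B] [IsDomain B]
    [IsNoetherianRing B] :
    [∃ f : B, f ≠ 0 ∧ IsField (Localization.Away f),
      Finite (PrimeSpectrum B),
      Finite (MaximalSpectrum B) ∧ ringKrullDim B ≤ 1].TFAE := by
  tfae_have 1 → 2 := step12 B
  tfae_have 2 → 3 := step23 B
  tfae_have 3 → 1 := step31 B
  tfae_finish

end Groth.Agent.S4861
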