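import Groth.Statements.S4764
import Groth.Agent.H24.LimitFlat

set_option autoImplicit false
universe u
open CategoryTheory AlgebraicGeometry
open Lim8

namespace Groth.Agent.S4764

/-- Let S = lim S_i be a cofiltered limit of schemes with affine transition maps and let i be an index
such that every transition map S_j ⟶ S_i is flat. Then the canonical projection S ⟶ S_i is flat. -/
theorem result {I : Type u} [SmallCategory I] [IsCofiltered I]
    (D : I ⥤ Scheme.{u}) (c : Limits.Cone D) (hc : Limits.IsLimit c)
    [∀ (i j : I) (f : i ⟶ j), IsAffineHom (D.map f)] (i : I)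
    (hf : ∀ (j : I) (φ : j ⟶ i), Flat (D.map φ)) : Flat (c.π.app i) := by
  have haff : ∀ {i j : I} (f : i ⟶ j), IsAffineHom (D.map f) := fun f => inferInstance
  have : IsAffineHom (c.π.app i) := isAffineHom_π_app D c hc i
  rw [HasRingHomProperty.iff_appLE (P := @Flat)]
  intro U V e
  have h1 : (c.π.app i).appLE U V e = (c.π.app i).app U ≫ c.pt.presheaf.map (homOfLE e).op := rfl
  rw [h1, CommRingCat.hom_comp]
  refine RingHom.Flat.comp ?_ ?_
  · exact Groth.Agent.H24.flat_app_π_of_isAffineOpen D c hc i hf U.1 U.2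
  · have hid : (𝟙 c.pt : c.pt ⟶ c.pt).appLE (c.π.app i ⁻¹ᵁ U.1) V.1 e =
        c.pt.presheaf.map (homOfLE e).op := by
      simp only [Scheme.Hom.appLE, Scheme.Hom.id_app]
      exact Category.id_comp _
    rw [← hid]
    exact Flat.flat_appLE (𝟙 c.pt) (U.2.preimage (c.π.app i)) V.2 e

end Groth.Agent.S4764
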