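import Groth.Statements.S1546
import Groth.Agent.H38.IrredCompImage
import Groth.Agent.H38.ConnFinite

set_option autoImplicit false
universe u
open CategoryTheory CategoryTheory.Limits AlgebraicGeometry
open Variety

namespace Groth.Agent.S1546

/-- For a field extension K of k and a scheme X over k, the image in X of an irreducible component of
X_K is an irreducible component of X, and every irreducible component of X is such an image. -/
theorem result (k : Type u) [Field k] (X : Scheme.{u}) [X.Over (Spec (CommRingCat.of k))] (K : Type u) [Field K] [Algebra k K] :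
    (∀ T ∈ irreducibleComponents (Curv2.bc k X K : Type u), (Curv2.bcFst k X K).base '' T ∈ irreducibleComponents (X : Type u)) ∧
    (∀ Z ∈ irreducibleComponents (X : Type u), ∃ T ∈ irreducibleComponents (Curv2.bc k X K : Type u), (Curv2.bcFst k X K).base '' T = Z) := by
  classical
  let ι : SeparableClosure k →ₐ[k] SeparableClosure K := IsSepClosed.lift
  letI : Algebra (SeparableClosure k) (SeparableClosure K) := ι.toRingHom.toAlgebra
  haveI : IsScalarTower k (SeparableClosure k) (SeparableClosure K) :=
    IsScalarTower.of_algebraMap_eq fun x => (ι.commutes x).symm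
  haveI := Groth.Agent.H38.GalTower.geometricallyIrreducible_bcMap k X (SeparableClosure k)
    (SeparableClosure K)
  -- the three maps
  obtain ⟨a, ha⟩ : ∃ a, a = Groth.Agent.H38.GalTower.bcMap k X K (SeparableClosure K) := ⟨_, rfl⟩
  obtain ⟨b, hb⟩ : ∃ b, b = Groth.Agent.H38.GalTower.bcMap k X (SeparableClosure k)
    (SeparableClosure K) := ⟨_, rfl⟩
  obtain ⟨c, hc⟩ : ∃ c, c = Curv2.bcFst k X (SeparableClosure k) := ⟨_, rfl⟩
  have hab : ∀ y, Curv2.bcFst k X K (a y) = c (b y) := by
    intro y
    rw [ha, hb, hc, Groth.Agent.H38.GalTower.bcFst_bcMap_apply,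
      Groth.Agent.H38.GalTower.bcFst_bcMap_apply]
  have ha_cl : IsClosedMap a := by
    rw [ha]; exact Groth.Agent.H38.ConnFinite.isClosedMap_bcMap k X (SeparableClosure K) K
  have ha_surj : Function.Surjective a := by rw [ha]; exact Scheme.Hom.surjective _
  have ha_gen : GeneralizingMap a := by
    rw [ha]
    haveI : Flat (Groth.Agent.H38.GalTower.bcMap k X K (SeparableClosure K)) :=
      MorphismProperty.of_isPullback (P := @Flat)
        (Groth.Agent.H38.GalTower.isPullback_bcMap k X K (SeparableClosure K)).flip inferInstance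
    exact Flat.generalizingMap _
  have hc_cl : IsClosedMap c := by
    rw [hc]; exact Groth.Agent.H38.GalAct.isClosedMap_bcFst k X (SeparableClosure k)
  have hc_surj : Function.Surjective c := by rw [hc]; exact Scheme.Hom.surjective _
  have hc_gen : GeneralizingMap c := by
    rw [hc]
    haveI : Flat (Curv2.bcFst k X (SeparableClosure k)) := by
      unfold Curv2.bcFst; infer_instance
    exact Flat.generalizingMap _
  have hb_open : IsOpenMap b := by rw [hb]; exact Scheme.Hom.isOpenMap _
  have hb_surj : Function.Surjective b := by rw [hb]; exact Scheme.Hom.surjective _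
  have hb_fib : ∀ x, IsPreirreducible (b ⁻¹' {x}) := by
    intro x
    rw [hb]
    exact (Scheme.Hom.isIrreducible_preimage _ (Scheme.Hom.isOpenMap _)
      isIrreducible_singleton).isPreirreducible
  have himg : ∀ S : Set ↥(Curv2.bc k X (SeparableClosure K)),
      Curv2.bcFst k X K '' (a '' S) = c '' (b '' S) := by
    intro S
    ext x
    simp only [Set.mem_image, exists_exists_and_eq_and]
    constructor
    · rintro ⟨y, hy, rfl⟩; exact ⟨y, hy, (hab y).symm⟩
    · rintro ⟨y, hy, rfl⟩; exact ⟨y, hy, hab y⟩
  constructor
  · intro T hT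
    obtain ⟨T₂, hT₂, rfl⟩ := Groth.Agent.H38.IrredCompImage.exists_image_eq a.continuous ha_cl
      ha_surj hT
    have hT₁ := image_mem_irreducibleComponents_of_isPreirreducible_fiber b b.continuous hb_open
      hb_fib hb_surj hT₂
    have := Groth.Agent.H38.IrredCompImage.image_mem c.continuous hc_cl hc_gen hT₁
    change Curv2.bcFst k X K '' (a '' T₂) ∈ _
    rw [himg]
    exact this
  · intro Z hZ
    obtain ⟨T₁, hT₁, rfl⟩ := Groth.Agent.H38.IrredCompImage.exists_image_eq c.continuous hc_cl
      hc_surj hZ
    have hT₂ := preimage_mem_irreducibleComponents_of_isPreirreducible_fiber hT₁ b.continuous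
      hb_open hb_fib (by rw [hb_surj.range_eq, Set.inter_univ]; exact hT₁.1.nonempty)
    refine ⟨a '' (b ⁻¹' T₁), Groth.Agent.H38.IrredCompImage.image_mem a.continuous ha_cl ha_gen
      hT₂, ?_⟩
    change Curv2.bcFst k X K '' (a '' (b ⁻¹' T₁)) = _
    rw [himg, Set.image_preimage_eq _ hb_surj]

end Groth.Agent.S1546
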