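import Groth.Statements.S0419
import Groth.Agent.H7.GeomIrr.SchGI

set_option autoImplicit false
universe u
open FlatMor

namespace Groth.Agent.S0419

open AlgebraicGeometry CategoryTheory Limits in
/-- For a morphism of finite type to an irreducible scheme whose generic fibre is geometrically
irreducible, all fibres over some nonempty open of the target are geometrically irreducible. -/
theorem result {X Y : Scheme.{u}} (f : X ⟶ Y) [IrreducibleSpace ↑Y] [LocallyOfFiniteType f] [QuasiCompact f]
    (h : GeometricallyIrreducible (f.fiberToSpecResidueField (genericPoint ↑Y))) :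
    ∃ V : Y.Opens, (V : Set ↑Y).Nonempty ∧ GeometricallyIrreducible (f ∣_ V) := by
  obtain ⟨V, hVne, H⟩ := Groth.Agent.H7.GeomIrr.exists_open_irreducibleSpace_pullback f h
  refine ⟨V, hVne, ⟨?_⟩⟩
  rw [geometrically_iff_of_isClosedUnderIsomorphisms]
  intro K _ z
  have hbig : IsPullback (pullback.fst (f ∣_ V) z ≫ (f ⁻¹ᵁ V).ι) (pullback.snd (f ∣_ V) z) f
      (z ≫ V.ι) :=
    (IsPullback.of_hasPullback (f ∣_ V) z).paste_horiz (isPullback_morphismRestrict f V).flip
  have : IrreducibleSpace ↥(pullback f (z ≫ V.ι)) := H K (z ≫ V.ι) (fun t => by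
    change (V.ι (z t)) ∈ V
    exact (z t).2)
  exact (hbig.isoPullback.hom.homeomorph.irreducibleSpace_iff).mpr inferInstance

end Groth.Agent.S0419
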