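import Groth.Statements.S1357
import Groth.Agent.H8.GeomIrrCover

set_option autoImplicit false
universe u
open FlatMor

namespace Groth.Agent.S1357

open AlgebraicGeometry CategoryTheory Limits in
/-- Let f be of finite type with irreducible target Y. Then there are a nonempty open V of Y and a
surjective finite étale morphism g from an irreducible affine scheme Y' to V such that, for the base
change f' of f to Y', every irreducible component of the generic fibre of f' (with its reduced
induced structure) is geometrically irreducible over the residue field of the generic point of Y'. -/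
theorem result {X Y : Scheme.{u}} (f : X ⟶ Y) [IrreducibleSpace ↑Y] [LocallyOfFiniteType f] [QuasiCompact f] :
    ∃ (V : Y.Opens) (Y' : Scheme.{u}) (g : Y' ⟶ (V : Scheme.{u})) (hY' : IrreducibleSpace ↑Y'), (V : Set ↑Y).Nonempty ∧ IsAffine Y' ∧ Surjective g ∧ IsFinite g ∧ Etale g ∧
      ∀ (Z : Set ↑((pullback.snd f (g ≫ V.ι)).fiber (genericPoint ↑Y'))) (hZ : Z ∈ irreducibleComponents ↑((pullback.snd f (g ≫ V.ι)).fiber (genericPoint ↑Y'))),
        GeometricallyIrreducible ((Scheme.IdealSheafData.vanishingIdeal (⟨Z, isClosed_of_mem_irreducibleComponents Z hZ⟩ : TopologicalSpace.Closeds _)).subschemeι ≫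
          (pullback.snd f (g ≫ V.ι)).fiberToSpecResidueField (genericPoint ↑Y')) := by
  open Groth.Agent.H8.FinEtSpread in
  obtain ⟨V, hV, G, hY', hηV, hGm, hGs, hnt, hmain⟩ :=
    Groth.Agent.H8.GeomIrrCover.exists_cover f (genericPoint ↑Y)
      (fun y => genericPoint_specializes y)
  refine ⟨V, coverScheme G, coverToOpen hV G, hY', ⟨_, hηV⟩, inferInstance,
    surjective_coverToOpen hV hGm, isFinite_coverToOpen hV hGm, etale_coverToOpen hV hGm hGs, ?_⟩
  have key : ∀ (q : coverScheme G ⟶ Y) (_ : q = coverToBase hV G)
      (Z : Set ↑((pullback.snd f q).fiber (genericPoint ↑(coverScheme G))))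
      (hZ : Z ∈ irreducibleComponents ↑((pullback.snd f q).fiber (genericPoint ↑(coverScheme G)))),
      GeometricallyIrreducible ((Scheme.IdealSheafData.vanishingIdeal
        (⟨Z, isClosed_of_mem_irreducibleComponents Z hZ⟩ : TopologicalSpace.Closeds _)).subschemeι ≫
          (pullback.snd f q).fiberToSpecResidueField (genericPoint ↑(coverScheme G))) := by
    rintro q rfl
    exact hmain
  exact key _ (coverToOpen_ι hV G)

end Groth.Agent.S1357
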