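import Groth.Statements.S5927
import Groth.Agent.H25.SecBC5
import Groth.Agent.H25.Generize
import Groth.Agent.H17.Chev.Main
import Groth.Agent.H17.Chev.Closed

set_option autoImplicit false
open CategoryTheory AlgebraicGeometry
universe u
open EGA43

namespace Groth.Agent.S5927

/-- Let Y be a locally Noetherian scheme, f : X ⟶ Y a morphism locally of finite type with a section g :
Y ⟶ X, X_y^0 the connected component of f⁻¹(y) containing g y, every X_y^0 geometrically irreducible
over κ(y), and y₀ a point of Y such that f is universally open at the generic point of X_{y₀}^0.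
Suppose moreover that either (α) the fibre f⁻¹(y₀) is geometrically reduced at g y₀, or (β) dim
f⁻¹(y') = dim X_{y'}^0 for the generic point y' of every irreducible component of Y containing y₀.
Then y ↦ dim X_y^0 is constant on a neighbourhood of y₀. -/
theorem result {X Y : Scheme.{u}} [IsLocallyNoetherian Y] (f : X ⟶ Y)
    [LocallyOfFiniteType f] (g : Y ⟶ X) (hg : g ≫ f = 𝟙 Y)
    (hirr : ∀ y : Y, (∀ (K : Type u) [Field K] [Algebra (IsLocalRing.ResidueField (Y.presheaf.stalk y)) K],
        IsIrreducible ((FBase.bcπ (f.fiberToSpecResidueField y) K ≫ f.fiberι y).base ⁻¹' connectedComponentIn (f.base ⁻¹' {y}) (g.base y))))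
    (y₀ : Y) (hopen : ∀ ξ ∈ connectedComponentIn (f.base ⁻¹' {y₀}) (g.base y₀), connectedComponentIn (f.base ⁻¹' {y₀}) (g.base y₀) ⊆ closure {ξ} → EGA43.IsUnivOpenAt f ξ)
    (hαβ : FBase.IsGeomReducedAt (f.fiberToSpecResidueField (f.base (g.base y₀))) (f.asFiber (g.base y₀)) ∨
      (∀ y' : Y, y₀ ∈ closure {y'} → closure {y'} ∈ irreducibleComponents (Y : Type u) →
        topologicalKrullDim ↥(f.fiber y') = topologicalKrullDim ↥(connectedComponentIn (f.base ⁻¹' {y'}) (g.base y')))) :
    (∃ V ∈ nhds y₀, ∀ z ∈ V, topologicalKrullDim ↥(connectedComponentIn (f.base ⁻¹' {z}) (g.base z)) = topologicalKrullDim ↥(connectedComponentIn (f.base ⁻¹' {y₀}) (g.base y₀))) := by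
  classical
  have hloc : ∀ x : Y, ∃ U ∈ nhds x, TopologicalSpace.NoetherianSpace ↥U := by
    intro x
    obtain ⟨_, ⟨(U : Y.Opens), hU, rfl⟩, hxU, -⟩ :=
      Y.isBasis_affineOpens.exists_subset_of_mem_open (Set.mem_univ x) isOpen_univ
    replace hU : IsAffineOpen U := hU
    haveI : IsNoetherianRing Γ(Y, U) := IsLocallyNoetherian.component_noetherian ⟨U, hU⟩
    exact ⟨(U : Set Y), U.isOpen.mem_nhds hxU, noetherianSpace_of_isAffineOpen U hU⟩
  obtain ⟨n, hn⟩ := Groth.Agent.H17.Chev.exists_nat_eq_fibreDimAt f (g.base y₀)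
  have hdimX0 := Groth.Agent.H25.SecBC.dim_X0 f g hg hirr
  -- upper bound
  have hUo : IsOpen (g.base ⁻¹' {x : X | FlatMor.fibreDimAt f x ≤ n}) :=
    (Groth.Agent.H17.Chev.isOpen_setOf_fibreDimAt_le f n).preimage g.continuous
  have hy₀U : y₀ ∈ g.base ⁻¹' {x : X | FlatMor.fibreDimAt f x ≤ n} := by
    change FlatMor.fibreDimAt f (g.base y₀) ≤ n
    rw [hn]
  -- lower bound
  have hCc : IsClosed (g.base ⁻¹' {x : X | (n : WithBot ℕ∞) ≤ FlatMor.fibreDimAt f x}) :=
    (Groth.Agent.H17.Chev.isClosed_setOf_le_fibreDimAt f n).preimage g.continuous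
  set C := g.base ⁻¹' {x : X | (n : WithBot ℕ∞) ≤ FlatMor.fibreDimAt f x} with hC
  have hy₀C : y₀ ∈ C := by
    change (n : WithBot ℕ∞) ≤ FlatMor.fibreDimAt f (g.base y₀)
    rw [hn]
  have hCn : C ∈ nhds y₀ := by
    by_contra hcon
    have hcl : y₀ ∈ closure Cᶜ := by
      rw [closure_compl]
      intro hint
      exact hcon (mem_interior_iff_mem_nhds.mp hint)
    obtain ⟨η₁, hη₁C, hη₁⟩ :=
      Groth.Agent.H25.exists_specializes_of_mem_closure hloc hCc.isOpen_compl hcl
    apply hη₁C
    rcases hαβ with hα | hβ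
    · have h1 := (Groth.Agent.H25.SecBC.fibreDimAt_le_of_specializes f g hg hirr y₀ η₁ hη₁
        hopen).1 hα
      change (n : WithBot ℕ∞) ≤ FlatMor.fibreDimAt f (g.base η₁)
      rw [← hn]
      exact h1
    · -- a generic point of an irreducible component through η₁
      have hcomp := irreducibleComponent_mem_irreducibleComponents η₁
      obtain ⟨y', hy'⟩ := QuasiSober.sober (isIrreducible_irreducibleComponent (x := η₁))
        (isClosed_irreducibleComponent (x := η₁))
      have hy'η₁ : y' ⤳ η₁ := by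
        rw [specializes_iff_mem_closure, hy'.def]
        exact mem_irreducibleComponent
      have hy'y₀ : y' ⤳ y₀ := hy'η₁.trans hη₁
      have h1 := (Groth.Agent.H25.SecBC.fibreDimAt_le_of_specializes f g hg hirr y₀ y' hy'y₀
        hopen).2
      have h2 := hβ y' hy'y₀.mem_closure (by rw [hy'.def]; exact hcomp)
      rw [h2, hdimX0 y', hn] at h1
      have hy'C : y' ∈ C := h1
      have h3 : closure {y'} ⊆ C := hCc.closure_subset_iff.mpr (Set.singleton_subset_iff.mpr hy'C)
      exact h3 hy'η₁.mem_closure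
  refine ⟨g.base ⁻¹' {x : X | FlatMor.fibreDimAt f x ≤ n} ∩ C,
    Filter.inter_mem (hUo.mem_nhds hy₀U) hCn, ?_⟩
  intro z hz
  rw [hdimX0 z, hdimX0 y₀, hn]
  exact le_antisymm hz.1 hz.2

end Groth.Agent.S5927
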