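import Groth.Statements.S1789
import Groth.Agent.S1782
import Groth.Agent.H26.FlatBCDual13

set_option autoImplicit false
universe u
open CategoryTheory
attribute [local instance] HasDerivedCategory.standard
open Dual2

namespace Groth.Agent.S1789

/-- Let R → A be a ring map of finite type between Noetherian rings with R local, where φ^!(K) is formed
from a presentation ψ : R[x_1, …, x_n] → A as RHom_P(A, K ⊗^L_R P)[n], assuming the derived base
change to P exists and taking for RHom_P(A, −) a right adjoint of restriction of scalars along ψ.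
Let m be a maximal ideal of A lying over the maximal ideal of R and ω a normalized dualizing complex
for R. Assuming the derived base change D(A) → D(A_m) exists, the base change of φ^!(ω) to A_m is a
normalized dualizing complex for A_m. -/
theorem result (R A : Type u) [CommRing R] [CommRing A] [IsNoetherianRing R] [IsNoetherianRing A] [Algebra R A] (n : ℕ) (ψ : MvPolynomial (Fin n) R →ₐ[R] A) (hψ : Function.Surjective ψ) [DRing.HasLBaseChange (algebraMap R (MvPolynomial (Fin n) R))] (Rψ : Dual.D (MvPolynomial (Fin n) R) ⥤ Dual.D A) (adj : DRing.restrictD ψ.toRingHom ⊣ Rψ) [IsLocalRing R] (m : Ideal A) [m.IsMaximal] (hm : m.comap (algebraMap R A) = IsLocalRing.maximalIdeal R) (ω : Dual.D R) (hω : Dual.IsDualizing R ω) (hn : Dual.IsNormalized R ω) [DRing.HasLBaseChange (algebraMap A (Localization.AtPrime m))] : Dual.IsDualizing (Localization.AtPrime m) ((DRing.LBaseChange (algebraMap A (Localization.AtPrime m))).obj (Dual2.shriekVia n Rψ ω)) ∧ Dual.IsNormalized (Localization.AtPrime m) ((DRing.LBaseChange (algebraMap A (Localization.AtPrime m))).obj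 (Dual2.shriekVia n Rψ ω)) := by
  have hXd : Dual.IsDualizing A (Dual2.shriekVia n Rψ ω) :=
    Groth.Agent.S1782.result R A n ψ hψ Rψ adj ω hω
  have eL := (Groth.Agent.H26.FlatBCDual.lbcIso (A := A) (B := Localization.AtPrime m)).app
    (Dual2.shriekVia n Rψ ω)
  have eW := (Groth.Agent.H26.FlatBCDual.lbcIso (A := R) (B := MvPolynomial (Fin n) R)).app ω
  have hkey : ∀ i : ℤ, i ≠ 0 →
      Subsingleton (Dual.inD A (A ⧸ m) ⟶ (Dual2.shriekVia n Rψ ω)⟦i⟧) := fun i hi =>
    Groth.Agent.H26.FlatBCDual.subsingleton_T_shriek_of_normalized n ψ hψ Rψ adj m hm ω hω hn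
      _ eW i hi
  constructor
  · exact Groth.Agent.H26.FlatBCDual.isDualizing_of_iso eL.symm
      (Groth.Agent.H26.FlatBCDual.isDualizing_LB_localization m.primeCompl _ hXd)
  · exact Groth.Agent.H26.FlatBCDual.isNormalized_of_iso eL.symm
      (Groth.Agent.H26.FlatBCDual.isNormalized_LB_atPrime_of_quot m _ hXd hkey)

end Groth.Agent.S1789
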