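import Groth.Statements.S6283
import Mathlib.RingTheory.Flat.Equalizer

set_option autoImplicit false
universe u
open CAlg

namespace Groth.Agent.S6283

open TensorProduct

theorem L1 {R S : Type u} [CommRing R] [CommRing S] [Algebra R S] [Module.Flat R S]
    (P : Type u) [AddCommGroup P] [Module R P] (x : P) :
    ((Submodule.span R {x}).annihilator).map (algebraMap R S) =
      (Submodule.span S {(1 : S) ⊗ₜ[R] x}).annihilator := by
  apply le_antisymm
  · rw [Ideal.map_le_iff_le_comap]
    intro a ha
    rw [Submodule.mem_annihilator_span_singleton] at ha
    rw [Ideal.mem_comap, Submodule.mem_annihilator_span_singleton]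
    rw [TensorProduct.smul_tmul', smul_eq_mul, mul_one, Algebra.algebraMap_eq_smul_one,
      TensorProduct.smul_tmul, ha, TensorProduct.tmul_zero]
  · intro s hs
    rw [Submodule.mem_annihilator_span_singleton] at hs
    let f : R →ₗ[R] P := LinearMap.toSpanSingleton R P x
    have hker : ∀ a : R, a ∈ LinearMap.ker f ↔ a ∈ (Submodule.span R {x}).annihilator := by
      intro a
      rw [Submodule.mem_annihilator_span_singleton, LinearMap.mem_ker]
      rfl
    have h1 : (s ⊗ₜ[R] (1 : R)) ∈ LinearMap.ker (AlgebraTensorModule.lTensor S S f) := by
      rw [LinearMap.mem_ker, AlgebraTensorModule.lTensor_tmul]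
      have : f 1 = x := by simp [f]
      rw [this]
      rw [TensorProduct.smul_tmul', smul_eq_mul, mul_one] at hs
      exact hs
    rw [Module.Flat.ker_lTensor_eq] at h1
    obtain ⟨y, hy⟩ := h1
    have claim : ∀ y : S ⊗[R] LinearMap.ker f,
        TensorProduct.rid R S (AlgebraTensorModule.lTensor S S (LinearMap.ker f).subtype y) ∈
          Ideal.map (algebraMap R S) (Submodule.span R {x}).annihilator := by
      intro y
      induction y using TensorProduct.induction_on with
      | zero => simp
      | tmul s' a =>
        rw [AlgebraTensorModule.lTensor_tmul, TensorProduct.rid_tmul, Submodule.subtype_apply,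
          Algebra.smul_def]
        exact Ideal.mul_mem_right _ _ (Ideal.mem_map_of_mem _ ((hker a.1).1 a.2))
      | add y z hy hz =>
        rw [map_add, map_add]
        exact Ideal.add_mem _ hy hz
    have h2 := claim y
    rw [hy, TensorProduct.rid_tmul, one_smul] at h2
    exact h2

theorem result {R S : Type u} [CommRing R] [CommRing S] [Algebra R S] [Module.Flat R S] (M : Type u) [AddCommGroup M] [Module R M] : (∀ m : M, ((Submodule.span R {m}).annihilator).map (algebraMap R S) = (Submodule.span S {(1 : S) ⊗ₜ[R] m}).annihilator) ∧ (Module.Finite R M → (Module.annihilator R M).map (algebraMap R S) = Module.annihilator S (S ⊗[R] M)) := by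
  refine ⟨fun m => L1 M m, ?_⟩
  intro hfin
  obtain ⟨n, g, hg⟩ := Module.Finite.exists_fin (R := R) (M := M)
  -- the element x = (g i)_i of Fin n → M
  have key := L1 (R := R) (S := S) (Fin n → M) g
  have e1 : (Submodule.span R {g}).annihilator = Module.annihilator R M := by
    ext a
    rw [Submodule.mem_annihilator_span_singleton, Module.mem_annihilator]
    constructor
    · intro h m
      have hm : m ∈ Submodule.span R (Set.range g) := by rw [hg]; trivial
      induction hm using Submodule.span_induction with
      | mem y hy =>
        obtain ⟨i, rfl⟩ := hy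
        exact congrFun h i
      | zero => simp
      | add y z _ _ hy hz => rw [smul_add, hy, hz, add_zero]
      | smul r y _ hy => rw [smul_comm, hy, smul_zero]
    · intro h
      funext i
      exact h (g i)
  have e2 : (Submodule.span S {(1 : S) ⊗ₜ[R] g}).annihilator = Module.annihilator S (S ⊗[R] M) := by
    ext s
    rw [Submodule.mem_annihilator_span_singleton, Module.mem_annihilator]
    constructor
    · intro h
      -- s ⊗ g = 0 implies s ⊗ g i = 0
      have hi : ∀ i, s ⊗ₜ[R] (g i) = (0 : S ⊗[R] M) := by
        intro i
        have := congrArg (LinearMap.lTensor S (LinearMap.proj (R := R) (φ := fun _ : Fin n => M) i)) h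
        rw [TensorProduct.smul_tmul', smul_eq_mul, mul_one, LinearMap.lTensor_tmul, map_zero] at this
        exact this
      intro z
      induction z using TensorProduct.induction_on with
      | zero => simp
      | add y z hy hz => rw [smul_add, hy, hz, add_zero]
      | tmul t m =>
        have hm : m ∈ Submodule.span R (Set.range g) := by rw [hg]; trivial
        induction hm using Submodule.span_induction with
        | mem y hy =>
          obtain ⟨i, rfl⟩ := hy
          rw [TensorProduct.smul_tmul', smul_eq_mul, mul_comm, ← smul_eq_mul, ← TensorProduct.smul_tmul',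
            hi i, smul_zero]
        | zero => simp
        | add y z _ _ hy hz => rw [TensorProduct.tmul_add, smul_add, hy, hz, add_zero]
        | smul r y _ hy => rw [TensorProduct.tmul_smul, smul_comm, hy, smul_zero]
    · intro h
      rw [TensorProduct.smul_tmul', smul_eq_mul, mul_one]
      have hsum : g = ∑ i, Pi.single i (g i) := by
        funext j
        simp [Finset.sum_apply, Pi.single_apply]
      rw [hsum, TensorProduct.tmul_sum]
      apply Finset.sum_eq_zero
      intro i _
      have h3 := h ((1 : S) ⊗ₜ[R] (g i))
      rw [TensorProduct.smul_tmul', smul_eq_mul, mul_one] at h3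
      have := congrArg (LinearMap.lTensor S (LinearMap.single R (fun _ : Fin n => M) i)) h3
      rw [LinearMap.lTensor_tmul, map_zero] at this
      exact this
  rw [← e1, ← e2]
  exact key

end Groth.Agent.S6283
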