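import Groth.Statements.S0736
import Groth.Agent.H4.IndCover

set_option autoImplicit false
open CategoryTheory CategoryTheory.Limits AlgebraicGeometry Opposite Topology
universe u
open ProEtW

namespace Groth.Agent.S0736

/-- An ind-etale ring map A -> B is weakly etale (A -> B and B (x)_A B -> B flat), in Mathlib's sense
Algebra.WeaklyEtale. -/
theorem result (A B : Type u) [CommRing A] [CommRing B] [Algebra A B]
    (h : EtPBC.IsIndEtale A B) : Algebra.WeaklyEtale A B := by
  obtain ⟨J, hJ, hJf, D, c, hc, hEt, ⟨e⟩⟩ := h
  letI : ∀ j, Algebra A (D.obj j).right := fun j => Groth.Agent.H4.IndCover.algStage D j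
  refine Groth.Agent.H4.DirFlat.weaklyEtale_of_cover
    (ι := Groth.Agent.H4.IndCover.toB D c e)
    (Groth.Agent.H4.IndCover.dir D c e) (Groth.Agent.H4.IndCover.surj D c hc e)
    (Groth.Agent.H4.IndCover.inj D c hc e) ?_
  intro j
  haveI : Algebra.Etale A (D.obj j).right := hEt j
  infer_instance

end Groth.Agent.S0736
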