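import Groth.Statements.S0733
import Groth.Agent.H4.IndEtBC

set_option autoImplicit false
open CategoryTheory CategoryTheory.Limits AlgebraicGeometry Opposite Topology
universe u
open scoped TensorProduct
open ProEtW

namespace Groth.Agent.S0733

/-- If A -> B is ind-etale (a filtered colimit of etale A-algebras) and A -> A' is any ring map, then A'
-> A' (x)_A B is ind-etale. -/
theorem result (A B A' : Type u) [CommRing A] [CommRing B] [CommRing A']
    [Algebra A B] [Algebra A A'] (h : EtPBC.IsIndEtale A B) :
    EtPBC.IsIndEtale A' (A' ⊗[A] B) := by
  have hinst : ‹Algebra A B› = (algebraMap A B).toAlgebra := by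
    apply Algebra.algebra_ext
    intro r
    rfl
  revert h
  rw [hinst]
  exact Groth.Agent.H4.isIndEtale_baseChange_aux A B A' (algebraMap A B)

end Groth.Agent.S0733
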