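import Groth.Statements.S6646
import Groth.Agent.H21.ModExt

set_option autoImplicit false
open CategoryTheory CategoryTheory.Limits AlgebraicGeometry Opposite
universe u
open EtModW

namespace Groth.Agent.S6646

/-- For a Noetherian coefficient ring Λ, on the small etale site of a scheme, kernels and cokernels of
maps between finite type locally constant sheaves of Λ-modules are finite type locally constant, and
that property is closed under extensions (a weak Serre subcategory). -/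
theorem result (Λ : Type (u + 1)) [CommRing Λ] [IsNoetherianRing Λ] (X : Scheme.{u}) :
    (∀ (F G : EtModW.Mod Λ X) (φ : F ⟶ G), EtModW.IsFTLocConst Λ F → EtModW.IsFTLocConst Λ G →
      EtModW.IsFTLocConst Λ (kernel φ) ∧ EtModW.IsFTLocConst Λ (cokernel φ)) ∧
    ObjectProperty.IsClosedUnderExtensions (fun F : EtModW.Mod Λ X => EtModW.IsFTLocConst Λ F) := by
  refine ⟨?_, ⟨?_⟩⟩
  · intro F G φ hF hG
    obtain ⟨ι₁, U₁, hc₁, h₁⟩ := hF
    obtain ⟨ι₂, U₂, hc₂, h₂⟩ := hG
    have key : ∀ x : X, ∃ (W : X.Etale) (w : W.left), W.hom.base w = x ∧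
        (∃ (K : Type (u + 1)) (_ : AddCommGroup K) (_ : Module Λ K) (_ : Module.Finite Λ K),
          Nonempty ((kernel φ).over W ≅
            (constantSheaf (X.smallEtaleTopology.over W) (ModuleCat.{u + 1} Λ)).obj
              (ModuleCat.of Λ K))) ∧
        (∃ (C : Type (u + 1)) (_ : AddCommGroup C) (_ : Module Λ C) (_ : Module.Finite Λ C),
          Nonempty ((cokernel φ).over W ≅
            (constantSheaf (X.smallEtaleTopology.over W) (ModuleCat.{u + 1} Λ)).obj
              (ModuleCat.of Λ C))) := by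
      intro x
      obtain ⟨i₁, y₁, hy₁⟩ := hc₁ x
      obtain ⟨i₂, y₂, hy₂⟩ := hc₂ x
      obtain ⟨M, _, _, _, ⟨a₀⟩⟩ := h₁ i₁
      obtain ⟨N, _, _, _, ⟨b₀⟩⟩ := h₂ i₂
      obtain ⟨W, w, h, α, β, hw, e⟩ := Groth.Agent.H21.ModLocConst.local_atM φ
        (M := ModuleCat.of Λ M) (N := ModuleCat.of Λ N) y₁ y₂ (hy₁.trans hy₂.symm) a₀ b₀
      exact ⟨W, w, hw.trans hy₁, Groth.Agent.H21.ModExt.ker_coker_local φ h α β e⟩
    choose W w hw hK hC using key
    constructor
    · exact ⟨X, W, fun x => ⟨x, w x, hw x⟩, fun x => hK x⟩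
    · exact ⟨X, W, fun x => ⟨x, w x, hw x⟩, fun x => hC x⟩
  · intro S hS hF hG
    obtain ⟨ι₁, U₁, hc₁, h₁⟩ := hF
    obtain ⟨ι₂, U₂, hc₂, h₂⟩ := hG
    have key : ∀ x : X, ∃ (W : X.Etale) (w : W.left), W.hom.base w = x ∧
        ∃ (E : Type (u + 1)) (_ : AddCommGroup E) (_ : Module Λ E) (_ : Module.Finite Λ E),
          Nonempty (S.X₂.over W ≅
            (constantSheaf (X.smallEtaleTopology.over W) (ModuleCat.{u + 1} Λ)).obj
              (ModuleCat.of Λ E)) := by
      intro x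
      obtain ⟨i₁, y₁, hy₁⟩ := hc₁ x
      obtain ⟨i₂, y₂, hy₂⟩ := hc₂ x
      obtain ⟨M, _, _, _, ⟨a₀⟩⟩ := h₁ i₁
      obtain ⟨N, _, _, _, ⟨b₀⟩⟩ := h₂ i₂
      obtain ⟨W, w, hw, hE⟩ := Groth.Agent.H21.ModExt.ext_local hS
        (M' := ModuleCat.of Λ M) (M'' := ModuleCat.of Λ N) y₁ y₂ (hy₁.trans hy₂.symm) a₀ b₀
      exact ⟨W, w, hw.trans hy₁, hE⟩
    choose W w hw hE using key
    exact ⟨X, W, fun x => ⟨x, w x, hw x⟩, fun x => hE x⟩

end Groth.Agent.S6646
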