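import Groth.Statements.S1820
import Groth.Agent.H26.ShriekTensor
import Groth.Agent.H26.CoextBC11
import Groth.Agent.H26.FlatBCDual17

set_option autoImplicit false
universe u
open CategoryTheory
attribute [local instance] HasDerivedCategory.standard
open Dual2

namespace Groth.Agent.S1820

/-- For φ flat of finite type (a perfect ring map). Let R → A be a ring map between Noetherian rings
which is flat and of finite type, where φ^!(K) is formed from a presentation ψ : R[x_1, …, x_n] → A
as RHom_P(A, K ⊗^L_R P)[n], assuming the derived base change to P exists and taking for RHom_P(A, −)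
a right adjoint of restriction of scalars along ψ; let W be a complex of A-modules representing
ω_{A/R} = φ^!(R). Assuming the derived base change D(R) → D(A) and the derived tensor product −
⊗^L_A W exist, for every K in D(R) there is an isomorphism φ^!(K) ≅ (K ⊗^L_R A) ⊗^L_A W. -/
theorem result (R A : Type u) [CommRing R] [CommRing A] [IsNoetherianRing R] [IsNoetherianRing A] [Algebra R A] [Module.Flat R A] (n : ℕ) (ψ : MvPolynomial (Fin n) R →ₐ[R] A) (hψ : Function.Surjective ψ) [DRing.HasLBaseChange (algebraMap R (MvPolynomial (Fin n) R))] (Rψ : Dual.D (MvPolynomial (Fin n) R) ⥤ Dual.D A) (adj : DRing.restrictD ψ.toRingHom ⊣ Rψ) (W : DRing.Cx A) (hW : Nonempty (DRing.toD W ≅ Dual2.shriekVia n Rψ (Dual.inD R R))) [DRing.HasLBaseChange (algebraMap R A)] [DRing.HasLTensorCx A W] (K : Dual.D R) : Nonempty (Dual2.shriekVia n Rψ K ≅ (DRing.LTensorCx A W).obj ((DRing.LBaseChange (algebraMap R A)).obj K)) := by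
  let algPA : Algebra (MvPolynomial (Fin n) R) A := ψ.toRingHom.toAlgebra
  have hperf : DRing.IsPerfectModule (MvPolynomial (Fin n) R) A :=
    Groth.Agent.H26.CoextBC.isPerfectModule_of_flat R A n ψ hψ
  have hA : DRing.IsPerfect (MvPolynomial (Fin n) R)
      ((DRing.restrictD ψ.toRingHom).obj (DTen.unit A)) :=
    Groth.Agent.H10.RHM.isPerfect_res_unit hperf
  have hφ : algebraMap R A = ψ.toRingHom.comp (algebraMap R (MvPolynomial (Fin n) R)) :=
    RingHom.ext (fun r => (ψ.commutes r).symm)
  let eu : (DRing.LBaseChange (algebraMap R (MvPolynomial (Fin n) R))).obj (Dual.inD R R) ≅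
      DTen.unit (MvPolynomial (Fin n) R) :=
    (Groth.Agent.H26.FlatBCDual.lbcIso (A := R) (B := MvPolynomial (Fin n) R)).app _ ≪≫
      Groth.Agent.H26.FlatBCDual.LBSelfIso (S := R) (MvPolynomial (Fin n) R) ≪≫
      (DerivedCategory.singleFunctorIsoCompQ (ModuleCat.{u} (MvPolynomial (Fin n) R)) 0).app
        (ModuleCat.of (MvPolynomial (Fin n) R) (MvPolynomial (Fin n) R))
  obtain ⟨hW'⟩ := hW
  exact Groth.Agent.H26.ShriekTensor.nonempty_shriek_iso_LTensorCx
    (algebraMap R (MvPolynomial (Fin n) R)) ψ.toRingHom (algebraMap R A) hφ hA Rψ adj (n : ℤ) W eu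
    hW' K

end Groth.Agent.S1820
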