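import Groth.Statements.S9153
import Groth.Agent.H46.SatChain
import Groth.Agent.H54.Catenary

set_option autoImplicit false
universe u
open CAlg

namespace Groth.Agent.S9153

/-- In a polynomial ring in finitely many variables over a field, every saturated chain of primes
between two primes p ⊆ q has length equal to the difference of their heights (stated additively:
length + height p = height q). -/
theorem result (k : Type u) [Field k] (n : ℕ)
    (s : LTSeries (PrimeSpectrum (MvPolynomial (Fin n) k)))
    (hsat : ∀ i : Fin s.length, s (Fin.castSucc i) ⋖ s (Fin.succ i)) :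
    (s.length : ℕ∞) + s.head.asIdeal.height = s.last.asIdeal.height := by
  have _i1 : WellFoundedLT (PrimeSpectrum (MvPolynomial (Fin n) k)) :=
    Groth.Agent.H24.wellFoundedLT_primeSpectrum
  have _i2 : WellFoundedGT (PrimeSpectrum (MvPolynomial (Fin n) k)) :=
    Groth.Agent.H24.wellFoundedGT_primeSpectrum
  let bot : PrimeSpectrum (MvPolynomial (Fin n) k) := ⟨⊥, Ideal.isPrime_bot⟩
  have hbot : ∀ a : PrimeSpectrum (MvPolynomial (Fin n) k), bot ≤ a := fun a => by
    change (⊥ : Ideal _) ≤ a.asIdeal
    exact bot_le
  have hmax : ∀ a : PrimeSpectrum (MvPolynomial (Fin n) k),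
      ∃ m, a ≤ m ∧ m.asIdeal.IsMaximal := by
    intro a
    obtain ⟨M, hM, haM⟩ := Ideal.exists_le_maximal a.asIdeal a.2.ne_top
    exact ⟨⟨M, hM.isPrime⟩, haM, hM⟩
  have hD : ∀ t : Groth.Agent.H24.SatSeries (PrimeSpectrum (MvPolynomial (Fin n) k)),
      t.head = bot → t.last.asIdeal.IsMaximal → t.length = n := by
    intro t hth htl
    have h1 := Groth.Agent.H54.length_eq_ringKrullDim_of_saturated k t.length
      (MvPolynomial (Fin n) k) t.toLT rfl (by
        rw [Groth.Agent.H24.SatSeries.toLT_head, hth]) (by
        rw [Groth.Agent.H24.SatSeries.toLT_last]; exact htl) t.toLT_covBy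
    rw [Groth.Agent.H54.ringKrullDim_mvPolynomial_fin_field] at h1
    exact_mod_cast h1
  have key := Groth.Agent.H46.satSeries_length_add_height bot hbot
    (fun m => m.asIdeal.IsMaximal) hmax n hD ⟨s.length, s.toFun, fun i => hsat i⟩
  rw [PrimeSpectrum.height_eq_orderHeight, PrimeSpectrum.height_eq_orderHeight]
  exact key

end Groth.Agent.S9153
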