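import Groth.Statements.S9218
import Groth.Agent.H46.LimPullback

set_option autoImplicit false
universe u
open CategoryTheory CategoryTheory.Limits AlgebraicGeometry
open Lim

namespace Groth.Agent.S9218

/-- Let S = lim S_i be a cofiltered limit of schemes with affine transition morphisms (the S_i are not
assumed quasi-compact or quasi-separated), i an index, and X_i → S_i, Y_i → S_i morphisms locally of
finite presentation with X_i, Y_i quasi-compact and quasi-separated; let X, Y be their base changes
to S (pullback squares). Then every S-morphism f : X → Y comes from some stage: for some index j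
over i there is an S_j-morphism f_j : X_i ×_{S_i} S_j → Y_i ×_{S_i} S_j whose base change to S is f,
in the sense that the canonical morphisms X → X_i ×_{S_i} S_j and Y → Y_i ×_{S_i} S_j intertwine f
and f_j. This is the fullness part of the equivalence between the colimit of the categories of
quasi-compact quasi-separated schemes locally of finite presentation over the S_i and the
corresponding category over S. -/
theorem result {I : Type u} [SmallCategory I] [IsCofiltered I]
    (D : I ⥤ Scheme.{u}) (c : Limits.Cone D) (hc : Limits.IsLimit c)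
    [∀ (i j : I) (f : i ⟶ j), IsAffineHom (D.map f)] (i : I)
    {Xi Yi : Scheme.{u}} (xi : Xi ⟶ D.obj i) (yi : Yi ⟶ D.obj i)
    [CompactSpace Xi] [QuasiSeparatedSpace Xi] [LocallyOfFinitePresentation xi]
    [CompactSpace Yi] [QuasiSeparatedSpace Yi] [LocallyOfFinitePresentation yi]
    {X Y : Scheme.{u}} (qX : X ⟶ Xi) (pX : X ⟶ c.pt) (hX : IsPullback qX pX xi (c.π.app i))
    (qY : Y ⟶ Yi) (pY : Y ⟶ c.pt) (hY : IsPullback qY pY yi (c.π.app i))
    (f : X ⟶ Y) (hf : f ≫ pY = pX) :
    ∃ (j : I) (φ : j ⟶ i) (fj : pullback xi (D.map φ) ⟶ pullback yi (D.map φ))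
      (sX : X ⟶ pullback xi (D.map φ)) (sY : Y ⟶ pullback yi (D.map φ)),
      fj ≫ pullback.snd yi (D.map φ) = pullback.snd xi (D.map φ) ∧
      sX ≫ pullback.fst xi (D.map φ) = qX ∧ sX ≫ pullback.snd xi (D.map φ) = pX ≫ c.π.app j ∧
      sY ≫ pullback.fst yi (D.map φ) = qY ∧ sY ≫ pullback.snd yi (D.map φ) = pY ≫ c.π.app j ∧
      sX ≫ fj = f ≫ sY := by
  classical
  let e : X ≅ pullback (c.π.app i) xi := hX.flip.isoPullback
  have he1 : e.hom ≫ pullback.fst (c.π.app i) xi = pX := hX.flip.isoPullback_hom_fst
  have he2 : e.hom ≫ pullback.snd (c.π.app i) xi = qX := hX.flip.isoPullback_hom_snd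
  have he3 : e.inv ≫ pX = pullback.fst (c.π.app i) xi := hX.flip.isoPullback_inv_fst
  have ha : (e.inv ≫ f ≫ qY) ≫ yi = pullback.snd (c.π.app i) xi ≫ xi := by
    rw [Category.assoc, Category.assoc, hY.w, reassoc_of% hf, reassoc_of% he3,
      pullback.condition]
  obtain ⟨k, g, π', hπ1, hπ2, hg1, hg2⟩ :=
    H46.exists_descend_hom D c i xi hc yi (e.inv ≫ f ≫ qY) ha
  have hw : c.π.app k.left ≫ D.map k.hom = c.π.app i := c.w k.hom
  let sX : X ⟶ pullback xi (D.map k.hom) := pullback.lift qX (pX ≫ c.π.app k.left) (by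
    rw [Category.assoc, hw, hX.w])
  let sY : Y ⟶ pullback yi (D.map k.hom) := pullback.lift qY (pY ≫ c.π.app k.left) (by
    rw [Category.assoc, hw, hY.w])
  let fj : pullback xi (D.map k.hom) ⟶ pullback yi (D.map k.hom) :=
    pullback.lift ((pullbackSymmetry xi (D.map k.hom)).hom ≫ g) (pullback.snd xi (D.map k.hom)) (by
      rw [Category.assoc, hg2, pullbackSymmetry_hom_comp_snd_assoc, pullback.condition])
  refine ⟨k.left, k.hom, fj, sX, sY, pullback.lift_snd _ _ _, pullback.lift_fst _ _ _,
    pullback.lift_snd _ _ _, pullback.lift_fst _ _ _, pullback.lift_snd _ _ _, ?_⟩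
  have key : sX ≫ (pullbackSymmetry xi (D.map k.hom)).hom = e.hom ≫ π' := by
    apply pullback.hom_ext
    · rw [Category.assoc, pullbackSymmetry_hom_comp_fst, pullback.lift_snd, Category.assoc,
        hπ1, reassoc_of% he1]
    · rw [Category.assoc, pullbackSymmetry_hom_comp_snd, pullback.lift_fst, Category.assoc,
        hπ2, he2]
  apply pullback.hom_ext
  · rw [Category.assoc, pullback.lift_fst, Category.assoc, pullback.lift_fst,
      reassoc_of% key, hg1, Iso.hom_inv_id_assoc]
  · rw [Category.assoc, pullback.lift_snd, pullback.lift_snd, Category.assoc, pullback.lift_snd,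
      reassoc_of% hf]

end Groth.Agent.S9218
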