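import Groth.Statements.S2575
import Groth.Agent.H29.OpenImmCons
import Groth.Agent.H29.ConsMorD
import Groth.Agent.H17.FibreSurj

set_option autoImplicit false
open CategoryTheory AlgebraicGeometry
universe u
open EGA43

namespace Groth.Agent.S2575


open CategoryTheory.Limits in
/-- Let g : Y ⟶ S and f : X ⟶ Y be such that X and Y are of finite presentation over S (locally of
finite presentation, quasi-compact and quasi-separated). For each point s of S let f_s be the
induced morphism from the fibre of f ≫ g over s to the fibre of g over s. Then the set of s for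
which f_s is an isomorphism is locally constructible in S. -/
theorem result {X Y S : Scheme.{u}} (f : X ⟶ Y) (g : Y ⟶ S)
    [LocallyOfFinitePresentation g] [QuasiCompact g] [QuasiSeparated g]
    [LocallyOfFinitePresentation (f ≫ g)] [QuasiCompact (f ≫ g)] [QuasiSeparated (f ≫ g)] :
    Topology.IsLocallyConstructible {s : S |
      IsIso (pullback.lift (pullback.fst (f ≫ g) (S.fromSpecResidueField s) ≫ f) (pullback.snd (f ≫ g) (S.fromSpecResidueField s))
          ((Category.assoc _ _ _).trans pullback.condition) :
        pullback (f ≫ g) (S.fromSpecResidueField s) ⟶ pullback g (S.fromSpecResidueField s))} := by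
  have h1 := Groth.Agent.H29.ConsMorD.isLocallyConstructible_locusMor
    Groth.Agent.H29.OpenImmCons.isConsMor_isOpenImmersion f g
  have h2 := Groth.Agent.H17.isLocallyConstructible_setOf_fibreMap_surjective f g
  have h3 := h1.inter h2
  convert h3 using 1
  ext s
  constructor
  · intro h
    have : IsIso (MoreMor.fiberMap f g s) := h
    refine ⟨(inferInstance : IsOpenImmersion (MoreMor.fiberMap f g s)), ?_⟩
    exact (inferInstance : Surjective (MoreMor.fiberMap f g s)).1
  · rintro ⟨h4, h5⟩
    have h4' : IsOpenImmersion (MoreMor.fiberMap f g s) := h4
    have h5' : Function.Surjective (MoreMor.fiberMap f g s).base := h5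
    change IsIso (MoreMor.fiberMap f g s)
    rw [isIso_iff_isOpenImmersion_and_epi_base]
    exact ⟨h4', (TopCat.epi_iff_surjective _).mpr h5'⟩

end Groth.Agent.S2575
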