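import Groth.Statements.S2596
import Groth.Agent.H22.CompLift
import Groth.Agent.H22.GenPts

set_option autoImplicit false
open CategoryTheory AlgebraicGeometry
universe u
open EGA43

namespace Groth.Agent.S2596

open CategoryTheory.Limits in
/-- Let Y be locally Noetherian, f : X ⟶ Y separated and of finite type, and y a point of Y. Suppose
that for every discrete valuation ring A with fraction field K and every morphism g : Spec A ⟶ Y
sending the closed point to y, every K-point σ of X ×_Y Spec A lying over the generic point Spec K ⟶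
Spec A extends to a section of X ×_Y Spec A ⟶ Spec A. Then f is proper over some open neighbourhood
of y. -/
theorem result {X Y : Scheme.{u}} [IsLocallyNoetherian Y]
    (f : X ⟶ Y) [IsSeparated f] [LocallyOfFiniteType f] [QuasiCompact f] (y : Y)
    (h : ∀ (A : Type u) [CommRing A] [IsDomain A] [IsDiscreteValuationRing A]
      (g : Spec (CommRingCat.of A) ⟶ Y), g.base (IsLocalRing.closedPoint A) = y →
      ∀ σ : Spec (CommRingCat.of (FractionRing A)) ⟶ pullback f g,
        σ ≫ pullback.snd f g = Spec.map (CommRingCat.ofHom (algebraMap A (FractionRing A))) →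
        ∃ s : Spec (CommRingCat.of A) ⟶ pullback f g, s ≫ pullback.snd f g = 𝟙 _ ∧
          Spec.map (CommRingCat.ofHom (algebraMap A (FractionRing A))) ≫ s = σ) :
    ∃ U : Y.Opens, y ∈ U ∧ IsProper (f ∣_ U) := by
  classical
  have hLift : ∀ η : X, Groth.Agent.H22.CompLift.LiftHyp f η y := by
    intro η K _ R hR a t ha hbij w ht
    let e : FractionRing R ≃ₐ[R] K := FractionRing.algEquiv R K
    have he1 : CommRingCat.ofHom R.subtype ≫ CommRingCat.ofHom (e.symm : K →+* FractionRing R) =
        CommRingCat.ofHom (algebraMap R (FractionRing R)) := by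
      ext r
      exact e.symm.commutes r
    have he2 : CommRingCat.ofHom (algebraMap R (FractionRing R)) ≫
        CommRingCat.ofHom (e : FractionRing R →+* K) = CommRingCat.ofHom R.subtype := by
      ext r
      exact e.commutes r
    have he3 : CommRingCat.ofHom (e.symm : K →+* FractionRing R) ≫
        CommRingCat.ofHom (e : FractionRing R →+* K) = 𝟙 _ := by
      ext r
      exact e.apply_symm_apply r
    have hcond : (Spec.map (CommRingCat.ofHom (e.symm : K →+* FractionRing R)) ≫ a) ≫ f =
        Spec.map (CommRingCat.ofHom (algebraMap R (FractionRing R))) ≫ t := by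
      rw [Category.assoc, w, ← Category.assoc, ← Spec.map_comp, he1]
    let σ : Spec (CommRingCat.of (FractionRing R)) ⟶ pullback f t :=
      pullback.lift (Spec.map (CommRingCat.ofHom (e.symm : K →+* FractionRing R)) ≫ a)
        (Spec.map (CommRingCat.ofHom (algebraMap R (FractionRing R)))) hcond
    obtain ⟨s, hs1, hs2⟩ := h R t ht σ (pullback.lift_snd _ _ _)
    refine ⟨s ≫ pullback.fst f t, ?_, ?_⟩
    · rw [Category.assoc, pullback.condition, ← Category.assoc, hs1, Category.id_comp]
    · rw [← he2, Spec.map_comp, Category.assoc, ← Category.assoc (Spec.map _) s, hs2,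
        pullback.lift_fst, ← Category.assoc, ← Spec.map_comp, he3, Spec.map_id, Category.id_comp]
  obtain ⟨_, ⟨V, hV, rfl⟩, hyV, -⟩ := Y.isBasis_affineOpens.exists_subset_of_mem_open
    (Set.mem_univ y) isOpen_univ
  have hX : IsLocallyNoetherian X := LocallyOfFiniteType.isLocallyNoetherian f
  have hcpt : CompactSpace ↥(f ⁻¹ᵁ V).toScheme :=
    isCompact_iff_compactSpace.mp (QuasiCompact.isCompact_preimage (f := f) _ V.isOpen hV.isCompact)
  have hN : IsNoetherian (f ⁻¹ᵁ V).toScheme := {}
  obtain ⟨E', hE'fin, -, hE'cov⟩ := Groth.Agent.H22.GenPts.exists_finite_generic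
    (α := ↥(f ⁻¹ᵁ V).toScheme) (C := Set.univ) isClosed_univ
  obtain ⟨U₁, hyU₁, hU₁⟩ := Groth.Agent.H22.CompLift.exists_open_lift_of_finite f y
    ((f ⁻¹ᵁ V).ι '' E') (hE'fin.image _) (fun η _ => hLift η)
  refine ⟨V ⊓ U₁, ⟨hyV, hyU₁⟩, ?_⟩
  have hUC : UniversallyClosed (f ∣_ (V ⊓ U₁)) := by
    refine Groth.Agent.H22.CompLift.universallyClosed_restrict_of_liftsOver f (V ⊓ U₁) ?_
      (hU₁.mono_open inf_le_right)
    intro x hx
    have hxV : x ∈ f ⁻¹ᵁ V := hx.1
    obtain ⟨η', hη', hxη'⟩ := hE'cov ⟨x, hxV⟩ trivial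
    simp only [Set.mem_iUnion]
    refine ⟨(f ⁻¹ᵁ V).ι η', ⟨η', hη', rfl⟩, ?_⟩
    have h1 := image_closure_subset_closure_image (f ⁻¹ᵁ V).ι.continuous
      (Set.mem_image_of_mem _ hxη')
    rwa [Set.image_singleton] at h1
  exact { }


end Groth.Agent.S2596
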