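import Groth.Statements.S4787
import Groth.Agent.H24.LimitProCons

set_option autoImplicit false
universe u
open CategoryTheory AlgebraicGeometry
open Lim8

namespace Groth.Agent.S4787

/-- Let S = lim S_i be a cofiltered limit of schemes with affine transition maps, some stage S_{i₀}
being quasi-compact. For every index let E_i be a pro-constructible and F_i an ind-constructible
subset of S_i such that, for every transition map S_i ⟶ S_j, E_i lies in the preimage of E_j and F_i
contains the preimage of F_j. Put E = ⋂ (preimage of E_i in S) and F = ⋃ (preimage of F_i in S).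
Then E ⊆ F if and only if there is an index i over i₀ such that E_j ⊆ F_j for every j over i. -/
theorem result {I : Type u} [SmallCategory I] [IsCofiltered I]
    (D : I ⥤ Scheme.{u}) (c : Limits.Cone D) (hc : Limits.IsLimit c)
    [∀ (i j : I) (f : i ⟶ j), IsAffineHom (D.map f)] (i₀ : I)
    [CompactSpace (D.obj i₀)] (E F : ∀ i : I, Set (D.obj i))
    (hE : ∀ i, ProCons.IsProConstructible (E i)) (hF : ∀ i, ProCons.IsIndConstructible (F i))
    (hEm : ∀ (i j : I) (φ : i ⟶ j), E i ⊆ ⇑(D.map φ) ⁻¹' E j)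
    (hFm : ∀ (i j : I) (φ : i ⟶ j), ⇑(D.map φ) ⁻¹' F j ⊆ F i) :
    (⋂ i, ⇑(c.π.app i) ⁻¹' E i : Set c.pt) ⊆ (⋃ i, ⇑(c.π.app i) ⁻¹' F i : Set c.pt) ↔
      ∃ (i : I) (_ : i ⟶ i₀), ∀ (j : I) (_ : j ⟶ i), E j ⊆ F j := by
  classical
  have haff : ∀ {i j : I} (f : i ⟶ j), IsAffineHom (D.map f) := fun f => inferInstance
  constructor
  · intro hsub
    have : IsAffineHom (c.π.app i₀) := isAffineHom_π_app D c hc i₀
    have hcptS : CompactSpace c.pt := QuasiCompact.compactSpace_of_compactSpace (c.π.app i₀)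
    let G : I ⊕ I → Set c.pt :=
      Sum.elim (fun j => (c.π.app j).base ⁻¹' E j) (fun k => ((c.π.app k).base ⁻¹' F k)ᶜ)
    have hG : ∀ a, ProCons.IsProConstructible (G a) := by
      rintro (j | k)
      · exact Groth.Agent.H24.isProConstructible_preimage _ (hE j)
      · exact Groth.Agent.H24.isProConstructible_preimage _
          (Groth.Agent.H24.isProConstructible_compl (hF k))
    have hGe : ⋂ a, G a ⊆ (∅ : Set c.pt) := by
      intro s hs
      simp only [Set.mem_iInter] at hs
      have h1 : s ∈ ⋂ i, ⇑(c.π.app i) ⁻¹' E i := Set.mem_iInter.mpr fun j => hs (Sum.inl j)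
      obtain ⟨k, hk⟩ := Set.mem_iUnion.mp (hsub h1)
      exact hs (Sum.inr k) hk
    obtain ⟨J, hJ⟩ := Groth.Agent.H17.exists_finset_of_pro_inter_subset_ind
      (Groth.Agent.H17.goodBasis_scheme c.pt) (E := ∅) Groth.Agent.H24.isIndConstructible_empty
      G hG hGe
    obtain ⟨l, hl⟩ := IsCofiltered.inf_objs_exists (insert i₀ (J.image (Sum.elim id id)))
    obtain ⟨φ₀⟩ : Nonempty (l ⟶ i₀) := hl (Finset.mem_insert_self _ _)
    have hpre : (c.π.app l) ⁻¹' (E l ∩ (F l)ᶜ) = ∅ := by
      rw [← Set.subset_empty_iff]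
      intro s hs
      apply hJ
      simp only [Set.mem_iInter]
      rintro (j | k) ha
      · obtain ⟨ψ⟩ : Nonempty (l ⟶ j) :=
          hl (Finset.mem_insert_of_mem (Finset.mem_image.mpr ⟨_, ha, rfl⟩))
        show c.π.app j s ∈ E j
        rw [← c.w ψ]
        exact hEm l j ψ hs.1
      · obtain ⟨ψ⟩ : Nonempty (l ⟶ k) :=
          hl (Finset.mem_insert_of_mem (Finset.mem_image.mpr ⟨_, ha, rfl⟩))
        show c.π.app k s ∉ F k
        intro hk
        rw [← c.w ψ] at hk
        exact hs.2 (hFm l k ψ hk)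
    have : CompactSpace (D.obj l) := QuasiCompact.compactSpace_of_compactSpace (D.map φ₀)
    have hpro : ProCons.IsProConstructible (E l ∩ (F l)ᶜ) :=
      Groth.Agent.H24.isProConstructible_inter (hE l)
        (Groth.Agent.H24.isProConstructible_compl (hF l))
    obtain ⟨k, f, hf⟩ :=
      Groth.Agent.H24.eventuallyEmpty_of_isProConstructible D c hc hpro hpre
    refine ⟨k, f ≫ φ₀, fun m g => ?_⟩
    intro x hxE
    by_contra hxF
    have hmem : D.map g x ∈ (D.map f) ⁻¹' (E l ∩ (F l)ᶜ) := by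
      have e : (D.map f) (D.map g x) = D.map (g ≫ f) x := by
        rw [D.map_comp]; rfl
      refine ⟨?_, ?_⟩
      · show (D.map f) (D.map g x) ∈ E l
        rw [e]
        exact hEm m l (g ≫ f) hxE
      · show (D.map f) (D.map g x) ∉ F l
        rw [e]
        intro h'
        exact hxF (hFm m l (g ≫ f) h')
    rw [hf] at hmem
    exact hmem
  · rintro ⟨i, φ, h⟩ s hs
    exact Set.mem_iUnion.mpr ⟨i, h i (𝟙 i) (Set.mem_iInter.mp hs i)⟩

end Groth.Agent.S4787
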