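import Groth.Statements.S10895
import Groth.Agent.H54.FlatClosedImm

set_option autoImplicit false
universe u
open CategoryTheory AlgebraicGeometry
open FlatMor

namespace Groth.Agent.S10895

set_option backward.isDefEq.respectTransparency false in
/-- A closed immersion of finite presentation which is flat at a point x is an isomorphism over some
open neighbourhood of the image of x. -/
theorem result {X Y : Scheme.{u}} (f : X ⟶ Y) [IsClosedImmersion f]
    [LocallyOfFinitePresentation f] (x : X) (hflat : (f.stalkMap x).hom.Flat) :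
    ∃ V : Y.Opens, f.base x ∈ V ∧ IsIso (f ∣_ V) := by
  -- the stalk map is injective
  have hinj : Function.Injective (f.stalkMap x).hom :=
    Groth.Agent.H54.injective_of_flat_of_surjective_of_isLocalRing _ (f.stalkMap_surjective x) hflat
  -- affine neighbourhood
  obtain ⟨_, ⟨V, hV, rfl⟩, hyV, -⟩ :=
    Y.isBasis_affineOpens.exists_subset_of_mem_open (Set.mem_univ (f x)) isOpen_univ
  have hU : IsAffineOpen (f ⁻¹ᵁ V) := hV.preimage f
  have hxU : x ∈ f ⁻¹ᵁ V := hyV
  -- the kernel is finitely generated
  have hfp : (f.app V).hom.FinitePresentation := by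
    have := HasRingHomProperty.appLE (P := @LocallyOfFinitePresentation) f inferInstance
      ⟨V, hV⟩ ⟨f ⁻¹ᵁ V, hU⟩ le_rfl
    rwa [Scheme.Hom.appLE_eq_app] at this
  have hsurj : Function.Surjective (f.app V).hom := f.app_surjective V hV
  have hkerfg : (RingHom.ker (f.app V).hom).FG := by
    algebraize [(f.app V).hom]
    have h1 : Algebra.FinitePresentation Γ(Y, V) Γ(Y, V) := inferInstance
    exact Algebra.FinitePresentation.ker_fG_of_surjective (Algebra.ofId Γ(Y, V) Γ(X, f ⁻¹ᵁ V)) hsurj
  -- germs of elements of the kernel vanish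
  letI := Y.presheaf.algebra_section_stalk ⟨f x, hyV⟩
  haveI := hV.isLocalization_stalk ⟨f x, hyV⟩
  have hgerm : ∀ t ∈ RingHom.ker (f.app V).hom,
      algebraMap Γ(Y, V) (Y.presheaf.stalk (f x)) t = 0 := by
    intro t ht
    apply hinj
    show (f.stalkMap x) (Y.presheaf.germ V (f x) hyV t) = (f.stalkMap x).hom 0
    rw [Scheme.Hom.germ_stalkMap_apply, map_zero]
    have : (f.app V) t = 0 := ht
    rw [this, map_zero]
  obtain ⟨b, hbp, hb⟩ := Groth.Agent.H54.exists_notMem_forall_mul_eq_zero_of_fg
    (hV.primeIdealOf ⟨f x, hyV⟩).asIdeal (Y.presheaf.stalk (f x)) _ hkerfg hgerm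
  refine ⟨Y.basicOpen b, ?_, ?_⟩
  · rw [Scheme.mem_basicOpen _ _ _ hyV]
    exact IsLocalization.map_units (M := (hV.primeIdealOf ⟨f x, hyV⟩).asIdeal.primeCompl)
      (Y.presheaf.stalk (f x)) ⟨b, hbp⟩
  · have hWaff : IsAffineOpen (Y.basicOpen b) := hV.basicOpen b
    haveI : IsAffine (Y.basicOpen b).toScheme := hWaff
    apply IsClosedImmersion.isIso_of_injective_of_isAffine
    change Function.Injective (Scheme.Hom.appTop (f ∣_ Y.basicOpen b)).hom
    rw [morphismRestrict_appTop, CommRingCat.hom_comp,
      RingHom.injective_respectsIso.cancel_right_isIso]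
    change Function.Injective (Scheme.Hom.app f ((Y.basicOpen b).ι ''ᵁ ⊤)).hom
    rw [Scheme.Opens.ι_image_top]
    rw [hV.app_basicOpen_eq_away_map f hU, CommRingCat.hom_comp,
      RingHom.injective_respectsIso.cancel_right_isIso]
    exact @Groth.Agent.H54.away_map_injective _ _ _ _ (f.app V).hom b _ _ _ _ (_) (_)
      (hV.isLocalization_basicOpen b) (hU.isLocalization_basicOpen (f.app V b))
      (fun t ht => hb t ht)

end Groth.Agent.S10895
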