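import Groth.Statements.S16763
import Mathlib
import Groth.Agent.H25.FibreSmoothPt

set_option autoImplicit false
universe u
open Unram17

namespace Groth.Agent.S16763

open AlgebraicGeometry CategoryTheory CategoryTheory.Limits in
/-- Let g : Y → S and h : X → S be locally of finite presentation, f : X → Y an S-morphism (f ≫ g = h),
and x a point of X with image s = h(x) such that h is flat at x. Then f is smooth at x (smooth on an
open neighbourhood of x) if and only if the induced morphism of fibres X_s → Y_s is smooth at the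
point of X_s lying over x. -/
theorem result {X Y S : Scheme.{u}} (g : Y ⟶ S) (h : X ⟶ S)
    [LocallyOfFinitePresentation g] [LocallyOfFinitePresentation h] (f : X ⟶ Y) (w : f ≫ g = h)
    (x : ↥X) (hflat : (h.stalkMap x).hom.Flat)
    (x' : ↥(h.fiber (h x))) (hx' : (h.fiberι (h x)) x' = x) :
    (∃ U : X.Opens, x ∈ U ∧ Smooth (U.ι ≫ f)) ↔
      ∃ V : (h.fiber (h x)).Opens, x' ∈ V ∧ Smooth (V.ι ≫ CohIII.fiberMapOver f h g w (h x)) := by
  have hP := Groth.Agent.H25.FibreMap.isPullback_fiberMapOver f h g w (h x)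
  constructor
  · rintro ⟨U, hU, hUs⟩
    refine ⟨(h.fiberι (h x)) ⁻¹ᵁ U, ?_, ?_⟩
    · change (h.fiberι (h x)) x' ∈ U
      rw [hx']
      exact hU
    · have h1 : IsPullback ((h.fiberι (h x)) ∣_ U) ((h.fiberι (h x)) ⁻¹ᵁ U).ι U.ι
          (h.fiberι (h x)) := isPullback_morphismRestrict _ U
      have h2 := h1.paste_vert hP
      exact MorphismProperty.of_isPullback (P := @Smooth) h2 hUs
  · rintro ⟨V, hV, hVs⟩
    subst w
    haveI hlfp : LocallyOfFinitePresentation f := Groth.Agent.H25.EtaleStalk.lfp_of_comp f g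
    have hfl : ((f ≫ g).stalkMap ((f ≫ g).fiberι ((f ≫ g) x) x')).hom.Flat :=
      (Groth.Agent.H25.FibreEtale.flat_stalkMap_congr (f ≫ g) hx').mpr hflat
    haveI : LocallyOfFinitePresentation
        (CohIII.fiberMapOver f (f ≫ g) g rfl ((f ≫ g) x)) :=
      MorphismProperty.of_isPullback (P := @LocallyOfFinitePresentation) hP hlfp
    have hsm' : ((CohIII.fiberMapOver f (f ≫ g) g rfl ((f ≫ g) x)).stalkMap x').hom.FormallySmooth := by
      have h4 := (V.ι ≫ CohIII.fiberMapOver f (f ≫ g) g rfl ((f ≫ g) x)).smoothLocus_eq_top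
      rw [← Scheme.Hom.preimage_smoothLocus_eq] at h4
      have h5 : (⟨x', hV⟩ : V) ∈ V.ι ⁻¹ᵁ
          (CohIII.fiberMapOver f (f ≫ g) g rfl ((f ≫ g) x)).smoothLocus := by
        rw [h4]; trivial
      exact h5
    have key := Groth.Agent.H25.FibreSmoothScheme.formallySmooth_stalkMap_of_fibre f g
      ((f ≫ g) x) hP x' hfl hsm'
    rw [hx'] at key
    exact ⟨f.smoothLocus, key, Groth.Agent.H25.FibreSmoothPt.smooth_smoothLocus_ι_comp f⟩

end Groth.Agent.S16763
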