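import Groth.Statements.S16764
import Groth.Agent.H25.FibreEtale

set_option autoImplicit false
universe u
open Unram17

namespace Groth.Agent.S16764
open Groth.Agent.H25 Groth.Agent.H25.FibreMap Groth.Agent.H25.FibreEtale

open AlgebraicGeometry CategoryTheory CategoryTheory.Limits in
/-- Let g : Y → S and h : X → S be locally of finite presentation, f : X → Y an S-morphism (f ≫ g = h),
and x a point of X with image s = h(x) such that h is flat at x. Then f is étale at x (étale on an
open neighbourhood of x) if and only if the induced morphism of fibres X_s → Y_s is étale at the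
point of X_s lying over x. -/
theorem result {X Y S : Scheme.{u}} (g : Y ⟶ S) (h : X ⟶ S)
    [LocallyOfFinitePresentation g] [LocallyOfFinitePresentation h] (f : X ⟶ Y) (w : f ≫ g = h)
    (x : ↥X) (hflat : (h.stalkMap x).hom.Flat)
    (x' : ↥(h.fiber (h x))) (hx' : (h.fiberι (h x)) x' = x) :
    (∃ U : X.Opens, x ∈ U ∧ Etale (U.ι ≫ f)) ↔
      ∃ V : (h.fiber (h x)).Opens, x' ∈ V ∧ Etale (V.ι ≫ CohIII.fiberMapOver f h g w (h x)) := by
  have hP := isPullback_fiberMapOver f h g w (h x)
  constructor
  · intro hU
    exact exists_etale_nhd_baseChange hP x' (hx'.symm ▸ hU)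
  · intro hV
    subst w
    have hfl : ((f ≫ g).stalkMap ((f ≫ g).fiberι ((f ≫ g) x) x')).hom.Flat :=
      (flat_stalkMap_congr (f ≫ g) hx').mpr hflat
    have := exists_etale_nhd_of_fibre' f g ((f ≫ g) x) hP x' hfl hV
    rwa [hx'] at this

end Groth.Agent.S16764
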