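import Groth.Statements.S16765
import Groth.Agent.H25.FibreMap
import Groth.Agent.H25.UnramBC
import Groth.Agent.H25.EtaleStalk

set_option autoImplicit false
universe u
open Unram17

namespace Groth.Agent.S16765
open Groth.Agent.H25 Groth.Agent.H25.FibreMap Groth.Agent.H25.UnramBC Groth.Agent.H25.EtaleStalk

open AlgebraicGeometry CategoryTheory CategoryTheory.Limits in
/-- Let g : Y → S and h : X → S be locally of finite presentation, f : X → Y an S-morphism (f ≫ g = h;
in particular f is locally of finite presentation, so unramified amounts to formally unramified),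
and x a point of X with image s = h(x). Then f is unramified at x (formally unramified on an open
neighbourhood of x) if and only if the induced morphism of fibres X_s → Y_s is unramified at the
point of X_s lying over x. No flatness is needed. -/
theorem result {X Y S : Scheme.{u}} (g : Y ⟶ S) (h : X ⟶ S)
    [LocallyOfFinitePresentation g] [LocallyOfFinitePresentation h] (f : X ⟶ Y) (w : f ≫ g = h)
    (x : ↥X)
    (x' : ↥(h.fiber (h x))) (hx' : (h.fiberι (h x)) x' = x) :
    (∃ U : X.Opens, x ∈ U ∧ FormallyUnramified (U.ι ≫ f)) ↔
      ∃ V : (h.fiber (h x)).Opens, x' ∈ V ∧ FormallyUnramified (V.ι ≫ CohIII.fiberMapOver f h g w (h x)) := by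
  have hP := isPullback_fiberMapOver f h g w (h x)
  have hlfp : LocallyOfFinitePresentation f := by
    have : LocallyOfFinitePresentation (f ≫ g) := by rw [w]; infer_instance
    exact lfp_of_comp f g
  have hlft' : LocallyOfFiniteType (CohIII.fiberMapOver f h g w (h x)) :=
    MorphismProperty.of_isPullback hP inferInstance
  rw [exists_formallyUnramified_nhd_iff, exists_formallyUnramified_nhd_iff,
    formallyUnramified_stalkMap_iff_of_isPullback hP x']
  exact formallyUnramified_stalkMap_congr f hx'.symm

end Groth.Agent.S16765
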