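import Mathlib
import Groth.Statements.S7067
import Groth.Agent.H35.RelPCLib

set_option autoImplicit false
universe u
attribute [local instance] HasDerivedCategory.standard
open MoreMor

namespace Groth.Agent.S7067

/-- A finite type homomorphism of commutative rings A → B with A Noetherian is pseudo-coherent: for some
presentation of B as a quotient of a polynomial ring A[x_1, …, x_n], B is a pseudo-coherent module
over that polynomial ring. -/
theorem result (A B : Type u) [CommRing A] [CommRing B] [Algebra A B]
    [IsNoetherianRing A] [Algebra.FiniteType A B] : MoreMor.IsPseudoCoherentHom A B := by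
  obtain ⟨n, φ, hφ⟩ := Groth.Agent.H35.RelPC.exists_presentation (R := A) (A := B)
  refine ⟨n, φ, hφ, ?_⟩
  let _ := φ.toRingHom.toAlgebra
  have hfin : Module.Finite (MvPolynomial (Fin n) A) B :=
    Module.Finite.of_surjective (Algebra.linearMap (MvPolynomial (Fin n) A) B) hφ
  change DRing.IsPseudoCoherent' (MvPolynomial (Fin n) A) (Dual.inD (MvPolynomial (Fin n) A) B)
  rw [Groth.Agent.H28.PCohRing.isPseudoCoherent'_iff]
  intro m
  exact Groth.Agent.H28.PCohRing.isPC_single_of_finite_of_noetherian _
    (ModuleCat.of (MvPolynomial (Fin n) A) B) hfin m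

end Groth.Agent.S7067
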