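import Groth.Statements.S9838
import Groth.Agent.H71.QCoh.PushFT

set_option autoImplicit false
open CategoryTheory CategoryTheory.Limits AlgebraicGeometry Opposite
universe u
open Desc

namespace Groth.Agent.S9838

/-- Let f : X ⟶ Y be a finite morphism of schemes and F a quasi-coherent O_X-module. The pushforward
f_*F is of finite type as an O_Y-module exactly when F itself is of finite type as an O_X-module. -/
theorem result {X Y : Scheme.{u}} (f : X ⟶ Y) [IsFinite f]
    (F : X.Modules) [F.IsQuasicoherent] :
    SheafOfModules.IsFiniteType (R := X.ringCatSheaf) F ↔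
      SheafOfModules.IsFiniteType (R := Y.ringCatSheaf) ((Scheme.Modules.pushforward f).obj F) := by
  haveI : ((Scheme.Modules.pushforward f).obj F).IsQuasicoherent :=
    Groth.Agent.H8.isQuasicoherent_pushforward_of_isAffineHom f F
  constructor
  · intro hF
    haveI : SheafOfModules.IsFiniteType (R := X.ringCatSheaf) F := hF
    apply Groth.Agent.H71.QCoh.isFiniteType_of_finite_sections
    intro V
    rw [Groth.Agent.H71.QCoh.finite_sections_pushforward_iff f F V.1 (IsFinite.finite_app f V.1 V.2)]
    exact Groth.Agent.H44.finite_sections_of_isFiniteType F (V.2.preimage f)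
  · intro hG
    haveI : SheafOfModules.IsFiniteType (R := Y.ringCatSheaf)
      ((Scheme.Modules.pushforward f).obj F) := hG
    refine Groth.Agent.H71.QCoh.isFiniteType_of_finite_sections_cover F
      (fun V : Y.affineOpens => f ⁻¹ᵁ V.1)
      (TopologicalSpace.IsOpenCover.comap (iSup_affineOpens_eq_top Y) f.base.hom)
      (fun V => V.2.preimage f) (fun V => ?_)
    exact (Groth.Agent.H71.QCoh.finite_sections_pushforward_iff f F V.1
      (IsFinite.finite_app f V.1 V.2)).1
      (Groth.Agent.H44.finite_sections_of_isFiniteType ((Scheme.Modules.pushforward f).obj F) V.2)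

end Groth.Agent.S9838
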