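import Groth.Statements.S9515
import Groth.Agent.Lead.Coh.SubRange
import Groth.Agent.H47.IdealPowKill
import Groth.Agent.H33.Supp.Basic
import Groth.Agent.H12.ExtCases
import Groth.Agent.H12.CohOpen

set_option autoImplicit false
set_option linter.style.haveILetI false
universe u
open CategoryTheory CategoryTheory.Limits AlgebraicGeometry
attribute [local instance] HasDerivedCategory.standard
open Coherent

namespace Groth.Agent.S9515

/-- a morphism of quasi-coherent modules that is injective on sections over an affine cover is a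
monomorphism -/
theorem mono_of_app_injective_cover {X : Scheme.{u}} {ι : Type*} (𝒰 : ι → X.Opens)
    (hcov : ∀ x : X, ∃ i, x ∈ 𝒰 i) (haff : ∀ i, IsAffineOpen (𝒰 i)) {A B : X.Modules}
    [A.IsQuasicoherent] [B.IsQuasicoherent] (φ : A ⟶ B)
    (h : ∀ i, Function.Injective (φ.app (𝒰 i))) : Mono φ := by
  haveI : (kernel φ).IsQuasicoherent := Groth.Agent.H12.QCohAbelian.isQuasicoherent_kernel φ
  have h0 : kernel.ι φ = 0 := by
    refine Groth.Agent.Lead.SubRange.eq_zero_of_app_cover 𝒰 hcov haff _ (fun i s => ?_)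
    apply h i
    rw [map_zero]
    have h2 := congrArg (fun ψ => Scheme.Modules.Hom.app ψ (𝒰 i)) (kernel.condition φ)
    simp only [Scheme.Modules.Hom.comp_app] at h2
    have h3 := ConcreteCategory.congr_hom h2 s
    rw [ConcreteCategory.comp_apply] at h3
    exact h3
  exact Preadditive.mono_of_kernel_zero h0

/-- a coherent module vanishing on the complement of `V(I)` is killed by a power of `I` -/
theorem exists_pow_kill {X : Scheme.{u}} [IsNoetherian X] (Q : X.Modules) [Q.IsQuasicoherent]
    [SheafOfModules.IsFiniteType (R := X.ringCatSheaf) Q] (I : X.IdealSheafData)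
    (U : X.Opens) (hU : (U : Set X) = (I.support : Set X)ᶜ)
    (hz : IsZero ((Scheme.Modules.restrictFunctor U.ι).obj Q)) :
    ∃ k : ℕ, ∀ (V : X.affineOpens) (a : Γ(X, V.1)), a ∈ I.ideal V ^ k →
      ∀ s : Γ(Q, V.1), a • s = 0 := by
  have hsupp : CohB1.support Q ⊆ (I.support : Set X) := by
    intro x hx
    by_contra hxI
    have hxU : x ∈ U := by
      have : x ∈ (U : Set X) := by rw [hU]; exact hxI
      exact this
    exact hx (Groth.Agent.H33.Supp.subsingleton_stalk_of_isZero_restrictOpen _ U hz hxU)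
  exact Groth.Agent.H47.IdealPowKill.main X Q I hsupp

/-- Let X be a Noetherian scheme, F a quasi-coherent O_X-module, G a coherent O_X-module and I a
quasi-coherent sheaf of ideals, with U the open complement of the closed subset cut out by I. For
every morphism φ : G|_U → F|_U there are an n ≥ 0 and a morphism ψ : I^n G → F whose restriction to
U is the restriction of the inclusion I^n G → G followed by φ. (Here I^n G ⊆ G is the submodule
sheaf Dual3.idealMul (I^n) G.) -/
theorem result (X : Scheme.{u}) [IsNoetherian X] (F G : X.Modules)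
    (hF : Coh.IsQCoh F) (hG : Coh.IsCoh G) (I : X.IdealSheafData)
    (U : X.Opens) (hU : (U : Set X) = (I.support : Set X)ᶜ)
    (φ : (Scheme.Modules.restrictFunctor U.ι).obj G ⟶
      (Scheme.Modules.restrictFunctor U.ι).obj F) :
    ∃ (n : ℕ) (ψ : (Dual3.idealMul (I ^ n)).obj G ⟶ F),
      (Scheme.Modules.restrictFunctor U.ι).map ψ =
        (Scheme.Modules.restrictFunctor U.ι).map (Dual3.idealMulι (I ^ n) G) ≫ φ := by
  classical
  obtain ⟨hGq, hGf⟩ := hG
  haveI : F.IsQuasicoherent := hF
  haveI : G.IsQuasicoherent := hGq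
  haveI : SheafOfModules.IsFiniteType (R := X.ringCatSheaf) G := hGf
  haveI hPq : (F ⊞ G).IsQuasicoherent := Groth.Agent.H12.QCohAbelian.isQuasicoherent_biprod F G
  -- the graph of `φ`
  let γ : (Scheme.Modules.restrictFunctor U.ι).obj G ⟶
      (Scheme.Modules.restrictFunctor U.ι).obj (F ⊞ G) :=
    φ ≫ (Scheme.Modules.restrictFunctor U.ι).map biprod.inl +
      (Scheme.Modules.restrictFunctor U.ι).map biprod.inr
  have hγ1 : γ ≫ (Scheme.Modules.restrictFunctor U.ι).map biprod.fst = φ := by
    simp only [γ, Preadditive.add_comp, Category.assoc, ← Functor.map_comp, biprod.inl_fst,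
      biprod.inr_fst, Functor.map_zero, add_zero]
    rw [CategoryTheory.Functor.map_id, Category.comp_id]
  have hγ2 : γ ≫ (Scheme.Modules.restrictFunctor U.ι).map biprod.snd = 𝟙 _ := by
    simp only [γ, Preadditive.add_comp, Category.assoc, ← Functor.map_comp, biprod.inl_snd,
      biprod.inr_snd, Functor.map_zero, comp_zero, zero_add]
    exact CategoryTheory.Functor.map_id _ _
  haveI : Mono γ := mono_of_mono_fac hγ2
  have hX : ∀ x : X, ∃ V : X.Opens, x ∈ V ∧ TopologicalSpace.NoetherianSpace (V : Set X) :=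
    fun x => ⟨⊤, trivial, inferInstance⟩
  haveI : ((Scheme.Modules.restrictFunctor U.ι).obj G).IsQuasicoherent := inferInstance
  have hRGf : SheafOfModules.IsFiniteType (R := (U : Scheme.{u}).ringCatSheaf)
      ((Scheme.Modules.restrictFunctor U.ι).obj G) :=
    Groth.Agent.H12.CohOpen.isFiniteType_restrict U.ι G hGf
  obtain ⟨P', i', e, hmono, hP'q, hP'f, he⟩ :=
    Groth.Agent.H12.ExtCases.exists_ft_extension_of_locallyNoetherian hX U (F ⊞ G)
      ((Scheme.Modules.restrictFunctor U.ι).obj G) γ hRGf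
  haveI : Mono i' := hmono
  haveI : P'.IsQuasicoherent := hP'q
  haveI : SheafOfModules.IsFiniteType (R := X.ringCatSheaf) P' := hP'f
  let q₁ : P' ⟶ F := i' ≫ biprod.fst
  let q₂ : P' ⟶ G := i' ≫ biprod.snd
  have hq₂ : (Scheme.Modules.restrictFunctor U.ι).map q₂ = e.hom := by
    simp only [q₂, Functor.map_comp]
    rw [← he, Category.assoc, hγ2, Category.comp_id]
  have hq₁ : (Scheme.Modules.restrictFunctor U.ι).map q₁ =
      (Scheme.Modules.restrictFunctor U.ι).map q₂ ≫ φ := by
    rw [hq₂]
    simp only [q₁, Functor.map_comp]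
    rw [← he, Category.assoc, hγ1]
  haveI : IsIso ((Scheme.Modules.restrictFunctor U.ι).map q₂) := by
    rw [hq₂]; infer_instance
  -- the kernel of `q₂` is killed by a power of `I`
  haveI hTq : (kernel q₂).IsQuasicoherent :=
    Groth.Agent.H12.QCohAbelian.isQuasicoherent_kernel q₂
  haveI hTf : SheafOfModules.IsFiniteType (R := X.ringCatSheaf) (kernel q₂) :=
    @Groth.Agent.H71.QCoh.isFiniteType_of_mono X _ (kernel q₂) P' hTq _ _ (kernel.ι q₂) _
  have hTz : IsZero ((Scheme.Modules.restrictFunctor U.ι).obj (kernel q₂)) := by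
    have h1 : (Scheme.Modules.restrictFunctor U.ι).map (kernel.ι q₂) ≫
        (Scheme.Modules.restrictFunctor U.ι).map q₂ = 0 := by
      rw [← Functor.map_comp, kernel.condition, Functor.map_zero]
    have h2 : (Scheme.Modules.restrictFunctor U.ι).map (kernel.ι q₂) = 0 := by
      rw [← cancel_mono ((Scheme.Modules.restrictFunctor U.ι).map q₂), h1, zero_comp]
    haveI : Mono ((Scheme.Modules.restrictFunctor U.ι).map (kernel.ι q₂)) := inferInstance
    exact IsZero.of_mono_eq_zero _ h2
  obtain ⟨k, hk⟩ := @exists_pow_kill X _ (kernel q₂) hTq hTf I U hU hTz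
  have hT : ∀ (V : X.affineOpens) (a : Γ(X, V.1)), a ∈ I.ideal V ^ k →
      ∀ s : Γ(P', V.1), q₂.app V.1 s = 0 → a • s = 0 := by
    intro V a ha s hs
    have hex : (ShortComplex.mk (kernel.ι q₂) q₂ (kernel.condition _)).Exact :=
      ShortComplex.exact_kernel _
    haveI : Mono (ShortComplex.mk (kernel.ι q₂) q₂ (kernel.condition _)).f :=
      (inferInstance : Mono (kernel.ι q₂))
    obtain ⟨t, ht⟩ := Groth.Agent.H12.QCohAbelian.app_exact_of_exact_of_mono _ hex V.1 s hs
    have ht' : (kernel.ι q₂).app V.1 t = s := ht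
    rw [← ht', ← Scheme.Modules.Hom.app_smul, hk V a ha t, map_zero]
  -- the cokernel of `q₂` is killed by a power of `I`
  let e' : P' ⟶ Abelian.image q₂ := Abelian.factorThruImage q₂
  let m' : Abelian.image q₂ ⟶ G := Abelian.image.ι q₂
  have hem : e' ≫ m' = q₂ := Abelian.image.fac q₂
  haveI hQq : (Abelian.image q₂).IsQuasicoherent :=
    Groth.Agent.H12.QCohAbelian.isQuasicoherent_image q₂
  haveI : Mono m' := (inferInstance : Mono (Abelian.image.ι q₂))
  haveI : Epi e' := (inferInstance : Epi (Abelian.factorThruImage q₂))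
  haveI hCq : (cokernel m').IsQuasicoherent :=
    Groth.Agent.H12.QCohAbelian.isQuasicoherent_cokernel m'
  haveI hCf : SheafOfModules.IsFiniteType (R := X.ringCatSheaf) (cokernel m') :=
    @Groth.Agent.H71.QCoh.isFiniteType_of_epi X G (cokernel m') _ hCq _ (cokernel.π m') _
  have hCz : IsZero ((Scheme.Modules.restrictFunctor U.ι).obj (cokernel m')) := by
    haveI : Epi ((Scheme.Modules.restrictFunctor U.ι).map m') := by
      have h0 : (Scheme.Modules.restrictFunctor U.ι).map e' ≫
          (Scheme.Modules.restrictFunctor U.ι).map m' =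
            (Scheme.Modules.restrictFunctor U.ι).map q₂ := by
        rw [← Functor.map_comp, hem]
      haveI : Epi ((Scheme.Modules.restrictFunctor U.ι).map e' ≫
          (Scheme.Modules.restrictFunctor U.ι).map m') := by
        rw [h0]; infer_instance
      exact epi_of_epi ((Scheme.Modules.restrictFunctor U.ι).map e') _
    have h1 : (Scheme.Modules.restrictFunctor U.ι).map m' ≫
        (Scheme.Modules.restrictFunctor U.ι).map (cokernel.π m') = 0 := by
      rw [← Functor.map_comp, cokernel.condition, Functor.map_zero]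
    have h2 : (Scheme.Modules.restrictFunctor U.ι).map (cokernel.π m') = 0 := by
      rw [← cancel_epi ((Scheme.Modules.restrictFunctor U.ι).map m'), h1, comp_zero]
    haveI : Epi ((Scheme.Modules.restrictFunctor U.ι).map (cokernel.π m')) := inferInstance
    exact IsZero.of_epi_eq_zero _ h2
  obtain ⟨l, hl⟩ := @exists_pow_kill X _ (cokernel m') hCq hCf I U hU hCz
  have hC : ∀ (V : X.affineOpens) (a : Γ(X, V.1)), a ∈ I.ideal V ^ l →
      ∀ x : Γ(G, V.1), a • x ∈ Groth.Agent.Lead.SubRange.rng q₂ V.1 := by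
    intro V a ha x
    have hex : (ShortComplex.mk m' (cokernel.π m') (cokernel.condition _)).Exact :=
      ShortComplex.exact_cokernel _
    haveI : Mono (ShortComplex.mk m' (cokernel.π m') (cokernel.condition _)).f :=
      (inferInstance : Mono m')
    obtain ⟨y, hy⟩ := Groth.Agent.H12.QCohAbelian.app_exact_of_exact_of_mono _ hex V.1 (a • x) (by
      change (cokernel.π m').app V.1 (a • x) = 0
      rw [Scheme.Modules.Hom.app_smul, hl V a ha])
    have hy' : m'.app V.1 y = a • x := hy
    obtain ⟨z, hz⟩ := Groth.Agent.H71.QCoh.app_surjective_of_epi e' V.2 y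
    refine ⟨z, ?_⟩
    change q₂.app V.1 z = a • x
    rw [← hem, Scheme.Modules.Hom.comp_app, ConcreteCategory.comp_apply, hz, hy']
  -- finite affine cover
  obtain ⟨t, ht⟩ := isCompact_univ.elim_finite_subcover (fun V : X.affineOpens => (V.1 : Set X))
    (fun V => V.1.isOpen) (by
      intro x _
      obtain ⟨V, hV, hxV, -⟩ := exists_isAffineOpen_mem_and_subset
        (show x ∈ (⊤ : X.Opens) from trivial)
      exact Set.mem_iUnion.2 ⟨⟨V, hV⟩, hxV⟩)
  have hcov : ∀ x : X, ∃ V : {V : X.affineOpens // V ∈ t}, x ∈ V.1.1 := by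
    intro x
    have hx := ht (Set.mem_univ x)
    simp only [Set.mem_iUnion] at hx
    obtain ⟨V, hVt, hxV⟩ := hx
    exact ⟨⟨V, hVt⟩, hxV⟩
  -- Artin–Rees constants
  have hAR : ∀ V : X.affineOpens, ∃ c : ℕ, ∀ n ≥ c,
      (I.ideal V) ^ n • ⊤ ⊓ LinearMap.ker (Groth.Agent.Lead.SubRange.appLin q₂ V.1) =
        (I.ideal V) ^ (n - c) •
          ((I.ideal V) ^ c • ⊤ ⊓ LinearMap.ker (Groth.Agent.Lead.SubRange.appLin q₂ V.1)) := by
    intro V
    haveI : IsNoetherianRing Γ(X, V.1) := IsLocallyNoetherian.component_noetherian V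
    haveI : Module.Finite Γ(X, V.1) Γ(P', V.1) :=
      Groth.Agent.H44.finite_sections_of_isFiniteType P' V.2
    exact Ideal.exists_pow_inf_eq_pow_smul (I.ideal V)
      (LinearMap.ker (Groth.Agent.Lead.SubRange.appLin q₂ V.1))
  choose c hc using hAR
  set m := t.sup c + k with hm
  have hinj : ∀ V ∈ t, ∀ s ∈ (I.ideal V) ^ m • (⊤ : Submodule Γ(X, V.1) Γ(P', V.1)),
      q₂.app V.1 s = 0 → s = 0 := by
    intro V hV s hs hqs
    have hcV : c V ≤ t.sup c := Finset.le_sup hV
    have h1 : s ∈ (I.ideal V) ^ m • ⊤ ⊓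
        LinearMap.ker (Groth.Agent.Lead.SubRange.appLin q₂ V.1) := ⟨hs, hqs⟩
    rw [hc V m (by omega)] at h1
    have h2 : (I.ideal V) ^ (m - c V) • ((I.ideal V) ^ c V • ⊤ ⊓
        LinearMap.ker (Groth.Agent.Lead.SubRange.appLin q₂ V.1)) ≤ ⊥ := by
      rw [Submodule.smul_le]
      intro a ha x hx
      rw [Submodule.mem_bot]
      exact hT V a (Ideal.pow_le_pow_right (by omega) ha) x hx.2
    exact (Submodule.mem_bot _).1 (h2 h1)
  haveI hIq : ∀ j : ℕ, ((Dual3.idealMul (I ^ j)).obj P').IsQuasicoherent :=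
    fun j => Groth.Agent.Lead.SubRange.isQuasicoherent_idealMul _ P'
  haveI hIGq : ∀ j : ℕ, ((Dual3.idealMul (I ^ j)).obj G).IsQuasicoherent :=
    fun j => Groth.Agent.Lead.SubRange.isQuasicoherent_idealMul _ G
  let μ : (Dual3.idealMul (I ^ m)).obj P' ⟶ G := Dual3.idealMulι (I ^ m) P' ≫ q₂
  haveI : Mono μ := by
    refine mono_of_app_injective_cover (fun V : {V : X.affineOpens // V ∈ t} => V.1.1) hcov
      (fun V => V.1.2) μ (fun V => ?_)
    rw [injective_iff_map_eq_zero]
    intro s hs
    have h1 : (Dual3.idealMulι (I ^ m) P').app V.1.1 s ∈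
        (I.ideal V.1) ^ m • (⊤ : Submodule Γ(X, V.1.1) Γ(P', V.1.1)) := by
      have h0 : (Dual3.idealMulι (I ^ m) P').app V.1.1 s ∈
          Groth.Agent.Lead.SubRange.rng (Dual3.idealMulι (I ^ m) P') V.1.1 := ⟨s, rfl⟩
      rw [Groth.Agent.Lead.SubRange.rng_idealMulι _ V.1.2] at h0
      exact h0
    have h2 := hinj V.1 V.2 _ h1 (by
      have h3 : μ.app V.1.1 s = 0 := hs
      rw [Scheme.Modules.Hom.comp_app, ConcreteCategory.comp_apply] at h3
      exact h3)
    apply Groth.Agent.Lead.IdealMul.idealMulι_app_injective (I ^ m) P' V.1.1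
    rw [h2, map_zero]
  obtain ⟨u, hu⟩ := Groth.Agent.Lead.SubRange.exists_fac_of_rng_le_cover
    (fun V : {V : X.affineOpens // V ∈ t} => V.1.1) hcov (fun V => V.1.2)
    (Dual3.idealMulι (I ^ (m + l)) G) μ (fun V => by
      rw [Groth.Agent.Lead.SubRange.rng_idealMulι _ V.1.2,
        Groth.Agent.Lead.SubRange.rng_idealMulι_comp _ _ V.1.2]
      change (I.ideal V.1) ^ (m + l) • ⊤ ≤
        (I.ideal V.1) ^ m • Groth.Agent.Lead.SubRange.rng q₂ V.1.1
      rw [pow_add, mul_smul]
      refine Submodule.smul_mono le_rfl ?_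
      rw [Submodule.smul_le]
      intro a ha x _
      exact hC V.1 a ha x)
  refine ⟨m + l, u ≫ Dual3.idealMulι (I ^ m) P' ≫ q₁, ?_⟩
  rw [← hu]
  simp only [μ, Functor.map_comp, Category.assoc]
  rw [hq₁]

end Groth.Agent.S9515
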