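import Groth.Statements.S0027
import Groth.Agent.Lead.Coh.Devissage
import Groth.Agent.Lead.Coh.SigmaSplit
import Groth.Agent.H22.CompLift
import Groth.Agent.H33.Supp.Basic
import Groth.Agent.S9521

set_option autoImplicit false
universe u
open Coherent

namespace Groth.Agent.S0027

open AlgebraicGeometry CategoryTheory CategoryTheory.Limits TopologicalSpace in
/-- dévissage from the statement of S9521 (Stacks 01YE) -/
theorem main
    (H9521 : ∀ (X Z : Scheme.{u}) [IsNoetherian X]
      (i : Z ⟶ X) [IsClosedImmersion i] [IsIntegral Z] (F : X.Modules) (_ : Coh.IsCoh F)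
      (_ : ∀ a ∈ IsLocalRing.maximalIdeal (X.presheaf.stalk (i (genericPoint Z))),
        ∀ m : ↑(F.presheaf.stalk (i (genericPoint Z))), a • m = 0),
      ∃ (r : ℕ) (I : Z.Modules) (ι : I ⟶ Coh.structureModule Z)
        (φ : (Coh.push i).obj (∐ fun _ : Fin r => I) ⟶ F),
        Mono ι ∧ Coh.IsCoh I ∧ Mono φ ∧
        ∃ U : X.Opens, i (genericPoint Z) ∈ U ∧
          IsIso ((Scheme.Modules.restrictFunctor U.ι).map φ))
    (X : Scheme.{u}) [IsNoetherian X] [Nonempty X]
    (P : X.Modules → Prop) (hP : ∀ M N : X.Modules, Nonempty (M ≅ N) → P M → P N)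
    (h₁ : ∀ S : ShortComplex X.Modules, S.ShortExact → Coh.IsCoh S.X₁ → Coh.IsCoh S.X₂ →
      Coh.IsCoh S.X₃ → P S.X₁ → P S.X₃ → P S.X₂)
    (h₂ : ∀ (Z : Scheme.{u}) (i : Z ⟶ X), IsClosedImmersion i → IsIntegral Z →
      ∀ (I : Z.Modules) (ι : I ⟶ Coh.structureModule Z), Mono ι → Coh.IsQCoh I →
        P ((Coh.push i).obj I))
    (M : X.Modules) (hM : Coh.IsCoh M) : P M := by
  classical
  -- `P` holds for zero modules
  have h₀ : ∀ M : X.Modules, IsZero M → P M := by
    intro M hMz
    obtain ⟨x⟩ := (inferInstance : Nonempty X)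
    let T : Closeds X := ⟨closure {x}, isClosed_closure⟩
    have hT : IsIrreducible (T : Set X) := isIrreducible_singleton.closure
    haveI hint : IsIntegral (Scheme.IdealSheafData.vanishingIdeal T).subscheme :=
      Groth.Agent.H22.CompLift.isIntegral_subscheme_vanishingIdeal T hT
    let Z := (Scheme.IdealSheafData.vanishingIdeal T).subscheme
    let i : Z ⟶ X := (Scheme.IdealSheafData.vanishingIdeal T).subschemeι
    let I : Z.Modules := kernel (𝟙 (Coh.structureModule Z))
    have hIq : Coh.IsQCoh I := Groth.Agent.H12.QCohAbelian.isQuasicoherent_kernel _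
    have hIz : IsZero I := isZero_kernel_of_mono _
    have h := h₂ Z i inferInstance hint I (kernel.ι _) inferInstance hIq
    have hz : IsZero ((Coh.push i).obj I) := (Scheme.Modules.pushforward i).map_isZero hIz
    exact hP _ _ ⟨hz.iso hMz⟩ h
  refine Groth.Agent.Lead.Devissage.devissage P hP h₀ h₁ ?_ M hM
  intro T hT M hM hs hk IH
  obtain ⟨hMq, hMf⟩ := hM
  haveI : M.IsQuasicoherent := hMq
  haveI : SheafOfModules.IsFiniteType (R := X.ringCatSheaf) M := hMf
  haveI hint : IsIntegral (Scheme.IdealSheafData.vanishingIdeal T).subscheme :=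
    Groth.Agent.H22.CompLift.isIntegral_subscheme_vanishingIdeal T hT
  set Z := (Scheme.IdealSheafData.vanishingIdeal T).subscheme with hZ
  set i : Z ⟶ X := (Scheme.IdealSheafData.vanishingIdeal T).subschemeι with hi
  -- the generic point
  have hgen : closure {hT.genericPoint} = (T : Set X) := by
    have h := hT.isGenericPoint_genericPoint_closure
    rw [T.isClosed.closure_eq] at h
    exact h
  have hξ : i (genericPoint Z) = hT.genericPoint :=
    Groth.Agent.H22.CompLift.subschemeι_genericPoint T _ hgen.symm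
  have hcl : closure {i (genericPoint Z)} = (T : Set X) := by rw [hξ]; exact hgen
  have hann := Groth.Agent.Lead.Devissage.smul_stalk_eq_zero_of_killed T
    (i (genericPoint Z)) hcl M hk
  obtain ⟨r, I, ι, φ, hι, hI, hφ, U, hξU, hiso⟩ := H9521 X Z i M ⟨hMq, hMf⟩ hann
  haveI : Mono φ := hφ
  haveI : Mono ι := hι
  -- the source of `φ` is coherent and satisfies `P`
  have hAcoh : Coh.IsCoh ((Coh.push i).obj (∐ fun _ : Fin r => I)) :=
    Groth.Agent.S0019.result i _ (Groth.Agent.Lead.SigmaSplit.isCoh_pow I hI r)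
  have hPA : P ((Coh.push i).obj (∐ fun _ : Fin r => I)) :=
    Groth.Agent.Lead.SigmaSplit.prop_push_pow i P h₀ h₁ I hI
      (h₂ Z i inferInstance hint I ι hι hI.1) r
  haveI hAq : ((Coh.push i).obj (∐ fun _ : Fin r => I)).IsQuasicoherent := hAcoh.1
  -- the cokernel
  haveI hQq : (cokernel φ).IsQuasicoherent :=
    Groth.Agent.H12.QCohAbelian.isQuasicoherent_cokernel φ
  have hQf : SheafOfModules.IsFiniteType (R := X.ringCatSheaf) (cokernel φ) :=
    @Groth.Agent.H71.QCoh.isFiniteType_of_epi X M (cokernel φ) _ hQq _ (cokernel.π φ) _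
  let S : ShortComplex X.Modules := ShortComplex.mk φ (cokernel.π φ) (cokernel.condition φ)
  have hS : S.ShortExact :=
    { exact := ShortComplex.exact_cokernel φ
      mono_f := hφ
      epi_g := (inferInstance : Epi (cokernel.π φ)) }
  have hsupp : CohB1.support M = CohB1.support ((Coh.push i).obj (∐ fun _ : Fin r => I)) ∪
      CohB1.support (cokernel φ) := Groth.Agent.H71.QCoh.support_eq_union_of_shortExact S hS
  have hsQ : CohB1.support (cokernel φ) ⊆ (T : Set X) :=
    fun x hx => hs (by rw [hsupp]; exact Or.inr hx)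
  -- the cokernel vanishes near the generic point
  have hQz : IsZero ((Scheme.Modules.restrictFunctor U.ι).obj (cokernel φ)) := by
    haveI := hiso
    have h1 : (Scheme.Modules.restrictFunctor U.ι).map φ ≫
        (Scheme.Modules.restrictFunctor U.ι).map (cokernel.π φ) = 0 := by
      rw [← Functor.map_comp, cokernel.condition, Functor.map_zero]
    have h2 : (Scheme.Modules.restrictFunctor U.ι).map (cokernel.π φ) = 0 := by
      rw [← cancel_epi ((Scheme.Modules.restrictFunctor U.ι).map φ), h1, comp_zero]
    haveI : Epi ((Scheme.Modules.restrictFunctor U.ι).map (cokernel.π φ)) := inferInstance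
    exact IsZero.of_epi_eq_zero _ h2
  have hξQ : i (genericPoint Z) ∉ CohB1.support (cokernel φ) := fun hx =>
    hx (Groth.Agent.H33.Supp.subsingleton_stalk_of_isZero_restrictOpen _ U hQz hξU)
  have hclQ : IsClosed (CohB1.support (cokernel φ)) :=
    @Groth.Agent.H71.QCoh.isClosed_support X (cokernel φ) hQq hQf
  have hlt : (⟨CohB1.support (cokernel φ), hclQ⟩ : Closeds X) < T := by
    refine lt_of_le_of_ne hsQ (fun h => hξQ ?_)
    have h' : CohB1.support (cokernel φ) = (T : Set X) :=
      congrArg (fun C : Closeds X => (C : Set X)) h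
    rw [h', ← hcl]
    exact subset_closure rfl
  have hPQ : P (cokernel φ) := IH _ hlt (cokernel φ) ⟨hQq, hQf⟩ (le_refl _)
  exact h₁ S hS hAcoh ⟨hMq, hMf⟩ ⟨hQq, hQf⟩ hPA hPQ

open AlgebraicGeometry CategoryTheory CategoryTheory.Limits in
/-- Let X be a nonempty Noetherian scheme and P an isomorphism-invariant property of O_X-modules such
that (1) in a short exact sequence of coherent modules, P for the two outer terms implies P for the
middle term, and (2) P holds for the direct image of every quasi-coherent ideal sheaf of every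
integral closed subscheme of X. Then P holds for every coherent O_X-module. (Nonemptiness of X is
needed for the zero module; the published statement leaves it implicit.) -/
theorem result (X : Scheme.{u}) [IsNoetherian X] [Nonempty X]
    (P : X.Modules → Prop) (hP : ∀ M N : X.Modules, Nonempty (M ≅ N) → P M → P N)
    (h₁ : ∀ S : ShortComplex X.Modules, S.ShortExact → Coh.IsCoh S.X₁ → Coh.IsCoh S.X₂ →
      Coh.IsCoh S.X₃ → P S.X₁ → P S.X₃ → P S.X₂)
    (h₂ : ∀ (Z : Scheme.{u}) (i : Z ⟶ X), IsClosedImmersion i → IsIntegral Z →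
      ∀ (I : Z.Modules) (ι : I ⟶ Coh.structureModule Z), Mono ι → Coh.IsQCoh I →
        P ((Coh.push i).obj I))
    (M : X.Modules) (hM : Coh.IsCoh M) : P M := by
  exact main (fun X Z _ i _ _ F hF hann => Groth.Agent.S9521.result X Z i F hF hann) X P hP h₁ h₂ M hM

end Groth.Agent.S0027
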