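import Groth.Statements.S0026
import Groth.Agent.S0027
import Groth.Agent.Lead.Coh.ExtFilt
import Groth.Agent.H67.StalkLoc

set_option autoImplicit false
universe u
open Coherent

namespace Groth.Agent.S0026

set_option linter.style.haveILetI false

open AlgebraicGeometry CategoryTheory CategoryTheory.Limits Groth.Agent.Lead.ExtFilt ZeroObject

/-- the class of allowed quotients: direct images of nonzero quasi-coherent ideal sheaves of
integral closed subschemes -/
def Good {X : Scheme.{u}} (Y : X.Modules) : Prop :=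
  ∃ (Z : Scheme.{u}) (i : Z ⟶ X), IsClosedImmersion i ∧ IsIntegral Z ∧
    ∃ (I : Z.Modules) (ι : I ⟶ Coh.structureModule Z), Mono ι ∧ Coh.IsQCoh I ∧ ¬ IsZero I ∧
      Nonempty (Y ≅ (Coh.push i).obj I)

theorem good_iso {X : Scheme.{u}} (Y Y' : X.Modules) (e : Y ≅ Y') (h : Good Y) : Good Y' := by
  obtain ⟨Z, i, hi, hZ, I, ι, hι, hI, hnz, ⟨e'⟩⟩ := h
  exact ⟨Z, i, hi, hZ, I, ι, hι, hI, hnz, ⟨e.symm ≪≫ e'⟩⟩

theorem isCoh_structureModule (X : Scheme.{u}) : Coh.IsCoh (Coh.structureModule X) :=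
  ⟨Groth.Agent.H67.StalkLoc.isQuasicoherent_structureModule X,
    Groth.Agent.H71.QCoh.isFiniteType_of_finite_sections_cover (Coh.structureModule X)
      (fun V : X.affineOpens => (V : X.Opens)) (iSup_affineOpens_eq_top X) (fun V => V.2)
      (fun V => Groth.Agent.H67.StalkLoc.finite_structureModule V.1)⟩

theorem isCoh_iso {X : Scheme.{u}} (M N : X.Modules) (e : M ≅ N) (h : Coh.IsCoh M) :
    Coh.IsCoh N := by
  haveI : M.IsQuasicoherent := h.1
  haveI : N.IsQuasicoherent := Groth.Agent.H12.QCohAbelian.isQuasicoherent_of_iso e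
  exact ⟨inferInstance, Groth.Agent.H12.CohOpen.isFiniteType_of_iso e.symm h.2⟩

theorem isCoh_zero {X : Scheme.{u}} (M : X.Modules) (h : IsZero M) : Coh.IsCoh M := by
  have hq : M.IsQuasicoherent := Groth.Agent.H71.QCoh.isQuasicoherent_of_isZero M h
  have hO := isCoh_structureModule X
  haveI : (Coh.structureModule X).IsQuasicoherent := hO.1
  haveI : SheafOfModules.IsFiniteType (R := X.ringCatSheaf) (Coh.structureModule X) := hO.2
  haveI : Epi (0 : Coh.structureModule X ⟶ M) := h.epi _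
  exact ⟨hq, @Groth.Agent.H71.QCoh.isFiniteType_of_epi X (Coh.structureModule X) M _ hq _
    (0 : Coh.structureModule X ⟶ M) _⟩

theorem isCoh_kernel {X : Scheme.{u}} [IsLocallyNoetherian X] (B E : X.Modules) (q : B ⟶ E)
    (hB : Coh.IsCoh B) (hE : Coh.IsCoh E) : Coh.IsCoh (kernel q) := by
  haveI : B.IsQuasicoherent := hB.1
  haveI : E.IsQuasicoherent := hE.1
  haveI : SheafOfModules.IsFiniteType (R := X.ringCatSheaf) B := hB.2
  have hq : (kernel q).IsQuasicoherent := Groth.Agent.H12.QCohAbelian.isQuasicoherent_kernel q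
  exact ⟨hq, @Groth.Agent.H71.QCoh.isFiniteType_of_mono X _ (kernel q) B hq _ _ (kernel.ι q) _⟩

theorem isCoh_cokernel {X : Scheme.{u}} (D' D : X.Modules) (c : D' ⟶ D)
    (hD' : Coh.IsCoh D') (hD : Coh.IsCoh D) : Coh.IsCoh (cokernel c) := by
  haveI : D'.IsQuasicoherent := hD'.1
  haveI : D.IsQuasicoherent := hD.1
  haveI : SheafOfModules.IsFiniteType (R := X.ringCatSheaf) D := hD.2
  have hq : (cokernel c).IsQuasicoherent := Groth.Agent.H12.QCohAbelian.isQuasicoherent_cokernel c
  exact ⟨hq, @Groth.Agent.H71.QCoh.isFiniteType_of_epi X D (cokernel c) _ hq _ (cokernel.π c) _⟩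

/-- the filtration statement, given the generic structure statement S9521 -/
theorem main
    (H9521 : ∀ (X Z : Scheme.{u}) [IsNoetherian X]
      (i : Z ⟶ X) [IsClosedImmersion i] [IsIntegral Z] (F : X.Modules) (_ : Coh.IsCoh F)
      (_ : ∀ a ∈ IsLocalRing.maximalIdeal (X.presheaf.stalk (i (genericPoint Z))),
        ∀ m : ↑(F.presheaf.stalk (i (genericPoint Z))), a • m = 0),
      ∃ (r : ℕ) (I : Z.Modules) (ι : I ⟶ Coh.structureModule Z)
        (φ : (Coh.push i).obj (∐ fun _ : Fin r => I) ⟶ F),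
        Mono ι ∧ Coh.IsCoh I ∧ Mono φ ∧
        ∃ U : X.Opens, i (genericPoint Z) ∈ U ∧
          IsIso ((Scheme.Modules.restrictFunctor U.ι).map φ))
    (X : Scheme.{u}) [IsNoetherian X] (M : X.Modules) (hM : Coh.IsCoh M) :
    ∃ (m : ℕ) (F : ℕ → X.Modules) (φ : (j : ℕ) → (F j ⟶ F (j + 1))),
      IsZero (F 0) ∧ Nonempty (F m ≅ M) ∧ (∀ j ≤ m, Coh.IsCoh (F j)) ∧ ∀ j < m, Mono (φ j) ∧
        Good (cokernel (φ j)) := by
  classical
  have hgi : ∀ Y Y' : X.Modules, (Y ≅ Y') → Good Y → Good Y' := good_iso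
  have hci : ∀ M N : X.Modules, (M ≅ N) → Coh.IsCoh M → Coh.IsCoh N := isCoh_iso
  have hcz : ∀ M : X.Modules, IsZero M → Coh.IsCoh M := isCoh_zero
  have hQ : Q (C := X.Modules) Coh.IsCoh Good M := by
    by_cases hne : Nonempty X
    · refine Groth.Agent.S0027.main H9521 X (Q (C := X.Modules) Coh.IsCoh Good)
        (fun M N ⟨e⟩ h => Q.of_iso hgi hci e h) ?_ ?_ M hM
      · intro S hS h1 h2 h3 q1 q3
        exact Q.extension hgi hci isCoh_kernel isCoh_cokernel q3 S.f S.g S.zero hS h1 h2 q1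
      · intro Z i hi hZ I ι hι hI
        by_cases hz : IsZero I
        · exact Q.zero _ ((Scheme.Modules.pushforward i).map_isZero hz)
        · haveI := hi
          haveI : IsLocallyNoetherian Z := LocallyOfFiniteType.isLocallyNoetherian i
          have hO := isCoh_structureModule Z
          haveI : (Coh.structureModule Z).IsQuasicoherent := hO.1
          haveI : SheafOfModules.IsFiniteType (R := Z.ringCatSheaf) (Coh.structureModule Z) := hO.2
          haveI : I.IsQuasicoherent := hI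
          haveI := hι
          have hIcoh : Coh.IsCoh I :=
            ⟨hI, @Groth.Agent.H71.QCoh.isFiniteType_of_mono Z _ I (Coh.structureModule Z) hI _ _ ι _⟩
          have hpush : Coh.IsCoh ((Coh.push i).obj I) := Groth.Agent.S0019.result i I hIcoh
          refine Q.ext 0 _ 0 inferInstance (hcz _ (isZero_zero _)) hpush
            (Q.zero _ (isZero_zero _)) ?_
          exact ⟨Z, i, hi, hZ, I, ι, hι, hI, hz, ⟨cokernelZeroIsoTarget⟩⟩
    · refine Q.zero M (Groth.Agent.Lead.Devissage.isZero_of_support_eq_empty M ?_)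
      haveI : IsEmpty X := not_nonempty_iff.mp hne
      exact Set.eq_empty_of_isEmpty _
  exact hQ.exists_asc hgi hcz

/-- On a Noetherian scheme X, every coherent module M admits a finite chain 0 = F_0 → F_1 → … → F_m ≅ M
of monomorphisms between coherent modules such that each quotient F_{j+1}/F_j is isomorphic to the
direct image of a nonzero quasi-coherent ideal sheaf of some integral closed subscheme Z_j → X.
(Filtration written as a chain of monomorphisms up to isomorphism.) -/
theorem result (X : Scheme.{u}) [IsNoetherian X]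
    (M : X.Modules) (hM : Coh.IsCoh M) :
    ∃ (m : ℕ) (F : ℕ → X.Modules) (φ : (j : ℕ) → (F j ⟶ F (j + 1))),
      IsZero (F 0) ∧ Nonempty (F m ≅ M) ∧ (∀ j ≤ m, Coh.IsCoh (F j)) ∧ ∀ j < m, Mono (φ j) ∧
        ∃ (Z : Scheme.{u}) (i : Z ⟶ X), IsClosedImmersion i ∧ IsIntegral Z ∧
          ∃ (I : Z.Modules) (ι : I ⟶ Coh.structureModule Z), Mono ι ∧ Coh.IsQCoh I ∧ ¬ IsZero I ∧
            Nonempty (cokernel (φ j) ≅ (Coh.push i).obj I) := by
  exact main (fun X Z _ i _ _ F hF hann => Groth.Agent.S9521.result X Z i F hF hann) X M hM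

end Groth.Agent.S0026
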