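import Groth.Statements.S13989
import Mathlib.CategoryTheory.Abelian.SerreClass.Localization
import Mathlib.CategoryTheory.Localization.CalculusOfFractions.Fractions
import Mathlib.CategoryTheory.Limits.Preserves.Shapes.Kernels
import Mathlib.CategoryTheory.Abelian.Basic

set_option autoImplicit false
universe v u v' u' v'' u''
open CategoryTheory CategoryTheory.Limits
open CohGab

namespace Groth.Agent.S13989

section Aux

variable {A A' : Type u} [Category.{v} A] [Abelian A] [Category.{v} A'] [Abelian A']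
  (i : A' ⥤ A) [i.Full] [i.Faithful] [PreservesFiniteLimits i] [PreservesFiniteColimits i]
  (J : ObjectProperty A) [J.IsSerreClass] [(J.inverseImage i).IsSerreClass]

/-- Transfer of `isoModSerre` along the exact functor `i`. -/
lemma isoModSerre_inverseImage_iff {M N : A'} (u : M ⟶ N) :
    (J.inverseImage i).isoModSerre u ↔ J.isoModSerre (i.map u) := by
  have h1 : (J.inverseImage i) (kernel u) ↔ J (kernel (i.map u)) :=
    J.prop_iff_of_iso (PreservesKernel.iso i u)
  have h2 : (J.inverseImage i) (cokernel u) ↔ J (cokernel (i.map u)) :=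
    J.prop_iff_of_iso (PreservesCokernel.iso i u)
  exact and_congr h1 h2

/-- Key Lemma A: a subobject of `i M` with quotient in `J` comes from `A'`. -/
lemma exists_sub (hquot : ∀ (M : A') (N : A) (p : i.obj M ⟶ N), Epi p → J N → i.essImage N)
    {M : A'} {Z : A} (f : Z ⟶ i.obj M) [Mono f] (hf : J.isoModSerre f) :
    ∃ (M' : A') (s' : M' ⟶ M) (e : i.obj M' ≅ Z), e.hom ≫ f = i.map s' ∧
      (J.inverseImage i).isoModSerre s' := by
  obtain ⟨C', ⟨c⟩⟩ := hquot M (cokernel f) (cokernel.π f) inferInstance hf.2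
  let q : M ⟶ C' := i.preimage (cokernel.π f ≫ c.inv)
  have hq : i.map q = cokernel.π f ≫ c.inv := i.map_preimage _
  have hfq : f ≫ i.map q = 0 := by rw [hq, cokernel.condition_assoc, zero_comp]
  have hker : (PreservesKernel.iso i q).inv ≫ i.map (kernel.ι q) = kernel.ι (i.map q) := by
    rw [Iso.inv_comp_eq, PreservesKernel.iso_hom, kernelComparison_comp_ι]
  let a : Z ⟶ i.obj (kernel q) := kernel.lift (i.map q) f hfq ≫ (PreservesKernel.iso i q).inv
  have ha : a ≫ i.map (kernel.ι q) = f := by
    simp only [a, Category.assoc, hker, kernel.lift_ι]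
  have hb0 : i.map (kernel.ι q) ≫ cokernel.π f = 0 := by
    have : i.map (kernel.ι q) ≫ i.map q = 0 := by
      rw [← i.map_comp, kernel.condition, i.map_zero]
    rw [hq, ← Category.assoc] at this
    rw [← cancel_mono c.inv, this, zero_comp]
  let b : i.obj (kernel q) ⟶ Z := Abelian.monoLift f (i.map (kernel.ι q)) hb0
  have hb : b ≫ f = i.map (kernel.ι q) := Abelian.monoLift_comp _ _ _
  have hmono : Mono (i.map (kernel.ι q)) := inferInstance
  have hab : a ≫ b = 𝟙 _ := by
    rw [← cancel_mono f, Category.assoc, hb, ha, Category.id_comp]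
  have hba : b ≫ a = 𝟙 _ := by
    rw [← cancel_mono (i.map (kernel.ι q)), Category.assoc, ha, hb, Category.id_comp]
  refine ⟨kernel q, kernel.ι q, ⟨b, a, hba, hab⟩, hb, ?_⟩
  rw [isoModSerre_inverseImage_iff, ← hb]
  have hbiso : IsIso b := ⟨a, hba, hab⟩
  exact J.isoModSerre.comp_mem _ _ (J.isoModSerre_of_isIso b) hf

/-- Key Lemma B: a map from an object of `J` to `i N` is killed by a morphism `N ⟶ N̄` in `W'`. -/
lemma exists_quot (hsub : ∀ (M : A') (N : A) (f : N ⟶ i.obj M), Mono f → J N → i.essImage N)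
    {N : A'} {K : A} (k : K ⟶ i.obj N) (hK : J K) :
    ∃ (Nbar : A') (t' : N ⟶ Nbar), (J.inverseImage i).isoModSerre t' ∧ k ≫ i.map t' = 0 := by
  have hI : J (Abelian.image k) := J.prop_of_epi (Abelian.factorThruImage k) hK
  obtain ⟨I', ⟨c⟩⟩ := hsub N (Abelian.image k) (Abelian.image.ι k) inferInstance hI
  let m' : I' ⟶ N := i.preimage (c.hom ≫ Abelian.image.ι k)
  have hm' : i.map m' = c.hom ≫ Abelian.image.ι k := i.map_preimage _
  refine ⟨cokernel m', cokernel.π m', ?_, ?_⟩
  · refine (J.inverseImage i).isoModSerre_of_epi _ ?_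
    have hI' : (J.inverseImage i) I' := J.prop_of_iso c.symm hI
    have hex : (ShortComplex.mk m' (cokernel.π m') (cokernel.condition m')).Exact :=
      ShortComplex.exact_of_g_is_cokernel _ (cokernelIsCokernel m')
    have := hex.epi_kernelLift
    exact (J.inverseImage i).prop_of_epi (kernel.lift (cokernel.π m') m' (cokernel.condition m')) hI'
  · have h1 : Abelian.image.ι k ≫ i.map (cokernel.π m') = 0 := by
      rw [← cancel_epi c.hom, ← Category.assoc, ← hm', ← i.map_comp, cokernel.condition,
        i.map_zero, comp_zero]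
    rw [← Abelian.image.fac k, Category.assoc, h1, comp_zero]

/-- Coimage decomposition of a morphism in `W`: both factors are in `W`. -/
lemma coimage_factor {Z Y : A} (t : Z ⟶ Y) (ht : J.isoModSerre t) :
    J.isoModSerre (Abelian.coimage.π t) ∧ J.isoModSerre (Abelian.factorThruCoimage t) := by
  have hπ : J.isoModSerre (Abelian.coimage.π t) := by
    refine J.isoModSerre_of_epi _ ?_
    exact J.prop_of_iso (asIso (Abelian.factorThruImage (kernel.ι t))) ht.1
  refine ⟨hπ, ?_⟩
  refine J.isoModSerre.of_precomp (Abelian.coimage.π t) _ hπ ?_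
  rw [Abelian.coimage.fac]
  exact ht

end Aux

section Main

variable {A A' : Type u} [Category.{v} A] [Abelian A] [Category.{v} A'] [Abelian A']
  (i : A' ⥤ A) [i.Full] [i.Faithful] [PreservesFiniteLimits i] [PreservesFiniteColimits i]
  (J : ObjectProperty A) [J.IsSerreClass] [(J.inverseImage i).IsSerreClass]
  (hsub : ∀ (M : A') (N : A) (f : N ⟶ i.obj M), Mono f → J N → i.essImage N)
  (hquot : ∀ (M : A') (N : A) (p : i.obj M ⟶ N), Epi p → J N → i.essImage N)
  {Q : Type u'} [Category.{v'} Q] (L : A ⥤ Q) [L.IsLocalization J.isoModSerre]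
  {Q' : Type u''} [Category.{v''} Q'] (L' : A' ⥤ Q')
  [L'.IsLocalization (J.inverseImage i).isoModSerre]
  (Φ : Q' ⥤ Q) (e : L' ⋙ Φ ≅ i ⋙ L)

include hquot e in
theorem faithful : Φ.Faithful := by
  refine Functor.faithful_of_comp_of_hasLeftCalculusOfFractions L'
    (J.inverseImage i).isoModSerre Φ ?_
  intro M N u₁ u₂ h
  have h1 : L.map (i.map u₁) = L.map (i.map u₂) := by
    have n1 := NatIso.naturality_1 e u₁
    have n2 := NatIso.naturality_1 e u₂
    simp only [Functor.comp_map] at n1 n2
    rw [← n1, ← n2, h]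
  obtain ⟨Z, t, ht, hts⟩ :=
    (MorphismProperty.map_eq_iff_precomp L J.isoModSerre (i.map u₁) (i.map u₂)).1 h1
  obtain ⟨-, hσ⟩ := coimage_factor J t ht
  have hσu : Abelian.factorThruCoimage t ≫ i.map u₁ = Abelian.factorThruCoimage t ≫ i.map u₂ := by
    rw [← cancel_epi (Abelian.coimage.π t), ← Category.assoc, ← Category.assoc,
      Abelian.coimage.fac, hts]
  obtain ⟨M', s', e', he', hs'⟩ := exists_sub i J hquot (Abelian.factorThruCoimage t) hσ
  have hs'u : s' ≫ u₁ = s' ≫ u₂ := by
    apply i.map_injective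
    rw [i.map_comp, i.map_comp, ← he', Category.assoc, Category.assoc, hσu]
  haveI : IsIso (L'.map s') := Localization.inverts L' (J.inverseImage i).isoModSerre _ hs'
  rw [← cancel_epi (L'.map s'), ← L'.map_comp, ← L'.map_comp, hs'u]

include hsub hquot e in
theorem full : Φ.Full := by
  haveI : L'.EssSurj := Localization.essSurj L' (J.inverseImage i).isoModSerre
  refine Φ.full_of_comp_essSurj L' (fun M N φ => ?_)
  obtain ⟨h, hh⟩ : ∃ h : L.obj (i.obj M) ⟶ L.obj (i.obj N),
      h = e.inv.app M ≫ φ ≫ e.hom.app N := ⟨_, rfl⟩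
  obtain ⟨ρ, hρ⟩ := Localization.exists_rightFraction L J.isoModSerre h
  have hρ' : L.map ρ.s ≫ h = L.map ρ.f := by
    rw [hρ]; exact ρ.map_s_comp_map L (Localization.inverts L J.isoModSerre)
  obtain ⟨Nbar, t', ht', hk⟩ := exists_quot i J hsub (kernel.ι ρ.s ≫ ρ.f) ρ.hs.1
  obtain ⟨hπ, hσ⟩ := coimage_factor J ρ.s ρ.hs
  let gbar : Abelian.coimage ρ.s ⟶ i.obj Nbar :=
    cokernel.desc (kernel.ι ρ.s) (ρ.f ≫ i.map t') (by rw [← Category.assoc]; exact hk)
  have hgbar : Abelian.coimage.π ρ.s ≫ gbar = ρ.f ≫ i.map t' := cokernel.π_desc _ _ _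
  obtain ⟨M', s', e', he', hs'⟩ := exists_sub i J hquot (Abelian.factorThruCoimage ρ.s) hσ
  let g' : M' ⟶ Nbar := i.preimage (e'.hom ≫ gbar)
  have hg' : i.map g' = e'.hom ≫ gbar := i.map_preimage _
  haveI : IsIso (L'.map s') := Localization.inverts L' (J.inverseImage i).isoModSerre _ hs'
  haveI : IsIso (L'.map t') := Localization.inverts L' (J.inverseImage i).isoModSerre _ ht'
  haveI : IsIso (L.map (Abelian.coimage.π ρ.s)) := Localization.inverts L J.isoModSerre _ hπ
  -- key identity in `Q`
  have key : L.map (i.map s') ≫ h ≫ L.map (i.map t') = L.map (i.map g') := by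
    have h2 : L.map (Abelian.factorThruCoimage ρ.s) ≫ h ≫ L.map (i.map t') = L.map gbar := by
      rw [← cancel_epi (L.map (Abelian.coimage.π ρ.s)), ← L.map_comp, hgbar, L.map_comp,
        ← hρ', ← Category.assoc, ← L.map_comp, Abelian.coimage.fac, Category.assoc]
    rw [← he', L.map_comp, Category.assoc, h2, ← L.map_comp, hg']
  refine ⟨inv (L'.map s') ≫ L'.map g' ≫ inv (L'.map t'), ?_⟩
  rw [← cancel_epi (Φ.map (L'.map s')), ← cancel_mono (Φ.map (L'.map t'))]
  have n1 := NatIso.naturality_2 e s'
  have n2 := NatIso.naturality_2 e t'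
  have n3 := NatIso.naturality_2 e g'
  simp only [Functor.comp_map] at n1 n2 n3
  have lhs : Φ.map (L'.map s') ≫ Φ.map (inv (L'.map s') ≫ L'.map g' ≫ inv (L'.map t')) ≫
      Φ.map (L'.map t') = Φ.map (L'.map g') := by
    rw [← Φ.map_comp, ← Φ.map_comp]
    congr 1
    simp
  rw [Category.assoc, lhs, ← n1, ← n2, ← n3]
  simp only [Category.assoc]
  congr 1
  rw [← key, hh]
  simp only [Category.assoc]

end Main

/-- Let A be an abelian category, A' a full abelian subcategory (given as a fully faithful exact functor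
i : A' ⥤ A) and J a Serre subcategory of A, with J' = J ∩ A' (the preimage of J under i, a Serre
subcategory of A'). Assume that every subobject and every quotient object, in A, of an object of A'
which belongs to J belongs to A' (lies in the essential image of i). Then the functor A'/J' ⥤ A/J
induced between the quotient categories is fully faithful: for L : A ⥤ Q and L' : A' ⥤ Q'
localization functors at the morphisms whose kernel and cokernel lie in J, resp. J', every functor Φ
: Q' ⥤ Q with L' ⋙ Φ ≅ i ⋙ L is full and faithful. -/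
theorem result
    {A A' : Type u} [Category.{v} A] [Abelian A] [Category.{v} A'] [Abelian A']
    (i : A' ⥤ A) [i.Full] [i.Faithful] [PreservesFiniteLimits i] [PreservesFiniteColimits i]
    (J : ObjectProperty A) [J.IsSerreClass] [(J.inverseImage i).IsSerreClass]
    (hsub : ∀ (M : A') (N : A) (f : N ⟶ i.obj M), Mono f → J N → i.essImage N)
    (hquot : ∀ (M : A') (N : A) (p : i.obj M ⟶ N), Epi p → J N → i.essImage N)
    {Q : Type u'} [Category.{v'} Q] (L : A ⥤ Q) [L.IsLocalization J.isoModSerre]
    {Q' : Type u''} [Category.{v''} Q'] (L' : A' ⥤ Q') [L'.IsLocalization (J.inverseImage i).isoModSerre]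
    (Φ : Q' ⥤ Q) (e : L' ⋙ Φ ≅ i ⋙ L) : Φ.Full ∧ Φ.Faithful := by
  exact ⟨full i J hsub hquot L L' Φ e, faithful i J hquot L L' Φ e⟩

end Groth.Agent.S13989
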