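import Groth.Statements.S4402
import Groth.Agent.H18.NegTwist

set_option autoImplicit false
universe u
open CategoryTheory CategoryTheory.Limits AlgebraicGeometry
open EGA2

namespace Groth.Agent.S4402

/-- Consider a ring S graded in nonnegative degrees, and assume its irrelevant ideal S_+ is generated by
a finite set of degree-one elements; put X = Proj S. Given any O_X-module F that is quasi-coherent
and of finite type, one can find n₀ so that whenever n ≥ n₀, some k admits an epimorphism onto F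
from the direct sum of k copies of O_X(-n). -/
theorem result {R A : Type u} [CommRing R] [CommRing A] [Algebra R A] (𝒜 : ℕ → Submodule R A) [GradedAlgebra 𝒜]
    (s : Finset A) (hs1 : ∀ f ∈ s, f ∈ 𝒜 1)
    (hs : (HomogeneousIdeal.irrelevant 𝒜).toIdeal = Ideal.span (s : Set A))
    (F : (Proj 𝒜).Modules) (hF : Coh.IsQCoh F) (hFT : CohB1.IsFT F) :
    ∃ n₀ : ℕ, ∀ n : ℕ, n₀ ≤ n →
      ∃ (k : ℕ) (p : (∐ fun _ : Fin k => Twist.twist 𝒜 (-(n : ℤ))) ⟶ F), Epi p := by
  classical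
  let D : Groth.Agent.H18.Charts 𝒜 :=
    { I := ↥s, f := fun i => i.1, hf := fun i => hs1 i.1 i.2 }
  haveI : Fintype D.I := inferInstanceAs (Fintype ↥s)
  haveI : F.IsQuasicoherent := hF
  have hcov : ∀ x : ProjectiveSpectrum 𝒜, ∃ j, D.f j ∉ x.asHomogeneousIdeal := by
    intro x
    by_contra hcon
    push Not at hcon
    apply x.not_irrelevant_le
    change (HomogeneousIdeal.irrelevant 𝒜).toIdeal ≤ x.asHomogeneousIdeal.toIdeal
    rw [hs, Ideal.span_le]
    intro g hg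
    exact hcon ⟨g, hg⟩
  have hUa : ∀ j : D.I, IsAffineOpen (Groth.Agent.H18.GammaStar.U D j) := fun j =>
    Proj.isAffineOpen_basicOpen 𝒜 (D.f j) (D.hf j) one_pos
  have hfg : ∀ j : D.I, (⊤ : Submodule Γ(Proj 𝒜, Groth.Agent.H18.GammaStar.U D j)
      Γ(F, Groth.Agent.H18.GammaStar.U D j)).FG := fun j =>
    Groth.Agent.H18.fg_top_of_isFiniteType F hFT (hUa j)
  choose S hS using hfg
  let K := Σ j : D.I, {τ : Γ(F, Groth.Agent.H18.GammaStar.U D j) // τ ∈ S j}
  haveI : Fintype K := inferInstance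
  have hext : ∀ k : K, ∃ (n : ℕ) (m : Groth.Agent.H18.GammaStar.M D F),
      m ∈ Groth.Agent.H18.GammaStar.grading D F n ∧
        Groth.Agent.H18.GammaStar.comp D F k.1 m = k.2.1 :=
    fun k => Groth.Agent.H18.GammaStar.exists_extension D F k.1 k.2.1
  choose e x hxg hxc using hext
  refine ⟨Finset.univ.sup e, fun n hn => ?_⟩
  have hek : ∀ k, e k ≤ n := fun k => (Finset.le_sup (Finset.mem_univ k)).trans hn
  let y : K → Groth.Agent.H18.GammaStar.M D F := fun k => D.f k.1 ^ (n - e k) • x k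
  have hy : ∀ k, y k ∈ Groth.Agent.H18.GammaStar.grading D F n := fun k =>
    Groth.Agent.H18.GammaStar.fpow_smul_mem_grading D F k.1 (hek k) (hxg k)
  have hyc : ∀ k, Groth.Agent.H18.GammaStar.comp D F k.1 (y k) = k.2.1 := fun k => by
    change Groth.Agent.H18.GammaStar.comp D F k.1 (D.f k.1 ^ (n - e k) • x k) = _
    rw [Groth.Agent.H18.GammaStar.comp_fpow_smul, hxc]
  let eqv : Fin (Fintype.card K) ≃ K := (Fintype.equivFin K).symm
  let q : Fin (Fintype.card K) → (Twist.twist 𝒜 (-(n : ℤ)) ⟶ F) := fun i =>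
    Groth.Agent.H18.GammaStar.negTwHom D F hcov (hy (eqv i))
  refine ⟨Fintype.card K, Sigma.desc q, ?_⟩
  refine Groth.Agent.H18.epi_of_locally_mem_range _ ?_
  intro V t z hz
  obtain ⟨j, hj⟩ := hcov z
  have hzj : z ∈ Groth.Agent.H18.GammaStar.U D j := hj
  have hspan : Submodule.span Γ(Proj 𝒜, Groth.Agent.H18.GammaStar.U D j)
      (Set.range fun τ : {τ : Γ(F, Groth.Agent.H18.GammaStar.U D j) // τ ∈ S j} => τ.1) = ⊤ := by
    rw [Subtype.range_coe_subtype]
    exact hS j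
  obtain ⟨W, hW, hzW, hmem⟩ := Groth.Agent.H18.exists_mres_mem_span_of_isQuasicoherent F (hUa j)
    (fun τ : {τ : Γ(F, Groth.Agent.H18.GammaStar.U D j) // τ ∈ S j} => τ.1) hspan
    (V ⊓ Groth.Agent.H18.GammaStar.U D j) inf_le_right
    (Groth.Agent.H18.mres F inf_le_left t) z ⟨hz, hzj⟩
  have hWj : W ≤ Groth.Agent.H18.GammaStar.U D j := hW.trans inf_le_right
  refine ⟨W, hW.trans inf_le_left, hzW, ?_⟩
  have hle : Submodule.span Γ(Proj 𝒜, W)
      (Set.range fun τ : {τ : Γ(F, Groth.Agent.H18.GammaStar.U D j) // τ ∈ S j} =>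
        Groth.Agent.H18.mres F hWj τ.1) ≤
      LinearMap.range ((Sigma.desc q).val.app (Opposite.op W)).hom := by
    rw [Submodule.span_le]
    rintro _ ⟨τ, rfl⟩
    refine ⟨(Sigma.ι (fun _ : Fin (Fintype.card K) => Twist.twist 𝒜 (-(n : ℤ)))
      (eqv.symm ⟨j, τ⟩)).app W (Groth.Agent.H18.GammaStar.negGen D j n hWj), ?_⟩
    have h1 : Sigma.ι (fun _ : Fin (Fintype.card K) => Twist.twist 𝒜 (-(n : ℤ)))
        (eqv.symm ⟨j, τ⟩) ≫ Sigma.desc q = q (eqv.symm ⟨j, τ⟩) := Sigma.ι_desc _ _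
    have h2 := congrArg (fun φ : Twist.twist 𝒜 (-(n : ℤ)) ⟶ F =>
      φ.app W (Groth.Agent.H18.GammaStar.negGen D j n hWj)) h1
    refine Eq.trans ?_ (h2.trans ?_)
    · rfl
    · have key : ∀ (i : Fin (Fintype.card K)) (k : K) (_ : eqv i = k)
          (hWk : W ≤ Groth.Agent.H18.GammaStar.U D k.1),
          (q i).app W (Groth.Agent.H18.GammaStar.negGen D k.1 n hWk) =
            Groth.Agent.H18.mres F hWk k.2.1 := by
        intro i k hk hWk
        subst hk
        change (Groth.Agent.H18.GammaStar.negTwHom D F hcov (hy (eqv i))).app W _ = _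
        rw [Groth.Agent.H18.GammaStar.negTwHom_app_negGen, hyc]
      exact key (eqv.symm ⟨j, τ⟩) ⟨j, τ⟩ (eqv.apply_symm_apply _) hWj
  obtain ⟨σ, hσ⟩ := hle hmem
  refine ⟨σ, Eq.trans hσ ?_⟩
  exact Groth.Agent.H18.mres_mres F _ _ t

end Groth.Agent.S4402
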