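import Groth.Statements.S4456
import Groth.Agent.H30.Degenerate
import Groth.Agent.H30.GrothSSExt
import Groth.Agent.H30.AffinePush
import Groth.Agent.H30.FlasquePush

set_option autoImplicit false
universe u
open Coherent

namespace Groth.Agent.S4456

open AlgebraicGeometry CategoryTheory in
/-- Let f : X → Y be an affine morphism, g : Y → Z a morphism of schemes and F a quasi-coherent
O_X-module. Then for every p ≥ 0 the higher direct image R^p g_*(f_* F) is isomorphic to R^p (g ∘
f)_* F (higher direct images of the underlying abelian sheaves). The source shows that the canonical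
comparison map is an isomorphism; only the existence of an isomorphism is asserted here. -/
theorem result {X Y Z : Scheme.{u}} (f : X ⟶ Y) (g : Y ⟶ Z)
    [IsAffineHom f] (F : X.Modules) [Coh.IsQCoh F] (p : ℕ) :
    Nonempty ((Coh.RpushAb g p).obj (Coh.toAb ((Coh.push f).obj F)) ≅
      (Coh.RpushAb (f ≫ g) p).obj (Coh.toAb F)) := by
  let _ : HasDerivedCategory.{u + 1} (CohTop.Ab X.carrier) := HasDerivedCategory.standard _
  let _ : HasDerivedCategory.{u + 1} (CohTop.Ab Y.carrier) := HasDerivedCategory.standard _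
  let _ : HasDerivedCategory.{u + 1} (CohTop.Ab Z.carrier) := HasDerivedCategory.standard _
  let T := CohTop.push f.base
  let S := CohTop.push g.base
  have hT : ∀ Q : CohTop.Ab X.carrier, Injective Q → ∀ q : ℕ, 0 < q →
      Limits.IsZero ((S.rightDerived q).obj (T.obj Q)) := by
    intro Q _ q hq
    have : TopCat.Sheaf.IsFlasque Q := Groth.Agent.H30.Flasque.isFlasque_of_injective Q
    have : TopCat.Sheaf.IsFlasque (T.obj Q) := inferInstance
    exact Groth.Agent.H30.FlasquePush.acyclic_push g.base (T.obj Q) q hq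
  have h : ∀ q : ℕ, 0 < q → Limits.IsZero ((T.rightDerived q).obj (Coh.toAb F)) := by
    intro q hq
    obtain ⟨j, rfl⟩ : ∃ j, q = j + 1 := ⟨q - 1, by omega⟩
    exact Groth.Agent.H30.AffinePush.isZero_RpushAb f F j
  obtain ⟨e1⟩ := Groth.Agent.H30.Degenerate.iso_of_isZero_higher T S hT (Coh.toAb F) h p
  let e2 : (T.rightDerived 0).obj (Coh.toAb F) ≅ T.obj (Coh.toAb F) :=
    T.rightDerivedZeroIsoSelf.app _
  let e3 : CohTop.push (f ≫ g).base ≅ T ⋙ S := Iso.refl _
  let e4 := (Groth.Agent.H30.GrothSSExt.rightDerivedIsoOfIso e3 p).app (Coh.toAb F)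
  exact ⟨((S.rightDerived p).mapIso e2).symm ≪≫ e1.symm ≪≫ e4.symm⟩

end Groth.Agent.S4456
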