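import Groth.Statements.S0583
import Groth.Agent.H36.KapCount

set_option autoImplicit false
universe u
open scoped Classical
open CAlg

namespace Groth.Agent.S0583

/-- If a module is an internal direct sum of countably generated submodules, then any direct summand of
it is again an internal direct sum of countably generated submodules. -/
theorem result (R : Type u) [CommRing R] (M : Type u)
    [AddCommGroup M] [Module R M] (ι : Type u) (N : ι → Submodule R M) (hN : DirectSum.IsInternal N)
    (hc : ∀ i, CAlg.IsCountablyGenerated R (N i)) (P Q : Submodule R M) (hPQ : IsCompl P Q) :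
    ∃ (κ : Type u) (L : κ → Submodule R P), DirectSum.IsInternal L ∧
      ∀ k, CAlg.IsCountablyGenerated R (L k) := by
  obtain ⟨hind, hsup⟩ := (DirectSum.isInternal_submodule_iff_iSupIndep_and_iSup_eq_top N).1 hN
  obtain ⟨L, hL1, hL2, hL3⟩ := H36.exists_countable_decomposition N hind hsup
    (fun i => H36.exists_nat_span_of_isCountablyGenerated (N i) (hc i))
    (P.projectionOnto Q hPQ) P.subtype (fun p => Submodule.projectionOnto_apply_left hPQ p)
  refine ⟨ι, L, (DirectSum.isInternal_submodule_iff_iSupIndep_and_iSup_eq_top L).2 ⟨hL1, hL2⟩,
    fun k => ?_⟩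
  obtain ⟨h, hh⟩ := hL3 k
  exact H36.isCountablyGenerated_of_nat_span (L k) h hh

end Groth.Agent.S0583
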