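import Groth.Statements.S1197
import Groth.Agent.S0550
import Groth.Agent.S2124
import Groth.Agent.H9.MLProdNoeth

set_option autoImplicit false
universe u
open FlatMor

namespace Groth.Agent.S1197

/-- Over a Noetherian ring R which is I-adically complete, the I-adic completion of a free module on an
arbitrary index set is a flat and Mittag-Leffler R-module. (Flatness alone, without completeness of
R, is stated separately.) -/
theorem result (R : Type u) [CommRing R] [IsNoetherianRing R] (I : Ideal R) [IsAdicComplete I R] (α : Type u) :
    Module.Flat R (AdicCompletion I (α →₀ R)) ∧ CAlg.IsMittagLeffler R (AdicCompletion I (α →₀ R)) := by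
  refine ⟨Groth.Agent.S0550.result R I α, ?_⟩
  apply Groth.Agent.H32.isMittagLeffler_of_universallyInjective R _ (Groth.Agent.S2124.result I α)
  exact Groth.Agent.H32.isMittagLeffler_of_equiv R
    (LinearEquiv.piCongrRight (fun _ : α => AdicCompletion.ofLinearEquiv I R))
    (Groth.Agent.H9.MLProdNoeth.isMittagLeffler_pi_const R α)

end Groth.Agent.S1197
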