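import Groth.Statements.S1198
import Groth.Agent.S1197
import Groth.Agent.H9.AdicSplit

set_option autoImplicit false
universe u
open FlatMor

namespace Groth.Agent.S1198

/-- Let R be a Noetherian ring complete with respect to an ideal I and M a flat R-module whose reduction
M/IM is projective over R/I. Then M's I-adic completion is a flat and Mittag-Leffler R-module. -/
theorem result (R : Type u) [CommRing R] [IsNoetherianRing R] (I : Ideal R) [IsAdicComplete I R]
    (M : Type u) [AddCommGroup M] [Module R M] [Module.Flat R M]
    [Module.Projective (R ⧸ I) (M ⧸ (I • ⊤ : Submodule R M))] :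
    Module.Flat R (AdicCompletion I M) ∧ CAlg.IsMittagLeffler R (AdicCompletion I M) := by
  classical
  let π : (M →₀ R) →ₗ[R] M := Finsupp.linearCombination R id
  have hπ : Function.Surjective π :=
    Finsupp.linearCombination_surjective R Function.surjective_id
  obtain ⟨-, -, s, hs⟩ := Groth.Agent.H9.AdicSplit.main I (K := ↥(LinearMap.ker π))
    (LinearMap.ker π).subtype π
    (Submodule.injective_subtype _) hπ (LinearMap.exact_subtype_ker_map π)
  obtain ⟨hflat, hML⟩ := Groth.Agent.S1197.result R I M
  let sR : AdicCompletion I M →ₗ[R] AdicCompletion I (M →₀ R) := s.restrictScalars R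
  let pR : AdicCompletion I (M →₀ R) →ₗ[R] AdicCompletion I M :=
    (AdicCompletion.map I π).restrictScalars R
  have h : pR ∘ₗ sR = LinearMap.id := by
    apply LinearMap.ext
    intro x
    exact LinearMap.congr_fun hs x
  constructor
  · exact Module.Flat.of_retract sR pR h
  · exact Groth.Agent.H32.isMittagLeffler_of_universallyInjective R sR
      (Groth.Agent.H32.universallyInjective_of_leftInverse R sR pR h) hML

end Groth.Agent.S1198
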