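import Groth.Statements.S0473
import Groth.Agent.H5.BrownCompact

set_option autoImplicit false
universe v u
open CategoryTheory
open CohDer

namespace Groth.Agent.S0473

open CategoryTheory.Limits CategoryTheory.Pretriangulated.Opposite in
/-- Assume D is triangulated, has all small coproducts, and admits a set of compact objects that
generates it. Any cohomological functor from D^op to abelian groups that turns coproducts of D into
products is of the form Hom(-, X) for some object X. -/
theorem result {D : Type u} [Category.{v} D] [Preadditive D] [Limits.HasZeroObject D] [HasShift D ℤ]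
    [∀ n : ℤ, (shiftFunctor D n).Additive] [Pretriangulated D] [IsTriangulated D] [HasCoproducts.{v} D]
    (hD : CohDer.IsCompactlyGenerated D) (H : Dᵒᵖ ⥤ AddCommGrpCat.{v}) [H.IsHomological]
    [∀ (ι : Type v), PreservesLimitsOfShape (Discrete ι) H] :
    (H ⋙ forget AddCommGrpCat.{v}).IsRepresentable := by
  open Groth.Agent.H5.Brown in
  obtain ⟨ι, E, hc, hg⟩ := hD
  have hN : HasCoproductsOfShape ℕ D :=
    hasColimitsOfShape_of_equivalence (Discrete.equivalence Equiv.ulift.{v, 0})
  have : PreservesLimitsOfShape (Discrete ℕ) H :=
    preservesLimitsOfShape_of_equiv (Discrete.equivalence Equiv.ulift.{v, 0}) H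
  obtain ⟨L, ξL, hL⟩ := exists_representing (shiftFam E) H (detect_of_generates E hg)
    (shiftFam_factors E (factors_of_compact E hc)) (shiftFam_desusp E)
  exact ⟨L, ⟨{ homEquiv := fun {Y} => Equiv.ofBijective _ (hL Y)
               homEquiv_comp := fun f g => by
                 simp [Groth.Agent.H5.Brown.pull] }⟩⟩

end Groth.Agent.S0473
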