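import Groth.Statements.S0477
import Groth.Agent.H33.LocCoprod
import Groth.Agent.H33.HoCoprod
import Groth.Agent.H5.AcyclicCoprod

set_option autoImplicit false
universe v u
open CategoryTheory
open CohDer

namespace Groth.Agent.S0477

open CategoryTheory.Limits in
/-- For a Grothendieck abelian category A, the derived category D(A) has all direct sums (coproducts
indexed by small types). (The published statement also describes these direct sums as computed
termwise on representing complexes; only their existence is asserted here.) -/
theorem result {A : Type u} [Category.{v} A] [Abelian A] [IsGrothendieckAbelian.{v} A]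
    [HasDerivedCategory.{v} A] : HasCoproducts.{v} (DerivedCategory A) := by
  intro J
  -- coproducts in the homotopy category
  have hK : HasCoproductsOfShape J (HomotopyCategory A (ComplexShape.up ℤ)) := by
    constructor
    intro F
    have hF := fun j : J => HomotopyCategory.quotient_obj_surjective (F.obj ⟨j⟩)
    choose K hK using hF
    let e : Discrete.functor (fun j => (HomotopyCategory.quotient A (ComplexShape.up ℤ)).obj (K j)) ≅ F :=
      Discrete.natIso (fun j => eqToIso (hK j.as))
    have : HasColimit (Discrete.functor
        (fun j => (HomotopyCategory.quotient A (ComplexShape.up ℤ)).obj (K j))) :=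
      ⟨⟨⟨_, Groth.Agent.H33.HoCoprod.isColimitQuotient K⟩⟩⟩
    exact hasColimit_of_iso e.symm
  refine Groth.Agent.H33.LocCoprod.hasCoproductsOfShape
    (HomotopyCategory.subcategoryAcyclic A) DerivedCategory.Qh ?_
  intro C hC
  have hF := fun j : J => HomotopyCategory.quotient_obj_surjective (C j)
  choose K hK' using hF
  obtain rfl : C = fun j => (HomotopyCategory.quotient A (ComplexShape.up ℤ)).obj (K j) :=
    funext (fun j => (hK' j).symm)
  have e : (∐ fun j => (HomotopyCategory.quotient A (ComplexShape.up ℤ)).obj (K j)) ≅
      (HomotopyCategory.quotient A (ComplexShape.up ℤ)).obj (∐ K) :=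
    IsColimit.coconePointUniqueUpToIso (coproductIsCoproduct _)
      (Groth.Agent.H33.HoCoprod.isColimitQuotient K)
  refine (HomotopyCategory.subcategoryAcyclic A).prop_of_iso e.symm ?_
  rw [HomotopyCategory.quotient_obj_mem_subcategoryAcyclic_iff_exactAt]
  intro n
  apply Groth.Agent.H5.AcyclicCoprod.exactAt_sigma
  intro j n
  exact (HomotopyCategory.quotient_obj_mem_subcategoryAcyclic_iff_exactAt (K j)).1 (hC j) n

end Groth.Agent.S0477
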