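import Groth.Statements.S4865
import Groth.Agent.H1.FlatLocusExists

set_option autoImplicit false
universe u
open EGA43

namespace Groth.Agent.S4865

open Groth.Agent.H1.FlatLocus TensorProduct in
/-- pointwise flatness on `Spec B` in terms of pointwise flatness on `Spec C` -/
theorem flat_iff_forall {A B C : Type u} [CommRing A] [CommRing B] [CommRing C]
    [Algebra A B] [Algebra B C] [Algebra A C] [IsScalarTower A B C]
    (M : Type u) [AddCommGroup M] [Module C M] [Module B M] [Module A M]
    [IsScalarTower B C M] [IsScalarTower A C M] [IsScalarTower A B M]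
    (q : Ideal B) [q.IsPrime] :
    Module.Flat A (LocalizedModule q.primeCompl M) ↔
      ∀ (r : Ideal C) [r.IsPrime], r.comap (algebraMap B C) ≤ q →
        Module.Flat A (LocalizedModule r.primeCompl M) := by
  constructor
  · intro h r _ hrq
    rw [flat_localizedModule_iff] at h ⊢
    intro I z hz
    obtain ⟨g, hg, hgz⟩ := h I z hz
    refine ⟨algebraMap B C g, fun hmem => hg (hrq hmem), ?_⟩
    rw [algebraMap_smul]
    exact hgz
  · intro h
    rw [flat_localizedModule_iff]
    intro I z hz
    by_contra hcon
    push Not at hcon
    let J : Ideal C := (Submodule.span C {z}).annihilator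
    have hJq : J.comap (algebraMap B C) ≤ q := by
      intro g hg
      by_contra hgq
      refine hcon g hgq ?_
      have h1 : algebraMap B C g ∈ J := hg
      rw [Submodule.mem_annihilator_span_singleton] at h1
      rw [← h1, algebraMap_smul]
    obtain ⟨r, hJr, hr, hrq⟩ := q.exists_ideal_comap_le_prime J hJq
    have hflat := h r hrq
    rw [flat_localizedModule_iff] at hflat
    obtain ⟨c, hc, hcz⟩ := hflat I z hz
    exact hc (hJr ((Submodule.mem_annihilator_span_singleton z c).mpr hcz))

/-- Let A be a commutative ring, B a finitely presented A-algebra, C a finitely presented B-algebra and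
M a finitely presented C-module. Then the set of prime ideals q of B such that the localized module
M_q (M regarded as a B-module) is flat over A is open in Spec B. -/
theorem result {A B C : Type u} [CommRing A] [CommRing B] [CommRing C]
    [Algebra A B] [Algebra B C] [Algebra A C] [IsScalarTower A B C]
    [Algebra.FinitePresentation A B] [Algebra.FinitePresentation B C]
    (M : Type u) [AddCommGroup M] [Module C M] [Module B M] [Module A M]
    [IsScalarTower B C M] [IsScalarTower A C M] [IsScalarTower A B M] [Module.FinitePresentation C M] :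
    IsOpen {q : PrimeSpectrum B | Module.Flat A (LocalizedModule q.asIdeal.primeCompl M)} := by
  have : Algebra.FinitePresentation A C := Algebra.FinitePresentation.trans A B C
  have hopen : IsOpen (Groth.Agent.H1.FlatLocus.flatLocus A (S := C) M) :=
    Groth.Agent.H1.FlatLocus.isOpen_flatLocus_of_finitePresentation
  obtain ⟨J, hJ⟩ := (PrimeSpectrum.isClosed_iff_zeroLocus_ideal _).mp hopen.isClosed_compl
  rw [← isClosed_compl_iff]
  have heq : {q : PrimeSpectrum B | Module.Flat A (LocalizedModule q.asIdeal.primeCompl M)}ᶜ =
      PrimeSpectrum.zeroLocus (J.comap (algebraMap B C) : Set B) := by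
    ext q
    simp only [Set.mem_compl_iff, Set.mem_ofPred_eq, PrimeSpectrum.mem_zeroLocus,
      SetLike.coe_subset_coe]
    rw [flat_iff_forall (A := A) (B := B) (C := C) M q.asIdeal]
    constructor
    · intro hq
      push Not at hq
      obtain ⟨r, hr, hrq, hnf⟩ := hq
      have hmem : (⟨r, hr⟩ : PrimeSpectrum C) ∈ (Groth.Agent.H1.FlatLocus.flatLocus A (S := C) M)ᶜ :=
        hnf
      rw [hJ, PrimeSpectrum.mem_zeroLocus, SetLike.coe_subset_coe] at hmem
      exact (Ideal.comap_mono hmem).trans hrq
    · intro hq hall
      obtain ⟨r, hJr, hr, hrq⟩ := q.asIdeal.exists_ideal_comap_le_prime J hq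
      have hmem : (⟨r, hr⟩ : PrimeSpectrum C) ∈ (Groth.Agent.H1.FlatLocus.flatLocus A (S := C) M)ᶜ := by
        rw [hJ, PrimeSpectrum.mem_zeroLocus, SetLike.coe_subset_coe]
        exact hJr
      exact hmem (hall r hrq)
  rw [heq]
  exact PrimeSpectrum.isClosed_zeroLocus _

end Groth.Agent.S4865
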