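import Groth.Statements.S6811
import Groth.Agent.H34.TruncFinite
import Mathlib.CategoryTheory.Adjunction.Unique

set_option autoImplicit false
open CategoryTheory CategoryTheory.Limits
universe v u
open CategoryTheory CategoryTheory.SimplicialObject

namespace Groth.Agent.S6811

/-- In a category with finite limits, an `n`-coskeletal simplicial object is `m`-coskeletal for every `m
≥ n`. -/
theorem result {C : Type u} [Category.{v} C] [HasFiniteLimits C] (U : SimplicialObject C) {n m : ℕ} (h : n ≤ m) [U.IsCoskeletal n] : U.IsCoskeletal m := by
  rw [SimplicialObject.isCoskeletal_iff_isIso]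
  have hU : IsIso ((SimplicialObject.coskAdj n).unit.app U) :=
    (SimplicialObject.isCoskeletal_iff_isIso U n).mp inferInstance
  -- the composite adjunction
  let adj2 : SimplicialObject.truncation n ⊣
      (SimplexCategory.Truncated.incl n m h).op.ran ⋙ SimplicialObject.Truncated.cosk (C := C) m :=
    ((SimplicialObject.coskAdj (C := C) m).comp
      ((SimplexCategory.Truncated.incl n m h).op.ranAdjunction C)).ofNatIsoLeft
      (SimplicialObject.truncationCompTrunc h)
  let e : SimplicialObject.Truncated.cosk (C := C) n ≅
      (SimplexCategory.Truncated.incl n m h).op.ran ⋙ SimplicialObject.Truncated.cosk (C := C) m :=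
    (SimplicialObject.coskAdj (C := C) n).rightAdjointUniq adj2
  let W := (SimplexCategory.Truncated.incl n m h).op.ran.obj ((SimplicialObject.truncation n).obj U)
  let ι : U ≅ (SimplicialObject.Truncated.cosk m).obj W :=
    asIso ((SimplicialObject.coskAdj n).unit.app U) ≪≫ e.app _
  exact (SimplicialObject.coskAdj (C := C) m).isIso_unit_app_of_iso ι

end Groth.Agent.S6811
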