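import Groth.Statements.S6505
import Groth.Agent.H34.HyperTower
import Groth.Agent.H34.HyperCosk2
import Groth.Agent.H34.FCCov2

set_option autoImplicit false
universe u
open CategoryTheory
open Hyper

namespace Groth.Agent.S6505

open Opposite CategoryTheory.Limits in
/-- Let C be a small site with fibre products, X an object and K a hypercovering of X. Then the chain
complex of abelian sheaves Z[F(K)]^# on C/X has zero homology sheaves in all positive degrees and
its degree-0 homology sheaf is isomorphic to the sheafification of the constant presheaf Z on C/X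
(which corresponds to Z_X^# = Z[h_X]^# on C; existence of an isomorphism only). -/
theorem result {C : Type u} [SmallCategory C] [HasPullbacks C]
    (J : GrothendieckTopology C) (X : C) (K : SimplicialObject (FormalCoproduct.{u} (Over X)))
    [∀ (n : ℕ) (F : (SimplexCategory.Truncated n)ᵒᵖ ⥤ FormalCoproduct.{u} (Over X)),
      (SimplexCategory.Truncated.inclusion n).op.HasRightKanExtension F]
    (hK : Hyper.IsHypercovering J X K) :
    (∀ i : ℕ, IsZero ((Hyper.freeChainCx (J.over X) K).homology (i + 1))) ∧
    Nonempty ((Hyper.freeChainCx (J.over X) K).homology 0 ≅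
      (presheafToSheaf (J.over X) AddCommGrpCat.{u}).obj
        ((Functor.const (Over X)ᵒᵖ).obj (AddCommGrpCat.free.{u}.obj PUnit.{u + 1}))) := by
  have : HasFiniteLimits (FormalCoproduct.{u} (Over X)) :=
    hasFiniteLimits_of_hasTerminal_and_pullbacks
  let F := FormalCoproduct.yoneda (C := Over X)
  let Y : SimplicialObject ((Over X)ᵒᵖ ⥤ Type u) := ((SimplicialObject.whiskering _ _).obj F).obj K
  have h0 : ∀ φ : Y.obj (op (SimplexCategory.mk 0)) ⟶ Groth.Agent.H34.HyperTower.P₀ (C := Over X),
      Presheaf.IsLocallySurjective (J.over X) φ := fun φ =>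
    Groth.Agent.H34.FCYoneda.isLocallySurjective_yoneda_to_subsingleton J X
      (K.obj (op (SimplexCategory.mk 0))) hK.1 (fun T => inferInstanceAs (Subsingleton PUnit)) φ
  have hY : ∀ m : ℕ, Presheaf.IsLocallySurjective (J.over X)
      (((SimplicialObject.coskAdj m).unit.app Y).app (op (SimplexCategory.mk (m + 1)))) := by
    intro m
    obtain ⟨θ, hθ⟩ := Groth.Agent.H34.HyperCosk.exists_iso_unit F m K
    have e := congrArg (fun t => NatTrans.app t (op (SimplexCategory.mk (m + 1)))) hθ
    rw [← e]
    have := Groth.Agent.H34.FCYoneda.isLocallySurjective_yoneda_map (J.over X) _ (hK.2 m)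
    rw [NatTrans.comp_app]
    exact Presheaf.isLocallySurjective_comp (J.over X) (F.map _) (θ.hom.app _)
  exact Groth.Agent.H34.HyperTower.homology_of_hypercover (J.over X) Y h0 hY

end Groth.Agent.S6505
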