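import Groth.Statements.S0895
import Groth.Agent.H34.CechInj
import Groth.Agent.H30.OverShriek
import Groth.Agent.S6505

set_option autoImplicit false
universe u
open CategoryTheory
open Hyper

namespace Groth.Agent.S0895

open Opposite CategoryTheory.Limits in
/-- Let C be a site with fibre products, X an object of C, K a hypercovering of X and I an injective
abelian sheaf. Then the Čech cohomology groups of I with respect to K vanish in all positive
degrees. (Degree zero is stated separately; the existence of the right Kan extensions used to form
coskeleta is assumed as an instance binder.) -/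
theorem result {C : Type u} [SmallCategory C] [HasPullbacks C]
    (J : GrothendieckTopology C) (X : C) (K : SimplicialObject (FormalCoproduct.{u} (Over X)))
    [∀ (n : ℕ) (F : (SimplexCategory.Truncated n)ᵒᵖ ⥤ Limits.FormalCoproduct.{u} (Over X)),
      (SimplexCategory.Truncated.inclusion n).op.HasRightKanExtension F]
    (hK : Hyper.IsHypercovering J X K) (I : Sheaf J AddCommGrpCat.{u}) [Injective I] :
    ∀ p : ℕ, IsZero (Hyper.cechH X K I.obj (p + 1)) := by
  intro p
  let I' : Sheaf (J.over X) AddCommGrpCat.{u} := (Groth.Agent.H30.OverShriek.restr J X).obj I
  have : Injective I' := Groth.Agent.H30.OverShriek.injective_restr J X I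
  have h := (Groth.Agent.S6505.result J X K hK).1 p
  exact Groth.Agent.H34.HyperDict.isZero_cech_homology (J.over X) I' K p h

end Groth.Agent.S0895
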