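import Groth.Statements.S0984
import Groth.Agent.H5.BrownCompact
import Mathlib.CategoryTheory.Triangulated.Yoneda
import Mathlib.CategoryTheory.Preadditive.Yoneda.Limits

set_option autoImplicit false
universe v u
open CategoryTheory
open DerLim

namespace Groth.Agent.S0984

open CategoryTheory.Limits CategoryTheory.Pretriangulated in
/-- Let D be a triangulated category with all small direct sums and E a small family of compact objects
which generates D. Every object X of D is a homotopy colimit of a sequential system X₀ → X₁ → X₂ → …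
in which X₀ is a direct sum of shifts of members of E and each transition map Xₙ → Xₙ₊₁ sits in a
distinguished triangle Yₙ → Xₙ → Xₙ₊₁ → Yₙ[1] with Yₙ a direct sum of shifts of members of E. -/
theorem result {D : Type u} [Category.{v} D] [Preadditive D] [Limits.HasZeroObject D] [HasShift D ℤ]
    [∀ n : ℤ, (shiftFunctor D n).Additive] [Pretriangulated D] [IsTriangulated D] [HasCoproducts.{v} D]
    [HasColimitsOfShape (Discrete ℕ) D]
    {ι : Type v} (E : ι → D) (hc : ∀ i, CohDer.IsCompactObject (E i)) (hg : CohDer.Generates E) (X : D) :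
    ∃ (K : ℕ → D) (f : ∀ n, K n ⟶ K (n + 1)) (i : ∀ n, K n ⟶ X),
      DerLim.IsHocolim K f X i ∧
      (∃ (κ : Type v) (a : κ → ι) (m : κ → ℤ), Nonempty (K 0 ≅ ∐ (fun k => (shiftFunctor D (m k)).obj (E (a k))))) ∧
      ∀ n, ∃ (κ : Type v) (a : κ → ι) (m : κ → ℤ) (y : (∐ fun k => (shiftFunctor D (m k)).obj (E (a k))) ⟶ K n)
        (z : K (n + 1) ⟶ (shiftFunctor D (1 : ℤ)).obj (∐ fun k => (shiftFunctor D (m k)).obj (E (a k)))),
        Triangle.mk y (f n) z ∈ distinguishedTriangles := by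
  open Groth.Agent.H5.Brown CategoryTheory.Pretriangulated.Opposite in
  let E' := shiftFam E
  let H : Dᵒᵖ ⥤ AddCommGrpCat.{v} := preadditiveYoneda.obj X
  have hH : H.IsHomological := inferInstance
  have hP : ∀ κ : Type v, PreservesLimitsOfShape (Discrete κ) H := fun κ => inferInstance
  have hPN : PreservesLimitsOfShape (Discrete ℕ) H :=
    preservesLimitsOfShape_of_equiv (Discrete.equivalence Equiv.ulift.{v, 0}) H
  have h1 := detect_of_generates E hg
  have h2 : Factors E' := shiftFam_factors E (factors_of_compact E hc)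
  have h3 : Desusp E' := shiftFam_desusp E
  obtain ⟨T, hT0, L, q, d, ξL, hd, hξL, hL⟩ := exists_tower_hocolim E' H
    (fun a : PEmpty.{v + 1} => a.elim) (fun a => a.elim) h2 h3
  obtain ⟨φ, hφ⟩ : ∃ φ : L ⟶ X, φ = ξL := ⟨ξL, rfl⟩
  have hX : EBij E' H X (𝟙 X) := by
    intro p
    have : (fun f : E' p ⟶ X => pull H f (𝟙 X)) = id := by
      funext f
      change f ≫ 𝟙 X = f
      simp
    rw [this]
    exact Function.bijective_id
  have hφ' : pull H φ (𝟙 X) = ξL := by
    change φ ≫ 𝟙 X = ξL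
    rw [Category.comp_id, hφ]
  have hiso : IsIso φ := isIso_of_ebij h1 h3 hL hX φ hφ'
  refine ⟨T.X, T.t, fun n => Sigma.ι T.X n ≫ q ≫ φ, ?_, ?_, ?_⟩
  · refine ⟨inv φ ≫ d, ?_⟩
    have hdesc : (Sigma.desc fun n => Sigma.ι T.X n ≫ q ≫ φ) = q ≫ φ := by
      apply Sigma.hom_ext
      intro n
      simp
    rw [hdesc]
    have hs : DerLim.shiftMap T.X T.t = T.s := rfl
    rw [hs]
    refine isomorphic_distinguished _ hd _ ?_
    exact Triangle.isoMk (Triangle.mk (𝟙 (∐ T.X) - T.s) (q ≫ φ) (inv φ ≫ d))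
      (Triangle.mk (𝟙 (∐ T.X) - T.s) q d) (Iso.refl _) (Iso.refl _) (asIso φ).symm
      (by
        change (𝟙 (∐ T.X) - T.s) ≫ 𝟙 _ = 𝟙 _ ≫ (𝟙 (∐ T.X) - T.s)
        rw [Category.comp_id, Category.id_comp])
      (by
        change (q ≫ φ) ≫ inv φ = 𝟙 _ ≫ q
        rw [Category.assoc, IsIso.hom_inv_id, Category.comp_id, Category.id_comp])
      (by
        change (inv φ ≫ d) ≫ (shiftFunctor D (1 : ℤ)).map (𝟙 (∐ T.X)) = inv φ ≫ d
        rw [CategoryTheory.Functor.map_id, Category.comp_id])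
  · let κ : Type v := PEmpty.{v + 1} ⊕ Σ p : ι × ℤ, H.obj (Opposite.op (E' p))
    let a : κ → ι := Sum.elim (fun e => e.elim) (fun p => p.1.1)
    let m : κ → ℤ := Sum.elim (fun e => e.elim) (fun p => p.1.2)
    refine ⟨κ, a, m, ⟨eqToIso hT0 ≪≫ Sigma.mapIso (fun k => ?_)⟩⟩
    cases k with
    | inl e => exact e.elim
    | inr p => exact Iso.refl _
  · intro n
    exact ⟨T.Kι n, fun k => (T.Ka n k).1, fun k => (T.Ka n k).2, T.κ n, T.δ n, T.dist n⟩

end Groth.Agent.S0984
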