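import Groth.Statements.S6708

set_option autoImplicit false
universe v u
open CategoryTheory
open DEquiv

namespace Groth.Agent.S6708

open CategoryTheory.Limits CategoryTheory.Pretriangulated in
/-- Let D be a pretriangulated category, D' ⊆ D a full triangulated subcategory (given as a property of
objects that is triangulated in Mathlib's sense) and X an object of D. Then the category of arrows E
⟶ X with E in D' is filtered. -/
theorem result
    {D : Type u} [Category.{v} D] [Preadditive D] [HasZeroObject D] [HasShift D ℤ]
    [∀ n : ℤ, (shiftFunctor D n).Additive] [Pretriangulated D]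
    (P : ObjectProperty D) [P.IsTriangulated] (X : D) :
    IsFiltered (CostructuredArrow P.ι X) := by
  obtain ⟨Z0, hZ0, hP0⟩ := P.exists_prop_of_containsZero
  have hne : Nonempty (CostructuredArrow P.ι X) :=
    ⟨CostructuredArrow.mk (Y := (⟨Z0, hP0⟩ : P.FullSubcategory)) (0 : Z0 ⟶ X)⟩
  have hfe : IsFilteredOrEmpty (CostructuredArrow P.ι X) := by
    refine ⟨?_, ?_⟩
    · intro A B
      obtain ⟨Z, hZ, ⟨e'⟩⟩ := P.ext_of_isTriangulatedClosed₂' _
        (binaryBiproductTriangle_distinguished A.left.obj B.left.obj) A.left.property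
        B.left.property
      let e : A.left.obj ⊞ B.left.obj ≅ Z := e'
      refine ⟨CostructuredArrow.mk (Y := (⟨Z, hZ⟩ : P.FullSubcategory))
        (e.inv ≫ biprod.desc A.hom B.hom), ?_, ?_, trivial⟩
      · refine CostructuredArrow.homMk (ObjectProperty.homMk (biprod.inl ≫ e.hom)) ?_
        show (biprod.inl ≫ e.hom) ≫ e.inv ≫ biprod.desc A.hom B.hom = A.hom
        rw [Category.assoc, e.hom_inv_id_assoc, biprod.inl_desc]
      · refine CostructuredArrow.homMk (ObjectProperty.homMk (biprod.inr ≫ e.hom)) ?_
        show (biprod.inr ≫ e.hom) ≫ e.inv ≫ biprod.desc A.hom B.hom = B.hom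
        rw [Category.assoc, e.hom_inv_id_assoc, biprod.inr_desc]
    · intro A B a b
      have ha : a.left.hom ≫ B.hom = A.hom := CostructuredArrow.w a
      have hb : b.left.hom ≫ B.hom = A.hom := CostructuredArrow.w b
      obtain ⟨Z, hZ, c, δ, hT⟩ := P.distinguished_cocone_triangle
        (a.left.hom - b.left.hom) A.left.property B.left.property
      have hd : (a.left.hom - b.left.hom) ≫ B.hom = 0 := by
        rw [Preadditive.sub_comp, ha, hb, sub_self]
      obtain ⟨g, hg⟩ := Triangle.yoneda_exact₂ _ hT B.hom hd
      refine ⟨CostructuredArrow.mk (Y := (⟨Z, hZ⟩ : P.FullSubcategory)) g,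
        CostructuredArrow.homMk (ObjectProperty.homMk c) hg.symm, ?_⟩
      apply CostructuredArrow.hom_ext
      apply ObjectProperty.hom_ext
      have h0 : (a.left.hom - b.left.hom) ≫ c = 0 := comp_distTriang_mor_zero₁₂ _ hT
      rw [Preadditive.sub_comp, sub_eq_zero] at h0
      exact h0
  exact { hfe with nonempty := hne }

end Groth.Agent.S6708
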