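import Groth.Statements.S6707
import Groth.Agent.H34.Efface
import Mathlib.Algebra.Homology.DerivedCategory.FullyFaithful

set_option autoImplicit false
universe w v u
open CategoryTheory
open DEquiv

namespace Groth.Agent.S6707

open CategoryTheory.Limits in
/-- Let A be an abelian category in which every object X is the target of an epimorphism N ⟶ X with
Hom(X, N) = 0. Let f : X ⟶ X' be a morphism between bounded objects of D(A) and b an integer with
H^i(X) = 0 for i > b and H^i(X') = 0 for i ≥ b. Then there exist an object N of A and a morphism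
N⟦-b⟧ ⟶ X (N placed in degree b) inducing an epimorphism N ⟶ H^b(X), with Hom(H^b(X), N) = 0, and
whose composite with f is zero. -/
theorem result
    {A : Type u} [Category.{v} A] [Abelian A] [HasDerivedCategory.{w} A]
    (hneg : ∀ X : A, ∃ (N : A) (p : N ⟶ X), Epi p ∧ ∀ f : X ⟶ N, f = 0)
    (X X' : DerivedCategory A) (f : X ⟶ X') (a b a' : ℤ) [X.IsGE a] [X.IsLE b] [X'.IsGE a']
    [X'.IsLE (b - 1)] :
    ∃ (N : A) (g : (DerivedCategory.singleFunctor A b).obj N ⟶ X),
      Epi ((DerivedCategory.homologyFunctor A b).map g) ∧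
        (∀ φ : (DerivedCategory.homologyFunctor A b).obj X ⟶ N, φ = 0) ∧ g ≫ f = 0 := by
  classical
  obtain ⟨K, hK, ⟨e⟩⟩ := X.exists_iso_Q_obj_of_isLE b
  -- the top map
  let g0 : (DerivedCategory.singleFunctor A b).obj (K.X b) ⟶ X :=
    DerivedCategory.Q.map (Groth.Agent.H34.Efface.topMap K b) ≫ e.inv
  have hg0 : Epi ((DerivedCategory.homologyFunctor A b).map g0) := by
    have := Groth.Agent.H34.Efface.epi_homologyFunctor_map_Q_topMap K b
    dsimp only [g0]
    rw [Functor.map_comp]
    exact @epi_comp _ _ _ _ _ _ this _ inferInstance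
  -- efface `g0 ≫ f`
  obtain ⟨P1, p1, hp1, h1⟩ := Groth.Agent.H34.Efface.efface (K.X b) b (b - 1) (by omega) X'
    (g0 ≫ f)
  obtain ⟨N, p, hp, hN⟩ := hneg P1
  -- `H^b` of a single map is conjugate to the map
  have key : ∀ {U V : A} (q : U ⟶ V) [Epi q],
      Epi ((DerivedCategory.homologyFunctor A b).map
        ((DerivedCategory.singleFunctor A b).map q)) := by
    intro U V q _
    have := NatIso.naturality_2 (DerivedCategory.singleFunctorCompHomologyFunctorIso A b) q
    dsimp at this
    rw [← this]
    infer_instance
  have hE1 : Epi ((DerivedCategory.homologyFunctor A b).map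
      ((DerivedCategory.singleFunctor A b).map p1 ≫ g0)) := by
    rw [Functor.map_comp]
    have := key p1
    exact epi_comp _ _
  refine ⟨N, (DerivedCategory.singleFunctor A b).map p ≫
    (DerivedCategory.singleFunctor A b).map p1 ≫ g0, ?_, ?_, ?_⟩
  · rw [Functor.map_comp]
    have := key p
    exact epi_comp _ _
  · intro φ
    let π : P1 ⟶ (DerivedCategory.homologyFunctor A b).obj X :=
      (DerivedCategory.singleFunctorCompHomologyFunctorIso A b).inv.app P1 ≫
        (DerivedCategory.homologyFunctor A b).map
          ((DerivedCategory.singleFunctor A b).map p1 ≫ g0)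
    have hπ : Epi π := epi_comp _ _
    rw [← cancel_epi π, comp_zero]
    exact hN _
  · rw [Category.assoc, Category.assoc, h1, comp_zero]

end Groth.Agent.S6707
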