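import Groth.Statements.S6974
import Groth.Agent.H28.PCohFibre

set_option autoImplicit false
universe u
open CategoryTheory CategoryTheory.Limits
attribute [local instance] HasDerivedCategory.standard
open DRing

namespace Groth.Agent.S6974

/-- Let R be a commutative ring such that the derived base change D(R) → D(R/m) exists for every ideal
m, let K be a pseudo-coherent object of D(R) and a, b integers. If for every maximal ideal m of R
the cohomology H^i(K ⊗^L_R R/m) vanishes for all i outside [a, b], then K is perfect and has tor
amplitude in [a, b]. -/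
theorem result (R : Type u) [CommRing R]
    [∀ m : Ideal R, DRing.HasLBaseChange (Ideal.Quotient.mk m)] (K : Dual.D R)
    (hK : DRing.IsPseudoCoherent' R K) (a b : ℤ)
    (h : ∀ (m : Ideal R), m.IsMaximal → ∀ i : ℤ, (i < a ∨ b < i) →
      Subsingleton (Dual.HD (R ⧸ m) ((DRing.LBaseChange (Ideal.Quotient.mk m)).obj K) i)) :
    DRing.IsPerfect R K ∧ DRing.HasTorAmplitudeIn R a b K := by
  obtain ⟨G, hG, hp, he⟩ :=
    Groth.Agent.H28.PCohFibre.exists_finProj_rep_of_maximal_fibres_vanishing K
      ((Groth.Agent.H28.PCohRing.isPseudoCoherent'_iff R K).mp hK) a b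
      (fun m hm n hn => by
        have := h m hm n hn
        exact ModuleCat.isZero_of_subsingleton _)
  refine ⟨⟨G, a, b, hG, hp, he⟩, ⟨G, hG, fun i => ?_, he⟩⟩
  have := (hp i).2
  infer_instance

end Groth.Agent.S6974
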