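import Groth.Statements.S4228
import Groth.Agent.H36.BertiniSmD

set_option autoImplicit false
open CategoryTheory AlgebraicGeometry
universe u
open An

namespace Groth.Agent.S4228

/-- In the affine hyperplane case to which the proof reduces (the published statement is for a
projective scheme V ⊆ P^n_k of pure dimension r and a general linear subspace of any dimension,
parametrised by a dense open subset of the Grassmannian; part (ii), hypersurfaces of degree ≥ 2
through a point, is not stated here): let k be an infinite field (for a finite field the condition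
below on coefficient vectors could hold at no rational point, so the dense-open formulation is
rendered only for infinite k) and A = k[x_1, …, x_n]/I a quotient of the polynomial ring (V = Spec A
⊆ A^n_k) such that every irreducible component of V has dimension r. Then there is a nonzero
polynomial g in the n + 1 coefficients such that for every a = (a_0, …, a_n) with g(a) ≠ 0 the
hyperplane a_0 + Σ a_i x_i = 0 cuts V transversally at every point of the hyperplane section where V
is smooth over k: the section Spec (A/(a_0 + Σ a_i x_i)) is smooth over k of relative dimension r −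
1 on a neighbourhood of each such point. -/
theorem result (k : Type u) [Field k] [Infinite k] (n r : ℕ) (A : Type u) [CommRing A]
    [Algebra k A] (x : Fin n → A)
    (hx : Function.Surjective (MvPolynomial.aeval x : MvPolynomial (Fin n) k →ₐ[k] A))
    (hdim : ∀ P ∈ minimalPrimes A, ringKrullDim (A ⧸ P) = r) :
    ∃ g : MvPolynomial (Fin (n + 1)) k, g ≠ 0 ∧
      ∀ a : Fin (n + 1) → k, MvPolynomial.eval a g ≠ 0 →
        ∀ (q : Ideal (A ⧸ Ideal.span {algebraMap k A (a 0) + ∑ i : Fin n, algebraMap k A (a i.succ) * x i}))
          (_ : q.IsPrime),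
          (∃ f : A, f ∉ q.comap (Ideal.Quotient.mk _) ∧
            Smooth (Spec.map (CommRingCat.ofHom (algebraMap k (Localization.Away f))))) →
          ∃ f : A ⧸ Ideal.span {algebraMap k A (a 0) + ∑ i : Fin n, algebraMap k A (a i.succ) * x i},
            f ∉ q ∧ SmoothOfRelativeDimension (r - 1)
              (Spec.map (CommRingCat.ofHom (algebraMap k (Localization.Away f)))) := by
  classical
  have : Algebra.FiniteType k A := Algebra.FiniteType.of_surjective _ hx
  have : IsNoetherianRing A := Algebra.FiniteType.isNoetherianRing k A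
  obtain ⟨s, hs𝓕, hspan⟩ :=
    (Submodule.fg_span_iff_fg_span_finset_subset {F : A | Groth.Agent.H36.BertiniSm.ChartProp k x F}).mp
      (IsNoetherian.noetherian (Ideal.span {F : A | Groth.Agent.H36.BertiniSm.ChartProp k x F}))
  have hch := fun (F : A) (hF : Groth.Agent.H36.BertiniSm.ChartProp k x F) =>
    Groth.Agent.H36.BertiniSm.chart_generic k r x hx hdim F hF
  choose G hG0 hG using hch
  refine ⟨∏ F ∈ s.attach, G F.1 (hs𝓕 F.2), ?_, ?_⟩
  · rw [Finset.prod_ne_zero_iff]
    intro F _
    exact hG0 _ _
  intro a hga q hq hex
  obtain ⟨f, hfq, hsm⟩ := hex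
  have := hq
  have hsm' : Algebra.Smooth k (Localization.Away f) := by
    have h1 : (algebraMap k (Localization.Away f)).Smooth :=
      (HasRingHomProperty.Spec_iff (P := @Smooth)).mp hsm
    rwa [RingHom.smooth_algebraMap] at h1
  obtain ⟨F₀, hF₀q, hF₀⟩ := Groth.Agent.H36.BertiniSm.exists_chart k x hx f
    (q.comap (Ideal.Quotient.mk _)) hfq
  have hex : ∃ F ∈ s, F ∉ q.comap (Ideal.Quotient.mk (Ideal.span
      {algebraMap k A (a 0) + ∑ i : Fin n, algebraMap k A (a i.succ) * x i})) := by
    by_contra hcon
    push Not at hcon
    have hle : Ideal.span {F : A | Groth.Agent.H36.BertiniSm.ChartProp k x F} ≤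
        q.comap (Ideal.Quotient.mk _) := by
      change Submodule.span A _ ≤ _
      rw [hspan]
      exact Ideal.span_le.mpr fun F hF => hcon F hF
    exact hF₀q (hle (Ideal.subset_span hF₀))
  obtain ⟨F, hFs, hFq⟩ := hex
  have hgF : MvPolynomial.eval a (G F (hs𝓕 hFs)) ≠ 0 := by
    rw [map_prod, Finset.prod_ne_zero_iff] at hga
    exact hga ⟨F, hFs⟩ (Finset.mem_attach _ _)
  have hlin : (algebraMap k A (a 0) + ∑ i : Fin n, algebraMap k A (a i.succ) * x i) ∈
      q.comap (Ideal.Quotient.mk (Ideal.span
        {algebraMap k A (a 0) + ∑ i : Fin n, algebraMap k A (a i.succ) * x i})) := by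
    rw [Ideal.mem_comap]
    have : Ideal.Quotient.mk (Ideal.span
        {algebraMap k A (a 0) + ∑ i : Fin n, algebraMap k A (a i.succ) * x i})
        (algebraMap k A (a 0) + ∑ i : Fin n, algebraMap k A (a i.succ) * x i) = 0 :=
      Ideal.Quotient.eq_zero_iff_mem.mpr (Ideal.mem_span_singleton_self _)
    rw [this]
    exact q.zero_mem
  obtain ⟨F', hF'q, hstd⟩ := hG F (hs𝓕 hFs) a hgF (q.comap (Ideal.Quotient.mk _)) hFq hlin
  refine ⟨Ideal.Quotient.mk _ F', hF'q, ?_⟩
  have h2 : (algebraMap k (Localization.Away (Ideal.Quotient.mk (Ideal.span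
      {algebraMap k A (a 0) + ∑ i : Fin n, algebraMap k A (a i.succ) * x i})
      F'))).IsStandardSmoothOfRelativeDimension (r - 1) := by
    rw [RingHom.isStandardSmoothOfRelativeDimension_algebraMap]
    exact hstd
  exact (HasRingHomProperty.Spec_iff (P := @SmoothOfRelativeDimension (r - 1))).mpr
    (RingHom.locally_of RingHom.isStandardSmoothOfRelativeDimension_respectsIso _ h2)

end Groth.Agent.S4228
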