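import Groth.Statements.S10918
import Groth.Agent.H29.CINormal

set_option autoImplicit false
universe u
open CInt

namespace Groth.Agent.S10918


/-- Let k be a field, S = k[x_0, …, x_n], and f_1, …, f_r with r < n homogeneous polynomials of positive
degrees whose ideal J has height r, so that Y = V_+(J) ⊆ P^n_k is a global complete intersection of
dimension n − r ≥ 1 with homogeneous coordinate ring S' = S/J. Suppose Y is normal, expressed on the
affine cone: for every prime ideal Q of S' not containing all the classes of the x_i (every point of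
the cone Spec S' other than the vertex), the localization S'_Q is an integrally closed domain. Then
S' is an integrally closed domain, i.e. Y is projectively normal. -/
theorem result
    (k : Type u) [Field k] (n r : ℕ) (hr : r < n) (f : Fin r → MvPolynomial (Fin (n + 1)) k) (d : Fin r → ℕ)
    (hf : ∀ i, (f i).IsHomogeneous (d i)) (hd : ∀ i, 0 < d i)
    (hJ : (Ideal.span (Set.range f)).height = r)
    (hnorm : ∀ (Q : Ideal (MvPolynomial (Fin (n + 1)) k ⧸ Ideal.span (Set.range f))) [Q.IsPrime],
      (∃ i, Ideal.Quotient.mk (Ideal.span (Set.range f)) (MvPolynomial.X i) ∉ Q) →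
        IsDomain (Localization.AtPrime Q) ∧ IsIntegrallyClosed (Localization.AtPrime Q)) :
    IsDomain (MvPolynomial (Fin (n + 1)) k ⧸ Ideal.span (Set.range f)) ∧
      IsIntegrallyClosed (MvPolynomial (Fin (n + 1)) k ⧸ Ideal.span (Set.range f)) := by
  classical
  set J := Ideal.span (Set.range f) with hJdef
  set 𝔪 := MvPolynomial.idealOfVars (Fin (n + 1)) k with h𝔪def
  have h𝔪max : 𝔪.IsMaximal := Groth.Agent.H29.CINormal.idealOfVars_isMaximal k (Fin (n + 1))
  have hsurj : Function.Surjective (Ideal.Quotient.mk J) := Ideal.Quotient.mk_surjective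
  -- `J ≤ 𝔪`
  have hJm : J ≤ 𝔪 := by
    rw [hJdef, Ideal.span_le]
    rintro _ ⟨i, rfl⟩
    rw [SetLike.mem_coe, h𝔪def, Groth.Agent.H29.CINormal.idealOfVars_eq_ker, RingHom.mem_ker,
      MvPolynomial.constantCoeff_eq]
    exact (hf i).coeff_eq_zero (by
      rw [map_zero]
      exact (hd i).ne)
  have hJhom : J.IsHomogeneous (MvPolynomial.homogeneousSubmodule (Fin (n + 1)) k) :=
    Groth.Agent.H29.CINormal.isHomogeneous_span_range f d hf
  -- Cohen–Macaulay
  have hCM : ∀ (Q : Ideal (MvPolynomial (Fin (n + 1)) k ⧸ J)) [Q.IsPrime],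
      LocCoh.IsCohenMacaulayLocalRing (Localization.AtPrime Q) := by
    intro Q hQ
    exact Groth.Agent.H29.CINormal.isCM_atPrime_of_height k (n + 1) r f (le_of_eq hJ.symm)
      (Ideal.Quotient.mk J) hsurj Ideal.mk_ker Q
  have hS2 : LocCoh.HasSk 2 (MvPolynomial (Fin (n + 1)) k ⧸ J) (MvPolynomial (Fin (n + 1)) k ⧸ J) :=
    Groth.Agent.H29.CINormal.hasSk_of_forall_isCM _ hCM 2
  -- `(R_1)`
  have hR1 : LocCoh.HasRk 1 (MvPolynomial (Fin (n + 1)) k ⧸ J) := by
    intro Q hQ hht
    by_cases hex : ∃ i, Ideal.Quotient.mk J (MvPolynomial.X i) ∉ Q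
    · obtain ⟨hdom, hic⟩ := hnorm Q hex
      exact Groth.Agent.H29.CINormal.isRegularLocalRing_atPrime_of_height_le_one _ Q hdom hic
        (by exact_mod_cast hht)
    · exfalso
      push Not at hex
      have hle : 𝔪 ≤ Q.comap (Ideal.Quotient.mk J) := by
        rw [h𝔪def, MvPolynomial.idealOfVars, Ideal.span_le]
        rintro _ ⟨i, rfl⟩
        exact hex i
      have hcomap : Q.comap (Ideal.Quotient.mk J) = 𝔪 :=
        (h𝔪max.eq_of_le (Ideal.comap_ne_top _ hQ.ne_top) hle).symm
      have hQeq : Q = 𝔪.map (Ideal.Quotient.mk J) := by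
        rw [← hcomap, Ideal.map_comap_of_surjective _ hsurj]
      have h1 := Ideal.height_le_height_add_encard_of_subset (Set.range f) (p := 𝔪)
        (by rw [← Ideal.span_le]; exact hJm)
      rw [Groth.Agent.H54.height_of_isMaximal_mvPolynomial k (n + 1) 𝔪, ← hJdef, ← hQeq] at h1
      have h2 : (Set.range f).encard ≤ (r : ℕ∞) := by
        rw [← Set.image_univ]
        refine (Set.encard_image_le f Set.univ).trans ?_
        rw [Set.encard_univ, ENat.card_eq_coe_fintype_card, Fintype.card_fin]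
      have h3 : ((n + 1 : ℕ) : ℕ∞) ≤ 1 + (r : ℕ∞) :=
        h1.trans (add_le_add hht h2)
      have h4 : n + 1 ≤ 1 + r := by exact_mod_cast h3
      omega
  -- Serre's criterion
  have hloc := (Groth.Agent.H14.serre_criterion_normal (MvPolynomial (Fin (n + 1)) k ⧸ J)).mpr
    ⟨hR1, hS2⟩
  -- the vertex
  have hm'prime : (𝔪.map (Ideal.Quotient.mk J)).IsPrime :=
    Ideal.isPrime_map_quotientMk_of_isPrime hJm
  have hm'comap : (𝔪.map (Ideal.Quotient.mk J)).comap (Ideal.Quotient.mk J) = 𝔪 := by
    rw [Ideal.comap_map_of_surjective' _ hsurj, Ideal.mk_ker, sup_eq_left]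
    exact hJm
  have hdomloc : IsDomain (Localization.AtPrime (𝔪.map (Ideal.Quotient.mk J))) :=
    (hloc (𝔪.map (Ideal.Quotient.mk J))).1
  have hinj : Function.Injective (algebraMap (MvPolynomial (Fin (n + 1)) k ⧸ J)
      (Localization.AtPrime (𝔪.map (Ideal.Quotient.mk J)))) := by
    rw [injective_iff_map_eq_zero]
    intro x hx
    rw [IsLocalization.map_eq_zero_iff (𝔪.map (Ideal.Quotient.mk J)).primeCompl] at hx
    obtain ⟨⟨s, hs⟩, hsx⟩ := hx
    obtain ⟨a, rfl⟩ := hsurj x
    obtain ⟨s0, rfl⟩ := hsurj s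
    have hs0 : s0 ∉ 𝔪 := by
      intro h
      exact hs (Ideal.mem_map_of_mem _ h)
    have hc : MvPolynomial.constantCoeff s0 ≠ 0 := by
      intro h
      apply hs0
      rw [h𝔪def, Groth.Agent.H29.CINormal.idealOfVars_eq_ker, RingHom.mem_ker]
      exact h
    have hmem : s0 * a ∈ J := by
      rw [← Ideal.Quotient.eq_zero_iff_mem, map_mul]
      exact hsx
    rw [Ideal.Quotient.eq_zero_iff_mem]
    exact Groth.Agent.H29.CINormal.mem_of_mul_mem J hJhom s0 a hc hmem
  have hdom : IsDomain (MvPolynomial (Fin (n + 1)) k ⧸ J) :=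
    Function.Injective.isDomain (algebraMap (MvPolynomial (Fin (n + 1)) k ⧸ J)
      (Localization.AtPrime (𝔪.map (Ideal.Quotient.mk J)))) hinj
  refine ⟨hdom, ?_⟩
  exact IsIntegrallyClosed.of_localization_maximal (fun p _ hp => (hloc p).2)

end Groth.Agent.S10918
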