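import Groth.Statements.S11269
import Mathlib.RingTheory.Regular.Flat
import Mathlib.RingTheory.Ideal.AssociatedPrime.Finiteness
import Mathlib.RingTheory.KrullDimension.Module
import Mathlib.Algebra.Module.LocalizedModule.IsLocalization
import Mathlib.RingTheory.Localization.AtPrime.Basic
-- import your own Groth.Agent.* helpers here

set_option autoImplicit false
universe u
open W4bk4grassmannian

namespace Groth.Agent.S11269

open RingTheory.Sequence IsLocalRing
open scoped Pointwise

section General

universe v

variable {S : Type u} [CommRing S] [IsLocalRing S] {N : Type v} [AddCommGroup N] [Module S N]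

/-- A weakly regular sequence in the maximal ideal bounds the depth from below. -/
lemma le_depth_of_isWeaklyRegular (rs : List S) (h : IsWeaklyRegular N rs)
    (hm : ∀ r ∈ rs, r ∈ maximalIdeal S) : (rs.length : ℕ∞) ≤ LocCoh.depth S N := by
  unfold LocCoh.depth LocCoh.idealDepth
  split_ifs with h0
  · exact le_top
  · exact le_iSup₂_of_le rs ⟨h, hm⟩ le_rfl

/-- If all weakly regular sequences in the maximal ideal have length at most `n`, the depth is at
most `n`. -/
lemma depth_le_of_forall (n : ℕ) (h0 : maximalIdeal S • (⊤ : Submodule S N) ≠ ⊤)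
    (h : ∀ rs : List S, IsWeaklyRegular N rs → (∀ r ∈ rs, r ∈ maximalIdeal S) → rs.length ≤ n) :
    LocCoh.depth S N ≤ n := by
  unfold LocCoh.depth LocCoh.idealDepth
  rw [if_neg h0]
  refine iSup₂_le ?_
  rintro rs ⟨h1, h2⟩
  exact_mod_cast h rs h1 h2

end General

/-- In a local domain with a nonzero `a` such that the maximal ideal is the annihilator of a nonzero
class modulo `a`, every regular sequence in the maximal ideal has length at most one. -/
lemma length_le_one_of_domain {S : Type u} [CommRing S] [IsDomain S] [IsLocalRing S]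
    (a c : S) (ha : a ≠ 0) (hc : c ∉ Ideal.span {a})
    (hmc : ∀ x ∈ maximalIdeal S, x * c ∈ Ideal.span {a})
    (rs : List S) (h : IsWeaklyRegular S rs) (hm : ∀ r ∈ rs, r ∈ maximalIdeal S) :
    rs.length ≤ 1 := by
  match rs, h, hm with
  | [], _, _ => simp
  | [x], _, _ => simp
  | x :: y :: rest, h, hm =>
    exfalso
    rw [isWeaklyRegular_cons_iff, isWeaklyRegular_cons_iff] at h
    obtain ⟨hx, hy, -⟩ := h
    have hxm := hm x (by simp)
    have hym := hm y (by simp)
    obtain ⟨c₁, hc₁⟩ := Ideal.mem_span_singleton'.mp (hmc x hxm)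
    obtain ⟨c₂, hc₂⟩ := Ideal.mem_span_singleton'.mp (hmc y hym)
    have hx0 : x ≠ 0 := by
      rintro rfl
      have h1 : (0 : S) • (1 : S) = (0 : S) • (0 : S) := by simp
      exact one_ne_zero (hx h1)
    have h1 : y * c₁ = x * c₂ := by
      apply mul_left_cancel₀ ha
      calc a * (y * c₁) = y * (c₁ * a) := by ring
        _ = y * (x * c) := by rw [hc₁]
        _ = x * (y * c) := by ring
        _ = x * (c₂ * a) := by rw [hc₂]
        _ = a * (x * c₂) := by ring
    have h2 : (Submodule.Quotient.mk c₁ : QuotSMulTop x S) = 0 := by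
      apply hy
      change y • (Submodule.Quotient.mk c₁ : QuotSMulTop x S) = y • 0
      rw [smul_zero, ← Submodule.Quotient.mk_smul, Submodule.Quotient.mk_eq_zero, smul_eq_mul, h1]
      exact Submodule.smul_mem_pointwise_smul _ _ _ Submodule.mem_top
    rw [Submodule.Quotient.mk_eq_zero] at h2
    obtain ⟨c₃, -, hc₃⟩ := (Submodule.mem_smul_pointwise_iff_exists _ _ _).mp h2
    apply hc
    rw [Ideal.mem_span_singleton']
    refine ⟨c₃, ?_⟩
    apply mul_left_cancel₀ hx0
    calc x * (c₃ * a) = (x • c₃) * a := by rw [smul_eq_mul]; ring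
      _ = c₁ * a := by rw [hc₃]
      _ = x * c := hc₁


section Loc

variable {R : Type u} [CommRing R] (P : Ideal R) [P.IsPrime]

/-- The localized module of `R` at `P` is the localization, linearly over the localization. -/
noncomputable def eLoc :
    LocalizedModule P.primeCompl R ≃ₗ[Localization.AtPrime P] Localization.AtPrime P :=
  (IsLocalizedModule.iso P.primeCompl
    (Algebra.linearMap R (Localization.AtPrime P))).extendScalarsOfIsLocalization
      P.primeCompl (Localization.AtPrime P)

lemma supportDim_loc :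
    Module.supportDim (Localization.AtPrime P) (LocalizedModule P.primeCompl R) =
      ((P.height : ℕ∞) : WithBot ℕ∞) := by
  rw [Module.supportDim_eq_of_equiv (eLoc P), Module.supportDim_self_eq_ringKrullDim,
    IsLocalization.AtPrime.ringKrullDim_eq_height P]

lemma smul_top_ne_top :
    maximalIdeal (Localization.AtPrime P) •
      (⊤ : Submodule (Localization.AtPrime P) (LocalizedModule P.primeCompl R)) ≠ ⊤ := by
  intro h
  have h1 := congrArg (Submodule.map (eLoc P).toLinearMap) h
  rw [Submodule.map_smul'', Submodule.map_top, LinearEquiv.range, smul_eq_mul, Ideal.mul_top] at h1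
  exact (IsLocalRing.maximalIdeal.isMaximal _).ne_top h1

lemma algebraMap_injective_loc [IsDomain R] :
    Function.Injective (algebraMap R (Localization.AtPrime P)) :=
  IsLocalization.injective (Localization.AtPrime P) P.primeCompl_le_nonZeroDivisors

end Loc


section Forward

variable {R : Type u} [CommRing R] [IsDomain R] [IsNoetherianRing R]

omit [IsNoetherianRing R] in
lemma depth_le_one_of_mem_associatedPrimes (a : R) (ha : a ≠ 0) (P : Ideal R) [P.IsPrime]
    (c : R) (hPc : ∀ r : R, r ∈ P ↔ r * c ∈ Ideal.span {a}) :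
    LocCoh.depth (Localization.AtPrime P) (LocalizedModule P.primeCompl R) ≤ 1 := by
  have hinj := algebraMap_injective_loc P
  set S := Localization.AtPrime P
  have hc : c ∉ Ideal.span {a} := by
    intro hc
    have h1 : (1 : R) ∈ P := (hPc 1).mpr (by rwa [one_mul])
    exact (Ideal.IsPrime.ne_top inferInstance) ((Ideal.eq_top_iff_one P).mpr h1)
  have ha' : algebraMap R S a ≠ 0 := by
    intro h
    exact ha (hinj (h.trans (map_zero _).symm))
  have hc' : algebraMap R S c ∉ Ideal.span {algebraMap R S a} := by
    intro h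
    obtain ⟨z, hz⟩ := Ideal.mem_span_singleton'.mp h
    obtain ⟨r, s, rfl⟩ := IsLocalization.exists_mk'_eq P.primeCompl z
    have h1 : algebraMap R S (c * s) = algebraMap R S (r * a) := by
      rw [map_mul, map_mul, ← hz]
      have := IsLocalization.mk'_spec S r s
      calc IsLocalization.mk' S r s * algebraMap R S a * algebraMap R S s
          = (IsLocalization.mk' S r s * algebraMap R S s) * algebraMap R S a := by ring
        _ = algebraMap R S r * algebraMap R S a := by rw [this]
    have h2 : c * s = r * a := hinj h1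
    have h3 : (s : R) ∈ P := (hPc s).mpr (by
      rw [mul_comm, h2]
      exact Ideal.mul_mem_left _ _ (Ideal.mem_span_singleton_self a))
    exact s.2 h3
  have hmc : ∀ x ∈ maximalIdeal S, x * algebraMap R S c ∈ Ideal.span {algebraMap R S a} := by
    intro x hx
    obtain ⟨p, s, rfl⟩ := IsLocalization.exists_mk'_eq P.primeCompl x
    rw [IsLocalization.AtPrime.mk'_mem_maximal_iff S P] at hx
    obtain ⟨w, hw⟩ := Ideal.mem_span_singleton'.mp ((hPc p).mp hx)
    rw [Ideal.mem_span_singleton']
    refine ⟨IsLocalization.mk' S w s, ?_⟩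
    have hu : IsUnit (algebraMap R S s) := IsLocalization.map_units S s
    apply hu.mul_left_injective
    change IsLocalization.mk' S w s * algebraMap R S a * algebraMap R S s =
      IsLocalization.mk' S p s * algebraMap R S c * algebraMap R S s
    calc IsLocalization.mk' S w s * algebraMap R S a * algebraMap R S s
        = (IsLocalization.mk' S w s * algebraMap R S s) * algebraMap R S a := by ring
      _ = algebraMap R S w * algebraMap R S a := by rw [IsLocalization.mk'_spec]
      _ = algebraMap R S (p * c) := by rw [← map_mul, hw]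
      _ = (IsLocalization.mk' S p s * algebraMap R S s) * algebraMap R S c := by
          rw [IsLocalization.mk'_spec, map_mul]
      _ = IsLocalization.mk' S p s * algebraMap R S c * algebraMap R S s := by ring
  have := depth_le_of_forall (S := S) (N := LocalizedModule P.primeCompl R) 1 (smul_top_ne_top P)
    (fun rs h1 h2 => length_le_one_of_domain _ _ ha' hc' hmc rs
      ((LinearEquiv.isWeaklyRegular_congr (eLoc P) rs).mp h1) h2)
  exact_mod_cast this

theorem forward (hS2 : LocCoh.HasSk 2 R R) (a : R) (ha : a ≠ 0) (P : Ideal R)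
    (hP : P ∈ associatedPrimes R (R ⧸ Ideal.span {a})) : P.height = 1 := by
  rw [AssociatedPrimes.mem_iff, isAssociatedPrime_iff] at hP
  obtain ⟨hPprime, x, hx⟩ := hP
  obtain ⟨c, rfl⟩ := Ideal.Quotient.mk_surjective x
  have hPc : ∀ r : R, r ∈ P ↔ r * c ∈ Ideal.span {a} := by
    intro r
    rw [hx, Submodule.mem_colon_singleton, Submodule.mem_bot, ← Ideal.Quotient.eq_zero_iff_mem,
      map_mul]
    rfl
  have hdepth := depth_le_one_of_mem_associatedPrimes a ha P c hPc
  have h2 := hS2 P
  rw [supportDim_loc] at h2
  have haP : a ∈ P := (hPc a).mpr (Ideal.mul_mem_right _ _ (Ideal.mem_span_singleton_self a))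
  have hne : P ≠ ⊥ := by
    intro h
    rw [h, Ideal.mem_bot] at haP
    exact ha haP
  have h0 : P.height ≠ 0 := by
    rw [Ne, Ideal.height_eq_zero_iff_eq_bot]
    exact hne
  have h3 : min ((2 : ℕ) : WithBot ℕ∞) ((P.height : ℕ∞) : WithBot ℕ∞) ≤ ((1 : ℕ∞) : WithBot ℕ∞) :=
    h2.trans (WithBot.coe_le_coe.mpr hdepth)
  have h4 : P.height ≤ 1 := by
    rcases min_le_iff.mp h3 with h | h
    · exfalso
      have h5 : ((2 : ℕ) : WithBot ℕ∞) = (((2 : ℕ∞)) : WithBot ℕ∞) := rfl
      rw [h5, WithBot.coe_le_coe] at h
      norm_num at h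
    · exact WithBot.coe_le_coe.mp h
  exact le_antisymm h4 (Order.one_le_iff_ne_zero.mpr h0)

end Forward


section Backward

variable {R : Type u} [CommRing R] [IsDomain R] [IsNoetherianRing R]

omit [IsDomain R] [IsNoetherianRing R] in
lemma le_depth_loc (P : Ideal R) [P.IsPrime] (rs : List R) (h : IsWeaklyRegular R rs)
    (hm : ∀ r ∈ rs, r ∈ P) :
    (rs.length : ℕ∞) ≤
      LocCoh.depth (Localization.AtPrime P) (LocalizedModule P.primeCompl R) := by
  have h1 := IsWeaklyRegular.of_isLocalizedModule (Localization.AtPrime P) P.primeCompl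
    (LocalizedModule.mkLinearMap P.primeCompl R) h
  have h2 := le_depth_of_isWeaklyRegular _ h1 (by
    intro r hr
    obtain ⟨r', hr', rfl⟩ := List.mem_map.mp hr
    exact (IsLocalization.AtPrime.to_map_mem_maximal_iff _ P r').mpr (hm r' hr'))
  rwa [List.length_map] at h2

omit [IsDomain R] [IsNoetherianRing R] in
lemma smul_top_eq_span (a : R) : (a • ⊤ : Submodule R R) = Ideal.span {a} := by
  ext x
  rw [Submodule.mem_smul_pointwise_iff_exists, Ideal.mem_span_singleton']
  constructor
  · rintro ⟨y, -, rfl⟩
    exact ⟨y, by rw [smul_eq_mul, mul_comm]⟩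
  · rintro ⟨y, rfl⟩
    exact ⟨y, Submodule.mem_top, by rw [smul_eq_mul, mul_comm]⟩

omit [IsDomain R] [IsNoetherianRing R] in
lemma isSMulRegular_quotSMulTop (a b : R) (hb : IsSMulRegular (R ⧸ Ideal.span {a}) b) :
    IsSMulRegular (QuotSMulTop a R) b := by
  let e : QuotSMulTop a R ≃ₗ[R] (R ⧸ Ideal.span {a}) :=
    Submodule.quotEquivOfEq _ _ (smul_top_eq_span a)
  intro x y hxy
  apply e.injective
  apply hb
  change b • e x = b • e y
  rw [← map_smul, ← map_smul]
  exact congrArg e hxy

omit [IsDomain R] in
lemma exists_regular (a : R) (P : Ideal R) [P.IsPrime] (hht : 2 ≤ P.height)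
    (h : ∀ Q ∈ associatedPrimes R (R ⧸ Ideal.span {a}), Q.height = 1) :
    ∃ b ∈ P, IsSMulRegular (R ⧸ Ideal.span {a}) b := by
  have hfin : (associatedPrimes R (R ⧸ Ideal.span {a})).Finite := associatedPrimes.finite R _
  by_contra hcon
  push Not at hcon
  have hsub : (P : Set R) ⊆ ⋃ Q ∈ (hfin.toFinset : Set (Ideal R)), ((fun Q => Q) Q : Ideal R) := by
    intro b hb
    have h1 := hcon b hb
    rw [isSMulRegular_iff_right_eq_zero_of_smul] at h1
    push Not at h1
    obtain ⟨x, hbx, hx⟩ := h1
    have h2 : b ∈ ⋃ p ∈ associatedPrimes R (R ⧸ Ideal.span {a}), (p : Set R) := by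
      rw [biUnion_associatedPrimes_eq_zero_divisors]
      exact ⟨x, hx, hbx⟩
    simpa using h2
  rw [Ideal.subset_union_prime ⊥ ⊥ (fun Q hQ _ _ => by
    have : Q ∈ associatedPrimes R (R ⧸ Ideal.span {a}) := by simpa using hQ
    exact this.isPrime)] at hsub
  obtain ⟨Q, hQ, hPQ⟩ := hsub
  have hQ' : Q ∈ associatedPrimes R (R ⧸ Ideal.span {a}) := by simpa using hQ
  have h3 : P.height ≤ 1 := (Ideal.height_mono hPQ).trans (h Q hQ').le
  have h4 : (2 : ℕ∞) ≤ 1 := hht.trans h3
  norm_num at h4

theorem backward
    (h : ∀ a : R, a ≠ 0 → ∀ P : Ideal R, P ∈ associatedPrimes R (R ⧸ Ideal.span {a}) →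
      P.height = 1) : LocCoh.HasSk 2 R R := by
  intro P hP
  rw [supportDim_loc]
  by_cases hbot : P = ⊥
  · have h0 : P.height = 0 := Ideal.height_eq_zero_iff_eq_bot.mpr hbot
    rw [h0]
    refine (min_le_right _ _).trans ?_
    exact WithBot.coe_le_coe.mpr zero_le
  · obtain ⟨a, haP, ha⟩ := Submodule.exists_mem_ne_zero_of_ne_bot hbot
    have hreg_a : IsSMulRegular R a := (IsRegular.of_ne_zero ha).left.isSMulRegular
    by_cases hht : 2 ≤ P.height
    · obtain ⟨b, hbP, hb⟩ := exists_regular a P hht (h a ha)
      have hseq : IsWeaklyRegular R [a, b] := by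
        rw [isWeaklyRegular_cons_iff, isWeaklyRegular_singleton_iff]
        exact ⟨hreg_a, isSMulRegular_quotSMulTop a b hb⟩
      have h1 := le_depth_loc P [a, b] hseq (by
        intro r hr
        simp only [List.mem_cons, List.not_mem_nil, or_false] at hr
        rcases hr with rfl | rfl
        · exact haP
        · exact hbP)
      refine (min_le_left _ _).trans ?_
      have h5 : ((2 : ℕ) : WithBot ℕ∞) = (((2 : ℕ∞)) : WithBot ℕ∞) := rfl
      rw [h5]
      exact WithBot.coe_le_coe.mpr h1
    · have hle : P.height ≤ 1 := by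
        have h1 : P.height < 1 + 1 := by rw [one_add_one_eq_two]; exact not_le.mp hht
        exact Order.le_of_lt_add_one h1
      have h1 := le_depth_loc P [a] ((isWeaklyRegular_singleton_iff R a).mpr hreg_a) (by
        intro r hr
        simp only [List.mem_cons, List.not_mem_nil, or_false] at hr
        rw [hr]
        exact haP)
      refine (min_le_right _ _).trans ?_
      exact WithBot.coe_le_coe.mpr (hle.trans h1)

end Backward

/-- Let R be a Noetherian integral domain. Then R satisfies Serre's condition (S_2) (depth R_P ≥ min(2,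
dim R_P) for all primes P) if and only if, for every nonzero a ∈ R, every associated prime of the
R-module R/(a) has height one. -/
theorem result (R : Type u) [CommRing R] [IsDomain R]
    [IsNoetherianRing R] :
    LocCoh.HasSk 2 R R ↔
      ∀ a : R, a ≠ 0 → ∀ P : Ideal R, P ∈ associatedPrimes R (R ⧸ Ideal.span {a}) → P.height = 1 := by
  constructor
  · intro hS2 a ha P hP
    exact forward hS2 a ha P hP
  · intro h
    exact backward h


end Groth.Agent.S11269
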