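import Groth.Statements.S2120
import Mathlib

set_option autoImplicit false
universe u
open CategoryTheory AlgebraicGeometry
open Mor

namespace Groth.Agent.S2120

/-- Let `f : X → Y` be surjective and universally closed. If `X` is quasi-separated then so is `Y`; if
`X` is separated then so is `Y`. -/
theorem result {X Y : Scheme.{u}} (f : X ⟶ Y) [Surjective f] [UniversallyClosed f] :
    (QuasiSeparatedSpace X → QuasiSeparatedSpace Y) ∧ (X.IsSeparated → Y.IsSeparated) := by
  classical
  have hsurj : Function.Surjective f := f.surjective
  constructor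
  · intro hX
    constructor
    intro U V hU hUc hV hVc
    have h1 : IsCompact (f ⁻¹' U) := QuasiCompact.isCompact_preimage (f := f) U hU hUc
    have h2 : IsCompact (f ⁻¹' V) := QuasiCompact.isCompact_preimage (f := f) V hV hVc
    have h3 : IsCompact (f ⁻¹' U ∩ f ⁻¹' V) :=
      QuasiSeparatedSpace.inter_isCompact _ _ (hU.preimage f.continuous) h1
        (hV.preimage f.continuous) h2
    have h4 : f '' (f ⁻¹' U ∩ f ⁻¹' V) = U ∩ V := by
      rw [← Set.preimage_inter, Set.image_preimage_eq _ hsurj]
    rw [← h4]
    exact h3.image f.continuous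
  · intro hX
    let t := Limits.terminal.from Y
    haveI : IsSeparated (f ≫ t) := inferInstance
    have hF : UniversallyClosed (Limits.pullback.map (f ≫ t) (f ≫ t) t t f f (𝟙 _)
        ((Category.comp_id _).trans rfl) ((Category.comp_id _).trans rfl)) :=
      MorphismProperty.pullbackMap (P := @UniversallyClosed) inferInstance inferInstance rfl rfl
    set F := Limits.pullback.map (f ≫ t) (f ≫ t) t t f f (𝟙 _)
        ((Category.comp_id _).trans rfl) ((Category.comp_id _).trans rfl) with hFdef
    have hcomm : Limits.pullback.diagonal (f ≫ t) ≫ F = f ≫ Limits.pullback.diagonal t := by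
      apply Limits.pullback.hom_ext
      · simp only [Category.assoc, F, Limits.pullback.map, Limits.pullback.lift_fst,
          Limits.pullback.diagonal_fst, Limits.pullback.diagonal_fst_assoc, Category.comp_id]
      · simp only [Category.assoc, F, Limits.pullback.map, Limits.pullback.lift_snd,
          Limits.pullback.diagonal_snd, Limits.pullback.diagonal_snd_assoc, Category.comp_id]
    have hclosedX : IsClosed (Set.range (Limits.pullback.diagonal (f ≫ t))) :=
      (Limits.pullback.diagonal (f ≫ t)).isClosedEmbedding.isClosed_range
    have hrange : Set.range (Limits.pullback.diagonal t) =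
        F '' Set.range (Limits.pullback.diagonal (f ≫ t)) := by
      ext z
      constructor
      · rintro ⟨y, rfl⟩
        obtain ⟨x, rfl⟩ := hsurj y
        refine ⟨Limits.pullback.diagonal (f ≫ t) x, ⟨x, rfl⟩, ?_⟩
        rw [← Scheme.Hom.comp_apply, hcomm, Scheme.Hom.comp_apply]
      · rintro ⟨_, ⟨x, rfl⟩, rfl⟩
        refine ⟨f x, ?_⟩
        rw [← Scheme.Hom.comp_apply, ← hcomm, Scheme.Hom.comp_apply]
    have hclosedY : IsClosed (Set.range (Limits.pullback.diagonal t)) := by
      rw [hrange]
      exact F.isClosedMap _ hclosedX
    haveI : IsClosedImmersion (Limits.pullback.diagonal t) :=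
      IsClosedImmersion.of_isPreimmersion _ hclosedY
    haveI : IsSeparated t := ⟨inferInstance⟩
    exact ⟨inferInstance⟩


end Groth.Agent.S2120
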