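import Groth.Statements.S14766
import Groth.Agent.H73.BasicOpenClosed

set_option autoImplicit false
universe u
open CategoryTheory CategoryTheory.Limits AlgebraicGeometry
open Subtr

namespace Groth.Agent.S14766

/-- Let V be a discrete valuation ring and f : X ⟶ Spec V any morphism of schemes. Then the underlying
continuous map of f is a quotient map (f is submersive) if and only if every ordered pair of points
of Spec V lifts to an ordered pair of points of X. -/
theorem result (V : Type u) [CommRing V] [IsDomain V]
    [IsDiscreteValuationRing V] {X : Scheme.{u}} (f : X ⟶ Spec (CommRingCat.of V)) :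
    Topology.IsQuotientMap f ↔ Subtr.IsSSubtrusive f := by
  obtain ⟨ϖ, hϖ⟩ := IsDiscreteValuationRing.exists_irreducible V
  have hm : IsLocalRing.maximalIdeal V = Ideal.span {ϖ} := hϖ.maximalIdeal_eq
  -- every prime is `⊥` or the maximal ideal
  have hprime : ∀ p : PrimeSpectrum V, p.asIdeal = ⊥ ∨ p.asIdeal = IsLocalRing.maximalIdeal V := by
    intro p
    by_cases hp : p.asIdeal = ⊥
    · exact Or.inl hp
    · right
      obtain ⟨n, hn⟩ := IsDiscreteValuationRing.ideal_eq_span_pow_irreducible hp hϖ
      have h1 : ϖ ^ n ∈ p.asIdeal := by
        rw [hn]
        exact Ideal.mem_span_singleton_self _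
      have h2 : ϖ ∈ p.asIdeal := p.isPrime.mem_of_pow_mem n h1
      apply le_antisymm (IsLocalRing.le_maximalIdeal p.isPrime.ne_top)
      rw [hm, Ideal.span_singleton_le_iff_mem]
      exact h2
  constructor
  · intro hq y y' hyy'
    by_cases heq : y' = y
    · subst heq
      obtain ⟨x, rfl⟩ := hq.surjective y'
      exact ⟨x, x, specializes_rfl, rfl, rfl⟩
    · by_contra hcon
      -- `y'` is the generic point and `y` the closed point
      have hle : y'.asIdeal ≤ y.asIdeal := (PrimeSpectrum.le_iff_specializes y' y).mpr hyy'
      have hy' : y'.asIdeal = ⊥ := by
        rcases hprime y' with h | h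
        · exact h
        · exfalso
          apply heq
          apply PrimeSpectrum.ext
          rcases hprime y with h2 | h2
          · rw [h2] at hle
            rw [h2]
            exact le_bot_iff.mp hle
          · rw [h, h2]
      have hy : y.asIdeal = IsLocalRing.maximalIdeal V := by
        rcases hprime y with h | h
        · exfalso
          apply heq
          apply PrimeSpectrum.ext
          rw [hy', h]
        · exact h
      have hϖy' : ϖ ∉ y'.asIdeal := by
        rw [hy']
        exact fun h => hϖ.ne_zero ((Ideal.mem_bot).mp h)
      -- the preimage of `{y'}` is a basic open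
      have hpre : (f ⁻¹' {y'} : Set X) =
          ((X.basicOpen (f.appTop ((Scheme.ΓSpecIso (CommRingCat.of V)).inv ϖ)) : X.Opens) : Set X) := by
        rw [← Scheme.preimage_basicOpen_top, basicOpen_eq_of_affine]
        ext x
        simp only [Set.mem_preimage, Set.mem_singleton_iff, TopologicalSpace.Opens.map_coe,
          SetLike.mem_coe, PrimeSpectrum.mem_basicOpen]
        constructor
        · intro h
          rw [h]
          exact hϖy'
        · intro h
          apply PrimeSpectrum.ext
          rcases hprime (f x) with h2 | h2
          · rw [h2, hy']
          · exfalso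
            apply h
            rw [h2, hm]
            exact Ideal.mem_span_singleton_self ϖ
      have hstable : StableUnderSpecialization (f ⁻¹' {y'} : Set X) := by
        intro x' x hxx' hx'
        have hfx' : f x' = y' := hx'
        have hsp : f x' ⤳ f x := hxx'.map f.continuous
        show f x = y'
        by_contra hne
        apply hcon
        refine ⟨x, x', hxx', ?_, hfx'⟩
        apply PrimeSpectrum.ext
        rw [hy]
        rcases hprime (f x) with h2 | h2
        · exfalso
          apply hne
          apply PrimeSpectrum.ext
          rw [h2, hy']
        · exact h2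
      have hclosed : IsClosed (f ⁻¹' {y'} : Set X) := by
        rw [hpre] at hstable ⊢
        exact Groth.Agent.H73.isClosed_basicOpen_of_stableUnderSpecialization _ hstable
      have hclosed' : IsClosed ({y'} : Set (Spec (CommRingCat.of V))) :=
        hq.isClosed_preimage.mp hclosed
      have : y ∈ ({y'} : Set (Spec (CommRingCat.of V))) := by
        have := hyy'.mem_closed hclosed' (Set.mem_singleton y')
        exact this
      exact heq (Set.mem_singleton_iff.mp this).symm
  · intro hS
    have hsurj : Function.Surjective f := by
      intro y
      obtain ⟨x, _, _, hx, _⟩ := hS (specializes_refl y)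
      exact ⟨x, hx⟩
    refine Topology.isQuotientMap_iff_isClosed.mpr ⟨hsurj, fun s => ⟨fun h => h.preimage f.continuous,
      fun h => ?_⟩⟩
    have hstable : StableUnderSpecialization s := by
      intro y' y hyy' hy'
      obtain ⟨x, x', hxx', hx, hx'⟩ := hS hyy'
      have h1 : x' ∈ f ⁻¹' s := by
        show f x' ∈ s
        rw [hx']
        exact hy'
      have h2 : x ∈ f ⁻¹' s := hxx'.mem_closed h h1
      have h3 : f x ∈ s := h2
      rwa [hx] at h3
    by_cases hη : (⟨⊥, Ideal.isPrime_bot⟩ : PrimeSpectrum V) ∈ s
    · have hs : s = Set.univ := by
        ext y
        simp only [Set.mem_univ, iff_true]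
        have hbot : ∀ z : PrimeSpectrum V, (⟨⊥, Ideal.isPrime_bot⟩ : PrimeSpectrum V) ⤳ z :=
          fun z => (PrimeSpectrum.le_iff_specializes _ z).mp (bot_le (a := z.asIdeal))
        exact hstable (hbot y) hη
      rw [hs]
      exact isClosed_univ
    · have hs : s ⊆ {IsLocalRing.closedPoint V} := by
        intro y hy
        show y = IsLocalRing.closedPoint V
        apply PrimeSpectrum.ext
        rcases hprime y with h2 | h2
        · exfalso
          apply hη
          have : (⟨⊥, Ideal.isPrime_bot⟩ : PrimeSpectrum V) = y := PrimeSpectrum.ext h2.symm
          rw [this]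
          exact hy
        · exact h2
      rcases Set.subset_singleton_iff_eq.mp hs with h0 | h0
      · rw [h0]
        exact isClosed_empty
      · rw [h0]
        exact IsLocalRing.isClosed_singleton_closedPoint V

end Groth.Agent.S14766
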