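import Groth.Statements.S14791
import Groth.Agent.H24.OverBC
import Groth.Agent.H24.Subtr3

set_option autoImplicit false
universe u
open CategoryTheory CategoryTheory.Limits AlgebraicGeometry
open Subtr

namespace Groth.Agent.S14791

/-- Let S = lim S_i be a cofiltered limit of schemes with affine transition morphisms, Y₀ a scheme over
a stage S_{i₀}, f₀ : X₀ ⟶ Y₀ a quasi-compact morphism, and write f_i, f for the base changes of f₀
to the stages S_i and to S (realised as second projections of fibre products). If there is a stage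
S_{i₁} such that f_i has the lifting property for ordered pairs of points for every stage S_i over
S_{i₁}, then f has it. (The published statement is about subtrusive morphisms and assumes f a
quotient map for the constructible topologies; this row keeps only the lifting property and assumes
f₀ quasi-compact, which makes the fibres quasi-compact as the filtered-intersection step of the
argument requires.) -/
theorem result {I : Type u} [SmallCategory I] [IsCofiltered I]
    (D : I ⥤ Scheme.{u}) (c : Limits.Cone D) (hc : Limits.IsLimit c)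
    [∀ (i j : I) (a : i ⟶ j), IsAffineHom (D.map a)] (i₀ : I)
    {X₀ Y₀ : Scheme.{u}} (f₀ : X₀ ⟶ Y₀) (g₀ : Y₀ ⟶ D.obj i₀) [QuasiCompact f₀]
    (h : ∃ (i₁ : I) (ψ : i₁ ⟶ i₀), ∀ (i : I) (φ : i ⟶ i₁),
      Subtr.IsSSubtrusive (pullback.snd f₀ (pullback.fst g₀ (D.map (φ ≫ ψ))))) :
    Subtr.IsSSubtrusive (pullback.snd f₀ (pullback.fst g₀ (c.π.app i₀))) := by
  obtain ⟨i₁, ψ, h⟩ := h
  let DJ : Over i₁ ⥤ Scheme.{u} := Over.forget i₁ ⋙ D
  let cJ : Limits.Cone DJ := c.whisker (Over.forget i₁)
  have hcJ : Limits.IsLimit cJ := (Functor.Initial.isLimitWhiskerEquiv (Over.forget i₁) c).symm hc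
  haveI hDJaff : ∀ {i j : Over i₁} (m : i ⟶ j), IsAffineHom (DJ.map m) := fun m => by
    change IsAffineHom (D.map m.left)
    infer_instance
  let tD : DJ ⟶ (Functor.const _).obj (D.obj i₀) :=
    { app := fun j => D.map (j.hom ≫ ψ)
      naturality := fun j k m => by
        change D.map m.left ≫ D.map (k.hom ≫ ψ) = D.map (j.hom ≫ ψ) ≫ 𝟙 _
        rw [Category.comp_id, ← D.map_comp, ← Category.assoc, Over.w m] }
  let tS : cJ.pt ⟶ D.obj i₀ := c.π.app i₀
  have htS : ∀ j, cJ.π.app j ≫ tD.app j = tS := fun j => c.w (j.hom ≫ ψ)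
  haveI : IsConnected (Over i₁) := IsCofiltered.isConnected _
  let EY := H24.OverBC.bcDiagram DJ tD g₀
  let cY : Limits.Cone EY := H24.OverBC.bcCone DJ tD g₀ cJ tS htS
  have hcY : Limits.IsLimit cY := H24.OverBC.isLimitBcCone DJ tD g₀ cJ tS htS hcJ
  haveI hEYaff : ∀ {i j : Over i₁} (m : i ⟶ j), IsAffineHom (EY.map m) := fun m => inferInstance
  let tE : EY ⟶ (Functor.const _).obj Y₀ :=
    { app := fun j => Limits.pullback.fst g₀ (D.map (j.hom ≫ ψ))
      naturality := fun j k m =>
        (H24.OverBC.bcMap_fst DJ tD g₀ m).trans (Category.comp_id _).symm }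
  let tY : cY.pt ⟶ Y₀ := Limits.pullback.fst g₀ (c.π.app i₀)
  have htY : ∀ j, cY.π.app j ≫ tE.app j = tY := fun j =>
    H24.OverBC.bcπ_fst DJ tD g₀ cJ tS htS j
  let EX := H24.OverBC.bcDiagram EY tE f₀
  let cX : Limits.Cone EX := H24.OverBC.bcCone EY tE f₀ cY tY htY
  have hcX : Limits.IsLimit cX := H24.OverBC.isLimitBcCone EY tE f₀ cY tY htY hcY
  haveI hEXaff : ∀ {i j : Over i₁} (m : i ⟶ j), IsAffineHom (EX.map m) := fun m => inferInstance
  let α : EX ⟶ EY := H24.OverBC.bcDiagramι EY tE f₀
  haveI : ∀ j, QuasiCompact (α.app j) := fun j => by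
    change QuasiCompact (Limits.pullback.snd f₀ (Limits.pullback.fst g₀ (D.map (j.hom ≫ ψ))))
    infer_instance
  exact H24.Subtr.isSSubtrusive_limit α cX cY hcX hcY
    (Limits.pullback.snd f₀ (Limits.pullback.fst g₀ (c.π.app i₀)))
    (fun j => (H24.OverBC.bcπ_snd EY tE f₀ cY tY htY j).symm)
    (fun j => h j.left j.hom)

end Groth.Agent.S14791
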