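import Groth.Statements.S7402
import Groth.Agent.H37.UHGen
import Groth.Agent.H37.Seminormal

set_option autoImplicit false
universe u
open CategoryTheory AlgebraicGeometry
open Polynomial
open Mor
open Groth.Agent.H37

namespace Groth.Agent.S7402

/-- Let `A` be a ring and `x, y ∈ A` with `x^3 = y^2`. Then `A → B = A[t]/(t^2 - x, t^3 - y)` induces a
universal homeomorphism on spectra and isomorphisms on residue fields. -/
theorem result (A : Type u) [CommRing A] (x y : A) (h : x ^ 3 = y ^ 2) :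
    FlatMor.IsUnivHomeo (Spec.map (CommRingCat.ofHom (algebraMap A
      (A[X] ⧸ Ideal.span ({X ^ 2 - C x, X ^ 3 - C y} : Set A[X]))))) ∧
    ∀ q : Spec (CommRingCat.of (A[X] ⧸ Ideal.span ({X ^ 2 - C x, X ^ 3 - C y} : Set A[X]))),
      Function.Surjective ((Spec.map (CommRingCat.ofHom (algebraMap A
        (A[X] ⧸ Ideal.span ({X ^ 2 - C x, X ^ 3 - C y} : Set A[X]))))).residueFieldMap q) := by
  rw [isUnivHomeo_SpecMap_iff', resSurj_iff]
  set I : Ideal A[X] := Ideal.span ({X ^ 2 - C x, X ^ 3 - C y} : Set A[X]) with hI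
  obtain ⟨t, ht⟩ : ∃ t : A[X] ⧸ I, t = Ideal.Quotient.mk I X := ⟨_, rfl⟩
  have hgen : Algebra.adjoin A {t} = ⊤ := ht ▸ adjoin_mk_X I
  have hamap : ∀ a : A, algebraMap A (A[X] ⧸ I) a = Ideal.Quotient.mk I (C a) := fun a => rfl
  have ht2 : t ^ 2 = algebraMap A (A[X] ⧸ I) x := by
    rw [hamap, ht, ← map_pow, Ideal.Quotient.eq]
    exact Ideal.subset_span (by simp)
  have ht3 : t ^ 3 = algebraMap A (A[X] ⧸ I) y := by
    rw [hamap, ht, ← map_pow, Ideal.Quotient.eq]
    exact Ideal.subset_span (by simp)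
  refine ⟨⟨?_, ?_, ?_⟩, ?_⟩
  · apply isIntegral_of_adjoin {t} hgen
    intro b hb
    have hb' : b = t := hb
    rw [hb']
    refine ⟨X ^ 2 - C x, monic_X_pow_sub_C x two_ne_zero, ?_⟩
    rw [eval₂_sub, eval₂_pow, eval₂_X, eval₂_C, ht2, sub_self]
  · apply fieldInj_of_adjoin {t} hgen
    intro K _ σ₁ σ₂ e b hb
    have hb' : b = t := hb
    rw [hb']
    have ea : ∀ a : A, σ₁ (algebraMap A _ a) = σ₂ (algebraMap A _ a) := fun a =>
      congrArg (fun f => f a) e
    apply eq_of_sq_eq_cube_eq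
    · rw [← map_pow σ₁, ← map_pow σ₂, ht2, ea]
    · rw [← map_pow σ₁, ← map_pow σ₂, ht3, ea]
  · apply comap_surjective_of_field_points
    intro p
    let K := p.asIdeal.ResidueField
    let xb : K := algebraMap A K x
    let yb : K := algebraMap A K y
    have hxy : xb ^ 3 = yb ^ 2 := by
      simp only [xb, yb, ← map_pow, h]
    obtain ⟨c, hc2, hc3⟩ : ∃ c : K, c ^ 2 = xb ∧ c ^ 3 = yb := by
      by_cases hx : xb = 0
      · have hy : yb = 0 := by
          have : yb ^ 2 = 0 := by rw [← hxy, hx]; simp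
          exact (pow_eq_zero_iff two_ne_zero).mp this
        exact ⟨0, by simp [hx], by simp [hy]⟩
      · refine ⟨yb / xb, ?_, ?_⟩
        · rw [div_pow, ← hxy, div_eq_iff (pow_ne_zero 2 hx)]
          ring
        · rw [div_pow, div_eq_iff (pow_ne_zero 3 hx), hxy]
          ring
    have hle : I ≤ RingHom.ker (eval₂RingHom (algebraMap A K) c) := by
      rw [hI, Ideal.span_le]
      rintro f (rfl | rfl)
      · simp only [SetLike.mem_coe, RingHom.mem_ker, coe_eval₂RingHom, eval₂_sub, eval₂_pow,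
          eval₂_X, eval₂_C]
        rw [hc2]; exact sub_self _
      · simp only [SetLike.mem_coe, RingHom.mem_ker, coe_eval₂RingHom, eval₂_sub, eval₂_pow,
          eval₂_X, eval₂_C]
        rw [hc3]; exact sub_self _
    refine ⟨K, inferInstance, Ideal.Quotient.lift I (eval₂RingHom (algebraMap A K) c) hle, ?_⟩
    ext a
    simp only [RingHom.mem_ker, RingHom.comp_apply, hamap, Ideal.Quotient.lift_mk,
      coe_eval₂RingHom, eval₂_C]
    exact Ideal.algebraMap_residueField_eq_zero
  · apply resSurj_of_adjoin {t} hgen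
    intro q hq b hb
    have hb' : b = t := hb
    rw [hb']
    by_cases hx : algebraMap A (A[X] ⧸ I) x ∈ q
    · refine ⟨0, 1, by rw [map_one]; exact hq.one_notMem, ?_⟩
      rw [map_one, one_mul, map_zero, sub_zero]
      rw [← ht2] at hx
      exact hq.mem_of_pow_mem 2 hx
    · refine ⟨y, x, hx, ?_⟩
      have : algebraMap A (A[X] ⧸ I) x * t - algebraMap A (A[X] ⧸ I) y = 0 := by
        rw [← ht2, ← ht3]; ring
      rw [this]
      exact q.zero_mem

end Groth.Agent.S7402
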