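import Groth.Statements.S7403
import Groth.Agent.H37.UHGen
import Groth.Agent.H37.AWN

set_option autoImplicit false
universe u
open CategoryTheory AlgebraicGeometry
open Polynomial
open Mor
open Groth.Agent.H37

namespace Groth.Agent.S7403

/-- Let `A` be a ring, `p` a prime number and `x, y ∈ A` with `p^p x = y^p`. Then `A → B = A[t]/(t^p -
x, p t - y)` induces a universal homeomorphism on spectra. -/
theorem result (A : Type u) [CommRing A] (p : ℕ) (hp : p.Prime) (x y : A)
    (h : (p : A) ^ p * x = y ^ p) :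
    FlatMor.IsUnivHomeo (Spec.map (CommRingCat.ofHom (algebraMap A
      (A[X] ⧸ Ideal.span ({X ^ p - C x, C (p : A) * X - C y} : Set A[X]))))) := by
  rw [isUnivHomeo_SpecMap_iff']
  set I : Ideal A[X] := Ideal.span ({X ^ p - C x, C (p : A) * X - C y} : Set A[X]) with hI
  obtain ⟨t, ht⟩ : ∃ t : A[X] ⧸ I, t = Ideal.Quotient.mk I X := ⟨_, rfl⟩
  have hgen : Algebra.adjoin A {t} = ⊤ := ht ▸ adjoin_mk_X I
  have hamap : ∀ a : A, algebraMap A (A[X] ⧸ I) a = Ideal.Quotient.mk I (C a) := fun a => rfl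
  have ht2 : t ^ p = algebraMap A (A[X] ⧸ I) x := by
    rw [hamap, ht, ← map_pow, Ideal.Quotient.eq]
    exact Ideal.subset_span (by simp)
  have ht3 : algebraMap A (A[X] ⧸ I) (p : A) * t = algebraMap A (A[X] ⧸ I) y := by
    rw [hamap, hamap, ht, ← map_mul, Ideal.Quotient.eq]
    exact Ideal.subset_span (by simp)
  refine ⟨?_, ?_, ?_⟩
  · apply isIntegral_of_adjoin {t} hgen
    intro b hb
    have hb' : b = t := hb
    rw [hb']
    refine ⟨X ^ p - C x, monic_X_pow_sub_C x hp.ne_zero, ?_⟩
    rw [eval₂_sub, eval₂_pow, eval₂_X, eval₂_C, ht2, sub_self]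
  · apply fieldInj_of_adjoin {t} hgen
    intro K _ σ₁ σ₂ e b hb
    have hb' : b = t := hb
    rw [hb']
    have ea : ∀ a : A, σ₁ (algebraMap A _ a) = σ₂ (algebraMap A _ a) := fun a =>
      congrArg (fun f => f a) e
    apply eq_of_pow_eq_mul_eq hp
    · rw [← map_pow σ₁, ← map_pow σ₂, ht2, ea]
    · have h1 : σ₁ (algebraMap A _ (p : A)) = (p : K) := by rw [map_natCast, map_natCast]
      have h2 : σ₂ (algebraMap A _ (p : A)) = (p : K) := by rw [map_natCast, map_natCast]
      rw [← h1, ← map_mul σ₁, ht3, h1.trans h2.symm, ← map_mul σ₂, ht3, ea]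
  · apply comap_surjective_of_field_points
    intro P
    let K₀ := P.asIdeal.ResidueField
    let K := AlgebraicClosure K₀
    let ι : A →+* K := (algebraMap K₀ K).comp (algebraMap A K₀)
    let xb : K := ι x
    let yb : K := ι y
    have hpK : ι (p : A) = (p : K) := map_natCast ι p
    have hxy : (p : K) ^ p * xb = yb ^ p := by
      simp only [xb, yb, ← hpK, ← map_pow, ← map_mul, h]
    obtain ⟨c, hc2, hc3⟩ : ∃ c : K, c ^ p = xb ∧ (p : K) * c = yb := by
      by_cases hx : (p : K) = 0
      · have hy : yb = 0 := by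
          have : yb ^ p = 0 := by rw [← hxy, hx, zero_pow hp.ne_zero, zero_mul]
          exact (pow_eq_zero_iff hp.ne_zero).mp this
        obtain ⟨c, hc⟩ := IsAlgClosed.exists_pow_nat_eq xb hp.pos
        exact ⟨c, hc, by rw [hx, hy, zero_mul]⟩
      · refine ⟨yb / (p : K), ?_, ?_⟩
        · rw [div_pow, ← hxy, mul_comm, mul_div_assoc, div_self (pow_ne_zero p hx), mul_one]
        · rw [mul_div_cancel₀ _ hx]
    have hle : I ≤ RingHom.ker (eval₂RingHom ι c) := by
      rw [hI, Ideal.span_le]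
      rintro f (rfl | rfl)
      · simp only [SetLike.mem_coe, RingHom.mem_ker, coe_eval₂RingHom, eval₂_sub, eval₂_pow,
          eval₂_X, eval₂_C]
        rw [hc2]; exact sub_self _
      · simp only [SetLike.mem_coe, RingHom.mem_ker, coe_eval₂RingHom, eval₂_sub, eval₂_mul,
          eval₂_X, eval₂_C]
        rw [hpK, hc3]; exact sub_self _
    refine ⟨K, inferInstance, Ideal.Quotient.lift I (eval₂RingHom ι c) hle, ?_⟩
    ext a
    simp only [RingHom.mem_ker, RingHom.comp_apply, hamap, Ideal.Quotient.lift_mk,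
      coe_eval₂RingHom, eval₂_C]
    rw [show ι a = algebraMap K₀ K (algebraMap A K₀ a) from rfl, map_eq_zero]
    exact Ideal.algebraMap_residueField_eq_zero

end Groth.Agent.S7403
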