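import Groth.Statements.S0015
-- import your own Groth.Agent.* helpers here

set_option autoImplicit false
universe u
open Coherent

namespace Groth.Agent.S0015

open AlgebraicGeometry in
theorem inf_affine_of_le_affine {X : Scheme.{u}} {W U V : X.Opens} (hW : IsAffineOpen W)
    (hU : IsAffineOpen U) (hV : IsAffineOpen V) (hUW : U ≤ W) (hVW : V ≤ W) :
    IsAffineOpen (U ⊓ V) := by
  have : IsAffine W := hW
  have hU' : IsAffineOpen (W.ι ⁻¹ᵁ U) := by
    rw [← Scheme.Hom.isAffineOpen_iff_of_isOpenImmersion W.ι, Scheme.Hom.image_preimage_eq_opensRange_inf]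
    simpa [inf_eq_right.mpr hUW] using hU
  have hV' : IsAffineOpen (W.ι ⁻¹ᵁ V) := by
    rw [← Scheme.Hom.isAffineOpen_iff_of_isOpenImmersion W.ι, Scheme.Hom.image_preimage_eq_opensRange_inf]
    simpa [inf_eq_right.mpr hVW] using hV
  have h := hU'.inf hV'
  rw [← Scheme.Hom.preimage_inf, ← Scheme.Hom.isAffineOpen_iff_of_isOpenImmersion W.ι,
    Scheme.Hom.image_preimage_eq_opensRange_inf] at h
  simpa [inf_eq_right.mpr (inf_le_left.trans hUW)] using h

open AlgebraicGeometry in
theorem within_affine (X : Scheme.{u})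
    (P : X.Opens → Prop) (h₁ : ∀ U : X.Opens, IsAffineOpen U → P U)
    (h₂ : ∀ U V : X.Opens, IsCompact (U : Set X) → IsAffineOpen V → P U → P V → P (U ⊓ V) →
      P (U ⊔ V)) (W : X.Opens) (hW : IsAffineOpen W) :
    ∀ (n : ℕ) (s : Finset X.Opens), s.card ≤ n → (∀ U ∈ s, IsAffineOpen U ∧ U ≤ W) →
      P (s.sup id) := by
  classical
  intro n
  induction n with
  | zero =>
    intro s hs _
    have : s = ∅ := by simpa using hs
    subst this
    simpa using h₁ ⊥ (isAffineOpen_bot X)
  | succ n ih =>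
    intro s hs hsW
    rcases s.eq_empty_or_nonempty with rfl | ⟨a, ha⟩
    · simpa using h₁ ⊥ (isAffineOpen_bot X)
    obtain ⟨t, hat, rfl⟩ : ∃ t, a ∉ t ∧ s = insert a t :=
      ⟨s.erase a, by simp, by simp [Finset.insert_erase ha]⟩
    have hcard : t.card ≤ n := by
      rw [Finset.card_insert_of_notMem hat] at hs
      omega
    have htW : ∀ U ∈ t, IsAffineOpen U ∧ U ≤ W := fun U hU => hsW U (Finset.mem_insert_of_mem hU)
    have haW := hsW a (Finset.mem_insert_self a t)
    rw [Finset.sup_insert, sup_comm]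
    have hcomp : IsCompact ((t.sup id : X.Opens) : Set X) := by
      have : ((t.sup id : X.Opens) : Set X) = ⋃ U ∈ t, (U : Set X) := by
        rw [Finset.sup_eq_iSup]
        simp
      rw [this]
      exact t.finite_toSet.isCompact_biUnion (fun U hU => (htW U hU).1.isCompact)
    refine h₂ _ _ hcomp haW.1 (ih t hcard htW) (h₁ a haW.1) ?_
    have hinf : (t.sup id : X.Opens) ⊓ id a = (t.image (fun U => U ⊓ a)).sup id := by
      rw [Finset.sup_image, Finset.sup_inf_distrib_right]
      rfl
    rw [hinf]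
    refine ih _ (Finset.card_image_le.trans hcard) ?_
    intro U hU
    obtain ⟨U', hU', rfl⟩ := Finset.mem_image.mp hU
    exact ⟨inf_affine_of_le_affine hW (htW U' hU').1 haW.1 (htW U' hU').2 haW.2,
      inf_le_right.trans haW.2⟩

open AlgebraicGeometry in
/-- Let X be quasi-compact and quasi-separated and P a property of opens of X. If P holds for affine
opens, and P(U ∪ V) follows from P(U), P(V), P(U ∩ V) whenever U is quasi-compact open and V affine
open, then P holds for every quasi-compact open, in particular for X. -/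
theorem result (X : Scheme.{u}) [CompactSpace X] [QuasiSeparatedSpace X]
    (P : X.Opens → Prop) (h₁ : ∀ U : X.Opens, IsAffineOpen U → P U)
    (h₂ : ∀ U V : X.Opens, IsCompact (U : Set X) → IsAffineOpen V → P U → P V → P (U ⊓ V) →
      P (U ⊔ V))
    (U : X.Opens) (hU : IsCompact (U : Set X)) : P U := by
  classical
  refine compact_open_induction_on (P := P) U hU (h₁ ⊥ (isAffineOpen_bot X)) ?_
  intro S hS V hPS
  refine h₂ S V hS V.2 hPS (h₁ V V.2) ?_
  -- S ⊓ V is a quasi-compact open inside the affine V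
  have hSV : IsCompact ((S ⊓ (V : X.Opens) : X.Opens) : Set X) :=
    QuasiSeparatedSpace.inter_isCompact _ _ S.2 hS V.1.2 V.2.isCompact
  obtain ⟨s, hs, e⟩ := (isCompact_and_isOpen_iff_finite_and_eq_biUnion_affineOpens
    (U := ((S ⊓ (V : X.Opens) : X.Opens) : Set X))).mp ⟨hSV, (S ⊓ (V : X.Opens)).2⟩
  have hfin : Finite s := hs
  have : Fintype s := Fintype.ofFinite s
  let t : Finset X.Opens := (Finset.univ : Finset s).image (fun i => (i.1 : X.Opens))
  have ht : S ⊓ (V : X.Opens) = t.sup id := by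
    apply TopologicalSpace.Opens.ext
    rw [e, Finset.sup_eq_iSup]
    ext x
    simp [t]
  rw [ht]
  refine within_affine X P h₁ h₂ V V.2 t.card t le_rfl ?_
  intro U' hU'
  obtain ⟨i, -, rfl⟩ := Finset.mem_image.mp hU'
  refine ⟨i.1.2, ?_⟩
  have hle : ((i.1 : X.Opens) : Set X) ⊆ ((S ⊓ (V : X.Opens) : X.Opens) : Set X) := by
    rw [e]
    exact Set.subset_biUnion_of_mem (u := fun (j : X.affineOpens) => ((j : X.Opens) : Set X)) i.2
  exact fun x hx => (hle hx).2

end Groth.Agent.S0015
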