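import Groth.Statements.S0016
import Groth.Agent.Lead.Coh.AffineOpen
import Groth.Agent.S0015

set_option autoImplicit false
universe u
open Coherent

namespace Groth.Agent.S0016

open AlgebraicGeometry in
/-- For a quasi-compact quasi-separated scheme X there is a natural number d such that H^p(X, F) = 0 for
every quasi-coherent F and every p ≥ d; vanishing is stated as Subsingleton of the cohomology group.
(The published statement gives an explicit d in terms of a covering by quasi-compact separated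
opens; here only existence of some d is asserted.) -/
theorem result (X : Scheme.{u}) [CompactSpace X]
    [QuasiSeparatedSpace X] :
    ∃ d : ℕ, ∀ (M : X.Modules), Coh.IsQCoh M → ∀ p : ℕ, d ≤ p → Subsingleton (Coh.HH X M p) := by
  have key : ∀ U : X.Opens, IsCompact (U : Set X) →
      ∃ d : ℕ, ∀ (M : X.Modules), Coh.IsQCoh M → ∀ p : ℕ, d ≤ p →
        Groth.Agent.Lead.Coh.HVanish (T := X) (Coh.toAb M) p U := by
    intro U hU
    refine Groth.Agent.S0015.result X
      (fun U => ∃ d : ℕ, ∀ (M : X.Modules), Coh.IsQCoh M → ∀ p : ℕ, d ≤ p →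
        Groth.Agent.Lead.Coh.HVanish (T := X) (Coh.toAb M) p U) ?_ ?_ U hU
    · intro V hV
      refine ⟨1, fun M hM p hp => ?_⟩
      obtain ⟨m, rfl⟩ := Nat.exists_eq_succ_of_ne_zero (by omega : p ≠ 0)
      haveI : M.IsQuasicoherent := hM
      exact Groth.Agent.Lead.Coh.hVanish_of_isAffineOpen X M hV m
    · rintro U V _ _ ⟨d₁, h₁⟩ ⟨d₂, h₂⟩ ⟨d₃, h₃⟩
      refine ⟨max (max d₁ d₂) (d₃ + 1), fun M hM p hp => ?_⟩
      obtain ⟨m, rfl⟩ := Nat.exists_eq_succ_of_ne_zero (by omega : p ≠ 0)
      exact Groth.Agent.Lead.Coh.HVanish.sup (h₁ M hM _ (by omega)) (h₂ M hM _ (by omega))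
        (h₃ M hM _ (by omega))
  obtain ⟨d, hd⟩ := key ⊤ CompactSpace.isCompact_univ
  exact ⟨d, fun M hM p hp =>
    Groth.Agent.Lead.Coh.subsingleton_HH_of_hVanish_top X M p (hd M hM p hp)⟩

end Groth.Agent.S0016
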