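import Groth.Statements.S1640
import Groth.Agent.H9.KADedekind
import Groth.Agent.H9.ValApprox
import Mathlib.RingTheory.KrullDimension.Field

set_option autoImplicit false
universe u
open Variety

namespace Groth.Agent.S1640

/-- Let K be a field, A ⊆ K a subring with fraction field K, and B_1, …, B_r ⊆ K Noetherian
one-dimensional subrings with finitely many maximal ideals and fraction field K, such that for each
i the subring generated by A and B_i is all of K. Then some nonzero x ∈ A has x⁻¹ lying in B_i and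
in the Jacobson radical of B_i for every i. -/
theorem result (K : Type u) [Field K] (A : Subring K) [IsFractionRing A K]
    (r : ℕ) (B : Fin r → Subring K) [∀ i, IsNoetherianRing (B i)] [∀ i, IsFractionRing (B i) K]
    (hdim : ∀ i, ringKrullDim (B i) = 1) (hsl : ∀ i, Finite (MaximalSpectrum (B i)))
    (hgen : ∀ i, A ⊔ B i = ⊤) :
    ∃ x : K, x ∈ A ∧ x ≠ 0 ∧ ∀ i, ∃ hx : x⁻¹ ∈ B i, (⟨x⁻¹, hx⟩ : B i) ∈ (⊥ : Ideal (B i)).jacobson := by
  classical
  rcases Nat.eq_zero_or_pos r with hr | hr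
  · subst hr
    exact ⟨1, A.one_mem, one_ne_zero, fun i => i.elim0⟩
  have hKD : ∀ i, Ring.KrullDimLE 1 (B i) := fun i => Ring.krullDimLE_iff.2 (hdim i).le
  have hBf : ∀ i, ¬ IsField (B i) := by
    intro i hfield
    have h0 := ringKrullDim_eq_zero_of_isField hfield
    rw [hdim i] at h0
    exact one_ne_zero h0
  have hD : ∀ i, IsDedekindDomain (integralClosure (B i) K) := fun i =>
    Groth.Agent.H9.KA.isDedekindDomain_integralClosure (B i) K
  have hF : ∀ i, IsFractionRing (integralClosure (B i) K) K := fun i =>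
    Groth.Agent.H9.KA.isFractionRing_integralClosure (B i) K
  have hmaxB : ∀ i, ∀ m : MaximalSpectrum (B i), m.asIdeal ≠ ⊥ := by
    intro i m hm
    exact hBf i (Ring.isField_iff_maximal_bot.2 (hm ▸ m.isMaximal))
  have hfinM : ∀ i, Finite (MaximalSpectrum (integralClosure (B i) K)) := fun i =>
    haveI := hsl i
    Groth.Agent.H9.KA.finite_maximalSpectrum (integralClosure (B i) K) (hmaxB i)
  have hfinH : ∀ i, Finite (IsDedekindDomain.HeightOneSpectrum (integralClosure (B i) K)) := by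
    intro i
    haveI := hfinM i
    refine Finite.of_injective
      (fun w : IsDedekindDomain.HeightOneSpectrum (integralClosure (B i) K) =>
        (⟨w.asIdeal, w.isMaximal⟩ : MaximalSpectrum (integralClosure (B i) K))) ?_
    intro w w' h
    have : w.asIdeal = w'.asIdeal := congrArg MaximalSpectrum.asIdeal h
    exact IsDedekindDomain.HeightOneSpectrum.ext this
  let ι := Σ i : Fin r, IsDedekindDomain.HeightOneSpectrum (integralClosure (B i) K)
  haveI : Finite ι := inferInstance
  haveI := Fintype.ofFinite ι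
  let v : ι → Valuation K (WithZero (Multiplicative ℤ)) := fun k => k.2.valuation K
  have hrange : ∀ i, (algebraMap (B i) K).range = B i := by
    intro i
    ext x
    constructor
    · rintro ⟨a, rfl⟩; exact a.2
    · intro hx; exact ⟨⟨x, hx⟩, rfl⟩
  have hex : ∀ k ∈ (Finset.univ : Finset ι), ∃ a ∈ A, 1 < v k a := by
    rintro ⟨i, w⟩ -
    exact Groth.Agent.H9.KA.exists_one_lt_valuation A (by rw [hrange i]; exact hgen i) w
  obtain ⟨x, hxA, hx⟩ := Groth.Agent.H9.exists_mem_forall_one_lt A Finset.univ v hex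
  -- `x ≠ 0`
  have hx0 : x ≠ 0 := by
    rintro rfl
    let i₀ : Fin r := ⟨0, hr⟩
    have hT := Groth.Agent.H9.KA.not_isField_integralClosure (B i₀) K (hBf i₀)
    obtain ⟨M₀, hM₀⟩ := Ideal.exists_maximal (integralClosure (B i₀) K)
    have hM₀0 : M₀ ≠ ⊥ := fun h0 => hT (Ring.isField_iff_maximal_bot.2 (h0 ▸ hM₀))
    have := hx ⟨i₀, ⟨M₀, hM₀.isPrime, hM₀0⟩⟩ (Finset.mem_univ _)
    simp [v] at this
  have hpow : ∀ i, ∃ n : ℕ, ∀ n', n ≤ n' → 1 ≤ n' →
      ∃ b : B i, algebraMap (B i) K b = (x⁻¹) ^ n' ∧ b ∈ (⊥ : Ideal (B i)).jacobson := fun i =>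
    Groth.Agent.H9.KA.exists_pow_inv_mem_jacobson (hBf i) x
      (fun w => hx ⟨i, w⟩ (Finset.mem_univ _))
  choose n hn using hpow
  let N := (∑ i, n i) + 1
  refine ⟨x ^ N, A.pow_mem hxA N, pow_ne_zero _ hx0, fun i => ?_⟩
  have h1 : n i ≤ N :=
    (Finset.single_le_sum (fun _ _ => Nat.zero_le _) (Finset.mem_univ i)).trans (Nat.le_succ _)
  obtain ⟨b, hb, hbJ⟩ := hn i N h1 (Nat.le_add_left _ _)
  have hb' : (b : K) = (x ^ N)⁻¹ := by rw [← inv_pow]; exact hb
  refine ⟨hb' ▸ b.2, ?_⟩
  have : (⟨(x ^ N)⁻¹, hb' ▸ b.2⟩ : B i) = b := Subtype.ext hb'.symm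
  rw [this]
  exact hbJ

end Groth.Agent.S1640
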