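import Groth.Statements.S0108
import Groth.Agent.H91.EtLocal

set_option autoImplicit false
open CategoryTheory CategoryTheory.Limits AlgebraicGeometry Opposite
universe u
open EtBase

namespace Groth.Agent.S0108

/-- The Kummer sequence — when n is invertible on S, the n-th power map on the multiplicative group
sheaf is an epimorphism of étale sheaves (its kernel μ_n is, by definition in the prelude, the sheaf
of n-th roots of unity, so the sequence 0 → μ_n → G_m → G_m → 0 is exact). -/
theorem result (S : Scheme.{u}) (n : ℕ) (hn : IsUnit (n : Γ(S, ⊤))) : Epi (EtCoh.powMap S n) := by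
  apply Groth.Agent.H91.epi_of_forall_exists_lift
  intro U s x
  obtain ⟨A, ι, hι, x₀, rfl⟩ := Groth.Agent.H91.exists_affine_chart U x
  have hnt : Nontrivial A := PrimeSpectrum.nontrivial x₀
  -- the unit `u`
  let u : (Γ(U.left, ⊤))ˣ := Additive.toMul (ULift.down s)
  let ρ : Γ(U.left, ⊤) →+* A := ((Scheme.ΓSpecIso A).hom.hom).comp (ι.appTop.hom)
  let ua : Aˣ := Units.map ρ.toMonoidHom u
  let a : A := ua
  let b : A := (ua⁻¹ : Aˣ)
  have hab : a * b = 1 := ua.mul_inv
  -- `n` is a unit in `A`
  have hnA : IsUnit (n : A) := by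
    have h1 := hn.map (ρ.comp (U.hom.appTop.hom))
    simpa using h1
  have hn0 : n ≠ 0 := by
    rintro rfl
    simp at hnA
  obtain ⟨m, hm⟩ := hnA.exists_right_inv
  let P : StandardEtalePair A :=
    { f := Polynomial.X ^ n - Polynomial.C a
      monic_f := Polynomial.monic_X_pow_sub_C a hn0
      g := 1
      cond := ⟨Polynomial.C (m * b) * Polynomial.X, - Polynomial.C b, 0, by
        simp only [Polynomial.derivative_sub, Polynomial.derivative_X_pow,
          Polynomial.derivative_C, sub_zero, pow_zero]
        have hX : (Polynomial.X : Polynomial A) ^ (n - 1) * Polynomial.X = Polynomial.X ^ n := by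
          rw [← pow_succ, Nat.sub_add_cancel (Nat.one_le_iff_ne_zero.mpr hn0)]
        have h1 : (Polynomial.C (n : A) : Polynomial A) * Polynomial.C (m * b) = Polynomial.C b := by
          rw [← Polynomial.C_mul, ← mul_assoc, hm, one_mul]
        have h2 : (Polynomial.C a : Polynomial A) * Polynomial.C b = 1 := by
          rw [← Polynomial.C_mul, hab, Polynomial.C_1]
        calc Polynomial.C (n : A) * Polynomial.X ^ (n - 1) * (Polynomial.C (m * b) * Polynomial.X) +
            (Polynomial.X ^ n - Polynomial.C a) * -Polynomial.C b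
            = (Polynomial.C (n : A) * Polynomial.C (m * b)) *
                (Polynomial.X ^ (n - 1) * Polynomial.X) - Polynomial.X ^ n * Polynomial.C b +
                Polynomial.C a * Polynomial.C b := by ring
          _ = 1 := by rw [h1, h2, hX]; ring⟩ }
  have hdeg : P.f.natDegree ≠ 0 := by
    change (Polynomial.X ^ n - Polynomial.C a : Polynomial A).natDegree ≠ 0
    rw [Polynomial.natDegree_X_pow_sub_C]
    exact hn0
  obtain ⟨V, g, v, e, hv, hcomp⟩ :=
    Groth.Agent.H91.exists_etale_nbhd_of_standardEtalePair U ι x₀ P rfl hdeg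
  let t₀ : Γ(V.left, ⊤) := e.inv P.X
  have hroot : P.X ^ n - algebraMap A P.Ring a = 0 := by
    have h := (P.hasMap_X).1
    change Polynomial.aeval P.X (Polynomial.X ^ n - Polynomial.C a : Polynomial A) = 0 at h
    simpa using h
  have hcomp' : e.hom (g.left.appTop (u : Γ(U.left, ⊤))) = algebraMap A P.Ring a := by
    have := congrArg (fun h => h (u : Γ(U.left, ⊤))) hcomp
    exact this
  have key : t₀ ^ n = g.left.appTop (u : Γ(U.left, ⊤)) := by
    have hinj : Function.Injective e.hom := (ConcreteCategory.bijective_of_isIso e.hom).1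
    apply hinj
    rw [hcomp', map_pow]
    have : e.hom t₀ = P.X := by
      change e.hom (e.inv P.X) = P.X
      rw [← CategoryTheory.comp_apply, Iso.inv_hom_id]
      rfl
    rw [this]
    linear_combination hroot
  have hunit : IsUnit t₀ := by
    rw [← isUnit_pow_iff hn0, key]
    exact (u.isUnit).map g.left.appTop.hom
  refine ⟨V, g, v, hv, ULift.up (Additive.ofMul hunit.unit), ?_⟩
  change (n • 𝟙 (EtCoh.Gm S) : EtCoh.Gm S ⟶ EtCoh.Gm S).hom.app (op V) _ = _
  rw [Groth.Agent.H91.nsmul_id_app]
  apply ULift.ext
  apply Additive.toMul.injective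
  apply Units.ext
  change ((hunit.unit ^ n : (Γ(V.left, ⊤))ˣ) : Γ(V.left, ⊤)) = g.left.appTop (u : Γ(U.left, ⊤))
  rw [Units.val_pow_eq_pow_val, IsUnit.unit_spec]
  exact key

end Groth.Agent.S0108
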