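import Groth.Statements.S14612
import Groth.Agent.H73.FlatKer

set_option autoImplicit false
universe u
open FlatCx

namespace Groth.Agent.S14612

open CategoryTheory CategoryTheory.Limits in
/-- Let A be a commutative ring and F a cochain complex of flat A-modules which is bounded above (F^i =
0 for all large i) and whose cohomology H^p(F) vanishes for every p > d. Then the module of
d-cocycles Z^d = ker(F^d → F^{d+1}) is flat over A; hence the truncation τ_{≤ d} F is again a
complex of flat modules (and τ_{≤ d} F → F is a quasi-isomorphism, which is not restated).
Boundedness cannot be dropped. -/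
theorem result (A : Type u) [CommRing A]
    (F : CochainComplex (ModuleCat.{u} A) ℤ) (hF : ∀ i, Module.Flat A (F.X i))
    (hb : ∃ b : ℤ, ∀ i, b < i → IsZero (F.X i)) (d : ℤ) (hac : ∀ p, d < p → IsZero (F.homology p)) :
    Module.Flat A (F.cycles d) := by
  obtain ⟨b, hb⟩ := hb
  have hzero : ∀ p : ℤ, b < p → Module.Flat A (F.cycles p) := by
    intro p hp
    have hz : IsZero (F.cycles p) := by
      have hX : IsZero (F.X p) := hb p hp
      exact IsZero.of_mono (F.iCycles p) hX
    have : Subsingleton (F.cycles p) := ModuleCat.subsingleton_of_isZero hz
    infer_instance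
  have key : ∀ (n : ℕ) (p : ℤ), d ≤ p → b + 1 ≤ p + n → Module.Flat A (F.cycles p) := by
    intro n
    induction n with
    | zero =>
      intro p _ hp
      exact hzero p (by omega)
    | succ n ih =>
      intro p hdp hp
      by_cases hbp : b < p
      · exact hzero p hbp
      · have h1 : Module.Flat A (F.cycles (p + 1)) := ih (p + 1) (by omega) (by push_cast at hp; omega)
        exact Groth.Agent.H73.flat_cycles_step A F hF p (hac (p + 1) (by omega)) h1
  exact key (b + 1 - d).toNat d le_rfl (by omega)

end Groth.Agent.S14612
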