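import Groth.Statements.S7072
import Groth.Agent.H59.NLPerfect

set_option autoImplicit false
universe u
attribute [local instance] HasDerivedCategory.standard
open LCI

namespace Groth.Agent.S7072

/-- For a local complete intersection homomorphism of commutative rings A → B, the naive cotangent
complex NL_{B/A} is a perfect object of D(B) and has tor amplitude in [-1, 0]. -/
theorem result {A B : Type u} [CommRing A] [CommRing B] [Algebra A B]
    (h : LCI.IsLCI A B) :
    DRing.IsPerfect B (LCI.NL A B) ∧ DRing.HasTorAmplitudeIn B (-1) 0 (LCI.NL A B) := by
  obtain ⟨-, n, f, hf, hK⟩ := h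
  have hfe : MvPolynomial.aeval (R := A) (fun i : Fin n => f (MvPolynomial.X i)) = f := by
    apply MvPolynomial.algHom_ext
    intro i
    simp
  let G : Algebra.Generators A B (Fin n) :=
    Algebra.Generators.ofSurjective (fun i => f (MvPolynomial.X i)) (by rw [hfe]; exact hf)
  have hker : G.toExtension.ker = RingHom.ker f.toRingHom := by
    change G.ker = _
    rw [Algebra.Generators.ker_eq_ker_aeval_val]
    change RingHom.ker (MvPolynomial.aeval (R := A) (fun i : Fin n => f (MvPolynomial.X i))) = _
    rw [hfe]
    rfl
  refine Groth.Agent.H59.NLPerfect.isPerfect_and_torAmplitude G.toExtension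
    (G.defaultHom (Algebra.Generators.self A B)).toExtensionHom (by rw [hker]; exact hK) ?_
  exact ⟨Module.Finite.of_basis G.cotangentSpaceBasis, inferInstance⟩

end Groth.Agent.S7072
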