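import Mathlib
import Groth.Statements.S1514
import Groth.Agent.H35.LCIPerfect
import Groth.Agent.S7168

set_option autoImplicit false
universe u
attribute [local instance] HasDerivedCategory.standard
open FlatMor

namespace Groth.Agent.S1514

open AlgebraicGeometry CategoryTheory Limits in
/-- A local complete intersection morphism (affine-locally: lci ring maps) is locally of finite
presentation, pseudo-coherent and perfect. -/
theorem result {X S : Scheme.{u}} (f : X ⟶ S)
    (hf : (∀ (U : X.Opens) (V : S.Opens) (hU : IsAffineOpen U) (hV : IsAffineOpen V) (hUV : U ≤ f ⁻¹ᵁ V),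
        letI := (f.appLE V U hUV).hom.toAlgebra
        LCI.IsLCI Γ(S, V) Γ(X, U))) :
    LocallyOfFinitePresentation f ∧ MoreMor.IsPseudoCoherentMor f ∧ MoreMor.IsPerfectMor f := by
  have hperf : MoreMor.IsPerfectMor f := fun U V hU hV hUV =>
    @Groth.Agent.H35.KoszulPerf.isPerfectHom_of_isLCI _ _ _ _ (f.appLE V U hUV).hom.toAlgebra
      (hf U V hU hV hUV)
  have hpc : MoreMor.IsPseudoCoherentMor f := fun U V hU hV hUV => (hperf U V hU hV hUV).1
  exact ⟨Groth.Agent.S7168.result f hpc, hpc, hperf⟩

end Groth.Agent.S1514
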