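import Groth.Statements.S0395
import Groth.Agent.H2.InjModMax

set_option autoImplicit false
universe u
open FlatMor

namespace Groth.Agent.S0395

open TensorProduct nonZeroDivisors in
/-- For a flat local homomorphism R → S of Noetherian local rings and an element f of S that is regular
on the fibre ring S/mS, the quotient of S by f is again R-flat and f is regular on S. -/
theorem result {R S : Type u} [CommRing R] [CommRing S] [IsLocalRing R] [IsLocalRing S] [IsNoetherianRing R] [IsNoetherianRing S] [Algebra R S] [IsLocalHom (algebraMap R S)] [Module.Flat R S]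
    (f : S) (hf : Ideal.Quotient.mk ((IsLocalRing.maximalIdeal R).map (algebraMap R S)) f ∈ nonZeroDivisors (S ⧸ ((IsLocalRing.maximalIdeal R).map (algebraMap R S)))) :
    Module.Flat R (S ⧸ Ideal.span {f}) ∧ f ∈ nonZeroDivisors S := by
  let u : S →ₗ[R] S := (LinearMap.lsmul S S f).restrictScalars R
  have hu : ∀ x : S, u x = f * x := fun x => rfl
  have h : Function.Injective (u.lTensor (R ⧸ IsLocalRing.maximalIdeal R)) := by
    rw [Groth.Agent.H2.lTensor_quotient_injective_iff]
    intro x hx
    rw [Ideal.smul_top_eq_map, Submodule.restrictScalars_mem] at hx ⊢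
    rw [← Ideal.Quotient.eq_zero_iff_mem] at hx ⊢
    rw [hu, map_mul] at hx
    exact (mem_nonZeroDivisors_iff.mp hf).1 _ hx
  obtain ⟨hinj, hflat⟩ := Groth.Agent.H2.injective_and_flat_of_injective_residue S u h
  refine ⟨?_, ?_⟩
  · have heq : (Ideal.span {f} : Ideal S).restrictScalars R = LinearMap.range u := by
      ext x
      rw [Submodule.restrictScalars_mem, Ideal.mem_span_singleton', LinearMap.mem_range]
      constructor
      · rintro ⟨a, rfl⟩
        exact ⟨a, by rw [hu, mul_comm]⟩
      · rintro ⟨a, rfl⟩
        exact ⟨a, by rw [hu, mul_comm]⟩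
    let e : (S ⧸ LinearMap.range u) ≃ₗ[R] (S ⧸ Ideal.span {f}) :=
      (Submodule.quotEquivOfEq _ _ heq.symm) ≪≫ₗ
        (Submodule.Quotient.restrictScalarsEquiv R (Ideal.span {f} : Ideal S))
    exact Module.Flat.of_linearEquiv e.symm
  · rw [mem_nonZeroDivisors_iff]
    constructor
    · intro x hx
      apply hinj
      rw [hu, hx, map_zero]
    · intro x hx
      apply hinj
      rw [hu, mul_comm, hx, map_zero]

end Groth.Agent.S0395
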