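import Groth.Statements.S0067
import Groth.Agent.H4.ClosedStalk

set_option autoImplicit false
open CategoryTheory CategoryTheory.Limits AlgebraicGeometry Opposite
universe u
open EtBase

namespace Groth.Agent.S0067

/-- Part (2), first half — pushforward of abelian étale sheaves along a closed immersion is fully
faithful. -/
theorem result {Z X : Scheme.{u}} (i : Z ⟶ X) [IsClosedImmersion i] [EtCoh.BCCont i] :
    (EtCoh.push i).Full ∧ (EtCoh.push i).Faithful := by
  have h : ∀ G : EtCoh.Ab Z, IsIso ((EtCoh.pullPushAdj i).counit.app G) :=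
    fun G => Groth.Agent.H4.ClosedStalk.isIso_counit i G
  have h2 : IsIso (EtCoh.pullPushAdj i).counit := NatIso.isIso_of_isIso_app _
  exact ⟨(EtCoh.pullPushAdj i).fullyFaithfulROfIsIsoCounit.full,
    (EtCoh.pullPushAdj i).fullyFaithfulROfIsIsoCounit.faithful⟩

end Groth.Agent.S0067
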