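import Groth.Statements.S0068
import Groth.Agent.H4.ClosedStalk
import Groth.Agent.S0069

set_option autoImplicit false
open CategoryTheory CategoryTheory.Limits AlgebraicGeometry Opposite
universe u
open EtBase

namespace Groth.Agent.S0068

/-- Part (2), second half — an abelian étale sheaf is a pushforward from a closed subscheme exactly when
its sections vanish over every étale scheme mapping into the open complement. -/
theorem result {Z X : Scheme.{u}} (i : Z ⟶ X) [IsClosedImmersion i] [EtCoh.BCCont i]
    (F : EtCoh.Ab X) :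
    (EtCoh.push i).essImage F ↔
      ∀ U : X.Etale, Disjoint (Set.range U.hom.base) (Set.range i.base) → IsZero (F.obj.obj (op U)) := by
  open Groth.Agent.H4.Stalks Groth.Agent.H4.ClosedStalk in
  constructor
  · rintro ⟨G, ⟨e⟩⟩ U hU
    have hempty : IsEmpty ((EtCoh.bc i).obj U).left := by
      constructor
      intro z
      have h1 : (pullback.fst U.hom i ≫ U.hom) z = (pullback.snd U.hom i ≫ i) z := by
        rw [pullback.condition]
      exact Set.disjoint_left.1 hU ⟨pullback.fst U.hom i z, rfl⟩ ⟨pullback.snd U.hom i z, h1.symm⟩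
    have hz : IsZero (((EtCoh.push i).obj G).obj.obj (op U)) := by
      have : Subsingleton (((EtCoh.push i).obj G).obj.obj (op U)) :=
        ⟨fun a b => (eq_zero_of_isEmpty G (V := (EtCoh.bc i).obj U) a).trans
          (eq_zero_of_isEmpty G (V := (EtCoh.bc i).obj U) b).symm⟩
      exact AddCommGrpCat.isZero_of_subsingleton _
    exact hz.of_iso (((sheafToPresheaf _ _).mapIso e).app (op U)).symm
  · intro hF
    suffices h : IsIso ((EtCoh.pullPushAdj i).unit.app F) from
      ⟨(EtCoh.pull i).obj F, ⟨(asIso ((EtCoh.pullPushAdj i).unit.app F)).symm⟩⟩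
    rw [(jri X).isIso_iff]
    rintro ⟨_, ⟨s⟩⟩
    change IsIso ((EtCoh.stalk (Groth.Agent.H4.Stalks.geomPt s)).map _)
    by_cases hs : (Groth.Agent.H4.Stalks.geomPt s) default ∈ Set.range i.base
    · obtain ⟨ζ, hζ⟩ := exists_lift_geomPoint i (Groth.Agent.H4.Stalks.geomPt s) hs
      rw [← hζ]
      exact isIso_stalk_unit i ζ F
    · have hdis : Disjoint (Set.range (Groth.Agent.H4.Stalks.geomPt s).base) (Set.range i.base) := by
        rw [Set.disjoint_left]
        rintro _ ⟨a, rfl⟩ h
        rw [Subsingleton.elim a default] at h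
        exact hs h
      have h2 := Groth.Agent.S0069.result i ((EtCoh.pull i).obj F) (Groth.Agent.H4.Stalks.geomPt s) hdis
      have h1 : IsZero ((EtCoh.stalk (Groth.Agent.H4.Stalks.geomPt s)).obj F) := by
        suffices h : ∀ t : (EtCoh.stalk (Groth.Agent.H4.Stalks.geomPt s)).obj F, t = 0 by
          have : Subsingleton ((EtCoh.stalk (Groth.Agent.H4.Stalks.geomPt s)).obj F) :=
            ⟨fun a b => (h a).trans (h b).symm⟩
          exact AddCommGrpCat.isZero_of_subsingleton _
        intro t
        obtain ⟨V, x, σ, rfl⟩ := germ_surjective _ t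
        rw [germ_eq_zero_iff']
        let Uc : X.Opens := ⟨(Set.range i.base)ᶜ, i.isClosedEmbedding.isClosed_range.isOpen_compl⟩
        let W0 : V.left.Opens := V.hom ⁻¹ᵁ Uc
        have : Etale V.hom := V.prop
        let W : X.Etale := Scheme.Etale.mk (W0.ι ≫ V.hom)
        let g : W ⟶ V := MorphismProperty.Over.homMk (A := W) (B := V) W0.ι rfl trivial
        have hx : x.pt ∈ W0 := by
          show V.hom x.pt ∈ (Set.range i.base)ᶜ
          rw [Fib.hom_pt]
          exact hs
        refine ⟨W, g, ⟨x.pt, hx⟩, rfl, ?_⟩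
        have hW : Disjoint (Set.range W.hom.base) (Set.range i.base) := by
          rw [Set.disjoint_left]
          rintro _ ⟨a, rfl⟩ h
          have h3 : W0.ι a ∈ (W0 : Set V.left) := by
            rw [← Scheme.Opens.range_ι]; exact ⟨_, rfl⟩
          exact h3 h
        have := AddCommGrpCat.subsingleton_of_isZero (hF W hW)
        exact Subsingleton.elim _ _
      exact h1.isIso h2 _

end Groth.Agent.S0068
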