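import Groth.Statements.S2906
import Groth.Agent.H40.DG.QAffineHom
import Groth.Agent.H1.Descent
import Mathlib.AlgebraicGeometry.ZariskisMainTheorem
import Mathlib.AlgebraicGeometry.Morphisms.LocalFlatDescent
import Mathlib.AlgebraicGeometry.Morphisms.QuasiFinite

set_option autoImplicit false
open CategoryTheory CategoryTheory.Limits AlgebraicGeometry Opposite
universe u
open SGA1

namespace Groth.Agent.S2906

/-- Let g : S' ⟶ S be flat, surjective and quasi-compact. Then every descent datum relative to g whose
underlying scheme is etale, separated and quasi-compact over S' is isomorphic to the canonical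
descent datum of a scheme etale, separated and quasi-compact over S. (Descent data relative to g are
taken in functor-of-points form.) -/
theorem result {S' S : Scheme.{u}} (g : S' ⟶ S) [Flat g] [Surjective g] [QuasiCompact g]
    (D : Desc.SchDD g) [QuasiCompact D.obj.hom] [IsSeparated D.obj.hom] [Etale D.obj.hom] :
    ∃ U : Over S, QuasiCompact U.hom ∧ IsSeparated U.hom ∧ Etale U.hom ∧ Nonempty ((Desc.toDD g).obj U ≅ D) := by
  have hP : Groth.Agent.H6.QuasiAffineHom.P D.obj.hom := by
    rw [Groth.Agent.H6.QuasiAffineHom.P_iff]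
    refine ⟨inferInstance, fun W hW => ?_⟩
    haveI hWaff : IsAffine (W : Scheme.{u}) := hW
    let h : (D.obj.hom ⁻¹ᵁ W : Scheme.{u}) ⟶ (W : Scheme.{u}) := D.obj.hom ∣_ W
    haveI : CompactSpace (D.obj.hom ⁻¹ᵁ W : Scheme.{u}) :=
      (quasiCompact_iff_compactSpace h).mp inferInstance
    haveI : IsSeparated h := inferInstance
    haveI : LocallyOfFiniteType h := inferInstance
    haveI : LocallyQuasiFinite h := by
      refine ⟨fun {U} hU {V} hV e => ?_⟩
      have hφ : (h.appLE U V e).hom.Etale :=
        HasRingHomProperty.appLE (P := @Etale) h inferInstance ⟨U, hU⟩ ⟨V, hV⟩ e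
      algebraize [(h.appLE U V e).hom]
      have : Algebra.Etale Γ((W : Scheme.{u}), U) Γ((D.obj.hom ⁻¹ᵁ W : Scheme.{u}), V) := hφ
      exact RingHom.quasiFinite_algebraMap.mpr inferInstance
    haveI : QuasiCompact h := inferInstance
    haveI : IsOpenImmersion h.toNormalization := inferInstance
    haveI : IsAffineHom h.fromNormalization := inferInstance
    haveI : IsAffine h.normalization := isAffine_of_isAffineHom h.fromNormalization
    exact Scheme.IsQuasiAffine.of_isImmersion h.toNormalization
  obtain ⟨U, ⟨e⟩⟩ := Groth.Agent.H40.DG.exists_effective_of_quasiAffine D hP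
  have hfst : Groth.Agent.H40.DG.isoInvLeft U e ≫ pullback.fst g U.hom = D.obj.hom :=
    Groth.Agent.H40.DG.isoInvLeft_fst U e
  have hfst' : pullback.fst g U.hom = Groth.Agent.H40.DG.isoHomLeft U e ≫ D.obj.hom := by
    rw [← hfst, Groth.Agent.H40.DG.isoHomLeft_isoInvLeft_assoc]
  haveI : IsIso (Groth.Agent.H40.DG.isoHomLeft U e) :=
    ⟨Groth.Agent.H40.DG.isoInvLeft U e, Groth.Agent.H40.DG.isoHomLeft_isoInvLeft U e,
      Groth.Agent.H40.DG.isoInvLeft_isoHomLeft U e⟩
  have hg : (@Surjective ⊓ @Flat ⊓ @QuasiCompact : MorphismProperty Scheme.{u}) g :=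
    ⟨⟨inferInstance, inferInstance⟩, inferInstance⟩
  have sq := IsPullback.of_hasPullback g U.hom
  refine ⟨U, ?_, ?_, ?_, ⟨e⟩⟩
  · have h1 : QuasiCompact (pullback.fst g U.hom) := by rw [hfst']; infer_instance
    exact Groth.Agent.H1.quasiCompact_descendsAlong_fpqc.of_isPullback sq hg h1
  · have h1 : IsSeparated (pullback.fst g U.hom) := by rw [hfst']; infer_instance
    exact Groth.Agent.H1.isSeparated_descendsAlong_fpqc.of_isPullback sq hg h1
  · have h1 : Etale (pullback.fst g U.hom) := by rw [hfst']; infer_instance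
    exact MorphismProperty.of_isPullback_of_descendsAlong (P := @Etale)
      (Q := (@Surjective ⊓ @Flat ⊓ @QuasiCompact : MorphismProperty Scheme.{u})) sq hg h1

end Groth.Agent.S2906
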