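import Groth.Statements.S5128
import Groth.Agent.S3694

set_option autoImplicit false
universe u
open SGA1

namespace Groth.Agent.S5128

open AlgebraicGeometry CategoryTheory CategoryTheory.Limits in
/-- Let X and Y be S-schemes with Y etale over S. The map f ↦ Γ_f sending an S-morphism f : X ⟶ Y to the
subset of X ×_S Y underlying its graph is a bijection from Hom_S(X, Y) onto the set of open subsets
Γ of X ×_S Y for which the restriction Γ → X of the first projection is radicial (universally
injective) and surjective. Stated as: the graph of every S-morphism is an open immersion, and every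
such open Γ is the image of the graph of exactly one S-morphism. -/
theorem result {S X Y : Scheme.{u}} (p : X ⟶ S)
    (q : Y ⟶ S) [Etale q] :
    (∀ f : {f : X ⟶ Y // f ≫ q = p},
      IsOpenImmersion (pullback.lift (𝟙 X) f.1 ((Category.id_comp p).trans f.2.symm) : X ⟶ pullback p q)) ∧
    ∀ Γ : (pullback p q).Opens, UniversallyInjective (Γ.ι ≫ pullback.fst p q) → Surjective (Γ.ι ≫ pullback.fst p q) →
      ∃! f : {f : X ⟶ Y // f ≫ q = p},
        Set.range (pullback.lift (𝟙 X) f.1 ((Category.id_comp p).trans f.2.symm) : X ⟶ pullback p q).base =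
          (Γ : Set ↥(pullback p q)) := by
  have hfst : Etale (pullback.fst p q) := inferInstance
  -- the graph of a morphism is an open immersion
  have hgraph : ∀ f : {f : X ⟶ Y // f ≫ q = p},
      IsOpenImmersion (pullback.lift (𝟙 X) f.1 ((Category.id_comp p).trans f.2.symm) :
        X ⟶ pullback p q) := by
    intro f
    set γ : X ⟶ pullback p q := pullback.lift (𝟙 X) f.1 ((Category.id_comp p).trans f.2.symm)
      with hγ
    have hγfst : γ ≫ pullback.fst p q = 𝟙 X := pullback.lift_fst _ _ _
    have h1 : Etale (γ ≫ pullback.fst p q) := by rw [hγfst]; infer_instance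
    have h2 : Etale γ := Etale.of_comp γ (pullback.fst p q)
    have h3 : Mono γ := mono_of_mono_fac hγfst
    have h4 : UniversallyInjective γ := inferInstance
    exact Groth.Agent.S3694.result γ
  refine ⟨hgraph, ?_⟩
  intro Γ hinj hsurj
  set π : (Γ : Scheme.{u}) ⟶ X := Γ.ι ≫ pullback.fst p q with hπ
  have hπet : Etale π := inferInstance
  have hπoi : IsOpenImmersion π := Groth.Agent.S3694.result π
  have hπiso : IsIso π := (isIso_iff_isOpenImmersion_and_surjective π).mpr ⟨hπoi, hsurj⟩
  let f : X ⟶ Y := inv π ≫ Γ.ι ≫ pullback.snd p q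
  have hfq : f ≫ q = p := by
    simp only [f, Category.assoc]
    rw [← pullback.condition, ← Category.assoc Γ.ι, ← hπ, IsIso.inv_hom_id_assoc]
  have hgraph_eq : ∀ (f' : X ⟶ Y) (hf' : f' ≫ q = p) (h : (Γ : Scheme.{u}) ⟶ X)
      (hh : inv π ≫ Γ.ι ≫ pullback.snd p q = f'),
      (pullback.lift (𝟙 X) f' ((Category.id_comp p).trans hf'.symm) : X ⟶ pullback p q) =
        inv π ≫ Γ.ι := by
    intro f' hf' _ hh
    apply pullback.hom_ext
    · rw [pullback.lift_fst, Category.assoc, ← hπ, IsIso.inv_hom_id]
    · rw [pullback.lift_snd, Category.assoc, hh]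
  have hrange : Set.range (inv π ≫ Γ.ι).base = (Γ : Set ↥(pullback p q)) := by
    have h1 : Set.range (inv π ≫ Γ.ι).base = Set.range Γ.ι.base := by
      rw [Scheme.Hom.comp_base, TopCat.coe_comp, Set.range_comp]
      have hs : Function.Surjective (inv π).base := (inv π).surjective
      rw [hs.range_eq, Set.image_univ]
    rw [h1]
    exact Scheme.Opens.range_ι Γ
  refine ⟨⟨f, hfq⟩, ?_, ?_⟩
  · show Set.range (pullback.lift (𝟙 X) f ((Category.id_comp p).trans hfq.symm) :
      X ⟶ pullback p q).base = _
    rw [hgraph_eq f hfq π rfl]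
    exact hrange
  · rintro ⟨f', hf'⟩ hf'range
    apply Subtype.ext
    show f' = f
    set γ' : X ⟶ pullback p q := pullback.lift (𝟙 X) f' ((Category.id_comp p).trans hf'.symm)
      with hγ'
    have hγ'oi : IsOpenImmersion γ' := hgraph ⟨f', hf'⟩
    have hle : Set.range γ'.base ⊆ Set.range Γ.ι.base := by
      rw [Scheme.Opens.range_ι Γ]
      exact hf'range.le
    let h : X ⟶ (Γ : Scheme.{u}) := IsOpenImmersion.lift Γ.ι γ' hle
    have hh : h ≫ Γ.ι = γ' := IsOpenImmersion.lift_fac Γ.ι γ' hle
    have hhπ : h ≫ π = 𝟙 X := by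
      rw [hπ, ← Category.assoc, hh]
      exact pullback.lift_fst _ _ _
    have hhinv : h = inv π := by
      rw [← cancel_mono π, hhπ, IsIso.inv_hom_id]
    have : f' = γ' ≫ pullback.snd p q := (pullback.lift_snd _ _ _).symm
    rw [this, ← hh, hhinv, Category.assoc]

end Groth.Agent.S5128
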