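import Groth.Statements.S3709
import Groth.Agent.S5128

set_option autoImplicit false
universe u
open SGA1

namespace Groth.Agent.S3709

open AlgebraicGeometry CategoryTheory CategoryTheory.Limits in
/-- A universally submersive morphism is a descent morphism for etale schemes (exactness of Hom_S(X, Y)
-> Hom_S'(X', Y') => Hom_S''(X'', Y'')): let g : S' -> S be universally submersive, X and Y schemes
over S with Y etale over S, X' and Y' their base changes along g, and f' : X' -> Y' an S'-morphism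
whose two pullbacks to S'' = S' x_S S' coincide (equivalently: the two composites X'' -> X' -> Y' ->
Y along the two projections agree). Then there is exactly one S-morphism u : X -> Y whose base
change is f'. -/
theorem result {S S' X Y : Scheme.{u}} (g : S' ⟶ S) (hg : SGA1.UnivSubmersive g)
    (p : X ⟶ S) (q : Y ⟶ S) [Etale q]
    (f' : pullback p g ⟶ pullback q g) (hf' : f' ≫ pullback.snd q g = pullback.snd p g)
    (hcoc : pullback.map p (pullback.fst g g ≫ g) p g (𝟙 X) (pullback.fst g g) (𝟙 S)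
        ((Category.comp_id _).trans (Category.id_comp _).symm) (Category.comp_id _) ≫ f' ≫ pullback.fst q g =
      pullback.map p (pullback.fst g g ≫ g) p g (𝟙 X) (pullback.snd g g) (𝟙 S)
        ((Category.comp_id _).trans (Category.id_comp _).symm) ((Category.comp_id _).trans pullback.condition) ≫
        f' ≫ pullback.fst q g) :
    ∃! u : X ⟶ Y, u ≫ q = p ∧ f' ≫ pullback.fst q g = pullback.fst p g ≫ u := by
  classical
  -- notation
  obtain ⟨a, ha⟩ : ∃ a : pullback p g ⟶ X, a = pullback.fst p g := ⟨_, rfl⟩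
  have hacond : a ≫ p = pullback.snd p g ≫ g := by rw [ha]; exact pullback.condition
  have hqa : Topology.IsQuotientMap a.base := by
    rw [ha]; exact hg (pullback.snd p g) p _ (IsPullback.of_hasPullback p g)
  have haPB : IsPullback a (pullback.snd p g) p g := by
    rw [ha]; exact IsPullback.of_hasPullback p g
  have ha_ext : ∀ {T : Scheme.{u}} (m₁ m₂ : T ⟶ pullback p g), m₁ ≫ a = m₂ ≫ a →
      m₁ ≫ pullback.snd p g = m₂ ≫ pullback.snd p g → m₁ = m₂ := by
    intro T m₁ m₂ h1 h2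
    rw [ha] at h1
    exact pullback.hom_ext h1 h2
  obtain ⟨πX, hπX⟩ : ∃ πX : pullback p q ⟶ X, πX = pullback.fst p q := ⟨_, rfl⟩
  obtain ⟨πY, hπY⟩ : ∃ πY : pullback p q ⟶ Y, πY = pullback.snd p q := ⟨_, rfl⟩
  have hπet : Etale πX := by rw [hπX]; infer_instance
  have hZ_ext : ∀ {T : Scheme.{u}} (m₁ m₂ : T ⟶ pullback p q), m₁ ≫ πX = m₂ ≫ πX →
      m₁ ≫ πY = m₂ ≫ πY → m₁ = m₂ := by
    intro T m₁ m₂ h1 h2
    rw [hπX] at h1; rw [hπY] at h2
    exact pullback.hom_ext h1 h2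
  have hcond : a ≫ p = (f' ≫ pullback.fst q g) ≫ q := by
    rw [hacond, Category.assoc, pullback.condition, ← Category.assoc, hf']
  obtain ⟨h', hh'X, hh'Y⟩ : ∃ h' : pullback p g ⟶ pullback p q,
      h' ≫ πX = a ∧ h' ≫ πY = f' ≫ pullback.fst q g := by
    refine ⟨pullback.lift a (f' ≫ pullback.fst q g) hcond, ?_, ?_⟩
    · rw [hπX]; exact pullback.lift_fst _ _ _
    · rw [hπY]; exact pullback.lift_snd _ _ _
  obtain ⟨pr₁, hpr₁⟩ : ∃ pr₁ : pullback a πX ⟶ pullback p g, pr₁ = pullback.fst a πX := ⟨_, rfl⟩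
  obtain ⟨pr₂, hpr₂⟩ : ∃ pr₂ : pullback a πX ⟶ pullback p q, pr₂ = pullback.snd a πX := ⟨_, rfl⟩
  have hpr : pr₁ ≫ a = pr₂ ≫ πX := by rw [hpr₁, hpr₂]; exact pullback.condition
  have hpr₁et : Etale pr₁ := by rw [hpr₁]; infer_instance
  have hZ'_ext : ∀ {T : Scheme.{u}} (m₁ m₂ : T ⟶ pullback a πX), m₁ ≫ pr₁ = m₂ ≫ pr₁ →
      m₁ ≫ pr₂ = m₂ ≫ pr₂ → m₁ = m₂ := by
    intro T m₁ m₂ h1 h2
    rw [hpr₁] at h1; rw [hpr₂] at h2
    exact pullback.hom_ext h1 h2
  have hZ'_lift : ∀ {T : Scheme.{u}} (m₁ : T ⟶ pullback p g) (m₂ : T ⟶ pullback p q),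
      m₁ ≫ a = m₂ ≫ πX → ∃ m : T ⟶ pullback a πX, m ≫ pr₁ = m₁ ∧ m ≫ pr₂ = m₂ := by
    intro T m₁ m₂ h
    refine ⟨pullback.lift m₁ m₂ h, ?_, ?_⟩
    · rw [hpr₁]; exact pullback.lift_fst _ _ _
    · rw [hpr₂]; exact pullback.lift_snd _ _ _
  obtain ⟨σ, hσ1, hσ2⟩ := hZ'_lift (𝟙 _) h' (by rw [Category.id_comp, hh'X])
  have hqpr₂ : Topology.IsQuotientMap pr₂.base := by
    have h1 : IsPullback pr₂ pr₁ πX a := by
      rw [hpr₁, hpr₂]; exact (IsPullback.of_hasPullback a πX).flip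
    have h3 := h1.paste_vert haPB
    exact hg _ _ _ h3
  have hasurj : Function.Surjective a.base := hqa.surjective
  -- σ is an open immersion
  have hσoi : IsOpenImmersion σ := by
    have h1 : Etale (σ ≫ pr₁) := by rw [hσ1]; infer_instance
    have h2 : Etale σ := Etale.of_comp σ pr₁
    have h3 : Mono σ := mono_of_mono_fac hσ1
    have h4 : UniversallyInjective σ := inferInstance
    exact Groth.Agent.S3694.result σ
  -- morphisms landing in the image of σ factor through σ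
  have hfactor : ∀ {T : Scheme.{u}} (ζ : T ⟶ pullback a πX),
      Set.range ζ.base ⊆ Set.range σ.base → ζ = (ζ ≫ pr₁) ≫ σ := by
    intro T ζ hζ
    have hfac := IsOpenImmersion.lift_fac σ ζ hζ
    have hl : IsOpenImmersion.lift σ ζ hζ = ζ ≫ pr₁ := by
      calc IsOpenImmersion.lift σ ζ hζ = IsOpenImmersion.lift σ ζ hζ ≫ σ ≫ pr₁ := by
            rw [hσ1, Category.comp_id]
        _ = ζ ≫ pr₁ := by rw [← Category.assoc, hfac]
    rw [← hl, hfac]
  -- the cocycle condition on points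
  have hcoc' : ∀ {T : Scheme.{u}} (ξ₁ ξ₂ : T ⟶ pullback p g), ξ₁ ≫ a = ξ₂ ≫ a →
      ξ₁ ≫ f' ≫ pullback.fst q g = ξ₂ ≫ f' ≫ pullback.fst q g := by
    intro T ξ₁ ξ₂ hξa
    have c1 : (ξ₁ ≫ pullback.snd p g) ≫ g = (ξ₂ ≫ pullback.snd p g) ≫ g := by
      rw [Category.assoc, Category.assoc, ← hacond, ← Category.assoc, ← Category.assoc, hξa]
    have c2 : (ξ₁ ≫ a) ≫ p =
        pullback.lift (ξ₁ ≫ pullback.snd p g) (ξ₂ ≫ pullback.snd p g) c1 ≫
          (pullback.fst g g ≫ g) := by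
      rw [← Category.assoc, pullback.lift_fst, Category.assoc, Category.assoc, hacond]
    obtain ⟨θ, hθ1, hθ2⟩ : ∃ θ : T ⟶ pullback p (pullback.fst g g ≫ g),
        θ ≫ pullback.fst p (pullback.fst g g ≫ g) = ξ₁ ≫ a ∧
        θ ≫ pullback.snd p (pullback.fst g g ≫ g) =
          pullback.lift (ξ₁ ≫ pullback.snd p g) (ξ₂ ≫ pullback.snd p g) c1 :=
      ⟨pullback.lift _ _ c2, pullback.lift_fst _ _ _, pullback.lift_snd _ _ _⟩
    have t1 : θ ≫ pullback.map p (pullback.fst g g ≫ g) p g (𝟙 X) (pullback.fst g g) (𝟙 S)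
        ((Category.comp_id _).trans (Category.id_comp _).symm) (Category.comp_id _) = ξ₁ := by
      apply ha_ext
      · rw [ha, Category.assoc, pullback.lift_fst, ← Category.assoc, hθ1, Category.comp_id, ha]
      · rw [Category.assoc, pullback.lift_snd, ← Category.assoc, hθ2, pullback.lift_fst]
    have t2 : θ ≫ pullback.map p (pullback.fst g g ≫ g) p g (𝟙 X) (pullback.snd g g) (𝟙 S)
        ((Category.comp_id _).trans (Category.id_comp _).symm)
        ((Category.comp_id _).trans pullback.condition) = ξ₂ := by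
      apply ha_ext
      · rw [ha, Category.assoc, pullback.lift_fst, ← Category.assoc, hθ1, Category.comp_id, ← ha]
        exact hξa
      · rw [Category.assoc, pullback.lift_snd, ← Category.assoc, hθ2, pullback.lift_snd]
    have := congrArg (fun m => θ ≫ m) hcoc
    simp only [← Category.assoc] at this
    rw [t1, t2] at this
    simpa only [Category.assoc] using this
  have hξh : ∀ {T : Scheme.{u}} (ξ₁ ξ₂ : T ⟶ pullback p g), ξ₁ ≫ a = ξ₂ ≫ a →
      ξ₁ ≫ h' = ξ₂ ≫ h' := by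
    intro T ξ₁ ξ₂ hξa
    apply hZ_ext
    · rw [Category.assoc, Category.assoc, hh'X, hξa]
    · rw [Category.assoc, Category.assoc, hh'Y]
      exact hcoc' ξ₁ ξ₂ hξa
  -- saturation
  have hsat : ∀ z₁ z₂ : ↥(pullback a πX), z₁ ∈ Set.range σ.base →
      pr₂.base z₁ = pr₂.base z₂ → z₂ ∈ Set.range σ.base := by
    intro z₁ z₂ hz₁ h12
    obtain ⟨w, hw1, hw2⟩ :=
      Scheme.Pullback.exists_preimage_pullback (f := pr₂) (g := pr₂) z₁ z₂ h12
    obtain ⟨ω, hω⟩ : ∃ ω : Spec ((pullback pr₂ pr₂).residueField w) ⟶ pullback pr₂ pr₂,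
      ω = (pullback pr₂ pr₂).fromSpecResidueField w := ⟨_, rfl⟩
    have hωt : ∀ t, ω.base t = w := fun t => by
      rw [hω]; exact Scheme.fromSpecResidueField_apply w t
    obtain ⟨ζ₁, hζ₁⟩ : ∃ ζ₁, ζ₁ = ω ≫ pullback.fst pr₂ pr₂ := ⟨_, rfl⟩
    obtain ⟨ζ₂, hζ₂⟩ : ∃ ζ₂, ζ₂ = ω ≫ pullback.snd pr₂ pr₂ := ⟨_, rfl⟩
    have hζ12 : ζ₁ ≫ pr₂ = ζ₂ ≫ pr₂ := by
      rw [hζ₁, hζ₂, Category.assoc, Category.assoc, pullback.condition]
    have hr1 : Set.range ζ₁.base ⊆ Set.range σ.base := by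
      rintro _ ⟨t, rfl⟩
      have : ζ₁.base t = z₁ := by
        rw [hζ₁, Scheme.Hom.comp_base, TopCat.comp_app, hωt t]
        exact hw1
      rw [this]; exact hz₁
    have e1 := hfactor ζ₁ hr1
    have hξa : (ζ₁ ≫ pr₁) ≫ a = (ζ₂ ≫ pr₁) ≫ a := by
      rw [Category.assoc, Category.assoc, hpr, ← Category.assoc, ← Category.assoc, hζ12]
    have e2 : ζ₂ = (ζ₂ ≫ pr₁) ≫ σ := by
      apply hZ'_ext
      · rw [Category.assoc, hσ1, Category.comp_id]
      · rw [Category.assoc, hσ2, ← hξh _ _ hξa, ← hζ12]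
        conv_lhs => rw [e1]
        rw [Category.assoc, hσ2]
    obtain ⟨t⟩ : Nonempty ↥(Spec ((pullback pr₂ pr₂).residueField w)) := inferInstance
    have : ζ₂.base t = z₂ := by
      rw [hζ₂, Scheme.Hom.comp_base, TopCat.comp_app, hωt t]
      exact hw2
    rw [← this, e2, Scheme.Hom.comp_base, TopCat.comp_app]
    exact ⟨_, rfl⟩
  -- the open subset Γ
  obtain ⟨Γset, hΓset⟩ : ∃ Γset : Set ↥(pullback p q), Γset = pr₂.base '' Set.range σ.base :=
    ⟨_, rfl⟩
  have hpre : pr₂.base ⁻¹' Γset = Set.range σ.base := by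
    ext z₂
    constructor
    · intro hz
      rw [hΓset] at hz
      obtain ⟨z₁, hz₁, h12⟩ := hz
      exact hsat z₁ z₂ hz₁ h12
    · intro hz
      rw [hΓset]
      exact ⟨z₂, hz, rfl⟩
  have hΓopen : IsOpen Γset := by
    rw [← hqpr₂.isOpen_preimage, hpre]
    exact σ.isOpenEmbedding.isOpen_range
  have hΓh' : Γset = Set.range h'.base := by
    rw [hΓset, ← Set.range_comp, ← hσ2, Scheme.Hom.comp_base, TopCat.coe_comp]
  obtain ⟨Γ, hΓ⟩ : ∃ Γ : (pullback p q).Opens, (Γ : Set ↥(pullback p q)) = Γset :=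
    ⟨⟨Γset, hΓopen⟩, rfl⟩
  have hΓι : Set.range Γ.ι.base = Γset := (Scheme.Opens.range_ι Γ).trans hΓ
  -- surjectivity
  have hsurj : Surjective (Γ.ι ≫ πX) := by
    constructor
    intro x
    obtain ⟨x', rfl⟩ := hasurj x
    have hz : h'.base x' ∈ Set.range Γ.ι.base := by
      rw [hΓι, hΓh']; exact ⟨x', rfl⟩
    obtain ⟨γ, hγ⟩ := hz
    refine ⟨γ, ?_⟩
    show (Γ.ι ≫ πX).base γ = a.base x'
    rw [Scheme.Hom.comp_base, TopCat.comp_app, hγ, ← TopCat.comp_app, ← Scheme.Hom.comp_base, hh'X]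
  -- universal injectivity
  have hUI : UniversallyInjective (Γ.ι ≫ πX) := by
    rw [UniversallyInjective.iff_diagonal]
    obtain ⟨φ, hφ⟩ : ∃ φ : (Γ : Scheme.{u}) ⟶ X, φ = Γ.ι ≫ πX := ⟨_, rfl⟩
    rw [← hφ]
    constructor
    intro w
    obtain ⟨x', hx'⟩ := hasurj ((pullback.fst φ φ ≫ φ).base w)
    obtain ⟨w', hw'1, hw'2⟩ :=
      Scheme.Pullback.exists_preimage_pullback (f := pullback.fst φ φ ≫ φ) (g := a) w x' hx'.symm
    obtain ⟨ω', hω'⟩ : ∃ ω' : Spec ((pullback (pullback.fst φ φ ≫ φ) a).residueField w') ⟶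
        pullback (pullback.fst φ φ ≫ φ) a,
      ω' = (pullback (pullback.fst φ φ ≫ φ) a).fromSpecResidueField w' := ⟨_, rfl⟩
    obtain ⟨ν, hν⟩ : ∃ ν, ν = ω' ≫ pullback.fst (pullback.fst φ φ ≫ φ) a := ⟨_, rfl⟩
    obtain ⟨ξ', hξ'⟩ : ∃ ξ', ξ' = ω' ≫ pullback.snd (pullback.fst φ φ ≫ φ) a := ⟨_, rfl⟩
    have hc' : pullback.fst (pullback.fst φ φ ≫ φ) a ≫ (pullback.fst φ φ ≫ φ) =
        pullback.snd (pullback.fst φ φ ≫ φ) a ≫ a := pullback.condition
    have hνξ : ν ≫ pullback.fst φ φ ≫ φ = ξ' ≫ a := by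
      rw [hν, hξ', Category.assoc, Category.assoc]
      exact congrArg (fun m => ω' ≫ m) hc'
    obtain ⟨a₁, ha₁⟩ : ∃ a₁, a₁ = ν ≫ pullback.fst φ φ := ⟨_, rfl⟩
    obtain ⟨a₂, ha₂⟩ : ∃ a₂, a₂ = ν ≫ pullback.snd φ φ := ⟨_, rfl⟩
    have h1 : a₁ ≫ φ = ξ' ≫ a := by
      rw [ha₁, Category.assoc]; exact hνξ
    have h2 : a₂ ≫ φ = ξ' ≫ a := by
      rw [ha₂, Category.assoc, ← pullback.condition]; exact hνξ
    have key : ∀ (b : _ ⟶ (Γ : Scheme.{u})), b ≫ φ = ξ' ≫ a → b ≫ Γ.ι = ξ' ≫ h' := by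
      intro b hb
      have hc : ξ' ≫ a = (b ≫ Γ.ι) ≫ πX := by rw [Category.assoc, ← hφ, hb]
      obtain ⟨ζ, hζ1, hζ2⟩ := hZ'_lift ξ' (b ≫ Γ.ι) hc
      have hr : Set.range ζ.base ⊆ Set.range σ.base := by
        rintro _ ⟨t, rfl⟩
        rw [← hpre]
        show pr₂.base (ζ.base t) ∈ Γset
        rw [← TopCat.comp_app, ← Scheme.Hom.comp_base, hζ2, Scheme.Hom.comp_base, TopCat.comp_app,
          ← hΓι]
        exact ⟨_, rfl⟩
      have e := hfactor ζ hr
      rw [hζ1] at e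
      rw [← hζ2, e, Category.assoc, hσ2]
    have h12 : a₁ = a₂ := by
      rw [← cancel_mono Γ.ι, key a₁ h1, key a₂ h2]
    have hdiag : ν = a₁ ≫ pullback.diagonal φ := by
      apply pullback.hom_ext
      · rw [Category.assoc, pullback.diagonal_fst, Category.comp_id, ha₁]
      · rw [Category.assoc, pullback.diagonal_snd, Category.comp_id, h12, ha₂]
    obtain ⟨t⟩ : Nonempty ↥(Spec ((pullback (pullback.fst φ φ ≫ φ) a).residueField w')) :=
      inferInstance
    have hωt : ω'.base t = w' := by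
      rw [hω']; exact Scheme.fromSpecResidueField_apply w' t
    refine ⟨a₁.base t, ?_⟩
    show (pullback.diagonal φ).base (a₁.base t) = w
    rw [← TopCat.comp_app, ← Scheme.Hom.comp_base, ← hdiag, hν, Scheme.Hom.comp_base,
      TopCat.comp_app, hωt]
    exact hw'1
  -- apply the graph description
  obtain ⟨hgraphOI, hex⟩ := Groth.Agent.S5128.result p q
  rw [hπX] at hUI hsurj
  obtain ⟨⟨u, hu⟩, hrange, huniq⟩ := hex Γ hUI hsurj
  have hrange' : Set.range (pullback.lift (𝟙 X) u ((Category.id_comp p).trans hu.symm) :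
      X ⟶ pullback p q).base = Γset := hrange.trans hΓ
  have hgraph_of : ∀ (v : X ⟶ Y) (hv : v ≫ q = p), f' ≫ pullback.fst q g = a ≫ v →
      a ≫ (pullback.lift (𝟙 X) v ((Category.id_comp p).trans hv.symm) : X ⟶ pullback p q) = h' := by
    intro v hv hfv
    apply hZ_ext
    · rw [Category.assoc, hπX, pullback.lift_fst, Category.comp_id, ← hπX]
      exact hh'X.symm
    · rw [Category.assoc, hπY, pullback.lift_snd, ← hfv, ← hπY]
      exact hh'Y.symm
  refine ⟨u, ⟨hu, ?_⟩, ?_⟩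
  · -- compatibility
    obtain ⟨γu, hγu⟩ : ∃ γu : X ⟶ pullback p q,
      γu = pullback.lift (𝟙 X) u ((Category.id_comp p).trans hu.symm) := ⟨_, rfl⟩
    have hγoi : IsOpenImmersion γu := by rw [hγu]; exact hgraphOI ⟨u, hu⟩
    have hγX : γu ≫ πX = 𝟙 X := by rw [hγu, hπX]; exact pullback.lift_fst _ _ _
    have hγY : γu ≫ πY = u := by rw [hγu, hπY]; exact pullback.lift_snd _ _ _
    have hle : Set.range h'.base ⊆ Set.range γu.base := by
      rw [hγu, hrange', hΓh']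
    have hfac := IsOpenImmersion.lift_fac γu h' hle
    have hl : IsOpenImmersion.lift γu h' hle = a := by
      calc IsOpenImmersion.lift γu h' hle = IsOpenImmersion.lift γu h' hle ≫ γu ≫ πX := by
            rw [hγX, Category.comp_id]
        _ = a := by rw [← Category.assoc, hfac, hh'X]
    rw [hl] at hfac
    rw [← ha, ← hh'Y, ← hfac, Category.assoc, hγY]
  · rintro v ⟨hv, hfv⟩
    rw [← ha] at hfv
    have hav := hgraph_of v hv hfv
    have hrv : Set.range (pullback.lift (𝟙 X) v ((Category.id_comp p).trans hv.symm) :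
        X ⟶ pullback p q).base = (Γ : Set ↥(pullback p q)) := by
      rw [hΓ, hΓh', ← hav, Scheme.Hom.comp_base, TopCat.coe_comp, Set.range_comp, hasurj.range_eq,
        Set.image_univ]
    have := huniq ⟨v, hv⟩ hrv
    exact congrArg Subtype.val this

end Groth.Agent.S3709
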