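import Groth.Statements.S4997
import Groth.Agent.H25.SmoothQF
import Mathlib.AlgebraicGeometry.Morphisms.QuasiFinite

set_option autoImplicit false
universe u
open CategoryTheory CategoryTheory.Limits AlgebraicGeometry TopologicalSpace
open Unram17

namespace Groth.Agent.S4997

/-- A morphism of schemes is etale if and only if it is smooth and locally quasi-finite. -/
theorem result {X Y : Scheme.{u}} (f : X ⟶ Y) :
    Etale f ↔ Smooth f ∧ LocallyQuasiFinite f := by
  constructor
  · intro h
    exact ⟨inferInstance, ⟨fun hU _ hV e =>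
      Groth.Agent.H25.ringHom_quasiFinite_of_etale _ (f.etale_appLE hU hV e)⟩⟩
  · rintro ⟨hs, hq⟩
    exact ⟨fun hU _ hV e => Groth.Agent.H25.ringHom_etale_of_smooth_of_quasiFinite _
      (f.smooth_appLE hU hV e) (hq.quasiFinite_appLE hU hV e)⟩

end Groth.Agent.S4997
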