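import Groth.Statements.S3570
import Groth.Agent.H18.AffAlgBasic
import Mathlib.AlgebraicGeometry.Morphisms.IsIso

set_option autoImplicit false
universe u
open CategoryTheory CategoryTheory.Limits AlgebraicGeometry
open EGA2

namespace Groth.Agent.S3570

/-- Let f : X → S and g : Y → S be affine morphisms and h : Y → X an S-morphism. Then h is an
isomorphism if and only if A(h) : f_*O_X → g_*O_Y is an isomorphism (of presheaves of rings on S). -/
theorem result {X Y S : Scheme.{u}} (f : X ⟶ S) [IsAffineHom f] (g : Y ⟶ S)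
    [IsAffineHom g] (h : Y ⟶ X) (w : h ≫ f = g) :
    IsIso h ↔ IsIso (AffAlg.algHom f g h w) := by
  subst w
  have : IsAffineHom h := IsAffineHom.of_comp h f
  constructor
  · intro hh
    have : ∀ U : (TopologicalSpace.Opens S)ᵒᵖ, IsIso ((AffAlg.algHom f (h ≫ f) h rfl).app U) := by
      intro U
      have e : (AffAlg.algHom f (h ≫ f) h rfl).app U = h.app (f ⁻¹ᵁ U.unop) :=
        Groth.Agent.H18.algHom_app_eq f h U.unop
      have h1 : IsIso (h.app (f ⁻¹ᵁ U.unop)) := inferInstance
      rw [e]
      exact h1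
    exact NatIso.isIso_of_isIso_app _
  · intro hh
    have key : ∀ V : S.affineOpens, IsIso (h ∣_ (f ⁻¹ᵁ V.1)) := by
      intro V
      have hU : IsAffineOpen (f ⁻¹ᵁ V.1) := V.2.preimage f
      have e : (AffAlg.algHom f (h ≫ f) h rfl).app (Opposite.op V.1) = h.app (f ⁻¹ᵁ V.1) :=
        Groth.Agent.H18.algHom_app_eq f h V.1
      have h1 : IsIso ((AffAlg.algHom f (h ≫ f) h rfl).app (Opposite.op V.1)) := inferInstance
      rw [e] at h1
      exact (isIso_morphismRestrict_iff_isIso_app (f := h) hU).mpr h1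
    exact (IsZariskiLocalAtTarget.iff_of_iSup_eq_top (P := MorphismProperty.isomorphisms Scheme)
      (fun V : S.affineOpens => f ⁻¹ᵁ V.1) (Groth.Agent.H18.iSup_preimage_affineOpens f)).mpr key

end Groth.Agent.S3570
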