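import Groth.Statements.S14578
import Groth.Agent.H42.AntiAffGrp

set_option autoImplicit false
universe u
open CategoryTheory MonoidalCategory CartesianMonoidalCategory MonObj GrpObj AlgebraicGeometry CategoryTheory.Limits
open AlgGrp

namespace Groth.Agent.S14578

/-- Let k be a field, H an anti-affine k-group scheme of finite type (its only global functions are the
constants), G a k-group scheme of finite type and f : H → G a morphism of k-schemes with f(e_H) =
e_G. Then f is a homomorphism. (The second assertion, that f factors through the centre of the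
neutral component of G, is not restated here.) -/
theorem result (k : Type u) [Field k]
    (H G : Over (Spec (CommRingCat.of k))) [GrpObj H] [GrpObj G] [LocallyOfFiniteType H.hom] [QuasiCompact H.hom]
    [LocallyOfFiniteType G.hom] [QuasiCompact G.hom]
    (hH : Function.Bijective ((Scheme.ΓSpecIso (CommRingCat.of k)).inv ≫ H.hom.appTop).hom) (f : H ⟶ G) (hf : η[H] ≫ f = η[G]) : IsMonHom f := by
  have hone : ∀ (X : Over (Spec (CommRingCat.of k))), (toUnit X ≫ η[G] : X ⟶ G) = 1 := by
    intro X
    rw [MonObj.one_eq_one, MonObj.comp_one]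
  have honeH : ∀ (X : Over (Spec (CommRingCat.of k))), (toUnit X ≫ η[H] : X ⟶ H) = 1 := by
    intro X
    rw [MonObj.one_eq_one, MonObj.comp_one]
  have h1f : ∀ (X : Over (Spec (CommRingCat.of k))), ((1 : X ⟶ H) ≫ f) = 1 := by
    intro X
    rw [← honeH, Category.assoc, hf, hone]
  let φ : H ⊗ H ⟶ G := ((fst H H * snd H H) ≫ f) * (snd H H ≫ f)⁻¹ * (fst H H ≫ f)⁻¹
  have hφ : (H ◁ η[H]) ≫ φ = toUnit _ ≫ η[G] := by
    have e1 : (H ◁ η[H]) ≫ fst H H = fst H (𝟙_ _) := whiskerLeft_fst _ _
    have e2 : (H ◁ η[H]) ≫ snd H H = 1 := by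
      rw [whiskerLeft_snd, toUnit_unique (snd H (𝟙_ _)) (toUnit _), honeH]
    rw [hone]
    simp only [φ, MonObj.comp_mul, GrpObj.comp_inv]
    rw [← Category.assoc, MonObj.comp_mul, ← Category.assoc (H ◁ η[H]) (snd H H),
      ← Category.assoc (H ◁ η[H]) (fst H H), e1, e2, _root_.mul_one, h1f, inv_one,
      _root_.mul_one, mul_inv_cancel]
  have key := Groth.Agent.H42.AntiAff.grp_rigid k H hH G η[G] φ hφ
  have hσ : lift (toUnit H ≫ η[H]) (𝟙 H) ≫ φ = 1 := by
    simp only [φ, MonObj.comp_mul, GrpObj.comp_inv]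
    rw [← Category.assoc, MonObj.comp_mul, ← Category.assoc (lift _ _) (snd H H),
      ← Category.assoc (lift _ _) (fst H H), lift_fst, lift_snd, honeH, _root_.one_mul,
      Category.id_comp, h1f, inv_one, _root_.mul_one, mul_inv_cancel]
  have hφ1 : φ = 1 := by
    rw [key, hσ, MonObj.comp_one]
  have hmul : (fst H H * snd H H) ≫ f = (fst H H ≫ f) * (snd H H ≫ f) := by
    have := hφ1
    simp only [φ] at this
    rw [mul_inv_eq_one, mul_inv_eq_iff_eq_mul] at this
    exact this
  refine ⟨hf, ?_⟩
  rw [MonObj.mul_eq_mul H, hmul, Hom.mul_def]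
  congr 1

end Groth.Agent.S14578
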