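import Groth.Statements.S7615
import Groth.Agent.H11.FinSepField
import Groth.Agent.H25.GenFibre
import Groth.Agent.H25.GeomRedGlobal
import Groth.Agent.H25.GeomRedAt

set_option autoImplicit false
universe u
open CategoryTheory CategoryTheory.Limits AlgebraicGeometry
open Variety

namespace Groth.Agent.S7615

/-- Let X be a proper variety over a field k (integral, separated, of finite type and proper over k) and
K = H^0(X, O_X), a k-algebra via the structure morphism. Then K is a field, finite over k; K/k is
separable when X is geometrically reduced over k, and purely inseparable when X is geometrically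
irreducible over k. -/
theorem result (k : Type u) [Field k] (X : Scheme.{u}) [X.Over (Spec (CommRingCat.of k))] [IsIntegral X] [IsProper (X ↘ (Spec (CommRingCat.of k)))] :
    letI := ((X ↘ (Spec (CommRingCat.of k))).appTop.hom.comp (Scheme.ΓSpecIso (CommRingCat.of k)).inv.hom : k →+* Γ(X, ⊤)).toAlgebra
    IsField ↑Γ(X, ⊤) ∧ Module.Finite k ↑Γ(X, ⊤) ∧
      (GeometricallyReduced (X ↘ (Spec (CommRingCat.of k))) → Algebra.IsSeparable k ↑Γ(X, ⊤)) ∧
      (GeometricallyIrreducible (X ↘ (Spec (CommRingCat.of k))) → IsPurelyInseparable k ↑Γ(X, ⊤)) := by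
  letI alg : Algebra k Γ(X, ⊤) :=
    ((X ↘ (Spec (CommRingCat.of k))).appTop.hom.comp
      (Scheme.ΓSpecIso (CommRingCat.of k)).inv.hom : k →+* Γ(X, ⊤)).toAlgebra
  have hF : IsField ↑Γ(X, ⊤) := isField_of_universallyClosed k (X ↘ (Spec (CommRingCat.of k)))
  have hfin : Module.Finite k ↑Γ(X, ⊤) := by
    have h1 := finite_appTop_of_universallyClosed k (X ↘ (Spec (CommRingCat.of k)))
    have h2 : ((X ↘ (Spec (CommRingCat.of k))).appTop.hom.comp
        (Scheme.ΓSpecIso (CommRingCat.of k)).inv.hom).Finite :=
      h1.comp (RingHom.Finite.of_surjective _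
        (ConcreteCategory.bijective_of_isIso (Scheme.ΓSpecIso (CommRingCat.of k)).inv).2)
    exact h2
  have hgerm : Function.Injective (X.presheaf.germ ⊤ (genericPoint X) trivial).hom :=
    germ_injective_of_isIntegral X (U := ⊤) (genericPoint X) trivial
  refine ⟨hF, hfin, ?_, ?_⟩
  · intro hgr
    letI := Curv2.stalkAlgebra k X (genericPoint X)
    let ψ : Γ(X, ⊤) →ₐ[k] X.presheaf.stalk (genericPoint X) :=
      { toRingHom := (X.presheaf.germ ⊤ (genericPoint X) trivial).hom
        commutes' := fun c => rfl }
    haveI : Algebra.IsGeometricallyReduced k (X.presheaf.stalk (genericPoint X)) :=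
      (Groth.Agent.H25.GeomRedAt.isGeomReducedAt_iff k X (genericPoint X)).mp
        (Groth.Agent.H25.GeomRedGlobal.isGeomReducedAt_of_geometricallyReduced k X _)
    haveI : Algebra.IsGeometricallyReduced k Γ(X, ⊤) :=
      Algebra.IsGeometricallyReduced.of_injective ψ hgerm
    exact Groth.Agent.H11.FinSepField.isSeparable_of_isGeometricallyReduced k _ hF
  · intro hgi
    letI := Curv2.resAlgebra k X (genericPoint X)
    have hsep := (Groth.Agent.H25.GenFibre.geometricallyIrreducible_iff_sepClosedIn k X).mp hgi
    let ψ₂ : Γ(X, ⊤) →ₐ[k] X.residueField (genericPoint X) :=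
      { toRingHom := (X.residue (genericPoint X)).hom.comp
          (X.presheaf.germ ⊤ (genericPoint X) trivial).hom
        commutes' := fun c => rfl }
    have hres : Function.Injective (X.residue (genericPoint X)).hom :=
      RingHom.injective (R := X.functionField) (X.residue (genericPoint X)).hom
    have hinj : Function.Injective ψ₂ := hres.comp hgerm
    rw [isPurelyInseparable_iff]
    intro a
    refine ⟨Algebra.IsIntegral.isIntegral a, fun hs => ?_⟩
    have hs' : IsSeparable k (ψ₂ a) := by
      unfold _root_.IsSeparable at hs ⊢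
      rwa [minpoly.algHom_eq ψ₂ hinj a]
    obtain ⟨c, hc⟩ := hsep (ψ₂ a) hs'
    refine ⟨c, hinj ?_⟩
    rw [← hc]
    exact ψ₂.commutes c


end Groth.Agent.S7615
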