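import Groth.Statements.S6773
import Mathlib.CategoryTheory.Abelian.Exact

set_option autoImplicit false
open CategoryTheory
universe v u v' u'
open DeltaF

namespace Groth.Agent.S6773

open CategoryTheory.Limits DeltaF

section Aux

variable {A : Type u} [Category.{v} A] [Abelian A] {B : Type u'} [Category.{v'} B] [Abelian B]

/-- An effacement datum of `X` in degree `n + 1`. -/
structure Eff (T : CohDeltaFunctor A B ℕ) (n : ℕ) (X : A) where
  Y : A
  u : X ⟶ Y
  mono : Mono u
  zero : (T.F (n + 1)).map u = 0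

namespace Eff

variable {T : CohDeltaFunctor A B ℕ} {n : ℕ} {X : A} (E : Eff T n X)

/-- The short exact sequence `X ⟶ Y ⟶ Y / X` of an effacement datum. -/
noncomputable abbrev sc : ShortComplex A := ShortComplex.mk E.u (cokernel.π E.u) (cokernel.condition _)

lemma shortExact : E.sc.ShortExact := by
  have := E.mono
  exact { exact := ShortComplex.exact_cokernel E.u
          mono_f := E.mono
          epi_g := inferInstanceAs (Epi (cokernel.π E.u)) }

/-- The connecting morphism of an effacement datum. -/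
noncomputable def δ : (T.F n).obj E.sc.X₃ ⟶ (T.F (n + 1)).obj X :=
  T.δ E.sc E.shortExact n (n + 1) rfl

instance epi_δ : Epi E.δ := by
  have h := T.exact₁ E.sc E.shortExact n (n + 1) rfl
  exact h.epi_f E.zero

variable (T' : CohDeltaFunctor A B ℕ) (s : T.F n ⟶ T'.F n)

lemma next_aux : (T.F n).map E.sc.g ≫ s.app E.sc.X₃ ≫ T'.δ E.sc E.shortExact n (n + 1) rfl = 0 := by
  rw [← Category.assoc, s.naturality, Category.assoc, T'.comp_δ, comp_zero]

/-- The map `T^{n+1} X ⟶ T'^{n+1} X` defined by an effacement datum and a natural transformation in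
degree `n`. -/
noncomputable def next : (T.F (n + 1)).obj X ⟶ (T'.F (n + 1)).obj X :=
  have : Epi (ShortComplex.mk _ _ (T.comp_δ E.sc E.shortExact n (n + 1) rfl)).g := E.epi_δ
  (T.exact₃ E.sc E.shortExact n (n + 1) rfl).desc
    (s.app E.sc.X₃ ≫ T'.δ E.sc E.shortExact n (n + 1) rfl) (E.next_aux T' s)

lemma δ_next : E.δ ≫ E.next T' s = s.app E.sc.X₃ ≫ T'.δ E.sc E.shortExact n (n + 1) rfl :=
  have : Epi (ShortComplex.mk _ _ (T.comp_δ E.sc E.shortExact n (n + 1) rfl)).g := E.epi_δ
  (T.exact₃ E.sc E.shortExact n (n + 1) rfl).g_desc _ _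

/-- Compatibility with morphisms of short exact sequences. -/
lemma next_compat {X' : A} (E' : Eff T n X') (φ : E.sc ⟶ E'.sc) :
    (T.F (n + 1)).map φ.τ₁ ≫ E'.next T' s = E.next T' s ≫ (T'.F (n + 1)).map φ.τ₁ := by
  rw [← cancel_epi E.δ]
  have h1 : E.δ ≫ (T.F (n + 1)).map φ.τ₁ = (T.F n).map φ.τ₃ ≫ E'.δ :=
    (T.δ_natural E.shortExact E'.shortExact φ n (n + 1) rfl).symm
  have h2 : (T'.F n).map φ.τ₃ ≫ T'.δ E'.sc E'.shortExact n (n + 1) rfl =
      T'.δ E.sc E.shortExact n (n + 1) rfl ≫ (T'.F (n + 1)).map φ.τ₁ :=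
    T'.δ_natural E.shortExact E'.shortExact φ n (n + 1) rfl
  calc E.δ ≫ (T.F (n + 1)).map φ.τ₁ ≫ E'.next T' s
      = ((T.F n).map φ.τ₃ ≫ E'.δ) ≫ E'.next T' s := by rw [← Category.assoc, h1]
    _ = (T.F n).map φ.τ₃ ≫ s.app _ ≫ T'.δ E'.sc E'.shortExact n (n + 1) rfl := by
        rw [Category.assoc, E'.δ_next]
    _ = s.app _ ≫ (T'.F n).map φ.τ₃ ≫ T'.δ E'.sc E'.shortExact n (n + 1) rfl := by
        rw [← Category.assoc, s.naturality, Category.assoc]
    _ = s.app _ ≫ T'.δ E.sc E.shortExact n (n + 1) rfl ≫ (T'.F (n + 1)).map φ.τ₁ := by rw [h2]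
    _ = E.δ ≫ E.next T' s ≫ (T'.F (n + 1)).map φ.τ₁ := by
        rw [← Category.assoc, ← E.δ_next, Category.assoc]

/-- The effacement datum `X ⟶ Y ⊞ Y'` built from `u : X ⟶ Y` and `f ≫ u' : X ⟶ Y'`. -/
noncomputable def prod {X' : A} (f : X ⟶ X') (E' : Eff T n X') : Eff T n X where
  Y := E.Y ⊞ E'.Y
  u := biprod.lift E.u (f ≫ E'.u)
  mono := by
    have := E.mono
    exact mono_of_mono_fac (biprod.lift_fst E.u (f ≫ E'.u))
  zero := by
    have h : biprod.lift E.u (f ≫ E'.u) =
        E.u ≫ biprod.inl + (f ≫ E'.u) ≫ biprod.inr := by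
      ext <;> simp
    rw [h, Functor.map_add, Functor.map_comp, Functor.map_comp, Functor.map_comp, E.zero, E'.zero]
    simp

/-- The projection `(X ⟶ Y ⊞ Y') ⟶ (X ⟶ Y)`. -/
noncomputable def prodFst {X' : A} (f : X ⟶ X') (E' : Eff T n X') : (E.prod f E').sc ⟶ E.sc where
  τ₁ := 𝟙 X
  τ₂ := biprod.fst
  τ₃ := cokernel.map _ _ (𝟙 X) biprod.fst (by simp [prod])
  comm₁₂ := by simp [sc, prod]
  comm₂₃ := by simp [sc]

/-- The projection `(X ⟶ Y ⊞ Y') ⟶ (X' ⟶ Y')`. -/
noncomputable def prodSnd {X' : A} (f : X ⟶ X') (E' : Eff T n X') : (E.prod f E').sc ⟶ E'.sc where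
  τ₁ := f
  τ₂ := biprod.snd
  τ₃ := cokernel.map _ _ f biprod.snd (by simp [prod])
  comm₁₂ := by simp [sc, prod]
  comm₂₃ := by simp [sc]

lemma next_natural {X' : A} (f : X ⟶ X') (E' : Eff T n X') :
    (T.F (n + 1)).map f ≫ E'.next T' s = E.next T' s ≫ (T'.F (n + 1)).map f := by
  have h1 := (E.prod f E').next_compat T' s E (E.prodFst f E')
  have h2 := (E.prod f E').next_compat T' s E' (E.prodSnd f E')
  simp only [prodFst, prodSnd, CategoryTheory.Functor.map_id, Category.id_comp, Category.comp_id] at h1 h2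
  rw [h2, h1]

end Eff

variable {T : CohDeltaFunctor A B ℕ} (hT : T.IsEffaceable) (T' : CohDeltaFunctor A B ℕ)

/-- A choice of effacement data. -/
noncomputable def chosenEff (n : ℕ) (X : A) : Eff T n X :=
  { Y := (hT n X).choose
    u := (hT n X).choose_spec.choose
    mono := (hT n X).choose_spec.choose_spec.1
    zero := (hT n X).choose_spec.choose_spec.2 }

/-- The inductive step: from a natural transformation in degree `n` to one in degree `n + 1`. -/
noncomputable def step (n : ℕ) (s : T.F n ⟶ T'.F n) : T.F (n + 1) ⟶ T'.F (n + 1) where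
  app X := (chosenEff hT n X).next T' s
  naturality X X' f := (chosenEff hT n X).next_natural T' s f (chosenEff hT n X')

lemma step_app_eq (n : ℕ) (s : T.F n ⟶ T'.F n) {X : A} (E : Eff T n X) :
    (step hT T' n s).app X = E.next T' s := by
  have := (chosenEff hT n X).next_natural T' s (𝟙 X) E
  change (chosenEff hT n X).next T' s = E.next T' s
  simpa using this.symm

/-- The step commutes with the connecting morphisms. -/
lemma step_comm (n : ℕ) (s : T.F n ⟶ T'.F n) (S : ShortComplex A) (hS : S.ShortExact) :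
    T.δ S hS n (n + 1) rfl ≫ (step hT T' n s).app S.X₁ =
      s.app S.X₃ ≫ T'.δ S hS n (n + 1) rfl := by
  have := hS.mono_f
  have := hS.epi_g
  let E₂ := chosenEff hT n S.X₂
  have := E₂.mono
  let E₁ : Eff T n S.X₁ :=
    { Y := E₂.Y
      u := S.f ≫ E₂.u
      mono := mono_comp _ _
      zero := by rw [Functor.map_comp, E₂.zero, comp_zero] }
  let w : S.X₃ ⟶ cokernel (S.f ≫ E₂.u) :=
    hS.exact.desc (E₂.u ≫ cokernel.π (S.f ≫ E₂.u)) (by
      rw [← Category.assoc, cokernel.condition])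
  have hw : S.g ≫ w = E₂.u ≫ cokernel.π (S.f ≫ E₂.u) := hS.exact.g_desc _ _
  let φ : S ⟶ E₁.sc :=
    { τ₁ := 𝟙 _
      τ₂ := E₂.u
      τ₃ := w
      comm₁₂ := by simp [Eff.sc, E₁]
      comm₂₃ := hw.symm }
  rw [step_app_eq hT T' n s E₁]
  have h1 : (T.F n).map w ≫ E₁.δ = T.δ S hS n (n + 1) rfl ≫ (T.F (n + 1)).map (𝟙 _) :=
    T.δ_natural hS E₁.shortExact φ n (n + 1) rfl
  have h2 : (T'.F n).map w ≫ T'.δ E₁.sc E₁.shortExact n (n + 1) rfl =
      T'.δ S hS n (n + 1) rfl ≫ (T'.F (n + 1)).map (𝟙 _) :=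
    T'.δ_natural hS E₁.shortExact φ n (n + 1) rfl
  rw [CategoryTheory.Functor.map_id, Category.comp_id] at h1 h2
  rw [← h1, Category.assoc, E₁.δ_next, ← Category.assoc, s.naturality, Category.assoc, h2]

/-- The extension of a natural transformation in degree `0`. -/
noncomputable def ext (t : T.F 0 ⟶ T'.F 0) : ∀ n : ℕ, T.F n ⟶ T'.F n
  | 0 => t
  | n + 1 => step hT T' n (ext t n)

end Aux

/-- An effaceable cohomological delta-functor (for every degree `n + 1 ≥ 1` and every object `X` there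
is a monomorphism out of `X` killed by the functor in that degree) is universal. Delta-functors here
are indexed by `ℕ` and are not required to be left exact in degree `0`; universality is tested
against all such delta-functors. -/
theorem result {A : Type u} [Category.{v} A] [Abelian A] {B : Type u'} [Category.{v'} B] [Abelian B] (T : DeltaF.CohDeltaFunctor A B ℕ) (hT : T.IsEffaceable) : T.IsUniversal := by
  intro T' t
  refine ⟨{ app := ext hT T' t, comm := ?_ }, rfl, ?_⟩
  · intro S hS n₀ n₁ h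
    subst h
    exact step_comm hT T' n₀ (ext hT T' t n₀) S hS
  · intro τ hτ
    apply DeltaF.CohDeltaFunctor.hom_ext
    intro n
    induction n with
    | zero => exact hτ
    | succ n ih =>
      change τ.app (n + 1) = ext hT T' t (n + 1)
      ext X
      let E := chosenEff hT n X
      rw [← cancel_epi E.δ]
      have h1 := τ.comm E.sc E.shortExact n (n + 1) rfl
      have h2 := step_comm hT T' n (ext hT T' t n) E.sc E.shortExact
      change E.δ ≫ (τ.app (n + 1)).app X = E.δ ≫ (step hT T' n (ext hT T' t n)).app X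
      rw [show E.δ = T.δ E.sc E.shortExact n (n + 1) rfl from rfl]
      rw [h2]
      rw [show (τ.app (n + 1)).app X = (τ.app (n + 1)).app E.sc.X₁ from rfl, h1]
      have : τ.app n = ext hT T' t n := ih
      rw [this]

end Groth.Agent.S6773
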