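import Groth.Statements.S8536
import Groth.Agent.H4.HpullAPI
-- import your own Groth.Agent.* helpers here

set_option autoImplicit false
universe u
open CategoryTheory CategoryTheory.Limits AlgebraicGeometry Opposite
open EtAcyc

namespace Groth.Agent.S8536

open Abelian

set_option backward.isDefEq.respectTransparency.types false in
lemma mem_top_iff {X : Scheme.{u}} (U : X.Etale) (R : Sieve U) :
    R ∈ X.smallEtaleTopology U ↔
      ∀ x : U.left, ∃ (Y : X.Etale) (f : Y ⟶ U) (y : Y.left), R f ∧ f.left y = x := by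
  have h0 : X.smallEtaleTopology =
      (X.smallPretopology (P := @Etale) (Q := @Etale)).toGrothendieck :=
    Scheme.smallGrothendieckTopology_eq_toGrothendieck_smallPretopology _ le_rfl
  have h1 : R ∈ X.smallEtaleTopology U ↔
      R ∈ (X.smallPretopology (P := @Etale) (Q := @Etale)).toGrothendieck U := by
    rw [h0]; exact Iff.rfl
  refine h1.trans ((Scheme.mem_toGrothendieck_smallPretopology (P := @Etale) (Q := @Etale) U R).trans ?_)
  constructor
  · intro h x
    obtain ⟨Y, f, y, h1, -, h3⟩ := h x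
    exact ⟨Y, f, y, h1, h3⟩
  · intro h x
    obtain ⟨Y, f, y, h1, h3⟩ := h x
    exact ⟨Y, f, y, h1, inferInstance, h3⟩

lemma isLTorsion_of_epi {X : Scheme.{u}} (L : Set ℕ) {G Q : EtCoh.Ab X} (π : G ⟶ Q) [Epi π]
    (hG : IsLTorsion L G) : IsLTorsion L Q := by
  intro U s x
  have hls : Sheaf.IsLocallySurjective π :=
    (Sheaf.isLocallySurjective_iff_epi' (φ := π)).2 inferInstance
  have hmem := Presheaf.imageSieve_mem X.smallEtaleTopology π.hom s
  obtain ⟨Y, f, y, ⟨t, ht⟩, hy⟩ := (mem_top_iff U _).1 hmem x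
  obtain ⟨V, g, m, ⟨v, hv⟩, hm, hmt⟩ := hG Y t y
  refine ⟨V, g ≫ f, m, ⟨v, ?_⟩, hm, ?_⟩
  · have : (g ≫ f).left = g.left ≫ f.left := rfl
    rw [this, Scheme.Hom.comp_base, TopCat.comp_app, hv]
    exact hy
  · have e1 : Q.obj.map (g ≫ f).op s = Q.obj.map g.op (Q.obj.map f.op s) := by
      rw [op_comp, Q.obj.map_comp]; rfl
    have e2 : Q.obj.map g.op (π.hom.app (op Y) t) = π.hom.app (op V) (G.obj.map g.op t) := by
      have := π.hom.naturality g.op
      exact (congrArg (fun k => k.hom t) this).symm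
    rw [e1, ← ht, e2, ← map_nsmul, hmt, map_zero]

section
open Groth.Agent.H4.HpullAPI EtCoh EtCore

variable {X Y : Scheme.{u}} (h : Y ⟶ X) [PreservesFiniteLimits (EtCoh.pull h)]

lemma Hpull_comp_mk₀ {A B : EtCoh.Ab X} (φ : A ⟶ B) (k : ℕ) (e : EtCoh.H X A k) :
    EtCore.Hpull h B k (e.comp (Ext.mk₀ φ) (add_zero k)) =
      (EtCore.Hpull h A k e).comp (Ext.mk₀ ((EtCoh.pull h).map φ)) (add_zero k) := by
  rw [Hpull_apply, Hpull_apply, Ext.mapExactFunctor_comp, Ext.mapExactFunctor_mk₀,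
    Ext.comp_assoc _ _ _ (zero_add k) (add_zero k) (by omega)]

lemma Hpull_comp_extClass {S : ShortComplex (EtCoh.Ab X)} (hS : S.ShortExact) (k : ℕ)
    (e : EtCoh.H X S.X₃ k) :
    EtCore.Hpull h S.X₁ (k + 1) (e.comp hS.extClass rfl) =
      (EtCore.Hpull h S.X₃ k e).comp (hS.map_of_exact (EtCoh.pull h)).extClass rfl := by
  rw [Hpull_apply, Hpull_apply, Ext.mapExactFunctor_comp, Ext.mapExactFunctor_extClass,
    Ext.comp_assoc _ _ _ (zero_add k) rfl (by omega)]
  rfl

end

/-- Let h : Y → X be a morphism of quasi-compact quasi-separated schemes, L a set of primes and n a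
natural number, and suppose that for every abelian L-torsion sheaf on X the pullback map on etale
cohomology along h is bijective in degrees ≤ n and injective in degree n + 1. Let u : F → G be a
monomorphism of abelian L-torsion sheaves on X and ξ a class in H^{n+1}(Y, h⁻¹F) whose image in
H^{n+1}(Y, h⁻¹G) comes from H^{n+1}(X, G). Then ξ comes from H^{n+1}(X, F). -/
theorem result {X Y : Scheme.{u}} [CompactSpace X] [QuasiSeparatedSpace X]
    [CompactSpace Y] [QuasiSeparatedSpace Y] (h : Y ⟶ X) (L : Set ℕ) (n : ℕ) (hc : EtAcyc.CompN h L n)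
    [PreservesFiniteLimits (EtCoh.pull h)] {F G : EtCoh.Ab X} (u : F ⟶ G) [Mono u]
    (hF : EtAcyc.IsLTorsion L F) (hG : EtAcyc.IsLTorsion L G)
    (ξ : EtCoh.H Y ((EtCoh.pull h).obj F) (n + 1))
    (hξ : (EtCoh.HF Y (n + 1)).map ((EtCoh.pull h).map u) ξ ∈ Set.range (EtCore.Hpull h G (n + 1))) :
    ξ ∈ Set.range (EtCore.Hpull h F (n + 1)) := by
  let S : ShortComplex (EtCoh.Ab X) := ShortComplex.mk u (cokernel.π u) (cokernel.condition u)
  have hS : S.ShortExact :=
    { exact := ShortComplex.exact_cokernel u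
      mono_f := inferInstanceAs (Mono u)
      epi_g := inferInstanceAs (Epi (cokernel.π u)) }
  have hS' := hS.map_of_exact (EtCoh.pull h)
  have hQ : IsLTorsion L (cokernel u) := isLTorsion_of_epi L (cokernel.π u) hG
  obtain ⟨hbQ, hiQ⟩ := hc (cokernel u) hQ
  obtain ⟨η, hη⟩ := hξ
  have hη' : EtCore.Hpull h G (n + 1) η = ξ.comp (Ext.mk₀ ((EtCoh.pull h).map u)) (add_zero _) := hη
  -- step 2
  have h2 : η.comp (Ext.mk₀ S.g) (add_zero _) = 0 := by
    apply hiQ
    rw [map_zero, Hpull_comp_mk₀ h S.g, hη', Ext.comp_assoc_of_third_deg_zero, Ext.mk₀_comp_mk₀,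
      ← Functor.map_comp]
    have : u ≫ S.g = 0 := S.zero
    rw [this, Functor.map_zero, Ext.mk₀_zero, Ext.comp_zero]
  obtain ⟨ζ, hζ⟩ := Ext.covariant_sequence_exact₂ _ hS η h2
  -- step 4
  have h4 : (ξ - EtCore.Hpull h F (n + 1) ζ).comp (Ext.mk₀ (S.map (EtCoh.pull h)).f) (add_zero _) = 0 := by
    rw [sub_eq_add_neg, Ext.add_comp, Ext.neg_comp]
    have e1 : (EtCore.Hpull h F (n + 1) ζ).comp (Ext.mk₀ (S.map (EtCoh.pull h)).f) (add_zero _) =
        EtCore.Hpull h G (n + 1) η := by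
      rw [← hζ]
      exact (Hpull_comp_mk₀ h S.f (n + 1) ζ).symm
    rw [e1, hη']
    exact add_neg_cancel _
  obtain ⟨ω', hω'⟩ := Ext.covariant_sequence_exact₁ _ hS' _ h4 (rfl : n + 1 = n + 1)
  obtain ⟨ω, rfl⟩ := (hbQ n le_rfl).2 ω'
  refine ⟨ζ + ω.comp hS.extClass rfl, ?_⟩
  rw [map_add, Hpull_comp_extClass h hS n ω]
  exact (congrArg (fun z => EtCore.Hpull h F (n + 1) ζ + z) hω').trans (by abel)

end Groth.Agent.S8536
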