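import Groth.Statements.S1848
import Groth.Agent.H63.TameK

set_option autoImplicit false
universe u
open CycAlg Groth.Agent.H63.Tame

namespace Groth.Agent.S1848

/-- For a Noetherian local ring A of dimension 1, the tame symbol ∂ on pairs of nonzerodivisors of A
takes nonzero values, is multiplicative in each variable, satisfies ∂(b, b) = (−1)^m and ∂(u, b) =
ū^m for a unit u (ū its image in the residue field), where m = length_A(A/bA), and satisfies ∂(a, b
− a) ∂(b, b) = ∂(b, b − a) ∂(a, b) whenever a, b and b − a are nonzerodivisors. -/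
theorem result (A : Type u) [CommRing A] [IsNoetherianRing A] [IsLocalRing A] (hA : ringKrullDim A = 1) : (∀ a b : A, a ∈ nonZeroDivisors A → b ∈ nonZeroDivisors A → CycAlg.tameSymbol A a b ≠ 0) ∧ (∀ a a' b : A, a ∈ nonZeroDivisors A → a' ∈ nonZeroDivisors A → b ∈ nonZeroDivisors A → CycAlg.tameSymbol A (a * a') b = CycAlg.tameSymbol A a b * CycAlg.tameSymbol A a' b ∧ CycAlg.tameSymbol A b (a * a') = CycAlg.tameSymbol A b a * CycAlg.tameSymbol A b a') ∧ (∀ b : A, b ∈ nonZeroDivisors A → CycAlg.tameSymbol A b b = (-1) ^ (Module.length A (A ⧸ Ideal.span {b})).toNat) ∧ (∀ (c : Aˣ) (b : A), b ∈ nonZeroDivisors A → CycAlg.tameSymbol A (c : A) b = IsLocalRing.residue A (c : A) ^ (Module.length A (A ⧸ Ideal.span {b})).toNat) ∧ (∀ a b : A, a ∈ nonZeroDivisors A → b ∈ nonZeroDivisors A → b - a ∈ nonZeroDivisors A → CycAlg.tameSymbol A a (b - a) * CycAlg.tameSymbol A b b = CycAlg.tameSymbol A b (b - a) * CycAlg.tameSymbol A a b) := by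
  classical
  have hA' : ringKrullDim A ≤ 1 := hA.le
  refine ⟨?_, ?_, ?_, ?_, ?_⟩
  · -- nonvanishing
    intro a b ha hb
    obtain ⟨S, hS⟩ := exists_base hA' 2 ![a, b] (by
      intro i; fin_cases i
      · exact ha
      · exact hb)
    have F : ∀ q : MaximalSpectrum S.B,
        Fac (Localization.AtPrime q.asIdeal) (S.π q) (algebraMap A _ a) := fun q => (hS 0 q).some
    have G : ∀ q : MaximalSpectrum S.B,
        Fac (Localization.AtPrime q.asIdeal) (S.π q) (algebraMap A _ b) := fun q => (hS 1 q).some
    rw [tameSymbol_eq hA ha hb (S.tame F G)]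
    exact value_ne_zero S F G
  · -- bimultiplicativity
    intro a a' b ha ha' hb
    obtain ⟨S, hS⟩ := exists_base hA' 3 ![a, a', b] (by
      intro i; fin_cases i
      · exact ha
      · exact ha'
      · exact hb)
    have F : ∀ q : MaximalSpectrum S.B,
        Fac (Localization.AtPrime q.asIdeal) (S.π q) (algebraMap A _ a) := fun q => (hS 0 q).some
    have F' : ∀ q : MaximalSpectrum S.B,
        Fac (Localization.AtPrime q.asIdeal) (S.π q) (algebraMap A _ a') := fun q => (hS 1 q).some
    have G : ∀ q : MaximalSpectrum S.B,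
        Fac (Localization.AtPrime q.asIdeal) (S.π q) (algebraMap A _ b) := fun q => (hS 2 q).some
    let FF : ∀ q : MaximalSpectrum S.B,
        Fac (Localization.AtPrime q.asIdeal) (S.π q) (algebraMap A _ (a * a')) :=
      fun q => ((F q).mul (F' q)).cast (map_mul _ a a').symm
    have haa : a * a' ∈ nonZeroDivisors A := mul_mem ha ha'
    constructor
    · rw [tameSymbol_eq hA haa hb (S.tame FF G), tameSymbol_eq hA ha hb (S.tame F G),
        tameSymbol_eq hA ha' hb (S.tame F' G), value_mul, S.tame_value]
      refine finprod_congr fun q => ?_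
      rw [Fac.th_cast_left, Fac.th_mul_left]
    · rw [tameSymbol_eq hA hb haa (S.tame G FF), tameSymbol_eq hA hb ha (S.tame G F),
        tameSymbol_eq hA hb ha' (S.tame G F'), value_mul, S.tame_value]
      refine finprod_congr fun q => ?_
      rw [Fac.th_cast_right, Fac.th_mul_right]
  · -- ∂(b,b)
    intro b hb
    obtain ⟨S, hS⟩ := exists_base hA' 1 ![b] (by
      intro i; fin_cases i
      exact hb)
    have G : ∀ q : MaximalSpectrum S.B,
        Fac (Localization.AtPrime q.asIdeal) (S.π q) (algebraMap A _ b) := fun q => (hS 0 q).some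
    rw [tameSymbol_eq hA hb hb (S.tame G G)]
    refine value_of_const hA' S hb G G (-1) fun q => ?_
    rw [Fac.th_self, map_neg, map_one]
  · -- ∂(c,b)
    intro c b hb
    obtain ⟨S, hS⟩ := exists_base hA' 1 ![b] (by
      intro i; fin_cases i
      exact hb)
    have G : ∀ q : MaximalSpectrum S.B,
        Fac (Localization.AtPrime q.asIdeal) (S.π q) (algebraMap A _ b) := fun q => (hS 0 q).some
    let F : ∀ q : MaximalSpectrum S.B,
        Fac (Localization.AtPrime q.asIdeal) (S.π q) (algebraMap A _ (c : A)) :=
      fun q => Fac.ofUnit (S.π q) (c.isUnit.map _)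
    rw [tameSymbol_eq hA c.isUnit.mem_nonZeroDivisors hb (S.tame F G)]
    refine value_of_const hA' S hb F G (IsLocalRing.residue A (c : A)) fun q => ?_
    rw [Fac.th_ofUnit_left]
    rfl
  · -- Steinberg-type relation
    intro a b ha hb hz
    obtain ⟨S, hS⟩ := exists_base hA' 3 ![a, b, b - a] (by
      intro i; fin_cases i
      · exact ha
      · exact hb
      · exact hz)
    have F : ∀ q : MaximalSpectrum S.B,
        Fac (Localization.AtPrime q.asIdeal) (S.π q) (algebraMap A _ a) := fun q => (hS 0 q).some
    have G : ∀ q : MaximalSpectrum S.B,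
        Fac (Localization.AtPrime q.asIdeal) (S.π q) (algebraMap A _ b) := fun q => (hS 1 q).some
    have H : ∀ q : MaximalSpectrum S.B,
        Fac (Localization.AtPrime q.asIdeal) (S.π q) (algebraMap A _ (b - a)) :=
      fun q => (hS 2 q).some
    rw [tameSymbol_eq hA ha hz (S.tame F H), tameSymbol_eq hA hb hb (S.tame G G),
      tameSymbol_eq hA hb hz (S.tame G H), tameSymbol_eq hA ha hb (S.tame F G), value_mul,
      value_mul]
    refine finprod_congr fun q => ?_
    by_cases hu : IsUnit (S.π q)
    · rw [Ring.ord_of_isUnit hu]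
      simp
    · have hrel : algebraMap A (Localization.AtPrime q.asIdeal) a +
          algebraMap A (Localization.AtPrime q.asIdeal) (b - a) =
          algebraMap A (Localization.AtPrime q.asIdeal) b := by
        rw [← map_add]; congr 1; ring
      rw [steinberg_theta (S.π_mem q) hu (F q) (G q) (H q) hrel]

end Groth.Agent.S1848
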