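import Groth.Statements.S1851
import Groth.Agent.H63.KeyW

set_option autoImplicit false
universe u
open CycAlg

namespace Groth.Agent.S1851

/-- The key lemma for nonzerodivisors; a low-degree case of the Gersten complex for Milnor K-theory: let
A be a Noetherian local ring of dimension 2 and a, b nonzerodivisors. Then the sum over the
height-one primes 𝔮 of A of ord_{A/𝔮}(∂_{A_𝔮}(a, b)) is zero, where ∂_{A_𝔮} is the tame symbol of
the one-dimensional local ring A_𝔮 with values in κ(𝔮) = Frac(A/𝔮) (only finitely many terms are
nonzero). -/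
theorem result (A : Type u) [CommRing A] [IsNoetherianRing A] [IsLocalRing A] (hA : ringKrullDim A = 2) (a b : A) (ha : a ∈ nonZeroDivisors A) (hb : b ∈ nonZeroDivisors A) : ∑ᶠ (q : PrimeSpectrum A) (_ : q.asIdeal.height = 1), CycAlg.ordFrac (A ⧸ q.asIdeal) q.asIdeal.ResidueField (CycAlg.tameSymbol (Localization.AtPrime q.asIdeal) (algebraMap A (Localization.AtPrime q.asIdeal) a) (algebraMap A (Localization.AtPrime q.asIdeal) b)) = 0 := by
  classical
  by_cases hu : IsUnit (a * b)
  · have hau : IsUnit a := isUnit_of_mul_isUnit_left hu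
    have hbu : IsUnit b := isUnit_of_mul_isUnit_right hu
    refine finsum_eq_zero_of_forall_eq_zero fun q => ?_
    have : IsNoetherianRing (Localization.AtPrime q.asIdeal) :=
      IsLocalization.isNoetherianRing q.asIdeal.primeCompl _ inferInstance
    rw [finsum_eq_if, Groth.Agent.H63.Tame.tameSymbol_of_isUnit (hau.map _) (hbu.map _),
      Groth.Agent.H54.SecOrdGen.ordFrac_one, ite_self]
  · have := Groth.Agent.H63.KeyF.finite_idx hA (mul_mem ha hb)
    have := Fintype.ofFinite (Groth.Agent.H63.KeyF.Idx A (a * b))
    have key := Groth.Agent.H63.KeyF.sum_ordFrac_eq_zero hA a b ha hb hu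
    rw [← key, ← finsum_eq_sum_of_fintype,
      finsum_subtype_eq_finsum_cond (f := fun q : PrimeSpectrum A =>
        CycAlg.ordFrac (A ⧸ q.asIdeal) q.asIdeal.ResidueField
          (CycAlg.tameSymbol (Localization.AtPrime q.asIdeal)
            (algebraMap A (Localization.AtPrime q.asIdeal) a)
            (algebraMap A (Localization.AtPrime q.asIdeal) b)))
        (fun q => q.asIdeal.height = 1 ∧ a * b ∈ q.asIdeal)]
    refine finsum_congr fun q => ?_
    rw [finsum_eq_if, finsum_eq_if]
    by_cases hq : q.asIdeal.height = 1
    · by_cases hm : a * b ∈ q.asIdeal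
      · rw [if_pos hq, if_pos ⟨hq, hm⟩]
      · rw [if_pos hq, if_neg (fun h => hm h.2)]
        have : IsNoetherianRing (Localization.AtPrime q.asIdeal) :=
          IsLocalization.isNoetherianRing q.asIdeal.primeCompl _ inferInstance
        have hau : IsUnit (algebraMap A (Localization.AtPrime q.asIdeal) a) :=
          (IsLocalization.AtPrime.isUnit_to_map_iff _ q.asIdeal a).2
            (fun h => hm (q.asIdeal.mul_mem_right _ h))
        have hbu : IsUnit (algebraMap A (Localization.AtPrime q.asIdeal) b) :=
          (IsLocalization.AtPrime.isUnit_to_map_iff _ q.asIdeal b).2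
            (fun h => hm (q.asIdeal.mul_mem_left _ h))
        rw [Groth.Agent.H63.Tame.tameSymbol_of_isUnit hau hbu]
        exact Groth.Agent.H54.SecOrdGen.ordFrac_one _ _
    · rw [if_neg hq, if_neg (fun h => hq h.1)]

end Groth.Agent.S1851
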