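import Groth.Statements.S6895
import Groth.Agent.Lead.FittingLoc

set_option autoImplicit false
universe u
open Fitt

namespace Groth.Agent.S6895

/-- (1) ⇔ (3): let `M` be a finite `R`-module and `r ≥ 0`. Then `M` is finite locally free of rank `r`
(every prime has a basic open neighbourhood `D(f)` with `M_f` free of rank `r` over `R_f`) if and
only if `Fit_k(M) = 0` for `k < r` and `Fit_k(M) = R` for `k ≥ r`. -/
theorem result {R : Type u} [CommRing R] (M : Type u) [AddCommGroup M] [Module R M]
    [Module.Finite R M] (r : ℕ) :
    (∀ (p : Ideal R) [p.IsPrime], ∃ f : R, f ∉ p ∧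
      Module.Free (Localization.Away f) (LocalizedModule (Submonoid.powers f) M) ∧
        Module.finrank (Localization.Away f) (LocalizedModule (Submonoid.powers f) M) = r) ↔
    ((∀ k, k < r → Fitt.ideal R M k = ⊥) ∧ (∀ k, r ≤ k → Fitt.ideal R M k = ⊤)) := by
  constructor
  · intro h
    -- a spanning `r`-tuple and vanishing of `Fit_k`, `k < r`, on each chart
    refine ⟨fun k hk => ?_, fun k hk => ?_⟩
    · rw [eq_bot_iff]
      intro d hd
      rw [Submodule.mem_bot]
      apply Groth.Agent.Lead.eq_zero_of_forall_prime_exists_pow_mul_eq_zero
      intro p _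
      obtain ⟨f, hf, hfree, hrank⟩ := h p
      refine ⟨f, hf, ?_⟩
      have hzero : algebraMap R (Localization.Away f) d = 0 := by
        by_cases hnt : Nontrivial (Localization.Away f)
        · have : Module.Finite (Localization.Away f) (LocalizedModule (Submonoid.powers f) M) :=
            Module.Finite.of_isLocalizedModule (Submonoid.powers f)
              (LocalizedModule.mkLinearMap (Submonoid.powers f) M)
          let b := Module.finBasisOfFinrankEq (Localization.Away f)
            (LocalizedModule (Submonoid.powers f) M) hrank
          have h1 := Groth.Agent.Lead.fitt_ideal_eq_bot_of_basis b hk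
          rw [Groth.Agent.Lead.fitt_ideal_localization (Submonoid.powers f) (Localization.Away f)
            (LocalizedModule.mkLinearMap (Submonoid.powers f) M) k] at h1
          have h2 : algebraMap R (Localization.Away f) d ∈
              (Fitt.ideal R M k).map (algebraMap R (Localization.Away f)) :=
            Ideal.mem_map_of_mem _ hd
          rw [h1] at h2
          exact (Submodule.mem_bot _).mp h2
        · rw [not_nontrivial_iff_subsingleton] at hnt
          exact Subsingleton.elim _ _
      obtain ⟨⟨_, m, rfl⟩, hm⟩ :=
        (IsLocalization.map_eq_zero_iff (Submonoid.powers f) (Localization.Away f) d).mp hzero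
      exact ⟨m, hm⟩
    · by_contra hne
      obtain ⟨p, hpmax, hle⟩ := Ideal.exists_le_maximal _ hne
      have := hpmax.isPrime
      obtain ⟨f, hf, hfree, hrank⟩ := h p
      have hg : ∃ g : Fin r → LocalizedModule (Submonoid.powers f) M,
          Submodule.span (Localization.Away f) (Set.range g) = ⊤ := by
        by_cases hnt : Nontrivial (Localization.Away f)
        · have : Module.Finite (Localization.Away f) (LocalizedModule (Submonoid.powers f) M) :=
            Module.Finite.of_isLocalizedModule (Submonoid.powers f)
              (LocalizedModule.mkLinearMap (Submonoid.powers f) M)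
          let b := Module.finBasisOfFinrankEq (Localization.Away f)
            (LocalizedModule (Submonoid.powers f) M) hrank
          exact ⟨fun i => b i, b.span_eq⟩
        · rw [not_nontrivial_iff_subsingleton] at hnt
          have : Subsingleton (LocalizedModule (Submonoid.powers f) M) :=
            Module.subsingleton (Localization.Away f) _
          exact ⟨fun _ => 0, Subsingleton.elim _ _⟩
      obtain ⟨g, hg⟩ := hg
      obtain ⟨d, hdF, ⟨m, rfl⟩⟩ := Groth.Agent.Lead.exists_mem_fitt_ideal_of_span_localization
        (Submonoid.powers f) (Localization.Away f)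
        (LocalizedModule.mkLinearMap (Submonoid.powers f) M) g hg
      exact hf (Ideal.IsPrime.mem_of_pow_mem inferInstance m
        (hle (Groth.Agent.Lead.fitt_ideal_antitone hk hdF)))
  · rintro ⟨h0, h1⟩ p _
    have hnle : ¬ Fitt.ideal R M r ≤ p := by
      rw [h1 r le_rfl]
      intro htop
      exact (Ideal.IsPrime.ne_top inferInstance) (top_le_iff.mp htop)
    obtain ⟨n, x, hx⟩ := Module.Finite.exists_fin (R := R) (M := M)
    obtain ⟨z, e, hz, he, hd⟩ :=
      Groth.Agent.Lead.exists_minor_notMem_of_not_fitt_ideal_le M x hx r p hnle
    set f := (Matrix.of fun a b => z b (e a)).det with hfdef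
    obtain ⟨g, hg⟩ := Groth.Agent.Lead.exists_span_localization_of_minor (k := r)
      (Submonoid.powers f) (Localization.Away f)
      (LocalizedModule.mkLinearMap (Submonoid.powers f) M) (by omega) x hx z hz e he
      (Submonoid.mem_powers _)
    refine ⟨f, hd, ?_⟩
    have hnt : Nontrivial (Localization.Away f) := by
      rw [← not_subsingleton_iff_nontrivial, IsLocalization.subsingleton_iff (M := Submonoid.powers f)]
      rintro ⟨m, hm⟩
      apply hd
      apply Ideal.IsPrime.mem_of_pow_mem inferInstance m
      have hm' : f ^ m = 0 := hm
      rw [hm']; exact Submodule.zero_mem _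
    have hfit : r = 0 ∨ Fitt.ideal (Localization.Away f)
        (LocalizedModule (Submonoid.powers f) M) (r - 1) = ⊥ := by
      rcases Nat.eq_zero_or_pos r with hr | hr
      · exact Or.inl hr
      · right
        rw [Groth.Agent.Lead.fitt_ideal_localization (Submonoid.powers f) (Localization.Away f)
          (LocalizedModule.mkLinearMap (Submonoid.powers f) M) (r - 1), h0 (r - 1) (by omega),
          Ideal.map_bot]
    have hli := Groth.Agent.Lead.linearIndependent_of_fitt_ideal_eq_bot g hg hfit
    let b : Module.Basis (Fin r) (Localization.Away f) (LocalizedModule (Submonoid.powers f) M) :=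
      Module.Basis.mk hli (by rw [hg])
    refine ⟨Module.Free.of_basis b, ?_⟩
    rw [Module.finrank_eq_card_basis b, Fintype.card_fin]

end Groth.Agent.S6895
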