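import Groth.Statements.S9827
import Groth.Agent.H44.FPSections

set_option autoImplicit false
universe u
open CategoryTheory CategoryTheory.Limits AlgebraicGeometry TopologicalSpace Opposite
open Props

namespace Groth.Agent.S9827

/-- The sheaf associated to a module over a ring is of finite presentation on the spectrum if and only
if the module is finitely presented. -/
theorem result (R : CommRingCat.{u}) (M : ModuleCat.{u} R) :
    CohB1.IsFP (tilde M) ↔ Module.FinitePresentation R M := by
  constructor
  · intro h
    haveI : SheafOfModules.IsFinitePresentation (R := (Spec R).ringCatSheaf) (tilde M) := h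
    haveI h1 : Module.FinitePresentation Γ(Spec R, ⊤) Γ(tilde M, ⊤) :=
      Groth.Agent.H44.finitePresentation_sections_of_isFinitePresentation (tilde M)
        (isAffineOpen_top (Spec R))
    have hbij : Function.Bijective (algebraMap R Γ(Spec R, (⊤ : (Spec R).Opens))) :=
      ConcreteCategory.bijective_of_isIso (Scheme.ΓSpecIso R).inv
    haveI h2 : Module.FinitePresentation R Γ(Spec R, (⊤ : (Spec R).Opens)) :=
      Module.FinitePresentation.of_equiv
        (LinearEquiv.ofBijective (Algebra.linearMap R Γ(Spec R, (⊤ : (Spec R).Opens))) hbij)
    haveI h3 : Module.FinitePresentation R Γ(tilde M, ⊤) :=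
      Module.FinitePresentation.trans R Γ(tilde M, ⊤) Γ(Spec R, (⊤ : (Spec R).Opens))
    exact @Module.FinitePresentation.of_equiv R Γ(tilde M, ⊤) M _ _ _ _ _
      (tilde.isoTop M).toLinearEquiv.symm h3
  · intro h
    obtain ⟨s, hs, ht⟩ := h.out
    obtain ⟨t, ht'⟩ := ht
    let P := presentationTilde M (s : Set M) hs (t : Set ((s : Set M) →₀ R)) ht'
    haveI : P.IsFinite :=
      { isFiniteType_generators := ⟨inferInstanceAs (Finite (s : Set M))⟩
        isFiniteType_relations := ⟨inferInstanceAs (Finite (t : Set ((s : Set M) →₀ R)))⟩ }
    have hq : P.quasicoherentData.IsFinitePresentation :=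
      { isFinite_presentation := fun x =>
          { isFiniteType_generators := ⟨inferInstanceAs (Finite P.generators.I)⟩
            isFiniteType_relations := ⟨inferInstanceAs (Finite P.relations.I)⟩ } }
    exact SheafOfModules.IsFinitePresentation.mk (R := (Spec R).ringCatSheaf) (M := tilde M)
      ⟨P.quasicoherentData, hq⟩

end Groth.Agent.S9827
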