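import Groth.Statements.S0820
import Groth.Agent.Lead.Coh.Devissage
import Groth.Agent.H22.CompLift
import Groth.Agent.H71.QCoh.SupportProper
import Groth.Agent.H67.StalkLoc
import Groth.Agent.S0019

set_option autoImplicit false
universe u
open Coherent

namespace Groth.Agent.S0820

set_option linter.style.haveILetI false

open CategoryTheory AlgebraicGeometry TopologicalSpace Opposite Groth.Agent.H18

theorem isCoh_structureModule (X : Scheme.{u}) : Coh.IsCoh (Coh.structureModule X) :=
  ⟨Groth.Agent.H67.StalkLoc.isQuasicoherent_structureModule X,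
    Groth.Agent.H71.QCoh.isFiniteType_of_finite_sections_cover (Coh.structureModule X)
      (fun V : X.affineOpens => (V : X.Opens)) (iSup_affineOpens_eq_top X) (fun V => V.2)
      (fun V => Groth.Agent.H67.StalkLoc.finite_structureModule V.1)⟩

/-- the closure of the image of the generic point under a closed immersion is the range -/
theorem closure_singleton_gen {X Z : Scheme.{u}} (i : Z ⟶ X) [IsClosedImmersion i]
    [IsIntegral Z] : closure {i (genericPoint Z)} = Set.range i := by
  have h1 : closure (i '' {genericPoint Z}) = i '' closure {genericPoint Z} :=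
    i.isClosedEmbedding.closure_image_eq _
  rw [Set.image_singleton] at h1
  rw [h1, (genericPoint_spec Z).def, Set.image_univ]

/-- pushforward of the structure sheaf of a reduced scheme `W` along `g : W ⟶ X` with image in a
closed set `T`: support and annihilation -/
theorem main {X Y W : Scheme.{u}} (f : Y ⟶ X) (i' : W ⟶ Y) [IsReduced W]
    (T : Closeds X) (hT : Set.range (i' ≫ f) = (T : Set X)) :
    CohB1.support ((Scheme.Modules.pushforward f).obj
        ((Scheme.Modules.pushforward i').obj (Coh.structureModule W))) = (T : Set X) ∧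
      Groth.Agent.Lead.Devissage.Killed (Scheme.IdealSheafData.vanishingIdeal T) 1
        ((Scheme.Modules.pushforward f).obj
          ((Scheme.Modules.pushforward i').obj (Coh.structureModule W))) := by
  set M : X.Modules := (Scheme.Modules.pushforward f).obj
    ((Scheme.Modules.pushforward i').obj (Coh.structureModule W)) with hM
  refine ⟨?_, ?_⟩
  · apply Set.Subset.antisymm
    · intro x hx
      by_contra hxT
      apply hx
      let U : X.Opens := ⟨(T : Set X)ᶜ, T.isClosed.isOpen_compl⟩
      refine Groth.Agent.H71.QCoh.subsingleton_stalk_of_subsingleton_sections M U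
        (fun V hV => ?_) (show x ∈ U from hxT)
      have hbot : i' ⁻¹ᵁ (f ⁻¹ᵁ V) = ⊥ := by
        ext z
        simp only [Opens.coe_bot, Set.mem_empty_iff_false, iff_false]
        intro hz
        have h1 : (i' ≫ f) z ∈ (T : Set X) := by rw [← hT]; exact ⟨z, rfl⟩
        exact hV hz h1
      change Subsingleton Γ(Coh.structureModule W, i' ⁻¹ᵁ (f ⁻¹ᵁ V))
      rw [hbot]
      exact Groth.Agent.H71.QCoh.subsingleton_sections_of_stalks (Coh.structureModule W) ⊥
        (fun z hz => hz.elim)
    · intro x hxT hsub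
      rw [← hT] at hxT
      obtain ⟨z, rfl⟩ := hxT
      -- the section `1`
      let one : Γ(M, (⊤ : X.Opens)) := (1 : Γ(W, i' ⁻¹ᵁ (f ⁻¹ᵁ (⊤ : X.Opens))))
      have h0 : M.presheaf.germ ⊤ ((i' ≫ f) z) trivial one =
          M.presheaf.germ ⊤ ((i' ≫ f) z) trivial 0 := @Subsingleton.elim _ hsub _ _
      obtain ⟨V, hzV, iV, iV', hV⟩ := TopCat.Presheaf.germ_eq M.presheaf ((i' ≫ f) z)
        (show (i' ≫ f) z ∈ (⊤ : X.Opens) from trivial) (show (i' ≫ f) z ∈ (⊤ : X.Opens) from trivial)
        one 0 h0
      have h1 : mres M (leOfHom iV) one = 0 := by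
        have h2 : M.presheaf.map iV.op one = M.presheaf.map iV'.op 0 := hV
        rw [map_zero] at h2
        exact h2
      have h3 : (1 : Γ(W, i' ⁻¹ᵁ (f ⁻¹ᵁ V))) = 0 := by
        have h4 : mres M (leOfHom iV) one = (1 : Γ(W, i' ⁻¹ᵁ (f ⁻¹ᵁ V))) :=
          map_one (W.presheaf.map (homOfLE (show i' ⁻¹ᵁ (f ⁻¹ᵁ V) ≤ i' ⁻¹ᵁ (f ⁻¹ᵁ ⊤) from
            fun _ _ => trivial)).op).hom
        rw [← h4]
        exact h1
      haveI : Nonempty (i' ⁻¹ᵁ (f ⁻¹ᵁ V) : W.Opens) := ⟨⟨z, hzV⟩⟩
      haveI : Nontrivial Γ(W, i' ⁻¹ᵁ (f ⁻¹ᵁ V)) := W.component_nontrivial _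
      exact one_ne_zero h3
  · intro V a ha s
    rw [pow_one] at ha
    -- `a • s = (pullback of a) * s` and the pullback of `a` vanishes
    set b : Γ(W, i' ⁻¹ᵁ (f ⁻¹ᵁ V.1)) := (i'.app (f ⁻¹ᵁ V.1)).hom ((f.app V.1).hom a) with hb
    have hb0 : b = 0 := by
      apply AlgebraicGeometry.eq_zero_of_basicOpen_eq_bot
      rw [hb, ← Scheme.preimage_basicOpen, ← Scheme.preimage_basicOpen]
      ext z
      simp only [Opens.coe_bot, Set.mem_empty_iff_false, iff_false]
      intro hz
      have h1 : (i' ≫ f) z ∈ (T : Set X) := by rw [← hT]; exact ⟨z, rfl⟩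
      have h2 : (i' ≫ f) z ∈ (Scheme.IdealSheafData.vanishingIdeal T).supportSet := by
        change (i' ≫ f) z ∈ ((Scheme.IdealSheafData.vanishingIdeal T).support : Set X)
        rw [Scheme.IdealSheafData.coe_support_vanishingIdeal]
        exact h1
      have h3 := (Scheme.IdealSheafData.vanishingIdeal T).supportSet_subset_zeroLocus V h2
      rw [Scheme.mem_zeroLocus_iff] at h3
      exact h3 a ha hz
    let s' : Γ(W, i' ⁻¹ᵁ (f ⁻¹ᵁ V.1)) := s
    have hsm : a • s = (show Γ(M, V.1) from (b * s' : Γ(W, i' ⁻¹ᵁ (f ⁻¹ᵁ V.1)))) := rfl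
    rw [hsm, hb0, zero_mul]
    rfl

open CategoryTheory AlgebraicGeometry in
/-- Let f : Y → X be finite and surjective with X locally Noetherian, and let i : Z → X be a closed
immersion from an integral scheme, ξ the image of the generic point of Z. Then some coherent
O_Y-module F has f_* F supported exactly on i(Z), with the stalk of f_* F at ξ killed by every
element of 𝔪_{X,ξ}, the maximal ideal of O_{X,ξ}. -/
theorem result {Y X : Scheme.{u}} (f : Y ⟶ X) [IsFinite f]
    [Surjective f] [IsLocallyNoetherian X] (Z : Scheme.{u}) (i : Z ⟶ X) [IsClosedImmersion i] [IsIntegral Z] :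
    ∃ F : Y.Modules, Coh.IsCoh F ∧ CohB1.support ((Coh.push f).obj F) = Set.range ⇑i ∧
      ∀ a ∈ IsLocalRing.maximalIdeal (X.presheaf.stalk (i (genericPoint Z))),
        ∀ m : ↑(((Coh.push f).obj F).presheaf.stalk (i (genericPoint Z))), a • m = 0 := by
  classical
  obtain ⟨y, hy⟩ := (inferInstance : Surjective f).surj (i (genericPoint Z))
  let T' : Closeds Y := ⟨closure {y}, isClosed_closure⟩
  have hT' : IsIrreducible (T' : Set Y) := isIrreducible_singleton.closure
  haveI hint : IsIntegral (Scheme.IdealSheafData.vanishingIdeal T').subscheme :=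
    Groth.Agent.H22.CompLift.isIntegral_subscheme_vanishingIdeal T' hT'
  let W := (Scheme.IdealSheafData.vanishingIdeal T').subscheme
  let i' : W ⟶ Y := (Scheme.IdealSheafData.vanishingIdeal T').subschemeι
  haveI : IsLocallyNoetherian Y := LocallyOfFiniteType.isLocallyNoetherian f
  let F : Y.Modules := (Scheme.Modules.pushforward i').obj (Coh.structureModule W)
  have hF : Coh.IsCoh F := Groth.Agent.S0019.result i' _ (isCoh_structureModule W)
  let T : Closeds X := ⟨Set.range i, i.isClosedEmbedding.isClosed_range⟩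
  have hclξ : closure {i (genericPoint Z)} = (T : Set X) := closure_singleton_gen i
  have hrange : Set.range (i' ≫ f) = (T : Set X) := by
    have h1 : Set.range (i' ≫ f) = f '' (Set.range i') := by
      rw [← Set.range_comp]
      rfl
    rw [h1, Groth.Agent.H22.CompLift.range_subschemeι_vanishingIdeal T']
    change f '' closure {y} = _
    have hcl : IsClosedMap f := f.isClosedMap
    rw [← hcl.closure_image_eq_of_continuous f.continuous, Set.image_singleton, hy]
    exact hclξ
  obtain ⟨h1, h2⟩ := main f i' T hrange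
  refine ⟨F, hF, h1, ?_⟩
  haveI : F.IsQuasicoherent := hF.1
  haveI : ((Scheme.Modules.pushforward f).obj F).IsQuasicoherent :=
    Groth.Agent.H8.isQuasicoherent_pushforward_of_isAffineHom f F
  exact Groth.Agent.Lead.Devissage.smul_stalk_eq_zero_of_killed T (i (genericPoint Z)) hclξ _ h2

end Groth.Agent.S0820
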