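import Groth.Statements.S0988
import Groth.Agent.S9515
import Groth.Agent.H67.StalkLoc
import Groth.Agent.H12.QCohIso

set_option autoImplicit false
set_option linter.style.haveILetI false
universe u
open CategoryTheory AlgebraicGeometry Opposite
open Perf

namespace Groth.Agent.S0988

open CategoryTheory.Limits TopologicalSpace Groth.Agent.H18

/-- an ideal sheaf is the unit ideal over affine opens disjoint from its support -/
theorem ideal_eq_top_of_disjoint {X : Scheme.{u}} (I : X.IdealSheafData) (V : X.affineOpens)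
    (h : (I.support : Set X) ∩ (V.1 : Set X) = ∅) : I.ideal V = ⊤ := by
  rw [Scheme.IdealSheafData.coe_support_inter] at h
  have h2 := (V.2.fromSpec_image_zeroLocus (I.ideal V)).trans h
  exact (PrimeSpectrum.zeroLocus_empty_iff_eq_top).1 (Set.image_eq_empty.1 h2)

/-- the key extension statement: sections over an open of a quasi-coherent module which is injective
with respect to monomorphisms of quasi-coherent modules extend to global sections (via Deligne's
formula) -/
theorem exists_extension (X : Scheme.{u}) [IsNoetherian X] (M : X.Modules) (hM : Coh.IsQCoh M)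
    (hinj : ∀ (A B : X.Modules), Coh.IsQCoh A → Coh.IsQCoh B → ∀ (m : A ⟶ B) [Mono m] (g : A ⟶ M),
      ∃ g' : B ⟶ M, m ≫ g' = g)
    (U : X.Opens) (s : Γ(M, U)) :
    ∃ t : Γ(M, (⊤ : X.Opens)), mres M (le_top : U ≤ ⊤) t = s := by
  classical
  haveI : M.IsQuasicoherent := hM
  let I : X.IdealSheafData :=
    Scheme.IdealSheafData.vanishingIdeal ⟨(U : Set X)ᶜ, U.isOpen.isClosed_compl⟩
  have hIs : (I.support : Set X) = (U : Set X)ᶜ :=
    Scheme.IdealSheafData.coe_support_vanishingIdeal _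
  have hU : (U : Set X) = (I.support : Set X)ᶜ := by
    rw [hIs]
    exact (compl_compl _).symm
  let O : X.Modules := Coh.structureModule X
  have hO : Coh.IsCoh O :=
    ⟨Groth.Agent.H67.StalkLoc.isQuasicoherent_structureModule X,
      Groth.Agent.H71.QCoh.isFiniteType_of_finite_sections_cover (Coh.structureModule X)
        (fun V : X.affineOpens => (V : X.Opens)) (iSup_affineOpens_eq_top X) (fun V => V.2)
        (fun V => Groth.Agent.H67.StalkLoc.finite_structureModule V.1)⟩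
  haveI : O.IsQuasicoherent := hO.1
  let N : (U : Scheme.{u}).Modules := (Scheme.Modules.restrictFunctor U.ι).obj M
  have hle : ∀ V : (U : Scheme.{u}).Opens, U.ι ''ᵁ V ≤ U := fun V => by
    intro x hx
    obtain ⟨y, -, rfl⟩ := hx
    exact y.2
  -- the section of `M|_U` defined by `s`
  let σ' : N.sections := PresheafOfModules.sectionsMk
    (fun V => (mres M (hle V.unop) s : Γ(M, U.ι ''ᵁ V.unop))) (by
      intro V V' g
      have hVV' : U.ι ''ᵁ V'.unop ≤ U.ι ''ᵁ V.unop := U.ι.image_mono (leOfHom g.unop)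
      have h1 : ∀ y : Γ(M, U.ι ''ᵁ V.unop), N.val.map g y = mres M hVV' y := fun _ => rfl
      rw [h1]
      exact mres_mres M _ _ s)
  let φ0 : (SheafOfModules.unit (U : Scheme.{u}).ringCatSheaf : (U : Scheme.{u}).Modules) ⟶ N :=
    (SheafOfModules.unitHomEquiv (R := (U : Scheme.{u}).ringCatSheaf) N).symm σ'
  have hφ0 : ∀ V : (U : Scheme.{u}).Opens,
      φ0.val.app (op V) (1 : Γ((U : Scheme.{u}), V)) = mres M (hle V) s := by
    intro V
    have := SheafOfModules.unitHomEquiv_apply_coe (R := (U : Scheme.{u}).ringCatSheaf) N φ0 (op V)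
    rw [Equiv.apply_symm_apply] at this
    exact this.symm
  let φ : (Scheme.Modules.restrictFunctor U.ι).obj O ⟶ (Scheme.Modules.restrictFunctor U.ι).obj M :=
    (Scheme.Modules.restrictUnitIso U.ι).hom ≫ φ0
  have hφ : ∀ V : (U : Scheme.{u}).Opens,
      φ.app V (1 : Γ(X, U.ι ''ᵁ V)) = mres M (hle V) s := by
    intro V
    have h1 : (Scheme.Modules.restrictUnitIso U.ι).hom.val.app (op V) (1 : Γ(X, U.ι ''ᵁ V)) =
        (1 : Γ((U : Scheme.{u}), V)) := map_one (U.ι.appIso V).hom.hom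
    change φ0.val.app (op V)
      ((Scheme.Modules.restrictUnitIso U.ι).hom.val.app (op V) (1 : Γ(X, U.ι ''ᵁ V))) = _
    rw [h1, hφ0]
  obtain ⟨n, ψ, hψ⟩ := Groth.Agent.S9515.result X M O hM hO I U hU φ
  have hq : Coh.IsQCoh ((Dual3.idealMul (I ^ n)).obj O) :=
    Groth.Agent.Lead.SubRange.isQuasicoherent_idealMul (I ^ n) O
  obtain ⟨ψ', hψ'⟩ := hinj _ O hq hO.1 (Dual3.idealMulι (I ^ n) O) ψ
  refine ⟨ψ'.app ⊤ (1 : Γ(X, (⊤ : X.Opens))), ?_⟩
  refine Groth.Agent.H12.QCohIso.modules_eq_of_locally_eq M _ _ (fun x hx => ?_)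
  obtain ⟨_, ⟨W, hWaff, rfl⟩, hxW, hWU⟩ :=
    X.isBasis_affineOpens.exists_subset_of_mem_open (show x ∈ (U : Set X) from hx) U.isOpen
  let W' : (U : Scheme.{u}).Opens := U.ι ⁻¹ᵁ W
  have hWW' : U.ι ''ᵁ W' = W := by
    rw [Scheme.Hom.image_preimage_eq_opensRange_inf, Scheme.Opens.opensRange_ι]
    exact inf_eq_right.mpr hWU
  have hV0 : IsAffineOpen (U.ι ''ᵁ W') := hWW' ▸ hWaff
  refine ⟨U.ι ''ᵁ W', hle W', hWW' ▸ hxW, ?_⟩
  rw [mres_mres]
  -- the left-hand side
  have h1 : mres M (le_top : U.ι ''ᵁ W' ≤ ⊤) (ψ'.app ⊤ (1 : Γ(X, (⊤ : X.Opens)))) =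
      ψ'.app (U.ι ''ᵁ W') (mres O (le_top : U.ι ''ᵁ W' ≤ ⊤) (1 : Γ(X, (⊤ : X.Opens)))) :=
    Groth.Agent.H12.QCohExt.app_mres ψ' _ _
  have h2 : mres O (le_top : U.ι ''ᵁ W' ≤ ⊤) (1 : Γ(X, (⊤ : X.Opens))) =
      (1 : Γ(X, U.ι ''ᵁ W')) := map_one (X.presheaf.map (homOfLE le_top).op).hom
  have htop : (I ^ n).ideal ⟨U.ι ''ᵁ W', hV0⟩ = ⊤ := by
    rw [Scheme.IdealSheafData.ideal_pow, Pi.pow_apply]
    rw [ideal_eq_top_of_disjoint I ⟨U.ι ''ᵁ W', hV0⟩ ?_, Ideal.top_pow]
    rw [hIs]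
    ext z
    simp only [Set.mem_inter_iff, Set.mem_compl_iff, SetLike.mem_coe, Set.mem_empty_iff_false,
      iff_false, not_and]
    intro hz hz'
    exact hz (hle W' hz')
  have h3 : (1 : Γ(X, U.ι ''ᵁ W')) ∈
      Groth.Agent.Lead.SubRange.rng (Dual3.idealMulι (I ^ n) O) (U.ι ''ᵁ W') := by
    rw [Groth.Agent.Lead.SubRange.rng_idealMulι (I ^ n) hV0, htop, Submodule.top_smul]
    trivial
  obtain ⟨y, hy⟩ := (Groth.Agent.Lead.SubRange.mem_rng _ _ _).1 h3
  rw [h1, h2, ← hy]
  have h4 : ψ'.app (U.ι ''ᵁ W') ((Dual3.idealMulι (I ^ n) O).app (U.ι ''ᵁ W') y) =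
      ψ.app (U.ι ''ᵁ W') y := by
    rw [← hψ']
    rfl
  rw [h4]
  have h5 := congrArg (fun k => (Scheme.Modules.Hom.app k W') y) hψ
  have h6 : ψ.app (U.ι ''ᵁ W') y =
      φ.app W' ((Dual3.idealMulι (I ^ n) O).app (U.ι ''ᵁ W') y) := h5
  rw [h6, hy, hφ]

/-- Let X be a Noetherian scheme and J an injective object of the category QCoh(O_X) of quasi-coherent
O_X-modules (the full subcategory of all O_X-modules). Then J is flasque: for opens U ⊆ V of X the
restriction map J(V) → J(U) is surjective. -/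
theorem result (X : Scheme.{u}) [IsNoetherian X]
    (J : ObjectProperty.FullSubcategory (fun M : X.Modules => Coh.IsQCoh M)) (hJ : Injective J)
    (U V : X.Opens) (hUV : U ≤ V) :
    Function.Surjective (J.obj.val.map (homOfLE hUV).op).hom := by
  intro s
  have hinj : ∀ (A B : X.Modules), Coh.IsQCoh A → Coh.IsQCoh B → ∀ (m : A ⟶ B) [Mono m]
      (g : A ⟶ J.obj), ∃ g' : B ⟶ J.obj, m ≫ g' = g := by
    intro A B hA hB m _ g
    let P : ObjectProperty X.Modules := fun M : X.Modules => Coh.IsQCoh M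
    let A' : P.FullSubcategory := ⟨A, hA⟩
    let B' : P.FullSubcategory := ⟨B, hB⟩
    let m' : A' ⟶ B' := ObjectProperty.homMk m
    let g0 : A' ⟶ J := ObjectProperty.homMk g
    haveI : Mono (P.ι.map m') := ‹Mono m›
    haveI : Mono m' := Functor.mono_of_mono_map P.ι inferInstance
    haveI : Injective (J : P.FullSubcategory) := hJ
    refine ⟨(Injective.factorThru g0 m').hom, ?_⟩
    have h := Injective.comp_factorThru g0 m'
    have h2 := congrArg (fun k => k.hom) h
    exact h2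
  obtain ⟨t, ht⟩ := exists_extension X J.obj J.property hinj U s
  refine ⟨mres J.obj (le_top : V ≤ ⊤) t, ?_⟩
  have h1 : ∀ y : Γ(J.obj, V), (J.obj.val.map (homOfLE hUV).op).hom y = mres J.obj hUV y :=
    fun _ => rfl
  rw [h1, mres_mres]
  exact ht

end Groth.Agent.S0988
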