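import Groth.Statements.S9522
import Groth.Agent.H67.DevExt

set_option autoImplicit false
universe u
open CategoryTheory CategoryTheory.Limits AlgebraicGeometry
attribute [local instance] HasDerivedCategory.standard
open Coherent

namespace Groth.Agent.S9522

/-- Let X be a Noetherian scheme, Z₀ ⊆ X an irreducible closed subset with generic point ξ, and P an
isomorphism-invariant property of O_X-modules that holds for every zero module and such that (1) for
every short exact sequence 0 → F₁ → F → F₂ → 0 of coherent modules, P(F₁) and P(F₂) imply P(F); (2)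
for coherent F, P(F^⊕r) for some r ≥ 1 implies P(F); (3) P holds for i_*I for every closed immersion
i : Z → X with Z integral, i(Z) a proper subset of Z₀, and every quasi-coherent ideal sheaf I ⊆ O_Z;
(4) there is a coherent module G with support equal to Z₀, whose stalk at ξ is annihilated by the
maximal ideal of O_{X,ξ}, and such that for every quasi-coherent sheaf of ideals J on X with ξ ∉
V(J) there is a quasi-coherent submodule G' ⊆ J·G whose inclusion into G induces an isomorphism on
stalks at ξ and for which P holds. Then P holds for every coherent O_X-module whose support is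
contained in Z₀. (The published statement does not ask that P hold for the zero module, although its
proof uses this for a filtration with no steps; without it the conclusion fails for the zero module
when Z₀ is a closed point: on the spectrum of a field, with P(F) meaning that F is nonzero, every
other hypothesis holds. This row assumes that P holds for every zero module.) -/
theorem result (X : Scheme.{u}) [IsNoetherian X]
    (Z₀ : Set X) (hZ₀ : IsClosed Z₀) (hirr : IsIrreducible Z₀) (ξ : X) (hξ : ξ ∈ Z₀ ∧ closure {ξ} = Z₀)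
    (P : X.Modules → Prop) (hP : ∀ M N : X.Modules, Nonempty (M ≅ N) → P M → P N)
    (h₀ : ∀ M : X.Modules, IsZero M → P M)
    (h₁ : ∀ S : ShortComplex X.Modules, S.ShortExact → Coh.IsCoh S.X₁ → Coh.IsCoh S.X₂ → Coh.IsCoh S.X₃ →
      P S.X₁ → P S.X₃ → P S.X₂)
    (h₂ : ∀ (F : X.Modules) (r : ℕ), Coh.IsCoh F → 1 ≤ r → P (∐ fun _ : Fin r => F) → P F)
    (h₃ : ∀ (Z : Scheme.{u}) (i : Z ⟶ X), IsClosedImmersion i → IsIntegral Z →
      Set.range ⇑i ⊆ Z₀ → Set.range ⇑i ≠ Z₀ →
      ∀ (I : Z.Modules) (ι : I ⟶ Coh.structureModule Z), Mono ι → Coh.IsQCoh I → P ((Coh.push i).obj I))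
    (h₄ : ∃ G : X.Modules, Coh.IsCoh G ∧ CohB1.support G = Z₀ ∧
      (∀ a ∈ IsLocalRing.maximalIdeal (X.presheaf.stalk ξ), ∀ m : ↑(G.presheaf.stalk ξ), a • m = 0) ∧
      ∀ J : X.IdealSheafData, ξ ∉ (J.support : Set X) →
        ∃ (G' : X.Modules) (ι' : G' ⟶ (Dual3.idealMul J).obj G), Mono ι' ∧ Coh.IsQCoh G' ∧
          IsIso ((TopCat.Presheaf.stalkFunctor _ ξ).map (ι' ≫ Dual3.idealMulι J G).mapPresheaf) ∧ P G')
    (F : X.Modules) (hF : Coh.IsCoh F) (hsupp : CohB1.support F ⊆ Z₀) : P F := by
  classical
  obtain ⟨G, hG, hGs, hann, hG'⟩ := h₄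
  -- coherent modules supported in `Z₀` away from `ξ`
  have hA : ∀ Q : X.Modules, Coh.IsCoh Q → CohB1.support Q ⊆ Z₀ → ξ ∉ CohB1.support Q → P Q := by
    intro Q hQ hQs hQξ
    refine Groth.Agent.H67.Dev.filt_ind P hP h₀ (CohB1.support Q) ?_ ?_ Q
      (Groth.Agent.H67.Dev.hasIdealFiltration Q hQ) subset_rfl
    · intro S hS c1 c2 c3 _ p1 p3
      exact h₁ S hS c1 c2 c3 p1 p3
    · intro Z i _ _ I ι hι hIq hIz hmem
      refine h₃ Z i inferInstance inferInstance
        (Groth.Agent.H67.Dev.range_subset_of_gen_mem i hZ₀ (hQs hmem)) ?_ I ι hι hIq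
      intro heq
      have : ξ = i (genericPoint Z) :=
        Groth.Agent.H67.Dev.eq_gen_of_closure_eq i (hξ.2.trans heq.symm)
      rw [this] at hQξ
      exact hQξ hmem
  refine Groth.Agent.H67.Dev.filt_ind P hP h₀ Z₀ ?_ ?_ F
    (Groth.Agent.H67.Dev.hasIdealFiltration F hF) hsupp
  · intro S hS c1 c2 c3 _ p1 p3
    exact h₁ S hS c1 c2 c3 p1 p3
  · intro Z i _ _ I ι hι hIq hIz hmem
    haveI := hι
    by_cases hrange : Set.range i = Z₀
    · have hξeq : ξ = i (genericPoint Z) :=
        Groth.Agent.H67.Dev.eq_gen_of_closure_eq i (hξ.2.trans hrange.symm)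
      refine Groth.Agent.H67.Dev.P_push_of_ext Z₀ ξ P hP hA
        (fun S hS c1 c2 c3 _ p1 p3 => h₁ S hS c1 c2 c3 p1 p3) h₂ Z i hξeq hrange G hG hGs.le
        (by rw [hGs]; exact hξ.1) hann ?_ I ι hIq hIz
      intro J hJ
      obtain ⟨G', ι', hm, hq, hiso, hPG'⟩ := hG' J hJ
      refine ⟨G', ι', hm, hq, ?_, hPG'⟩
      haveI := hiso
      have h2 : Function.Bijective ((TopCat.Presheaf.stalkFunctor Ab ξ).map
          (ι' ≫ Dual3.idealMulι J G).mapPresheaf) :=
        ConcreteCategory.bijective_of_isIso _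
      exact h2
    · exact h₃ Z i inferInstance inferInstance
        (Groth.Agent.H67.Dev.range_subset_of_gen_mem i hZ₀ hmem) hrange I ι hι hIq

end Groth.Agent.S9522
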