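import Groth.Statements.S9523
import Groth.Agent.Lead.Coh.IdealMul
import Groth.Agent.H44.ComapAffine
import Groth.Agent.H8.PushQCoh

set_option autoImplicit false
universe u
open CategoryTheory CategoryTheory.Limits AlgebraicGeometry
attribute [local instance] HasDerivedCategory.standard
open Coherent

namespace Groth.Agent.S9523

/-- Let f : Y → X be an affine morphism of schemes, F a quasi-coherent O_Y-module and I a quasi-coherent
sheaf of ideals on X. Then I·f_*F = f_*((f⁻¹I O_Y)·F) as submodules of f_*F: there is an isomorphism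
I·f_*F ≅ f_*((f⁻¹I O_Y)·F) whose composite with f_* of the inclusion (f⁻¹I O_Y)·F → F is the
inclusion I·f_*F → f_*F. (J·M denotes the submodule sheaf Dual3.idealMul J M; f⁻¹I O_Y is the
pulled-back ideal sheaf I.comap f.) -/
theorem result {Y X : Scheme.{u}} (f : Y ⟶ X) [IsAffineHom f]
    (F : Y.Modules) (hF : Coh.IsQCoh F) (I : X.IdealSheafData) :
    ∃ e : (Dual3.idealMul I).obj ((Scheme.Modules.pushforward f).obj F) ≅
        (Scheme.Modules.pushforward f).obj ((Dual3.idealMul (I.comap f)).obj F),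
      e.hom ≫ (Scheme.Modules.pushforward f).map (Dual3.idealMulι (I.comap f) F) =
        Dual3.idealMulι I ((Scheme.Modules.pushforward f).obj F) := by
  haveI : F.IsQuasicoherent := hF
  haveI hP : ((Scheme.Modules.pushforward f).obj F).IsQuasicoherent :=
    Groth.Agent.H8.isQuasicoherent_pushforward_of_isAffineHom f F
  haveI : Mono ((Scheme.Modules.pushforward f).map (Dual3.idealMulι (I.comap f) F)) :=
    inferInstance
  refine Groth.Agent.Lead.IdealMul.exists_iso_of_range_eq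
    (Dual3.idealMulι I ((Scheme.Modules.pushforward f).obj F))
    ((Scheme.Modules.pushforward f).map (Dual3.idealMulι (I.comap f) F)) (fun U hU => ?_)
  ext s
  have hW : IsAffineOpen (f ⁻¹ᵁ U) := hU.preimage f
  have h1 := Groth.Agent.Lead.IdealMul.mem_range_idealMulι_app_iff I
    ((Scheme.Modules.pushforward f).obj F) hU s
  have h2 := Groth.Agent.Lead.IdealMul.mem_range_idealMulι_app_iff (I.comap f) F hW s
  rw [Groth.Agent.H44.ideal_comap_of_le I f ⟨f ⁻¹ᵁ U, hW⟩ ⟨U, hU⟩ le_rfl] at h2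
  have h2' : s ∈ Set.range (((Scheme.Modules.pushforward f).map
      (Dual3.idealMulι (I.comap f) F)).app U) ↔
      s ∈ Set.range ((Dual3.idealMulι (I.comap f) F).app (f ⁻¹ᵁ U)) := Iff.rfl
  refine h1.trans (Iff.trans ?_ (h2'.trans h2).symm)
  letI : Algebra Γ(X, U) Γ(Y, f ⁻¹ᵁ U) := (f.appLE U (f ⁻¹ᵁ U) le_rfl).hom.toAlgebra
  letI mA : Module Γ(X, U) Γ(F, f ⁻¹ᵁ U) :=
    (inferInstance : Module Γ(X, U) Γ((Scheme.Modules.pushforward f).obj F, U))
  haveI : IsScalarTower Γ(X, U) Γ(Y, f ⁻¹ᵁ U) Γ(F, f ⁻¹ᵁ U) :=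
    IsScalarTower.of_algebraMap_smul (fun r m => by
      change (f.appLE U (f ⁻¹ᵁ U) le_rfl).hom r • m = _
      rw [← Scheme.Hom.app_eq_appLE]
      rfl)
  have h3 := Ideal.smul_restrictScalars (R := Γ(X, U)) (S := Γ(Y, f ⁻¹ᵁ U))
    (I.ideal ⟨U, hU⟩) (⊤ : Submodule Γ(Y, f ⁻¹ᵁ U) Γ(F, f ⁻¹ᵁ U))
  let s' : Γ(F, f ⁻¹ᵁ U) := s
  have h4 : s' ∈ ((Ideal.map (algebraMap Γ(X, U) Γ(Y, f ⁻¹ᵁ U)) (I.ideal ⟨U, hU⟩) •
      (⊤ : Submodule Γ(Y, f ⁻¹ᵁ U) Γ(F, f ⁻¹ᵁ U))).restrictScalars Γ(X, U)) ↔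
      s' ∈ I.ideal ⟨U, hU⟩ •
        (⊤ : Submodule Γ(Y, f ⁻¹ᵁ U) Γ(F, f ⁻¹ᵁ U)).restrictScalars Γ(X, U) := by
    rw [h3]
  rw [Submodule.restrictScalars_mem, Submodule.restrictScalars_top] at h4
  exact h4.symm

end Groth.Agent.S9523
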