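import Groth.Statements.S0021
import Groth.Agent.S0820
import Groth.Agent.S0988
import Groth.Agent.S9523
import Groth.Agent.S0012
import Groth.Agent.S0014
import Groth.Agent.S0007
import Groth.Agent.Lead.Coh.SerreAffine
import Groth.Agent.S9522

set_option autoImplicit false
universe u
open Coherent

namespace Groth.Agent.S0021

set_option linter.style.haveILetI false

open CategoryTheory CategoryTheory.Limits AlgebraicGeometry TopologicalSpace Opposite Groth.Agent.H18

/-- cohomology of a retract -/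
theorem subsingleton_HH_of_retract {X : Scheme.{u}} {N M : X.Modules} (i : N ⟶ M) (r : M ⟶ N)
    (hir : i ≫ r = 𝟙 N) (q : ℕ) (h : Subsingleton (Coh.HH X M q)) :
    Subsingleton (Coh.HH X N q) := by
  refine ⟨fun x y => ?_⟩
  have key : ∀ z : Coh.HH X N q, z = 0 := by
    intro z
    have h1 : (SheafOfModules.toSheaf X.ringCatSheaf).map i ≫
        (SheafOfModules.toSheaf X.ringCatSheaf).map r = 𝟙 _ :=
      ((SheafOfModules.toSheaf X.ringCatSheaf).map_comp i r).symm.trans
        ((congrArg (SheafOfModules.toSheaf X.ringCatSheaf).map hir).trans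
          ((SheafOfModules.toSheaf X.ringCatSheaf).map_id N))
    have h2 := Sheaf.H.map_comp_apply ((SheafOfModules.toSheaf X.ringCatSheaf).map i)
      ((SheafOfModules.toSheaf X.ringCatSheaf).map r) (n := q) z
    rw [h1, Sheaf.H.map_id_apply] at h2
    rw [h2, Subsingleton.elim (Sheaf.H.map ((SheafOfModules.toSheaf X.ringCatSheaf).map i) q z) 0,
      map_zero]
  rw [key x, key y]

theorem subsingleton_HH_of_iso {X : Scheme.{u}} {M M' : X.Modules} (e : M ≅ M') (q : ℕ)
    (h : Subsingleton (Coh.HH X M q)) : Subsingleton (Coh.HH X M' q) :=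
  subsingleton_HH_of_retract e.inv e.hom e.inv_hom_id q h

/-- the inclusion `J·G ⟶ G` is bijective on stalks at points outside the support of `J` -/
theorem isIso_stalk_idealMulι {X : Scheme.{u}} (J : X.IdealSheafData) (G : X.Modules)
    [G.IsQuasicoherent] (ξ : X) (hξ : ξ ∉ (J.support : Set X)) :
    IsIso ((TopCat.Presheaf.stalkFunctor _ ξ).map (Dual3.idealMulι J G).mapPresheaf) := by
  rw [ConcreteCategory.isIso_iff_bijective]
  constructor
  · refine TopCat.Presheaf.stalkFunctor_map_injective_of_app_injective (fun V => ?_) ξ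
    exact Groth.Agent.Lead.IdealMul.idealMulι_app_injective J G V
  · intro t
    obtain ⟨V, hV, s, rfl⟩ := TopCat.Presheaf.exists_germ_eq G.presheaf t
    let U : X.Opens := ⟨(J.support : Set X)ᶜ, J.support.isClosed.isOpen_compl⟩
    obtain ⟨W, hWaff, hξW, hWVU⟩ := exists_isAffineOpen_mem_and_subset
      (show ξ ∈ V ⊓ U from ⟨hV, hξ⟩)
    have hWV : W ≤ V := fun z hz => (hWVU hz).1
    have hdis : (J.support : Set X) ∩ (W : Set X) = ∅ := by
      ext z
      simp only [Set.mem_inter_iff, Set.mem_empty_iff_false, iff_false, not_and]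
      intro hz hz'
      exact (hWVU hz').2 hz
    have htop : J.ideal ⟨W, hWaff⟩ = ⊤ := Groth.Agent.S0988.ideal_eq_top_of_disjoint J ⟨W, hWaff⟩ hdis
    have hmem : mres G hWV s ∈ Groth.Agent.Lead.SubRange.rng (Dual3.idealMulι J G) W := by
      rw [Groth.Agent.Lead.SubRange.rng_idealMulι J hWaff, htop, Submodule.top_smul]
      trivial
    obtain ⟨s', hs'⟩ := (Groth.Agent.Lead.SubRange.mem_rng _ _ _).1 hmem
    refine ⟨((Dual3.idealMul J).obj G).presheaf.germ W ξ hξW s', ?_⟩
    have h1 := TopCat.Presheaf.stalkFunctor_map_germ_apply W ξ hξW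
      (Dual3.idealMulι J G).mapPresheaf s'
    refine h1.trans ?_
    have h2 : (Dual3.idealMulι J G).mapPresheaf.app (op W) s' = mres G hWV s := hs'
    rw [h2]
    exact TopCat.Presheaf.germ_res_apply G.presheaf (homOfLE hWV) ξ hξW s

/-- Chevalley's theorem (Noetherian case), given the dévissage statement S9522 -/
theorem main
    (H9522 : ∀ (X : Scheme.{u}) [IsNoetherian X]
      (Z₀ : Set X) (_ : IsClosed Z₀) (_ : IsIrreducible Z₀) (ξ : X) (_ : ξ ∈ Z₀ ∧ closure {ξ} = Z₀)
      (P : X.Modules → Prop) (_ : ∀ M N : X.Modules, Nonempty (M ≅ N) → P M → P N)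
      (_ : ∀ M : X.Modules, IsZero M → P M)
      (_ : ∀ S : ShortComplex X.Modules, S.ShortExact → Coh.IsCoh S.X₁ → Coh.IsCoh S.X₂ →
        Coh.IsCoh S.X₃ → P S.X₁ → P S.X₃ → P S.X₂)
      (_ : ∀ (F : X.Modules) (r : ℕ), Coh.IsCoh F → 1 ≤ r → P (∐ fun _ : Fin r => F) → P F)
      (_ : ∀ (Z : Scheme.{u}) (i : Z ⟶ X), IsClosedImmersion i → IsIntegral Z →
        Set.range ⇑i ⊆ Z₀ → Set.range ⇑i ≠ Z₀ →
        ∀ (I : Z.Modules) (ι : I ⟶ Coh.structureModule Z), Mono ι → Coh.IsQCoh I →
          P ((Coh.push i).obj I))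
      (_ : ∃ G : X.Modules, Coh.IsCoh G ∧ CohB1.support G = Z₀ ∧
        (∀ a ∈ IsLocalRing.maximalIdeal (X.presheaf.stalk ξ), ∀ m : ↑(G.presheaf.stalk ξ),
          a • m = 0) ∧
        ∀ J : X.IdealSheafData, ξ ∉ (J.support : Set X) →
          ∃ (G' : X.Modules) (ι' : G' ⟶ (Dual3.idealMul J).obj G), Mono ι' ∧ Coh.IsQCoh G' ∧
            IsIso ((TopCat.Presheaf.stalkFunctor _ ξ).map
              (ι' ≫ Dual3.idealMulι J G).mapPresheaf) ∧ P G')
      (F : X.Modules) (_ : Coh.IsCoh F) (_ : CohB1.support F ⊆ Z₀), P F)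
    {Y X : Scheme.{u}} (f : Y ⟶ X) [IsFinite f] [Surjective f] [IsAffine Y] [IsNoetherian X] :
    IsAffine X := by
  classical
  let P : X.Modules → Prop := fun M => Subsingleton (Coh.HH X M 1)
  have hP : ∀ M N : X.Modules, Nonempty (M ≅ N) → P M → P N :=
    fun M N ⟨e⟩ h => subsingleton_HH_of_iso e 1 h
  have h₀ : ∀ M : X.Modules, IsZero M → P M := by
    intro M hz
    refine Groth.Agent.Lead.SerreAffine.subsingleton_HH_of_sections_eq_zero M (fun V t => ?_) 1
    have h1 : (𝟙 M : M ⟶ M) = 0 := hz.eq_of_src _ _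
    have h2 : (Scheme.Modules.Hom.app (𝟙 M) V) t = (Scheme.Modules.Hom.app (0 : M ⟶ M) V) t := by
      rw [h1]
    exact h2
  have h₁ : ∀ S : ShortComplex X.Modules, S.ShortExact → Coh.IsCoh S.X₁ → Coh.IsCoh S.X₂ →
      Coh.IsCoh S.X₃ → P S.X₁ → P S.X₃ → P S.X₂ := fun S hS _ _ _ p1 p3 =>
    Groth.Agent.Lead.SerreAffine.subsingleton_HH_of_shortExact S hS 1 p1 p3
  have hsum : ∀ (F : X.Modules) (r : ℕ), Coh.IsCoh F → 1 ≤ r →
      P (∐ fun _ : Fin r => F) → P F := by
    intro F r _ hr h
    let j : Fin r := ⟨0, hr⟩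
    refine subsingleton_HH_of_retract (Sigma.ι (fun _ : Fin r => F) j)
      (Sigma.desc (fun k => if k = j then 𝟙 F else 0)) ?_ 1 h
    rw [Sigma.ι_desc, if_pos rfl]
  have key : ∀ M : X.Modules, Coh.IsCoh M → P M := by
    intro M hM
    refine Groth.Agent.Lead.Devissage.devissage P hP h₀ h₁ ?_ M hM
    intro T hT M hM hs _ IH
    haveI hint : IsIntegral (Scheme.IdealSheafData.vanishingIdeal T).subscheme :=
      Groth.Agent.H22.CompLift.isIntegral_subscheme_vanishingIdeal T hT
    have hri : Set.range (Scheme.IdealSheafData.vanishingIdeal T).subschemeι = (T : Set X) :=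
      Groth.Agent.H22.CompLift.range_subschemeι_vanishingIdeal T
    have hclξ : closure {(Scheme.IdealSheafData.vanishingIdeal T).subschemeι
        (genericPoint (Scheme.IdealSheafData.vanishingIdeal T).subscheme)} = (T : Set X) :=
      (Groth.Agent.S0820.closure_singleton_gen
        (Scheme.IdealSheafData.vanishingIdeal T).subschemeι).trans hri
    have hξT : (Scheme.IdealSheafData.vanishingIdeal T).subschemeι
        (genericPoint (Scheme.IdealSheafData.vanishingIdeal T).subscheme) ∈ (T : Set X) := by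
      rw [← hri]; exact ⟨_, rfl⟩
    obtain ⟨FY, hFY, hsuppG, hann⟩ := Groth.Agent.S0820.result f
      (Scheme.IdealSheafData.vanishingIdeal T).subscheme
      (Scheme.IdealSheafData.vanishingIdeal T).subschemeι
    refine H9522 X (T : Set X) T.isClosed hT _ ⟨hξT, hclξ⟩ P hP h₀ h₁ hsum ?_ ?_ M hM hs
    · intro Z' i' hi' hZ' hsub hne I ι hι hI
      haveI := hi'
      haveI := hZ'
      haveI : IsLocallyNoetherian Z' := LocallyOfFiniteType.isLocallyNoetherian i'
      have hO := Groth.Agent.S0820.isCoh_structureModule Z'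
      haveI : (Coh.structureModule Z').IsQuasicoherent := hO.1
      haveI : SheafOfModules.IsFiniteType (R := Z'.ringCatSheaf) (Coh.structureModule Z') := hO.2
      haveI : I.IsQuasicoherent := hI
      haveI := hι
      have hIcoh : Coh.IsCoh I :=
        ⟨hI, @Groth.Agent.H71.QCoh.isFiniteType_of_mono Z' _ I (Coh.structureModule Z') hI _ _ ι _⟩
      have hpush : Coh.IsCoh ((Coh.push i').obj I) := Groth.Agent.S0019.result i' I hIcoh
      let T' : Closeds X := ⟨Set.range i', i'.isClosedEmbedding.isClosed_range⟩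
      have hlt : T' < T := lt_of_le_of_ne hsub
        (fun h => hne (congrArg (fun C : Closeds X => (C : Set X)) h))
      exact IH T' hlt _ hpush
        (Groth.Agent.H71.QCoh.support_subset_range_of_iso_pushforward i' I _ (Iso.refl _))
    · haveI : FY.IsQuasicoherent := hFY.1
      haveI hGq : ((Scheme.Modules.pushforward f).obj FY).IsQuasicoherent :=
        Groth.Agent.H8.isQuasicoherent_pushforward_of_isAffineHom f FY
      refine ⟨(Coh.push f).obj FY, Groth.Agent.S0019.result f FY hFY, hsuppG.trans hri, hann, ?_⟩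
      intro J hJ
      refine ⟨(Dual3.idealMul J).obj ((Scheme.Modules.pushforward f).obj FY), 𝟙 _, inferInstance,
        Groth.Agent.Lead.SubRange.isQuasicoherent_idealMul J _, ?_, ?_⟩
      · rw [Category.id_comp]
        exact isIso_stalk_idealMulι J _ _ hJ
      · obtain ⟨e, -⟩ := Groth.Agent.S9523.result f FY hFY.1 J
        refine subsingleton_HH_of_iso e.symm 1 ?_
        haveI hNq : ((Dual3.idealMul (J.comap f)).obj FY).IsQuasicoherent :=
          Groth.Agent.Lead.SubRange.isQuasicoherent_idealMul _ _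
        obtain ⟨eq⟩ := Groth.Agent.S0012.result f ((Dual3.idealMul (J.comap f)).obj FY) 1
        haveI : Subsingleton (Coh.HH Y ((Dual3.idealMul (J.comap f)).obj FY) 1) :=
          Groth.Agent.S0007.result Y _ 1 Nat.one_pos
        exact eq.symm.toEquiv.subsingleton
  exact Groth.Agent.S0014.result X (fun I ι hι hI hFT => key I ⟨hI, hFT⟩)

open AlgebraicGeometry in
/-- Let f : Y → X be finite and surjective with Y affine and X Noetherian. Then X is affine. -/
theorem result {Y X : Scheme.{u}} (f : Y ⟶ X) [IsFinite f]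
    [Surjective f] [IsAffine Y] [IsNoetherian X] : IsAffine X := by
  exact main (fun X _ Z₀ hZ₀ hirr ξ hξ P hP h₀ h₁ h₂ h₃ h₄ F hF hs =>
    Groth.Agent.S9522.result X Z₀ hZ₀ hirr ξ hξ P hP h₀ h₁ h₂ h₃ h₄ F hF hs) f

end Groth.Agent.S0021
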