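import Groth.Statements.S6954
import Groth.Agent.H28.PCohPerf

set_option autoImplicit false
universe u
open CategoryTheory CategoryTheory.Limits
attribute [local instance] HasDerivedCategory.standard
open DRing

namespace Groth.Agent.S6954

/-- Let R be a commutative ring and K an object of D(R). Then K is perfect (isomorphic in D(R) to a
bounded complex of finite projective modules) if and only if K is pseudo-coherent (isomorphic to a
bounded above complex of finite free modules) and has finite tor dimension (isomorphic to a bounded
complex of flat modules). -/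
theorem result (R : Type u) [CommRing R] (K : Dual.D R) :
    DRing.IsPerfect R K ↔ DRing.IsPseudoCoherent' R K ∧ DRing.HasFiniteTorDimCx R K := by
  constructor
  · rintro ⟨E, a, b, hab, hp, ⟨e⟩⟩
    obtain ⟨h1, h2⟩ := Groth.Agent.H28.PCohPerf.isNPC_and_torAmp_of_finProj_rep R a b K E hab hp e
    exact ⟨(Groth.Agent.H28.PCohRing.isPseudoCoherent'_iff R K).mpr h1, a, b, h2⟩
  · rintro ⟨hpc, a, b, htor⟩
    obtain ⟨E, hE, hp, he⟩ := Groth.Agent.H28.PCohPerf.exists_finProj_rep R a b K
      ((Groth.Agent.H28.PCohRing.isPseudoCoherent'_iff R K).mp hpc _) htor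
    exact ⟨E, a, b, hE, hp, he⟩

end Groth.Agent.S6954
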