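import Groth.Statements.S1105
import Groth.Agent.H5.TildePerfect
import Groth.Agent.S0914
import Groth.Agent.S1004
import Groth.Agent.S7243
import Groth.Agent.S2066
import Groth.Agent.S6954

set_option autoImplicit false
universe u
open CategoryTheory CategoryTheory.Limits AlgebraicGeometry
attribute [local instance] HasDerivedCategory.standard
open Perf

namespace Groth.Agent.S1105

/-- Let A be a ring, M an object of D(A) and E = M~ the associated object of D(O_{Spec A}) (tilde being
recorded as exact). Then E is perfect in D(O_{Spec A}) if and only if M is perfect in D(A)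
(isomorphic to a bounded complex of finite projective modules). -/
theorem result (A : Type u) [CommRing A] [PreservesFiniteLimits (tilde.functor (CommRingCat.of A))] (M : Dual.D A) :
    DCoh.IsPerfect ((DCoh.tildeD (CommRingCat.of A)).obj M) ↔ DRing.IsPerfect A M := by
  haveI : CompactSpace (Spec (CommRingCat.of A)) := inferInstance
  constructor
  · intro h
    have h1 := (Groth.Agent.S0914.result _).1 h
    have hpc : DRing.IsPseudoCoherent' A M :=
      (Groth.Agent.S2066.result M).1.1 (fun m => (Groth.Agent.S1004.result A M m).1 (h1.1 m))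
    obtain ⟨a, b, hab, hamp⟩ := Groth.Agent.H5.TildePerfect.exists_hasPerfectAmplitudeIn _ h
    have hfl := Groth.Agent.H5.PerfAmp.hasFlatAmplitudeIn_of_hasPerfectAmplitudeIn _ a b hab hamp
    exact (Groth.Agent.S6954.result A M).2 ⟨hpc, a, b, (Groth.Agent.S7243.result A M a b).1 hfl⟩
  · intro h
    obtain ⟨hpc, a, b, hab⟩ := (Groth.Agent.S6954.result A M).1 h
    refine (Groth.Agent.S0914.result _).2 ⟨fun m => ?_, ?_⟩
    · exact (Groth.Agent.S1004.result A M m).2 ((Groth.Agent.S2066.result M).1.2 hpc m)
    · exact Groth.Agent.H5.TildePerfect.locHasFiniteTorDim_of_hasFlatAmplitudeIn _ a b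
        ((Groth.Agent.S7243.result A M a b).2 hab)

end Groth.Agent.S1105
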