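import Groth.Statements.S0952
import Groth.Agent.H5.Stalk.KFlat
import Groth.Agent.H5.Stalk.PullbackStalk
import Groth.Agent.H35.KFBaseChange
import Groth.Agent.H35.KFCone

set_option autoImplicit false
universe u
open CategoryTheory
attribute [local instance] HasDerivedCategory.standard
open DCoh

namespace Groth.Agent.S0952

open AlgebraicGeometry in
/-- For a morphism f : X -> Y and a K-flat complex K of O_Y-modules, the termwise pullback f^* K is a
K-flat complex of O_X-modules. -/
theorem result {X Y : Scheme.{u}} (f : X ⟶ Y) (K : CochainComplex Y.Modules ℤ) (hK : DCoh.IsKFlat K) :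
    DCoh.IsKFlat (((Scheme.Modules.pullback f).mapHomologicalComplex (ComplexShape.up ℤ)).obj K) := by
  rw [Groth.Agent.H5.Stalk.KFlat.isKFlat_iff_stalks]
  intro x
  have h1 : DRing.IsKFlat (Y.presheaf.stalk (f x))
      (Groth.Agent.H5.Stalk.TensorCx.stalkCx (f x) K) :=
    Groth.Agent.H5.Stalk.KFlat.isKFlat_stalk K hK (f x)
  have h2 := Groth.Agent.H35.KFBC.isKFlat_extendScalars (f.stalkMap x).hom
    (K := Groth.Agent.H5.Stalk.TensorCx.stalkCx (f x) K) h1
  refine Groth.Agent.H35.KF.isKFlat_of_iso ?_ h2
  exact (HomologicalComplex.Hom.isoOfComponents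
    (fun n => (Groth.Agent.H5.Stalk.pullbackStalkIso f x).app (K.X n))
    (fun i j _ => ((Groth.Agent.H5.Stalk.pullbackStalkIso f x).hom.naturality (K.d i j)).symm)).symm

end Groth.Agent.S0952
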