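import Mathlib
import Groth.Statements.S7028
import Groth.Agent.H35.PerfCx

set_option autoImplicit false
universe u
open CategoryTheory CategoryTheory.Limits
attribute [local instance] HasDerivedCategory.standard
open DRing

namespace Groth.Agent.S7028

open Groth.Agent.H35 DerivedCategory CategoryTheory.Pretriangulated in
/-- Perfectness is stable under shifts. -/
theorem shift_perfect (R : Type u) [CommRing R] (K : Dual.D R) (n : ℤ)
    (h : DRing.IsPerfect R K) : DRing.IsPerfect R (K⟦n⟧) := by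
  obtain ⟨E, a, b, hab, hfp, ⟨e⟩⟩ := h
  refine ⟨E⟦n⟧, a - n, b - n, ?_, ?_, ⟨QShiftIso E n ≪≫ (shiftFunctor (Dual.D R) n).mapIso e⟩⟩
  · intro i hi
    exact hab (i + n) (by omega)
  · intro i
    exact hfp (i + n)

open Groth.Agent.H35 DerivedCategory CategoryTheory.Pretriangulated in
/-- Perfectness is stable under cones. -/
theorem cone_perfect (R : Type u) [CommRing R] (T : Triangle (Dual.D R))
    (hT : T ∈ distinguishedTriangles) (h₁ : DRing.IsPerfect R T.obj₁)
    (h₂ : DRing.IsPerfect R T.obj₂) : DRing.IsPerfect R T.obj₃ := by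
  obtain ⟨E₁, a₁, b₁, hab₁, hfp₁, ⟨e₁⟩⟩ := h₁
  obtain ⟨E₂, a₂, b₂, hab₂, hfp₂, ⟨e₂⟩⟩ := h₂
  have : E₁.IsKProjective := isKProjective_of_vanishesAbove E₁ b₁
    (fun i hi => hab₁ i (Or.inr hi)) fun i => (hfp₁ i).2
  obtain ⟨a, ⟨e₃⟩⟩ := exists_mappingCone_iso T hT E₁ E₂ e₁ e₂
  refine ⟨CochainComplex.mappingCone a, min (a₁ - 1) a₂, max b₁ b₂, ?_, ?_, ⟨e₃⟩⟩
  · intro i hi
    refine mappingCone_isZero a i (hab₁ _ ?_) (hab₂ _ ?_)
    · rcases hi with hi | hi
      · left; omega
      · right; omega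
    · rcases hi with hi | hi
      · left; omega
      · right; omega
  · intro i
    exact ⟨mappingCone_finite a i (hfp₁ _).1 (hfp₂ _).1,
      mappingCone_projective a i (hfp₁ _).2 (hfp₂ _).2⟩

open CategoryTheory.Pretriangulated in
/-- Let R be a commutative ring such that the derived tensor product - ⊗^L_R M exists on D(R) for every
R-module M, and let K → L → M → K[1] be a distinguished triangle in D(R). If two out of K, L, M are
perfect, then so is the third. -/
theorem result (R : Type u) [CommRing R] [∀ M : ModuleCat.{u} R, DRing.HasLTensor R M]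
    (T : Triangle (Dual.D R)) (hT : T ∈ distinguishedTriangles) :
    (DRing.IsPerfect R T.obj₁ → DRing.IsPerfect R T.obj₂ → DRing.IsPerfect R T.obj₃) ∧
      (DRing.IsPerfect R T.obj₁ → DRing.IsPerfect R T.obj₃ → DRing.IsPerfect R T.obj₂) ∧
      (DRing.IsPerfect R T.obj₂ → DRing.IsPerfect R T.obj₃ → DRing.IsPerfect R T.obj₁) := by
  refine Groth.Agent.H35.two_out_of_three_of_cone (DRing.IsPerfect R) ?_
    (shift_perfect R) (cone_perfect R) T hT
  rintro X Y e ⟨E, a, b, hab, hfp, ⟨e'⟩⟩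
  exact ⟨E, a, b, hab, hfp, ⟨e' ≪≫ e⟩⟩

end Groth.Agent.S7028
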