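import Groth.Statements.S10855
import Groth.Agent.H54.IdealComap

set_option autoImplicit false
universe u
open BlowUp

namespace Groth.Agent.S10855

open AlgebraicGeometry CategoryTheory in
/-- Let f : X → Y be a flat morphism of schemes and 𝓘 the quasi-coherent ideal sheaf of an effective
Cartier divisor on Y (near every point generated on an affine open by one non-zero-divisor). Then
the inverse image ideal sheaf of 𝓘 on X is again the ideal of an effective Cartier divisor: the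
subscheme f⁻¹(Z) is an effective Cartier divisor on X. (The published corollary also identifies this
divisor with the pullback of Z as a divisor; that clause is not included here.) -/
theorem result {X Y : Scheme.{u}} (f : X ⟶ Y) [Flat f]
    (𝓘 : Y.IdealSheafData) (hD : BlowUp.IsEffCartierIdeal 𝓘) :
    BlowUp.IsEffCartierIdeal (𝓘.comap f) := by
  intro x
  obtain ⟨V, hyV, t, ht, hI⟩ := hD (f x)
  obtain ⟨U₀, hU₀, hxU₀, hle⟩ : ∃ U₀ : X.Opens, IsAffineOpen U₀ ∧ x ∈ U₀ ∧ U₀ ≤ f ⁻¹ᵁ V.1 := by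
    obtain ⟨_, ⟨U₀, hU₀, rfl⟩, hxU₀, hle⟩ :=
      X.isBasis_affineOpens.exists_subset_of_mem_open (show x ∈ f ⁻¹ᵁ V.1 from hyV) (f ⁻¹ᵁ V.1).2
    exact ⟨U₀, hU₀, hxU₀, hle⟩
  have eV : V.1.ι ''ᵁ ⊤ = V.1 := by simp
  have eU : U₀.ι ''ᵁ ⊤ = U₀ := by simp
  have hV' : IsAffineOpen (V.1.ι ''ᵁ ⊤) := by rw [eV]; exact V.2
  have hU' : IsAffineOpen (U₀.ι ''ᵁ ⊤) := by rw [eU]; exact hU₀
  have transport : ∀ (W : Y.Opens) (hW : IsAffineOpen W), W = V.1 →
      ∃ t' : Γ(Y, W), t' ∈ nonZeroDivisors Γ(Y, W) ∧ 𝓘.ideal ⟨W, hW⟩ = Ideal.span {t'} := by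
    rintro W hW rfl
    exact ⟨t, ht, hI⟩
  obtain ⟨t', ht', hI'⟩ := transport _ hV' eV
  obtain ⟨g, hg, hgI⟩ := Groth.Agent.H54.exists_span_singleton_comap_of_flat f 𝓘 V.1 V.2 hV' t' ht'
    hI' U₀ hU₀ hU' hle
  refine ⟨⟨U₀.ι ''ᵁ ⊤, hU'⟩, ?_, g, hg, hgI⟩
  show x ∈ U₀.ι ''ᵁ ⊤
  rw [eU]; exact hxU₀

end Groth.Agent.S10855
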