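import Groth.Statements.S1571
import Mathlib.AlgebraicGeometry.Morphisms.SchemeTheoreticallyDominant

set_option autoImplicit false
universe u
open CategoryTheory CategoryTheory.Limits AlgebraicGeometry
open Divisors

namespace Groth.Agent.S1571

theorem presheaf_map_map (S : Scheme.{u}) {U V W : S.Opens} (h1 : V ≤ U) (h2 : W ≤ V)
    (s : Γ(S, U)) :
    (S.presheaf.map (homOfLE h2).op).hom ((S.presheaf.map (homOfLE h1).op).hom s) =
      (S.presheaf.map (homOfLE (h2.trans h1)).op).hom s := by
  rw [← CommRingCat.comp_apply, ← Functor.map_comp]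
  rfl

open TopologicalSpace in
set_option backward.isDefEq.respectTransparency false in
/-- The open complement of an effective Cartier divisor is an affine open immersion and is
scheme-theoretically dense. -/
theorem result (S : Scheme.{u}) (D : S.IdealSheafData) (hD : BlowUp.IsEffCartierIdeal D) :
    IsAffineHom (Scheme.Opens.ι (X := S) D.support.compl) ∧ IsSchemeTheoreticallyDominant (Scheme.Opens.ι (X := S) D.support.compl) := by
  set W : S.Opens := D.support.compl with hW
  -- on a chart where `D` is cut out by `f`, the complement of `D` is the basic open of `f`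
  have key : ∀ (U : S.affineOpens) (f : Γ(S, U.1)), D.ideal U = Ideal.span {f} →
      W ⊓ U.1 = S.basicOpen f := by
    intro U f hf
    ext x
    simp only [Opens.coe_inf, Set.mem_inter_iff, SetLike.mem_coe]
    constructor
    · rintro ⟨hxW, hxU⟩
      have h1 : x ∉ D.support := hxW
      rw [Scheme.IdealSheafData.mem_support_iff_of_mem hxU, hf, Scheme.zeroLocus_span,
        Scheme.zeroLocus_singleton] at h1
      simpa using h1
    · intro hx
      have hxU : x ∈ U.1 := S.basicOpen_le f hx
      refine ⟨?_, hxU⟩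
      change x ∉ D.support
      rw [Scheme.IdealSheafData.mem_support_iff_of_mem hxU, hf, Scheme.zeroLocus_span,
        Scheme.zeroLocus_singleton]
      simpa using hx
  have himg : ∀ U : S.Opens, W.ι ''ᵁ (W.ι ⁻¹ᵁ U) = W ⊓ U := by
    intro U
    rw [Scheme.Hom.image_preimage_eq_opensRange_inf, Scheme.Opens.opensRange_ι]
  have haff : IsAffineHom W.ι := by
    apply isAffineHom_of_forall_exists_isAffineOpen
    intro x
    obtain ⟨U, hxU, f, _, hf⟩ := hD x
    have hU : IsAffineOpen U.1 := U.2
    refine ⟨U.1, hxU, hU, ?_⟩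
    rw [← W.ι.isAffineOpen_iff_of_isOpenImmersion, himg, key U f hf]
    exact hU.basicOpen f
  refine ⟨haff, ⟨?_⟩⟩
  rw [eq_bot_iff]
  choose U hxU f hfnz hf using hD
  refine Scheme.IdealSheafData.le_of_iSup_eq_top U ?_ ?_
  · exact top_le_iff.mp (fun x _ ↦ by
      rw [Opens.mem_iSup]; exact ⟨x, hxU x⟩)
  · intro x s hs
    have hU : IsAffineOpen (U x).1 := (U x).2
    rw [Scheme.Hom.ker_apply, RingHom.mem_ker, Scheme.Opens.ι_app] at hs
    have hle : S.basicOpen (f x) ≤ W.ι ''ᵁ (W.ι ⁻¹ᵁ (U x).1) := by
      rw [himg, key (U x) (f x) (hf x)]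
    have h0 : s |_ (S.basicOpen (f x)) = 0 := by
      have hle' : W.ι ''ᵁ W.ι ⁻¹ᵁ (U x).1 ≤ (U x).1 := by rw [himg]; exact inf_le_right
      have h1 := congrArg (S.presheaf.map (homOfLE hle).op).hom hs
      rw [map_zero] at h1
      exact (presheaf_map_map S hle' hle s).symm.trans h1
    obtain ⟨n, hn⟩ := exists_pow_mul_eq_zero_of_res_basicOpen_eq_zero_of_isAffineOpen S hU s (f x) h0
    have hnz : (f x) ^ n ∈ nonZeroDivisors Γ(S, (U x).1) := pow_mem (hfnz x) n
    have : s = 0 := by
      rw [mul_comm] at hn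
      exact hnz.2 s hn
    rw [this]
    exact Submodule.zero_mem _

end Groth.Agent.S1571
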