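import Groth.Statements.S9972
import Groth.Agent.H49.AlgSpRep
set_option backward.isDefEq.respectTransparency false

set_option autoImplicit false
universe u
open CategoryTheory CategoryTheory.Limits AlgebraicGeometry
open AlgSp

namespace Groth.Agent.S9972

/-- Two morphisms to an algebraic space separated over B that agree on an open subspace whose scheme
theoretic closure is everything are equal. -/
theorem result {S : Scheme.{u}} {U X Y B : AlgSp.Space S} (q : Y ⟶ B)
    (hq : AlgSp.IsSeparatedMor q.hom) (f g : X ⟶ Y) (hfg : f ≫ q = g ≫ q) (j : U ⟶ X)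
    (hj : AlgSp.RepWith @IsOpenImmersion j.hom) (hcl : AlgSp.IsSchImage j.hom (𝟙 X.obj)) (heq : j ≫ f = j ≫ g) :
    f = g := by
  have hfg' : f.hom ≫ q.hom = g.hom ≫ q.hom := congrArg (fun m => m.hom) hfg
  have heq' : j.hom ≫ f.hom = j.hom ≫ g.hom := congrArg (fun m => m.hom) heq
  -- the map `(f, g) : X ⟶ Y ×_B Y`
  let fg : X.obj ⟶ pullback q.hom q.hom := pullback.lift f.hom g.hom hfg'
  have hYY : AlgSp.IsAlgSpace (pullback q.hom q.hom) :=
    Groth.Agent.H49.isAlgSpace_of_isPullback (IsPullback.of_hasPullback q.hom q.hom)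
      B.property.diag Y.property Y.property
  have sqE := IsPullback.of_hasPullback (pullback.diagonal q.hom) fg
  have hE : AlgSp.IsAlgSpace (pullback (pullback.diagonal q.hom) fg) :=
    Groth.Agent.H49.isAlgSpace_of_isPullback sqE hYY.diag Y.property X.property
  have hi : AlgSp.RepWith @IsClosedImmersion (pullback.snd (pullback.diagonal q.hom) fg) :=
    MorphismProperty.of_isPullback sqE hq
  have hfac : ∃ f'' : U.obj ⟶ pullback (pullback.diagonal q.hom) fg,
      f'' ≫ pullback.snd (pullback.diagonal q.hom) fg = j.hom := by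
    refine ⟨pullback.lift (j.hom ≫ f.hom) j.hom ?_, pullback.lift_snd _ _ _⟩
    apply pullback.hom_ext
    · simp [fg]
    · simp [fg, heq']
  obtain ⟨k, hk⟩ := hcl.2.2 _ hE hi hfac
  have h1 : pullback.snd (pullback.diagonal q.hom) fg ≫ f.hom =
      pullback.snd (pullback.diagonal q.hom) fg ≫ g.hom := by
    have hw := sqE.w
    have ha := hw =≫ pullback.fst q.hom q.hom
    have hb := hw =≫ pullback.snd q.hom q.hom
    simp only [Category.assoc, pullback.diagonal_fst, pullback.diagonal_snd, Category.comp_id,
      fg, pullback.lift_fst, pullback.lift_snd] at ha hb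
    rw [← ha, ← hb]
  have h2 : f.hom = g.hom := by
    calc f.hom = 𝟙 _ ≫ f.hom := (Category.id_comp _).symm
      _ = (k ≫ pullback.snd (pullback.diagonal q.hom) fg) ≫ f.hom := by rw [hk]
      _ = (k ≫ pullback.snd (pullback.diagonal q.hom) fg) ≫ g.hom := by
          rw [Category.assoc, h1, Category.assoc]
      _ = g.hom := by rw [hk, Category.id_comp]
  exact ObjectProperty.hom_ext _ h2

end Groth.Agent.S9972
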