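import Groth.Statements.S4774
import Mathlib
-- import your own Groth.Agent.* helpers here

set_option autoImplicit false
universe u
open CategoryTheory AlgebraicGeometry
open Lim8

namespace Groth.Agent.S4774

open Limits in
/-- Let S = lim S_i be a cofiltered limit of schemes with affine transition maps. If S is not reduced,
then there is an index i such that S_j is not reduced for every index j over i. -/
theorem result {I : Type u} [SmallCategory I] [IsCofiltered I]
    (D : I ⥤ Scheme.{u}) (c : Limits.Cone D) (hc : Limits.IsLimit c)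
    [∀ (i j : I) (f : i ⟶ j), IsAffineHom (D.map f)] (h : ¬ IsReduced c.pt) :
    ∃ (i : I), ∀ (j : I) (_ : j ⟶ i), ¬ IsReduced (D.obj j) := by
  have haff : ∀ {i j : I} (f : i ⟶ j), IsAffineHom (D.map f) := fun f => inferInstance
  obtain ⟨i⟩ := IsCofiltered.nonempty (C := I)
  have hcov : TopologicalSpace.IsOpenCover
      (fun V : (D.obj i).affineOpens => c.π.app i ⁻¹ᵁ V.1) := by
    change (⨆ V : (D.obj i).affineOpens, c.π.app i ⁻¹ᵁ V.1) = ⊤
    rw [← Scheme.Hom.preimage_iSup, iSup_affineOpens_eq_top]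
    rfl
  have h' := (AlgebraicGeometry.IsReduced.iff_of_openCover c.pt (c.pt.openCoverOfIsOpenCover _ hcov)).not.mp h
  push Not at h'
  obtain ⟨V, hV⟩ := h'
  let F := opensDiagram D i V.1
  let cF := opensCone D c i V.1
  have hcF : IsLimit cF := isLimitOpensCone D c hc i V.1
  have hFaff : ∀ j : Over i, IsAffine (F.obj j) := fun j => V.2.preimage (D.map j.hom)
  have hptaff : IsAffine cF.pt := Scheme.isAffine_of_isLimit cF hcF
  have hnr : ¬ _root_.IsReduced Γ(cF.pt, ⊤) := fun hr => hV (isReduced_of_isAffine_isReduced cF.pt)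
  rw [isReduced_iff] at hnr
  push Not at hnr
  obtain ⟨t, ⟨n, hn⟩, ht0⟩ := hnr
  obtain ⟨j, tj, htj⟩ := exists_appTop_π_eq_of_isAffine_of_isLimit F cF hcF t
  have hzero : (cF.π.app j).appTop (tj ^ n) = 0 := by rw [map_pow, htj, hn]
  obtain ⟨k, f, hk⟩ := exists_appTop_map_eq_zero_of_isAffine_of_isLimit F cF hcF j (tj ^ n) hzero
  refine ⟨k.left, fun l ψ hred => ht0 ?_⟩
  let l' : Over i := Over.mk (ψ ≫ k.hom)
  let g : l' ⟶ k := Over.homMk ψ rfl
  let tl : Γ(F.obj l', ⊤) := (F.map (g ≫ f)).appTop tj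
  have htl_nil : tl ^ n = 0 := by
    change (F.map (g ≫ f)).appTop tj ^ n = 0
    rw [← map_pow, F.map_comp, Scheme.Hom.comp_appTop]
    change (F.map g).appTop ((F.map f).appTop (tj ^ n)) = 0
    rw [hk, map_zero]
  have hFred : IsReduced (F.obj l') := by
    change IsReduced ((D.map l'.hom ⁻¹ᵁ V.1 : (D.obj l).Opens) : Scheme)
    infer_instance
  have htl0 : tl = 0 := by
    have : IsNilpotent tl := ⟨n, htl_nil⟩
    exact this.eq_zero
  have : (cF.π.app l').appTop tl = t := by
    change (cF.π.app l').appTop ((F.map (g ≫ f)).appTop tj) = t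
    rw [← htj, ← cF.w (g ≫ f), Scheme.Hom.comp_appTop]
    rfl
  rw [← this, htl0, map_zero]

end Groth.Agent.S4774
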