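import Groth.Statements.S9952
import Groth.Agent.H50.Charts
import Mathlib.AlgebraicGeometry.Morphisms.LocalFlatDescent
set_option backward.isDefEq.respectTransparency false

set_option autoImplicit false
universe u
open CategoryTheory CategoryTheory.Limits AlgebraicGeometry
open AlgSp

namespace Groth.Agent.S9952

/-- If g ∘ f is locally of finite type then f is locally of finite type. -/
theorem result {S : Scheme.{u}} {X Y Z : AlgSp.Space S} (f : X ⟶ Y) (g : Y ⟶ Z)
    (h : AlgSp.LocP @LocallyOfFiniteType (f ≫ g).hom) : AlgSp.LocP @LocallyOfFiniteType f.hom := by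
  refine Groth.Agent.H50.locP_of_comp_cancel @LocallyOfFiniteType ⊤ ?_ ?_ Z.property f.hom g.hom h
    (fun _ _ _ _ _ _ _ _ => trivial)
  · intro A B C h k hhk _
    have : LocallyOfFiniteType (h ≫ k) := hhk
    exact locallyOfFiniteType_of_comp h k
  · intro A B A' B' h v u h' sq hv hvs hP
    exact Groth.Agent.H50.descends_etale_of_descendsAlong _ h v u h' sq hv hvs hP

end Groth.Agent.S9952
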