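import Groth.Statements.S10350
import Groth.Agent.H52.Diag

set_option autoImplicit false
universe u
open CategoryTheory CategoryTheory.Limits AlgebraicGeometry Topology TopologicalSpace
open AlgSp

namespace Groth.Agent.S10350

/-- For a scheme S, every algebraic space X over S whose diagonal X ⟶ X ×_S X is representable
quasi-compact (X quasi-separated over S) is decent: each point of |X| is the class of some
monomorphism Spec k ⟶ X which is representable quasi-compact. (The published statement assumes X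
quasi-separated in the absolute sense, a condition which implies quasi-separatedness over S; this
row assumes only quasi-separatedness over S.) -/
theorem result {S : Scheme.{u}} (X : AlgSp.Space S)
    (hX : AlgSp.IsQuasiSeparatedSp X.obj) : AlgSp.IsDecent X.obj := by
  have hXs : AlgSp.IsAlgSpace X.obj := X.property
  intro x
  obtain ⟨V, ψ, hψ, hψs⟩ := hXs.atlas
  obtain ⟨v, rfl⟩ := Groth.Agent.H52.ofPt_surjective_of_repWith_surjective ψ hψs x
  have hrep := hXs.representable_from_yon (AlgSp.FieldPt.ofPt ψ v).toHom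
  obtain ⟨pr₁, hpr₁⟩ := (AlgSp.yon S).map_surjective (hrep.fst (AlgSp.FieldPt.ofPt ψ v).toHom)
  have sq := hrep.isPullback (AlgSp.FieldPt.ofPt ψ v).toHom
  rw [← hpr₁] at sq
  have hlqf : LocallyQuasiFinite pr₁.left :=
    Groth.Agent.H52.locallyQuasiFinite_pr_of_chart ψ hψ v pr₁ _ sq
  have hqc : QuasiCompact pr₁.left := by
    have h1 : QuasiCompact (prod.lift pr₁ (hrep.snd (AlgSp.FieldPt.ofPt ψ v).toHom)).left :=
      Groth.Agent.H52.prop_prod_lift_of_repWith_diag hX sq
    have hstr : QuasiCompact (AlgSp.FieldPt.ofPt ψ v).pt.hom :=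
      Groth.Agent.H52.quasiCompact_of_finite
        (X := Spec (CommRingCat.of (AlgSp.FieldPt.ofPt ψ v).K)) (AlgSp.FieldPt.ofPt ψ v).str
    have h2 : QuasiCompact (prod.fst :
        (AlgSp.FieldPt.ofPt ψ v).pt ⨯ (AlgSp.FieldPt.ofPt ψ v).pt ⟶ (AlgSp.FieldPt.ofPt ψ v).pt).left :=
      Groth.Agent.H52.prop_prod_fst_left @QuasiCompact _ _ hstr
    have e : pr₁.left = (prod.lift pr₁ (hrep.snd (AlgSp.FieldPt.ofPt ψ v).toHom)).left ≫
        (prod.fst : (AlgSp.FieldPt.ofPt ψ v).pt ⨯ (AlgSp.FieldPt.ofPt ψ v).pt ⟶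
          (AlgSp.FieldPt.ofPt ψ v).pt).left := by
      rw [← Over.comp_left, prod.lift_fst]
    rw [e]
    infer_instance
  have hart : IsLocallyArtinian (AlgSp.FieldPt.ofPt ψ v).pt.left :=
    Scheme.isLocallyArtinianScheme_Spec.2 (inferInstanceAs (IsArtinianRing (AlgSp.FieldPt.ofPt ψ v).K))
  have hfin : IsFinite pr₁.left := IsFinite.of_locallyQuasiFinite pr₁.left
  obtain ⟨p, c, -, hm, -, hp⟩ := Groth.Agent.H52.exists_mono_point_of_finite _ pr₁ _ sq
  exact ⟨p, hp, hm, Groth.Agent.H52.repWith_quasiCompact_of_quasiSeparated hX p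
    (hXs.representable_from_yon _)⟩

end Groth.Agent.S10350
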