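import Groth.Statements.S10116
import Groth.Agent.H50.GrpDiag
set_option backward.isDefEq.respectTransparency false

set_option autoImplicit false
universe u
open CategoryTheory CategoryTheory.Limits AlgebraicGeometry MonoidalCategory MonObj
open AlgSp

namespace Groth.Agent.S10116

/-- Let `G` be a group algebraic space over an algebraic space `B` with unit `e : B ⟶ G`. Then `G ⟶ B`
is separated if and only if `e` is a closed immersion, quasi-separated if and only if `e` is
quasi-compact, and if `G ⟶ B` is locally separated then `e` is an immersion. (The published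
statement makes the last part an equivalence as well; this row states only that a locally separated
`G ⟶ B` has `e` an immersion.) -/
theorem result (S : Scheme.{u}) (B : AlgSp.Sp S) (hB : AlgSp.IsAlgSpace B)
    (G : Over B) [GrpObj G] (hG : AlgSp.IsAlgSpace G.left) :
    (AlgSp.IsSeparatedMor G.hom ↔ AlgSp.RepWith @IsClosedImmersion (η[G]).left) ∧
      (AlgSp.IsQuasiSeparatedMor G.hom ↔ AlgSp.IsQuasiCompactMor (η[G]).left) ∧
      (AlgSp.IsLocallySeparatedMor G.hom → AlgSp.RepWith @IsImmersion (η[G]).left) := by
  have sqA : IsPullback G.hom (pullback.diagonal G.hom) (η[G]).left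
      ((CartesianMonoidalCategory.fst G G)⁻¹ * CartesianMonoidalCategory.snd G G).left :=
    (Groth.Agent.H50.isPullback_unit_diag G).map (Over.forget B)
  have hsec : (η[G]).left ≫ G.hom = 𝟙 B := Over.w (η[G])
  have sqB := Groth.Agent.H50.isPullback_section_diagonal G.hom (η[G]).left hsec
  have hrepΔ : AlgSp.Representable (pullback.diagonal G.hom) :=
    (Groth.Agent.H50.repWith_diagonal_of_isAlgSpace hG G.hom).1
  have hrepη : AlgSp.Representable (η[G]).left := MorphismProperty.of_isPullback sqB hrepΔ
  refine ⟨⟨fun h => MorphismProperty.of_isPullback (P := AlgSp.RepWith @IsClosedImmersion) sqB h,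
    fun h => MorphismProperty.of_isPullback (P := AlgSp.RepWith @IsClosedImmersion) sqA h⟩,
    ⟨fun h => ?_, fun h => ?_⟩,
    fun h => MorphismProperty.of_isPullback (P := AlgSp.RepWith @IsImmersion) sqB h⟩
  · exact Groth.Agent.H50.isQuasiCompactMor_of_repWith le_rfl _
      (MorphismProperty.of_isPullback (P := AlgSp.RepWith @QuasiCompact) sqB h)
  · exact MorphismProperty.of_isPullback (P := AlgSp.RepWith @QuasiCompact) sqA
      (Groth.Agent.H50.repWith_quasiCompact_of_isQuasiCompactMor _ hrepη h)

end Groth.Agent.S10116
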