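import Groth.Statements.S9729
import Groth.Agent.S8657

set_option autoImplicit false
universe u
open FlatMor

namespace Groth.Agent.S9729

open AlgebraicGeometry CategoryTheory Limits in
/-- Let f : X ⟶ Y and g : Y ⟶ S be morphisms with g smooth. If f ≫ g is a local complete intersection
morphism (Koszul at every point of X) then f is a local complete intersection morphism. -/
theorem result {X Y S : Scheme.{u}} (f : X ⟶ Y) (g : Y ⟶ S) [Smooth g]
    (h : ∀ x : X, Synt.IsKoszulAt (f ≫ g) x) (x : X) : Synt.IsKoszulAt f x := by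
  obtain ⟨U, P, i, π, hxU, hft, hi, hπ, hfac⟩ := h x
  have hiimm : IsImmersion i := hi.1
  -- the graph-type immersion `U ⟶ P ×_S Y`
  have hcomm : i ≫ π = (U.ι ≫ f) ≫ g := by rw [hfac, Category.assoc]
  let j : (U : Scheme.{u}) ⟶ pullback π g := pullback.lift i (U.ι ≫ f) hcomm
  have hj1 : j ≫ pullback.fst π g = i := pullback.lift_fst _ _ _
  have hj2 : j ≫ pullback.snd π g = U.ι ≫ f := pullback.lift_snd _ _ _
  have : IsImmersion j := by
    have : IsImmersion (j ≫ pullback.fst π g) := by rw [hj1]; infer_instance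
    exact IsImmersion.of_comp j (pullback.fst π g)
  have hjk : RegImm.IsRegularImmersion RegImm.Kind.koszul j :=
    (Groth.Agent.S8657.result i j (pullback.fst π g) hj1).1 hi
  have hft' : LocallyOfFiniteType (U.ι ≫ f) := by
    have : LocallyOfFiniteType ((U.ι ≫ f) ≫ g) := by rwa [Category.assoc]
    exact locallyOfFiniteType_of_comp (U.ι ≫ f) g
  exact ⟨U, pullback π g, j, pullback.snd π g, hxU, hft', hjk, inferInstance, hj2⟩

end Groth.Agent.S9729
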