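import Groth.Statements.S12445
import Groth.Agent.H62.CatenRing
-- import your own Groth.Agent.* helpers here

set_option autoImplicit false
universe u
open CategoryTheory AlgebraicGeometry
open Props Groth.Agent.H62

namespace Groth.Agent.S12445

/-- (1) ⇔ (3) ⇔ (4): for a scheme S, the underlying topological space of S is catenary if and only if
the coordinate ring of every affine open of S is a catenary ring, if and only if S is covered by
affine opens with catenary coordinate rings. (Clause (2), openness of catenarity, and the final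
assertion on locally closed subschemes are the topological statement for open coverings and locally
closed subspaces.) -/
theorem result (S : Scheme.{u}) :
    (PtTop.IsCatenarySpace S ↔ ∀ U : S.affineOpens, CAlg.IsCatenary Γ(S, U)) ∧
    (PtTop.IsCatenarySpace S ↔
      ∀ s : S, ∃ U : S.affineOpens, s ∈ (U : S.Opens) ∧ CAlg.IsCatenary Γ(S, U)) := by
  have h12 : PtTop.IsCatenarySpace S → ∀ U : S.affineOpens, CAlg.IsCatenary Γ(S, U) := by
    intro hS U
    rw [← isCatenarySpace_primeSpectrum_iff]
    change PtTop.IsCatenarySpace ↥(Spec Γ(S, U))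
    have hUa : IsAffineOpen (U : S.Opens) := U.2
    have hemb : Topology.IsOpenEmbedding (hUa.fromSpec.base) := hUa.fromSpec.isOpenEmbedding
    exact isCatenarySpace_of_isInducing hS hemb.isInducing hemb.isOpen_range.isLocallyClosed
  have h23 : (∀ U : S.affineOpens, CAlg.IsCatenary Γ(S, U)) →
      ∀ s : S, ∃ U : S.affineOpens, s ∈ (U : S.Opens) ∧ CAlg.IsCatenary Γ(S, U) := by
    intro H s
    obtain ⟨_, ⟨U, hU, rfl⟩, hsU, -⟩ := S.isBasis_affineOpens.exists_subset_of_mem_open
      (Set.mem_univ s) isOpen_univ
    exact ⟨⟨U, hU⟩, hsU, H _⟩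
  have h31 : (∀ s : S, ∃ U : S.affineOpens, s ∈ (U : S.Opens) ∧ CAlg.IsCatenary Γ(S, U)) →
      PtTop.IsCatenarySpace S := by
    intro H
    apply isCatenarySpace_of_open_embeddings
    intro x
    obtain ⟨U, hxU, hU⟩ := H x
    have hUa : IsAffineOpen (U : S.Opens) := U.2
    have hcat : PtTop.IsCatenarySpace ↥(Spec Γ(S, U)) :=
      (isCatenarySpace_primeSpectrum_iff _).2 hU
    refine ⟨↥(Spec Γ(S, U)), inferInstance, hUa.fromSpec.base,
      hUa.fromSpec.isOpenEmbedding, ?_, hcat⟩
    have hr : Set.range hUa.fromSpec.base = (U : S.Opens) := hUa.range_fromSpec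
    rw [hr]; exact hxU
  exact ⟨⟨h12, fun H => h31 (h23 H)⟩, ⟨fun H => h23 (h12 H), h31⟩⟩

end Groth.Agent.S12445
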