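import Groth.Statements.S12446
import Groth.Agent.H62.CatenRing
import Groth.Agent.S12445
-- import your own Groth.Agent.* helpers here

set_option autoImplicit false
universe u
open CategoryTheory AlgebraicGeometry
open Props Groth.Agent.H62

namespace Groth.Agent.S12446

/-- For a scheme X, the underlying topological space of X is catenary if and only if for every point x
the local ring O_{X,x} is a catenary ring. -/
theorem result (X : Scheme.{u}) :
    PtTop.IsCatenarySpace X ↔ ∀ x : X, CAlg.IsCatenary (X.presheaf.stalk x) := by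
  constructor
  · intro hX x
    obtain ⟨_, ⟨U, hU, rfl⟩, hxU, -⟩ := X.isBasis_affineOpens.exists_subset_of_mem_open
      (Set.mem_univ x) isOpen_univ
    have hUa : IsAffineOpen U := hU
    have hR : CAlg.IsCatenary Γ(X, U) := (Groth.Agent.S12445.result X).1.1 hX ⟨U, hU⟩
    let _ : Algebra Γ(X, U) (X.presheaf.stalk x) :=
      TopCat.Presheaf.algebra_section_stalk X.presheaf (⟨x, hxU⟩ : U)
    have hloc : IsLocalization.AtPrime (X.presheaf.stalk x)
        (hUa.primeIdealOf ⟨x, hxU⟩).asIdeal := hUa.isLocalization_stalk ⟨x, hxU⟩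
    exact isCatenary_of_isLocalization (hUa.primeIdealOf ⟨x, hxU⟩).asIdeal.primeCompl hR
  · intro H
    refine (Groth.Agent.S12445.result X).1.2 ?_
    rintro ⟨U, hU⟩
    have hUa : IsAffineOpen U := hU
    rw [isCatenary_iff_catPair']
    intro p q hpq
    have hxU : hUa.fromSpec q ∈ U := by
      have hr : Set.range hUa.fromSpec.base = (U : X.Opens) := hUa.range_fromSpec
      have : hUa.fromSpec.base q ∈ Set.range hUa.fromSpec.base := Set.mem_range_self _
      rw [hr] at this
      exact this
    let _ : Algebra Γ(X, U) (X.presheaf.stalk (hUa.fromSpec q)) :=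
      TopCat.Presheaf.algebra_section_stalk X.presheaf (⟨hUa.fromSpec q, hxU⟩ : U)
    have hloc : IsLocalization.AtPrime (X.presheaf.stalk (hUa.fromSpec q)) q.asIdeal :=
      hUa.isLocalization_stalk' q hxU
    exact catPair'_of_isLocalization_atPrime (B := X.presheaf.stalk (hUa.fromSpec q)) q
      (H _) p hpq

end Groth.Agent.S12446
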