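import Groth.Statements.S12447
import Groth.Agent.H62.CatenRingDim
import Groth.Agent.S12445
-- import your own Groth.Agent.* helpers here

set_option autoImplicit false
universe u
open CategoryTheory AlgebraicGeometry
open Props

open Groth.Agent.H62

namespace Groth.Agent.S12447

/-- Let S be a locally Noetherian scheme. Then the underlying topological space of S is catenary if and
only if locally in the Zariski topology there is a dimension function, i.e. every point has an open
neighbourhood U carrying a function δ : U → ℤ which strictly decreases along nontrivial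
specializations and drops by exactly one along immediate specializations. -/
theorem result (S : Scheme.{u}) [IsLocallyNoetherian S] :
    PtTop.IsCatenarySpace S ↔
      ∀ s : S, ∃ U : S.Opens, s ∈ U ∧ ∃ δ : U → ℤ, PtTop.IsDimensionFunction δ := by
  constructor
  · intro hS s
    obtain ⟨_, ⟨U, hU, rfl⟩, hsU, -⟩ := S.isBasis_affineOpens.exists_subset_of_mem_open
      (Set.mem_univ s) isOpen_univ
    have hUa : IsAffineOpen U := hU
    have hN : IsNoetherianRing Γ(S, U) := IsLocallyNoetherian.component_noetherian ⟨U, hU⟩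
    have hcat : CAlg.IsCatenary Γ(S, U) := (Groth.Agent.S12445.result S).1.1 hS ⟨U, hU⟩
    obtain ⟨f, hf, δ, h1, h2⟩ := exists_dimfun_ring Γ(S, U) hcat (hUa.primeIdealOf ⟨s, hsU⟩)
    have hVU : S.basicOpen f ≤ U := S.basicOpen_le f
    have he : ∀ x : U, hUa.fromSpec (hUa.primeIdealOf x) = x.1 := hUa.fromSpec_primeIdealOf
    have hinj : Function.Injective hUa.fromSpec := hUa.fromSpec.isOpenEmbedding.injective
    have hmem : ∀ x : U, x.1 ∈ S.basicOpen f ↔ f ∉ (hUa.primeIdealOf x).asIdeal := by
      intro x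
      have h3 : hUa.primeIdealOf x ∈ hUa.fromSpec ⁻¹ᵁ S.basicOpen f ↔ x.1 ∈ S.basicOpen f := by
        change hUa.fromSpec (hUa.primeIdealOf x) ∈ S.basicOpen f ↔ _
        rw [he]
      rw [← h3, hUa.fromSpec_preimage_basicOpen]
      exact PrimeSpectrum.mem_basicOpen _ _
    have hspec : ∀ x y : U, x.1 ⤳ y.1 ↔ hUa.primeIdealOf x ≤ hUa.primeIdealOf y := by
      intro x y
      have h3 := hUa.fromSpec.isOpenEmbedding.isInducing.specializes_iff
        (x := hUa.primeIdealOf x) (y := hUa.primeIdealOf y)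
      rw [he, he] at h3
      exact h3.trans (PrimeSpectrum.le_iff_specializes _ _).symm
    have hsubV : ∀ x y : ↥(S.basicOpen f), x ⤳ y ↔ x.1 ⤳ y.1 := fun x y =>
      (Topology.IsInducing.subtypeVal.specializes_iff).symm
    refine ⟨S.basicOpen f, (hmem ⟨s, hsU⟩).2 hf,
      fun x => δ (hUa.primeIdealOf ⟨x.1, hVU x.2⟩), ?_, ?_⟩
    · intro x y hxy hne
      have hle := (hspec ⟨x.1, hVU x.2⟩ ⟨y.1, hVU y.2⟩).1 ((hsubV x y).1 hxy)
      have hne' : hUa.primeIdealOf ⟨x.1, hVU x.2⟩ ≠ hUa.primeIdealOf ⟨y.1, hVU y.2⟩ := by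
        intro h
        apply hne
        apply Subtype.ext
        have := congrArg hUa.fromSpec h
        rwa [he, he] at this
      exact h1 _ _ ((hmem ⟨y.1, hVU y.2⟩).1 y.2) (lt_of_le_of_ne hle hne')
    · rintro x y ⟨hxy, hne, himm⟩
      have hle := (hspec ⟨x.1, hVU x.2⟩ ⟨y.1, hVU y.2⟩).1 ((hsubV x y).1 hxy)
      have hne' : hUa.primeIdealOf ⟨x.1, hVU x.2⟩ ≠ hUa.primeIdealOf ⟨y.1, hVU y.2⟩ := by
        intro h
        apply hne
        apply Subtype.ext
        have := congrArg hUa.fromSpec h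
        rwa [he, he] at this
      have hfy : f ∉ (hUa.primeIdealOf ⟨y.1, hVU y.2⟩).asIdeal := (hmem ⟨y.1, hVU y.2⟩).1 y.2
      refine h2 _ _ hfy ⟨lt_of_le_of_ne hle hne', ?_⟩
      intro q hq1 hq2
      have hzU : hUa.fromSpec q ∈ U := by
        have hr : Set.range hUa.fromSpec.base = (U : S.Opens) := hUa.range_fromSpec
        have : hUa.fromSpec.base q ∈ Set.range hUa.fromSpec.base := Set.mem_range_self _
        rw [hr] at this
        exact this
      have hez : hUa.primeIdealOf ⟨hUa.fromSpec q, hzU⟩ = q := hinj (he _)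
      have hfq : f ∉ q.asIdeal := fun hfq => hfy (hq2.le hfq)
      have hzV : hUa.fromSpec q ∈ S.basicOpen f := by
        rw [hmem ⟨hUa.fromSpec q, hzU⟩, hez]; exact hfq
      have hxz : x ⤳ (⟨hUa.fromSpec q, hzV⟩ : ↥(S.basicOpen f)) := by
        rw [hsubV, hspec ⟨x.1, hVU x.2⟩ ⟨hUa.fromSpec q, hzU⟩, hez]; exact hq1.le
      have hzy : (⟨hUa.fromSpec q, hzV⟩ : ↥(S.basicOpen f)) ⤳ y := by
        rw [hsubV, hspec ⟨hUa.fromSpec q, hzU⟩ ⟨y.1, hVU y.2⟩, hez]; exact hq2.le
      rcases himm _ hxz hzy with h | h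
      · have hv : hUa.fromSpec q = x.1 := congrArg Subtype.val h
        apply hq1.ne
        apply hinj
        rw [he]
        exact hv.symm
      · have hv : hUa.fromSpec q = y.1 := congrArg Subtype.val h
        apply hq2.ne
        apply hinj
        rw [he]
        exact hv
  · intro H
    apply isCatenarySpace_of_open_cover
    intro x
    obtain ⟨U, hxU, δ, hδ⟩ := H x
    have : QuasiSober ↥U := U.isOpenEmbedding'.quasiSober
    exact ⟨U, hxU, isCatenarySpace_of_dimfun hδ⟩

end Groth.Agent.S12447
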