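import Groth.Statements.S10408
import Groth.Agent.H52.FibreFinite

set_option autoImplicit false
universe u
open CategoryTheory CategoryTheory.Limits AlgebraicGeometry Topology TopologicalSpace
open AlgSp

namespace Groth.Agent.S10408

/-- (4) ⇒ (2): let S be a scheme and X an algebraic space over S. Suppose x ∈ |X| is a point represented
by a monomorphism Spec k ⟶ X, where k is a field. Then for every etale φ : U ⟶ X with U a scheme and
all u, u' ∈ U over x, the map |U ×_X U| → |U| ×_{|X|} |U| has finite fibre over the point (u, u'). -/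
theorem result {S : Scheme.{u}} (X : AlgSp.Space S) (x : AlgSp.Points X.obj)
    (hx : ∃ p : AlgSp.FieldPt X.obj, AlgSp.Points.mk p = x ∧ Mono p.toHom) {U : Over S}
    (φ : (AlgSp.yon S).obj U ⟶ X.obj) (hφ : AlgSp.RepWith @Etale φ) (u u' : ↥U.left)
    (hu : AlgSp.Points.ofPt φ u = x) (hu' : AlgSp.Points.ofPt φ u' = x) :
    ∀ (R : Over S) (s t : R ⟶ U), IsPullback ((AlgSp.yon S).map t) ((AlgSp.yon S).map s) φ φ →
          {r : ↥R.left | s.left r = u ∧ t.left r = u'}.Finite := by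
  intro R s t hR
  obtain ⟨p, hp, hm⟩ := hx
  have hprep : AlgSp.Representable p.toHom := X.property.representable_from_yon _
  obtain ⟨ca, hca⟩ := Groth.Agent.H52.exists_factor_of_mono p (AlgSp.FieldPt.ofPt φ u') hm hprep
    (hu'.trans hp.symm)
  obtain ⟨cb, hcb⟩ := Groth.Agent.H52.exists_factor_of_mono p (AlgSp.FieldPt.ofPt φ u) hm hprep
    (hu.trans hp.symm)
  have hlqf := Groth.Agent.H52.locallyQuasiFinite_of_factor φ hφ u p cb hcb
  have ea : (AlgSp.FieldPt.ofPt φ u').toHom = (AlgSp.FieldPt.ofPt (𝟙 _) u').toHom ≫ φ := by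
    rw [AlgSp.FieldPt.toHom_ofPt, AlgSp.FieldPt.toHom_ofPt, Category.comp_id]; rfl
  have eb : (AlgSp.FieldPt.ofPt φ u).toHom = (AlgSp.FieldPt.ofPt (𝟙 _) u).toHom ≫ φ := by
    rw [AlgSp.FieldPt.toHom_ofPt, AlgSp.FieldPt.toHom_ofPt, Category.comp_id]; rfl
  have key := Groth.Agent.H52.finite_points_over_of_mono hR p hm
    (AlgSp.FieldPt.ofPt (𝟙 _) u') (AlgSp.FieldPt.ofPt (𝟙 _) u) ca cb
    (hca.trans ea) (hcb.trans eb) hlqf
  refine (key.preimage ((AlgSp.Points.schemeEquiv R).injective.injOn)).subset ?_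
  rintro r ⟨hr1, hr2⟩
  refine ⟨?_, ?_⟩
  · change AlgSp.Points.map _ (AlgSp.Points.ofPt (𝟙 _) r) = _
    rw [AlgSp.Points.map_ofPt, Category.id_comp, Groth.Agent.H52.ofPt_yon_map, hr2]
    rfl
  · change AlgSp.Points.map _ (AlgSp.Points.ofPt (𝟙 _) r) = _
    rw [AlgSp.Points.map_ofPt, Category.id_comp, Groth.Agent.H52.ofPt_yon_map, hr1]
    rfl

end Groth.Agent.S10408
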