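import Groth.Statements.S10360
import Groth.Agent.H52.ChartFinite
import Groth.Agent.S10408

set_option autoImplicit false
universe u
open CategoryTheory CategoryTheory.Limits AlgebraicGeometry Topology TopologicalSpace
open AlgSp

namespace Groth.Agent.S10360

/-- (1) ⇔ (4): for an algebraic space X over a scheme S and x ∈ |X|, the fibres over x of |U| → |X| and
|U ×_X U| → |X| are finite for every etale h_U ⟶ X with U affine, if and only if x is represented by
a monomorphism Spec k ⟶ X which is representable quasi-compact. -/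
theorem result {S : Scheme.{u}} (X : AlgSp.Space S)
    (x : AlgSp.Points X.obj) :
    (∀ (U : Over S) (φ : (AlgSp.yon S).obj U ⟶ X.obj), IsAffine U.left → AlgSp.RepWith @Etale φ →
        ∀ (R : Over S) (s t : R ⟶ U), IsPullback ((AlgSp.yon S).map t) ((AlgSp.yon S).map s) φ φ →
          (AlgSp.Points.ofPt φ ⁻¹' {x}).Finite ∧ (AlgSp.Points.ofPt ((AlgSp.yon S).map t ≫ φ) ⁻¹' {x}).Finite) ↔
      ∃ p : AlgSp.FieldPt X.obj, AlgSp.Points.mk p = x ∧ Mono p.toHom ∧ AlgSp.RepWith @QuasiCompact p.toHom := by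
  have hX : AlgSp.IsAlgSpace X.obj := X.property
  constructor
  · intro H
    obtain ⟨V, ψ, hψ, hψs⟩ := hX.atlas
    obtain ⟨v, rfl⟩ := Groth.Agent.H52.ofPt_surjective_of_repWith_surjective ψ hψs x
    obtain ⟨W, hW, hvW, -⟩ := exists_isAffineOpen_mem_and_subset (x := v) (U := ⊤) trivial
    have hφ := Groth.Agent.H52.repWith_etale_restrict ψ hψ W
    have hu : AlgSp.Points.ofPt ((AlgSp.yon S).map (Groth.Agent.H52.openIncl V W) ≫ ψ) ⟨v, hvW⟩ =
        AlgSp.Points.ofPt ψ v := Groth.Agent.H52.ofPt_yon_map_comp _ _ _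
    have hrep := hX.representable_from_yon ((AlgSp.yon S).map (Groth.Agent.H52.openIncl V W) ≫ ψ)
    obtain ⟨t, ht⟩ := (AlgSp.yon S).map_surjective
      (hrep.fst ((AlgSp.yon S).map (Groth.Agent.H52.openIncl V W) ≫ ψ))
    have hR := hrep.isPullback ((AlgSp.yon S).map (Groth.Agent.H52.openIncl V W) ≫ ψ)
    rw [← ht] at hR
    obtain ⟨-, h2⟩ := H (Over.mk (W.ι ≫ V.hom))
      ((AlgSp.yon S).map (Groth.Agent.H52.openIncl V W) ≫ ψ) hW hφ _ _ _ hR
    have hfin : {r : ↥(hrep.pullback ((AlgSp.yon S).map (Groth.Agent.H52.openIncl V W) ≫ ψ)).left |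
        t.left r = ⟨v, hvW⟩ ∧
          (hrep.snd ((AlgSp.yon S).map (Groth.Agent.H52.openIncl V W) ≫ ψ)).left r = ⟨v, hvW⟩}.Finite := by
      refine h2.subset ?_
      rintro r ⟨hr1, -⟩
      change AlgSp.Points.ofPt _ r = _
      rw [Groth.Agent.H52.ofPt_yon_map_comp, hr1, hu]
    obtain ⟨p, c, -, hm, -, hp⟩ := Groth.Agent.H52.exists_mono_point_of_chart hX _ hφ ⟨v, hvW⟩ _ t hR hfin
    have hpx : AlgSp.Points.mk p = AlgSp.Points.ofPt ψ v := hp.trans hu
    refine ⟨p, hpx, hm, ?_⟩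
    refine Groth.Agent.H52.repWith_quasiCompact_of_finite_fibres hX p hm ?_
    intro U' φ' haff het
    have hrep' := hX.representable_from_yon φ'
    obtain ⟨t', ht'⟩ := (AlgSp.yon S).map_surjective (hrep'.fst φ')
    have hR' := hrep'.isPullback φ'
    rw [← ht'] at hR'
    rw [hpx]
    exact (H U' φ' haff het _ _ _ hR').1
  · rintro ⟨p, hp, hm, hq⟩ U φ haff hφ R s t hR
    subst hp
    have hF : (AlgSp.Points.ofPt φ ⁻¹' {AlgSp.Points.mk p}).Finite :=
      Groth.Agent.H52.finite_fibre_of_quasiCompact_point p hq φ hφ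
    refine ⟨hF, ?_⟩
    have hfin2 : (⋃ u ∈ AlgSp.Points.ofPt φ ⁻¹' {AlgSp.Points.mk p},
        ⋃ u' ∈ AlgSp.Points.ofPt φ ⁻¹' {AlgSp.Points.mk p},
          {r : ↥R.left | s.left r = u ∧ t.left r = u'}).Finite := by
      refine hF.biUnion fun u hu => hF.biUnion fun u' hu' => ?_
      exact Groth.Agent.S10408.result X _ ⟨p, rfl, hm⟩ φ hφ u u' hu hu' R s t hR
    refine hfin2.subset ?_
    intro r hr
    have hr' : AlgSp.Points.ofPt ((AlgSp.yon S).map t ≫ φ) r = AlgSp.Points.mk p := hr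
    have h1 : AlgSp.Points.ofPt φ (t.left r) = AlgSp.Points.mk p := by
      rw [← Groth.Agent.H52.ofPt_yon_map_comp]; exact hr'
    have h2 : AlgSp.Points.ofPt φ (s.left r) = AlgSp.Points.mk p := by
      rw [← Groth.Agent.H52.ofPt_yon_map_comp, ← hR.w]; exact hr'
    simp only [Set.mem_iUnion]
    exact ⟨s.left r, h2, t.left r, h1, rfl, rfl⟩

end Groth.Agent.S10360
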