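import Groth.Statements.S1313
import Groth.Agent.H7.ThickeningAffine
import Groth.Agent.H7.NilpotentLift

set_option autoImplicit false
universe u
open FlatMor

namespace Groth.Agent.S1313

open AlgebraicGeometry CategoryTheory Limits in
/-- Let Y ⟶ Y' be a thickening, let X be the base change to Y of a scheme X' over Y', and assume both X
⟶ Y and X' ⟶ Y' are locally of finite type. Then X ⟶ Y is a closed immersion if and only if X' ⟶ Y'
is. -/
theorem result {X X' Y Y' : Scheme.{u}} (iX : X ⟶ X') (iY : Y ⟶ Y') (f : X ⟶ Y) (f' : X' ⟶ Y')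
    (hY : MoreMor.IsThickening iY) (hc : IsPullback iX f f' iY) [LocallyOfFiniteType f] [LocallyOfFiniteType f'] :
    IsClosedImmersion f ↔ IsClosedImmersion f' := by
  constructor
  · intro hf
    have := hY.1
    have := hY.2
    have hX := Groth.Agent.H7.isThickening_of_isPullback hc hY
    have hiX := Groth.Agent.H7.isThickening_isHomeomorph iX hX
    have hiY := Groth.Agent.H7.isThickening_isHomeomorph iY hY
    have hce : Topology.IsClosedEmbedding f' := by
      have h1 : (f' : X' → Y') ∘ iX = iY ∘ f := funext fun x ↦ by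
        simp only [Function.comp_apply]
        rw [← Scheme.Hom.comp_apply, ← Scheme.Hom.comp_apply, hc.w]
      have h2 : Topology.IsClosedEmbedding ((f' : X' → Y') ∘ iX) := by
        rw [h1]
        exact hiY.isClosedEmbedding.comp f.isClosedEmbedding
      have h3 : (f' : X' → Y') = ((f' : X' → Y') ∘ iX) ∘ hiX.homeomorph.symm := by
        ext x'
        simp only [Function.comp_apply]
        congr 1
        exact (hiX.homeomorph.apply_symm_apply x').symm
      rw [h3]
      exact h2.comp hiX.homeomorph.symm.isClosedEmbedding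
    have haff : IsAffineHom f' := isAffineHom_of_isInducing f' hce.isInducing hce.isClosed_range
    rw [isClosedImmersion_iff_isAffineHom]
    refine ⟨haff, fun V' hV' ↦ ?_⟩
    have hU' : IsAffineOpen (f' ⁻¹ᵁ V') := hV'.preimage f'
    obtain ⟨hVa, hUa, e', hpo, hsurj, hnil⟩ :=
      Groth.Agent.H7.thickening_affine_data hY hc hV' hU' le_rfl
    obtain ⟨hβ, hker⟩ := Groth.Agent.H7.surjective_and_ker_of_isPushout hpo hsurj
    have hft : (f'.appLE V' (f' ⁻¹ᵁ V') le_rfl).hom.FiniteType :=
      HasRingHomProperty.appLE @LocallyOfFiniteType f' inferInstance ⟨V', hV'⟩ ⟨_, hU'⟩ le_rfl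
    have key : ∀ (W : X.Opens) (_ : W = f ⁻¹ᵁ (iY ⁻¹ᵁ V')) (e : W ≤ f ⁻¹ᵁ (iY ⁻¹ᵁ V')),
        Function.Surjective (f.appLE (iY ⁻¹ᵁ V') W e).hom := by
      rintro W rfl e
      rw [← Scheme.Hom.app_eq_appLE]
      exact f.app_surjective _ hVa
    have hEq : iX ⁻¹ᵁ (f' ⁻¹ᵁ V') = f ⁻¹ᵁ (iY ⁻¹ᵁ V') := by
      rw [← Scheme.Hom.comp_preimage, ← Scheme.Hom.comp_preimage, hc.w]
    have hφ := key _ hEq e'
    have h4 := Groth.Agent.H7.ringHom_surjective_of_nil_of_finiteType _ _ _ _
      (congr($(hpo.w).hom)) hsurj hker hnil hft hφ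
    rw [← Scheme.Hom.app_eq_appLE] at h4
    exact h4
  · intro hf'
    exact MorphismProperty.of_isPullback hc hf'

end Groth.Agent.S1313
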