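import Groth.Statements.S1316
import Groth.Agent.H7.ThickeningAffine
import Groth.Agent.H7.NilpotentLift
import Groth.Agent.S1313

set_option autoImplicit false
universe u
open FlatMor

namespace Groth.Agent.S1316

open AlgebraicGeometry CategoryTheory Limits in
/-- Let Y ⟶ Y' be a thickening, let X be the base change to Y of a scheme X' over Y', and assume both X
⟶ Y and X' ⟶ Y' are locally of finite type. Then X ⟶ Y is an immersion if and only if X' ⟶ Y' is. -/
theorem result {X X' Y Y' : Scheme.{u}} (iX : X ⟶ X') (iY : Y ⟶ Y') (f : X ⟶ Y) (f' : X' ⟶ Y')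
    (hY : MoreMor.IsThickening iY) (hc : IsPullback iX f f' iY) [LocallyOfFiniteType f] [LocallyOfFiniteType f'] :
    IsImmersion f ↔ IsImmersion f' := by
  constructor
  · intro hf
    have := hY.1
    have := hY.2
    have hX := Groth.Agent.H7.isThickening_of_isPullback hc hY
    have := hX.2
    have hiY := Groth.Agent.H7.isThickening_isHomeomorph iY hY
    obtain ⟨Z, g, h, hg, hh, hgh⟩ := IsImmersion.isImmersion_iff_exists.mp hf
    -- the open of `Y'` corresponding to the range of `h`
    obtain ⟨W', hW'⟩ : ∃ W' : Y'.Opens, (iY ⁻¹ᵁ W' : Set Y) = Set.range h :=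
      ⟨⟨iY '' Set.range h, hiY.isOpenMap _ h.isOpenEmbedding.isOpen_range⟩,
        Set.preimage_image_eq _ iY.injective⟩
    have hr : Set.range f ⊆ Set.range (iY ⁻¹ᵁ W').ι := by
      rw [Scheme.Opens.range_ι, hW', ← hgh]
      rintro _ ⟨x, rfl⟩
      exact ⟨g x, rfl⟩
    have hr' : Set.range f' ⊆ Set.range W'.ι := by
      rw [Scheme.Opens.range_ι]
      rintro _ ⟨x', rfl⟩
      obtain ⟨x, rfl⟩ := iX.surjective x'
      have h1 : f' (iX x) = iY (f x) := by
        rw [← Scheme.Hom.comp_apply, ← Scheme.Hom.comp_apply, hc.w]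
      rw [h1]
      have h2 : f x ∈ (iY ⁻¹ᵁ W' : Set Y) := by
        have := hr ⟨x, rfl⟩
        rwa [Scheme.Opens.range_ι] at this
      exact h2
    -- `g₀ : X ⟶ iY ⁻¹ᵁ W'` is a closed immersion
    have hrange : Set.range h = Set.range (iY ⁻¹ᵁ W').ι := by
      rw [Scheme.Opens.range_ι, hW']
    have hg₀ : IsOpenImmersion.lift (iY ⁻¹ᵁ W').ι f hr =
        g ≫ (IsOpenImmersion.isoOfRangeEq h (iY ⁻¹ᵁ W').ι hrange).hom := by
      rw [← cancel_mono (iY ⁻¹ᵁ W').ι, IsOpenImmersion.lift_fac, Category.assoc,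
        IsOpenImmersion.isoOfRangeEq_hom_fac, hgh]
    have hcl : IsClosedImmersion (IsOpenImmersion.lift (iY ⁻¹ᵁ W').ι f hr) := by
      rw [hg₀]; infer_instance
    -- the restricted square
    have hcomm : IsOpenImmersion.lift (iY ⁻¹ᵁ W').ι f hr ≫ iY ∣_ W' =
        iX ≫ IsOpenImmersion.lift W'.ι f' hr' := by
      rw [← cancel_mono W'.ι, Category.assoc, morphismRestrict_ι,
        IsOpenImmersion.lift_fac_assoc, Category.assoc, IsOpenImmersion.lift_fac, hc.w]
    have hsq : IsPullback iX (IsOpenImmersion.lift (iY ⁻¹ᵁ W').ι f hr)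
        (IsOpenImmersion.lift W'.ι f' hr') (iY ∣_ W') := by
      refine (IsPullback.of_right ?_ hcomm (isPullback_morphismRestrict iY W').flip).flip
      rw [IsOpenImmersion.lift_fac, IsOpenImmersion.lift_fac]
      exact hc.flip
    have hYW : MoreMor.IsThickening (iY ∣_ W') :=
      ⟨inferInstance, IsZariskiLocalAtTarget.restrict ‹Surjective iY› W'⟩
    have hlft' : LocallyOfFiniteType (IsOpenImmersion.lift W'.ι f' hr') := by
      have : LocallyOfFiniteType (IsOpenImmersion.lift W'.ι f' hr' ≫ W'.ι) := by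
        rw [IsOpenImmersion.lift_fac]; infer_instance
      exact locallyOfFiniteType_of_comp _ W'.ι
    have hcl' : IsClosedImmersion (IsOpenImmersion.lift W'.ι f' hr') :=
      (Groth.Agent.S1313.result iX (iY ∣_ W') _ _ hYW hsq).mp hcl
    exact IsImmersion.isImmersion_iff_exists.mpr
      ⟨_, IsOpenImmersion.lift W'.ι f' hr', W'.ι, hcl', inferInstance, IsOpenImmersion.lift_fac _ _ _⟩
  · intro hf'
    exact MorphismProperty.of_isPullback hc hf'

end Groth.Agent.S1316
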