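import Groth.Statements.S10546
import Groth.Agent.H53.Basic
import Groth.Agent.H53.SchemeLemmas

set_option autoImplicit false
universe u
open CategoryTheory CategoryTheory.Limits AlgebraicGeometry
open AlgSp

namespace Groth.Agent.S10546

/-- The property of morphisms of algebraic spaces over S given by f is a monomorphism (of fppf sheaves,
equivalently of algebraic spaces) is fpqc local on the base: for an fpqc covering of an algebraic
space Y by algebraic spaces Y_i, a morphism f : X ⟶ Y of algebraic spaces and cartesian squares X_i
= Y_i ×_Y X, f has the property if and only if every X_i ⟶ Y_i has it. -/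
theorem result (S : Scheme.{u}) :
    AlgSp.IsLocalOnBase (AlgSp.IsFpqcCover (S := S)) (MorphismProperty.monomorphisms (AlgSp.Sp S)) := by
  intro ι Y Yi g hY hYi hcov X f hX Xi p q hXi hsq
  constructor
  · intro hf i
    have : Mono f := hf
    exact (hsq i).mono_snd_of_mono
  · intro hp
    have hp' : ∀ i, Mono (p i) := hp
    refine Groth.Agent.H53.mono_of_forall_yon f fun T a b hab => ?_
    -- reduce to affine `T`
    refine Groth.Agent.H53.yon_hom_ext_of_affine a b fun Z z hZ => ?_
    have hab' : ((yon S).map z ≫ a) ≫ f = ((yon S).map z ≫ b) ≫ f := by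
      rw [Category.assoc, Category.assoc, hab]
    generalize (yon S).map z ≫ a = a' at hab' ⊢
    generalize (yon S).map z ≫ b = b' at hab' ⊢
    -- the equalizer of `a'` and `b'`
    obtain ⟨E, e, hmono, heq, huniv⟩ := Groth.Agent.H53.exists_equalizer_of_diag hX.diag a' b'
    -- the fpqc covering refines
    obtain ⟨m, W, c, hWaff, hcflat, hcsurj, hlift⟩ := hcov.2 Z hZ (a' ≫ f)
    have hfac : ∀ j, ∃ l : W j ⟶ E, l ≫ e = c j := by
      intro j
      obtain ⟨i, l, hl⟩ := hlift j
      apply huniv
      have h1 : ((yon S).map (c j) ≫ a') ≫ f = l ≫ g i := by rw [Category.assoc, hl]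
      have h2 : ((yon S).map (c j) ≫ b') ≫ f = l ≫ g i := by rw [Category.assoc, ← hab', hl]
      have e1 : (hsq i).lift _ _ h1 = (hsq i).lift _ _ h2 := by
        rw [← cancel_mono (p i), (hsq i).lift_snd, (hsq i).lift_snd]
      rw [← (hsq i).lift_fst _ _ h1, e1, (hsq i).lift_fst]
    choose l hl using hfac
    have : IsAffine Z.left := hZ
    have : ∀ j, IsAffine (W j).left := hWaff
    have : ∀ j, Flat (c j).left := hcflat
    have : Mono e := hmono
    have hiso : IsIso e.left :=
      Groth.Agent.H53.isIso_of_mono_of_fpqc_factor e.left (fun j => (W j).left) (fun j => (c j).left) hcsurj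
        (fun j => (l j).left) (fun j => by rw [← Over.comp_left, hl])
    have : IsIso ((Over.forget S).map e) := hiso
    have : IsIso e := isIso_of_reflects_iso e (Over.forget S)
    rw [← cancel_epi ((yon S).map e)]
    exact heq

end Groth.Agent.S10546
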