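import Groth.Statements.S10532
import Groth.Agent.S10544
import Groth.Agent.S10546
import Groth.Agent.H53.LocSource
import Groth.Agent.H53.Epi

set_option autoImplicit false
universe u
open CategoryTheory CategoryTheory.Limits AlgebraicGeometry
open AlgSp

namespace Groth.Agent.S10532

/-- The property of morphisms of algebraic spaces over S given by f is an isomorphism is fpqc local on
the base: for an fpqc covering of an algebraic space Y by algebraic spaces Y_i, a morphism f : X ⟶ Y
of algebraic spaces and cartesian squares X_i = Y_i ×_Y X, f has the property if and only if every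
X_i ⟶ Y_i has it. -/
theorem result (S : Scheme.{u}) :
    AlgSp.IsLocalOnBase (AlgSp.IsFpqcCover (S := S)) (MorphismProperty.isomorphisms (AlgSp.Sp S)) := by
  intro ι Y Yi g hY hYi hcov X f hX Xi p q hXi hsq
  constructor
  · intro hf i
    have : IsIso f := hf
    exact (hsq i).isIso_snd_of_isIso
  · intro hp
    have hp' : ∀ i, IsIso (p i) := hp
    -- `f` is a monomorphism
    have hmono : Mono f :=
      (Groth.Agent.S10546.result S Yi g hY hYi hcov f hX Xi p q hXi hsq).2
        (fun i => (inferInstance : Mono (p i)))
    -- `f` is etale
    have het : IsEtaleMor f :=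
      (Groth.Agent.S10544.result S Yi g hY hYi hcov f hX Xi p q hXi hsq).2 (fun i U φ hφ => by
        exact ((RepWith @Etale).cancel_right_of_respectsIso φ (p i)).2 hφ)
    -- `f` is surjective
    have hsurj : IsSurjectiveMor f := by
      intro y
      obtain ⟨i, yi, hyi⟩ := Groth.Agent.H53.isFpqcCover_surjective_points Yi g hY hcov y
      refine ⟨Points.map (q i) (Points.map (inv (p i)) yi), ?_⟩
      rw [← Points.map_comp, ← Points.map_comp, (hsq i).w, IsIso.inv_hom_id_assoc]
      exact hyi
    have hepi : Epi f := Groth.Agent.H53.epi_of_isEtaleMor_of_isSurjectiveMor hX f het hsurj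
    exact isIso_of_mono_of_epi f

end Groth.Agent.S10532
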