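import Groth.Statements.S1434
import Mathlib.AlgebraicGeometry.IdealSheaf.Subscheme
import Mathlib.AlgebraicGeometry.Morphisms.ClosedImmersion

set_option autoImplicit false
universe u
open FlatMor

namespace Groth.Agent.S1434

open AlgebraicGeometry CategoryTheory Limits in
set_option backward.isDefEq.respectTransparency false in
/-- In a square-zero thickening, the product of two sections killed by the thickening is zero. -/
theorem mul_eq_zero_of_app_eq_zero {T T' : Scheme.{u}} (t : T ⟶ T') [QuasiCompact t]
    (ht : t.ker * t.ker = ⊥) (W : T'.Opens) (x y : Γ(T', W))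
    (hx : (t.app W).hom x = 0) (hy : (t.app W).hom y = 0) : x * y = 0 := by
  let ι := {V : T'.affineOpens // V.1 ≤ W}
  refine T'.sheaf.eq_of_locally_eq' (fun V : ι ↦ V.1.1) W (fun V ↦ homOfLE V.2) ?_ (x * y) 0 ?_
  · intro z hz
    obtain ⟨_, ⟨V, hV, rfl⟩, hzV, hVW⟩ :=
      T'.isBasis_affineOpens.exists_subset_of_mem_open hz W.isOpen
    exact TopologicalSpace.Opens.mem_iSup.mpr ⟨⟨⟨V, hV⟩, hVW⟩, hzV⟩
  · rintro ⟨V, hVW⟩
    change (T'.presheaf.map (homOfLE hVW).op).hom (x * y) = (T'.presheaf.map (homOfLE hVW).op).hom 0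
    rw [map_mul, map_zero]
    have hmem : ∀ z : Γ(T', W), (t.app W).hom z = 0 →
        (T'.presheaf.map (homOfLE hVW).op).hom z ∈ t.ker.ideal V := by
      intro z hz
      rw [t.ker_apply V, RingHom.mem_ker]
      have := congr(($(t.naturality (homOfLE hVW).op)).hom z)
      simp only [CommRingCat.hom_comp, RingHom.comp_apply] at this
      rw [this, hz, map_zero]
    have h1 := Ideal.mul_mem_mul (hmem x hx) (hmem y hy)
    have h2 := congr($(ht).ideal V)
    rw [Scheme.IdealSheafData.ideal_mul, Pi.mul_apply] at h2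
    rw [h2] at h1
    exact h1

open AlgebraicGeometry CategoryTheory Limits in
set_option backward.isDefEq.respectTransparency false in
/-- Part (1), for a closed subscheme: let Z ⊂ X be the closed subscheme cut out by an ideal sheaf I and
Z' the one cut out by I², its first order infinitesimal neighbourhood. Given a first order
thickening T → T', a morphism a : T → Z and a morphism b : T' → X compatible with them, there is a
unique morphism T' → Z' through which b factors (compatibility with a is then automatic). -/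
theorem result {X T T' : Scheme.{u}} (I : X.IdealSheafData) (t : T ⟶ T') (ht : MoreMor.IsFirstOrderThickening t)
    (a : T ⟶ I.subscheme) (b : T' ⟶ X) (w : a ≫ I.subschemeι = t ≫ b) :
    ∃! a' : T' ⟶ (I ^ 2).subscheme, a' ≫ (I ^ 2).subschemeι = b := by
  obtain ⟨⟨hci, -⟩, hker⟩ := ht
  have hle : ((I ^ 2).subschemeι).ker ≤ b.ker := by
    rw [Scheme.IdealSheafData.ker_subschemeι, Scheme.Hom.ker, Scheme.IdealSheafData.le_ofIdeals_iff]
    intro U
    change (I.ideal U) ^ 2 ≤ RingHom.ker (b.app U).hom
    rw [pow_two, Ideal.mul_le]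
    intro s₁ hs₁ s₂ hs₂
    rw [RingHom.mem_ker, map_mul]
    have h1 : ∀ s ∈ I.ideal U, (t.app (b ⁻¹ᵁ U)).hom ((b.app U).hom s) = 0 := by
      intro s hs
      have h2 := Scheme.Hom.congr_app w.symm U
      have h3 : ((a ≫ I.subschemeι).app U).hom s = 0 := by
        rw [Scheme.Hom.comp_app, CommRingCat.hom_comp, RingHom.comp_apply]
        have : (I.subschemeι.app U).hom s = 0 := by
          rw [← RingHom.mem_ker, I.ker_subschemeι_app U]
          exact hs
        rw [this, map_zero]
      have h4 : ((t ≫ b).app U).hom s = 0 := by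
        rw [h2, CommRingCat.hom_comp, RingHom.comp_apply, h3, map_zero]
      rw [Scheme.Hom.comp_app, CommRingCat.hom_comp, RingHom.comp_apply] at h4
      exact h4
    exact mul_eq_zero_of_app_eq_zero t hker _ _ _ (h1 s₁ hs₁) (h1 s₂ hs₂)
  refine ⟨IsClosedImmersion.lift (I ^ 2).subschemeι b hle, IsClosedImmersion.lift_fac _ _ _, ?_⟩
  intro a' ha'
  rw [← cancel_mono (I ^ 2).subschemeι, ha', IsClosedImmersion.lift_fac]

end Groth.Agent.S1434
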