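import Groth.Statements.S1343
import Groth.Agent.H49.CMChartMain

set_option autoImplicit false
universe u
open FlatMor

namespace Groth.Agent.S1343

open AlgebraicGeometry CategoryTheory Limits in
/-- (1) ⇔ (3): let f be flat and locally of finite presentation and let x be a point whose fibre has
local dimension d at x. Then f is Cohen–Macaulay at x if and only if some open neighbourhood of x
admits a flat, locally quasi-finite morphism to affine d-space over the base, compatible with the
structure morphisms. -/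
theorem result {X S : Scheme.{u}} (f : X ⟶ S) [Flat f] [LocallyOfFinitePresentation f]
    (x : X) (d : ℕ) (hd : FlatMor.fibreDimAt f x = d) :
    MoreMor.IsCMAt f x ↔ ∃ (U : X.Opens) (g : (U : Scheme.{u}) ⟶ 𝔸(ULift.{u} (Fin d); S)), x ∈ U ∧
      g ≫ (𝔸(ULift.{u} (Fin d); S) ↘ S) = U.ι ≫ f ∧ Flat g ∧ LocallyQuasiFinite g := by
  have hlft : LocallyOfFiniteType f := inferInstance
  constructor
  · intro hcm
    obtain ⟨U, hx, g, hg, hq, hlfp, hfl⟩ :=
      Groth.Agent.H49.CMChartMain.exists_chart_of_isCMAt f x hcm d hd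
    have hopen : IsOpen {z : (U : Scheme.{u}) | (g.stalkMap z).hom.Flat} :=
      Groth.Agent.S0386.result g
    let W : (U : Scheme.{u}).Opens := ⟨_, hopen⟩
    let U' : X.Opens := U.ι ''ᵁ W
    have hU'U : U' ≤ U := by
      rintro _ ⟨w, -, rfl⟩
      exact w.2
    have hxU' : x ∈ U' := ⟨⟨x, hx⟩, hfl, rfl⟩
    refine ⟨U', X.homOfLE hU'U ≫ g, hxU', ?_, ?_, inferInstance⟩
    · rw [Category.assoc, hg, Scheme.homOfLE_ι_assoc]
    · rw [Flat.iff_flat_stalkMap]
      intro z
      rw [Scheme.Hom.stalkMap_comp]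
      refine (RingHom.Flat.respectsIso.cancel_right_isIso _ _).mpr ?_
      obtain ⟨w, hw, hwz⟩ := z.2
      have : (X.homOfLE hU'U) z = w := by
        apply U.ι.isOpenEmbedding.injective
        rw [← Scheme.Hom.comp_apply, Scheme.homOfLE_ι]
        exact hwz.symm
      rw [this]
      exact hw
  · rintro ⟨U, g, hx, hg, hfl, hq⟩
    exact Groth.Agent.H49.CMChart.isCMAt_of_chart f x (ULift.{u} (Fin d)) U hx g hg
      (g.quasiFiniteAt ⟨x, hx⟩) (Flat.stalkMap g ⟨x, hx⟩)

end Groth.Agent.S1343
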