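import Groth.Statements.S10678
import Groth.Agent.H53.BCCharts
import Groth.Agent.H53.FibreDimChart
import Groth.Agent.H49.FibreDimAtBC
import Groth.Agent.H51.SpBasic
import Groth.Agent.H51.SpDim2
import Groth.Agent.H51.SpField3
import Groth.Agent.H51.SpQuasiFiniteAt
import Groth.Agent.H17.Chev.BC
import Groth.Agent.H17.Chev.Irreducible
import Groth.Agent.H17.Chev.FibreLocal

set_option autoImplicit false
universe u
open CategoryTheory CategoryTheory.Limits AlgebraicGeometry
open AlgSp

namespace Groth.Agent.S10678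

/-- For a morphism f : X ⟶ Y of finite type between algebraic spaces over S, a point y of |Y| and any
field point k of Y in the class of y, with fibre X_k (pullback in fppf sheaves): the dimension of
X_k (supremum of the dimensions of its etale scheme charts) is -∞ exactly when y lies outside the
image of |X|, and for every natural number d it is at most d exactly when f has relative dimension
at most d at every point of |X| over y (some etale chart diagram through the point whose top arrow
has local fibre dimension at most d there). -/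
theorem result {S : Scheme.{u}} {X Y : AlgSp.Space S} (f : X ⟶ Y) (hf : AlgSp.IsFiniteTypeMor f.hom)
    (y : AlgSp.Points Y.obj) (k : AlgSp.FieldPt Y.obj) (hk : AlgSp.Points.mk k = y)
    (Xk : AlgSp.Sp S) (fst : Xk ⟶ X.obj) (snd : Xk ⟶ (AlgSp.yon S).obj k.pt) (h : IsPullback fst snd f.hom k.toHom) :
    (AlgSp.dim Xk = ⊥ ↔ y ∉ Set.range (AlgSp.Points.map f.hom)) ∧
      ∀ d : ℕ, (AlgSp.dim Xk ≤ d ↔
        ∀ x : AlgSp.Points X.obj, AlgSp.Points.map f.hom x = y →
          AlgSp.HasAtMor (fun _ _ h u => FlatMor.fibreDimAt h u ≤ (d : WithBot ℕ∞)) f.hom x) := by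
  have hXk : IsAlgSpace Xk :=
    Groth.Agent.H49.isAlgSpace_of_isPullback h Y.property.diag X.property (IsAlgSpace.yon_obj k.pt)
  obtain ⟨U, V, U', V', a, b, a', b', h₀, h', g, v, haE, haS, hbE, hbS, ha'E, ha'S, hb'E, hb'S,
    e, e', eg, ev, sqS⟩ := Groth.Agent.H53.exists_baseChange_charts X.property Y.property
      (IsAlgSpace.yon_obj k.pt) f.hom k.toHom fst snd h
  have : LocallyOfFiniteType h₀.left := hf.1 a b h₀ haE hbE e
  -- `V'` is discrete
  obtain ⟨β, hβ⟩ := (yon S).map_surjective b'
  have hβE : Etale β.left := (repWith_yon_map_iff @Etale β).1 (hβ ▸ hb'E)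
  have hdisc : DiscreteTopology ↥V'.left := Groth.Agent.H51.discreteTopology_of_etale_field β.left
  -- the local fibre dimension of `h'` is the local dimension of `U'`
  have hD2 : ∀ u' : ↥U'.left, FlatMor.fibreDimAt h'.left u' = FlatMor.localDim ↥U'.left u' := by
    intro u'
    rw [Groth.Agent.H17.Chev.fibreDimAt_eq]
    have hopen : IsOpen (h'.left.base ⁻¹' {h'.left.base u'}) :=
      (isOpen_discrete _).preimage h'.left.continuous
    exact (Groth.Agent.H17.Chev.localDim_eq_of_isOpenEmbedding
      hopen.isOpenEmbedding_subtypeVal ⟨u', rfl⟩)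
  have hD1 : ∀ u' : ↥U'.left,
      FlatMor.localDim ↥U'.left u' = FlatMor.fibreDimAt h₀.left (g.left u') := fun u' =>
    (hD2 u').symm.trans
      (Groth.Agent.H49.FibreDimAtBC.fibreDimAt_eq_of_isPullback h₀.left v.left h'.left g.left sqS u')
  -- points of `Xk` lie over `y`
  have hover : ∀ x' : Points Xk, Points.map f.hom (Points.map fst x') = y := by
    intro x'
    rw [← Points.map_comp, h.w, Points.map_comp, ← hk]
    obtain ⟨t, ht⟩ := (Points.schemeEquiv k.pt).surjective (Points.map snd x')
    rw [← ht]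
    change Points.map k.toHom (Points.ofScheme k.pt t) = _
    rw [← Points.ofPt_eq_map_ofScheme]
    exact Points.ofPt_toHom k t
  have hpt : ∀ u' : ↥U'.left, Points.ofPt a (g.left u') = Points.map fst (Points.ofPt a' u') := by
    intro u'
    rw [Points.map_ofPt, eg, Groth.Agent.H51.ofPt_map_comp]
  -- points over `y` lift
  have hlift : ∀ x : Points X.obj, Points.map f.hom x = y →
      ∃ u' : ↥U'.left, Points.ofPt a (g.left u') = x := by
    intro x hx
    have hxy : Points.map f.hom x =
        Points.map k.toHom (Points.ofScheme k.pt (IsLocalRing.closedPoint k.K)) := by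
      rw [hx, ← hk, ← Points.ofPt_eq_map_ofScheme]
      exact (Points.ofPt_toHom k _).symm
    obtain ⟨x', hx'1, -⟩ := Groth.Agent.H53.exists_point_of_isPullback h x _ hxy
    obtain ⟨u', hu'⟩ := Groth.Agent.H51.surjective_ofPt_of_surjective a' ha'S x'
    exact ⟨u', by rw [hpt, hu', hx'1]⟩
  have hdimU' : topologicalKrullDim ↥U'.left ≤ AlgSp.dim Xk :=
    le_iSup_of_le U' (le_iSup_of_le a' (le_iSup_of_le ha'E le_rfl))
  refine ⟨⟨fun hbot hy => ?_, fun hy => ?_⟩, fun d => ⟨fun hle x hx => ?_, fun H => ?_⟩⟩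
  · obtain ⟨x, hx⟩ := hy
    obtain ⟨u', -⟩ := hlift x hx
    have h0 := Groth.Agent.H51.topologicalKrullDim_nonneg_of_mem u'
    rw [hbot] at hdimU'
    exact absurd (h0.trans hdimU') (by simp)
  · rw [eq_bot_iff]
    unfold AlgSp.dim
    refine iSup_le fun W => iSup_le fun c => iSup_le fun hc => ?_
    haveI : IsEmpty ↥W.left := ⟨fun w => hy ⟨_, hover (Points.ofPt c w)⟩⟩
    rw [Groth.Agent.H17.Chev.topologicalKrullDim_eq_bot_of_isEmpty]
  · obtain ⟨u', hu'⟩ := hlift x hx
    refine ⟨U, V, a, b, h₀, g.left u', haE, hbE, e, hu', ?_⟩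
    change FlatMor.fibreDimAt h₀.left (g.left u') ≤ d
    rw [← hD1]
    exact (Groth.Agent.H17.Chev.localDim_le_dim u').trans (hdimU'.trans hle)
  · unfold AlgSp.dim
    refine iSup_le fun W => iSup_le fun c => iSup_le fun hc => ?_
    rw [Groth.Agent.H17.Chev.topologicalKrullDim_eq_iSup_localDim]
    refine iSup_le fun w => ?_
    obtain ⟨u', hu'⟩ := Groth.Agent.H51.surjective_ofPt_of_surjective a' ha'S (Points.ofPt c w)
    rw [Groth.Agent.H51.localDim_chart_indep c hc a' ha'E w u' hu'.symm, hD1]
    have hxy : Points.map f.hom (Points.ofPt a (g.left u')) = y := by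
      rw [hpt]; exact hover _
    obtain ⟨U₁, V₁, a₁, b₁, h₁, u₁, ha₁, hb₁, e₁, hu₁, hd₁⟩ := H _ hxy
    rw [Groth.Agent.H53.fibreDimAt_chart_indep f.hom a b h₀ a₁ b₁ h₁ haE hbE ha₁ hb₁ e e₁
      (g.left u') u₁ hu₁.symm]
    exact hd₁

end Groth.Agent.S10678
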