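import Groth.Statements.S2144
import Groth.Agent.H1.FlatDescSub

set_option autoImplicit false
universe u
open CAlg

namespace Groth.Agent.S2144

open TensorProduct in
/-- Let `R → A → B` be ring maps with `A → B` faithfully flat and of finite presentation. Then there are
an `R`-algebra `A₀` of finite presentation mapping to `A` and a faithfully flat finitely presented
`A₀`-algebra `B₀` with `B ≅ A ⊗_{A₀} B₀` as `A`-algebras. -/
theorem result {R A B : Type u} [CommRing R] [CommRing A] [CommRing B] [Algebra R A]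
    [Algebra A B] [Algebra.FinitePresentation A B] [Module.FaithfullyFlat A B] :
    ∃ (A₀ B₀ : Type u) (_ : CommRing A₀) (_ : CommRing B₀) (_ : Algebra R A₀) (_ : Algebra A₀ A) (_ : IsScalarTower R A₀ A)
      (_ : Algebra A₀ B₀), Algebra.FinitePresentation R A₀ ∧ Algebra.FinitePresentation A₀ B₀ ∧ Module.FaithfullyFlat A₀ B₀ ∧
      Nonempty (B ≃ₐ[A] A ⊗[A₀] B₀) := by
  classical
  obtain ⟨C, _, _, BC, _, _, hft, -, hBC, hC, ⟨e₀⟩⟩ :=
    Groth.Agent.H1.FlatDescSub.exists_model_faithfullyFlat A B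
  -- `C` is finitely presented over `ℤ`
  have hfp : Algebra.FinitePresentation ℤ C := Algebra.FinitePresentation.of_finiteType.mp hft
  -- `A₀ := R ⊗[ℤ] C`
  let φ : R ⊗[ℤ] C →ₐ[R] A :=
    Algebra.TensorProduct.lift (Algebra.ofId R A) ((Algebra.ofId C A).restrictScalars ℤ)
      (fun _ _ => Commute.all _ _)
  let algA₀A : Algebra (R ⊗[ℤ] C) A := φ.toRingHom.toAlgebra
  have tower₁ : IsScalarTower R (R ⊗[ℤ] C) A := by
    refine ⟨fun r x a => ?_⟩
    change φ (r • x) * a = r • (φ x * a)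
    rw [map_smul, smul_mul_assoc]
  let algCA₀ : Algebra C (R ⊗[ℤ] C) := Algebra.TensorProduct.rightAlgebra
  have tower₂ : IsScalarTower C (R ⊗[ℤ] C) A := by
    refine ⟨fun c x a => ?_⟩
    change φ (c • x) * a = c • (φ x * a)
    have h1 : c • x = ((1 : R) ⊗ₜ[ℤ] c) * x := by
      rw [Algebra.smul_def]
      rfl
    rw [h1, map_mul, mul_assoc, Algebra.smul_def]
    congr 1
    simp [φ]
  refine ⟨R ⊗[ℤ] C, (R ⊗[ℤ] C) ⊗[C] BC, inferInstance,
    inferInstance, inferInstance, algA₀A, tower₁, inferInstance, inferInstance, inferInstance,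
    inferInstance, ⟨?_⟩⟩
  exact e₀.trans (Algebra.TensorProduct.cancelBaseChange C (R ⊗[ℤ] C) A A BC).symm

end Groth.Agent.S2144
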