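import Groth.Statements.S0113
import Groth.Agent.S2144
import Groth.Agent.H1.FFDescent

set_option autoImplicit false
universe u
open EtBase

namespace Groth.Agent.S0113

/-- Finite type can be tested after a faithfully flat, finitely presented extension: given ring maps R →
A → B with B faithfully flat and of finite presentation over A, if B is of finite type over R then A
is of finite type over R. -/
theorem result {R A B : Type u} [CommRing R] [CommRing A] [CommRing B] [Algebra R A] [Algebra A B]
    [Algebra R B] [IsScalarTower R A B] [Algebra.FiniteType R B]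
    [Module.FaithfullyFlat A B] [Algebra.FinitePresentation A B] : Algebra.FiniteType R A := by
  classical
  obtain ⟨A₀, B₀, _, _, _, _, _, _, hA₀, hB₀, hff, ⟨e⟩⟩ :=
    Groth.Agent.S2144.result (R := R) (A := A) (B := B)
  -- generators of `B`
  obtain ⟨SB, hSB⟩ := (Algebra.FiniteType.out : (⊤ : Subalgebra R B).FG)
  have hdec : ∀ b : B, ∃ S : Finset (A × B₀), e b = ∑ i ∈ S, i.1 ⊗ₜ[A₀] i.2 :=
    fun b => TensorProduct.exists_finset (e b)
  choose Sdec hSdec using hdec
  let T : Finset A := SB.biUnion (fun b => (Sdec b).image Prod.fst)
  let f : MvPolynomial T A₀ →ₐ[A₀] A := MvPolynomial.aeval (fun t : T => (t : A))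
  have hsurj : Function.Surjective (Algebra.TensorProduct.map f (AlgHom.id A₀ B₀)) := by
    have key : ∀ b : B, e b ∈ (Algebra.TensorProduct.map f (AlgHom.id A₀ B₀)).range := by
      intro b
      have hb : b ∈ Algebra.adjoin R (SB : Set B) := by
        rw [hSB]
        trivial
      induction hb using Algebra.adjoin_induction with
      | mem x hx =>
        rw [hSdec x]
        refine Subalgebra.sum_mem _ fun i hi => ?_
        have hiT : i.1 ∈ T :=
          Finset.mem_biUnion.mpr ⟨x, hx, Finset.mem_image_of_mem _ hi⟩
        exact ⟨(MvPolynomial.X ⟨i.1, hiT⟩) ⊗ₜ i.2, by simp [f]⟩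
      | algebraMap r =>
        have : e (algebraMap R B r) =
            algebraMap A₀ (TensorProduct A₀ A B₀) (algebraMap R A₀ r) := by
          rw [IsScalarTower.algebraMap_apply R A B, e.commutes,
            IsScalarTower.algebraMap_apply R A₀ A, Algebra.TensorProduct.algebraMap_apply,
            Algebra.TensorProduct.algebraMap_apply]
          rfl
        rw [this]
        exact Subalgebra.algebraMap_mem _ _
      | add x y _ _ hx hy =>
        rw [map_add]
        exact Subalgebra.add_mem _ hx hy
      | mul x y _ _ hx hy =>
        rw [map_mul]
        exact Subalgebra.mul_mem _ hx hy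
    intro x
    obtain ⟨b, rfl⟩ := e.surjective x
    exact key b
  have hf : Function.Surjective f := Groth.Agent.H1.FFDescent.surjective_of_map_surjective f hsurj
  have h1 : Algebra.FiniteType R A₀ := inferInstance
  have h2 : Algebra.FiniteType R (MvPolynomial T A₀) :=
    Algebra.FiniteType.trans (S := A₀) h1 inferInstance
  exact Algebra.FiniteType.of_surjective (f.restrictScalars R) hf

end Groth.Agent.S0113
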