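import Groth.Statements.S0112
import Groth.Agent.S2144
import Groth.Agent.S0113

set_option autoImplicit false
universe u
open EtBase

namespace Groth.Agent.S0112

/-- Finite presentation of an R-algebra A can be tested after passing to an A-algebra B that is
faithfully flat and finitely presented over A: if B is finitely presented over R, then so is A. -/
theorem result {R A B : Type u} [CommRing R] [CommRing A] [CommRing B] [Algebra R A] [Algebra A B]
    [Algebra R B] [IsScalarTower R A B] [Algebra.FinitePresentation R B]
    [Module.FaithfullyFlat A B] [Algebra.FinitePresentation A B] : Algebra.FinitePresentation R A := by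
  classical
  have hftB : Algebra.FiniteType R B := inferInstance
  have hftA : Algebra.FiniteType R A := Groth.Agent.S0113.result (R := R) (A := A) (B := B)
  obtain ⟨A₀, B₀, _, _, _, _, _, _, hA₀, hB₀, hff, ⟨e⟩⟩ :=
    Groth.Agent.S2144.result (R := R) (A := A) (B := B)
  obtain ⟨n, g, hg⟩ := Algebra.FiniteType.iff_quotient_mvPolynomial''.mp hftA
  let f : MvPolynomial (Fin n) A₀ →ₐ[A₀] A := MvPolynomial.aeval (fun i => g (MvPolynomial.X i))
  have hf : Function.Surjective f := by
    intro a
    obtain ⟨p, rfl⟩ := hg a
    refine ⟨MvPolynomial.map (algebraMap R A₀) p, ?_⟩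
    have h1 : f (MvPolynomial.map (algebraMap R A₀) p) =
        MvPolynomial.aeval (fun i => g (MvPolynomial.X i)) p := by
      change MvPolynomial.aeval (fun i => g (MvPolynomial.X i))
        (MvPolynomial.map (algebraMap R A₀) p) = _
      rw [MvPolynomial.aeval_def, MvPolynomial.aeval_def, MvPolynomial.eval₂_map,
        ← IsScalarTower.algebraMap_eq R A₀ A]
    rw [h1]
    have h2 : (MvPolynomial.aeval (fun i => g (MvPolynomial.X i)) :
        MvPolynomial (Fin n) R →ₐ[R] A) = g := by
      apply MvPolynomial.algHom_ext
      intro i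
      simp
    rw [h2]
  have hρ : Function.Surjective (Algebra.TensorProduct.map f (AlgHom.id A₀ B₀)) :=
    Algebra.TensorProduct.map_surjective f (AlgHom.id A₀ B₀) hf Function.surjective_id
  have hker := Algebra.TensorProduct.rTensor_ker (R := A₀) (S := A₀) (C := B₀) f hf
  -- finite presentation over `R`
  have hfpD : Algebra.FinitePresentation R (MvPolynomial (Fin n) A₀) :=
    Algebra.FinitePresentation.trans R A₀ (MvPolynomial (Fin n) A₀)
  have hfpBD : Algebra.FinitePresentation R (TensorProduct A₀ (MvPolynomial (Fin n) A₀) B₀) :=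
    Algebra.FinitePresentation.trans R (MvPolynomial (Fin n) A₀) _
  let ψ : TensorProduct A₀ (MvPolynomial (Fin n) A₀) B₀ →ₐ[R] B :=
    ((e.symm : TensorProduct A₀ A B₀ →ₐ[A] B).restrictScalars R).comp
      ((Algebra.TensorProduct.map f (AlgHom.id A₀ B₀)).restrictScalars R)
  have hψ : Function.Surjective ψ := e.symm.surjective.comp hρ
  have hkerψ : (RingHom.ker ψ.toRingHom).FG := Algebra.FinitePresentation.ker_fG_of_surjective ψ hψ
  have hkereq : RingHom.ker ψ.toRingHom =
      RingHom.ker (Algebra.TensorProduct.map f (AlgHom.id A₀ B₀)) := by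
    ext x
    simp only [RingHom.mem_ker]
    change e.symm (Algebra.TensorProduct.map f (AlgHom.id A₀ B₀) x) = 0 ↔ _
    rw [EmbeddingLike.map_eq_zero_iff]
  rw [hkereq, hker] at hkerψ
  have hfg : (RingHom.ker f.toRingHom).FG :=
    Ideal.FG.of_FG_map_of_faithfullyFlat
      (S := TensorProduct A₀ (MvPolynomial (Fin n) A₀) B₀) hkerψ
  exact Algebra.FinitePresentation.of_surjective (f := f.restrictScalars R) hf hfg

end Groth.Agent.S0112
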