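import Groth.Statements.S10686
import Groth.Agent.H53.GeomRedFibre

set_option autoImplicit false
universe u
open CategoryTheory CategoryTheory.Limits AlgebraicGeometry
open AlgSp

namespace Groth.Agent.S10686

/-- For a morphism f : X ⟶ Y between algebraic spaces over S and a point y of |Y|, write X_k for the
fibre (pullback in fppf sheaves) over a field point k of Y and call X_k geometrically reduced when
for every field homomorphism k ⟶ k' the base change X_{k'} is reduced (some etale surjective scheme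
chart reduced). The following are equivalent: (1) X_k is geometrically reduced for some k in the
class of y; (2) X_k is geometrically reduced for every k in the class of y; (3) X_k is reduced for
every k in the class of y. -/
theorem result {S : Scheme.{u}} {X Y : AlgSp.Space S} (f : X ⟶ Y) (y : AlgSp.Points Y.obj) :
    [∃ (k : AlgSp.FieldPt Y.obj), AlgSp.Points.mk k = y ∧
        ∀ (k' : Type u) [Field k'] (φ : k.K →+* k') (Xk' : AlgSp.Sp S) (a : Xk' ⟶ X.obj)
          (b : Xk' ⟶ (AlgSp.yon S).obj (Over.mk (Spec.map (CommRingCat.ofHom φ) ≫ k.str))),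
          IsPullback a b f.hom ((AlgSp.yon S).map (Over.homMk (Spec.map (CommRingCat.ofHom φ)) rfl :
            Over.mk (Spec.map (CommRingCat.ofHom φ) ≫ k.str) ⟶ k.pt) ≫ k.toHom) →
          AlgSp.EtaleLocally (fun U => IsReduced U) Xk',
      ∀ (k : AlgSp.FieldPt Y.obj), AlgSp.Points.mk k = y →
        ∀ (k' : Type u) [Field k'] (φ : k.K →+* k') (Xk' : AlgSp.Sp S) (a : Xk' ⟶ X.obj)
          (b : Xk' ⟶ (AlgSp.yon S).obj (Over.mk (Spec.map (CommRingCat.ofHom φ) ≫ k.str))),
          IsPullback a b f.hom ((AlgSp.yon S).map (Over.homMk (Spec.map (CommRingCat.ofHom φ)) rfl :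
            Over.mk (Spec.map (CommRingCat.ofHom φ) ≫ k.str) ⟶ k.pt) ≫ k.toHom) →
          AlgSp.EtaleLocally (fun U => IsReduced U) Xk',
      ∀ (k : AlgSp.FieldPt Y.obj), AlgSp.Points.mk k = y →
        ∀ (Xk : AlgSp.Sp S) (a : Xk ⟶ X.obj) (b : Xk ⟶ (AlgSp.yon S).obj k.pt), IsPullback a b f.hom k.toHom →
          AlgSp.EtaleLocally (fun U => IsReduced U) Xk].TFAE := by
  have hfield : ∀ (K Ω : Type u) [Field K] [Field Ω]
      (g : Spec (CommRingCat.of Ω) ⟶ Spec (CommRingCat.of K)), Flat g ∧ Surjective g := by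
    intro K Ω _ _ g
    obtain ⟨ψ, rfl⟩ := Spec.map_surjective g
    refine ⟨?_, ?_⟩
    · rw [HasRingHomProperty.Spec_iff (P := @Flat)]
      let _ := ψ.hom.toAlgebra
      change Module.Flat K Ω
      infer_instance
    · constructor
      intro y
      exact ⟨(⟨⊥, Ideal.isPrime_bot⟩ : PrimeSpectrum Ω), Subsingleton.elim (α := PrimeSpectrum K) _ _⟩
  tfae_have 2 → 1 := by
    intro h2
    obtain ⟨k, rfl⟩ := AlgSp.Points.mk_surjective y
    exact ⟨k, rfl, h2 k rfl⟩
  tfae_have 3 → 2 := by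
    intro h3 k hk k' _ φ Xk' a b sq
    let k'' : AlgSp.FieldPt Y.obj := Groth.Agent.H53.fieldPtOfHom k'
      (Spec.map (CommRingCat.ofHom φ) ≫ k.str)
      ((AlgSp.yon S).map (Over.homMk (Spec.map (CommRingCat.ofHom φ)) rfl :
        Over.mk (Spec.map (CommRingCat.ofHom φ) ≫ k.str) ⟶ k.pt) ≫ k.toHom)
    have hk'' : AlgSp.Points.mk k'' = y :=
      (Groth.Agent.H53.mk_fieldPtOfHom_comp k k' _ _).trans hk
    have ht : k''.toHom = (AlgSp.yon S).map (Over.homMk (Spec.map (CommRingCat.ofHom φ)) rfl :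
        Over.mk (Spec.map (CommRingCat.ofHom φ) ≫ k.str) ⟶ k.pt) ≫ k.toHom :=
      Groth.Agent.H53.fieldPtOfHom_toHom _ _ _
    refine h3 k'' hk'' Xk' a b ?_
    rw [ht]
    exact sq
  tfae_have 1 → 3 := by
    rintro ⟨k₀, hk₀, hGR⟩ k hk Xk a b sq
    have hrel : AlgSp.FieldPt.Rel k k₀ := AlgSp.Points.mk_eq_mk_iff.1 (hk.trans hk₀.symm)
    rw [Groth.Agent.H53.rel_iff_toHom] at hrel
    obtain ⟨Ω, _, w, α, β, hαβ⟩ := hrel
    obtain ⟨ψ, hψ⟩ := Spec.map_surjective β.left
    have hw : w = Spec.map (CommRingCat.ofHom ψ.hom) ≫ k₀.str := by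
      have := Over.w β
      change β.left ≫ k₀.str = w at this
      rw [← this, ← hψ]
      rfl
    subst hw
    have hβ : β = (Over.homMk (Spec.map (CommRingCat.ofHom ψ.hom)) rfl :
        Over.mk (Spec.map (CommRingCat.ofHom ψ.hom) ≫ k₀.str) ⟶ k₀.pt) := by
      apply Over.OverMorphism.ext
      exact hψ.symm
    obtain ⟨P, a', b', sq'⟩ : ∃ (P : AlgSp.Sp S) (a' : P ⟶ X.obj)
        (b' : P ⟶ (AlgSp.yon S).obj (Over.mk (Spec.map (CommRingCat.ofHom ψ.hom) ≫ k₀.str))),
        IsPullback a' b' f.hom ((AlgSp.yon S).map α ≫ k.toHom) :=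
      ⟨_, _, _, IsPullback.of_hasPullback f.hom ((AlgSp.yon S).map α ≫ k.toHom)⟩
    have sq'' := sq'
    rw [hαβ, hβ] at sq''
    have hred := hGR Ω ψ.hom P a' b' sq''
    exact Groth.Agent.H53.isReducedSp_of_flat_surjective_baseChange f k.toHom α
      (hfield _ _ α.left).1 (hfield _ _ α.left).2 a b sq a' b' sq' hred
  tfae_finish

end Groth.Agent.S10686
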