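import Groth.Statements.S3625
import Groth.Agent.H26.GorMorBC

set_option autoImplicit false
universe u
open CategoryTheory CategoryTheory.Limits AlgebraicGeometry
attribute [local instance] HasDerivedCategory.standard
open Dual3

namespace Groth.Agent.S3625

/-- Let f : X → Y be a morphism of schemes all of whose fibres are locally Noetherian, g : Y' → Y
locally of finite type, and X' = Y' ×_Y X with projections f' : X' → Y', g' : X' → X. Let x' be a
point of X' with image x in X. Then: (1) Gorensteinness of f at x passes to f' at x'; (2)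
conversely, f' being Gorenstein at x' forces f to be Gorenstein at x as long as f is flat at x; (3)
the same converse holds when instead g is flat at the point f'(x'). -/
theorem result (X Y X' Y' : Scheme.{u}) (f : X ⟶ Y) (g : Y' ⟶ Y) (f' : X' ⟶ Y') (g' : X' ⟶ X) (hsq : IsPullback g' f' f g) (hfibf : ∀ y, IsLocallyNoetherian (f.fiber y)) [LocallyOfFiniteType g] (x' : X') : (Dual3.IsGorensteinAt f (g' x') → Dual3.IsGorensteinAt f' x') ∧ ((f.stalkMap (g' x')).hom.Flat → Dual3.IsGorensteinAt f' x' → Dual3.IsGorensteinAt f (g' x')) ∧ ((g.stalkMap (f' x')).hom.Flat → Dual3.IsGorensteinAt f' x' → Dual3.IsGorensteinAt f (g' x')) := by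
  have := hfibf (g (f' x'))
  have key := Groth.Agent.H26.GorMorBC.gor_fiber_stalk_iff_of_isPullback f f' g' g hsq x'
    (Or.inr inferInstance)
  refine ⟨fun h => ?_, fun hfl h => ?_, fun hfl h => ?_⟩
  · exact ⟨Groth.Agent.H25.FlatBCpt.flat_stalkMap_of_isPullback hsq x' h.1, key.mp h.2⟩
  · exact ⟨hfl, key.mpr h.2⟩
  · exact ⟨Groth.Agent.H49.CMMorBC.flat_stalkMap_of_isPullback_of_flatAt f f' g' g hsq x' hfl h.1,
      key.mpr h.2⟩

end Groth.Agent.S3625
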