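import Groth.Statements.S10419
import Groth.Agent.H52.FiltD
import Groth.Agent.H52.FiltE
import Groth.Agent.H51.SpCover
import Groth.Agent.H49.AlgSpQC

set_option autoImplicit false
universe u
open CategoryTheory CategoryTheory.Limits AlgebraicGeometry Topology TopologicalSpace
open AlgSp

namespace Groth.Agent.S10419

/-- Let S be a scheme with quasi-separated underlying space and X an algebraic space over S that is
quasi-compact and quasi-separated (X quasi-separated over S). There are an integer n and open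
subspaces X = U_1 ⊇ U_2 ⊇ ⋯ ⊇ U_{n+1} = ∅ such that, with T_p = U_p ∖ U_{p+1} (reduced induced
structure), there is a quasi-compact separated scheme V_p with a surjective etale f_p : V_p ⟶ U_p
for which f_p⁻¹(T_p) ⟶ T_p is an isomorphism. -/
theorem result {S : Scheme.{u}} [QuasiSeparatedSpace ↥S] (X : AlgSp.Space S)
    (hqc : AlgSp.IsQuasiCompactSp X.obj) (hqs : AlgSp.IsQuasiSeparatedSp X.obj) :
    ∃ (n : ℕ) (Uo : ℕ → AlgSp.Space S) (j : ∀ p, Uo p ⟶ X) (k : ∀ p, Uo (p + 1) ⟶ Uo p)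
      (T : ℕ → AlgSp.Space S) (i : ∀ p, T p ⟶ Uo p),
      (∀ p, AlgSp.RepWith @IsOpenImmersion (j p).hom) ∧ (∀ p, k p ≫ j p = j (p + 1)) ∧ IsIso (j 1) ∧
      IsEmpty (AlgSp.Points (Uo (n + 1)).obj) ∧
      (∀ p, AlgSp.IsRedInduced (Set.range (AlgSp.Points.map (k p).hom))ᶜ (i p).hom) ∧
      (∀ p, 1 ≤ p → ∃ (V : Over S) (f : (AlgSp.yon S).obj V ⟶ (Uo p).obj), V.left.IsSeparated ∧ CompactSpace ↥V.left ∧
        AlgSp.RepWith @Etale f ∧ AlgSp.RepWith @Surjective f ∧
        ∀ (P : AlgSp.Sp S) (fst : P ⟶ (T p).obj) (snd : P ⟶ (AlgSp.yon S).obj V),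
          IsPullback fst snd (i p).hom f → IsIso fst) := by
  classical
  obtain ⟨U, e, hUaff, he, hes⟩ :=
    (Groth.Agent.H51.isQuasiCompactSp_iff_exists_affine_atlas).1 hqc
  have := hUaff
  obtain ⟨R, t, s, sq⟩ := Groth.Agent.H53.exists_pullback_yon e e he.rep
  -- the chart is quasi-compact
  have hUqc : AlgSp.IsQuasiCompactSp ((AlgSp.yon S).obj U) := Groth.Agent.H49.isQuasiCompactSp_yon U
  have heqcM : AlgSp.IsQuasiCompactMor e :=
    Groth.Agent.H49.isQuasiCompactMor_of_isQuasiCompactSp_of_isQuasiSeparatedSp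
      (AlgSp.IsAlgSpace.yon_obj U) X.property e hUqc hqs
  have heqc : AlgSp.RepWith @QuasiCompact e :=
    (Groth.Agent.H49.repWith_quasiCompact_iff e he.rep).2 heqcM
  have hsep : AlgSp.RepWith @IsSeparated e :=
    Groth.Agent.H51.repWith_isSeparated_of_isSeparated e he.rep
  have hsqc : QuasiCompact s.left := Groth.Agent.H53.prop_of_isPullback_yon sq.flip heqc
  have hRc : CompactSpace ↥R.left := QuasiCompact.compactSpace_of_compactSpace s.left
  have hset : Etale s.left := Groth.Agent.H53.prop_of_isPullback_yon sq.flip he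
  obtain ⟨N, hN⟩ := Groth.Agent.H52.Filt.exists_degLE_of_etale_of_compact s.left
  obtain ⟨Uo, j, k, T, i, hUo, hT, hj, hk, hiso, hjr, hi, hir, hV⟩ :=
    Groth.Agent.H52.Filt.exists_filtration X.property e he hes t s sq
  refine ⟨N, fun p => ⟨Uo p, hUo p⟩, fun p => ObjectProperty.homMk (j p),
    fun p => ObjectProperty.homMk (k p), fun p => ⟨T p, hT p⟩,
    fun p => ObjectProperty.homMk (i p), hj, fun p => ObjectProperty.hom_ext _ (hk p), ?_, ?_, hi,
    ?_⟩
  · have h1 : IsIso ((ObjectProperty.ι _).map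
        (ObjectProperty.homMk (j 1) : (⟨Uo 1, hUo 1⟩ : AlgSp.Space S) ⟶ X)) := hiso
    exact isIso_of_reflects_iso _ (ObjectProperty.ι _)
  · refine ⟨fun z => ?_⟩
    have hz : AlgSp.Points.map (j (N + 1)) z ∈ Groth.Agent.H52.Filt.degSet e s (N + 1) := by
      rw [← hjr]; exact ⟨z, rfl⟩
    obtain ⟨u, hu, -⟩ := hz
    exact Groth.Agent.H52.EtDeg.not_mem_strat_succ_of_degLE s.left hN u hu
  · intro p hp
    obtain ⟨n, rfl⟩ : ∃ n, p = n + 1 := ⟨p - 1, by omega⟩
    obtain ⟨W, ρ, M, m, b, hW, hmet, hmsurj, hmfin, hbe, hb, hmrel⟩ :=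
      Groth.Agent.H52.SymQuot.exists_symQuot X.property e he n
    obtain ⟨f, -, hMsep, hfe, hfs, hP⟩ := hV n W ρ M m b hW hmsurj hmfin hbe hb hmrel
    have hρqc : QuasiCompact (ρ 0).left :=
      Groth.Agent.H52.Filt.IsTuple.quasiCompact he hsep heqc hW
    have hWc : CompactSpace ↥W.left := QuasiCompact.compactSpace_of_compactSpace (ρ 0).left
    have hMc : CompactSpace ↥M.left :=
      Function.Surjective.compactSpace m.left.continuous m.left.surjective
    exact ⟨M, f, hMsep, hMc, hfe, hfs, hP⟩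

end Groth.Agent.S10419
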