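import Groth.Statements.S6269
import Mathlib.LinearAlgebra.TensorProduct.RightExactness

set_option autoImplicit false
universe u
open CAlg

namespace Groth.Agent.S6269

/-- Let 0 → M₁ → M₂ → M₃ → 0 be a universally exact sequence of R-modules (a short exact sequence whose
first map is universally injective) with M₂ flat. Then M₁ and M₃ are flat. -/
theorem result {R : Type u} [CommRing R] {M₁ M₂ M₃ : Type u} [AddCommGroup M₁] [Module R M₁] [AddCommGroup M₂] [Module R M₂] [AddCommGroup M₃] [Module R M₃] (f : M₁ →ₗ[R] M₂) (g : M₂ →ₗ[R] M₃) (hexact : Function.Exact f g) (hg : Function.Surjective g) (hf : CAlgX.UniversallyInjective R f) [Module.Flat R M₂] : Module.Flat R M₁ ∧ Module.Flat R M₃ := by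
  constructor
  · -- M₁ flat
    rw [Module.Flat.iff_lTensor_preserves_injective_linearMap]
    intro N' N _ _ _ _ h hh
    have h1 : Function.Injective ((h.lTensor M₂) ∘ₗ (f.rTensor N')) :=
      (Module.Flat.lTensor_preserves_injective_linearMap h hh).comp (hf N')
    rw [LinearMap.lTensor_comp_rTensor, ← LinearMap.rTensor_comp_lTensor] at h1
    exact Function.Injective.of_comp h1
  · -- M₃ flat
    rw [Module.Flat.iff_lTensor_preserves_injective_linearMap]
    intro N' N _ _ _ _ h hh
    rw [injective_iff_map_eq_zero]
    intro z hz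
    -- lift z to y
    obtain ⟨y, rfl⟩ := LinearMap.rTensor_surjective N' hg z
    -- b y maps to zero in M₃ ⊗ N
    have hby : (g.rTensor N) ((h.lTensor M₂) y) = 0 := by
      have : (g.rTensor N) ∘ₗ (h.lTensor M₂) = (h.lTensor M₃) ∘ₗ (g.rTensor N') := by
        rw [LinearMap.rTensor_comp_lTensor, LinearMap.lTensor_comp_rTensor]
      rw [← LinearMap.comp_apply, this, LinearMap.comp_apply, hz]
    obtain ⟨x, hx⟩ := (rTensor_exact N hexact hg _).1 hby
    -- cokernel of h
    let C := N ⧸ LinearMap.range h
    let π : N →ₗ[R] C := (LinearMap.range h).mkQ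
    have hπ : Function.Surjective π := Submodule.mkQ_surjective _
    have hex : Function.Exact h π := by
      intro n
      rw [Submodule.mkQ_apply, Submodule.Quotient.mk_eq_zero]
      rfl
    have hπh : π ∘ₗ h = 0 := by
      ext n'
      exact (hex (h n')).2 ⟨n', rfl⟩
    have hxbar : (π.lTensor M₁) x = 0 := by
      apply hf C
      rw [map_zero, ← LinearMap.comp_apply, LinearMap.rTensor_comp_lTensor,
        ← LinearMap.lTensor_comp_rTensor, LinearMap.comp_apply, hx, ← LinearMap.comp_apply,
        ← LinearMap.lTensor_comp, hπh, LinearMap.lTensor_zero, LinearMap.zero_apply]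
    obtain ⟨w, hw⟩ := (lTensor_exact M₁ hex hπ _).1 hxbar
    have hyw : y = (f.rTensor N') w := by
      apply Module.Flat.lTensor_preserves_injective_linearMap (M := M₂) h hh
      rw [← hx, ← hw, ← LinearMap.comp_apply, ← LinearMap.comp_apply,
        LinearMap.lTensor_comp_rTensor, LinearMap.rTensor_comp_lTensor]
    rw [hyw, ← LinearMap.comp_apply, ← LinearMap.rTensor_comp]
    have : g ∘ₗ f = 0 := by
      ext m
      exact (hexact (f m)).2 ⟨m, rfl⟩
    rw [this, LinearMap.rTensor_zero, LinearMap.zero_apply]

end Groth.Agent.S6269
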