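import Groth.Statements.S6305
import Mathlib
import Groth.Agent.H32.ThreeByThree

set_option autoImplicit false
universe u
open CAlg

namespace Groth.Agent.S6305

/-- An R-module M is flat exactly when every short exact sequence 0 → M₁ → M₂ → M → 0 of R-modules is
universally exact, i.e. its first map M₁ → M₂ is universally injective. -/
theorem result {R : Type u} [CommRing R] (M : Type u) [AddCommGroup M] [Module R M] : Module.Flat R M ↔ ∀ (M₁ M₂ : Type u) [AddCommGroup M₁] [Module R M₁] [AddCommGroup M₂] [Module R M₂] (f : M₁ →ₗ[R] M₂) (g : M₂ →ₗ[R] M), Function.Injective f → Function.Exact f g → Function.Surjective g → CAlgX.UniversallyInjective R f := by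
  constructor
  · intro hM M₁ M₂ _ _ _ _ f g hf hfg hg Q _ _
    exact Groth.Agent.H32.rTensor_injective_of_flat_coker f g hf hfg hg Q
  · intro h
    have hπ : Function.Surjective (Finsupp.linearCombination R (_root_.id : M → M)) :=
      Finsupp.linearCombination_id_surjective R M
    have hιπ : Function.Exact (LinearMap.ker (Finsupp.linearCombination R (_root_.id : M → M))).subtype
        (Finsupp.linearCombination R (_root_.id : M → M)) := LinearMap.exact_subtype_ker_map _
    have hU := h (LinearMap.ker (Finsupp.linearCombination R (_root_.id : M → M))) (M →₀ R)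
      (LinearMap.ker (Finsupp.linearCombination R (_root_.id : M → M))).subtype
      (Finsupp.linearCombination R (_root_.id : M → M)) (Submodule.injective_subtype _) hιπ hπ
    rw [Module.Flat.iff_rTensor_injective']
    intro I
    refine Groth.Agent.H32.rTensor_injective_of_three_by_three
      (M₁ := I) (M₂ := R) (M₃ := R ⧸ I)
      (Q₁ := LinearMap.ker (Finsupp.linearCombination R (_root_.id : M → M))) (Q₂ := M →₀ R)
      I.subtype I.mkQ
      (LinearMap.ker (Finsupp.linearCombination R (_root_.id : M → M))).subtype
      (Finsupp.linearCombination R (_root_.id : M → M))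
      (LinearMap.exact_subtype_mkQ I) (Submodule.mkQ_surjective I) hιπ hπ ?_ ?_
    · have h3 := hU (R ⧸ I)
      set ι := (LinearMap.ker (Finsupp.linearCombination R (_root_.id : M → M))).subtype with hι
      have : ι.lTensor (R ⧸ I) = (TensorProduct.comm R (M →₀ R) (R ⧸ I)).toLinearMap ∘ₗ
          ι.rTensor (R ⧸ I) ∘ₗ (TensorProduct.comm R (R ⧸ I) _).toLinearMap := by
        ext; simp
      rw [this]
      exact (TensorProduct.comm R (M →₀ R) (R ⧸ I)).injective.comp
        (h3.comp (TensorProduct.comm R (R ⧸ I) _).injective)
    · exact Module.Flat.rTensor_preserves_injective_linearMap _ (Submodule.injective_subtype _)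

end Groth.Agent.S6305
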