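import Groth.Statements.S4710
import Groth.Agent.H47.N2Equiv
import Mathlib
-- import your own Groth.Agent.* helpers here

set_option autoImplicit false
universe u
open EGA4

namespace Groth.Agent.S4710

/-- Last assertion, case of rings of fractions: if A is a Noetherian ring all of whose quotient domains
are Japanese (a Nagata ring), then so is every ring of fractions S⁻¹A. -/
theorem result (A : Type u) [CommRing A] (hA : CAlg.IsNagata A) (S : Submonoid A) :
    CAlg.IsNagata (Localization S) := by
  obtain ⟨hnoeth, hN2⟩ := hA
  refine ⟨IsLocalization.isNoetherianRing S _ hnoeth, ?_⟩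
  intro q hq
  let p : Ideal A := q.comap (algebraMap A (Localization S))
  have hp : p.IsPrime := Ideal.comap_isPrime _ q
  have hpq : p.map (algebraMap A (Localization S)) = q := IsLocalization.map_comap S _ q
  have hp' : (p.map (algebraMap A (Localization S))).IsPrime := hpq ▸ hq
  have h1 : CAlg.IsN2 (A ⧸ p) := hN2 p
  have h2 : CAlg.IsN2 (Localization S ⧸ p.map (algebraMap A (Localization S))) :=
    Groth.Agent.S9392.result (A ⧸ p) (Algebra.algebraMapSubmonoid (A ⧸ p) S) _ h1
  exact Groth.Agent.H47.isN2_of_ringEquiv (Ideal.quotEquivOfEq hpq) h2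

end Groth.Agent.S4710
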