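import Groth.Statements.S9394
import Groth.Agent.H47.IntClosureCover
import Mathlib.RingTheory.Localization.FractionRing
import Mathlib.RingTheory.Localization.LocalizationLocalization
import Mathlib.RingTheory.Localization.Away.Basic

set_option autoImplicit false
universe u
open CAlg

namespace Groth.Agent.S9394

/-- Being N-2 (Japanese) can be checked on a finite cover of Spec R by principal opens whose rings are
N-2 domains. -/
theorem result (R : Type u) [CommRing R] [IsDomain R]
    {ι : Type u} [Finite ι] (f : ι → R) (hf : Ideal.span (Set.range f) = ⊤)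
    (Rf : ι → Type u) [∀ i, CommRing (Rf i)] [∀ i, IsDomain (Rf i)] [∀ i, Algebra R (Rf i)]
    [∀ i, IsLocalization.Away (f i) (Rf i)] (h : ∀ i, CAlg.IsN2 (Rf i)) : CAlg.IsN2 R := by
  unfold CAlg.IsN2 at h ⊢
  intro L _ _ _ _ hfd
  have hne : ∀ i, IsUnit (algebraMap R (FractionRing R) (f i)) := by
    intro i
    have h0 : f i ≠ 0 := by
      rintro h0
      have := IsLocalization.Away.algebraMap_isUnit (S := Rf i) (f i)
      rw [h0, map_zero] at this
      exact not_isUnit_zero this
    exact (IsUnit.mk0 _ (by simpa using h0))
  letI : ∀ i, Algebra (Rf i) (FractionRing R) := fun i =>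
    (IsLocalization.Away.lift (f i) (g := algebraMap R (FractionRing R)) (hne i)).toAlgebra
  haveI : ∀ i, IsScalarTower R (Rf i) (FractionRing R) := fun i =>
    IsScalarTower.of_algebraMap_eq (fun x => (IsLocalization.Away.lift_eq (f i) (hne i) x).symm)
  letI : ∀ i, Algebra (Rf i) L := fun i =>
    ((algebraMap (FractionRing R) L).comp (algebraMap (Rf i) (FractionRing R))).toAlgebra
  haveI : ∀ i, IsScalarTower (Rf i) (FractionRing R) L := fun i =>
    IsScalarTower.of_algebraMap_eq (fun _ => rfl)
  haveI : ∀ i, IsScalarTower R (Rf i) L := fun i =>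
    IsScalarTower.of_algebraMap_eq (fun x => by
      show algebraMap R L x = algebraMap (FractionRing R) L (algebraMap (Rf i) (FractionRing R)
        (algebraMap R (Rf i) x))
      rw [← IsScalarTower.algebraMap_apply R (Rf i) (FractionRing R),
        ← IsScalarTower.algebraMap_apply R (FractionRing R) L])
  refine Groth.Agent.H47.finite_integralClosure_of_span_eq_top f hf Rf (fun i => ?_)
  haveI : IsFractionRing (Rf i) (FractionRing R) :=
    IsFractionRing.isFractionRing_of_isDomain_of_isLocalization (Submonoid.powers (f i)) (Rf i)
      (FractionRing R)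
  let e : FractionRing (Rf i) ≃ₐ[Rf i] FractionRing R := FractionRing.algEquiv (Rf i) (FractionRing R)
  letI : Algebra (FractionRing (Rf i)) (FractionRing R) := e.toRingEquiv.toRingHom.toAlgebra
  letI : Algebra (FractionRing (Rf i)) L :=
    ((algebraMap (FractionRing R) L).comp
      (algebraMap (FractionRing (Rf i)) (FractionRing R))).toAlgebra
  haveI : IsScalarTower (FractionRing (Rf i)) (FractionRing R) L :=
    IsScalarTower.of_algebraMap_eq (fun _ => rfl)
  haveI : IsScalarTower (Rf i) (FractionRing (Rf i)) L := IsScalarTower.of_algebraMap_eq (fun x => by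
    show algebraMap (FractionRing R) L (algebraMap (Rf i) (FractionRing R) x)
      = algebraMap (FractionRing R) L (e (algebraMap (Rf i) (FractionRing (Rf i)) x))
    rw [e.commutes])
  haveI : Module.Finite (FractionRing (Rf i)) (FractionRing R) :=
    Module.Finite.of_surjective (Algebra.linearMap (FractionRing (Rf i)) (FractionRing R))
      e.surjective
  haveI : FiniteDimensional (FractionRing (Rf i)) L := Module.Finite.trans (FractionRing R) L
  exact h i L this

end Groth.Agent.S9394
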