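import Groth.Statements.S9400
import Groth.Agent.S9394
import Groth.Agent.H47.N2Equiv
import Mathlib.AlgebraicGeometry.Noetherian
import Mathlib.RingTheory.TensorProduct.Quotient
import Mathlib.RingTheory.Localization.BaseChange
import Mathlib.RingTheory.Localization.Ideal

set_option autoImplicit false
universe u
open CAlg

namespace Groth.Agent.S9400

/-- Being a Nagata ring can be checked on a finite cover of Spec R by principal opens. -/
theorem result (R : Type u) [CommRing R]
    {ι : Type u} [Finite ι] (f : ι → R) (hf : Ideal.span (Set.range f) = ⊤)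
    (h : ∀ i, CAlg.IsNagata (Localization.Away (f i))) : CAlg.IsNagata R := by
  classical
  cases nonempty_fintype ι
  refine ⟨?_, ?_⟩
  · -- Noetherian
    refine AlgebraicGeometry.isNoetherianRing_of_away (Finset.univ.image f) (by
      rw [Finset.coe_image, Finset.coe_univ, Set.image_univ]; exact hf) ?_
    rintro ⟨s, hs⟩
    obtain ⟨i, -, rfl⟩ := Finset.mem_image.mp hs
    exact (h i).1
  · intro p hp
    let ι' := {i : ι // f i ∉ p}
    let f' : ι' → R ⧸ p := fun i => Ideal.Quotient.mk p (f i.1)
    have hf' : Ideal.span (Set.range f') = ⊤ := by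
      have h1 : Ideal.span ((Ideal.Quotient.mk p) '' (Set.range f)) = ⊤ := by
        rw [← Ideal.map_span, hf, Ideal.map_top]
      rw [eq_top_iff, ← h1, Ideal.span_le]
      rintro _ ⟨_, ⟨i, rfl⟩, rfl⟩
      by_cases hi : f i ∈ p
      · rw [Ideal.Quotient.eq_zero_iff_mem.mpr hi]; exact Ideal.zero_mem _
      · exact Ideal.subset_span ⟨⟨i, hi⟩, rfl⟩
    -- the prime of the localization
    have hdisj : ∀ i : ι', Disjoint (Submonoid.powers (f i.1) : Set R) (p : Set R) := by
      intro i
      rw [Set.disjoint_left]
      rintro _ ⟨n, rfl⟩ hn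
      exact i.2 (hp.mem_of_pow_mem n hn)
    have hprime : ∀ i : ι', (p.map (algebraMap R (Localization.Away (f i.1)))).IsPrime := fun i =>
      IsLocalization.isPrime_of_isPrime_disjoint (Submonoid.powers (f i.1)) _ p hp (hdisj i)
    let e : ∀ i : ι', (Localization.Away (f i.1) ⧸ p.map (algebraMap R (Localization.Away (f i.1))))
        ≃ₐ[R ⧸ p] TensorProduct R (R ⧸ p) (Localization.Away (f i.1)) := fun i =>
      Algebra.TensorProduct.quotIdealMapEquivQuotTensor (Localization.Away (f i.1)) p
    haveI hdom : ∀ i : ι', IsDomain (TensorProduct R (R ⧸ p) (Localization.Away (f i.1))) := fun i =>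
      haveI := hprime i
      (e i).toRingEquiv.toMulEquiv.isDomain_iff.mp inferInstance
    haveI hloc : ∀ i : ι', IsLocalization.Away (f' i)
        (TensorProduct R (R ⧸ p) (Localization.Away (f i.1))) := fun i => by
      have := IsLocalization.tensor (S := R ⧸ p) (Localization.Away (f i.1))
        (Submonoid.powers (f i.1))
      have heq : Algebra.algebraMapSubmonoid (R ⧸ p) (Submonoid.powers (f i.1))
          = Submonoid.powers (f' i) := by
        show Submonoid.map _ _ = _
        rw [Submonoid.map_powers]
        rfl
      rw [heq] at this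
      exact this
    refine Groth.Agent.S9394.result (R ⧸ p) f' hf'
      (fun i => TensorProduct R (R ⧸ p) (Localization.Away (f i.1))) (fun i => ?_)
    haveI := hprime i
    exact Groth.Agent.H47.isN2_of_ringEquiv (e i).toRingEquiv ((h i.1).2 _)

end Groth.Agent.S9400
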