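import Groth.Statements.S1317
import Groth.Agent.H7.ThickeningAffine
import Groth.Agent.H7.NilpotentLift
import Groth.Agent.H7.NilpotentFlat

set_option autoImplicit false
universe u
open FlatMor

namespace Groth.Agent.S1317

open AlgebraicGeometry CategoryTheory Limits in
/-- Let S ⟶ S' be a finite order thickening, let X' ⟶ Y' be a morphism of schemes over S' with X' flat
over S', and let X ⟶ Y be its base change to S. Then X ⟶ Y is flat if and only if X' ⟶ Y' is. -/
theorem result {X X' Y Y' S S' : Scheme.{u}} (iX : X ⟶ X') (iY : Y ⟶ Y') (iS : S ⟶ S')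
    (f : X ⟶ Y) (f' : X' ⟶ Y') (g : Y ⟶ S) (g' : Y' ⟶ S')
    (hS : MoreMor.IsFiniteOrderThickening iS) (hcX : IsPullback iX (f ≫ g) (f' ≫ g') iS) (hcY : IsPullback iY g g' iS)
    (w : iX ≫ f' = f ≫ iY) [Flat (f' ≫ g')] :
    Flat f ↔ Flat f' := by
  have hsq := Groth.Agent.H7.isPullback_of_isPullback_of_isPullback hcX hcY w
  constructor
  · intro hf
    have hQ : RingHom.StableUnderCompositionWithLocalizationAwaySource @RingHom.Flat :=
      (RingHom.Flat.stableUnderComposition.stableUnderCompositionWithLocalizationAway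
        RingHom.Flat.holdsForLocalizationAway).1
    rw [HasRingHomProperty.iff_exists_appLE (P := @Flat) hQ]
    intro x'
    obtain ⟨V', hyV', hV', W', hW', hVW'⟩ :=
      Groth.Agent.H7.exists_affine_nhds_over_affine g' (f' x')
    obtain ⟨_, ⟨U', hU', rfl⟩, hxU', hUV'⟩ := X'.isBasis_affineOpens.exists_subset_of_mem_open
      (show x' ∈ f' ⁻¹ᵁ V' from hyV') (f' ⁻¹ᵁ V').2
    refine ⟨⟨V', hV'⟩, ⟨U', hU'⟩, hxU', hUV', ?_⟩
    obtain ⟨hVa, hUa, e', hcomm, hαs, hβs, hkα, hkβ, -⟩ :=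
      Groth.Agent.H7.thickening_affine_data₂ hS.1 hcX hcY w hW' hV' hVW' hU' hUV'
    have hY := Groth.Agent.H7.isThickening_of_isPullback hcY hS.1
    obtain ⟨-, -, _, hpo, -, -⟩ := Groth.Agent.H7.thickening_affine_data hY hsq hV' hU' hUV'
    have hflat : ((f'.appLE V' U' hUV').hom.comp (g'.appLE W' V' hVW').hom).Flat := by
      rw [← CommRingCat.hom_comp, Scheme.Hom.appLE_comp_appLE]
      exact HasRingHomProperty.appLE @Flat (f' ≫ g') inferInstance ⟨_, hW'⟩ ⟨_, hU'⟩ _
    have hφ : (f.appLE (iY ⁻¹ᵁ V') (iX ⁻¹ᵁ U') e').hom.Flat :=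
      HasRingHomProperty.appLE @Flat f hf ⟨_, hVa⟩ ⟨_, hUa⟩ e'
    obtain ⟨n, hn⟩ := Groth.Agent.H7.finiteOrderThickening_ker_pow hS
    exact Groth.Agent.H7.ringHom_flat_of_nilpotent_of_flat _ _ _ _ _
      (RingHom.ker (iS.app W').hom) (hn W' hW') hpo hαs hkα hflat hφ
  · intro hf'
    exact MorphismProperty.of_isPullback hsq hf'

end Groth.Agent.S1317
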