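import Groth.Statements.S10537
import Groth.Agent.H53.FpqcBaseAxioms2
import Groth.Agent.H53.Desc.QAffEffective
import Groth.Agent.H53.QAffMor

set_option autoImplicit false
universe u
open CategoryTheory CategoryTheory.Limits AlgebraicGeometry
open AlgSp

namespace Groth.Agent.S10537

/-- The property of morphisms of algebraic spaces over S given by f is quasi-affine (every base change
to an affine scheme is a quasi-affine scheme) is fpqc local on the base: for an fpqc covering of an
algebraic space Y by algebraic spaces Y_i, a morphism f : X ⟶ Y of algebraic spaces and cartesian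
squares X_i = Y_i ×_Y X, f has the property if and only if every X_i ⟶ Y_i has it. -/
theorem result (S : Scheme.{u}) :
    AlgSp.IsLocalOnBase (AlgSp.IsFpqcCover (S := S)) AlgSp.IsQuasiAffineMor := by
  refine Groth.Agent.H53.isLocalOnBase_fpqc_of_axioms' AlgSp.IsQuasiAffineMor ?_ ?_ ?_
  · -- finite coproducts over an affine base
    intro ι _ Xi Ti fi cX hcX Z' m inj _ hZ' hTi _ _ _ hfi
    have key : ∀ i, ∃ (A : Over S) (s : (AlgSp.yon S).obj A ⟶ Xi i), IsIso s ∧
        A.left.IsQuasiAffine := by
      intro i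
      obtain ⟨A, a, s, sq, hA⟩ := hfi i (hTi i) (𝟙 _)
      exact ⟨A, s, sq.isIso_fst_of_isIso, hA⟩
    choose A s hs hA using key
    let dA : CategoryTheory.Limits.Cofan A :=
      CategoryTheory.Limits.colimit.cocone (CategoryTheory.Discrete.functor A)
    have hdA : CategoryTheory.Limits.IsColimit dA := CategoryTheory.Limits.colimit.isColimit _
    obtain ⟨hY⟩ := Groth.Agent.H49.nonempty_isColimit_yon_mapCocone hdA
    obtain ⟨e₀, -⟩ := Groth.Agent.H49.exists_sigma_iso hdA
    have hAff : dA.pt.left.IsQuasiAffine := by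
      have : ∀ i, (A i).left.IsQuasiAffine := hA
      have h1 := Groth.Agent.H53.isQuasiAffine_sigma (fun i => (A i).left)
      have : IsAffineHom e₀.inv := inferInstance
      exact Scheme.IsQuasiAffine.of_isAffineHom e₀.inv
    let c₁ : CategoryTheory.Limits.Cocone (CategoryTheory.Discrete.functor A ⋙ AlgSp.yon S) :=
      { pt := cX.pt
        ι := CategoryTheory.Discrete.natTrans (fun i => s i.as ≫ cX.inj i.as) }
    let hom : (AlgSp.yon S).obj dA.pt ⟶ cX.pt := hY.desc c₁
    have hhom : ∀ i, (AlgSp.yon S).map (dA.inj i) ≫ hom = s i ≫ cX.inj i := fun i => hY.fac c₁ ⟨i⟩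
    let inv' : cX.pt ⟶ (AlgSp.yon S).obj dA.pt :=
      CategoryTheory.Limits.Cofan.IsColimit.desc hcX
        (fun i => inv (s i) ≫ (AlgSp.yon S).map (dA.inj i))
    have hinv : ∀ i, cX.inj i ≫ inv' = inv (s i) ≫ (AlgSp.yon S).map (dA.inj i) :=
      fun i => CategoryTheory.Limits.Cofan.IsColimit.fac hcX _ i
    have h1 : hom ≫ inv' = 𝟙 _ := by
      refine hY.hom_ext ?_
      rintro ⟨i⟩
      change (AlgSp.yon S).map (dA.inj i) ≫ hom ≫ inv' = (AlgSp.yon S).map (dA.inj i) ≫ 𝟙 _
      rw [← Category.assoc, hhom, Category.assoc, hinv, IsIso.hom_inv_id_assoc, Category.comp_id]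
    have h2 : inv' ≫ hom = 𝟙 _ := by
      refine CategoryTheory.Limits.Cofan.IsColimit.hom_ext hcX _ _ fun i => ?_
      rw [← Category.assoc, hinv, Category.assoc, hhom, IsIso.inv_hom_id_assoc, Category.comp_id]
    exact Groth.Agent.H53.isQuasiAffineMor_of_iso_yon ⟨hom, inv', h1, h2⟩ m hAff hZ'
  · -- affine-local on the base
    intro X Y hX hY f
    constructor
    · intro hf Z hZ g W fst snd _ sq
      exact Groth.Agent.H53.isQuasiAffineMor_of_isPullback sq hf
    · intro H Z hZ g
      have sq := IsPullback.of_hasPullback f g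
      have hW : AlgSp.IsAlgSpace (CategoryTheory.Limits.pullback f g) :=
        Groth.Agent.H49.isAlgSpace_of_isPullback sq hY.diag hX (AlgSp.IsAlgSpace.yon_obj Z)
      obtain ⟨W', i, fst', sq', hW'⟩ := H Z hZ g _ _ _ hW sq hZ (𝟙 _)
      refine ⟨W', i, fst' ≫ CategoryTheory.Limits.pullback.fst f g, ?_, hW'⟩
      have := sq'.paste_horiz sq
      rwa [Category.id_comp] at this
  · -- descent along a flat surjective morphism of affine schemes
    intro Z Z' c hZ hZ' hsurj hfl X X' f fst f' hX _ sq hf'
    obtain ⟨V, a, s, sq', hV⟩ := hf' hZ' (𝟙 _)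
    have sq'' := sq'.paste_horiz sq
    rw [Category.id_comp] at sq''
    obtain ⟨U, i, e, hU, he⟩ := Groth.Agent.H53.Desc.exists_quasiAffine_of_fpqc_descent hZ hZ' hV
      c a hX f (s ≫ fst) sq'' hfl hsurj
    exact Groth.Agent.H53.isQuasiAffineMor_of_iso_yon e f hU hZ

end Groth.Agent.S10537
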