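import Groth.Statements.S9946
import Groth.Agent.S10537
import Groth.Agent.H52.FppfFpqc
import Groth.Agent.H49.AlgSpPoints
import Groth.Agent.H50.LocPClass
import Groth.Agent.H51.SpAffine

set_option autoImplicit false
universe u
open CategoryTheory CategoryTheory.Limits AlgebraicGeometry
open AlgSp

namespace Groth.Agent.S9946

/-- (3) ⇒ (1): if the base change of f along a surjective etale map from a scheme is quasi-affine, then
f is representable by schemes and quasi-affine. -/
theorem result {S : Scheme.{u}} {X Y : AlgSp.Space S} (f : X ⟶ Y)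
    (V : Over S) (p : (AlgSp.yon S).obj V ⟶ Y.obj) (hp : AlgSp.RepWith @Etale p) (hps : AlgSp.RepWith @Surjective p)
    {P : AlgSp.Sp S} (fst : P ⟶ X.obj) (snd : P ⟶ (AlgSp.yon S).obj V) (sq : IsPullback fst snd f.hom p)
    (h : AlgSp.IsQuasiAffineMor snd) : AlgSp.Representable f.hom ∧ AlgSp.IsQuasiAffineMor f.hom := by
  have hflat : AlgSp.LocP @Flat p :=
    Groth.Agent.H50.goodClass_flat.locP_of_repWith_etale p hp
  have hlfp : AlgSp.LocP @LocallyOfFinitePresentation p :=
    Groth.Agent.H50.goodClass_lfp.locP_of_repWith_etale p hp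
  have hsurj := Groth.Agent.H49.points_surjective_of_repWith_surjective p hps
  have hfppf : AlgSp.IsFppfCover (fun _ : PUnit.{u+1} => (AlgSp.yon S).obj V) (fun _ => p) :=
    ⟨fun _ => ⟨hflat, hlfp⟩, fun x => ⟨PUnit.unit, hsurj x⟩⟩
  have hcov : AlgSp.IsFpqcCover (fun _ : PUnit.{u+1} => (AlgSp.yon S).obj V) (fun _ => p) :=
    ⟨fun _ => hflat, Groth.Agent.H52.fpqcRefine_of_isFppfCover Y.property _
      (fun _ => AlgSp.IsAlgSpace.yon_obj V) _ hfppf⟩
  have hP : AlgSp.IsAlgSpace P :=
    Groth.Agent.H49.isAlgSpace_of_isPullback sq Y.property.diag X.property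
      (AlgSp.IsAlgSpace.yon_obj V)
  have hqa : AlgSp.IsQuasiAffineMor f.hom :=
    (Groth.Agent.S10537.result S (fun _ : PUnit.{u+1} => (AlgSp.yon S).obj V) (fun _ => p)
      Y.property (fun _ => AlgSp.IsAlgSpace.yon_obj V) hcov f.hom X.property (fun _ => P)
      (fun _ => snd) (fun _ => fst) (fun _ => hP) (fun _ => sq)).2 (fun _ => h)
  refine ⟨Groth.Agent.H51.representable_of_affine_test f.hom (fun Z hZ k => ?_), hqa⟩
  obtain ⟨W, i, fst', sq', -⟩ := hqa hZ k
  exact ⟨W, i, fst', sq'⟩

end Groth.Agent.S9946
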