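import Groth.Statements.S8869
import Groth.Agent.H8.AssPoints
import Mathlib.Algebra.Category.ModuleCat.Sheaf.LocallyFree

set_option autoImplicit false
universe u
open CategoryTheory CategoryTheory.Limits AlgebraicGeometry TopologicalSpace
open SDiv

namespace Groth.Agent.S8869

lemma mem_minimalPrimes_of_le {R : Type*} [CommRing R] {I J p : Ideal R} (hp : p ∈ I.minimalPrimes)
    (hIJ : I ≤ J) (hJp : J ≤ p) : p ∈ J.minimalPrimes :=
  ⟨⟨hp.1.1, hJp⟩, fun _ hq hqp => hp.2 ⟨hq.1, hIJ.trans hq.2⟩ hqp⟩

lemma weakAss_subset_of_injective {R : Type u} [CommRing R] {M N : Type u} [AddCommGroup M]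
    [AddCommGroup N] [Module R M] [Module R N] (f : M →ₗ[R] N) (hf : Function.Injective f) :
    FlatCA.weakAss R M ⊆ FlatCA.weakAss R N := by
  rintro p ⟨m, hm⟩
  refine ⟨f m, ?_⟩
  have : (Submodule.span R {f m}).annihilator = (Submodule.span R {m}).annihilator := by
    ext a
    rw [Submodule.mem_annihilator_span_singleton, Submodule.mem_annihilator_span_singleton,
      ← map_smul, ← f.map_zero, hf.eq_iff]
  rw [this]
  exact hm

/-- In a reduced ring, the weakly associated primes of the ring are its minimal primes. -/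
lemma weakAss_self_iff {A : Type u} [CommRing A] [IsReduced A] (p : Ideal A) :
    p ∈ FlatCA.weakAss A A ↔ p ∈ minimalPrimes A := by
  constructor
  · rintro ⟨a, ha⟩
    have hp : p.IsPrime := ha.1.1
    have hann : ∀ b, b ∈ (Submodule.span A {a}).annihilator ↔ b * a = 0 := fun b => by
      rw [Submodule.mem_annihilator_span_singleton, smul_eq_mul]
    -- a prime q ≤ p with a ∉ q
    have hdisj : Disjoint ((⊥ : Ideal A) : Set A) (p.primeCompl ⊔ Submonoid.powers a : Submonoid A) := by
      rw [Set.disjoint_left]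
      intro z hz hzT
      have hz0 : z = 0 := hz
      obtain ⟨s, hs, _, ⟨n, rfl⟩, hsn⟩ := Submonoid.mem_sup.mp hzT
      rw [hz0] at hsn
      have hsn' : s * a ^ n = 0 := hsn
      have h1 : (s * a) ^ (n + 1) = 0 := by
        have : (s * a) ^ (n + 1) = (s * a ^ n) * (s ^ n * a) := by ring
        rw [this, hsn', zero_mul]
      have h2 : s * a = 0 := IsReduced.eq_zero _ ⟨_, h1⟩
      exact hs (ha.1.2 ((hann s).mpr h2))
    obtain ⟨q, hq, -, hqT⟩ := Ideal.exists_le_prime_disjoint (⊥ : Ideal A) _ hdisj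
    have hqp : q ≤ p := by
      intro z hz
      by_contra hzp
      exact Set.disjoint_left.mp hqT hz (Submonoid.mem_sup_left hzp)
    have haq : a ∉ q := fun h =>
      Set.disjoint_left.mp hqT h (Submonoid.mem_sup_right (Submonoid.mem_powers a))
    obtain ⟨q', hq', hq'q⟩ := Ideal.exists_minimalPrimes_le (I := (⊥ : Ideal A)) (J := q) bot_le
    have hq'prime : q'.IsPrime := hq'.1.1
    have hannq' : (Submodule.span A {a}).annihilator ≤ q' := by
      intro b hb
      have hb' : b * a ∈ q' := by rw [(hann b).mp hb]; exact q'.zero_mem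
      exact (hq'prime.mem_or_mem hb').resolve_right (fun h => haq (hq'q h))
    have hpq' : p ≤ q' := ha.2 ⟨hq'prime, hannq'⟩ (hq'q.trans hqp)
    have : p = q' := le_antisymm hpq' (hq'q.trans hqp)
    rw [this]
    exact hq'
  · intro hp
    refine ⟨1, ?_⟩
    have : (Submodule.span A {(1 : A)}).annihilator = ⊥ := by
      ext b
      rw [Submodule.mem_annihilator_span_singleton, smul_eq_mul, mul_one]
      rfl
    rw [this]
    exact hp

instance isQuasicoherent_structureModule (X : Scheme.{u}) :
    (Coh.structureModule X).IsQuasicoherent := by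
  have e : SheafOfModules.free (R := X.ringCatSheaf) PUnit.{u + 1} ≅
      SheafOfModules.unit X.ringCatSheaf := coproductUniqueIso _
  exact (SheafOfModules.isQuasicoherent X.ringCatSheaf).prop_of_iso e inferInstance

/-- Sections of the structure module are the functions. -/
noncomputable def secEquiv (X : Scheme.{u}) (V : X.Opens) :
    Γ(Coh.structureModule X, V) ≃ₗ[Γ(X, V)] Γ(X, V) where
  toFun x := x
  invFun x := x
  map_add' _ _ := rfl
  map_smul' _ _ := rfl
  left_inv _ := rfl
  right_inv _ := rfl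

set_option backward.isDefEq.respectTransparency false in
lemma minimal_iff_generic {X : Scheme.{u}} {V : X.Opens} (hV : IsAffineOpen V) {x : X}
    (hxV : x ∈ V) :
    (hV.primeIdealOf ⟨x, hxV⟩).asIdeal ∈ minimalPrimes Γ(X, V) ↔ ∀ y : X, y ⤳ x → y = x := by
  have hx : hV.fromSpec (hV.primeIdealOf ⟨x, hxV⟩) = x := hV.fromSpec_primeIdealOf ⟨x, hxV⟩
  have hind : Topology.IsInducing hV.fromSpec := hV.fromSpec.isOpenEmbedding.isInducing
  have hinj : Function.Injective hV.fromSpec := hV.fromSpec.isOpenEmbedding.injective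
  constructor
  · intro hmin y hy
    have hyV : y ∈ V := hy.mem_open V.2 hxV
    have hy' : hV.fromSpec (hV.primeIdealOf ⟨y, hyV⟩) = y := hV.fromSpec_primeIdealOf ⟨y, hyV⟩
    have h1 : hV.primeIdealOf ⟨y, hyV⟩ ⤳ hV.primeIdealOf ⟨x, hxV⟩ := by
      rw [← hind.specializes_iff, hx, hy']
      exact hy
    have h2 : hV.primeIdealOf ⟨y, hyV⟩ ≤ hV.primeIdealOf ⟨x, hxV⟩ :=
      (PrimeSpectrum.le_iff_specializes _ _).mpr h1
    have h3 : (hV.primeIdealOf ⟨x, hxV⟩).asIdeal ≤ (hV.primeIdealOf ⟨y, hyV⟩).asIdeal :=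
      hmin.2 ⟨(hV.primeIdealOf ⟨y, hyV⟩).2, bot_le⟩ h2
    have h4 : hV.primeIdealOf ⟨y, hyV⟩ = hV.primeIdealOf ⟨x, hxV⟩ :=
      PrimeSpectrum.ext (le_antisymm h2 h3)
    rw [← hy', h4, hx]
  · intro hgen
    refine ⟨⟨(hV.primeIdealOf ⟨x, hxV⟩).2, bot_le⟩, ?_⟩
    rintro q ⟨hq, -⟩ hqp
    let q' : PrimeSpectrum Γ(X, V) := ⟨q, hq⟩
    have h1 : q' ⤳ hV.primeIdealOf ⟨x, hxV⟩ := (PrimeSpectrum.le_iff_specializes _ _).mp hqp
    have h2 : hV.fromSpec q' ⤳ x := by
      rw [← hx]
      exact h1.map hV.fromSpec.continuous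
    have h3 : hV.fromSpec q' = hV.fromSpec (hV.primeIdealOf ⟨x, hxV⟩) := by
      rw [hx]; exact hgen _ h2
    have h4 : q' = hV.primeIdealOf ⟨x, hxV⟩ := hinj h3
    rw [← h4]

set_option backward.isDefEq.respectTransparency false in
/-- Assume X is a reduced scheme and x is a point of X. Then x is weakly associated to the structure
sheaf O_X exactly when every generization of x equals x itself; equivalently, x is a generic point
of some irreducible component of X. -/
theorem result (X : Scheme.{u}) [IsReduced X] (x : ↥X) :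
    Curv2.IsWeakAssPoint (Coh.structureModule X) x ↔ ∀ y : ↥X, y ⤳ x → y = x := by
  obtain ⟨_, ⟨V, hV, rfl⟩, hxV, -⟩ :=
    X.isBasis_affineOpens.exists_subset_of_mem_open (Set.mem_univ x) isOpen_univ
  have hV : IsAffineOpen V := hV
  have hxV : x ∈ V := hxV
  rw [Groth.Agent.H8.isWeakAssPoint_iff_mem_weakAss _ hV hxV, ← minimal_iff_generic hV hxV]
  have hred : _root_.IsReduced Γ(X, V) := inferInstance
  rw [← weakAss_self_iff]
  constructor
  · exact fun h => weakAss_subset_of_injective (secEquiv X V).toLinearMap (secEquiv X V).injective h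
  · exact fun h => weakAss_subset_of_injective (secEquiv X V).symm.toLinearMap
      (secEquiv X V).symm.injective h

end Groth.Agent.S8869
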