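import Groth.Statements.S3405
import Groth.Agent.H17.HS.Degree

set_option autoImplicit false
universe u
open EGA41

namespace Groth.Agent.S3405

/-- The degree of the Hilbert–Samuel polynomial equals the dimension: let A be a Noetherian ring with
finitely many maximal ideals, r its Jacobson radical and M a nonzero finitely generated A-module.
Then there is a polynomial P with rational coefficients such that the length of M/rⁿM is finite and
equals P(n) for all large n, and the degree of P is the dimension of M (the Krull dimension of its
support). -/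
theorem result (A : Type u) [CommRing A] [IsNoetherianRing A]
    [Finite (MaximalSpectrum A)] (M : Type u) [AddCommGroup M] [Module A M] [Module.Finite A M] [Nontrivial M] :
    ∃ P : Polynomial ℚ,
      (∃ N : ℕ, ∀ n : ℕ, N ≤ n →
        ∃ ℓ : ℕ, Module.length A (M ⧸ (Ring.jacobson A ^ n • (⊤ : Submodule A M))) = ℓ ∧ (ℓ : ℚ) = P.eval (n : ℚ)) ∧
      (P.natDegree : WithBot ℕ∞) = Module.supportDim A M := by
  open Groth.Agent.H17 Groth.Agent.H17.HS in
  obtain ⟨P, hP⟩ := exists_isSamuelPoly (A := A) M
  refine ⟨P, ?_, ?_⟩
  · obtain ⟨n₀, hn₀⟩ := hP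
    exact ⟨n₀, fun n hn => ⟨samuel A M n, length_eq_samuel M n, hn₀ n hn⟩⟩
  · have hle : Module.supportDim A M ≤ ((P.natDegree : ℕ) : WithBot ℕ∞) := by
      unfold Module.supportDim
      rw [Order.krullDim, iSup_le_iff]
      intro p
      let p' : LTSeries (PrimeSpectrum A) := p.map Subtype.val (fun a b hab => hab)
      have := le_natDegree_of_chain p.length M P hP p' rfl (p.head).2
      exact_mod_cast this
    rcases h : Module.supportDim A M with _ | _ | d
    · exact absurd h (Module.supportDim_ne_bot_of_nontrivial A M)
    · exfalso
      rw [h] at hle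
      have : ((⊤ : ℕ∞) : WithBot ℕ∞) ≤ ((P.natDegree : ℕ∞) : WithBot ℕ∞) := hle
      rw [WithBot.coe_le_coe] at this
      exact absurd (top_le_iff.mp this) (ENat.natCast_ne_top _)
    · have h' : Module.supportDim A M = ((d : ℕ) : WithBot ℕ∞) := h
      have h1 := natDegree_le_of_supportDim_le d M P hP (le_of_eq h')
      rw [h'] at hle
      have h2 : d ≤ P.natDegree := by exact_mod_cast hle
      have : P.natDegree = d := le_antisymm h1 h2
      rw [this]
      rfl

end Groth.Agent.S3405
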