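import Groth.Statements.S11175
import Groth.Agent.H2.LCInjective
import Groth.Agent.H2.GorensteinExt

set_option autoImplicit false
universe u
open CategoryTheory
open Goren

namespace Groth.Agent.S11175

/-- A Noetherian local ring A with maximal ideal m is Gorenstein (A has finite injective dimension as a
module over itself) if and only if there is a natural number d such that the local cohomology
modules H^i_m(A) (direct limits of Ext^i(A/m^n, A)) vanish for all i ≠ d and H^d_m(A) is an
injective A-module. -/
theorem result (A : Type u) [CommRing A] [IsLocalRing A] [IsNoetherianRing A] : LocCoh.IsGorensteinLocalRing A ↔ ∃ d : ℕ, (∀ i : ℕ, i ≠ d → Subsingleton (LocCoh.H (IsLocalRing.maximalIdeal A) i A)) ∧ Module.Injective A (LocCoh.H (IsLocalRing.maximalIdeal A) d A) := by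
  have hne : IsLocalRing.maximalIdeal A • (⊤ : Submodule A A) ≠ ⊤ :=
    Groth.Agent.H29.CML.smul_top_ne_top A
  constructor
  · intro hG
    obtain ⟨d, hd⟩ := Groth.Agent.H29.CML.exists_nat_supportDim_eq (A := A) A
    rw [Module.supportDim_self_eq_ringKrullDim] at hd
    have hdepth := Groth.Agent.H2.GorensteinExt.depth_eq_of_gorenstein A d hd
    have hlt := Groth.Agent.H2.GorensteinCM.hasInjectiveDimensionLT_of_ringKrullDim A d hd
    have hlow : ∀ i, i < d → Subsingleton
        (Groth.Agent.H2.LCInjective.H (IsLocalRing.maximalIdeal A) i (ModuleCat.of A A)) :=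
      Groth.Agent.H2.LCInjective.subsingleton_H_of_lt_depth (IsLocalRing.maximalIdeal A) d A hne
        (le_of_eq hdepth.symm)
    refine ⟨d, fun i hi => ?_, ?_⟩
    · rcases Nat.lt_or_ge i d with h | h
      · exact hlow i h
      · refine Groth.Agent.H2.InjDimResidue.subsingleton_of_forall_eq_zero fun x => ?_
        obtain ⟨n, e, rfl⟩ := Groth.Agent.H58.LC.exists_rep (IsLocalRing.maximalIdeal A) i
          (ModuleCat.of A A) x
        have : e = 0 := Abelian.Ext.eq_zero_of_hasInjectiveDimensionLT e (d + 1) (by omega)
        rw [this, map_zero]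
    · apply Groth.Agent.H2.LCInjective.injective_H (IsLocalRing.maximalIdeal A) d
        (ModuleCat.of A A) hlt
      · rcases Nat.eq_zero_or_pos d with h0 | hpos
        · subst h0
          haveI : Injective (ModuleCat.of A A) := injective_iff_hasInjectiveDimensionLT_one.mpr hlt
          exact Groth.Agent.H2.LCInjective.injective_H0_of_injective _ _
        · haveI := hlow 0 hpos
          exact Groth.Agent.H2.InjSplit.injective_of_subsingleton _
      · intro i _ hi
        exact hlow i hi
  · rintro ⟨d, hvan, hinj⟩
    have hall : ∀ i, Module.Injective A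
        (Groth.Agent.H2.LCInjective.H (IsLocalRing.maximalIdeal A) i (ModuleCat.of A A)) := by
      intro i
      by_cases hi : i = d
      · subst hi; exact hinj
      · haveI := hvan i hi
        exact Groth.Agent.H2.InjSplit.injective_of_subsingleton _
    have hk : Groth.Agent.H58.LC.IsTors (IsLocalRing.maximalIdeal A)
        (ModuleCat.of A (IsLocalRing.ResidueField A)) := by
      intro y
      refine ⟨1, fun a ha => ?_⟩
      rw [pow_one] at ha
      obtain ⟨b, rfl⟩ := IsLocalRing.residue_surjective y
      show a • IsLocalRing.residue A b = 0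
      rw [Algebra.smul_def]
      show IsLocalRing.residue A a * IsLocalRing.residue A b = 0
      rw [(IsLocalRing.residue_eq_zero_iff _).mpr ha, zero_mul]
    exact { exists_hasInjectiveDimensionLT := ⟨d + 1,
      Groth.Agent.H2.InjDimResidue.hasInjectiveDimensionLT_of_residueField (ModuleCat.of A A) d
        (fun i hi => by
          obtain ⟨s, rfl⟩ : ∃ s, i = s + 1 := ⟨i - 1, by omega⟩
          exact Groth.Agent.H2.LCInjective.subsingleton_ext_of_injective_H
            (IsLocalRing.maximalIdeal A) _ hk s (ModuleCat.of A A) hall
            (hvan (s + 1) (by omega)))⟩ }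

end Groth.Agent.S11175
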