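import Groth.Statements.S0020
import Groth.Agent.H18.FTypeConverse

set_option autoImplicit false
universe u
open Coherent

namespace Groth.Agent.S0020

open AlgebraicGeometry in
/-- On a scheme X, the set of points at which the stalk of a finite type 𝒪_X-module M is nonzero (the
support of M) is closed. -/
theorem result (X : Scheme.{u}) (M : X.Modules) (hM : CohB1.IsFT M) :
    IsClosed (CohB1.support M) := by
  rw [← isOpen_compl_iff, isOpen_iff_forall_mem_open]
  intro x hx
  have hx' : Subsingleton (M.presheaf.stalk x) := by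
    by_contra h
    exact hx h
  obtain ⟨ι, U, hU, σ, hfin, s, hgen⟩ := Groth.Agent.H18.exists_local_generators_of_isFiniteType M hM
  obtain ⟨i, hi⟩ := hU.exists_mem x
  -- each generator vanishes near x
  have hvan : ∀ j : σ i, ∃ (V : X.Opens) (hV : V ≤ U i), x ∈ V ∧ Groth.Agent.H18.mres M hV (s i j) = 0 := by
    intro j
    have h0 : M.presheaf.germ (U i) x hi (s i j) = M.presheaf.germ (U i) x hi 0 := Subsingleton.elim _ _
    obtain ⟨W, hxW, iU, iV, e⟩ := M.presheaf.germ_eq x hi hi _ _ h0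
    refine ⟨W, iU.le, hxW, ?_⟩
    rw [map_zero] at e
    exact e
  choose V hV hxV hsV using hvan
  haveI := hfin i
  let V₀ : X.Opens := ⟨(⋂ j, (V j : Set X)) ∩ (U i : Set X),
    (isOpen_iInter_of_finite fun j => (V j).2).inter (U i).2⟩
  have hV₀U : V₀ ≤ U i := fun y hy => hy.2
  have hV₀V : ∀ j, V₀ ≤ V j := fun j y hy => Set.mem_iInter.mp hy.1 j
  refine ⟨(V₀ : Set X), ?_, V₀.2, ⟨Set.mem_iInter.mpr hxV, hi⟩⟩
  intro y hy
  change ¬ ¬ Subsingleton (M.presheaf.stalk y)
  rw [not_not]
  refine ⟨fun a b => ?_⟩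
  have hzero : ∀ c : M.presheaf.stalk y, c = 0 := by
    intro c
    obtain ⟨W, hyW, t, rfl⟩ := M.presheaf.germ_exist (x := y) c
    have hWV : W ⊓ V₀ ≤ U i := inf_le_right.trans hV₀U
    obtain ⟨W', hW', hyW', hspan⟩ := hgen i (W ⊓ V₀) hWV
      (Groth.Agent.H18.mres M (inf_le_left : W ⊓ V₀ ≤ W) t) y ⟨hyW, hy⟩
    have hz : (fun j => Groth.Agent.H18.mres M (hW'.trans hWV) (s i j)) = fun _ => 0 := by
      funext j
      have h1 : Groth.Agent.H18.mres M (hW'.trans hWV) (s i j) =
          Groth.Agent.H18.mres M (hW'.trans (inf_le_right.trans (hV₀V j)))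
            (Groth.Agent.H18.mres M (hV j) (s i j)) := (Groth.Agent.H18.mres_mres M _ _ _).symm
      rw [h1, hsV j, map_zero]
    rw [hz] at hspan
    have h0 : Groth.Agent.H18.mres M hW' (Groth.Agent.H18.mres M (inf_le_left : W ⊓ V₀ ≤ W) t) = 0 := by
      have : Submodule.span Γ(X, W') (Set.range fun _ : σ i => (0 : Γ(M, W'))) = ⊥ := by
        rw [Submodule.span_eq_bot]
        rintro _ ⟨_, rfl⟩
        rfl
      rw [this] at hspan
      exact hspan
    rw [Groth.Agent.H18.mres_mres] at h0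
    have h2 := M.presheaf.germ_res_apply (CategoryTheory.homOfLE (hW'.trans inf_le_left)) y hyW' t
    rw [← h2]
    change M.presheaf.germ W' y hyW' (Groth.Agent.H18.mres M _ t) = 0
    rw [h0, map_zero]
  rw [hzero a, hzero b]

end Groth.Agent.S0020
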