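import Mathlib
import Groth.Statements.S9249
import Groth.Agent.H72.FlatCM
import Groth.Agent.H20.ComplNoeth2
-- import your own Groth.Agent.* helpers here

set_option autoImplicit false
universe u
open CAlg

namespace Groth.Agent.S9249

open Groth.Agent.H72.FlatCM

/-- A Noetherian local ring is Cohen-Macaulay if and only if its completion is. -/
theorem result (A : Type u) [CommRing A] [IsLocalRing A]
    [IsNoetherianRing A] :
    LocCoh.IsCohenMacaulayLocalRing A ↔
      LocCoh.IsCohenMacaulayLocalRing (AdicCompletion (IsLocalRing.maximalIdeal A) A) := by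
  have hN : IsNoetherianRing (AdicCompletion (IsLocalRing.maximalIdeal A) A) :=
    Groth.Agent.H20.isNoetherianRing_adicCompletion _
  have hflat : Module.Flat A (AdicCompletion (IsLocalRing.maximalIdeal A) A) := inferInstance
  rw [isCohenMacaulayLocalRing_iff_of_flat (A := A)
    (B := AdicCompletion (IsLocalRing.maximalIdeal A) A)]
  have hF : LocCoh.IsCohenMacaulayLocalRing
      (AdicCompletion (IsLocalRing.maximalIdeal A) A ⧸
        Ideal.map (algebraMap A (AdicCompletion (IsLocalRing.maximalIdeal A) A))
          (IsLocalRing.maximalIdeal A)) := by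
    apply isCohenMacaulayLocalRing_of_ringKrullDim_eq_zero
    apply ringKrullDim_eq_zero_of_isField
    rw [← Ideal.Quotient.maximal_ideal_iff_isField_quotient, ← AdicCompletion.maximalIdeal_eq_map]
    exact IsLocalRing.maximalIdeal.isMaximal _
  exact ⟨fun h => ⟨h, hF⟩, fun h => h.1⟩

end Groth.Agent.S9249
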