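import Groth.Statements.S12289
import Groth.Agent.H61.CotTBasic

set_option autoImplicit false
universe u w m
open scoped TensorProduct
open DefT

namespace Groth.Agent.S12289

/-- Let k be a commutative ring and B a k-algebra presented as R/I with R = k[x_i] a polynomial ring
(any set of variables) and chosen generators of I, and let M be a B-module; T^0(B/k, M) and T^1(B/k,
M) are computed from this presentation. Then the sequence 0 → T^0(B/k, M) → Hom_B(Ω_{R/k} ⊗_R B, M)
→ Hom_B(I/I², M) → T^1(B/k, M) → 0 is exact, where the middle map is composition with the conormal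
map d : I/I² → Ω_{R/k} ⊗_R B and the last map sends φ to the class of φ ∘ (F/IF → I/I²): the
submodule T^0(B/k, M) of Hom_B(Ω_{R/k} ⊗ B, M) is the kernel of composition with d, the kernel of
Hom_B(I/I², M) → T^1(B/k, M) is the image of composition with d, and Hom_B(I/I², M) → T^1(B/k, M) is
surjective. (The published statement takes finitely many variables over a field and adds that the
same holds over any base ring; this row allows any base ring and any set of variables.) -/
theorem result
    (k B : Type u) [CommRing k] [CommRing B] [Algebra k B] (ι σ : Type w) (P : Algebra.Presentation k B ι σ)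
    (M : Type m) [AddCommGroup M] [Module B M] :
    LinearMap.ker (CotT.d1Star P M) = LinearMap.ker (LinearMap.lcomp B M P.toExtension.cotangentComplex) ∧
    LinearMap.ker (CotT.homToT1 P M) = LinearMap.range (LinearMap.lcomp B M P.toExtension.cotangentComplex) ∧
    Function.Surjective (CotT.homToT1 P M) := by
  have hsurj := Groth.Agent.H61.toCot_surjective P
  have hcancel : ∀ (α β : P.toExtension.Cotangent →ₗ[B] M),
      α ∘ₗ CotT.toCot P = β ∘ₗ CotT.toCot P → α = β := by
    intro α β h
    ext y
    obtain ⟨x, rfl⟩ := hsurj y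
    exact LinearMap.congr_fun h x
  refine ⟨?_, ?_, ?_⟩
  · ext φ
    simp only [LinearMap.mem_ker, CotT.d1Star_apply, LinearMap.lcomp_apply']
    rw [CotT.d1, ← LinearMap.comp_assoc]
    constructor
    · intro h
      exact hcancel _ 0 (by rw [h, LinearMap.zero_comp])
    · intro h
      rw [h, LinearMap.zero_comp]
  · ext φ
    simp only [LinearMap.mem_ker, LinearMap.mem_range, CotT.homToT1, LinearMap.coe_comp,
      Function.comp_apply, Submodule.mkQ_apply, Submodule.Quotient.mk_eq_zero]
    constructor
    · rintro ⟨ψ, hψ⟩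
      refine ⟨ψ, hcancel _ _ ?_⟩
      have h2 : CotT.d1Star P M ψ = φ ∘ₗ CotT.toCot P := hψ
      rw [LinearMap.lcomp_apply', ← h2, CotT.d1Star_apply, CotT.d1, LinearMap.comp_assoc]
    · rintro ⟨ψ, rfl⟩
      refine ⟨ψ, ?_⟩
      change CotT.d1Star P M ψ = (ψ ∘ₗ P.toExtension.cotangentComplex) ∘ₗ CotT.toCot P
      rw [CotT.d1Star_apply, CotT.d1, LinearMap.comp_assoc]
  · intro c
    obtain ⟨c, rfl⟩ := Submodule.Quotient.mk_surjective _ c
    have hc : (c : CotT.L1 P →ₗ[B] M) ∘ₗ CotT.d2 P = 0 := c.2
    have hker : LinearMap.ker (CotT.toCot P) ≤ LinearMap.ker (c : CotT.L1 P →ₗ[B] M) := by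
      rw [Groth.Agent.H61.ker_toCot_eq_range_d2, LinearMap.range_le_ker_iff]
      exact hc
    let φ : P.toExtension.Cotangent →ₗ[B] M :=
      ((LinearMap.ker (CotT.toCot P)).liftQ (c : CotT.L1 P →ₗ[B] M) hker) ∘ₗ
        ((CotT.toCot P).quotKerEquivOfSurjective hsurj).symm.toLinearMap
    have hφ : φ ∘ₗ CotT.toCot P = (c : CotT.L1 P →ₗ[B] M) := by
      ext x
      simp only [φ, LinearMap.coe_comp, LinearEquiv.coe_coe, Function.comp_apply]
      have : ((CotT.toCot P).quotKerEquivOfSurjective hsurj).symm (CotT.toCot P x) =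
          Submodule.Quotient.mk x := by
        rw [LinearEquiv.symm_apply_eq]
        rfl
      rw [this, Submodule.liftQ_apply]
    refine ⟨φ, ?_⟩
    change Submodule.Quotient.mk _ = Submodule.Quotient.mk c
    congr 1
    exact Subtype.ext hφ

end Groth.Agent.S12289
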