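import Groth.Statements.S4853
import Groth.Agent.H24.NilFree

set_option autoImplicit false
universe u
open EGA43

namespace Groth.Agent.S4853

open TensorProduct Groth.Agent.H24

/-- Let A be a commutative ring and M an A-module such that (A/J) ⊗_A M is free over A/J for some
nilpotent ideal J of A. Then among the ideals R of A such that (A/R) ⊗_A M is free over A/R there is
a least one, R₀, which is also the least ideal R such that (A/R) ⊗_A M is flat over A/R; and for
every commutative A-algebra A', the module A' ⊗_A M is free over A' if and only if it is flat over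
A', if and only if R₀ generates the zero ideal of A'. -/
theorem result {A : Type u} [CommRing A]
    (M : Type u) [AddCommGroup M] [Module A M]
    (J : Ideal A) (hJ : IsNilpotent J) (hfree : Module.Free (A ⧸ J) ((A ⧸ J) ⊗[A] M)) :
    ∃ R₀ : Ideal A,
      IsLeast {R : Ideal A | Module.Free (A ⧸ R) ((A ⧸ R) ⊗[A] M)} R₀ ∧
      IsLeast {R : Ideal A | Module.Flat (A ⧸ R) ((A ⧸ R) ⊗[A] M)} R₀ ∧
      ∀ (A' : Type u) [CommRing A'] [Algebra A A'],
        (Module.Free A' (A' ⊗[A] M) ↔ Ideal.map (algebraMap A A') R₀ = ⊥) ∧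
        (Module.Flat A' (A' ⊗[A] M) ↔ Ideal.map (algebraMap A A') R₀ = ⊥) := by
  classical
  let Λ := Module.Free.ChooseBasisIndex (A ⧸ J) ((A ⧸ J) ⊗[A] M)
  let b : Module.Basis Λ (A ⧸ J) ((A ⧸ J) ⊗[A] M) := Module.Free.chooseBasis _ _
  have hsurj1 : Function.Surjective (TensorProduct.mk A (A ⧸ J) M 1) :=
    TensorProduct.mk_surjective (R := A) (S := A ⧸ J) (M := M) Ideal.Quotient.mk_surjective
  choose x hx using fun l => hsurj1 (b l)
  let φ : (Λ →₀ A) →ₗ[A] M := Finsupp.linearCombination A x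
  -- surjectivity of `φ`
  have hspan : Submodule.span A (Set.range b) = ⊤ := by
    rw [← Submodule.restrictScalars_span A (A ⧸ J) Ideal.Quotient.mk_surjective, b.span_eq]
    rfl
  have hrange : LinearMap.range ((TensorProduct.mk A (A ⧸ J) M 1).comp φ) = ⊤ := by
    rw [eq_top_iff, ← hspan, Submodule.span_le]
    rintro _ ⟨l, rfl⟩
    refine ⟨Finsupp.single l 1, ?_⟩
    rw [LinearMap.comp_apply, Finsupp.linearCombination_single, one_smul, hx]
  have hφ : Function.Surjective φ := by
    rw [← LinearMap.range_eq_top]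
    obtain ⟨r, hr⟩ := hJ
    refine eq_top_of_sup_smul_top_eq_top_of_pow_eq_bot (LinearMap.range φ) J ?_ r hr
    rw [eq_top_iff]
    intro m _
    obtain ⟨a, ha⟩ := LinearMap.range_eq_top.mp hrange (TensorProduct.mk A (A ⧸ J) M 1 m)
    have h1 : (1 : A ⧸ J) ⊗ₜ[A] (m - φ a) = 0 := by
      rw [TensorProduct.tmul_sub, sub_eq_zero]
      exact ha.symm
    have h2 : m - φ a ∈ J • (⊤ : Submodule A M) := by
      have := congrArg (TensorProduct.quotTensorEquivQuotSMul M J) h1
      rw [map_zero, TensorProduct.quotTensorEquivQuotSMul_mk_one_tmul] at this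
      exact (Submodule.Quotient.mk_eq_zero _).mp this
    have h3 : m = φ a + (m - φ a) := by abel
    rw [h3]
    exact Submodule.add_mem_sup ⟨a, rfl⟩ h2
  -- relations have coefficients in `J`
  have hK : relIdeal φ ≤ J := by
    refine Ideal.span_le.mpr ?_
    rintro _ ⟨a, ha, l, rfl⟩
    have h0 : TensorProduct.mk A (A ⧸ J) M 1 (φ a) = 0 := by
      rw [LinearMap.mem_ker.mp ha, map_zero]
    have h1 : TensorProduct.mk A (A ⧸ J) M 1 (φ a) =
        Finsupp.linearCombination (A ⧸ J) b
          (a.mapRange (Ideal.Quotient.mk J) (map_zero _)) := by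
      rw [Finsupp.linearCombination_apply, Finsupp.linearCombination_apply,
        Finsupp.sum_mapRange_index (h := fun i (c : A ⧸ J) => c • b i) (fun l => zero_smul _ _),
        map_finsuppSum]
      refine Finsupp.sum_congr fun l _ => ?_
      rw [map_smul, hx, ← Ideal.Quotient.algebraMap_eq, algebraMap_smul]
    rw [h1, ← b.repr_symm_apply] at h0
    have h2 : a.mapRange (Ideal.Quotient.mk J) (map_zero _) = 0 :=
      b.repr.symm.injective (by rw [h0, map_zero])
    have h3 := DFunLike.congr_fun h2 l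
    rw [Finsupp.mapRange_apply, Finsupp.zero_apply] at h3
    exact Ideal.Quotient.eq_zero_iff_mem.mp h3
  -- main equivalences
  have key : ∀ (A' : Type u) [CommRing A'] [Algebra A A'],
      (Module.Free A' (A' ⊗[A] M) ↔ Ideal.map (algebraMap A A') (relIdeal φ) = ⊥) ∧
      (Module.Flat A' (A' ⊗[A] M) ↔ Ideal.map (algebraMap A A') (relIdeal φ) = ⊥) := by
    intro A' _ _
    have h1 : Ideal.map (algebraMap A A') (relIdeal φ) = ⊥ → Module.Free A' (A' ⊗[A] M) :=
      free_baseChange_of_map_relIdeal_eq_bot φ A' hφ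
    have h2 : Module.Flat A' (A' ⊗[A] M) → Ideal.map (algebraMap A A') (relIdeal φ) = ⊥ :=
      fun _ => map_relIdeal_eq_bot_of_flat φ A' hφ J hJ hK
    have h3 : Module.Free A' (A' ⊗[A] M) → Module.Flat A' (A' ⊗[A] M) :=
      fun _ => inferInstance
    exact ⟨⟨fun h => h2 (h3 h), h1⟩, ⟨h2, fun h => h3 (h1 h)⟩⟩
  refine ⟨relIdeal φ, ⟨?_, ?_⟩, ⟨?_, ?_⟩, key⟩
  · exact (key (A ⧸ relIdeal φ)).1.mpr (by
      rw [Ideal.Quotient.algebraMap_eq, Ideal.map_quotient_self])
  · intro R hR
    have := (key (A ⧸ R)).1.mp hR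
    rw [Ideal.Quotient.algebraMap_eq, Ideal.map_eq_bot_iff_le_ker, Ideal.mk_ker] at this
    exact this
  · exact (key (A ⧸ relIdeal φ)).2.mpr (by
      rw [Ideal.Quotient.algebraMap_eq, Ideal.map_quotient_self])
  · intro R hR
    have := (key (A ⧸ R)).2.mp hR
    rw [Ideal.Quotient.algebraMap_eq, Ideal.map_eq_bot_iff_le_ker, Ideal.mk_ker] at this
    exact this

end Groth.Agent.S4853
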