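import Groth.Statements.S5815
import Groth.Agent.H29.Exal3
import Mathlib.RingTheory.Smooth.Basic

set_option autoImplicit false
universe u
open EGA41

namespace Groth.Agent.S5815

open Groth.Agent.H29.ExalL

theorem ker_sq_zero {A B L : Type u} [CommRing A] [CommRing B] [Algebra A B] [AddCommGroup L]
    [Module B L] (X : Exal.Ext A B L) :
    ∀ x ∈ RingHom.ker X.proj, ∀ y ∈ RingHom.ker X.proj, x * y = 0 := by
  intro x hx y hy
  obtain ⟨z, rfl⟩ := (X.isExtension.exact x).1 hx
  obtain ⟨z', rfl⟩ := (X.isExtension.exact y).1 hy
  exact incl_mul_incl X z z'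


/-- Discrete case. A commutative A-algebra B is formally smooth if and only if every A-extension of B by
a B-module L is trivial (has an A-algebra section). A and B are taken in one universe and L ranges
over that universe. (The published statement is for topological rings, with direct-limit classes of
extensions; this row is its discrete case.) -/
theorem result (A B : Type u) [CommRing A] [CommRing B] [Algebra A B] :
    Algebra.FormallySmooth A B ↔
      ∀ (L : Type u) [AddCommGroup L] [Module B L] (X : Exal.Ext A B L), X.IsTrivial := by
  constructor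
  · intro hsm L _ _ X
    have hnil : IsNilpotent (RingHom.ker (X.proj : X.E →+* B)) := by
      refine ⟨2, ?_⟩
      rw [Ideal.zero_eq_bot, eq_bot_iff, pow_two, Ideal.mul_le]
      intro x hx y hy
      rw [Ideal.mem_bot]
      exact ker_sq_zero X x hx y hy
    refine ⟨Algebra.FormallySmooth.liftOfSurjective (AlgHom.id A B) X.proj
      X.isExtension.proj_surjective hnil, fun b => ?_⟩
    exact Algebra.FormallySmooth.liftOfSurjective_apply (AlgHom.id A B) X.proj
      X.isExtension.proj_surjective hnil b
  · intro h
    let f : MvPolynomial B A →ₐ[A] B := MvPolynomial.aeval (fun b : B => b)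
    have hf : Function.Surjective f := fun b => ⟨MvPolynomial.X b, by simp [f]⟩
    let p := f.kerSquareLift
    have hp : Function.Surjective p := fun b => by
      obtain ⟨x, hx⟩ := hf b
      exact ⟨Ideal.Quotient.mk _ x, hx⟩
    have hsq : ∀ x ∈ RingHom.ker p, ∀ y ∈ RingHom.ker p, x * y = 0 := by
      intro x hx y hy
      have h1 : RingHom.ker p = (RingHom.ker f.toRingHom).cotangentIdeal := f.ker_kerSquareLift
      have h3 : (RingHom.ker f.toRingHom).cotangentIdeal * (RingHom.ker f.toRingHom).cotangentIdeal = ⊥ :=
        (sq _).symm.trans (Ideal.cotangentIdeal_square (RingHom.ker f.toRingHom))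
      have h2 : x * y ∈ (RingHom.ker f.toRingHom).cotangentIdeal * (RingHom.ker f.toRingHom).cotangentIdeal :=
        Ideal.mul_mem_mul (h1.le hx) (h1.le hy)
      rw [h3] at h2
      exact h2
    obtain ⟨s, hs⟩ := @h (RingHom.ker p) _ (kerModule p hp hsq) (extOfSurj p hp hsq)
    exact Algebra.FormallySmooth.of_split f s (AlgHom.ext hs)

end Groth.Agent.S5815
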