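import Groth.Statements.S12125
import Groth.Agent.H13.NagataLocCrit
import Groth.Agent.S4562
-- import your own Groth.Agent.* helpers here

set_option autoImplicit false
universe u
open EGA4

namespace Groth.Agent.S12125

/-- Let A be a Noetherian ring. Then every quotient of A by a prime ideal is N-2 (i.e. A is a Nagata
ring) if and only if (1) for every maximal ideal m of A every quotient of A_m by a prime ideal is
N-2, and (2) for every prime p of A, writing B = A/p with fraction field K, for every finite purely
inseparable field extension K' of K and every sub-B-algebra B' of K' which is a finite B-module and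
has K' as its fraction field, there is a nonzero element f of B' such that B'_f is an integrally
closed domain. -/
theorem result (A : Type u) [CommRing A] [IsNoetherianRing A] :
    CAlg.IsNagata A ↔
      ((∀ (m : Ideal A) [m.IsMaximal] (P : Ideal (Localization.AtPrime m)) [P.IsPrime],
          CAlg.IsN2 (Localization.AtPrime m ⧸ P)) ∧
        ∀ (p : Ideal A) [p.IsPrime] (K' : Type u) [Field K'] [Algebra (A ⧸ p) K']
          [Algebra (FractionRing (A ⧸ p)) K'] [IsScalarTower (A ⧸ p) (FractionRing (A ⧸ p)) K']
          [FiniteDimensional (FractionRing (A ⧸ p)) K'] [IsPurelyInseparable (FractionRing (A ⧸ p)) K']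
          (B' : Subalgebra (A ⧸ p) K'), Module.Finite (A ⧸ p) B' → IsFractionRing B' K' →
            ∃ f : B', f ≠ 0 ∧ IsIntegrallyClosed (Localization.Away f)) := by
  constructor
  · rintro ⟨-, hN⟩
    refine ⟨?_, ?_⟩
    · intro m _ P _
      exact Groth.Agent.H13.NagataLocCrit.isN2_quotient_of_isLocalization m.primeCompl
        (Localization.AtPrime m) P hN
    · intro p _ K' _ _ _ _ _ _ B' hfin hfr
      exact Groth.Agent.H13.NagataLocCrit.exists_away_of_isN2 (A ⧸ p) (hN p) K' B' hfin hfr
  · rintro ⟨h1, h2⟩
    refine ⟨inferInstance, ?_⟩
    intro p _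
    apply Groth.Agent.S4562.result (A ⧸ p)
    intro K' _ _ _ _ hfd hpi
    haveI := hfd
    haveI := hpi
    obtain ⟨B', -, hfin, hfrac⟩ :=
      Groth.Agent.H47.exists_finite_subalgebra_isFractionRing (A ⧸ p) (FractionRing (A ⧸ p)) K'
    haveI := hfin
    haveI := hfrac
    obtain ⟨f, hf, hn⟩ := h2 p K' B' hfin hfrac
    haveI : IsNoetherianRing B' := Algebra.FiniteType.isNoetherianRing (A ⧸ p) B'
    have hinj : Function.Injective (algebraMap (A ⧸ p) B') := by
      have h3 : Function.Injective (algebraMap (A ⧸ p) K') := by
        rw [IsScalarTower.algebraMap_eq (A ⧸ p) (FractionRing (A ⧸ p)) K']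
        exact (algebraMap (FractionRing (A ⧸ p)) K').injective.comp
          (IsFractionRing.injective (A ⧸ p) _)
      intro x y hxy
      apply h3
      have := congrArg (algebraMap B' K') hxy
      rwa [← IsScalarTower.algebraMap_apply, ← IsScalarTower.algebraMap_apply] at this
    have hN1 : CAlg.IsN1 B' := by
      refine Groth.Agent.H13.N1CritGen.isN1_of_local' B' f hf hn ?_
      intro Q _
      exact Groth.Agent.H13.NagataLocCrit.exists_localization_finite (A ⧸ p)
        (fun m' _ => Groth.Agent.H13.NagataLocCrit.isN2_atPrime_quotient p h1 m') B' hinj Q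
    exact Groth.Agent.H47.finite_integralClosure_of_subalgebra B' hN1

end Groth.Agent.S12125
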