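import Groth.Statements.S0372
import Groth.Agent.H2.DualCx.PLocalCM

set_option autoImplicit false
universe u v
open CategoryTheory
attribute [local instance] HasDerivedCategory.standard
open Dual

namespace Groth.Agent.S0372

/-- If a Noetherian ring has a dualizing complex then the set of primes at which the localization is
Cohen–Macaulay is open and dense in the prime spectrum. -/
theorem result (A : Type u) [CommRing A] [IsNoetherianRing A] (ω : Dual.D A) (hω : Dual.IsDualizing A ω) : IsOpen {p : PrimeSpectrum A | LocCoh.IsCohenMacaulayLocalRing (Localization.AtPrime p.asIdeal)} ∧ Dense {p : PrimeSpectrum A | LocCoh.IsCohenMacaulayLocalRing (Localization.AtPrime p.asIdeal)} := by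
  have hsupp : ∀ P : PrimeSpectrum A, P ∈ Module.support A A := by
    intro P
    rw [Module.mem_support_iff']
    refine ⟨1, fun r hr h0 => hr ?_⟩
    rw [smul_eq_mul, mul_one] at h0
    rw [h0]
    exact P.asIdeal.zero_mem
  have key : ∀ P : PrimeSpectrum A,
      LocCoh.IsCohenMacaulayLocalRing (Localization.AtPrime P.asIdeal) ↔
        ∀ i j : ℤ, P ∈ Module.support A (Groth.Agent.H2.DualCx.T ω i A) →
          P ∈ Module.support A (Groth.Agent.H2.DualCx.T ω j A) → i = j := by
    intro P
    rw [← Groth.Agent.H2.DualCx.isCohenMacaulayModule_localizedModule_iff hω A P (hsupp P)]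
    constructor
    · intro h
      exact h.supportDim_eq_depth
    · intro h
      exact { supportDim_eq_depth := h }
  have heq : {p : PrimeSpectrum A |
      LocCoh.IsCohenMacaulayLocalRing (Localization.AtPrime p.asIdeal)} =
      {P : PrimeSpectrum A | ∀ i j : ℤ,
        P ∈ Module.support A (Groth.Agent.H2.DualCx.T ω i A) →
        P ∈ Module.support A (Groth.Agent.H2.DualCx.T ω j A) → i = j} := by
    ext P
    exact key P
  rw [heq]
  refine ⟨Groth.Agent.H2.DualCx.isOpen_unique_degree hω A, ?_⟩
  intro P
  obtain ⟨Q, hQM, hQP, hmin⟩ := Groth.Agent.H2.DualCx.exists_minimal_le A P (hsupp P)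
  have hQ : Q ∈ {P : PrimeSpectrum A | ∀ i j : ℤ,
        P ∈ Module.support A (Groth.Agent.H2.DualCx.T ω i A) →
        P ∈ Module.support A (Groth.Agent.H2.DualCx.T ω j A) → i = j} := by
    intro i j hi hj
    rw [(Groth.Agent.H2.DualCx.mem_support_T_iff_of_minimal hω A Q hQM hmin i).mp hi,
      (Groth.Agent.H2.DualCx.mem_support_T_iff_of_minimal hω A Q hQM hmin j).mp hj]
  have hspec : Q ⤳ P := (PrimeSpectrum.le_iff_specializes Q P).mp hQP
  have h1 : P ∈ closure {Q} := specializes_iff_mem_closure.mp hspec
  exact closure_mono (Set.singleton_subset_iff.mpr hQ) h1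

end Groth.Agent.S0372
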