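import Groth.Statements.S6031
import Groth.Agent.Lead.Coh.AffineOpen

set_option autoImplicit false
universe u
open CategoryTheory CategoryTheory.Limits TopologicalSpace AlgebraicGeometry
open LocCohZ

namespace Groth.Agent.S6031

/-- Let Y be an affine scheme, U an open subset with closed complement Z and M a quasi-coherent
O_Y-module with underlying abelian sheaf F. Then 0 → H^0_Z(Y, F) → H^0(Y, F) → H^0(U, F) → H^1_Z(Y,
F) → 0 is exact, i.e. the connecting map H^0(U, F) → H^1_Z(Y, F) is surjective, and the connecting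
maps H^i(U, F) → H^{i+1}_Z(Y, F) are bijective for all i ≥ 1. (The published statement assumes U
quasi-compact; the printed proof of these two assertions only uses the vanishing of the higher
cohomology of F on the affine scheme Y, so U is an arbitrary open here.) -/
theorem result (Y : Scheme.{u}) [IsAffine Y] (M : Y.Modules)
    (hM : Coh.IsQCoh M) (U : Y.Opens) :
    Function.Surjective (LocCohZ.delta (X := Y.carrier) (Coh.toAb M) 0 (le_top : U ≤ ⊤)) ∧
      ∀ i : ℕ, 1 ≤ i →
        Function.Bijective (LocCohZ.delta (X := Y.carrier) (Coh.toAb M) i (le_top : U ≤ ⊤)) := by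
  have hq : M.IsQuasicoherent := hM
  have hS := LocCohZ.zqSeq_shortExact (X := Y.carrier) (le_top : U ≤ ⊤)
  have hv : ∀ (n : ℕ) (x : Abelian.Ext (CohCx.freeSheaf (Opens.grothendieckTopology Y.carrier)
      (⊤ : Opens Y.carrier)) (Coh.toAb M) (n + 1)), x = 0 :=
    fun n => Groth.Agent.Lead.Coh.hVanish_of_isAffineOpen Y M (isAffineOpen_top Y) n
  have hsurj : ∀ i : ℕ, Function.Surjective
      (LocCohZ.delta (X := Y.carrier) (Coh.toAb M) i (le_top : U ≤ ⊤)) := by
    intro i x
    obtain ⟨y, hy⟩ := Abelian.Ext.contravariant_sequence_exact₃ hS (Coh.toAb M) x (hv _ _)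
      (show 1 + i = i + 1 by omega)
    exact ⟨y, hy⟩
  refine ⟨hsurj 0, fun i hi => ⟨?_, hsurj i⟩⟩
  rw [injective_iff_map_eq_zero]
  intro x hx
  obtain ⟨k, rfl⟩ : ∃ k, i = k + 1 := ⟨i - 1, by omega⟩
  obtain ⟨y, rfl⟩ := Abelian.Ext.contravariant_sequence_exact₁ hS (Coh.toAb M) x
    (show 1 + (k + 1) = k + 1 + 1 by omega) hx
  have hy : y = 0 := hv k y
  subst hy
  exact Abelian.Ext.comp_zero (Abelian.Ext.mk₀ (zqSeq (X := Y.carrier) (le_top : U ≤ ⊤)).f)
    (Coh.toAb M) (k + 1) (k + 1) (by omega)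

end Groth.Agent.S6031
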