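import Groth.Statements.S8873
import Groth.Agent.H44.FittSheaf
import Groth.Agent.H44.FPSections

set_option autoImplicit false
universe u
open CategoryTheory CategoryTheory.Limits AlgebraicGeometry TopologicalSpace
open SDiv

namespace Groth.Agent.S8873

/-- Let S be a scheme and F a finitely presented O_S-module. Then for every r the Fitting ideal sheaf
Fit_r(F) is of finite type: its ideal of sections over every affine open is finitely generated. -/
theorem result (S : Scheme.{u}) (F : S.Modules) (hF : CohB1.IsFP F) (r : ℕ) :
    BlowUp.IsFiniteTypeIdeal (Fitt.sheafIdeal F r) := by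
  haveI : SheafOfModules.IsFinitePresentation (R := S.ringCatSheaf) F := hF
  haveI : F.IsQuasicoherent := inferInstance
  haveI : SheafOfModules.IsFiniteType (R := S.ringCatSheaf) F := inferInstance
  intro U
  haveI : Module.FinitePresentation Γ(S, U.1) Γ(F, U.1) :=
    Groth.Agent.H44.finitePresentation_sections_of_isFinitePresentation F U.2
  rw [Groth.Agent.H44.sheafIdeal_ideal]
  exact Groth.Agent.Lead.fitt_ideal_fg r

end Groth.Agent.S8873
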