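import Groth.Statements.S8875
import Groth.Agent.H44.FittSupport
import Groth.Agent.H44.AffineFree

set_option autoImplicit false
universe u
open CategoryTheory CategoryTheory.Limits AlgebraicGeometry TopologicalSpace
open SDiv

namespace Groth.Agent.S8875

/-- (1) ⇔ (3): let S be a scheme, F a quasi-coherent O_S-module of finite type and r ≥ 0. Then F is
finite locally free of rank r if and only if Fit_k(F) = 0 for every k < r and Fit_k(F) = O_S for
every k ≥ r. -/
theorem result (S : Scheme.{u}) (F : S.Modules) (hF : Coh.IsQCoh F) (hft : CohB1.IsFT F)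
    (r : ℕ) :
    FlatMod.IsFinLocFreeOfRank r F ↔
      (∀ k : ℕ, k < r → Fitt.sheafIdeal F k = ⊥) ∧ (∀ k : ℕ, r ≤ k → Fitt.sheafIdeal F k = ⊤) := by
  haveI : F.IsQuasicoherent := hF
  haveI : SheafOfModules.IsFiniteType (R := S.ringCatSheaf) F := hft
  constructor
  · intro hfree
    have key : ∀ x : S, ∃ V : S.affineOpens, x ∈ V.1 ∧
        Nonempty (Module.Basis (Fin r) Γ(S, V.1) Γ(F, V.1)) := by
      intro x
      obtain ⟨U, hxU, ⟨e⟩⟩ := hfree x
      obtain ⟨_, ⟨V, hV, rfl⟩, hxV, hVU⟩ :=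
        S.isBasis_affineOpens.exists_subset_of_mem_open hxU U.2
      exact ⟨⟨V, hV⟩, hxV, Groth.Agent.H44.nonempty_basis_of_iso_freeMod F hV hVU e⟩
    choose V hxV hb using key
    have hcov : ⨆ x, (V x).1 = ⊤ := by
      rw [eq_top_iff]
      intro x _
      exact TopologicalSpace.Opens.mem_iSup.mpr ⟨x, hxV x⟩
    constructor
    · intro k hk
      refine Scheme.IdealSheafData.ext_of_iSup_eq_top V hcov (fun x => ?_)
      obtain ⟨b⟩ := hb x
      rw [Groth.Agent.H44.sheafIdeal_ideal, Groth.Agent.Lead.fitt_ideal_eq_bot_of_basis b hk]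
      rfl
    · intro k hk
      refine Scheme.IdealSheafData.ext_of_iSup_eq_top V hcov (fun x => ?_)
      obtain ⟨b⟩ := hb x
      rw [Groth.Agent.H44.sheafIdeal_ideal, Groth.Agent.Lead.fitt_ideal_eq_top_of_basis b hk]
      rfl
  · rintro ⟨hbot, htop⟩ s
    obtain ⟨V, hV, hsV⟩ : ∃ V : S.Opens, IsAffineOpen V ∧ s ∈ V := by
      obtain ⟨_, ⟨V, hV, rfl⟩, hsV, -⟩ :=
        S.isBasis_affineOpens.exists_subset_of_mem_open (Set.mem_univ s) isOpen_univ
      exact ⟨V, hV, hsV⟩
    haveI : Module.Finite Γ(S, V) Γ(F, V) := Groth.Agent.H44.finite_sections_of_isFiniteType F hV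
    have h1 : Fitt.ideal Γ(S, V) Γ(F, V) r = ⊤ := by
      rw [← Groth.Agent.H44.sheafIdeal_ideal F r ⟨V, hV⟩, htop r le_rfl]
      rfl
    have hs : ¬ Fitt.ideal Γ(S, V) Γ(F, V) r ≤ (hV.primeIdealOf ⟨s, hsV⟩).asIdeal := by
      rw [h1]
      intro hle
      exact (hV.primeIdealOf ⟨s, hsV⟩).2.ne_top (top_le_iff.mp hle)
    obtain ⟨n, x, hx⟩ := Module.Finite.exists_fin (R := Γ(S, V)) (M := Γ(F, V))
    obtain ⟨z, e, hz, he, hd⟩ := Groth.Agent.Lead.exists_minor_notMem_of_not_fitt_ideal_le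
      Γ(F, V) x hx r (hV.primeIdealOf ⟨s, hsV⟩).asIdeal hs
    set d : Γ(S, V) := (Matrix.of fun a b => z b (e a)).det with hd_def
    letI := Groth.Agent.H44.basicOpenModule F d
    haveI := Groth.Agent.H44.isScalarTower_basicOpen F d
    haveI := Groth.Agent.H44.isLocalizedModule_resBasicOpen F d hV
    haveI : IsLocalization (.powers d) Γ(S, S.basicOpen d) := hV.isLocalization_basicOpen d
    obtain ⟨g, hg⟩ := Groth.Agent.Lead.exists_span_localization_of_minor (k := r) (.powers d)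
      Γ(S, S.basicOpen d) (Groth.Agent.H44.resBasicOpen F d) (by omega) x hx z hz e he
      (Submonoid.mem_powers d)
    have hV' : IsAffineOpen (S.basicOpen d) := hV.basicOpen d
    have h2 : r = 0 ∨ Fitt.ideal Γ(S, S.basicOpen d) Γ(F, S.basicOpen d) (r - 1) = ⊥ := by
      rcases Nat.eq_zero_or_pos r with h0 | hpos
      · exact Or.inl h0
      · right
        rw [← Groth.Agent.H44.sheafIdeal_ideal F (r - 1) ⟨S.basicOpen d, hV'⟩,
          hbot (r - 1) (by omega)]
        rfl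
    have hli := Groth.Agent.Lead.linearIndependent_of_fitt_ideal_eq_bot g hg h2
    obtain ⟨iso⟩ := Groth.Agent.H44.nonempty_iso_freeMod_of_basis F hV'
      (Module.Basis.mk hli hg.ge)
    exact ⟨S.basicOpen d, (Groth.Agent.H8.notMem_primeIdealOf_iff hV hsV d).mp hd, ⟨iso⟩⟩

end Groth.Agent.S8875
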