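import Groth.Statements.S11268
-- import your own Groth.Agent.* helpers here

set_option autoImplicit false
open W4bk4grassmannian

namespace Groth.Agent.S11268

open W4bk4grassmannian in
/-- Let τ < w in I(d,n), the strictly increasing maps Fin d → Fin n ordered entrywise. Then there is a
Schubert divisor φ of w, i.e. φ < w with Σ_t (φ_t - t) + 1 = Σ_t (w_t - t), such that τ ≤ φ: every
proper Schubert subvariety of X(w) lies in a Schubert divisor of X(w). -/
theorem result (d n : ℕ) (τ w : Idx d n) (h : τ < w) :
    ∃ φ ∈ divisors w, τ ≤ φ := by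
  classical
  have hle : ∀ s, τ.1 s ≤ w.1 s := fun s => h.le s
  have hex : ∃ t : Fin d, τ.1 t < w.1 t := by
    by_contra hcon
    rw [not_exists] at hcon
    apply h.not_ge
    intro s
    exact not_lt.mp (hcon s)
  -- minimal such index (by value)
  have hexn : ∃ m : ℕ, ∃ t : Fin d, t.val = m ∧ τ.1 t < w.1 t := by
    obtain ⟨t, ht⟩ := hex
    exact ⟨t.val, t, rfl, ht⟩
  obtain ⟨t, htm, ht⟩ := Nat.find_spec hexn
  have hmin : ∀ s : Fin d, s < t → τ.1 s = w.1 s := by
    intro s hs
    have : s.val < Nat.find hexn := by rw [← htm]; exact hs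
    have h1 := Nat.find_min hexn this
    rw [not_exists] at h1
    have h2 := h1 s
    rw [not_and] at h2
    exact le_antisymm (hle s) (not_lt.mp (h2 rfl))
  -- lower bound t ≤ τ t
  have hlow : ∀ (f : Fin d → Fin n), StrictMono f → ∀ s : Fin d, s.val ≤ (f s).val := by
    intro f hf s
    obtain ⟨m, hm⟩ := s
    induction m with
    | zero => exact Nat.zero_le _
    | succ m ih =>
      have hm' : m < d := Nat.lt_of_succ_lt hm
      have h1 := ih hm'
      have h2 : f ⟨m, hm'⟩ < f ⟨m + 1, hm⟩ := hf (by rw [Fin.lt_def]; exact Nat.lt_succ_self m)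
      rw [Fin.lt_def] at h2
      change m + 1 ≤ (f ⟨m + 1, hm⟩).val
      change m ≤ (f ⟨m, hm'⟩).val at h1
      omega
  have htlow : t.val ≤ (τ.1 t).val := hlow τ.1 τ.2 t
  have htw : (τ.1 t).val < (w.1 t).val := ht
  have hwpos : 0 < (w.1 t).val := by omega
  -- the new entry
  let e : Fin n := ⟨(w.1 t).val - 1, by have := (w.1 t).isLt; omega⟩
  have heval : e.val = (w.1 t).val - 1 := rfl
  let f : Fin d → Fin n := fun s => if s = t then e else w.1 s
  have hft : f t = e := if_pos rfl
  have hfs : ∀ s, s ≠ t → f s = w.1 s := fun s hs => if_neg hs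
  have hfmono : StrictMono f := by
    intro a b hab
    by_cases ha : a = t
    · have hb : b ≠ t := by
        intro hb
        rw [ha, hb] at hab
        exact lt_irrefl _ hab
      rw [ha, hft, hfs b hb, Fin.lt_def, heval]
      have : w.1 t < w.1 b := w.2 (ha ▸ hab)
      rw [Fin.lt_def] at this
      omega
    · by_cases hb : b = t
      · rw [hb, hft, hfs a ha, Fin.lt_def, heval]
        have hat : a < t := hb ▸ hab
        have h1 : τ.1 a = w.1 a := hmin a hat
        have h2 : τ.1 a < τ.1 t := τ.2 hat
        rw [h1, Fin.lt_def] at h2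
        omega
      · rw [hfs a ha, hfs b hb]
        exact w.2 hab
  let φ : Idx d n := ⟨f, hfmono⟩
  have hφle : φ ≤ w := by
    intro s
    change f s ≤ w.1 s
    by_cases hs : s = t
    · rw [hs, hft, Fin.le_def, heval]
      omega
    · rw [hfs s hs]
  have hφlt : φ < w := by
    refine lt_of_le_of_ne hφle ?_
    intro heq
    have : f t = w.1 t := by
      have := congrArg (fun x : Idx d n => x.1 t) heq
      exact this
    rw [hft] at this
    have := congrArg Fin.val this
    rw [heval] at this
    omega
  have hτφ : τ ≤ φ := by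
    intro s
    change τ.1 s ≤ f s
    by_cases hs : s = t
    · rw [hs, hft, Fin.le_def, heval]
      omega
    · rw [hfs s hs]
      exact hle s
  refine ⟨φ, ⟨hφlt, ?_⟩, hτφ⟩
  unfold codeg
  rw [← Finset.add_sum_erase Finset.univ _ (Finset.mem_univ t),
    ← Finset.add_sum_erase Finset.univ (fun s => (w.1 s).val - s.val) (Finset.mem_univ t)]
  have hrest : ∑ x ∈ Finset.univ.erase t, ((φ.1 x).val - x.val) =
      ∑ x ∈ Finset.univ.erase t, ((w.1 x).val - x.val) := by
    refine Finset.sum_congr rfl fun x hx => ?_
    have hx' : x ≠ t := Finset.ne_of_mem_erase hx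
    change (f x).val - x.val = _
    rw [hfs x hx']
  rw [hrest]
  change (f t).val - t.val + _ + 1 = _
  rw [hft, heval]
  omega


end Groth.Agent.S11268
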