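import Groth.Statements.S3876
import Groth.Agent.H60.ExtColim
import Groth.Agent.H60.CohAcyc
-- import your own Groth.Agent.* helpers here

set_option autoImplicit false
open CategoryTheory CategoryTheory.Limits Opposite
universe u
open ToposFin

open Groth.Agent.H28 Groth.Agent.H31.SieveExt Groth.Agent.H60.ExtColim Groth.Agent.H60.HomColim
open Groth.Agent.H60.CohAcyc CategoryTheory.Abelian

namespace Groth.Agent.S3876

/-- Let E be the topos of sheaves on a small site, assumed algebraic (E admits a generating set of
quasi-compact objects stable under fibre products and equalizers), and let K be a coherent object of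
E. Then for every q the functor F ↦ H^q(K, F) on abelian sheaves (Ext groups out of the free abelian
sheaf on K) preserves colimits indexed by any small filtered category. -/
theorem result {C : Type u} [SmallCategory C]
    {J : GrothendieckTopology C} (hE : ToposFin.IsAlgebraic J) (K : ToposFin.Sh J) (hK : ToposFin.IsCoherent K)
    (Λ : Type u) [SmallCategory Λ] [IsFiltered Λ] (q : ℕ) :
    PreservesColimitsOfShape Λ (ToposFin.HKFunctor K q) := by
  obtain ⟨S, hqc, hgen, hpb, heq⟩ := hE
  have hS : CoversAll S := CoversAll.of_isGenerating hgen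
  have hE' : HasQCGenerators J := coversAll_qc_iff.1 (coversAll_qc_of_subset hS hqc)
  have hfp : IsFP K := isFP_of_isCoherent hE' hK
  refine preservesColimitsOfShape_extFunctor (Zs J K.obj) q ?_
  refine surj_inj (Zs J K.obj) ?_ ?_ q
  · intro D
    constructor
    · intro ξ
      obtain ⟨φ, rfl⟩ := (Ext.mk₀_bijective _ _).surjective ξ
      obtain ⟨i, φi, hφi⟩ := hom_surj (colimit.isColimit D) hfp φ
      refine ⟨i, Ext.mk₀ φi, ?_⟩
      rw [push_apply, Ext.mk₀_comp_mk₀]
      exact congrArg Ext.mk₀ hφi
    · intro i ξi h
      obtain ⟨φi, rfl⟩ := (Ext.mk₀_bijective _ _).surjective ξi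
      rw [push_apply, Ext.mk₀_comp_mk₀] at h
      have h' : φi ≫ colimit.ι D i = 0 :=
        (Ext.mk₀_bijective _ _).injective (h.trans (Ext.mk₀_zero _ _).symm)
      obtain ⟨j, f, hf⟩ := hom_inj (colimit.isColimit D) hfp φi h'
      refine ⟨j, f, ?_⟩
      rw [push_apply, Ext.mk₀_comp_mk₀, hf, Ext.mk₀_zero]
  · intro D hD q x
    have hsub : Subsingleton (Abelian.Ext (Zs J K.obj) (colimit D) (q + 1)) :=
      coherent_acyclic_colim hqc hS hpb heq (colimit.isColimit D)
        (fun i K' _ q => subsingleton_of_forall_eq 0 (fun y => Ext.eq_zero_of_injective y)) K hK q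
    exact Subsingleton.elim _ _

end Groth.Agent.S3876
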