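import Groth.Statements.S3877
import Groth.Agent.S3876
import Groth.Agent.H60.ConstTop
-- import your own Groth.Agent.* helpers here

set_option autoImplicit false
open CategoryTheory CategoryTheory.Limits Opposite
universe u
open ToposFin

open Groth.Agent.H31.SieveExt Groth.Agent.H60.ConstTop CategoryTheory.Abelian

namespace Groth.Agent.S3877

/-- Let E be the topos of sheaves on a small site and assume E is coherent, i.e. an algebraic topos
whose final object is coherent. Then for every q the functor F ↦ H^q(E, F) on abelian sheaves (Ext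
groups out of the constant sheaf Z) preserves colimits indexed by any small filtered category. -/
theorem result {C : Type u} [SmallCategory C]
    {J : GrothendieckTopology C} (hE : ToposFin.IsAlgebraic J) (hT : ToposFin.IsCoherent (⊤_ (ToposFin.Sh J)))
    (Λ : Type u) [SmallCategory Λ] [IsFiltered Λ] (q : ℕ) :
    PreservesColimitsOfShape Λ (Sheaf.functorH J q : Sheaf J AddCommGrpCat.{u} ⥤ AddCommGrpCat.{u}) := by
  have h1 : PreservesColimitsOfShape Λ
      ((extFunctor.{u} q).obj (op (Zs J (⊤_ (Sheaf J (Type u))).obj))) :=
    Groth.Agent.S3876.result hE (⊤_ (ToposFin.Sh J)) hT Λ q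
  have e : (extFunctor.{u} q).obj (op (Zs J (⊤_ (Sheaf J (Type u))).obj)) ≅
      (extFunctor.{u} q).obj (op ((constantSheaf J AddCommGrpCat.{u}).obj
        (AddCommGrpCat.of (ULift.{u} ℤ)))) :=
    (extFunctor.{u} q).mapIso (constIsoTop J).op
  have h2 : PreservesColimitsOfShape Λ ((extFunctor.{u} q).obj
      (op ((constantSheaf J AddCommGrpCat.{u}).obj (AddCommGrpCat.of (ULift.{u} ℤ))))) :=
    preservesColimitsOfShape_of_natIso e
  exact h2

end Groth.Agent.S3877
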