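import Groth.Statements.S2004
import Groth.Agent.H10.GluePair
import Mathlib

set_option autoImplicit false
universe u
open TensorProduct
open EtAlg

namespace Groth.Agent.S2004

open Groth.Agent.H10

section
variable {R R' : Type u} [CommRing R] [CommRing R'] [Algebra R R'] {f : R}

local notation "φ" => algebraMap R R'
local notation "Rf" => Localization.Away f
local notation "R'f" => Localization.Away (algebraMap R R' f)

theorem map_eq_zero_iff_away (r : R) : algebraMap R (Rf) r = 0 ↔ ∃ n : ℕ, f ^ n * r = 0 := by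
  rw [IsLocalization.map_eq_zero_iff (Submonoid.powers f)]
  constructor
  · rintro ⟨⟨_, n, rfl⟩, h⟩
    exact ⟨n, h⟩
  · rintro ⟨n, h⟩
    exact ⟨⟨f ^ n, n, rfl⟩, h⟩

theorem map_eq_zero_iff_away' (r : R') :
    algebraMap R' (R'f) r = 0 ↔ ∃ n : ℕ, (φ f) ^ n * r = 0 := by
  rw [IsLocalization.map_eq_zero_iff (Submonoid.powers (φ f))]
  constructor
  · rintro ⟨⟨_, n, rfl⟩, h⟩
    exact ⟨n, h⟩
  · rintro ⟨n, h⟩
    exact ⟨⟨(φ f) ^ n, n, rfl⟩, h⟩

theorem awayMap_algebraMap (r : R) :
    Localization.awayMap (φ) f (algebraMap R (Rf) r) = algebraMap R' (R'f) (φ r) :=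
  IsLocalization.map_eq _ _

theorem exists_rep (y : Rf) : ∃ (r : R) (n : ℕ), y * algebraMap R (Rf) (f ^ n) = algebraMap R (Rf) r := by
  obtain ⟨⟨r, ⟨_, n, rfl⟩⟩, h⟩ := IsLocalization.surj (Submonoid.powers f) y
  exact ⟨r, n, h⟩

theorem exists_rep' (y : R'f) :
    ∃ (r : R') (n : ℕ), y * algebraMap R' (R'f) ((φ f) ^ n) = algebraMap R' (R'f) r := by
  obtain ⟨⟨r, ⟨_, n, rfl⟩⟩, h⟩ := IsLocalization.surj (Submonoid.powers (φ f)) y
  exact ⟨r, n, h⟩

theorem isUnit_pow (n : ℕ) : IsUnit (algebraMap R (Rf) (f ^ n)) :=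
  IsLocalization.map_units (Rf) (⟨f ^ n, n, rfl⟩ : Submonoid.powers f)

theorem isUnit_pow' (n : ℕ) : IsUnit (algebraMap R' (R'f) ((φ f) ^ n)) :=
  IsLocalization.map_units (R'f) (⟨(φ f) ^ n, n, rfl⟩ : Submonoid.powers (φ f))

/-- (G3) surjectivity on the right holds for any pair with bijective quotients. -/
theorem g3 (hq : EtGlue.QuotPowBijective R R' f) (z : R'f) : ∃ (x : R') (y : Rf),
    algebraMap R' (R'f) x - Localization.awayMap (φ) f y = z := by
  obtain ⟨x', n, hz⟩ := exists_rep' z
  obtain ⟨r, s', hx'⟩ := exists_map_add_pow_mul hq n x'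
  obtain ⟨u, hu⟩ := isUnit_pow (f := f) n
  refine ⟨s', - (algebraMap R (Rf) r * ↑u⁻¹), ?_⟩
  have hu' := isUnit_pow' (R := R) (R' := R') (f := f) n
  apply hu'.mul_left_injective
  simp only
  rw [hz, hx', map_add, map_mul, sub_mul, map_neg, neg_mul, sub_neg_eq_add]
  have h1 : Localization.awayMap (φ) f (algebraMap R (Rf) r * ↑u⁻¹) *
      algebraMap R' (R'f) ((φ f) ^ n) = algebraMap R' (R'f) (φ r) := by
    rw [← map_pow, ← awayMap_algebraMap, ← awayMap_algebraMap, ← map_mul, ← hu, mul_assoc,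
      Units.inv_mul, mul_one]
  rw [h1]
  ring

end

/-- Let R -> R' induce bijections R/f^n R -> R'/f^n R' for all n > 0. Then (R -> R', f) is a glueing
pair if and only if R -> R' maps the f-power torsion of R bijectively onto the f-power torsion of R'
(stated as: injective on f-power torsion elements, and every f-power torsion element of R' is the
image of one of R). -/
theorem result (R R' : Type u) [CommRing R] [CommRing R'] [Algebra R R'] (f : R)
    (hq : EtGlue.QuotPowBijective R R' f) :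
    EtGlue.IsGlueingPair R R' f ↔
      ((∀ x : R, (∃ n : ℕ, f ^ n * x = 0) → algebraMap R R' x = 0 → x = 0) ∧
       (∀ x' : R', (∃ n : ℕ, algebraMap R R' f ^ n * x' = 0) →
          ∃ x : R, (∃ n : ℕ, f ^ n * x = 0) ∧ algebraMap R R' x = x')) := by
  constructor
  · rintro ⟨-, hG1, hG2, -⟩
    refine ⟨?_, ?_⟩
    · rintro x ⟨n, hn⟩ hx
      have h0 : algebraMap R (Localization.Away f) x = 0 := (map_eq_zero_iff_away x).2 ⟨n, hn⟩
      have := @hG1 x 0 (by simp [hx, h0])
      exact this
    · rintro x' ⟨n, hn⟩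
      have h0 : algebraMap R' (Localization.Away (algebraMap R R' f)) x' = 0 :=
        (map_eq_zero_iff_away' x').2 ⟨n, hn⟩
      obtain ⟨r, hr1, hr2⟩ := hG2 x' 0 (by rw [h0, map_zero])
      exact ⟨r, (map_eq_zero_iff_away r).1 hr2, hr1⟩
  · rintro ⟨hT1, hT2⟩
    refine ⟨hq, ?_, ?_, g3 hq⟩
    · intro r s hrs
      simp only [Prod.mk.injEq] at hrs
      have h1 : algebraMap R R' (r - s) = 0 := by rw [map_sub, hrs.1, sub_self]
      have h2 : algebraMap R (Localization.Away f) (r - s) = 0 := by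
        rw [map_sub, hrs.2, sub_self]
      have := hT1 (r - s) ((map_eq_zero_iff_away _).1 h2) h1
      exact sub_eq_zero.1 this
    · intro x y hxy
      obtain ⟨r, n, hy⟩ := exists_rep y
      have h1 : algebraMap R' (Localization.Away (algebraMap R R' f))
          (algebraMap R R' f ^ n * x - algebraMap R R' r) = 0 := by
        rw [map_sub, map_mul, hxy, ← awayMap_algebraMap, ← hy, map_mul, awayMap_algebraMap,
          map_pow, map_pow, map_pow]
        ring
      obtain ⟨t, ht, htx⟩ := hT2 _ ((map_eq_zero_iff_away' _).1 h1)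
      obtain ⟨s, hs⟩ := exists_eq_pow_mul_of_map_eq hq n (r := r + t) (s' := x)
        (by rw [map_add, htx]; ring)
      have h2 : ∃ k, algebraMap R R' f ^ k * (x - algebraMap R R' s) = 0 := ⟨n, by
        have : algebraMap R R' (r + t) = algebraMap R R' f ^ n * algebraMap R R' s := by
          rw [hs, map_mul, map_pow]
        rw [mul_sub, ← this, map_add, htx]; ring⟩
      obtain ⟨u, hu, hux⟩ := hT2 _ h2
      refine ⟨s + u, by rw [map_add, hux]; ring, ?_⟩
      have hu0 : algebraMap R (Localization.Away f) u = 0 := (map_eq_zero_iff_away u).2 hu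
      have ht0 : algebraMap R (Localization.Away f) t = 0 := (map_eq_zero_iff_away t).2 ht
      apply (isUnit_pow (f := f) n).mul_left_injective
      simp only
      rw [hy, map_add, hu0, add_zero, ← map_mul, mul_comm, ← hs, map_add, ht0, add_zero]

end Groth.Agent.S2004
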