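import Groth.Statements.S2005
import Groth.Agent.H10.GluePair
import Groth.Agent.S2004
import Mathlib

set_option autoImplicit false
universe u
open TensorProduct
open EtAlg

namespace Groth.Agent.S2005

open Groth.Agent.H10

section
variable {R R' : Type u} [CommRing R] [CommRing R'] [Algebra R R'] {f : R}
variable {M : Type u} [AddCommGroup M] [Module R M]

theorem tensorOfLoc_mk (m : M) :
    EtGlue.tensorOfLoc R R' f M (LocalizedModule.mkLinearMap (Submonoid.powers f) M m) =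
      LocalizedModule.mkLinearMap (Submonoid.powers f) (R' ⊗[R] M) ((1 : R') ⊗ₜ[R] m) := by
  rw [EtGlue.tensorOfLoc, IsLocalizedModule.map_apply, TensorProduct.mk_apply]

theorem tm_of_glueable (hG : EtGlue.IsGlueable R R' f M) :
    (∀ m : M, (∃ n : ℕ, f ^ n • m = 0) → (1 : R') ⊗ₜ[R] m = 0 → m = 0) ∧
    (∀ x : R' ⊗[R] M, (∃ n : ℕ, f ^ n • x = 0) →
      ∃ m : M, (∃ n : ℕ, f ^ n • m = 0) ∧ (1 : R') ⊗ₜ[R] m = x) := by
  obtain ⟨hG1, hG2⟩ := hG
  refine ⟨?_, ?_⟩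
  · intro m hm h1
    have h0 : LocalizedModule.mkLinearMap (Submonoid.powers f) M m = 0 :=
      (mk_eq_zero_iff_pow m).2 hm
    exact @hG1 m 0 (by simp [h1, h0])
  · intro x hx
    have h0 : EtGlue.locOfTensor R R' f M x = 0 := (mk_eq_zero_iff_pow x).2 hx
    obtain ⟨m, hm1, hm2⟩ := hG2 x 0 (by rw [h0, map_zero])
    exact ⟨m, (mk_eq_zero_iff_pow m).1 hm2, hm1⟩

theorem glueable_of_tm (hq : EtGlue.QuotPowBijective R R' f)
    (hT1 : ∀ m : M, (∃ n : ℕ, f ^ n • m = 0) → (1 : R') ⊗ₜ[R] m = 0 → m = 0)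
    (hT2 : ∀ x : R' ⊗[R] M, (∃ n : ℕ, f ^ n • x = 0) →
      ∃ m : M, (∃ n : ℕ, f ^ n • m = 0) ∧ (1 : R') ⊗ₜ[R] m = x) :
    EtGlue.IsGlueable R R' f M := by
  refine ⟨?_, ?_⟩
  · intro m m' h
    simp only [Prod.mk.injEq] at h
    have h1 : (1 : R') ⊗ₜ[R] (m - m') = 0 := by rw [TensorProduct.tmul_sub, h.1, sub_self]
    have h2 : LocalizedModule.mkLinearMap (Submonoid.powers f) M (m - m') = 0 := by
      rw [map_sub, h.2, sub_self]
    exact sub_eq_zero.1 (hT1 _ ((mk_eq_zero_iff_pow _).1 h2) h1)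
  · intro x y hxy
    obtain ⟨m₀, n, hy⟩ := exists_pow_smul_eq_mk y
    have h1 : LocalizedModule.mkLinearMap (Submonoid.powers f) (R' ⊗[R] M)
        (f ^ n • x - (1 : R') ⊗ₜ[R] m₀) = 0 := by
      have hxy' : LocalizedModule.mkLinearMap (Submonoid.powers f) (R' ⊗[R] M) x =
          EtGlue.tensorOfLoc R R' f M y := hxy
      rw [map_sub, map_smul, hxy', ← map_smul, hy, tensorOfLoc_mk, sub_self]
    obtain ⟨t, ht, htx⟩ := hT2 _ ((mk_eq_zero_iff_pow _).1 h1)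
    obtain ⟨s, hs⟩ := exists_eq_pow_smul_of_tmul_eq hq n (m := m₀ + t) (z := x)
      (by rw [TensorProduct.tmul_add, htx]; abel)
    have h2 : ∃ k : ℕ, f ^ k • (x - (1 : R') ⊗ₜ[R] s) = 0 := ⟨n, by
      have : (1 : R') ⊗ₜ[R] (m₀ + t) = f ^ n • ((1 : R') ⊗ₜ[R] s) := by
        rw [hs, TensorProduct.tmul_smul]
      rw [smul_sub, ← this, TensorProduct.tmul_add, htx]; abel⟩
    obtain ⟨u, hu, hux⟩ := hT2 _ h2
    refine ⟨s + u, by rw [TensorProduct.tmul_add, hux]; abel, ?_⟩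
    have hu0 : LocalizedModule.mkLinearMap (Submonoid.powers f) M u = 0 :=
      (mk_eq_zero_iff_pow u).2 hu
    have ht0 : LocalizedModule.mkLinearMap (Submonoid.powers f) M t = 0 :=
      (mk_eq_zero_iff_pow t).2 ht
    apply pow_smul_injective (f := f) (M := M) n
    simp only
    rw [hy, map_add, hu0, add_zero, ← map_smul, ← hs, map_add, ht0, add_zero]

end

/-- Let R -> R' induce bijections R/f^n R -> R'/f^n R' for all n > 0 and let M be an R-module. Then M is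
glueable for (R -> R', f) if and only if m ↦ 1 ⊗ m maps the f-power torsion of M bijectively onto
the f-power torsion of R' ⊗_R M; and if (R -> R', f) is a glueing pair, injectivity on the f-power
torsion already suffices. -/
theorem result (R R' : Type u) [CommRing R] [CommRing R'] [Algebra R R'] (f : R)
    (hq : EtGlue.QuotPowBijective R R' f) (M : Type u) [AddCommGroup M] [Module R M] :
    (EtGlue.IsGlueable R R' f M ↔
      ((∀ m : M, (∃ n : ℕ, f ^ n • m = 0) → (1 : R') ⊗ₜ[R] m = 0 → m = 0) ∧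
       (∀ x : R' ⊗[R] M, (∃ n : ℕ, f ^ n • x = 0) → ∃ m : M, (∃ n : ℕ, f ^ n • m = 0) ∧ (1 : R') ⊗ₜ[R] m = x))) ∧
    (EtGlue.IsGlueingPair R R' f →
      (EtGlue.IsGlueable R R' f M ↔ ∀ m : M, (∃ n : ℕ, f ^ n • m = 0) → (1 : R') ⊗ₜ[R] m = 0 → m = 0)) := by
  refine ⟨⟨tm_of_glueable, fun h => glueable_of_tm hq h.1 h.2⟩, fun hRR => ⟨fun h => (tm_of_glueable h).1,
    fun h1 => glueable_of_tm hq h1 ?_⟩⟩
  obtain ⟨-, hT2⟩ := (Groth.Agent.S2004.result R R' f hq).1 hRR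
  exact fun x hx => tm2_of_t2 hq hT2 x hx

end Groth.Agent.S2005
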