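import Groth.Statements.S6916
import Mathlib

set_option autoImplicit false
universe u
open TensorProduct
open EtAlg

namespace Groth.Agent.S6916

/-- Let `B' = B ×_A A'` be a fibre square of rings with `A' → A` surjective and `L'` any `B'`-module.
Then the canonical map from `L'` to the glueing of `(L' ⊗_{B'} B, L' ⊗_{B'} A')` is surjective:
every pair `(x, y) ∈ (B ⊗_{B'} L') × (A' ⊗_{B'} L')` with equal images in `A ⊗_{B'} L'` is of the
form `(1 ⊗ l, 1 ⊗ l)`. (It is in general not injective.) -/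
theorem result (B' B A' A : Type u) [CommRing B'] [CommRing B] [CommRing A'] [CommRing A]
    [Algebra B' B] [Algebra B' A'] [Algebra B A] [Algebra A' A] [Algebra B' A] [IsScalarTower B' B A] [IsScalarTower B' A' A]
    (hsq : EtMil.IsFibreSquare B' B A' A)
    (L' : Type u) [AddCommGroup L'] [Module B' L'] (x : B ⊗[B'] L') (y : A' ⊗[B'] L')
    (hxy : (IsScalarTower.toAlgHom B' B A).toLinearMap.rTensor L' x = (IsScalarTower.toAlgHom B' A' A).toLinearMap.rTensor L' y) :
    ∃ l : L', (1 : B) ⊗ₜ[B'] l = x ∧ (1 : A') ⊗ₜ[B'] l = y := by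
  obtain ⟨hsurjA, hfib⟩ := hsq
  let gA : A' →ₗ[B'] A := (IsScalarTower.toAlgHom B' A' A).toLinearMap
  let gB : B →ₗ[B'] A := (IsScalarTower.toAlgHom B' B A).toLinearMap
  have hgA : ∀ a : A', gA a = algebraMap A' A a := fun a => rfl
  have hgB : ∀ b : B, gB b = algebraMap B A b := fun b => rfl
  -- B' → B is surjective
  have hsurjB : Function.Surjective (algebraMap B' B) := by
    intro b
    obtain ⟨a', ha'⟩ := hsurjA (algebraMap B A b)
    obtain ⟨b', ⟨hb', _⟩, _⟩ := hfib b a' ha'.symm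
    exact ⟨b', hb'⟩
  -- every element of B ⊗ L' is of the form 1 ⊗ l
  have hx : ∀ x : B ⊗[B'] L', ∃ l : L', x = (1 : B) ⊗ₜ[B'] l := by
    intro x
    induction x using TensorProduct.induction_on with
    | zero => exact ⟨0, by simp⟩
    | tmul b l =>
      obtain ⟨b', rfl⟩ := hsurjB b
      refine ⟨b' • l, ?_⟩
      rw [← TensorProduct.smul_tmul, Algebra.smul_def, mul_one]
    | add x y hx hy =>
      obtain ⟨l, rfl⟩ := hx
      obtain ⟨l', rfl⟩ := hy
      exact ⟨l + l', by rw [TensorProduct.tmul_add]⟩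
  obtain ⟨l₁, rfl⟩ := hx x
  -- exactness
  have hex : Function.Exact ((LinearMap.ker gA).subtype.rTensor L') (gA.rTensor L') :=
    rTensor_exact L' (LinearMap.exact_subtype_ker_map gA) hsurjA
  have h0 : gA.rTensor L' (y - (1 : A') ⊗ₜ[B'] l₁) = 0 := by
    rw [map_sub, ← hxy, LinearMap.rTensor_tmul, LinearMap.rTensor_tmul, hgA, hgB, map_one, map_one, sub_self]
  obtain ⟨z, hz⟩ := (hex _).mp h0
  -- elements in the image of ker ⊗ L'
  have hz' : ∀ z : (LinearMap.ker gA) ⊗[B'] L', ∃ l₂ : L',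
      (LinearMap.ker gA).subtype.rTensor L' z = (1 : A') ⊗ₜ[B'] l₂ ∧ (1 : B) ⊗ₜ[B'] l₂ = (0 : B ⊗[B'] L') := by
    intro z
    induction z using TensorProduct.induction_on with
    | zero => exact ⟨0, by simp, by simp⟩
    | tmul i l =>
      have hi : algebraMap A' A (i : A') = 0 := i.2
      obtain ⟨j, ⟨hj1, hj2⟩, _⟩ := hfib 0 (i : A') (by rw [map_zero, hi])
      refine ⟨j • l, ?_, ?_⟩
      · rw [LinearMap.rTensor_tmul, Submodule.subtype_apply, ← TensorProduct.smul_tmul, Algebra.smul_def,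
          mul_one, hj2]
      · rw [← TensorProduct.smul_tmul, Algebra.smul_def, mul_one, hj1, TensorProduct.zero_tmul]
    | add z w hz hw =>
      obtain ⟨l, h1, h2⟩ := hz
      obtain ⟨l', h1', h2'⟩ := hw
      exact ⟨l + l', by rw [map_add, h1, h1', TensorProduct.tmul_add],
        by rw [TensorProduct.tmul_add, h2, h2', add_zero]⟩
  obtain ⟨l₂, hl₂, hl₂'⟩ := hz' z
  refine ⟨l₁ + l₂, ?_, ?_⟩
  · rw [TensorProduct.tmul_add, hl₂', add_zero]
  · rw [TensorProduct.tmul_add, ← hl₂, hz]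
    abel

end Groth.Agent.S6916
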