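import Groth.Statements.S12599
import Groth.Agent.H86.HS4

set_option autoImplicit false
open FunFld Groth.Agent.H86

namespace Groth.Agent.S12599

/-- Over an algebraically closed constant field, for a place `P` with local parameter `t`, and a
linearly independent tuple `φ = (φ₀, …, φₙ)` of functions integral at `P`, the matrix of values at
`P` of the Hasse derivatives `D_t^(j)(φᵢ)`, `j = 0, 1, …`, has rank `n + 1`: its rows are linearly
independent over the residue field. -/
theorem result
    (k K : Type*) [Field k] [IsAlgClosed k] [Field K] [Algebra k K]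
    (hK : FunFld.IsFunctionField k K) {n : ℕ} (φ : Fin (n + 1) → K) (hφ : LinearIndependent k φ)
    (P : FunFld.Place k K) (hint : ∀ i, P.1 (φ i) ≤ 1) (t : K) (ht : P.1 t = WithZero.exp (-1))
    (Ht : K →ₐ[k] PowerSeries K) (hHt : LocRes.IsHasseFamily t Ht) :
    LinearIndependent (IsLocalRing.ResidueField P.O)
      (fun i : Fin (n + 1) => fun j : ℕ => FunFld.evalP P (LocRes.hasseD Ht j (φ i))) := by
  classical
  rw [Fintype.linearIndependent_iff]
  intro c hc
  have hbij := FF.algebraMap_res_bijective hK P
  have hex : ∀ i, ∃ γ : k, algebraMap k (IsLocalRing.ResidueField P.O) γ = c i :=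
    fun i => hbij.2 (c i)
  choose γ hγ using hex
  have hDint : ∀ i j, P.1 (LocRes.hasseD Ht j (φ i)) ≤ 1 :=
    fun i j => FF.hasse_integral hK P hHt ht (φ i) (hint i) j
  have hf : P.1 (∑ i, γ i • φ i) ≤ 1 := by
    apply Valuation.map_sum_le
    intro i _
    rw [Algebra.smul_def, map_mul]
    exact mul_le_one' (P.2.1 _) (hint i)
  have hall : ∀ j, P.1 (LocRes.hasseD Ht j (∑ i, γ i • φ i)) < 1 := by
    intro j
    have hDj : LocRes.hasseD Ht j (∑ i, γ i • φ i) =
        ∑ i, algebraMap k K (γ i) * LocRes.hasseD Ht j (φ i) := by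
      simp only [LocRes.hasseD_apply, map_sum, map_smul, Algebra.smul_def]
      apply Finset.sum_congr rfl
      intro i _
      rw [map_mul, AlgHom.commutes, PowerSeries.algebraMap_apply, PowerSeries.coeff_C_mul]
    have hle : ∀ i ∈ (Finset.univ : Finset (Fin (n + 1))),
        P.1 (algebraMap k K (γ i) * LocRes.hasseD Ht j (φ i)) ≤ 1 := by
      intro i _
      rw [map_mul]
      exact mul_le_one' (P.2.1 _) (hDint i j)
    rw [hDj, ← FF.evalP_eq_zero_iff P (Valuation.map_sum_le _ hle), FF.evalP_sum P _ _ hle]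
    have hcj := congrFun hc j
    rw [Finset.sum_apply] at hcj
    rw [Pi.zero_apply] at hcj
    rw [← hcj]
    apply Finset.sum_congr rfl
    intro i _
    rw [FF.evalP_mul P (P.2.1 _) (hDint i j), FF.evalP_algebraMap, hγ, Pi.smul_apply, smul_eq_mul]
  have hzero := FF.eq_zero_of_hasse_lt_one hK P hHt ht _ hf hall
  have hγ0 := Fintype.linearIndependent_iff.mp hφ γ hzero
  intro i
  rw [← hγ i, hγ0 i, map_zero]

end Groth.Agent.S12599
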