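import Groth.Statements.S12597
import Groth.Agent.H63.Jumps

set_option autoImplicit false
open FunFld

namespace Groth.Agent.S12597

/-- Over an algebraically closed constant field, multiplying a projective map `φ = (φ₀, …, φₙ)` by a
nonzero function `y` does not change its `τ`-order sequence `J`, and multiplies the Wronskian `det
[τ(φ) | D^(j₁) φ | ⋯ | D^(jₙ) φ]` taken at that sequence by `τ(y) yⁿ`. -/
theorem result
    (k K : Type*) [Field k] [IsAlgClosed k] [Field K] [Algebra k K]
    (hK : FunFld.IsFunctionField k K) {n : ℕ} (φ : Fin (n + 1) → K) (hφ : LinearIndependent k φ)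
    (τ : K →ₐ[k] K) (s : K) (H : K →ₐ[k] PowerSeries K) (hH : LocRes.IsHasseFamily s H) (y : K) (hy : y ≠ 0) :
    (∀ J : Fin n → ℕ, FunFld.IsOrders K (FunFld.hcol τ H (y • φ)) J ↔ FunFld.IsOrders K (FunFld.hcol τ H φ) J) ∧
    ∀ J : Fin n → ℕ, FunFld.IsOrders K (FunFld.hcol τ H φ) J →
      (FunFld.wrMat τ H (y • φ) J).det = τ y * y ^ n * (FunFld.wrMat τ H φ J).det := by
  classical
  set c := FunFld.hcol τ H φ with hc
  set c' := FunFld.hcol τ H (y • φ) with hc'
  let d : ℕ → K := fun j => Nat.casesOn j (τ y) (fun _ => y)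
  have hd : ∀ j, d j ≠ 0 := by
    intro j
    cases j with
    | zero => exact (map_ne_zero τ).2 hy
    | succ j => exact hy
  have hD0 : ∀ z : K, LocRes.hasseD H 0 z = z := by
    intro z
    rw [LocRes.hasseD_apply, PowerSeries.coeff_zero_eq_constantCoeff_apply]
    exact hH.2 z
  have hmono : ∀ {a b : ℕ}, a ≤ b → Submodule.span K (c '' Set.Iio a) ≤ Submodule.span K (c '' Set.Iio b) :=
    fun hab => Submodule.span_mono (Set.image_mono (Set.Iio_subset_Iio hab))
  have htri : ∀ j, c' j - d j • c j ∈ Submodule.span K (c '' Set.Iio j) := by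
    intro j
    cases j with
    | zero =>
      have : c' 0 - d 0 • c 0 = 0 := by
        funext i
        change τ (y * φ i) - τ y * τ (φ i) = 0
        rw [map_mul, sub_self]
      rw [this]
      exact Submodule.zero_mem _
    | succ j =>
      have h1 : c' (j + 1) = ∑ i ∈ Finset.range (j + 1), LocRes.hasseD H i y • c (j - i + 1) := by
        funext l
        change LocRes.hasseD H j (y * φ l) = _
        rw [LocRes.hasseD_apply, map_mul, PowerSeries.coeff_mul,
          Finset.Nat.sum_antidiagonal_eq_sum_range_succ_mk, Finset.sum_apply]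
        rfl
      rw [h1, Finset.sum_range_succ', hD0]
      change (∑ i ∈ Finset.range j, LocRes.hasseD H (i + 1) y • c (j - (i + 1) + 1)) + y • c (j - 0 + 1) -
        y • c (j + 1) ∈ _
      rw [Nat.sub_zero, add_sub_cancel_right]
      apply Submodule.sum_mem
      intro i hi
      apply Submodule.smul_mem
      apply Submodule.subset_span
      refine ⟨j - (i + 1) + 1, ?_, rfl⟩
      have := Finset.mem_range.1 hi
      change j - (i + 1) + 1 < j + 1
      omega
  have hjump : ∀ j, FunFld.IsJump K c' j ↔ FunFld.IsJump K c j :=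
    Groth.Agent.H63.isJump_iff_of_triangular c c' d hd htri
  refine ⟨fun J => ?_, fun J hJ => ?_⟩
  · unfold FunFld.IsOrders
    simp only [hjump]
  · let idx : Fin (n + 1) → ℕ := fun a => Fin.cases (motive := fun _ => ℕ) 0 (fun l => J l + 1) a
    let D : Fin (n + 1) → K := fun a => Fin.cases (motive := fun _ => K) (τ y) (fun _ => y) a
    have hDd : ∀ a, D a = d (idx a) := by
      intro a
      refine Fin.cases ?_ (fun l => ?_) a
      · rfl
      · rfl
    have hcolA : ∀ a : Fin (n + 1), (fun i => FunFld.wrMat τ H φ J i a) = c (idx a) := by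
      intro a
      refine Fin.cases ?_ (fun i => ?_) a
      · rfl
      · rfl
    have hcolA' : ∀ a : Fin (n + 1), (fun i => FunFld.wrMat τ H (y • φ) J i a) = c' (idx a) := by
      intro a
      refine Fin.cases ?_ (fun i => ?_) a
      · rfl
      · rfl
    have hprod : ∏ a, D a = τ y * y ^ n := by
      rw [Fin.prod_univ_succ]
      change τ y * ∏ i : Fin n, y = _
      rw [Finset.prod_const, Finset.card_univ, Fintype.card_fin]
    rw [← hprod]
    apply Groth.Agent.H63.det_eq_prod_mul_det_of_triangular
    intro a
    rw [hcolA, hcolA', hDd]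
    refine (Submodule.span_mono ?_) (Groth.Agent.H63.span_Iio_le_span_jumps c (idx a) (htri (idx a)))
    rintro _ ⟨j, ⟨hj, hjmp⟩, rfl⟩
    -- a jump below idx a is one of the earlier columns
    revert hj
    refine Fin.cases ?_ (fun l => ?_) a
    · intro hj
      exact absurd hj (Nat.not_lt_zero _)
    · intro hj
      change j < J l + 1 at hj
      cases j with
      | zero =>
        refine ⟨⟨0, Fin.succ_pos l⟩, ?_⟩
        exact hcolA 0
      | succ j' =>
        obtain ⟨m, hm⟩ := (hJ.2 j').2 hjmp
        have hml : m < l := by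
          by_contra hnot
          push Not at hnot
          have := hJ.1.monotone hnot
          omega
        refine ⟨⟨m.succ, Fin.succ_lt_succ_iff.2 hml⟩, ?_⟩
        change (fun i => FunFld.wrMat τ H φ J i m.succ) = c (j' + 1)
        rw [hcolA]
        change c (J m + 1) = c (j' + 1)
        rw [hm]

end Groth.Agent.S12597
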