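import Groth.Statements.S12598
import Groth.Agent.H63.Jumps
import Groth.Agent.H63.HasseChange

set_option autoImplicit false
open FunFld

namespace Groth.Agent.S12598

/-- Over an algebraically closed constant field, the `τ`-order sequence `J = (j₁, …, jₙ)` of a
projective map `φ` does not depend on the separating variable used for the Hasse derivatives, and
the Wronskians with respect to `t` and to `s` differ by the factor `(ds/dt)^(j₁ + ⋯ + jₙ)`, where
`ds/dt` is the first Hasse derivative of `s` with respect to `t`. -/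
theorem result
    (k K : Type*) [Field k] [IsAlgClosed k] [Field K] [Algebra k K]
    (hK : FunFld.IsFunctionField k K) {n : ℕ} (φ : Fin (n + 1) → K) (hφ : LinearIndependent k φ)
    (τ : K →ₐ[k] K) (s : K) (Hs : K →ₐ[k] PowerSeries K) (hHs : LocRes.IsHasseFamily s Hs)
    (t : K) (Ht : K →ₐ[k] PowerSeries K) (hHt : LocRes.IsHasseFamily t Ht) :
    (∀ J : Fin n → ℕ, FunFld.IsOrders K (FunFld.hcol τ Ht φ) J ↔ FunFld.IsOrders K (FunFld.hcol τ Hs φ) J) ∧
    ∀ J : Fin n → ℕ, FunFld.IsOrders K (FunFld.hcol τ Hs φ) J →
      (FunFld.wrMat τ Ht φ J).det =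
        LocRes.hasseD Ht 1 s ^ (∑ l, J l) * (FunFld.wrMat τ Hs φ J).det := by
  classical
  set c := FunFld.hcol τ Hs φ with hc
  set c' := FunFld.hcol τ Ht φ with hc'
  set u := LocRes.hasseD Ht 1 s with hu
  have hu0 : u ≠ 0 := Groth.Agent.H63.HasseFF.hasseD_one_ne_zero hK hHs hHt
  let d : ℕ → K := fun j => Nat.casesOn j 1 (fun j => u ^ j)
  have hd : ∀ j, d j ≠ 0 := by
    intro j
    cases j with
    | zero => exact one_ne_zero
    | succ j => exact pow_ne_zero _ hu0
  have hg0 : PowerSeries.constantCoeff (Ht s - PowerSeries.C s) = 0 := by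
    rw [map_sub, hHt.2, PowerSeries.constantCoeff_C, sub_self]
  have hu1 : PowerSeries.coeff 1 (Ht s - PowerSeries.C s) = u := by
    rw [map_sub, PowerSeries.coeff_C, if_neg one_ne_zero, sub_zero]
    rfl
  have htri : ∀ j, c' j - d j • c j ∈ Submodule.span K (c '' Set.Iio j) := by
    intro j
    cases j with
    | zero =>
      have : c' 0 - d 0 • c 0 = 0 := by
        funext i
        change τ (φ i) - (1 : K) * τ (φ i) = 0
        rw [one_mul, sub_self]
      rw [this]
      exact Submodule.zero_mem _
    | succ j =>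
      have h1 : c' (j + 1) = ∑ e ∈ Finset.range (j + 1),
          PowerSeries.coeff j ((Ht s - PowerSeries.C s) ^ e) • c (e + 1) := by
        funext l
        change LocRes.hasseD Ht j (φ l) = _
        rw [Groth.Agent.H63.HasseFF.hasseD_change hK hHs hHt, Finset.sum_apply]
        refine Finset.sum_congr rfl (fun e _ => ?_)
        change _ = PowerSeries.coeff j ((Ht s - PowerSeries.C s) ^ e) * LocRes.hasseD Hs e (φ l)
        rw [mul_comm]
      rw [h1, Finset.sum_range_succ, Groth.Agent.H63.HasseFF.coeff_pow_self hg0, hu1]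
      change (∑ e ∈ Finset.range j, PowerSeries.coeff j ((Ht s - PowerSeries.C s) ^ e) • c (e + 1)) +
        u ^ j • c (j + 1) - u ^ j • c (j + 1) ∈ _
      rw [add_sub_cancel_right]
      apply Submodule.sum_mem
      intro i hi
      apply Submodule.smul_mem
      apply Submodule.subset_span
      refine ⟨i + 1, ?_, rfl⟩
      have := Finset.mem_range.1 hi
      change i + 1 < j + 1
      omega
  have hjump : ∀ j, FunFld.IsJump K c' j ↔ FunFld.IsJump K c j :=
    Groth.Agent.H63.isJump_iff_of_triangular c c' d hd htri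
  refine ⟨fun J => ?_, fun J hJ => ?_⟩
  · unfold FunFld.IsOrders
    simp only [hjump]
  · let idx : Fin (n + 1) → ℕ := fun a => Fin.cases (motive := fun _ => ℕ) 0 (fun l => J l + 1) a
    let D : Fin (n + 1) → K := fun a => Fin.cases (motive := fun _ => K) 1 (fun l => u ^ J l) a
    have hDd : ∀ a, D a = d (idx a) := by
      intro a
      refine Fin.cases ?_ (fun l => ?_) a
      · rfl
      · rfl
    have hcolA : ∀ a : Fin (n + 1), (fun i => FunFld.wrMat τ Hs φ J i a) = c (idx a) := by
      intro a
      refine Fin.cases ?_ (fun i => ?_) a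
      · rfl
      · rfl
    have hcolA' : ∀ a : Fin (n + 1), (fun i => FunFld.wrMat τ Ht φ J i a) = c' (idx a) := by
      intro a
      refine Fin.cases ?_ (fun i => ?_) a
      · rfl
      · rfl
    have hprod : ∏ a, D a = u ^ (∑ l, J l) := by
      rw [Fin.prod_univ_succ]
      change 1 * ∏ i : Fin n, u ^ J i = _
      rw [one_mul, Finset.prod_pow_eq_pow_sum]
    rw [← hprod]
    apply Groth.Agent.H63.det_eq_prod_mul_det_of_triangular
    intro a
    rw [hcolA, hcolA', hDd]
    refine (Submodule.span_mono ?_) (Groth.Agent.H63.span_Iio_le_span_jumps c (idx a) (htri (idx a)))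
    rintro _ ⟨j, ⟨hj, hjmp⟩, rfl⟩
    revert hj
    refine Fin.cases ?_ (fun l => ?_) a
    · intro hj
      exact absurd hj (Nat.not_lt_zero _)
    · intro hj
      change j < J l + 1 at hj
      cases j with
      | zero =>
        refine ⟨⟨0, Fin.succ_pos l⟩, ?_⟩
        exact hcolA 0
      | succ j' =>
        obtain ⟨m, hm⟩ := (hJ.2 j').2 hjmp
        have hml : m < l := by
          by_contra hnot
          rw [not_lt] at hnot
          have := hJ.1.monotone hnot
          omega
        refine ⟨⟨m.succ, Fin.succ_lt_succ_iff.2 hml⟩, ?_⟩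
        change (fun i => FunFld.wrMat τ Hs φ J i m.succ) = c (j' + 1)
        rw [hcolA]
        change c (J m + 1) = c (j' + 1)
        rw [hm]

end Groth.Agent.S12598
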