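import Groth.Statements.S12601
import Groth.Agent.H63.Jumps

set_option autoImplicit false
open FunFld

namespace Groth.Agent.S12601

/-- Over an algebraically closed constant field, if `j'₁ < ⋯ < j'ₙ` is a strictly increasing sequence
with `det [τ(φ) | D^(j'₁) φ | ⋯ | D^(j'ₙ) φ] ≠ 0`, then the `τ`-orders `j₁ < ⋯ < jₙ` of `φ` satisfy
`jₗ ≤ j'ₗ` for all `l`. -/
theorem result
    (k K : Type*) [Field k] [IsAlgClosed k] [Field K] [Algebra k K]
    (hK : FunFld.IsFunctionField k K) {n : ℕ} (φ : Fin (n + 1) → K) (hφ : LinearIndependent k φ)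
    (τ : K →ₐ[k] K) (s : K) (H : K →ₐ[k] PowerSeries K) (hH : LocRes.IsHasseFamily s H)
    (J : Fin n → ℕ) (hJ : FunFld.IsOrders K (FunFld.hcol τ H φ) J)
    (J' : Fin n → ℕ) (hJ' : StrictMono J') (hdet : (FunFld.wrMat τ H φ J').det ≠ 0) :
    ∀ l, J l ≤ J' l := by
  classical
  intro l
  by_contra hlt
  push Not at hlt
  set c := FunFld.hcol τ H φ with hc
  set m := J' l with hm
  -- index function of the columns of the Wronskian matrix
  let idx : Fin (n + 1) → ℕ := fun a => Fin.cases (motive := fun _ => ℕ) 0 (fun i => J' i + 1) a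
  have hcolumn : ∀ a : Fin (n + 1), (fun i => FunFld.wrMat τ H φ J' i a) = c (idx a) := by
    intro a
    refine Fin.cases ?_ (fun i => ?_) a
    · rfl
    · rfl
  have hli : LinearIndependent K (fun a : Fin (n + 1) => c (idx a)) := by
    have h1 := Matrix.linearIndependent_rows_of_det_ne_zero
      (A := (FunFld.wrMat τ H φ J').transpose) (by rwa [Matrix.det_transpose])
    have h2 : (fun i => (FunFld.wrMat τ H φ J').transpose i) = fun a : Fin (n + 1) => c (idx a) := by
      funext a
      rw [← hcolumn a]
      rfl
    rwa [h2] at h1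
  -- the first l+2 columns
  let emb : Fin (l.val + 2) → Fin (n + 1) := fun a => ⟨a.val, by have := l.2; have := a.2; omega⟩
  have hemb : Function.Injective emb := by
    intro a b hab
    apply Fin.ext
    have := congrArg Fin.val hab
    exact this
  have hli2 : LinearIndependent K (fun a : Fin (l.val + 2) => c (idx (emb a))) :=
    hli.comp emb hemb
  have hidx : ∀ a : Fin (l.val + 2), idx (emb a) < m + 2 := by
    intro a
    have ha : ∀ (b : Fin (n + 1)), b.val ≤ l.val + 1 → idx b < m + 2 := by
      intro b
      refine Fin.cases ?_ (fun i => ?_) b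
      · intro _
        change 0 < m + 2
        omega
      · intro hi
        change J' i + 1 < m + 2
        have hil : i ≤ l := by
          rw [Fin.le_def]
          simp only [Fin.val_succ] at hi
          omega
        have := hJ'.monotone hil
        omega
    apply ha
    change a.val ≤ l.val + 1
    have := a.2
    omega
  -- the spanning set
  let S : Finset (Fin (n + 1) → K) :=
    insert (c 0) (Finset.univ.image (fun i : Fin l.val => c (J ⟨i.val, lt_trans i.2 l.2⟩ + 1)))
  have hScard : S.card ≤ l.val + 1 := by
    refine (Finset.card_insert_le _ _).trans ?_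
    have := Finset.card_image_le (s := (Finset.univ : Finset (Fin l.val)))
      (f := fun i : Fin l.val => c (J ⟨i.val, lt_trans i.2 l.2⟩ + 1))
    rw [Finset.card_univ, Fintype.card_fin] at this
    omega
  have hjumps : c '' {j | j < m + 2 ∧ FunFld.IsJump K c j} ⊆ (S : Set (Fin (n + 1) → K)) := by
    rintro _ ⟨j, ⟨hj, hjump⟩, rfl⟩
    cases j with
    | zero => exact Finset.mem_insert_self _ _
    | succ j' =>
      obtain ⟨i, hi⟩ := (hJ.2 j').2 hjump
      have hil : i < l := by
        by_contra hnot
        push Not at hnot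
        have := hJ.1.monotone hnot
        omega
      apply Finset.mem_insert_of_mem
      apply Finset.mem_image.2
      refine ⟨⟨i.val, hil⟩, Finset.mem_univ _, ?_⟩
      change c (J ⟨i.val, _⟩ + 1) = c (j' + 1)
      have : (⟨i.val, lt_trans hil l.2⟩ : Fin n) = i := Fin.ext rfl
      rw [this, hi]
  have hrange : Set.range (fun a : Fin (l.val + 2) => c (idx (emb a))) ≤
      Submodule.span K (S : Set (Fin (n + 1) → K)) := by
    rintro _ ⟨a, rfl⟩
    apply Submodule.span_mono hjumps
    apply Groth.Agent.H63.span_Iio_le_span_jumps c (m + 2)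
    exact Submodule.subset_span ⟨idx (emb a), hidx a, rfl⟩
  have hcard := linearIndependent_le_span' _ hli2 (S : Set (Fin (n + 1) → K)) hrange
  have hcS : Fintype.card (↑(S : Set (Fin (n + 1) → K))) = S.card := Fintype.card_coe S
  rw [Cardinal.mk_fin, hcS] at hcard
  have : l.val + 2 ≤ S.card := by exact_mod_cast hcard
  omega

end Groth.Agent.S12601
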