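import Groth.Statements.S12605
import Groth.Agent.H86.HS9

set_option autoImplicit false
open FunFld Groth.Agent.H86

namespace Groth.Agent.S12605

/-- Over an algebraically closed constant field, let `τ` be a `k`-endomorphism of `K`, `P` a fixed point
of `τ`, `φ = (φ₀, …, φₙ)` an effective projective map normalized at `P`, `t` a local parameter at
`P`, `J = (j₁ < ⋯ < jₙ)` the orders of `φ` at `P` and `I = (i₁ < ⋯ < iₙ)` strictly increasing. Then
the order at `P` of `det [τ(φ) | D_t^(i₁) φ | ⋯ | D_t^(iₙ) φ]` is at least `Σ (jₗ - iₗ)`; if all `iₗ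
> 0` or `P` is a strong fixed point of `τ`, it equals `Σ (jₗ - iₗ)` exactly when the matrix of
binomial coefficients `(j_r choose i_s)`, read in `k`, has nonzero determinant. -/
theorem result
    (k K : Type*) [Field k] [IsAlgClosed k] [Field K] [Algebra k K]
    (hK : FunFld.IsFunctionField k K) (τ : K →ₐ[k] K) (P : FunFld.Place k K) (hP : FunFld.IsFixedPt τ P)
    {n : ℕ} (φ : Fin (n + 1) → K) (hφ : LinearIndependent k φ)
    (heff : (1 : K) ∈ Submodule.span k (Set.range φ)) (hnorm : ∀ i, P.1 (φ i) ≤ 1)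
    (t : K) (ht : P.1 t = WithZero.exp (-1))
    (Ht : K →ₐ[k] PowerSeries K) (hHt : LocRes.IsHasseFamily t Ht)
    (J : Fin n → ℕ) (hJ : FunFld.IsOrders (IsLocalRing.ResidueField P.O) (FunFld.hcolAt P Ht φ) J)
    (I : Fin n → ℕ) (hI : StrictMono I) :
    P.1 (FunFld.wrMat τ Ht φ I).det ≤ WithZero.exp (-(∑ l, ((J l : ℤ) - I l))) ∧
    (((∀ l, 0 < I l) ∨ FunFld.IsStrongFixedPt τ P) →
      (P.1 (FunFld.wrMat τ Ht φ I).det = WithZero.exp (-(∑ l, ((J l : ℤ) - I l))) ↔
        (FunFld.binomMat k J I).det ≠ 0)) := by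
  obtain ⟨φ', hspan, h01, h02, hs⟩ := FF.exists_adapted hK P hHt ht φ hnorm hφ heff hJ
  have hJpos : ∀ l, 1 ≤ J l := fun l => FF.orders_pos P hHt φ hJ l
  have hval : P.1 (FunFld.wrMat τ Ht φ I).det = P.1 (FunFld.wrMat τ Ht φ' I).det :=
    (FF.val_det_wrMat_eq_of_span_eq P τ Ht φ φ' hφ hspan I).symm
  have hsc := FF.val_det_scMat P ht (FunFld.wrMat τ Ht φ' I) J I
  obtain ⟨hle, hiff⟩ := FF.adapted_local hK P τ hHt ht φ' J I hP ⟨h01, h02⟩ hs hJpos
  rw [hval, hsc]
  refine ⟨?_, ?_⟩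
  · calc WithZero.exp (-(∑ l, ((J l : ℤ) - I l))) *
          P.1 (FF.scMat t (FunFld.wrMat τ Ht φ' I) (FF.ext0 J) (FF.ext0 I)).det
        ≤ WithZero.exp (-(∑ l, ((J l : ℤ) - I l))) * 1 := mul_le_mul' le_rfl hle
      _ = WithZero.exp (-(∑ l, ((J l : ℤ) - I l))) := mul_one _
  · intro hcase
    rw [← hiff hcase]
    constructor
    · intro h
      have h2 : WithZero.exp (-(∑ l, ((J l : ℤ) - I l))) *
          P.1 (FF.scMat t (FunFld.wrMat τ Ht φ' I) (FF.ext0 J) (FF.ext0 I)).det =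
          WithZero.exp (-(∑ l, ((J l : ℤ) - I l))) * 1 := by rw [h, mul_one]
      exact mul_left_cancel₀ WithZero.exp_ne_zero h2
    · intro h
      rw [h, mul_one]

end Groth.Agent.S12605
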