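import Groth.Statements.S12595
-- import your own Groth.Agent.* helpers here

set_option autoImplicit false
open FunFld

namespace Groth.Agent.S12595

/-- Over an algebraically closed constant field, let `φ` be a birational projective map of the function
field `K` (the ratios `φ i / φ 0` generate `K`), `τ` a `k`-endomorphism of `K` and `H` a total Hasse
derivative. Then the first `τ`-order of `φ` is positive — the column `φ` of `0`-th Hasse derivatives
lies in the `K`-span of the leading column `τ(φ)` — exactly when `τ` is the identity. -/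
theorem result
    (k K : Type*) [Field k] [IsAlgClosed k] [Field K] [Algebra k K]
    (hK : FunFld.IsFunctionField k K) {n : ℕ} (φ : Fin (n + 1) → K) (h0 : φ 0 ≠ 0)
    (hbir : IntermediateField.adjoin k (Set.range fun i => φ i / φ 0) = ⊤)
    (τ : K →ₐ[k] K) (s : K) (H : K →ₐ[k] PowerSeries K) (hH : LocRes.IsHasseFamily s H) :
    ¬ FunFld.IsJump K (FunFld.hcol τ H φ) 1 ↔ τ = AlgHom.id k K := by
  have hc0 : FunFld.hcol τ H φ 0 = fun i => τ (φ i) := rfl
  have hc1 : FunFld.hcol τ H φ 1 = φ := by
    funext i
    change LocRes.hasseD H 0 (φ i) = φ i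
    rw [LocRes.hasseD_apply, PowerSeries.coeff_zero_eq_constantCoeff_apply]
    exact hH.2 (φ i)
  have hset : (FunFld.hcol τ H φ) '' Set.Iio 1 = {fun i => τ (φ i)} := by
    ext v
    simp only [Set.mem_image, Set.mem_Iio, Nat.lt_one_iff, Set.mem_singleton_iff]
    constructor
    · rintro ⟨j, rfl, rfl⟩
      exact hc0
    · rintro rfl
      exact ⟨0, rfl, hc0⟩
  unfold FunFld.IsJump
  rw [not_not, hset, hc1, Submodule.mem_span_singleton]
  constructor
  · rintro ⟨c, hc⟩
    have hci : ∀ i, c * τ (φ i) = φ i := fun i => by
      have := congrFun hc i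
      simpa [smul_eq_mul] using this
    have hτ0 : τ (φ 0) ≠ 0 := by
      intro h
      apply h0
      rw [← hci 0, h, mul_zero]
    have hfix : ∀ i, τ (φ i / φ 0) = φ i / φ 0 := by
      intro i
      have hc0' : c ≠ 0 := by
        intro h
        apply h0
        rw [← hci 0, h, zero_mul]
      have h1 : φ i / φ 0 = τ (φ i) / τ (φ 0) := by
        calc φ i / φ 0 = (c * τ (φ i)) / (c * τ (φ 0)) := by rw [hci i, hci 0]
          _ = τ (φ i) / τ (φ 0) := mul_div_mul_left _ _ hc0'
      rw [map_div₀, ← h1]
    -- the equalizer of τ and id contains the generators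
    apply AlgHom.ext
    intro x
    have hx : x ∈ IntermediateField.adjoin k (Set.range fun i => φ i / φ 0) := by
      rw [hbir]; trivial
    induction hx using IntermediateField.adjoin_induction with
    | mem y hy =>
      obtain ⟨i, rfl⟩ := hy
      exact hfix i
    | algebraMap c => exact τ.commutes c
    | add a b _ _ ha hb => rw [map_add, ha, hb, map_add]
    | inv a _ ha => rw [map_inv₀, ha, map_inv₀]
    | mul a b _ _ ha hb => rw [map_mul, ha, hb, map_mul]
  · rintro rfl
    exact ⟨1, by simp⟩

end Groth.Agent.S12595
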