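import Groth.Statements.S12596
import Groth.Agent.H63.Jumps

set_option autoImplicit false
open FunFld

namespace Groth.Agent.S12596

/-- Over an algebraically closed constant field, replacing a projective map `φ` by `Aφ` for an
invertible matrix `A` over `k` does not change the `τ`-order sequence, and multiplies every
generalized Wronskian determinant `det [τ(φ) | D^(I₁) φ | ⋯ | D^(Iₙ) φ]` (Hasse derivatives taken
with `H`) by `det A`. -/
theorem result
    (k K : Type*) [Field k] [IsAlgClosed k] [Field K] [Algebra k K]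
    (hK : FunFld.IsFunctionField k K) {n : ℕ} (φ : Fin (n + 1) → K) (hφ : LinearIndependent k φ)
    (τ : K →ₐ[k] K) (s : K) (H : K →ₐ[k] PowerSeries K) (hH : LocRes.IsHasseFamily s H)
    (A : Matrix (Fin (n + 1)) (Fin (n + 1)) k) (hA : A.det ≠ 0)
    (φ' : Fin (n + 1) → K) (hφ' : ∀ i, φ' i = ∑ j, A i j • φ j) :
    (∀ J : Fin n → ℕ, FunFld.IsOrders K (FunFld.hcol τ H φ') J ↔ FunFld.IsOrders K (FunFld.hcol τ H φ) J) ∧
    ∀ I : Fin n → ℕ, (FunFld.wrMat τ H φ' I).det = algebraMap k K A.det * (FunFld.wrMat τ H φ I).det := by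
  classical
  set AK : Matrix (Fin (n + 1)) (Fin (n + 1)) K := A.map (algebraMap k K) with hAK
  have hdetAK : AK.det = algebraMap k K A.det := by
    rw [hAK, ← RingHom.mapMatrix_apply, ← RingHom.map_det]
  have hAKdet : AK.det ≠ 0 := by
    rw [hdetAK]
    exact (map_ne_zero _).2 hA
  -- any k-linear map commutes with A
  have hlin : ∀ (f : K →ₗ[k] K) (i : Fin (n + 1)), f (φ' i) = ∑ j, AK i j * f (φ j) := by
    intro f i
    rw [hφ' i, map_sum]
    apply Finset.sum_congr rfl
    intro j _
    rw [map_smul, Algebra.smul_def]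
    rfl
  have hD : ∀ j : ℕ, ∃ f : K →ₗ[k] K, ∀ y, LocRes.hasseD H j y = f y := by
    intro j
    refine ⟨(PowerSeries.coeff (R := K) j).restrictScalars k ∘ₗ H.toLinearMap, fun y => rfl⟩
  have hcol : ∀ j, FunFld.hcol τ H φ' j = AK.mulVec (FunFld.hcol τ H φ j) := by
    intro j
    funext i
    cases j with
    | zero =>
      exact (hlin τ.toLinearMap i)
    | succ j =>
      obtain ⟨f, hf⟩ := hD j
      change LocRes.hasseD H j (φ' i) = _
      rw [hf, hlin f i]
      simp only [Matrix.mulVec, dotProduct]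
      apply Finset.sum_congr rfl
      intro l _
      change _ = AK i l * LocRes.hasseD H j (φ l)
      rw [hf]
  have hinj : Function.Injective (Matrix.mulVecLin AK) :=
    Matrix.mulVec_injective_iff_isUnit.2 ((Matrix.isUnit_iff_isUnit_det _).2 (IsUnit.mk0 _ hAKdet))
  have hjump : ∀ j, FunFld.IsJump K (FunFld.hcol τ H φ') j ↔ FunFld.IsJump K (FunFld.hcol τ H φ) j := by
    intro j
    have : FunFld.hcol τ H φ' = fun i => Matrix.mulVecLin AK (FunFld.hcol τ H φ i) := by
      funext i
      rw [hcol i]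
      rfl
    rw [this]
    exact Groth.Agent.H63.isJump_map_iff (Matrix.mulVecLin AK) hinj _ j
  refine ⟨fun J => ?_, fun I => ?_⟩
  · unfold FunFld.IsOrders
    simp only [hjump]
  · have hmat : FunFld.wrMat τ H φ' I = AK * FunFld.wrMat τ H φ I := by
      ext i c
      rw [Matrix.mul_apply]
      refine Fin.cases ?_ (fun l => ?_) c
      · change τ (φ' i) = ∑ j, AK i j * τ (φ j)
        exact hlin τ.toLinearMap i
      · obtain ⟨f, hf⟩ := hD (I l)
        change LocRes.hasseD H (I l) (φ' i) = ∑ j, AK i j * LocRes.hasseD H (I l) (φ j)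
        simp only [hf]
        exact hlin f i
    rw [hmat, Matrix.det_mul, hdetAK]

end Groth.Agent.S12596
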