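import Groth.Statements.S12614
import Groth.Agent.H63.MapDivLemmas
import Groth.Agent.S12596
import Groth.Agent.S12597
import Groth.Agent.S12598

set_option autoImplicit false
open FunFld

namespace Groth.Agent.S12614

/-- Over an algebraically closed constant field, the Weierstrass divisor `W_s(φ, τ) = [w_s(φ, τ)] +
[τ(φ)] + n[φ] + j(φ, τ)[ds]` does not depend on the separating variable `s` and does not change when
`φ` is replaced by an equivalent map `y · Aφ` (`A` invertible over `k`, `y ≠ 0`). Divisors of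
differentials are read through a fixed family of Laurent expansions. -/
theorem result
    (k K : Type*) [Field k] [IsAlgClosed k] [Field K] [Algebra k K]
    (hK : FunFld.IsFunctionField k K) {n : ℕ} (φ : Fin (n + 1) → K) (hφ : LinearIndependent k φ)
    (τ : K →ₐ[k] K) (s : K) (Hs : K →ₐ[k] PowerSeries K) (hHs : LocRes.IsHasseFamily s Hs)
    (t : K) (Ht : K →ₐ[k] PowerSeries K) (hHt : LocRes.IsHasseFamily t Ht)
    (J : Fin n → ℕ) (hJ : FunFld.IsOrders K (FunFld.hcol τ Hs φ) J)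
    (A : Matrix (Fin (n + 1)) (Fin (n + 1)) k) (hA : A.det ≠ 0) (y : K) (hy : y ≠ 0)
    (φ' : Fin (n + 1) → K) (hφ' : ∀ i, φ' i = y * ∑ j, A i j • φ j)
    (Φ : FunFld.Place k K → (K →ₐ[k] LaurentSeries k))
    (hΦ : ∀ P : FunFld.Place k K, LocRes.IsExpansionAt P.1 (Φ P)) :
    FunFld.wDiv τ Ht Φ t φ' J = FunFld.wDiv τ Hs Φ s φ J := by
  classical
  open Groth.Agent.H55 Groth.Agent.H63.MapDivLemmas Groth.Agent.H63.OrdDiff in
  -- the intermediate tuples
  set φ1 : Fin (n + 1) → K := fun i => ∑ j, A i j • φ j with hφ1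
  have hφ'eq : φ' = y • φ1 := by
    funext i
    rw [hφ' i]
    rfl
  have hφ1li : LinearIndependent k φ1 := linearIndependent_comb φ hφ A hA
  have hφ'li : LinearIndependent k (y • φ1) := linearIndependent_mul φ1 hφ1li y hy
  obtain ⟨hA1, hA2⟩ := Groth.Agent.S12596.result k K hK φ hφ τ s Hs hHs A hA φ1 (fun i => rfl)
  obtain ⟨hy1, hy2⟩ := Groth.Agent.S12597.result k K hK φ1 hφ1li τ s Hs hHs y hy
  obtain ⟨ht1, ht2⟩ := Groth.Agent.S12598.result k K hK (y • φ1) hφ'li τ s Hs hHs t Ht hHt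
  have hJ1 : FunFld.IsOrders K (FunFld.hcol τ Hs φ1) J := (hA1 J).2 hJ
  have hJ2 : FunFld.IsOrders K (FunFld.hcol τ Hs (y • φ1)) J := (hy1 J).2 hJ1
  set u := LocRes.hasseD Ht 1 s with hu
  set W := (FunFld.wrMat τ Hs φ J).det with hW
  have hdet : (FunFld.wrMat τ Ht φ' J).det =
      u ^ (∑ l, J l) * (τ y * y ^ n * (algebraMap k K A.det * W)) := by
    rw [hφ'eq, ht2 J hJ2, hy2 J hJ1, hA2 J]
  have hu0 : u ≠ 0 := Groth.Agent.H63.HasseFF.hasseD_one_ne_zero hK hHs hHt
  have hW0 : W ≠ 0 :=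
    Groth.Agent.H86.FF.det_wrMat_ne_zero_of_isOrders τ Hs φ ⟨0, hφ.ne_zero 0⟩ J hJ
  have hτy0 : τ y ≠ 0 := (map_ne_zero τ).2 hy
  have hdA0 : algebraMap k K A.det ≠ 0 := (map_ne_zero _).2 hA
  have hτφli : LinearIndependent k (τ ∘ φ) := linearIndependent_comp φ hφ τ
  ext P
  unfold FunFld.wDiv
  simp only [Finsupp.add_apply, Finsupp.smul_apply, smul_eq_mul]
  rw [Place.div_apply hK, Place.div_apply hK, mapDiv_apply hK, mapDiv_apply hK, mapDiv_apply hK,
    mapDiv_apply hK, divDiff_apply hK hHt Φ hΦ, divDiff_apply hK hHs Φ hΦ,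
    ordDiff_change hK hHs hHt P (Φ P) (hΦ P), hdet]
  -- orders of the Wronskian
  have h1 : P.ord (u ^ (∑ l, J l) * (τ y * y ^ n * (algebraMap k K A.det * W))) =
      ((∑ l, J l : ℕ) : ℤ) * P.ord u + (P.ord (τ y) + (n : ℤ) * P.ord y + P.ord W) := by
    rw [Place.ord_mul P (pow_ne_zero _ hu0)
        (mul_ne_zero (mul_ne_zero hτy0 (pow_ne_zero _ hy)) (mul_ne_zero hdA0 hW0)),
      Place.ord_mul P (mul_ne_zero hτy0 (pow_ne_zero _ hy)) (mul_ne_zero hdA0 hW0),
      Place.ord_mul P hτy0 (pow_ne_zero _ hy), Place.ord_mul P hdA0 hW0, Place.ord_pow,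
      Place.ord_pow, Place.ord_algebraMap, zero_add]
  -- the tuples
  have h2 : Finset.univ.inf' Finset.univ_nonempty (fun i => P.ord ((τ ∘ φ') i)) =
      P.ord (τ y) + Finset.univ.inf' Finset.univ_nonempty (fun i => P.ord ((τ ∘ φ) i)) := by
    have e1 : ∀ i, (τ ∘ φ') i = τ y * ∑ j, A i j • (τ ∘ φ) j := by
      intro i
      change τ (φ' i) = _
      rw [hφ' i, map_mul, map_sum]
      simp only [map_smul, Function.comp_apply]
    simp only [e1]
    rw [inf_ord_mul P (fun i => ∑ j, A i j • (τ ∘ φ) j) (comb_ne_zero _ hτφli A hA) (τ y) hτy0,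
      inf_ord_comb P (τ ∘ φ) hτφli A hA]
  have h3 : Finset.univ.inf' Finset.univ_nonempty (fun i => P.ord (φ' i)) =
      P.ord y + Finset.univ.inf' Finset.univ_nonempty (fun i => P.ord (φ i)) := by
    simp only [hφ']
    rw [inf_ord_mul P (fun i => ∑ j, A i j • φ j) (comb_ne_zero _ hφ A hA) y hy,
      inf_ord_comb P φ hφ A hA]
  rw [h1, h2, h3]
  push_cast
  ring

end Groth.Agent.S12614
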