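import Groth.Statements.S12615
import Groth.Agent.H86.HS14
import Groth.Agent.S12605

set_option autoImplicit false
open FunFld Groth.Agent.H86

namespace Groth.Agent.S12615

/-- Over an algebraically closed constant field, let `P` be a fixed point of the `k`-endomorphism `τ`,
`φ` an effective projective map normalized at `P` with `τ`-orders `j₁, …, jₙ` and orders `j'₁, …,
j'ₙ` at `P`. Then the coefficient of the Weierstrass divisor `W(φ, τ)` at `P` is at least `Σ (j'ₗ -
jₗ)`; if `τ = 1` or `P` is a strong fixed point, it equals `Σ (j'ₗ - jₗ)` exactly when the matrix of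
binomial coefficients `(j'_r choose j_s)`, read in `k`, has nonzero determinant. The divisor of `dt`
in `W` is read through a family of Laurent expansions. -/
theorem result
    (k K : Type*) [Field k] [IsAlgClosed k] [Field K] [Algebra k K]
    (hK : FunFld.IsFunctionField k K) (τ : K →ₐ[k] K) (P : FunFld.Place k K) (hP : FunFld.IsFixedPt τ P)
    {n : ℕ} (φ : Fin (n + 1) → K) (hφ : LinearIndependent k φ)
    (heff : (1 : K) ∈ Submodule.span k (Set.range φ)) (hnorm : ∀ i, P.1 (φ i) ≤ 1)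
    (t : K) (ht : P.1 t = WithZero.exp (-1))
    (Ht : K →ₐ[k] PowerSeries K) (hHt : LocRes.IsHasseFamily t Ht)
    (J : Fin n → ℕ) (hJ : FunFld.IsOrders K (FunFld.hcol τ Ht φ) J)
    (J' : Fin n → ℕ) (hJ' : FunFld.IsOrders (IsLocalRing.ResidueField P.O) (FunFld.hcolAt P Ht φ) J')
    (Φ : FunFld.Place k K → (K →ₐ[k] LaurentSeries k))
    (hΦ : ∀ P : FunFld.Place k K, LocRes.IsExpansionAt P.1 (Φ P)) :
    (∑ l, ((J' l : ℤ) - J l)) ≤ FunFld.wDiv τ Ht Φ t φ J P ∧
    ((τ = AlgHom.id k K ∨ FunFld.IsStrongFixedPt τ P) →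
      (FunFld.wDiv τ Ht Φ t φ J P = ∑ l, ((J' l : ℤ) - J l) ↔ (FunFld.binomMat k J' J).det ≠ 0)) := by
  have h0 : ∃ i, φ i ≠ 0 := ⟨0, hφ.ne_zero 0⟩
  have hdet0 : (FunFld.wrMat τ Ht φ J).det ≠ 0 :=
    FF.det_wrMat_ne_zero_of_isOrders τ Ht φ h0 J hJ
  have hw := FF.wDiv_apply hK P τ hP φ heff hnorm t ht Ht Φ (hΦ P) J
  have hv := Groth.Agent.H55.Place.val_eq_exp_neg_ord P hdet0
  have h5 := Groth.Agent.S12605.result k K hK τ P hP φ hφ heff hnorm t ht Ht hHt J' hJ' J hJ.1
  rw [hw]
  refine ⟨?_, ?_⟩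
  · have := h5.1
    rw [hv, WithZero.exp_le_exp] at this
    omega
  · intro hcase
    have hcase' : (∀ l, 0 < J l) ∨ FunFld.IsStrongFixedPt τ P := by
      rcases hcase with rfl | hs
      · exact Or.inl (FF.orders_id_pos hHt φ J hJ)
      · exact Or.inr hs
    rw [← h5.2 hcase', hv]
    constructor
    · intro h; rw [h]
    · intro h
      have := WithZero.exp_injective h
      omega

end Groth.Agent.S12615
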