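import Groth.Statements.S11053
import Groth.Agent.H86.SV3
import Groth.Agent.S12604

set_option autoImplicit false
open FunFld Groth.Agent.H86

namespace Groth.Agent.S11053

/-- Over an algebraically closed constant field, let `τ` be a `k`-embedding of the function field `K` of
genus `g` into itself, of degree `deg τ = [K : τ(K)]`. A place is a strong fixed point of `τ` when
`τ` maps its maximal ideal into the square of that ideal. For every integer `n > g` there are at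
most `1 + deg τ + (n + deg τ / n) g + 2g²(g-1)/n` strong fixed points. -/
theorem result
    (k K : Type*) [Field k] [IsAlgClosed k] [Field K] [Algebra k K]
    (hK : FunFld.IsFunctionField k K) (τ : K →ₐ[k] K) (n : ℕ)
    (hn : FunFld.genus k K < n) :
    {P : FunFld.Place k K | ∀ x : K, P.1 x < 1 → P.1 (τ x) ≤ WithZero.exp (-2)}.Finite ∧
    (Set.ncard {P : FunFld.Place k K | ∀ x : K, P.1 x < 1 → P.1 (τ x) ≤ WithZero.exp (-2)} : ℝ) ≤
      1 + Module.finrank τ.fieldRange K +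
        (n + (Module.finrank τ.fieldRange K : ℝ) / n) * FunFld.genus k K +
        2 * (FunFld.genus k K : ℝ) ^ 2 * (FunFld.genus k K - 1) / n := by
  classical
  have hSeq : {P : FunFld.Place k K | ∀ x : K, P.1 x < 1 → P.1 (τ x) ≤ WithZero.exp (-2)} =
      {P : FunFld.Place k K | IsStrongFixedPt τ P} := rfl
  rw [hSeq]
  set S : Set (Place k K) := {P | IsStrongFixedPt τ P} with hS
  set g := genus k K with hg
  set d := Module.finrank τ.fieldRange K with hd
  have hn0 : 0 < n := by omega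
  have hnpos : (0 : ℝ) < n := by exact_mod_cast hn0
  by_cases hemp : S = ∅
  · rw [hemp]
    refine ⟨Set.finite_empty, ?_⟩
    rw [Set.ncard_empty, Nat.cast_zero]
    have h3 : (0 : ℝ) ≤ 2 * (g : ℝ) ^ 2 * ((g : ℝ) - 1) / n := by
      rcases Nat.eq_zero_or_pos g with h0 | h1
      · rw [h0]
        simp
      · have h1' : (1 : ℝ) ≤ g := by exact_mod_cast h1
        have : (0 : ℝ) ≤ (g : ℝ) - 1 := by linarith
        positivity
    have h4 : (0 : ℝ) ≤ ((n : ℝ) + (d : ℝ) / n) * g := by positivity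
    have h5 : (0 : ℝ) ≤ (d : ℝ) := by positivity
    linarith
  · obtain ⟨P₀, hP₀⟩ := Set.nonempty_iff_ne_empty.mpr hemp
    have hP₀' : IsStrongFixedPt τ P₀ := hP₀
    obtain ⟨s, H, hH⟩ := FF.exists_hasseFamily hK
    obtain ⟨φ, hφ, hspan⟩ := FF.exists_basis_L hK P₀ n hn
    have hpole : ∃ f ∈ L (((n + genus k K : ℕ) : ℤ) • (Finsupp.single P₀ 1 : Divisor k K)),
        1 < P₀.1 f := by
      obtain ⟨f, hfv, hfQ⟩ := FF.exists_pole_eq hK P₀ (n + genus k K) (by omega)
      refine ⟨f, (FF.mem_L_smul_single P₀ _ f).mpr ⟨hfv.le, hfQ⟩, ?_⟩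
      rw [hfv, ← WithZero.exp_zero, WithZero.exp_lt_exp]
      have : 0 < n + genus k K := by omega
      exact_mod_cast this
    have hτφ := FF.not_tau_multiple hK τ P₀ hP₀' φ (n + genus k K) hspan hpole
    obtain ⟨J, hJ, -⟩ := Groth.Agent.H63.HasseFF.exists_orders hK hH φ hφ τ
    obtain ⟨hfin, hle⟩ := Groth.Agent.S12604.result k K hK τ φ hφ hτφ s H hH J hJ
    obtain ⟨hdeg, hsum⟩ := FF.two_mul_sum_tauOrders_le hK τ P₀ hP₀' hn φ hφ hspan hτφ hH J hJ
    have hlow := FF.mul_pred_le_two_mul_sum J hJ.1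
    refine ⟨hfin, ?_⟩
    change (n : ℤ) * (S.ncard : ℤ) ≤ ((n : ℤ) + d) * (mapDiv k φ).deg +
      (2 * (g : ℤ) - 2) * ∑ l, (J l : ℤ) at hle
    have hlowz : (n : ℤ) * ((n : ℤ) - 1) ≤ 2 * ∑ l, (J l : ℤ) := by
      have h' : ((n * (n - 1) : ℕ) : ℤ) ≤ ((2 * ∑ l, J l : ℕ) : ℤ) := by exact_mod_cast hlow
      rw [Nat.cast_mul, Nat.cast_sub (by omega : 1 ≤ n)] at h'
      push_cast at h'
      exact h'
    have h1 : ((n : ℤ) + d) * (mapDiv k φ).deg ≤ ((n : ℤ) + d) * ((n : ℤ) + g) := by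
      apply mul_le_mul_of_nonneg_left _ (by positivity)
      have := hdeg
      push_cast at this
      exact this
    have h2 : (2 * (g : ℤ) - 2) * ∑ l, (J l : ℤ) ≤
        ((g : ℤ) - 1) * ((n : ℤ) * ((n : ℤ) - 1) + 2 * (g : ℤ) ^ 2) := by
      rcases Nat.eq_zero_or_pos g with h0 | hg1
      · rw [h0]
        simp only [Nat.cast_zero]
        nlinarith
      · have hg1' : (0 : ℤ) ≤ (g : ℤ) - 1 := by
          have : (1 : ℤ) ≤ g := by exact_mod_cast hg1
          linarith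
        nlinarith
    have hint : (n : ℤ) * (S.ncard : ℤ) ≤ ((n : ℤ) + d) * ((n : ℤ) + g) +
        ((g : ℤ) - 1) * ((n : ℤ) * ((n : ℤ) - 1) + 2 * (g : ℤ) ^ 2) := by linarith
    have hreal : (n : ℝ) * (S.ncard : ℝ) ≤ ((n : ℝ) + d) * ((n : ℝ) + g) +
        ((g : ℝ) - 1) * ((n : ℝ) * ((n : ℝ) - 1) + 2 * (g : ℝ) ^ 2) := by exact_mod_cast hint
    have hrhs : (n : ℝ) * (1 + (d : ℝ) + ((n : ℝ) + (d : ℝ) / n) * g +
        2 * (g : ℝ) ^ 2 * ((g : ℝ) - 1) / n) = ((n : ℝ) + d) * ((n : ℝ) + g) +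
        ((g : ℝ) - 1) * ((n : ℝ) * ((n : ℝ) - 1) + 2 * (g : ℝ) ^ 2) := by
      field_simp
      ring
    rw [← hrhs] at hreal
    exact le_of_mul_le_mul_left hreal hnpos

end Groth.Agent.S11053
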