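import Groth.Statements.S12535
import Groth.Agent.H62.FFHyper
-- import your own Groth.Agent.* helpers here

set_option autoImplicit false
open FunFld

open FunFld WithZero Module Groth.Agent.H55 Groth.Agent.H62.FFTower Groth.Agent.H62.FFExtDeg
  Groth.Agent.H62.FFRat Groth.Agent.H62.FFHyper

namespace Groth.Agent.S12535

/-- Let `char k ≠ 2`, `K` of degree `2` over `k(x)`, and `y ∈ K` with `y² = f(x)`, `f` a squarefree
polynomial of degree `≥ 1`. Then a place `P` of `K` is a zero of `y` exactly when it lies over a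
finite place of `k(x)` where `f` has a zero, and in that case `ord_P(y) = 1`: the divisor of zeros
of `y` is `Σ P_i`, one place over each irreducible factor of `f`, with multiplicity one. -/
theorem result (k K : Type*) [Field k] [Field K] (h2 : ringChar k ≠ 2) [Algebra k K]
    [Algebra (RatFunc k) K] [IsScalarTower k (RatFunc k) K]
    (hdeg : Module.finrank (RatFunc k) K = 2) (y : K) (f : Polynomial k) (hf : Squarefree f)
    (hd : 1 ≤ f.natDegree)
    (heq : y ^ 2 = algebraMap (RatFunc k) K (algebraMap (Polynomial k) (RatFunc k) f)) (P : FunFld.Place k K) :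
    (0 < P.ord y → P.ord y = 1) ∧
    (0 < P.ord y ↔ ∃ P₀ : FunFld.Place k (RatFunc k), FunFld.IsOver P P₀ ∧ 0 ≤ P₀.ord (RatFunc.X : RatFunc k) ∧
      0 < P₀.ord (algebraMap (Polynomial k) (RatFunc k) f)) := by
  have hK₀ : IsFunctionField k (RatFunc k) := isFunctionField_ratFunc
  have hfd : FiniteDimensional (RatFunc k) K := finiteDimensional_of_finrank_two hdeg
  have hf0 : f ≠ 0 := hf.ne_zero
  have hinj : Function.Injective (algebraMap (Polynomial k) (RatFunc k)) :=
    IsFractionRing.injective (Polynomial k) (RatFunc k)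
  have hF0 : algebraMap (Polynomial k) (RatFunc k) f ≠ 0 := (map_ne_zero_iff _ hinj).mpr hf0
  have hX0 : (RatFunc.X : RatFunc k) ≠ 0 := RatFunc.X_ne_zero
  -- the main analysis at a place with `0 < ord y`
  have main : 0 < P.ord y → ∃ P₀ : FunFld.Place k (RatFunc k), FunFld.IsOverWith P P₀ 2 ∧
      0 ≤ P₀.ord (RatFunc.X : RatFunc k) ∧
      P₀.ord (algebraMap (Polynomial k) (RatFunc k) f) = 1 ∧ P.ord y = 1 := by
    intro hpos
    obtain ⟨P₀, e, he⟩ := exists_place_under hK₀ P
    have h1 := two_mul_ord heq he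
    have he0 : 0 < e := isOverWith_pos he
    have hFpos : 0 < P₀.ord (algebraMap (Polynomial k) (RatFunc k) f) := by
      by_contra hle
      push Not at hle
      have : (e : ℤ) * P₀.ord (algebraMap (Polynomial k) (RatFunc k) f) ≤ 0 :=
        mul_nonpos_of_nonneg_of_nonpos (by positivity) hle
      omega
    have hfin : P₀.1 (RatFunc.X : RatFunc k) ≤ 1 := by
      by_contra hlt
      push Not at hlt
      rw [ord_poly_infinite P₀ hlt hf0] at hFpos
      omega
    have hF1 := ord_squarefree P₀ hfin hf hFpos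
    rw [hF1, mul_one] at h1
    rcases ramIdx_eq_one_or_two hK₀ hdeg he with rfl | rfl
    · omega
    · refine ⟨P₀, he, (Place.ord_nonneg_iff P₀ hX0).mpr hfin, hF1, ?_⟩
      push_cast at h1
      omega
  refine ⟨fun hpos => ?_, ⟨fun hpos => ?_, ?_⟩⟩
  · obtain ⟨P₀, -, -, -, h⟩ := main hpos
    exact h
  · obtain ⟨P₀, he, hX, hF, -⟩ := main hpos
    exact ⟨P₀, ⟨2, he⟩, hX, by rw [hF]; exact one_pos⟩
  · rintro ⟨P₀, ⟨e, he⟩, -, hF⟩
    have h1 := two_mul_ord heq he
    have he0 : 0 < e := isOverWith_pos he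
    have : 0 < (e : ℤ) * P₀.ord (algebraMap (Polynomial k) (RatFunc k) f) :=
      mul_pos (by exact_mod_cast he0) hF
    omega

end Groth.Agent.S12535
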