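import Groth.Statements.S12519
import Groth.Agent.H62.FFHyper2
-- import your own Groth.Agent.* helpers here

set_option autoImplicit false
open FunFld

open FunFld WithZero Module Groth.Agent.H55 Groth.Agent.H62.FFTower Groth.Agent.H62.FFExtDeg
  Groth.Agent.H62.FFRat Groth.Agent.H62.FFHyper Groth.Agent.H62.FFHyper2 Groth.Agent.H62.FFParity

namespace Groth.Agent.S12519

/-- Let `k` be perfect of characteristic `2`, `K` separable of degree `2` over `k(x)`, and `y ∈ K \
k(x)` with `y² + y = f(x)`. At a place `p` of `k(x)/k` where `f` has a pole of odd order there is a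
unique place `P` of `K` above `p`, with `e(P|p) = 2` and `deg P = deg p` (residue degree `1`); at a
place where `f` has no pole, every place of `K` above it is unramified. The different is not stated. -/
theorem result (k K : Type*) [Field k] [Field K] [PerfectField k] (h2 : ringChar k = 2)
    [Algebra k K] [Algebra (RatFunc k) K] [IsScalarTower k (RatFunc k) K]
    (hdeg : Module.finrank (RatFunc k) K = 2) [Algebra.IsSeparable (RatFunc k) K]
    (y : K) (hy : y ∉ Set.range (algebraMap (RatFunc k) K))
    (f : RatFunc k) (heq : y ^ 2 + y = algebraMap (RatFunc k) K f)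
    (P₀ : FunFld.Place k (RatFunc k)) :
    ((P₀.ord f < 0 ∧ Odd (P₀.ord f)) → (∃! P : FunFld.Place k K, FunFld.IsOver P P₀) ∧
      ∀ P : FunFld.Place k K, FunFld.IsOver P P₀ → FunFld.IsOverWith P P₀ 2 ∧ P.deg = P₀.deg) ∧
    (0 ≤ P₀.ord f → ∀ P : FunFld.Place k K, FunFld.IsOver P P₀ → FunFld.IsOverWith P P₀ 1) := by
  have hK₀ : IsFunctionField k (RatFunc k) := isFunctionField_ratFunc
  have hfd : FiniteDimensional (RatFunc k) K := finiteDimensional_of_finrank_two hdeg
  have hy0 : y ≠ 0 := fun h => hy ⟨0, by rw [map_zero, h]⟩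
  constructor
  · -- pole of odd order
    rintro ⟨hneg, hodd⟩
    have hf0 : f ≠ 0 := by
      rintro rfl
      rw [Place.ord_zero] at hneg
      exact lt_irrefl _ hneg
    have hF0 : algebraMap (RatFunc k) K f ≠ 0 := by
      rwa [Ne, map_eq_zero_iff _ (algebraMap (RatFunc k) K).injective]
    have hram : ∀ P : FunFld.Place k K, FunFld.IsOver P P₀ → FunFld.IsOverWith P P₀ 2 := by
      rintro P ⟨e, he⟩
      have he0 : 0 < e := isOverWith_pos he
      have h1 : P.ord (algebraMap (RatFunc k) K f) = e * P₀.ord f := isOverWith_ord_eq he f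
      have hFneg : P.ord (algebraMap (RatFunc k) K f) < 0 := by
        rw [h1]
        exact mul_neg_of_pos_of_neg (by exact_mod_cast he0) hneg
      have hvy : 1 < P.1 y := by
        by_contra hle
        push Not at hle
        have h3 : P.1 (y ^ 2 + y) ≤ 1 := by
          refine (P.1.map_add _ _).trans (max_le ?_ hle)
          rw [map_pow]
          exact pow_le_one₀ zero_le hle
        rw [heq] at h3
        have := (Place.ord_nonneg_iff P hF0).mpr h3
        omega
      have hsq : P.1 y < P.1 (y ^ 2) := by
        rw [map_pow, sq]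
        have h0 : 0 < P.1 y := lt_trans zero_lt_one hvy
        calc P.1 y = P.1 y * 1 := (mul_one _).symm
          _ < P.1 y * P.1 y := by
            exact (mul_lt_mul_iff_right₀ h0).mpr hvy
      have h4 : P.1 (y ^ 2 + y) = P.1 (y ^ 2) := Valuation.map_add_eq_of_lt_left _ hsq
      have h5 : P.ord (algebraMap (RatFunc k) K f) = 2 * P.ord y := by
        rw [← heq]
        have hne : y ^ 2 + y ≠ 0 := by rw [heq]; exact hF0
        rw [Place.ord_eq_iff P hne, h4, Place.val_eq_exp_neg_ord P (pow_ne_zero 2 hy0),
          Place.ord_pow]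
        norm_num
      rcases ramIdx_eq_one_or_two hK₀ hdeg he with rfl | rfl
      · exfalso
        obtain ⟨j, hj⟩ := hodd
        rw [h5, hj] at h1
        push_cast at h1
        omega
      · exact he
    have huniq : ∀ P : FunFld.Place k K, FunFld.IsOver P P₀ →
        P.deg = P₀.deg ∧ ∀ Q' : FunFld.Place k K, FunFld.IsOver Q' P₀ → Q' = P := by
      intro P hP
      exact unique_of_ramIdx_eq_finrank hK₀ hP (by rw [ramIdx_eq (hram P hP), hdeg])
    obtain ⟨Q, hQ⟩ := exists_isOver (K' := K) hK₀ P₀
    exact ⟨⟨Q, hQ, fun Q' hQ' => (huniq Q hQ).2 Q' hQ'⟩,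
      fun P hP => ⟨hram P hP, (huniq P hP).1⟩⟩
  · -- no pole
    rintro hnn P ⟨e, he⟩
    rcases ramIdx_eq_one_or_two hK₀ hdeg he with rfl | rfl
    · exact he
    · exfalso
      have hvf : P₀.1 f ≤ 1 := by
        by_cases hf0 : f = 0
        · rw [hf0, map_zero]; exact zero_le_one
        · exact (Place.ord_nonneg_iff P₀ hf0).mp hnn
      have hvF : P.1 (algebraMap (RatFunc k) K f) ≤ 1 := (isOverWith_le_one_iff he f).mpr hvf
      have h2K : (2 : K) = 0 := by
        have h2k : (2 : k) = 0 := by
          have := ringChar.Nat.cast_ringChar (R := k)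
          rw [h2] at this
          exact_mod_cast this
        have : (2 : K) = algebraMap k K 2 := by rw [map_ofNat]
        rw [this, h2k, map_zero]
      apply not_isOverWith_two hdeg he y (-y - 1) hy
      · exact ⟨-1, by rw [map_neg, map_one]; ring⟩
      · refine ⟨-f, ?_⟩
        rw [map_neg, ← heq]
        ring
      · by_contra hlt
        push Not at hlt
        have hsq : P.1 y < P.1 (y ^ 2) := by
          rw [map_pow, sq]
          have h0 : 0 < P.1 y := lt_trans zero_lt_one hlt
          calc P.1 y = P.1 y * 1 := (mul_one _).symm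
            _ < P.1 y * P.1 y := (mul_lt_mul_iff_right₀ h0).mpr hlt
        have h4 : P.1 (y ^ 2 + y) = P.1 (y ^ 2) := Valuation.map_add_eq_of_lt_left _ hsq
        rw [heq] at h4
        rw [h4] at hvF
        exact absurd (lt_trans hlt hsq) (not_lt.mpr hvF)
      · have : y - (-y - 1) = 2 * y + 1 := by ring
        rw [this, h2K, zero_mul, zero_add, map_one]

end Groth.Agent.S12519
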