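import Groth.Statements.S12715
import Groth.Agent.H63.CRingSurj
import Groth.Agent.H63.ArtFinite
import Groth.Prelude.Def_ArtFun5

set_option autoImplicit false
universe u v
open CategoryTheory
open ArtFun

namespace Groth.Agent.S12715

/-- For Λ Noetherian with a finite map to the field k and S a complete local Noetherian Λ-algebra with
residue field k (through a surjective map S → k over Λ), the space of Λ-derivations S → k is
finite-dimensional over k. -/
theorem result {Λ : Type u} {k : Type u} [CommRing Λ] [Field k] [Algebra Λ k]
    [IsNoetherianRing Λ] [Module.Finite Λ k]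
    (S : Type u) [CommRing S] [Algebra Λ S] [IsLocalRing S] [IsNoetherianRing S]
    [IsAdicComplete (IsLocalRing.maximalIdeal S) S] [Algebra S k] [IsScalarTower Λ S k]
    (hres : Function.Surjective (algebraMap S k)) :
    Module.Finite k (Derivation Λ S k) := by
  let S' : ArtFun.CRing Λ k :=
    { carrier := S
      res := IsScalarTower.toAlgHom Λ S k
      res_surjective := hres
      isAdicComplete := inferInstance }
  have hmem : ∀ x : S, x ∈ IsLocalRing.maximalIdeal S ↔ algebraMap S k x = 0 :=
    fun x => Groth.Agent.H63.CR.mem_maximalIdeal_iff S' x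
  -- every derivation kills `m²`
  have hkill : ∀ (D : Derivation Λ S k) (z : S), z ∈ IsLocalRing.maximalIdeal S ^ (1 + 1) → D z = 0 := by
    intro D z hz
    rw [pow_succ, pow_one] at hz
    refine Submodule.mul_induction_on hz ?_ ?_
    · intro x hx y hy
      rw [Derivation.leibniz, Algebra.smul_def, Algebra.smul_def, (hmem x).1 hx, (hmem y).1 hy,
        zero_mul, zero_mul, add_zero]
    · intro x y hx hy
      rw [map_add, hx, hy, add_zero]
  have hfin : Module.Finite Λ (S'.trunc 1) := by
    haveI := Groth.Agent.H63.isNoetherian_obj (S'.trunc 1)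
    infer_instance
  obtain ⟨n, x, hx⟩ := Module.Finite.exists_fin (R := Λ) (M := S'.trunc 1)
  have hy : ∀ i, ∃ y : S, Ideal.Quotient.mk (S'.mpow 1) y = x i :=
    fun i => Ideal.Quotient.mk_surjective (x i)
  choose y hy using hy
  let L : Derivation Λ S k →ₗ[k] (Fin n → k) :=
    { toFun := fun D i => D (y i)
      map_add' := fun D D' => rfl
      map_smul' := fun c D => rfl }
  have hL : Function.Injective L := by
    rw [← LinearMap.ker_eq_bot, LinearMap.ker_eq_bot']
    intro D hD
    have hDy : ∀ i, D (y i) = 0 := fun i => congrFun hD i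
    have key : ∀ e : S'.trunc 1, ∀ s : S, Ideal.Quotient.mk (S'.mpow 1) s = e → D s = 0 := by
      intro e
      have he : e ∈ Submodule.span Λ (Set.range x) := by rw [hx]; exact Submodule.mem_top
      induction he using Submodule.span_induction with
      | mem e he =>
        obtain ⟨i, rfl⟩ := he
        intro s hs
        rw [← hy i, Ideal.Quotient.eq] at hs
        have := hkill D _ hs
        rw [map_sub, hDy, sub_zero] at this
        exact this
      | zero =>
        intro s hs
        exact hkill D s (Ideal.Quotient.eq_zero_iff_mem.1 hs)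
      | add e₁ e₂ _ _ h₁ h₂ =>
        intro s hs
        obtain ⟨s₁, hs₁⟩ := Ideal.Quotient.mk_surjective e₁
        have h2 := h₂ (s - s₁) (by rw [map_sub, hs, hs₁]; exact add_sub_cancel_left _ _)
        have h1 := h₁ s₁ hs₁
        rw [map_sub, h1, sub_zero] at h2
        exact h2
      | smul c e₁ _ h₁ =>
        intro s hs
        obtain ⟨s₁, hs₁⟩ := Ideal.Quotient.mk_surjective e₁
        have h1 := h₁ s₁ hs₁
        have h2 : Ideal.Quotient.mk (S'.mpow 1) (s - c • s₁) = 0 := by
          have h4 : Ideal.Quotient.mk (S'.mpow 1) (c • s₁) = c • Ideal.Quotient.mk (S'.mpow 1) s₁ :=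
            map_smul (Ideal.Quotient.mkₐ Λ (S'.mpow 1)) c s₁
          rw [map_sub, hs, h4, hs₁]
          exact sub_self _
        have h3 := hkill D _ (Ideal.Quotient.eq_zero_iff_mem.1 h2)
        rw [map_sub, D.map_smul, h1, smul_zero, sub_zero] at h3
        exact h3
    ext s
    exact key _ s rfl
  exact Module.Finite.of_injective L hL

end Groth.Agent.S12715
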