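import Groth.Statements.S12730
import Groth.Agent.H63.ComplSmooth
import Groth.Agent.H61.Hull
import Groth.Agent.H61.TszeObj

set_option autoImplicit false
universe u v
open CategoryTheory
open ArtFun

namespace Groth.Agent.S12730

/-- For functors, a functor on Artinian local Λ-algebras with residue field k with F(k) a point,
satisfying (S1) and (S2) and with finite-dimensional tangent space has a versal family over some
complete local Noetherian Λ-algebra with residue field k. -/
theorem result {Λ : Type u} {k : Type u} [CommRing Λ] [Field k] [Algebra Λ k]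
    [IsNoetherianRing Λ] [Module.Finite Λ k]
    (F : ArtFun.Art Λ k ⥤ Type v) [ArtFun.TangentStr F]
    (h0 : ArtFun.H0 F) (h1 : ArtFun.S1 F) (h2 : ArtFun.Heps F) (h3 : ArtFun.Hfin F) :
    ArtFun.HasVersal F := by
  classical
  obtain ⟨n, a₁, hbij⟩ := Groth.Agent.H61.exists_start h0 h2 h3
  obtain ⟨P, hP, p₁, hp₁⟩ := Groth.Agent.H63.exists_smooth_cover (Groth.Agent.H61.tszeArt Λ k (Fin n → k))
  haveI : IsAdicComplete (IsLocalRing.maximalIdeal P.carrier) P.carrier := P.isAdicComplete
  have hvers₁ : ∀ b : F.obj (ArtFun.Art.dual Λ k),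
      ∃ φ : (Groth.Agent.H61.tszeArt Λ k (Fin n → k)) ⟶ ArtFun.Art.dual Λ k, F.map φ a₁ = b := by
    intro b
    obtain ⟨l, hl⟩ := hbij.2 (ArtFun.TangentSpace.mk b)
    exact ⟨Groth.Agent.H61.tszeToDual l, hl⟩
  let s₀ : Groth.Agent.H61.Stage P.carrier P.res F :=
    ⟨Groth.Agent.H61.tszeArt Λ k (Fin n → k), p₁, hp₁, a₁, hvers₁⟩
  obtain ⟨S, π, hπ, ξ, hπs, hversal, hξ, hker⟩ :=
    Groth.Agent.H61.exists_versal_of_stage P.res_surjective hP h1 h2 s₀
  exact ⟨⟨S, ξ, hversal⟩⟩

end Groth.Agent.S12730
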