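import Groth.Statements.S12734
import Groth.Agent.H63.ArtCut2
import Groth.Agent.H63.ArtHull
import Groth.Agent.H63.ArtProRep
import Groth.Agent.H61.Universal
import Groth.Agent.H61.ProrepConverse
import Groth.Agent.S12730

set_option autoImplicit false
universe u v
open CategoryTheory
open ArtFun

namespace Groth.Agent.S12734

/-- A functor F on Artinian local Λ-algebras with residue field k is prorepresentable if and only if (a)
F(k) is a point and F satisfies (RS): F(A₁ ×_A A₂) → F(A₁) ×_{F(A)} F(A₂) is bijective whenever A₂ →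
A is surjective; (b) its tangent space is finite-dimensional; and (c) the map from morphisms k →
k[ε] of the category (the Λ-derivations of k) to the tangent space, σ ↦ F(σ)(x₀), is injective.
Condition (c) is empty when k is separable over the image of Λ in k. -/
theorem result {Λ : Type u} {k : Type u} [CommRing Λ] [Field k] [Algebra Λ k]
    [IsNoetherianRing Λ] [Module.Finite Λ k]
    (F : ArtFun.Art Λ k ⥤ Type v) [ArtFun.TangentStr F] :
    ArtFun.IsProrepresentable F ↔
      ((ArtFun.H0 F ∧ (∀ ⦃B A A' A'' : ArtFun.Art Λ k⦄ (p' : B ⟶ A') (p'' : B ⟶ A'') (f' : A' ⟶ A) (f'' : A'' ⟶ A)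
        (h : ArtFun.Art.IsFibreProd p' p'' f' f''), Function.Surjective f'' → Function.Bijective (ArtFun.cmp F h))) ∧
        ArtFun.Hfin F ∧
        ∀ x₀ : F.obj (ArtFun.Art.base Λ k),
          Function.Injective (fun σ : ArtFun.Art.base Λ k ⟶ ArtFun.Art.dual Λ k => F.map σ x₀)) := by
  constructor
  · rintro ⟨⟨R, ξ, hu⟩⟩
    have h0 : ArtFun.H0 F := Groth.Agent.H63.h0_of_isUniversal ξ hu
    refine ⟨⟨h0, ?_⟩, ?_, ?_⟩
    · intro B A A' A'' p' p'' f' f'' h _
      exact Groth.Agent.H61.isLeftExact_of_isUniversal ξ hu p' p'' f' f'' h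
    · exact Groth.Agent.H63.hfin_of_isMiniversal R ξ (hu _).2
    · intro x₀ σ σ' hσ
      have hx₀ : x₀ = ξ.app _ (Groth.Agent.H63.homSetBase R.carrier R.res) := by
        haveI := h0.2
        exact Subsingleton.elim _ _
      have h1 : ξ.app _ (ArtFun.HomSet.map σ (Groth.Agent.H63.homSetBase R.carrier R.res)) =
          ξ.app _ (ArtFun.HomSet.map σ' (Groth.Agent.H63.homSetBase R.carrier R.res)) := by
        rw [ξ.natural, ξ.natural, ← hx₀]
        exact hσ
      have h2 := (hu _).1 h1
      apply ArtFun.Art.hom_ext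
      apply AlgHom.ext
      intro c
      obtain ⟨r, rfl⟩ := R.res_surjective c
      exact congrArg (fun t : ArtFun.HomSet R.carrier R.res (ArtFun.Art.dual Λ k) => t.1 r) h2
  · rintro ⟨⟨h0, hRS⟩, h3, hc⟩
    have h1 : ArtFun.S1 F := fun _ _ _ _ p' p'' f' f'' h hf => (hRS p' p'' f' f'' h hf).2
    have h2 : ArtFun.Heps F := fun _ A' p' p'' h =>
      hRS p' p'' (ArtFun.Art.toBase A') (ArtFun.Art.toBase (ArtFun.Art.dual Λ k)) h
        (ArtFun.Art.dual Λ k).res_surjective
    have hv := Groth.Agent.S12730.result F h0 h1 h2 h3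
    obtain ⟨⟨R, ξ, hm⟩⟩ := Groth.Agent.H63.hasHull_of_hasVersal_of_injective hc h0 h2 hv
    exact ⟨⟨R, ξ, Groth.Agent.H61.isUniversal_of_isMiniversal h0 ξ hm
      (fun _ _ _ p₁ p₂ f h hf => (hRS p₁ p₂ f f h hf.1).1)⟩⟩

end Groth.Agent.S12734
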