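import Groth.Statements.S12836
import Groth.Agent.H64.Quot.GlueObj2

set_option autoImplicit false
universe u
open CategoryTheory AlgebraicGeometry
open AlgSt

namespace Groth.Agent.S12836

/-- Let `G` be a group scheme over `S` with `G ⟶ S` affine, acting on an `S`-scheme `X`. The quotient
category `[X/G]` over `(Sch/S)` — an object over `T` is a `G`-torsor `P ⟶ T` for the fppf topology
which is a scheme, together with a `G`-equivariant morphism `P ⟶ X`; a morphism is an equivariant
cartesian square compatible with the maps to `X` — is a stack in groupoids over `(Sch/S)` with the
fppf topology. (The published statement is over an algebraic space `B` over `S`, for a group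
algebraic space `G` over `B` acting on an algebraic space `X` over `B`, with torsors that are
algebraic spaces; this row is the case `B = S` with `G`, `X` schemes and `G ⟶ S` affine, in which
every fppf torsor under a base change of `G` is a scheme, so that the category of scheme torsors is
the whole quotient category.) -/
theorem result (S : Scheme.{u}) (G : Over S) [GrpObj G] [IsAffineHom G.hom]
    (X : Over S) (aX : AlgGrp.Action G X) :
    Stk.IsStack (QuotSh.J Scheme.fppfPrecoverage S) (AlgSt.QuotSt Scheme.fppfPrecoverage G aX) := by
  refine ⟨Groth.Agent.H64.Quot.isFibGrpd_quotSt, fun U R hR => ?_⟩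
  exact
    { faithful := Groth.Agent.H64.Quot.resSieve_faithful R hR
      full := Groth.Agent.H64.Quot.resSieve_full R hR
      essSurj := Groth.Agent.H84.StkConcrete.essSurj_of_glue_obj
        Groth.Agent.H64.Quot.isFibGrpd_quotSt R
        (fun D => Groth.Agent.H64.Quot.exists_glue_obj hR D) }

end Groth.Agent.S12836
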