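import Groth.Statements.S6411
import Groth.Agent.H32.FpProj

set_option autoImplicit false
open CategoryTheory
universe v u
open FibCat

namespace Groth.Agent.S6411

/-- For `𝒳, 𝒴` fibred in groupoids over `C`, `F : 𝒳 ⟶ 𝒴` over `C` and `G : C/U ⟶ 𝒴` over `C`, the
projection `(C/U) ×_𝒴 𝒳 ⟶ C/U` is a category fibred in groupoids. -/
theorem result {C : Type u} [Category.{v} C] {𝒳 𝒴 : BasedCategory.{v, max u v} C} (h𝒳 : FibCat.IsFibGrpd 𝒳.p) (h𝒴 : FibCat.IsFibGrpd 𝒴.p) (F : 𝒳 ⥤ᵇ 𝒴) (U : C) (G : FibCat.overCat U ⥤ᵇ 𝒴) :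
    FibCat.IsFibGrpd (FibCat.fpFst G F).toFunctor := by
  have h : FibCat.IsFibGrpd ((FibCat.fpFst G F).toFunctor ⋙ Over.forget U) :=
    Groth.Agent.H32.isFibGrpd_fp G F (Groth.Agent.H32.isFibGrpd_overForget U) h𝒳 h𝒴
  refine ⟨?_, ?_⟩
  · intro x V f
    let f' : V.left ⟶ ((FibCat.fpFst G F).toFunctor ⋙ Over.forget U).obj x := f.left
    obtain ⟨y, φ, hφ⟩ := h.exists_lift f'
    exact ⟨y, φ, Groth.Agent.H32.over_lift (FibCat.fpFst G F).toFunctor f φ hφ⟩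
  · intro y x φ
    exact Groth.Agent.H32.over_strong (FibCat.fpFst G F).toFunctor y x φ (h.isStronglyCartesian φ)

end Groth.Agent.S6411
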