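import Groth.Statements.S10531
import Groth.Agent.S10544
import Groth.Agent.S10546
import Groth.Agent.H52.EtaleMono
import Groth.Agent.H52.ZarLocal

set_option autoImplicit false
universe u
open CategoryTheory CategoryTheory.Limits AlgebraicGeometry
open AlgSp

namespace Groth.Agent.S10531

/-- The property of morphisms of algebraic spaces over S given by f is an open immersion (representable
by open immersions of schemes) is fpqc local on the base: for an fpqc covering of an algebraic space
Y by algebraic spaces Y_i, a morphism f : X ⟶ Y of algebraic spaces and cartesian squares X_i = Y_i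
×_Y X, f has the property if and only if every X_i ⟶ Y_i has it. -/
theorem result (S : Scheme.{u}) :
    AlgSp.IsLocalOnBase (AlgSp.IsFpqcCover (S := S)) (AlgSp.RepWith @IsOpenImmersion) := by
  intro ι Y Yi g hY hYi hcov X f hX Xi p q hXi hsq
  constructor
  · intro hf i
    exact MorphismProperty.of_isPullback (P := RepWith @IsOpenImmersion) (hsq i) hf
  · intro hp
    have hmono : Mono f :=
      (Groth.Agent.S10546.result S Yi g hY hYi hcov f hX Xi p q hXi hsq).2
        (fun i => Groth.Agent.H52.mono_of_repWith_isOpenImmersion (p i) (hp i))
    have het : IsEtaleMor f :=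
      (Groth.Agent.S10544.result S Yi g hY hYi hcov f hX Xi p q hXi hsq).2
        (fun i => Groth.Agent.H52.isEtaleMor_of_repWith_isOpenImmersion (p i) (hp i))
    exact Groth.Agent.H52.repWith_isOpenImmersion_of_isEtaleMor_of_mono hX f het

end Groth.Agent.S10531
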