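import Groth.Statements.S9873
import Groth.Agent.H65.AlgSpBoot
-- import your own Groth.Agent.* helpers here

set_option autoImplicit false
universe u
open CategoryTheory CategoryTheory.Limits AlgebraicGeometry
open AlgSp

namespace Groth.Agent.S9873

/-- Let `X` be an algebraic space over `S`, `F` an fppf sheaf of sets over `S`, and `f : X ⟶ F` a map of
sheaves which is representable by schemes, etale and surjective (in the representable sense). Then
`F` is an algebraic space over `S`; in particular an fppf sheaf receiving a representable etale
surjective map from a scheme is an algebraic space. -/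
theorem result (S : Scheme.{u}) (X : AlgSp.Space S) (F : AlgSp.Sp S)
    (f : X.obj ⟶ F) (he : AlgSp.RepWith @Etale f) (hs : AlgSp.RepWith @Surjective f) :
    AlgSp.IsAlgSpace F := by
  obtain ⟨U, p, hpE, hpS⟩ := X.property.atlas
  exact Groth.Agent.H65.AlgSpBoot.isAlgSpace_of_yon_cover (p ≫ f)
    ((AlgSp.RepWith @Etale).comp_mem _ _ hpE he) ((AlgSp.RepWith @Surjective).comp_mem _ _ hpS hs)

end Groth.Agent.S9873
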