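import Groth.Statements.S10535
import Groth.Agent.H53.LocalBase
import Groth.Agent.H1.Descent

set_option autoImplicit false
universe u
open CategoryTheory CategoryTheory.Limits AlgebraicGeometry
open AlgSp

namespace Groth.Agent.S10535

/-- The property of morphisms of algebraic spaces over S given by f is separated (diagonal representable
and a closed immersion) is fpqc local on the base: for an fpqc covering of an algebraic space Y by
algebraic spaces Y_i, a morphism f : X ⟶ Y of algebraic spaces and cartesian squares X_i = Y_i ×_Y
X, f has the property if and only if every X_i ⟶ Y_i has it. -/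
theorem result (S : Scheme.{u}) :
    AlgSp.IsLocalOnBase (AlgSp.IsFpqcCover (S := S)) AlgSp.IsSeparatedMor := by
  intro ι Y Yi g hY hYi hcov X f hX Xi p q hXi hsq
  constructor
  · intro hf i
    exact MorphismProperty.of_isPullback (P := (RepWith @IsClosedImmersion).diagonal) (hsq i) hf
  · intro hp
    have hrep : Representable (pullback.diagonal f) := Groth.Agent.H53.representable_diagonal hX.diag f
    have := Groth.Agent.H1.isClosedImmersion_descendsAlong_fpqc.{u}
    refine Groth.Agent.H53.repWith_of_fpqc_local @IsClosedImmersion _ hrep fun Z hZ t => ?_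
    obtain ⟨m, W, c, hW, hc, hs, hl⟩ := hcov.2 Z hZ (t ≫ pullback.fst f f ≫ f)
    refine ⟨m, W, c, hW, hc, hs, fun j V' fst' s' sq' => ?_⟩
    obtain ⟨i, l, hl⟩ := hl j
    have h1 : ((yon S).map (c j) ≫ t ≫ pullback.fst f f) ≫ f = l ≫ g i := by
      rw [hl]; simp only [Category.assoc]
    have h2 : ((yon S).map (c j) ≫ t ≫ pullback.snd f f) ≫ f = l ≫ g i := by
      rw [hl]; simp only [Category.assoc, pullback.condition]
    have hκ := Groth.Agent.H53.isPullback_diagonal_of_isPullback (hsq i)
    have e : pullback.lift ((hsq i).lift _ _ h1) ((hsq i).lift _ _ h2)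
        (by rw [(hsq i).lift_snd, (hsq i).lift_snd]) ≫
        pullback.map (p i) (p i) f f (q i) (q i) (g i) (hsq i).w.symm (hsq i).w.symm =
        (yon S).map (c j) ≫ t := by
      apply pullback.hom_ext
      · simp only [pullback.map, Category.assoc, pullback.lift_fst, pullback.lift_fst_assoc,
          (hsq i).lift_fst]
      · simp only [pullback.map, Category.assoc, pullback.lift_snd, pullback.lift_snd_assoc,
          (hsq i).lift_fst]
    rw [← e] at sq'
    have sqL := IsPullback.of_right
      (h₁₁ := hκ.lift fst' ((yon S).map s' ≫ pullback.lift ((hsq i).lift _ _ h1) ((hsq i).lift _ _ h2)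
        (by rw [(hsq i).lift_snd, (hsq i).lift_snd])) (by rw [sq'.w, Category.assoc]))
      (by rw [hκ.lift_fst]; exact sq') (hκ.lift_snd _ _ _) hκ
    exact (hp i).2 _ _ _ sqL

end Groth.Agent.S10535
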