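import Groth.Statements.S10541
import Groth.Agent.H53.LQF
import Groth.Agent.H53.LocPBase
import Groth.Agent.H52.FpqcBase

set_option autoImplicit false
universe u
open CategoryTheory CategoryTheory.Limits AlgebraicGeometry
open AlgSp

namespace Groth.Agent.S10541

/-- The properties of morphisms of algebraic spaces over S given by locally quasi-finite (locally
quasi-finite and locally of finite type on etale charts) and by quasi-finite (the same together with
quasi-compact) are both fpqc local on the base: for an fpqc covering of an algebraic space Y by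
algebraic spaces Y_i, a morphism f : X ⟶ Y of algebraic spaces and cartesian squares X_i = Y_i ×_Y
X, f has the property if and only if every X_i ⟶ Y_i has it. -/
theorem result (S : Scheme.{u}) :
    AlgSp.IsLocalOnBase (AlgSp.IsFpqcCover (S := S)) (AlgSp.LocP (@LocallyQuasiFinite ⊓ @LocallyOfFiniteType)) ∧
    AlgSp.IsLocalOnBase (AlgSp.IsFpqcCover (S := S))
      (fun _ _ f => AlgSp.LocP (@LocallyQuasiFinite ⊓ @LocallyOfFiniteType) f ∧ AlgSp.IsQuasiCompactMor f) := by
  have h1 : AlgSp.IsLocalOnBase (AlgSp.IsFpqcCover (S := S))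
      (AlgSp.LocP (@LocallyQuasiFinite ⊓ @LocallyOfFiniteType)) := by
    refine Groth.Agent.H53.isLocalOnBase_fpqc_locP (@LocallyQuasiFinite ⊓ @LocallyOfFiniteType) ?_
      Groth.Agent.H53.etLocSrc_lqf
    intro A B e he
    have : Etale e := he
    exact ⟨Groth.Agent.H53.locallyQuasiFinite_of_etale e, inferInstance⟩
  refine ⟨h1, ?_⟩
  have h2 := Groth.Agent.H52.isLocalOnBase_fpqc_isQuasiCompactMor (S := S)
  intro ι Y Yi g hY hYi hcov X f hX Xi p q hXi sq
  have e1 := h1 Yi g hY hYi hcov f hX Xi p q hXi sq
  have e2 := h2 Yi g hY hYi hcov f hX Xi p q hXi sq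
  constructor
  · rintro ⟨a, b⟩ i
    exact ⟨e1.1 a i, e2.1 b i⟩
  · intro h
    exact ⟨e1.2 fun i => (h i).1, e2.2 fun i => (h i).2⟩

end Groth.Agent.S10541
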