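import Groth.Statements.S10580
import Groth.Agent.H53.LocSource

set_option autoImplicit false
universe u
open CategoryTheory CategoryTheory.Limits AlgebraicGeometry
open AlgSp

namespace Groth.Agent.S10580

/-- Let P be a property of morphisms of schemes and P_spaces the induced property of morphisms of
algebraic spaces over S (P on every etale chart diagram). For τ one of fpqc, fppf, smooth, etale: if
P is τ local on the source for morphisms of schemes, then P_spaces is τ local on the source for
morphisms of algebraic spaces. (The published statement assumes P etale local on the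
source-and-target, which is what makes the chart-wise property the right notion; the implication
itself holds for every P and is stated that way. The syntomic case is not included. τ-locality on
the source for schemes is taken in the form that includes invariance of P under isomorphisms, which
the published definition requires implicitly.) -/
theorem result (S : Scheme.{u}) (P : MorphismProperty Scheme.{u}) :
    (P.IsLocalAtSource Scheme.fpqcPrecoverage → AlgSp.IsLocalOnSource (AlgSp.IsFpqcCover (S := S)) (AlgSp.LocP P)) ∧
    (P.IsLocalAtSource Scheme.fppfPrecoverage → AlgSp.IsLocalOnSource (AlgSp.IsFppfCover (S := S)) (AlgSp.LocP P)) ∧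
    (P.IsLocalAtSource (Scheme.precoverage @Smooth) → AlgSp.IsLocalOnSource (AlgSp.IsSmCover (S := S)) (AlgSp.LocP P)) ∧
    (P.IsLocalAtSource Scheme.etalePrecoverage → AlgSp.IsLocalOnSource (AlgSp.IsEtCover (S := S)) (AlgSp.LocP P)) := by
  refine ⟨fun hP => ?_, fun hP => ?_, fun hP => ?_, fun hP => ?_⟩
  · exact Groth.Agent.H53.isLocalOnSource_locP_fpqc P
  · have hP' : P.IsLocalAtSource (Scheme.precoverage (@Flat ⊓ @LocallyOfFinitePresentation)) := hP
    have : MorphismProperty.ContainsIdentities
        (@Flat ⊓ @LocallyOfFinitePresentation : MorphismProperty Scheme.{u}) :=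
      ⟨fun X => ⟨(inferInstance : Flat (𝟙 X)), (inferInstance : LocallyOfFinitePresentation (𝟙 X))⟩⟩
    have key := Groth.Agent.H53.isLocalOnSource_locP_of_precoverage (S := S) P
      (@Flat ⊓ @LocallyOfFinitePresentation)
      (fun _ _ f (hf : Etale f) => ⟨inferInstance, inferInstance⟩)
    intro ι X Xi g hX hXi hcov Y f hY
    refine key Xi g hX hXi ⟨fun i => ?_, hcov.2⟩ f hY
    intro U V a b h ha hb hc
    exact ⟨(hcov.1 i).1 a b h ha hb hc, (hcov.1 i).2 a b h ha hb hc⟩
  · have : MorphismProperty.ContainsIdentities (@Smooth : MorphismProperty Scheme.{u}) :=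
      ⟨fun X => (inferInstance : Smooth (𝟙 X))⟩
    have key := Groth.Agent.H53.isLocalOnSource_locP_of_precoverage (S := S) P @Smooth
      (fun _ _ f (hf : Etale f) => inferInstance)
    intro ι X Xi g hX hXi hcov Y f hY
    exact key Xi g hX hXi hcov f hY
  · have hP' : P.IsLocalAtSource (Scheme.precoverage @Etale) := hP
    have key := Groth.Agent.H53.isLocalOnSource_locP_of_precoverage (S := S) P @Etale le_rfl
    intro ι X Xi g hX hXi hcov Y f hY
    refine key Xi g hX hXi ⟨fun i => ?_, hcov.2⟩ f hY
    exact Groth.Agent.H53.locP_etale_of_isEtaleMor _ (hcov.1 i)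

end Groth.Agent.S10580
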