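import Groth.Statements.S10567
import Groth.Agent.H53.Charts

set_option autoImplicit false
universe u
open CategoryTheory CategoryTheory.Limits AlgebraicGeometry
open AlgSp

namespace Groth.Agent.S10567

/-- A property P of morphisms of algebraic spaces over S that is smooth local on the source, smooth
local on the base, and stable under postcomposition with smooth morphisms (whenever g : Y ⟶ Z is
smooth and f : X ⟶ Y has P, the composite f ≫ g has P) is smooth local on source-and-target. -/
theorem result {S : Scheme.{u}} (P : MorphismProperty (AlgSp.Sp S))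
    (h1 : AlgSp.IsLocalOnSource (AlgSp.IsSmCover (S := S)) P)
    (h2 : AlgSp.IsLocalOnBase (AlgSp.IsSmCover (S := S)) P)
    (h3 : ∀ ⦃X Y Z : AlgSp.Space S⦄ (f : X ⟶ Y) (g : Y ⟶ Z), P f.hom → AlgSp.LocP @Smooth g.hom → P (f ≫ g).hom) :
    AlgSp.IsSmoothLocalST P := by
  have hid : ∀ (Y : Sp S), LocP @Smooth (𝟙 Y) := fun Y U V a b h ha hb hc => by
    have : Etale h.left := Groth.Agent.H53.etale_left_of_repWith_etale a b ha hb h
      (by rw [← hc, Category.comp_id])
    infer_instance
  refine ⟨?_, ?_, ?_⟩
  · intro X Y Z hX hY hZ f g hf hg
    have key := h1 (ι := Option PUnit.{u+1}) (X := Y) (fun o => o.elim Y (fun _ => X))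
      (fun o => match o with
        | none => 𝟙 Y
        | some _ => f) hY
      (fun o => match o with
        | none => hY
        | some _ => hX)
      ⟨fun o => match o with
        | none => hid Y
        | some _ => hf, fun x => ⟨none, x, Points.map_id x⟩⟩ g hZ
    exact key.1 hg (some PUnit.unit)
  · intro X Y X' Y' hX hY hX' hY' f g f' g' sq hg hf
    have key := h2 (ι := Option PUnit.{u+1}) (Y := Y) (fun o => o.elim Y (fun _ => Y'))
      (fun o => match o with
        | none => 𝟙 Y
        | some _ => g) hY
      (fun o => match o with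
        | none => hY
        | some _ => hY')
      ⟨fun o => match o with
        | none => hid Y
        | some _ => hg, fun x => ⟨none, x, Points.map_id x⟩⟩ f hX
      (fun o => o.elim X (fun _ => X'))
      (fun o => match o with
        | none => f
        | some _ => f')
      (fun o => match o with
        | none => 𝟙 X
        | some _ => g')
      (fun o => match o with
        | none => hX
        | some _ => hX')
      (fun o => match o with
        | none => (IsPullback.of_horiz_isIso (fst := 𝟙 X) (snd := f) (f := f) (g := 𝟙 Y) ⟨by simp⟩ :)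
        | some _ => sq)
    exact key.1 hf (some PUnit.unit)
  · intro X Y hX hY f
    constructor
    · intro hf x
      exact ⟨X, Y, 𝟙 X, 𝟙 Y, f, x, hX, hY, hid X, hid Y, by simp, Points.map_id x, hf⟩
    · intro H
      obtain ⟨U0, c0, -, hc0⟩ := hX.atlas
      choose U V a b h v hU hV ha hb hcomm hv hP using H
      have key := h1 (ι := ↥U0.left) (X := X) (fun u => U (Points.ofPt c0 u))
        (fun u => a (Points.ofPt c0 u)) hX (fun u => hU _)
        ⟨fun u => ha _, fun x => by
          obtain ⟨u, rfl⟩ := Groth.Agent.H53.exists_ofPt_eq_of_repWith_surjective c0 hc0 x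
          exact ⟨u, v _, hv _⟩⟩ f hY
      refine key.2 fun u => ?_
      rw [hcomm]
      exact h3 (X := ⟨U _, hU _⟩) (Y := ⟨V _, hV _⟩) (Z := ⟨Y, hY⟩) (ObjectProperty.homMk (h _))
        (ObjectProperty.homMk (b _)) (hP _) (hb _)

end Groth.Agent.S10567
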