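import Groth.Statements.S10547
import Groth.Agent.H53.ImmFppf
import Groth.Agent.H51.SpRep

set_option autoImplicit false
universe u
open CategoryTheory CategoryTheory.Limits AlgebraicGeometry
open AlgSp

namespace Groth.Agent.S10547

/-- The property of morphisms of algebraic spaces over S given by immersions (representable by
immersions of schemes) is fppf local on the base: for an fppf covering of an algebraic space Y by
algebraic spaces Y_i (each Y_i ⟶ Y flat and locally of finite presentation, jointly surjective on
points), a morphism f : X ⟶ Y of algebraic spaces and cartesian squares X_i = Y_i ×_Y X, f is an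
immersion if and only if every X_i ⟶ Y_i is. -/
theorem result (S : Scheme.{u}) :
    AlgSp.IsLocalOnBase (AlgSp.IsFppfCover (S := S)) (AlgSp.RepWith @IsImmersion) := by
  intro ι Y Yi g hY hYi hcov X f hX Xi p q hXi hsq
  constructor
  · intro hf i
    exact MorphismProperty.of_isPullback
      (P := AlgSp.RepWith (@IsImmersion : MorphismProperty Scheme.{u})) (hsq i) hf
  · intro hp
    have key : ∀ (T : Over S) (k : (AlgSp.yon S).obj T ⟶ Y), ∃ (V : Over S) (b : V ⟶ T)
        (fst : (AlgSp.yon S).obj V ⟶ X), IsPullback fst ((AlgSp.yon S).map b) f k ∧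
          IsImmersion b.left := by
      intro T k
      obtain ⟨U, u, l, hflat, hlfp, hsurj, hl⟩ :=
        Groth.Agent.H52.exists_fppf_charts hY Yi hYi g hcov T k
      have hG : AlgSp.IsAlgSpace (CategoryTheory.Limits.pullback f k) :=
        Groth.Agent.H49.isAlgSpace_of_isPullback (IsPullback.of_hasPullback f k) hY.diag hX
          (AlgSp.IsAlgSpace.yon_obj T)
      have sqi : ∀ i, IsPullback ((hp i).rep.fst (l i)) ((AlgSp.yon S).map ((hp i).rep.snd (l i)))
          (p i) (l i) := fun i => (hp i).rep.isPullback (l i)
      have hcond : ∀ i, ((hp i).rep.fst (l i) ≫ q i) ≫ f =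
          (AlgSp.yon S).map ((hp i).rep.snd (l i) ≫ u i) ≫ k := fun i => by
        rw [Category.assoc, (hsq i).w, ← Category.assoc, (sqi i).w, Category.assoc, hl i,
          Functor.map_comp, Category.assoc]
      let t : ∀ i, (AlgSp.yon S).obj ((hp i).rep.pullback (l i)) ⟶
          CategoryTheory.Limits.pullback f k := fun i =>
        CategoryTheory.Limits.pullback.lift _ _ (hcond i)
      have ht1 : ∀ i, t i ≫ CategoryTheory.Limits.pullback.fst f k = (hp i).rep.fst (l i) ≫ q i :=
        fun i => CategoryTheory.Limits.pullback.lift_fst _ _ _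
      have ht2 : ∀ i, t i ≫ CategoryTheory.Limits.pullback.snd f k =
          (AlgSp.yon S).map ((hp i).rep.snd (l i) ≫ u i) :=
        fun i => CategoryTheory.Limits.pullback.lift_snd _ _ _
      have sq : ∀ i, IsPullback (t i) ((AlgSp.yon S).map ((hp i).rep.snd (l i)))
          (CategoryTheory.Limits.pullback.snd f k) ((AlgSp.yon S).map (u i)) := fun i => by
        have big := (sqi i).paste_horiz (hsq i)
        rw [hl i, ← ht1 i] at big
        refine IsPullback.of_right big ?_ (IsPullback.of_hasPullback f k)
        rw [ht2 i, Functor.map_comp]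
      obtain ⟨V, b, e, hb, he⟩ := Groth.Agent.H53.ImmFppf.exists_immersion_of_fppf_family u hflat
        hlfp hsurj hG (CategoryTheory.Limits.pullback.snd f k) (fun i => (hp i).rep.snd (l i))
        (fun i => (hp i).property_snd (l i)) t sq
      refine ⟨V, b, e.hom ≫ CategoryTheory.Limits.pullback.fst f k, ?_, hb⟩
      exact IsPullback.of_iso (IsPullback.of_hasPullback f k) e.symm (Iso.refl _) (Iso.refl _)
        (Iso.refl _) (by simp) (by simp [← he]) (by simp) (by simp)
    have hrep : AlgSp.Representable f := fun T k => by
      obtain ⟨V, b, fst, sq, -⟩ := key T k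
      exact ⟨V, b, fst, sq⟩
    refine ⟨hrep, fun T V k fst snd sq => ?_⟩
    obtain ⟨V', b, fst', sq', hb⟩ := key T k
    have : MorphismProperty.RespectsIso (@IsImmersion : MorphismProperty Scheme.{u}) :=
      inferInstance
    exact (Groth.Agent.H51.prop_snd_iff_of_isPullback @IsImmersion hrep k fst snd sq).2
      ((Groth.Agent.H51.prop_snd_iff_of_isPullback @IsImmersion hrep k fst' b sq').1 hb)

end Groth.Agent.S10547
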