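import Groth.Statements.S10528
import Groth.Agent.H52.FpqcBase
import Groth.Agent.S10526

set_option autoImplicit false
universe u
open CategoryTheory CategoryTheory.Limits AlgebraicGeometry
open AlgSp

namespace Groth.Agent.S10528

/-- The property of morphisms of algebraic spaces over S given by f is of finite type (locally of finite
type on etale charts and quasi-compact) is fpqc local on the base: for an fpqc covering of an
algebraic space Y by algebraic spaces Y_i, a morphism f : X ⟶ Y of algebraic spaces and cartesian
squares X_i = Y_i ×_Y X, f has the property if and only if every X_i ⟶ Y_i has it. -/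
theorem result (S : Scheme.{u}) :
    AlgSp.IsLocalOnBase (AlgSp.IsFpqcCover (S := S)) AlgSp.IsFiniteTypeMor := by
  intro ι Y Yi g hY hYi hcov X f hX Xi p q hXi hsq
  have h1 := Groth.Agent.S10526.result S Yi g hY hYi hcov f hX Xi p q hXi hsq
  have h2 := Groth.Agent.H52.isLocalOnBase_fpqc_isQuasiCompactMor Yi g hY hYi hcov f hX Xi p q hXi hsq
  constructor
  · intro hf i
    exact ⟨h1.1 hf.1 i, h2.1 hf.2 i⟩
  · intro hp
    exact ⟨h1.2 fun i => (hp i).1, h2.2 fun i => (hp i).2⟩

end Groth.Agent.S10528
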