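import Groth.Statements.S9872
import Groth.Agent.H49.AlgSpCover
import Mathlib.CategoryTheory.Sites.RegularEpi

set_option autoImplicit false
universe u
open CategoryTheory CategoryTheory.Limits AlgebraicGeometry
open AlgSp

namespace Groth.Agent.S9872

/-- Let `F` be an algebraic space over `S`, `p : h_U ⟶ F` representable etale and representable
surjective with `U` a scheme over `S`, and let `s, t : R ⟶ U` over `S` be such that `h_R`, with
`h_t` and `h_s`, is the fibre product `h_U ×_F h_U`. Then `s, t` is an etale equivalence relation on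
`U` over `S`, and `p` exhibits `F` as the coequalizer of `h_t, h_s : h_R ⟶ h_U` in fppf sheaves of
sets over `S`. -/
theorem result (S : Scheme.{u}) (F : AlgSp.Sp S) (hF : AlgSp.IsAlgSpace F)
    {R U : Over S} (p : (AlgSp.yon S).obj U ⟶ F) (he : AlgSp.RepWith @Etale p)
    (hs : AlgSp.RepWith @Surjective p) (s t : R ⟶ U)
    (sq : IsPullback ((AlgSp.yon S).map t) ((AlgSp.yon S).map s) p p) :
    AlgSp.IsEtaleEqvRel s t ∧ Nonempty (IsColimit (Cofork.ofπ p sq.w)) := by
  have key : ∀ (T : Over S) (a b : T ⟶ U),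
      (∃ r : T ⟶ R, r ≫ t = a ∧ r ≫ s = b) ↔
        (AlgSp.yon S).map a ≫ p = (AlgSp.yon S).map b ≫ p := by
    intro T a b
    constructor
    · rintro ⟨r, rfl, rfl⟩
      rw [Functor.map_comp, Functor.map_comp, Category.assoc, Category.assoc, sq.w]
    · intro h
      obtain ⟨r, hr⟩ := (AlgSp.yon S).map_surjective (sq.lift _ _ h)
      refine ⟨r, (AlgSp.yon S).map_injective ?_, (AlgSp.yon S).map_injective ?_⟩
      · rw [Functor.map_comp, hr, sq.lift_fst]
      · rw [Functor.map_comp, hr, sq.lift_snd]
  refine ⟨⟨⟨?_, ?_⟩, ?_, ?_⟩, ?_⟩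
  · intro T r r' h1 h2
    apply (AlgSp.yon S).map_injective
    apply sq.hom_ext
    · rw [← Functor.map_comp, ← Functor.map_comp, h1]
    · rw [← Functor.map_comp, ← Functor.map_comp, h2]
  · intro T
    refine ⟨fun a => (key T a a).2 rfl, fun {a b} h => (key T b a).2 ((key T a b).1 h).symm,
      fun {a b c} h1 h2 => (key T a c).2 (((key T a b).1 h1).trans ((key T b c).1 h2))⟩
  · exact (AlgSp.repWith_yon_map_iff @Etale s).1
      (MorphismProperty.of_isPullback (P := AlgSp.RepWith @Etale) sq he)
  · exact (AlgSp.repWith_yon_map_iff @Etale t).1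
      (MorphismProperty.of_isPullback (P := AlgSp.RepWith @Etale) sq.flip he)
  · have hls : Sheaf.IsLocallySurjective p :=
      Groth.Agent.H49.isLocallySurjective_of_repWith_etale_surjective p he hs
    have hepi : Epi p := (Sheaf.isLocallySurjective_iff_epi p).1 hls
    have hreg : IsRegularEpi p := IsRegularEpiCategory.regularEpiOfEpi p
    have hk : IsKernelPair p ((AlgSp.yon S).map t) ((AlgSp.yon S).map s) := sq
    exact ⟨hk.toCoequalizer'⟩

end Groth.Agent.S9872
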