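import Groth.Statements.S15416
import Groth.Agent.H77.MinRes

set_option autoImplicit false
universe u
open GrSyz

namespace Groth.Agent.S15416

/-- Let k be a field, S = k[x_0, …, x_r] graded by degree, 𝔪 = (x_0, …, x_r) its irrelevant ideal and M
a finitely generated ℤ-graded S-module. Then M has a graded free resolution by free modules of
finite rank with chosen homogeneous bases which is minimal: every entry of every differential's
matrix lies in 𝔪. (Finite length is not part of this statement.) -/
theorem result (k : Type u) [Field k] (r : ℕ)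
    (M : Type u) [AddCommGroup M] [Module k M] [Module (MvPolynomial (Fin (r + 1)) k) M]
    [IsScalarTower k (MvPolynomial (Fin (r + 1)) k) M] [Module.Finite (MvPolynomial (Fin (r + 1)) k) M]
    (ℳ : ℤ → Submodule k M) [DirectSum.Decomposition ℳ] [SetLike.GradedSMul (GrSyz.stdGr k (Fin (r + 1))) ℳ] :
    ∃ F : GrSyz.FreeRes (GrSyz.stdGr k (Fin (r + 1))) ℳ, F.IsMinimal (GrSyz.irrel (GrSyz.stdGr k (Fin (r + 1)))).toIdeal := by
  classical
  obtain ⟨n0, δ0, g0, hhom, hspan, hrel⟩ :=
    Groth.Agent.H77.exists_minimal_homGen (Groth.Agent.H77.modProj (k := k) (σ := Fin (r + 1)) ℳ) ⊤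
      Module.Finite.fg_top (fun _ _ _ => Submodule.mem_top)
  let s0 : Groth.Agent.H77.Stage k (Fin (r + 1)) :=
    { n := n0
      δ := δ0
      K := LinearMap.ker (Fintype.linearCombination (MvPolynomial (Fin (r + 1)) k) g0)
      stable := fun d v hv =>
        Groth.Agent.H77.ker_linearCombination_stable
          (Groth.Agent.H77.modProj (k := k) (σ := Fin (r + 1)) ℳ) δ0 g0 hhom d v hv
      inm := fun v hv => hrel v (by
        rw [LinearMap.mem_ker, Fintype.linearCombination_apply] at hv
        exact hv) }
  refine ⟨{ rk := fun i => (Groth.Agent.H77.stage s0 i).n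
            deg := fun i => (Groth.Agent.H77.stage s0 i).δ
            d := fun i => (Groth.Agent.H77.stepData (Groth.Agent.H77.stage s0 i)).D
            aug := g0
            d_mem := fun i a b => (Groth.Agent.H77.stepData (Groth.Agent.H77.stage s0 i)).D_mem a b
            aug_mem := ?_
            aug_surjective := ?_
            exact_zero := (Groth.Agent.H77.stepData s0).range_eq.symm
            exact_succ := fun i =>
              (Groth.Agent.H77.stepData (Groth.Agent.H77.stage s0 (i + 1))).range_eq.symm }, ?_⟩
  · intro b
    have h := hhom b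
    rw [Groth.Agent.H77.modProj_apply] at h
    change g0 b ∈ ℳ (δ0 b)
    rw [← h]
    exact SetLike.coe_mem _
  · change Function.Surjective (Fintype.linearCombination (MvPolynomial (Fin (r + 1)) k) g0)
    rw [← LinearMap.range_eq_top, Fintype.range_linearCombination, hspan]
  · intro i a b
    change (Groth.Agent.H77.stepData (Groth.Agent.H77.stage s0 i)).D a b ∈ _
    have hcol : Matrix.mulVecLin (Groth.Agent.H77.stepData (Groth.Agent.H77.stage s0 i)).D
        (Pi.single b 1) ∈ LinearMap.range
          (Matrix.mulVecLin (Groth.Agent.H77.stepData (Groth.Agent.H77.stage s0 i)).D) := ⟨_, rfl⟩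
    rw [(Groth.Agent.H77.stepData (Groth.Agent.H77.stage s0 i)).range_eq] at hcol
    have := (Groth.Agent.H77.stage s0 i).inm _ hcol a
    rw [Matrix.mulVecLin_apply, Matrix.mulVec_single_one] at this
    exact this

end Groth.Agent.S15416
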