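import Groth.Statements.S12482
import Mathlib.RingTheory.Ideal.Operations
import Mathlib.Data.List.OfFn
import Mathlib.LinearAlgebra.Basis.Basic

set_option autoImplicit false
universe u
open Dual

namespace Groth.Agent.S12482

open RingTheory.Sequence in
lemma ofList_ofFn {A : Type u} [CommRing A] {p : ℕ} (x : Fin p → A) :
    Ideal.ofList (List.ofFn x) = Ideal.span (Set.range x) := by
  unfold Ideal.ofList
  congr 1
  ext a
  simp [List.mem_ofFn]

open RingTheory.Sequence in
lemma key {A : Type u} [CommRing A] : ∀ (p : ℕ) (x : Fin p → A),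
    IsWeaklyRegular A (List.ofFn x) → ∀ c : Fin p → A, ∑ i, c i * x i = 0 →
      ∀ i, c i ∈ Ideal.span (Set.range x) := by
  intro p
  induction p with
  | zero => intro x _ c _ i; exact i.elim0
  | succ p ih =>
    intro x hreg c hc
    rw [List.ofFn_succ', List.concat_eq_append, isWeaklyRegular_append_iff,
      isWeaklyRegular_singleton_iff, ofList_ofFn] at hreg
    obtain ⟨hreg', hlast⟩ := hreg
    set x' : Fin p → A := fun i => x (Fin.castSucc i) with hx'
    have hJ' : (Ideal.span (Set.range x') • ⊤ : Submodule A A) = Ideal.span (Set.range x') := by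
      rw [smul_eq_mul, Ideal.mul_top]
    have hle : Ideal.span (Set.range x') ≤ Ideal.span (Set.range x) := by
      apply Ideal.span_mono
      rintro _ ⟨i, rfl⟩
      exact ⟨_, rfl⟩
    rw [Fin.sum_univ_castSucc] at hc
    -- `c_last * x_last ∈ J'`
    have h1 : c (Fin.last p) * x (Fin.last p) ∈ Ideal.span (Set.range x') := by
      have : c (Fin.last p) * x (Fin.last p) = -∑ i : Fin p, c (Fin.castSucc i) * x' i := by
        rw [eq_neg_iff_add_eq_zero, add_comm]; exact hc
      rw [this]
      refine Ideal.neg_mem_iff _ |>.mpr (Ideal.sum_mem _ fun i _ => ?_)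
      exact Ideal.mul_mem_left _ _ (Ideal.subset_span ⟨i, rfl⟩)
    have h2 : c (Fin.last p) ∈ Ideal.span (Set.range x') := by
      have h3 : x (Fin.last p) • (Submodule.Quotient.mk (c (Fin.last p)) :
          A ⧸ (Ideal.span (Set.range x') • ⊤ : Submodule A A)) = x (Fin.last p) • 0 := by
        rw [smul_zero, ← Submodule.Quotient.mk_smul, Submodule.Quotient.mk_eq_zero, hJ',
          smul_eq_mul, mul_comm]
        exact h1
      have h4 := hlast h3
      rwa [Submodule.Quotient.mk_eq_zero, hJ'] at h4
    obtain ⟨b, hb⟩ := Ideal.mem_span_range_iff_exists_fun.mp h2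
    have h5 : ∑ i : Fin p, (c (Fin.castSucc i) + b i * x (Fin.last p)) * x' i = 0 := by
      have : ∑ i : Fin p, (c (Fin.castSucc i) + b i * x (Fin.last p)) * x' i =
          ∑ i : Fin p, c (Fin.castSucc i) * x' i + (∑ i : Fin p, b i * x' i) * x (Fin.last p) := by
        rw [Finset.sum_mul, ← Finset.sum_add_distrib]
        refine Finset.sum_congr rfl fun i _ => ?_
        ring
      rw [this, hb]
      exact hc
    have h6 := ih x' hreg' _ h5
    intro i
    refine Fin.lastCases ?_ (fun j => ?_) i
    · exact hle h2
    · have h7 := hle (h6 j)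
      have h8 : b j * x (Fin.last p) ∈ Ideal.span (Set.range x) :=
        Ideal.mul_mem_left _ _ (Ideal.subset_span ⟨_, rfl⟩)
      have := Ideal.sub_mem _ h7 h8
      rwa [add_sub_cancel_right] at this

/-- Let `A` be a commutative ring, `x_1, …, x_p` a sequence of elements of `A` such that each `x_i` is a
non-zero-divisor on `A/(x_1, …, x_{i-1})`, and `J` the ideal generated by the `x_i`. Then `J/J²` is
a free `(A/J)`-module with basis the classes of the `x_i`: there is a basis of `J/J²` over `A/J`,
indexed by `1, …, p`, whose `i`-th vector is the class of `x_i`. (The other assertions of the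
published statement, on the Koszul complex and on Ext and Tor against `A/J`, are stated separately.) -/
theorem result (A : Type u) [CommRing A] (p : ℕ) (x : Fin p → A)
    (hreg : RingTheory.Sequence.IsWeaklyRegular A (List.ofFn x)) :
    ∃ b : Module.Basis (Fin p) (A ⧸ Ideal.span (Set.range x)) (Ideal.span (Set.range x)).Cotangent,
      ∀ i, b i = (Ideal.span (Set.range x)).toCotangent ⟨x i, Ideal.subset_span (Set.mem_range_self i)⟩ := by
  set J := Ideal.span (Set.range x) with hJ
  set v : Fin p → J.Cotangent :=
    fun i => J.toCotangent ⟨x i, Ideal.subset_span (Set.mem_range_self i)⟩ with hv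
  have hsmul : ∀ (c : A) (t : J.Cotangent), (Ideal.Quotient.mk J c) • t = c • t := by
    intro c t
    rw [← Ideal.Quotient.algebraMap_eq, algebraMap_smul]
  have hli : LinearIndependent (A ⧸ J) v := by
    rw [Fintype.linearIndependent_iff]
    intro g hg
    choose c hc using fun i => Ideal.Quotient.mk_surjective (g i)
    have h1 : ∑ i, g i • v i =
        J.toCotangent (∑ i, c i • (⟨x i, Ideal.subset_span (Set.mem_range_self i)⟩ : J)) := by
      rw [map_sum]
      refine Finset.sum_congr rfl fun i _ => ?_
      rw [map_smul, ← hc i, hsmul]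
    rw [h1, Ideal.toCotangent_eq_zero] at hg
    have h2 : ((∑ i, c i • (⟨x i, Ideal.subset_span (Set.mem_range_self i)⟩ : J) : J) : A) =
        ∑ i, c i * x i := by
      rw [Submodule.coe_sum]
      rfl
    have hJ2 : J ^ 2 = J • Submodule.span A (Set.range x) := by
      rw [pow_two, smul_eq_mul]
    rw [h2, hJ2, Submodule.mem_ideal_smul_span_iff_exists_sum] at hg
    obtain ⟨a, ha, hsum⟩ := hg
    rw [Finsupp.sum_fintype _ _ (fun i => by simp)] at hsum
    have h3 : ∑ i, (c i - a i) * x i = 0 := by
      simp only [sub_mul, Finset.sum_sub_distrib]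
      rw [sub_eq_zero, ← hsum]
      rfl
    have h4 := key p x hreg _ h3
    intro i
    rw [← hc i, Ideal.Quotient.eq_zero_iff_mem]
    have := J.add_mem (h4 i) (ha i)
    rwa [sub_add_cancel] at this
  have hsp : ⊤ ≤ Submodule.span (A ⧸ J) (Set.range v) := by
    rintro t -
    obtain ⟨⟨y, hy⟩, rfl⟩ := J.toCotangent_surjective t
    obtain ⟨c, hc⟩ := Ideal.mem_span_range_iff_exists_fun.mp hy
    have h1 : (⟨y, hy⟩ : J) = ∑ i, c i • (⟨x i, Ideal.subset_span (Set.mem_range_self i)⟩ : J) := by
      apply Subtype.ext
      rw [Submodule.coe_sum]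
      exact hc.symm
    rw [h1, map_sum]
    refine Submodule.sum_mem _ fun i _ => ?_
    rw [map_smul, ← hsmul]
    exact Submodule.smul_mem _ _ (Submodule.subset_span ⟨i, rfl⟩)
  exact ⟨Module.Basis.mk hli hsp, fun i => Module.Basis.mk_apply hli hsp i⟩

end Groth.Agent.S12482
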