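import Groth.Statements.S14856
import Mathlib

set_option autoImplicit false
universe u
open CAlg

namespace Groth.Agent.S14856

/-- Let p be a prime and S a commutative ring in which p is a non-zero-divisor. For a p-typical Witt
vector x over S, a natural number m and an integer s ≥ 1, the power p^s divides each of the Witt
components x_0, …, x_m if and only if p^(n+s) divides the n-th ghost component w_n(x) = x_0^(p^n) +
p x_1^(p^(n-1)) + ⋯ + p^n x_n for every n ≤ m. -/
theorem result (p : ℕ) [Fact p.Prime] (S : Type u) [CommRing S]
    (hS : ∀ y : S, (p : S) * y = 0 → y = 0) (x : WittVector p S) (m s : ℕ) (hs : 1 ≤ s) :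
    (∀ i ≤ m, (p : S) ^ s ∣ x.coeff i) ↔
      (∀ n ≤ m, (p : S) ^ (n + s) ∣ WittVector.ghostComponent n x) := by
  have hp2 : 2 ≤ p := (Fact.out : p.Prime).two_le
  have hghost : ∀ n : ℕ, WittVector.ghostComponent n x =
      ∑ i ∈ Finset.range (n + 1), (p : S) ^ i * x.coeff i ^ p ^ (n - i) := by
    intro n
    rw [WittVector.ghostComponent_apply, aeval_wittPolynomial]
  have hineq : ∀ k : ℕ, k + s ≤ s * p ^ k := by
    intro k
    induction k with
    | zero => simp
    | succ k ih =>
      have : s * p ^ (k + 1) = p * (s * p ^ k) := by ring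
      rw [this]
      nlinarith
  have hterm : ∀ (n i : ℕ) (a : S), i ≤ n → (p : S) ^ s ∣ a →
      (p : S) ^ (n + s) ∣ (p : S) ^ i * a ^ p ^ (n - i) := by
    intro n i a hin ⟨y, hy⟩
    rw [hy, mul_pow, ← pow_mul, ← mul_assoc, ← pow_add]
    apply Dvd.dvd.mul_right
    apply pow_dvd_pow
    have := hineq (n - i)
    omega
  have hcancel : ∀ (i : ℕ) (y : S), (p : S) ^ i * y = 0 → y = 0 := by
    intro i
    induction i with
    | zero => intro y hy; simpa using hy
    | succ i ih =>
      intro y hy
      rw [pow_succ, mul_assoc] at hy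
      exact hS y (ih _ hy)
  constructor
  · intro h n hn
    rw [hghost]
    apply Finset.dvd_sum
    intro i hi
    have hin : i ≤ n := by
      have := Finset.mem_range.1 hi; omega
    exact hterm n i _ hin (h i (le_trans hin hn))
  · intro h i
    induction i using Nat.strong_induction_on with
    | _ i ih =>
      intro him
      have hw := h i him
      rw [hghost, Finset.sum_range_succ] at hw
      have hsum : (p : S) ^ (i + s) ∣ ∑ j ∈ Finset.range i, (p : S) ^ j * x.coeff j ^ p ^ (i - j) := by
        apply Finset.dvd_sum
        intro j hj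
        have hji : j < i := Finset.mem_range.1 hj
        exact hterm i j _ hji.le (ih j hji (by omega))
      have hlast : (p : S) ^ (i + s) ∣ (p : S) ^ i * x.coeff i ^ p ^ (i - i) :=
        (dvd_add_right hsum).1 hw
      rw [Nat.sub_self, pow_zero, pow_one] at hlast
      obtain ⟨q, hq⟩ := hlast
      refine ⟨q, ?_⟩
      have : (p : S) ^ i * (x.coeff i - (p : S) ^ s * q) = 0 := by
        rw [mul_sub, hq, pow_add]; ring
      have := hcancel i _ this
      exact sub_eq_zero.1 this

end Groth.Agent.S14856
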