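import Groth.Statements.S10865
import Groth.Agent.H67.DevGen2

set_option autoImplicit false
universe u
open Coherent

namespace Groth.Agent.S10865

open CategoryTheory CategoryTheory.Limits AlgebraicGeometry in
/-- Let X be a nonempty Noetherian scheme and K an isomorphism-closed class of O_X-modules such that (a)
in a short exact sequence of coherent modules, if the middle and right terms lie in K so does the
left one, and if the two outer terms lie in K so does the middle one; (b) if a coherent F has some
d-fold direct sum (d ≥ 1) in K then F lies in K. If for every integral closed subscheme i : Z → X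
there is a coherent O_Z-module with nonzero stalk at the generic point whose direct image under i
lies in K, then every coherent O_X-module lies in K. (For the empty scheme the hypotheses hold for
the empty class, so X is taken nonempty here.) -/
theorem result (X : Scheme.{u}) [IsNoetherian X] [Nonempty X]
    (K : ObjectProperty X.Modules) [K.IsClosedUnderIsomorphisms]
    (ha : ∀ S : ShortComplex X.Modules, S.ShortExact → Coh.IsCoh S.X₁ → Coh.IsCoh S.X₂ → Coh.IsCoh S.X₃ →
      (K S.X₂ → K S.X₃ → K S.X₁) ∧ (K S.X₁ → K S.X₃ → K S.X₂))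
    (hb : ∀ (F : X.Modules) (d : ℕ), 1 ≤ d → Coh.IsCoh F → K (∐ fun _ : Fin d => F) → K F)
    (hgen : ∀ (Z : Scheme.{u}) (i : Z ⟶ X) [IsClosedImmersion i] [IsIntegral Z],
      ∃ H : Z.Modules, Coh.IsCoh H ∧ Nontrivial (H.presheaf.stalk (genericPoint Z)) ∧
        K ((Scheme.Modules.pushforward i).obj H))
    (F : X.Modules) (hF : Coh.IsCoh F) : K F := by
  classical
  have hP : ∀ M N : X.Modules, Nonempty (M ≅ N) → K M → K N :=
    fun M N ⟨e⟩ h => K.prop_of_iso e h
  -- zero modules
  have h0 : ∀ M' : X.Modules, IsZero M' → K M' := by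
    intro M' hM'
    obtain ⟨Z, i, hi, hZ⟩ := Groth.Agent.H67.Dev.exists_integral_closed (Classical.arbitrary X)
    obtain ⟨H, hH, -, hKH⟩ := hgen Z i
    have hc := Groth.Agent.H67.Dev.isCoh_push_closed i hH
    exact (ha _ (Groth.Agent.H67.Dev.shortExact_zero_id
      (G := (Scheme.Modules.pushforward i).obj H) hM')
      (Groth.Agent.H67.Dev.isCoh_of_isZero hM') hc hc).1 hKH hKH
  refine Groth.Agent.H67.Dev.devissage_rel Set.univ isClosed_univ K hP h0
    (fun S hS c1 c2 c3 _ p1 p3 => (ha S hS c1 c2 c3).2 p1 p3) ?_ F hF (Set.subset_univ _)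
  intro Z i _ _ hr hA I ι hι hIq
  haveI := hι
  obtain ⟨H, hH, hnt, hKH⟩ := hgen Z i
  have hG := Groth.Agent.H67.Dev.isCoh_push_closed i hH
  have hGs : CohB1.support ((Scheme.Modules.pushforward i).obj H) ⊆ Set.range i :=
    Groth.Agent.H71.QCoh.support_subset_range_of_iso_pushforward i _ _ (Iso.refl _)
  have hGξ := Groth.Agent.H67.Dev.mem_support_push_of_nontrivial i H (genericPoint Z) hnt
  haveI : Mono ((Scheme.Modules.pushforward i).map ι) := inferInstance
  haveI : I.IsQuasicoherent := hIq
  refine Groth.Agent.H67.Dev.P_sub_of_witness (Set.range i) (i (genericPoint Z)) K hP hA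
    (fun S hS c1 c2 c3 _ p2 p3 => (ha S hS c1 c2 c3).1 p2 p3)
    (fun S hS c1 c2 c3 _ p1 p3 => (ha S hS c1 c2 c3).2 p1 p3) h0 Z i rfl rfl _ hG hGs hGξ
    (Groth.Agent.H67.Dev.hann_push i H) hKH ?_
    ((Scheme.Modules.pushforward i).map ι)
    (Groth.Agent.H8.isQuasicoherent_pushforward_of_isAffineHom i I)
  intro r I' φ hbij hI' hc hP'
  have hr1 : 1 ≤ r := Groth.Agent.H67.Dev.one_le_of_bijective i _ φ hbij hGξ
  refine hb ((Scheme.Modules.pushforward i).obj I') r hr1
    (Groth.Agent.H67.Dev.isCoh_push_closed i hI') ?_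
  exact K.prop_of_iso (PreservesCoproduct.iso (Scheme.Modules.pushforward i)
    (fun _ : Fin r => I')) hP'

end Groth.Agent.S10865
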