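import Groth.Statements.S1379
import Groth.Agent.S1375
import Groth.Agent.S9778

set_option autoImplicit false
universe u
open FlatMor

namespace Groth.Agent.S1379

open AlgebraicGeometry CategoryTheory Limits in
/-- Let S₁ → S be flat, locally of finite presentation and surjective (an fppf cover by one morphism).
Then for every point s of S there are an étale morphism S' → S whose image contains s and a
surjective, finite, flat morphism of finite presentation V → S' such that V → S factors through S₁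
Zariski locally on V. -/
theorem result {S₁ S : Scheme.{u}} (g : S₁ ⟶ S) [Flat g] [LocallyOfFinitePresentation g] [Surjective g] (s : S) :
    ∃ (S' V : Scheme.{u}) (e : S' ⟶ S) (π : V ⟶ S'), Etale e ∧ s ∈ Set.range ⇑e ∧ Surjective π ∧ IsFinite π ∧ Flat π ∧ LocallyOfFinitePresentation π ∧
      ∀ v : ↑V, ∃ (W : V.Opens) (r : ↑W ⟶ S₁), v ∈ W ∧ r ≫ g = W.ι ≫ π ≫ e := by
  classical
  obtain ⟨T, h, hfl, hfp, hqf, hsurj, hloc⟩ := Groth.Agent.S1375.result g
  obtain ⟨t, ht⟩ := hsurj.surj s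
  -- affine open neighbourhood of t
  obtain ⟨T₀, hT₀, htT₀, -⟩ := exists_isAffineOpen_mem_and_subset (X := T) (x := t) (U := ⊤) trivial
  have : IsAffine (T₀ : Scheme.{u}) := hT₀
  let f : (T₀ : Scheme.{u}) ⟶ S := T₀.ι ≫ h
  have hf_fl : Flat f := inferInstance
  have hf_fp : LocallyOfFinitePresentation f := inferInstance
  have hf_qf : LocallyQuasiFinite f := inferInstance
  have hf_sep : IsSeparated f := inferInstance
  let t₀ : (T₀ : Scheme.{u}) := ⟨t, htT₀⟩
  have hft₀ : f t₀ = s := by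
    change h (T₀.ι t₀) = s
    exact ht
  obtain ⟨U, gU, u, hgU, hu, J, hJ, V, v, hclopen, hdisj, hV, hcover⟩ :=
    Groth.Agent.S9778.result f s (ι := Unit) (fun _ => t₀) (fun _ _ _ => rfl) (fun _ => hft₀)
      (fun _ => f.quasiFiniteAt t₀)
  -- a point of the pullback over (t₀, u)
  obtain ⟨w, hw1, hw2⟩ := Scheme.Pullback.exists_preimage_pullback (f := f) (g := gU) t₀ u
    (hft₀.trans hu.symm)
  obtain ⟨j, hwj⟩ := hcover w () hw2 hw1
  let V₀ : (pullback f gU).Opens := V () j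
  let π₀ : (V₀ : Scheme.{u}) ⟶ U := V₀.ι ≫ pullback.snd f gU
  have hπ₀fin : IsFinite π₀ := (hV () j).2.1
  have hπ₀fl : Flat π₀ := inferInstance
  have hπ₀fp : LocallyOfFinitePresentation π₀ := inferInstance
  have hπ₀open : IsOpenMap π₀ := π₀.isOpenMap
  let S' : U.Opens := ⟨Set.range π₀, hπ₀open.isOpen_range⟩
  have hrange : Set.range π₀ ⊆ Set.range S'.ι := by
    intro y hy
    rw [Scheme.Opens.range_ι]
    exact hy
  let π : (V₀ : Scheme.{u}) ⟶ (S' : Scheme.{u}) := IsOpenImmersion.lift S'.ι π₀ hrange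
  have hπ : π ≫ S'.ι = π₀ := IsOpenImmersion.lift_fac _ _ _
  have hsq : IsPullback (𝟙 (V₀ : Scheme.{u})) π π₀ S'.ι := by
    have h1 : IsPullback (𝟙 (V₀ : Scheme.{u})) π π (𝟙 (S' : Scheme.{u})) := IsPullback.of_horiz_isIso ⟨by simp⟩
    have h2 : IsPullback (𝟙 (S' : Scheme.{u})) (𝟙 (S' : Scheme.{u})) S'.ι S'.ι :=
      (IsKernelPair.id_of_mono S'.ι)
    have := h1.paste_vert h2
    simpa [hπ] using this
  refine ⟨S', V₀, S'.ι ≫ gU, π, inferInstance, ?_, ?_, ?_, ?_, ?_, ?_⟩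
  · refine ⟨⟨u, ?_⟩, ?_⟩
    · exact ⟨⟨w, hwj⟩, hw2⟩
    · change gU (S'.ι _) = s
      exact hu
  · constructor
    rintro ⟨y, x, rfl⟩
    refine ⟨x, ?_⟩
    apply S'.ι.injective
    rw [← Scheme.Hom.comp_apply, hπ]
    rfl
  · exact MorphismProperty.of_isPullback (P := @IsFinite) hsq hπ₀fin
  · exact MorphismProperty.of_isPullback (P := @Flat) hsq hπ₀fl
  · exact MorphismProperty.of_isPullback (P := @LocallyOfFinitePresentation) hsq hπ₀fp
  · intro x
    let q : (V₀ : Scheme.{u}) ⟶ T := V₀.ι ≫ pullback.fst f gU ≫ T₀.ι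
    have hq : q ≫ h = π ≫ S'.ι ≫ gU := by
      rw [← Category.assoc π, hπ]
      simp only [q, π₀, f, Category.assoc]
      rw [← pullback.condition]
    obtain ⟨VT, rT, hxVT, hrT⟩ := hloc (q x)
    refine ⟨q ⁻¹ᵁ VT, q.resLE VT (q ⁻¹ᵁ VT) le_rfl ≫ rT, hxVT, ?_⟩
    rw [Category.assoc, hrT, ← Category.assoc, Scheme.Hom.resLE_comp_ι, Category.assoc, hq]

end Groth.Agent.S1379
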