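import Groth.Statements.S1440
import Groth.Agent.H68.CD.Local
-- import your own Groth.Agent.* helpers here

set_option autoImplicit false
universe u
open FlatMor

namespace Groth.Agent.S1440

open AlgebraicGeometry CategoryTheory Limits in
/-- Let f : X → Y be locally of finite presentation with Y quasi-compact and quasi-separated, and assume
f is completely decomposed: every point y of Y is the image of a point x at which the residue field
extension is trivial. Then there are finitely many immersions Z_i → Y of finite presentation,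
jointly surjective, such that each base change X ×_Y Z_i → Z_i admits a section. -/
theorem result {X Y : Scheme.{u}} (f : X ⟶ Y) [LocallyOfFinitePresentation f] [CompactSpace ↑Y] [QuasiSeparatedSpace ↑Y]
    (hcd : ∀ y : Y, ∃ x : X, f x = y ∧ Function.Bijective (f.residueFieldMap x)) :
    ∃ (n : ℕ) (Z : Fin n → Scheme.{u}) (z : ∀ i, Z i ⟶ Y), (∀ y : Y, ∃ i, y ∈ Set.range ⇑(z i)) ∧
      ∀ i, IsImmersion (z i) ∧ LocallyOfFinitePresentation (z i) ∧ QuasiCompact (z i) ∧ QuasiSeparated (z i) ∧
        ∃ s : Z i ⟶ pullback f (z i), s ≫ pullback.snd f (z i) = 𝟙 (Z i) := by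
  classical
  -- local data at each point
  have hloc : ∀ y : Y, ∃ (Z : Scheme.{u}) (z : Z ⟶ Y) (t : Z ⟶ X) (S : Set Y), t ≫ f = z ∧
      IsImmersion z ∧ LocallyOfFinitePresentation z ∧ QuasiCompact z ∧ QuasiSeparated z ∧ y ∈ S ∧
      S ⊆ Set.range ⇑z ∧ @IsOpen Y (constructibleTopology Y) S := by
    intro y
    obtain ⟨x, rfl, hb⟩ := hcd y
    exact Groth.Agent.H68.CD.exists_local f x hb
  choose Z z t S htz himm hlfp hqc hqs hyS hSz hSo using hloc
  -- compactness in the constructible topology
  have hcomp : @CompactSpace Y (constructibleTopology Y) := by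
    have h := compactSpace_withConstructibleTopology (X := Y)
    exact @Function.Surjective.compactSpace _ _ _ (constructibleTopology Y) _
      (WithTopology.continuous_ofTopology _) h (WithTopology.ofTopology_surjective _)
  obtain ⟨F, hF⟩ := @IsCompact.elim_finite_subcover Y (constructibleTopology Y) Set.univ Y
    (@isCompact_univ Y (constructibleTopology Y) hcomp) S hSo
    (fun y _ => Set.mem_iUnion.mpr ⟨y, hyS y⟩)
  let e := F.equivFin
  refine ⟨F.card, fun i => Z (e.symm i).1, fun i => z (e.symm i).1, ?_, fun i => ?_⟩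
  · intro y
    obtain ⟨y', hy'⟩ := Set.mem_iUnion.mp (hF (Set.mem_univ y))
    obtain ⟨hy'F, hy'S⟩ := Set.mem_iUnion.mp hy'
    refine ⟨e ⟨y', hy'F⟩, ?_⟩
    beta_reduce
    rw [Equiv.symm_apply_apply]
    exact hSz y' hy'S
  · refine ⟨himm _, hlfp _, hqc _, hqs _, ?_⟩
    refine ⟨pullback.lift (t _) (𝟙 _) ?_, pullback.lift_snd _ _ _⟩
    rw [htz, Category.id_comp]

end Groth.Agent.S1440
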