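import Groth.Statements.S4815
import Groth.Agent.H24.DescFP6
import Groth.Agent.H24.LimitImm
import Groth.Agent.H24.LimitLocusSmooth
import Groth.Agent.H24.LimitTop

set_option autoImplicit false
universe u
open CategoryTheory AlgebraicGeometry
open Lim8

namespace Groth.Agent.S4815

/-- Let S = lim S_i be a cofiltered limit of schemes with affine transition maps and S_{i₀} a
quasi-compact quasi-separated stage. Then every subscheme of finite presentation of S, that is every
immersion ι : Z ⟶ S which is locally of finite presentation and quasi-compact, is the base change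
along S ⟶ S_j of an immersion of finite presentation Z_j ⟶ S_j, for some index j over i₀ (the base
change is expressed by a pullback square). -/
theorem result {I : Type u} [SmallCategory I] [IsCofiltered I]
    (D : I ⥤ Scheme.{u}) (c : Limits.Cone D) (hc : Limits.IsLimit c)
    [∀ (i j : I) (f : i ⟶ j), IsAffineHom (D.map f)] (i₀ : I)
    [CompactSpace (D.obj i₀)] [QuasiSeparatedSpace (D.obj i₀)]
    {Z : Scheme.{u}} (ι : Z ⟶ c.pt) [IsImmersion ι] [LocallyOfFinitePresentation ι] [QuasiCompact ι] :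
    ∃ (j : I) (_ : j ⟶ i₀) (Zj : Scheme.{u}) (ιj : Zj ⟶ D.obj j) (q : Z ⟶ Zj),
      IsImmersion ιj ∧ LocallyOfFinitePresentation ιj ∧ QuasiCompact ιj ∧ IsPullback q ι ιj (c.π.app j) := by
  have haff : ∀ {i j : I} (f : i ⟶ j), IsAffineHom (D.map f) := fun f => inferInstance
  have h1 : ∀ j : Over i₀, CompactSpace ((Over.forget i₀ ⋙ D).obj j) := H24.compactSpace_over D i₀
  have h2 : ∀ j : Over i₀, QuasiSeparatedSpace ((Over.forget i₀ ⋙ D).obj j) :=
    H24.quasiSeparatedSpace_over D i₀
  have h3 : ∀ {j k : Over i₀} (f : j ⟶ k), IsAffineHom ((Over.forget i₀ ⋙ D).map f) :=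
    H24.isAffineHom_over D i₀
  obtain ⟨j, Zj, ιj, q, h4, h5, h6, h7⟩ := H24.exists_descAt (Over.forget i₀ ⋙ D)
    (c.whisker (Over.forget i₀)) (H24.isLimitOverCone D c hc i₀) ι
  change Zj ⟶ D.obj j.left at ιj
  change IsPullback q ι ιj (c.π.app j.left) at h7
  have h8 : CompactSpace (D.obj j.left) := h1 j
  have h9 : QuasiSeparatedSpace (D.obj j.left) := h2 j
  have hY : IsPullback (c.π.app j.left) (𝟙 c.pt) (𝟙 (D.obj j.left)) (c.π.app j.left) :=
    @IsPullback.of_vert_isIso _ _ _ _ _ _ _ _ _ _ (IsIso.id _) (IsIso.id _) ⟨by simp⟩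
  have h4' : @LocallyOfFinitePresentation Zj (D.obj j.left) ιj := h4
  have hlft : LocallyOfFiniteType ιj := inferInstance
  obtain ⟨ψ, hψ⟩ := H24.exists_isImmersion_stageMap D c j.left ιj (𝟙 _) hc ι (𝟙 c.pt)
    (c.π.app j.left) q hY h7
  rw [H24.prop_stageMap_id_iff_fst D j.left ιj @IsImmersion ψ] at hψ
  have h10 := H24.compactSpace_rbObj D ψ ιj
  have h11 : QuasiSeparatedSpace (D.obj ψ.left) :=
    h2 (Over.mk (ψ.hom ≫ j.hom))
  exact ⟨ψ.left, ψ.hom ≫ j.hom, _, Limits.pullback.fst (D.map ψ.hom) ιj, H24.rbLift D c ψ ιj h7, hψ,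
    MorphismProperty.pullback_fst (P := @LocallyOfFinitePresentation) _ _ h4', inferInstance,
    H24.isPullback_rbLift ψ h7⟩

end Groth.Agent.S4815
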