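import Groth.Statements.S14671
import Groth.Agent.H68.FlatOrbit

set_option autoImplicit false
universe u
open scoped TensorProduct
open SymTen

namespace Groth.Agent.S14671

open Groth.Agent.H68.FV Groth.Agent.H68.LC

/-- Let R be a commutative ring, M a flat R-module and n ≥ 0. Then the module of symmetric tensors of
degree n — the R-submodule of the n-fold tensor power of M over R consisting of the tensors fixed by
every permutation of the factors — is a flat R-module. (The published corollary also asserts that
forming symmetric tensors of a flat module commutes with every base change; only the flatness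
assertion is stated here.) -/
theorem result (R : Type u) [CommRing R] (M : Type u) [AddCommGroup M] [Module R M]
    [Module.Flat R M] (n : ℕ) :
    Module.Flat R ↥(⨅ σ : Equiv.Perm (Fin n),
      LinearMap.eqLocus (PiTensorProduct.reindex R (fun _ : Fin n => M) σ).toLinearMap LinearMap.id) := by
  classical
  refine Module.Flat.of_forall_isTrivialRelation ?_
  intro l₀ f x hfx
  have hxsym : ∀ (i : Fin l₀) (σ : Equiv.Perm (Fin n)),
      PiTensorProduct.reindex R (fun _ : Fin n => M) σ (x i).1 = (x i).1 := by
    intro i σ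
    have h := (x i).2
    rw [Submodule.mem_iInf] at h
    exact h σ
  let z : (Fin l₀ → R) ⊗[R] (⨂[R] _ : Fin n, M) :=
    ∑ i, (Pi.single i (1 : R) : Fin l₀ → R) ⊗ₜ[R] (x i).1
  have hsym : ∀ σ : Equiv.Perm (Fin n),
      (PiTensorProduct.reindex R (fun _ : Fin n => M) σ).toLinearMap.lTensor (Fin l₀ → R) z = z := by
    intro σ
    simp only [z, map_sum, LinearMap.lTensor_tmul, LinearEquiv.coe_coe, hxsym]
  let φ : (Fin l₀ → R) →ₗ[R] R := ∑ i, f i • (LinearMap.proj i : (Fin l₀ → R) →ₗ[R] R)
  have hφapp : ∀ q : Fin l₀ → R, φ q = ∑ i, f i * q i := by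
    intro q
    simp [φ, LinearMap.sum_apply]
  have hφ : φ.rTensor (⨂[R] _ : Fin n, M) z = 0 := by
    simp only [z, map_sum, LinearMap.rTensor_tmul]
    have h1 : ∀ i : Fin l₀, φ (Pi.single i (1 : R)) = f i := by
      intro i
      rw [hφapp]
      simp [Pi.single_apply]
    have h2 : ∑ i, f i • (x i).1 = 0 := by
      have := congrArg Subtype.val hfx
      simpa using this
    calc ∑ i, φ (Pi.single i (1 : R)) ⊗ₜ[R] (x i).1
        = ∑ i, (1 : R) ⊗ₜ[R] (f i • (x i).1) := by
          refine Finset.sum_congr rfl fun i _ => ?_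
          rw [h1, TensorProduct.tmul_smul, TensorProduct.smul_tmul', smul_eq_mul, mul_one]
      _ = (1 : R) ⊗ₜ[R] ∑ i, f i • (x i).1 := (TensorProduct.tmul_sum _ _ _).symm
      _ = 0 := by rw [h2, TensorProduct.tmul_zero]
  obtain ⟨l, y, W, hW, hWφ, hz⟩ := exists_sym_rep φ n z hsym hφ
  -- the components of `z`
  have hxi : ∀ i : Fin l₀, (x i).1 =
      ∑ c', W c' i • PiTensorProduct.tprod R (fun j => y (c' j)) := by
    intro i
    have h := congrArg ((TensorProduct.lid R (⨂[R] _ : Fin n, M)).toLinearMap ∘ₗ
      (LinearMap.proj i : (Fin l₀ → R) →ₗ[R] R).rTensor (⨂[R] _ : Fin n, M)) hz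
    simp only [z, map_sum, LinearMap.comp_apply, LinearMap.rTensor_tmul, LinearEquiv.coe_coe,
      TensorProduct.lid_tmul, LinearMap.proj_apply, Pi.single_apply, ite_smul, one_smul,
      zero_smul, Finset.sum_ite_eq, Finset.mem_univ, if_true] at h
    exact h
  -- the coefficients only depend on the multi-index
  obtain ⟨Wbar, hbar⟩ := exists_bar W hW
  -- the orbit sums
  let K := Finset.univ.image (fun c : Fin n → Fin l => kk c)
  have hmem : ∀ κ : Fin l →₀ ℕ, orbitSum (R := R) (n := n) y κ ∈
      (⨅ σ : Equiv.Perm (Fin n), LinearMap.eqLocus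
        (PiTensorProduct.reindex R (fun _ : Fin n => M) σ).toLinearMap LinearMap.id) := by
    intro κ
    rw [Submodule.mem_iInf]
    intro σ
    exact reindex_orbitSum y κ σ
  let e := Fintype.equivFin K
  refine ⟨Fintype.card K, fun i j => Wbar (e.symm j).1 i,
    fun j => ⟨orbitSum (R := R) (n := n) y (e.symm j).1, hmem _⟩, ?_, ?_⟩
  · intro i
    refine Subtype.ext ?_
    rw [Submodule.coe_sum]
    simp only [Submodule.coe_smul]
    rw [hxi i, sum_eq_sum_orbitSum y (fun c' => W c' i) (fun κ => Wbar κ i)
      (fun c => by rw [hbar c])]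
    rw [← Finset.sum_coe_sort K (fun κ => Wbar κ i • orbitSum (R := R) (n := n) y κ)]
    exact (e.symm.sum_comp (fun κ : K => Wbar κ.1 i • orbitSum (R := R) (n := n) y κ.1)).symm
  · intro j
    obtain ⟨c, -, hc⟩ := Finset.mem_image.mp (e.symm j).2
    have := hWφ c
    rw [hφapp] at this
    show ∑ i, f i * Wbar (e.symm j).1 i = 0
    rw [← hc, hbar c]
    exact this

end Groth.Agent.S14671
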