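import Groth.Statements.S13699
import Groth.Agent.H68.PolLawBase
import Mathlib

set_option autoImplicit false
universe u
open scoped TensorProduct
open ZeroCyc

namespace Groth.Agent.S13699

open Polynomial LaurentPolynomial Groth.Agent.H68 Groth.Agent.H68.PL

section Aux

variable {A : Type u} [CommRing A] {B : Type u} [CommRing B] [Algebra A B]

/-- `X` is a non-zero-divisor modulo the kernel of the base change to `A[X]`. -/
lemma mem_kerBC_of_X_mul_mem (F : B →ₚₗ[A] A) (c : A[X] ⊗[A] B)
    (hc : ((X : A[X]) ⊗ₜ[A] (1 : B)) * c ∈ PolLaw.kerBC F A[X]) : c ∈ PolLaw.kerBC F A[X] := by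
  rw [mem_kerBC_iff] at hc ⊢
  intro R _ _ φ x w
  -- the three algebra maps
  let φ₁ : A[X] →ₐ[A] R[X] := Polynomial.aeval (X : R[X])
  let ε : R[X] →ₐ[A] R := (Polynomial.aeval (φ X)).restrictScalars A
  let ι : R[X] →ₐ[A] R[T;T⁻¹] := (Polynomial.toLaurentAlg (R := R)).restrictScalars A
  let Cₐ : R →ₐ[A] R[X] := IsScalarTower.toAlgHom A R R[X]
  have hεφ : ε.comp φ₁ = φ := by
    apply Polynomial.algHom_ext
    simp [ε, φ₁]
  have hεC : ε.comp Cₐ = AlgHom.id A R := by
    ext r
    simp [ε, Cₐ]
  -- lift everything to `R[X]`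
  let x₁ := Algebra.TensorProduct.map Cₐ (AlgHom.id A B) x
  let w₁ := Algebra.TensorProduct.map Cₐ (AlgHom.id A B) w
  let c₁ := Algebra.TensorProduct.map φ₁ (AlgHom.id A B) c
  have hx : Algebra.TensorProduct.map ε (AlgHom.id A B) x₁ = x := by
    simp only [x₁]
    rw [PL.map_map, hεC]
    simp
  have hw : Algebra.TensorProduct.map ε (AlgHom.id A B) w₁ = w := by
    simp only [w₁]
    rw [PL.map_map, hεC]
    simp
  have hcc : Algebra.TensorProduct.map ε (AlgHom.id A B) c₁ =
      Algebra.TensorProduct.map φ (AlgHom.id A B) c := by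
    simp only [c₁]
    rw [PL.map_map, hεφ]
  -- the identity over `R[X]`
  have key : F.toFun' R[X] (x₁ + w₁ * c₁) = F.toFun' R[X] x₁ := by
    have hinj : Function.Injective (Algebra.TensorProduct.map ι (AlgHom.id A A)) := by
      have h1 : Function.Injective (ι.toLinearMap.rTensor A) :=
        Module.Flat.rTensor_preserves_injective_linearMap _
          (Polynomial.toLaurent_injective (R := R))
      intro a b hab
      apply h1
      rw [rTensor_eq_map, rTensor_eq_map]
      exact hab
    apply hinj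
    rw [compat, compat, map_add, map_mul]
    have h2 : Algebra.TensorProduct.map ι (AlgHom.id A B) c₁ =
        ((T (-1) : R[T;T⁻¹]) ⊗ₜ[A] (1 : B)) *
          Algebra.TensorProduct.map (ι.comp φ₁) (AlgHom.id A B) (((X : A[X]) ⊗ₜ[A] (1 : B)) * c) := by
      rw [map_mul, Algebra.TensorProduct.map_tmul, ← mul_assoc, Algebra.TensorProduct.tmul_mul_tmul]
      simp only [c₁]
      rw [PL.map_map]
      have h3 : (ι.comp φ₁) X = (T 1 : R[T;T⁻¹]) := by
        show ι (Polynomial.aeval (X : R[X]) (X : A[X])) = _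
        rw [Polynomial.aeval_X]
        exact Polynomial.toLaurent_X
      have : (T (-1) : R[T;T⁻¹]) * (ι.comp φ₁) X = 1 := by
        rw [h3, ← T_add]
        exact T_zero
      rw [this, AlgHom.id_apply, mul_one, show ((1 : R[T;T⁻¹]) ⊗ₜ[A] (1 : B)) = 1 from rfl, one_mul]
    rw [h2, ← mul_assoc]
    exact hc R[T;T⁻¹] (ι.comp φ₁) _ _
  -- specialise
  have := congrArg (Algebra.TensorProduct.map ε (AlgHom.id A A)) key
  rw [compat, compat, map_add, map_mul, hx, hw, hcc] at this
  exact this

/-- The comparison map `B[X] → A[X] ⊗ B`. -/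
noncomputable def e : B[X] →+* A[X] ⊗[A] B :=
  Polynomial.eval₂RingHom
    (Algebra.TensorProduct.includeRight : B →ₐ[A] A[X] ⊗[A] B).toRingHom ((X : A[X]) ⊗ₜ[A] (1 : B))

lemma e_surjective : Function.Surjective (e (A := A) (B := B)) := by
  intro c
  induction c using TensorProduct.induction_on with
  | zero => exact ⟨0, map_zero _⟩
  | tmul a b =>
    refine ⟨a.map (algebraMap A B) * Polynomial.C b, ?_⟩
    rw [map_mul]
    have h1 : e (A := A) (B := B) (Polynomial.C b) = 1 ⊗ₜ b := by
      simp [e]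
    have h2 : e (A := A) (B := B) (a.map (algebraMap A B)) = a ⊗ₜ 1 := by
      simp only [e, Polynomial.coe_eval₂RingHom, Polynomial.eval₂_map]
      have h3 : ((Algebra.TensorProduct.includeRight : B →ₐ[A] A[X] ⊗[A] B).toRingHom).comp
          (algebraMap A B) =
          ((Algebra.TensorProduct.includeLeft : A[X] →ₐ[A] A[X] ⊗[A] B).toRingHom).comp
            (Polynomial.C) := by
        ext r
        simp only [RingHom.comp_apply, AlgHom.toRingHom_eq_coe, RingHom.coe_coe,
          Algebra.TensorProduct.includeRight_apply, Algebra.TensorProduct.includeLeft_apply]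
        rw [Polynomial.C_eq_algebraMap, Algebra.algebraMap_eq_smul_one, Algebra.algebraMap_eq_smul_one,
          TensorProduct.tmul_smul, TensorProduct.smul_tmul']
      rw [h3]
      have h4 : ((X : A[X]) ⊗ₜ[A] (1 : B)) =
          (Algebra.TensorProduct.includeLeft : A[X] →ₐ[A] A[X] ⊗[A] B).toRingHom X := rfl
      rw [h4, ← Polynomial.hom_eval₂, Polynomial.eval₂_C_X]
      rfl
    rw [h1, h2, Algebra.TensorProduct.tmul_mul_tmul, mul_one, one_mul]
  | add a b ha hb =>
    obtain ⟨p, hp⟩ := ha
    obtain ⟨q, hq⟩ := hb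
    exact ⟨p + q, by rw [map_add, hp, hq]⟩

/-- The constant coefficient of an element of the kernel over `A[X]` is in the kernel. -/
lemma coeff_zero_mem_ker (F : B →ₚₗ[A] A) (p : B[X]) (hp : e p ∈ PolLaw.kerBC F A[X]) :
    p.coeff 0 ∈ PolLaw.ker F := by
  rw [mem_kerBC_iff] at hp
  intro S _ _ x w
  have h := hp S (Polynomial.aeval (0 : S)) x w
  have h1 : Algebra.TensorProduct.map (Polynomial.aeval (0 : S)) (AlgHom.id A B) (e p) =
      1 ⊗ₜ[A] p.coeff 0 := by
    have := Polynomial.hom_eval₂ p
      (Algebra.TensorProduct.includeRight : B →ₐ[A] A[X] ⊗[A] B).toRingHom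
      (Algebra.TensorProduct.map (Polynomial.aeval (0 : S)) (AlgHom.id A B)).toRingHom
      ((X : A[X]) ⊗ₜ[A] (1 : B))
    simp only [e, Polynomial.coe_eval₂RingHom]
    erw [this]
    have h2 : (Algebra.TensorProduct.map (Polynomial.aeval (0 : S)) (AlgHom.id A B)).toRingHom
        ((X : A[X]) ⊗ₜ[A] (1 : B)) = 0 := by
      simp
    rw [h2, Polynomial.eval₂_at_zero]
    simp
  rw [h1] at h
  exact h

lemma e_mem_map_of_mem_kerBC (F : B →ₚₗ[A] A) :
    ∀ (n : ℕ) (p : B[X]), p.natDegree ≤ n → e p ∈ PolLaw.kerBC F A[X] →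
      e p ∈ (PolLaw.ker F).map (Algebra.TensorProduct.includeRight : B →ₐ[A] A[X] ⊗[A] B) := by
  intro n
  induction n with
  | zero =>
    intro p hdeg hp
    have h0 := coeff_zero_mem_ker F p hp
    rw [Polynomial.eq_C_of_natDegree_le_zero hdeg]
    have : e (A := A) (B := B) (Polynomial.C (p.coeff 0)) =
        (Algebra.TensorProduct.includeRight : B →ₐ[A] A[X] ⊗[A] B) (p.coeff 0) := by
      simp [e]
    rw [this]
    exact Ideal.mem_map_of_mem _ h0
  | succ n ih =>
    intro p hdeg hp
    have h0 := coeff_zero_mem_ker F p hp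
    have hC : e (A := A) (B := B) (Polynomial.C (p.coeff 0)) ∈
        (PolLaw.ker F).map (Algebra.TensorProduct.includeRight : B →ₐ[A] A[X] ⊗[A] B) := by
      have : e (A := A) (B := B) (Polynomial.C (p.coeff 0)) =
          (Algebra.TensorProduct.includeRight : B →ₐ[A] A[X] ⊗[A] B) (p.coeff 0) := by
        simp [e]
      rw [this]
      exact Ideal.mem_map_of_mem _ h0
    have hdecomp : e (A := A) (B := B) p =
        ((X : A[X]) ⊗ₜ[A] (1 : B)) * e p.divX + e (Polynomial.C (p.coeff 0)) := by
      conv_lhs => rw [← Polynomial.divX_mul_X_add p]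
      rw [map_add, map_mul, mul_comm]
      congr 2
      simp [e]
    have hq : ((X : A[X]) ⊗ₜ[A] (1 : B)) * e p.divX ∈ PolLaw.kerBC F A[X] := by
      have h1 : ((X : A[X]) ⊗ₜ[A] (1 : B)) * e p.divX =
          e p - e (Polynomial.C (p.coeff 0)) := by
        rw [hdecomp]; ring
      rw [h1]
      exact Ideal.sub_mem _ hp (map_ker_le_kerBC F A[X] hC)
    have hq' := mem_kerBC_of_X_mul_mem F _ hq
    have hdq : p.divX.natDegree ≤ n := by
      rw [Polynomial.natDegree_divX_eq_natDegree_tsub_one]
      omega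
    rw [hdecomp]
    exact Ideal.add_mem _ (Ideal.mul_mem_left _ _ (ih _ hdq hq')) hC

end Aux

/-- Let F : B → A be a multiplicative polynomial law homogeneous of degree d over the commutative ring
A. Then the kernel of the base change of F to the polynomial ring A[X] is the ideal of A[X] ⊗_A B
generated by the kernel of F. -/
theorem result {A : Type u} [CommRing A] {B : Type u} [CommRing B] [Algebra A B]
    {d : ℕ} (F : PolLaw.MulLaw A B A d) :
    (PolLaw.ker F.law).map (Algebra.TensorProduct.includeRight : B →ₐ[A] Polynomial A ⊗[A] B) =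
      PolLaw.kerBC F.law (Polynomial A) := by
  apply le_antisymm (map_ker_le_kerBC F.law _)
  intro c hc
  obtain ⟨p, rfl⟩ := e_surjective c
  exact e_mem_map_of_mem_kerBC F.law p.natDegree p le_rfl hc

end Groth.Agent.S13699
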