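import Groth.Statements.S13717
import Groth.Agent.H68.LawGammaGen

set_option autoImplicit false
universe u
open scoped TensorProduct
open ZeroCyc

namespace Groth.Agent.S13717

open Groth.Agent.H68 Groth.Agent.H68.LC Groth.Agent.H68.CR

/-- Let π : B → B' be a surjective map of commutative A-algebras and let (C, γ) and (C', γ') be the
degree-d divided power algebras Γ^d_A(B) and Γ^d_A(B') with their universal multiplicative laws
homogeneous of degree d. If φ : C → C' is the A-algebra map with φ ∘ γ = γ' ∘ π, then φ is
surjective; geometrically, for a closed subscheme X of an affine Y over an affine S, Γ^d(X/S) →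
Γ^d(Y/S) is a closed immersion. (The published statement is for Y affine over an algebraic space S;
this row is the case of an affine base.) -/
theorem result {A : Type u} [CommRing A] {B : Type u} [CommRing B] [Algebra A B]
    {B' : Type u} [CommRing B'] [Algebra A B'] {C : Type u} [CommRing C] [Algebra A C] {C' : Type u} [CommRing C'] [Algebra A C']
    {d : ℕ} (γ : PolLaw.MulLaw A B C d) (hγ : PolLaw.IsGammaD γ) (γ' : PolLaw.MulLaw A B' C' d) (hγ' : PolLaw.IsGammaD γ')
    (π : B →ₐ[A] B') (hπ : Function.Surjective π) (φ : C →ₐ[A] C')
    (hφ : PolLaw.postcomp φ.toLinearMap γ.law = (γ'.precomp π).law) :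
    Function.Surjective φ := by
  have htop : φ.range = ⊤ := by
    apply subalgebra_eq_top γ' hγ'
    intro I e' E k
    -- lift the family
    let e : I → B := fun i => Function.surjInv hπ (e' i)
    have he : ∀ i, π (e i) = e' i := fun i => Function.surjInv_eq hπ (e' i)
    -- coefficients of `γ' ∘ π`
    have h1 : coeffE (γ'.precomp π).law e E k = coeffE γ'.law e' E k := by
      rw [coeffE, coeffE]
      congr 2
      show γ'.law.toFun' _ (π.toLinearMap.lTensor _ (genE e E)) = γ'.law.toFun' _ (genE e' E)
      congr 1
      rw [genE, genE, map_sum]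
      refine Finset.sum_congr rfl fun i _ => ?_
      rw [LinearMap.lTensor_tmul, AlgHom.toLinearMap_apply, he]
    have h2 : coeffE (γ'.precomp π).law e E k = φ (coeffE γ.law e E k) := by
      rw [← hφ]
      exact coeffE_postcomp γ.law _ φ.toLinearMap (fun S _ _ z => rfl) e E k
    rw [← h1, h2]
    exact ⟨_, rfl⟩
  intro c
  have : c ∈ φ.range := by rw [htop]; exact Algebra.mem_top
  exact this

end Groth.Agent.S13717
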