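import Groth.Statements.S13398
import Groth.Agent.H68.RydhLaw2
-- import your own Groth.Agent.* helpers here

set_option autoImplicit false
universe u
open scoped TensorProduct
open ZeroCyc

namespace Groth.Agent.S13398

/-- Let A be a commutative ring, B an A-algebra, d ≥ 0, and let (C, γ) be the degree-d divided power
algebra Γ^d_A(B) with its universal multiplicative law γ : B → C of degree d (every multiplicative
law of degree d out of B factors uniquely through γ). Let φ : Γ^d_A(B) → TS^d_A(B) be the canonical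
homomorphism to the symmetric tensors, taken here as data characterised by: after any base change S,
φ ∘ γ sends Σ_j s_j ⊗ b_j to Σ_{c : [d] → [n]} (∏_i s_{c(i)}) ⊗ (b_{c(1)} ⊗ ⋯ ⊗ b_{c(d)}), i.e. φ
corresponds to the law x ↦ x ⊗ ⋯ ⊗ x. Then x^{d!} = 0 for every x in the kernel of φ, and y^{d!}
lies in the image of φ for every symmetric tensor y ∈ TS^d_A(B). -/
theorem result {A B C : Type u} [CommRing A] [CommRing B] [Algebra A B] [CommRing C] [Algebra A C] (d : ℕ)
    (γ : PolLaw.MulLaw A B C d) (hγ : PolLaw.IsGammaD γ) (φ : C →ₐ[A] SymTen.TS A B d)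
    (hφ : ∀ (S : Type u) [CommSemiring S] [Algebra A S] (n : ℕ) (s : Fin n → S) (b : Fin n → B),
      ((SymTen.TS A B d).val.comp φ).toLinearMap.lTensor S (γ.law.toFun' S (∑ j, s j ⊗ₜ[A] b j)) =
        ∑ c : Fin d → Fin n, (∏ i, s (c i)) ⊗ₜ[A] PiTensorProduct.tprod A (fun i => b (c i))) :
    (∀ x : C, φ x = 0 → x ^ d.factorial = 0) ∧
      (∀ y : SymTen.TS A B d, y ^ d.factorial ∈ φ.range) := by
  have h1 := Groth.Agent.H68.RL.postcomp_FTS γ φ hφ
  have h2 := Groth.Agent.H68.RL.precomp_FTS γ φ hφ hγ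
  have hpos : 0 < d.factorial := Nat.factorial_pos d
  constructor
  · intro x hx
    -- `x ^ d! = F (φ x) = F 0 = 0`
    have e1 : (PolLaw.MulLaw.precomp (Groth.Agent.H68.RL.FTS γ) φ).law.toFun' A ((1 : A) ⊗ₜ[A] x) =
        ((1 : A) ⊗ₜ[A] x) ^ d.factorial := by
      rw [h2]
      rfl
    have e2 : (PolLaw.MulLaw.precomp (Groth.Agent.H68.RL.FTS γ) φ).law.toFun' A ((1 : A) ⊗ₜ[A] x) =
        (Groth.Agent.H68.RL.FTS γ).law.toFun' A ((1 : A) ⊗ₜ[A] φ x) := by
      show (Groth.Agent.H68.RL.FTS γ).law.toFun' A (φ.toLinearMap.lTensor A ((1 : A) ⊗ₜ[A] x)) = _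
      rw [LinearMap.lTensor_tmul, AlgHom.toLinearMap_apply]
    have e3 : (Groth.Agent.H68.RL.FTS γ).law.toFun' A ((1 : A) ⊗ₜ[A] (0 : SymTen.TS A B d)) = 0 := by
      have := (Groth.Agent.H68.RL.FTS γ).homog A (0 : A) (0 : A ⊗[A] SymTen.TS A B d)
      rw [smul_zero, zero_pow hpos.ne', zero_smul] at this
      rw [TensorProduct.tmul_zero]
      exact this
    rw [e2, hx, e3, Algebra.TensorProduct.tmul_pow, one_pow] at e1
    have := congrArg (TensorProduct.lid A C) e1
    rw [map_zero, TensorProduct.lid_tmul, one_smul] at this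
    exact this.symm
  · intro y
    have e1 : (PolLaw.MulLaw.postcomp φ (Groth.Agent.H68.RL.FTS γ)).law.toFun' A ((1 : A) ⊗ₜ[A] y) =
        ((1 : A) ⊗ₜ[A] y) ^ d.factorial := by
      rw [h1]
      rfl
    have e2 : (PolLaw.MulLaw.postcomp φ (Groth.Agent.H68.RL.FTS γ)).law.toFun' A ((1 : A) ⊗ₜ[A] y) =
        φ.toLinearMap.lTensor A ((Groth.Agent.H68.RL.FTS γ).law.toFun' A ((1 : A) ⊗ₜ[A] y)) := rfl
    rw [e2, Algebra.TensorProduct.tmul_pow, one_pow] at e1
    have := congrArg (TensorProduct.lid A (SymTen.TS A B d)) e1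
    rw [Groth.Agent.H68.LC.lid_lTensor, TensorProduct.lid_tmul, one_smul] at this
    exact ⟨_, this⟩

end Groth.Agent.S13398
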