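import Groth.Statements.S13872
import Groth.Agent.H68.LawPolar

set_option autoImplicit false
universe u
open scoped TensorProduct
open ZeroCyc

namespace Groth.Agent.S13872

open Groth.Agent.H68 Groth.Agent.H68.LC Groth.Agent.H68.CR

lemma exists_fin_sum' {A : Type u} [CommRing A] {B : Type u} [CommRing B] [Algebra A B]
    {S : Type u} [CommSemiring S] [Algebra A S] (x : S ⊗[A] B) :
    ∃ (n : ℕ) (s : Fin n → S) (b : Fin n → B), x = ∑ j, s j ⊗ₜ[A] b j := by
  obtain ⟨J, _, s, b, rfl⟩ := exists_fintype_sum (A := A) x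
  let e := Fintype.equivFin J
  refine ⟨Fintype.card J, s ∘ e.symm, b ∘ e.symm, ?_⟩
  rw [← Equiv.sum_comp e.symm]
  rfl

section

variable {A B C : Type u} [CommRing A] [CommRing B] [Algebra A B] [CommRing C] [Algebra A C]
  {d : ℕ} (γ : PolLaw.MulLaw A B C d)

/-- The linear map `T^d B → Γ^d B` given by polarisation. -/
noncomputable def psi : TP A B d →ₗ[A] C := PiTensorProduct.lift (polML γ)

lemma psi_tprod (m : Fin d → B) : psi γ (PiTensorProduct.tprod A m) = pol γ m := by
  rw [psi, PiTensorProduct.lift.tprod]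
  rfl

/-- Polarising the tensor power law gives `d!` times the law. -/
theorem psi_GT (S : Type u) [CommSemiring S] [Algebra A S] (z : S ⊗[A] B) :
    (psi γ).lTensor S ((GT A B d).law.toFun' S z) = d.factorial • γ.law.toFun' S z := by
  classical
  obtain ⟨n, s, b, rfl⟩ := exists_fin_sum' (A := A) z
  rw [GT_toFun'_sum', Fintype.piFinset_univ, toFun'_sum, map_sum, Finsupp.sum, Finset.smul_sum]
  simp only [LinearMap.lTensor_tmul, psi_tprod]
  -- group the tuples by their type
  let G : (Fin n →₀ ℕ) → S ⊗[A] C := fun k =>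
    (k.prod fun i a => s i ^ a) ⊗ₜ[A] (d.factorial • coeffE γ.law b Finset.univ k)
  have hL : ∑ c : Fin d → Fin n, (∏ j, s (c j)) ⊗ₜ[A] pol γ (fun j => b (c j)) =
      ∑ k ∈ Finset.univ.image (fun c : Fin d → Fin n => kk c), G k := by
    rw [← Finset.sum_fiberwise_of_maps_to (g := fun c : Fin d → Fin n => kk c)
      (t := Finset.univ.image (fun c : Fin d → Fin n => kk c))
      (fun c _ => Finset.mem_image_of_mem _ (Finset.mem_univ c))]
    refine Finset.sum_congr rfl fun k _ => ?_
    have h1 : ∀ c ∈ Finset.univ.filter (fun c : Fin d → Fin n => kk c = k),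
        (∏ j, s (c j)) ⊗ₜ[A] pol γ (fun j => b (c j)) =
          (k.prod fun i a => s i ^ a) ⊗ₜ[A] pol γ (fun j => b (c j)) := by
      intro c hc
      rw [← (Finset.mem_filter.mp hc).2, prod_kk]
    rw [Finset.sum_congr rfl h1, ← TensorProduct.tmul_sum, sum_pol_eq]
  have hR : ∑ k ∈ (coeffE γ.law b Finset.univ).support,
      d.factorial • ((k.prod fun i a => s i ^ a) ⊗ₜ[A] coeffE γ.law b Finset.univ k) =
      ∑ k ∈ (coeffE γ.law b Finset.univ).support, G k := by
    refine Finset.sum_congr rfl fun k _ => ?_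
    simp only [G]
    rw [← Nat.cast_smul_eq_nsmul A, ← Nat.cast_smul_eq_nsmul A, TensorProduct.tmul_smul]
  rw [hL, hR]
  symm
  refine Finset.sum_subset ?_ ?_
  · intro k hk
    obtain ⟨α, hα⟩ := exists_tuple d k (coeffE_degree γ.homog b Finset.univ hk)
    exact Finset.mem_image.mpr ⟨α, Finset.mem_univ _, hα⟩
  · intro k _ hk
    simp only [G]
    rw [Finsupp.notMem_support_iff.mp hk, smul_zero, TensorProduct.tmul_zero]

end

/-- Let A be a commutative ring, B an A-algebra and d ≥ 1; let (C, γ) be the degree-d divided power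
algebra Γ^d_A(B) with its universal multiplicative law γ : B → C of degree d (every multiplicative
law of degree d out of B factors uniquely through γ), and let φ : Γ^d_A(B) → TS^d_A(B) be the
canonical homomorphism to the symmetric tensors, taken as data characterised by: after any base
change S, φ ∘ γ sends Σ_j s_j ⊗ b_j to Σ_{c : [d] → [n]} (∏_i s_{c(i)}) ⊗ (b_{c(1)} ⊗ ⋯ ⊗ b_{c(d)}),
i.e. φ corresponds to the law x ↦ x ⊗ ⋯ ⊗ x. Then d!·x = 0 for every x in the kernel of φ, and d!·y
lies in the image of φ for every symmetric tensor y ∈ TS^d_A(B). (The published statement also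
asserts x^{d!} = 0 and y^{d!} in the image of φ; those two halves are a separate result and are not
restated here.) -/
theorem result {A B C : Type u} [CommRing A] [CommRing B] [Algebra A B] [CommRing C] [Algebra A C] (d : ℕ) (hd : 0 < d)
    (γ : PolLaw.MulLaw A B C d) (hγ : PolLaw.IsGammaD γ) (φ : C →ₐ[A] SymTen.TS A B d)
    (hφ : ∀ (S : Type u) [CommSemiring S] [Algebra A S] (n : ℕ) (s : Fin n → S) (b : Fin n → B),
      ((SymTen.TS A B d).val.comp φ).toLinearMap.lTensor S (γ.law.toFun' S (∑ j, s j ⊗ₜ[A] b j)) =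
        ∑ c : Fin d → Fin n, (∏ i, s (c i)) ⊗ₜ[A] PiTensorProduct.tprod A (fun i => b (c i))) :
    (∀ x : C, φ x = 0 → d.factorial • x = 0) ∧
      (∀ y : SymTen.TS A B d, d.factorial • y ∈ φ.range) := by
  classical
  let Ψ : C →ₐ[A] TP A B d := (SymTen.TS A B d).val.comp φ
  -- `Ψ ∘ γ` is the tensor power law
  have hGT : ∀ (S : Type u) [CommSemiring S] [Algebra A S] (z : S ⊗[A] B),
      (GT A B d).law.toFun' S z = Ψ.toLinearMap.lTensor S (γ.law.toFun' S z) := by
    intro S _ _ z
    obtain ⟨n, s, b, rfl⟩ := exists_fin_sum' (A := A) z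
    rw [GT_toFun'_sum', Fintype.piFinset_univ]
    exact (hφ S n s b).symm
  have hΨc : ∀ {I : Type} (e : I → B) (E : Finset I) (k : I →₀ ℕ),
      coeffE (GT A B d).law e E k = Ψ (coeffE γ.law e E k) :=
    fun e E k => coeffE_postcomp γ.law (GT A B d).law Ψ.toLinearMap hGT e E k
  constructor
  · -- `ψ ∘ Ψ = d!`
    have hkey : ∀ x : C, psi γ (Ψ x) = d.factorial • x := by
      intro x
      have hx : x ∈ TS γ.law := by rw [TS_eq_top γ hγ]; exact Submodule.mem_top
      induction hx using Submodule.span_induction with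
      | mem x hx =>
        obtain ⟨I, e, E, k, rfl⟩ := hx
        let F' : B →ₚₗ[A] C := PolLaw.postcomp ((psi γ).comp Ψ.toLinearMap) γ.law
        have h1 : coeffE F' e E k = (psi γ).comp Ψ.toLinearMap (coeffE γ.law e E k) :=
          coeffE_postcomp γ.law F' _ (fun S _ _ z => rfl) e E k
        have h2 : coeffE F' e E k =
            ((d.factorial : A) • (LinearMap.id : C →ₗ[A] C)) (coeffE γ.law e E k) := by
          refine coeffE_postcomp γ.law F' _ (fun S _ _ z => ?_) e E k
          show ((psi γ).comp Ψ.toLinearMap).lTensor S (γ.law.toFun' S z) = _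
          rw [LinearMap.lTensor_comp, LinearMap.comp_apply, ← hGT, psi_GT, LinearMap.lTensor_smul,
            LinearMap.lTensor_id, LinearMap.smul_apply, LinearMap.id_apply,
            Nat.cast_smul_eq_nsmul]
        rw [h1, LinearMap.smul_apply, LinearMap.id_apply, Nat.cast_smul_eq_nsmul] at h2
        exact h2
      | zero => simp
      | add x y _ _ hx hy => rw [map_add, map_add, hx, hy, smul_add]
      | smul a x _ hx => rw [map_smul, map_smul, hx, smul_comm]
    intro x hx
    rw [← hkey x]
    have : Ψ x = 0 := by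
      show (SymTen.TS A B d).val (φ x) = 0
      rw [hx, map_zero]
    rw [this, map_zero]
  · -- symmetrisations are in the image
    have hsym : ∀ t : TP A B d, (∑ τ : Equiv.Perm (Fin d), SymTen.perm A B d τ t) ∈
        LinearMap.range Ψ.toLinearMap := by
      intro t
      induction t using PiTensorProduct.induction_on with
      | smul_tprod r m =>
        have h1 : ∑ τ : Equiv.Perm (Fin d), SymTen.perm A B d τ (r • PiTensorProduct.tprod A m) =
            r • ∑ τ : Equiv.Perm (Fin d), PiTensorProduct.tprod A (fun j => m (τ j)) := by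
          rw [Finset.smul_sum, ← Equiv.sum_comp (Equiv.inv (Equiv.Perm (Fin d)))]
          refine Finset.sum_congr rfl fun τ _ => ?_
          rw [map_smul, SymTen.perm_tprod]
          rfl
        rw [h1, ← coeffE_GT_polar, hΨc]
        exact Submodule.smul_mem _ _ ⟨_, rfl⟩
      | add x y hx hy =>
        simp only [map_add, Finset.sum_add_distrib]
        exact Submodule.add_mem _ hx hy
    intro y
    obtain ⟨w, hw⟩ := hsym y.1
    refine ⟨w, ?_⟩
    apply Subtype.ext
    have h2 : ∑ τ : Equiv.Perm (Fin d), SymTen.perm A B d τ y.1 = d.factorial • y.1 := by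
      have : ∀ τ : Equiv.Perm (Fin d), SymTen.perm A B d τ y.1 = y.1 := by
        intro τ
        rw [SymTen.perm_apply]
        exact y.2 τ
      rw [Finset.sum_congr rfl fun τ _ => this τ, Finset.sum_const, Finset.card_univ,
        Fintype.card_perm, Fintype.card_fin]
    rw [h2] at hw
    show ((φ w : SymTen.TS A B d) : TP A B d) = ((d.factorial • y : SymTen.TS A B d) : TP A B d)
    exact hw.trans (by simp)

end Groth.Agent.S13872
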