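import Groth.Statements.S14451
import Groth.Agent.H4.ExtAdjL
import Groth.Agent.H4.HpullAPI

set_option autoImplicit false
universe u
open CategoryTheory CategoryTheory.Limits AlgebraicGeometry
open EtCore

namespace Groth.Agent.S14451

/-- Let f : X ⟶ Y be a morphism of schemes and F an abelian sheaf on the small étale site of X whose
higher direct images R^q f_* F vanish for all q > 0. Then for every p the canonical map H^p(Y, f_*
F) → H^p(X, F) (pull back along f, then apply the counit f⁻¹ f_* F ⟶ F) is bijective. (Exactness of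
f⁻¹, which always holds, is carried as an instance hypothesis.) -/
theorem result {X Y : Scheme.{u}} (f : X ⟶ Y)
    [PreservesFiniteLimits (EtCoh.pull f)] (F : EtCoh.Ab X)
    (hR : ∀ q : ℕ, 0 < q → IsZero ((EtCoh.Rpush f q).obj F)) (p : ℕ) :
    Function.Bijective (EtLim.HofPush f F p) := by
  have hpsi := Groth.Agent.H4.ExtAdjL.psi_bijective (EtCoh.pullPushAdj f)
    (EtCoh.const Y ℤ) F hR p
  have hpre : Function.Bijective (fun e : Abelian.Ext ((EtCoh.pull f).obj (EtCoh.const Y ℤ)) F p =>
      (Abelian.Ext.mk₀ (pullConst f ℤ).inv).comp e (zero_add p)) := by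
    refine Function.bijective_iff_has_inverse.mpr
      ⟨fun e => (Abelian.Ext.mk₀ (pullConst f ℤ).hom).comp e (zero_add p), fun e => ?_, fun e => ?_⟩
    · change (Abelian.Ext.mk₀ (pullConst f ℤ).hom).comp
        ((Abelian.Ext.mk₀ (pullConst f ℤ).inv).comp e (zero_add p)) (zero_add p) = e
      rw [← Abelian.Ext.comp_assoc _ _ _ (zero_add 0) (zero_add p) (by omega),
        Abelian.Ext.mk₀_comp_mk₀, Iso.hom_inv_id, Abelian.Ext.mk₀_id_comp]
    · change (Abelian.Ext.mk₀ (pullConst f ℤ).inv).comp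
        ((Abelian.Ext.mk₀ (pullConst f ℤ).hom).comp e (zero_add p)) (zero_add p) = e
      rw [← Abelian.Ext.comp_assoc _ _ _ (zero_add 0) (zero_add p) (by omega),
        Abelian.Ext.mk₀_comp_mk₀, Iso.inv_hom_id, Abelian.Ext.mk₀_id_comp]
  have h : ⇑(EtLim.HofPush f F p) =
      (fun e : Abelian.Ext ((EtCoh.pull f).obj (EtCoh.const Y ℤ)) F p =>
        (Abelian.Ext.mk₀ (pullConst f ℤ).inv).comp e (zero_add p)) ∘
      ⇑(Groth.Agent.H4.ExtAdjL.psi (EtCoh.pullPushAdj f) (EtCoh.const Y ℤ) F p) := by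
    funext x
    change ((Abelian.Ext.mk₀ (pullConst f ℤ).inv).comp
      (x.mapExactFunctor (EtCoh.pull f)) (zero_add p)).comp
        (Abelian.Ext.mk₀ ((EtCoh.pullPushAdj f).counit.app F)) (add_zero p) =
      (Abelian.Ext.mk₀ (pullConst f ℤ).inv).comp
        ((x.mapExactFunctor (EtCoh.pull f)).comp
          (Abelian.Ext.mk₀ ((EtCoh.pullPushAdj f).counit.app F)) (add_zero p)) (zero_add p)
    exact Abelian.Ext.comp_assoc _ _ _ (zero_add p) (add_zero p) (by omega)
  rw [h]
  exact hpre.comp hpsi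

end Groth.Agent.S14451
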