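import Groth.Statements.S6633
import Mathlib
import Groth.Agent.H7.PropCIntegral

set_option autoImplicit false
open CategoryTheory CategoryTheory.Limits AlgebraicGeometry Opposite
universe u
open EtCore

namespace Groth.Agent.S6633

/-- An integral morphism of schemes whose underlying continuous map is a homeomorphism onto a closed
subset (a closed topological embedding) satisfies condition (C): for every etale U ⟶ X there are an
etale V ⟶ Y and a surjective X-morphism X ×_Y V ⟶ U. -/
theorem result {X Y : Scheme.{u}} (f : X ⟶ Y) [IsIntegralHom f]
    (hf : Topology.IsClosedEmbedding f.base) : BigSite.PropC f := by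
  exact Groth.Agent.H7.propC_of_pointwise f (Groth.Agent.H7.propCPtAll_of_isIntegralHom f hf.injective)

end Groth.Agent.S6633
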