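import Groth.Statements.S0631
import Groth.Agent.H4.IntInjEss
import Groth.Agent.S6633

set_option autoImplicit false
open CategoryTheory CategoryTheory.Limits AlgebraicGeometry Opposite
universe u
open EtCore

namespace Groth.Agent.S0631

/-- For a morphism f : X -> Y that is integral and universally injective, the direct image f_* on
abelian etale sheaves is full and faithful, an abelian sheaf on Y lies in its essential image
exactly when its support is contained in the image of f, and the counit f^{-1} f_* F -> F is an
isomorphism for every F. -/
theorem result {X Y : Scheme.{u}} (f : X ⟶ Y)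
    [IsIntegralHom f] [UniversallyInjective f] :
    (EtCoh.push f).Full ∧ (EtCoh.push f).Faithful ∧
    (∀ G : EtCoh.Ab Y, (EtCoh.push f).essImage G ↔ EtPBC.supp G ⊆ Set.range f.base) ∧
    ∀ F : EtCoh.Ab X, IsIso ((EtCoh.pullPushAdj f).counit.app F) := by
  have hclm : IsClosedMap f.base := f.isClosedMap
  have hinj : Function.Injective f.base := f.injective
  have hce : Topology.IsClosedEmbedding f.base :=
    Topology.IsClosedEmbedding.of_continuous_injective_isClosedMap f.continuous hinj hclm
  have hC : BigSite.PropC f := Groth.Agent.S6633.result f hce
  have hcl : IsClosed (Set.range f.base) := hce.isClosed_range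
  have hemb : ∀ V : Y.Etale, Topology.IsInducing (pullback.fst V.hom f) := fun V => by
    have h1 : IsClosedMap (pullback.fst V.hom f).base := (pullback.fst V.hom f).isClosedMap
    have : UniversallyInjective (pullback.fst V.hom f) :=
      MorphismProperty.pullback_fst V.hom f inferInstance
    have h2 : Function.Injective (pullback.fst V.hom f).base := (pullback.fst V.hom f).injective
    exact (Topology.IsClosedEmbedding.of_continuous_injective_isClosedMap
      (pullback.fst V.hom f).continuous h2 h1).isInducing
  have hff := Groth.Agent.H4.IntInj.full_faithful f hC hemb
  exact ⟨hff.1, hff.2, fun G => Groth.Agent.H4.IntInj.essImage_iff f hC hemb hcl G,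
    fun F => Groth.Agent.H4.IntInj.isIso_counit f hC hemb F⟩

end Groth.Agent.S0631
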