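import Groth.Statements.S1307
import Groth.Agent.H7.Thickening

set_option autoImplicit false
universe u
open FlatMor

namespace Groth.Agent.S1307

open AlgebraicGeometry CategoryTheory Limits in
/-- For a morphism of thickenings, that is a commutative square whose horizontal maps are thickenings
(closed immersions that are surjective on points), the morphism between the thin schemes is
universally injective if and only if the morphism between the thick ones is. -/
theorem result {X X' S S' : Scheme.{u}} (iX : X ⟶ X') (iS : S ⟶ S') (f : X ⟶ S) (f' : X' ⟶ S')
    (hX : MoreMor.IsThickening iX) (hS : MoreMor.IsThickening iS) (w : iX ≫ f' = f ≫ iS) :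
    UniversallyInjective f ↔ UniversallyInjective f' := by
  have := hX.1
  have := hX.2
  have := hS.1
  have := hS.2
  have key : MorphismProperty.HasOfPostcompProperty @UniversallyInjective ⊤ := by
    rw [MorphismProperty.hasOfPostcompProperty_iff_le_diagonal]
    intro X Y f _
    exact inferInstanceAs (UniversallyInjective (pullback.diagonal f))
  constructor
  · intro hf
    have h1 : UniversallyInjective (iX ≫ f') := by
      rw [w]; exact MorphismProperty.comp_mem _ _ _ hf inferInstance
    constructor
    intro X'' Y'' i₁ i₂ f'' H
    have h2 := h1.universally_injective _ _ _
      ((IsPullback.of_hasPullback i₁ iX).paste_horiz H)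
    have h3 : Function.Surjective (pullback.fst i₁ iX) :=
      (MorphismProperty.pullback_fst (P := @Surjective) _ _ ‹_›).1
    have h4 : Function.Injective (f'' ∘ pullback.fst i₁ iX) := by
      intro a b hab
      apply h2
      simpa using hab
    exact Function.Injective.of_comp_right h4 h3
  · intro hf'
    have h1 : UniversallyInjective (f ≫ iS) := by
      rw [← w]; exact MorphismProperty.comp_mem _ _ _ inferInstance hf'
    exact MorphismProperty.of_postcomp (W := @UniversallyInjective) (W' := ⊤) f iS
      trivial h1

end Groth.Agent.S1307
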