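import Groth.Statements.S1325
import Groth.Agent.H7.SecComp.Top
import Groth.Agent.H7.SecComp.Generic
import Groth.Agent.H7.GeomCnt.ClosedSub

set_option autoImplicit false
universe u
open FlatMor

namespace Groth.Agent.S1325

open AlgebraicGeometry CategoryTheory Limits in
/-- Let f be of finite type with a section s and let y be a point of the target. Then there is a subset
V of the closure of y, open in that closure and containing y (equivalently nonempty), such that the
trace of the section components of (f, s) on the preimage of V is open and closed in that preimage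
(with the subspace topology, which is the topology of the base change to the locally closed
subscheme V). -/
theorem result {X Y : Scheme.{u}} (f : X ⟶ Y) (s : Y ⟶ X) (hs : s ≫ f = 𝟙 Y)
    [LocallyOfFiniteType f] [QuasiCompact f] (y : Y) :
    ∃ V : Set ↑Y, V ⊆ closure {y} ∧ y ∈ V ∧ IsOpen (Subtype.val ⁻¹' V : Set ↑(closure ({y} : Set ↑Y))) ∧
      IsClopen (Subtype.val ⁻¹' MoreMor.sectionComponents f s : Set ↑(f ⁻¹' V)) := by
  classical
  let I := Scheme.IdealSheafData.vanishingIdeal
    (⟨closure {y}, isClosed_closure⟩ : TopologicalSpace.Closeds ↥Y)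
  let i := I.subschemeι
  have hrange : Set.range i = closure {y} := by
    rw [Scheme.IdealSheafData.range_subschemeι]
    exact Scheme.IdealSheafData.coe_support_vanishingIdeal _
  have hemb : Topology.IsClosedEmbedding i := i.isClosedEmbedding
  haveI : IrreducibleSpace ↥I.subscheme := by
    rw [Groth.Agent.H7.GeomCnt.irreducibleSpace_iff_isIrreducible_range hemb.isEmbedding, hrange]
    exact isIrreducible_singleton.closure
  -- base change to the closure of `y`
  let g := pullback.snd f i
  let p := pullback.fst f i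
  have hpg : ∀ w, f (p w) = i (g w) := fun w => by
    rw [← Scheme.Hom.comp_apply, ← Scheme.Hom.comp_apply, pullback.condition]
  let t : I.subscheme ⟶ pullback f i := pullback.lift (i ≫ s) (𝟙 _) (by
    rw [Category.assoc, hs, Category.comp_id, Category.id_comp])
  have ht : t ≫ g = 𝟙 _ := pullback.lift_snd _ _ _
  have htp : ∀ z, p (t z) = s (i z) := fun z => by
    have h1 : t ≫ p = i ≫ s := pullback.lift_fst _ _ _
    rw [← Scheme.Hom.comp_apply, ← Scheme.Hom.comp_apply, h1]
  have hsf : ∀ y', f (s y') = y' := fun y' => by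
    rw [← Scheme.Hom.comp_apply, hs]; rfl
  have hpemb : Topology.IsClosedEmbedding p := p.isClosedEmbedding
  obtain ⟨VZ, C₀, C₁, hVZne, hC₀, hC₁, hb, hc, hd, he⟩ :=
    Groth.Agent.H7.SecComp.exists_open_cover_of_section g t ht
  -- the generic point of the subscheme maps to `y`
  have hgen : i (genericPoint ↥I.subscheme) = y := by
    have h1 : IsGenericPoint (i (genericPoint ↥I.subscheme)) (closure (i '' Set.univ)) :=
      (genericPoint_spec ↥I.subscheme).image i.continuous
    rw [Set.image_univ, hrange, closure_closure] at h1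
    exact h1.eq (isGenericPoint_closure (x := y))
  have hηV : genericPoint ↥I.subscheme ∈ VZ := by
    obtain ⟨v, hv⟩ := hVZne
    exact ((genericPoint_spec ↥I.subscheme).mem_open_set_iff VZ.isOpen).mpr ⟨v, Set.mem_univ _, hv⟩
  -- points of `X` over `i '' VZ` come from the base change
  have hlift : ∀ x, f x ∈ i '' VZ → ∃ w, p w = x ∧ g w ∈ VZ := by
    rintro x ⟨z, hz, hzx⟩
    obtain ⟨w, hw1, hw2⟩ := Scheme.Pullback.exists_preimage_pullback x z hzx.symm
    exact ⟨w, hw1, by rw [show g w = z from hw2]; exact hz⟩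
  refine ⟨i '' VZ, ?_, ⟨_, hηV, hgen⟩, ?_, ?_⟩
  · rw [← hrange]
    exact Set.image_subset_range _ _
  · obtain ⟨O, hO, hOV⟩ := (hemb.isEmbedding.isOpen_iff).mp VZ.isOpen
    have : (Subtype.val ⁻¹' (i '' VZ) : Set ↑(closure ({y} : Set ↑Y))) = Subtype.val ⁻¹' O := by
      ext ⟨w, hw⟩
      simp only [Set.mem_preimage, Set.mem_image]
      constructor
      · rintro ⟨z, hz, rfl⟩
        have : z ∈ i ⁻¹' O := by rw [hOV]; exact hz
        exact this
      · intro hwO
        rw [← hrange] at hw
        obtain ⟨z, rfl⟩ := hw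
        refine ⟨z, ?_, rfl⟩
        have : z ∈ i ⁻¹' O := hwO
        rw [hOV] at this
        exact this
    rw [this]
    exact hO.preimage continuous_subtype_val
  · refine Groth.Agent.H7.SecComp.isClopen_of_cover f s hsf (i '' VZ) (p '' C₀) (p '' C₁)
      (hpemb.isClosedMap _ hC₀) (hpemb.isClosedMap _ hC₁) ?_ ?_ ?_ ?_
    · intro x hx
      obtain ⟨w, rfl, hw⟩ := hlift x hx
      rcases hb w hw with h | h
      · exact Or.inl ⟨w, h, rfl⟩
      · exact Or.inr ⟨w, h, rfl⟩
    · rintro x ⟨⟨w₀, hw₀, rfl⟩, ⟨w₁, hw₁, hw⟩⟩ hx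
      have : w₁ = w₀ := hpemb.injective hw
      subst this
      obtain ⟨z, hz, hzx⟩ := hx
      rw [hpg] at hzx
      have : z = g w₁ := hemb.injective hzx
      subst this
      exact hc w₁ ⟨hw₀, hw₁⟩ hz
    · rintro _ ⟨z, hz, rfl⟩
      exact ⟨t z, hd z hz, htp z⟩
    · rintro _ ⟨z, hz, rfl⟩
      have h1 : p '' C₀ ∩ f ⁻¹' {i z} = p '' (C₀ ∩ g ⁻¹' {z}) := by
        ext x
        constructor
        · rintro ⟨⟨w, hw, rfl⟩, hx⟩
          refine ⟨w, ⟨hw, ?_⟩, rfl⟩
          have : f (p w) = i z := hx
          rw [hpg] at this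
          exact hemb.injective this
        · rintro ⟨w, ⟨hw, hgw⟩, rfl⟩
          refine ⟨⟨w, hw, rfl⟩, ?_⟩
          show f (p w) = i z
          rw [hpg, show g w = z from hgw]
      rw [h1]
      exact (he z hz).image _ p.continuous.continuousOn

end Groth.Agent.S1325
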