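import Groth.Statements.S8874
import Groth.Agent.H44.FittSupport
import Groth.Agent.H44.AffineFree

set_option autoImplicit false
universe u
open CategoryTheory CategoryTheory.Limits AlgebraicGeometry TopologicalSpace
open SDiv

namespace Groth.Agent.S8874

/-- Let S be a scheme, F a quasi-coherent O_S-module of finite type, s a point of S and r a natural
number. Then F can be generated by r sections over some open neighbourhood of s if and only if the
r-th Fitting ideal of F is the unit ideal at s, i.e. s does not lie in the closed subset cut out by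
Fit_r(F). -/
theorem result (S : Scheme.{u}) (F : S.Modules) (hF : Coh.IsQCoh F) (hft : CohB1.IsFT F)
    (s : ↥S) (r : ℕ) :
    (∃ U : S.Opens, s ∈ U ∧ ∃ π : FlatMod.freeMod (↑U) r ⟶ F.restrict U.ι, Epi π) ↔
      s ∉ (Fitt.sheafIdeal F r).support := by
  haveI : F.IsQuasicoherent := hF
  haveI : SheafOfModules.IsFiniteType (R := S.ringCatSheaf) F := hft
  constructor
  · rintro ⟨U, hsU, π, hπ⟩
    obtain ⟨_, ⟨V, hV, rfl⟩, hsV, hVU⟩ :=
      S.isBasis_affineOpens.exists_subset_of_mem_open hsU U.2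
    obtain ⟨y, hy⟩ := Groth.Agent.H44.exists_span_of_epi_freeMod F hV hVU π
    have h := Scheme.IdealSheafData.mem_support_iff_of_mem (I := Fitt.sheafIdeal F r)
      (U := (⟨V, hV⟩ : S.affineOpens)) (x := s) hsV
    rw [h, Groth.Agent.H44.sheafIdeal_ideal, Groth.Agent.Lead.fitt_ideal_eq_top_of_le y hy le_rfl]
    simp
    exact hsV
  · intro hs
    obtain ⟨V, hV, hsV⟩ : ∃ V : S.Opens, IsAffineOpen V ∧ s ∈ V := by
      obtain ⟨_, ⟨V, hV, rfl⟩, hsV, -⟩ :=
        S.isBasis_affineOpens.exists_subset_of_mem_open (Set.mem_univ s) isOpen_univ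
      exact ⟨V, hV, hsV⟩
    haveI : Module.Finite Γ(S, V) Γ(F, V) := Groth.Agent.H44.finite_sections_of_isFiniteType F hV
    have h := Scheme.IdealSheafData.mem_support_iff_of_mem (I := Fitt.sheafIdeal F r)
      (U := (⟨V, hV⟩ : S.affineOpens)) (x := s) hsV
    rw [h, Groth.Agent.H44.sheafIdeal_ideal, Groth.Agent.H44.mem_zeroLocus_iff_primeIdealOf hV _ hsV,
      PrimeSpectrum.mem_zeroLocus, SetLike.coe_subset_coe] at hs
    obtain ⟨n, x, hx⟩ := Module.Finite.exists_fin (R := Γ(S, V)) (M := Γ(F, V))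
    obtain ⟨z, e, hz, he, hd⟩ := Groth.Agent.Lead.exists_minor_notMem_of_not_fitt_ideal_le
      Γ(F, V) x hx r (hV.primeIdealOf ⟨s, hsV⟩).asIdeal hs
    set d : Γ(S, V) := (Matrix.of fun a b => z b (e a)).det with hd_def
    letI := Groth.Agent.H44.basicOpenModule F d
    haveI := Groth.Agent.H44.isScalarTower_basicOpen F d
    haveI := Groth.Agent.H44.isLocalizedModule_resBasicOpen F d hV
    haveI : IsLocalization (.powers d) Γ(S, S.basicOpen d) := hV.isLocalization_basicOpen d
    obtain ⟨g, hg⟩ := Groth.Agent.Lead.exists_span_localization_of_minor (k := r) (.powers d)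
      Γ(S, S.basicOpen d) (Groth.Agent.H44.resBasicOpen F d) (by omega) x hx z hz e he
      (Submonoid.mem_powers d)
    obtain ⟨π, hπ⟩ := Groth.Agent.H44.exists_epi_freeMod_of_span F (hV.basicOpen d) g hg
    exact ⟨S.basicOpen d, (Groth.Agent.H8.notMem_primeIdealOf_iff hV hsV d).mp hd, π, hπ⟩

end Groth.Agent.S8874
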