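import Groth.Statements.S6894
import Groth.Agent.Lead.FittingLoc

set_option autoImplicit false
universe u
open TensorProduct
open Fitt

namespace Groth.Agent.S6894

/-- Let `M` be a finite `R`-module, `k ≥ 0` and `𝔭 ⊆ R` a prime. Then each of the following conditions
implies all the others: the Fitting ideal `Fit_k(M)` is not contained in `𝔭`; the fiber `M ⊗_R κ(𝔭)`
has dimension at most `k` over `κ(𝔭)`; some `k` elements span the localization `M_𝔭` over `R_𝔭`; and
for some `f ∉ 𝔭`, the module `M_f` is spanned over `R_f` by `k` elements. -/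
theorem result {R : Type u} [CommRing R] (M : Type u) [AddCommGroup M] [Module R M]
    [Module.Finite R M] (k : ℕ) (p : Ideal R) [p.IsPrime] :
    (¬ Fitt.ideal R M k ≤ p ↔ Module.finrank p.ResidueField (p.ResidueField ⊗[R] M) ≤ k) ∧
    (¬ Fitt.ideal R M k ≤ p ↔
      ∃ g : Fin k → LocalizedModule p.primeCompl M, Submodule.span (Localization.AtPrime p) (Set.range g) = ⊤) ∧
    (¬ Fitt.ideal R M k ≤ p ↔ ∃ f : R, f ∉ p ∧
      ∃ g : Fin k → LocalizedModule (Submonoid.powers f) M,
        Submodule.span (Localization.Away f) (Set.range g) = ⊤) := by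
  refine ⟨Groth.Agent.Lead.not_fitt_ideal_le_iff_finrank M k p, ⟨?_, ?_⟩, ⟨?_, ?_⟩⟩
  · intro h
    obtain ⟨n, x, hx⟩ := Module.Finite.exists_fin (R := R) (M := M)
    obtain ⟨z, e, hz, he, hd⟩ :=
      Groth.Agent.Lead.exists_minor_notMem_of_not_fitt_ideal_le M x hx k p h
    exact Groth.Agent.Lead.exists_span_localization_of_minor p.primeCompl (Localization.AtPrime p)
      (LocalizedModule.mkLinearMap p.primeCompl M) (by omega) x hx z hz e he hd
  · rintro ⟨g, hg⟩ hle
    obtain ⟨d, hdF, hdS⟩ := Groth.Agent.Lead.exists_mem_fitt_ideal_of_span_localization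
      p.primeCompl (Localization.AtPrime p) (LocalizedModule.mkLinearMap p.primeCompl M) g hg
    exact hdS (hle hdF)
  · intro h
    obtain ⟨n, x, hx⟩ := Module.Finite.exists_fin (R := R) (M := M)
    obtain ⟨z, e, hz, he, hd⟩ :=
      Groth.Agent.Lead.exists_minor_notMem_of_not_fitt_ideal_le M x hx k p h
    refine ⟨_, hd, ?_⟩
    exact Groth.Agent.Lead.exists_span_localization_of_minor (Submonoid.powers _)
      (Localization.Away _) (LocalizedModule.mkLinearMap (Submonoid.powers _) M) (by omega) x hx z hz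
      e he (Submonoid.mem_powers _)
  · rintro ⟨f, hf, g, hg⟩ hle
    obtain ⟨d, hdF, ⟨m, rfl⟩⟩ := Groth.Agent.Lead.exists_mem_fitt_ideal_of_span_localization
      (Submonoid.powers f) (Localization.Away f)
      (LocalizedModule.mkLinearMap (Submonoid.powers f) M) g hg
    exact hf (Ideal.IsPrime.mem_of_pow_mem inferInstance m (hle hdF))

end Groth.Agent.S6894
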