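import Groth.Statements.S6896
import Groth.Agent.Lead.FittingLoc
import Mathlib.RingTheory.LocalRing.MaximalIdeal.Basic

set_option autoImplicit false
universe u
open Fitt

namespace Groth.Agent.S6896

/-- Let `R` be a local ring, `M` a finite `R`-module and `k ≥ 0` with `Fit_k(M) = (f)` principal. Then
the quotient `M'` of `M` by the submodule `{x ∈ M | f x = 0}` can be generated by `k` elements. -/
theorem result {R : Type u} [CommRing R] [IsLocalRing R]
    (M : Type u) [AddCommGroup M] [Module R M] [Module.Finite R M] (k : ℕ) (f : R)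
    (hf : Fitt.ideal R M k = Ideal.span {f}) :
    ∃ g : Fin k → M ⧸ LinearMap.ker (f • (LinearMap.id : M →ₗ[R] M)),
      Submodule.span R (Set.range g) = ⊤ := by
  obtain ⟨n, x, hx⟩ := Module.Finite.exists_fin (R := R) (M := M)
  have hfit := Groth.Agent.Lead.fitt_ideal_eq_minorIdeal x hx k
  rw [hf] at hfit
  by_cases hf0 : f = 0
  · refine ⟨fun _ => 0, ?_⟩
    rw [eq_top_iff]
    rintro y -
    obtain ⟨m, rfl⟩ := Submodule.mkQ_surjective _ y
    have hm : m ∈ LinearMap.ker (f • (LinearMap.id : M →ₗ[R] M)) := by
      simp [hf0]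
    rw [Submodule.mkQ_apply, (Submodule.Quotient.mk_eq_zero _).mpr hm]
    exact Submodule.zero_mem _
  · -- some minor generates the same ideal as `f`
    have hex : ∃ (z : Fin (n - k) → (Fin n → R)) (e : Fin (n - k) → Fin n),
        (∀ b, z b ∈ Groth.Agent.Lead.relations R x) ∧
          ∃ u : Rˣ, (Matrix.of fun a b => z b (e a)).det = u * f := by
      by_contra hcon
      push Not at hcon
      have hle : Groth.Agent.Lead.minorIdeal (Groth.Agent.Lead.relations R x) (n - k) ≤
          IsLocalRing.maximalIdeal R * Ideal.span {f} := by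
        rw [Groth.Agent.Lead.minorIdeal_le_iff]
        intro z e hz
        have hmem := Groth.Agent.Lead.minor_mem_minorIdeal _ z e hz
        rw [← hfit, Ideal.mem_span_singleton'] at hmem
        obtain ⟨c, hc⟩ := hmem
        rw [← hc]
        refine Ideal.mul_mem_mul ?_ (Ideal.mem_span_singleton_self f)
        rw [IsLocalRing.mem_maximalIdeal, mem_nonunits_iff]
        intro hcu
        exact hcon z e hz hcu.unit (by rw [← hc]; rfl)
      have hfm : f ∈ IsLocalRing.maximalIdeal R * Ideal.span {f} := by
        apply hle
        rw [← hfit]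
        exact Ideal.mem_span_singleton_self f
      rw [Ideal.mem_mul_span_singleton] at hfm
      obtain ⟨t, ht, htf⟩ := hfm
      have hunit : IsUnit (1 - t) := IsLocalRing.isUnit_one_sub_self_of_mem_nonunits t ht
      apply hf0
      have : (1 - t) * f = 0 := by rw [sub_mul, one_mul, htf, sub_self]
      exact (hunit.mul_right_eq_zero).mp this
    obtain ⟨z, e, hz, u, hu⟩ := hex
    have hd0 : (Matrix.of fun a b => z b (e a)).det ≠ 0 := by
      rw [hu]
      intro h0
      exact hf0 ((u.isUnit.mul_right_eq_zero).mp h0)
    have he : Function.Injective e := by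
      by_contra hinj
      rw [Function.Injective] at hinj
      push Not at hinj
      obtain ⟨a1, a2, h12, hne⟩ := hinj
      apply hd0
      apply Matrix.det_zero_of_row_eq hne
      funext b
      simp [h12]
    apply Groth.Agent.Lead.exists_span_quotient_of_minor_dvd (by omega) x hx z hz e he
    · intro e'
      have hmem := Groth.Agent.Lead.minor_mem_minorIdeal _ z e' hz
      rw [← hfit, Ideal.mem_span_singleton'] at hmem
      obtain ⟨c, hc⟩ := hmem
      rw [← hc, hu]
      exact ⟨c * ↑u⁻¹, by rw [mul_comm (↑u : R) f, mul_assoc f, ← mul_assoc (↑u : R), mul_comm (↑u : R) c,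
        mul_assoc c, Units.mul_inv, mul_one, mul_comm]⟩
    · intro y hy
      rw [LinearMap.mem_ker, LinearMap.smul_apply, LinearMap.id_apply]
      rw [hu, mul_smul] at hy
      have := congrArg (fun w => (↑u⁻¹ : R) • w) hy
      simpa [smul_smul] using this

end Groth.Agent.S6896
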