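import Groth.Statements.S6281
import Mathlib.LinearAlgebra.TensorProduct.Tower

set_option autoImplicit false
universe u
open CAlg

namespace Groth.Agent.S6281

open TensorProduct in
theorem result {R S : Type u} [CommRing R] [CommRing S] [Algebra R S] (M : Type u) [AddCommGroup M] [Module S M] [Module R M] [IsScalarTower R S M] [Module.Flat R M] [Module.FaithfullyFlat S M] : Module.Flat R S := by
  rw [Module.Flat.iff_lTensor_preserves_injective_linearMap]
  intro N P _ _ _ _ f hf
  have h1 : Function.Injective (f.lTensor M) :=
    Module.Flat.lTensor_preserves_injective_linearMap f hf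
  let g : S ⊗[R] N →ₗ[S] S ⊗[R] P := TensorProduct.AlgebraTensorModule.lTensor S S f
  have hg : (g : S ⊗[R] N → S ⊗[R] P) = f.lTensor S := rfl
  rw [← hg, ← Module.FaithfullyFlat.lTensor_injective_iff_injective S M g]
  have key := TensorProduct.AlgebraTensorModule.lTensor_comp_cancelBaseChange
    (R := R) (A := S) (B := S) (M := M) f
  have key2 : (TensorProduct.AlgebraTensorModule.cancelBaseChange R S S M P) ∘ (g.lTensor M) =
      (f.lTensor M) ∘ (TensorProduct.AlgebraTensorModule.cancelBaseChange R S S M N) := by
    funext x
    have := congrArg (fun h => h x) key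
    exact this.symm
  have h2 : Function.Injective ((f.lTensor M) ∘
      (TensorProduct.AlgebraTensorModule.cancelBaseChange R S S M N)) :=
    h1.comp (TensorProduct.AlgebraTensorModule.cancelBaseChange R S S M N).injective
  rw [← key2] at h2
  exact Function.Injective.of_comp h2

end Groth.Agent.S6281
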