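import Groth.Statements.S6610
import Groth.Agent.H6.InjHorseshoe
import Groth.Agent.H33.OpCx

set_option autoImplicit false
universe v u
open CategoryTheory CategoryTheory.Limits
open CohDer

namespace Groth.Agent.S6610

/-- Let A be an abelian category with enough projectives and S : 0 → A• → B• → C• → 0 a short exact
sequence of cochain complexes all vanishing above degree n. Then there are a short exact sequence T
: 0 → P₁ → P₂ → P₃ → 0 of complexes of projective objects vanishing above degree n and a morphism of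
short exact sequences T ⟶ S whose three components are quasi-isomorphisms (projective resolutions).
(The published statement is phrased for bounded below complexes; projective resolutions are bounded
above by definition and exist only for complexes with cohomology bounded above, so the statement is
given here for bounded above complexes, the case dual to the injective one.) -/
theorem result {A : Type u} [Category.{v} A] [Abelian A] [EnoughProjectives A]
    (S : ShortComplex (CochainComplex A ℤ)) (hS : S.ShortExact) (n : ℤ)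
    [S.X₁.IsStrictlyLE n] [S.X₂.IsStrictlyLE n] [S.X₃.IsStrictlyLE n] :
    ∃ (T : ShortComplex (CochainComplex A ℤ)) (φ : T ⟶ S), T.ShortExact ∧
      T.X₁.IsStrictlyLE n ∧ T.X₂.IsStrictlyLE n ∧ T.X₃.IsStrictlyLE n ∧
      (∀ k : ℤ, Projective (T.X₁.X k) ∧ Projective (T.X₂.X k) ∧ Projective (T.X₃.X k)) ∧
      QuasiIso φ.τ₁ ∧ QuasiIso φ.τ₂ ∧ QuasiIso φ.τ₃ := by
  classical
  have i1 : (Groth.Agent.H33.OpCx.opC S.X₁).IsStrictlyGE (-n) :=
    Groth.Agent.H33.OpCx.isStrictlyGE_opC S.X₁ n (-n) (by omega)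
  have i2 : (Groth.Agent.H33.OpCx.opC S.X₂).IsStrictlyGE (-n) :=
    Groth.Agent.H33.OpCx.isStrictlyGE_opC S.X₂ n (-n) (by omega)
  have i3 : (Groth.Agent.H33.OpCx.opC S.X₃).IsStrictlyGE (-n) :=
    Groth.Agent.H33.OpCx.isStrictlyGE_opC S.X₃ n (-n) (by omega)
  have hS' := Groth.Agent.H33.OpCx.shortExact_opC S hS
  obtain ⟨T', φ', hT', hT1, hT2, hT3, hinj, hq1, hq2, hq3⟩ :=
    @Groth.Agent.H6.exists_shortExact_injective_resolution Aᵒᵖ _ _ _ _ hS' (-n) i3 i2 i1
  have j1 : (Groth.Agent.H33.OpCx.unopC T'.X₃).IsStrictlyLE n :=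
    Groth.Agent.H33.OpCx.isStrictlyLE_unopC T'.X₃ (-n) n (by omega)
  have j2 : (Groth.Agent.H33.OpCx.unopC T'.X₂).IsStrictlyLE n :=
    Groth.Agent.H33.OpCx.isStrictlyLE_unopC T'.X₂ (-n) n (by omega)
  have j3 : (Groth.Agent.H33.OpCx.unopC T'.X₁).IsStrictlyLE n :=
    Groth.Agent.H33.OpCx.isStrictlyLE_unopC T'.X₁ (-n) n (by omega)
  have hT := Groth.Agent.H33.OpCx.shortExact_unopC T' hT'
  have c12 := φ'.comm₁₂
  have c23 := φ'.comm₂₃
  dsimp at c12 c23
  let φ : ShortComplex.mk (Groth.Agent.H33.OpCx.unopM T'.g) (Groth.Agent.H33.OpCx.unopM T'.f)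
      (by rw [← Groth.Agent.H33.OpCx.unopM_comp, T'.zero, Groth.Agent.H33.OpCx.unopM_zero]) ⟶ S :=
    { τ₁ := Groth.Agent.H33.OpCx.unopM φ'.τ₃ ≫ (Groth.Agent.H33.OpCx.unopOpIso S.X₁).hom
      τ₂ := Groth.Agent.H33.OpCx.unopM φ'.τ₂ ≫ (Groth.Agent.H33.OpCx.unopOpIso S.X₂).hom
      τ₃ := Groth.Agent.H33.OpCx.unopM φ'.τ₁ ≫ (Groth.Agent.H33.OpCx.unopOpIso S.X₃).hom
      comm₁₂ := by
        dsimp
        rw [Category.assoc, ← Groth.Agent.H33.OpCx.unopOpIso_hom_naturality,
          ← Category.assoc, ← Category.assoc, ← Groth.Agent.H33.OpCx.unopM_comp,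
          ← Groth.Agent.H33.OpCx.unopM_comp, c23]
      comm₂₃ := by
        dsimp
        rw [Category.assoc, ← Groth.Agent.H33.OpCx.unopOpIso_hom_naturality,
          ← Category.assoc, ← Category.assoc, ← Groth.Agent.H33.OpCx.unopM_comp,
          ← Groth.Agent.H33.OpCx.unopM_comp, c12] }
  have q1 : QuasiIso (Groth.Agent.H33.OpCx.unopM φ'.τ₃) := Groth.Agent.H33.OpCx.quasiIso_unopM _
  have q2 : QuasiIso (Groth.Agent.H33.OpCx.unopM φ'.τ₂) := Groth.Agent.H33.OpCx.quasiIso_unopM _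
  have q3 : QuasiIso (Groth.Agent.H33.OpCx.unopM φ'.τ₁) := Groth.Agent.H33.OpCx.quasiIso_unopM _
  refine ⟨_, φ, hT, j1, j2, j3, ?_, ?_, ?_, ?_⟩
  · intro k
    obtain ⟨h1, h2, h3⟩ := hinj (-k)
    refine ⟨?_, ?_, ?_⟩
    · change Projective (Opposite.unop (T'.X₃.X (-k)))
      infer_instance
    · change Projective (Opposite.unop (T'.X₂.X (-k)))
      infer_instance
    · change Projective (Opposite.unop (T'.X₁.X (-k)))
      infer_instance
  · change QuasiIso (Groth.Agent.H33.OpCx.unopM φ'.τ₃ ≫ (Groth.Agent.H33.OpCx.unopOpIso S.X₁).hom)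
    infer_instance
  · change QuasiIso (Groth.Agent.H33.OpCx.unopM φ'.τ₂ ≫ (Groth.Agent.H33.OpCx.unopOpIso S.X₂).hom)
    infer_instance
  · change QuasiIso (Groth.Agent.H33.OpCx.unopM φ'.τ₁ ≫ (Groth.Agent.H33.OpCx.unopOpIso S.X₃).hom)
    infer_instance

end Groth.Agent.S6610
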