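import Groth.Statements.S4706
import Groth.Agent.H26.ComplFlatMap
import Groth.Agent.H26.FibreProp
import Groth.Agent.H26.NormalFlat
import Groth.Agent.H26.FormalFibreQuot

set_option autoImplicit false
universe u
open EGA4

namespace Groth.Agent.S4706

/-- Let A → A' be a local homomorphism of Noetherian local rings which is normal (flat, with
geometrically normal fibres). If the completion map of A' is regular (the formal fibres of A' are
geometrically regular), then the formal fibres of A are geometrically normal. -/
theorem result (A A' : Type u) [CommRing A] [CommRing A']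
    [IsNoetherianRing A] [IsNoetherianRing A'] [IsLocalRing A] [IsLocalRing A'] [Algebra A A']
    [IsLocalHom (algebraMap A A')] (hf : EGA4.IsNormalHom A A') (hA' : CAlg.IsRegularHom A' (EGA4.Cpl A')) :
    EGA4.HasGeomNormalFormalFibres A := by
  intro p hp k' _ _ hfin
  haveI : Module.Flat A A' := hf.1
  letI := Groth.Agent.H26.ComplFlatMap.complAlgebra A A'
  haveI := Groth.Agent.H26.ComplFlatMap.isScalarTower A A'
  haveI := Groth.Agent.H26.ComplFlatMap.faithfullyFlat_complHom A A'
  haveI : IsNoetherianRing (EGA4.Cpl A') := Groth.Agent.H20.isNoetherianRing_adicCompletion _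
  haveI : Module.Flat A' (EGA4.Cpl A') := hA'.1
  have hiso : ∀ (X Y : Type u) [CommRing X] [CommRing Y], (X ≃+* Y) →
      EGA4.IsNormalRing X → EGA4.IsNormalRing Y :=
    fun X Y _ _ e h => Groth.Agent.H26.FormalFibreQuot.isNormalRing_of_ringEquiv e h
  -- Noetherianity of `k' ⊗ fibre`
  have hNoeth : ∀ (D : Type u) [CommRing D] [Algebra A D] [IsNoetherianRing D],
      IsNoetherianRing (TensorProduct p.ResidueField k' (p.Fiber D)) := by
    intro D _ _ _
    have h1 : Algebra.EssFiniteType D (TensorProduct A D p.ResidueField) := inferInstance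
    have h2 : IsNoetherianRing (TensorProduct A D p.ResidueField) :=
      Algebra.EssFiniteType.isNoetherianRing D _
    haveI h3 : IsNoetherianRing (p.Fiber D) := isNoetherianRing_of_ringEquiv _
      (Algebra.TensorProduct.comm A D p.ResidueField).toRingEquiv
    have h4 : IsNoetherianRing (TensorProduct p.ResidueField (p.Fiber D) k') :=
      IsNoetherianRing.of_finite (p.Fiber D) _
    exact isNoetherianRing_of_ringEquiv _
      (Algebra.TensorProduct.comm p.ResidueField (p.Fiber D) k').toRingEquiv
  have h1 : EGA4.IsNormalRing (TensorProduct p.ResidueField k' (p.Fiber (EGA4.Cpl A'))) := by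
    refine Groth.Agent.H26.FibreProp.comp_generic
      (fun X _ => EGA4.IsNormalRing X) (fun X _ => IsRegularRing X) hiso
      (fun X Y _ _ e h => @IsRegularRing.of_ringEquiv X _ Y _ e h)
      (fun R S _ _ _ _ _ _ hR hfib =>
        Groth.Agent.H26.NormalFlat.isNormalRing_of_flat_of_fibres R S hR
          (fun q _ => @Groth.Agent.H26.NormalFlat.isNormalRing_of_isRegularRing _ _ (hfib q)))
      A A' (EGA4.Cpl A') p k' (hNoeth A') (hf.2 p k' hfin) ?_ (hNoeth (EGA4.Cpl A'))
    intro q hq k'' _ _ hfin'
    exact (hA'.2 q).2 k'' hfin'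
  exact Groth.Agent.H26.FibreProp.descent_generic (fun X _ => EGA4.IsNormalRing X) hiso
    (fun R S _ _ _ _ h => Groth.Agent.H47.SN.isNormalRing_of_faithfullyFlat R S h)
    A (EGA4.Cpl A) (EGA4.Cpl A') p k' h1

end Groth.Agent.S4706
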