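import Groth.Statements.S2034
import Groth.Agent.S2033
import Groth.Agent.H91.GlueB

set_option autoImplicit false
universe u
open Smoothing

namespace Groth.Agent.S2034

open TensorProduct in
/-- Let `R` be a Noetherian ring, `A` a finitely presented `R`-algebra, `R → A → Λ` ring maps and `𝔮 ⊆
Λ` a prime minimal over the radical of the extended singular ideal of `R → A`; let `𝔭` be the prime
of `R` under `𝔮` and suppose the localized problem `R_𝔭 → R_𝔭 ⊗_R A → Λ_𝔮 ⊇ 𝔮Λ_𝔮` can be resolved.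
If moreover `Λ_𝔮` has Krull dimension zero, then the problem `R → A → Λ ⊇ 𝔮` itself can be resolved. -/
theorem result {R A Λ Rₚ Λq : Type u} [CommRing R] [IsNoetherianRing R] [CommRing A]
    [Algebra R A] [Algebra.FinitePresentation R A] [CommRing Λ] [Algebra R Λ] (φ : A →ₐ[R] Λ)
    (𝔮 : Ideal Λ) [𝔮.IsPrime] (hmin : 𝔮 ∈ (Smoothing.singRad R φ).minimalPrimes)
    [CommRing Rₚ] [Algebra R Rₚ] [IsLocalization.AtPrime Rₚ (𝔮.comap (algebraMap R Λ))]
    [CommRing Λq] [Algebra Λ Λq] [IsLocalization.AtPrime Λq 𝔮] [Algebra R Λq] [IsScalarTower R Λ Λq]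
    [Algebra Rₚ Λq] [IsScalarTower R Rₚ Λq] (hdim : ringKrullDim Λq = 0)
    (hres : Smoothing.Resolvable Rₚ
      (Algebra.TensorProduct.lift (Algebra.ofId Rₚ Λq) ((IsScalarTower.toAlgHom R Λ Λq).comp φ)
        (fun _ _ => Commute.all _ _) : Rₚ ⊗[R] A →ₐ[Rₚ] Λq) (𝔮.map (algebraMap Λ Λq))) :
    Smoothing.Resolvable R φ 𝔮 := by
  classical
  obtain ⟨C, _, _, hfpC, g, h, hgh, hC⟩ :=
    Groth.Agent.S2033.result (Rₚ := Rₚ) (Λq := Λq) φ 𝔮 hmin hres
  -- an element of `H_{C/R}` not mapping into `𝔮`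
  have hex : ∃ c ∈ Smoothing.singularIdeal R C, h c ∉ 𝔮 := by
    by_contra hcon
    push_neg at hcon
    apply hC
    rw [Ideal.map_le_iff_le_comap]
    intro c hc
    exact hcon c hc
  obtain ⟨c, hc, hcq⟩ := hex
  -- generators of `H_{A/R}`
  haveI : IsNoetherianRing A := Algebra.FiniteType.isNoetherianRing R A
  obtain ⟨s, hs⟩ := (isNoetherianRing_iff_ideal_fg A).1 inferInstance
    (Smoothing.singularIdeal R A)
  have hsmem : ∀ x ∈ s, x ∈ Smoothing.singularIdeal R A := fun x hx => by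
    rw [← hs]; exact Ideal.subset_span hx
  -- nilpotency in `Λq`
  haveI : IsLocalRing Λq := IsLocalization.AtPrime.isLocalRing Λq 𝔮
  haveI : Ring.KrullDimLE 0 Λq := Ring.krullDimLE_iff.2 (le_of_eq hdim)
  have hle : Smoothing.singRad R φ ≤ 𝔮 := hmin.1.2
  have hnil : ∀ x ∈ Smoothing.singularIdeal R A, ∃ l ∈ 𝔮.primeCompl, ∃ N : ℕ,
      l * φ x ^ N = 0 := by
    intro x hx
    have h1 : φ x ∈ 𝔮 := hle (Ideal.le_radical (Ideal.mem_map_of_mem _ hx))
    have h2 : algebraMap Λ Λq (φ x) ∈ IsLocalRing.maximalIdeal Λq :=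
      (IsLocalization.AtPrime.to_map_mem_maximal_iff Λq 𝔮 (φ x)).2 h1
    obtain ⟨N, hN⟩ := Ring.KrullDimLE.isNilpotent_iff_mem_maximalIdeal.2 h2
    rw [← map_pow] at hN
    obtain ⟨m, hm⟩ := (IsLocalization.map_eq_zero_iff 𝔮.primeCompl Λq _).1 hN
    exact ⟨m, m.2, N, hm⟩
  -- enumerate the generators
  let r := s.card
  let a : Fin r → A := fun i => (s.equivFin.symm i : A)
  have ha : ∀ i, a i ∈ Smoothing.singularIdeal R A := fun i => hsmem _ (s.equivFin.symm i).2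
  have hax : ∀ x ∈ s, ∃ i, a i = x := fun x hx =>
    ⟨s.equivFin ⟨x, hx⟩, by simp only [a, Equiv.symm_apply_apply]⟩
  choose l hl N hN using fun i => hnil (a i) (ha i)
  let lam : Λ := ∏ i, l i
  let NN : ℕ := ∑ i, N i
  have hlam : lam ∈ 𝔮.primeCompl := prod_mem fun i _ => hl i
  have hkill : ∀ i, lam * φ (a i) ^ NN = 0 := by
    intro i
    obtain ⟨k, hk⟩ : l i ∣ lam := Finset.dvd_prod_of_mem l (Finset.mem_univ i)
    have hNle : N i ≤ NN := Finset.single_le_sum (f := N) (fun _ _ => Nat.zero_le _)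
      (Finset.mem_univ i)
    obtain ⟨d, hd⟩ := Nat.exists_eq_add_of_le hNle
    rw [hk, hd, pow_add]
    calc l i * k * (φ (a i) ^ N i * φ (a i) ^ d)
        = (l i * φ (a i) ^ N i) * (k * φ (a i) ^ d) := by ring
      _ = 0 := by rw [hN, zero_mul]
  obtain ⟨B, _, _, hfpB, α, β, hαβ, hA, hCC⟩ :=
    Groth.Agent.H91.Glue.glue φ g h hgh a NN lam hkill
  refine ⟨B, inferInstance, inferInstance, hfpB, α, β, hαβ, ?_, ?_⟩
  · unfold Smoothing.singRad
    rw [Ideal.radical_le_radical_iff, ← hs, Ideal.map_span, Ideal.span_le]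
    rintro _ ⟨x, hx, rfl⟩
    obtain ⟨i, rfl⟩ := hax x hx
    obtain ⟨b, hb, hbe⟩ := hA i (ha i)
    refine ⟨NN + 1, ?_⟩
    change φ (a i) ^ (NN + 1) ∈ _
    rw [← hbe]
    exact Ideal.mem_map_of_mem _ hb
  · intro hcon
    obtain ⟨b, hb, hbe⟩ := hCC c hc
    have h1 : β b ∈ 𝔮 := hcon (Ideal.le_radical (Ideal.mem_map_of_mem _ hb))
    rw [hbe] at h1
    rcases Ideal.IsPrime.mem_or_mem inferInstance h1 with h2 | h2
    · exact hlam h2
    · exact hcq h2

end Groth.Agent.S2034
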