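import Groth.Statements.S14128
import Groth.Agent.H70.Acyc.Depth

set_option autoImplicit false
universe u
open CategoryTheory CategoryTheory.Limits
open LocAlg

namespace Groth.Agent.S14128

open Groth.Agent.H70.Acyc Groth.Agent.H70.Planar IsLocalRing

section aux

variable {R : Type u} [CommRing R] [IsLocalRing R]

theorem E1 (S : ShortComplex (ModuleCat.{u} R))
    (h2 : D (kk R) 1 S.X₂) (h1 : D (kk R) 2 (ModuleCat.of R (LinearMap.range S.f.hom)))
    (hfl : IsFiniteLength R S.homology) :
    IsZero S.homology ∧ LinearMap.ker S.g.hom = LinearMap.range S.f.hom := by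
  have hle : LinearMap.range S.f.hom ≤ LinearMap.ker S.g.hom := by
    rintro _ ⟨x, rfl⟩
    exact S.moduleCat_zero_apply x
  -- depth of the cycles
  have hZ : D (kk R) 1 (ModuleCat.of R (LinearMap.ker S.g.hom)) := by
    let T : ShortComplex (ModuleCat.{u} R) :=
      ShortComplex.mk (ModuleCat.ofHom (LinearMap.ker S.g.hom).subtype) S.g (by
        ext x
        exact x.2)
    have hT : Mono T.f := (ModuleCat.mono_iff_injective _).mpr Subtype.val_injective
    exact D.X₁_one (S := T) hT h2
  -- depth of the boundaries inside the cycles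
  have hBs : D (kk R) 2 (ModuleCat.of R (LinearMap.range S.moduleCatToCycles)) := by
    have e : LinearMap.range S.f.hom ≃ₗ[R] LinearMap.range S.moduleCatToCycles :=
      (Submodule.comapSubtypeEquivOfLe hle).symm.trans
        (LinearEquiv.ofEq _ _ (LinearMap.range_codRestrict _ _ _).symm)
    exact h1.of_iso e.toModuleIso
  have hSES := shortExact_of_exact (LinearMap.range S.moduleCatToCycles).subtype
    (LinearMap.range S.moduleCatToCycles).mkQ Subtype.val_injective
    (Submodule.mkQ_surjective _) (LinearMap.exact_subtype_mkQ _)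
  have hH : D (kk R) 1 (ModuleCat.of R
      (LinearMap.ker S.g.hom ⧸ LinearMap.range S.moduleCatToCycles)) := D.X₃ hSES hZ hBs
  have hsf := socleFree_of_D hH
  have hfl' : IsFiniteLength R (LinearMap.ker S.g.hom ⧸ LinearMap.range S.moduleCatToCycles) :=
    hfl.of_injective (f := S.moduleCatHomologyIso.inv.hom)
      ((ModuleCat.mono_iff_injective _).mp inferInstance)
  haveI hsub := subsingleton_of_socleFree_of_isFiniteLength hsf hfl'
  constructor
  · have hz : IsZero (ModuleCat.of R
        (LinearMap.ker S.g.hom ⧸ LinearMap.range S.moduleCatToCycles)) :=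
      @ModuleCat.isZero_of_subsingleton R _ (ModuleCat.of R _) hsub
    exact IsZero.of_iso hz S.moduleCatHomologyIso
  · apply le_antisymm _ hle
    intro z hz
    have htop : LinearMap.range S.moduleCatToCycles = ⊤ :=
      Submodule.Quotient.subsingleton_iff.mp hsub
    have : (⟨z, hz⟩ : LinearMap.ker S.g.hom) ∈ LinearMap.range S.moduleCatToCycles := by
      rw [htop]
      trivial
    obtain ⟨x, hx⟩ := this
    exact ⟨x, congrArg Subtype.val hx⟩

theorem E2 (S : ShortComplex (ModuleCat.{u} R)) {n : ℕ}
    (h2 : D (kk R) n S.X₂) (h1 : D (kk R) (n + 1) (ModuleCat.of R (LinearMap.ker S.g.hom))) :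
    D (kk R) n (ModuleCat.of R (LinearMap.range S.g.hom)) := by
  have hex : Function.Exact (LinearMap.ker S.g.hom).subtype S.g.hom.rangeRestrict := by
    have : LinearMap.ker S.g.hom.rangeRestrict = LinearMap.ker S.g.hom :=
      LinearMap.ker_rangeRestrict _
    rw [← this]
    exact LinearMap.exact_subtype_ker_map _
  have hSES := shortExact_of_exact (LinearMap.ker S.g.hom).subtype S.g.hom.rangeRestrict
    Subtype.val_injective S.g.hom.surjective_rangeRestrict hex
  exact D.X₃ hSES h2 h1

theorem D_range_transport (M : CochainComplex (ModuleCat.{u} R) ℕ) {K : ModuleCat.{u} R} {n : ℕ}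
    {a b c d : ℕ} (h1 : a = c) (h2 : b = d)
    (h : D K n (ModuleCat.of R (LinearMap.range (M.d a b).hom))) :
    D K n (ModuleCat.of R (LinearMap.range (M.d c d).hom)) := by
  subst h1 h2
  exact h

end aux

/-- Let R be a regular local ring of Krull dimension g and M = (M^0 → M^1 → ⋯ → M^g) a perfect complex
over R, here a cochain complex of finitely generated free R-modules indexed by ℕ with M^i = 0 for i
> g, such that every cohomology module H^i(M) has finite length. Then H^i(M) = 0 for all i < g, so
that M has cohomology at most in degree g. -/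
theorem result (R : Type u) [CommRing R]
    [IsRegularLocalRing R] (g : ℕ) (hg : ringKrullDim R = g) (M : CochainComplex (ModuleCat.{u} R) ℕ)
    (hbd : ∀ i, g < i → IsZero (M.X i)) (hfree : ∀ i, Module.Free R (M.X i) ∧ Module.Finite R (M.X i))
    (hfl : ∀ i, IsFiniteLength R (M.homology i)) (i : ℕ) (hi : i < g) :
    IsZero (M.homology i) := by
  have key : ∀ i, i ≤ g → D (kk R) (g + 1 - i) (ModuleCat.of R (LinearMap.range (M.sc i).f.hom)) ∧
      ∀ j < i, IsZero (M.homology j) := by
    intro i
    induction i with
    | zero =>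
      intro _
      refine ⟨?_, fun j hj => absurd hj (Nat.not_lt_zero j)⟩
      have h0 : (M.sc 0).f = 0 := by
        apply M.shape
        simp
      haveI : Subsingleton (LinearMap.range (M.sc 0).f.hom) := by
        rw [h0]
        refine ⟨fun a b => ?_⟩
        obtain ⟨a, x, rfl⟩ := a
        obtain ⟨b, y, rfl⟩ := b
        rfl
      exact D.of_subsingleton _ _
    | succ i ih =>
      intro hi
      obtain ⟨hB, hH⟩ := ih (by omega)
      haveI : Module.Free R (M.X i) := (hfree i).1
      have hF : D (kk R) g (M.X i) := D_of_flat R g hg (M.X i)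
      obtain ⟨hz, hker⟩ := E1 (M.sc i) (hF.mono (by omega)) (hB.mono (by omega)) (hfl i)
      have hZ : D (kk R) (g - i + 1) (ModuleCat.of R (LinearMap.ker (M.sc i).g.hom)) := by
        rw [hker]
        exact hB.mono (by omega)
      have hR := E2 (M.sc i) (hF.mono (Nat.sub_le g i)) hZ
      refine ⟨?_, ?_⟩
      · have := D_range_transport M (CochainComplex.prev_nat_succ i).symm
          (CochainComplex.next ℕ i) hR
        exact this.mono (by omega)
      · intro j hj
        rcases Nat.lt_succ_iff_lt_or_eq.mp hj with h | rfl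
        · exact hH j h
        · exact hz
  exact (key (i + 1) hi).2 i (Nat.lt_succ_self i)

end Groth.Agent.S14128
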