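import Groth.Statements.S2216
import Mathlib.RingTheory.Trace.Basic

set_option autoImplicit false
universe u v
open Disc

namespace Groth.Agent.S2216

/-- Affine finite free case: let A be a Noetherian ring, B an A-algebra with a finite A-basis b, and x
an element of the different of B over A (x Hom_A(B, A) inside B Trace). Then the norm of x lies in
the ideal of A generated by the discriminant of the basis b. -/
theorem result {A : Type u} {B : Type v} [CommRing A]
    [CommRing B] [Algebra A B] [IsNoetherianRing A] {ι : Type} [Fintype ι] [DecidableEq ι]
    (b : Module.Basis ι A B) (x : B) (hx : x ∈ Disc.differentSet A B) :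
    Algebra.norm A x ∈ Ideal.span {Algebra.discr A b} := by
  classical
  choose c hc using fun i : ι => hx (b.coord i)
  let C : Matrix ι ι A := fun i l => b.repr (c i) l
  have hM : Algebra.leftMulMatrix b x = C * Algebra.traceMatrix A b := by
    ext i j
    rw [Algebra.leftMulMatrix_eq_repr_mul, Matrix.mul_apply]
    have h1 : b.repr (x * b j) i = Algebra.trace A B (c i * b j) := hc i (b j)
    rw [h1]
    have h2 : c i = ∑ l, b.repr (c i) l • b l := (b.sum_repr (c i)).symm
    conv_lhs => rw [h2, Finset.sum_mul, map_sum]
    refine Finset.sum_congr rfl (fun l _ => ?_)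
    rw [smul_mul_assoc, map_smul, smul_eq_mul, Algebra.traceMatrix_apply, Algebra.traceForm_apply]
  rw [Algebra.norm_eq_matrix_det b x, hM, Matrix.det_mul, Algebra.discr_def]
  exact Ideal.mul_mem_left _ _ (Ideal.mem_span_singleton_self _)


end Groth.Agent.S2216
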