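import Groth.Statements.S0500
import Groth.Agent.H3.LocalBasis
import Mathlib.RingTheory.AdjoinRoot
import Mathlib.RingTheory.Nakayama
import Mathlib.RingTheory.Spectrum.Prime.RingHom
import Mathlib.Algebra.Polynomial.Taylor
import Mathlib.Tactic.LinearCombination

set_option autoImplicit false
universe u
open Hensel

namespace Groth.Agent.S0500

open Polynomial IsLocalRing in
/-- If every algebra over a local ring that is finitely generated as a module is ring-isomorphic to a
finite product of local rings, then the local ring is henselian. -/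
theorem result (R : Type u) [CommRing R] [IsLocalRing R]
    (h : ∀ (S : Type u) [CommRing S] [Algebra R S], Module.Finite R S →
      ∃ (ι : Type u) (_ : Fintype ι) (A : ι → Type u) (_ : ∀ i, CommRing (A i)),
        (∀ i, IsLocalRing (A i)) ∧ Nonempty (S ≃+* (∀ i, A i))) :
    HenselianLocalRing R := by
  classical
  apply ((HenselianLocalRing.TFAE R).out 0 1).mpr
  intro f hf a₀ h₁ h₂
  obtain ⟨ι, _, A, _, hloc, ⟨φ⟩⟩ := h (AdjoinRoot f) hf.finite_adjoinRoot
  have hfin : Module.Finite R (AdjoinRoot f) := hf.finite_adjoinRoot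
  let x : AdjoinRoot f := AdjoinRoot.root f
  let algS : R →+* AdjoinRoot f := algebraMap R (AdjoinRoot f)
  have halgS : ∀ r s, algS r * s = r • s := fun r s => (Algebra.smul_def r s).symm
  -- evaluation at the residue root
  let ev : AdjoinRoot f →+* ResidueField R := AdjoinRoot.lift (residue R) a₀ h₁
  have hevx : ev x = a₀ := AdjoinRoot.lift_root h₁
  have hevalg : ∀ r, ev (algS r) = residue R r := fun r => by
    change AdjoinRoot.lift (residue R) a₀ h₁ (algebraMap R _ r) = _
    rw [AdjoinRoot.algebraMap_eq]; exact AdjoinRoot.lift_of h₁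
  have hevsurj : Function.Surjective ev := fun y => by
    obtain ⟨r, rfl⟩ := residue_surjective y
    exact ⟨algS r, hevalg r⟩
  have hmax : (RingHom.ker ev).IsMaximal := RingHom.ker_isMaximal_of_surjective ev hevsurj
  have hprime : ((RingHom.ker ev).comap φ.symm.toRingHom).IsPrime := inferInstance
  obtain ⟨i₀, q, hq⟩ := PrimeSpectrum.exists_comap_evalRingHom_eq
    (⟨(RingHom.ker ev).comap φ.symm.toRingHom, hprime⟩ : PrimeSpectrum (∀ i, A i))
  have := hloc i₀
  let γ : AdjoinRoot f →+* A i₀ := (Pi.evalRingHom A i₀).comp φ.toRingHom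
  have hγsurj : Function.Surjective γ := fun y =>
    ⟨φ.symm (Pi.single i₀ y), by simp [γ]⟩
  have hγ1 : ∀ s, ev s = 0 → γ s ∈ maximalIdeal (A i₀) := by
    intro s hs
    have h1 : φ s ∈ (RingHom.ker ev).comap φ.symm.toRingHom := by
      rw [Ideal.mem_comap]
      simpa using hs
    have h2 : φ s ∈ (PrimeSpectrum.comap (Pi.evalRingHom A i₀) q).asIdeal := by
      rw [hq]; exact h1
    exact le_maximalIdeal q.2.ne_top h2
  have hγ2 : ∀ s, γ s ∈ maximalIdeal (A i₀) → ev s = 0 := by
    intro s hs
    by_contra hne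
    obtain ⟨s', hs'⟩ := hevsurj (ev s)⁻¹
    have h0 : ev (s * s' - 1) = 0 := by
      rw [map_sub, map_mul, hs', map_one, mul_inv_cancel₀ hne, sub_self]
    have h3 := hγ1 _ h0
    rw [map_sub, map_mul, map_one] at h3
    have h4 : (1 : A i₀) ∈ maximalIdeal (A i₀) := by
      have := (maximalIdeal (A i₀)).sub_mem ((maximalIdeal (A i₀)).mul_mem_right (γ s') hs) h3
      simpa using this
    exact (maximalIdeal.isMaximal (A i₀)).ne_top ((Ideal.eq_top_iff_one _).mpr h4)
  -- a lift of the residue root
  obtain ⟨a, ha⟩ := residue_surjective a₀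
  have hfa : f.eval a ∈ maximalIdeal R := by
    rw [← residue_eq_zero_iff, ← eval₂_at_apply, ha]
    exact h₁
  have hf'a : IsUnit (f.derivative.eval a) := by
    rw [← residue_ne_zero_iff_isUnit, ← eval₂_at_apply, ha]
    exact h₂
  -- Taylor expansion in `A i₀`
  let g : R →+* A i₀ := γ.comp algS
  have hgx : ∀ p : R[X], (p.map g).eval (γ x) = γ (aeval x p) := by
    intro p
    rw [eval_map, aeval_def, hom_eval₂]
  have hga : ∀ (p : R[X]) (r : R), (p.map g).eval (g r) = g (p.eval r) := by
    intro p r
    rw [eval_map, eval₂_at_apply]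
  have hxroot : aeval x f = 0 := by
    rw [AdjoinRoot.aeval_eq, AdjoinRoot.mk_self]
  have ht : γ x - g a ∈ maximalIdeal (A i₀) := by
    have : γ x - g a = γ (x - algS a) := by simp [g]
    rw [this]
    apply hγ1
    rw [map_sub, hevx, hevalg, ha, sub_self]
  obtain ⟨c, hc⟩ := exists_mul_sq_add_linear_part_eq_eval_add (f.map g) (g a) (γ x - g a)
  rw [add_sub_cancel, hgx, hxroot, map_zero, derivative_map, hga, hga] at hc
  have hu : IsUnit (g (f.derivative.eval a) + c * (γ x - g a)) :=
    Groth.Agent.H3.isUnit_add_of_mem_maximalIdeal (hf'a.map g) (Ideal.mul_mem_left _ c ht)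
  obtain ⟨u, hu⟩ := hu
  obtain ⟨v, hv⟩ := hγsurj (↑u⁻¹ : A i₀)
  have htv : γ x - g a = γ (-(v * algS (f.eval a))) := by
    rw [map_neg, map_mul, hv]
    have h5 : (u : A i₀) * (γ x - g a) = - g (f.eval a) := by
      rw [hu]; linear_combination hc
    have h6 : γ x - g a = ↑u⁻¹ * ((u : A i₀) * (γ x - g a)) := by
      rw [← mul_assoc, Units.inv_mul, one_mul]
    rw [h6, h5]
    simp [g]
  -- Nakayama
  let K : Submodule R (AdjoinRoot f) := (RingHom.ker γ).restrictScalars R
  have hNak : (⊤ : Submodule R (AdjoinRoot f)) ≤ Submodule.span R {1} ⊔ K := by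
    apply Submodule.le_of_le_smul_of_le_jacobson_bot (I := maximalIdeal R)
      (Module.Finite.fg_top) (maximalIdeal_le_jacobson ⊥)
    intro s _
    obtain ⟨p, rfl⟩ := AdjoinRoot.mk_surjective s
    have hdvd : x - algS a ∣ aeval x p - aeval (algS a) p := by
      rw [aeval_def, aeval_def, ← eval_map, ← eval_map]
      exact sub_dvd_eval_sub _ _ _
    obtain ⟨w, hw⟩ := hdvd
    have hdecomp : AdjoinRoot.mk f p = (p.eval a) • (1 : AdjoinRoot f) +
        ((x - algS a + v * algS (f.eval a)) * w) + (f.eval a) • (-(v * w)) := by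
      have e1 : aeval (algS a) p = (p.eval a) • (1 : AdjoinRoot f) := by
        rw [aeval_algebraMap_apply, Algebra.algebraMap_eq_smul_one, coe_aeval_eq_eval]
      rw [← AdjoinRoot.aeval_eq, ← e1]
      have e2 : (f.eval a) • (-(v * w)) = -(v * algS (f.eval a) * w) := by
        rw [← halgS]; ring
      rw [e2]
      linear_combination hw
    rw [hdecomp]
    refine Submodule.add_mem _ (Submodule.mem_sup_left (Submodule.add_mem _
      (Submodule.mem_sup_left (Submodule.smul_mem _ _ (Submodule.subset_span rfl)))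
      (Submodule.mem_sup_right ?_))) (Submodule.mem_sup_right
        (Submodule.smul_mem_smul hfa Submodule.mem_top))
    change _ ∈ RingHom.ker γ
    rw [RingHom.mem_ker, map_mul]
    have : γ (x - algS a + v * algS (f.eval a)) = 0 := by
      have e3 : γ (x - algS a) = γ x - g a := by simp [g]
      rw [map_add, e3, htv, map_neg, neg_add_cancel]
    rw [this, zero_mul]
  obtain ⟨y, hy, k, hk, hyk⟩ := Submodule.mem_sup.mp (hNak (Submodule.mem_top : x ∈ ⊤))
  obtain ⟨a', rfl⟩ := Submodule.mem_span_singleton.mp hy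
  have hk0 : γ k = 0 := hk
  have hxa' : γ x = g a' := by
    rw [← hyk, map_add, hk0, add_zero, Algebra.smul_def, mul_one]
    rfl
  -- the idempotent
  let e : AdjoinRoot f := φ.symm (Pi.single i₀ 1)
  have hγe : γ e = 1 := by simp [γ, e]
  have hinj : ∀ r : R, g r = 0 → r = 0 := by
    intro r hr
    apply Groth.Agent.H3.eq_zero_of_smul_eq_zero_of_notMem_smul_top
      (AdjoinRoot.powerBasis' hf).basis e
    · intro he
      have h7 : γ e ∈ maximalIdeal (A i₀) := by
        have hle : (maximalIdeal R) • (⊤ : Submodule R (AdjoinRoot f)) ≤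
            ((maximalIdeal (A i₀)).comap γ).restrictScalars R := by
          rw [Submodule.smul_le]
          intro r hr s _
          change γ (r • s) ∈ maximalIdeal (A i₀)
          rw [Algebra.smul_def, map_mul]
          apply Ideal.mul_mem_right
          apply hγ1
          change ev (algS r) = 0
          rw [hevalg, residue_eq_zero_iff]
          exact hr
        exact hle he
      rw [hγe] at h7
      exact (maximalIdeal.isMaximal (A i₀)).ne_top ((Ideal.eq_top_iff_one _).mpr h7)
    · apply φ.injective
      rw [Algebra.smul_def, map_mul, map_zero]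
      ext i
      by_cases hi : i = i₀
      · subst hi
        have h9 : φ (algebraMap R (AdjoinRoot f) r) i = 0 := hr
        rw [Pi.mul_apply, h9, zero_mul]; rfl
      · simp [e, Pi.single_eq_of_ne hi]
  refine ⟨a', ?_, ?_⟩
  · apply hinj
    rw [← hga, ← hxa', hgx, hxroot, map_zero]
  · have h8 : ev (x - algS a') = 0 := by
      apply hγ2
      have : γ (x - algS a') = γ x - g a' := by simp [g]
      rw [this, hxa', sub_self]
      exact zero_mem _
    rw [map_sub, hevx, hevalg, sub_eq_zero] at h8
    exact h8.symm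

end Groth.Agent.S0500
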