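import Groth.Statements.S1964
import Groth.Agent.S0499
import Groth.Agent.S0505
import Mathlib

set_option autoImplicit false
universe u
open EtAlg

namespace Groth.Agent.S1964

open Polynomial

/-- A domain which is a finite product of local rings is local. -/
theorem isLocalRing_of_domain_of_equiv_pi {C : Type u} [CommRing C] [IsDomain C] {ι : Type u}
    [Fintype ι] (A : ι → Type u) [∀ i, CommRing (A i)] [∀ i, IsLocalRing (A i)]
    (e : C ≃+* (∀ i, A i)) : IsLocalRing C := by
  classical
  have hsub : ∀ i j : ι, i = j := by
    intro i j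
    by_contra hij
    have h0 : e.symm (Pi.single i 1) * e.symm (Pi.single j 1) = 0 := by
      rw [← map_mul]
      have : (Pi.single i 1 : ∀ i, A i) * Pi.single j 1 = 0 := by
        ext k
        by_cases hk : k = i
        · subst hk
          simp [Pi.single_eq_of_ne hij]
        · simp [Pi.single_eq_of_ne hk]
      rw [this, map_zero]
    have key : ∀ k : ι, e.symm (Pi.single k 1) ≠ 0 := by
      intro k h
      have h1 := e.symm.injective (h.trans (map_zero _).symm)
      have h2 := congrFun h1 k
      simp at h2
    rcases mul_eq_zero.1 h0 with h | h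
    · exact key i h
    · exact key j h
  have hne : Nonempty ι := by
    by_contra hne
    rw [not_nonempty_iff] at hne
    have : Subsingleton C := e.injective.subsingleton
    exact not_subsingleton C this
  obtain ⟨i₀⟩ := hne
  letI : Unique ι := ⟨⟨i₀⟩, fun j => hsub j i₀⟩
  exact ((e.trans (RingEquiv.piUnique A)).symm).isLocalRing

/-- A domain finite over a henselian local ring is local. -/
theorem isLocalRing_of_finite_domain (A C : Type u) [CommRing A] [HenselianLocalRing A]
    [CommRing C] [IsDomain C] [Algebra A C] [Module.Finite A C] : IsLocalRing C := by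
  obtain ⟨ι, _, Ai, _, hloc, ⟨e⟩⟩ := Groth.Agent.S0499.result A C
  haveI := hloc
  exact isLocalRing_of_domain_of_equiv_pi Ai e

section
variable (A B : Type u) [CommRing A] [HenselianLocalRing A] [CommRing B]
    [IsDomain B] [Algebra A B] [Algebra.IsIntegral A B]

/-- the subalgebra generated by a finite set is a local henselian domain. -/
theorem adjoin_props (s : Set B) (hs : s.Finite) :
    ∃ _ : HenselianLocalRing (Algebra.adjoin A s), IsLocalHom (algebraMap (Algebra.adjoin A s) B) := by
  haveI : Module.Finite A (Algebra.adjoin A s) :=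
    Module.Finite.iff_fg.2 (fg_adjoin_of_finite hs fun x _ => Algebra.IsIntegral.isIntegral x)
  haveI : IsLocalRing (Algebra.adjoin A s) := isLocalRing_of_finite_domain A _
  refine ⟨Groth.Agent.S0505.result A _, ?_⟩
  haveI : Algebra.IsIntegral (Algebra.adjoin A s) B := Algebra.IsIntegral.tower_top (R := A)
  haveI : FaithfulSMul (Algebra.adjoin A s) B :=
    (faithfulSMul_iff_algebraMap_injective _ _).2 Subtype.val_injective
  exact Algebra.IsIntegral.isLocalHom _ _

include A in
theorem isLocalRing_B : IsLocalRing B := by
  refine IsLocalRing.of_isUnit_or_isUnit_one_sub_self fun b => ?_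
  obtain ⟨hC, -⟩ := adjoin_props A B {b} (Set.finite_singleton b)
  let b' : Algebra.adjoin A ({b} : Set B) := ⟨b, Algebra.subset_adjoin rfl⟩
  rcases IsLocalRing.isUnit_or_isUnit_one_sub_self b' with h | h
  · left
    exact h.map (algebraMap (Algebra.adjoin A ({b} : Set B)) B)
  · right
    exact h.map (algebraMap (Algebra.adjoin A ({b} : Set B)) B)

omit [IsDomain B] in
theorem isLocalHom_AB [IsLocalRing B] : IsLocalHom (algebraMap A B) := by
  refine ⟨fun a ha => ?_⟩
  by_contra hna
  have hker : RingHom.ker (algebraMap A B) ≤ IsLocalRing.maximalIdeal A :=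
    IsLocalRing.le_maximalIdeal (RingHom.ker_ne_top _)
  obtain ⟨Q, hQ, hQc⟩ := Ideal.exists_ideal_over_maximal_of_isIntegral
    (IsLocalRing.maximalIdeal A) hker
  have : a ∈ Q.comap (algebraMap A B) := by rw [hQc]; exact hna
  exact hQ.ne_top (Ideal.eq_top_of_isUnit_mem _ this ha)

include A in
theorem henselian_B [IsLocalRing B] : HenselianLocalRing B := by
  classical
  refine { is_henselian := ?_ }
  intro f hf a₀ h0 hu
  set s : Set B := insert a₀ (f.coeffs : Set B) with hs
  have hsfin : s.Finite := (Finset.finite_toSet _).insert _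
  obtain ⟨hC, hloc⟩ := adjoin_props A B s hsfin
  set C := Algebra.adjoin A s with hCdef
  have hlifts : f ∈ Polynomial.lifts (algebraMap C B) := by
    rw [Polynomial.lifts_iff_coeff_lifts]
    intro k
    by_cases hk : f.coeff k = 0
    · exact ⟨0, by rw [map_zero, hk]⟩
    · exact ⟨⟨f.coeff k, Algebra.subset_adjoin
        (Set.mem_insert_of_mem _ (Polynomial.coeff_mem_coeffs hk))⟩, rfl⟩
  obtain ⟨g, hg, -, hgm⟩ := Polynomial.lifts_and_natDegree_eq_and_monic hlifts hf
  let a₀' : C := ⟨a₀, Algebra.subset_adjoin (Set.mem_insert _ _)⟩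
  have e1 : algebraMap C B (g.eval a₀') = f.eval a₀ := by
    rw [← hg, Polynomial.eval_map, ← Polynomial.eval₂_at_apply]; rfl
  have e2 : algebraMap C B (g.derivative.eval a₀') = f.derivative.eval a₀ := by
    rw [← hg, Polynomial.derivative_map, Polynomial.eval_map, ← Polynomial.eval₂_at_apply]; rfl
  have h0' : g.eval a₀' ∈ IsLocalRing.maximalIdeal C := by
    intro hunit
    exact h0 (e1 ▸ hunit.map (algebraMap C B))
  have hu' : IsUnit (g.derivative.eval a₀') := by
    apply hloc.map_nonunit
    rw [e2]; exact hu
  obtain ⟨a, ha, haa⟩ := HenselianLocalRing.is_henselian g hgm a₀' h0' hu'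
  refine ⟨algebraMap C B a, ?_, ?_⟩
  · rw [Polynomial.IsRoot.def, ← hg, Polynomial.eval_map, Polynomial.eval₂_at_apply, ha, map_zero]
  · intro hunit
    apply haa
    apply hloc.map_nonunit
    rw [map_sub]
    exact hunit

omit [IsDomain B] in
theorem residue_algebraic [IsLocalRing B] [IsLocalHom (algebraMap A B)] :
    letI := (IsLocalRing.ResidueField.map (algebraMap A B)).toAlgebra
    Algebra.IsAlgebraic (IsLocalRing.ResidueField A) (IsLocalRing.ResidueField B) := by
  letI := (IsLocalRing.ResidueField.map (algebraMap A B)).toAlgebra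
  refine ⟨fun y => ?_⟩
  obtain ⟨b, rfl⟩ := IsLocalRing.residue_surjective y
  obtain ⟨p, hp, hpb⟩ := Algebra.IsIntegral.isIntegral (R := A) b
  refine IsIntegral.isAlgebraic ⟨p.map (IsLocalRing.residue A), hp.map _, ?_⟩
  rw [Polynomial.eval₂_map]
  have : (algebraMap (IsLocalRing.ResidueField A) (IsLocalRing.ResidueField B)).comp
      (IsLocalRing.residue A) = (IsLocalRing.residue B).comp (algebraMap A B) := by
    rw [RingHom.algebraMap_toAlgebra]
    exact IsLocalRing.ResidueField.map_comp_residue _
  rw [this, ← Polynomial.hom_eval₂, hpb, map_zero]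

end

/-- A domain B integral over a henselian local ring A is itself henselian local, and the structure map A
-> B is local; if the residue field of A is separably closed, so is that of B, and the residue field
extension is purely inseparable. -/
theorem result (A B : Type u) [CommRing A] [HenselianLocalRing A] [CommRing B]
    [IsDomain B] [Algebra A B] [Algebra.IsIntegral A B] :
    ∃ _ : HenselianLocalRing B, IsLocalHom (algebraMap A B) ∧
      (IsSepClosed (IsLocalRing.ResidueField A) →
        IsSepClosed (IsLocalRing.ResidueField B) ∧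
        ∀ _ : IsLocalHom (algebraMap A B),
          letI := (IsLocalRing.ResidueField.map (algebraMap A B)).toAlgebra
          IsPurelyInseparable (IsLocalRing.ResidueField A) (IsLocalRing.ResidueField B)) := by
  haveI hloc : IsLocalRing B := isLocalRing_B A B
  have hH : HenselianLocalRing B := henselian_B A B
  haveI hlh : IsLocalHom (algebraMap A B) := isLocalHom_AB A B
  refine ⟨hH, hlh, fun hsep => ?_⟩
  haveI := hsep
  refine ⟨?_, fun h => ?_⟩
  · letI := (IsLocalRing.ResidueField.map (algebraMap A B)).toAlgebra
    haveI := residue_algebraic A B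
    exact Algebra.IsAlgebraic.isSepClosed (F := IsLocalRing.ResidueField A)
  · letI := (IsLocalRing.ResidueField.map (algebraMap A B)).toAlgebra
    haveI := residue_algebraic A B
    infer_instance

end Groth.Agent.S1964
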