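import Groth.Statements.S2176
import Groth.Agent.H11.NumType

set_option autoImplicit false
open Finset
open Models Models.NumericalType

namespace Groth.Agent.S2176

/-- A minimal numerical type (no (-1)-index) with n > 1 indices has genus at least 1. -/
theorem result {n : ℕ} (T : Models.NumericalType n) (hmin : T.IsMinimal) (hn : 1 < n) : 1 ≤ T.genus := by
  obtain ⟨s, hs⟩ := Groth.Agent.H11.NT.two_dvd_sum T
  unfold Models.NumericalType.genus
  rw [hs, Int.mul_ediv_cancel_left _ (by norm_num : (2 : ℤ) ≠ 0)]
  have hterm : ∀ i, 0 ≤ T.m i * (2 * T.w i * (T.g i - 1) - T.a i i) := by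
    intro i
    refine mul_nonneg (T.m_pos i).le ?_
    obtain ⟨k, hk⟩ := T.w_dvd i i
    have hneg := Groth.Agent.H11.NT.diag_neg T hn i
    have hw := T.w_pos i
    have hg := T.g_nonneg i
    have hk_neg : k < 0 := by
      by_contra h
      rw [not_lt] at h
      have := mul_nonneg hw.le h
      omega
    rw [hk]
    have hfac : 2 * T.w i * (T.g i - 1) - T.w i * k = T.w i * (2 * T.g i - 2 - k) := by ring
    rw [hfac]
    refine mul_nonneg hw.le ?_
    rcases eq_or_lt_of_le hg with hg0 | hgpos
    · have hk1 : k ≠ -1 := by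
        intro h
        apply hmin i
        refine ⟨hg0.symm, ?_⟩
        rw [hk, h]; ring
      omega
    · omega
  have hsum : 0 ≤ ∑ i, T.m i * (2 * T.w i * (T.g i - 1) - T.a i i) :=
    Finset.sum_nonneg (fun i _ => hterm i)
  have hsplit : ∑ i, T.m i * (2 * T.w i * (T.g i - 1) - T.a i i) =
      2 * ∑ i, T.m i * T.w i * (T.g i - 1) - ∑ i, T.m i * T.a i i := by
    rw [Finset.mul_sum, ← Finset.sum_sub_distrib]
    exact Finset.sum_congr rfl (fun i _ => by ring)
  rw [hsplit, hs] at hsum
  omega


end Groth.Agent.S2176
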