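import Groth.Statements.S15293
import Mathlib
import Groth.Agent.H76.DeRham

set_option autoImplicit false
universe u
open DeRham

namespace Groth.Agent.S15293

open exteriorPower in
/-- For a commutative square of ring maps R → A → B, R → S → B (B an algebra over R, A and S
compatibly), there is a family of additive maps ψ_p from the p-forms of A over R to the p-forms of B
over S, p ≥ 0, which is the map of de Rham complexes induced by the square: ψ_p sends b₀ db₁ ∧ … ∧
db_p to g(b₀) d(g b₁) ∧ … ∧ d(g b_p), where g : A → B is the structure map. In degree 0 this is g
and in degree 1 the induced map on Kähler differentials. -/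
theorem result (R S A B : Type u) [CommRing R] [CommRing S] [CommRing A] [CommRing B]
    [Algebra R S] [Algebra R A] [Algebra R B] [Algebra A B] [Algebra S B]
    [IsScalarTower R A B] [IsScalarTower R S B] :
    ∃ ψ : ∀ p : ℕ, ↥(⋀[A]^p (Ω[A⁄R])) →+ ↥(⋀[B]^p (Ω[B⁄S])),
      DeRham.IsCxMap (KaehlerDifferential.D R A) (KaehlerDifferential.D S B) (algebraMap A B) ψ := by
  classical
  have : SMulCommClass S A B :=
    ⟨fun s a b => by simp only [Algebra.smul_def]; ring⟩
  refine ⟨fun p => ?_, ?_⟩
  · let f : (Ω[A⁄R]) [⋀^Fin p]→ₗ[A] ↥(⋀[B]^p (Ω[B⁄S])) :=
      { toFun := fun ω => exteriorPower.ιMulti B p (fun i => KaehlerDifferential.map R S A B (ω i))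
        map_update_add' := by
          intro _ ω i x y
          have h : ∀ z : Ω[A⁄R], (fun j => KaehlerDifferential.map R S A B (Function.update ω i z j))
              = Function.update (fun j => KaehlerDifferential.map R S A B (ω j)) i
                  (KaehlerDifferential.map R S A B z) := by
            intro z; funext j
            by_cases hj : j = i
            · subst hj; simp
            · simp [Function.update_of_ne hj]
          simp only [h, map_add]
          exact (exteriorPower.ιMulti B p).map_update_add _ i _ _
        map_update_smul' := by
          intro _ ω i c x
          have h : ∀ z : Ω[A⁄R], (fun j => KaehlerDifferential.map R S A B (Function.update ω i z j))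
              = Function.update (fun j => KaehlerDifferential.map R S A B (ω j)) i
                  (KaehlerDifferential.map R S A B z) := by
            intro z; funext j
            by_cases hj : j = i
            · subst hj; simp
            · simp [Function.update_of_ne hj]
          simp only [h, map_smul]
          rw [← algebraMap_smul B c (KaehlerDifferential.map R S A B x),
            (exteriorPower.ιMulti B p).map_update_smul, algebraMap_smul]
        map_eq_zero_of_eq' := by
          intro ω i j hij hne
          exact (exteriorPower.ιMulti B p).map_eq_zero_of_eq _ (by simp [hij]) hne }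
    exact (exteriorPower.alternatingMapLinearEquiv f).toAddMonoidHom
  · intro p b₀ b
    simp only [DeRham.gen, LinearMap.toAddMonoidHom_coe, map_smul,
      exteriorPower.alternatingMapLinearEquiv_apply_ιMulti]
    simp only [AlternatingMap.coe_mk, MultilinearMap.coe_mk, KaehlerDifferential.map_D]
    rw [algebraMap_smul]

end Groth.Agent.S15293
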