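import Groth.Statements.S19602
import Groth.Agent.H93.ReynoldsAlg
import Groth.Agent.H59.Orbit

set_option autoImplicit false
universe u
open GIT

namespace Groth.Agent.S19602

/-- Let k be an algebraically closed field, G = Spec A a linearly reductive affine algebraic group over
k, and U = Spec R an affine k-scheme of finite type on which G acts. Two k-points x₁, x₂ of U have
the same image in U//G = Spec R^G if and only if the closures of their orbits have a common k-point.
Stated in coaction form. The published statement allows any affine U and asks only that the two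
orbit closures meet; this row assumes U of finite type over k and asks for a common k-point, which
is then equivalent. -/
theorem result (k : Type u) [Field k] [IsAlgClosed k]
    (A : Type u) [CommRing A] [HopfAlgebra k A] [Algebra.FiniteType k A] (hG : HopfRep.IsLinearlyReductive k A)
    (R : Type u) [CommRing R] [Algebra k R] [Algebra.FiniteType k R] [HopfRep.Comod k A R] [GLin.IsCoactAlg k A R]
    (x₁ x₂ : R →ₐ[k] k) :
    x₁.comp (GLin.invariants k A R).val = x₂.comp (GLin.invariants k A R).val ↔
      ∃ z : R →ₐ[k] k, GLin.InOrbitClosure k A x₁ z ∧ GLin.InOrbitClosure k A x₂ z := by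
  classical
  obtain ⟨E, hE1, hE2, -, hE4⟩ := Groth.Agent.H93.exists_reynolds (R := R) hG
  -- the orbit morphism is `theta`
  have horb : ∀ (x : R →ₐ[k] k) (f : R),
      GLin.orbitHom k A x f = Groth.Agent.H59.Orbit.theta (A := A) x f := by
    intro x f
    change (Algebra.TensorProduct.lid k A) ((Algebra.TensorProduct.map x (AlgHom.id k A))
      (HopfRep.Comod.coact (k := k) (A := A) f)) = _
    rw [Groth.Agent.H59.Orbit.theta_apply]
    generalize HopfRep.Comod.coact (k := k) (A := A) f = t
    induction t using TensorProduct.induction_on with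
    | zero => simp
    | add s t hs ht => simp only [map_add, hs, ht]
    | tmul r a => simp
  have hker : ∀ (x : R →ₐ[k] k) (f : R), f ∈ RingHom.ker (GLin.orbitHom k A x) ↔
      f ∈ LinearMap.ker (Groth.Agent.H59.Orbit.theta (A := A) x) := by
    intro x f
    rw [RingHom.mem_ker, LinearMap.mem_ker, horb]
  have hsub : ∀ x : R →ₐ[k] k, HopfRep.IsSubcomod (k := k) (A := A)
      (LinearMap.ker (Groth.Agent.H59.Orbit.theta (A := A) x)) :=
    fun x => Groth.Agent.H93.isSubcomod_ker (Groth.Agent.H59.Orbit.theta_isComodHom x)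
  have hxker : ∀ (x : R →ₐ[k] k) (f : R), f ∈ RingHom.ker (GLin.orbitHom k A x) → x f = 0 := by
    intro x f hf
    rw [RingHom.mem_ker, horb] at hf
    rw [← Groth.Agent.H59.Orbit.counit_theta (A := A) x f, hf, map_zero]
  constructor
  · intro h12
    have hne : RingHom.ker (GLin.orbitHom k A x₁) ⊔ RingHom.ker (GLin.orbitHom k A x₂) ≠ ⊤ := by
      intro htop
      have h1 : (1 : R) ∈ RingHom.ker (GLin.orbitHom k A x₁) ⊔ RingHom.ker (GLin.orbitHom k A x₂) := by
        rw [htop]; exact Submodule.mem_top
      obtain ⟨a₁, ha₁, a₂, ha₂, hsum⟩ := Submodule.mem_sup.1 h1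
      have hEa₁ : E a₁ ∈ RingHom.ker (GLin.orbitHom k A x₁) :=
        (hker x₁ _).2 (hE4 _ (hsub x₁) a₁ ((hker x₁ _).1 ha₁))
      have hEa₂ : E a₂ ∈ RingHom.ker (GLin.orbitHom k A x₂) :=
        (hker x₂ _).2 (hE4 _ (hsub x₂) a₂ ((hker x₂ _).1 ha₂))
      have e1 : x₁ (E a₁) = 0 := hxker x₁ _ hEa₁
      have e2 : x₂ (E a₂) = 0 := hxker x₂ _ hEa₂
      have e3 : x₁ (E a₁) = x₂ (E a₁) := by
        have := congrArg (fun φ : ↥(GLin.invariants k A R) →ₐ[k] k => φ ⟨E a₁, hE1 a₁⟩) h12
        exact this
      have e4 : E (1 : R) = 1 := hE2 1 (GLin.invariants k A R).one_mem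
      have e5 : x₂ (E a₁ + E a₂) = 1 := by
        rw [← map_add, hsum, e4, map_one]
      rw [map_add, ← e3, e1, e2, add_zero] at e5
      exact zero_ne_one e5
    obtain ⟨z, hz⟩ := Groth.Agent.H59.Orbit.exists_point_of_ne_top (k := k) _ hne
    refine ⟨z, ?_, ?_⟩
    · intro f hf
      exact hz f (Ideal.mem_sup_left hf)
    · intro f hf
      exact hz f (Ideal.mem_sup_right hf)
  · rintro ⟨z, hz₁, hz₂⟩
    have key : ∀ (x : R →ₐ[k] k), GLin.InOrbitClosure k A x z →
        ∀ f ∈ GLin.invariants k A R, z f = x f := by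
      intro x hz f hf
      have hf' : HopfRep.Comod.coact (k := k) (A := A) f = f ⊗ₜ[k] (1 : A) := hf
      have h1 : GLin.orbitHom k A x f = algebraMap k A (x f) := by
        rw [horb, Groth.Agent.H59.Orbit.theta_apply, hf', Groth.Agent.H59.Orbit.ev_tmul,
          Algebra.algebraMap_eq_smul_one]
      have h2 : f - algebraMap k R (x f) ∈ RingHom.ker (GLin.orbitHom k A x) := by
        rw [RingHom.mem_ker, map_sub, h1, AlgHom.commutes, sub_self]
      have h3 := hz h2
      rw [RingHom.mem_ker, map_sub, AlgHom.commutes, sub_eq_zero] at h3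
      rw [h3]
      rfl
    apply AlgHom.ext
    intro f
    change x₁ (f : R) = x₂ (f : R)
    rw [← key x₁ hz₁ f f.2, ← key x₂ hz₂ f f.2]

end Groth.Agent.S19602
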