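import Groth.Statements.S4610
import Mathlib

set_option autoImplicit false
universe u
open EGA41

namespace Groth.Agent.S4610

open Polynomial in
/-- The quotient ring `A[T_1, …, T_r]/(F_1(T_1), …, F_r(T_r))`. -/
abbrev Q {A : Type u} [CommRing A] (r : ℕ) (F : Fin r → Polynomial A) : Type u :=
  MvPolynomial (Fin r) A ⧸ Ideal.span (Set.range fun i =>
    Polynomial.aeval (MvPolynomial.X i : MvPolynomial (Fin r) A) (F i))

section step

variable {A : Type u} [CommRing A] {r : ℕ} (G : Fin (r + 1) → Polynomial A)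

/-- The polynomial `G 0` over the quotient for the remaining variables. -/
noncomputable abbrev g0 : Polynomial (Q r fun i => G i.succ) :=
  (G 0).map (algebraMap A (Q r fun i => G i.succ))

/-- The images of the variables. -/
noncomputable def v : Fin (r + 1) → AdjoinRoot (g0 G) :=
  Fin.cons (AdjoinRoot.root (g0 G))
    (fun i => AdjoinRoot.of (g0 G) (Ideal.Quotient.mk _ (MvPolynomial.X i)))

lemma v_zero : v G 0 = AdjoinRoot.root (g0 G) := rfl

lemma v_succ (i : Fin r) :
    v G i.succ = AdjoinRoot.of (g0 G) (Ideal.Quotient.mk _ (MvPolynomial.X i)) := by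
  simp [v]

lemma aeval_v (i : Fin (r + 1)) : Polynomial.aeval (v G i) (G i) = 0 := by
  refine Fin.cases ?_ (fun j => ?_) i
  · rw [v_zero, AdjoinRoot.aeval_eq_of_algebra, AdjoinRoot.mk_self]
  · rw [v_succ, ← AdjoinRoot.algebraMap_eq, Polynomial.aeval_algebraMap_apply]
    have h1 : Polynomial.aeval ((Ideal.Quotient.mk (Ideal.span (Set.range fun i : Fin r =>
        Polynomial.aeval (MvPolynomial.X i : MvPolynomial (Fin r) A) (G i.succ))))
          (MvPolynomial.X j)) (G j.succ) = 0 := by
      have := Polynomial.aeval_algHom_apply (Ideal.Quotient.mkₐ A (Ideal.span (Set.range fun i : Fin r =>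
        Polynomial.aeval (MvPolynomial.X i : MvPolynomial (Fin r) A) (G i.succ))))
        (MvPolynomial.X j) (G j.succ)
      rw [Ideal.Quotient.mkₐ_eq_mk] at this
      rw [this]
      exact Ideal.Quotient.eq_zero_iff_mem.mpr (Ideal.subset_span ⟨j, rfl⟩)
    rw [h1, map_zero]

/-- The forward map. -/
noncomputable def φ : Q (r + 1) G →ₐ[A] AdjoinRoot (g0 G) :=
  Ideal.Quotient.liftₐ _ (MvPolynomial.aeval (v G)) (by
    intro a ha
    have hle : Ideal.span (Set.range fun i => Polynomial.aeval
        (MvPolynomial.X i : MvPolynomial (Fin (r + 1)) A) (G i)) ≤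
        RingHom.ker (MvPolynomial.aeval (v G) : MvPolynomial (Fin (r + 1)) A →ₐ[A] _) := by
      rw [Ideal.span_le]
      rintro _ ⟨i, rfl⟩
      rw [SetLike.mem_coe, RingHom.mem_ker, ← Polynomial.aeval_algHom_apply,
        MvPolynomial.aeval_X]
      exact aeval_v G i
    exact hle ha)

lemma φ_mk (q : MvPolynomial (Fin (r + 1)) A) :
    φ G (Ideal.Quotient.mk _ q) = MvPolynomial.aeval (v G) q := rfl

/-- The map from the quotient in the remaining variables. -/
noncomputable def ρ : (Q r fun i => G i.succ) →ₐ[A] Q (r + 1) G :=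
  Ideal.Quotient.liftₐ _ (MvPolynomial.aeval fun i : Fin r =>
    (Ideal.Quotient.mk _ (MvPolynomial.X i.succ) : Q (r + 1) G)) (by
    intro a ha
    have hle : Ideal.span (Set.range fun i : Fin r => Polynomial.aeval
        (MvPolynomial.X i : MvPolynomial (Fin r) A) (G i.succ)) ≤
        RingHom.ker (MvPolynomial.aeval (fun i : Fin r =>
          (Ideal.Quotient.mk _ (MvPolynomial.X i.succ) : Q (r + 1) G)) :
          MvPolynomial (Fin r) A →ₐ[A] _) := by
      rw [Ideal.span_le]
      rintro _ ⟨i, rfl⟩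
      rw [SetLike.mem_coe, RingHom.mem_ker, ← Polynomial.aeval_algHom_apply,
        MvPolynomial.aeval_X]
      have := Polynomial.aeval_algHom_apply (Ideal.Quotient.mkₐ A (Ideal.span (Set.range
        fun i : Fin (r + 1) =>
        Polynomial.aeval (MvPolynomial.X i : MvPolynomial (Fin (r + 1)) A) (G i))))
        (MvPolynomial.X i.succ) (G i.succ)
      rw [Ideal.Quotient.mkₐ_eq_mk] at this
      rw [this]
      exact Ideal.Quotient.eq_zero_iff_mem.mpr (Ideal.subset_span ⟨i.succ, rfl⟩)
    exact hle ha)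

lemma ρ_mk (q : MvPolynomial (Fin r) A) :
    ρ G (Ideal.Quotient.mk _ q) = MvPolynomial.aeval (fun i : Fin r =>
      (Ideal.Quotient.mk _ (MvPolynomial.X i.succ) : Q (r + 1) G)) q := rfl

/-- The backward map. -/
noncomputable def ψ : AdjoinRoot (g0 G) →ₐ[A] Q (r + 1) G :=
  AdjoinRoot.liftAlgHom (g0 G) (ρ G) (Ideal.Quotient.mk _ (MvPolynomial.X 0)) (by
    rw [g0, Polynomial.eval₂_map]
    have h1 : (ρ G : (Q r fun i => G i.succ) →+* Q (r + 1) G).comp
        (algebraMap A (Q r fun i => G i.succ)) = algebraMap A (Q (r + 1) G) :=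
      (ρ G).comp_algebraMap
    rw [h1, ← Polynomial.aeval_def]
    have := Polynomial.aeval_algHom_apply (Ideal.Quotient.mkₐ A (Ideal.span (Set.range
        fun i : Fin (r + 1) =>
        Polynomial.aeval (MvPolynomial.X i : MvPolynomial (Fin (r + 1)) A) (G i))))
        (MvPolynomial.X 0) (G 0)
    rw [Ideal.Quotient.mkₐ_eq_mk] at this
    rw [this]
    exact Ideal.Quotient.eq_zero_iff_mem.mpr (Ideal.subset_span ⟨0, rfl⟩))

lemma ψ_root : ψ G (AdjoinRoot.root (g0 G)) = Ideal.Quotient.mk _ (MvPolynomial.X 0) :=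
  AdjoinRoot.liftAlgHom_root _ _ _ _

lemma ψ_of (x : Q r fun i => G i.succ) : ψ G (AdjoinRoot.of (g0 G) x) = ρ G x :=
  AdjoinRoot.liftAlgHom_of _ _ _ _ _

lemma ψ_comp_φ : (ψ G).comp (φ G) = AlgHom.id A _ := by
  apply Ideal.Quotient.algHom_ext
  apply MvPolynomial.algHom_ext
  intro i
  simp only [AlgHom.comp_apply, Ideal.Quotient.mkₐ_eq_mk, AlgHom.id_apply]
  rw [φ_mk, MvPolynomial.aeval_X]
  refine Fin.cases ?_ (fun j => ?_) i
  · rw [v_zero, ψ_root]
  · rw [v_succ, ψ_of, ρ_mk, MvPolynomial.aeval_X]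

lemma φ_rename (q : MvPolynomial (Fin r) A) :
    φ G (Ideal.Quotient.mk _ (MvPolynomial.rename Fin.succ q)) =
      AdjoinRoot.of (g0 G) (Ideal.Quotient.mk _ q) := by
  rw [φ_mk, MvPolynomial.aeval_rename]
  have : (MvPolynomial.aeval (v G ∘ Fin.succ) : MvPolynomial (Fin r) A →ₐ[A] _) =
      ((Algebra.ofId (Q r fun i => G i.succ) (AdjoinRoot (g0 G))).restrictScalars A).comp
        (Ideal.Quotient.mkₐ A _) := by
    apply MvPolynomial.algHom_ext
    intro i
    simp only [MvPolynomial.aeval_X, Function.comp_apply, AlgHom.comp_apply,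
      Ideal.Quotient.mkₐ_eq_mk, AlgHom.restrictScalars_apply, Algebra.ofId_apply]
    rw [v_succ, AdjoinRoot.algebraMap_eq]
  rw [this]
  simp only [AlgHom.comp_apply, Ideal.Quotient.mkₐ_eq_mk, AlgHom.restrictScalars_apply,
    Algebra.ofId_apply, AdjoinRoot.algebraMap_eq]

lemma φ_surjective : Function.Surjective (φ G) := by
  intro s
  induction s using AdjoinRoot.induction_on with
  | ih p =>
    induction p using Polynomial.induction_on with
    | C a =>
      obtain ⟨q, rfl⟩ := Ideal.Quotient.mk_surjective a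
      exact ⟨_, (φ_rename G q).trans (AdjoinRoot.mk_C _).symm⟩
    | add p q hp hq =>
      obtain ⟨x, hx⟩ := hp
      obtain ⟨y, hy⟩ := hq
      exact ⟨x + y, by rw [map_add, hx, hy, map_add]⟩
    | monomial n a h =>
      obtain ⟨x, hx⟩ := h
      refine ⟨x * Ideal.Quotient.mk _ (MvPolynomial.X 0), ?_⟩
      rw [map_mul, hx, φ_mk, MvPolynomial.aeval_X, v_zero]
      simp only [pow_succ, ← mul_assoc, map_mul, AdjoinRoot.mk_X]

/-- The inductive step isomorphism. -/
noncomputable def stepEquiv : Q (r + 1) G ≃ₐ[A] AdjoinRoot (g0 G) :=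
  AlgEquiv.ofBijective (φ G) ⟨by
    intro x y h
    have := congrArg (ψ G) h
    have hx := congr($(ψ_comp_φ G) x)
    have hy := congr($(ψ_comp_φ G) y)
    simp only [AlgHom.comp_apply, AlgHom.id_apply] at hx hy
    rw [hx, hy] at this
    exact this, φ_surjective G⟩

end step

theorem main {A : Type u} [CommRing A] [Nontrivial A] :
    ∀ (r : ℕ) (F : Fin r → Polynomial A), (∀ i, (F i).Monic) →
      Module.Free A (Q r F) ∧ Module.finrank A (Q r F) =
        Finset.univ.prod fun i => (F i).natDegree := by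
  intro r
  induction r with
  | zero =>
    intro F _
    have hbot : Ideal.span (Set.range fun i : Fin 0 =>
        Polynomial.aeval (MvPolynomial.X i : MvPolynomial (Fin 0) A) (F i)) = ⊥ := by
      rw [Ideal.span_eq_bot]
      rintro _ ⟨i, rfl⟩
      exact i.elim0
    let e : Q 0 F ≃ₐ[A] A :=
      (Ideal.quotientEquivAlgOfEq A hbot).trans
        ((AlgEquiv.quotientBot A (MvPolynomial (Fin 0) A)).trans
          (MvPolynomial.isEmptyAlgEquiv A (Fin 0)))
    refine ⟨Module.Free.of_equiv e.symm.toLinearEquiv, ?_⟩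
    rw [e.toLinearEquiv.finrank_eq, Module.finrank_self]
    simp
  | succ r ih =>
    intro F hF
    obtain ⟨hfree, hrank⟩ := ih (fun i => F i.succ) (fun i => hF i.succ)
    have hmonic : (g0 F).Monic := (hF 0).map _
    have hfreeS : Module.Free (Q r fun i => F i.succ) (AdjoinRoot (g0 F)) :=
      hmonic.free_adjoinRoot
    have hfreeA : Module.Free A (AdjoinRoot (g0 F)) :=
      Module.Free.trans (R := A) (S := Q r fun i => F i.succ) (M := AdjoinRoot (g0 F))
    refine ⟨Module.Free.of_equiv (stepEquiv F).symm.toLinearEquiv, ?_⟩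
    rw [(stepEquiv F).toLinearEquiv.finrank_eq, Fin.prod_univ_succ, ← hrank]
    rcases subsingleton_or_nontrivial (Q r fun i => F i.succ) with hs | hn
    · have h1 : Subsingleton (AdjoinRoot (g0 F)) :=
        Module.subsingleton (Q r fun i => F i.succ) _
      rw [Module.finrank_zero_of_subsingleton, Module.finrank_zero_of_subsingleton, mul_zero]
    · rw [← Module.finrank_mul_finrank A (Q r fun i => F i.succ) (AdjoinRoot (g0 F)),
        (AdjoinRoot.powerBasis' hmonic).finrank, AdjoinRoot.powerBasis'_dim,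
        (hF 0).natDegree_map, mul_comm]


/-- Let A be a nonzero ring and F_1, …, F_r monic one-variable polynomials of degrees d_1, …, d_r; then
A[T_1, …, T_r]/(F_1(T_1), …, F_r(T_r)) is a free A-module of rank ∏ d_i. (The published statement
assumes A local with maximal ideal of square zero and A' local, which this assertion does not use;
its bound [K' : K] ≤ d and part (ii) are not stated.) -/
theorem result {A : Type u} [CommRing A] [Nontrivial A]
    {r : ℕ} (F : Fin r → Polynomial A) (hF : ∀ i, (F i).Monic) :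
    Module.Free A (MvPolynomial (Fin r) A ⧸ Ideal.span (Set.range fun i => Polynomial.aeval (MvPolynomial.X i : MvPolynomial (Fin r) A) (F i))) ∧
      Module.finrank A (MvPolynomial (Fin r) A ⧸ Ideal.span (Set.range fun i => Polynomial.aeval (MvPolynomial.X i : MvPolynomial (Fin r) A) (F i))) =
        Finset.univ.prod fun i => (F i).natDegree := by
  exact main r F hF

end Groth.Agent.S4610
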