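import Groth.Statements.S19560
import Mathlib
import Groth.Agent.H97.Wronskian

set_option autoImplicit false
universe u
open W4c1limliniiii

namespace Groth.Agent.S19560

open Polynomial in
/-- Let k be an algebraically closed field of characteristic p (a prime or zero) and let F, G be
polynomials spanning a base-point-free pencil V of degree d (a two-dimensional space of polynomials
of degree at most d containing one of degree d and with no common zero in k), so that V encodes a
degree-d self-map F/G of the projective line up to automorphisms of the target. Suppose the
Wronskian W = F′G − FG′ is non-zero and vanishes at the point a to order exactly e − 1 with e ≥ 1,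
and that p = 0 or e − 1 < p. Then the map is tamely ramified at a with index e: the largest order of
vanishing at a of a non-zero member of V is e, and p does not divide e. (The hypothesis W ≠ 0 makes
the order of vanishing meaningful; for W = 0 the map is inseparable.) -/
theorem result
    (k : Type u) [Field k] [IsAlgClosed k] (p : ℕ) [CharP k p]
    (d : ℕ) (F G : k[X]) (hV : W4c1limliniiii.IsPencil d (Submodule.span k {F, G}))
    (hW : Polynomial.wronskian F G ≠ 0) (a : k) (e : ℕ)
    (he : (Polynomial.wronskian F G).rootMultiplicity a + 1 = e) (hp : p = 0 ∨ e - 1 < p) :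
    W4c1limliniiii.HasRamIdx (Submodule.span k {F, G}) a e ∧ ¬ p ∣ e := by
  classical
  obtain ⟨_, _, _, hbpf⟩ := hV
  obtain ⟨s, hs, hsa⟩ := hbpf a
  rw [Submodule.mem_span_pair] at hs
  obtain ⟨α, β, rfl⟩ := hs
  have hFG : F.eval a ≠ 0 ∨ G.eval a ≠ 0 := by
    by_contra h
    push_neg at h
    apply hsa
    simp [h.1, h.2]
  have hspan : ∀ (P Q : k[X]) (c : k), Submodule.span k {P, Q} = Submodule.span k {P, Q - c • P} := by
    intro P Q c
    apply le_antisymm
    · rw [Submodule.span_le]
      rintro x (rfl | hx)
      · exact Submodule.subset_span (by simp)
      · rw [Set.mem_singleton_iff] at hx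
        subst hx
        rw [SetLike.mem_coe, Submodule.mem_span_pair]
        exact ⟨c, 1, by simp⟩
    · rw [Submodule.span_le]
      rintro x (rfl | hx)
      · exact Submodule.subset_span (by simp)
      · rw [Set.mem_singleton_iff] at hx
        subst hx
        rw [SetLike.mem_coe, Submodule.mem_span_pair]
        exact ⟨-c, 1, by simp [sub_eq_add_neg, add_comm]⟩
  have hWsub : ∀ (P Q : k[X]) (c : k), Polynomial.wronskian P (Q - c • P) = Polynomial.wronskian P Q := by
    intro P Q c
    have h1 := (Polynomial.wronskianBilin k P).map_sub Q (c • P)
    have h2 := (Polynomial.wronskianBilin k P).map_smul c P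
    simp only [Polynomial.wronskianBilin_apply] at h1 h2
    rw [h1, h2, Polynomial.wronskian_self_eq_zero, smul_zero, sub_zero]
  rcases hFG with hF | hG
  · set c := G.eval a / F.eval a with hc
    rw [hspan F G c]
    apply Groth.Agent.H97.hasRamIdx_of_basis p a F (G - c • F) hF
    · simp only [Polynomial.eval_sub, Polynomial.eval_smul, smul_eq_mul, hc]
      field_simp
      ring
    · rw [hWsub]; exact hW
    · rw [hWsub]; exact he
    · exact hp
  · set c := F.eval a / G.eval a with hc
    have hswap : Submodule.span k {F, G} = Submodule.span k {G, F} := by
      rw [Set.pair_comm]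
    rw [hswap, hspan G F c]
    have hWeq : Polynomial.wronskian G (F - c • G) = - Polynomial.wronskian F G := by
      rw [hWsub, Polynomial.wronskian_neg_eq]
    apply Groth.Agent.H97.hasRamIdx_of_basis p a G (F - c • G) hG
    · simp only [Polynomial.eval_sub, Polynomial.eval_smul, smul_eq_mul, hc]
      field_simp
      ring
    · rw [hWeq]; exact neg_ne_zero.mpr hW
    · have hneg : (-Polynomial.wronskian F G).rootMultiplicity a =
          (Polynomial.wronskian F G).rootMultiplicity a := by
        have h1 : -Polynomial.wronskian F G = Polynomial.C (-1 : k) * Polynomial.wronskian F G := by simp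
        rw [h1, Polynomial.rootMultiplicity_mul (by rw [← h1]; exact neg_ne_zero.mpr hW),
          Polynomial.rootMultiplicity_eq_zero (by simp), zero_add]
      rw [hWeq, hneg]; exact he
    · exact hp

end Groth.Agent.S19560
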