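import Groth.Statements.S15235
import Mathlib

set_option autoImplicit false
universe u
open CategoryTheory Opposite
open HomAlg3

namespace Groth.Agent.S15235

/-- Let (G_j) be an inverse system of abelian groups indexed by the natural numbers, with transition
maps G_{j+1} → G_j, and let j₀ be a natural number such that the transition map G_{j+1} → G_j is
surjective for every j ≥ j₀. Then: (a) the system satisfies the Mittag-Leffler condition; (b) the
evaluation map from the inverse limit (realised as the set of compatible families) to G_{j₀} is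
surjective; (c) if in addition the transition maps G_{j+1} → G_j are injective for every j ≥ j₀,
that evaluation map is bijective. (The published statement indexes the system by the negative
integers and assumes j₀ ≥ 1; this row indexes it by the natural numbers and allows j₀ = 0, which
changes nothing.) -/
theorem result (G : ℕᵒᵖ ⥤ AddCommGrpCat.{u})
    (j₀ : ℕ) (hs : ∀ j : ℕ, j₀ ≤ j → Function.Surjective (G.map (homOfLE (Nat.le_succ j)).op).hom) :
    (G ⋙ forget AddCommGrpCat.{u}).IsMittagLeffler ∧
      Function.Surjective (fun s : (G ⋙ forget AddCommGrpCat.{u}).sections => s.1 (op j₀)) ∧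
      ((∀ j : ℕ, j₀ ≤ j → Function.Injective (G.map (homOfLE (Nat.le_succ j)).op).hom) →
        Function.Bijective (fun s : (G ⋙ forget AddCommGrpCat.{u}).sections => s.1 (op j₀))) := by
  classical
  -- transition maps
  let t : ∀ (n m : ℕ) (h : m ≤ n), G.obj (op n) → G.obj (op m) :=
    fun n m h => (G.map (homOfLE h).op).hom
  have t_comp : ∀ (n m l : ℕ) (h : m ≤ n) (h' : l ≤ m) (x : G.obj (op n)),
      t m l h' (t n m h x) = t n l (h'.trans h) x := by
    intro n m l h h' x
    have : (homOfLE (h'.trans h)).op = (homOfLE h).op ≫ (homOfLE h').op := by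
      rfl
    show (G.map (homOfLE h').op).hom ((G.map (homOfLE h).op).hom x) = (G.map (homOfLE (h'.trans h)).op).hom x
    rw [this, G.map_comp]
    rfl
  have t_id : ∀ (n : ℕ) (x : G.obj (op n)), t n n le_rfl x = x := by
    intro n x
    have : (homOfLE (le_refl n)).op = 𝟙 (op n) := rfl
    show (G.map (homOfLE (le_refl n)).op).hom x = x
    rw [this, G.map_id]
    rfl
  have map_eq : ∀ (a b : ℕᵒᵖ) (f : a ⟶ b) (x : (G ⋙ forget AddCommGrpCat.{u}).obj a),
      (G ⋙ forget AddCommGrpCat.{u}).map f x = t a.unop b.unop (leOfHom f.unop) x := by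
    intro a b f x
    have : f = (homOfLE (leOfHom f.unop)).op := Subsingleton.elim _ _
    conv_lhs => rw [this]
    rfl
  -- surjectivity of transition maps above j₀
  have t_surj : ∀ (k m : ℕ) (hm : j₀ ≤ m), Function.Surjective (t (m + k) m (Nat.le_add_right m k)) := by
    intro k
    induction k with
    | zero => intro m hm x; exact ⟨x, t_id m x⟩
    | succ k ih =>
      intro m hm x
      obtain ⟨y, hy⟩ := ih m hm x
      obtain ⟨z, hz⟩ := hs (m + k) (by omega) y
      refine ⟨z, ?_⟩
      rw [← hy, ← hz]
      exact (t_comp (m + (k + 1)) (m + k) m (Nat.le_succ _) (Nat.le_add_right m k) z).symm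
  have t_surj' : ∀ (n m : ℕ) (hm : j₀ ≤ m) (h : m ≤ n), Function.Surjective (t n m h) := by
    intro n m hm h
    obtain ⟨k, rfl⟩ := Nat.exists_eq_add_of_le h
    exact t_surj k m hm
  have hsurj : Function.Surjective (fun s : (G ⋙ forget AddCommGrpCat.{u}).sections => s.1 (op j₀)) := by
    intro x
    -- build a compatible sequence above j₀
    let y : ∀ k : ℕ, G.obj (op (j₀ + k)) := fun k =>
      Nat.rec (motive := fun k => G.obj (op (j₀ + k))) x
        (fun k yk => Classical.choose (hs (j₀ + k) (Nat.le_add_right _ _) yk)) k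
    have y_succ : ∀ k, t (j₀ + (k + 1)) (j₀ + k) (Nat.le_succ _) (y (k + 1)) = y k := by
      intro k
      exact Classical.choose_spec (hs (j₀ + k) (Nat.le_add_right _ _) (y k))
    have y_le : ∀ (l k : ℕ) (h : j₀ + k ≤ j₀ + (k + l)), t (j₀ + (k + l)) (j₀ + k) h (y (k + l)) = y k := by
      intro l
      induction l with
      | zero => intro k h; exact t_id _ _
      | succ l ih =>
        intro k h
        have h1 := y_succ (k + l)
        have h2 := ih k (by omega)
        rw [← h2, ← h1, t_comp]
        rfl
    have y_le' : ∀ (m n : ℕ) (hmn : m ≤ n) (h : j₀ + m ≤ j₀ + n), t (j₀ + n) (j₀ + m) h (y n) = y m := by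
      intro m n hmn h
      obtain ⟨l, rfl⟩ := Nat.exists_eq_add_of_le hmn
      exact y_le l m h
    refine ⟨⟨fun a => t (j₀ + a.unop) a.unop (Nat.le_add_left _ _) (y a.unop), ?_⟩, ?_⟩
    · intro a b f
      have hba : b.unop ≤ a.unop := leOfHom f.unop
      rw [map_eq, t_comp]
      show t (j₀ + a.unop) b.unop _ (y a.unop) = t (j₀ + b.unop) b.unop _ (y b.unop)
      rw [← y_le' b.unop a.unop hba (by omega), t_comp]
    · show t (j₀ + j₀) j₀ _ (y j₀) = x
      have := y_le' 0 j₀ (Nat.zero_le _) (by omega)
      exact this
  refine ⟨?_, hsurj, ?_⟩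
  · -- Mittag-Leffler
    intro j
    refine ⟨op (max j.unop j₀), (homOfLE (le_max_left _ _)).op, ?_⟩
    intro k g
    rintro x ⟨y, rfl⟩
    have hk : j.unop ≤ k.unop := leOfHom g.unop
    obtain ⟨z, hz⟩ := t_surj' (max k.unop (max j.unop j₀)) (max j.unop j₀) (le_max_right _ _)
      (le_max_right _ _) y
    refine ⟨t (max k.unop (max j.unop j₀)) k.unop (le_max_left _ _) z, ?_⟩
    rw [map_eq, map_eq, t_comp, ← hz, t_comp]
  · intro hinj
    refine ⟨?_, ?_⟩
    · -- injectivity
      have t_inj : ∀ (k m : ℕ) (hm : j₀ ≤ m), Function.Injective (t (m + k) m (Nat.le_add_right m k)) := by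
        intro k
        induction k with
        | zero =>
          intro m hm x x' hxx
          rw [t_id, t_id] at hxx; exact hxx
        | succ k ih =>
          intro m hm x x' hxx
          have e : ∀ z, t (m + (k + 1)) m (Nat.le_add_right m (k + 1)) z
              = t (m + k) m (Nat.le_add_right m k) (t (m + (k + 1)) (m + k) (Nat.le_succ _) z) := by
            intro z; rw [t_comp]
          rw [e, e] at hxx
          exact hinj (m + k) (by omega) (ih m hm hxx)
      intro s s' hss
      apply Subtype.ext
      funext a
      have hss' : s.1 (op j₀) = s'.1 (op j₀) := hss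
      rcases le_total a.unop j₀ with h | h
      · have h1 := s.2 (homOfLE h).op
        have h2 := s'.2 (homOfLE h).op
        have : s.1 a = s'.1 a := by
          have e1 : s.1 a = s.1 (op a.unop) := rfl
          rw [show s.1 a = s.1 (op a.unop) from rfl, show s'.1 a = s'.1 (op a.unop) from rfl,
            ← h1, ← h2, hss']
        exact this
      · obtain ⟨k, hk⟩ := Nat.exists_eq_add_of_le h
        have h1 := s.2 (homOfLE h).op
        have h2 := s'.2 (homOfLE h).op
        rw [map_eq] at h1 h2
        have h3 : t a.unop j₀ h (s.1 a) = t a.unop j₀ h (s'.1 a) := by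
          have e1 : t a.unop j₀ h (s.1 a) = s.1 (op j₀) := h1
          have e2 : t a.unop j₀ h (s'.1 a) = s'.1 (op j₀) := h2
          rw [e1, e2, hss']
        obtain ⟨a'⟩ := a
        simp only [unop_op] at hk h3 ⊢
        subst hk
        exact t_inj k j₀ le_rfl h3
    · exact hsurj

end Groth.Agent.S15235
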