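import Groth.Statements.S18434
import Mathlib
-- import your own Groth.Agent.* helpers here

set_option autoImplicit false
universe u
open SpinCurv

namespace Groth.Agent.S18434

section Helpers
open SpinCurv
open MvPowerSeries

variable (k : Type u) [Field k] (u v : ℕ)

abbrev P := MvPowerSeries (Fin 2) k

noncomputable abbrev e0 : Fin 2 →₀ ℕ := Finsupp.single 0 1
noncomputable abbrev e1 : Fin 2 →₀ ℕ := Finsupp.single 1 1

noncomputable def S : Finset (Fin 2 →₀ ℕ) :=
  (Finset.range u).image (fun i => Finsupp.single (0 : Fin 2) i) ∪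
    (Finset.Ico 1 v).image (fun j => Finsupp.single (1 : Fin 2) j)

theorem eq_single0 (m : Fin 2 →₀ ℕ) (h : m 1 = 0) : m = Finsupp.single 0 (m 0) := by
  ext i; fin_cases i
  · simp
  · simp [h]

theorem eq_single1 (m : Fin 2 →₀ ℕ) (h : m 0 = 0) : m = Finsupp.single 1 (m 1) := by
  ext i; fin_cases i
  · simp [h]
  · simp

theorem mem_S_iff (m : Fin 2 →₀ ℕ) :
    m ∈ S u v ↔ (m 1 = 0 ∧ m 0 < u) ∨ (m 0 = 0 ∧ 1 ≤ m 1 ∧ m 1 < v) := by
  simp only [S, Finset.mem_union, Finset.mem_image, Finset.mem_range, Finset.mem_Ico]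
  constructor
  · rintro (⟨i, hi, rfl⟩ | ⟨j, ⟨hj1, hj2⟩, rfl⟩)
    · left; simp [hi]
    · right; simp [hj1, hj2]
  · rintro (⟨h1, h0⟩ | ⟨h0, h1, h1'⟩)
    · left; exact ⟨m 0, h0, (eq_single0 m h1).symm⟩
    · right; exact ⟨m 1, ⟨h1, h1'⟩, (eq_single1 m h0).symm⟩

theorem card_S (hu : 1 ≤ u) (hv : 1 ≤ v) : (S u v).card = u + v - 1 := by
  rw [S, Finset.card_union_of_disjoint, Finset.card_image_of_injective, Finset.card_image_of_injective]
  · simp; omega
  · intro i j h; exact Finsupp.single_injective _ h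
  · intro i j h; exact Finsupp.single_injective _ h
  · rw [Finset.disjoint_left]
    intro m h1 h2
    simp only [Finset.mem_image, Finset.mem_range, Finset.mem_Ico] at h1 h2
    obtain ⟨i, -, rfl⟩ := h1
    obtain ⟨j, ⟨hj, -⟩, h⟩ := h2
    have := congrArg (fun f => f 1) h
    simp at this
    omega

theorem le_iff_A (m : Fin 2 →₀ ℕ) : (Finsupp.single 0 1 + Finsupp.single 1 1 : Fin 2 →₀ ℕ) ≤ m ↔
    (1 ≤ m 0 ∧ 1 ≤ m 1) := by
  rw [Finsupp.le_def]
  constructor
  · intro h
    have h0 := h 0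
    have h1 := h 1
    simp at h0 h1
    exact ⟨h0, h1⟩
  · rintro ⟨h0, h1⟩ i
    fin_cases i <;> simp <;> omega

theorem le_iff_B (m : Fin 2 →₀ ℕ) (n : ℕ) : (Finsupp.single 0 n : Fin 2 →₀ ℕ) ≤ m ↔ n ≤ m 0 := by
  rw [Finsupp.le_def]
  constructor
  · intro h
    have h0 := h 0
    simpa using h0
  · intro h0 i
    fin_cases i <;> simp <;> omega

theorem le_iff_C (m : Fin 2 →₀ ℕ) (n : ℕ) : (Finsupp.single 1 n : Fin 2 →₀ ℕ) ≤ m ↔ n ≤ m 1 := by
  rw [Finsupp.le_def]
  constructor
  · intro h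
    have h1 := h 1
    simpa using h1
  · intro h1 i
    fin_cases i <;> simp <;> omega

/-- the coefficient map -/
noncomputable def Phi : P k →ₗ[k] (S u v → k) where
  toFun f := fun m => coeff m.1 f
  map_add' f g := by ext m; simp
  map_smul' c f := by ext m; simp

theorem Phi_apply (f : P k) (m : S u v) : Phi k u v f m = coeff m.1 f := rfl

theorem Phi_surjective : Function.Surjective (Phi k u v) := by
  classical
  intro c
  refine ⟨∑ m : S u v, monomial m.1 (c m), ?_⟩
  ext m'
  change coeff m'.1 (∑ m : S u v, monomial m.1 (c m)) = c m'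
  rw [map_sum, Finset.sum_eq_single m']
  · rw [coeff_monomial_same]
  · intro b _ hb
    rw [coeff_monomial, if_neg]
    intro h
    exact hb (Subtype.ext h.symm)
  · intro h; exact absurd (Finset.mem_univ _) h

theorem Phi_monoA (g : P k) :
    Phi k u v (monomial (Finsupp.single 0 1 + Finsupp.single 1 1) 1 * g) = 0 := by
  ext m
  rw [Phi_apply, Pi.zero_apply]
  rw [coeff_monomial_mul, if_neg]
  rw [le_iff_A]
  have := (mem_S_iff u v m.1).mp m.2
  omega

theorem Phi_monoB (hu : 1 ≤ u) (g : P k) :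
    Phi k u v (monomial (Finsupp.single 0 u) 1 * g) = 0 := by
  ext m
  rw [Phi_apply, Pi.zero_apply]
  rw [coeff_monomial_mul, if_neg]
  rw [le_iff_B]
  have := (mem_S_iff u v m.1).mp m.2
  omega

theorem Phi_monoC (hv : 1 ≤ v) (g : P k) :
    Phi k u v (monomial (Finsupp.single 1 v) 1 * g) = 0 := by
  ext m
  rw [Phi_apply, Pi.zero_apply]
  rw [coeff_monomial_mul, if_neg]
  rw [le_iff_C]
  have := (mem_S_iff u v m.1).mp m.2
  omega

def mkP (F : (Fin 2 →₀ ℕ) → k) : P k := F

theorem coeff_mkP (F : (Fin 2 →₀ ℕ) → k) (n : Fin 2 →₀ ℕ) : coeff n (mkP k F) = F n := rfl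

theorem decomp (hu : 1 ≤ u) (hv : 1 ≤ v) (f : P k) (hf : Phi k u v f = 0) :
    ∃ f1 f2 f3 : P k, f = monomial (Finsupp.single 0 1 + Finsupp.single 1 1) 1 * f1
      + monomial (Finsupp.single 0 u) 1 * f2 + monomial (Finsupp.single 1 v) 1 * f3 := by
  have hS : ∀ m ∈ S u v, coeff m f = 0 := by
    intro m hm
    exact congrFun hf ⟨m, hm⟩
  refine ⟨mkP k fun n => coeff (n + (Finsupp.single 0 1 + Finsupp.single 1 1)) f,
    mkP k fun n => if n 1 = 0 then coeff (n + Finsupp.single 0 u) f else 0,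
    mkP k fun n => if n 0 = 0 then coeff (n + Finsupp.single 1 v) f else 0, ?_⟩
  ext m
  rw [map_add, map_add, coeff_monomial_mul, coeff_monomial_mul, coeff_monomial_mul]
  simp only [one_mul, coeff_mkP, le_iff_A, le_iff_B, le_iff_C]
  by_cases h0 : m 0 = 0
  · by_cases h1 : m 1 = 0
    · -- m = 0 ∈ S
      have hm : m ∈ S u v := (mem_S_iff u v m).mpr (Or.inl ⟨h1, by omega⟩)
      rw [hS m hm, if_neg (by omega), if_neg (by omega), if_neg (by omega)]
      simp
    · by_cases hv' : v ≤ m 1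
      · rw [if_neg (by omega), if_neg (by omega), if_pos hv', if_pos (by simp [h0]),
          tsub_add_cancel_of_le ((le_iff_C m v).mpr hv')]
        simp
      · have hm : m ∈ S u v := (mem_S_iff u v m).mpr (Or.inr ⟨h0, by omega, by omega⟩)
        rw [hS m hm, if_neg (by omega), if_neg (by omega), if_neg hv']
        simp
  · by_cases h1 : m 1 = 0
    · by_cases hu' : u ≤ m 0
      · rw [if_neg (by omega), if_pos hu', if_pos (by simp [h1]), if_neg (by omega),
          tsub_add_cancel_of_le ((le_iff_B m u).mpr hu')]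
        simp
      · have hm : m ∈ S u v := (mem_S_iff u v m).mpr (Or.inl ⟨h1, by omega⟩)
        rw [hS m hm, if_neg (by omega), if_neg hu', if_neg (by omega)]
        simp
    · rw [if_pos (by omega), tsub_add_cancel_of_le ((le_iff_A m).mpr (by omega))]
      have e2 : (if u ≤ m 0 then
          (if (m - (Finsupp.single 0 u : Fin 2 →₀ ℕ)) 1 = 0 then
            coeff (m - (Finsupp.single 0 u : Fin 2 →₀ ℕ) + Finsupp.single 0 u) f
            else 0) else 0) = 0 := by
        split_ifs with ha hb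
        · exfalso; simp at hb; exact h1 hb
        · rfl
        · rfl
      have e3 : (if v ≤ m 1 then
          (if (m - (Finsupp.single 1 v : Fin 2 →₀ ℕ)) 0 = 0 then
            coeff (m - (Finsupp.single 1 v : Fin 2 →₀ ℕ) + Finsupp.single 1 v) f
            else 0) else 0) = 0 := by
        split_ifs with ha hb
        · exfalso; simp at hb; exact h0 hb
        · rfl
        · rfl
      rw [e2, e3]
      simp

theorem monoA_eq : (X 0 * X 1 - C 0 : P k) =
    monomial (Finsupp.single 0 1 + Finsupp.single 1 1) 1 := by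
  rw [map_zero, sub_zero, X_def, X_def, monomial_mul_monomial, one_mul]

theorem main (hu : 1 ≤ u) (hv : 1 ≤ v) (w : k) (hw : w ≠ 0) :
    Module.finrank k (SpinCurv.NodeRing k 0 ⧸
      Ideal.span {SpinCurv.NodeRing.x k 0 ^ u,
        algebraMap k (SpinCurv.NodeRing k 0) w * SpinCurv.NodeRing.y k 0 ^ v}) =
      u + v - 1 := by
  set J : Ideal (P k) := Ideal.span {(X 0 * X 1 - C 0 : P k)} with hJ
  set I : Ideal (NodeRing k 0) := Ideal.span {SpinCurv.NodeRing.x k 0 ^ u,
        algebraMap k (SpinCurv.NodeRing k 0) w * SpinCurv.NodeRing.y k 0 ^ v} with hI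
  let Ψ : P k →ₗ[k] (NodeRing k 0 ⧸ I) :=
    (Ideal.Quotient.mkₐ k I).toLinearMap ∘ₗ (Ideal.Quotient.mkₐ k J).toLinearMap
  have hΨapp : ∀ f, Ψ f = Ideal.Quotient.mk I (Ideal.Quotient.mk J f) := fun f => rfl
  have hΨ : Function.Surjective Ψ := by
    intro z
    obtain ⟨y, rfl⟩ := Ideal.Quotient.mk_surjective z
    obtain ⟨f, rfl⟩ := Ideal.Quotient.mk_surjective y
    exact ⟨f, rfl⟩
  have hxu : NodeRing.x k 0 ^ u = Ideal.Quotient.mk J (monomial (Finsupp.single 0 u) 1) := by
    rw [← X_pow_eq, map_pow]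
  have hyv : NodeRing.y k 0 ^ v = Ideal.Quotient.mk J (monomial (Finsupp.single 1 v) 1) := by
    rw [← X_pow_eq, map_pow]
  have hw' : ∀ c : k, algebraMap k (NodeRing k 0) c = Ideal.Quotient.mk J (C c) := fun c => rfl
  have hker : LinearMap.ker Ψ = LinearMap.ker (Phi k u v) := by
    ext f
    rw [LinearMap.mem_ker, LinearMap.mem_ker, hΨapp, Ideal.Quotient.eq_zero_iff_mem]
    constructor
    · intro hf
      rw [hI, Ideal.mem_span_pair] at hf
      obtain ⟨a, b, hab⟩ := hf
      obtain ⟨g1, rfl⟩ := Ideal.Quotient.mk_surjective a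
      obtain ⟨g2, rfl⟩ := Ideal.Quotient.mk_surjective b
      rw [hxu, hyv, hw', ← map_mul, ← map_mul, ← map_mul, ← map_add, Ideal.Quotient.eq,
        Ideal.mem_span_singleton'] at hab
      obtain ⟨g3, hg3⟩ := hab
      have hf' : f = monomial (Finsupp.single 0 u) 1 * g1
          + monomial (Finsupp.single 1 v) 1 * (C w * g2)
          - monomial (Finsupp.single 0 1 + Finsupp.single 1 1) 1 * g3 := by
        rw [← monoA_eq]
        linear_combination (1 : P k) * hg3
      rw [hf', map_sub, map_add, Phi_monoA, Phi_monoB k u v hu, Phi_monoC k u v hv]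
      simp
    · intro hf
      obtain ⟨f1, f2, f3, hf'⟩ := decomp k u v hu hv f hf
      rw [hf', map_add, map_add, map_mul, map_mul, map_mul, ← monoA_eq k]
      have h0 : Ideal.Quotient.mk J (X 0 * X 1 - C 0 : P k) = 0 :=
        Ideal.Quotient.eq_zero_iff_mem.mpr (Ideal.mem_span_singleton_self _)
      rw [h0, zero_mul, zero_add, ← hxu, ← hyv]
      apply Ideal.add_mem
      · exact Ideal.mul_mem_right _ _ (Ideal.subset_span (by simp))
      · have : NodeRing.y k 0 ^ v * Ideal.Quotient.mk J f3 =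
            (algebraMap k (NodeRing k 0) w * NodeRing.y k 0 ^ v) *
              (algebraMap k (NodeRing k 0) w⁻¹ * Ideal.Quotient.mk J f3) := by
          have hww : algebraMap k (NodeRing k 0) w * algebraMap k (NodeRing k 0) w⁻¹ = 1 := by
            rw [← map_mul, mul_inv_cancel₀ hw, map_one]
          calc NodeRing.y k 0 ^ v * Ideal.Quotient.mk J f3
              = (algebraMap k (NodeRing k 0) w * algebraMap k (NodeRing k 0) w⁻¹) *
                  (NodeRing.y k 0 ^ v * Ideal.Quotient.mk J f3) := by rw [hww, one_mul]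
            _ = _ := by ring
        rw [this]
        exact Ideal.mul_mem_right _ _ (Ideal.subset_span (by simp))
  let e1 := Ψ.quotKerEquivOfSurjective hΨ
  let e2 := (Phi k u v).quotKerEquivOfSurjective (Phi_surjective k u v)
  let e3 : (P k ⧸ LinearMap.ker Ψ) ≃ₗ[k] (P k ⧸ LinearMap.ker (Phi k u v)) :=
    Submodule.quotEquivOfEq _ _ hker
  rw [LinearEquiv.finrank_eq (e1.symm ≪≫ₗ e3 ≪≫ₗ e2), Module.finrank_fintype_fun_eq_card,
    Fintype.card_coe, card_S u v hu hv]

end Helpers


/-- Let k be a field, u, v ≥ 1 integers and w ∈ k nonzero. In the ring A = k[[x, y]]/(xy), the quotient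
A/(x^u, w y^v) has dimension u + v - 1 over k (a basis is 1, x, …, x^{u-1}, y, …, y^{v-1}); this is
the length of the cokernel at the node of a map whose image is generated by x^u and w y^v. -/
theorem result (k : Type u) [Field k] (u v : ℕ) (hu : 1 ≤ u) (hv : 1 ≤ v)
    (w : k) (hw : w ≠ 0) :
    Module.finrank k (SpinCurv.NodeRing k 0 ⧸
      Ideal.span {SpinCurv.NodeRing.x k 0 ^ u, algebraMap k (SpinCurv.NodeRing k 0) w * SpinCurv.NodeRing.y k 0 ^ v}) =
      u + v - 1 := by
  exact main k u v hu hv w hw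

end Groth.Agent.S18434
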