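import Groth.Statements.S15315
import Mathlib

set_option autoImplicit false
universe u
open ArLef

namespace Groth.Agent.S15315

/-- For a Noetherian commutative ring A, elements a, b with a a non-zero-divisor on A/(b), and an ideal
I, one has length(A/(aI + bA)) = length(A/(a, b)) + length(A/(I + bA)) as extended natural numbers;
in particular when two of the three quotients have finite length so does the third. -/
theorem result (A : Type u) [CommRing A] [IsNoetherianRing A] (a b : A) (I : Ideal A)
    (ha : IsSMulRegular (A ⧸ Ideal.span ({b} : Set A)) a) :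
    Module.length A (A ⧸ (Ideal.span {a} * I ⊔ Ideal.span {b})) =
      Module.length A (A ⧸ Ideal.span ({a, b} : Set A)) + Module.length A (A ⧸ (I ⊔ Ideal.span {b})) := by
  classical
  set J : Ideal A := Ideal.span {a} * I ⊔ Ideal.span {b} with hJ
  set K : Ideal A := Ideal.span ({a, b} : Set A) with hK
  set L : Ideal A := I ⊔ Ideal.span {b} with hL
  have hbJ : b ∈ J := Ideal.mem_sup_right (Ideal.mem_span_singleton_self b)
  have haK : a ∈ K := Ideal.subset_span (by simp)
  have hbK : b ∈ K := Ideal.subset_span (by simp)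
  have hJK : J ≤ K := by
    rw [hJ]
    refine sup_le ?_ ?_
    · exact Ideal.mul_le_left.trans ((Ideal.span_singleton_le_iff_mem _).mpr haK)
    · exact (Ideal.span_singleton_le_iff_mem _).mpr hbK
  have memJ : ∀ x, x ∈ J ↔ ∃ i ∈ I, ∃ c, x = a * i + c * b := by
    intro x
    rw [hJ, Submodule.mem_sup]
    constructor
    · rintro ⟨y, hy, z, hz, rfl⟩
      obtain ⟨i, hi, rfl⟩ := Ideal.mem_span_singleton_mul.mp hy
      obtain ⟨c, rfl⟩ := Ideal.mem_span_singleton'.mp hz
      exact ⟨i, hi, c, rfl⟩
    · rintro ⟨i, hi, c, rfl⟩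
      exact ⟨a * i, Ideal.mem_span_singleton_mul.mpr ⟨i, hi, rfl⟩, c * b,
        Ideal.mem_span_singleton'.mpr ⟨c, rfl⟩, rfl⟩
  have memL : ∀ x, x ∈ L ↔ ∃ i ∈ I, ∃ c, x = i + c * b := by
    intro x
    rw [hL, Submodule.mem_sup]
    constructor
    · rintro ⟨y, hy, z, hz, rfl⟩
      obtain ⟨c, rfl⟩ := Ideal.mem_span_singleton'.mp hz
      exact ⟨y, hy, c, rfl⟩
    · rintro ⟨i, hi, c, rfl⟩
      exact ⟨i, hi, c * b, Ideal.mem_span_singleton'.mpr ⟨c, rfl⟩, rfl⟩
  have memK : ∀ x, x ∈ K ↔ ∃ c d, c * a + d * b = x := fun x => Ideal.mem_span_pair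
  -- the key cancellation
  have key : ∀ x, a * x ∈ J → x ∈ L := by
    intro x hx
    obtain ⟨i, hi, c, hc⟩ := (memJ _).mp hx
    have h1 : a • (Ideal.Quotient.mk (Ideal.span {b}) (x - i)) = a • (0 : A ⧸ Ideal.span {b}) := by
      rw [smul_zero]
      have : a • (Ideal.Quotient.mk (Ideal.span {b}) (x - i))
          = Ideal.Quotient.mk (Ideal.span {b}) (a * (x - i)) := by
        rw [map_mul]; rfl
      rw [this, Ideal.Quotient.eq_zero_iff_mem, Ideal.mem_span_singleton']
      exact ⟨c, by rw [mul_sub, hc]; ring⟩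
    have h2 := ha h1
    rw [Ideal.Quotient.eq_zero_iff_mem, Ideal.mem_span_singleton'] at h2
    obtain ⟨e, he⟩ := h2
    exact (memL x).mpr ⟨i, hi, e, by rw [he]; ring⟩
  have hLJ : (L : Submodule A A) ≤ Submodule.comap (LinearMap.mulLeft A a) J := by
    intro x hx
    obtain ⟨i, hi, c, rfl⟩ := (memL x).mp hx
    show a * (i + c * b) ∈ J
    exact (memJ _).mpr ⟨i, hi, a * c, by ring⟩
  let f : (A ⧸ L) →ₗ[A] (A ⧸ J) := Submodule.mapQ L J (LinearMap.mulLeft A a) hLJ
  let g : (A ⧸ J) →ₗ[A] (A ⧸ K) := Submodule.mapQ J K LinearMap.id hJK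
  have hf : Function.Injective f := by
    rw [← LinearMap.ker_eq_bot, LinearMap.ker_eq_bot']
    intro y hy
    obtain ⟨x, rfl⟩ := Submodule.Quotient.mk_surjective _ y
    have : f (Submodule.Quotient.mk x) = Submodule.Quotient.mk (a * x) := rfl
    rw [this, Submodule.Quotient.mk_eq_zero] at hy
    rw [Submodule.Quotient.mk_eq_zero]
    exact key x hy
  have hg : Function.Surjective g := by
    intro y
    obtain ⟨x, rfl⟩ := Submodule.Quotient.mk_surjective _ y
    exact ⟨Submodule.Quotient.mk x, rfl⟩
  have H : Function.Exact f g := by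
    intro y
    obtain ⟨z, rfl⟩ := Submodule.Quotient.mk_surjective _ y
    have hgz : g (Submodule.Quotient.mk z) = Submodule.Quotient.mk z := rfl
    rw [hgz, Submodule.Quotient.mk_eq_zero]
    constructor
    · intro hz
      obtain ⟨c, d, rfl⟩ := (memK z).mp hz
      refine ⟨Submodule.Quotient.mk c, ?_⟩
      have : f (Submodule.Quotient.mk c) = Submodule.Quotient.mk (a * c) := rfl
      rw [this, Submodule.Quotient.eq]
      have : a * c - (c * a + d * b) = (-d) * b := by ring
      rw [this]
      exact J.mul_mem_left _ hbJ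
    · rintro ⟨y, hy⟩
      obtain ⟨x, rfl⟩ := Submodule.Quotient.mk_surjective _ y
      have : f (Submodule.Quotient.mk x) = Submodule.Quotient.mk (a * x) := rfl
      rw [this, Submodule.Quotient.eq] at hy
      have h1 : a * x - z ∈ K := hJK hy
      have h2 : a * x ∈ K := K.mul_mem_right _ haK
      have : z = a * x - (a * x - z) := by ring
      rw [this]
      exact K.sub_mem h2 h1
  have := Module.length_eq_add_of_exact f g hf hg H
  rw [add_comm] at this
  exact this

end Groth.Agent.S15315
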