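import Groth.Statements.S15573
import Mathlib

set_option autoImplicit false
universe u v
open RInv

namespace Groth.Agent.S15573

/-- Let `R` be a commutative ring with an involution `lam` and let `S` be its fixed ring. If there is an
element `r` of `R` such that `r - lam r` is a unit, then `R` is a quadratic etale `S`-algebra. -/
theorem result (S : Type u) (R : Type v) [CommRing S] [CommRing R]
    [Algebra S R] (lam : R ≃+* R) (hlam : Function.Involutive lam) (hS : RInv.IsFixedRing S R lam)
    (h : ∃ r : R, IsUnit (r - lam r)) : RInv.IsQuadEtale S R := by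
  classical
  obtain ⟨r, hr⟩ := h
  obtain ⟨u, hu⟩ := hr
  have hfix : ∀ s : S, lam (algebraMap S R s) = algebraMap S R s :=
    fun s => (hS.2 _).mpr ⟨s, rfl⟩
  have hlu : lam (u : R) = -u := by rw [hu, map_sub, hlam r]; ring
  have hluinv : lam (↑u⁻¹ : R) = -↑u⁻¹ := by
    have h := congr_arg lam (Units.inv_mul u)
    rw [map_mul, map_one, hlu] at h
    calc lam (↑u⁻¹ : R) = lam ↑u⁻¹ * (↑u * ↑u⁻¹) := by rw [Units.mul_inv, mul_one]
      _ = -(lam ↑u⁻¹ * -↑u) * ↑u⁻¹ := by ring
      _ = -↑u⁻¹ := by rw [h]; ring
  -- decomposition of every element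
  have hdec : ∀ x : R, ∃ a b : S, x = algebraMap S R a + algebraMap S R b * r := by
    intro x
    have h1 : lam ((x - lam x) * ↑u⁻¹) = (x - lam x) * ↑u⁻¹ := by
      rw [map_mul, map_sub, hlam x, hluinv]; ring
    obtain ⟨b, hb⟩ := (hS.2 _).mp h1
    have hxu : x - lam x = algebraMap S R b * (r - lam r) := by
      rw [hb, ← hu, mul_assoc, Units.inv_mul, mul_one]
    have h2 : lam (x - algebraMap S R b * r) = x - algebraMap S R b * r := by
      rw [map_sub, map_mul, hfix]
      linear_combination (-1 : R) * hxu
    obtain ⟨a, ha⟩ := (hS.2 _).mp h2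
    exact ⟨a, b, by rw [ha]; ring⟩
  -- linear independence
  have hli : LinearIndependent S ![(1 : R), r] := by
    rw [LinearIndependent.pair_iff]
    intro s t hst
    rw [Algebra.smul_def, Algebra.smul_def, mul_one] at hst
    have hst' := congr_arg lam hst
    rw [map_add, map_mul, hfix, hfix, map_zero] at hst'
    have h3 : algebraMap S R t * (u : R) = 0 := by
      rw [hu]; linear_combination hst - hst'
    have h4 : algebraMap S R t = 0 := by
      have := congr_arg (· * (↑u⁻¹ : R)) h3
      simpa [mul_assoc] using this
    have ht : t = 0 := hS.1 (by rw [h4, map_zero])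
    refine ⟨?_, ht⟩
    rw [h4, zero_mul, add_zero] at hst
    exact hS.1 (by rw [hst, map_zero])
  have hsp : ⊤ ≤ Submodule.span S (Set.range ![(1 : R), r]) := by
    intro x _
    obtain ⟨a, b, rfl⟩ := hdec x
    apply Submodule.add_mem
    · rw [Algebra.algebraMap_eq_smul_one]
      exact Submodule.smul_mem _ _ (Submodule.subset_span ⟨0, rfl⟩)
    · rw [← Algebra.smul_def]
      exact Submodule.smul_mem _ _ (Submodule.subset_span ⟨1, rfl⟩)
  let bas : Module.Basis (Fin 2) S R := Module.Basis.mk hli hsp
  have : Module.Finite S R := Module.Finite.of_basis bas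
  have : Module.Free S R := Module.Free.of_basis bas
  refine ⟨inferInstance, inferInstance, ?_, ?_⟩
  · -- formally unramified
    rw [Algebra.formallyUnramified_iff]
    have hD : ∀ x : R, KaehlerDifferential.D S R x = 0 := by
      obtain ⟨t, ht⟩ := (hS.2 (r + lam r)).mp (by rw [map_add, hlam r, add_comm])
      obtain ⟨n, hn⟩ := (hS.2 (r * lam r)).mp (by rw [map_mul, hlam r, mul_comm])
      have hrr : r * r = algebraMap S R t * r - algebraMap S R n := by rw [ht, hn]; ring
      have hDr : KaehlerDifferential.D S R r = 0 := by
        have h5 := congr_arg (KaehlerDifferential.D S R) hrr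
        rw [Derivation.leibniz, map_sub, Derivation.leibniz, Derivation.map_algebraMap,
          Derivation.map_algebraMap, smul_zero, add_zero, sub_zero] at h5
        have h6 : (u : R) • KaehlerDifferential.D S R r = 0 := by
          rw [hu, sub_smul]
          have : algebraMap S R t • KaehlerDifferential.D S R r =
              r • KaehlerDifferential.D S R r + lam r • KaehlerDifferential.D S R r := by
            rw [ht, add_smul]
          rw [this] at h5
          have h7 : r • KaehlerDifferential.D S R r = lam r • KaehlerDifferential.D S R r :=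
            add_left_cancel h5
          rw [h7, sub_self]
        have := congr_arg ((↑u⁻¹ : R) • ·) h6
        simpa [smul_smul] using this
      intro x
      obtain ⟨a, b, rfl⟩ := hdec x
      rw [map_add, Derivation.map_algebraMap, Derivation.leibniz, Derivation.map_algebraMap,
        hDr, smul_zero, smul_zero, add_zero, add_zero]
    have htop : (⊤ : Submodule R (Ω[R⁄S])) = ⊥ := by
      rw [← KaehlerDifferential.span_range_derivation, Submodule.span_eq_bot]
      rintro _ ⟨x, rfl⟩
      exact hD x
    exact (Submodule.subsingleton_iff R).mp (subsingleton_of_bot_eq_top htop.symm)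
  · intro p
    have : Nontrivial S := (PrimeSpectrum.nonempty_iff_nontrivial).mp ⟨p⟩
    rw [Module.rankAtStalk_eq_finrank_of_free, Pi.natCast_apply, Module.finrank_eq_card_basis bas]
    simp

end Groth.Agent.S15573
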