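import Groth.Statements.S15574
import Groth.Agent.H77.RInvBasic

set_option autoImplicit false
universe u v
open RInv

namespace Groth.Agent.S15574

/-- Let `R` be a commutative ring with an involution `lam` whose fixed ring `S` is local, and suppose
`R` is a quadratic etale `S`-algebra. Then some `r` in `R` has `r - lam r` invertible. -/
theorem result (S : Type u) (R : Type v) [CommRing S] [CommRing R]
    [Algebra S R] (lam : R ≃+* R) (hlam : Function.Involutive lam) (hS : RInv.IsFixedRing S R lam)
    [IsLocalRing S] (hq : RInv.IsQuadEtale S R) : ∃ r : R, IsUnit (r - lam r) := by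
  classical
  by_contra hcon
  push Not at hcon
  obtain ⟨hfin, hproj, hunr, hrank⟩ := hq
  have := Groth.Agent.H77.RInvB.nontrivial lam hlam hS
  have hfix := Groth.Agent.H77.RInvB.fix_algebraMap lam hlam hS
  -- the involution is trivial modulo the Jacobson radical
  have hjac : ∀ r : R, lam r - r ∈ Ring.jacobson R := by
    intro r
    by_contra hr
    have hw : lam (lam r - r) = -(lam r - r) := by rw [map_sub, hlam r]; ring
    have hu := Groth.Agent.H77.RInvB.isUnit_of_anti_of_notMem_jacobson lam hlam hS hw hr
    apply hcon r
    have : r - lam r = -(lam r - r) := by ring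
    rw [this]
    exact hu.neg
  -- the ideal generated by the `lam x - x`
  obtain ⟨s, hs⟩ := hfin.fg_top
  set I : Ideal R := Ideal.span ((fun x => lam x - x) '' (s : Set R)) with hI
  have hIfg : I.FG := ⟨s.image (fun x => lam x - x), by rw [hI, Finset.coe_image]⟩
  have hmemI : ∀ x : R, lam x - x ∈ I := by
    intro x
    have hx : x ∈ Submodule.span S (s : Set R) := by rw [hs]; trivial
    induction hx using Submodule.span_induction with
    | mem x hx => exact Ideal.subset_span ⟨x, hx, rfl⟩
    | zero => simp
    | add x y _ _ hx hy =>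
      have : lam (x + y) - (x + y) = (lam x - x) + (lam y - y) := by rw [map_add]; ring
      rw [this]
      exact I.add_mem hx hy
    | smul c x _ hx =>
      have : lam (c • x) - c • x = algebraMap S R c * (lam x - x) := by
        rw [Algebra.smul_def, map_mul, hfix]; ring
      rw [this]
      exact I.mul_mem_left _ hx
  have hIjac : I ≤ Ring.jacobson R := by
    rw [hI, Ideal.span_le]
    rintro _ ⟨x, _, rfl⟩
    exact hjac x
  -- the derivation x ↦ lam x - x mod I^2
  let D₀ : R →ₗ[S] (R ⧸ I ^ 2) :=
    { toFun := fun x => Ideal.Quotient.mk (I ^ 2) (lam x - x)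
      map_add' := by
        intro x y
        rw [← map_add]
        congr 1
        rw [map_add]; ring
      map_smul' := by
        intro c x
        rw [RingHom.id_apply, Algebra.smul_def, map_mul, hfix, Algebra.smul_def]
        rw [show algebraMap S R c * lam x - algebraMap S R c * x =
          algebraMap S R c * (lam x - x) by ring, map_mul]
        rfl }
  have hD₀ : ∀ x, D₀ x = Ideal.Quotient.mk (I ^ 2) (lam x - x) := fun x => rfl
  let D : Derivation S R (R ⧸ I ^ 2) := Derivation.mk' D₀ (by
    intro a b
    rw [hD₀, hD₀, hD₀]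
    have e1 : a • Ideal.Quotient.mk (I ^ 2) (lam b - b) =
        Ideal.Quotient.mk (I ^ 2) (a * (lam b - b)) := rfl
    have e2 : b • Ideal.Quotient.mk (I ^ 2) (lam a - a) =
        Ideal.Quotient.mk (I ^ 2) (b * (lam a - a)) := rfl
    rw [e1, e2, ← map_add, Ideal.Quotient.eq]
    have : lam (a * b) - a * b - (a * (lam b - b) + b * (lam a - a)) =
        (lam a - a) * (lam b - b) := by rw [map_mul]; ring
    rw [this, pow_two]
    exact Ideal.mul_mem_mul (hmemI a) (hmemI b))
  have hDzero : ∀ x, D x = 0 := by
    intro x
    rw [← Derivation.liftKaehlerDifferential_comp_D D x,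
      Subsingleton.elim (KaehlerDifferential.D S R x) 0, map_zero]
  have hmemI2 : ∀ x : R, lam x - x ∈ I ^ 2 := by
    intro x
    have := hDzero x
    change D₀ x = 0 at this
    rw [hD₀, Ideal.Quotient.eq_zero_iff_mem] at this
    exact this
  have hII : IsIdempotentElem I := by
    change I * I = I
    apply le_antisymm Ideal.mul_le_right
    rw [← pow_two]
    conv_lhs => rw [hI]
    rw [Ideal.span_le]
    rintro _ ⟨x, _, rfl⟩
    exact hmemI2 x
  obtain ⟨e, he, hIe⟩ := (Ideal.isIdempotentElem_iff_of_fg I hIfg).mp hII
  have heI : e ∈ I := by rw [hIe]; exact Ideal.mem_span_singleton_self e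
  have he0 : e = 0 := by
    have hej := hIjac heI
    rw [Groth.Agent.H77.RInvB.mem_jacobson_iff lam hlam hS] at hej
    obtain ⟨u, hu⟩ := hej (-1)
    have h1 : (u : R) * e = 0 := by
      rw [hu]
      have : (e * -1 + 1) * e = e - e * e := by ring
      rw [this, he.eq, sub_self]
    have := congr_arg ((↑u⁻¹ : R) * ·) h1
    simpa [← mul_assoc] using this
  have hI0 : I = ⊥ := by rw [hIe, he0]; simp
  have hid : ∀ x, lam x = x := by
    intro x
    have := hmemI x
    rw [hI0, Ideal.mem_bot, sub_eq_zero] at this
    exact this
  -- so the structure map is bijective and R has rank one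
  have hbij : Function.Bijective (Algebra.linearMap S R) :=
    ⟨hS.1, fun x => (hS.2 x).mp (hid x)⟩
  let eqv : S ≃ₗ[S] R := LinearEquiv.ofBijective (Algebra.linearMap S R) hbij
  have h2 := hrank (IsLocalRing.closedPoint S)
  rw [← Module.rankAtStalk_eq_of_equiv eqv, Module.rankAtStalk_self] at h2
  simp at h2

end Groth.Agent.S15574
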