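import Groth.Statements.S15577
import Groth.Agent.S15574
import Groth.Agent.H77.RInvBasic

set_option autoImplicit false
universe u v
open RInv

namespace Groth.Agent.S15577

/-- Let `R` be a commutative ring with an involution `lam` whose fixed ring `S` is local. If `lam`
induces the identity on `R` modulo its Jacobson radical, then `R` is a local ring and is not a
quadratic etale `S`-algebra. -/
theorem result (S : Type u) (R : Type v) [CommRing S] [CommRing R]
    [Algebra S R] (lam : R ≃+* R) (hlam : Function.Involutive lam) (hS : RInv.IsFixedRing S R lam)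
    [IsLocalRing S] (h : ∀ r : R, lam r - r ∈ Ring.jacobson R) :
    IsLocalRing R ∧ ¬ RInv.IsQuadEtale S R := by
  have hloc := Groth.Agent.H77.RInvB.isLocalRing_of_forall_mem_jacobson lam hlam hS h
  refine ⟨hloc, ?_⟩
  intro hq
  obtain ⟨r, hr⟩ := Groth.Agent.S15574.result S R lam hlam hS hq
  have := Groth.Agent.H77.RInvB.nontrivial lam hlam hS
  have hj : r - lam r ∈ Ring.jacobson R := by
    have : r - lam r = -(lam r - r) := by ring
    rw [this]
    exact (Ring.jacobson R).neg_mem (h r)
  exact (Ring.jacobson_lt_top R).ne (Ideal.eq_top_of_isUnit_mem _ hj hr)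

end Groth.Agent.S15577
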