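import Groth.Statements.S15586
import Mathlib

set_option autoImplicit false
universe u v w
open scoped TensorProduct
open RInv

namespace Groth.Agent.S15586

/-- Let `R` be a commutative ring with an involution `lam` and fixed ring `S`, and let `S'` be a
commutative `S`-algebra. If `S'` is flat over `S`, or if `2` is invertible in `S`, then `S'` is the
fixed ring of the base-changed involution `id ⊗ lam` of `S' ⊗_S R`: the structure map `S' → S' ⊗_S
R` is injective with image the fixed elements. (In general the fixed ring does not commute with base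
change.) -/
theorem result (S : Type u) (R : Type v) (S' : Type w)
    [CommRing S] [CommRing R] [Algebra S R] [CommRing S'] [Algebra S S']
    (lam : R ≃ₐ[S] R) (hlam : Function.Involutive lam)
    (hS : RInv.IsFixedRing S R lam.toRingEquiv)
    (h : Module.Flat S S' ∨ IsUnit (2 : S)) :
    RInv.IsFixedRing S' (S' ⊗[S] R)
      (Algebra.TensorProduct.congr (AlgEquiv.refl : S' ≃ₐ[S] S') lam).toRingEquiv := by
  classical
  set ι : S →ₗ[S] R := Algebra.linearMap S R with hι
  set g : R →ₗ[S] R := lam.toLinearMap - LinearMap.id with hg
  have hιinj : Function.Injective ι := hS.1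
  have hex : Function.Exact ι g := by
    intro x
    rw [hg]
    simp only [LinearMap.sub_apply, AlgEquiv.toLinearMap_apply, LinearMap.id_apply, sub_eq_zero]
    exact hS.2 x
  have hgι : g ∘ₗ ι = 0 := by
    apply LinearMap.ext
    intro s
    exact (hex (ι s)).mpr ⟨s, rfl⟩
  set Λ := (Algebra.TensorProduct.congr (AlgEquiv.refl : S' ≃ₐ[S] S') lam).toRingEquiv with hΛdef
  have hΛ : ∀ z, Λ z = lam.toLinearMap.lTensor S' z := by
    intro z
    induction z using TensorProduct.induction_on with
    | zero => simp
    | tmul a b => simp [Λ]
    | add a b ha hb => rw [map_add, map_add, ha, hb]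
  have hΛg : ∀ z, Λ z = z ↔ g.lTensor S' z = 0 := by
    intro z
    rw [hg, LinearMap.lTensor_sub, LinearMap.sub_apply, LinearMap.lTensor_id, LinearMap.id_apply,
      sub_eq_zero, hΛ]
  have halg : ∀ s' : S', algebraMap S' (S' ⊗[S] R) s' = ι.lTensor S' (s' ⊗ₜ[S] (1 : S)) := by
    intro s'
    rw [Algebra.TensorProduct.algebraMap_apply, LinearMap.lTensor_tmul]
    simp [ι]
  have hrange : Set.range (algebraMap S' (S' ⊗[S] R)) = Set.range (ι.lTensor S') := by
    ext z
    constructor
    · rintro ⟨s', rfl⟩
      exact ⟨s' ⊗ₜ 1, (halg s').symm⟩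
    · rintro ⟨y, rfl⟩
      refine ⟨TensorProduct.rid S S' y, ?_⟩
      rw [halg, ← TensorProduct.rid_symm_apply, LinearEquiv.symm_apply_apply]
  suffices key : Function.Injective (ι.lTensor S') ∧
      Function.Exact (ι.lTensor S') (g.lTensor S') by
    refine ⟨?_, ?_⟩
    · intro a b hab
      rw [halg, halg] at hab
      have := key.1 hab
      rw [← TensorProduct.rid_symm_apply, ← TensorProduct.rid_symm_apply] at this
      exact (TensorProduct.rid S S').symm.injective this
    · intro z
      rw [hΛg, key.2 z, hrange]
  rcases h with hflat | h2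
  · exact ⟨Module.Flat.lTensor_preserves_injective_linearMap ι hιinj,
      Module.Flat.lTensor_exact S' hex⟩
  · obtain ⟨c, hc⟩ := h2.exists_left_inv
    set θ : R →ₗ[S] R := c • (LinearMap.id + lam.toLinearMap) with hθ
    have hθmem : ∀ x, θ x ∈ LinearMap.range ι := by
      intro x
      have : lam.toRingEquiv (θ x) = θ x := by
        change lam (θ x) = θ x
        rw [hθ]
        simp only [LinearMap.smul_apply, LinearMap.add_apply, LinearMap.id_apply,
          AlgEquiv.toLinearMap_apply, map_smul, map_add, hlam x]
        rw [add_comm]
      exact (hS.2 (θ x)).mp this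
    let ρ : R →ₗ[S] S :=
      (LinearEquiv.ofInjective ι hιinj).symm.toLinearMap ∘ₗ θ.codRestrict (LinearMap.range ι) hθmem
    have hιρ : ι ∘ₗ ρ = θ := by
      apply LinearMap.ext
      intro x
      change ι ((LinearEquiv.ofInjective ι hιinj).symm (θ.codRestrict (LinearMap.range ι) hθmem x)) = θ x
      have := LinearEquiv.apply_symm_apply (LinearEquiv.ofInjective ι hιinj)
        (θ.codRestrict (LinearMap.range ι) hθmem x)
      exact congr_arg Subtype.val this
    have hθι : ∀ s, θ (ι s) = ι s := by
      intro s
      rw [hθ]
      simp only [LinearMap.smul_apply, LinearMap.add_apply, LinearMap.id_apply,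
        AlgEquiv.toLinearMap_apply]
      have : lam (ι s) = ι s := by
        change lam (algebraMap S R s) = algebraMap S R s
        exact lam.commutes s
      rw [this, ← two_smul S (ι s), smul_smul, hc, one_smul]
    have hρι : ρ ∘ₗ ι = LinearMap.id := by
      apply LinearMap.ext
      intro s
      apply hιinj
      have := LinearMap.congr_fun hιρ (ι s)
      simp only [LinearMap.coe_comp, Function.comp_apply] at this
      rw [LinearMap.coe_comp, Function.comp_apply, this, hθι, LinearMap.id_apply]
    refine ⟨?_, ?_⟩
    · apply Function.LeftInverse.injective (g := ρ.lTensor S')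
      intro y
      rw [← LinearMap.comp_apply, ← LinearMap.lTensor_comp, hρι, LinearMap.lTensor_id,
        LinearMap.id_apply]
    · intro z
      constructor
      · intro hz
        have hz' : lam.toLinearMap.lTensor S' z = z := by
          rw [hg, LinearMap.lTensor_sub, LinearMap.sub_apply, LinearMap.lTensor_id,
            LinearMap.id_apply, sub_eq_zero] at hz
          exact hz
        refine ⟨ρ.lTensor S' z, ?_⟩
        rw [← LinearMap.comp_apply, ← LinearMap.lTensor_comp, hιρ, hθ, LinearMap.lTensor_smul,
          LinearMap.lTensor_add, LinearMap.lTensor_id]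
        simp only [LinearMap.smul_apply, LinearMap.add_apply, LinearMap.id_apply]
        rw [hz', ← two_smul S z, smul_smul, hc, one_smul]
      · rintro ⟨y, rfl⟩
        rw [← LinearMap.comp_apply, ← LinearMap.lTensor_comp, hgι, LinearMap.lTensor_zero,
          LinearMap.zero_apply]

end Groth.Agent.S15586
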