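import Groth.Statements.S13598
import Mathlib.Algebra.Polynomial.Lifts

set_option autoImplicit false
universe u
open Hensel

namespace Groth.Agent.S13598

open Polynomial IsLocalRing in
/-- The quotient map of a local ring by an ideal with local quotient reflects units. -/
lemma isUnit_of_isUnit_mk {S : Type u} [CommRing S] [IsLocalRing S] (J : Ideal S)
    [Nontrivial (S ⧸ J)] (x : S) (hx : IsUnit (Ideal.Quotient.mk J x)) : IsUnit x := by
  by_contra hnu
  have hxm : x ∈ maximalIdeal S := (mem_maximalIdeal x).2 hnu
  have hJ : J ≤ maximalIdeal S := by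
    apply le_maximalIdeal
    intro h
    have : Subsingleton (S ⧸ J) := by
      rw [h]; exact Ideal.Quotient.subsingleton_iff.2 rfl
    exact not_subsingleton (S ⧸ J) this
  obtain ⟨y, hy⟩ := isUnit_iff_exists_inv.1 hx
  obtain ⟨y, rfl⟩ := Ideal.Quotient.mk_surjective y
  rw [← map_mul, ← map_one (Ideal.Quotient.mk J), Ideal.Quotient.eq] at hy
  have h1 : x * y ∈ maximalIdeal S := Ideal.mul_mem_right _ _ hxm
  have h2 : (1 : S) ∈ maximalIdeal S := by
    have := Ideal.sub_mem _ h1 (hJ hy)
    simpa using this
  exact (maximalIdeal.isMaximal S).ne_top ((Ideal.eq_top_iff_one _).2 h2)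

open Polynomial IsLocalRing in
/-- A local quotient of a henselian local ring is henselian. -/
theorem henselian_quotient {S : Type u} [CommRing S] [HenselianLocalRing S] (J : Ideal S)
    [IsLocalRing (S ⧸ J)] : HenselianLocalRing (S ⧸ J) := by
  refine { is_henselian := ?_ }
  intro f hf a₀ h₁ h₂
  obtain ⟨g, hg, -, hgm⟩ := lifts_and_natDegree_eq_and_monic
    ((mem_lifts f).2 (map_surjective _ Ideal.Quotient.mk_surjective f)) hf
  obtain ⟨b₀, rfl⟩ := Ideal.Quotient.mk_surjective a₀
  have hev : ∀ (q : S[X]) (b : S), (q.map (Ideal.Quotient.mk J)).eval (Ideal.Quotient.mk J b) =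
      Ideal.Quotient.mk J (q.eval b) := fun q b => by
    rw [eval_map, eval₂_hom]
  have hb₁ : g.eval b₀ ∈ maximalIdeal S := by
    rw [mem_maximalIdeal, mem_nonunits_iff]
    intro hu
    have : IsUnit (f.eval (Ideal.Quotient.mk J b₀)) := by
      rw [← hg, hev]; exact hu.map _
    exact (mem_nonunits_iff.1 ((mem_maximalIdeal _).1 h₁)) this
  have hb₂ : IsUnit (g.derivative.eval b₀) := by
    apply isUnit_of_isUnit_mk J
    rw [← hev, ← derivative_map, hg]
    exact h₂
  obtain ⟨b, hb, hbb₀⟩ := HenselianLocalRing.is_henselian g hgm b₀ hb₁ hb₂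
  refine ⟨Ideal.Quotient.mk J b, ?_, ?_⟩
  · rw [IsRoot.def, ← hg, hev, hb, map_zero]
  · rw [← map_sub, mem_maximalIdeal, mem_nonunits_iff]
    intro hu
    exact (mem_nonunits_iff.1 ((mem_maximalIdeal _).1 hbb₀)) (isUnit_of_isUnit_mk J _ hu)

/-- For a local ring A, a henselization A ⟶ S of A (S a henselian local ring, the structure map local,
and initial among local homomorphisms from A to henselian local rings) and an ideal I of A inside
the maximal ideal, the quotient S/IS with its induced algebra structure over A/I is a henselization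
of A/I. (The local-ring and local-homomorphism instances on the quotients hold automatically; they
are taken as hypotheses only so that the conclusion can be stated.) -/
theorem result {A S : Type u} [CommRing A] [IsLocalRing A] [CommRing S]
    [IsLocalRing S] [Algebra A S] [IsLocalHom (algebraMap A S)] [Hensel.IsHenselization A S]
    (I : Ideal A) (hI : I ≤ IsLocalRing.maximalIdeal A)
    [IsLocalRing (A ⧸ I)] [IsLocalRing (S ⧸ I.map (algebraMap A S))]
    [IsLocalHom (algebraMap (A ⧸ I) (S ⧸ I.map (algebraMap A S)))] :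
    Hensel.IsHenselization (A ⧸ I) (S ⧸ I.map (algebraMap A S)) := by
  have hS : HenselianLocalRing S := Hensel.IsHenselization.henselian (R := A) (S := S)
  refine ⟨henselian_quotient _, ?_⟩
  intro T _ _ f hf
  have hloc : IsLocalHom (f.comp (Ideal.Quotient.mk I)) := by
    refine ⟨fun a ha => ?_⟩
    have h1 : IsUnit (Ideal.Quotient.mk I a) := hf.map_nonunit _ ha
    exact isUnit_of_isUnit_mk I a h1
  obtain ⟨g₀, hg₀, hg₀u⟩ := Hensel.IsHenselization.universal (R := A) (S := S) T
    (f.comp (Ideal.Quotient.mk I)) hloc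
  have hker : ∀ s ∈ I.map (algebraMap A S), g₀ s = 0 := by
    intro s hs
    have hle : I.map (algebraMap A S) ≤ RingHom.ker g₀ := by
      rw [Ideal.map_le_iff_le_comap]
      intro a ha
      rw [Ideal.mem_comap, RingHom.mem_ker]
      have := DFunLike.congr_fun hg₀ a
      rw [RingHom.comp_apply, RingHom.comp_apply] at this
      rw [this, Ideal.Quotient.eq_zero_iff_mem.2 ha, map_zero]
    exact hle hs
  refine ⟨Ideal.Quotient.lift _ g₀ hker, ?_, ?_⟩
  · apply Ideal.Quotient.ringHom_ext
    ext a
    have := DFunLike.congr_fun hg₀ a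
    simp only [RingHom.comp_apply] at this ⊢
    rw [← this]
    rfl
  · intro g' hg'
    apply Ideal.Quotient.ringHom_ext
    have h1 : (g'.comp (Ideal.Quotient.mk _)).comp (algebraMap A S) =
        f.comp (Ideal.Quotient.mk I) := by
      rw [← hg']
      ext a
      rfl
    have h2 := hg₀u _ h1
    rw [h2]
    ext s
    rfl

end Groth.Agent.S13598
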