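import Groth.Statements.S15733
import Groth.Agent.H78.HJLattice

set_option autoImplicit false
open W4c2invhilbsl2

namespace Groth.Agent.S15733

/-- Let 0 < p < q be coprime integers and m ≥ 1 such that q − p does not divide m; put g = gcd(m, q−p),
b = (q−p)/g, α = ⌊mp/(q−p)⌋, β = the remainder of mp modulo q−p and t = (q−p−β)/g, so that 1 ≤ t <
b, and let b/t = c₁ − 1/(c₂ − 1/(⋯ − 1/c_r)) be the negative-regular (Hirzebruch–Jung) continued
fraction expansion with every cᵢ ≥ 2; set P₀ = 0, P₁ = 1, Q₀ = −1, Q₁ = 0, Pᵢ = cᵢ₋₁Pᵢ₋₁ − Pᵢ₋₂, Qᵢ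
= cᵢ₋₁Qᵢ₋₁ − Qᵢ₋₂ for 2 ≤ i ≤ r+1, and eᵢ = (α+1+m)Pᵢ − Qᵢ, lᵢ = (α+1)Pᵢ − Qᵢ, nᵢ = q·lᵢ − p·eᵢ,
which are non-negative integers for 0 ≤ i ≤ r+1. Then for every 1 < i ≤ r and every integer x with 0
< x < Pᵢ, the remainder of pmx + nᵢ on division by q − p equals nᵢ plus the remainder of pmx on
division by q − p (in particular nᵢ + (pmx mod (q−p)) < q − p). -/
theorem result (p q m : ℕ) (hp : 0 < p) (hpq : p < q) (hcop : Nat.Coprime p q) (hm : 0 < m) (hnt : ¬ (q - p ∣ m)) (c : List ℤ) (hc : W4c2invhilbsl2.IsHJDigits p q m c) (i : ℕ) (hi : 1 < i) (hir : i ≤ c.length)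
    (x : ℤ) (hx0 : 0 < x) (hx : x < W4c2invhilbsl2.hjP c i) :
    Int.emod ((p : ℤ) * m * x + W4c2invhilbsl2.nN p q m c i) ((q : ℤ) - p) = W4c2invhilbsl2.nN p q m c i + Int.emod ((p : ℤ) * m * x) ((q : ℤ) - p) := by
  have hg := Groth.Agent.H78.gcdK_pos p q m hpq
  have hgZ : (0 : ℤ) < (gcdK p q m : ℤ) := by exact_mod_cast hg
  have hbpos : (0 : ℤ) < (bB p q m : ℤ) := by
    have := Groth.Agent.H78.tT_lt_bB p q m hpq hcop hnt
    have h0 : 0 < bB p q m := by omega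
    exact_mod_cast h0
  have hlow := Groth.Agent.H78.hj_lower p q m hp hpq hcop hm hnt c hc i hi hir x hx0 hx
  obtain ⟨_, hdec, _, _⟩ := Groth.Agent.H78.hj_setting p q m hp hpq hcop hm hnt c hc
  have hTT : Groth.Agent.H78.hjR c (bB p q m) (tT p q m) i <
      Groth.Agent.H78.hjR c (bB p q m) (tT p q m) (i - 1) := by
    have := hdec (i - 1) (by omega)
    have e : i - 1 + 1 = i := by omega
    rwa [e] at this
  have hTi0 : 1 ≤ Groth.Agent.H78.hjR c (bB p q m) (tT p q m) i :=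
    Groth.Agent.H78.hjT_pos p q m hp hpq hcop hm hnt c hc i hir
  rw [Groth.Agent.H78.nN_eq_hjR p q m hpq]
  set g : ℤ := (gcdK p q m : ℤ) with hgdef
  set b : ℤ := (bB p q m : ℤ) with hb
  set t : ℤ := (tT p q m : ℤ) with ht
  set Ti := Groth.Agent.H78.hjR c b t i with hTi
  set ρ := Int.emod (t * x) b with hρ
  set k := (t * x) / b with hk
  have hdiv : b * k + ρ = t * x := Int.mul_ediv_add_emod (t * x) b
  have hρb : ρ < b := Int.emod_lt_of_pos _ hbpos
  -- arithmetic facts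
  have h1 := Groth.Agent.H78.gcdK_mul_tT p q m hpq
  have h2 := Groth.Agent.H78.gcdK_mul_bB p q m
  have h3 := Groth.Agent.H78.mp_eq p q m
  have hlt : m * p % (q - p) < q - p := Nat.mod_lt _ (by omega)
  have hqp : ((q - p : ℕ) : ℤ) = (q : ℤ) - p := by omega
  have h2' : g * b = (q : ℤ) - p := by
    have : ((gcdK p q m * bB p q m : ℕ) : ℤ) = ((q - p : ℕ) : ℤ) := by rw [h2]
    rw [Nat.cast_mul, hqp] at this
    exact this
  have h1' : g * t = (q : ℤ) - p - ((m * p % (q - p) : ℕ) : ℤ) := by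
    have : ((gcdK p q m * tT p q m : ℕ) : ℤ) = ((q - p - m * p % (q - p) : ℕ) : ℤ) := by rw [h1]
    rw [Nat.cast_mul, Nat.cast_sub hlt.le, hqp] at this
    exact this
  have h3' : (m : ℤ) * p = ((q : ℤ) - p) * alpha p q m + ((m * p % (q - p) : ℕ) : ℤ) := by
    have hh : ((m * p : ℕ) : ℤ) = (((q - p) * alpha p q m + m * p % (q - p) : ℕ) : ℤ) := by rw [← h3]
    rw [Nat.cast_add, Nat.cast_mul, Nat.cast_mul, hqp] at hh
    exact hh
  -- p m x = Qp * z + g (b - ρ)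
  have hpmx : (p : ℤ) * m * x = g * (b - ρ) + ((q : ℤ) - p) * ((alpha p q m : ℤ) * x + x - k - 1) := by
    have e1 : (p : ℤ) * m * x = ((m : ℤ) * p) * x := by ring
    rw [e1, h3']
    have e2 : ((m * p % (q - p) : ℕ) : ℤ) = (q : ℤ) - p - g * t := by linarith
    rw [e2, ← h2']
    have : g * t * x = g * (b * k + ρ) := by rw [hdiv]; ring
    linear_combination (-1 : ℤ) * this
  have hQpos : (0 : ℤ) < (q : ℤ) - p := by omega
  have hmod1 : Int.emod ((p : ℤ) * m * x) ((q : ℤ) - p) = g * (b - ρ) := by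
    rw [hpmx]
    show (g * (b - ρ) + ((q : ℤ) - p) * ((alpha p q m : ℤ) * x + x - k - 1)) % ((q : ℤ) - p) = _
    rw [Int.add_mul_emod_self_left]
    apply Int.emod_eq_of_lt
    · exact mul_nonneg hgZ.le (by linarith)
    · rw [← h2']
      exact mul_lt_mul_of_pos_left (by linarith) hgZ
  have hmod2 : Int.emod ((p : ℤ) * m * x + g * Ti) ((q : ℤ) - p) = g * (b - ρ + Ti) := by
    rw [hpmx]
    have : g * (b - ρ) + ((q : ℤ) - p) * ((alpha p q m : ℤ) * x + x - k - 1) + g * Ti =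
        g * (b - ρ + Ti) + ((q : ℤ) - p) * ((alpha p q m : ℤ) * x + x - k - 1) := by ring
    rw [this]
    show (g * (b - ρ + Ti) + ((q : ℤ) - p) * ((alpha p q m : ℤ) * x + x - k - 1)) % ((q : ℤ) - p) = _
    rw [Int.add_mul_emod_self_left]
    apply Int.emod_eq_of_lt
    · exact mul_nonneg hgZ.le (by linarith)
    · rw [← h2']
      exact mul_lt_mul_of_pos_left (by linarith) hgZ
  rw [hmod2, hmod1]
  ring

end Groth.Agent.S15733
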