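import Groth.Statements.S9435
import Mathlib.RingTheory.Etale.StandardEtale
import Mathlib.FieldTheory.PrimitiveElement
import Mathlib.RingTheory.Polynomial.ScaleRoots
import Mathlib.Algebra.Polynomial.Lifts
import Mathlib.RingTheory.Localization.Integer
import Mathlib.RingTheory.LocalRing.ResidueField.Ideal
import Mathlib.FieldTheory.Separable

set_option autoImplicit false
universe u
open CAlg

namespace Groth.Agent.S9435

/-- Given a prime p of a ring R and a finite separable extension L of κ(p), there is an étale R-algebra
R' with a prime p' over p whose residue field is κ(p)-isomorphic to L. Stated through an R-algebra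
map ψ : R' → L whose image generates the field L: its kernel is such a prime p' and the induced
κ(p') → L is then an isomorphism over κ(p). -/
theorem result (R : Type u) [CommRing R]
    (p : Ideal R) [p.IsPrime] (L : Type u) [Field L] [Algebra p.ResidueField L] [Algebra R L]
    [IsScalarTower R p.ResidueField L] [Module.Finite p.ResidueField L]
    [Algebra.IsSeparable p.ResidueField L] :
    ∃ (R' : Type u) (_ : CommRing R') (_ : Algebra R R') (_ : Algebra.Etale R R') (ψ : R' →ₐ[R] L),
      Subfield.closure (Set.range ψ) = ⊤ := by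
  classical
  set K := p.ResidueField with hK
  haveI : FiniteDimensional K L := inferInstance
  obtain ⟨α, hα⟩ := Field.exists_primitive_element K L
  have hαint : IsIntegral K α := Algebra.IsIntegral.isIntegral α
  set g := minpoly K α with hg
  have hgmonic : g.Monic := minpoly.monic hαint
  have hgdeg : g.natDegree = Module.finrank K L :=
    (Field.primitive_element_iff_minpoly_natDegree_eq K α).mp hα
  -- common denominator of the coefficients of `g`
  obtain ⟨⟨d, hd⟩, hd'⟩ := IsLocalization.exist_integer_multiples_of_finset
    (nonZeroDivisors (R ⧸ p)) (Finset.image g.coeff (Finset.range (g.natDegree + 1)))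
  set dK : K := algebraMap (R ⧸ p) K d with hdK
  have hdK0 : dK ≠ 0 := by
    have := IsFractionRing.injective (R ⧸ p) K
    rw [hdK, Ne, map_eq_zero_iff _ this]
    exact nonZeroDivisors.ne_zero hd
  obtain ⟨r', hr'⟩ := Ideal.Quotient.mk_surjective d
  have hdKr : dK = algebraMap R K r' := by
    rw [hdK, ← hr']; rfl
  set h := Polynomial.scaleRoots g dK with hh
  have hmonic : h.Monic := (Polynomial.monic_scaleRoots_iff dK).mpr hgmonic
  have hhdeg : h.natDegree = g.natDegree := Polynomial.natDegree_scaleRoots g dK
  have hlifts : h ∈ Polynomial.lifts (algebraMap R K) := by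
    rw [Polynomial.lifts_iff_coeff_lifts]
    intro i
    rw [hh, Polynomial.coeff_scaleRoots]
    rcases lt_trichotomy i g.natDegree with hi | hi | hi
    · obtain ⟨x, hx⟩ := hd' (g.coeff i) (Finset.mem_image.mpr
        ⟨i, Finset.mem_range.mpr (by omega), rfl⟩)
      obtain ⟨r, rfl⟩ := Ideal.Quotient.mk_surjective x
      refine ⟨r * r' ^ (g.natDegree - i - 1), ?_⟩
      have hx' : algebraMap R K r = dK * g.coeff i := by
        have : algebraMap (R ⧸ p) K (Ideal.Quotient.mk p r) = d • g.coeff i := hx
        rw [Algebra.smul_def] at this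
        exact this
      rw [map_mul, map_pow, hx', ← hdKr]
      have : g.natDegree - i = (g.natDegree - i - 1) + 1 := by omega
      conv_rhs => rw [this, pow_succ]
      ring
    · subst hi
      refine ⟨1, ?_⟩
      rw [map_one, Nat.sub_self, pow_zero, mul_one]
      exact hgmonic.coeff_natDegree.symm
    · refine ⟨0, ?_⟩
      rw [map_zero, Polynomial.coeff_eq_zero_of_natDegree_lt hi, zero_mul]
  obtain ⟨G, hGmap, hGdeg, hGmonic⟩ := Polynomial.lifts_and_natDegree_eq_and_monic hlifts hmonic
  set β : L := algebraMap K L dK * α with hβdef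
  have hβ : Polynomial.aeval β h = 0 := Polynomial.scaleRoots_aeval_eq_zero (minpoly.aeval K α)
  have hdL0 : algebraMap K L dK ≠ 0 := by
    rw [Ne, map_eq_zero_iff _ (algebraMap K L).injective]; exact hdK0
  have hαβ : α = (algebraMap K L dK)⁻¹ * β := by
    rw [hβdef, ← mul_assoc, inv_mul_cancel₀ hdL0, one_mul]
  have hβtop : IntermediateField.adjoin K {β} = ⊤ := by
    rw [eq_top_iff, ← hα, IntermediateField.adjoin_simple_le_iff, hαβ]
    exact mul_mem (inv_mem (IntermediateField.algebraMap_mem _ dK))
      (IntermediateField.mem_adjoin_simple_self K β)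
  have hβint : IsIntegral K β := Algebra.IsIntegral.isIntegral β
  have hminβ : h = minpoly K β := by
    refine Polynomial.eq_of_monic_of_dvd_of_natDegree_le (minpoly.monic hβint) hmonic
      (minpoly.dvd K β hβ) ?_
    rw [hhdeg, hgdeg, (Field.primitive_element_iff_minpoly_natDegree_eq K β).mp hβtop]
  have hsep : h.Separable := by
    rw [hminβ]; exact Algebra.IsSeparable.isSeparable K β
  have hderiv : Polynomial.aeval β (Polynomial.derivative h) ≠ 0 :=
    hsep.aeval_derivative_ne_zero hβ
  have hGβ : Polynomial.aeval β G = 0 := by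
    rw [← Polynomial.aeval_map_algebraMap K β G, hGmap]; exact hβ
  have hG'β : Polynomial.aeval β (Polynomial.derivative G) ≠ 0 := by
    rw [← Polynomial.aeval_map_algebraMap K β (Polynomial.derivative G), ← Polynomial.derivative_map,
      hGmap]
    exact hderiv
  let P : StandardEtalePair R := ⟨G, hGmonic, Polynomial.derivative G, ⟨1, 0, 1, by simp⟩⟩
  have hmap : P.HasMap β := ⟨hGβ, IsUnit.mk0 _ hG'β⟩
  refine ⟨P.Ring, inferInstance, inferInstance, inferInstance, P.lift β hmap, ?_⟩
  set F := Subfield.closure (Set.range (P.lift β hmap)) with hF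
  have hFR : ∀ r : R, algebraMap R L r ∈ F := fun r =>
    Subfield.subset_closure ⟨algebraMap R P.Ring r, (P.lift β hmap).commutes r⟩
  have hFβ : β ∈ F := Subfield.subset_closure ⟨P.X, P.lift_X β hmap⟩
  have hFK : ∀ x : K, algebraMap K L x ∈ F := by
    intro x
    obtain ⟨a, b, hb, rfl⟩ := IsFractionRing.div_surjective (A := R ⧸ p) x
    obtain ⟨a', rfl⟩ := Ideal.Quotient.mk_surjective a
    obtain ⟨b', rfl⟩ := Ideal.Quotient.mk_surjective b
    rw [map_div₀]
    have h1 : algebraMap K L (algebraMap (R ⧸ p) K (Ideal.Quotient.mk p a')) = algebraMap R L a' := by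
      rw [IsScalarTower.algebraMap_apply R K L]; rfl
    have h2 : algebraMap K L (algebraMap (R ⧸ p) K (Ideal.Quotient.mk p b')) = algebraMap R L b' := by
      rw [IsScalarTower.algebraMap_apply R K L]; rfl
    rw [h1, h2]
    exact div_mem (hFR a') (hFR b')
  let F' : IntermediateField K L := { F with algebraMap_mem' := hFK }
  have hF' : F' = ⊤ := by
    rw [eq_top_iff, ← hα, IntermediateField.adjoin_simple_le_iff, hαβ]
    exact mul_mem (inv_mem (hFK dK)) hFβ
  rw [eq_top_iff]
  intro x _
  have : x ∈ F' := by rw [hF']; trivial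
  exact this

end Groth.Agent.S9435
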