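import Groth.Statements.S1961
import Groth.Agent.H10.HenselSquareZero
import Mathlib

set_option autoImplicit false
universe u
open EtAlg

namespace Groth.Agent.S1961

open Groth.Agent.H10

section
variable {R S : Type u} [CommRing R] [IsLocalRing R] [CommRing S] [IsLocalRing S]
    [Algebra R S] [IsLocalHom (algebraMap R S)] [Hensel.IsHenselization R S]
variable {C : Type u} [CommRing C] [Algebra R C] (J : Ideal C)

/-- the pullback algebra `C ×_{C/J} S` -/
def pb (φ : S →ₐ[R] C ⧸ J) : Subalgebra R (C × S) :=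
  AlgHom.equalizer ((Ideal.Quotient.mkₐ R J).comp (AlgHom.fst R C S)) (φ.comp (AlgHom.snd R C S))

omit [IsLocalRing R] [IsLocalRing S] [IsLocalHom (algebraMap R S)] [Hensel.IsHenselization R S] in
theorem mem_pb (φ : S →ₐ[R] C ⧸ J) (x : C × S) :
    x ∈ pb J φ ↔ Ideal.Quotient.mk J x.1 = φ x.2 := by
  rw [pb, AlgHom.mem_equalizer]
  rfl

/-- second projection of the pullback -/
def pr₂ (φ : S →ₐ[R] C ⧸ J) : pb J φ →ₐ[R] S := (AlgHom.snd R C S).comp (pb J φ).val

/-- first projection of the pullback -/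
def pr₁ (φ : S →ₐ[R] C ⧸ J) : pb J φ →ₐ[R] C := (AlgHom.fst R C S).comp (pb J φ).val

theorem pr₂_surjective (φ : S →ₐ[R] C ⧸ J) : Function.Surjective (pr₂ J φ) := by
  intro s
  obtain ⟨c, hc⟩ := Ideal.Quotient.mk_surjective (φ s)
  exact ⟨⟨(c, s), (mem_pb J φ _).2 hc⟩, rfl⟩

theorem pr₂_sq_zero (hJ : J ^ 2 = ⊥) (φ : S →ₐ[R] C ⧸ J) (x y : pb J φ)
    (hx : pr₂ J φ x = 0) (hy : pr₂ J φ y = 0) : x * y = 0 := by
  have hx2 : (x : C × S).2 = 0 := hx
  have hy2 : (y : C × S).2 = 0 := hy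
  have hx1 : (x : C × S).1 ∈ J := by
    have := (mem_pb J φ _).1 x.2
    rw [hx2, map_zero, Ideal.Quotient.eq_zero_iff_mem] at this
    exact this
  have hy1 : (y : C × S).1 ∈ J := by
    have := (mem_pb J φ _).1 y.2
    rw [hy2, map_zero, Ideal.Quotient.eq_zero_iff_mem] at this
    exact this
  have h1 : (x : C × S).1 * (y : C × S).1 = 0 := by
    have : (x : C × S).1 * (y : C × S).1 ∈ J ^ 2 := by
      rw [sq]; exact Ideal.mul_mem_mul hx1 hy1
    rwa [hJ, Ideal.mem_bot] at this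
  apply Subtype.ext
  apply Prod.ext
  · exact h1
  · show (x : C × S).2 * (y : C × S).2 = 0
    rw [hx2, zero_mul]

theorem henselian_pb (hJ : J ^ 2 = ⊥) (φ : S →ₐ[R] C ⧸ J) : HenselianLocalRing (pb J φ) := by
  haveI : HenselianLocalRing S := Hensel.IsHenselization.henselian (R := R)
  exact henselianLocalRing_of_surjective_of_sq_zero (pr₂ J φ).toRingHom (pr₂_surjective J φ)
    (pr₂_sq_zero J hJ φ)

omit [IsLocalRing R] [IsLocalRing S] [Hensel.IsHenselization R S] in
theorem isLocalHom_pb (φ : S →ₐ[R] C ⧸ J) : IsLocalHom (algebraMap R (pb J φ)) := by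
  refine ⟨fun r hr => ?_⟩
  have h1 : IsUnit (pr₂ J φ (algebraMap R (pb J φ) r)) := hr.map (pr₂ J φ)
  rw [AlgHom.commutes] at h1
  exact isUnit_of_map_unit (algebraMap R S) r h1

/-- uniqueness in the universal property, for ring maps into the pullback. -/
theorem eq_of_comp_eq (hJ : J ^ 2 = ⊥) (φ : S →ₐ[R] C ⧸ J) (g₁ g₂ : S →ₐ[R] pb J φ) : g₁ = g₂ := by
  haveI := henselian_pb J hJ φ
  obtain ⟨g, -, hg⟩ := Hensel.IsHenselization.universal (R := R) (S := S) (pb J φ)
    (algebraMap R (pb J φ)) (isLocalHom_pb J φ)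
  have h1 := hg g₁.toRingHom (RingHom.ext fun r => g₁.commutes r)
  have h2 := hg g₂.toRingHom (RingHom.ext fun r => g₂.commutes r)
  ext x : 1
  exact RingHom.congr_fun (h1.trans h2.symm) x

theorem endo_eq_id (g : S →ₐ[R] S) : g = AlgHom.id R S := by
  haveI : HenselianLocalRing S := Hensel.IsHenselization.henselian (R := R)
  obtain ⟨g₀, -, hg⟩ := Hensel.IsHenselization.universal (R := R) (S := S) S
    (algebraMap R S) inferInstance
  have h1 := hg g.toRingHom (RingHom.ext fun r => g.commutes r)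
  have h2 := hg (AlgHom.id R S).toRingHom (RingHom.ext fun r => rfl)
  ext x : 1
  exact RingHom.congr_fun (h1.trans h2.symm) x

theorem exists_lift (hJ : J ^ 2 = ⊥) (φ : S →ₐ[R] C ⧸ J) :
    ∃ ψ : S →ₐ[R] C, (Ideal.Quotient.mkₐ R J).comp ψ = φ := by
  haveI := henselian_pb J hJ φ
  obtain ⟨g, hg, -⟩ := Hensel.IsHenselization.universal (R := R) (S := S) (pb J φ)
    (algebraMap R (pb J φ)) (isLocalHom_pb J φ)
  let g' : S →ₐ[R] pb J φ := { g with commutes' := fun r => RingHom.congr_fun hg r }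
  have hid : (pr₂ J φ).comp g' = AlgHom.id R S := endo_eq_id _
  refine ⟨(pr₁ J φ).comp g', ?_⟩
  ext s : 1
  have h1 : Ideal.Quotient.mk J ((g' s : C × S)).1 = φ ((g' s : C × S)).2 :=
    (mem_pb J φ _).1 (g' s).2
  have h2 : ((g' s : C × S)).2 = s := AlgHom.congr_fun hid s
  rw [h2] at h1
  exact h1

theorem lift_unique (hJ : J ^ 2 = ⊥) (ψ₁ ψ₂ : S →ₐ[R] C)
    (h : (Ideal.Quotient.mkₐ R J).comp ψ₁ = (Ideal.Quotient.mkₐ R J).comp ψ₂) : ψ₁ = ψ₂ := by
  set φ := (Ideal.Quotient.mkₐ R J).comp ψ₂ with hφ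
  let g₁ : S →ₐ[R] pb J φ := AlgHom.codRestrict (ψ₁.prod (AlgHom.id R S)) (pb J φ) (by
    intro s
    rw [mem_pb]
    exact AlgHom.congr_fun h s)
  let g₂ : S →ₐ[R] pb J φ := AlgHom.codRestrict (ψ₂.prod (AlgHom.id R S)) (pb J φ) (by
    intro s
    rw [mem_pb]
    rfl)
  have := eq_of_comp_eq J hJ φ g₁ g₂
  ext s : 1
  have h2 := AlgHom.congr_fun this s
  exact congrArg (fun x : pb J φ => (x : C × S).1) h2

end

/-- A henselization S of a local ring R (characterized by its universal property) is formally étale over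
R. -/
theorem result (R S : Type u) [CommRing R] [IsLocalRing R] [CommRing S] [IsLocalRing S]
    [Algebra R S] [IsLocalHom (algebraMap R S)] [Hensel.IsHenselization R S] : Algebra.FormallyEtale R S := by
  rw [Algebra.FormallyEtale.iff_comp_bijective]
  intro C _ _ J hJ
  exact ⟨fun ψ₁ ψ₂ h => lift_unique J hJ ψ₁ ψ₂ h, fun φ => exists_lift J hJ φ⟩

end Groth.Agent.S1961
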