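import Groth.Statements.S1962
import Groth.Agent.H10.PullbackSqZero
import Mathlib

set_option autoImplicit false
universe u
open EtAlg

namespace Groth.Agent.S1962

open Groth.Agent.H10 IsLocalRing

/-- a surjective local homomorphism of local rings induces a bijection of residue fields. -/
theorem residueMap_bijective {T S : Type*} [CommRing T] [IsLocalRing T] [CommRing S] [IsLocalRing S]
    (π : T →+* S) [IsLocalHom π] (hπ : Function.Surjective π) :
    Function.Bijective (ResidueField.map π) := by
  refine ⟨(ResidueField.map π).injective, fun y => ?_⟩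
  obtain ⟨s, rfl⟩ := residue_surjective y
  obtain ⟨t, rfl⟩ := hπ s
  exact ⟨residue T t, ResidueField.map_residue π t⟩

section
variable {R S : Type u} [CommRing R] [IsLocalRing R] [CommRing S] [IsLocalRing S]
    [Algebra R S] [IsLocalHom (algebraMap R S)] [Hensel.IsStrictHenselization R S]
variable {C : Type u} [CommRing C] [Algebra R C] (J : Ideal C)

/-- any two `R`-algebra maps `S → S` inducing the identity on the residue field are equal. -/
theorem endo_eq_id (g : S →ₐ[R] S) (hg : ∀ x : S, residue S (g x) = residue S x) :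
    g = AlgHom.id R S := by
  haveI : HenselianLocalRing S := Hensel.IsStrictHenselization.henselian (R := R)
  obtain ⟨g₀, -, hg₀⟩ := Hensel.IsStrictHenselization.universal (R := R) (S := S) S
    (algebraMap R S) (RingHom.id _) (by rw [RingHom.id_comp])
  have h1 := hg₀ g.toRingHom ⟨RingHom.ext fun r => g.commutes r, fun x => hg x⟩
  have h2 := hg₀ (AlgHom.id R S).toRingHom ⟨RingHom.ext fun r => rfl, fun x => rfl⟩
  ext x : 1
  exact RingHom.congr_fun (h1.trans h2.symm) x

theorem key (hJ : J ^ 2 = ⊥) (φ : S →ₐ[R] C ⧸ J) :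
    ∃ g : S →ₐ[R] pb J φ, (∀ x, pr₂ J φ (g x) = x) ∧
      ∀ g' : S →ₐ[R] pb J φ, (∀ x, pr₂ J φ (g' x) = x) → g' = g := by
  haveI : HenselianLocalRing S := Hensel.IsStrictHenselization.henselian (R := R)
  haveI hH : HenselianLocalRing (pb J φ) := henselian_pb' J hJ φ
  haveI hloc : IsLocalHom (algebraMap R (pb J φ)) := isLocalHom_algebraMap_pb J φ
  haveI hloc2 : IsLocalHom (pr₂ J φ).toRingHom := isLocalHom_pr₂ J hJ φ
  have hbij := residueMap_bijective (pr₂ J φ).toRingHom (pr₂_surjective J φ)
  let e := RingEquiv.ofBijective _ hbij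
  have he : ∀ y, ResidueField.map (pr₂ J φ).toRingHom (e.symm y) = y := fun y =>
    e.apply_symm_apply y
  have hτ : e.symm.toRingHom.comp (ResidueField.map (algebraMap R S)) =
      ResidueField.map (algebraMap R (pb J φ)) := by
    ext y
    obtain ⟨r, rfl⟩ := residue_surjective y
    apply hbij.1
    simp only [RingHom.comp_apply, RingEquiv.toRingHom_eq_coe, RingEquiv.coe_toRingHom]
    rw [he, ResidueField.map_residue, ResidueField.map_residue, ResidueField.map_residue]
    congr 1
  obtain ⟨g, ⟨hg1, hg2⟩, hguniq⟩ := Hensel.IsStrictHenselization.universal (R := R) (S := S)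
    (pb J φ) (algebraMap R (pb J φ)) e.symm.toRingHom hτ
  let g' : S →ₐ[R] pb J φ := { g with commutes' := fun r => RingHom.congr_fun hg1 r }
  have hgres : ∀ x, residue S (pr₂ J φ (g' x)) = residue S x := by
    intro x
    have h1 : residue (pb J φ) (g x) = e.symm (residue S x) := hg2 x
    have h2 := congrArg (ResidueField.map (pr₂ J φ).toRingHom) h1
    rw [he, ResidueField.map_residue] at h2
    exact h2
  have hid : (pr₂ J φ).comp g' = AlgHom.id R S := endo_eq_id _ hgres
  refine ⟨g', fun x => AlgHom.congr_fun hid x, fun g'' hg'' => ?_⟩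
  have h3 : g''.toRingHom = g := by
    apply hguniq
    refine ⟨RingHom.ext fun r => g''.commutes r, fun x => ?_⟩
    apply hbij.1
    rw [RingEquiv.toRingHom_eq_coe, RingEquiv.coe_toRingHom, he, ResidueField.map_residue]
    congr 1
    exact hg'' x
  ext x : 1
  exact RingHom.congr_fun h3 x

end

/-- A strict henselization S of a local ring R (characterized by its universal property, with R → S a
local homomorphism) is formally étale over R. -/
theorem result (R S : Type u) [CommRing R] [IsLocalRing R] [CommRing S]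
    [IsLocalRing S] [Algebra R S] [IsLocalHom (algebraMap R S)] [Hensel.IsStrictHenselization R S] :
    Algebra.FormallyEtale R S := by
  rw [Algebra.FormallyEtale.iff_comp_bijective]
  intro C _ _ J hJ
  constructor
  · intro ψ₁ ψ₂ h
    obtain ⟨g, -, hg⟩ := key J hJ ((Ideal.Quotient.mkₐ R J).comp ψ₂)
    have h1 := hg (toPb J _ ψ₁ h) (fun x => pr₂_toPb J _ ψ₁ h x)
    have h2 := hg (toPb J _ ψ₂ rfl) (fun x => pr₂_toPb J _ ψ₂ rfl x)
    ext s : 1
    have h3 := AlgHom.congr_fun (h1.trans h2.symm) s
    exact congrArg (pr₁ J _) h3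
  · intro φ
    obtain ⟨g, hg, -⟩ := key J hJ φ
    refine ⟨(pr₁ J φ).comp g, ?_⟩
    ext s : 1
    have := mk_pr₁ J φ (g s)
    rw [hg] at this
    exact this

end Groth.Agent.S1962
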