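import Groth.Statements.S8852
import Groth.Agent.H8.QCohStalk

set_option autoImplicit false
universe u
open CategoryTheory CategoryTheory.Limits AlgebraicGeometry TopologicalSpace
open SDiv

namespace Groth.Agent.S8852

lemma exists_mul_eq {A : Type*} [CommRing A] (I J : Ideal A) (f : A)
    (hf : f ∈ nonZeroDivisors A) (hIJ : I * J = Ideal.span {f}) (p : Ideal A) [hp : p.IsPrime] :
    ∃ a ∈ I, ∃ b ∈ J, ∃ c, c ∉ p ∧ a * b = f * c := by
  by_contra hcon
  push Not at hcon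
  have h1 : I * J ≤ Ideal.span {f} * p := by
    rw [Ideal.mul_le]
    intro a ha b hb
    have h2 : a * b ∈ Ideal.span {f} := hIJ ▸ Ideal.mul_mem_mul ha hb
    obtain ⟨c, hc⟩ := Ideal.mem_span_singleton'.mp h2
    have hcp : c ∈ p := by
      by_contra hcp
      exact hcon a ha b hb c hcp (by rw [← hc, mul_comm])
    rw [← hc, mul_comm c f]
    exact Ideal.mul_mem_mul (Ideal.mem_span_singleton_self f) hcp
  have h3 : f ∈ Ideal.span {f} * p := h1 (hIJ ▸ Ideal.mem_span_singleton_self f)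
  obtain ⟨z, hz, hfz⟩ := Ideal.mem_span_singleton_mul.mp h3
  have h4 : f * (z - 1) = 0 := by rw [mul_sub, hfz, mul_one, sub_self]
  have h5 : z - 1 = 0 := (mem_nonZeroDivisors_iff_left.mp hf) _ h4
  have h6 : z = 1 := sub_eq_zero.mp h5
  exact hp.ne_top ((Ideal.eq_top_iff_one _).mpr (h6 ▸ hz))

lemma map_eq_span_of_mul_eq {A A' : Type*} [CommRing A] [CommRing A'] [Algebra A A'] (I J : Ideal A)
    (f : A) (hf : f ∈ nonZeroDivisors A) (hIJ : I * J = Ideal.span {f}) {a b c : A} (ha : a ∈ I)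
    (hb : b ∈ J) (habc : a * b = f * c) [IsLocalization.Away c A'] :
    I.map (algebraMap A A') = Ideal.span {algebraMap A A' a} ∧
      algebraMap A A' a ∈ nonZeroDivisors A' := by
  have hcu : IsUnit (algebraMap A A' c) := IsLocalization.Away.algebraMap_isUnit c
  constructor
  · apply le_antisymm
    · rw [Ideal.map_le_iff_le_comap]
      intro x hx
      rw [Ideal.mem_comap, Ideal.mem_span_singleton']
      have h2 : x * b ∈ Ideal.span {f} := hIJ ▸ Ideal.mul_mem_mul hx hb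
      obtain ⟨d, hd⟩ := Ideal.mem_span_singleton'.mp h2
      have h3 : f * (x * c - a * d) = 0 := by
        have : f * (x * c - a * d) = x * (f * c) - a * (d * f) := by ring
        rw [this, ← habc, hd]; ring
      have h4 : x * c = a * d := sub_eq_zero.mp ((mem_nonZeroDivisors_iff_left.mp hf) _ h3)
      obtain ⟨u, hu⟩ := hcu
      refine ⟨algebraMap A A' d * ↑u⁻¹, ?_⟩
      have h5 := congrArg (algebraMap A A') h4
      rw [map_mul, map_mul, ← hu] at h5
      calc algebraMap A A' d * ↑u⁻¹ * algebraMap A A' a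
          = (algebraMap A A' a * algebraMap A A' d) * ↑u⁻¹ := by ring
        _ = (algebraMap A A' x * ↑u) * ↑u⁻¹ := by rw [h5]
        _ = algebraMap A A' x := by rw [mul_assoc, Units.mul_inv, mul_one]
    · rw [Ideal.span_singleton_le_iff_mem]
      exact Ideal.mem_map_of_mem _ ha
  · have h1 : algebraMap A A' f ∈ nonZeroDivisors A' :=
      IsLocalization.map_nonZeroDivisors_le (Submonoid.powers c) A' (Submonoid.mem_map_of_mem _ hf)
    have h2 : algebraMap A A' a * algebraMap A A' b ∈ nonZeroDivisors A' := by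
      rw [← map_mul, habc, map_mul]
      exact mul_mem h1 hcu.mem_nonZeroDivisors
    exact (mul_mem_nonZeroDivisors.mp h2).1


set_option backward.isDefEq.respectTransparency false in
lemma isEffCartier_left {X : Scheme.{u}} (𝓘 𝓙 : X.IdealSheafData)
    (h : BlowUp.IsEffCartierIdeal (𝓘 * 𝓙)) : BlowUp.IsEffCartierIdeal 𝓘 := by
  intro x
  obtain ⟨U, hxU, f, hf, hIJ⟩ := h x
  have hIJ' : 𝓘.ideal U * 𝓙.ideal U = Ideal.span {f} := hIJ
  have hp : (U.2.primeIdealOf ⟨x, hxU⟩).asIdeal.IsPrime := (U.2.primeIdealOf ⟨x, hxU⟩).2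
  obtain ⟨a, ha, b, hb, c, hc, habc⟩ := exists_mul_eq (𝓘.ideal U) (𝓙.ideal U) f hf hIJ'
    (U.2.primeIdealOf ⟨x, hxU⟩).asIdeal
  have hxc : x ∈ X.basicOpen c := (Groth.Agent.H8.notMem_primeIdealOf_iff U.2 hxU c).mp hc
  refine ⟨X.affineBasicOpen c, hxc, ?_⟩
  let _ : Algebra Γ(X, U.1) Γ(X, X.basicOpen c) :=
    (X.presheaf.map (homOfLE (X.basicOpen_le c)).op).hom.toAlgebra
  have hloc : IsLocalization.Away c Γ(X, X.basicOpen c) := U.2.isLocalization_basicOpen c
  obtain ⟨h1, h2⟩ := map_eq_span_of_mul_eq (A' := Γ(X, X.basicOpen c)) (𝓘.ideal U) (𝓙.ideal U) f hf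
    hIJ' ha hb habc
  refine ⟨algebraMap Γ(X, U.1) Γ(X, X.basicOpen c) a, h2, ?_⟩
  rw [← 𝓘.map_ideal_basicOpen U c]
  exact h1


/-- Let 𝓘, 𝓙 be quasi-coherent ideal sheaves on a scheme X (closed subschemes Z, Y). If the product 𝓘𝓙
is the ideal sheaf of an effective Cartier divisor D, then 𝓘 and 𝓙 are ideal sheaves of effective
Cartier divisors (and D is their sum, D having ideal 𝓘𝓙 by assumption). -/
theorem result {X : Scheme.{u}} (𝓘 𝓙 : X.IdealSheafData)
    (h : BlowUp.IsEffCartierIdeal (𝓘 * 𝓙)) : BlowUp.IsEffCartierIdeal 𝓘 ∧ BlowUp.IsEffCartierIdeal 𝓙 := by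
  refine ⟨isEffCartier_left 𝓘 𝓙 h, isEffCartier_left 𝓙 𝓘 ?_⟩
  have : 𝓙 * 𝓘 = 𝓘 * 𝓙 := by
    ext U : 2
    simp only [Scheme.IdealSheafData.ideal_mul, Pi.mul_apply]
    exact mul_comm _ _
  rw [this]
  exact h

end Groth.Agent.S8852
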