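import Groth.Statements.S8861
import Groth.Agent.H8.RegularGerm
import Groth.Agent.H19.ComapAff

set_option autoImplicit false
universe u
open CategoryTheory CategoryTheory.Limits AlgebraicGeometry TopologicalSpace
open SDiv

namespace Groth.Agent.S8861

/-- Let f : X ⟶ Y be a morphism of schemes and 𝓘 the ideal sheaf of an effective Cartier divisor D ⊆ Y.
If f x ∉ D for every weakly associated point x of X (weakly associated point of the structure
sheaf), then the inverse image ideal sheaf of 𝓘 on X is the ideal of an effective Cartier divisor,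
i.e. the pullback of D by f is defined. -/
theorem result {X Y : Scheme.{u}} (f : X ⟶ Y) (𝓘 : Y.IdealSheafData)
    (hD : BlowUp.IsEffCartierIdeal 𝓘)
    (h : ∀ x : ↥X, Curv2.IsWeakAssPoint (Coh.structureModule X) x → f x ∉ 𝓘.support) :
    BlowUp.IsEffCartierIdeal (𝓘.comap f) := by
  intro x
  obtain ⟨U, hfxU, s, hs, hIU⟩ := hD (f x)
  obtain ⟨_, ⟨V, hV, rfl⟩, hxV, hVU'⟩ := X.isBasis_affineOpens.exists_subset_of_mem_open
    (show x ∈ f ⁻¹ᵁ U.1 from hfxU) (f ⁻¹ᵁ U.1).2
  have hV : IsAffineOpen V := hV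
  have hVU : V ≤ f ⁻¹ᵁ U.1 := hVU'
  refine ⟨⟨V, hV⟩, hxV, (f.appLE U.1 V hVU).hom s, ?_, ?_⟩
  · have key := Groth.Agent.H8.res_mem_nonZeroDivisors_of_weakAss (W := V)
      ((f.appLE U.1 V hVU).hom s) ?_ le_rfl
    · have e : X.presheaf.map (homOfLE (le_refl V)).op ((f.appLE U.1 V hVU).hom s) =
          (f.appLE U.1 V hVU).hom s := by
        rw [Subsingleton.elim (homOfLE (le_refl V)) (𝟙 V)]
        simp
      rwa [e] at key
    · intro y hy hyw
      have hfy : f y ∉ 𝓘.support := h y hyw
      have hfyU : f y ∈ U.1 := hVU hy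
      rw [Scheme.IdealSheafData.mem_support_iff_of_mem hfyU, hIU, Scheme.zeroLocus_span,
        Scheme.zeroLocus_singleton] at hfy
      have h1 : f y ∈ Y.basicOpen s := by
        by_contra hc
        exact hfy hc
      have h2 : y ∈ X.basicOpen ((f.appLE U.1 V hVU).hom s) := by
        rw [Scheme.basicOpen_appLE]
        exact ⟨hy, h1⟩
      exact ((Scheme.mem_basicOpen X _ y hy).mp h2).mem_nonZeroDivisors
  · rw [Groth.Agent.H19.ComapAff.ideal_comap_appLE f 𝓘 U ⟨V, hV⟩ hVU, hIU, Ideal.map_span,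
      Set.image_singleton]

end Groth.Agent.S8861
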