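import Groth.Statements.S8898
import Groth.Agent.H8.BlowUpAss
import Groth.Agent.S8861

set_option autoImplicit false
universe u
open CategoryTheory CategoryTheory.Limits AlgebraicGeometry TopologicalSpace
open SDiv

namespace Groth.Agent.S8898

/-- Let X be a scheme, 𝓘 a quasi-coherent ideal sheaf and b : X' ⟶ X a blowing up of X in 𝓘. Then the
pullback b⁻¹D is defined for every effective Cartier divisor D ⊆ X (the inverse image ideal of the
ideal of D is again the ideal of an effective Cartier divisor), and pullbacks of meromorphic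
functions are defined for b (b carries regular sections of O_X, i.e. sections whose germs are
nonzerodivisors, to regular sections of O_{X'}). -/
theorem result {X X' : Scheme.{u}} (𝓘 : X.IdealSheafData) (b : X' ⟶ X) (hb : BlowUp.IsBlowUp b 𝓘) :
    (∀ 𝓓 : X.IdealSheafData, BlowUp.IsEffCartierIdeal 𝓓 → BlowUp.IsEffCartierIdeal (𝓓.comap b)) ∧
      ∀ (U : X.Opens) (s : Γ(X, U)), s ∈ Mero.regSub X U → b.app U s ∈ Mero.regSub X' (b ⁻¹ᵁ U) := by
  refine ⟨fun 𝓓 hD => ?_, fun U s hs x' => ?_⟩
  · exact Groth.Agent.S8861.result b 𝓓 hD fun x' hx' =>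
      Groth.Agent.H8.notMem_support_of_isWeakAssPoint hD (Groth.Agent.H8.blowUp_weakAss hb hx').2.2
  · refine Groth.Agent.H8.germ_mem_nonZeroDivisors_of_weakAss (b.app U s) ?_ x'.1 x'.2
    intro y hy hyw
    have hby : b y ∈ U := hy
    have hiso : IsIso (b.stalkMap y) := (Groth.Agent.H8.blowUp_weakAss hb hyw).2.1
    have h1 : X.presheaf.germ U (b y) hby s ∈ nonZeroDivisors (X.presheaf.stalk (b y)) :=
      hs ⟨b y, hby⟩
    rw [← Scheme.Hom.germ_stalkMap_apply b U y hby s]
    let e : X.presheaf.stalk (b y) ≃+* X'.presheaf.stalk y :=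
      (asIso (b.stalkMap y)).commRingCatIsoToRingEquiv
    have h2 : e (X.presheaf.germ U (b y) hby s) ∈ nonZeroDivisors (X'.presheaf.stalk y) := by
      rw [mem_nonZeroDivisors_iff_left]
      intro z hz
      have h3 := congrArg e.symm hz
      rw [map_mul, RingEquiv.symm_apply_apply, map_zero] at h3
      have h4 := (mem_nonZeroDivisors_iff_left.mp h1) _ h3
      exact (EmbeddingLike.map_eq_zero_iff (f := e.symm)).mp h4
    exact h2

end Groth.Agent.S8898
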