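import Groth.Statements.S3820
import Groth.Agent.H91.SymGrMain

set_option autoImplicit false
universe u
open scoped TensorProduct
open PP16

namespace Groth.Agent.S3820

open Groth.Agent.H91

/-- Let B be an A-algebra which is formally smooth (for the discrete topologies). Then Spec B is
differentially smooth over Spec A: the module of differentials is projective and the canonical
surjections Sym^n(Ω_{B/A}) → I^n/I^(n+1) are bijective for all n. -/
theorem result (A B : Type u) [CommRing A] [CommRing B] [Algebra A B]
    [Algebra.FormallySmooth A B] : PP16.IsDiffSmooth A B := by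
  refine ⟨inferInstance, ?_⟩
  intro ι _
  let σ : B ⊗[A] B →ₐ[B] B := Algebra.TensorProduct.lmul'' A
  have hI : ∀ x, x ∈ KaehlerDifferential.ideal A B ↔ σ x = 0 := fun x => Iff.rfl
  let q : ↥((KaehlerDifferential.ideal A B).restrictScalars B) →ₗ[B] KaehlerDifferential A B :=
    (KaehlerDifferential.fromIdeal A B).restrictScalars B
  have hq : Function.Surjective q := KaehlerDifferential.fromIdeal_surjective A B
  have hq0 : ∀ x, q x = 0 ↔ (x : B ⊗[A] B) ∈ KaehlerDifferential.ideal A B ^ 2 :=
    fun x => Ideal.toCotangent_eq_zero _ x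
  obtain ⟨φ, hφ⟩ := SymGr.exists_phi (ι := ι) (KaehlerDifferential.ideal A B) q hq hq0
  refine ⟨φ, ?_, SymGr.phi_bijective σ (KaehlerDifferential.ideal A B) hI q hq0 hq φ hφ⟩
  intro b
  have := hφ (fun i => ⟨(1 : B) ⊗ₜ[A] b i - b i ⊗ₜ[A] (1 : B),
    KaehlerDifferential.one_smul_sub_smul_one_mem_ideal A (b i)⟩)
  exact this

end Groth.Agent.S3820
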