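import Groth.Statements.S18636
import Groth.Agent.H98.Bass1.Final

set_option autoImplicit false
universe u
open GrLC

namespace Groth.Agent.S18636

/-- Let R be a commutative Noetherian ℤ-graded ring, M a graded R-module (not necessarily finitely
generated) and p a prime ideal of R which is not graded; write p* for the largest graded ideal
contained in p (a graded prime). Then μ_0(p, M) = 0 and μ_{i+1}(p, M) = μ_i(p*, M) for every i ≥ 0.
(Bass numbers μ_i(q, M) are taken as the k(q)-dimension of Ext^i over R_q of k(q) into M_q, as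
extended natural numbers; the published text also recalls their description as multiplicities in a
minimal injective resolution, and the two agree over a Noetherian ring.) -/
theorem result (R : Type u) [CommRing R] [IsNoetherianRing R] (𝒜 : ℤ → AddSubgroup R) [GradedRing 𝒜] (M : Type u) [AddCommGroup M] [Module R M] (ℳ : ℤ → AddSubgroup M) [DirectSum.Decomposition ℳ] [SetLike.GradedSMul 𝒜 ℳ] (p : Ideal R) [p.IsPrime] (hp : ¬ Ideal.IsHomogeneous 𝒜 p) [(Ideal.homogeneousCore 𝒜 p).toIdeal.IsPrime] : GrLC.bassNum p M 0 = 0 ∧ ∀ i : ℕ, GrLC.bassNum p M (i + 1) = GrLC.bassNum (Ideal.homogeneousCore 𝒜 p).toIdeal M i := by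
  have hqp : (Ideal.homogeneousCore 𝒜 p).toIdeal ≤ p := Ideal.toIdeal_homogeneousCore_le 𝒜 p
  have hcore : ∀ g, ∀ x ∈ 𝒜 g, x ∈ p → x ∈ (Ideal.homogeneousCore 𝒜 p).toIdeal :=
    fun g x hx hxp => Ideal.mem_homogeneousCore_of_homogeneous_of_mem ⟨g, hx⟩ hxp
  have hle := Groth.Agent.H98.Bass1.height_map_le (Ideal.homogeneousCore 𝒜 p) p hqp hcore
  rw [Module.finrank_self] at hle
  have hle' : (p.map (Ideal.Quotient.mk (Ideal.homogeneousCore 𝒜 p).toIdeal)).height ≤ 1 := by
    exact_mod_cast hle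
  have hne : (p.map (Ideal.Quotient.mk (Ideal.homogeneousCore 𝒜 p).toIdeal)).height ≠ 0 := by
    intro h0
    rw [Ideal.height_eq_zero_iff_eq_bot, Ideal.map_eq_bot_iff_le_ker, Ideal.mk_ker] at h0
    apply hp
    have : p = (Ideal.homogeneousCore 𝒜 p).toIdeal := le_antisymm h0 hqp
    rw [this]
    exact (Ideal.homogeneousCore 𝒜 p).isHomogeneous
  have hd : (p.map (Ideal.Quotient.mk (Ideal.homogeneousCore 𝒜 p).toIdeal)).height = ((1 : ℕ) : ℕ∞) := by
    rw [Nat.cast_one]
    exact le_antisymm hle' (Order.one_le_iff_pos.mpr (pos_iff_ne_zero.mpr hne))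
  obtain ⟨h1, h2⟩ := Groth.Agent.H98.Bass1.bassNum_core 𝒜 ℳ (Ideal.homogeneousCore 𝒜 p) p hqp hcore 1 hd
  refine ⟨h1 0 Nat.zero_lt_one, fun i => ?_⟩
  have := h2 i
  rwa [Nat.add_comm] at this

end Groth.Agent.S18636
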