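import Groth.Statements.S16397
import Mathlib
-- import your own Groth.Agent.* helpers here

set_option autoImplicit false
open W4c3tautjacobian

namespace Groth.Agent.S16397

section Helpers
open MvPolynomial
open W4c3tautjacobian

variable (g : ℕ)

/-- first-degree weight -/
def w1 : Var g → ℕ := fun v => (wt g v).1

/-- ℤ-indexed homogeneous pieces for the first degree -/
noncomputable def Mz (z : ℤ) : Submodule ℚ (RelRing g) :=
  if 0 ≤ z then weightedHomogeneousSubmodule ℚ (w1 g) z.toNat else ⊥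

theorem mem_Mz_of_nonneg {z : ℤ} (hz : 0 ≤ z) {P : RelRing g} :
    P ∈ Mz g z ↔ IsWeightedHomogeneous (w1 g) P z.toNat := by
  unfold Mz; rw [if_pos hz, mem_weightedHomogeneousSubmodule]

theorem mem_Mz_of_neg {z : ℤ} (hz : z < 0) {P : RelRing g} : P ∈ Mz g z ↔ P = 0 := by
  unfold Mz; rw [if_neg (not_le.mpr hz), Submodule.mem_bot]

theorem mul_mem_Mz {a b : ℤ} {P Q : RelRing g} (hP : P ∈ Mz g a) (hQ : Q ∈ Mz g b) :
    P * Q ∈ Mz g (a + b) := by
  by_cases ha : 0 ≤ a
  · by_cases hb : 0 ≤ b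
    · rw [mem_Mz_of_nonneg g ha] at hP
      rw [mem_Mz_of_nonneg g hb] at hQ
      rw [mem_Mz_of_nonneg g (add_nonneg ha hb), Int.toNat_add ha hb]
      exact hP.mul hQ
    · rw [mem_Mz_of_neg g (not_le.mp hb)] at hQ
      rw [hQ, mul_zero]; exact zero_mem _
  · rw [mem_Mz_of_neg g (not_le.mp ha)] at hP
    rw [hP, zero_mul]; exact zero_mem _

theorem C_mem (c : ℚ) : (C c : RelRing g) ∈ Mz g 0 := by
  rw [mem_Mz_of_nonneg g le_rfl]
  exact isWeightedHomogeneous_C _ _

theorem natCast_mem (n : ℕ) : ((n : ℕ) : RelRing g) ∈ Mz g 0 := by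
  have : ((n : ℕ) : RelRing g) = C (n : ℚ) := by simp
  rw [this]; exact C_mem g _

theorem Xnone_mem : (X none : RelRing g) ∈ Mz g 0 := by
  rw [mem_Mz_of_nonneg g le_rfl]
  exact isWeightedHomogeneous_X _ _ _

theorem xv_mem (i j : ℤ) : xv g i j ∈ Mz g i := by
  unfold xv
  split_ifs with h0 h
  · rw [h0.1]; exact natCast_mem g g
  · rw [mem_Mz_of_nonneg g h.1]
    exact isWeightedHomogeneous_X _ _ _
  · exact zero_mem _

theorem pderiv_eq_zero_of_lt {σ : Type*} {w : σ → ℕ} {d : ℕ} {P : MvPolynomial σ ℚ}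
    (hP : IsWeightedHomogeneous w P d) (i : σ) (hi : d < w i) : pderiv i P = 0 := by
  classical
  apply pderiv_eq_zero_of_notMem_vars
  intro hmem
  rw [mem_vars_iff_mem_support] at hmem
  obtain ⟨s, hs, his⟩ := hmem
  have h1 := hP (mem_support_iff.mp hs)
  have h2 : w i ≤ Finsupp.weight w s :=
    Finsupp.le_weight_of_ne_zero' (w := w) (Finsupp.mem_support_iff.mp his)
  omega

theorem dv_mem (p : ℕ × ℕ) {z : ℤ} {P : RelRing g} (hP : P ∈ Mz g z) :
    dv g p P ∈ Mz g (z - p.1) := by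
  unfold dv
  split_ifs with h
  · by_cases hz : 0 ≤ z
    · rw [mem_Mz_of_nonneg g hz] at hP
      by_cases hzp : 0 ≤ z - p.1
      · rw [mem_Mz_of_nonneg g hzp]
        apply hP.pderiv
        show (z - p.1).toNat + p.1 = z.toNat
        omega
      · rw [mem_Mz_of_neg g (not_le.mp hzp)]
        apply pderiv_eq_zero_of_lt hP
        show z.toNat < p.1
        omega
    · rw [mem_Mz_of_neg g (not_le.mp hz)] at hP
      rw [hP, map_zero]; exact zero_mem _
  · exact zero_mem _

theorem F_mem {z : ℤ} {P : RelRing g} (hP : P ∈ Mz g z) : F g P ∈ Mz g (z - 2) := by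
  unfold F
  apply Submodule.add_mem
  · apply Submodule.smul_mem
    apply Submodule.sum_mem; intro p _
    apply Submodule.sum_mem; intro q _
    have h1 := dv_mem g p (dv_mem g q hP)
    have hc : (X none * xv g ((p.1 : ℤ) - 1) ((p.2 : ℤ) - 1)
          * xv g ((q.1 : ℤ) - 1) ((q.2 : ℤ) - 1)
        - (mergeCoeff p.1 q.1 : RelRing g) * xv g ((p.1 : ℤ) + q.1 - 2) ((p.2 : ℤ) + q.2))
        ∈ Mz g ((p.1 : ℤ) + q.1 - 2) := by
      apply Submodule.sub_mem
      · have := mul_mem_Mz g (mul_mem_Mz g (Xnone_mem g) (xv_mem g ((p.1 : ℤ) - 1) ((p.2 : ℤ) - 1)))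
          (xv_mem g ((q.1 : ℤ) - 1) ((q.2 : ℤ) - 1))
        convert this using 2; ring
      · have := mul_mem_Mz g (natCast_mem g (mergeCoeff p.1 q.1))
          (xv_mem g ((p.1 : ℤ) + q.1 - 2) ((p.2 : ℤ) + q.2))
        convert this using 2; ring
    have := mul_mem_Mz g hc h1
    convert this using 2; ring
  · apply Submodule.sum_mem; intro p _
    have := mul_mem_Mz g (xv_mem g ((p.1 : ℤ) - 2) (p.2 : ℤ)) (dv_mem g p hP)
    convert this using 2; ring

/-! ### linearity -/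

theorem dv_add (p : ℕ × ℕ) (A B : RelRing g) : dv g p (A + B) = dv g p A + dv g p B := by
  unfold dv; split_ifs <;> simp

theorem dv_zero (p : ℕ × ℕ) : dv g p (0 : RelRing g) = 0 := by
  unfold dv; split_ifs <;> simp

theorem dv_smul (p : ℕ × ℕ) (c : ℚ) (A : RelRing g) : dv g p (c • A) = c • dv g p A := by
  unfold dv; split_ifs
  · exact (pderiv _).map_smul c A
  · simp

theorem dv_mul (p : ℕ × ℕ) (A B : RelRing g) :
    dv g p (A * B) = dv g p A * B + A * dv g p B := by
  unfold dv; split_ifs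
  · rw [Derivation.leibniz]; simp only [smul_eq_mul]; ring
  · simp

/-- coefficient of the second-order part of `F` -/
noncomputable def cc (p q : ℕ × ℕ) : RelRing g :=
  X none * xv g ((p.1 : ℤ) - 1) ((p.2 : ℤ) - 1) * xv g ((q.1 : ℤ) - 1) ((q.2 : ℤ) - 1)
    - (mergeCoeff p.1 q.1 : RelRing g) * xv g ((p.1 : ℤ) + q.1 - 2) ((p.2 : ℤ) + q.2)

/-- coefficient of the first-order part of `F` -/
noncomputable def aa (p : ℕ × ℕ) : RelRing g := xv g ((p.1 : ℤ) - 2) (p.2 : ℤ)

theorem F_eq (P : RelRing g) : F g P =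
    (1 / 2 : ℚ) • (∑ p ∈ idx g, ∑ q ∈ idx g, cc g p q * dv g p (dv g q P))
      + ∑ p ∈ idx g, aa g p * dv g p P := rfl

theorem F_add (A B : RelRing g) : F g (A + B) = F g A + F g B := by
  simp only [F_eq, dv_add, mul_add, Finset.sum_add_distrib, smul_add]
  abel

theorem F_zero : F g (0 : RelRing g) = 0 := by
  simp [F_eq, dv_zero]

theorem F_smul (c : ℚ) (A : RelRing g) : F g (c • A) = c • F g A := by
  simp only [F_eq, dv_smul, mul_smul_comm, ← Finset.smul_sum, smul_add]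
  rw [smul_comm]

/-! ### the commutation relation -/

theorem valid20 (hg : 1 ≤ g) : Valid g (2, 0) := by
  refine ⟨by simp, ?_, by decide, by simp⟩
  show 0 + 2 ≤ 2 * g
  omega

theorem mem_idx_of_valid {p : ℕ × ℕ} (h : Valid g p) : p ∈ idx g := by
  obtain ⟨h1, h2, -, -⟩ := h
  unfold idx
  simp only [Finset.mem_product, Finset.mem_range]
  omega

theorem xv_of_valid {p : ℕ × ℕ} (h : Valid g p) :
    xv g (p.1 : ℤ) (p.2 : ℤ) = X (some ⟨p, h⟩) := by
  unfold xv
  have hne : ¬ ((p.1 : ℤ) = 0 ∧ (p.2 : ℤ) = 0) := by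
    rintro ⟨h1, h2⟩
    apply h.2.2.2
    ext <;> simp_all
  rw [if_neg hne]
  have hv : 0 ≤ (p.1 : ℤ) ∧ 0 ≤ (p.2 : ℤ) ∧ Valid g ((p.1 : ℤ).toNat, (p.2 : ℤ).toNat) := by
    refine ⟨by simp, by simp, ?_⟩
    simpa using h
  rw [dif_pos hv]
  congr 2

theorem xv20 (hg : 1 ≤ g) : xv g 2 0 = X (some ⟨(2, 0), valid20 g hg⟩) := by
  have := xv_of_valid g (valid20 g hg)
  simpa using this

/-- Kronecker delta at `(2,0)` -/
noncomputable def del (p : ℕ × ℕ) : RelRing g := if p = (2, 0) then 1 else 0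

theorem dv_xv20 (hg : 1 ≤ g) (p : ℕ × ℕ) : dv g p (xv g 2 0) = del g p := by
  classical
  rw [xv20 g hg]
  unfold dv del
  split_ifs with h h2 h2
  · subst h2
    rw [pderiv_X, Pi.single_eq_same]
  · rw [pderiv_X, Pi.single_eq_of_ne]
    intro heq
    apply h2
    have := Option.some.inj heq
    exact (congrArg Subtype.val this).symm
  · exact absurd (h2 ▸ valid20 g hg) h
  · rfl

theorem dv_del_mul (p q : ℕ × ℕ) (A : RelRing g) :
    dv g p (del g q * A) = del g q * dv g p A := by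
  unfold del
  split_ifs <;> simp [dv_zero]

theorem dv_xv20_mul (hg : 1 ≤ g) (p : ℕ × ℕ) (P : RelRing g) :
    dv g p (xv g 2 0 * P) = del g p * P + xv g 2 0 * dv g p P := by
  rw [dv_mul, dv_xv20 g hg]

theorem dv_dv_xv20_mul (hg : 1 ≤ g) (p q : ℕ × ℕ) (P : RelRing g) :
    dv g p (dv g q (xv g 2 0 * P)) =
      del g q * dv g p P + (del g p * dv g q P + xv g 2 0 * dv g p (dv g q P)) := by
  rw [dv_xv20_mul g hg, dv_add, dv_del_mul, dv_xv20_mul g hg]

theorem mem20 (hg : 1 ≤ g) : ((2, 0) : ℕ × ℕ) ∈ idx g := mem_idx_of_valid g (valid20 g hg)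

theorem sum_del_right (hg : 1 ≤ g) (f : ℕ × ℕ → ℕ × ℕ → RelRing g) (A : ℕ × ℕ → RelRing g) :
    ∑ p ∈ idx g, ∑ q ∈ idx g, f p q * (del g q * A p) = ∑ p ∈ idx g, f p (2, 0) * A p := by
  apply Finset.sum_congr rfl
  intro p _
  rw [Finset.sum_eq_single (2, 0)]
  · simp [del]
  · intro q _ hq
    simp [del, hq]
  · intro h
    exact absurd (mem20 g hg) h

theorem sum_del_left (hg : 1 ≤ g) (f : ℕ × ℕ → ℕ × ℕ → RelRing g) (A : ℕ × ℕ → RelRing g) :
    ∑ p ∈ idx g, ∑ q ∈ idx g, f p q * (del g p * A q) = ∑ q ∈ idx g, f (2, 0) q * A q := by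
  rw [Finset.sum_eq_single (2, 0)]
  · simp [del]
  · intro p _ hp
    simp [del, hp]
  · intro h
    exact absurd (mem20 g hg) h

theorem sum_del_one (hg : 1 ≤ g) (f : ℕ × ℕ → RelRing g) (P : RelRing g) :
    ∑ p ∈ idx g, f p * (del g p * P) = f (2, 0) * P := by
  rw [Finset.sum_eq_single (2, 0)]
  · simp [del]
  · intro p _ hp
    simp [del, hp]
  · intro h
    exact absurd (mem20 g hg) h

/-- the first-degree Euler operator -/
noncomputable def H1 (P : RelRing g) : RelRing g :=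
  ∑ p ∈ idx g, (p.1 : RelRing g) * xv g (p.1 : ℤ) (p.2 : ℤ) * dv g p P

theorem mergeCoeff_two_right (i : ℕ) : mergeCoeff i 2 = i := by
  unfold mergeCoeff
  rcases i with _ | i
  · simp
  · simp only [Nat.add_eq_zero_iff, one_ne_zero, and_false, OfNat.ofNat_ne_zero, or_self,
      if_false]
    have : i + 1 + 2 - 2 = i + 1 := by omega
    rw [this]
    simp

theorem mergeCoeff_two_left (i : ℕ) : mergeCoeff 2 i = i := by
  unfold mergeCoeff
  rcases i with _ | i
  · simp
  · simp only [OfNat.ofNat_ne_zero, Nat.add_eq_zero_iff, one_ne_zero, and_false, or_self,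
      if_false]
    have : 2 + (i + 1) - 2 = i + 1 := by omega
    rw [this]
    simp

theorem xv_neg_right (i : ℤ) : xv g i (-1) = 0 := by
  unfold xv
  rw [if_neg (by simp), dif_neg (by simp)]

theorem cc_right (p : ℕ × ℕ) :
    cc g p (2, 0) = - ((p.1 : RelRing g) * xv g (p.1 : ℤ) (p.2 : ℤ)) := by
  unfold cc
  have h1 : (((2, 0) : ℕ × ℕ).2 : ℤ) - 1 = -1 := by simp
  rw [h1, xv_neg_right, mul_zero, zero_sub, mergeCoeff_two_right]
  congr 3 <;> simp

theorem cc_left (q : ℕ × ℕ) :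
    cc g (2, 0) q = - ((q.1 : RelRing g) * xv g (q.1 : ℤ) (q.2 : ℤ)) := by
  unfold cc
  have h1 : (((2, 0) : ℕ × ℕ).2 : ℤ) - 1 = -1 := by simp
  rw [h1, xv_neg_right, mul_zero, zero_mul, zero_sub, mergeCoeff_two_left]
  congr 3 <;> simp

theorem aa20 : aa g (2, 0) = (g : RelRing g) := by
  unfold aa xv
  simp

theorem comm (hg : 1 ≤ g) (P : RelRing g) :
    F g (xv g 2 0 * P) = xv g 2 0 * F g P + ((g : RelRing g) * P - H1 g P) := by
  rw [F_eq, F_eq]
  simp only [dv_dv_xv20_mul g hg]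
  simp only [dv_xv20_mul g hg, mul_add, Finset.sum_add_distrib]
  rw [sum_del_right g hg, sum_del_left g hg, sum_del_one g hg, aa20]
  simp only [cc_right, cc_left]
  have e1 : ∑ x ∈ idx g, ∑ x_1 ∈ idx g, cc g x x_1 * (xv g 2 0 * dv g x (dv g x_1 P)) =
      xv g 2 0 * ∑ x ∈ idx g, ∑ x_1 ∈ idx g, cc g x x_1 * dv g x (dv g x_1 P) := by
    simp only [Finset.mul_sum]
    apply Finset.sum_congr rfl; intro p _
    apply Finset.sum_congr rfl; intro q _
    ring
  have e2 : ∑ x ∈ idx g, aa g x * (xv g 2 0 * dv g x P) =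
      xv g 2 0 * ∑ x ∈ idx g, aa g x * dv g x P := by
    simp only [Finset.mul_sum]
    apply Finset.sum_congr rfl; intro p _
    ring
  have e3 : ∑ x ∈ idx g, -((x.1 : RelRing g) * xv g (x.1 : ℤ) (x.2 : ℤ)) * dv g x P = - H1 g P := by
    unfold H1
    rw [← Finset.sum_neg_distrib]
    apply Finset.sum_congr rfl; intro p _
    ring
  rw [e1, e2, e3]
  simp only [smul_add, mul_smul_comm]
  module

/-! ### Euler identity for the first degree -/

noncomputable instance fintypeValid : Fintype {p : ℕ × ℕ // Valid g p} := by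
  classical
  exact Fintype.subtype ((idx g).filter (Valid g)) (by
    intro x
    simp only [Finset.mem_filter, and_iff_right_iff_imp]
    exact mem_idx_of_valid g)

theorem dv_of_valid {p : ℕ × ℕ} (h : Valid g p) (P : RelRing g) :
    dv g p P = pderiv (some ⟨p, h⟩) P := by
  unfold dv; rw [dif_pos h]

theorem dv_of_not_valid {p : ℕ × ℕ} (h : ¬ Valid g p) (P : RelRing g) :
    dv g p P = 0 := by
  unfold dv; rw [dif_neg h]

theorem H1_eq {d : ℕ} {P : RelRing g} (hP : IsWeightedHomogeneous (w1 g) P d) :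
    H1 g P = (d : ℚ) • P := by
  classical
  have hE := hP.sum_weight_X_mul_pderiv
  rw [Fintype.sum_option] at hE
  have h0 : w1 g none = 0 := rfl
  rw [h0, zero_smul, zero_add] at hE
  have : H1 g P = ∑ a : {p : ℕ × ℕ // Valid g p},
      w1 g (some a) • (X (some a) * pderiv (some a) P) := by
    unfold H1
    have hfil : ∑ p ∈ idx g, (p.1 : RelRing g) * xv g (p.1 : ℤ) (p.2 : ℤ) * dv g p P =
        ∑ p ∈ (idx g).filter (Valid g), (p.1 : RelRing g) * xv g (p.1 : ℤ) (p.2 : ℤ) * dv g p P := by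
      rw [Finset.sum_filter]
      apply Finset.sum_congr rfl
      intro p _
      split_ifs with h
      · rfl
      · rw [dv_of_not_valid g h, mul_zero]
    rw [hfil]
    rw [Finset.sum_subtype ((idx g).filter (Valid g)) (p := Valid g) (by
      intro x
      simp only [Finset.mem_filter, and_iff_right_iff_imp]
      exact mem_idx_of_valid g)]
    apply Finset.sum_congr rfl
    intro a _
    rw [xv_of_valid g a.2, dv_of_valid g a.2]
    have hw : w1 g (some a) = a.1.1 := rfl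
    rw [hw, nsmul_eq_mul]
    ring
  rw [this, hE]
  rw [Nat.cast_smul_eq_nsmul]

theorem comm_mem (hg : 1 ≤ g) {z : ℤ} {P : RelRing g} (hP : P ∈ Mz g z) :
    F g (xv g 2 0 * P) = xv g 2 0 * F g P + ((g : ℚ) - (z : ℚ)) • P := by
  rw [comm g hg]
  congr 1
  by_cases hz : 0 ≤ z
  · rw [mem_Mz_of_nonneg g hz] at hP
    rw [H1_eq g hP]
    have h1 : ((g : ℕ) : RelRing g) * P = (g : ℚ) • P := by
      rw [MvPolynomial.smul_eq_C_mul]; simp
    have h2 : ((z.toNat : ℕ) : ℚ) = (z : ℚ) := by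
      have : ((z.toNat : ℕ) : ℤ) = z := Int.toNat_of_nonneg hz
      exact_mod_cast this
    rw [h1, h2, sub_smul]
  · rw [mem_Mz_of_neg g (not_le.mp hz)] at hP
    subst hP
    simp [H1, dv_zero]

/-! ### iteration -/

theorem iter_mem {z : ℤ} {P : RelRing g} (hP : P ∈ Mz g z) (m : ℕ) :
    (F g)^[m] P ∈ Mz g (z - 2 * m) := by
  induction m with
  | zero => simpa using hP
  | succ m ih =>
    rw [Function.iterate_succ_apply']
    have := F_mem g ih
    convert this using 2
    push_cast; ring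

theorem iter_comm (hg : 1 ≤ g) {z : ℤ} {P : RelRing g} (hP : P ∈ Mz g z) (m : ℕ) :
    (F g)^[m + 1] (xv g 2 0 * P) = xv g 2 0 * (F g)^[m + 1] P
      + (((m : ℚ) + 1) * ((g : ℚ) - (z : ℚ)) + ((m : ℚ) + 1) * (m : ℚ)) • (F g)^[m] P := by
  induction m with
  | zero =>
    simp only [Function.iterate_succ, Function.iterate_zero, Function.comp_apply, id_eq]
    rw [comm_mem g hg hP]
    congr 2
    simp
  | succ m ih =>
    rw [Function.iterate_succ_apply', ih, F_add, F_smul]
    rw [comm_mem g hg (iter_mem g hP (m + 1))]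
    rw [← Function.iterate_succ_apply' (F g) (m + 1) P]
    rw [← Function.iterate_succ_apply' (F g) m P]
    rw [add_assoc, ← add_smul]
    congr 2
    push_cast
    ring

theorem mem_Mz_of_bihom {n d : ℕ} {β : RelRing g}
    (hβ : IsWeightedHomogeneous (wt g) β ((d, n) : ℕ × ℕ)) : β ∈ Mz g (d : ℤ) := by
  rw [mem_Mz_of_nonneg g (by simp)]
  intro s hs
  have h := hβ hs
  have h1 : (Finsupp.weight (w1 g) s) = (Finsupp.weight (wt g) s).1 := by
    simp only [Finsupp.weight_apply, Finsupp.sum, Prod.fst_sum, Prod.smul_fst]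
    rfl
  rw [h1, h]
  simp

theorem main (hg : 1 ≤ g) (n : ℕ) (β : RelRing g)
    (hβ : IsWeightedHomogeneous (wt g) β ((2 * g, n) : ℕ × ℕ)) :
    (F g)^[g + 1] (E g β) = 0 := by
  have hβ' := mem_Mz_of_bihom g hβ
  unfold E
  rw [iter_comm g hg hβ' g]
  have h1 := iter_mem g hβ' (g + 1)
  rw [mem_Mz_of_neg g (by push_cast; omega)] at h1
  rw [h1, mul_zero, zero_add]
  have : ((g : ℚ) + 1) * ((g : ℚ) - ((2 * g : ℕ) : ℤ)) + ((g : ℚ) + 1) * (g : ℚ) = 0 := by
    push_cast; ring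
  rw [this, zero_smul]

end Helpers


/-- In the formal relation ring of genus g ≥ 1, for every element β which is bihomogeneous of bidegree
(2g, n), the (g+1)-st iterate of the operator F kills x 2 0 · β. (Stated for every bihomogeneous β;
the case of a monomial β is equivalent by linearity.) -/
theorem result
    (g : ℕ) (hg : 1 ≤ g) (n : ℕ) (β : W4c3tautjacobian.RelRing g)
    (hβ : MvPolynomial.IsWeightedHomogeneous (W4c3tautjacobian.wt g) β ((2 * g, n) : ℕ × ℕ)) :
    (W4c3tautjacobian.F g)^[g + 1] (W4c3tautjacobian.E g β) = 0 := by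
  exact main g hg n β hβ

end Groth.Agent.S16397
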