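import Groth.Statements.S18861
import Mathlib

set_option autoImplicit false
universe u
open CategoryTheory MonoidalCategory CartesianMonoidalCategory MonObj GrpObj AlgebraicGeometry
open AlgGrp

namespace Groth.Agent.S18861

universe v

section General

variable {C : Type u} [Category.{v} C] [CartesianMonoidalCategory C]
  {G X : C} [GrpObj G]

/-- action on points -/
def pt (act : G ⊗ X ⟶ X) {T : C} (g : T ⟶ G) (x : T ⟶ X) : T ⟶ X := lift g x ≫ act

theorem pt_one (act : G ⊗ X ⟶ X) (h1 : (η[G] ▷ X) ≫ act = (λ_ X).hom) {T : C} (x : T ⟶ X) :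
    pt act (1 : T ⟶ G) x = x := by
  unfold pt
  rw [Hom.one_def]
  have : lift (toUnit T ≫ η[G]) x = lift (toUnit T) x ≫ (η[G] ▷ X) := by simp
  rw [this, Category.assoc, h1]
  simp

theorem pt_mul (act : G ⊗ X ⟶ X)
    (h2 : (μ[G] ▷ X) ≫ act = (α_ G G X).hom ≫ (G ◁ act) ≫ act) {T : C} (g h : T ⟶ G) (x : T ⟶ X) :
    pt act (g * h) x = pt act g (pt act h x) := by
  unfold pt
  rw [Hom.mul_def]
  have : lift (lift g h ≫ μ[G]) x = lift (lift g h) x ≫ (μ[G] ▷ X) := by simp
  rw [this, Category.assoc, h2]
  simp

theorem comp_pt (act : G ⊗ X ⟶ X) {T T' : C} (f : T' ⟶ T) (g : T ⟶ G) (x : T ⟶ X) :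
    f ≫ pt act g x = pt act (f ≫ g) (f ≫ x) := by
  unfold pt
  rw [← Category.assoc, comp_lift]

/-- The shear map is an isomorphism. -/
theorem shear (act : G ⊗ X ⟶ X) (h1 : (η[G] ▷ X) ≫ act = (λ_ X).hom)
    (h2 : (μ[G] ▷ X) ≫ act = (α_ G G X).hom ≫ (G ◁ act) ≫ act) :
    ∃ φ : G ⊗ X ≅ G ⊗ X, act = φ.hom ≫ snd G X := by
  have hact : act = pt act (fst G X) (snd G X) := by
    unfold pt; simp
  refine ⟨⟨lift (fst G X) act, lift (fst G X) (pt act (fst G X)⁻¹ (snd G X)), ?_, ?_⟩, ?_⟩
  · apply CartesianMonoidalCategory.hom_ext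
    · simp
    · simp only [Category.assoc, lift_snd, Category.id_comp]
      rw [comp_pt, GrpObj.comp_inv, lift_fst, lift_snd]
      calc pt act (fst G X)⁻¹ act = pt act (fst G X)⁻¹ (pt act (fst G X) (snd G X)) := by rw [← hact]
        _ = pt act ((fst G X)⁻¹ * fst G X) (snd G X) := (pt_mul act h2 _ _ _).symm
        _ = snd G X := by rw [inv_mul_cancel, pt_one act h1]
  · apply CartesianMonoidalCategory.hom_ext
    · simp
    · simp only [Category.assoc, lift_snd, Category.id_comp]
      calc lift (fst G X) (pt act (fst G X)⁻¹ (snd G X)) ≫ act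
          = pt act (fst G X) (pt act (fst G X)⁻¹ (snd G X)) := rfl
        _ = pt act (fst G X * (fst G X)⁻¹) (snd G X) := (pt_mul act h2 _ _ _).symm
        _ = snd G X := by rw [mul_inv_cancel, pt_one act h1]
  · simp

end General


theorem generic {S : Scheme.{u}} {G X : Over S} [GrpObj G] (a : AlgGrp.Action G X)
    (P : MorphismProperty Scheme.{u}) [P.IsStableUnderBaseChange] (h : P G.hom) : P a.act.left := by
  obtain ⟨φ, hφ⟩ := shear a.act a.one_act a.mul_act
  rw [hφ, Over.comp_left]
  have : IsIso φ.hom.left := inferInstanceAs (IsIso ((Over.forget S).map φ.hom))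
  rw [P.cancel_left_of_respectsIso]
  rw [Over.snd_left]
  exact P.pullback_snd _ _ h


/-- Let S be a scheme and G a group scheme over S acting on an S-scheme X, with action morphism G ×_S X
→ X. If G → S is surjective, resp. flat, resp. affine, resp. proper, resp. finite, resp. smooth,
then so is the action morphism. (The source works over a field, where G → S is automatically
faithfully flat, with G and X of finite type, and concludes that the action morphism is faithfully
flat, and smooth, affine, proper or finite when G is; the base and the finiteness conditions play no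
role.) -/
theorem result {S : Scheme.{u}} {G X : Over S} [GrpObj G]
    (a : AlgGrp.Action G X) :
    (Surjective G.hom → Surjective a.act.left) ∧ (Flat G.hom → Flat a.act.left) ∧
      (IsAffineHom G.hom → IsAffineHom a.act.left) ∧ (IsProper G.hom → IsProper a.act.left) ∧
      (IsFinite G.hom → IsFinite a.act.left) ∧ (Smooth G.hom → Smooth a.act.left) := by
  exact ⟨generic a @Surjective, generic a @Flat, generic a @IsAffineHom, generic a @IsProper,
    generic a @IsFinite, generic a @Smooth⟩

end Groth.Agent.S18861
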