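import Groth.Statements.S17153
import Groth.Agent.H85.StdIsoc
import Groth.Agent.H85.SlopePart

set_option autoImplicit false
universe u
open Isoc

namespace Groth.Agent.S17153

/-- Let k be a perfect field of characteristic p, W = W(k), L its fraction field, a ∈ ℤ, and λ = d/h
with h > 0 and gcd(d, h) = 1. The standard σ^a-F-isocrystal N_λ of slope λ — the space L^h with the
σ^a-semilinear F determined by F e_i = e_{i+1} (i + 1 < h) and F e_{h−1} = p^d · e_0 — is a simple
isocrystal: an L-subspace of L^h carried into itself by F is either 0 or everything. (The source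
introduces N_λ for a ≠ 0 only; the simplicity argument, via sub-isocrystals of an isoclinic
isocrystal having the same slope, does not use that restriction, and the statement is made for all
a.) -/
theorem result (p : ℕ) [Fact p.Prime] (k : Type u) [Field k] [CharP k p] [PerfectRing k p]
    (a : ℤ) (d : ℤ) (h : ℕ) (hh : 0 < h) (hdh : Int.gcd d h = 1)
    (P : Submodule (FractionRing (WittVector p k)) (Fin h → (FractionRing (WittVector p k))))
    (hP : ∀ x ∈ P, Isoc.stdIsoc (Isoc.frob p k a) d h x ∈ P) : P = ⊥ ∨ P = ⊤ := by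
  classical
  by_cases hbot : P = ⊥
  · exact Or.inl hbot
  right
  have hG := Groth.Agent.H85.IsSemi.of_semilinear (Isoc.stdIsoc (Isoc.frob p k a) d h)
  have hinj := Groth.Agent.H85.stdIsoc_injective (p := p) (k := k) a d h
  have htop := Groth.Agent.H85.stdIsoc_isoInt_top (p := p) (k := k) a d h hh
  have hPiso : Groth.Agent.H85.IsoInt (p := p) (k := k)
      (⇑(Isoc.stdIsoc (Isoc.frob p k a) d h)) P ((d : ℚ) / h) :=
    Groth.Agent.H85.IsoInt.of_stable_le hG hinj htop le_top hP
  have hres : Isoc.IsIsoclinic ((Isoc.stdIsoc (Isoc.frob p k a) d h).restrict hP) ((d : ℚ) / h) :=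
    (Groth.Agent.H85.isIsoclinic_restrict_iff _ P hP _).mpr hPiso
  have hG' := Groth.Agent.H85.IsSemi.of_semilinear ((Isoc.stdIsoc (Isoc.frob p k a) d h).restrict hP)
  obtain ⟨M', hM', r, s, hs, hrs, heq⟩ := hres
  have heq' : Groth.Agent.H85.img ((⇑((Isoc.stdIsoc (Isoc.frob p k a) d h).restrict hP))^[s]) M' =
      Isoc.pPow r M' := heq
  obtain ⟨b', hb'⟩ := Groth.Agent.H85.exists_basis_of_lattice hM'
    (Module.finBasis (FractionRing (WittVector p k)) P)
  have h1 : Isoc.IsOrdP (Groth.Agent.H85.detC b'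
      ((⇑((Isoc.stdIsoc (Isoc.frob p k a) d h).restrict hP))^[s]))
      (r * (Module.finrank (FractionRing (WittVector p k)) P : ℕ)) := by
    apply Groth.Agent.H85.isOrdP_detC_of_img_eq_pPow (hG'.iterate s) b'
    rw [← hb']
    exact heq'
  have hne := Groth.Agent.H85.detC_ne_zero_of_iterate hG' b' hs (Groth.Agent.H85.isOrdP_ne_zero h1)
  obtain ⟨δ, hδ⟩ := Groth.Agent.H85.exists_isOrdP hne
  have h2 := Groth.Agent.H85.orddet_of_img_eq hG' b' hδ hM' heq'
  -- arithmetic
  set m := Module.finrank (FractionRing (WittVector p k)) P with hm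
  have hs' : (s : ℚ) ≠ 0 := by exact_mod_cast hs.ne'
  have hh' : (h : ℚ) ≠ 0 := by exact_mod_cast hh.ne'
  have h3 : r * (h : ℤ) = d * s := by
    rw [div_eq_div_iff hs' hh'] at hrs
    exact_mod_cast hrs
  have h4 : δ * (h : ℤ) = d * m := by
    have hs0 : (s : ℤ) ≠ 0 := by exact_mod_cast hs.ne'
    apply mul_left_cancel₀ hs0
    calc (s : ℤ) * (δ * h) = (s * δ) * h := by ring
      _ = (r * m) * h := by rw [h2]
      _ = (r * h) * m := by ring
      _ = (d * s) * m := by rw [h3]
      _ = s * (d * m) := by ring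
  have hcop : IsCoprime (h : ℤ) d := (Int.isCoprime_iff_gcd_eq_one.mpr hdh).symm
  have hdvd : (h : ℤ) ∣ (m : ℤ) := by
    apply hcop.dvd_of_dvd_mul_left
    rw [← h4]
    exact Dvd.intro_left _ rfl
  have hdvd' : h ∣ m := Int.natCast_dvd_natCast.mp hdvd
  have hmpos : 0 < m := by
    rw [hm]
    exact Nat.pos_of_ne_zero (fun h0 => hbot (Submodule.finrank_eq_zero.mp h0))
  have hle : m ≤ h := by
    have := Submodule.finrank_le P
    rwa [Module.finrank_fin_fun] at this
  have hmh : m = h := Nat.le_antisymm hle (Nat.le_of_dvd hmpos hdvd')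
  apply Submodule.eq_top_of_finrank_eq
  rw [← hm, hmh, Module.finrank_fin_fun]

end Groth.Agent.S17153
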