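import Groth.Statements.S16463
import Groth.Agent.H16.SESLiftD

set_option autoImplicit false
universe v u v' u'
open CategoryTheory CategoryTheory.Limits
open RDer

namespace Groth.Agent.S16463

open Groth.Agent.H16.SESLift

/-- a chosen injective resolution of a short exact sequence -/
noncomputable def sesRes {C : Type u} [Category.{v} C] [Abelian C] [EnoughInjectives C]
    (S : ShortComplex C) (hS : S.ShortExact) : RDer.SESRes S := (nonempty_sesRes S hS).some

/-- the connecting morphisms of the right derived functors -/
noncomputable def derivedLES {C : Type u} [Category.{v} C] [Abelian C] [EnoughInjectives C]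
    {D : Type u'} [Category.{v'} D] [Abelian D] (F : C ⥤ D) [F.Additive] : RDer.DerivedLES F where
  δ S hS n₀ n₁ h := (sesRes S hS).delta F n₀ n₁ h
  δ_eq S hS T n₀ n₁ h := delta_eq F _ T n₀ n₁ h
  δ_natural hS hS' φ n₀ n₁ h := delta_natural F φ _ _ n₀ n₁ h
  exact₂ S hS n := exact₂_of F (sesRes S hS) n
  comp_δ S hS n₀ n₁ h := comp_delta F (sesRes S hS) n₀ n₁ h
  exact₃ S hS n₀ n₁ h := exact₃_of F (sesRes S hS) n₀ n₁ h
  δ_comp S hS n₀ n₁ h := delta_comp F (sesRes S hS) n₀ n₁ h
  exact₁ S hS n₀ n₁ h := exact₁_of F (sesRes S hS) n₀ n₁ h

/-- Let F be an additive functor from an abelian category C with enough injectives to an abelian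
category D. Then the right derived functors RⁿF carry connecting morphisms RⁿF(X₃) → Rⁿ⁺¹F(X₁) for
every short exact sequence 0 → X₁ → X₂ → X₃ → 0 of C, computed on any injective resolution of the
sequence by the connecting morphism of the short exact sequence of complexes obtained by applying F,
natural in morphisms of short exact sequences, and with exact long sequence. -/
theorem result {C : Type u} [Category.{v} C] [Abelian C] [EnoughInjectives C]
    {D : Type u'} [Category.{v'} D] [Abelian D] (F : C ⥤ D) [F.Additive] :
    Nonempty (RDer.DerivedLES F) := by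
  exact ⟨derivedLES F⟩

end Groth.Agent.S16463
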