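import Groth.Statements.S5159
import Mathlib
import Groth.Agent.H58.ExtCompare
import Groth.Agent.Lead.RegularGlDim
-- import your own Groth.Agent.* helpers here

set_option autoImplicit false
universe u
open CategoryTheory Opposite
open Dual

namespace Groth.Agent.S5159

open IsLocalRing RingTheory.Sequence

section General

variable {A : Type u} [CommRing A]

/-- if `r` kills `X` then it kills `Ext X Y i`. -/
theorem smul_ext_eq_zero {X Y : ModuleCat.{u} A} (r : A) (h : r • 𝟙 X = 0) {i : ℕ}
    (α : Abelian.Ext X Y i) : r • α = 0 := by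
  have h1 : (Abelian.Ext.mk₀ (r • 𝟙 X)).comp α (zero_add i) = r • α := by
    rw [Abelian.Ext.mk₀_smul, Abelian.Ext.smul_comp, Abelian.Ext.mk₀_id_comp]
  rw [← h1, h, Abelian.Ext.mk₀_zero, Abelian.Ext.zero_comp]

/-- dimension shift along a regular element killing `X`. -/
theorem shiftEquiv (X Y : ModuleCat.{u} A) (x : A) (hx : IsSMulRegular Y x) (hX : x • 𝟙 X = 0)
    (i : ℕ) (h0 : Subsingleton (Abelian.Ext X Y i)) :
    Nonempty (Abelian.Ext X (ModuleCat.of A (QuotSMulTop x Y)) i ≃ₗ[A]
      Abelian.Ext X Y (i + 1)) := by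
  have hS := hx.smulShortComplex_shortExact
  let δ : Abelian.Ext X (ModuleCat.of A (QuotSMulTop x Y)) i →ₗ[A] Abelian.Ext X Y (i + 1) :=
    Abelian.Ext.postcompOfLinear hS.extClass A X rfl
  refine ⟨LinearEquiv.ofBijective δ ⟨?_, ?_⟩⟩
  · rw [injective_iff_map_eq_zero]
    intro α hα
    obtain ⟨α₂, rfl⟩ := Abelian.Ext.covariant_sequence_exact₃ X hS α rfl hα
    haveI : Subsingleton (Abelian.Ext X (Y.smulShortComplex x).X₂ i) := h0
    rw [Subsingleton.elim α₂ 0, Abelian.Ext.zero_comp]
    rfl
  · intro β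
    have hβ : β.comp (Abelian.Ext.mk₀ (Y.smulShortComplex x).f) (add_zero (i + 1)) = 0 := by
      have h1 := smul_ext_eq_zero x hX β
      rw [Abelian.Ext.smul_eq_comp_mk₀] at h1
      exact h1
    obtain ⟨α, hα⟩ := Abelian.Ext.covariant_sequence_exact₁ X hS β hβ rfl
    exact ⟨α, hα⟩

/-- `Hom(A/I, Z) ≃ Z` when `I` kills `Z`. -/
noncomputable def homQuotEquiv (I : Ideal A) (Z : Type u) [AddCommGroup Z] [Module A Z]
    (hZ : ∀ a ∈ I, ∀ z : Z, a • z = 0) : ((A ⧸ I) →ₗ[A] Z) ≃ₗ[A] Z where
  toFun φ := φ (Submodule.Quotient.mk 1)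
  invFun z := Submodule.liftQ I (LinearMap.toSpanSingleton A Z z) (fun a ha => by
    simp only [LinearMap.mem_ker, LinearMap.toSpanSingleton_apply]
    exact hZ a ha z)
  left_inv φ := by
    apply LinearMap.ext
    intro q
    obtain ⟨a, rfl⟩ := Submodule.Quotient.mk_surjective _ q
    simp only [Submodule.liftQ_apply, LinearMap.toSpanSingleton_apply]
    rw [← map_smul, ← Submodule.Quotient.mk_smul, smul_eq_mul, mul_one]
  right_inv z := by
    simp only [Submodule.liftQ_apply, LinearMap.toSpanSingleton_apply, one_smul]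
  map_add' φ ψ := rfl
  map_smul' a φ := rfl

end General

section Local

variable {A : Type u} [CommRing A] [IsLocalRing A] [IsNoetherianRing A]

variable (A) in
/-- the residue module `A/m` -/
abbrev kk : ModuleCat.{u} A := ModuleCat.of A (A ⧸ maximalIdeal A)

theorem smul_id_kk (x : A) (hx : x ∈ maximalIdeal A) : x • 𝟙 (kk A) = 0 := by
  apply ModuleCat.hom_ext
  apply LinearMap.ext
  intro q
  obtain ⟨a, rfl⟩ := Submodule.Quotient.mk_surjective _ q
  change x • (Submodule.Quotient.mk a : A ⧸ maximalIdeal A) = 0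
  rw [← Submodule.Quotient.mk_smul, Submodule.Quotient.mk_eq_zero]
  exact Ideal.mul_mem_right _ _ hx

theorem support_kk : Module.support A (kk A) ⊆ PrimeSpectrum.zeroLocus (maximalIdeal A) := by
  rw [Module.support_eq_zeroLocus]
  change PrimeSpectrum.zeroLocus (Module.annihilator A (A ⧸ maximalIdeal A) : Set A) ⊆ _
  rw [Ideal.annihilator_quotient]

theorem iterShift : ∀ (rs : List A) (Y : Type u) [AddCommGroup Y] [Module A Y]
    [Module.Finite A Y], IsRegular Y rs → (∀ r ∈ rs, r ∈ maximalIdeal A) →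
    Nonempty (Abelian.Ext (kk A) (ModuleCat.of A Y) rs.length ≃ₗ[A]
      ((A ⧸ maximalIdeal A) →ₗ[A] (Y ⧸ (Ideal.ofList rs • ⊤ : Submodule A Y)))) := by
  intro rs
  induction rs with
  | nil =>
    intro Y _ _ _ hreg hmem
    let e0 : Abelian.Ext (kk A) (ModuleCat.of A Y) 0 ≃ₗ[A] (kk A ⟶ ModuleCat.of A Y) :=
      Abelian.Ext.linearEquiv₀
    let e1 : (kk A ⟶ ModuleCat.of A Y) ≃ₗ[A] ((A ⧸ maximalIdeal A) →ₗ[A] Y) :=
      ModuleCat.homLinearEquiv (S := A)
    have hbot : (Ideal.ofList ([] : List A) • ⊤ : Submodule A Y) = ⊥ := by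
      rw [Ideal.ofList_nil, Submodule.bot_smul]
    let e2 : ((A ⧸ maximalIdeal A) →ₗ[A] Y) ≃ₗ[A]
        ((A ⧸ maximalIdeal A) →ₗ[A] (Y ⧸ (Ideal.ofList ([] : List A) • ⊤ : Submodule A Y))) :=
      LinearEquiv.congrRight (Submodule.quotEquivOfEqBot _ hbot).symm
    exact ⟨e0.trans (e1.trans e2)⟩
  | cons x rs ih =>
    intro Y _ _ _ hreg hmem
    have hreg' := (isRegular_cons_iff Y x rs).mp hreg
    obtain ⟨e1⟩ := ih (QuotSMulTop x Y) hreg'.2 (fun r hr => hmem r (List.mem_cons_of_mem _ hr))
    have := hreg.nontrivial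
    have hlt : (maximalIdeal A) • (⊤ : Submodule A Y) < ⊤ :=
      lt_top_iff_ne_top.mpr (Submodule.top_ne_ideal_smul_of_le_jacobson_annihilator
        (maximalIdeal_le_jacobson _)).symm
    have h0 : Subsingleton (Abelian.Ext (kk A) (ModuleCat.of A Y) rs.length) :=
      ModuleCat.subsingleton_ext_of_exists_isRegular (maximalIdeal A) (kk A) support_kk
        (ModuleCat.of A Y) hlt (x :: rs) hmem hreg rs.length (by simp)
    obtain ⟨e2⟩ := shiftEquiv (kk A) (ModuleCat.of A Y) x hreg'.1
      (smul_id_kk x (hmem x List.mem_cons_self)) rs.length h0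
    exact ⟨e2.symm.trans (e1.trans (LinearEquiv.congrRight
      (Submodule.quotOfListConsSMulTopEquivQuotSMulTopInner Y x rs).symm))⟩

end Local

section RLR

variable (A : Type u) [CommRing A] [IsRegularLocalRing A]

theorem length_ext_kk (rs : List A) (hreg : IsRegular A rs)
    (hof : Ideal.ofList rs = maximalIdeal A) :
    Module.length A (Abelian.Ext (kk A) (ModuleCat.of A A) rs.length) = 1 := by
  have hmem : ∀ r ∈ rs, r ∈ maximalIdeal A := by
    intro r hr
    rw [← hof]
    exact Ideal.subset_span hr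
  obtain ⟨e⟩ := iterShift rs A hreg hmem
  have htop : (Ideal.ofList rs • ⊤ : Submodule A A) = maximalIdeal A := by
    rw [hof, smul_eq_mul, Ideal.mul_top]
  have hZ : ∀ a ∈ maximalIdeal A, ∀ z : A ⧸ (Ideal.ofList rs • ⊤ : Submodule A A),
      a • z = 0 := by
    intro a ha z
    obtain ⟨b, rfl⟩ := Submodule.Quotient.mk_surjective _ z
    rw [← Submodule.Quotient.mk_smul, Submodule.Quotient.mk_eq_zero, htop]
    exact Ideal.mul_mem_right _ _ ha
  rw [e.length_eq, (homQuotEquiv (maximalIdeal A) _ hZ).length_eq,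
    (Submodule.quotEquivOfEq _ _ htop).length_eq]
  haveI : IsSimpleModule A (A ⧸ (maximalIdeal A : Submodule A A)) :=
    isSimpleModule_iff_isCoatom.mpr (Ideal.isMaximal_def.mp inferInstance)
  exact Module.length_eq_one A _

theorem ext_kk (n : ℕ) (hn : ringKrullDim A = n) :
    (∀ i, i ≠ n → Subsingleton (Abelian.Ext (kk A) (ModuleCat.of A A) i)) ∧
      Module.length A (Abelian.Ext (kk A) (ModuleCat.of A A) n) = 1 := by
  obtain ⟨x, hx⟩ := Groth.Agent.Lead.RLR.exists_fin_span_eq A n hn
  have hreg := Groth.Agent.Lead.RLR.isRegular_ofFn A n hn x hx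
  have hof : Ideal.ofList (List.ofFn x) = maximalIdeal A := by
    rw [← hx]
    unfold Ideal.ofList
    congr 1
    ext y
    simp [List.mem_ofFn]
  have hmem : ∀ r ∈ List.ofFn x, r ∈ maximalIdeal A := by
    intro r hr
    rw [← hof]
    exact Ideal.subset_span hr
  constructor
  · intro i hi
    rcases lt_or_gt_of_ne hi with h | h
    · have hlt : (maximalIdeal A) • (⊤ : Submodule A A) < ⊤ := by
        rw [smul_eq_mul, Ideal.mul_top]
        exact lt_top_iff_ne_top.mpr (Ideal.IsMaximal.ne_top inferInstance)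
      exact ModuleCat.subsingleton_ext_of_exists_isRegular (maximalIdeal A) (kk A) support_kk
        (ModuleCat.of A A) hlt (List.ofFn x) hmem hreg i (by simpa using h)
    · haveI := Groth.Agent.Lead.RLR.hasProjectiveDimensionLT A n hn (kk A)
      exact HasProjectiveDimensionLT.subsingleton (kk A) (n + 1) i (by omega) _
  · have := length_ext_kk A (List.ofFn x) hreg hof
    rwa [List.length_ofFn] at this

end RLR

section Induction

variable {A : Type u} [CommRing A]

/-- the property to be proved by induction on the length -/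
def P (n : ℕ) (X : ModuleCat.{u} A) : Prop :=
  (∀ i, i ≠ n → Subsingleton (Abelian.Ext X (ModuleCat.of A A) i)) ∧
    Module.length A (Abelian.Ext X (ModuleCat.of A A) n) = Module.length A X

/-- `Ext` is invariant under isomorphism in the first variable. -/
noncomputable def extCongrLeft {X X' : ModuleCat.{u} A} (e : X ≅ X') (Y : ModuleCat.{u} A)
    (i : ℕ) : Abelian.Ext X Y i ≃ₗ[A] Abelian.Ext X' Y i where
  toFun α := (Abelian.Ext.mk₀ e.inv).comp α (zero_add i)
  invFun β := (Abelian.Ext.mk₀ e.hom).comp β (zero_add i)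
  map_add' α β := by rw [Abelian.Ext.comp_add]
  map_smul' a α := by rw [Abelian.Ext.comp_smul]; rfl
  left_inv α := by
    change (Abelian.Ext.mk₀ e.hom).comp ((Abelian.Ext.mk₀ e.inv).comp α (zero_add i))
      (zero_add i) = α
    rw [Abelian.Ext.mk₀_comp_mk₀_assoc, Iso.hom_inv_id, Abelian.Ext.mk₀_id_comp]
  right_inv β := by
    change (Abelian.Ext.mk₀ e.inv).comp ((Abelian.Ext.mk₀ e.hom).comp β (zero_add i))
      (zero_add i) = β
    rw [Abelian.Ext.mk₀_comp_mk₀_assoc, Iso.inv_hom_id, Abelian.Ext.mk₀_id_comp]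

theorem P_of_iso (n : ℕ) {X X' : ModuleCat.{u} A} (e : X ≅ X') (h : P n X) : P n X' := by
  refine ⟨fun i hi => ?_, ?_⟩
  · haveI := h.1 i hi
    exact (extCongrLeft e (ModuleCat.of A A) i).symm.toEquiv.subsingleton
  · rw [← (extCongrLeft e (ModuleCat.of A A) n).length_eq, h.2]
    exact e.toLinearEquiv.length_eq

theorem P_of_subsingleton (n : ℕ) (X : ModuleCat.{u} A) [Subsingleton X] : P n X := by
  have hid : 𝟙 X = 0 := by
    apply ModuleCat.hom_ext
    apply LinearMap.ext
    intro x
    exact Subsingleton.elim _ _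
  have hz : ∀ (i : ℕ) (α : Abelian.Ext X (ModuleCat.of A A) i), α = 0 := by
    intro i α
    rw [← Abelian.Ext.mk₀_id_comp α, hid, Abelian.Ext.mk₀_zero, Abelian.Ext.zero_comp]
  refine ⟨fun i _ => ⟨fun a b => (hz i a).trans (hz i b).symm⟩, ?_⟩
  haveI : Subsingleton (Abelian.Ext X (ModuleCat.of A A) n) :=
    ⟨fun a b => (hz n a).trans (hz n b).symm⟩
  rw [Module.length_eq_zero, Module.length_eq_zero]

theorem P_of_shortExact (n : ℕ) (S : ShortComplex (ModuleCat.{u} A)) (hS : S.ShortExact)
    (h1 : P n S.X₁) (h3 : P n S.X₃) : P n S.X₂ := by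
  refine ⟨fun i hi => ?_, ?_⟩
  · haveI := h1.1 i hi
    haveI := h3.1 i hi
    have hz : ∀ x₂ : Abelian.Ext S.X₂ (ModuleCat.of A A) i, x₂ = 0 := by
      intro x₂
      obtain ⟨x₃, rfl⟩ := Abelian.Ext.contravariant_sequence_exact₂ hS (ModuleCat.of A A) x₂
        (Subsingleton.elim _ _)
      rw [Subsingleton.elim x₃ 0, Abelian.Ext.comp_zero]
    exact ⟨fun a b => (hz a).trans (hz b).symm⟩
  · let gs : Abelian.Ext S.X₃ (ModuleCat.of A A) n →ₗ[A] Abelian.Ext S.X₂ (ModuleCat.of A A) n :=
      (Abelian.Ext.mk₀ S.g).precompOfLinear A (ModuleCat.of A A) (zero_add n)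
    let fs : Abelian.Ext S.X₂ (ModuleCat.of A A) n →ₗ[A] Abelian.Ext S.X₁ (ModuleCat.of A A) n :=
      (Abelian.Ext.mk₀ S.f).precompOfLinear A (ModuleCat.of A A) (zero_add n)
    have hinj : Function.Injective gs := by
      rw [injective_iff_map_eq_zero]
      intro x₃ hx₃
      replace hx₃ : (Abelian.Ext.mk₀ S.g).comp x₃ (zero_add n) = 0 := hx₃
      rcases n with _ | m
      · haveI := hS.epi_g
        apply Abelian.Ext.precomp_mk₀_injective_of_epi (ModuleCat.of A A) S.g
        rw [map_zero]
        exact hx₃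
      · obtain ⟨x₁, rfl⟩ := Abelian.Ext.contravariant_sequence_exact₃ hS (ModuleCat.of A A) x₃
          hx₃ (n₀ := m) (by omega)
        haveI := h1.1 m (by omega)
        rw [Subsingleton.elim x₁ 0, Abelian.Ext.comp_zero]
    have hsurj : Function.Surjective fs := by
      intro x₁
      haveI := h3.1 (n + 1) (by omega)
      obtain ⟨x₂, hx₂⟩ := Abelian.Ext.contravariant_sequence_exact₁ hS (ModuleCat.of A A) x₁
        (add_comm 1 n) (Subsingleton.elim _ _)
      exact ⟨x₂, hx₂⟩
    have hex : Function.Exact gs fs := by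
      intro x₂
      constructor
      · intro h
        obtain ⟨x₃, hx₃⟩ := Abelian.Ext.contravariant_sequence_exact₂ hS (ModuleCat.of A A) x₂ h
        exact ⟨x₃, hx₃⟩
      · rintro ⟨x₃, rfl⟩
        change (Abelian.Ext.mk₀ S.f).comp ((Abelian.Ext.mk₀ S.g).comp x₃ (zero_add n))
          (zero_add n) = 0
        rw [Abelian.Ext.mk₀_comp_mk₀_assoc, S.zero, Abelian.Ext.mk₀_zero, Abelian.Ext.zero_comp]
    rw [Module.length_eq_add_of_exact gs fs hinj hsurj hex, h1.2, h3.2]
    have hfi : Function.Injective S.f.hom := by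
      haveI := hS.mono_f
      exact (ModuleCat.mono_iff_injective S.f).mp inferInstance
    have hgs : Function.Surjective S.g.hom := by
      haveI := hS.epi_g
      exact (ModuleCat.epi_iff_surjective S.g).mp inferInstance
    have hfg : Function.Exact S.f.hom S.g.hom :=
      (ShortComplex.ShortExact.moduleCat_exact_iff_function_exact S).mp hS.exact
    rw [Module.length_eq_add_of_exact S.f.hom S.g.hom hfi hgs hfg, add_comm]

end Induction

section Main

variable (A : Type u) [CommRing A] [IsRegularLocalRing A] (n : ℕ) (hn : ringKrullDim A = n)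

include hn in
theorem P_of_isFiniteLength (M : Type u) [AddCommGroup M] [Module A M]
    (hM : IsFiniteLength A M) : P n (ModuleCat.of A M) := by
  induction hM with
  | of_subsingleton => exact P_of_subsingleton n _
  | @of_simple_quotient M _ _ N _ hN ih =>
    have hfg : Function.Exact N.subtype N.mkQ := LinearMap.exact_subtype_mkQ N
    let S : ShortComplex (ModuleCat.{u} A) :=
      ModuleCat.shortComplexOfCompEqZero N.subtype N.mkQ hfg.linearMap_comp_eq_zero
    have hS : S.ShortExact :=
      { exact := (ShortComplex.ShortExact.moduleCat_exact_iff_function_exact _).mpr hfg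
        mono_f := (ModuleCat.mono_iff_injective _).mpr N.subtype_injective
        epi_g := (ModuleCat.epi_iff_surjective _).mpr N.mkQ_surjective }
    refine P_of_shortExact n S hS ih ?_
    -- the simple quotient
    obtain ⟨I, hI, ⟨e⟩⟩ := isSimpleModule_iff_quot_maximal.mp
      (inferInstance : IsSimpleModule A (M ⧸ N))
    rw [IsLocalRing.eq_maximalIdeal hI] at e
    have hk : P n (kk A) := by
      obtain ⟨h1, h2⟩ := ext_kk A n hn
      refine ⟨h1, ?_⟩
      rw [h2]
      haveI : IsSimpleModule A (A ⧸ (maximalIdeal A : Submodule A A)) :=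
        isSimpleModule_iff_isCoatom.mpr (Ideal.isMaximal_def.mp inferInstance)
      exact (Module.length_eq_one A _).symm
    exact P_of_iso n e.symm.toModuleIso hk

end Main

/-- Let A be a regular local ring of dimension n and M an A-module of finite length. Then Ext^i_A(M, A)
= 0 for i ≠ n and length Ext^n_A(M, A) = length M (the functor Ext^n_A(−, A) is dualizing). -/
theorem result (A : Type u) [CommRing A] [IsRegularLocalRing A] (n : ℕ) (hn : ringKrullDim A = n) (M : Type u) [AddCommGroup M] [Module A M] (hM : IsFiniteLength A M) : (∀ i : ℕ, i ≠ n → Subsingleton (((Ext A (ModuleCat.{u} A) i).obj (op (ModuleCat.of A M))).obj (ModuleCat.of A A))) ∧ Module.length A (((Ext A (ModuleCat.{u} A) n).obj (op (ModuleCat.of A M))).obj (ModuleCat.of A A)) = Module.length A M := by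
  obtain ⟨h1, h2⟩ := P_of_isFiniteLength A n hn M hM
  constructor
  · intro i hi
    haveI := h1 i hi
    exact (Groth.Agent.H58.ExtCompare.extEquiv (R := A) (ModuleCat.of A M) (ModuleCat.of A A)
      i).toEquiv.subsingleton
  · rw [(Groth.Agent.H58.ExtCompare.extEquiv (R := A) (ModuleCat.of A M) (ModuleCat.of A A)
      n).length_eq, h2]

end Groth.Agent.S5159
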