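import Groth.Statements.S0902
import Groth.Agent.H86.Van.Main
import Groth.Prelude.Def_E1Deg2

set_option autoImplicit false
universe u
open CategoryTheory Groth.Agent.H86
open CohTop

namespace Groth.Agent.S0902

open TopologicalSpace in
/-- Let X be a quasi-compact space whose quasi-compact opens form a basis stable under pairwise
intersections, and d ≥ 0. If H^p(X, j_!Z_U) = 0 for all p > d and every quasi-compact open U (j_!Z_U
the extension by zero of the constant sheaf Z, i.e. the free abelian sheaf on U), then H^p(X, F) = 0
for all p > d and every abelian sheaf F. -/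
theorem result {X : TopCat.{u}} [CompactSpace X]
    [PrespectralSpace X] [QuasiSeparatedSpace X] (d : ℕ)
    (h : ∀ (U : Opens X), IsCompact (U : Set X) → ∀ p : ℕ, d < p →
      Subsingleton (CohTop.H (CohCx.freeSheaf (Opens.grothendieckTopology X) U) p))
    (F : CohTop.Ab X) (p : ℕ) (hp : d < p) : Subsingleton (CohTop.H F p) := by
  have hU : IsCompact ((⊤ : Opens X) : Set X) := by
    rw [Opens.coe_top]
    exact isCompact_univ
  let e : CohCx.freeSheaf (Opens.grothendieckTopology X) (⊤ : Opens X) ≅
      (constantSheaf (Opens.grothendieckTopology X) AddCommGrpCat.{u}).obj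
        (AddCommGrpCat.of (ULift.{u} ℤ)) :=
    E1Deg.freeSheafIsoConstant (Opens.grothendieckTopology X)
      (CategoryTheory.Limits.isTerminalTop : Limits.IsTerminal (⊤ : Opens X))
  have h' : ∀ V : Opens X, IsCompact (V : Set X) →
      Groth.Agent.H86.Van.PVan (CohCx.freeSheaf (Opens.grothendieckTopology X) (⊤ : Opens X)) d
        (Groth.Agent.H86.Van.freePre V) := by
    intro V hV
    apply Groth.Agent.H86.Van.vanAbove_of_iso_left e.symm
    intro q hq x
    have := h V hV q hq
    exact Subsingleton.elim _ _
  have hF := Groth.Agent.H86.Van.pvan_all (⊤ : Opens X) hU h' F.obj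
  have e2 : (Groth.Agent.H86.Van.shf X).obj F.obj ≅ F :=
    asIso ((sheafificationAdjunction (Opens.grothendieckTopology X) AddCommGrpCat.{u}).counit.app F)
  have hF' := Groth.Agent.H86.Van.vanAbove_of_iso_left e
    (Groth.Agent.H86.Van.vanAbove_of_iso e2 hF)
  exact ⟨fun x y => by rw [hF' p hp x, hF' p hp y]⟩

end Groth.Agent.S0902
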