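import Groth.Statements.S17548
import Groth.Agent.H87.Dec3
import Groth.Agent.S17539

set_option autoImplicit false
universe u v w
open W4c5adicflatcompl
open CAlg

namespace Groth.Agent.S17548

open Groth.Agent.H87 in
/-- For a Noetherian ring A with I-adic completion Â, a set Z, an I-adically complete A-module M and any
function f : Z → M, there is a unique A-linear map from the module of I-adically decaying functions
Z → Â to M taking, for every z, the function supported at z with value 1 to f z. -/
theorem result {A : Type u} [CommRing A] [IsNoetherianRing A]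
    (I : Ideal A) (Z : Type v) [DecidableEq Z] (M : Type w) [AddCommGroup M] [Module A M]
    [IsAdicComplete I M] (f : Z → M) :
    ∃! φ : decaying I Z (AdicCompletion I A) →ₗ[A] M,
      ∀ z, φ (single I z (1 : AdicCompletion I A)) = f z := by
  have hfg : I.FG := IsNoetherian.noetherian I
  have hcomp : IsAdicComplete I (AdicCompletion I A) := AdicCompletion.isAdicComplete hfg
  obtain ⟨hinj, hrange⟩ := Groth.Agent.S17539.result I Z A
  set Φ : AdicCompletion I (Z →₀ A) →ₗ[A] (Z → AdicCompletion I A) :=
    LinearMap.pi fun z : Z =>
      (AdicCompletion.map I (Finsupp.lapply (M := A) (R := A) z)).restrictScalars A with hΦ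
  have hΦmem : ∀ ξ, Φ ξ ∈ decaying I Z (AdicCompletion I A) := by
    intro ξ
    rw [← hrange]
    exact LinearMap.mem_range_self _ _
  let Φ' : AdicCompletion I (Z →₀ A) →ₗ[A] decaying I Z (AdicCompletion I A) :=
    Φ.codRestrict _ hΦmem
  have hbij : Function.Bijective Φ' := by
    constructor
    · intro x y hxy
      apply hinj
      exact congrArg Subtype.val hxy
    · intro g
      have : (g : Z → AdicCompletion I A) ∈ LinearMap.range Φ := by rw [hrange]; exact g.2
      obtain ⟨ξ, hξ⟩ := this
      exact ⟨ξ, Subtype.ext hξ⟩
  let e : AdicCompletion I (Z →₀ A) ≃ₗ[A] decaying I Z (AdicCompletion I A) :=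
    LinearEquiv.ofBijective Φ' hbij
  have he : ∀ z, e (AdicCompletion.of I _ (Finsupp.single z 1)) = single I z (1 : AdicCompletion I A) := by
    intro z
    apply Subtype.ext
    funext z'
    show AdicCompletion.map I (Finsupp.lapply z') (AdicCompletion.of I _ (Finsupp.single z 1)) = _
    rw [AdicCompletion.map_of, coe_single, Finsupp.lapply_apply, Finsupp.single_apply, Pi.single_apply]
    by_cases hz : z = z'
    · rw [if_pos hz, if_pos hz.symm, of_one]
    · rw [if_neg hz, if_neg (Ne.symm hz), map_zero]
  let φ : decaying I Z (AdicCompletion I A) →ₗ[A] M :=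
    (AdicCompletion.ofLinearEquiv I M).symm.toLinearMap ∘ₗ
      ((AdicCompletion.map I (Finsupp.linearCombination A f)).restrictScalars A) ∘ₗ
        e.symm.toLinearMap
  have hφ : ∀ z, φ (single I z (1 : AdicCompletion I A)) = f z := by
    intro z
    simp only [φ, LinearMap.coe_comp, LinearEquiv.coe_coe, Function.comp_apply,
      LinearMap.coe_restrictScalars]
    rw [← he z, LinearEquiv.symm_apply_apply, AdicCompletion.map_of,
      Finsupp.linearCombination_single, one_smul, AdicCompletion.ofLinearEquiv_symm_of]
  refine ⟨φ, hφ, fun ψ hψ => ?_⟩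
  rw [← sub_eq_zero]
  apply eq_zero_of_single_one hfg
  intro z
  rw [LinearMap.sub_apply, hψ z, hφ z, sub_self]

end Groth.Agent.S17548
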