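import Groth.Statements.S9732
import Groth.Agent.H49.Thickening
import Groth.Agent.H49.UnramThick

set_option autoImplicit false
universe u
open OmegaSh

namespace Groth.Agent.S9732

open AlgebraicGeometry CategoryTheory Limits in
/-- Let h : Z ⟶ X be formally unramified and let (i : Z ⟶ Z', h' : Z' ⟶ X) be a universal first order
thickening of Z over X. Then h' is formally unramified. -/
theorem result {Z Z' X : Scheme.{u}} (h : Z ⟶ X) [FormallyUnramified h]
    (i : Z ⟶ Z') (h' : Z' ⟶ X) (hu : OmegaSh.IsUnivThickening h i h') : FormallyUnramified h' := by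
  obtain ⟨hi, hih, huniv⟩ := hu
  haveI : IsClosedImmersion i := hi.1.1
  refine ⟨fun {U} hU {V'} hV' e => ?_⟩
  letI := (h'.appLE U V' e).hom.toAlgebra
  change Algebra.FormallyUnramified Γ(X, U) Γ(Z', V')
  refine Groth.Agent.H49.formallyUnramified_of_unique_lifts _ _ (RingHom.ker (i.app V').hom) ?_ ?_
  · rw [eq_bot_iff, Ideal.mul_le]
    intro a ha b hb
    exact Groth.Agent.H49.IsFirstOrderThickening.mul_eq_zero hi ⟨V', hV'⟩ a b ha hb
  · intro A _ I hI φ₁ φ₂ hRR h1 h2 hmk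
    have hT := Groth.Agent.H49.isFirstOrderThickening_specMap_mk A I hI
    have hVZ : IsAffineOpen (i ⁻¹ᵁ V') := hV'.preimage i
    have hle : RingHom.ker (i.app V').hom ≤ RingHom.ker ((Ideal.Quotient.mk I).comp φ₁) := by
      intro x hx
      rw [RingHom.mem_ker, RingHom.comp_apply, Ideal.Quotient.eq_zero_iff_mem]
      exact h1 x hx
    let ρ₀ : Γ(Z, i ⁻¹ᵁ V') →+* A ⧸ I :=
      RingHom.liftOfSurjective (i.app V').hom (i.app_surjective V' hV') ⟨(Ideal.Quotient.mk I).comp φ₁, hle⟩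
    have hρ : ρ₀.comp (i.app V').hom = (Ideal.Quotient.mk I).comp φ₁ :=
      RingHom.liftOfRightInverse_comp _ _ _ _
    let jT := Spec.map (CommRingCat.ofHom (Ideal.Quotient.mk I))
    let a : Spec (CommRingCat.of (A ⧸ I)) ⟶ Z := Spec.map (CommRingCat.ofHom ρ₀) ≫ hVZ.fromSpec
    let a'₁ : Spec (CommRingCat.of A) ⟶ Z' := Spec.map (CommRingCat.ofHom φ₁) ≫ hV'.fromSpec
    let a'₂ : Spec (CommRingCat.of A) ⟶ Z' := Spec.map (CommRingCat.ofHom φ₂) ≫ hV'.fromSpec
    have hr1 : CommRingCat.ofHom φ₁ ≫ CommRingCat.ofHom (Ideal.Quotient.mk I) =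
        i.app V' ≫ CommRingCat.ofHom ρ₀ := by
      ext x
      exact (RingHom.congr_fun hρ x).symm
    have hr2 : CommRingCat.ofHom φ₂ ≫ CommRingCat.ofHom (Ideal.Quotient.mk I) =
        i.app V' ≫ CommRingCat.ofHom ρ₀ := by
      rw [← hr1]
      ext x
      exact (RingHom.congr_fun hmk x).symm
    have hai : a ≫ i = Spec.map (i.app V' ≫ CommRingCat.ofHom ρ₀) ≫ hV'.fromSpec := by
      simp only [a, Category.assoc]
      rw [← IsAffineOpen.SpecMap_appLE_fromSpec i hV' hVZ le_rfl, ← Scheme.Hom.app_eq_appLE,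
        ← Spec.map_comp_assoc]
    have key1 : jT ≫ a'₁ = a ≫ i := by
      rw [hai, ← hr1]
      simp only [jT, a'₁]
      rw [← Spec.map_comp_assoc]
    have key2 : jT ≫ a'₂ = a ≫ i := by
      rw [hai, ← hr2]
      simp only [jT, a'₂]
      rw [← Spec.map_comp_assoc]
    have hr3 : h'.appLE U V' e ≫ CommRingCat.ofHom φ₂ = h'.appLE U V' e ≫ CommRingCat.ofHom φ₁ := by
      ext x
      exact (RingHom.congr_fun hRR x).symm
    have key3 : a'₂ ≫ h' = a'₁ ≫ h' := by
      simp only [a'₁, a'₂, Category.assoc]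
      rw [← IsAffineOpen.SpecMap_appLE_fromSpec h' hU hV' e, ← Spec.map_comp_assoc,
        ← Spec.map_comp_assoc, hr3]
    have comm : jT ≫ (a'₁ ≫ h') = a ≫ h := by
      rw [← hih, ← Category.assoc a, ← key1, Category.assoc]
      rfl
    obtain ⟨x, -, hx⟩ := huniv _ _ jT (a'₁ ≫ h') a hT comm
    have e1 : a'₁ = x := hx _ ⟨key1, rfl⟩
    have e2 : a'₂ = x := hx _ ⟨key2, key3⟩
    have e3 : Spec.map (CommRingCat.ofHom φ₁) = Spec.map (CommRingCat.ofHom φ₂) := by
      rw [← cancel_mono hV'.fromSpec]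
      exact e1.trans e2.symm
    have e4 := Spec.map_injective e3
    exact congrArg CommRingCat.Hom.hom e4

end Groth.Agent.S9732
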