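import Groth.Statements.S6921
import Groth.Agent.H87.Mil8
import Groth.Agent.S6916

set_option autoImplicit false
universe u
open TensorProduct
open EtAlg

namespace Groth.Agent.S6921

/-- Let `B' = B ×_A A'` be a fibre square of rings with `A' → A` surjective, `B' → D'` a ring map, and
`D = D' ⊗_{B'} B`, `C' = D' ⊗_{B'} A'`, `C = D' ⊗_{B'} A`. Let `N` be a finite `D`-module, `M'` a
finite `C'`-module and `φ : N ⊗_D C ≅ M' ⊗_{C'} C` a `C`-linear isomorphism. Then the glued module
`N ×_φ M'` is a finite `D'`-module. -/
theorem result (B' B A' A : Type u) [CommRing B'] [CommRing B] [CommRing A'] [CommRing A]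
    [Algebra B' B] [Algebra B' A'] [Algebra B A] [Algebra A' A] [Algebra B' A] [IsScalarTower B' B A] [IsScalarTower B' A' A]
    (hsq : EtMil.IsFibreSquare B' B A' A)
    (D' D C' C : Type u) [CommRing D'] [CommRing D] [CommRing C'] [CommRing C]
    [Algebra B' D'] [Algebra B D] [Algebra A' C'] [Algebra A C]
    [Algebra D' D] [Algebra B' D] [IsScalarTower B' B D] [IsScalarTower B' D' D] [Algebra.IsPushout B' B D' D]
    [Algebra D' C'] [Algebra B' C'] [IsScalarTower B' A' C'] [IsScalarTower B' D' C'] [Algebra.IsPushout B' A' D' C']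
    [Algebra D' C] [Algebra B' C] [IsScalarTower B' A C] [IsScalarTower B' D' C] [Algebra.IsPushout B' A D' C]
    [Algebra D C] [IsScalarTower D' D C] [Algebra B C] [IsScalarTower B A C] [IsScalarTower B D C]
    [Algebra C' C] [IsScalarTower D' C' C] [Algebra A' C] [IsScalarTower A' A C] [IsScalarTower A' C' C]
    {N M' : Type u} [AddCommGroup N] [Module D N] [Module D' N] [IsScalarTower D' D N]
    [AddCommGroup M'] [Module C' M'] [Module D' M'] [IsScalarTower D' C' M'] (φ : C ⊗[D] N ≃ₗ[C] C ⊗[C'] M')
    [Module.Finite D N] [Module.Finite C' M'] : Module.Finite D' ↥(EtMil.glue D' φ) := by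
  classical
  have hsq0 := hsq
  obtain ⟨hsurjA, hfib⟩ := hsq
  -- the three base-change equivalences
  have hD : IsBaseChange B (IsScalarTower.toAlgHom B' D' D).toLinearMap :=
    (inferInstance : Algebra.IsPushout B' B D' D).out
  have hC' : IsBaseChange A' (IsScalarTower.toAlgHom B' D' C').toLinearMap :=
    (inferInstance : Algebra.IsPushout B' A' D' C').out
  have hC : IsBaseChange A (IsScalarTower.toAlgHom B' D' C).toLinearMap :=
    (inferInstance : Algebra.IsPushout B' A D' C).out
  -- `C' → C` is surjective
  have hC'C : Function.Surjective (algebraMap C' C) := by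
    intro c
    refine hC.inductionOn c (fun c => ∃ c', algebraMap C' C c' = c) ⟨0, map_zero _⟩ ?_ ?_ ?_
    · intro d'
      refine ⟨algebraMap D' C' d', ?_⟩
      rw [← IsScalarTower.algebraMap_apply D' C' C]
      rfl
    · rintro a n ⟨c', rfl⟩
      obtain ⟨a', rfl⟩ := hsurjA a
      refine ⟨algebraMap A' C' a' * c', ?_⟩
      rw [map_mul, ← IsScalarTower.algebraMap_apply A' C' C, Algebra.smul_def,
        ← IsScalarTower.algebraMap_apply A' A C]
    · rintro _ _ ⟨c₁, rfl⟩ ⟨c₂, rfl⟩
      exact ⟨c₁ + c₂, map_add _ _ _⟩
  -- compatibility of the equivalences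
  have key1 : ∀ t : B ⊗[B'] D', hC.equiv ((IsScalarTower.toAlgHom B' B A).toLinearMap.rTensor D' t) =
      algebraMap D C (hD.equiv t) := by
    intro t
    induction t using TensorProduct.induction_on with
    | zero => simp
    | tmul b d' =>
      rw [LinearMap.rTensor_tmul, hC.equiv_tmul, hD.equiv_tmul]
      change algebraMap B A b • algebraMap D' C d' = algebraMap D C (b • algebraMap D' D d')
      rw [Algebra.smul_def, Algebra.smul_def, map_mul, ← IsScalarTower.algebraMap_apply B A C,
        ← IsScalarTower.algebraMap_apply B D C, ← IsScalarTower.algebraMap_apply D' D C]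
    | add x y hx hy => rw [map_add, map_add, hx, hy, map_add, map_add]
  have key2 : ∀ t : A' ⊗[B'] D', hC.equiv ((IsScalarTower.toAlgHom B' A' A).toLinearMap.rTensor D' t) =
      algebraMap C' C (hC'.equiv t) := by
    intro t
    induction t using TensorProduct.induction_on with
    | zero => simp
    | tmul a' d' =>
      rw [LinearMap.rTensor_tmul, hC.equiv_tmul, hC'.equiv_tmul]
      change algebraMap A' A a' • algebraMap D' C d' = algebraMap C' C (a' • algebraMap D' C' d')
      rw [Algebra.smul_def, Algebra.smul_def, map_mul, ← IsScalarTower.algebraMap_apply A' A C,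
        ← IsScalarTower.algebraMap_apply A' C' C, ← IsScalarTower.algebraMap_apply D' C' C]
    | add x y hx hy => rw [map_add, map_add, hx, hy, map_add, map_add]
  -- `D' → D ×_C C'` is surjective
  have hsurj : ∀ (x : D) (y : C'), algebraMap D C x = algebraMap C' C y →
      ∃ r : D', algebraMap D' D r = x ∧ algebraMap D' C' r = y := by
    intro x y hxy
    obtain ⟨l, hl1, hl2⟩ := Groth.Agent.S6916.result B' B A' A hsq0 D' (hD.equiv.symm x)
      (hC'.equiv.symm y) (by
        apply hC.equiv.injective
        rw [key1, key2, LinearEquiv.apply_symm_apply, LinearEquiv.apply_symm_apply, hxy])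
    refine ⟨l, ?_, ?_⟩
    · have := congrArg hD.equiv hl1
      rw [LinearEquiv.apply_symm_apply, hD.equiv_tmul, one_smul] at this
      exact this
    · have := congrArg hC'.equiv hl2
      rw [LinearEquiv.apply_symm_apply, hC'.equiv_tmul, one_smul] at this
      exact this
  exact Groth.Agent.H87.Mil.glue_finite_rel hC'C hsurj φ

end Groth.Agent.S6921
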