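import Groth.Statements.S0986
import Groth.Agent.H5.SeqColim

set_option autoImplicit false
universe v u
open CategoryTheory CategoryTheory.Limits
open DerLim

namespace Groth.Agent.S0986

/-- Let A be an abelian category in which colimits of sequences ℕ ⥤ A exist and are exact, and F : ℕ ⥤ A
a sequence whose direct sum ⨁ Fₙ exists. Then the map 1 - shift on ⨁ Fₙ followed by the canonical
map ⨁ Fₙ → colim F is a short exact sequence 0 → ⨁ Fₙ → ⨁ Fₙ → colim F → 0. -/
theorem result {A : Type u} [Category.{v} A] [Abelian A]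
    [HasColimitsOfShape ℕ A] [HasExactColimitsOfShape ℕ A] (F : ℕ ⥤ A) [HasCoproduct F.obj] :
    ∃ w : (𝟙 (∐ F.obj) - DerLim.shiftMap F.obj (fun n => F.map (homOfLE (Nat.le_succ n)))) ≫
        Sigma.desc (fun n => colimit.ι F n) = 0,
      (ShortComplex.mk _ _ w).ShortExact := by
  classical
  set f : ∀ n, F.obj n ⟶ F.obj (n + 1) := fun n => F.map (homOfLE (Nat.le_succ n)) with hf
  have hs : ∀ n, Sigma.ι F.obj n ≫ DerLim.shiftMap F.obj f = f n ≫ Sigma.ι F.obj (n + 1) := by
    intro n
    simp [DerLim.shiftMap]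
  have w : (𝟙 (∐ F.obj) - DerLim.shiftMap F.obj f) ≫ Sigma.desc (fun n => colimit.ι F n) = 0 := by
    refine Sigma.hom_ext _ _ (fun n => ?_)
    rw [Preadditive.sub_comp, Preadditive.comp_sub, Category.id_comp, Sigma.ι_desc,
      reassoc_of% (hs n), Sigma.ι_desc, comp_zero, sub_eq_zero]
    exact (colimit.w F (homOfLE (Nat.le_succ n))).symm
  refine ⟨w, ?_⟩
  have hepi : Epi (Sigma.desc (fun n => colimit.ι F n)) := by
    refine ⟨fun {Z} g h e => colimit.hom_ext (fun n => ?_)⟩
    have := Sigma.ι F.obj n ≫= e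
    simpa using this
  have hmono : Mono (𝟙 (∐ F.obj) - DerLim.shiftMap F.obj f) := by
    rw [Preadditive.mono_iff_cancel_zero]
    intro W k hk
    rw [Preadditive.comp_sub, Category.comp_id, sub_eq_zero] at hk
    have h0 : DerLim.shiftMap F.obj f ≫ Sigma.π F.obj 0 = 0 := by
      refine Sigma.hom_ext _ _ (fun n => ?_)
      rw [reassoc_of% (hs n), Sigma.ι_π_of_ne _ (by omega), comp_zero, comp_zero]
    have hsucc : ∀ n, DerLim.shiftMap F.obj f ≫ Sigma.π F.obj (n + 1) = Sigma.π F.obj n ≫ f n := by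
      intro n
      refine Sigma.hom_ext _ _ (fun m => ?_)
      rw [reassoc_of% (hs m)]
      by_cases h : m = n
      · subst h
        rw [Sigma.ι_π_eq_id, Category.comp_id, Sigma.ι_π_eq_id_assoc]
      · rw [Sigma.ι_π_of_ne _ (by omega), comp_zero, Sigma.ι_π_of_ne_assoc _ h, zero_comp]
    apply Groth.Agent.H5.eq_zero_of_comp_π_eq_zero
    intro n
    induction n with
    | zero => rw [hk, Category.assoc, h0, comp_zero]
    | succ n ih => rw [hk, Category.assoc, hsucc, reassoc_of% ih, zero_comp]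
  refine { exact := ?_, mono_f := hmono, epi_g := hepi }
  apply ShortComplex.exact_of_g_is_cokernel
  refine CokernelCofork.IsColimit.ofπ _ _
    (fun {W} g hg => colimit.desc F ⟨W, NatTrans.ofSequence (fun n => Sigma.ι F.obj n ≫ g) ?_⟩)
    ?_ ?_
  · intro n
    dsimp at hg ⊢
    rw [Category.comp_id]
    have := Sigma.ι F.obj n ≫= hg
    rw [Preadditive.sub_comp, Preadditive.comp_sub, Category.id_comp, comp_zero, sub_eq_zero,
      reassoc_of% (hs n)] at this
    exact this.symm
  · intro W g hg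
    refine Sigma.hom_ext _ _ (fun n => ?_)
    dsimp
    rw [Sigma.ι_desc_assoc, colimit.ι_desc]
    rfl
  · intro W g hg b hb
    apply colimit.hom_ext
    intro n
    rw [colimit.ι_desc]
    subst hb
    rw [NatTrans.ofSequence_app, Sigma.ι_desc_assoc]

end Groth.Agent.S0986
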