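import Groth.Statements.S0985
import Groth.Agent.S0986
import Mathlib.Algebra.Homology.DerivedCategory.ShortExact
import Mathlib.Algebra.Homology.GrothendieckAbelian

set_option autoImplicit false
universe w v u
open CategoryTheory CategoryTheory.Limits
open DerLim

namespace Groth.Agent.S0985

/-- Let A be an abelian category in which colimits of sequences ℕ ⥤ A exist and are exact, and let L : ℕ
⥤ CochainComplex A ℤ be a sequence of complexes. Then the image in the derived category of the
termwise colimit of L, with the canonical maps from the Lₙ, is a homotopy colimit of the images of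
the Lₙ — assuming the termwise direct sum of the Lₙ exists and is preserved by the localization
functor to D(A) (a known result, carried here as a hypothesis rather than proved), and that the
direct sum of the images exists in D(A). -/
theorem result {A : Type u} [Category.{v} A] [Abelian A] [HasDerivedCategory.{w} A]
    [HasColimitsOfShape ℕ A] [HasExactColimitsOfShape ℕ A]
    (L : ℕ ⥤ CochainComplex A ℤ) [HasCoproduct L.obj] [PreservesColimit (Discrete.functor L.obj) (DerivedCategory.Q (C := A))]
    [HasCoproduct (fun n => DerivedCategory.Q.obj (L.obj n))] :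
    DerLim.IsHocolim (fun n => DerivedCategory.Q.obj (L.obj n)) (fun n => DerivedCategory.Q.map (L.map (homOfLE (Nat.le_succ n))))
      (DerivedCategory.Q.obj (colimit L)) (fun n => DerivedCategory.Q.map (colimit.ι L n)) := by
  open DerivedCategory in
  obtain ⟨w, hS⟩ := Groth.Agent.S0986.result L
  have hdist := DerivedCategory.triangleOfSES_distinguished hS
  let f : ∀ n, L.obj n ⟶ L.obj (n + 1) := fun n => L.map (homOfLE (Nat.le_succ n))
  let K : ℕ → DerivedCategory A := fun n => DerivedCategory.Q.obj (L.obj n)
  let e : ∐ K ≅ DerivedCategory.Q.obj (∐ L.obj) :=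
    (PreservesCoproduct.iso (DerivedCategory.Q (C := A)) L.obj).symm
  have he : ∀ n, Sigma.ι K n ≫ e.hom = DerivedCategory.Q.map (Sigma.ι L.obj n) := fun n => by
    simp [e, K]
  have h1 : (𝟙 (∐ K) - DerLim.shiftMap K (fun n => DerivedCategory.Q.map (f n))) ≫ e.hom =
      e.hom ≫ DerivedCategory.Q.map (𝟙 (∐ L.obj) - DerLim.shiftMap L.obj f) := by
    refine Sigma.hom_ext _ _ (fun n => ?_)
    rw [Preadditive.sub_comp, Preadditive.comp_sub, Category.id_comp, Functor.map_sub,
      Preadditive.comp_sub, Preadditive.comp_sub, CategoryTheory.Functor.map_id, Category.comp_id]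
    congr 1
    simp only [DerLim.shiftMap, Sigma.ι_desc_assoc, Category.assoc, he, reassoc_of% (he n),
      ← Functor.map_comp, Sigma.ι_desc]
  have h2 : Sigma.desc (fun n => DerivedCategory.Q.map (colimit.ι L n)) =
      e.hom ≫ DerivedCategory.Q.map (Sigma.desc (fun n => colimit.ι L n)) := by
    refine Sigma.hom_ext _ _ (fun n => ?_)
    rw [Sigma.ι_desc, reassoc_of% (he n), ← Functor.map_comp, Sigma.ι_desc]
  refine ⟨DerivedCategory.triangleOfSESδ hS ≫ (shiftFunctor _ (1 : ℤ)).map e.inv, ?_⟩
  refine Pretriangulated.isomorphic_distinguished _ hdist _ ?_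
  refine Pretriangulated.Triangle.isoMk _ _ e e (Iso.refl _) ?_ ?_ ?_
  · exact h1
  · exact (Category.comp_id _).trans h2
  · change (DerivedCategory.triangleOfSESδ hS ≫ (shiftFunctor _ (1 : ℤ)).map e.inv) ≫
        (shiftFunctor _ (1 : ℤ)).map e.hom = 𝟙 _ ≫ DerivedCategory.triangleOfSESδ hS
    rw [Category.id_comp, Category.assoc, ← Functor.map_comp, e.inv_hom_id,
      CategoryTheory.Functor.map_id, Category.comp_id]

end Groth.Agent.S0985
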