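import Mathlib
import Groth.Statements.S7010
import Groth.Agent.H35.BoundedInduction
import Groth.Agent.H35.FinProjClosure

set_option autoImplicit false
universe u
open CategoryTheory CategoryTheory.Limits
attribute [local instance] HasDerivedCategory.standard
open DRing

namespace Groth.Agent.S7010

open CategoryTheory.Pretriangulated in
/-- The inclusion of the perfect objects in the subcategory generated by R: let R be a commutative ring
and P a property of objects of D(R) which is closed under isomorphisms, holds for R[0], is stable
under all shifts, is closed under extensions (if it holds for the outer terms of a distinguished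
triangle it holds for the middle term) and is closed under taking direct summands. Then P holds for
every perfect object of D(R). -/
theorem result (R : Type u) [CommRing R]
    (P : ObjectProperty (Dual.D R)) [P.IsClosedUnderIsomorphisms] (hR : P (Dual.inD R R))
    (hshift : ∀ (K : Dual.D R) (n : ℤ), P K → P ((shiftFunctor (Dual.D R) n).obj K))
    (hext : ∀ T : Triangle (Dual.D R), T ∈ distinguishedTriangles → P T.obj₁ → P T.obj₃ → P T.obj₂)
    (hsum : ∀ (X Y : Dual.D R) [HasBinaryBiproduct X Y], P (X ⊞ Y) → P X)
    (K : Dual.D R) (hK : DRing.IsPerfect R K) : P K := by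
  -- `P` holds for zero objects
  have hzero : ∀ X : Dual.D R, IsZero X → P X := by
    intro X hX
    have : P (X ⊞ Dual.inD R R) := P.prop_of_iso (isoZeroBiprod hX) hR
    exact hsum X (Dual.inD R R) this
  let F := DerivedCategory.singleFunctor (ModuleCat.{u} R) 0
  have : PreservesBinaryBiproducts F := preservesBinaryBiproducts_of_preservesBiproducts F
  have eprod : ∀ M N : ModuleCat.{u} R,
      F.obj (ModuleCat.of R (M × N)) ≅ F.obj M ⊞ F.obj N := fun M N =>
    F.mapIso (ModuleCat.biprodIsoProd M N).symm ≪≫ F.mapBiprod M N
  -- finite projective modules in degree `0`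
  have hS : ∀ (M : ModuleCat.{u} R), Module.Finite R M → Module.Projective R M →
      P (F.obj M) := by
    intro M _ _
    refine Groth.Agent.H35.finite_projective_closure (fun M => P (F.obj M)) ?_ hR ?_ ?_ ?_ M
    · intro M N e h
      exact P.prop_of_iso (F.mapIso e) h
    · intro M hM
      exact hzero _ (F.map_isZero (ModuleCat.isZero_of_subsingleton M))
    · intro M N hM hN
      refine P.prop_of_iso (eprod M N).symm ?_
      exact hext _ (binaryBiproductTriangle_distinguished _ _) hM hN
    · intro M N h
      exact hsum _ _ (P.prop_of_iso (eprod M N) h)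
  obtain ⟨E, a, b, hab, hfp, ⟨e⟩⟩ := hK
  refine P.prop_of_iso e ?_
  refine Groth.Agent.H35.induction_bounded P
    (fun M => Module.Finite R M ∧ Module.Projective R M) ?_ hzero hext ?_ E a b hab
    (fun i _ _ => hfp i)
  · rintro M N e ⟨h1, h2⟩
    exact ⟨Groth.Agent.H35.finite_of_iso e h1, Groth.Agent.H35.projective_of_iso e h2⟩
  · rintro M i ⟨h1, h2⟩
    have e : (shiftFunctor (Dual.D R) (-i)).obj (F.obj M) ≅
        (DerivedCategory.singleFunctor (ModuleCat.{u} R) i).obj M :=
      ((DerivedCategory.singleFunctors (ModuleCat.{u} R)).shiftIso (-i) i 0 (by omega)).app M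
    exact P.prop_of_iso e (hshift _ _ (hS M h1 h2))

end Groth.Agent.S7010
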