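import Groth.Statements.S17910
import Mathlib

set_option autoImplicit false
universe u
open scoped TensorProduct
open SymTen

namespace Groth.Agent.S17910

open scoped TensorProduct
open PiTensorProduct

section Aux

variable (R : Type u) [CommRing R]

/-- tprod composed with the quotient by altSpan is alternating. -/
noncomputable def altQ (P : Type u) [AddCommGroup P] [Module R P] (d : ℕ) :
    P [⋀^Fin d]→ₗ[R] ((⨂[R] _ : Fin d, P) ⧸ SymTen.altSpan R P d) :=
  { (SymTen.altSpan R P d).mkQ.compMultilinearMap (tprod R) with
    map_eq_zero_of_eq' := fun v i j h hij => by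
      refine (Submodule.Quotient.mk_eq_zero _).2 (Submodule.subset_span ?_)
      exact ⟨v, i, j, hij, h, rfl⟩ }

theorem add_swap_mem (P : Type u) [AddCommGroup P] [Module R P] (d : ℕ) (i j : Fin d)
    (hij : i ≠ j) (y : ⨂[R] _ : Fin d, P) :
    y + reindex R (fun _ : Fin d => P) (Equiv.swap i j) y ∈ SymTen.altSpan R P d := by
  induction y using PiTensorProduct.induction_on with
  | smul_tprod r p =>
    rw [map_smul, ← smul_add]
    refine Submodule.smul_mem _ _ ?_
    rw [reindex_tprod]
    have h := (altQ R P d).map_swap_add p hij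
    rw [← Submodule.Quotient.mk_eq_zero, Submodule.Quotient.mk_add, add_comm]
    exact h
  | add x y hx hy =>
    rw [map_add]
    have : x + y + (reindex R (fun _ : Fin d => P) (Equiv.swap i j) x +
        reindex R (fun _ : Fin d => P) (Equiv.swap i j) y) =
        (x + reindex R (fun _ : Fin d => P) (Equiv.swap i j) x) +
        (y + reindex R (fun _ : Fin d => P) (Equiv.swap i j) y) := by abel
    rw [this]
    exact Submodule.add_mem _ hx hy

theorem free_case (m d : ℕ) (i j : Fin d) (hij : i ≠ j)
    (x : ⨂[R] _ : Fin d, (Fin m → R))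
    (hx : reindex R (fun _ : Fin d => (Fin m → R)) (Equiv.swap i j) x = x) :
    x ∈ SymTen.altSpan R (Fin m → R) d := by
  classical
  set τ : Equiv.Perm (Fin d) := Equiv.swap i j with hτ
  let b := Pi.basisFun R (Fin m)
  let B : Module.Basis (Fin d → Fin m) R (⨂[R] _ : Fin d, (Fin m → R)) :=
    Basis.piTensorProduct (fun _ : Fin d => b)
  have hBI : ∀ I : Fin d → Fin m, B I = tprod R (fun k => b (I k)) := fun I =>
    Basis.piTensorProduct_apply _ I
  have hτB : ∀ I : Fin d → Fin m,
      reindex R (fun _ : Fin d => (Fin m → R)) τ (B I) = B (I ∘ τ) := by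
    intro I
    rw [hBI, hBI, reindex_tprod]
    rfl
  have hrepr : ∀ (y : ⨂[R] _ : Fin d, (Fin m → R)) (I : Fin d → Fin m),
      B.repr (reindex R (fun _ : Fin d => (Fin m → R)) τ y) I = B.repr y (I ∘ τ) := by
    intro y I
    induction y using PiTensorProduct.induction_on with
    | smul_tprod r f =>
      rw [map_smul, map_smul, map_smul, reindex_tprod, Finsupp.smul_apply, Finsupp.smul_apply,
        Basis.piTensorProduct_repr_tprod_apply, Basis.piTensorProduct_repr_tprod_apply]
      congr 1
      exact (Equiv.prod_comp τ (fun k => (b.repr (f (τ.symm k))) (I k))).symm.trans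
        (by simp [hτ])
    | add y z hy hz =>
      simp only [map_add, Finsupp.add_apply, hy, hz]
  have hc : ∀ I : Fin d → Fin m, B.repr x (I ∘ τ) = B.repr x I := by
    intro I
    rw [← hrepr, hx]
  set c := B.repr x with hcdef
  have hττ : ∀ I : Fin d → Fin m, (I ∘ τ) ∘ τ = I := by
    intro I; ext k; simp [hτ]
  let E : (Fin d → Fin m) ≃ (Fin d → Fin m) :=
    { toFun := fun I => I ∘ τ, invFun := fun I => I ∘ τ, left_inv := hττ, right_inv := hττ }
  have hτi : τ i = j := by simp [hτ]
  have hτj : τ j = i := by simp [hτ]
  have hdecomp : x = (∑ I : Fin d → Fin m, if I i = I j then c I • B I else 0) +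
      ∑ I : Fin d → Fin m, if I i < I j then
        c I • (B I + reindex R (fun _ : Fin d => (Fin m → R)) τ (B I)) else 0 := by
    have h3 : (∑ I : Fin d → Fin m, if I i < I j then c I • B (I ∘ τ) else 0) =
        ∑ I : Fin d → Fin m, if I j < I i then c I • B I else 0 := by
      rw [← Equiv.sum_comp E]
      refine Finset.sum_congr rfl fun I _ => ?_
      show (if (I ∘ τ) i < (I ∘ τ) j then c (I ∘ τ) • B ((I ∘ τ) ∘ τ) else 0) = _
      rw [hττ, hc]
      simp only [Function.comp_apply, hτi, hτj]
    have h2 : (∑ I : Fin d → Fin m, if I i < I j then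
        c I • (B I + reindex R (fun _ : Fin d => (Fin m → R)) τ (B I)) else 0) =
        (∑ I : Fin d → Fin m, if I i < I j then c I • B I else 0) +
        ∑ I : Fin d → Fin m, if I i < I j then c I • B (I ∘ τ) else 0 := by
      rw [← Finset.sum_add_distrib]
      refine Finset.sum_congr rfl fun I _ => ?_
      split_ifs
      · rw [hτB, smul_add]
      · rw [add_zero]
    rw [h2, h3, ← Finset.sum_add_distrib, ← Finset.sum_add_distrib]
    conv_lhs => rw [← B.sum_repr x]
    refine Finset.sum_congr rfl fun I _ => ?_
    rcases lt_trichotomy (I i) (I j) with h | h | h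
    · rw [if_neg (ne_of_lt h), if_pos h, if_neg (not_lt.2 h.le), zero_add, add_zero]
    · rw [if_pos h, if_neg (by rw [h]; exact lt_irrefl _), if_neg (by rw [h]; exact lt_irrefl _),
        add_zero, add_zero]
    · rw [if_neg (ne_of_gt h), if_neg (not_lt.2 h.le), if_pos h, zero_add, zero_add]
  rw [hdecomp]
  refine Submodule.add_mem _ (Submodule.sum_mem _ fun I _ => ?_) (Submodule.sum_mem _ fun I _ => ?_)
  · split_ifs with h
    · refine Submodule.smul_mem _ _ (Submodule.subset_span ?_)
      exact ⟨fun k => b (I k), i, j, hij, by show b (I i) = b (I j); rw [h], hBI I⟩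
    · exact Submodule.zero_mem _
  · split_ifs with h
    · exact Submodule.smul_mem _ _ (add_swap_mem R _ d i j hij _)
    · exact Submodule.zero_mem _

theorem map_altSpan_le {P Q : Type u} [AddCommGroup P] [Module R P] [AddCommGroup Q] [Module R Q]
    (d : ℕ) (f : P →ₗ[R] Q) (x : ⨂[R] _ : Fin d, P) (hx : x ∈ SymTen.altSpan R P d) :
    PiTensorProduct.map (fun _ : Fin d => f) x ∈ SymTen.altSpan R Q d := by
  induction hx using Submodule.span_induction with
  | mem x hx =>
    obtain ⟨p, i, j, hij, hp, rfl⟩ := hx
    rw [map_tprod]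
    exact Submodule.subset_span ⟨fun k => f (p k), i, j, hij, by show f (p i) = f (p j); rw [hp], rfl⟩
  | zero => rw [map_zero]; exact Submodule.zero_mem _
  | add x y _ _ hx hy => rw [map_add]; exact Submodule.add_mem _ hx hy
  | smul r x _ hx => rw [map_smul]; exact Submodule.smul_mem _ _ hx

theorem proj_case (P : Type u) [AddCommGroup P] [Module R P] [Module.Finite R P]
    [Module.Projective R P] (d : ℕ) (i j : Fin d) (hij : i ≠ j)
    (x : ⨂[R] _ : Fin d, P)
    (hx : reindex R (fun _ : Fin d => P) (Equiv.swap i j) x = x) :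
    x ∈ SymTen.altSpan R P d := by
  obtain ⟨m, f, g, -, -, hfg⟩ := Module.Finite.exists_comp_eq_id_of_projective R P
  have h1 : PiTensorProduct.map (fun _ : Fin d => g) x ∈ SymTen.altSpan R (Fin m → R) d := by
    apply free_case R m d i j hij
    have := map_reindex (R := R) (fun _ : Fin d => g) (Equiv.swap i j) x
    rw [← this, hx]
  have h2 := map_altSpan_le R d f _ h1
  have h3 : PiTensorProduct.map (fun _ : Fin d => f) (PiTensorProduct.map (fun _ : Fin d => g) x)
      = x := by
    rw [← LinearMap.comp_apply, ← map_comp]
    simp only [hfg]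
    rw [map_id]; rfl
  rwa [h3] at h2

theorem tpowAct_tprod (A : Type u) [CommRing A] [Algebra R A]
    (P : Type u) [AddCommGroup P] [Module R P] [Module A P] [IsScalarTower R A P] (d : ℕ)
    (α : Fin d → A) (p : Fin d → P) :
    SymTen.tpowAct R A P d (tprod R α) (tprod R p) = tprod R (fun k => α k • p k) := by
  unfold SymTen.tpowAct
  rw [lift.tprod]
  simp only [MultilinearMap.compLinearMap_apply, mapMultilinear_apply, map_tprod]
  rfl

theorem tpowAct_reindex (A : Type u) [CommRing A] [Algebra R A]
    (P : Type u) [AddCommGroup P] [Module R P] [Module A P] [IsScalarTower R A P] (d : ℕ)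
    (σ : Equiv.Perm (Fin d)) (a : ⨂[R] _ : Fin d, A) (x : ⨂[R] _ : Fin d, P) :
    reindex R (fun _ : Fin d => P) σ (SymTen.tpowAct R A P d a x) =
      SymTen.tpowAct R A P d (reindex R (fun _ : Fin d => A) σ a)
        (reindex R (fun _ : Fin d => P) σ x) := by
  induction a using PiTensorProduct.induction_on with
  | smul_tprod r α =>
    induction x using PiTensorProduct.induction_on with
    | smul_tprod r' p =>
      simp only [map_smul, LinearMap.smul_apply, reindex_tprod, tpowAct_tprod]
    | add x y hx hy =>
      simp only [map_add, hx, hy]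
  | add a b ha hb =>
    simp only [map_add, LinearMap.add_apply, ha, hb]

end Aux

/-- Let R be a commutative ring, A a commutative R-algebra, d ≥ 0, and P an A-module that is finitely
generated projective (finite locally free) as an R-module. Let the d-fold tensor power of A over R
act on the d-fold tensor power of P over R factor by factor, and let I_d be the R-span of the pure
tensors p_1 ⊗ ⋯ ⊗ p_d with two equal factors p_i = p_j, i ≠ j (the submodule by which the tensor
power is divided to give the d-th exterior power). Then every symmetric tensor a ∈ TS^d_R(A) maps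
I_d into itself, so that TS^d_R(A) acts on the d-th exterior power of P over R. -/
theorem result (R : Type u) [CommRing R] (A : Type u) [CommRing A] [Algebra R A]
    (P : Type u) [AddCommGroup P] [Module R P] [Module A P] [IsScalarTower R A P]
    [Module.Finite R P] [Module.Projective R P] (d : ℕ)
    (a : ⨂[R] _ : Fin d, A) (ha : a ∈ SymTen.TS R A d)
    (x : ⨂[R] _ : Fin d, P) (hx : x ∈ SymTen.altSpan R P d) :
    SymTen.tpowAct R A P d a x ∈ SymTen.altSpan R P d := by
  induction hx using Submodule.span_induction with
  | mem x hx =>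
    obtain ⟨p, i, j, hij, hp, rfl⟩ := hx
    apply proj_case R P d i j hij
    rw [tpowAct_reindex, ha (Equiv.swap i j), reindex_tprod]
    congr 2
    ext k
    simp only [Equiv.symm_swap]
    rcases eq_or_ne k i with rfl | hki
    · rw [Equiv.swap_apply_left, hp]
    rcases eq_or_ne k j with rfl | hkj
    · rw [Equiv.swap_apply_right, hp]
    · rw [Equiv.swap_apply_of_ne_of_ne hki hkj]
  | zero => rw [map_zero]; exact Submodule.zero_mem _
  | add x y _ _ hx hy => rw [map_add]; exact Submodule.add_mem _ hx hy
  | smul r x _ hx => rw [map_smul]; exact Submodule.smul_mem _ _ hx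

end Groth.Agent.S17910
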