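import Groth.Statements.S1740
import Groth.Agent.H9.TorOne
import Groth.Agent.H9.TorFactor
import Mathlib.Algebra.Module.FinitePresentation
import Mathlib.RingTheory.Finiteness.Cardinality

set_option autoImplicit false
universe u
open CategoryTheory
attribute [local instance] HasDerivedCategory.standard
open LocCoh

namespace Groth.Agent.S1740

/-- Let α : M → M' be a map of R-modules with M finitely presented such that the induced map Tor_1(M, N)
→ Tor_1(M', N) is zero for every R-module N. Then α is the composite of a map from M into a free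
R-module and a map from that free module to M'. -/
theorem result (R : Type u) [CommRing R] (M M' : Type u) [AddCommGroup M] [Module R M] [Module.FinitePresentation R M] [AddCommGroup M'] [Module R M'] (α : M →ₗ[R] M') (h : ∀ (N : Type u) [AddCommGroup N] [Module R N], ((CategoryTheory.Tor (ModuleCat.{u} R) 1).map (ModuleCat.ofHom α)).app (ModuleCat.of R N) = 0) : ∃ (ι : Type u) (g : M →ₗ[R] (ι →₀ R)) (h : (ι →₀ R) →ₗ[R] M'), α = h ∘ₗ g := by
  classical
  obtain ⟨n, π, hπ⟩ := Module.Finite.exists_fin' R M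
  have hK : (LinearMap.ker π).FG := Module.FinitePresentation.fg_ker π hπ
  have hKfin : Module.Finite R (LinearMap.ker π) := Module.Finite.iff_fg.2 hK
  obtain ⟨m, ρ, hρ⟩ := Module.Finite.exists_fin' R (LinearMap.ker π)
  let φ : (Fin m → R) →ₗ[R] (Fin n → R) := (LinearMap.ker π).subtype ∘ₗ ρ
  have hφ : ∀ y, π (φ y) = 0 := fun y => (ρ y).2
  have hφr : ∀ x, π x = 0 → ∃ y, φ y = x := by
    intro x hx
    obtain ⟨y, hy⟩ := hρ ⟨x, hx⟩
    exact ⟨y, by simp [φ, hy]⟩
  have hsum : ∀ (k : ℕ) (x : Fin k → R), x = ∑ i, x i • (Pi.single i 1 : Fin k → R) := by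
    intro k x
    ext j
    simp [Finset.sum_apply, Pi.single_apply]
  let ι₀ : Module.Dual R (Fin n → R) →ₗ[R] (Fin m → R) :=
    LinearMap.pi (fun j => LinearMap.applyₗ (φ (Pi.single j 1)))
  have hι₀ : ∀ l j, ι₀ l j = l (φ (Pi.single j 1)) := fun l j => rfl
  let L : Submodule R (Module.Dual R (Fin n → R)) := LinearMap.ker ι₀
  have hL : ∀ l ∈ L, LinearMap.ker π ≤ LinearMap.ker l := by
    intro l hl x hx
    obtain ⟨y, rfl⟩ := hφr x hx
    have hl' : ∀ j, l (φ (Pi.single j 1)) = 0 := fun j => by
      rw [← hι₀, LinearMap.mem_ker.1 hl]; rfl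
    rw [LinearMap.mem_ker, hsum m y, map_sum, map_sum]
    exact Finset.sum_eq_zero fun j _ => by rw [map_smul, map_smul, hl', smul_zero]
  let ιbar : (Module.Dual R (Fin n → R) ⧸ L) →ₗ[R] (Fin m → R) := L.liftQ ι₀ le_rfl
  have hιinj : Function.Injective ιbar := by
    rw [← LinearMap.ker_eq_bot]
    exact Submodule.ker_liftQ_eq_bot _ _ _ le_rfl
  let S : CategoryTheory.ShortComplex (ModuleCat.{u} R) :=
    CategoryTheory.ShortComplex.mk (ModuleCat.ofHom ιbar)
      (ModuleCat.ofHom (LinearMap.range ιbar).mkQ) (by ext x; simp)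
  have hS : S.ShortExact :=
    ModuleCat.shortComplex_shortExact S (LinearMap.exact_map_mkQ_range ιbar) hιinj
      (Submodule.mkQ_surjective _)
  have hproj : CategoryTheory.Projective S.X₂ :=
    inferInstanceAs (CategoryTheory.Projective (ModuleCat.of R (Fin m → R)))
  have h0 := h ((Fin m → R) ⧸ LinearMap.range ιbar)
  -- the canonical element
  let t : TensorProduct R M (Module.Dual R (Fin n → R) ⧸ L) :=
    ∑ i, π (Pi.single i 1) ⊗ₜ[R] L.mkQ (LinearMap.proj i)
  have ht : (LinearMap.lTensor M ιbar) t = 0 := by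
    apply (TensorProduct.piScalarRight R R M (Fin m)).injective
    rw [map_zero]
    ext j
    simp only [t, map_sum, LinearMap.lTensor_tmul, TensorProduct.piScalarRight_apply,
      TensorProduct.piScalarRightHom_tmul, Finset.sum_apply, Pi.zero_apply]
    have : ∀ i, ιbar (L.mkQ (LinearMap.proj i)) j = (φ (Pi.single j 1)) i := fun i => rfl
    simp_rw [this, ← map_smul, ← map_sum]
    rw [← hsum n (φ (Pi.single j 1)), hφ]
  have key := Groth.Agent.H9.whiskerRight_apply_eq_zero_of_tor_map_eq_zero hS
    (ModuleCat.ofHom α) h0 t ht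
  have key' : LinearMap.rTensor (Module.Dual R (Fin n → R) ⧸ L) α t = 0 := key
  have hex : Function.Exact (LinearMap.lTensor M' L.subtype) (LinearMap.lTensor M' L.mkQ) :=
    Groth.Agent.H9.lTensor_exact_subtype_mkQ (Module.Dual R (Fin n → R)) M' L
  have hu : (∑ i, α (π (Pi.single i 1)) ⊗ₜ[R]
      (LinearMap.proj i : Module.Dual R (Fin n → R))) ∈
      LinearMap.range (LinearMap.lTensor M' L.subtype) := by
    rw [← hex.linearMap_ker_eq, LinearMap.mem_ker, map_sum]
    simp only [t, map_sum, LinearMap.rTensor_tmul] at key'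
    simpa using key'
  exact Groth.Agent.H9.factors_through_free_of_mem_range π hπ L hL α hu

end Groth.Agent.S1740
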