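import Groth.Statements.S7041
import Mathlib

set_option autoImplicit false
universe u
open TensorProduct
open LocCoh

namespace Groth.Agent.S7041

section
variable {R R' : Type u} [CommRing R] [CommRing R'] [Algebra R R'] (I : Ideal R)
  (hq : ∀ n : ℕ, 0 < n → Function.Bijective
      (Ideal.quotientMap (Ideal.map (algebraMap R R') (I ^ n)) (algebraMap R R') Ideal.le_comap_map))
  (M : Type u) [AddCommGroup M] [Module R M]

include hq

theorem mem_of_map_mem {n : ℕ} (hn : 0 < n) {r : R}
    (h : algebraMap R R' r ∈ Ideal.map (algebraMap R R') (I ^ n)) : r ∈ I ^ n := by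
  have h1 : Ideal.quotientMap (Ideal.map (algebraMap R R') (I ^ n)) (algebraMap R R') Ideal.le_comap_map
      (Ideal.Quotient.mk (I ^ n) r) = 0 := by
    rw [Ideal.quotientMap_mk]
    exact Ideal.Quotient.eq_zero_iff_mem.mpr h
  have h2 := (hq n hn).1 (h1.trans (map_zero _).symm)
  exact Ideal.Quotient.eq_zero_iff_mem.mp h2

theorem exists_lift {n : ℕ} (hn : 0 < n) (r' : R') :
    ∃ r : R, algebraMap R R' r - r' ∈ Ideal.map (algebraMap R R') (I ^ n) := by
  obtain ⟨x, hx⟩ := (hq n hn).2 (Ideal.Quotient.mk _ r')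
  obtain ⟨r, rfl⟩ := Ideal.Quotient.mk_surjective x
  rw [Ideal.quotientMap_mk] at hx
  exact ⟨r, Ideal.Quotient.eq.mp hx⟩

/-- Well-definedness of the action. -/
theorem act_wd {m : M} {r' : R'} {n n' : ℕ} (hn : 0 < n) (hn' : 0 < n')
    (hm : ∀ a ∈ I ^ n, a • m = 0) (hm' : ∀ a ∈ I ^ n', a • m = 0) {r s : R}
    (hr : algebraMap R R' r - r' ∈ Ideal.map (algebraMap R R') (I ^ n))
    (hs : algebraMap R R' s - r' ∈ Ideal.map (algebraMap R R') (I ^ n')) : r • m = s • m := by
  wlog hle : n ≤ n' generalizing n n' r s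
  · exact (this hn' hn hm' hm hs hr (le_of_not_ge hle)).symm
  have hs' : algebraMap R R' s - r' ∈ Ideal.map (algebraMap R R') (I ^ n) :=
    Ideal.map_mono (Ideal.pow_le_pow_right hle) hs
  have hsub : algebraMap R R' (r - s) ∈ Ideal.map (algebraMap R R') (I ^ n) := by
    have := Ideal.sub_mem _ hr hs'
    rw [map_sub]
    convert this using 1
    ring
  have := mem_of_map_mem I hq hn hsub
  have h0 := hm _ this
  rw [sub_smul, sub_eq_zero] at h0
  exact h0

end

/-- Let R → R' be a homomorphism of commutative rings and I an ideal of R such that the induced map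
R/I^n → R'/I^n R' is bijective for every n > 0. Then for every R-module M in which every element is
killed by a power of I, the map M → R' ⊗_R M sending m to 1 ⊗ m is bijective. -/
theorem result {R R' : Type u} [CommRing R] [CommRing R'] [Algebra R R']
    (I : Ideal R)
    (hq : ∀ n : ℕ, 0 < n → Function.Bijective
      (Ideal.quotientMap (Ideal.map (algebraMap R R') (I ^ n)) (algebraMap R R') Ideal.le_comap_map))
    (M : Type u) [AddCommGroup M] [Module R M] (hM : LocCoh.IsPowerTorsion I M) :
    Function.Bijective (fun m : M => (1 : R') ⊗ₜ[R] m) := by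
  classical
  -- a positive exponent killing `m`
  have hpos : ∀ m : M, ∃ n : ℕ, 0 < n ∧ ∀ a ∈ I ^ n, a • m = 0 := by
    intro m
    obtain ⟨n, hn⟩ := hM m
    exact ⟨n + 1, Nat.succ_pos n, fun a ha => hn a (Ideal.pow_le_pow_right (Nat.le_succ n) ha)⟩
  choose N hN0 hN using hpos
  have hlift : ∀ (m : M) (r' : R'), ∃ r : R,
      algebraMap R R' r - r' ∈ Ideal.map (algebraMap R R') (I ^ N m) :=
    fun m r' => exists_lift I hq (hN0 m) r'
  choose L hL using hlift
  -- the action
  let act : R' → M → M := fun r' m => L m r' • m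
  have hact : ∀ (m : M) (r' : R') (n : ℕ) (_ : 0 < n) (_ : ∀ a ∈ I ^ n, a • m = 0) (r : R)
      (_ : algebraMap R R' r - r' ∈ Ideal.map (algebraMap R R') (I ^ n)), act r' m = r • m :=
    fun m r' n hn hm r hr => act_wd I hq M (hN0 m) hn (hN m) hm (hL m r') hr
  -- the bilinear map
  let μ₂ : R' →ₗ[R] M →ₗ[R] M := LinearMap.mk₂ R act
    (by
      intro r' s' m
      have h1 := hact m r' (N m) (hN0 m) (hN m) (L m r') (hL m r')
      have h2 := hact m s' (N m) (hN0 m) (hN m) (L m s') (hL m s')
      have h3 := hact m (r' + s') (N m) (hN0 m) (hN m) (L m r' + L m s') (by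
        have := Ideal.add_mem _ (hL m r') (hL m s')
        rw [map_add]
        convert this using 1
        ring)
      rw [h1, h2, h3, add_smul])
    (by
      intro c r' m
      have h1 := hact m r' (N m) (hN0 m) (hN m) (L m r') (hL m r')
      have h3 := hact m (c • r') (N m) (hN0 m) (hN m) (c * L m r') (by
        have := Ideal.mul_mem_left _ (algebraMap R R' c) (hL m r')
        rw [map_mul, Algebra.smul_def]
        convert this using 1
        ring)
      rw [h1, h3, mul_smul])
    (by
      intro r' m m'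
      -- common exponent
      let k := max (N m) (N m')
      have hk0 : 0 < k := lt_of_lt_of_le (hN0 m) (le_max_left _ _)
      have hkm : ∀ a ∈ I ^ k, a • m = 0 := fun a ha =>
        hN m a (Ideal.pow_le_pow_right (le_max_left _ _) ha)
      have hkm' : ∀ a ∈ I ^ k, a • m' = 0 := fun a ha =>
        hN m' a (Ideal.pow_le_pow_right (le_max_right _ _) ha)
      have hkmm' : ∀ a ∈ I ^ k, a • (m + m') = 0 := fun a ha => by
        rw [smul_add, hkm a ha, hkm' a ha, add_zero]
      obtain ⟨r, hr⟩ := exists_lift I hq hk0 r'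
      rw [hact m r' k hk0 hkm r hr, hact m' r' k hk0 hkm' r hr, hact (m + m') r' k hk0 hkmm' r hr,
        smul_add])
    (by
      intro c r' m
      have hcm : ∀ a ∈ I ^ N m, a • (c • m) = 0 := fun a ha => by
        rw [smul_comm, hN m a ha, smul_zero]
      rw [hact m r' (N m) (hN0 m) (hN m) (L m r') (hL m r'),
        hact (c • m) r' (N m) (hN0 m) hcm (L m r') (hL m r'), smul_comm])
  let μ : R' ⊗[R] M →ₗ[R] M := TensorProduct.lift μ₂
  have hμ : ∀ m : M, μ ((1 : R') ⊗ₜ[R] m) = m := by
    intro m
    change act 1 m = m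
    rw [hact m 1 (N m) (hN0 m) (hN m) 1 (by simp), one_smul]
  constructor
  · intro m m' h
    have := congrArg μ h
    simpa [hμ] using this
  · intro z
    induction z using TensorProduct.induction_on with
    | zero => exact ⟨0, by simp⟩
    | tmul r' m =>
      refine ⟨L m r' • m, ?_⟩
      change (1 : R') ⊗ₜ[R] (L m r' • m) = r' ⊗ₜ[R] m
      -- elements of `I^n R'` kill `m` in the tensor product
      have hkill : ∀ z ∈ Ideal.map (algebraMap R R') (I ^ N m), z ⊗ₜ[R] m = (0 : R' ⊗[R] M) := by
        intro z hz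
        induction hz using Submodule.span_induction with
        | mem x hx =>
          obtain ⟨a, ha, rfl⟩ := hx
          rw [Algebra.algebraMap_eq_smul_one, TensorProduct.smul_tmul, hN m a ha, tmul_zero]
        | zero => simp
        | add x y _ _ hx hy => rw [add_tmul, hx, hy, add_zero]
        | smul c x _ hx =>
          have h2 : (c • x) ⊗ₜ[R] m = c • (x ⊗ₜ[R] m : R' ⊗[R] M) := by
            rw [TensorProduct.smul_tmul']
          rw [h2, hx, smul_zero]
      have h1 := hkill _ (hL m r')
      rw [sub_tmul, sub_eq_zero] at h1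
      rw [← h1, Algebra.algebraMap_eq_smul_one, TensorProduct.smul_tmul]
    | add x y hx hy =>
      obtain ⟨m, hm⟩ := hx
      obtain ⟨m', hm'⟩ := hy
      exact ⟨m + m', by simp only [tmul_add] at *; rw [hm, hm']⟩

end Groth.Agent.S7041
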