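import Groth.Statements.S2006
import Groth.Agent.H10.GluePair
import Mathlib

set_option autoImplicit false
universe u
open TensorProduct
open EtAlg

namespace Groth.Agent.S2006

open Groth.Agent.H10

section
variable {R R' : Type u} [CommRing R] [CommRing R'] [Algebra R R'] {f : R}
variable {M : Type u} [AddCommGroup M] [Module R M]

/-- Step 1: a f.g. submodule `N₁` such that `R' ⊗ (M/N) = 0` for all `N ≥ N₁`. -/
theorem step1 (h : Module.Finite R' (R' ⊗[R] M)) :
    ∃ N₁ : Submodule R M, N₁.FG ∧ ∀ N : Submodule R M, N₁ ≤ N →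
      ∀ w : R' ⊗[R] (M ⧸ N), w = 0 := by
  obtain ⟨S', hS'fin, hS'⟩ := Submodule.fg_def.1 (Module.finite_def.1 h)
  obtain ⟨N₁, hN₁, hsub⟩ := TensorProduct.exists_finite_submodule_right_of_setFinite S' hS'fin
  refine ⟨N₁, (Module.Finite.iff_fg).1 hN₁, fun N hle w => ?_⟩
  obtain ⟨z, rfl⟩ := LinearMap.lTensor_surjective R' (Submodule.mkQ_surjective N) w
  have hz : z ∈ LinearMap.ker (N.mkQ.baseChange R') := by
    have htop : (⊤ : Submodule R' (R' ⊗[R] M)) ≤ LinearMap.ker (N.mkQ.baseChange R') := by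
      rw [← hS', Submodule.span_le]
      intro s hs
      obtain ⟨v, rfl⟩ := hsub hs
      rw [SetLike.mem_coe, LinearMap.mem_ker, LinearMap.baseChange_eq_ltensor,
        ← LinearMap.lTensor_comp_apply]
      have : N.mkQ ∘ₗ N₁.subtype = 0 := by
        ext n
        simp only [LinearMap.coe_comp, Function.comp_apply, Submodule.subtype_apply,
          Submodule.mkQ_apply, LinearMap.zero_apply, Submodule.Quotient.mk_eq_zero]
        exact hle n.2
      rw [this, LinearMap.lTensor_zero, LinearMap.zero_apply]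
    exact htop trivial
  rw [LinearMap.mem_ker, LinearMap.baseChange_eq_ltensor] at hz
  exact hz

/-- Step 2: a f.g. submodule `N₂` such that every element of `M` has a power-of-`f` multiple in `N₂`. -/
theorem step2 (h : Module.Finite (Localization.Away f) (LocalizedModule (Submonoid.powers f) M)) :
    ∃ N₂ : Submodule R M, N₂.FG ∧ ∀ m : M, ∃ k : ℕ, f ^ k • m ∈ N₂ := by
  classical
  obtain ⟨T, hTfin, hT⟩ := Submodule.fg_def.1 (Module.finite_def.1 h)
  have hch : ∀ t : LocalizedModule (Submonoid.powers f) M, ∃ (m : M) (n : ℕ),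
      f ^ n • t = LocalizedModule.mkLinearMap (Submonoid.powers f) M m := exists_pow_smul_eq_mk
  choose mt nt hmt using hch
  refine ⟨Submodule.span R (mt '' T), Submodule.fg_span (hTfin.image _), fun m => ?_⟩
  have key : ∀ y ∈ Submodule.span (Localization.Away f) T,
      ∃ (n : ℕ) (m' : M), m' ∈ Submodule.span R (mt '' T) ∧
        f ^ n • y = LocalizedModule.mkLinearMap (Submonoid.powers f) M m' := by
    intro y hy
    induction hy using Submodule.span_induction with
    | mem t ht => exact ⟨nt t, mt t, Submodule.subset_span ⟨t, ht, rfl⟩, hmt t⟩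
    | zero => exact ⟨0, 0, Submodule.zero_mem _, by simp⟩
    | add y₁ y₂ _ _ h₁ h₂ =>
      obtain ⟨n₁, m₁, hm₁, e₁⟩ := h₁
      obtain ⟨n₂, m₂, hm₂, e₂⟩ := h₂
      refine ⟨n₁ + n₂, f ^ n₂ • m₁ + f ^ n₁ • m₂,
        Submodule.add_mem _ (Submodule.smul_mem _ _ hm₁) (Submodule.smul_mem _ _ hm₂), ?_⟩
      rw [smul_add, map_add, map_smul, map_smul, ← e₁, ← e₂, ← mul_smul, ← mul_smul, ← pow_add,
        ← pow_add, add_comm n₂ n₁]
    | smul c y _ hy =>
      obtain ⟨n, m', hm', e⟩ := hy
      obtain ⟨⟨a, ⟨_, k, rfl⟩⟩, hc⟩ := IsLocalization.surj (Submonoid.powers f) c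
      refine ⟨k + n, a • m', Submodule.smul_mem _ _ hm', ?_⟩
      have h1 : f ^ k • (c • y) = a • y := by
        rw [← algebraMap_smul (Localization.Away f) (f ^ k) (c • y), ← mul_smul,
          mul_comm]
        simp only at hc
        rw [hc, algebraMap_smul]
      rw [pow_add, mul_comm, mul_smul, h1, smul_comm, e, map_smul]
  have hm : LocalizedModule.mkLinearMap (Submonoid.powers f) M m ∈
      Submodule.span (Localization.Away f) T := by rw [hT]; trivial
  obtain ⟨n, m', hm', e⟩ := key _ hm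
  have h0 : LocalizedModule.mkLinearMap (Submonoid.powers f) M (f ^ n • m - m') = 0 := by
    rw [map_sub, map_smul, e, sub_self]
  obtain ⟨k, hk⟩ := (mk_eq_zero_iff_pow _).1 h0
  refine ⟨k + n, ?_⟩
  have : f ^ (k + n) • m = f ^ k • m' := by
    rw [smul_sub, sub_eq_zero] at hk
    rw [pow_add, mul_smul, hk]
  rw [this]
  exact Submodule.smul_mem _ _ hm'

end

/-- Let R -> R' induce bijections R/f^n R -> R'/f^n R' for all n > 0 and let M be an R-module. Then M is
finitely generated if and only if R' ⊗_R M is finitely generated over R' and M_f is finitely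
generated over R_f. -/
theorem result (R R' : Type u) [CommRing R] [CommRing R'] [Algebra R R'] (f : R)
    (hq : EtGlue.QuotPowBijective R R' f) (M : Type u) [AddCommGroup M] [Module R M] :
    Module.Finite R M ↔ Module.Finite R' (R' ⊗[R] M) ∧
      Module.Finite (Localization.Away f) (LocalizedModule (Submonoid.powers f) M) := by
  constructor
  · intro h
    exact ⟨inferInstance, inferInstance⟩
  · rintro ⟨h1, h2⟩
    obtain ⟨N₁, hN₁, hN₁'⟩ := step1 h1
    obtain ⟨N₂, hN₂, hN₂'⟩ := step2 h2
    have hfg : (N₁ ⊔ N₂).FG := hN₁.sup hN₂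
    have hzero := hN₁' (N₁ ⊔ N₂) le_sup_left
    have hF : Antitone (fun n : ℕ => Ideal.span {f ^ (n + 1)}) := by
      intro n m hnm
      simp only
      rw [Ideal.span_singleton_le_span_singleton]
      exact pow_dvd_pow f (by omega)
    have hbij : ∀ n : ℕ, QuotBij R R' (Ideal.span {f ^ (n + 1)}) :=
      fun n => quotBij_of_quotPowBijective hq (Nat.succ_pos n)
    have htor : ∀ q : M ⧸ (N₁ ⊔ N₂), ∃ n : ℕ, ∀ a ∈ Ideal.span {f ^ (n + 1)}, a • q = 0 := by
      intro q
      obtain ⟨m, rfl⟩ := Submodule.Quotient.mk_surjective _ q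
      obtain ⟨k, hk⟩ := hN₂' m
      refine ⟨k, fun a ha => ?_⟩
      rw [Ideal.mem_span_singleton] at ha
      obtain ⟨c, rfl⟩ := ha
      rw [← Submodule.Quotient.mk_smul, Submodule.Quotient.mk_eq_zero, pow_succ, mul_assoc,
        mul_comm, mul_smul]
      exact Submodule.smul_mem _ _ (le_sup_right (a := N₁) hk)
    have hb := mk_bijective_of_levels (S := R') _ hF hbij htor
    have htop : N₁ ⊔ N₂ = ⊤ := by
      rw [eq_top_iff]
      intro m _
      have : (Submodule.Quotient.mk m : M ⧸ (N₁ ⊔ N₂)) = 0 := by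
        apply hb.1
        rw [hzero (TensorProduct.mk R R' _ 1 _), hzero (TensorProduct.mk R R' _ 1 0)]
      exact (Submodule.Quotient.mk_eq_zero _).1 this
    rw [Module.finite_def, ← htop]
    exact hfg

end Groth.Agent.S2006
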