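import Groth.Statements.S12205
import Groth.Agent.H9.TorOneKernel
import Groth.Agent.H9.TorsionFlat

set_option autoImplicit false
universe u
open CategoryTheory
open scoped TensorProduct
open CAlg

namespace Groth.Agent.S12205

/-- Let I be an ideal of a commutative ring R and M an R-module such that M/IM is flat over R/I and
Tor_1^R(R/I, M) = 0. Then Tor_1^R(N, M) = 0 for every R-module N annihilated by I^m for some m ≥ 0.
Here Tor_1^R(N, M) is the first left derived functor of N ⊗_R − evaluated at M. -/
theorem result (R : Type u) [CommRing R] (I : Ideal R) (M : Type u)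
    [AddCommGroup M] [Module R M] [Module.Flat (R ⧸ I) ((R ⧸ I) ⊗[R] M)]
    (h : Limits.IsZero (((CategoryTheory.Tor (ModuleCat.{u} R) 1).obj (ModuleCat.of R (R ⧸ I))).obj (ModuleCat.of R M)))
    (N : Type u) [AddCommGroup N] [Module R N] (m : ℕ) (hN : ∀ a : R, a ∈ I ^ m → ∀ x : N, a • x = 0) :
    Limits.IsZero (((CategoryTheory.Tor (ModuleCat.{u} R) 1).obj (ModuleCat.of R N)).obj (ModuleCat.of R M)) := by
  let π : (M →₀ R) →ₗ[R] M := Finsupp.linearCombination R id
  have hπ : Function.Surjective π := fun x => ⟨Finsupp.single x 1, by simp [π]⟩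
  let S := π.shortComplexKer
  have hS : S.ShortExact := LinearMap.shortExact_shortComplexKer hπ
  have hP : CategoryTheory.Projective S.X₂ :=
    inferInstanceAs (CategoryTheory.Projective (ModuleCat.of R (M →₀ R)))
  have hinj : Function.Injective (LinearMap.lTensor (R ⧸ I) S.f.hom) :=
    (Groth.Agent.H9.isZero_tor_one_iff_injective hS (ModuleCat.of R (R ⧸ I))).1 h
  have hex : Function.Exact S.f.hom S.g.hom :=
    (ShortComplex.ShortExact.moduleCat_exact_iff_function_exact S).1 hS.exact
  have base : ∀ (N : Type u) [AddCommGroup N] [Module R N], (∀ a ∈ I, ∀ x : N, a • x = 0) →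
      Limits.IsZero (((CategoryTheory.Tor (ModuleCat.{u} R) 1).obj (ModuleCat.of R N)).obj
        (ModuleCat.of R M)) := by
    intro N _ _ hN
    refine (Groth.Agent.H9.isZero_tor_one_iff_injective hS (ModuleCat.of R N)).2 ?_
    exact Groth.Agent.H9.lTensor_injective_of_torsion I (M := M) S.f.hom S.g.hom hπ hex hinj N hN
  induction m generalizing N with
  | zero =>
    have : Subsingleton N := ⟨fun x y => by
      have hx := hN 1 (by simp) x
      have hy := hN 1 (by simp) y
      rw [one_smul] at hx hy
      rw [hx, hy]⟩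
    have : Module.Flat R (ModuleCat.of R N) := inferInstanceAs (Module.Flat R N)
    exact Groth.Agent.H9.isZero_tor_succ_of_flat_left (ModuleCat.of R N) (ModuleCat.of R M) 0
  | succ m ih =>
    let N' : Submodule R N := I ^ m • (⊤ : Submodule R N)
    have hN' : ∀ a ∈ I, ∀ x : N', a • x = 0 := by
      intro a ha x
      apply Subtype.ext
      have hx : (x : N) ∈ I ^ m • (⊤ : Submodule R N) := x.2
      change a • (x : N) = 0
      refine Submodule.smul_induction_on hx ?_ ?_
      · intro r hr n _
        rw [smul_smul]
        exact hN _ (by rw [pow_succ']; exact Ideal.mul_mem_mul ha hr) n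
      · intro y z hy hz
        rw [smul_add, hy, hz, add_zero]
    have hQ : ∀ a ∈ I ^ m, ∀ x : N ⧸ N', a • x = 0 := by
      intro a ha x
      obtain ⟨x, rfl⟩ := Submodule.mkQ_surjective N' x
      rw [← map_smul, Submodule.mkQ_apply, Submodule.Quotient.mk_eq_zero]
      exact Submodule.smul_mem_smul ha Submodule.mem_top
    let SN : ShortComplex (ModuleCat.{u} R) :=
      ShortComplex.mk (ModuleCat.ofHom N'.subtype) (ModuleCat.ofHom N'.mkQ)
        (by ext x; simp)
    have hSN : SN.ShortExact :=
      ModuleCat.shortComplex_shortExact SN (LinearMap.exact_subtype_mkQ N')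
        N'.injective_subtype (Submodule.mkQ_surjective N')
    exact Groth.Agent.H9.isZero_tor_of_shortExact hSN (ModuleCat.of R M) 1 (base N' hN')
      (ih (N ⧸ N') hQ)

end Groth.Agent.S12205
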