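import Groth.Statements.S0412
import Groth.Agent.H21.SmoothSection

set_option autoImplicit false
universe u
open FlatMor

namespace Groth.Agent.S0412

set_option backward.isDefEq.respectTransparency.types false in
open AlgebraicGeometry CategoryTheory Limits in
/-- A smooth morphism admits sections étale-locally on the target: every point in the image has an étale
neighbourhood over which the morphism has a section. -/
theorem result {X S : Scheme.{u}} (f : X ⟶ S) [Smooth f] (s : S) (hs : s ∈ Set.range f) :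
    ∃ (S' : Scheme.{u}) (g : S' ⟶ S) (s' : S'), Etale g ∧ g s' = s ∧ ∃ h : S' ⟶ X, h ≫ f = g := by
  obtain ⟨x, rfl⟩ := hs
  obtain ⟨_, ⟨V, hV0, rfl⟩, hsV, -⟩ :=
    S.isBasis_affineOpens.exists_subset_of_mem_open (Set.mem_univ (f x)) isOpen_univ
  obtain ⟨_, ⟨W, hW0, rfl⟩, hxW, hWV⟩ :=
    X.isBasis_affineOpens.exists_subset_of_mem_open (show x ∈ (f ⁻¹ᵁ V : Set X) from hsV)
      (f ⁻¹ᵁ V).isOpen
  have hV : IsAffineOpen V := hV0
  have hW : IsAffineOpen W := hW0
  have e : W ≤ f ⁻¹ᵁ V := hWV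
  have hsm : (f.appLE V W e).hom.Smooth := Smooth.smooth_appLE f hV hW e
  algebraize [(f.appLE V W e).hom]
  obtain ⟨C, _, _, hEt, φ, Q, hQ⟩ :=
    Groth.Agent.H21.SmoothSection.exists_etale_section_ring Γ(S, V) Γ(X, W)
      (hW.primeIdealOf ⟨x, hxW⟩)
  have hEtg : Etale (Spec.map (CommRingCat.ofHom (algebraMap Γ(S, V) C))) := by
    rw [HasRingHomProperty.Spec_iff (P := @Etale)]
    exact RingHom.etale_algebraMap.mpr hEt
  refine ⟨Spec (.of C), Spec.map (CommRingCat.ofHom (algebraMap Γ(S, V) C)) ≫ hV.fromSpec, Q,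
    inferInstance, ?_, Spec.map (CommRingCat.ofHom φ.toRingHom) ≫ hW.fromSpec, ?_⟩
  · rw [Scheme.Hom.comp_apply]
    have h1 : (Spec.map (CommRingCat.ofHom (algebraMap Γ(S, V) C))) Q =
        hV.primeIdealOf ⟨f x, e hxW⟩ := by
      rw [← IsAffineOpen.comap_primeIdealOf_appLE V hV W hW e hxW]
      exact hQ
    rw [h1, IsAffineOpen.fromSpec_primeIdealOf]
  · rw [Category.assoc, ← IsAffineOpen.SpecMap_appLE_fromSpec f hV hW e, ← Spec.map_comp_assoc]
    congr 2
    ext1
    exact φ.comp_algebraMap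

end Groth.Agent.S0412
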