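import Groth.Statements.S18471
import Groth.Agent.H92.OTDual
-- import your own Groth.Agent.* helpers here

set_option autoImplicit false
universe u
open OortTate

namespace Groth.Agent.S18471

section Helpers
open OortTate
open Groth.Agent.H92.OTChar Groth.Agent.H92.OTEigen Groth.Agent.H92.OTDual

theorem main (p : ℕ) [Fact p.Prime] (R : Type u) [CommRing R] (u : R) (hu : u * ((p - 1 : ℕ) : R) = 1)
    (χ : (ZMod p)ˣ →* Rˣ) (hχ : ∀ m : (ZMod p)ˣ, m ≠ 1 → IsUnit ((χ m : R) - 1))
    (A : Type u) [CommRing A] [HopfAlgebra R A] [Coalgebra.IsCocomm R A]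
    [Module.Finite R A] [Module.Projective R A]
    (hp : (WithConv.toConv (AlgHom.id R A)) ^ p = 1) (i : ℕ) :
    Function.Bijective (fun f : OortTate.eigenAug R (CartDual.D R A) p χ i =>
      ((CartDual.toDual R A) (f : CartDual.D R A)).comp (OortTate.eigenAug R A p χ i).subtype) := by
  have hpD := killed_dual (R := R) (A := A) hp
  have hselfA : ∀ a : A, a ∈ OortTate.eigenAug R A p χ i → OortTate.proj R A p u χ i a = a := by
    intro a ha
    rw [proj_of_mem u χ _ _ a ha, sub_self, S_of_dvd (dvd_zero _), hu, one_smul]
  have hselfD : ∀ f : CartDual.D R A, f ∈ OortTate.eigenAug R (CartDual.D R A) p χ i →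
      OortTate.proj R (CartDual.D R A) p u χ i f = f := by
    intro f hf
    rw [proj_of_mem u χ _ _ f hf, sub_self, S_of_dvd (dvd_zero _), hu, one_smul]
  -- q a = a - ε(a) 1
  let q : A →ₗ[R] A := LinearMap.id - (Algebra.linearMap R A).comp (Coalgebra.counit (R := R) (A := A))
  have hq : ∀ a : A, q a = a - algebraMap R A (Coalgebra.counit (R := R) a) := fun a => rfl
  have hq0 : ∀ a : A, Bialgebra.counitAlgHom R A (q a) = 0 := by
    intro a
    rw [hq]
    simp
  have hPq : ∀ a : A, OortTate.proj R A p u χ i (q a) ∈ OortTate.eigenAug R A p χ i :=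
    fun a => proj_mem hp u χ i (q a) (hq0 a)
  constructor
  · rintro ⟨f, hf⟩ ⟨g, hg⟩ hfg
    apply Subtype.ext
    change f = g
    have hf0 : f 1 = 0 := ((mem_eigenAug_iff χ i f).mp hf).1
    have hg0 : g 1 = 0 := ((mem_eigenAug_iff χ i g).mp hg).1
    apply WithConv.ext
    apply LinearMap.ext
    intro a
    have key : ∀ (h : CartDual.D R A), h ∈ OortTate.eigenAug R (CartDual.D R A) p χ i → h 1 = 0 →
        h.ofConv a = h.ofConv (OortTate.proj R A p u χ i (q a)) := by
      intro h hh hh0
      have h1 : h a = h (OortTate.proj R A p u χ i a) := by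
        rw [← proj_dual_apply, hselfD h hh]
      have h2 : a = q a + (Coalgebra.counit (R := R) a) • (1 : A) := by
        rw [hq, Algebra.algebraMap_eq_smul_one]; abel
      have h3 : h (OortTate.proj R A p u χ i (1 : A)) = 0 := by
        rw [← proj_dual_apply, hselfD h hh, hh0]
      rw [CartDual.coe_apply] at h1
      rw [h1]
      conv_lhs => rw [h2]
      rw [map_add, map_smul, map_add, map_smul, ← CartDual.coe_apply, h3, smul_zero, add_zero]
    rw [key f hf hf0, key g hg hg0]
    have := LinearMap.congr_fun hfg ⟨_, hPq a⟩
    exact this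
  · intro g
    let P' : A →ₗ[R] OortTate.eigenAug R A p χ i :=
      LinearMap.codRestrict _ (OortTate.proj R A p u χ i ∘ₗ q) hPq
    have hP' : ∀ a : A, ((P' a : OortTate.eigenAug R A p χ i) : A) = OortTate.proj R A p u χ i (q a) :=
      fun a => rfl
    let f₀ : CartDual.D R A := WithConv.toConv (g ∘ₗ P')
    have hf₀ : ∀ a : A, f₀ a = g (P' a) := fun a => rfl
    have hq1 : q 1 = 0 := by rw [hq]; simp
    have hf₀1 : Bialgebra.counitAlgHom R (CartDual.D R A) f₀ = 0 := by
      change f₀ 1 = 0
      rw [hf₀]
      have : P' 1 = 0 := by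
        apply Subtype.ext
        rw [hP', hq1, map_zero]; rfl
      rw [this, map_zero]
    refine ⟨⟨OortTate.proj R (CartDual.D R A) p u χ i f₀, proj_mem hpD u χ i f₀ hf₀1⟩, ?_⟩
    apply LinearMap.ext
    rintro ⟨a, ha⟩
    change (OortTate.proj R (CartDual.D R A) p u χ i f₀) a = g ⟨a, ha⟩
    rw [proj_dual_apply, hselfA a ha, hf₀]
    congr 1
    apply Subtype.ext
    rw [hP', hq]
    have ha0 : Coalgebra.counit (R := R) a = 0 := ((mem_eigenAug_iff χ i a).mp ha).1
    rw [ha0, map_zero, sub_zero]
    exact hselfA a ha

end Helpers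


/-- Let p be a prime, R a commutative ring containing u with u(p − 1) = 1, and χ a homomorphism from the
units of ℤ/p to the units of R such that χ(m) − 1 is a unit for every m ≠ 1 (the situation of an
algebra over the subring Λ_p of the p-adic integers generated by the Teichmüller values and 1/(p(p −
1)), with χ the Teichmüller character, which is the published setting). Let A be a commutative and
cocommutative Hopf algebra over R, finitely generated and projective as an R-module, such that the
p-th convolution power of the identity of A is the neutral element (a finite locally free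
commutative group killed by p), and let A^D = Hom_R(A, R) be its dual Hopf algebra (the Cartier
dual). For i ≥ 0 let I_i(A) ⊆ A and I_i(A^D) ⊆ A^D be the submodules of elements f of the respective
augmentation ideals with [m]f = χ(m)^i f for every unit m of ℤ/p, [m] the power map. Then
restriction of linear forms to I_i(A) is a bijection from I_i(A^D) onto the dual module
Hom_R(I_i(A), R). (The published statement is for a group scheme of order p over a Λ_p-algebra and
asserts an isomorphism of R-modules; the map here is the one its proof uses.) -/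
theorem result
    (p : ℕ) [Fact p.Prime] (R : Type u) [CommRing R] (u : R) (hu : u * ((p - 1 : ℕ) : R) = 1)
    (χ : (ZMod p)ˣ →* Rˣ) (hχ : ∀ m : (ZMod p)ˣ, m ≠ 1 → IsUnit ((χ m : R) - 1))
    (A : Type u) [CommRing A] [HopfAlgebra R A] [Coalgebra.IsCocomm R A]
    [Module.Finite R A] [Module.Projective R A]
    (hp : (WithConv.toConv (AlgHom.id R A)) ^ p = 1) (i : ℕ) :
    Function.Bijective (fun f : OortTate.eigenAug R (CartDual.D R A) p χ i =>
      ((CartDual.toDual R A) (f : CartDual.D R A)).comp (OortTate.eigenAug R A p χ i).subtype) := by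
  exact main p R u hu χ hχ A hp i

end Groth.Agent.S18471
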