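import Groth.Statements.S0024
import Groth.Agent.H18.ProjSpaceGlobal

set_option autoImplicit false
universe u
open Coherent

namespace Groth.Agent.S0024

open AlgebraicGeometry CategoryTheory in
/-- Special case d = 0, q = 0: the map R → Γ(P^n_R, O) induced by the structure morphism P^n_R → Spec R
is an isomorphism (global functions on projective space are the degree-zero part R of the polynomial
ring). -/
theorem result (n : ℕ) (R : Type u) [CommRing R] :
    IsIso (CohB1.ProjSpace.toSpec n R).appTop := by
  have hb := Groth.Agent.H18.PSL.toGlobal_bijective n R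
  have h2 : Function.Bijective ((CohB1.ProjSpace.toSpec n R).appTop.hom) := by
    have hinv : Function.Bijective (Scheme.ΓSpecIso (CommRingCat.of R)).hom.hom :=
      ConcreteCategory.bijective_of_isIso (Scheme.ΓSpecIso (CommRingCat.of R)).hom
    have : ((CohB1.ProjSpace.toSpec n R).appTop.hom : _ → _) =
        (Coh.toGlobal (CohB1.ProjSpace.toSpec n R)) ∘ (Scheme.ΓSpecIso (CommRingCat.of R)).hom.hom := by
      funext a
      change _ = (CohB1.ProjSpace.toSpec n R).appTop.hom
        ((Scheme.ΓSpecIso (CommRingCat.of R)).inv.hom
          ((Scheme.ΓSpecIso (CommRingCat.of R)).hom.hom a))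
      congr 1
      exact (congrArg (fun f => f.hom a) (Scheme.ΓSpecIso (CommRingCat.of R)).hom_inv_id).symm
    rw [this]
    exact hb.comp hinv
  exact (ConcreteCategory.isIso_iff_bijective _).mpr h2

end Groth.Agent.S0024
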