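import Groth.Statements.S3581
import Groth.Agent.S0024
import Groth.Agent.Lead.Coh.ProjSpaceCover

set_option autoImplicit false
universe u
open CategoryTheory CategoryTheory.Limits AlgebraicGeometry
open EGA2

namespace Groth.Agent.S3581

/-- Over an affine base Spec A, Proj of the graded polynomial algebra A[T] (T of degree one) is
identified with Spec A by its structure morphism: the structure morphism from projective 0-space
over A to Spec A is an isomorphism. -/
theorem result (A : Type u) [CommRing A] :
    IsIso (CohB1.ProjSpace.toSpec 0 A) := by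
  have htop : Groth.Agent.Lead.Coh.stdOpen 0 A 0 = ⊤ := by
    have h := Groth.Agent.Lead.Coh.iSup_stdOpen 0 A
    rw [← h]
    apply le_antisymm
    · exact le_iSup (Groth.Agent.Lead.Coh.stdOpen 0 A) 0
    · refine iSup_le fun i => ?_
      have : i = 0 := Fin.ext (by have := i.2; omega)
      rw [this]
  have haff : IsAffineOpen (⊤ : (CohB1.ProjSpace 0 A).Opens) := by
    rw [← htop]
    exact Groth.Agent.Lead.Coh.isAffineOpen_stdOpen 0 A 0
  have : IsAffine (CohB1.ProjSpace 0 A) := by
    have : IsAffine ((⊤ : (CohB1.ProjSpace 0 A).Opens) : Scheme.{u}) := haff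
    exact IsAffine.of_isIso (CohB1.ProjSpace 0 A).topIso.inv
  have : IsIso (CohB1.ProjSpace.toSpec 0 A).appTop := Groth.Agent.S0024.result 0 A
  have hnat := Scheme.toSpecΓ_naturality (CohB1.ProjSpace.toSpec 0 A)
  have : CohB1.ProjSpace.toSpec 0 A =
      (CohB1.ProjSpace 0 A).toSpecΓ ≫ Spec.map (CohB1.ProjSpace.toSpec 0 A).appTop ≫
        inv (Spec (CommRingCat.of A)).toSpecΓ := by
    rw [← Category.assoc, ← hnat, Category.assoc, IsIso.hom_inv_id, Category.comp_id]
  rw [this]
  infer_instance

end Groth.Agent.S3581
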