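import Groth.Statements.S4965
import Groth.Agent.H99.SuppComp

set_option autoImplicit false
open CategoryTheory AlgebraicGeometry
universe u v w
open EGA43

namespace Groth.Agent.S4965

/-- Let f : X ⟶ Y be a proper morphism of finite presentation and F a finitely presented O_X-module
which is f-flat; for y in Y write F_y for the restriction of F to the fibre X_y. Let Φ be a finite
set of natural numbers. Then the set of points y of Y such that the set of dimensions of the
irreducible components of Supp(F_y) contains Φ is open in Y. -/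
theorem result {X Y : Scheme.{u}} (f : X ⟶ Y) [IsProper f]
    [LocallyOfFinitePresentation f] (F : X.Modules) (hF : CohB1.IsFP F) (hflat : FlatMod.IsFlatOver f F) (Φ : Finset ℕ) :
    IsOpen {y : Y | ∀ n ∈ Φ, ∃ Z ∈ irreducibleComponents ↥{z : ↥(f.fiber y) | Nontrivial (((Scheme.Modules.pullback (f.fiberι y)).obj F).presheaf.stalk z)},
      topologicalKrullDim ↥Z = (n : WithBot ℕ∞)} := by
  have hQ : SheafOfModules.IsFinitePresentation (R := X.ringCatSheaf) F := hF
  haveI : Coh.IsQCoh F :=
    SheafOfModules.instIsQuasicoherentOfIsFinitePresentation.{u, u, u} (R := X.ringCatSheaf) F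
  have hset : {y : Y | ∀ n ∈ Φ, ∃ Z ∈ irreducibleComponents ↥{z : ↥(f.fiber y) |
        Nontrivial (((Scheme.Modules.pullback (f.fiberι y)).obj F).presheaf.stalk z)},
      topologicalKrullDim ↥Z = (n : WithBot ℕ∞)} =
      ⋂ n ∈ Φ, f '' (CohB1.support F ∩ {x : X | Groth.Agent.H99.AssInv.PrΦ {n} f F x}) := by
    ext y
    simp only [Set.mem_ofPred_eq, Set.mem_iInter]
    exact forall_congr' fun n => imp_congr Iff.rfl
      (Groth.Agent.H99.SuppComp.exists_component_dim_iff f F hF n y)
  rw [hset]
  refine isOpen_biInter_finset fun n _ => ?_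
  refine Groth.Agent.H99.SuppComp.isOpen_image_support_inter f F hF hflat _ ?_ ?_
  · exact Groth.Agent.H99.FibrePropDVRM.isOpen_of_genOverDVR
      (Groth.Agent.H99.AssInv.isFibInvM_prΦ {n}) (Groth.Agent.H99.AssInv.isLCM_prΦ {n})
      (Groth.Agent.H99.AssDVR.genOverDVR_prΦ {n}) f F hF hflat
  · exact Groth.Agent.H99.AssInv.isLCM_prΦ {n} f inferInstance F inferInstance hF

end Groth.Agent.S4965
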