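import Groth.Statements.S0008
import Groth.Agent.Lead.Coh.Leray
import Groth.Agent.Lead.Coh.AffineOpen

set_option autoImplicit false
universe u
open Coherent

namespace Groth.Agent.S0008

theorem iInf_basicOpen_eq {A : Type u} [CommRing A] {m : ℕ} (g : Fin m → A) :
    (⨅ a, PrimeSpectrum.basicOpen (g a)) = PrimeSpectrum.basicOpen (∏ a, g a) := by
  apply TopologicalSpace.Opens.ext
  rw [TopologicalSpace.Opens.coe_iInf]
  ext x
  simp only [Set.mem_iInter, SetLike.mem_coe, PrimeSpectrum.mem_basicOpen]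
  rw [← not_iff_not]
  push Not
  rw [x.isPrime.prod_mem_iff]
  simp

theorem iSup_basicOpen_eq_top {A : Type u} [CommRing A] {κ : Type*} (f : κ → A)
    (hf : Ideal.span (Set.range f) = ⊤) : (⨆ i, PrimeSpectrum.basicOpen (f i)) = ⊤ := by
  rw [eq_top_iff]
  intro x _
  have : ∃ i, f i ∉ x.asIdeal := by
    by_contra hcon
    push Not at hcon
    have hle : Ideal.span (Set.range f) ≤ x.asIdeal := by
      rw [Ideal.span_le]
      rintro _ ⟨i, rfl⟩
      exact hcon i
    rw [hf] at hle
    exact x.isPrime.ne_top (top_le_iff.mp hle)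
  obtain ⟨i, hi⟩ := this
  exact TopologicalSpace.Opens.mem_iSup.mpr ⟨i, hi⟩

open AlgebraicGeometry in
/-- For a ring A, an A-module M and elements f_1, …, f_n generating the unit ideal, the Čech cohomology
of the associated module on Spec A with respect to the covering by the basic opens D(f_i) vanishes
in every positive degree. -/
theorem result (A : Type u) [CommRing A] (M : ModuleCat.{u} A)
    (n : ℕ) (f : ULift.{u} (Fin n) → A) (hf : Ideal.span (Set.range f) = ⊤) (p : ℕ) (hp : 0 < p) :
    CategoryTheory.Limits.IsZero (CohB1.cechH (fun i => PrimeSpectrum.basicOpen (f i)) (tilde (R := CommRingCat.of A) M) p) := by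
  obtain ⟨q, rfl⟩ := Nat.exists_eq_succ_of_ne_zero hp.ne'
  let X : Scheme.{u} := Spec (CommRingCat.of A)
  let U : ULift.{u} (Fin n) → X.Opens := fun i => PrimeSpectrum.basicOpen (f i)
  let M' : X.Modules := tilde (R := CommRingCat.of A) M
  have hbasic : ∀ g : A, IsAffineOpen (X := X) (PrimeSpectrum.basicOpen g) := by
    intro g
    have h := (isAffineOpen_top X).basicOpen ((Scheme.ΓSpecIso (CommRingCat.of A)).inv g)
    rwa [basicOpen_eq_of_affine] at h
  have hacyc : Groth.Agent.Lead.Cech.Acyc (X := X.toTopCat) U (Coh.toAb M') := by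
    intro p' σ q' x
    have haff : IsAffineOpen (Groth.Agent.Lead.Cech.cechOpen (X := X) U σ) := by
      rw [Groth.Agent.Lead.Cech.cechOpen_eq_iInf]
      have heq : (⨅ a, U (σ a)) = (PrimeSpectrum.basicOpen (∏ a, f (σ a)) : X.Opens) :=
        iInf_basicOpen_eq (fun a => f (σ a))
      rw [heq]
      exact hbasic _
    exact Groth.Agent.Lead.Coh.hVanish_of_isAffineOpen X M' haff q' x
  obtain ⟨e₁⟩ := Groth.Agent.Lead.Cech.leray (X := X.toTopCat) U (q + 1) (Coh.toAb M') hacyc
  have htop : iSup U = (⊤ : X.Opens) := iSup_basicOpen_eq_top f hf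
  rw [htop] at e₁
  have hsub : Subsingleton ((CohB1.cechH U M' (q + 1) : AddCommGrpCat.{u}) : Type u) := by
    refine ⟨fun a b => e₁.injective ?_⟩
    rw [Groth.Agent.Lead.Coh.hVanish_of_isAffineOpen X M' (isAffineOpen_top X) q (e₁ a),
      Groth.Agent.Lead.Coh.hVanish_of_isAffineOpen X M' (isAffineOpen_top X) q (e₁ b)]
  exact AddCommGrpCat.isZero_of_subsingleton _

end Groth.Agent.S0008
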