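import Groth.Statements.S0031
import Groth.Agent.Lead.Coh.QcqsBound
import Groth.Agent.H30.LocalExact

set_option autoImplicit false
universe u
open Coherent

namespace Groth.Agent.S0031

open AlgebraicGeometry CategoryTheory in
/-- If f : X → S is quasi-compact and quasi-separated and S is quasi-compact, there is an integer n with
R^p f_* F = 0 for all p ≥ n and all quasi-coherent F (higher direct images of the underlying abelian
sheaves). -/
theorem result {X S : Scheme.{u}} (f : X ⟶ S) [QuasiCompact f]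
    [QuasiSeparated f] [CompactSpace S] :
    ∃ n : ℕ, ∀ (M : X.Modules), Coh.IsQCoh M → ∀ p : ℕ, n ≤ p →
      Limits.IsZero ((Coh.RpushAb f p).obj (Coh.toAb M)) := by
  classical
  -- a finite affine cover of `S`
  obtain ⟨s, hs, hS⟩ := isCompact_iff_finite_and_eq_biUnion_affineOpens.mp
    (show IsCompact ((⊤ : S.Opens) : Set S) from isCompact_univ)
  -- cover data for each preimage
  have hdata : ∀ V : S.affineOpens, ∃ (n : ℕ) (D : Groth.Agent.Lead.Coh.AffCoverData X (Fin n)),
      f ⁻¹ᵁ V.1 = Finset.univ.sup D.W := fun V =>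
    Groth.Agent.Lead.Coh.exists_affCoverData (f ⁻¹ᵁ V.1) (f.isCompact_preimage V.2.isCompact)
      (f.isQuasiSeparated_preimage V.2.isQuasiSeparated)
  choose n D hD using hdata
  refine ⟨hs.toFinset.sup (fun V => (D V).c + 1) + 1, fun M hM p hp => ?_⟩
  haveI : M.IsQuasicoherent := hM
  obtain ⟨j, rfl⟩ := Nat.exists_eq_succ_of_ne_zero (by omega : p ≠ 0)
  let B : Set S.Opens := {V' | ∃ V : S.affineOpens, V ∈ s ∧ ∃ h : Γ(S, V.1), V' = S.basicOpen h}
  have hB : TopologicalSpace.Opens.IsBasis B := by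
    rw [TopologicalSpace.Opens.isBasis_iff_nbhd]
    intro U x hxU
    have hx : x ∈ (⊤ : S.Opens) := trivial
    rw [hS] at hx
    obtain ⟨V, hxV⟩ := TopologicalSpace.Opens.mem_iSup.mp hx
    obtain ⟨hVs, hxV⟩ := TopologicalSpace.Opens.mem_iSup.mp hxV
    obtain ⟨h, hle, hxh⟩ := V.2.exists_basicOpen_le ⟨x, hxU⟩ hxV
    exact ⟨S.basicOpen h, ⟨V, hVs, h, rfl⟩, hxh, hle⟩
  refine Groth.Agent.H30.LocalExact.isZero_Rpush_of_basis f.base (Coh.toAb M) j B hB ?_
  rintro _ ⟨V, hVs, h, rfl⟩
  -- the preimage of a basic open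
  have hpre : (TopologicalSpace.Opens.map f.base).obj (S.basicOpen h) =
      X.basicOpen (f.app V.1 h) := Scheme.preimage_basicOpen f h
  rw [hpre]
  set T := X.basicOpen (f.app V.1 h) with hTdef
  have hTle : T ≤ f ⁻¹ᵁ V.1 := X.basicOpen_le _
  have hT : ∀ k, IsAffineOpen (T ⊓ (D V).W k) := by
    intro k
    have hWle : (D V).W k ≤ f ⁻¹ᵁ V.1 := by
      rw [hD V]; exact Finset.le_sup (Finset.mem_univ k)
    have := ((D V).isAffine k).basicOpen (X.presheaf.map (homOfLE hWle).op (f.app V.1 h))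
    rw [Scheme.basicOpen_res, inf_comm] at this
    exact this
  have hv := (D V).hVanish M T hT Finset.univ (j + 1) (by
    have : (D V).c + 1 ≤ hs.toFinset.sup (fun V => (D V).c + 1) :=
      Finset.le_sup (f := fun V => (D V).c + 1) (hs.mem_toFinset.mpr hVs)
    omega)
  rw [← hD V, inf_eq_left.mpr hTle] at hv
  exact ⟨fun a b => (hv a).trans (hv b).symm⟩

end Groth.Agent.S0031
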