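import Groth.Statements.S0032
import Groth.Agent.Lead.Coh.RpushAffine
import Groth.Agent.Lead.Coh.LocTop

set_option autoImplicit false
universe u
open Coherent

namespace Groth.Agent.S0032

open AlgebraicGeometry CategoryTheory Opposite in
/-- Let f : X → S be quasi-compact and quasi-separated with S affine, and F quasi-coherent on X. Then
H^q(X, F) is isomorphic to the global sections of R^q f_* F (higher direct image of the underlying
abelian sheaf), for every q. -/
theorem result {X S : Scheme.{u}} (f : X ⟶ S)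
    [QuasiCompact f] [QuasiSeparated f] [IsAffine S] (M : X.Modules) [Coh.IsQCoh M] (q : ℕ) :
    Nonempty (Coh.HH X M q ≃+ ↑(((Coh.RpushAb f q).obj (Coh.toAb M)).obj.obj (op ⊤))) := by
  classical
  have hX1 : CompactSpace X := QuasiCompact.compactSpace_of_compactSpace f
  have hX2 : QuasiSeparatedSpace X := quasiSeparatedSpace_of_quasiSeparated f
  let I := injectiveResolution (Coh.toAb M)
  -- `R^q f_* F` is the homology sheaf of `f_* I`
  let e1 : (Coh.RpushAb f q).obj (Coh.toAb M) ≅
      (Groth.Agent.Lead.Rpush.K f.base I).homology q :=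
    I.isoRightDerivedObj (Coh.pushAb f) q
  let e1' : ((Coh.RpushAb f q).obj (Coh.toAb M)).obj.obj (op ⊤) ≅
      ((Groth.Agent.Lead.Rpush.K f.base I).homology q).obj.obj (op ⊤) :=
    ((sheafToPresheaf _ _).mapIso e1).app (op ⊤)
  -- the comparison map on the top open is bijective
  have htop : (⊤ : S.Opens) ∈ Groth.Agent.Lead.Coh.basicOpens S :=
    ⟨1, S.basicOpen_of_isUnit isUnit_one⟩
  have hbij : Function.Bijective (Groth.Agent.Lead.Rpush.cmapHom f.base I ⊤ q) := by
    constructor
    · rw [injective_iff_map_eq_zero]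
      intro ξ hξ
      exact Groth.Agent.Lead.Rpush.cmap_eq_zero f M I ⊤ htop q ξ hξ
    · intro g
      exact Groth.Agent.Lead.Rpush.exists_cmap_eq_of_mem_basicOpens f M I ⊤ htop q g
  obtain ⟨e0⟩ := Groth.Agent.Lead.Coh.nonempty_linearEquiv_HH_EM M q
  let e2 : Groth.Agent.Lead.Coh.EM M ⊤ q ≃+
      ((Groth.Agent.Lead.Rpush.K f.base I).homology q).obj.obj (op ⊤) :=
    AddEquiv.ofBijective (Groth.Agent.Lead.Rpush.cmapHom f.base I ⊤ q) hbij
  exact ⟨(e0.toAddEquiv.trans e2).trans e1'.symm.addCommGroupIsoToAddEquiv⟩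

end Groth.Agent.S0032
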