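import Groth.Statements.S0043
import Groth.Agent.H12.QAffAcyclic

set_option autoImplicit false
universe u
open Coherent

namespace Groth.Agent.S0043

open AlgebraicGeometry in
/-- If X is quasi-affine and H^p(X, O_X) = 0 for all p > 0, then X is affine. -/
theorem result (X : Scheme.{u}) [X.IsQuasiAffine]
    (h : ∀ p : ℕ, 0 < p → Subsingleton (Coh.HH X (Coh.structureModule X) p)) : IsAffine X := by
  exact Groth.Agent.H12.QAffAcyclic.isAffine_of_isQuasiAffine_of_acyclic X h

end Groth.Agent.S0043
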