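import Groth.Statements.S0046
import Groth.Agent.H71.QCoh.LocFreeRank
import Groth.Agent.H92.LocFreeRank

set_option autoImplicit false
universe u
open Coherent

namespace Groth.Agent.S0046

open AlgebraicGeometry CategoryTheory in
/-- On a locally Noetherian scheme, a quasi-coherent submodule of a coherent module is coherent. (The
statement about quotients is omitted.) -/
theorem result (X : Scheme.{u}) [IsLocallyNoetherian X]
    (M N : X.Modules) (i : N ⟶ M) [Mono i] (hM : Coh.IsCoh M) (hN : Coh.IsQCoh N) : Coh.IsCoh N := by
  obtain ⟨hMq, hMft⟩ := hM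
  haveI : M.IsQuasicoherent := hMq
  haveI : N.IsQuasicoherent := hN
  haveI : SheafOfModules.IsFiniteType (R := X.ringCatSheaf) M := hMft
  refine ⟨hN, Groth.Agent.H71.QCoh.isFiniteType_of_finite_sections N (fun V => ?_)⟩
  haveI : IsNoetherianRing Γ(X, V.1) := IsLocallyNoetherian.component_noetherian V
  haveI : Module.Finite Γ(X, V.1) Γ(M, V.1) :=
    Groth.Agent.H44.finite_sections_of_isFiniteType M V.2
  have hinj : Function.Injective (Groth.Agent.H92.LocFreeRank.appLin i V.1) :=
    (Groth.Agent.H92.LocFreeRank.mono_iff_app_injective i).1 inferInstance V.1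
  exact Module.Finite.of_injective (Groth.Agent.H92.LocFreeRank.appLin i V.1) hinj

end Groth.Agent.S0046
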