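import Groth.Statements.S0063
-- import your own Groth.Agent.* helpers here

set_option autoImplicit false
open CategoryTheory CategoryTheory.Limits AlgebraicGeometry Opposite
universe u
open EtBase

namespace Groth.Agent.S0063

set_option backward.isDefEq.respectTransparency false in
/-- Rigidity of maps into an unramified separated scheme — two maps from a connected scheme over the
base that agree at one point, including on residue fields, coincide. -/
theorem result {X S Y : Scheme.{u}} (π : X ⟶ S)
    [FormallyUnramified π] [LocallyOfFiniteType π] [IsSeparated π]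
    (h : Y ⟶ S) [ConnectedSpace Y] (f g : Y ⟶ X) (hf : f ≫ π = h) (hg : g ≫ π = h)
    (y : Y) (hy : Y.fromSpecResidueField y ≫ f = Y.fromSpecResidueField y ≫ g) : f = g := by
  classical
  let X' : Over S := Over.mk π
  let Y' : Over S := Over.mk h
  let f' : Y' ⟶ X' := Over.homMk f hf
  let g' : Y' ⟶ X' := Over.homMk g hg
  have hsep : IsSeparated X'.hom := ‹_›
  let ι : (equalizer f' g').left ⟶ Y := (equalizer.ι f' g').left
  have hcl : IsClosedImmersion ι := inferInstance
  have hop : IsOpenImmersion ι := by
    refine MorphismProperty.of_isPullback (P := @IsOpenImmersion)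
      ((Limits.isPullback_equalizer_prod f' g').map (Over.forget _)).flip ?_
    rw [← MorphismProperty.cancel_right_of_respectsIso @IsOpenImmersion _
      (Over.prodLeftIsoPullback X' X').hom]
    have hd : IsOpenImmersion (pullback.diagonal X'.hom) :=
      inferInstanceAs (IsOpenImmersion (pullback.diagonal π))
    convert! hd
    ext1 <;> simp [← Over.comp_left]
  -- the point `y` lies in the range of `ι`
  let K' : Over S := Over.mk (Y.fromSpecResidueField y ≫ h)
  let k' : K' ⟶ Y' := Over.homMk (Y.fromSpecResidueField y) rfl
  have hk : k' ≫ f' = k' ≫ g' := by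
    ext1
    exact hy
  have hyr : y ∈ Set.range ι := by
    refine ⟨(equalizer.lift k' hk).left (IsLocalRing.closedPoint _), ?_⟩
    have : (equalizer.lift k' hk).left ≫ ι = Y.fromSpecResidueField y := by
      change (equalizer.lift k' hk).left ≫ (equalizer.ι f' g').left = _
      rw [← Over.comp_left, equalizer.lift_ι]
      rfl
    rw [← Scheme.Hom.comp_apply, this]
    exact Scheme.fromSpecResidueField_apply y _
  have hclopen : IsClopen (Set.range ι) :=
    ⟨ι.isClosedEmbedding.isClosed_range, ι.isOpenEmbedding.isOpen_range⟩
  have huniv : Set.range ι = Set.univ :=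
    IsClopen.eq_univ hclopen ⟨y, hyr⟩
  have hsurj : Function.Surjective ι := Set.range_eq_univ.mp huniv
  have hiso : IsIso ι := (isIso_iff_isOpenImmersion_and_surjective ι).mpr ⟨hop, ⟨hsurj⟩⟩
  rw [← cancel_epi ι]
  exact congr($(equalizer.condition f' g').left)

end Groth.Agent.S0063
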