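import Groth.Statements.S0073
import Groth.Agent.H69.EtSecHensel

set_option autoImplicit false
open CategoryTheory CategoryTheory.Limits AlgebraicGeometry Opposite
universe u
open EtBase

namespace Groth.Agent.S0073

/-- Étale cohomology of any abelian sheaf on the spectrum of a strictly henselian local ring vanishes in
positive degrees. -/
theorem result (R : Type u) [CommRing R] [HenselianLocalRing R]
    [IsSepClosed (IsLocalRing.ResidueField R)] (F : EtCoh.Ab (Spec (CommRingCat.of R)))
    (p : ℕ) (hp : 1 ≤ p) : Subsingleton (EtCoh.H (Spec (CommRingCat.of R)) F p) := by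
  refine Groth.Agent.H69.EtSecExact.H_subsingleton_of_gsec_surjective _ ?_ F p hp
  intro G H q hq
  exact Groth.Agent.H69.EtSecExact.gsec_surjective_of_retraction _
    (Groth.Agent.H69.EtSecHensel.exists_section_of_mem R) q

end Groth.Agent.S0073
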