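import Groth.Statements.S0077
import Mathlib.Algebra.Polynomial.Derivative
import Mathlib.RingTheory.Noetherian.Basic
import Mathlib.LinearAlgebra.Finsupp.LinearCombination
import Mathlib.RingTheory.Polynomial.Basic

set_option autoImplicit false
universe u
open EtBase

namespace Groth.Agent.S0077

open Polynomial in
/-- the recursively defined polynomials -/
noncomputable def Xpoly {k : Type u} [Field k] (p : ℕ) (a : ℕ → k) : ℕ → Polynomial k
  | 0 => C (a 0) * X ^ p - 1
  | (i + 1) => (Xpoly p a i) ^ p + C (a (i + 1)) * X ^ p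

open Polynomial in
theorem derivative_Xpoly {k : Type u} [Field k] (p : ℕ) [Fact p.Prime] [CharP k p] (a : ℕ → k) (i : ℕ) :
    derivative (Xpoly p a i) = 0 := by
  have hp' : (p : k) = 0 := CharP.cast_eq_zero k p
  induction i with
  | zero => simp [Xpoly, derivative_X_pow, hp']
  | succ i ih => simp [Xpoly, derivative_pow, derivative_X_pow, hp']

theorem exists_rel {k V : Type u} [Field k] [AddCommGroup V] [Module k V] [FiniteDimensional k V]
    (F : V →+ V) (v : V) :
    ∃ (m : ℕ) (a : ℕ → k), F^[m] v = ∑ i ∈ Finset.range m, a i • F^[i] v := by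
  let W : ℕ →o Submodule k V :=
    ⟨fun m => Submodule.span k ((fun i => F^[i] v) '' (Finset.range m : Set ℕ)), by
      intro m m' h
      apply Submodule.span_mono
      apply Set.image_mono
      simpa using h⟩
  obtain ⟨m, hm⟩ := monotone_stabilizes_iff_noetherian.mpr (inferInstance : IsNoetherian k V) W
  have h1 : F^[m] v ∈ W (m + 1) :=
    Submodule.subset_span ⟨m, by simp, rfl⟩
  rw [← hm (m + 1) (Nat.le_succ m)] at h1
  obtain ⟨a, ha⟩ := (Submodule.mem_span_image_finset_iff_exists_fun' (R := k) (v := fun i => F^[i] v) (s := Finset.range m)).mp h1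
  exact ⟨m, a, ha.symm⟩


/-- First half — on a finite-dimensional vector space over an algebraically closed field of
characteristic p, any additive p-semilinear map F has F − id surjective. -/
theorem result {k V : Type u} [Field k] [IsAlgClosed k] (p : ℕ) [Fact p.Prime] [CharP k p]
    [AddCommGroup V] [Module k V] [FiniteDimensional k V] (F : V →+ V)
    (hF : ∀ (c : k) (v : V), F (c • v) = c ^ p • F v) :
    Function.Surjective fun v => F v - v := by
  intro v
  obtain ⟨m, a, hm⟩ := exists_rel (k := k) F v
  rcases m with _ | n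
  · refine ⟨0, ?_⟩
    simp at hm
    simp [hm]
  -- root of `Xpoly n - X`
  have hne : (Xpoly p a n - Polynomial.X).degree ≠ 0 := by
    intro h0
    have h1 := Polynomial.derivative_of_natDegree_zero
      (Polynomial.natDegree_eq_of_degree_eq_some h0)
    rw [Polynomial.derivative_sub, derivative_Xpoly, Polynomial.derivative_X] at h1
    simp at h1
  obtain ⟨t, ht⟩ := IsAlgClosed.exists_root _ hne
  let x : ℕ → k := fun i => (Xpoly p a i).eval t
  have hxn : x n = t := by
    have : (Xpoly p a n).eval t - t = 0 := by simpa using ht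
    exact sub_eq_zero.mp this
  have hx0 : x 0 = a 0 * x n ^ p - 1 := by
    simp [x, Xpoly, hxn]
  have hxs : ∀ i, x (i + 1) = x i ^ p + a (i + 1) * x n ^ p := by
    intro i
    simp [x, Xpoly, hxn]
  refine ⟨∑ i ∈ Finset.range (n + 1), x i • F^[i] v, ?_⟩
  change F (∑ i ∈ Finset.range (n + 1), x i • F^[i] v) - ∑ i ∈ Finset.range (n + 1), x i • F^[i] v = v
  rw [map_sum]
  simp_rw [hF, ← Function.iterate_succ_apply' F]
  rw [Finset.sum_range_succ (fun i => x i ^ p • F^[i + 1] v), hm,
    Finset.sum_range_succ' (fun i => x i • F^[i] v),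
    Finset.sum_range_succ' (fun i => a i • F^[i] v)]
  simp only [Function.iterate_zero, id_eq]
  rw [hx0]
  simp_rw [hxs]
  simp only [smul_add, add_smul, sub_smul, Finset.smul_sum, Finset.sum_add_distrib, smul_smul, one_smul]
  simp only [mul_comm (x n ^ p)]
  abel

end Groth.Agent.S0077
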