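import Groth.Statements.S0078
import Mathlib.FieldTheory.Finite.Basic
import Mathlib.LinearAlgebra.Dimension.Constructions
import Mathlib.LinearAlgebra.Finsupp.LinearCombination
import Mathlib.LinearAlgebra.FiniteDimensional.Lemmas

set_option autoImplicit false
universe u
open EtBase

namespace Groth.Agent.S0078

open Polynomial in
theorem roots_finite {k : Type u} [Field k] (p : ℕ) [Fact p.Prime] :
    Set.Finite {c : k | c ^ p = c} ∧ Nat.card {c : k | c ^ p = c} ≤ p := by
  classical
  have hp1 : 1 < p := (Fact.out : p.Prime).one_lt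
  let P : Polynomial k := X ^ p - X
  have hP : P ≠ 0 := FiniteField.X_pow_card_sub_X_ne_zero k hp1
  have hsub : {c : k | c ^ p = c} ⊆ (P.roots.toFinset : Set k) := by
    intro c hc
    simp only [Finset.mem_coe, Multiset.mem_toFinset, mem_roots hP, IsRoot.def, P, eval_sub,
      eval_pow, eval_X]
    exact sub_eq_zero.mpr hc
  refine ⟨(Finset.finite_toSet _).subset hsub, ?_⟩
  calc Nat.card {c : k | c ^ p = c} = Set.ncard {c : k | c ^ p = c} := (Nat.card_coe_set_eq _)
    _ ≤ Set.ncard (P.roots.toFinset : Set k) := Set.ncard_le_ncard hsub (Finset.finite_toSet _)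
    _ = P.roots.toFinset.card := Set.ncard_coe_finset _
    _ ≤ Multiset.card P.roots := Multiset.toFinset_card_le _
    _ ≤ P.natDegree := card_roots' P
    _ = p := FiniteField.X_pow_card_sub_X_natDegree_eq k hp1


/-- Second half — for such an F the fixed vectors F v = v form a finite set of size at most p ^ dim V
(an F_p-space of dimension at most dim V). -/
theorem result {k V : Type u} [Field k] [IsAlgClosed k] (p : ℕ) [Fact p.Prime] [CharP k p]
    [AddCommGroup V] [Module k V] [FiniteDimensional k V] (F : V →+ V)
    (hF : ∀ (c : k) (v : V), F (c • v) = c ^ p • F v) :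
    Set.Finite {v : V | F v = v} ∧ Nat.card {v : V | F v = v} ≤ p ^ Module.finrank k V := by
  classical
  set G : Set V := {v : V | F v = v} with hG
  obtain ⟨b, hbG, hspan, hli⟩ := exists_linearIndependent k G
  have hbfin : b.Finite := hli.setFinite
  have : Fintype b := hbfin.fintype
  have hcard : Fintype.card b ≤ Module.finrank k V := hli.fintype_card_le_finrank
  obtain ⟨hRfin, hRcard⟩ := roots_finite (k := k) p
  set R : Set k := {c : k | c ^ p = c} with hR
  have : Finite R := hRfin
  -- coefficients
  have hmem : ∀ g : G, (g : V) ∈ Submodule.span k (Set.range (Subtype.val : b → V)) := by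
    intro g
    rw [Subtype.range_coe, hspan]
    exact Submodule.subset_span g.2
  let c : G → b → k := fun g i => hli.repr ⟨g, hmem g⟩ i
  have hc : ∀ g : G, ∑ i : b, c g i • (i : V) = g := by
    intro g
    have := hli.linearCombination_repr ⟨g, hmem g⟩
    rw [Finsupp.linearCombination_apply, Finsupp.sum_fintype _ _ (by simp)] at this
    exact this
  have hcR : ∀ (g : G) (i : b), c g i ∈ R := by
    intro g i
    have h1 : F (g : V) = g := g.2
    rw [← hc g, map_sum] at h1
    simp_rw [hF] at h1
    have h2 : ∀ i : b, F (i : V) = i := fun i => hbG i.2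
    simp_rw [h2] at h1
    have h3 : ∑ i : b, (c g i ^ p - c g i) • (i : V) = 0 := by
      simp_rw [sub_smul, Finset.sum_sub_distrib, h1, sub_self]
    have := Fintype.linearIndependent_iff.mp hli _ h3 i
    exact sub_eq_zero.mp this
  let Φ : G → (b → R) := fun g i => ⟨c g i, hcR g i⟩
  have hΦ : Function.Injective Φ := by
    intro g g' h
    apply Subtype.ext
    rw [← hc g, ← hc g']
    refine Finset.sum_congr rfl fun i _ => ?_
    have := congr_arg Subtype.val (congr_fun h i)
    simp only [Φ] at this
    rw [this]
  have hfin : Finite G := Finite.of_injective Φ hΦ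
  refine ⟨Set.toFinite G, ?_⟩
  calc Nat.card G ≤ Nat.card (b → R) := Nat.card_le_card_of_injective Φ hΦ
    _ = Nat.card R ^ Nat.card b := Nat.card_fun
    _ ≤ p ^ Nat.card b := Nat.pow_le_pow_left hRcard _
    _ ≤ p ^ Module.finrank k V := by
        apply Nat.pow_le_pow_right (Fact.out : p.Prime).pos
        rwa [Nat.card_eq_fintype_card]

end Groth.Agent.S0078
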