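import Groth.Statements.S0088
import Groth.Agent.H69.EtSecZeroDim

set_option autoImplicit false
open CategoryTheory CategoryTheory.Limits AlgebraicGeometry Opposite
universe u
open EtBase

namespace Groth.Agent.S0088

/-- On an affine scheme all of whose points are closed and all of whose residue fields are separably
closed, every abelian étale sheaf has vanishing cohomology in positive degrees. -/
theorem result (S : Scheme.{u}) [IsAffine S] (h1 : ∀ s : S, IsClosed ({s} : Set S))
    (h2 : ∀ s : S, IsSepClosed (S.residueField s)) (F : EtCoh.Ab S) (i : ℕ) (hi : 1 ≤ i) :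
    Subsingleton (EtCoh.H S F i) := by
  have hts : TotallySeparatedSpace S := Groth.Agent.H69.ZeroDimTop.totallySeparatedSpace S h1
  refine Groth.Agent.H69.EtSecExact.H_subsingleton_of_gsec_surjective _ ?_ F i hi
  intro G H q hq
  refine Groth.Agent.H69.EtSecExact.gsec_surjective_of_profinite S ?_ q
  intro R hR s
  have : HenselianLocalRing (S.presheaf.stalk s) :=
    Groth.Agent.H69.ZeroDimTop.henselianLocalRing_stalk S h1 s
  have : IsSepClosed (IsLocalRing.ResidueField (S.presheaf.stalk s)) := h2 s
  exact Groth.Agent.H69.EtSecExact.exists_opens_of_strictlyHenselian_stalk S s R hR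

end Groth.Agent.S0088
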