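import Groth.Statements.S0089
import Groth.Agent.H21.EtNormalSplitA
import Groth.Agent.H21.EtNormalSplitB
import Groth.Agent.H20.EtaleNormal

set_option autoImplicit false
open CategoryTheory CategoryTheory.Limits AlgebraicGeometry Opposite
universe u
open EtBase

namespace Groth.Agent.S0089

/-- Part (1) — over an integral normal scheme whose function field is separably closed, any separated
étale scheme is a disjoint union of open subschemes of the base. -/
theorem result {U X : Scheme.{u}} [IsIntegral X] (hN : ∀ x : X, IsIntegrallyClosed (X.presheaf.stalk x))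
    [IsSepClosed X.functionField] (g : U ⟶ X) [AlgebraicGeometry.Etale g] [IsSeparated g] :
    ∃ (ι : Type u) (V : ι → X.Opens) (e : (∐ fun i => (V i : Scheme.{u})) ≅ U),
      ∀ i, Sigma.ι (fun i => (V i : Scheme.{u})) i ≫ e.hom ≫ g = (V i).ι := by
  have hU : ∀ u : U, IsDomain (U.presheaf.stalk u) := fun u =>
    (Groth.Agent.H20.isDomain_and_isIntegrallyClosed_stalk_of_etale g u
      ⟨inferInstance, hN _⟩).1
  -- the open pieces
  let C : {t : U // g t = genericPoint X} → U.Opens := fun t =>
    ⟨closure ({t.1} : Set U),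
      Groth.Agent.H21.EtNormalSplit.isOpen_closure_singleton g hU t.1 t.2⟩
  have hjopen : ∀ t : {t : U // g t = genericPoint X}, IsOpenImmersion ((C t).ι ≫ g) := by
    intro t
    have hmem : t.1 ∈ C t := subset_closure rfl
    have hr : t.1 ∈ Set.range (C t).ι := by rw [Scheme.Opens.range_ι]; exact hmem
    obtain ⟨ξ, hξ⟩ := hr
    refine Groth.Agent.H21.EtNormalSplit.isOpenImmersion_of_unique_generic ((C t).ι ≫ g) ξ ?_ ?_
    · rw [Scheme.Hom.comp_apply, hξ]; exact t.2
    · intro y hy
      apply (C t).ι.injective
      rw [hξ]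
      have hy' : g ((C t).ι y) = genericPoint X := by
        rw [← Scheme.Hom.comp_apply]; exact hy
      have hyC : (C t).ι y ∈ closure ({t.1} : Set U) := by
        have : (C t).ι y ∈ Set.range (C t).ι := ⟨y, rfl⟩
        rw [Scheme.Opens.range_ι] at this
        exact this
      exact Groth.Agent.H21.EtNormalSplit.eq_of_mem_closure_of_mem_fibre g t.2 hy' hyC
  let φ : ∀ t : {t : U // g t = genericPoint X},
      (((C t).ι ≫ g).opensRange : Scheme.{u}) ⟶ U := fun t =>
    ((C t).ι ≫ g).isoOpensRange.inv ≫ (C t).ι
  have hφopen : ∀ t, IsOpenImmersion (φ t) := fun t => inferInstance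
  have hφrange : ∀ t, (φ t).opensRange = C t := by
    intro t
    simp only [φ]
    rw [Scheme.Hom.opensRange_comp_of_isIso, Scheme.Opens.opensRange_ι]
  have hcov : ⨆ t, (φ t).opensRange = ⊤ := by
    rw [eq_top_iff]
    intro u _
    rw [TopologicalSpace.Opens.mem_iSup]
    refine ⟨⟨Groth.Agent.H21.FEtNormal.beta u,
      Groth.Agent.H21.FEtNormal.map_beta_eq_genericPoint g hU u⟩, ?_⟩
    rw [hφrange]
    exact specializes_iff_mem_closure.mp (Groth.Agent.H21.FEtNormal.beta_specializes u)
  have hdisj : Pairwise (Function.onFun Disjoint (fun t => (φ t).opensRange)) := by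
    intro t t' hne
    simp only [Function.onFun]
    rw [hφrange, hφrange, disjoint_iff]
    ext y
    simp only [TopologicalSpace.Opens.coe_inf, TopologicalSpace.Opens.coe_bot, Set.mem_inter_iff, Set.mem_empty_iff_false,
      iff_false, not_and]
    intro hy hy'
    have hd := Groth.Agent.H21.EtNormalSplit.disjoint_closure_singleton g hU t.2 t'.2
      (fun h => hne (Subtype.ext h))
    exact Set.disjoint_left.mp hd hy hy'
  have hcolim := nonempty_isColimit_cofanMk_of φ hcov hdisj
  have hiso : IsIso (Sigma.desc φ) := by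
    have := (Cofan.nonempty_isColimit_iff_isIso_sigmaDesc (Cofan.mk U φ)).mp hcolim
    simpa using this
  refine ⟨{t : U // g t = genericPoint X}, fun t => ((C t).ι ≫ g).opensRange,
    asIso (Sigma.desc φ), ?_⟩
  intro t
  simp only [asIso_hom]
  rw [Sigma.ι_desc_assoc]
  simp only [φ]
  rw [Category.assoc, Scheme.Hom.isoOpensRange_inv_comp]

end Groth.Agent.S0089
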