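import Groth.Statements.S0096
import Groth.Agent.S9556
import Groth.Agent.H21.EtNbhd2

set_option autoImplicit false
open CategoryTheory CategoryTheory.Limits AlgebraicGeometry Opposite
universe u
open EtBase

namespace Groth.Agent.S0096

/-- A finite unramified morphism becomes, after base change to a suitable étale neighbourhood of any
point of the base, a finite disjoint union of closed immersions. -/
theorem result {X S : Scheme.{u}} (f : X ⟶ S) [IsFinite f] [FormallyUnramified f] (s : S) :
    ∃ (U : Scheme.{u}) (g : U ⟶ S) (_ : AlgebraicGeometry.Etale g) (u : U) (_ : g.base u = s)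
      (n : ℕ) (V : Fin n → Scheme.{u}) (c : ∀ j, V j ⟶ U) (_ : ∀ j, IsClosedImmersion (c j))
      (e : (∐ V) ≅ pullback f g), ∀ j, Sigma.ι V j ≫ e.hom ≫ pullback.snd f g = c j := by
  classical
  have hfinfib : (f ⁻¹' {s}).Finite := Scheme.Hom.finite_preimage_singleton f s
  have := hfinfib.to_subtype
  obtain ⟨n₀, ⟨e₀⟩⟩ := Finite.exists_equiv_fin ↥(f ⁻¹' {s})
  let x : Fin n₀ → X := fun i => (e₀.symm i).1
  have hinj : Function.Injective x := Subtype.val_injective.comp e₀.symm.injective
  have hs : ∀ i, f (x i) = s := fun i => (e₀.symm i).2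
  have hall : ∀ y : X, f y = s → ∃ i, x i = y := fun y hy =>
    ⟨e₀ ⟨y, hy⟩, by simp only [x, Equiv.symm_apply_apply]⟩
  obtain ⟨U, g, u, hg, hu, K, hK, W, V, hcov, hWV, hVV, hV, hW⟩ :=
    Groth.Agent.S9556.result f s x hinj hs
      (fun i => ⟨⊤, trivial, inferInstance,
        MorphismProperty.comp_mem _ _ _ inferInstance inferInstance⟩)
  exact Groth.Agent.H21.EtNbhd.exists_iso_sigma_of_decomposition f g u s hu
    (pullback.snd f g).isClosedMap W V hcov hWV hVV (fun k => (hV k).1) (fun w hw hwu => by
      obtain ⟨i, hi⟩ := hall (pullback.fst f g w) (by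
        rw [← Scheme.Hom.comp_apply, pullback.condition, Scheme.Hom.comp_apply, hwu, hu])
      exact hW w i hw hwu hi.symm)

end Groth.Agent.S0096
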