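import Groth.Statements.S0102
import Groth.Agent.H4.Stalks

set_option autoImplicit false
open CategoryTheory CategoryTheory.Limits AlgebraicGeometry Opposite
universe u
open EtBase

namespace Groth.Agent.S0102

/-- A section of an abelian étale sheaf over an étale scheme U vanishes on pullback to an étale V → U
exactly when V maps into a certain largest open subset of U. -/
theorem result {S : Scheme.{u}} (F : EtCoh.Ab S) (U : S.Etale) (σ : EtCoh.sect F U) :
    ∃ W : U.left.Opens, ∀ (V : S.Etale) (φ : V ⟶ U),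
      F.obj.map φ.op σ = 0 ↔ Set.range φ.left.base ⊆ (W : Set U.left) := by
  classical
  let W : U.left.Opens :=
    ⟨⋃ (T : Σ V : S.Etale, {φ : V ⟶ U // F.obj.map φ.op σ = 0}), Set.range T.2.1.left.base,
      isOpen_iUnion fun T => (Groth.Agent.H4.Stalks.isOpenMap_left T.2.1).isOpen_range⟩
  refine ⟨W, fun V φ => ⟨fun h => ?_, fun h => ?_⟩⟩
  · exact Set.subset_iUnion
      (fun T : Σ V : S.Etale, {φ : V ⟶ U // F.obj.map φ.op σ = 0} => Set.range T.2.1.left.base)
      ⟨V, φ, h⟩
  · apply Groth.Agent.H4.Stalks.eq_zero_of_germs F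
    intro p
    obtain ⟨x, hx⟩ := Groth.Agent.H4.Stalks.Fib.exists_of_point
      (ξ := Groth.Agent.H4.Stalks.geomPt (V.hom p)) V p
      (by rw [Groth.Agent.H4.Stalks.geomPt_default])
    refine ⟨_, inferInstance, inferInstance, _, x, hx, ?_⟩
    rw [Groth.Agent.H4.Stalks.germ_res, Groth.Agent.H4.Stalks.germ_eq_zero_iff']
    have hp : φ.left p ∈ (W : Set U.left) := h ⟨p, rfl⟩
    obtain ⟨_, ⟨⟨V', φ', h0⟩, rfl⟩, ⟨q, hq⟩⟩ := hp
    exact ⟨V', φ', q, hq.trans (by rw [Groth.Agent.H4.Stalks.Fib.pt_map, hx]), h0⟩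

end Groth.Agent.S0102
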