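import Groth.Statements.S0116
import Mathlib.AlgebraicGeometry.Morphisms.UniversallyOpen
import Mathlib.AlgebraicGeometry.Morphisms.UniversallyInjective
import Mathlib.RingTheory.Flat.FaithfullyFlat.Basic

set_option autoImplicit false
open CategoryTheory CategoryTheory.Limits AlgebraicGeometry Opposite
universe u
open EtBase

namespace Groth.Agent.S0116

/-- If f : X → Y is surjective, flat and locally of finite presentation and X is locally Noetherian,
then Y is locally Noetherian. (This is the descent half of the statement that, for such f, X is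
locally Noetherian if and only if Y is; the ascent half is the fact that a scheme locally of finite
type over a locally Noetherian scheme is locally Noetherian, and is not stated here.) -/
theorem result {X Y : Scheme.{u}} (f : X ⟶ Y) [Surjective f] [Flat f] [LocallyOfFinitePresentation f]
    [IsLocallyNoetherian X] : IsLocallyNoetherian Y := by
  classical
  have hmain : ∀ y : Y, ∃ W : Y.affineOpens, y ∈ (W : Y.Opens) ∧ IsNoetherianRing Γ(Y, W) := by
    intro y
    obtain ⟨x, rfl⟩ := f.surjective y
    -- an affine open neighbourhood `V` of `f x`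
    obtain ⟨_, ⟨V, hV : IsAffineOpen V, rfl⟩, hyV, -⟩ :=
      Y.isBasis_affineOpens.exists_subset_of_mem_open (Set.mem_univ (f x)) isOpen_univ
    -- an affine open neighbourhood `U` of `x` mapping into `V`
    obtain ⟨_, ⟨U, hU : IsAffineOpen U, rfl⟩, hxU, hUV⟩ :=
      X.isBasis_affineOpens.exists_subset_of_mem_open (show x ∈ ((f ⁻¹ᵁ V : X.Opens) : Set X) from hyV)
        (f ⁻¹ᵁ V).isOpen
    have e : U ≤ f ⁻¹ᵁ V := hUV
    -- the image of `U` is open
    let fU : Y.Opens := ⟨f '' (U : Set X), f.isOpenMap _ U.isOpen⟩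
    have hyfU : f x ∈ fU := ⟨x, hxU, rfl⟩
    obtain ⟨a, haU, hya⟩ := hV.exists_basicOpen_le (V := fU) ⟨f x, hyfU⟩ hyV
    let W : Y.Opens := Y.basicOpen a
    have hW : IsAffineOpen W := hV.basicOpen a
    let U' : X.Opens := X.basicOpen (f.appLE V U e a)
    have hU' : IsAffineOpen U' := hU.basicOpen _
    have hU'eq : U' = U ⊓ f ⁻¹ᵁ W := Scheme.basicOpen_appLE f U V e a
    have e' : U' ≤ f ⁻¹ᵁ W := hU'eq ▸ inf_le_right
    have : IsAffine W := hW
    have : IsAffine U' := hU'
    let g : (U' : Scheme) ⟶ W := f.resLE W U' e'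
    have hgflat : Flat g := inferInstance
    have hgsurj : Surjective g := by
      refine ⟨fun w => ?_⟩
      obtain ⟨u, huU, hu⟩ := haU w.2
      have huU' : u ∈ U' := by
        rw [hU'eq]
        exact ⟨huU, show f u ∈ W from hu ▸ w.2⟩
      refine ⟨⟨u, huU'⟩, ?_⟩
      apply W.ι.injective
      rw [← Scheme.Hom.comp_apply, Scheme.Hom.resLE_comp_ι, Scheme.Hom.comp_apply]
      exact hu
    have hff : g.appTop.hom.FaithfullyFlat :=
      (Flat.flat_and_surjective_iff_faithfullyFlat_of_isAffine g).mp ⟨hgflat, hgsurj⟩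
    have hXU' : IsNoetherianRing Γ(X, U') := IsLocallyNoetherian.component_noetherian ⟨U', hU'⟩
    have hU'top : IsNoetherianRing Γ(U', ⊤) :=
      isNoetherianRing_of_ringEquiv Γ(X, U') U'.topIso.symm.commRingCatIsoToRingEquiv
    algebraize [g.appTop.hom]
    have : Module.FaithfullyFlat Γ(W, ⊤) Γ(U', ⊤) := hff
    have hWtop : IsNoetherianRing Γ(W, ⊤) := by
      have h1 : IsNoetherian Γ(U', ⊤) (TensorProduct Γ(W, ⊤) Γ(U', ⊤) Γ(W, ⊤)) :=
        isNoetherian_of_linearEquiv
          (TensorProduct.AlgebraTensorModule.rid Γ(W, ⊤) Γ(U', ⊤) Γ(U', ⊤)).symm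
      exact Submodule.IsNoetherian.of_isNoetherian_tensorProduct_of_faithfullyFlat h1
    exact ⟨⟨W, hW⟩, hya,
      isNoetherianRing_of_ringEquiv Γ(W, ⊤) W.topIso.commRingCatIsoToRingEquiv⟩
  choose S hyS hS using hmain
  refine isLocallyNoetherian_of_affine_cover (S := S) ?_ hS
  rw [eq_top_iff]
  intro y _
  exact TopologicalSpace.Opens.mem_iSup.mpr ⟨y, hyS y⟩

end Groth.Agent.S0116
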