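import Groth.Statements.S0117
import Mathlib
import Groth.Agent.H7.EtaleLift

set_option autoImplicit false
open CategoryTheory CategoryTheory.Limits AlgebraicGeometry Opposite
universe u
open EtBase

namespace Groth.Agent.S0117

/-- Topological invariance of étale morphisms, first-order form — for X étale over S and any S-scheme Y,
base change to a closed subscheme S₀ with the same underlying space gives a bijection between
S-morphisms Y → X and S₀-morphisms of the base changes. -/
theorem result {S S₀ : Scheme.{u}} (i : S₀ ⟶ S) [IsClosedImmersion i] [Surjective i]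
    (X Y : Over S) [AlgebraicGeometry.Etale X.hom] :
    Function.Bijective (fun φ : Y ⟶ X => (Over.pullback i).map φ) := by
  have ha : IsClosedImmersion (pullback.fst Y.hom i) := inferInstance
  have hs : Surjective (pullback.fst Y.hom i) := inferInstance
  constructor
  · intro φ₁ φ₂ h
    have h1 : ((Over.pullback i).map φ₁).left ≫ pullback.fst X.hom i =
        ((Over.pullback i).map φ₂).left ≫ pullback.fst X.hom i := by
      change ((fun φ : Y ⟶ X => (Over.pullback i).map φ) φ₁).left ≫ _ = _
      rw [h]
    simp only [Over.pullback_map_left, pullback.lift_fst] at h1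
    apply Over.OverMorphism.ext
    exact Groth.Agent.H7.hom_ext_of_unramified_of_surjective X.hom (pullback.fst Y.hom i) _ _
      (by rw [Over.w φ₁, Over.w φ₂]) h1
  · intro ψ
    have h₀ : (ψ.left ≫ pullback.fst X.hom i) ≫ X.hom = pullback.fst Y.hom i ≫ Y.hom := by
      have hw := Over.w ψ
      simp only [Over.pullback_obj_hom] at hw
      rw [Category.assoc, pullback.condition, ← Category.assoc, hw, pullback.condition]
    obtain ⟨f, ⟨hf1, hf2⟩, -⟩ := Groth.Agent.H7.existsUnique_lift_of_etale_of_thickening X.hom
      Y.hom (pullback.fst Y.hom i) (ψ.left ≫ pullback.fst X.hom i) h₀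
    refine ⟨Over.homMk f hf1, ?_⟩
    apply Over.OverMorphism.ext
    simp only [Over.pullback_map_left, Over.homMk_left]
    apply pullback.hom_ext
    · rw [pullback.lift_fst, hf2]
    · rw [pullback.lift_snd]
      have hw := Over.w ψ
      simp only [Over.pullback_obj_hom] at hw
      exact hw.symm

end Groth.Agent.S0117
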