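import Groth.Statements.S0118
import Groth.Agent.H87.EtThickD

set_option autoImplicit false
open CategoryTheory CategoryTheory.Limits AlgebraicGeometry Opposite
universe u
open EtBase

namespace Groth.Agent.S0118

/-- Base change to a closed subscheme with the same underlying space is an equivalence between the
categories of étale schemes over the two. -/
theorem result {S S₀ : Scheme.{u}} (i : S₀ ⟶ S) [IsClosedImmersion i] [Surjective i] :
    (EtCoh.bc i).IsEquivalence := by
  have key : ∀ A B : S.Etale, Function.Bijective
      (fun φ : (Scheme.Etale.forget S).obj A ⟶ (Scheme.Etale.forget S).obj B =>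
        (Over.pullback i).map φ) := by
    intro A B
    have : Etale ((Scheme.Etale.forget S).obj B).hom := B.prop
    exact Groth.Agent.H69.EtaleTopInv.over_pullback_map_bijective i _ _
  have hcomp : ∀ (A B : S.Etale) (φ : A ⟶ B),
      (Scheme.Etale.forget S₀).map ((EtCoh.bc i).map φ) =
        (Over.pullback i).map ((Scheme.Etale.forget S).map φ) := by
    intro A B φ
    rfl
  have hfull : (EtCoh.bc i).Full := by
    refine ⟨?_⟩
    intro A B ψ
    obtain ⟨φ₀, hφ₀⟩ := (key A B).2 ((Scheme.Etale.forget S₀).map ψ)
    obtain ⟨φ, rfl⟩ := (Scheme.Etale.forget S).map_surjective φ₀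
    refine ⟨φ, ?_⟩
    apply (Scheme.Etale.forget S₀).map_injective
    exact (hcomp A B φ).trans hφ₀
  have hfaithful : (EtCoh.bc i).Faithful := by
    refine ⟨?_⟩
    intro A B φ₁ φ₂ h
    apply (Scheme.Etale.forget S).map_injective
    apply (key A B).1
    show (Over.pullback i).map _ = (Over.pullback i).map _
    rw [← hcomp, ← hcomp, h]
  have hess : (EtCoh.bc i).EssSurj := by
    refine ⟨fun Y₀ => ?_⟩
    obtain ⟨Y, h, j, hh, sq⟩ := Groth.Agent.H87.EtThick.exists_etale_lift i Y₀.hom
    refine ⟨Scheme.Etale.mk h, ⟨?_⟩⟩
    exact MorphismProperty.Over.isoMk sq.isoPullback.symm (by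
      change sq.isoPullback.inv ≫ Y₀.hom = pullback.snd h i
      exact sq.isoPullback_inv_snd)
  exact { faithful := hfaithful, full := hfull, essSurj := hess }

end Groth.Agent.S0118
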