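import Groth.Statements.S0131
import Groth.Agent.H21.ConstrSerre

set_option autoImplicit false
universe u
open CategoryTheory CategoryTheory.Limits AlgebraicGeometry Opposite
open EtPBC

namespace Groth.Agent.S0131

/-- Part (3): with Λ = Z/n: for a morphism of constructible abelian sheaves on X_et both killed by n > 0
(that is, a map of constructible sheaves of Z/n-modules), kernel and cokernel are constructible.
(The source writes the proof for modules over a Noetherian ring; the plain abelian case (2) is
marked omitted there, hence the n-torsion hypotheses.) -/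
theorem result {X : Scheme.{u}} {F G : EtCoh.Ab X} (φ : F ⟶ G)
    (n : ℕ) (hn : 0 < n) (hFn : EtCoh.KilledBy n F) (hGn : EtCoh.KilledBy n G)
    (hF : EtPBC.IsConstructible F) (hG : EtPBC.IsConstructible G) :
    EtPBC.IsConstructible (kernel φ) ∧ EtPBC.IsConstructible (cokernel φ) := by
  have key : ∀ U : X.Opens, IsAffineOpen U →
      Groth.Agent.H21.Constr.Strata (fun b : Bool => if b then kernel φ else cokernel φ)
        (U : Set X) := by
    intro U hU
    obtain ⟨ι, hι, T, g, h1, h2, h3, h4, h5⟩ :=
      ((Groth.Agent.H21.Constr.strata_iff F U).1 (hF U hU)).inter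
        ((Groth.Agent.H21.Constr.strata_iff G U).1 (hG U hU))
    refine ⟨ι, hι, T, g, h1, h2, h3, h4, fun i b => ?_⟩
    have h := Groth.Agent.H21.ConstrSerre.pull_kernel_isFLC (g i) φ (h5 i (Sum.inl ()))
      (h5 i (Sum.inr ()))
    cases b
    · exact h.2
    · exact h.1
  constructor
  · intro U hU
    exact (Groth.Agent.H21.Constr.strata_iff _ _).2
      ((key U hU).mono _ (fun _ => ⟨true, rfl⟩))
  · intro U hU
    exact (Groth.Agent.H21.Constr.strata_iff _ _).2
      ((key U hU).mono _ (fun _ => ⟨false, rfl⟩))

end Groth.Agent.S0131
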