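import Groth.Statements.S0152
import Mathlib
import Groth.Agent.H17.SpectralSplit

set_option autoImplicit false
universe u
open EtPBC

namespace Groth.Agent.S0152

/-- Let X be a spectral space and Z a closed subset such that Z meets the closure of every point of X in
a connected (nonempty) set. If Z is the disjoint union of two closed subsets Z_1, Z_2 then X is the
disjoint union of closed subsets X_1, X_2 with Z_i = Z ∩ X_i. -/
theorem result (X : Type u) [TopologicalSpace X] [SpectralSpace X]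
    (Z : Set X) (hZ : IsClosed Z)
    (hconn : ∀ x : X, IsConnected (Z ∩ closure {x}))
    (Z₁ Z₂ : Set X) (h₁ : IsClosed Z₁) (h₂ : IsClosed Z₂) (hdisj : Disjoint Z₁ Z₂) (hunion : Z₁ ∪ Z₂ = Z) :
    ∃ X₁ X₂ : Set X, IsClosed X₁ ∧ IsClosed X₂ ∧ Disjoint X₁ X₂ ∧ X₁ ∪ X₂ = Set.univ ∧
      Z₁ = Z ∩ X₁ ∧ Z₂ = Z ∩ X₂ := by
  open Groth.Agent.H17 in
  classical
  let G : Set X → Set X := fun T => {x : X | (T ∩ closure {x}).Nonempty}
  have hcover : ∀ x : X, x ∈ G Z₁ ∨ x ∈ G Z₂ := by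
    intro x
    obtain ⟨z, hzZ, hzx⟩ := (hconn x).nonempty
    rw [← hunion] at hzZ
    rcases hzZ with h | h
    · exact Or.inl ⟨z, h, hzx⟩
    · exact Or.inr ⟨z, h, hzx⟩
  have hdisjG : ∀ x : X, x ∈ G Z₁ → x ∈ G Z₂ → False := by
    rintro x ⟨z₁, hz₁, hz₁x⟩ ⟨z₂, hz₂, hz₂x⟩
    have hpre := (hconn x).isPreconnected
    rw [isPreconnected_closed_iff] at hpre
    obtain ⟨w, -, hw₁, hw₂⟩ := hpre Z₁ Z₂ h₁ h₂
      (by rw [hunion]; exact Set.inter_subset_left)
      ⟨z₁, ⟨hunion ▸ Or.inl hz₁, hz₁x⟩, hz₁⟩ ⟨z₂, ⟨hunion ▸ Or.inr hz₂, hz₂x⟩, hz₂⟩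
    exact Set.disjoint_left.mp hdisj hw₁ hw₂
  have hcompl : (G Z₁)ᶜ = G Z₂ := by
    ext x
    constructor
    · intro hx
      exact (hcover x).resolve_left hx
    · intro hx hx1
      exact hdisjG x hx1 hx
  have hcompl' : (G Z₂)ᶜ = G Z₁ := by rw [← hcompl, compl_compl]
  have hgen : ∀ T : Set X, ∀ x ∈ G T, ∀ x' : X, x' ⤳ x → x' ∈ G T := by
    rintro T x ⟨z, hzT, hzx⟩ x' hx'
    refine ⟨z, hzT, ?_⟩
    have : closure {x} ⊆ closure {x'} := by
      rw [← specializes_iff_closure_subset]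
      exact hx'
    exact this hzx
  have hopen : ∀ T T' : Set X, IsClosed T' → (G T')ᶜ = G T → IsOpen (G T) := by
    intro T T' hT' hc
    apply isOpen_of_consOpen_of_stableUnderGeneralization _ (hgen T)
    rw [← hc, ← consClosed_iff_compl]
    exact consClosed_generizations hT'
  have hself : ∀ T : Set X, T ⊆ G T := fun T z hz => ⟨z, hz, subset_closure (Set.mem_singleton z)⟩
  refine ⟨G Z₁, G Z₂, ?_, ?_, ?_, ?_, ?_, ?_⟩
  · rw [← hcompl']
    exact (hopen Z₂ Z₁ h₁ hcompl).isClosed_compl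
  · rw [← hcompl]
    exact (hopen Z₁ Z₂ h₂ hcompl').isClosed_compl
  · rw [Set.disjoint_left]
    exact fun x h1 h2 => hdisjG x h1 h2
  · ext x
    simp only [Set.mem_union, Set.mem_univ, iff_true]
    exact hcover x
  · ext z
    constructor
    · intro hz
      exact ⟨hunion ▸ Or.inl hz, hself _ hz⟩
    · rintro ⟨hzZ, hzG⟩
      rw [← hunion] at hzZ
      rcases hzZ with h | h
      · exact h
      · exact (hdisjG z hzG (hself _ h)).elim
  · ext z
    constructor
    · intro hz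
      exact ⟨hunion ▸ Or.inr hz, hself _ hz⟩
    · rintro ⟨hzZ, hzG⟩
      rw [← hunion] at hzZ
      rcases hzZ with h | h
      · exact (hdisjG z (hself _ h) hzG).elim
      · exact h

end Groth.Agent.S0152
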