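import Groth.Statements.S0218
import Mathlib
import Groth.Agent.H97.SimpleSubalg

set_option autoImplicit false
universe u
open Curves

namespace Groth.Agent.S0218

/-- Over an algebraically closed field k, a commutative k-algebra with exactly two k-subalgebras is
isomorphic to k × k or to the dual numbers over k. -/
theorem result (k : Type u) [Field k] [IsAlgClosed k] (A : Type u) [CommRing A] [Algebra k A]
    (h : Nat.card (Subalgebra k A) = 2) :
    Nonempty (A ≃ₐ[k] (k × k)) ∨ Nonempty (A ≃ₐ[k] DualNumber k) := by
  obtain ⟨y, hy, huniq⟩ := (Nat.card_eq_two_iff' (⊥ : Subalgebra k A)).mp h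
  have hne : (⊥ : Subalgebra k A) ≠ ⊤ := by
    intro heq
    apply hy
    exact le_antisymm (heq ▸ le_top) bot_le
  have hsimple : IsSimpleOrder (Subalgebra k A) := by
    haveI : Nontrivial (Subalgebra k A) := ⟨⟨⊥, ⊤, hne⟩⟩
    refine ⟨fun x => ?_⟩
    by_cases hx : x = ⊥
    · exact Or.inl hx
    · right
      rw [huniq x hx, huniq ⊤ (Ne.symm hne)]
  obtain ⟨hfin, hcases⟩ := Groth.Agent.H97.SimpleSubalg.main hsimple
  rcases hcases with h1 | h2 | ⟨hfield, -⟩
  · exact Or.inr h1
  · exact Or.inl h2
  · exfalso
    letI := hfield.toField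
    have hint : Algebra.IsIntegral k A := Algebra.IsIntegral.of_finite k A
    have hsurj : Function.Surjective (algebraMap k A) :=
      (IsAlgClosed.algebraMap_bijective_of_isIntegral (k := k) (K := A)).2
    apply hne
    symm
    rw [eq_bot_iff]
    intro z _
    obtain ⟨c, rfl⟩ := hsurj z
    exact Subalgebra.algebraMap_mem _ _

end Groth.Agent.S0218
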