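import Groth.Statements.S0219
import Groth.Agent.H22.DimOneFib

set_option autoImplicit false
universe u
open CategoryTheory CategoryTheory.Limits AlgebraicGeometry TopologicalSpace
open Curves

namespace Groth.Agent.S0219

/-- A morphism over a field from a proper scheme of dimension at most one to a separated scheme, which
does not contract any one-dimensional irreducible component to a point, is finite. -/
theorem result (k : Type u) [Field k] (X Y : Scheme.{u}) (p : X ⟶ Spec (CommRingCat.of k)) (q : Y ⟶ Spec (CommRingCat.of k))
    [IsProper p] [IsSeparated q] (f : X ⟶ Y) (hf : f ≫ q = p) (hdim : topologicalKrullDim X ≤ 1)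
    (h : ∀ Z ∈ irreducibleComponents (X : Type u), topologicalKrullDim Z = 1 → (f.base '' Z).Nontrivial) :
    IsFinite f := by
  subst hf
  have hfp : IsProper f := IsProper.of_comp f q
  have : IsLocallyNoetherian X := LocallyOfFiniteType.isLocallyNoetherian (f ≫ q)
  have : CompactSpace X := QuasiCompact.compactSpace_of_compactSpace (f ≫ q)
  have : IsNoetherian X := { }
  have : NoetherianSpace X := inferInstance
  have hfin : ∀ y : Y, (f.base ⁻¹' {y}).Finite := fun y =>
    Groth.Agent.H22.DimOneFib.finite_preimage_singleton hdim f.base f.continuous
      f.isClosedMap h y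
  have : LocallyQuasiFinite f := LocallyQuasiFinite.of_finite_preimage_singleton f hfin
  exact IsFinite.of_isProper_of_locallyQuasiFinite f

end Groth.Agent.S0219
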