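import Groth.Statements.S0220
import Groth.Agent.H99.FlatCurve

set_option autoImplicit false
universe u
open CategoryTheory CategoryTheory.Limits AlgebraicGeometry TopologicalSpace
open Curves

namespace Groth.Agent.S0220

/-- A nonconstant morphism between curves over a field (integral, separated, finite type, dimension one)
whose target has integrally closed local domains is flat. -/
theorem result (k : Type u) [Field k] (X Y : Scheme.{u}) (p : X ⟶ Spec (CommRingCat.of k)) (q : Y ⟶ Spec (CommRingCat.of k))
    [IsIntegral X] [IsIntegral Y] [IsSeparated p] [IsSeparated q] [LocallyOfFiniteType p] [LocallyOfFiniteType q]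
    [QuasiCompact p] [QuasiCompact q] (hX : topologicalKrullDim X = 1) (hY : topologicalKrullDim Y = 1)
    (hN : ∀ y : Y, IsDomain (Y.presheaf.stalk y) ∧ IsIntegrallyClosed (Y.presheaf.stalk y))
    (f : X ⟶ Y) (hf : f ≫ q = p) (hnc : (Set.range f.base).Nontrivial) :
    Flat f := by
  have hYn : IsLocallyNoetherian Y := LocallyOfFiniteType.isLocallyNoetherian q
  have hdom : f (genericPoint X) = genericPoint Y :=
    Groth.Agent.H99.FlatCurve.map_genericPoint_of_dim_le_one hY.le f hnc
  refine Groth.Agent.H99.FlatCurve.flat_of_isDedekindDomain_stalk f (fun x => ?_)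
    (Groth.Agent.H99.FlatCurve.stalkMap_injective_of_dominant f hdom)
  have := (hN (f x)).2
  exact Groth.Agent.H99.FlatCurve.isDedekindDomain_stalk hY.le (f x)

end Groth.Agent.S0220
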