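import Groth.Statements.S0226
import Groth.Agent.H2.RegularDim2

set_option autoImplicit false
universe u
open Curves

namespace Groth.Agent.S0226

/-- In a regular local ring of dimension two, an ideal inside the maximal ideal with reduced quotient is
zero, the maximal ideal, or principal. -/
theorem result (A : Type u) [CommRing A] [IsRegularLocalRing A] (hdim : ringKrullDim A = 2)
    (I : Ideal A) (hI : I ≤ IsLocalRing.maximalIdeal A) [IsReduced (A ⧸ I)] :
    I = ⊥ ∨ I = IsLocalRing.maximalIdeal A ∨ ∃ f ∈ IsLocalRing.maximalIdeal A, f ≠ 0 ∧ I = Ideal.span {f} := by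
  classical
  haveI : IsDomain A := Groth.Agent.Lead.RLR.isDomain A
  haveI : UniqueFactorizationMonoid A := Groth.Agent.H2.RegularDim2.uniqueFactorizationMonoid A hdim
  have hrad : I.IsRadical := (Ideal.isRadical_iff_quotient_reduced I).mpr inferInstance
  by_cases hbot : I = ⊥
  · exact Or.inl hbot
  by_cases hm : IsLocalRing.maximalIdeal A ∈ I.minimalPrimes
  · right; left
    apply le_antisymm hI
    rw [← hrad.radical, ← Ideal.sInf_minimalPrimes]
    refine le_sInf fun q hq => ?_
    have hq' := hq
    have hle : q ≤ IsLocalRing.maximalIdeal A := IsLocalRing.le_maximalIdeal hq.1.1.ne_top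
    exact hm.2 ⟨hq.1.1, hq.1.2⟩ hle
  · right; right
    have hfin : I.minimalPrimes.Finite := Ideal.finite_minimalPrimes_of_isNoetherianRing A I
    have hprin : ∀ J ∈ hfin.toFinset, ∃ g : A, J = Ideal.span {g} := by
      intro J hJ
      rw [Set.Finite.mem_toFinset] at hJ
      haveI : J.IsPrime := hJ.1.1
      have hJm : J ≠ IsLocalRing.maximalIdeal A := fun h => hm (h ▸ hJ)
      obtain ⟨g, hg⟩ := (Groth.Agent.H2.RegularDim2.isPrincipal_of_prime A hdim J hJm).principal
      exact ⟨g, hg⟩
    obtain ⟨g, hg⟩ := Groth.Agent.H44.inf_principal hfin.toFinset hprin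
    rw [Finset.inf_id_eq_sInf, hfin.coe_toFinset, Ideal.sInf_minimalPrimes, hrad.radical] at hg
    refine ⟨g, ?_, ?_, hg⟩
    · apply hI
      rw [hg]
      exact Ideal.mem_span_singleton_self g
    · rintro rfl
      apply hbot
      rw [hg]
      simp

end Groth.Agent.S0226
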