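import Groth.Statements.S0236
import Groth.Agent.H69.EtPicMod

set_option autoImplicit false
universe u
open CategoryTheory CategoryTheory.Limits AlgebraicGeometry
open Curves

namespace Groth.Agent.S0236

/-- For any scheme X, the first étale cohomology of G_m (small site) vanishes exactly when every
invertible O_X-module is isomorphic to the structure sheaf — the part of the identification
H^1_et(X, G_m) = Pic(X) that can be stated without a group structure on Pic. -/
theorem result (X : Scheme.{u}) :
    Subsingleton (EtCoh.H X (EtCoh.Gm X) 1) ↔
      ∀ L : X.Modules, PicF.IsInvertible L → Nonempty (L ≅ Coh.structureModule X) := by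
  classical
  let fI : EtCoh.Gm X ⟶ Injective.under (EtCoh.Gm X) := Injective.ι _
  have hS : (ShortComplex.mk fI (cokernel.π fI) (cokernel.condition fI)).ShortExact :=
    { exact := ShortComplex.exact_cokernel fI
      mono_f := inferInstanceAs (Mono (Injective.ι (EtCoh.Gm X)))
      epi_g := inferInstanceAs (Epi (cokernel.π fI)) }
  constructor
  · intro hsub L hL
    refine Groth.Agent.H69.EtPicMod.nonempty_iso_of_zarTrivial
      (Groth.Agent.H69.EtPicMod.zarTrivial_of_units ?_) hL
    intro ι W hcov c hc
    exact Groth.Agent.H69.EtPicH1.exists_units_of_subsingleton fI (cokernel.π fI)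
      (cokernel.condition fI) hS hsub W hcov c hc
  · intro H
    have hZ := Groth.Agent.H69.EtPicMod.zarTrivial_of_iso H
    refine subsingleton_of_forall_eq 0 (fun cl => ?_)
    exact Groth.Agent.H69.EtPicH1.eq_zero_of_units fI (cokernel.π fI)
      (cokernel.condition fI) hS cl
      (fun W hW u hu => Groth.Agent.H69.EtPicMod.units_of_zarTrivial hZ W hW u hu)

end Groth.Agent.S0236
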