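import Groth.Statements.S0283
import Groth.Agent.H69.EtaleTopInvOver

set_option autoImplicit false
universe u
open Pi1

namespace Groth.Agent.S0283

open AlgebraicGeometry CategoryTheory CategoryTheory.Limits in
/-- Let f : X → Y be a morphism of schemes which is integral, universally injective and surjective (that
is, a universal homeomorphism). Then base change along f, from finite étale covers of Y to finite
étale covers of X, is a full and faithful functor. -/
theorem result {X Y : Scheme.{u}} (f : X ⟶ Y) [IsIntegralHom f] [UniversallyInjective f] [Surjective f] :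
    (FEt.restrict f).Full ∧ (FEt.restrict f).Faithful := by
  have key : ∀ A B : FEt.Cat Y, Function.Bijective
      (fun φ : (MorphismProperty.Over.forget FEt.prop.{u} ⊤ Y).obj A ⟶
        (MorphismProperty.Over.forget FEt.prop.{u} ⊤ Y).obj B => (Over.pullback f).map φ) := by
    intro A B
    haveI : Etale ((MorphismProperty.Over.forget FEt.prop.{u} ⊤ Y).obj B).hom := B.prop.2
    exact Groth.Agent.H69.EtaleTopInv.over_pullback_map_bijective f _ _
  have hcomp : ∀ (A B : FEt.Cat Y) (φ : A ⟶ B),
      (MorphismProperty.Over.forget FEt.prop.{u} ⊤ X).map ((FEt.restrict f).map φ) =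
        (Over.pullback f).map ((MorphismProperty.Over.forget FEt.prop.{u} ⊤ Y).map φ) := by
    intro A B φ
    rfl
  refine ⟨⟨?_⟩, ⟨?_⟩⟩
  · intro A B ψ
    obtain ⟨φ₀, hφ₀⟩ := (key A B).2 ((MorphismProperty.Over.forget FEt.prop.{u} ⊤ X).map ψ)
    obtain ⟨φ, rfl⟩ := (MorphismProperty.Over.forget FEt.prop.{u} ⊤ Y).map_surjective φ₀
    refine ⟨φ, ?_⟩
    apply (MorphismProperty.Over.forget FEt.prop.{u} ⊤ X).map_injective
    rw [hcomp]
    exact hφ₀
  · intro A B φ₁ φ₂ h
    apply (MorphismProperty.Over.forget FEt.prop.{u} ⊤ Y).map_injective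
    apply (key A B).1
    show (Over.pullback f).map _ = (Over.pullback f).map _
    rw [← hcomp, ← hcomp, h]

end Groth.Agent.S0283
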