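import Groth.Statements.S0238
import Groth.Agent.H87.EtThickE
import Groth.Agent.S0283

set_option autoImplicit false
universe u
open Pi1

namespace Groth.Agent.S0238

open AlgebraicGeometry CategoryTheory CategoryTheory.Limits in
/-- For a thickening, i.e. a closed immersion which is surjective on points, pulling back finite etale
covers is an equivalence of categories. -/
theorem result {X X' : Scheme.{u}} (i : X ⟶ X') [IsClosedImmersion i] [Surjective i] :
    (FEt.restrict i).IsEquivalence := by
  have hint : IsIntegralHom i := inferInstance
  have hui : UniversallyInjective i := inferInstance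
  obtain ⟨hfull, hfaithful⟩ := Groth.Agent.S0283.result i
  have hess : (FEt.restrict i).EssSurj := by
    refine ⟨fun Y₀ => ?_⟩
    have h1 : IsFinite Y₀.hom := Y₀.prop.1
    have h2 : Etale Y₀.hom := Y₀.prop.2
    obtain ⟨Y, h, j, hh, hfin, sq⟩ := Groth.Agent.H87.EtThick.exists_finite_etale_lift i Y₀.hom
    refine ⟨MorphismProperty.Over.mk ⊤ h ⟨hfin, hh⟩, ⟨?_⟩⟩
    exact MorphismProperty.Over.isoMk sq.isoPullback.symm (by
      change sq.isoPullback.inv ≫ Y₀.hom = pullback.snd h i
      exact sq.isoPullback_inv_snd)
  exact { faithful := hfaithful, full := hfull, essSurj := hess }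

end Groth.Agent.S0238
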