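import Groth.Statements.S0244
import Groth.Agent.H21.FEtFull

set_option autoImplicit false
universe u
open Pi1

namespace Groth.Agent.S0244

open AlgebraicGeometry CategoryTheory CategoryTheory.Limits in
/-- Let X be a normal integral scheme and U ⊆ X a nonempty open subscheme. Then the restriction functor
from finite étale covers of X to finite étale covers of U is full and faithful. -/
theorem result {X : Scheme.{u}} [IsIntegral X] (hX : Pi1.IsNormalScheme X) (U : X.Opens)
    (hU : (U : Set X).Nonempty) : (FEt.restrict U.ι).Full ∧ (FEt.restrict U.ι).Faithful := by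
  have hne : Nonempty U := hU.to_subtype
  have hnes : Nonempty ↥(U : Scheme.{u}) := hne
  have hint : IsIntegral (U : Scheme.{u}) := inferInstance
  have hηU : genericPoint X ∈ U :=
    ((genericPoint_spec X).mem_open_set_iff U.isOpen).mpr (by simpa using hU)
  -- faithful
  have hfaith : (FEt.restrict U.ι).Faithful := by
    apply Groth.Agent.H2.FEtFaithful.restrict_faithful_of_denseRange
    rw [DenseRange, Scheme.Opens.range_ι]
    exact U.isOpen.dense hU
  refine ⟨?_, hfaith⟩
  -- the generic point factors through `U`
  let jX := X.fromSpecStalk (genericPoint X)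
  have hjX : ∀ z, jX z = genericPoint X :=
    Groth.Agent.H21.FEtFull.fromSpecStalk_genericPoint_apply
  let jU : Spec (X.presheaf.stalk (genericPoint X)) ⟶ U := IsOpenImmersion.lift U.ι jX (by
    rintro _ ⟨z, rfl⟩
    rw [Scheme.Opens.range_ι]
    change jX z ∈ U
    rw [hjX]
    exact hηU)
  have hfac : jU ≫ U.ι = jX := IsOpenImmersion.lift_fac _ _ _
  have hjU : ∀ z, jU z = genericPoint ↥(U : Scheme.{u}) := by
    intro z
    apply U.ι.injective
    rw [← Scheme.Hom.comp_apply, hfac, hjX, genericPoint_eq_of_isOpenImmersion U.ι]
  have hfullX : (FEt.restrict jX).Full := Groth.Agent.H21.FEtFull.restrict_full hX jX hjX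
  have hfaithU : (FEt.restrict jU).Faithful :=
    Groth.Agent.H21.FEtFull.restrict_faithful jU hjU
  have iso : FEt.restrict jX ≅ FEt.restrict U.ι ⋙ FEt.restrict jU :=
    MorphismProperty.Over.pullbackComp jU U.ι jX hfac.symm
  have hfullcomp : (FEt.restrict U.ι ⋙ FEt.restrict jU).Full := Functor.Full.of_iso iso
  exact Functor.Full.of_comp_faithful (FEt.restrict U.ι) (FEt.restrict jU)

end Groth.Agent.S0244
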