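import Groth.Statements.S0249
import Mathlib.RingTheory.Ideal.KrullsHeightTheorem

set_option autoImplicit false
universe u
open Pi1

namespace Groth.Agent.S0249

/-- Auxiliary: by induction on a bound for the height. -/
theorem aux (A : Type u) [CommRing A] [IsNoetherianRing A] (f : A) :
    ∀ n : ℕ, ∀ q : Ideal A, q.IsPrime → f ∈ q → 1 ≤ q.height → q.height ≤ n →
      ∃ p : Ideal A, p.IsPrime ∧ f ∈ p ∧ p.height = 1 := by
  intro n
  induction n with
  | zero =>
    intro q _ _ h1 h0
    exfalso
    have : (1 : ℕ∞) ≤ 0 := h1.trans (by simpa using h0)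
    simp at this
  | succ n ih =>
    intro q hq hfq h1 hn
    by_cases hle : q.height ≤ 1
    · exact ⟨q, hq, hfq, le_antisymm hle h1⟩
    · -- height at least two
      have hle' : ¬ q.height ≤ ((1 : ℕ) : ℕ∞) := by simpa using hle
      rw [Ideal.height_le_iff] at hle'
      push Not at hle'
      obtain ⟨p₁, hp₁, hp₁q, hp₁h⟩ := hle'
      have hp₁h' : ¬ p₁.height ≤ ((0 : ℕ) : ℕ∞) := by
        intro h
        have : p₁.height = 0 := by simpa using h
        rw [this] at hp₁h
        simp at hp₁h
      rw [Ideal.height_le_iff] at hp₁h'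
      push Not at hp₁h'
      obtain ⟨p₀, hp₀, hp₀p₁, -⟩ := hp₁h'
      have hlt1 : p₁.height + 1 ≤ q.height := Ideal.height_add_one_le_of_lt_of_isPrime hp₁q
      have hqfin : q.height ≠ ⊤ := Ideal.height_ne_top_of_isPrime
      have key : ∀ q' : Ideal A, q'.IsPrime → q' < q → q'.height ≤ n := by
        intro q' hq' hlt
        have h2 : q'.height + 1 ≤ q.height := Ideal.height_add_one_le_of_lt_of_isPrime hlt
        have h3 : q'.height + 1 ≤ (n : ℕ∞) + 1 := h2.trans (by simpa using hn)
        exact (ENat.add_le_add_iff_right (by simp)).mp h3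
      by_cases hf0 : f ∈ p₀
      · -- then `f ∈ p₁` and we may use the induction hypothesis
        refine ih p₁ hp₁ (hp₀p₁.le hf0) ?_ (key p₁ hp₁ hp₁q)
        have := Ideal.height_add_one_le_of_lt_of_isPrime hp₀p₁
        exact le_trans (by simp) this
      · -- take a minimal prime over `p₀ ⊔ span {f}` below `q`
        have hle2 : p₀ ⊔ Ideal.span {f} ≤ q :=
          sup_le (hp₀p₁.le.trans hp₁q.le) ((Ideal.span_singleton_le_iff_mem q).mpr hfq)
        obtain ⟨q', hq'min, hq'q⟩ := Ideal.exists_minimalPrimes_le hle2
        have hq'prime : q'.IsPrime := hq'min.1.1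
        have hfq' : f ∈ q' := hq'min.1.2 (Ideal.mem_sup_right (Ideal.mem_span_singleton_self f))
        have hp₀q' : p₀ ≤ q' := le_sup_left.trans hq'min.1.2
        have hp₀q'lt : p₀ < q' := lt_of_le_of_ne hp₀q' (by
          rintro rfl
          exact hf0 hfq')
        have hq'ne : q' ≠ q := by
          rintro rfl
          have hht := Ideal.map_height_le_one_of_mem_minimalPrimes hq'min
          let mk := Ideal.Quotient.mk p₀
          have hsurj : Function.Surjective mk := Ideal.Quotient.mk_surjective
          have hker : RingHom.ker mk = p₀ := Ideal.mk_ker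
          have hq'map : (q'.map mk).IsPrime :=
            Ideal.map_isPrime_of_surjective hsurj (by rw [hker]; exact hp₀q')
          have hp₁map : (p₁.map mk).IsPrime :=
            Ideal.map_isPrime_of_surjective hsurj (by rw [hker]; exact hp₀p₁.le)
          have hp₀map : (p₀.map mk).IsPrime :=
            Ideal.map_isPrime_of_surjective hsurj (by rw [hker])
          have hcomap : ∀ J : Ideal A, p₀ ≤ J → (J.map mk).comap mk = J := by
            intro J hJ
            rw [Ideal.comap_map_of_surjective mk hsurj, ← RingHom.ker_eq_comap_bot, hker]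
            exact sup_of_le_left hJ
          have hstrict : ∀ J K : Ideal A, p₀ ≤ J → p₀ ≤ K → J < K → J.map mk < K.map mk := by
            intro J K hJ hK hJK
            refine lt_of_le_of_ne (Ideal.map_mono hJK.le) ?_
            intro heq
            have := congrArg (Ideal.comap mk) heq
            rw [hcomap J hJ, hcomap K hK] at this
            exact hJK.ne this
          have h01 : p₀.map mk < p₁.map mk := hstrict _ _ le_rfl hp₀p₁.le hp₀p₁
          have h12 : p₁.map mk < q'.map mk := hstrict _ _ hp₀p₁.le hp₀q' hp₁q
          have e1 := Ideal.height_add_one_le_of_lt_of_isPrime h01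
          have e2 := Ideal.height_add_one_le_of_lt_of_isPrime h12
          have e3 : (1 : ℕ∞) + 1 ≤ (q'.map mk).height := by
            refine le_trans ?_ e2
            gcongr
            exact le_trans (by simp) e1
          have : (1 : ℕ∞) + 1 ≤ 1 := e3.trans hht
          norm_num at this
        have hq'lt : q' < q := lt_of_le_of_ne hq'q hq'ne
        refine ih q' hq'prime hfq' ?_ (key q' hq'prime hq'lt)
        have := Ideal.height_add_one_le_of_lt_of_isPrime hp₀q'lt
        exact le_trans (by simp) this

open AlgebraicGeometry CategoryTheory CategoryTheory.Limits in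
/-- Let A be a Noetherian local ring of dimension at least 1 and f an element of its maximal ideal. Then
some prime ideal of height exactly 1 contains f. -/
theorem result (A : Type u) [CommRing A] [IsNoetherianRing A] [IsLocalRing A]
    (h : (1 : WithBot ℕ∞) ≤ ringKrullDim A) (f : A) (hf : f ∈ IsLocalRing.maximalIdeal A) :
    ∃ p : Ideal A, p.IsPrime ∧ f ∈ p ∧ p.height = 1 := by
  have hm : ((IsLocalRing.maximalIdeal A).height : WithBot ℕ∞) = ringKrullDim A :=
    IsLocalRing.maximalIdeal_height_eq_ringKrullDim
  have h1 : (1 : ℕ∞) ≤ (IsLocalRing.maximalIdeal A).height := by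
    rw [← hm] at h
    exact_mod_cast h
  have hfin : (IsLocalRing.maximalIdeal A).height ≠ ⊤ := Ideal.height_ne_top_of_isPrime
  obtain ⟨n, hn⟩ := ENat.ne_top_iff_exists.mp hfin
  exact aux A f n _ inferInstance hf h1 (le_of_eq hn.symm)

end Groth.Agent.S0249
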