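import Groth.Statements.S0252
import Groth.Agent.H21.SpectralPi0
import Groth.Agent.H21.FEtClopen

set_option autoImplicit false
universe u
open Pi1

namespace Groth.Agent.S0252

open AlgebraicGeometry CategoryTheory CategoryTheory.Limits in
/-- Let f be a morphism between quasi-compact quasi-separated schemes such that base change of finite
etale covers along f is an equivalence. Then the induced map on connected components is a
homeomorphism. -/
theorem result {X Y : Scheme.{u}} [CompactSpace X] [QuasiSeparatedSpace X] [CompactSpace Y] [QuasiSeparatedSpace Y]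
    (f : X ⟶ Y) (h : (FEt.restrict f).IsEquivalence) :
    IsHomeomorph f.continuous.connectedComponentsMap := by
  haveI := h
  haveI : T2Space (ConnectedComponents Y) :=
    Groth.Agent.H21.SpectralPi0.t2Space_connectedComponents
  rw [isHomeomorph_iff_continuous_bijective]
  refine ⟨Continuous.connectedComponentsMap_continuous _, ?_, ?_⟩
  · -- injective
    intro a b hab
    obtain ⟨x, rfl⟩ := ConnectedComponents.surjective_coe a
    obtain ⟨x', rfl⟩ := ConnectedComponents.surjective_coe b
    rw [Continuous.connectedComponentsMap_mk, Continuous.connectedComponentsMap_mk,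
      ConnectedComponents.coe_eq_coe] at hab
    rw [ConnectedComponents.coe_eq_coe]
    by_contra hne
    obtain ⟨U', hU', hxU', hx'U'⟩ :=
      Groth.Agent.H21.SpectralPi0.exists_isClopen_of_connectedComponent_ne hne
    obtain ⟨U, hU, hUU'⟩ := Groth.Agent.H21.FEtClopen.exists_clopen_preimage_eq f hU'
    have h1 : f x ∈ U := by
      have : x ∈ f ⁻¹' U := hUU' ▸ hxU'
      exact this
    have h2 : f x' ∈ U := by
      have : f x' ∈ connectedComponent (f x') := mem_connectedComponent
      rw [← hab] at this
      exact hU.connectedComponent_subset h1 this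
    apply hx'U'
    rw [← hUU']
    exact h2
  · -- surjective
    intro b
    obtain ⟨y, rfl⟩ := ConnectedComponents.surjective_coe b
    by_contra hcon
    have hne : ∀ x : X, connectedComponent (f x) ≠ connectedComponent y := by
      intro x hx
      apply hcon
      refine ⟨(x : ConnectedComponents X), ?_⟩
      rw [Continuous.connectedComponentsMap_mk, ConnectedComponents.coe_eq_coe]
      exact hx
    choose W hW hfW hyW using fun x : X =>
      Groth.Agent.H21.SpectralPi0.exists_isClopen_of_connectedComponent_ne (hne x)
    obtain ⟨t, ht⟩ := isCompact_univ.elim_finite_subcover (fun x : X => f ⁻¹' W x)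
      (fun x => (hW x).isOpen.preimage f.continuous)
      (fun x _ => Set.mem_iUnion.mpr ⟨x, hfW x⟩)
    have hWt : IsClopen (⋃ x ∈ t, W x) := isClopen_biUnion_finset fun x _ => hW x
    have hpre : f ⁻¹' (⋃ x ∈ t, W x) = f ⁻¹' Set.univ := by
      rw [Set.preimage_univ, Set.preimage_iUnion₂]
      exact Set.eq_univ_of_univ_subset ht
    have := Groth.Agent.H21.FEtClopen.clopen_preimage_injective f hWt isClopen_univ hpre
    have hy : y ∈ ⋃ x ∈ t, W x := this ▸ Set.mem_univ y
    simp only [Set.mem_iUnion] at hy
    obtain ⟨x, _, hx⟩ := hy
    exact hyW x hx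

end Groth.Agent.S0252
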