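import Groth.Statements.S0271
import Groth.Agent.H1.InvEtale
import Groth.Agent.H1.InvEtale2

set_option autoImplicit false
universe u
open Pi1

namespace Groth.Agent.S0271

open AlgebraicGeometry CategoryTheory CategoryTheory.Limits in
/-- Let a finite group G act on a ring R, let q be a prime of R with inertia subgroup I (elements acting
trivially modulo q). Then the ring of I-invariants is etale over the ring of G-invariants at the
prime below q: some principal localization of the I-invariants at an element outside that prime is
an etale algebra over the G-invariants. -/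
theorem result (G R : Type u) [Group G] [Finite G] [CommRing R] [MulSemiringAction G R]
    (q : Ideal R) [q.IsPrime] :
    ∃ g : FixedPoints.subring R (q.inertia G),
      g ∉ q.comap (FixedPoints.subring R (q.inertia G)).subtype ∧
      Algebra.Etale (FixedPoints.subring R G) (Localization.Away g) := by
  obtain ⟨θ, hθinv, hθ⟩ :=
    Groth.Agent.H1.InvEt.exists_invariant_sub_notMem_of_notMem_inertia (G := G) q
  have htower : IsScalarTower (FixedPoints.subring R G) (FixedPoints.subring R (q.inertia G)) R :=
    IsScalarTower.of_algebraMap_eq (fun x => rfl)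
  obtain ⟨g₀, hg₀, het⟩ := Groth.Agent.H1.InvEt.exists_away_isStandardEtale_of_notMem
    (A := FixedPoints.subring R G) (B' := FixedPoints.subring R (q.inertia G)) (R := R) (G := G)
    Subtype.val_injective
    (fun r hr => ⟨⟨r, hr⟩, rfl⟩)
    (fun a g => a.2 g)
    (q.inertia G)
    Subtype.val_injective
    (fun b h hh => b.2 ⟨h, hh⟩)
    (⟨θ, fun τ => hθinv τ.1 τ.2⟩ : FixedPoints.subring R (q.inertia G)) q
    (fun σ hσ => hθ σ hσ)
  refine ⟨g₀, ?_, ?_⟩
  · intro h
    exact hg₀ (Ideal.mem_comap.mp h)
  · infer_instance

end Groth.Agent.S0271
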