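import Groth.Statements.S0288
import Groth.Agent.H21.UnramNormal

set_option autoImplicit false
universe u
open Pi1

namespace Groth.Agent.S0288

open AlgebraicGeometry CategoryTheory CategoryTheory.Limits in
/-- Let X be a normal integral scheme with function field K, L a finite field extension of K and Y -> X
the normalization of X in Spec L. If Y -> X is unramified (formally unramified and locally of finite
type), then it is etale, and finite. -/
theorem result {X : Scheme.{u}} [IsIntegral X] (hX : Pi1.IsNormalScheme X) (L : Type u) [Field L]
    [Algebra X.functionField L] [FiniteDimensional X.functionField L]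
    [QuasiCompact (Spec.map (CommRingCat.ofHom (algebraMap X.functionField L)) ≫ X.fromSpecStalk (genericPoint X))]
    [QuasiSeparated (Spec.map (CommRingCat.ofHom (algebraMap X.functionField L)) ≫ X.fromSpecStalk (genericPoint X))]
    [FormallyUnramified (Spec.map (CommRingCat.ofHom (algebraMap X.functionField L)) ≫ X.fromSpecStalk (genericPoint X)).fromNormalization]
    [LocallyOfFiniteType (Spec.map (CommRingCat.ofHom (algebraMap X.functionField L)) ≫ X.fromSpecStalk (genericPoint X)).fromNormalization] :
    Etale (Spec.map (CommRingCat.ofHom (algebraMap X.functionField L)) ≫ X.fromSpecStalk (genericPoint X)).fromNormalization ∧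
    IsFinite (Spec.map (CommRingCat.ofHom (algebraMap X.functionField L)) ≫ X.fromSpecStalk (genericPoint X)).fromNormalization := by
  set f : Spec (CommRingCat.of L) ⟶ X :=
    Spec.map (CommRingCat.ofHom (algebraMap X.functionField L)) ≫
      X.fromSpecStalk (genericPoint X) with hf
  have hint : IsIntegralHom f.fromNormalization := inferInstance
  have hfin : IsFinite f.fromNormalization :=
    (IsFinite.iff_isIntegralHom_and_locallyOfFiniteType _).mpr ⟨hint, inferInstance⟩
  refine ⟨?_, hfin⟩
  have hI : IsIntegral f.normalization := inferInstance
  -- the generic point of the normalization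
  let pt : Spec (CommRingCat.of L) := IsLocalRing.closedPoint L
  have hdense : DenseRange f.toNormalization := f.toNormalization.denseRange
  have hrange : Set.range f.toNormalization = {f.toNormalization pt} := by
    ext z
    constructor
    · rintro ⟨w, rfl⟩
      have : w = pt := Subsingleton.elim (α := PrimeSpectrum L) _ _
      rw [this]; rfl
    · rintro rfl; exact ⟨pt, rfl⟩
  have hgp : f.toNormalization pt = genericPoint f.normalization := by
    have h1 : IsGenericPoint (f.toNormalization pt) (⊤ : Set f.normalization) := by
      rw [IsGenericPoint, ← hrange]
      exact hdense.closure_range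
    exact h1.eq (genericPoint_spec f.normalization)
  have hgen : f.fromNormalization (genericPoint f.normalization) = genericPoint X := by
    rw [← hgp, ← Scheme.Hom.comp_apply, f.toNormalization_fromNormalization, hf,
      Scheme.Hom.comp_apply]
    have : Spec.map (CommRingCat.ofHom (algebraMap X.functionField L)) pt =
        IsLocalRing.closedPoint (X.presheaf.stalk (genericPoint X)) :=
      Subsingleton.elim (α := PrimeSpectrum X.functionField) _ _
    rw [this, Scheme.fromSpecStalk_closedPoint]
  exact Groth.Agent.H21.UnramNormal.etale_of_unramified_of_dominant (fun x => (hX x).2)
    f.fromNormalization hgen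

end Groth.Agent.S0288
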