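import Groth.Statements.S0293
import Groth.Agent.H22.DiscPuritySch
import Groth.Agent.H72.FlatCM

set_option autoImplicit false
universe u
open Pi1

namespace Groth.Agent.S0293

open AlgebraicGeometry CategoryTheory CategoryTheory.Limits in
/-- Let X be a locally Noetherian scheme, U ⊆ X an open subset such that the local rings of X at points
outside U have depth at least 2, and π : Y → X a finite morphism which is étale over U and such that
the local rings of Y at points outside the preimage of U have depth at least 2. Then π is étale if
and only if it is flat. -/
theorem result {X : Scheme.{u}} [IsLocallyNoetherian X] (U : X.Opens)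
    (hU : ∀ x : X, x ∉ U → (2 : ℕ∞) ≤ LocCoh.depth (X.presheaf.stalk x) (X.presheaf.stalk x)) {Y : Scheme.{u}} (π : Y ⟶ X)
    [IsFinite π] [Etale (pullback.snd π U.ι)]
    (hY : ∀ y : Y, π.base y ∉ U → (2 : ℕ∞) ≤ LocCoh.depth (Y.presheaf.stalk y) (Y.presheaf.stalk y)) :
    Etale π ↔ Flat π := by
  constructor
  · intro h; infer_instance
  · intro hfl
    haveI := hfl
    haveI : LocallyOfFinitePresentation π := by
      rw [HasRingHomProperty.iff_appLE (P := @LocallyOfFinitePresentation)]
      intro U' V e
      haveI : IsNoetherianRing Γ(X, U'.1) := IsLocallyNoetherian.component_noetherian U'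
      exact RingHom.FinitePresentation.of_finiteType.mp (π.finiteType_appLE U'.2 V.2 e)
    haveI : FormallyUnramified π := by
      apply Groth.Agent.H22.DiscPurity.formallyUnramified_of_dim_le_one
      intro y hdim
      have hyU : π y ∈ U := by
        by_contra hn
        have h2 := hU _ hn
        have h3 := Groth.Agent.H72.FlatCM.depth_le_ringKrullDim (X.presheaf.stalk (π y))
        have h4 : ((2 : ℕ∞) : WithBot ℕ∞) ≤ 1 :=
          (WithBot.coe_le_coe.mpr h2).trans (h3.trans hdim)
        exact absurd h4 (by decide)
      -- the stalk map is formally unramified since `π` is étale over `U`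
      have hr : y ∈ Set.range (pullback.fst π U.ι) := by
        rw [Scheme.Pullback.range_fst]
        simpa using hyU
      obtain ⟨z, rfl⟩ := hr
      haveI : Etale (pullback.fst π U.ι ≫ π) := by
        rw [pullback.condition]; infer_instance
      have h5 : (π.stalkMap (pullback.fst π U.ι z) ≫
          (pullback.fst π U.ι).stalkMap z).hom.FormallyUnramified := by
        have := FormallyUnramified.stalkMap (pullback.fst π U.ι ≫ π) z
        rwa [Scheme.Hom.stalkMap_comp] at this
      rw [CommRingCat.hom_comp,
        RingHom.FormallyUnramified.respectsIso.cancel_right_isIso] at h5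
      exact h5
    exact Etale.of_formallyUnramified_of_flat π

end Groth.Agent.S0293
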