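import Groth.Statements.S0294
import Groth.Agent.H21.UnramSections

set_option autoImplicit false
universe u
open Pi1

namespace Groth.Agent.S0294

open AlgebraicGeometry CategoryTheory CategoryTheory.Limits in
/-- For a finite étale cover Y of a scheme X and a point ξ : Spec Ω → X with values in a field Ω, the
fibre of Y over ξ (the set of Ω-valued points of Y lying over ξ) is finite. -/
theorem result {X : Scheme.{u}} {Ω : Type u} [Field Ω] (ξ : Spec (CommRingCat.of Ω) ⟶ X) (Y : FEt.Cat X) :
    Finite (FEt.fiberObj ξ Y) := by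
  have hfin : IsFinite Y.hom := Y.prop.1
  have het : Etale Y.hom := Y.prop.2
  have hfinite := Groth.Agent.H21.finite_setOf_comp_eq_of_unramified
    (pullback.snd Y.hom ξ) (𝟙 (Spec (CommRingCat.of Ω)))
  have : Finite {f : Spec (CommRingCat.of Ω) ⟶ pullback Y.hom ξ | f ≫ pullback.snd Y.hom ξ = 𝟙 _} :=
    hfinite
  let F : FEt.fiberObj ξ Y →
      {f : Spec (CommRingCat.of Ω) ⟶ pullback Y.hom ξ | f ≫ pullback.snd Y.hom ξ = 𝟙 _} :=
    fun s => ⟨pullback.lift s.1 (𝟙 _) (by rw [s.2, Category.id_comp]), pullback.lift_snd _ _ _⟩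
  refine Finite.of_injective F ?_
  intro s t hst
  have h1 : pullback.lift s.1 (𝟙 _) (by rw [s.2, Category.id_comp]) =
      pullback.lift t.1 (𝟙 _) (by rw [t.2, Category.id_comp]) := congrArg Subtype.val hst
  have h2 := congrArg (· ≫ pullback.fst Y.hom ξ) h1
  simp only [pullback.lift_fst] at h2
  exact Subtype.ext h2

end Groth.Agent.S0294
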