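import Groth.Statements.S0320
import Groth.Agent.H15.Depth
import Groth.Agent.H72.DepthFinite

set_option autoImplicit false
universe u v
open LocCoh

namespace Groth.Agent.S0320

/-- For a finite module M over a Noetherian ring with IM ≠ M and x ∈ I a non-zero-divisor on M, the
I-depth of M/xM is one less than that of M. -/
theorem result (R : Type u) [CommRing R] [IsNoetherianRing R] (I : Ideal R) (M : Type u) [AddCommGroup M] [Module R M] [Module.Finite R M] (hIM : I • (⊤ : Submodule R M) ≠ ⊤) (x : R) (hx : x ∈ I) (hreg : IsSMulRegular M x) : LocCoh.idealDepth I (QuotSMulTop x M) + 1 = LocCoh.idealDepth I M := by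
  have key : ∀ n : ℕ, (n : ℕ∞) ≤ LocCoh.idealDepth I (QuotSMulTop x M) ↔
      ((n + 1 : ℕ) : ℕ∞) ≤ LocCoh.idealDepth I M := fun n =>
    ⟨Groth.Agent.H72.DepthFinite.succ_le_idealDepth_of_quotSMulTop I M x hx hreg n,
      Groth.Agent.H15.le_idealDepth_quotSMulTop I M x hx hreg n⟩
  apply le_antisymm
  · refine ENat.forall_natCast_le_iff_le.mp fun k hk => ?_
    rcases Nat.eq_zero_or_pos k with rfl | hk0
    · simp
    · obtain ⟨m, rfl⟩ : ∃ m, k = m + 1 := ⟨k - 1, by omega⟩
      refine (key m).mp ?_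
      have h1 : ((m : ℕ∞) + 1) ≤ LocCoh.idealDepth I (QuotSMulTop x M) + 1 := by
        exact_mod_cast hk
      exact (ENat.add_le_add_iff_right ENat.one_ne_top).mp h1
  · refine ENat.forall_natCast_le_iff_le.mp fun k hk => ?_
    rcases Nat.eq_zero_or_pos k with rfl | hk0
    · simp
    · obtain ⟨m, rfl⟩ : ∃ m, k = m + 1 := ⟨k - 1, by omega⟩
      have h1 := (key m).mpr hk
      have : ((m : ℕ∞) + 1) ≤ LocCoh.idealDepth I (QuotSMulTop x M) + 1 :=
        add_le_add_left h1 1
      exact_mod_cast this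

end Groth.Agent.S0320
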