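import Groth.Statements.S0328
import Mathlib
import Groth.Agent.H58.NV.Main
import Groth.Agent.H58.LCIndep2

set_option autoImplicit false
universe u v
open LocCoh

namespace Groth.Agent.S0328

/-- In a Noetherian local ring, if a prime p and a proper ideal I together have radical the maximal
ideal and dim R/p = d ≥ 1, then local cohomology with support in I does not vanish in all degrees ≥
d. -/
theorem result (R : Type u) [CommRing R] [IsLocalRing R] [IsNoetherianRing R] (I : Ideal R) (hI : I ≠ ⊤) (p : Ideal R) [p.IsPrime] (hpI : (p ⊔ I).radical = IsLocalRing.maximalIdeal R) (d : ℕ) (hd : ringKrullDim (R ⧸ p) = d) (hd1 : 1 ≤ d) : ¬ LocCoh.CdLE R I (d - 1) := by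
  intro hcd
  have hsub : Subsingleton (LocCoh.H I d (R ⧸ p)) := hcd (R ⧸ p) d (by omega)
  have : Nontrivial (R ⧸ p) := Ideal.Quotient.nontrivial_iff.2 (Ideal.IsPrime.ne_top inferInstance)
  have : IsLocalRing (R ⧸ p) :=
    IsLocalRing.of_surjective' (Ideal.Quotient.mk p) Ideal.Quotient.mk_surjective
  obtain ⟨φ, -⟩ := Groth.Agent.H58.LC.indepProp (R' := R ⧸ p) I d (R ⧸ p)
  have h1 : Subsingleton (LocCoh.H (Ideal.map (algebraMap R (R ⧸ p)) I) d (R ⧸ p)) :=
    φ.toEquiv.subsingleton
  have hmap : (IsLocalRing.maximalIdeal R).map (algebraMap R (R ⧸ p)) =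
      IsLocalRing.maximalIdeal (R ⧸ p) :=
    IsLocalRing.map_maximalIdeal_of_surjective (Ideal.Quotient.mk p) Ideal.Quotient.mk_surjective
  have hrad : (Ideal.map (algebraMap R (R ⧸ p)) I).radical =
      (IsLocalRing.maximalIdeal (R ⧸ p)).radical := by
    rw [Ideal.IsPrime.radical (inferInstance : (IsLocalRing.maximalIdeal (R ⧸ p)).IsPrime)]
    apply le_antisymm
    · rw [Ideal.IsPrime.radical_le_iff (inferInstance : (IsLocalRing.maximalIdeal (R ⧸ p)).IsPrime),
        ← hmap]
      exact Ideal.map_mono (IsLocalRing.le_maximalIdeal hI)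
    · rw [← hmap, Ideal.map_le_iff_le_comap]
      intro y hy
      rw [← hpI] at hy
      obtain ⟨n, hn⟩ := hy
      rw [Ideal.mem_comap]
      refine ⟨n, ?_⟩
      rw [← map_pow]
      obtain ⟨a, ha, b, hb, hab⟩ := Submodule.mem_sup.mp hn
      rw [← hab, map_add]
      have ha0 : algebraMap R (R ⧸ p) a = 0 := Ideal.Quotient.eq_zero_iff_mem.mpr ha
      rw [ha0, zero_add]
      exact Ideal.mem_map_of_mem _ hb
  have e := (localCohomology.isoOfSameRadical hrad d).app (ModuleCat.of (R ⧸ p) (R ⧸ p))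
  have h2 : Subsingleton (LocCoh.H (IsLocalRing.maximalIdeal (R ⧸ p)) d (R ⧸ p)) :=
    e.symm.toLinearEquiv.toEquiv.subsingleton
  have h3 := Groth.Agent.H58.NV.nonvanishing_ring (R ⧸ p) d hd
  exact not_subsingleton _ h2

end Groth.Agent.S0328
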