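import Groth.Statements.S0345
import Groth.Agent.H2.GorensteinGlobal

set_option autoImplicit false
universe u v
open Goren

namespace Groth.Agent.S0345

/-- For a Noetherian ring A, the A-module A has finite injective dimension exactly when every
localization of A at a prime is Gorenstein and A has finite Krull dimension. -/
theorem result (A : Type u) [CommRing A] [IsNoetherianRing A] : (∃ n : ℕ, CategoryTheory.HasInjectiveDimensionLT (ModuleCat.of A A) n) ↔ (LocCoh.IsGorensteinRing A ∧ ringKrullDim A < ⊤) := by
  constructor
  · rintro ⟨n, hn⟩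
    refine ⟨Groth.Agent.H2.GorensteinGlobal.isGorensteinRing_of_hasInjectiveDimensionLT A n hn, ?_⟩
    exact lt_of_le_of_lt
      (Groth.Agent.H2.GorensteinGlobal.ringKrullDim_le_of_hasInjectiveDimensionLT A n hn)
      (WithBot.coe_lt_coe.mpr (ENat.natCast_lt_top n))
  · rintro ⟨hG, hdim⟩
    obtain ⟨d, hd⟩ : ∃ d : ℕ, ringKrullDim A ≤ d := by
      cases hx : ringKrullDim A with
      | bot => exact ⟨0, bot_le⟩
      | coe x =>
        rw [hx] at hdim
        cases x with
        | top => exact absurd hdim (lt_irrefl _)
        | coe x => exact ⟨x, le_rfl⟩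
    exact ⟨d + 1,
      Groth.Agent.H2.GorensteinGlobal.hasInjectiveDimensionLT_of_isGorensteinRing A d hd⟩

end Groth.Agent.S0345
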