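import Mathlib
import Groth.Statements.S0358
import Groth.Agent.H72.CMLocal
import Groth.Agent.H72.FlatFibreDepth
-- import your own Groth.Agent.* helpers here

set_option autoImplicit false
universe u v
open LocCoh

namespace Groth.Agent.S0358

open Groth.Agent.H72

/-- For a flat local homomorphism R → S of Noetherian local rings whose closed fibre S/m_R S is
Cohen–Macaulay, and a proper ideal I of S, the I-depth of S is at least dim(S/m_R S) − dim(S/(m_R S
+ I)); stated additively. -/
theorem result (R : Type u) [CommRing R] [IsLocalRing R] [IsNoetherianRing R] (S : Type u) [CommRing S] [IsLocalRing S] [IsNoetherianRing S] [Algebra R S] [IsLocalHom (algebraMap R S)] [Module.Flat R S] (hCM : LocCoh.IsCohenMacaulayLocalRing (S ⧸ (IsLocalRing.maximalIdeal R).map (algebraMap R S))) (I : Ideal S) (hI : I ≠ ⊤) : ringKrullDim (S ⧸ (IsLocalRing.maximalIdeal R).map (algebraMap R S)) ≤ ringKrullDim (S ⧸ ((IsLocalRing.maximalIdeal R).map (algebraMap R S) ⊔ I)) + ((LocCoh.idealDepth I S : ℕ∞) : WithBot ℕ∞)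 := by
  set mS := (IsLocalRing.maximalIdeal R).map (algebraMap R S) with hmS
  set J := I.map (Ideal.Quotient.mk mS) with hJ
  have hmSle : mS ≤ IsLocalRing.maximalIdeal S := FlatCM.mB_le (A := R) (B := S)
  have hJne : J ≠ ⊤ := by
    intro htop
    have h1 : J ≤ (IsLocalRing.maximalIdeal S).map (Ideal.Quotient.mk mS) :=
      Ideal.map_mono (IsLocalRing.le_maximalIdeal hI)
    rw [FlatCM.map_mk_maximalIdeal mS (FlatCM.mB_ne_top (A := R) (B := S)), htop] at h1
    exact (Ideal.IsMaximal.ne_top inferInstance) (top_le_iff.mp h1)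
  have h1 := CMLocal.ringKrullDim_le_quotient_add_height (S ⧸ mS) hCM J hJne
  have h2 := CMLocal.idealDepth_eq_height (S ⧸ mS) hCM J hJne
  have h3 := DepthFlat.idealDepth_map_fibre_le (R := R) (S := S) I hI
  have h4 : ringKrullDim ((S ⧸ mS) ⧸ J) = ringKrullDim (S ⧸ (mS ⊔ I)) :=
    ringKrullDim_eq_of_ringEquiv (DoubleQuot.quotQuotEquivQuotSup mS I)
  rw [← h2, h4] at h1
  refine h1.trans ?_
  gcongr
  exact WithBot.coe_le_coe.mpr h3

end Groth.Agent.S0358
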