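import Groth.Statements.S0363
import Groth.Agent.H2.TorMatlis2
import Groth.Agent.H2.GorensteinType
import Groth.Agent.H30.Matlis

set_option autoImplicit false
universe u v
open CategoryTheory
open Goren

namespace Groth.Agent.S0363

/-- Over a Gorenstein local ring of dimension d with E an injective hull of the residue field κ,
Tor_i(E, κ) vanishes for i ≠ d and Tor_d(E, κ) is isomorphic to κ. -/
theorem result (A : Type u) [CommRing A] [LocCoh.IsGorensteinLocalRing A] (d : ℕ) (hd : ringKrullDim A = d) (E : Type u) [AddCommGroup E] [Module A E] (f : IsLocalRing.ResidueField A →ₗ[A] E) (hf : InjHull.IsInjectiveHull f) : (∀ i : ℕ, i ≠ d → Limits.IsZero (((Tor (ModuleCat.{u} A) i).obj (ModuleCat.of A E)).obj (ModuleCat.of A (IsLocalRing.ResidueField A)))) ∧ Nonempty ((((Tor (ModuleCat.{u} A) d).obj (ModuleCat.of A E)).obj (ModuleCat.of A (IsLocalRing.ResidueField A))) ≅ ModuleCat.of A (IsLocalRing.ResidueField A)) := by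
  have hInj : Module.Injective A E := hf.isInjective
  obtain ⟨hvan, hnt⟩ := Groth.Agent.H2.GorensteinExt.ext_residueField_of_gorenstein A d hd
  have hlen := Groth.Agent.H2.GorensteinType.length_ext_residueField (A := A) (d := d) hd
  -- a module of length one over a local ring is the residue field
  have key : ∀ (X : Type u) [AddCommGroup X] [Module A X], Module.length A X = 1 →
      Nonempty (X ≃ₗ[A] IsLocalRing.ResidueField A) := by
    intro X _ _ hX
    have hs : IsSimpleModule A X := Module.length_eq_one_iff.mp hX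
    obtain ⟨m, hm, ⟨e⟩⟩ := isSimpleModule_iff_quot_maximal.mp hs
    obtain rfl := IsLocalRing.eq_maximalIdeal hm
    exact ⟨e⟩
  refine ⟨fun i hi => ?_, ?_⟩
  · obtain ⟨e⟩ := Groth.Agent.H2.TorMatlis.tor_iso (A := A) E i (IsLocalRing.ResidueField A)
    have := hvan i hi
    have hsub : Subsingleton
        (Abelian.Ext (ModuleCat.of A (IsLocalRing.ResidueField A)) (ModuleCat.of A A) i →ₗ[A] E) :=
      ⟨fun a b => LinearMap.ext fun x => by rw [Subsingleton.elim x 0, map_zero, map_zero]⟩
    exact Limits.IsZero.of_iso (ModuleCat.isZero_of_subsingleton _) e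
  · obtain ⟨e⟩ := Groth.Agent.H2.TorMatlis.tor_iso (A := A) E d (IsLocalRing.ResidueField A)
    obtain ⟨e1⟩ := key _ hlen
    have hsimple : IsSimpleModule A (IsLocalRing.ResidueField A) :=
      isSimpleModule_iff_quot_maximal.mpr ⟨_, inferInstance, ⟨LinearEquiv.refl _ _⟩⟩
    have hle := Groth.Agent.H30.Matlis.length_dual_simple_le f hf (IsLocalRing.ResidueField A)
    have hne : Module.length A (IsLocalRing.ResidueField A →ₗ[A] E) ≠ 0 := by
      intro h0
      have hsub : Subsingleton (IsLocalRing.ResidueField A →ₗ[A] E) :=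
        Module.length_eq_zero_iff.mp h0
      have hf0 : f = 0 := Subsingleton.elim _ _
      have h1 : f 1 = f 0 := by rw [hf0, LinearMap.zero_apply, LinearMap.zero_apply]
      exact one_ne_zero (hf.injective h1)
    have hlen2 : Module.length A (IsLocalRing.ResidueField A →ₗ[A] E) = 1 :=
      le_antisymm hle (Order.one_le_iff_pos.mpr (pos_iff_ne_zero.mpr hne))
    obtain ⟨e2⟩ := key _ hlen2
    exact ⟨e ≪≫ (LinearEquiv.congrLeft E A e1 ≪≫ₗ e2).toModuleIso⟩

end Groth.Agent.S0363
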