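import Groth.Statements.S0365
import Groth.Agent.H2.DualCx.Depth

set_option autoImplicit false
universe u v
open CategoryTheory
attribute [local instance] HasDerivedCategory.standard
open Dual

namespace Groth.Agent.S0365

/-- For a Noetherian local ring with normalized dualizing complex ω, the depth of the ring is the least
δ ≥ 0 with H^{-δ}(ω) nonzero. -/
theorem result (A : Type u) [CommRing A] [IsLocalRing A] [IsNoetherianRing A] (ω : Dual.D A) (hω : Dual.IsDualizing A ω) (hn : Dual.IsNormalized A ω) (n : ℕ) : LocCoh.depth A A = n ↔ ((∀ δ : ℕ, δ < n → Subsingleton (Dual.HD A ω (-(δ : ℤ)))) ∧ Nontrivial (Dual.HD A ω (-(n : ℤ)))) := by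
  rw [Groth.Agent.H2.DualCx.depth_eq_iff (Groth.Agent.H2.DualCx.norm_of_isDualizing hω hn) A n]
  have key : ∀ j : ℤ, Subsingleton (Groth.Agent.H2.DualCx.T ω j A) ↔ Subsingleton (Dual.HD A ω j) :=
    fun j => Groth.Agent.H2.DualCx.subsingleton_T_self_iff ω j
  constructor
  · rintro ⟨h1, h2⟩
    refine ⟨fun δ hδ => (key _).mp (h1 δ hδ), ?_⟩
    rw [← not_subsingleton_iff_nontrivial] at h2 ⊢
    exact fun h => h2 ((key _).mpr h)
  · rintro ⟨h1, h2⟩
    refine ⟨fun δ hδ => (key _).mpr (h1 δ hδ), ?_⟩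
    rw [← not_subsingleton_iff_nontrivial] at h2 ⊢
    exact fun h => h2 ((key _).mp h)

end Groth.Agent.S0365
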