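import Groth.Statements.S0368
import Groth.Agent.H2.DualCx.Depth
import Groth.Agent.H72.DepthCM

set_option autoImplicit false
universe u v
open CategoryTheory
attribute [local instance] HasDerivedCategory.standard
open Dual

namespace Groth.Agent.S0368

/-- (1)⇔(3): for a Noetherian local ring with normalized dualizing complex ω, a nonzero finite module M
with support of dimension d is Cohen–Macaulay exactly when Hom(M, ω[−i]) vanishes in D(A) for every
i ≠ d. -/
theorem result (A : Type u) [CommRing A] [IsLocalRing A] [IsNoetherianRing A] (ω : Dual.D A) (hω : Dual.IsDualizing A ω) (hn : Dual.IsNormalized A ω) (M : Type u) [AddCommGroup M] [Module A M] [Module.Finite A M] [Nontrivial M] (d : ℕ) (hd : Module.supportDim A M = d) : LocCoh.IsCohenMacaulayModule A M ↔ ∀ i : ℤ, i ≠ d → Subsingleton (Dual.inD A M ⟶ ω⟦(-i)⟧) := by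
  have hN := Groth.Agent.H2.DualCx.norm_of_isDualizing hω hn
  have hle := Groth.Agent.H72.DepthCM.depth_le_supportDim (A := A) M
  rw [hd] at hle
  -- the depth is a natural number `n' ≤ d`
  obtain ⟨n', hn'⟩ : ∃ n' : ℕ, LocCoh.depth A M = n' := by
    cases h : LocCoh.depth A M with
    | top =>
      rw [h] at hle
      have h2 : ((⊤ : ℕ∞) : WithBot ℕ∞) ≤ ((d : ℕ∞) : WithBot ℕ∞) := hle
      rw [WithBot.coe_le_coe] at h2
      exact absurd h2 (by simp)
    | coe k => exact ⟨k, rfl⟩
  have hn'd : n' ≤ d := by
    rw [hn'] at hle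
    have h2 : (((n' : ℕ) : ℕ∞) : WithBot ℕ∞) ≤ ((d : ℕ∞) : WithBot ℕ∞) := hle
    rw [WithBot.coe_le_coe] at h2
    exact_mod_cast h2
  have hCM : LocCoh.IsCohenMacaulayModule A M ↔ n' = d := by
    unfold LocCoh.IsCohenMacaulayModule
    rw [hd, hn']
    constructor
    · intro h
      have h2 : ((d : ℕ∞) : WithBot ℕ∞) = (((n' : ℕ) : ℕ∞) : WithBot ℕ∞) := h
      rw [WithBot.coe_inj] at h2
      exact_mod_cast h2.symm
    · intro h
      rw [h]
      rfl
  rw [hCM]
  constructor
  · intro hnd i hi
    subst hnd
    rcases lt_trichotomy i 0 with hneg | hzero | hpos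
    · exact Groth.Agent.H2.DualCx.pos_vanish hN M (-i) (by omega)
    · subst hzero
      have h0 : n' ≠ 0 := by
        intro h
        apply hi
        rw [h]
        rfl
      have := Groth.Agent.H2.DualCx.vanish_of_le_depth hN n' M (le_of_eq hn'.symm) 0 (by omega)
      simpa using this
    · obtain ⟨k, rfl⟩ := Int.eq_ofNat_of_zero_le hpos.le
      rcases lt_or_gt_of_ne (show k ≠ n' from fun h => hi (by rw [h])) with hlt | hgt
      · exact Groth.Agent.H2.DualCx.vanish_of_le_depth hN n' M (le_of_eq hn'.symm) k hlt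
      · refine Groth.Agent.H2.DualCx.down_all hN.finT (fun j hj => hN.kappa j (by omega)) M n'
          (le_of_eq hd) (-(k : ℤ)) (by omega)
  · intro hall
    by_contra hne
    have h1 := Groth.Agent.H2.DualCx.nontrivial_of_depth_eq hN n' M hn'
    have h2 := hall (n' : ℤ) (by
      intro h
      apply hne
      exact_mod_cast h)
    exact (not_nontrivial_iff_subsingleton.mpr h2) h1

end Groth.Agent.S0368
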