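import Groth.Statements.S0369
import Groth.Agent.H2.DualCx.PLocalHom

set_option autoImplicit false
universe u v
open CategoryTheory
attribute [local instance] HasDerivedCategory.standard
open Dual

namespace Groth.Agent.S0369

/-- For a Noetherian local ring of dimension d with normalized dualizing complex ω, the module ω_A =
H^{−d}(ω) has support equal to the union of those irreducible components of Spec A whose dimension
is d, and satisfies Serre's condition (S_2). -/
theorem result (A : Type u) [CommRing A] [IsLocalRing A] [IsNoetherianRing A] (ω : Dual.D A) (hω : Dual.IsDualizing A ω) (hn : Dual.IsNormalized A ω) (d : ℕ) (hd : ringKrullDim A = d) : Module.support A (Dual.HD A ω (-(d : ℤ))) = {p : PrimeSpectrum A | ∃ q ∈ minimalPrimes A, q ≤ p.asIdeal ∧ ringKrullDim (A ⧸ q) = d} ∧ LocCoh.HasSk 2 A (Dual.HD A ω (-(d : ℤ))) := by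
  have hN := Groth.Agent.H2.DualCx.norm_of_isDualizing hω hn
  have hfin := hω.finite_cohomology
  refine ⟨Groth.Agent.H2.DualCx.support_HD_bottom hN hfin d hd, ?_⟩
  have := hfin (-(d : ℤ))
  have hd' : Module.supportDim A A = d := by rw [Module.supportDim_self_eq_ringKrullDim, hd]
  have hGE : ω.IsGE (-(d : ℤ)) := by
    rw [DerivedCategory.isGE_iff]
    intro i hi
    have : Subsingleton (Groth.Agent.H2.DualCx.T ω i A) := by
      by_contra hc
      rw [not_subsingleton_iff_nontrivial] at hc
      have := ((Groth.Agent.H2.DualCx.range_and_supportDim hN A d hd' i).1 hc).1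
      omega
    have : Subsingleton (Dual.HD A ω i) :=
      (Groth.Agent.H2.DualCx.subsingleton_T_self_iff ω i).mp inferInstance
    exact ModuleCat.isZero_of_subsingleton _
  have hLE : ω.IsLE 0 := by
    rw [DerivedCategory.isLE_iff]
    intro i hi
    have : Subsingleton (Groth.Agent.H2.DualCx.T ω i A) :=
      Groth.Agent.H2.DualCx.pos_vanish hN A i hi
    have : Subsingleton (Dual.HD A ω i) :=
      (Groth.Agent.H2.DualCx.subsingleton_T_self_iff ω i).mp inferInstance
    exact ModuleCat.isZero_of_subsingleton _
  intro p hp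
  let P : PrimeSpectrum A := ⟨p, hp⟩
  by_cases hP : P ∈ Module.support A (Dual.HD A ω (-(d : ℤ)))
  · -- the coheight of `p`
    obtain ⟨c, hc⟩ : ∃ c : ℕ, Order.coheight P = c :=
      ⟨(Order.coheight P).toNat, (ENat.natCast_toNat (ne_of_lt (Order.coheight_lt_top P))).symm⟩
    -- dimension bound
    have hdim : Module.supportDim (Localization.AtPrime p)
        (LocalizedModule p.primeCompl (Dual.HD A ω (-(d : ℤ)))) ≤ ((d - c : ℕ) : WithBot ℕ∞) := by
      refine (Module.supportDim_le_ringKrullDim _ _).trans ?_
      rw [IsLocalization.AtPrime.ringKrullDim_eq_height p (Localization.AtPrime p)]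
      have h1 : p.height = Order.height P := PrimeSpectrum.height_eq_orderHeight P
      have h2 : ((Order.height P + Order.coheight P : ℕ∞) : WithBot ℕ∞) ≤
          Order.krullDim (PrimeSpectrum A) := by
        rw [Order.krullDim_eq_iSup_height_add_coheight_of_nonempty]
        exact WithBot.coe_le_coe.mpr
          (le_iSup (fun a : PrimeSpectrum A => Order.height a + Order.coheight a) P)
      have h3 : Order.krullDim (PrimeSpectrum A) = d := hd
      rw [h1]
      rw [hc, h3] at h2
      have h4 : Order.height P + c ≤ (d : ℕ∞) := by exact_mod_cast h2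
      have h5 : Order.height P ≤ ((d - c : ℕ) : ℕ∞) := by
        cases h : Order.height P with
        | top => rw [h] at h4; simp at h4
        | coe k =>
          rw [h] at h4
          have : k + c ≤ d := by exact_mod_cast h4
          exact_mod_cast (by omega : k ≤ d - c)
      exact (WithBot.coe_le_coe.mpr h5 : ((Order.height P : ℕ∞) : WithBot ℕ∞) ≤
        (((d - c : ℕ) : ℕ∞) : WithBot ℕ∞))
    -- depth bound
    have hdepth : min (2 : ℕ∞) ((d - c : ℕ) : ℕ∞) ≤ LocCoh.depth (Localization.AtPrime p)
        (LocalizedModule p.primeCompl (Dual.HD A ω (-(d : ℤ)))) := by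
      by_contra hcon
      push Not at hcon
      have hlt2 := lt_of_lt_of_le hcon (min_le_left _ _)
      have hltd := lt_of_lt_of_le hcon (min_le_right _ _)
      obtain ⟨δ, hδ⟩ := ENat.ne_top_iff_exists.mp (ne_top_of_lt hlt2)
      rw [← hδ] at hlt2 hltd
      have hδ2 : δ < 2 := by exact_mod_cast hlt2
      have hδd : δ < d - c := by exact_mod_cast hltd
      have hmem := (Groth.Agent.H2.DualCx.depth_support_aux hN P c hc δ
        (Dual.HD A ω (-(d : ℤ)))).2 hδ.symm
      have hk0 : ((d : ℤ) - δ - c) ≠ 0 := by omega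
      have hnot := Groth.Agent.H2.DualCx.notMem_support_T_bottom ω P (-(d : ℤ)) 0 hGE hLE
        ((d : ℤ) - δ - c) (hω.ext_self_subsingleton _ hk0)
        (fun q hq => Groth.Agent.H2.DualCx.notMem_support_T_of_gt hN P c hc _ (by omega) _)
      have e : (d : ℤ) - δ - c + -(d : ℤ) = -((δ : ℤ) + c) := by ring
      rw [e] at hnot
      exact hnot hmem
    calc min ((2 : ℕ) : WithBot ℕ∞) (Module.supportDim (Localization.AtPrime p)
          (LocalizedModule p.primeCompl (Dual.HD A ω (-(d : ℤ)))))
        ≤ min ((2 : ℕ) : WithBot ℕ∞) ((d - c : ℕ) : WithBot ℕ∞) := min_le_min le_rfl hdim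
      _ = ((min (2 : ℕ∞) ((d - c : ℕ) : ℕ∞) : ℕ∞) : WithBot ℕ∞) := by
        rw [WithBot.coe_min]; rfl
      _ ≤ _ := by exact_mod_cast hdepth
  · have : Subsingleton (LocalizedModule p.primeCompl (Dual.HD A ω (-(d : ℤ)))) := by
      rw [Module.mem_support_iff] at hP
      exact not_nontrivial_iff_subsingleton.mp hP
    rw [Module.supportDim_eq_bot_of_subsingleton]
    simp

end Groth.Agent.S0369
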