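import Groth.Statements.S0377
import Groth.Agent.H28.DualCatenary

set_option autoImplicit false
universe u v
open CategoryTheory
attribute [local instance] HasDerivedCategory.standard
open Dual

namespace Groth.Agent.S0377

/-- If a Noetherian ring A has a dualizing complex then so does every A-algebra essentially of finite
type. -/
theorem result (A : Type u) [CommRing A] [IsNoetherianRing A] (ω : Dual.D A) (hω : Dual.IsDualizing A ω) (B : Type u) [CommRing B] [Algebra A B] [Algebra.EssFiniteType A B] : ∃ ω' : Dual.D B, Dual.IsDualizing B ω' := by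
  obtain ⟨S₀, M, hft, hloc⟩ := (Algebra.essFiniteType_iff_exists_subalgebra A B).mp
    (inferInstance : Algebra.EssFiniteType A B)
  obtain ⟨hN, ω₀, hω₀⟩ :=
    Groth.Agent.H28.DualCatenary.exists_dualizing_of_finiteType A ⟨ω, hω⟩ S₀ hft
  have : Module.Flat S₀ B := IsLocalization.flat B M
  have : IsNoetherianRing B := IsLocalization.isNoetherianRing M B hN
  exact ⟨_, Groth.Agent.H26.FlatBCDual.isDualizing_LB_localization M ω₀ hω₀⟩

end Groth.Agent.S0377
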