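import Groth.Statements.S0396
import Groth.Agent.H2.FlatPow
import Mathlib.RingTheory.Localization.AtPrime.Basic
import Mathlib.RingTheory.Localization.BaseChange
import Mathlib.RingTheory.Localization.Finiteness

set_option autoImplicit false
universe u
open FlatMor

namespace Groth.Agent.S0396

open TensorProduct in
/-- For a map of Noetherian rings R → S, an ideal I of R and a finite S-module M such that M/IⁿM is flat
over R/Iⁿ for every n ≥ 1, the localization of M at any prime of S containing IS is flat over R. -/
theorem result {R S M : Type u} [CommRing R] [CommRing S] [IsNoetherianRing R] [IsNoetherianRing S] [Algebra R S]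
    [AddCommGroup M] [Module R M] [Module S M] [IsScalarTower R S M] [Module.Finite S M] (I : Ideal R)
    (h : ∀ n : ℕ, 0 < n → Module.Flat (R ⧸ I ^ n) ((R ⧸ I ^ n) ⊗[R] M))
    (q : Ideal S) [q.IsPrime] (hq : I.map (algebraMap R S) ≤ q) :
    Module.Flat R (LocalizedModule q.primeCompl M) := by
  have hnoeth : IsNoetherianRing (Localization.AtPrime q) :=
    IsLocalization.isNoetherianRing q.primeCompl (Localization.AtPrime q) inferInstance
  refine Groth.Agent.H2.flat_of_lTensor_injective_quotient_pow (S := Localization.AtPrime q)
    (M := LocalizedModule q.primeCompl M) I ?_ ?_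
  · -- the image of `I` lies in the maximal ideal
    rw [IsLocalRing.jacobson_eq_maximalIdeal ⊥ bot_ne_top, Ideal.map_le_iff_le_comap]
    intro a ha
    rw [Ideal.mem_comap, IsScalarTower.algebraMap_apply R S (Localization.AtPrime q)]
    have hq' : algebraMap R S a ∈ q := hq (Ideal.mem_map_of_mem _ ha)
    rw [← Localization.AtPrime.under_maximalIdeal (I := q)] at hq'
    exact hq'
  · intro n hn Jbar
    have hflat := h n hn
    have h1 : Function.Injective (((Submodule.subtype Jbar).restrictScalars R).lTensor M) :=
      Groth.Agent.H2.lTensor_injective_of_algebra_flat (R ⧸ I ^ n) (Submodule.subtype Jbar)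
        (Submodule.injective_subtype Jbar)
    let g := LocalizedModule.mkLinearMap q.primeCompl M
    let f := (Submodule.subtype Jbar).restrictScalars R
    have h2 := IsLocalizedModule.map_lTensor (R := R) (A := S) q.primeCompl f g
    have h3 : Function.Injective (IsLocalizedModule.map q.primeCompl
        (AlgebraTensorModule.rTensor R Jbar g) (AlgebraTensorModule.rTensor R (R ⧸ I ^ n) g)
        (AlgebraTensorModule.lTensor S M f)) :=
      IsLocalizedModule.map_injective q.primeCompl _ _ _ h1
    rw [h2] at h3
    exact h3

end Groth.Agent.S0396
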