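import Groth.Statements.S0399
import Groth.Agent.H2.FlatAway

set_option autoImplicit false
universe u
open FlatMor

namespace Groth.Agent.S0399

open TensorProduct in
/-- For a ring A, a module M and an element f that is a nonzerodivisor on A and on M, if M_f is flat
over A_f and M/fM is flat over A/fA then M is flat over A (the source's companion statement for
faithful flatness is not stated). -/
theorem result {A M : Type u} [CommRing A] [AddCommGroup M] [Module A M] (f : A) (hA : f ∈ nonZeroDivisors A) (hM : IsSMulRegular M f)
    [Module.Flat (Localization.Away f) (LocalizedModule (Submonoid.powers f) M)]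
    [Module.Flat (A ⧸ Ideal.span {f}) ((A ⧸ Ideal.span {f}) ⊗[A] M)] : Module.Flat A M := by
  have h : Groth.Agent.H2.FHyp f M :=
    { reg := hM
      flat_away := Module.Flat.of_linearEquiv
        (LocalizedModule.equivTensorProduct (Submonoid.powers f) M).symm
      flat_quot := inferInstance }
  exact h.flat hA

end Groth.Agent.S0399
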