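import Groth.Statements.S0401
import Groth.Agent.H2.QFDim

set_option autoImplicit false
universe u
open FlatMor

namespace Groth.Agent.S0401

/-- For a finite type ring map R → S quasi-finite at a prime q lying over p, the dimension of S_q is at
most the dimension of R_p. -/
theorem result {R S : Type u} [CommRing R] [CommRing S] [Algebra R S] [Algebra.FiniteType R S] (q : Ideal S) [q.IsPrime] [Algebra.QuasiFiniteAt R q] :
    ringKrullDim (Localization.AtPrime q) ≤ ringKrullDim (Localization.AtPrime (q.under R)) := by
  rw [IsLocalization.AtPrime.ringKrullDim_eq_height q,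
    IsLocalization.AtPrime.ringKrullDim_eq_height (q.under R), WithBot.coe_le_coe]
  obtain ⟨S', hS', r, hrq, H⟩ :=
    Algebra.QuasiFiniteAt.exists_fg_and_exists_notMem_and_awayMap_bijective (R := R) q
  have hfin : Module.Finite R S' := ⟨(Submodule.fg_top _).mpr hS'⟩
  have hint : Algebra.IsIntegral R S' := inferInstance
  have h1 : (q.comap S'.val.toRingHom).height = q.height :=
    Groth.Agent.H2.height_comap_eq_of_awayMap_bijective S'.val.toRingHom r H q hrq
  have h2 := Groth.Agent.H2.height_le_height_under_of_isIntegral (R := R)
    (q.comap S'.val.toRingHom)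
  have h3 : (q.comap S'.val.toRingHom).under R = q.under R := by
    ext a
    simp only [Ideal.under, Ideal.mem_comap]
    rfl
  rw [h3, h1] at h2
  exact h2

end Groth.Agent.S0401
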