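import Groth.Statements.S0403
import Groth.Agent.H17.Chev.Closed

set_option autoImplicit false
universe u
open FlatMor

namespace Groth.Agent.S0403

open AlgebraicGeometry CategoryTheory Limits in
/-- For a proper morphism the dimension of the fibre is an upper semicontinuous function on the target:
for every bound the set of points whose fibre has dimension at most that bound is open. -/
theorem result {X S : Scheme.{u}} (f : X ⟶ S) [IsProper f] (c : WithBot ℕ∞) :
    IsOpen {s : S | topologicalKrullDim (f.fiber s) ≤ c} := by
  have hcl : IsClosedMap f.base := f.isClosedMap
  induction c with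
  | bot =>
    have : {s : S | topologicalKrullDim (f.fiber s) ≤ ⊥} = (Set.range f.base)ᶜ := by
      ext s
      simp only [Set.mem_ofPred_eq, le_bot_iff, Set.mem_compl_iff, Set.mem_range]
      rw [topologicalKrullDim, Order.krullDim_eq_bot_iff]
      constructor
      · rintro h ⟨x, rfl⟩
        exact h.false ⟨closure {f.asFiber x}, isIrreducible_singleton.closure, isClosed_closure⟩
      · intro h
        refine ⟨fun Z => ?_⟩
        obtain ⟨z, -⟩ := Z.2.nonempty
        exact h ⟨((f.fiberHomeo s) z).1, ((f.fiberHomeo s) z).2⟩
    rw [this]
    exact hcl.isClosed_range.isOpen_compl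
  | coe e =>
    induction e with
    | top =>
      have : {s : S | topologicalKrullDim (f.fiber s) ≤ ((⊤ : ℕ∞) : WithBot ℕ∞)} = Set.univ := by
        ext s
        simp only [Set.mem_ofPred_eq, Set.mem_univ, iff_true]
        exact le_top
      rw [this]
      exact isOpen_univ
    | coe n =>
      have : {s : S | topologicalKrullDim (f.fiber s) ≤ ((n : ℕ∞) : WithBot ℕ∞)} =
          {y : S | (((n + 1 : ℕ)) : WithBot ℕ∞) ≤ topologicalKrullDim ↥(f.fiber y)}ᶜ := by
        ext s
        simp only [Set.mem_ofPred_eq, Set.mem_compl_iff, not_le]
        generalize topologicalKrullDim ↥(f.fiber s) = d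
        induction d with
        | bot => simp
        | coe d =>
          induction d with
          | top =>
            simp only [WithBot.coe_le_coe, top_le_iff, ENat.natCast_ne_top, false_iff, not_lt]
            exact le_top
          | coe m =>
            norm_cast
            omega
      rw [this]
      exact (Groth.Agent.H17.Chev.isClosed_setOf_le_dim_fiber f hcl (n + 1)).isOpen_compl

end Groth.Agent.S0403
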