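import Groth.Statements.S0408
import Mathlib
import Groth.Agent.H7.EtaleLocal

set_option autoImplicit false
universe u
open FlatMor

namespace Groth.Agent.S0408

open AlgebraicGeometry CategoryTheory Limits in
/-- Étale localization of a quasi-finite point (one-point case): for f separated and locally of finite
type and x isolated in its fibre, after base change along an étale morphism g with a point u over
f(x) having the same residue field, the base change splits off an open and closed piece V, finite
over the base, whose fibre over u is a single point v lying over x with the same residue field as x,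
and no other point over u lies over x. -/
theorem result {X S : Scheme.{u}} (f : X ⟶ S) [LocallyOfFiniteType f] [IsSeparated f] (x : X) (hx : f.QuasiFiniteAt x) :
    ∃ (U : Scheme.{u}) (g : U ⟶ S) (u : U), Etale g ∧ g u = f x ∧ Function.Surjective (g.residueFieldMap u) ∧
      ∃ (V : (pullback f g).Opens) (v : ↑(pullback f g)), IsClopen (V : Set ↑(pullback f g)) ∧
        IsFinite (V.ι ≫ pullback.snd f g) ∧ v ∈ V ∧ pullback.fst f g v = x ∧ pullback.snd f g v = u ∧
        Function.Surjective ((pullback.fst f g).residueFieldMap v) ∧
        (∀ w : ↑(pullback f g), pullback.snd f g w = u → (w ∈ V ∨ pullback.fst f g w = x) → w = v) := by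
  obtain ⟨U, g, u, -, hget, hgu, hres, V, v, hV⟩ :=
    Groth.Agent.H7.exists_etale_nbhd_finite_parts f (f x) (fun _ : Unit ↦ x) (fun _ ↦ rfl)
      (fun _ ↦ hx)
  obtain ⟨h1, h2, h3, h4, h5⟩ := hV ()
  have hsurj : ∀ y : U, y = u → Function.Surjective (g.residueFieldMap y).hom := by
    rintro y rfl
    exact hres.2
  refine ⟨U, g, u, hget, hgu, hres.2, V (), v (), ⟨?_, (V ()).2⟩, h2, h1, h5, h3, ?_, ?_⟩
  · exact Groth.Agent.H7.isClosed_of_isFinite_ι_comp (pullback.snd f g) (V ()) h2
  · exact Groth.Agent.H7.surjective_residueFieldMap_fst f g (v ()) (hsurj _ h3)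
  · rintro w hw (hwV | hwx)
    · exact h4 w hwV hw
    · exact Groth.Agent.H7.eq_of_fst_eq_of_snd_eq f g w (v ()) (hwx.trans h5.symm)
        (hw.trans h3.symm) (hsurj _ h3)

end Groth.Agent.S0408
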