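import Groth.Statements.S0430
import Groth.Agent.H87.FerrPullback
import Groth.Agent.H87.FerrIntegral
import Groth.Agent.H87.FerrIntegralHom
import Groth.Agent.H87.FerrMatch

set_option autoImplicit false
universe u
open FlatMor

namespace Groth.Agent.S0430

open AlgebraicGeometry CategoryTheory Limits in
/-- The pushout of a closed immersion Z → X and an integral morphism Z → Y exists in the category of
schemes provided every fibre of Z → Y lies in the preimage of some affine open of X; the pushout
square is also cartesian, X maps to the pushout by an integral morphism and Y by a closed immersion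
(the source's description of the structure sheaf of the pushout as a fibre product of sheaves is not
restated). -/
theorem result {X Y Z : Scheme.{u}} (i : Z ⟶ X) (j : Z ⟶ Y) [IsClosedImmersion i] [IsIntegralHom j]
    (haff : ∀ y : ↑Y, ∃ U : X.Opens, IsAffineOpen U ∧ j ⁻¹' {y} ⊆ i ⁻¹' (U : Set ↑X)) :
    ∃ (P : Scheme.{u}) (a : X ⟶ P) (b : Y ⟶ P), IsPushout i j a b ∧ IsPullback i j a b ∧ IsIntegralHom a ∧ IsClosedImmersion b := by
  have h : IsPushout i.toLRSHom j.toLRSHom (pushout.inl i.toLRSHom j.toLRSHom)
      (pushout.inr i.toLRSHom j.toLRSHom) := IsPushout.of_hasPushout _ _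
  have hY : ∀ y : Y, ∃ (U : X.Opens) (V : Y.Opens), IsAffineOpen U ∧ IsAffineOpen V ∧
      i ⁻¹ᵁ U = j ⁻¹ᵁ V ∧ y ∈ V := by
    intro y
    obtain ⟨U₀, hU₀, hfib⟩ := haff y
    exact Groth.Agent.H87.FerrIntegral.exists_matched_integral i j y U₀ hU₀ hfib
  have hcov : Groth.Agent.H87.FerrScheme.Covered (pushout.inl i.toLRSHom j.toLRSHom)
      (pushout.inr i.toLRSHom j.toLRSHom) := by
    apply Groth.Agent.H87.FerrScheme.covered_of_pairs h
    · intro x
      by_cases hx : x ∈ Set.range i.base
      · obtain ⟨z, rfl⟩ := hx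
        obtain ⟨U, V, hU, hV, hUV, hy⟩ := hY (j.base z)
        refine ⟨U, V, hU, hV, hUV, ?_⟩
        have hz : z ∈ i ⁻¹ᵁ U := by
          rw [hUV]
          exact hy
        exact hz
      · exact Groth.Agent.H87.FerrMatch.exists_matched_left i j x hx
    · exact hY
  exact ⟨Groth.Agent.H87.FerrScheme.scheme h hcov, Groth.Agent.H87.FerrScheme.inl h hcov,
    Groth.Agent.H87.FerrScheme.inr h hcov, Groth.Agent.H87.FerrScheme.isPushout h hcov,
    Groth.Agent.H87.FerrPullback.isPullback' h hcov,
    Groth.Agent.H87.FerrScheme.isIntegralHom_inl h hcov,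
    Groth.Agent.H87.FerrScheme.isClosedImmersion_inr h hcov⟩

end Groth.Agent.S0430
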