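import Groth.Statements.S0431
import Groth.Agent.H87.FerrPullback
import Groth.Agent.H87.ThickAffG

set_option autoImplicit false
universe u
open FlatMor

namespace Groth.Agent.S0431

open AlgebraicGeometry CategoryTheory Limits in
/-- For a thickening X → X' (a surjective closed immersion) and an affine morphism X → Y, the pushout Y'
of X' and Y along X exists in schemes, Y → Y' is again a thickening and X is the fibre product of Y
and X' over Y' (the source's description of the structure sheaf of the pushout as a fibre product of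
sheaves is not restated). -/
theorem result {X X' Y : Scheme.{u}} (t : X ⟶ X') [IsClosedImmersion t] (ht : Function.Surjective t) (f : X ⟶ Y) [IsAffineHom f] :
    ∃ (Y' : Scheme.{u}) (f' : X' ⟶ Y') (b : Y ⟶ Y'), IsPushout t f f' b ∧ IsPullback t f f' b ∧
      IsClosedImmersion b ∧ Function.Surjective b := by
  have h : IsPushout t.toLRSHom f.toLRSHom (pushout.inl t.toLRSHom f.toLRSHom)
      (pushout.inr t.toLRSHom f.toLRSHom) := IsPushout.of_hasPushout _ _
  have : Surjective t := ⟨ht⟩
  -- matched pair attached to an affine open of `Y`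
  have hpair : ∀ V : Y.Opens, IsAffineOpen V → ∃ U : X'.Opens, IsAffineOpen U ∧
      t ⁻¹ᵁ U = f ⁻¹ᵁ V := by
    intro V hV
    have hfV : IsAffineOpen (f ⁻¹ᵁ V) := hV.preimage f
    refine ⟨Groth.Agent.H87.ThickAff.img t ht (f ⁻¹ᵁ V), ?_,
      Groth.Agent.H87.ThickAff.preimage_img t ht (f ⁻¹ᵁ V)⟩
    apply Groth.Agent.H87.ThickAff.isAffineOpen_of_preimage t
    rw [Groth.Agent.H87.ThickAff.preimage_img t ht (f ⁻¹ᵁ V)]
    exact hfV
  have hcov : Groth.Agent.H87.FerrScheme.Covered (pushout.inl t.toLRSHom f.toLRSHom)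
      (pushout.inr t.toLRSHom f.toLRSHom) := by
    apply Groth.Agent.H87.FerrScheme.covered_of_pairs h
    · intro x'
      obtain ⟨x, rfl⟩ := ht x'
      obtain ⟨_, ⟨V, hV, rfl⟩, hxV, -⟩ := Y.isBasis_affineOpens.exists_subset_of_mem_open
        (Set.mem_univ (f.base x)) isOpen_univ
      obtain ⟨U, hU, hUV⟩ := hpair V hV
      refine ⟨U, V, hU, hV, hUV, ?_⟩
      have hx : x ∈ t ⁻¹ᵁ U := by
        rw [hUV]
        exact hxV
      exact hx
    · intro y
      obtain ⟨_, ⟨V, hV, rfl⟩, hyV, -⟩ := Y.isBasis_affineOpens.exists_subset_of_mem_open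
        (Set.mem_univ y) isOpen_univ
      obtain ⟨U, hU, hUV⟩ := hpair V hV
      exact ⟨U, V, hU, hV, hUV, hyV⟩
  refine ⟨Groth.Agent.H87.FerrScheme.scheme h hcov, Groth.Agent.H87.FerrScheme.inl h hcov,
    Groth.Agent.H87.FerrScheme.inr h hcov, Groth.Agent.H87.FerrScheme.isPushout h hcov,
    Groth.Agent.H87.FerrPullback.isPullback' h hcov,
    Groth.Agent.H87.FerrScheme.isClosedImmersion_inr h hcov, ?_⟩
  intro p
  rcases Groth.Agent.H87.FerrTop.eq_or_eq (Groth.Agent.H87.FerrLRS.isPushout_top h) p with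
    ⟨x', rfl⟩ | ⟨y, rfl⟩
  · obtain ⟨x, rfl⟩ := ht x'
    exact ⟨f.base x, (Groth.Agent.H87.FerrTop.comm_apply
      (Groth.Agent.H87.FerrLRS.isPushout_top h) x).symm⟩
  · exact ⟨y, rfl⟩

end Groth.Agent.S0431
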