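import Groth.Statements.S0432
import Groth.Agent.H87.FerrScheme
import Groth.Agent.H87.FerrMatch

set_option autoImplicit false
universe u
open FlatMor

namespace Groth.Agent.S0432

open AlgebraicGeometry CategoryTheory Limits in
/-- The pushout of two closed immersions Z → X and Z → Y exists in schemes, both maps into it are closed
immersions and the square is cartesian. -/
theorem result {X Y Z : Scheme.{u}} (i : Z ⟶ X) (j : Z ⟶ Y) [IsClosedImmersion i] [IsClosedImmersion j] :
    ∃ (P : Scheme.{u}) (a : X ⟶ P) (b : Y ⟶ P), IsPushout i j a b ∧ IsPullback i j a b ∧ IsClosedImmersion a ∧ IsClosedImmersion b := by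
  have h : IsPushout i.toLRSHom j.toLRSHom (pushout.inl i.toLRSHom j.toLRSHom)
      (pushout.inr i.toLRSHom j.toLRSHom) := IsPushout.of_hasPushout _ _
  have hcov : Groth.Agent.H87.FerrScheme.Covered (pushout.inl i.toLRSHom j.toLRSHom)
      (pushout.inr i.toLRSHom j.toLRSHom) := by
    apply Groth.Agent.H87.FerrScheme.covered_of_pairs h
    · intro x
      by_cases hx : x ∈ Set.range i.base
      · obtain ⟨z, rfl⟩ := hx
        obtain ⟨U, V, hU, hV, -, -, hUV, hz⟩ :=
          Groth.Agent.H87.FerrMatch.exists_matched i j z ⊤ ⊤ trivial trivial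
        exact ⟨U, V, hU, hV, hUV, hz⟩
      · exact Groth.Agent.H87.FerrMatch.exists_matched_left i j x hx
    · intro y
      by_cases hy : y ∈ Set.range j.base
      · obtain ⟨z, rfl⟩ := hy
        obtain ⟨U, V, hU, hV, -, -, hUV, hz⟩ :=
          Groth.Agent.H87.FerrMatch.exists_matched i j z ⊤ ⊤ trivial trivial
        refine ⟨U, V, hU, hV, hUV, ?_⟩
        have hz' : z ∈ j ⁻¹ᵁ V := hUV ▸ hz
        exact hz'
      · obtain ⟨V, U, hV, hU, hVU, hy'⟩ :=
          Groth.Agent.H87.FerrMatch.exists_matched_left j i y hy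
        exact ⟨U, V, hU, hV, hVU.symm, hy'⟩
  exact ⟨Groth.Agent.H87.FerrScheme.scheme h hcov, Groth.Agent.H87.FerrScheme.inl h hcov,
    Groth.Agent.H87.FerrScheme.inr h hcov, Groth.Agent.H87.FerrScheme.isPushout h hcov,
    Groth.Agent.H87.FerrScheme.isPullback h hcov j.isEmbedding.isInducing,
    Groth.Agent.H87.FerrScheme.isClosedImmersion_inl h hcov,
    Groth.Agent.H87.FerrScheme.isClosedImmersion_inr h hcov⟩

end Groth.Agent.S0432
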