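import Groth.Statements.S0433
import Groth.Agent.H42.MilnorPushout

set_option autoImplicit false
universe u
open FlatMor

namespace Groth.Agent.S0433

open AlgebraicGeometry CategoryTheory Limits in
/-- For a surjective ring map A' → A and any ring map B → A, the spectra of A, A', B and of the fibre
product ring B ×_A A' form a pushout square of schemes. -/
theorem result {A A' B : Type u} [CommRing A] [CommRing A'] [CommRing B] (p : A' →+* A) (hp : Function.Surjective p) (q : B →+* A) :
    IsPushout (Spec.map (CommRingCat.ofHom p)) (Spec.map (CommRingCat.ofHom q))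
      (Spec.map (pullback.snd (CommRingCat.ofHom q) (CommRingCat.ofHom p)))
      (Spec.map (pullback.fst (CommRingCat.ofHom q) (CommRingCat.ofHom p))) := by
  have h := Groth.Agent.H42.MilnorGlue.isMilnor_of_isPullback
    (pullback.fst (CommRingCat.ofHom q) (CommRingCat.ofHom p))
    (pullback.snd (CommRingCat.ofHom q) (CommRingCat.ofHom p))
    (CommRingCat.ofHom q) (CommRingCat.ofHom p)
    (IsPullback.of_hasPullback (CommRingCat.ofHom q) (CommRingCat.ofHom p)) hp
  have w : Spec.map (CommRingCat.ofHom p) ≫
      Spec.map (pullback.snd (CommRingCat.ofHom q) (CommRingCat.ofHom p)) =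
      Spec.map (CommRingCat.ofHom q) ≫
      Spec.map (pullback.fst (CommRingCat.ofHom q) (CommRingCat.ofHom p)) := by
    rw [← Spec.map_comp, ← Spec.map_comp, pullback.condition]
  refine ⟨⟨w⟩, ⟨PushoutCocone.IsColimit.mk _
    (fun s => (h.exists_desc s.inl s.inr s.condition).choose)
    (fun s => (h.exists_desc s.inl s.inr s.condition).choose_spec.1)
    (fun s => (h.exists_desc s.inl s.inr s.condition).choose_spec.2)
    (fun s m h1 h2 => ?_)⟩⟩
  exact h.hom_ext
    (h1.trans (h.exists_desc s.inl s.inr s.condition).choose_spec.1.symm)
    (h2.trans (h.exists_desc s.inl s.inr s.condition).choose_spec.2.symm)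

end Groth.Agent.S0433
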