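import Groth.Statements.S0434
import Groth.Agent.H8.GenericLocus
import Groth.Agent.S1301
import Groth.Agent.S9735

set_option autoImplicit false
universe u
open FlatMor

namespace Groth.Agent.S0434

open AlgebraicGeometry CategoryTheory Limits in
/-- For a morphism of finite type to an irreducible scheme whose generic fibre is geometrically reduced,
all fibres over some nonempty open of the target are geometrically reduced. -/
theorem result {X Y : Scheme.{u}} (f : X ⟶ Y) [IrreducibleSpace ↑Y] [LocallyOfFiniteType f] [QuasiCompact f]
    (h : GeometricallyReduced (f.fiberToSpecResidueField (genericPoint ↑Y))) :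
    ∃ V : Y.Opens, (V : Set ↑Y).Nonempty ∧ GeometricallyReduced (f ∣_ V) := by
  obtain ⟨V, hVne, hV⟩ := Groth.Agent.H8.GenericLocus.exists_open_subset_locus
    (fun {X Y} (f : X ⟶ Y) => {y : ↑Y | GeometricallyReduced (f.fiberToSpecResidueField y)})
    (fun f g f' g' hc => Groth.Agent.S9735.result f g f' g' hc)
    (fun f _ _ => Groth.Agent.S1301.result f) f h
  refine ⟨V, hVne, ?_⟩
  rw [geometricallyReduced_iff, geometrically_iff_forall_fiberToSpecResidueField]
  intro y
  have hE := Groth.Agent.S9735.result f V.ι (f ∣_ V) (f ⁻¹ᵁ V).ι (isPullback_morphismRestrict f V).flip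
  have hy : y ∈ {y' : ↑(V : Scheme.{u}) | GeometricallyReduced ((f ∣_ V).fiberToSpecResidueField y')} := by
    rw [hE]
    exact hV y.2
  exact (geometricallyReduced_iff _).mp hy

end Groth.Agent.S0434
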