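import Groth.Statements.S0438
import Groth.Agent.H68.ValReducedSch
-- import your own Groth.Agent.* helpers here

set_option autoImplicit false
universe u
open FlatMor

namespace Groth.Agent.S0438

open AlgebraicGeometry CategoryTheory Limits in
/-- For a proper flat morphism to the spectrum of a valuation ring whose special fibre is reduced, the
total space and every fibre are reduced. -/
theorem result {R : Type u} [CommRing R] [IsDomain R] [ValuationRing R] {X : Scheme.{u}}
    (f : X ⟶ Spec (CommRingCat.of R)) [IsProper f] [Flat f]
    (hred : IsReduced (f.fiber (IsLocalRing.closedPoint R))) :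
    IsReduced X ∧ ∀ s : ↑(Spec (CommRingCat.of R)), IsReduced (f.fiber s) := by
  have hred' : AlgebraicGeometry.IsReduced (f.fiber (IsLocalRing.closedPoint R)) := hred
  constructor
  · have : ∀ x : X, _root_.IsReduced (X.presheaf.stalk x) := fun x =>
      (Groth.Agent.H68.VR.stalk_reduced_and_fibreIdeal_isRadical f x).1
    exact isReduced_of_isReduced_stalk X
  · intro s
    have : ∀ y : ↑(f.fiber s), _root_.IsReduced ((f.fiber s).presheaf.stalk y) := by
      intro y
      have h1 := (Groth.Agent.H68.VR.stalk_reduced_and_fibreIdeal_isRadical f (f.fiberι s y)).2
      rw [Ideal.isRadical_iff_quotient_reduced] at h1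
      exact isReduced_of_injective
        (Groth.Agent.H49.FibreStalk.quotientEquivStalkFiber f s y).symm.toRingHom
        (Groth.Agent.H49.FibreStalk.quotientEquivStalkFiber f s y).symm.injective
    exact isReduced_of_isReduced_stalk (f.fiber s)

end Groth.Agent.S0438
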