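import Groth.Statements.S1353
import Mathlib
import Groth.Agent.H7.EtaleLocal

set_option autoImplicit false
universe u
open FlatMor

namespace Groth.Agent.S1353

open AlgebraicGeometry CategoryTheory Limits in
/-- Let f be locally of finite type and quasi-finite at a point x with image s. Then there are an
elementary étale neighbourhood (U, u) of (S, s) and an open V of the base change of X to U such that
V is finite over U, V has exactly one point v over u, and v maps to x inducing a bijection of
residue fields. (The source's further assertion that these properties persist after refining the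
étale neighbourhood is not stated.) -/
theorem result {X S : Scheme.{u}} (f : X ⟶ S) [LocallyOfFiniteType f] (x : X) (hx : f.QuasiFiniteAt x) :
    ∃ (U : Scheme.{u}) (g : U ⟶ S) (u : U), Hens2.IsEtaleNbhd g u (f x) ∧
      ∃ (V : (pullback f g).Opens) (v : ↑(pullback f g)), v ∈ V ∧ IsFinite (V.ι ≫ pullback.snd f g) ∧
        pullback.snd f g v = u ∧ (∀ w : ↑(pullback f g), w ∈ V → pullback.snd f g w = u → w = v) ∧
        pullback.fst f g v = x ∧ Function.Bijective ((pullback.fst f g).residueFieldMap v) := by
  obtain ⟨U, g, u, -, hget, hgu, hres, V, v, hV⟩ :=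
    Groth.Agent.H7.exists_etale_nbhd_finite_parts f (f x) (fun _ : Unit ↦ x) (fun _ ↦ rfl)
      (fun _ ↦ hx)
  obtain ⟨h1, h2, h3, h4, h5⟩ := hV ()
  refine ⟨U, g, u, ⟨hget, hgu, hres⟩, V (), v (), h1, h2, h3, h4, h5, ?_⟩
  have hsurj : ∀ y : U, y = u → Function.Surjective (g.residueFieldMap y).hom := by
    rintro y rfl
    exact hres.2
  exact ⟨((pullback.fst f g).residueFieldMap (v ())).hom.injective,
    Groth.Agent.H7.surjective_residueFieldMap_fst f g (v ()) (hsurj _ h3)⟩

end Groth.Agent.S1353
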