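import Groth.Statements.S0442
import Groth.Agent.S7625
import Groth.Agent.S1353
import Groth.Agent.H49.AffSpaceRelDim

set_option autoImplicit false
universe u
open FlatMor

namespace Groth.Agent.S0442

open AlgebraicGeometry CategoryTheory Limits in
/-- Local structure of a morphism locally of finite type: let f : X → S be locally of finite type, x a
point of X, and n the local dimension at x of its fibre. Then there are an étale morphism g : X' → X
with a point x' mapping to x such that the residue field map κ(x) → κ(x') is surjective (trivial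
residue field extension), a morphism h : Y → S smooth of relative dimension n, and a finite morphism
π : X' → Y with f ∘ g = h ∘ π, such that x' is the only point of X' mapping to π(x'). The published
statement also makes the residue field of π(x') purely transcendental over that of the image of x in
S; that is not stated here. -/
theorem result {X S : Scheme.{u}} (f : X ⟶ S) [LocallyOfFiniteType f] (x : X) (n : ℕ) (hn : FlatMor.fibreDimAt f x = n) :
    ∃ (X' Y : Scheme.{u}) (g : X' ⟶ X) (π : X' ⟶ Y) (h : Y ⟶ S) (x' : X'), g ≫ f = π ≫ h ∧ Etale g ∧ g x' = x ∧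
      Function.Surjective (g.residueFieldMap x') ∧ IsFinite π ∧ SmoothOfRelativeDimension n h ∧
      ∀ z : ↑X', π z = π x' → z = x' := by
  classical
  obtain ⟨V, hV, hxV⟩ : ∃ V : S.Opens, IsAffineOpen V ∧ f x ∈ V := by
    obtain ⟨_, ⟨V, hV, rfl⟩, hxV, -⟩ :=
      S.isBasis_affineOpens.exists_subset_of_mem_open (Set.mem_univ (f x)) isOpen_univ
    exact ⟨V, hV, hxV⟩
  obtain ⟨U, hU, hxU, g, π₀, hg, hπ₀, hqf, hft⟩ := Groth.Agent.S7625.result f x V hV hxV n hn
  let xU : (U : Scheme.{u}) := ⟨x, hxU⟩
  have hqfx : π₀.QuasiFiniteAt xU := π₀.quasiFiniteAt xU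
  obtain ⟨Y, e, y, hnb, V', v, hvV', hfin, hsnd, huniq, hfst, hres⟩ :=
    Groth.Agent.S1353.result π₀ xU hqfx
  haveI : Etale e := hnb.etale
  let p : 𝔸(ULift.{u} (Fin n); (V : Scheme.{u})) ⟶ (V : Scheme.{u}) :=
    𝔸(ULift.{u} (Fin n); (V : Scheme.{u})) ↘ (V : Scheme.{u})
  haveI hp : SmoothOfRelativeDimension n p := by
    have := Groth.Agent.H49.AffSpaceRelDim.smoothOfRelativeDimension_over (ULift.{u} (Fin n))
      (V : Scheme.{u})
    simpa using this
  let x' : (V' : Scheme.{u}) := ⟨v, hvV'⟩
  refine ⟨V', Y, V'.ι ≫ pullback.fst π₀ e ≫ U.ι, V'.ι ≫ pullback.snd π₀ e, e ≫ p ≫ V.ι, x',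
    ?_, ?_, ?_, ?_, hfin, ?_, ?_⟩
  · -- commutativity
    simp only [Category.assoc]
    rw [← hg, ← hπ₀, ← Category.assoc (pullback.snd π₀ e), ← pullback.condition]
    simp only [Category.assoc]
    rfl
  · infer_instance
  · change U.ι ((pullback.fst π₀ e) (V'.ι x')) = x
    have h1 : V'.ι x' = v := rfl
    rw [h1, hfst]
    rfl
  · -- residue fields
    rw [Scheme.residueFieldMap_comp, Scheme.residueFieldMap_comp]
    have h1 : V'.ι x' = v := rfl
    have hb1 : Function.Bijective (V'.ι.residueFieldMap x') :=
      ConcreteCategory.bijective_of_isIso _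
    have hb3 : Function.Bijective (U.ι.residueFieldMap ((pullback.fst π₀ e) (V'.ι x'))) :=
      ConcreteCategory.bijective_of_isIso _
    have hb2 : Function.Bijective ((pullback.fst π₀ e).residueFieldMap (V'.ι x')) := hres
    exact hb1.surjective.comp (hb2.surjective.comp hb3.surjective)
  · have h0 : SmoothOfRelativeDimension 0 e := inferInstance
    have : SmoothOfRelativeDimension (0 + (n + 0)) (e ≫ p ≫ V.ι) := inferInstance
    simpa using this
  · intro z hz
    apply Subtype.ext
    apply huniq z.1 z.2
    have h2 : (V'.ι ≫ pullback.snd π₀ e) z = (V'.ι ≫ pullback.snd π₀ e) x' := hz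
    have h3 : (V'.ι ≫ pullback.snd π₀ e) x' = y := hsnd
    rw [h3] at h2
    exact h2

end Groth.Agent.S0442
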