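import Groth.Statements.S0445


set_option autoImplicit false
universe u
open FlatMor

namespace Groth.Agent.S0445

open AlgebraicGeometry CategoryTheory Limits in
/-- Two morphisms over S into an S-scheme unramified over S which agree at a point and induce the same
map on residue fields there agree on an open neighbourhood of that point. -/
theorem result {X Y S : Scheme.{u}} (p : Y ⟶ S) [FormallyUnramified p] [LocallyOfFiniteType p] (f g : X ⟶ Y) (hfg : f ≫ p = g ≫ p)
    (x : X) (h1 : f x = g x) (h2 : f.residueFieldMap x = (Y.residueFieldCongr h1).hom ≫ g.residueFieldMap x) :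
    ∃ U : X.Opens, x ∈ U ∧ U.ι ≫ f = U.ι ≫ g := by
  -- the equalizer as a pullback of the diagonal
  have hopen : IsOpenImmersion (pullback.diagonal p) := inferInstance
  let fg : X ⟶ pullback p p := pullback.lift f g hfg
  let j : pullback fg (pullback.diagonal p) ⟶ X := pullback.fst fg (pullback.diagonal p)
  have hj : IsOpenImmersion j := inferInstance
  have heq : j ≫ f = j ≫ g := by
    have h3 : j ≫ fg = pullback.snd fg (pullback.diagonal p) ≫ pullback.diagonal p :=
      pullback.condition
    have h4 := congr($h3 ≫ pullback.fst p p)
    have h5 := congr($h3 ≫ pullback.snd p p)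
    simp only [Category.assoc, pullback.diagonal_fst, pullback.diagonal_snd, Category.comp_id,
      fg, pullback.lift_fst, pullback.lift_snd] at h4 h5
    rw [h4, h5]
  -- the residue field point factors through the equalizer
  have h6 : X.fromSpecResidueField x ≫ f = X.fromSpecResidueField x ≫ g := by
    rw [← Scheme.Hom.SpecMap_residueFieldMap_fromSpecResidueField,
      ← Scheme.Hom.SpecMap_residueFieldMap_fromSpecResidueField, h2, Spec.map_comp, Category.assoc]
    congr 1
    exact Scheme.residueFieldCongr_fromSpecResidueField h1
  have h7 : X.fromSpecResidueField x ≫ fg =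
      (X.fromSpecResidueField x ≫ f) ≫ pullback.diagonal p := by
    apply pullback.hom_ext
    · rw [Category.assoc, Category.assoc, pullback.lift_fst, pullback.diagonal_fst, Category.comp_id]
    · rw [Category.assoc, Category.assoc, pullback.lift_snd, pullback.diagonal_snd, Category.comp_id,
        h6]
  let l : Spec (X.residueField x) ⟶ pullback fg (pullback.diagonal p) :=
    pullback.lift (X.fromSpecResidueField x) (X.fromSpecResidueField x ≫ f) h7
  have hl : l ≫ j = X.fromSpecResidueField x := pullback.lift_fst _ _ _
  refine ⟨j.opensRange, ?_, ?_⟩
  · have h8 : x ∈ Set.range (X.fromSpecResidueField x) := by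
      rw [Scheme.range_fromSpecResidueField]
      exact Set.mem_singleton x
    obtain ⟨z, hz⟩ := h8
    refine ⟨l z, ?_⟩
    rw [← Scheme.Hom.comp_apply, hl, hz]
  · rw [← Scheme.Hom.isoOpensRange_inv_comp, Category.assoc, Category.assoc, heq]

end Groth.Agent.S0445
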