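import Groth.Statements.S0450
import Groth.Agent.H17.Val.DenseOpen
import Groth.Agent.H51.SpQuasiFiniteAt
import Groth.Agent.H17.Chev.QFin

set_option autoImplicit false
universe u
open FlatMor

namespace Groth.Agent.S0450

open AlgebraicGeometry CategoryTheory Limits in
/-- A flat proper morphism locally of finite presentation that is finite over a dense open subset of the
target is finite (the source alternatively allows the open to be retrocompact instead of assuming
finite presentation; only this alternative is stated). -/
theorem result {X S : Scheme.{u}} (f : X ⟶ S) [Flat f] [IsProper f] [LocallyOfFinitePresentation f] (U : S.Opens)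
    (hU : Dense (U : Set ↑S)) [IsFinite (f ∣_ U)] : IsFinite f := by
  haveI : LocallyQuasiFinite f := by
    refine Groth.Agent.H17.Chev.locallyQuasiFinite_of_forall_fibreDimAt_le_zero f fun x => ?_
    have h0 : ((0 : ℕ) : WithBot ℕ∞) = 0 := rfl
    rw [← h0]
    refine Groth.Agent.H17.Val.fibreDimAt_le_of_dense_of_lfp f U hU 0 (fun x' hx' => ?_) x
    have hx'' : x' ∈ f ⁻¹ᵁ U := hx'
    have h1 : FlatMor.fibreDimAt (f ∣_ U) ⟨x', hx''⟩ = FlatMor.fibreDimAt f x' := by
      have := Groth.Agent.H17.Chev.fibreDimAt_resLE f U (f ⁻¹ᵁ U) le_rfl ⟨x', hx''⟩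
      rw [Scheme.Hom.resLE_eq_morphismRestrict] at this
      exact this
    have h2 := Groth.Agent.H51.fibreDimAt_eq_zero_of_lqf (f ∣_ U) ⟨x', hx''⟩
    rw [h1] at h2
    rw [h2]
    rfl
  exact IsFinite.of_isProper_of_locallyQuasiFinite f

end Groth.Agent.S0450
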