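import Groth.Statements.S0466
import Groth.Agent.Lead.Coh.CechH1

set_option autoImplicit false
universe u
open CategoryTheory
open CohTop

namespace Groth.Agent.S0466

open TopologicalSpace Opposite in
/-- Consider a short exact sequence of abelian sheaves with kernel F, middle term G and quotient H, and
an open U. If every open covering of U admits a refinement on which the first Cech cohomology of F
vanishes, then sections of G over U map onto sections of H over U. -/
theorem result {X : TopCat.{u}}
    (S : CategoryTheory.ShortComplex (CohTop.Ab X)) (hS : S.ShortExact) (U : Opens X)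
    (h : ∀ (ι : Type u) (V : ι → Opens X), iSup V = U →
      ∃ (κ : Type u) (W : κ → Opens X) (r : κ → ι), iSup W = U ∧ (∀ k, W k ≤ V (r k)) ∧
        CategoryTheory.Limits.IsZero (CohTop.cechH S.X₁.obj W 1)) :
    Function.Surjective (S.g.hom.app (op U)) := by
  intro s
  obtain ⟨ι, V, hV, hlift, hcov⟩ := Groth.Agent.Lead.Cech.exists_family_lifts hS U s
  choose t ht using hlift
  obtain ⟨κ, W, r, hW, hle, hz⟩ := h ι V hcov
  subst hW
  have hex : (Groth.Agent.Lead.Cech.K W S.X₁.obj).ExactAt 1 := by
    rw [HomologicalComplex.exactAt_iff_isZero_homology]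
    exact hz
  refine Groth.Agent.Lead.Cech.exists_lift_of_exactAt_one hS W hex s
    (fun k => S.X₂.obj.map (homOfLE (hle k)).op (t (r k))) (fun k => ?_)
  have hn := ConcreteCategory.congr_hom (S.g.hom.naturality (homOfLE (hle k)).op) (t (r k))
  rw [ConcreteCategory.comp_apply, ConcreteCategory.comp_apply] at hn
  rw [hn, ht, Groth.Agent.Lead.Cech.map_map_apply]

end Groth.Agent.S0466
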