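import Groth.Statements.S0471
import Groth.Agent.H69.CS.Profinite

set_option autoImplicit false
universe u
open CategoryTheory
open CohTop

namespace Groth.Agent.S0471

/-- If X is profinite (compact, Hausdorff, totally disconnected), then H^(p+1)(X, F) = 0 for every
abelian sheaf F. -/
theorem result {X : TopCat.{u}} [CompactSpace X] [T2Space X] [TotallyDisconnectedSpace X]
    (F : CohTop.Ab X) (p : ℕ) : Subsingleton (CohTop.H F (p + 1)) := by
  exact ⟨fun x y => by
    rw [Groth.Agent.H69.CS.H_succ_eq_zero_profinite F p x,
      Groth.Agent.H69.CS.H_succ_eq_zero_profinite F p y]⟩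

end Groth.Agent.S0471
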