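import Groth.Statements.S0480
import Mathlib.Algebra.Homology.HomotopyCofiber
import Mathlib.Algebra.Homology.HomotopyCategory.KInjective
-- import your own Groth.Agent.* helpers here

set_option autoImplicit false
universe v u
open CategoryTheory
open CohDer

namespace Groth.Agent.S0480

open CategoryTheory.Limits in
/-- In an abelian category, if the product of a family of K-injective cochain complexes exists (it is
then the termwise product), it is again K-injective. -/
theorem result {A : Type u} [Category.{v} A] [Abelian A] {T : Type v} (I : T → CochainComplex A ℤ)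
    [HasProduct I] (h : ∀ t, (I t).IsKInjective) : (∏ᶜ I).IsKInjective := by
  refine ⟨fun {K} f hK => ?_⟩
  have hc : ∀ j : ℤ, ∃ i, (ComplexShape.up ℤ).Rel i j := fun j => ⟨j - 1, by simp⟩
  have hI := h
  let Φ : K.cylinder ⟶ ∏ᶜ I := Limits.Pi.lift (fun t =>
    HomologicalComplex.cylinder.desc (f ≫ Limits.Pi.π I t) 0
      (CochainComplex.IsKInjective.homotopyZero (f ≫ Limits.Pi.π I t) hK))
  have h0 : HomologicalComplex.cylinder.ι₀ K ≫ Φ = f := by
    apply Limits.Pi.hom_ext
    intro t
    simp [Φ]
  have h1 : HomologicalComplex.cylinder.ι₁ K ≫ Φ = 0 := by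
    apply Limits.Pi.hom_ext
    intro t
    simp [Φ]
  exact ⟨(Homotopy.ofEq h0.symm).trans
    (((HomologicalComplex.cylinder.homotopy₀₁ K hc).compRight Φ).trans (Homotopy.ofEq h1))⟩

end Groth.Agent.S0480
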