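import Groth.Statements.S0481
import Mathlib.Algebra.Homology.HomotopyCategory.KInjective
import Mathlib.Algebra.Homology.ShortComplex.PreservesHomology
import Mathlib.Algebra.Homology.Homotopy
-- import your own Groth.Agent.* helpers here

set_option autoImplicit false
universe v u
open CategoryTheory
open CohDer

namespace Groth.Agent.S0481

open CategoryTheory.Limits in
/-- Let u : A ⥤ B be right adjoint to an exact additive functor w : B ⥤ A between abelian categories.
Then u applied termwise sends K-injective complexes to K-injective complexes. -/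
theorem result {A : Type u} [Category.{v} A] [Abelian A]
    {B : Type u} [Category.{v} B] [Abelian B] (u : A ⥤ B) (w : B ⥤ A) (adj : w ⊣ u)
    [u.Additive] [w.Additive] [PreservesFiniteLimits w] [PreservesFiniteColimits w]
    (I : CochainComplex A ℤ) (h : I.IsKInjective) :
    CochainComplex.IsKInjective ((u.mapHomologicalComplex (ComplexShape.up ℤ)).obj I) := by
  refine ⟨fun {K} f hK => ?_⟩
  have hI := h
  let g : ∀ n, K.X n ⟶ u.obj (I.X n) := fun n => f.f n
  have hg : ∀ i j, g i ≫ u.map (I.d i j) = K.d i j ≫ g j := fun i j => f.comm i j
  -- the transpose of `f`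
  let fflat : (w.mapHomologicalComplex (ComplexShape.up ℤ)).obj K ⟶ I :=
    { f := fun n => w.map (g n) ≫ adj.counit.app (I.X n)
      comm' := by
        intro i j _
        have h2 : adj.counit.app (I.X i) ≫ I.d i j =
            w.map (u.map (I.d i j)) ≫ adj.counit.app (I.X j) :=
          (adj.counit.naturality (I.d i j)).symm
        change (w.map (g i) ≫ adj.counit.app (I.X i)) ≫ I.d i j =
          w.map (K.d i j) ≫ (w.map (g j) ≫ adj.counit.app (I.X j))
        rw [Category.assoc, h2, ← Category.assoc, ← w.map_comp, hg, w.map_comp, Category.assoc] }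
  -- the unit as a chain map
  let η : K ⟶ (u.mapHomologicalComplex (ComplexShape.up ℤ)).obj
      ((w.mapHomologicalComplex (ComplexShape.up ℤ)).obj K) :=
    { f := fun n => adj.unit.app (K.X n)
      comm' := by
        intro i j _
        change adj.unit.app (K.X i) ≫ u.map (w.map (K.d i j)) = K.d i j ≫ adj.unit.app (K.X j)
        exact adj.unit_naturality (K.d i j) }
  have hf : f = η ≫ (u.mapHomologicalComplex (ComplexShape.up ℤ)).map fflat := by
    ext n
    change g n = adj.unit.app (K.X n) ≫ u.map (w.map (g n) ≫ adj.counit.app (I.X n))
    rw [u.map_comp, ← Category.assoc, adj.unit_naturality (g n), Category.assoc,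
      adj.right_triangle_components, Category.comp_id]
  -- `w K` is acyclic
  have hwK : ((w.mapHomologicalComplex (ComplexShape.up ℤ)).obj K).Acyclic := by
    intro n
    exact (hK n).map w
  have hh : Homotopy fflat 0 := CochainComplex.IsKInjective.homotopyZero fflat hwK
  refine ⟨(Homotopy.ofEq hf).trans (((u.mapHomotopy hh).compLeft η).trans (Homotopy.ofEq ?_))⟩
  rw [Functor.map_zero, Limits.comp_zero]

end Groth.Agent.S0481
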