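import Groth.Statements.S0483
import Groth.Agent.H31.PushHU
-- import your own Groth.Agent.* helpers here

set_option autoImplicit false
universe u
open CategoryTheory
open CohSite

namespace Groth.Agent.S0483

open Groth.Agent.H31.SieveExt Groth.Agent.H31.LocTriv Groth.Agent.H31.PushHU
open CategoryTheory.Abelian Opposite

/-- For an abelian sheaf F on a small site, an object U and a class ξ in H^(n+1)(U, F), there is a
covering sieve of U such that ξ pulls back to zero along every arrow of the sieve. -/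
theorem result {C : Type u} [SmallCategory C] (J : GrothendieckTopology C)
    (F : Sheaf J AddCommGrpCat.{u}) (U : C) (n : ℕ) (ξ : CohSite.HU F (n + 1) U) :
    ∃ (S : J.Cover U), ∀ (a : S.Arrow), CohSite.res F (n + 1) a.f ξ = 0 := by
  let P : Cᵒᵖ ⥤ Type u := yoneda.obj U
  let K : Sheaf J (Type u) := (presheafToSheaf J (Type u)).obj P
  let e : Zs J P ≅ Zs J K.obj := ZsSheafifyIso J P
  let ξ₀ : Ext (Zs J P) F (n + 1) := ξ
  obtain ⟨K', f, hf, h0⟩ := exists_epi_comp_eq_zero n F K ((Ext.mk₀ e.inv).comp ξ₀ (zero_add _))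
  have hls : Sheaf.IsLocallySurjective f := (Sheaf.isLocallySurjective_iff_epi f).2 hf
  let s : K.obj.obj (op U) := (toSheafify J P).app (op U) (𝟙 U)
  have hS := Presheaf.imageSieve_mem J f.hom (U := op U) s
  refine ⟨⟨_, hS⟩, fun a => ?_⟩
  obtain ⟨t, ht⟩ := a.hf
  let τ : yoneda.obj a.Y ⟶ K'.obj := yonedaEquiv.symm t
  have hτ : τ ≫ f.hom = yoneda.map a.f ≫ toSheafify J P := by
    apply yonedaEquiv.injective
    rw [yonedaEquiv_comp, yonedaEquiv_comp, Equiv.apply_symm_apply]
    refine ht.trans ?_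
    have h1 := ConcreteCategory.congr_hom ((toSheafify J P).naturality a.f.op) (𝟙 U)
    refine h1.symm.trans ?_
    show (toSheafify J P).app (op a.Y) (a.f ≫ 𝟙 U) = (toSheafify J P).app (op a.Y) (𝟙 a.Y ≫ a.f)
    rw [Category.comp_id, Category.id_comp]
  let zτ : Zs J (yoneda.obj a.Y) ⟶ Zs J K'.obj :=
    (presheafToSheaf J AddCommGrpCat.{u}).map (Functor.whiskerRight τ AddCommGrpCat.free.{u})
  let za : Zs J (yoneda.obj a.Y) ⟶ Zs J P :=
    (presheafToSheaf J AddCommGrpCat.{u}).map
      (Functor.whiskerRight (yoneda.map a.f) AddCommGrpCat.free.{u})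
  have hz : za = zτ ≫ ZsMap f ≫ e.inv := by
    rw [← Category.assoc, Iso.eq_comp_inv]
    show (presheafToSheaf J AddCommGrpCat.{u}).map _ ≫ (presheafToSheaf J AddCommGrpCat.{u}).map _ =
      (presheafToSheaf J AddCommGrpCat.{u}).map _ ≫ (presheafToSheaf J AddCommGrpCat.{u}).map _
    rw [← Functor.map_comp, ← Functor.map_comp]
    congr 1
    show Functor.whiskerRight (yoneda.map a.f) _ ≫ Functor.whiskerRight (toSheafify J P) _ =
      Functor.whiskerRight τ _ ≫ Functor.whiskerRight f.hom _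
    rw [← Functor.whiskerRight_comp, ← Functor.whiskerRight_comp, hτ]
  show (Ext.mk₀ za).comp ξ₀ (zero_add _) = 0
  rw [hz, ← Ext.mk₀_comp_mk₀, ← Ext.mk₀_comp_mk₀, Ext.comp_assoc_of_second_deg_zero,
    Ext.comp_assoc_of_second_deg_zero, h0, Ext.comp_zero]

end Groth.Agent.S0483
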