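import Groth.Statements.S0490
import Mathlib.CategoryTheory.Triangulated.Orthogonal

set_option autoImplicit false
universe v u
open CategoryTheory
open CohDer

namespace Groth.Agent.S0490

open CategoryTheory.Pretriangulated in
/-- Let A be a full triangulated subcategory of a pretriangulated category D (an object property
containing zero, stable under shifts and closed under extensions). The inclusion A → D is a left
adjoint (i.e. has a right adjoint) if and only if every object X of D fits in a distinguished
triangle A → X → B → A[1] with A in the subcategory and B right orthogonal to it. (The source's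
further conclusions about saturation are not asserted.) -/
theorem result {D : Type u} [Category.{v} D] [Preadditive D] [Limits.HasZeroObject D] [HasShift D ℤ]
    [∀ n : ℤ, (shiftFunctor D n).Additive] [Pretriangulated D]
    (P : ObjectProperty D) [P.IsTriangulated] :
    P.ι.IsLeftAdjoint ↔ ∀ X : D, ∃ (A B : D) (f : A ⟶ X) (g : X ⟶ B) (h : B ⟶ (shiftFunctor D (1 : ℤ)).obj A),
      Triangle.mk f g h ∈ distinguishedTriangles ∧ P A ∧ P.rightOrthogonal B := by
  constructor
  · intro hι X
    let R := P.ι.rightAdjoint
    let adj : P.ι ⊣ R := Adjunction.ofIsLeftAdjoint P.ι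
    obtain ⟨B, g, h, hT⟩ := distinguished_cocone_triangle (adj.counit.app X)
    refine ⟨(R.obj X).obj, B, adj.counit.app X, g, h, hT, (R.obj X).property, ?_⟩
    -- bijectivity of composition with the counit
    have hbij : ∀ (A : D) (hA : P A),
        Function.Bijective (fun u : A ⟶ (R.obj X).obj => u ≫ adj.counit.app X) := by
      intro A hA
      have hb := (adj.homEquiv ⟨A, hA⟩ X).symm.bijective
      constructor
      · intro u₁ u₂ hu
        have : ObjectProperty.homMk (X := (⟨A, hA⟩ : P.FullSubcategory)) (Y := R.obj X) u₁ =
            ObjectProperty.homMk (X := (⟨A, hA⟩ : P.FullSubcategory)) (Y := R.obj X) u₂ := by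
          apply hb.1
          rw [Adjunction.homEquiv_counit, Adjunction.homEquiv_counit]
          exact hu
        exact congrArg (fun φ => φ.hom) this
      · intro v
        obtain ⟨u, hu⟩ := hb.2 v
        rw [Adjunction.homEquiv_counit] at hu
        exact ⟨u.hom, hu⟩
    intro A w hA
    -- first `w ≫ h = 0`
    have h1 : w ≫ h = 0 := by
      let A₀ := (shiftFunctor D (-1 : ℤ)).obj A
      have hA₀ : P A₀ := P.le_shift (-1 : ℤ) _ hA
      let e : (shiftFunctor D (1 : ℤ)).obj A₀ ≅ A :=
        (shiftFunctorCompIsoId D (-1 : ℤ) 1 (by simp)).app A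
      obtain ⟨ψ, hψ⟩ := (shiftFunctor D (1 : ℤ)).map_surjective (e.hom ≫ w ≫ h)
      have h2 : ψ ≫ adj.counit.app X = 0 := by
        apply (shiftFunctor D (1 : ℤ)).map_injective
        rw [Functor.map_comp, hψ, Functor.map_zero, Category.assoc, Category.assoc]
        have := comp_distTriang_mor_zero₂₃ _ (rot_of_distTriang _ hT)
        change h ≫ (-(shiftFunctor D (1 : ℤ)).map (adj.counit.app X)) = 0 at this
        rw [Preadditive.comp_neg, neg_eq_zero] at this
        rw [this, Limits.comp_zero, Limits.comp_zero]
      have h3 : ψ = 0 := (hbij A₀ hA₀).1 (by simpa using h2)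
      rw [h3, Functor.map_zero] at hψ
      rw [← cancel_epi e.hom, ← hψ, Limits.comp_zero]
    obtain ⟨w', rfl⟩ := Triangle.coyoneda_exact₃ _ hT w h1
    obtain ⟨w'', rfl⟩ := (hbij A hA).2 w'
    change (w'' ≫ adj.counit.app X) ≫ g = 0
    rw [Category.assoc]
    have := comp_distTriang_mor_zero₁₂ _ hT
    change adj.counit.app X ≫ g = 0 at this
    rw [this, Limits.comp_zero]
  · intro H
    choose A B f g h hT hA hB using H
    have hbij : ∀ (X : D) (Y : P.FullSubcategory),
        Function.Bijective (fun u : Y.obj ⟶ A X => u ≫ f X) := by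
      intro X Y
      constructor
      · suffices h0 : ∀ u : Y.obj ⟶ A X, u ≫ f X = 0 → u = 0 by
          intro u₁ u₂ hu
          have := h0 (u₁ - u₂) (by simpa [sub_eq_zero] using hu)
          exact sub_eq_zero.1 this
        intro u hu
        obtain ⟨v, hv⟩ := Triangle.coyoneda_exact₂ _ (inv_rot_of_distTriang _ (hT X)) u hu
        have hB' : P.rightOrthogonal ((shiftFunctor D (-1 : ℤ)).obj (B X)) :=
          P.rightOrthogonal.le_shift (-1 : ℤ) _ (hB X)
        have : v = 0 := hB' v Y.property
        rw [hv, this]
        exact Limits.zero_comp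
      · intro v
        have : v ≫ g X = 0 := hB X _ Y.property
        obtain ⟨u, hu⟩ := Triangle.coyoneda_exact₂ _ (hT X) v this
        exact ⟨u, hu.symm⟩
    let e : ∀ (Y : P.FullSubcategory) (X : D),
        (P.ι.obj Y ⟶ X) ≃ (Y ⟶ (⟨A X, hA X⟩ : P.FullSubcategory)) := fun Y X =>
      { toFun := fun v => ObjectProperty.homMk ((hbij X Y).2 v).choose
        invFun := fun u => u.hom ≫ f X
        left_inv := fun v => ((hbij X Y).2 v).choose_spec
        right_inv := fun u => by
          apply ObjectProperty.hom_ext
          apply (hbij X Y).1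
          exact ((hbij X Y).2 (u.hom ≫ f X)).choose_spec }
    exact (Adjunction.adjunctionOfEquivRight e (by
      intro Y' Y X k v
      apply ObjectProperty.hom_ext
      apply (hbij X Y').1
      have h1 := ((hbij X Y').2 (P.ι.map k ≫ v)).choose_spec
      have h2 := ((hbij X Y).2 v).choose_spec
      dsimp [e] at h1 h2 ⊢
      rw [h1, Category.assoc, h2])).isLeftAdjoint

end Groth.Agent.S0490
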