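import Groth.Statements.S0493
import Groth.Agent.Lead.Coh.Cartan

set_option autoImplicit false
universe u
open CohTop

namespace Groth.Agent.S0493

open TopologicalSpace CategoryTheory.Limits in
/-- Let B be a basis of opens of X and Cov a class of families of opens such that (1) every family in
Cov has its union, its members and all finite intersections of members in B, (2) for U in B every
open covering of U is refined by a family in Cov with union U, and (3) the Cech cohomology of F in
positive degrees vanishes for every family in Cov. Then H^(p+1)(U, F) = 0 for every U in B. -/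
theorem result {X : TopCat.{u}} (F : CohTop.Ab X)
    (B : Set (Opens X)) (hB : Opens.IsBasis B) (Cov : ∀ (ι : Type u), (ι → Opens X) → Prop)
    (h1 : ∀ (ι : Type u) (V : ι → Opens X), Cov ι V →
      iSup V ∈ B ∧ ∀ (p : ℕ) (a : Fin (p + 1) → ι), (iInf fun k => V (a k)) ∈ B)
    (h2 : ∀ U ∈ B, ∀ (κ : Type u) (W : κ → Opens X), iSup W = U →
      ∃ (ι : Type u) (V : ι → Opens X), Cov ι V ∧ iSup V = U ∧ ∀ i, ∃ k, V i ≤ W k)
    (h3 : ∀ (ι : Type u) (V : ι → Opens X), Cov ι V → ∀ p : ℕ, IsZero (CohTop.cechH F.obj V (p + 1)))
    (U : Opens X) (hU : U ∈ B) (p : ℕ) : Subsingleton (CohTop.HU F (p + 1) U) := by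
  have hBC : Groth.Agent.Lead.Cech.CartanData (X := X) B Cov :=
    { mem := fun ι V hV p a => by
        rw [Groth.Agent.Lead.Cech.cechOpen_eq_iInf]
        exact (h1 ι V hV).2 p a
      refine := h2 }
  have hF : Groth.Agent.Lead.Cech.CovAcyclic (X := X) Cov F := by
    intro ι V hV p
    rw [HomologicalComplex.exactAt_iff_isZero_homology]
    exact h3 ι V hV p
  exact ⟨fun x y => (hBC.ext_eq_zero p F hF hU x).trans (hBC.ext_eq_zero p F hF hU y).symm⟩

end Groth.Agent.S0493
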