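import Groth.Statements.S0496
import Mathlib.RingTheory.Nakayama
import Mathlib.RingTheory.AdjoinRoot
import Mathlib.RingTheory.Polynomial.Basic
import Mathlib.Tactic.LinearCombination
import Mathlib.Tactic.Ring
-- import your own Groth.Agent.* helpers here

set_option autoImplicit false
universe u
open Hensel

namespace Groth.Agent.S0496

/-- If every factorization of the reduction of a monic polynomial into two coprime factors over the
residue field lifts to a factorization over the local ring, then the local ring is henselian. -/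
theorem result (R : Type u) [CommRing R] [IsLocalRing R]
    (h : ∀ f : Polynomial R, f.Monic →
      ∀ g₀ h₀ : Polynomial (IsLocalRing.ResidueField R), IsCoprime g₀ h₀ →
      Polynomial.map (IsLocalRing.residue R) f = g₀ * h₀ →
      ∃ g h : Polynomial R, f = g * h ∧ Polynomial.map (IsLocalRing.residue R) g = g₀ ∧
        Polynomial.map (IsLocalRing.residue R) h = h₀) :
    HenselianLocalRing R := by
  classical
  refine ⟨fun f hf a₀ h₁ h₂ => ?_⟩
  set k := IsLocalRing.ResidueField R
  set res := IsLocalRing.residue R
  have hres_surj : Function.Surjective res := IsLocalRing.residue_surjective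
  set fb := Polynomial.map res f with hfb
  set b₀ := res a₀ with hb₀
  -- `b₀` is a root of `fb`
  have hroot : fb.IsRoot b₀ := by
    rw [Polynomial.IsRoot.def, hfb, Polynomial.eval_map, Polynomial.eval₂_hom]
    exact (IsLocalRing.residue_eq_zero_iff _).mpr h₁
  set h₀ := fb /ₘ (Polynomial.X - Polynomial.C b₀) with hh₀
  have hfac : fb = (Polynomial.X - Polynomial.C b₀) * h₀ :=
    (Polynomial.mul_divByMonic_eq_iff_isRoot.mpr hroot).symm
  -- the derivative at `b₀` equals `h₀(b₀)`
  have hder : (Polynomial.derivative fb).eval b₀ = h₀.eval b₀ := by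
    rw [hfac]
    simp [Polynomial.derivative_mul]
  have hder_ne : (Polynomial.derivative fb).eval b₀ ≠ 0 := by
    rw [hfb, Polynomial.derivative_map, Polynomial.eval_map, Polynomial.eval₂_hom]
    intro h0
    have : (Polynomial.derivative f).eval a₀ ∈ IsLocalRing.maximalIdeal R :=
      (IsLocalRing.residue_eq_zero_iff _).mp h0
    exact (IsLocalRing.mem_maximalIdeal _).mp this h₂
  have hcop : IsCoprime (Polynomial.X - Polynomial.C b₀) h₀ := by
    rw [(Polynomial.irreducible_X_sub_C b₀).coprime_iff_not_dvd, Polynomial.dvd_iff_isRoot,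
      Polynomial.IsRoot.def, ← hder]
    exact hder_ne
  obtain ⟨g, hh, hfgh, hg, hhh⟩ := h f hf _ _ hcop hfac
  -- Nakayama in `A = R[X]/(f)`
  let A := AdjoinRoot f
  have : Module.Finite R A := hf.finite_adjoinRoot
  let N : Submodule R A :=
    Submodule.span R {(1 : A)} ⊔ (Ideal.span {AdjoinRoot.mk f g}).restrictScalars R
  have hN : (⊤ : Submodule R A) ≤ N := by
    refine Submodule.le_of_le_smul_of_le_jacobson_bot Module.Finite.fg_top
      (IsLocalRing.maximalIdeal_le_jacobson _) ?_
    intro x _
    obtain ⟨p, rfl⟩ := AdjoinRoot.mk_surjective x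
    -- divide `map p` by `X - C b₀`
    set pb := Polynomial.map res p with hpb
    obtain ⟨q, hq⟩ := Polynomial.map_surjective res hres_surj (pb /ₘ (Polynomial.X - Polynomial.C b₀))
    obtain ⟨c, hc⟩ := hres_surj (pb.eval b₀)
    have hdiv : pb = Polynomial.C (pb.eval b₀) + (Polynomial.X - Polynomial.C b₀) *
        (pb /ₘ (Polynomial.X - Polynomial.C b₀)) := by
      have := Polynomial.modByMonic_add_div pb (Polynomial.X - Polynomial.C b₀)
      rw [Polynomial.modByMonic_X_sub_C_eq_C_eval] at this
      exact this.symm
    have hzero : Polynomial.map res (p - Polynomial.C c - g * q) = 0 := by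
      rw [Polynomial.map_sub, Polynomial.map_sub, Polynomial.map_mul, Polynomial.map_C, hc, hg, hq,
        ← hpb]
      linear_combination hdiv
    have hmem : AdjoinRoot.mk f (p - Polynomial.C c - g * q) ∈
        (IsLocalRing.maximalIdeal R) • (⊤ : Submodule R A) := by
      rw [Ideal.smul_top_eq_map, Submodule.restrictScalars_mem]
      have h1 : (p - Polynomial.C c - g * q) ∈
          Ideal.map (Polynomial.C : R →+* Polynomial R) (IsLocalRing.maximalIdeal R) := by
        rw [Ideal.mem_map_C_iff]
        intro n
        have := congrArg (fun r => Polynomial.coeff r n) hzero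
        simp only [Polynomial.coeff_map, Polynomial.coeff_zero] at this
        exact (IsLocalRing.residue_eq_zero_iff _).mp this
      have h2 := Ideal.mem_map_of_mem (AdjoinRoot.mk f) h1
      rw [Ideal.map_map] at h2
      exact h2
    have hx : AdjoinRoot.mk f p = (c • (1 : A) + AdjoinRoot.mk f g * AdjoinRoot.mk f q) +
        AdjoinRoot.mk f (p - Polynomial.C c - g * q) := by
      simp only [map_sub, map_mul, AdjoinRoot.mk_C, Algebra.smul_def, mul_one]
      rw [AdjoinRoot.algebraMap_eq]
      ring
    rw [hx]
    refine Submodule.add_mem_sup (Submodule.add_mem_sup ?_ ?_) hmem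
    · exact Submodule.smul_mem _ _ (Submodule.subset_span rfl)
    · rw [Submodule.restrictScalars_mem]
      exact Ideal.mul_mem_right _ _ (Ideal.subset_span rfl)
  -- write `X` as `a + g * w` modulo `f`
  have hX : AdjoinRoot.mk f Polynomial.X ∈ N := hN Submodule.mem_top
  obtain ⟨y, hy, z, hz, hyz⟩ := Submodule.mem_sup.mp hX
  obtain ⟨a, rfl⟩ := Submodule.mem_span_singleton.mp hy
  rw [Submodule.restrictScalars_mem, Ideal.mem_span_singleton] at hz
  obtain ⟨w', rfl⟩ := hz
  obtain ⟨w, rfl⟩ := AdjoinRoot.mk_surjective w'
  have hX' : AdjoinRoot.mk f (Polynomial.X - Polynomial.C a - g * w) = 0 := by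
    simp only [map_sub, map_mul, AdjoinRoot.mk_C]
    rw [← hyz, Algebra.smul_def, mul_one, AdjoinRoot.algebraMap_eq]
    ring
  rw [AdjoinRoot.mk_eq_zero] at hX'
  obtain ⟨v, hv⟩ := hX'
  -- `X - C a = g * W`
  set W := w + hh * v with hW
  have hXa : Polynomial.X - Polynomial.C a = g * W := by
    rw [hW]
    linear_combination hv + v * hfgh
  -- reduce modulo the maximal ideal
  have hXab : Polynomial.X - Polynomial.C (res a) =
      (Polynomial.X - Polynomial.C b₀) * Polynomial.map res W := by
    have := congrArg (Polynomial.map res) hXa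
    rwa [Polynomial.map_sub, Polynomial.map_X, Polynomial.map_C, Polynomial.map_mul, hg] at this
  have hab : res a = b₀ := by
    have := congrArg (Polynomial.eval b₀) hXab
    simp only [Polynomial.eval_sub, Polynomial.eval_X, Polynomial.eval_C, Polynomial.eval_mul,
      sub_self, zero_mul] at this
    exact (sub_eq_zero.mp this).symm
  have hWb : Polynomial.map res W = 1 := by
    rw [hab] at hXab
    have hne : (Polynomial.X - Polynomial.C b₀ : Polynomial k) ≠ 0 := Polynomial.X_sub_C_ne_zero b₀
    have : (Polynomial.X - Polynomial.C b₀) * (Polynomial.map res W - 1) = 0 := by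
      linear_combination -hXab
    rcases mul_eq_zero.mp this with h0 | h0
    · exact absurd h0 hne
    · exact sub_eq_zero.mp h0
  have hWa : IsUnit (W.eval a) := by
    have : res (W.eval a) = 1 := by
      have h3 := congrArg (Polynomial.eval (res a)) hWb
      rw [Polynomial.eval_map, Polynomial.eval₂_hom, Polynomial.eval_one] at h3
      exact h3
    by_contra hnu
    have h0 : res (W.eval a) = 0 :=
      (IsLocalRing.residue_eq_zero_iff _).mpr ((IsLocalRing.mem_maximalIdeal _).mpr hnu)
    rw [this] at h0
    exact one_ne_zero h0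
  have hga : g.eval a = 0 := by
    have := congrArg (Polynomial.eval a) hXa
    simp only [Polynomial.eval_sub, Polynomial.eval_X, Polynomial.eval_C, Polynomial.eval_mul,
      sub_self] at this
    exact (hWa.mul_left_eq_zero).mp this.symm
  refine ⟨a, ?_, ?_⟩
  · rw [Polynomial.IsRoot.def, hfgh, Polynomial.eval_mul, hga, zero_mul]
  · rw [← IsLocalRing.residue_eq_zero_iff, map_sub, hab, hb₀, sub_self]

end Groth.Agent.S0496
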