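import Groth.Statements.S0498
import Groth.Agent.H3.FactorLiftMain
-- import your own Groth.Agent.* helpers here

set_option autoImplicit false
universe u
open Hensel

namespace Groth.Agent.S0498

/-- Over a henselian local ring, a simple root in the residue field of the reduction of an arbitrary
polynomial (monic or not) lifts to a root in the ring. -/
theorem result (R : Type u) [CommRing R] [HenselianLocalRing R]
    (f : Polynomial R) (a₀ : IsLocalRing.ResidueField R)
    (h₁ : Polynomial.eval₂ (IsLocalRing.residue R) a₀ f = 0)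
    (h₂ : Polynomial.eval₂ (IsLocalRing.residue R) a₀ (Polynomial.derivative f) ≠ 0) :
    ∃ a : R, Polynomial.IsRoot f a ∧ IsLocalRing.residue R a = a₀ := by
  classical
  set fb := Polynomial.map (IsLocalRing.residue R) f with hfb
  have hroot : fb.IsRoot a₀ := by
    rw [Polynomial.IsRoot.def, hfb, Polynomial.eval_map]
    exact h₁
  set h₀ := fb /ₘ (Polynomial.X - Polynomial.C a₀) with hh₀
  have hfac : fb = (Polynomial.X - Polynomial.C a₀) * h₀ :=
    (Polynomial.mul_divByMonic_eq_iff_isRoot.mpr hroot).symm
  have hder : (Polynomial.derivative fb).eval a₀ = h₀.eval a₀ := by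
    rw [hfac]
    simp [Polynomial.derivative_mul]
  have hder_ne : (Polynomial.derivative fb).eval a₀ ≠ 0 := by
    rw [hfb, Polynomial.derivative_map, Polynomial.eval_map]
    exact h₂
  have hcop : IsCoprime (Polynomial.X - Polynomial.C a₀) h₀ := by
    rw [(Polynomial.irreducible_X_sub_C a₀).coprime_iff_not_dvd, Polynomial.dvd_iff_isRoot,
      Polynomial.IsRoot.def, ← hder]
    exact hder_ne
  obtain ⟨g, h, hfgh, hgm, hg, -⟩ :=
    Groth.Agent.H3.factor_lift R f _ _ (Polynomial.monic_X_sub_C a₀) hcop hfac
  -- `g` is monic of degree one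
  have hdeg : g.natDegree = 1 := by
    have h1 : (Polynomial.map (IsLocalRing.residue R) g).natDegree = g.natDegree :=
      hgm.natDegree_map _
    rw [← h1, hg, Polynomial.natDegree_X_sub_C]
  have hgX : g = Polynomial.X + Polynomial.C (g.coeff 0) := by
    have := Polynomial.eq_X_add_C_of_natDegree_le_one (p := g) hdeg.le
    rw [this]
    have hl : g.coeff 1 = 1 := by
      have := hgm.coeff_natDegree
      rwa [hdeg] at this
    rw [hl]
    simp
  refine ⟨-g.coeff 0, ?_, ?_⟩
  · rw [Polynomial.IsRoot.def, hfgh, Polynomial.eval_mul]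
    have : g.eval (-g.coeff 0) = 0 := by
      rw [hgX]
      simp
    rw [this, zero_mul]
  · have h2 := congrArg (fun q => Polynomial.coeff q 0) hg
    simp only [Polynomial.coeff_map, Polynomial.coeff_sub, Polynomial.coeff_X_zero,
      Polynomial.coeff_C_zero, zero_sub] at h2
    rw [map_neg, h2, neg_neg]

end Groth.Agent.S0498
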