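import Groth.Statements.S0502
import Groth.Agent.H3.HenselEtale

set_option autoImplicit false
universe u
open Hensel

namespace Groth.Agent.S0502

open Polynomial IsLocalRing in
/-- A local ring `R` is henselian as soon as every étale `R`-algebra having a prime over the maximal
ideal with trivial residue field extension admits an `R`-algebra retraction to `R`. -/
theorem result (R : Type u) [CommRing R] [IsLocalRing R]
    (h : ∀ (S : Type u) [CommRing S] [Algebra R S] [Algebra.Etale R S] (q : Ideal S) [q.IsPrime],
      q.LiesOver (IsLocalRing.maximalIdeal R) → Function.Surjective (algebraMap R q.ResidueField) →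
      Nonempty (S →ₐ[R] R)) :
    HenselianLocalRing R := by
  apply ((HenselianLocalRing.TFAE R).out 0 1).mpr
  intro f hf a₀ h₁ h₂
  have hroot : (f.map (residue R)).IsRoot a₀ := by
    rw [IsRoot, eval_map, ← ResidueField.algebraMap_eq, ← aeval_def]; exact h₁
  obtain ⟨hbar, hh⟩ := dvd_iff_isRoot.mpr hroot
  obtain ⟨h', rfl⟩ := map_surjective (residue R) residue_surjective hbar
  have hh0 : aeval a₀ h' ≠ 0 := by
    have e : aeval a₀ (derivative f) = eval a₀ (derivative (f.map (residue R))) := by
      rw [derivative_map, eval_map, ← ResidueField.algebraMap_eq, ← aeval_def]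
    rw [e, hh, derivative_mul] at h₂
    simpa [aeval_def, eval_map] using h₂
  let P : StandardEtalePair R := ⟨f, hf, derivative f * h', ⟨h', 0, 1, by ring⟩⟩
  have hmap : P.HasMap a₀ := by
    refine ⟨h₁, ?_⟩
    change IsUnit (aeval a₀ (derivative f * h'))
    rw [map_mul]
    exact (isUnit_iff_ne_zero.mpr h₂).mul (isUnit_iff_ne_zero.mpr hh0)
  let σ : P.Ring →ₐ[R] ResidueField R := P.lift a₀ hmap
  have hσsurj : Function.Surjective σ := fun x => by
    obtain ⟨r, rfl⟩ := residue_surjective x
    exact ⟨algebraMap R _ r, by rw [AlgHom.commutes]; rfl⟩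
  have hmax : (RingHom.ker σ.toRingHom).IsMaximal := RingHom.ker_isMaximal_of_surjective _ hσsurj
  have hlies : (RingHom.ker σ.toRingHom).LiesOver (maximalIdeal R) := by
    constructor
    ext r
    rw [Ideal.under, Ideal.mem_comap, RingHom.mem_ker]
    change _ ↔ σ (algebraMap R _ r) = 0
    rw [AlgHom.commutes, ← Ideal.Quotient.eq_zero_iff_mem]
    rfl
  have hsurj : Function.Surjective (algebraMap R (RingHom.ker σ.toRingHom).ResidueField) := by
    intro x
    obtain ⟨s, rfl⟩ := Ideal.algebraMap_residueField_surjective _ x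
    obtain ⟨r, hr⟩ := residue_surjective (σ s)
    refine ⟨r, ?_⟩
    rw [IsScalarTower.algebraMap_apply R P.Ring, ← sub_eq_zero, ← map_sub,
      Ideal.algebraMap_residueField_eq_zero, RingHom.mem_ker, map_sub, sub_eq_zero]
    change σ (algebraMap R _ r) = σ s
    rw [AlgHom.commutes, ← hr]
    rfl
  obtain ⟨ρ⟩ := h P.Ring (RingHom.ker σ.toRingHom) hlies hsurj
  have hρ : P.HasMap (ρ P.X) := P.hasMap_X.map ρ
  refine ⟨ρ P.X, ?_, ?_⟩
  · have := hρ.1
    change aeval (ρ P.X) f = 0 at this
    rwa [coe_aeval_eq_eval] at this
  · have hu : IsUnit (aeval (ρ P.X) h') := by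
      have := hρ.2
      change IsUnit (aeval (ρ P.X) (derivative f * h')) at this
      rw [map_mul] at this
      exact isUnit_of_mul_isUnit_right this
    have e0 : eval (residue R (ρ P.X)) (f.map (residue R)) = 0 := by
      rw [eval_map, eval₂_at_apply]
      have := hρ.1
      change aeval (ρ P.X) f = 0 at this
      rw [coe_aeval_eq_eval] at this
      rw [this, map_zero]
    rw [hh, eval_mul, eval_sub, eval_X, eval_C, mul_eq_zero] at e0
    rcases e0 with e0 | e0
    · exact sub_eq_zero.mp e0
    · exfalso
      rw [eval_map, eval₂_at_apply] at e0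
      have : IsUnit (residue R (eval (ρ P.X) h')) := by
        rw [coe_aeval_eq_eval] at hu
        exact hu.map _
      exact this.ne_zero e0

end Groth.Agent.S0502
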