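import Groth.Statements.S0504
import Groth.Agent.H3.HenselQF2
import Groth.Agent.H3.IsolatedFinite

set_option autoImplicit false
universe u
open Hensel

namespace Groth.Agent.S0504

/-- Quasi-finiteness at a prime of `S ⧸ (e)`, `e` idempotent, gives quasi-finiteness at its
preimage in `S`. -/
theorem quasiFiniteAt_comap_mk {R S : Type*} [CommRing R] [CommRing S] [Algebra R S] {e : S}
    (he : IsIdempotentElem e) (q : Ideal (S ⧸ Ideal.span ({e} : Set S))) [q.IsPrime]
    [Algebra.QuasiFiniteAt R q] :
    Algebra.QuasiFiniteAt R (q.comap (Ideal.Quotient.mk (Ideal.span ({e} : Set S)))) := by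
  set q' := q.comap (Ideal.Quotient.mk (Ideal.span ({e} : Set S))) with hq'
  have heq : e ∈ q' := by
    rw [hq', Ideal.mem_comap]
    have : Ideal.Quotient.mk (Ideal.span ({e} : Set S)) e = 0 :=
      Ideal.Quotient.eq_zero_iff_mem.mpr (Ideal.subset_span rfl)
    rw [this]; exact zero_mem _
  have h1e : 1 - e ∉ q' := fun h => by
    have := q'.add_mem h heq
    rw [sub_add_cancel] at this
    exact (Ideal.IsPrime.ne_top inferInstance) ((Ideal.eq_top_iff_one _).mpr this)
  have he0 : algebraMap S (Localization.AtPrime q') e = 0 := by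
    have hu : IsUnit (algebraMap S (Localization.AtPrime q') (1 - e)) :=
      IsLocalization.map_units (M := q'.primeCompl) _ ⟨1 - e, h1e⟩
    have h0 : algebraMap S (Localization.AtPrime q') e *
        algebraMap S (Localization.AtPrime q') (1 - e) = 0 := by
      rw [← map_mul, mul_sub, mul_one, he.eq, sub_self, map_zero]
    exact (hu.mul_left_eq_zero).mp h0
  let f₀ : S ⧸ Ideal.span ({e} : Set S) →ₐ[R] Localization.AtPrime q' :=
    Ideal.Quotient.liftₐ _ (IsScalarTower.toAlgHom R S (Localization.AtPrime q')) (by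
      intro a ha
      rw [Ideal.mem_span_singleton'] at ha
      obtain ⟨b, rfl⟩ := ha
      change algebraMap S _ (b * e) = 0
      rw [map_mul, he0, mul_zero])
  have hf₀ : ∀ s : S, f₀ (Ideal.Quotient.mk _ s) = algebraMap S _ s := fun s => rfl
  let f : Localization.AtPrime q →ₐ[R] Localization.AtPrime q' :=
    IsLocalization.liftAlgHom (M := q.primeCompl) (f := f₀) (by
      rintro ⟨y, hy⟩
      obtain ⟨s, rfl⟩ := Ideal.Quotient.mk_surjective y
      rw [hf₀]
      exact IsLocalization.map_units (M := q'.primeCompl) _ ⟨s, fun h => hy h⟩)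
  apply Algebra.QuasiFinite.of_surjective_algHom f
  intro x
  obtain ⟨x, ⟨s, hs⟩, rfl⟩ := IsLocalization.exists_mk'_eq q'.primeCompl x
  refine ⟨IsLocalization.mk' (M := q.primeCompl) _ (Ideal.Quotient.mk (Ideal.span ({e} : Set S)) x)
    ⟨Ideal.Quotient.mk (Ideal.span ({e} : Set S)) s, fun h => hs h⟩, ?_⟩
  rw [IsLocalization.eq_mk'_iff_mul_eq]
  have : algebraMap S (Localization.AtPrime q') s =
      f (algebraMap _ _ (Ideal.Quotient.mk (Ideal.span ({e} : Set S)) s)) := by
    simp [f, hf₀]
  rw [this, ← map_mul, IsLocalization.mk'_spec]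
  simp [f, hf₀]

open IsLocalRing Groth.Agent.H3 in
/-- A finite-type algebra `S` over a henselian local ring `R` contains an idempotent `e` such that
`S/(1-e)` is finitely generated as an `R`-module and `R → S/(e)` is quasi-finite at no prime lying
over the maximal ideal of `R`. -/
theorem result (R : Type u) [CommRing R] [HenselianLocalRing R]
    (S : Type u) [CommRing S] [Algebra R S] [Algebra.FiniteType R S] :
    ∃ e : S, IsIdempotentElem e ∧ Module.Finite R (S ⧸ Ideal.span ({1 - e} : Set S)) ∧
      ∀ (q : Ideal (S ⧸ Ideal.span ({e} : Set S))) [q.IsPrime],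
        q.LiesOver (IsLocalRing.maximalIdeal R) → ¬ Algebra.QuasiFiniteAt R q := by
  classical
  have hfin := finite_quasiFiniteAt_primesOver R S (maximalIdeal R)
  obtain ⟨e, hei, hefg, heF⟩ := exists_idempotent_of_finset R S hfin.toFinset (by
    intro q hq
    rw [Set.Finite.mem_toFinset] at hq
    exact hq)
  refine ⟨e, hei, finite_quotient_of_idemSub_fg hefg, ?_⟩
  intro q hq hqm hqf
  have hmem : q.comap (Ideal.Quotient.mk (Ideal.span ({e} : Set S))) ∈ hfin.toFinset := by
    rw [Set.Finite.mem_toFinset]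
    refine ⟨inferInstance, ?_, quasiFiniteAt_comap_mk hei q⟩
    constructor
    rw [Ideal.under, Ideal.comap_comap]
    exact hqm.over
  apply heF _ hmem
  rw [Ideal.mem_comap]
  have : Ideal.Quotient.mk (Ideal.span ({e} : Set S)) e = 0 :=
    Ideal.Quotient.eq_zero_iff_mem.mpr (Ideal.subset_span rfl)
  rw [this]
  exact zero_mem _

end Groth.Agent.S0504
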