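import Groth.Statements.S0507
import Groth.Agent.H3.Henselization
import Mathlib.Algebra.Field.Equiv
-- import your own Groth.Agent.* helpers here

set_option autoImplicit false
universe u
open Hensel

namespace Groth.Agent.S0507

/-- The maximal ideal of the henselization of a local ring `R` is generated by the maximal ideal of `R`. -/
theorem result (R : Type u) [CommRing R] [IsLocalRing R] (S : Type u) [CommRing S] [IsLocalRing S]
    [Algebra R S] [IsLocalHom (algebraMap R S)] [Hensel.IsHenselization R S] :
    Ideal.map (algebraMap R S) (IsLocalRing.maximalIdeal R) = IsLocalRing.maximalIdeal S := by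
  have h1 := Groth.Agent.H3.henselianLocalRing_quotient_pow R 1 one_ne_zero
  rw [pow_one] at h1
  have hbij := Groth.Agent.H3.bijective_quotientMap_of_isHenselization R S
    (IsLocalRing.maximalIdeal R)
  have hfield : IsField (S ⧸ Ideal.map (algebraMap R S) (IsLocalRing.maximalIdeal R)) := by
    have h2 : IsField (R ⧸ IsLocalRing.maximalIdeal R) :=
      (Ideal.Quotient.maximal_ideal_iff_isField_quotient _).mp inferInstance
    exact MulEquiv.isField h2 (RingEquiv.ofBijective _ hbij).symm.toMulEquiv
  have hmax := Ideal.Quotient.maximal_of_isField _ hfield
  exact IsLocalRing.eq_maximalIdeal hmax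

end Groth.Agent.S0507
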