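import Groth.Statements.S0508
import Groth.Agent.H3.Henselization
-- import your own Groth.Agent.* helpers here

set_option autoImplicit false
universe u
open Hensel

namespace Groth.Agent.S0508

/-- The henselization of a local ring induces an isomorphism on residue fields. -/
theorem result (R : Type u) [CommRing R] [IsLocalRing R] (S : Type u) [CommRing S] [IsLocalRing S]
    [Algebra R S] [IsLocalHom (algebraMap R S)] [Hensel.IsHenselization R S] :
    Function.Bijective (IsLocalRing.ResidueField.map (algebraMap R S)) := by
  have h1 := Groth.Agent.H3.henselianLocalRing_quotient_pow R 1 one_ne_zero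
  rw [pow_one] at h1
  have hbij := Groth.Agent.H3.bijective_quotientMap_of_isHenselization R S
    (IsLocalRing.maximalIdeal R)
  refine ⟨RingHom.injective _, ?_⟩
  intro y
  obtain ⟨s, rfl⟩ := IsLocalRing.residue_surjective y
  obtain ⟨x, hx⟩ := hbij.2 (Ideal.Quotient.mk _ s)
  obtain ⟨r, rfl⟩ := Ideal.Quotient.mk_surjective x
  rw [Ideal.quotientMap_mk, Ideal.Quotient.eq] at hx
  refine ⟨IsLocalRing.residue R r, ?_⟩
  rw [IsLocalRing.ResidueField.map_residue]
  have hle : Ideal.map (algebraMap R S) (IsLocalRing.maximalIdeal R) ≤
      IsLocalRing.maximalIdeal S := by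
    rw [Ideal.map_le_iff_le_comap]
    intro j hj
    rw [Ideal.mem_comap, IsLocalRing.mem_maximalIdeal]
    intro hu
    exact (IsLocalRing.mem_maximalIdeal j).mp hj ((isUnit_map_iff (algebraMap R S) j).mp hu)
  have h2 := hle hx
  rw [← IsLocalRing.residue_eq_zero_iff, map_sub, sub_eq_zero] at h2
  exact h2

end Groth.Agent.S0508
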