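import Groth.Statements.S0510
import Groth.Agent.H3.Henselization
-- import your own Groth.Agent.* helpers here

set_option autoImplicit false
universe u
open Hensel

namespace Groth.Agent.S0510

/-- For a local ring `R` with henselization `S` and every `n`, the natural map from `R` modulo the
`n`-th power of its maximal ideal to `S` modulo the extension of that power is a bijection. -/
theorem result (R : Type u) [CommRing R] [IsLocalRing R] (S : Type u) [CommRing S] [IsLocalRing S]
    [Algebra R S] [IsLocalHom (algebraMap R S)] [Hensel.IsHenselization R S] (n : ℕ) :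
    Function.Bijective (Ideal.quotientMap
      (Ideal.map (algebraMap R S) (IsLocalRing.maximalIdeal R ^ n)) (algebraMap R S)
      Ideal.le_comap_map) := by
  rcases Nat.eq_zero_or_pos n with hn | hn
  · subst hn
    have h1 : Subsingleton (R ⧸ IsLocalRing.maximalIdeal R ^ 0) := by
      rw [pow_zero, Ideal.one_eq_top]; exact Ideal.Quotient.subsingleton_iff.mpr rfl
    have h2 : Subsingleton
        (S ⧸ Ideal.map (algebraMap R S) (IsLocalRing.maximalIdeal R ^ 0)) := by
      rw [pow_zero, Ideal.one_eq_top, Ideal.map_top]; exact Ideal.Quotient.subsingleton_iff.mpr rfl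
    exact ⟨fun _ _ _ => Subsingleton.elim _ _, fun y => ⟨0, Subsingleton.elim _ _⟩⟩
  · have := Groth.Agent.H3.henselianLocalRing_quotient_pow R n hn.ne'
    exact Groth.Agent.H3.bijective_quotientMap_of_isHenselization R S _

end Groth.Agent.S0510
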