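import Groth.Statements.S0513
import Groth.Agent.H3.HensNoeth
import Groth.Agent.H3.HensIso
import Groth.Agent.H20.EtaleRegular

set_option autoImplicit false
universe u
open Hensel

namespace Groth.Agent.S0513

/-- A Noetherian local ring is regular exactly when its henselization is a regular local ring. -/
theorem result (R : Type u) [CommRing R] [IsLocalRing R] (S : Type u) [CommRing S] [IsLocalRing S]
    [Algebra R S] [IsLocalHom (algebraMap R S)] [Hensel.IsHenselization R S] [IsNoetherianRing R] :
    IsRegularLocalRing R ↔ IsRegularLocalRing S := by
  have hP : Hens2.IsPairHenselization R (IsLocalRing.maximalIdeal R) S :=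
    Groth.Agent.H3.HensIso.isPairHenselization_of_isHenselization inferInstance
  have hN : IsNoetherianRing S := Groth.Agent.H3.HensNoeth.isNoetherianRing hP
  have hflat : Module.Flat R S := Groth.Agent.H3.HensFlatMain.flat hP
  have hm : (IsLocalRing.maximalIdeal R).map (algebraMap R S) = IsLocalRing.maximalIdeal S :=
    (Groth.Agent.H3.HensLocal.maximalIdeal_eq hP).symm
  exact (Groth.Agent.H20.isRegularLocalRing_iff_of_flat_of_map_maximalIdeal hm).symm

end Groth.Agent.S0513
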