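import Groth.Statements.S0514
import Groth.Agent.H3.HensReduced
import Groth.Agent.H3.HensIso

set_option autoImplicit false
universe u
open Hensel

namespace Groth.Agent.S0514

/-- A local ring is reduced exactly when its henselization is reduced. -/
theorem result (R : Type u) [CommRing R] [IsLocalRing R] (S : Type u) [CommRing S] [IsLocalRing S]
    [Algebra R S] [IsLocalHom (algebraMap R S)] [Hensel.IsHenselization R S] :
    IsReduced R ↔ IsReduced S := by
  have hP : Hens2.IsPairHenselization R (IsLocalRing.maximalIdeal R) S :=
    Groth.Agent.H3.HensIso.isPairHenselization_of_isHenselization inferInstance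
  constructor
  · intro h
    exact Groth.Agent.H3.HensReduced.isReduced hP
  · intro h
    have hflat : Module.Flat R S := Groth.Agent.H3.HensFlatMain.flat hP
    have hff : Module.FaithfullyFlat R S := Module.FaithfullyFlat.of_flat_of_isLocalHom
    exact isReduced_of_injective (algebraMap R S) (FaithfulSMul.algebraMap_injective R S)

end Groth.Agent.S0514
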