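import Groth.Statements.S0515
import Groth.Agent.H3.HensNormal
import Groth.Agent.H3.HensIso

set_option autoImplicit false
universe u
open Hensel

namespace Groth.Agent.S0515

/-- A local ring is an integrally closed domain exactly when its henselization is. -/
theorem result (R : Type u) [CommRing R] [IsLocalRing R] (S : Type u) [CommRing S] [IsLocalRing S]
    [Algebra R S] [IsLocalHom (algebraMap R S)] [Hensel.IsHenselization R S] :
    (IsDomain R ∧ IsIntegrallyClosed R) ↔ (IsDomain S ∧ IsIntegrallyClosed S) := by
  have hP : Hens2.IsPairHenselization R (IsLocalRing.maximalIdeal R) S :=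
    Groth.Agent.H3.HensIso.isPairHenselization_of_isHenselization inferInstance
  constructor
  · rintro ⟨h1, h2⟩
    exact Groth.Agent.H3.HensNormal.isDomain_and_isIntegrallyClosed hP
  · rintro ⟨h1, h2⟩
    have hflat : Module.Flat R S := Groth.Agent.H3.HensFlatMain.flat hP
    have hff : Module.FaithfullyFlat R S := Module.FaithfullyFlat.of_flat_of_isLocalHom
    exact Groth.Agent.H20.isDomain_and_isIntegrallyClosed_of_faithfullyFlat (A := R) (B := S)

end Groth.Agent.S0515
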