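import Groth.Statements.S0516
import Groth.Agent.S0499
import Groth.Agent.S0503
import Groth.Agent.H3.UnramifiedSplit
import Groth.Agent.H3.IdemProd
import Mathlib.RingTheory.Unramified.LocalStructure
import Mathlib.Algebra.Algebra.Pi
-- import your own Groth.Agent.* helpers here

set_option autoImplicit false
universe u
open Hensel

namespace Groth.Agent.S0516

/-- An unramified algebra `S` (formally unramified of finite type) over a strictly henselian local ring
`R` is isomorphic over `R` to a product of finitely many quotient rings of `R` and an `R`-algebra in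
which the maximal ideal of `R` generates the unit ideal. -/
theorem result (R : Type u) [CommRing R]
    [HenselianLocalRing R] [IsSepClosed (IsLocalRing.ResidueField R)] (S : Type u) [CommRing S] [Algebra R S]
    [Algebra.Unramified R S] :
    ∃ (ι : Type u) (_ : Fintype ι) (A : ι → Type u) (_ : ∀ i, CommRing (A i))
      (_ : ∀ i, Algebra R (A i)) (B : Type u) (_ : CommRing B) (_ : Algebra R B),
      (∀ i, Function.Surjective (algebraMap R (A i))) ∧
      Ideal.map (algebraMap R B) (IsLocalRing.maximalIdeal R) = ⊤ ∧
      Nonempty (S ≃ₐ[R] ((∀ i, A i) × B)) := by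
  classical
  have hQF : Algebra.QuasiFinite R S := inferInstance
  obtain ⟨e, he, hfin, htop⟩ := Groth.Agent.S0503.result R S
  obtain ⟨ι, hι, A, hA, hloc, ⟨φ⟩⟩ := Groth.Agent.S0499.result R (S ⧸ Ideal.span {1 - e})
  let algA : ∀ i, Algebra R (A i) := fun i =>
    ((Pi.evalRingHom A i).comp
      (φ.toRingHom.comp (algebraMap R (S ⧸ Ideal.span {1 - e})))).toAlgebra
  let φa : (S ⧸ Ideal.span {1 - e}) ≃ₐ[R] (∀ i, A i) :=
    AlgEquiv.ofRingEquiv (f := φ) (fun r => rfl)
  refine ⟨ι, hι, A, hA, algA, S ⧸ Ideal.span {e}, inferInstance, inferInstance, ?_, htop,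
    ⟨(Groth.Agent.H3.idemProdEquiv R he).trans (AlgEquiv.prodCongr φa AlgEquiv.refl)⟩⟩
  intro i
  have := hloc i
  let π : (S ⧸ Ideal.span {1 - e}) →ₐ[R] A i := (Pi.evalAlgHom R A i).comp φa.toAlgHom
  have hπ : Function.Surjective π := (Function.surjective_eval i).comp φa.surjective
  have : Module.Finite R (A i) := Module.Finite.of_surjective π.toLinearMap hπ
  have : Algebra.FormallyUnramified R (S ⧸ Ideal.span {1 - e}) :=
    Algebra.FormallyUnramified.of_surjective (Ideal.Quotient.mkₐ R _)
      (Ideal.Quotient.mkₐ_surjective R _)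
  have : Algebra.FormallyUnramified R (A i) := Algebra.FormallyUnramified.of_surjective π hπ
  exact Groth.Agent.H3.surjective_of_unramified_local R (A i)

end Groth.Agent.S0516
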