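import Groth.Statements.S0517
import Groth.Agent.H3.HenselEtale2
import Groth.Agent.H3.SepClosedPoint
-- import your own Groth.Agent.* helpers here

set_option autoImplicit false
universe u
open Hensel

namespace Groth.Agent.S0517

/-- Given strictly henselian local rings `R` and `S`, a local ring map `φ` between them, and a square
system of `n` polynomial equations in `n` unknowns over `R` whose quotient algebra is étale over
`R`, applying `φ` coordinatewise matches the solutions of the system in `Rⁿ` bijectively with the
solutions of the transported system in `Sⁿ`. -/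
theorem result (R : Type u) [CommRing R]
    [HenselianLocalRing R] [IsSepClosed (IsLocalRing.ResidueField R)] (S : Type u) [CommRing S]
    [HenselianLocalRing S] [IsSepClosed (IsLocalRing.ResidueField S)] (φ : R →+* S) [IsLocalHom φ] (n : ℕ)
    (P : Fin n → MvPolynomial (Fin n) R)
    [Algebra.Etale R (MvPolynomial (Fin n) R ⧸ Ideal.span (Set.range P))] :
    Set.BijOn (fun r : Fin n → R => φ ∘ r)
      {r : Fin n → R | ∀ i, MvPolynomial.eval r (P i) = 0}
      {s : Fin n → S | ∀ i, MvPolynomial.eval s (MvPolynomial.map φ (P i)) = 0} := by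
  classical
  let algS : Algebra R S := φ.toAlgebra
  have hloc : IsLocalHom (algebraMap R S) := ‹IsLocalHom φ›
  have hφ : ∀ x, algebraMap R S x = φ x := fun x => rfl
  -- algebra maps out of the quotient from solutions
  have homOfSol : ∀ (T : Type u) [CommRing T] [Algebra R T] (t : Fin n → T),
      (∀ i, MvPolynomial.aeval t (P i) = 0) →
      ∃ f : (MvPolynomial (Fin n) R ⧸ Ideal.span (Set.range P)) →ₐ[R] T,
        ∀ i, f (Ideal.Quotient.mk _ (MvPolynomial.X i)) = t i := by
    intro T _ _ t ht
    have hker : ∀ p ∈ Ideal.span (Set.range P), (MvPolynomial.aeval t : _ →ₐ[R] T) p = 0 := by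
      intro p hp
      have hle : Ideal.span (Set.range P) ≤
          RingHom.ker (MvPolynomial.aeval t : MvPolynomial (Fin n) R →ₐ[R] T).toRingHom := by
        rw [Ideal.span_le]
        rintro _ ⟨i, rfl⟩
        exact ht i
      exact hle hp
    refine ⟨Ideal.Quotient.liftₐ _ (MvPolynomial.aeval t) hker, fun i => ?_⟩
    change (MvPolynomial.aeval t) (MvPolynomial.X i) = t i
    exact MvPolynomial.aeval_X t i
  have solOfHom : ∀ (T : Type u) [CommRing T] [Algebra R T]
      (f : (MvPolynomial (Fin n) R ⧸ Ideal.span (Set.range P)) →ₐ[R] T) (i : Fin n),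
      MvPolynomial.aeval (fun j => f (Ideal.Quotient.mk _ (MvPolynomial.X j))) (P i) = 0 := by
    intro T _ _ f i
    have h1 := MvPolynomial.aeval_unique (f.comp (Ideal.Quotient.mkₐ R (Ideal.span (Set.range P))))
    have h2 : MvPolynomial.aeval (fun j => f (Ideal.Quotient.mk _ (MvPolynomial.X j))) (P i) =
        f (Ideal.Quotient.mk _ (P i)) := by
      have := congrArg (fun g => g (P i)) h1
      exact this.symm
    have h3 : (Ideal.Quotient.mk (Ideal.span (Set.range P))) (P i) = 0 :=
      Ideal.Quotient.eq_zero_iff_mem.mpr (Ideal.subset_span ⟨i, rfl⟩)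
    rw [h2, h3, map_zero]
  have hom_ext : ∀ (T : Type u) [CommRing T] [Algebra R T]
      (f f' : (MvPolynomial (Fin n) R ⧸ Ideal.span (Set.range P)) →ₐ[R] T),
      (∀ i, f (Ideal.Quotient.mk _ (MvPolynomial.X i)) =
        f' (Ideal.Quotient.mk _ (MvPolynomial.X i))) → f = f' := by
    intro T _ _ f f' h
    apply Ideal.Quotient.algHom_ext
    apply MvPolynomial.algHom_ext
    intro i
    exact h i
  have hevalS : ∀ (s : Fin n → S) (p : MvPolynomial (Fin n) R),
      MvPolynomial.eval s (MvPolynomial.map φ p) = MvPolynomial.aeval s p := by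
    intro s p
    rw [MvPolynomial.eval_map, MvPolynomial.aeval_def]
    rfl
  refine ⟨?_, ?_, ?_⟩
  · intro r hr i
    simp only [Set.mem_ofPred_eq] at hr ⊢
    rw [MvPolynomial.eval_map]
    have h1 := MvPolynomial.eval₂_comp_left φ (RingHom.id R) r (P i)
    rw [RingHom.comp_id] at h1
    rw [← h1]
    change φ (MvPolynomial.eval r (P i)) = 0
    rw [hr i, map_zero]
  · intro r hr r' hr' h
    simp only [Set.mem_ofPred_eq] at hr hr'
    obtain ⟨f, hf⟩ := homOfSol R r hr
    obtain ⟨f', hf'⟩ := homOfSol R r' hr'
    have hcomp : (Algebra.ofId R S).comp f = (Algebra.ofId R S).comp f' := by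
      apply hom_ext
      intro i
      simp only [AlgHom.comp_apply, hf, hf']
      exact congrFun h i
    have hσ : (IsScalarTower.toAlgHom R R (IsLocalRing.ResidueField R)).comp f =
        (IsScalarTower.toAlgHom R R (IsLocalRing.ResidueField R)).comp f' := by
      ext a
      have h1 : φ (f a) = φ (f' a) := congrArg (fun g => g a) hcomp
      have hinj : Function.Injective
          (algebraMap (IsLocalRing.ResidueField R) (IsLocalRing.ResidueField S)) :=
        RingHom.injective (algebraMap (IsLocalRing.ResidueField R) (IsLocalRing.ResidueField S))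
      apply hinj
      change algebraMap (IsLocalRing.ResidueField R) (IsLocalRing.ResidueField S)
          (IsLocalRing.residue R (f a)) =
        algebraMap (IsLocalRing.ResidueField R) (IsLocalRing.ResidueField S)
          (IsLocalRing.residue R (f' a))
      rw [IsLocalRing.ResidueField.algebraMap_residue, IsLocalRing.ResidueField.algebraMap_residue,
        hφ, hφ, h1]
    obtain ⟨g, -, hguniq⟩ := Groth.Agent.H3.existsUnique_lift_of_etale R R _
      ((IsScalarTower.toAlgHom R R (IsLocalRing.ResidueField R)).comp f)
    have e1 : f = g := hguniq f rfl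
    have e2 : f' = g := hguniq f' hσ.symm
    funext i
    rw [← hf i, ← hf' i, e1, e2]
  · intro s hs
    simp only [Set.mem_ofPred_eq] at hs
    have hs' : ∀ i, MvPolynomial.aeval s (P i) = 0 := fun i => (hevalS s (P i)).symm.trans (hs i)
    obtain ⟨fS, hfS⟩ := homOfSol S s hs'
    let σ' : (MvPolynomial (Fin n) R ⧸ Ideal.span (Set.range P)) →ₐ[R]
        IsLocalRing.ResidueField S :=
      (IsScalarTower.toAlgHom R S (IsLocalRing.ResidueField S)).comp fS
    obtain ⟨σ, hσ⟩ := Groth.Agent.H3.exists_algHom_residueField_of_etale R _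
      (IsLocalRing.ResidueField S) σ'
    obtain ⟨fR, hfR, -⟩ := Groth.Agent.H3.existsUnique_lift_of_etale R R _ σ
    obtain ⟨g, -, hguniq⟩ := Groth.Agent.H3.existsUnique_lift_of_etale R S _ σ'
    have e1 : (Algebra.ofId R S).comp fR = g := by
      apply hguniq
      ext a
      have h1 : IsLocalRing.residue R (fR a) = σ a := congrArg (fun g => g a) hfR
      change IsLocalRing.residue S (algebraMap R S (fR a)) = σ' a
      rw [← IsLocalRing.ResidueField.algebraMap_residue, h1, hσ]
    have e2 : fS = g := hguniq fS rfl
    refine ⟨fun i => fR (Ideal.Quotient.mk _ (MvPolynomial.X i)), ?_, ?_⟩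
    · intro i
      have := solOfHom R fR i
      rwa [MvPolynomial.aeval_eq_eval] at this
    · funext i
      change φ (fR (Ideal.Quotient.mk _ (MvPolynomial.X i))) = s i
      rw [← hfS i, e2, ← e1]
      rfl

end Groth.Agent.S0517
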