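import Groth.Statements.S0518
import Groth.Agent.H3.FiniteEtaleLift
-- import your own Groth.Agent.* helpers here

set_option autoImplicit false
universe u
open Hensel

namespace Groth.Agent.S0518

/-- Over a henselian local ring `R` with residue field `κ`, every finite étale `κ`-algebra is the base
change of some finite étale `R`-algebra. -/
theorem result (R : Type u) [CommRing R]
    [HenselianLocalRing R] (A : Type u) [CommRing A] [Algebra (IsLocalRing.ResidueField R) A]
    [Module.Finite (IsLocalRing.ResidueField R) A] [Algebra.Etale (IsLocalRing.ResidueField R) A] :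
    ∃ (S : Type u) (_ : CommRing S) (_ : Algebra R S), Module.Finite R S ∧ Algebra.Etale R S ∧
      Nonempty (TensorProduct R (IsLocalRing.ResidueField R) S ≃ₐ[IsLocalRing.ResidueField R] A) := by
  classical
  obtain ⟨I, hI, Ai, hfield, halg, iso, hsep⟩ :=
    (Algebra.Etale.iff_exists_algEquiv_prod (K := IsLocalRing.ResidueField R) (A := A)).mp
      inferInstance
  have := Fintype.ofFinite I
  have hlift : ∀ i, ∃ (S : Type u) (_ : CommRing S) (_ : Algebra R S), Module.Finite R S ∧
      Algebra.Etale R S ∧
      Nonempty (TensorProduct R (IsLocalRing.ResidueField R) S ≃ₐ[IsLocalRing.ResidueField R]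
        Ai i) := by
    intro i
    have h1 := (hsep i).1
    have h2 := (hsep i).2
    exact Groth.Agent.H3.exists_finite_etale_lift_field R (Ai i)
  choose S hS1 hS2 hfin het hiso using hlift
  refine ⟨∀ i, S i, inferInstance, inferInstance, inferInstance, inferInstance, ⟨?_⟩⟩
  exact ((Algebra.TensorProduct.piRight R (IsLocalRing.ResidueField R)
    (IsLocalRing.ResidueField R) S).trans
    (AlgEquiv.piCongrRight (fun i => (hiso i).some))).trans iso.symm

end Groth.Agent.S0518
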