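import Groth.Statements.S0519
import Groth.Agent.S0499
import Groth.Agent.S0505
import Groth.Agent.H3.HenselEtale2
import Groth.Agent.H3.UnramifiedSplit
import Groth.Agent.H3.FiniteEtaleHom
import Mathlib.Algebra.Algebra.Pi
-- import your own Groth.Agent.* helpers here

set_option autoImplicit false
universe u
open Hensel

namespace Groth.Agent.S0519

/-- Over a henselian local ring `R` with residue field `κ`, base change to `κ` gives a bijection between
`R`-algebra maps of two finite étale `R`-algebras and `κ`-algebra maps of their base changes. -/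
theorem result (R : Type u) [CommRing R]
    [HenselianLocalRing R] (S₁ S₂ : Type u) [CommRing S₁] [CommRing S₂] [Algebra R S₁]
    [Algebra R S₂] [Module.Finite R S₁] [Algebra.Etale R S₁] [Module.Finite R S₂]
    [Algebra.Etale R S₂] :
    Function.Bijective (fun φ : S₁ →ₐ[R] S₂ =>
      Algebra.TensorProduct.map (AlgHom.id (IsLocalRing.ResidueField R) (IsLocalRing.ResidueField R)) φ) := by
  classical
  open IsLocalRing TensorProduct Groth.Agent.H3 in
  obtain ⟨ι, hι, B, hB, hloc, ⟨α⟩⟩ := Groth.Agent.S0499.result R S₂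
  let algB : ∀ i, Algebra R (B i) := fun i =>
    ((Pi.evalRingHom B i).comp (α.toRingHom.comp (algebraMap R S₂))).toAlgebra
  let αa : S₂ ≃ₐ[R] (∀ i, B i) := AlgEquiv.ofRingEquiv (f := α) (fun r => rfl)
  let π : ∀ i, S₂ →ₐ[R] B i := fun i => (Pi.evalAlgHom R B i).comp αa.toAlgHom
  have hπ : ∀ i, Function.Surjective (π i) := fun i =>
    (Function.surjective_eval i).comp αa.surjective
  have hfinB : ∀ i, Module.Finite R (B i) := fun i =>
    Module.Finite.of_surjective (π i).toLinearMap (hπ i)
  have hhens : ∀ i, HenselianLocalRing (B i) := fun i => Groth.Agent.S0505.result R (B i)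
  have hInt : ∀ i, Algebra.IsIntegral R (B i) := fun i => Algebra.IsIntegral.of_finite R (B i)
  have hlh : ∀ i, IsLocalHom (algebraMap R (B i)) := fun i => isLocalHom_of_isIntegral R (B i)
  have hunr : ∀ i, Algebra.FormallyUnramified R (B i) := fun i =>
    Algebra.FormallyUnramified.of_surjective (π i) (hπ i)
  have hmax : ∀ i, (maximalIdeal R).map (algebraMap R (B i)) = maximalIdeal (B i) := fun i =>
    Algebra.FormallyUnramified.map_maximalIdeal
  let res : ∀ i, B i →ₐ[R] ResidueField (B i) := fun i =>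
    IsScalarTower.toAlgHom R (B i) (ResidueField (B i))
  let Ψ₀ : (S₁ →ₐ[R] S₂) → ∀ i, (S₁ →ₐ[R] ResidueField (B i)) := fun φ i =>
    ((res i).comp (π i)).comp φ
  have hΨ₀ : Function.Bijective Ψ₀ := by
    constructor
    · intro φ φ' h
      have h1 : ∀ i, (π i).comp φ = (π i).comp φ' := by
        intro i
        obtain ⟨g, -, hguniq⟩ := existsUnique_lift_of_etale R (B i) S₁ (Ψ₀ φ i)
        have e1 := hguniq ((π i).comp φ) rfl
        have e2 := hguniq ((π i).comp φ') (by rw [congrFun h i]; rfl)
        rw [e1, e2]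
      ext s
      apply αa.injective
      funext i
      exact congrArg (fun g => g s) (h1 i)
    · intro σ
      have hex := fun i => (existsUnique_lift_of_etale R (B i) S₁ (σ i)).exists
      choose f hf using hex
      refine ⟨αa.symm.toAlgHom.comp (AlgHom.pi f), ?_⟩
      funext i
      ext s
      have h2 := congrArg (fun g => g s) (hf i)
      simp only [AlgHom.comp_apply] at h2
      have h3 : αa (αa.symm ((AlgHom.pi f) s)) = (AlgHom.pi f) s := αa.apply_symm_apply _
      change (res i) ((αa (αa.symm ((AlgHom.pi f) s))) i) = (σ i) s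
      rw [h3]
      exact h2
  let ρ : ∀ i, ResidueField R ⊗[R] S₂ →ₐ[ResidueField R] ResidueField (B i) := fun i =>
    Algebra.TensorProduct.lift (Algebra.ofId (ResidueField R) (ResidueField (B i)))
      ((res i).comp (π i)) (fun _ _ => Commute.all _ _)
  have hρ : ∀ i s, ρ i ((1 : ResidueField R) ⊗ₜ[R] s) = res i (π i s) := by
    intro i s
    simp [ρ]
  have hρinj : ∀ x : ResidueField R ⊗[R] S₂, (∀ i, ρ i x = 0) → x = 0 := by
    intro x hx
    obtain ⟨s, rfl⟩ := exists_one_tmul_eq R S₂ x
    apply one_tmul_eq_zero_of_mem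
    have h1 : ∀ i, (αa s) i ∈ (maximalIdeal R) • (⊤ : Submodule R (B i)) := by
      intro i
      rw [Ideal.smul_top_eq_map, Submodule.restrictScalars_mem, hmax i]
      have h2 := hx i
      rw [hρ] at h2
      exact (residue_eq_zero_iff _).mp h2
    have h2 := mem_smul_top_pi (maximalIdeal R) B (αa s) h1
    have h3 : ((maximalIdeal R) • (⊤ : Submodule R (∀ i, B i))).map αa.symm.toLinearMap ≤
        (maximalIdeal R) • (⊤ : Submodule R S₂) := by
      rw [Submodule.map_smul'']
      exact Submodule.smul_mono le_rfl le_top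
    have h4 := h3 (Submodule.mem_map_of_mem h2)
    simpa using h4
  let Ψ : (ResidueField R ⊗[R] S₁ →ₐ[ResidueField R] ResidueField R ⊗[R] S₂) →
      ∀ i, (S₁ →ₐ[R] ResidueField (B i)) := fun ψ i =>
    (((ρ i).restrictScalars R).comp (ψ.restrictScalars R)).comp
      Algebra.TensorProduct.includeRight
  have hΨinj : Function.Injective Ψ := by
    intro ψ ψ' h
    apply AlgHom.ext
    intro x
    obtain ⟨s, rfl⟩ := exists_one_tmul_eq R S₁ x
    rw [← sub_eq_zero]
    apply hρinj
    intro i
    rw [map_sub, sub_eq_zero]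
    exact congrArg (fun g => g s) (congrFun h i)
  let Φ : (S₁ →ₐ[R] S₂) → (ResidueField R ⊗[R] S₁ →ₐ[ResidueField R] ResidueField R ⊗[R] S₂) :=
    fun φ => Algebra.TensorProduct.map (AlgHom.id (ResidueField R) (ResidueField R)) φ
  have hΨΦ : ∀ φ, Ψ (Φ φ) = Ψ₀ φ := by
    intro φ
    funext i
    ext s
    simp only [Ψ, Φ, Ψ₀, AlgHom.comp_apply, AlgHom.restrictScalars_apply,
      Algebra.TensorProduct.includeRight_apply, Algebra.TensorProduct.map_tmul, AlgHom.id_apply]
    rw [hρ]
  change Function.Bijective Φ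
  constructor
  · intro φ φ' h
    apply hΨ₀.1
    rw [← hΨΦ, ← hΨΦ, h]
  · intro ψ
    obtain ⟨φ, hφ⟩ := hΨ₀.2 (Ψ ψ)
    refine ⟨φ, hΨinj ?_⟩
    rw [hΨΦ, hφ]

end Groth.Agent.S0519
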