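import Groth.Statements.S0524
import Groth.Agent.H3.HenselBasic
import Mathlib.Algebra.Polynomial.Taylor
import Mathlib.Algebra.Polynomial.Identities
import Mathlib.Tactic.LinearCombination
import Mathlib.Tactic.Ring
-- import your own Groth.Agent.* helpers here

set_option autoImplicit false
universe u
open Hensel

namespace Groth.Agent.S0524

/-- (1) iff (5) with the uniqueness complement: `A` is Henselian at `I` exactly when `I` lies in the
Jacobson radical and, for every `n ≥ 1` and every polynomial `p` of degree at most `n` with all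
coefficients in `I`, the polynomial `Tⁿ(T-1) + p` has exactly one root congruent to `1` modulo `I`. -/
theorem result (A : Type u) [CommRing A] (I : Ideal A) :
    HenselianRing A I ↔ (I ≤ Ideal.jacobson ⊥ ∧
      ∀ (n : ℕ), 0 < n → ∀ p : Polynomial A, p.natDegree ≤ n → (∀ i, p.coeff i ∈ I) →
        ∃! α : A, α - 1 ∈ I ∧
          Polynomial.IsRoot (Polynomial.X ^ n * (Polynomial.X - 1) + p) α) := by
  classical
  open Polynomial Groth.Agent.H3 in
  constructor
  · intro h
    refine ⟨h.jac, fun n hn p hpdeg hpI => ?_⟩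
    rcases subsingleton_or_nontrivial A with hA | hA
    · refine ⟨0, ⟨?_, Subsingleton.elim _ _⟩, fun _ _ => Subsingleton.elim _ _⟩
      rw [Subsingleton.elim (0 - 1 : A) 0]; exact I.zero_mem
    set F : A[X] := X ^ n * (X - 1) + p with hF
    have h1 : (X ^ n * (X - 1) : A[X]).Monic :=
      (monic_X_pow n).mul (by simpa using monic_X_sub_C (1 : A))
    have hdeg1 : (X ^ n * (X - 1) : A[X]).degree = ((n + 1 : ℕ) : WithBot ℕ) := by
      have h2 : (X - 1 : A[X]).Monic := by simpa using monic_X_sub_C (1 : A)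
      rw [h2.degree_mul, degree_X_pow]
      have : (X - 1 : A[X]).degree = 1 := by simpa using degree_X_sub_C (1 : A)
      rw [this]; rfl
    have hFm : F.Monic := by
      refine h1.add_of_left ?_
      rw [hdeg1]
      exact lt_of_le_of_lt (degree_le_of_natDegree_le hpdeg) (by exact_mod_cast Nat.lt_succ_self n)
    have hp1 : p.eval 1 ∈ I := by
      rw [eval_eq_sum_range]
      exact I.sum_mem (fun i _ => I.mul_mem_right _ (hpI i))
    have hp'1 : p.derivative.eval 1 ∈ I := by
      rw [eval_eq_sum_range]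
      refine I.sum_mem (fun i _ => I.mul_mem_right _ ?_)
      rw [coeff_derivative]
      exact I.mul_mem_right _ (hpI _)
    have hF1 : F.eval 1 = p.eval 1 := by simp [hF]
    have hF'1 : F.derivative.eval 1 = 1 + p.derivative.eval 1 := by
      simp [hF, derivative_mul]
    have hunit : IsUnit (Ideal.Quotient.mk I (F.derivative.eval 1)) := by
      rw [hF'1, map_add, Ideal.Quotient.eq_zero_iff_mem.mpr hp'1, add_zero, map_one]
      exact isUnit_one
    obtain ⟨α, hα, hαI⟩ := h.is_henselian F hFm 1 (by rw [hF1]; exact hp1) hunit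
    refine ⟨α, ⟨hαI, hα⟩, ?_⟩
    rintro β ⟨hβI, hβ⟩
    obtain ⟨c, hc⟩ := exists_mul_sq_add_linear_part_eq_eval_add F α (β - α)
    rw [add_sub_cancel, hα.eq_zero, hβ.eq_zero] at hc
    obtain ⟨z, hz⟩ := F.derivative.evalSubFactor α 1
    have hFα : IsUnit (F.derivative.eval α + c * (β - α)) := by
      have h3 : F.derivative.eval α + c * (β - α) =
          1 + (p.derivative.eval 1 + z * (α - 1) + c * ((β - 1) - (α - 1))) := by
        rw [← hz, hF'1]; ring
      rw [h3]
      exact isUnit_add_of_mem_jacobson isUnit_one (h.jac (I.add_mem (I.add_mem hp'1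
        (I.mul_mem_left _ hαI)) (I.mul_mem_left _ (I.sub_mem hβI hαI))))
    have h4 : (F.derivative.eval α + c * (β - α)) * (β - α) = 0 := by linear_combination hc
    exact sub_eq_zero.mp (hFα.mul_right_eq_zero.mp h4)
  · rintro ⟨hjac, hG⟩
    rw [henselianRing_iff_unit]
    refine ⟨hjac, fun f _ a₀ h₁ h₂ => ?_⟩
    set P := taylor a₀ f with hP
    set N := P.natDegree with hN
    set c₀ := f.eval a₀ with hc₀
    obtain ⟨u, hu⟩ := h₂
    set v : A := -↑u⁻¹ with hv
    have huv : (u : A) * v = -1 := by rw [hv]; simp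
    have ht0 : P.coeff 0 = c₀ := taylor_coeff_zero ..
    have ht1 : P.coeff 1 = ↑u := by rw [hu]; exact taylor_coeff_one ..
    set p : A[X] := ∑ j ∈ Finset.range (N + 1),
      C (P.coeff (j + 2) * c₀ ^ (j + 1) * v ^ (j + 2)) * X ^ (N - j) with hp
    have hpdeg : p.natDegree ≤ N + 1 :=
      natDegree_sum_le_of_forall_le _ _
        (fun j _ => (natDegree_C_mul_X_pow_le _ _).trans (by omega))
    have hpI : ∀ i, p.coeff i ∈ I := by
      intro i
      rw [hp, finsetSum_coeff]
      refine I.sum_mem (fun j _ => ?_)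
      rw [coeff_C_mul_X_pow]
      split_ifs
      · exact I.mul_mem_right _ (I.mul_mem_left _ (I.pow_mem_of_mem h₁ _ (Nat.succ_pos j)))
      · exact I.zero_mem
    obtain ⟨w, ⟨hwI, hwroot⟩, -⟩ := hG (N + 1) (Nat.succ_pos N) p hpdeg hpI
    have hwu : IsUnit w := by
      have := isUnit_add_of_mem_jacobson isUnit_one (hjac hwI)
      simpa using this
    obtain ⟨wu, rfl⟩ := hwu
    set ω : A := ↑wu⁻¹ with hω
    have hωw : ω * (wu : A) = 1 := by rw [hω]; simp
    have hE : (wu : A) ^ (N + 1) * ((wu : A) - 1) + ∑ j ∈ Finset.range (N + 1),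
        P.coeff (j + 2) * c₀ ^ (j + 1) * v ^ (j + 2) * (wu : A) ^ (N - j) = 0 := by
      have := hwroot
      rw [IsRoot.def, hp] at this
      simpa [eval_finsetSum] using this
    refine ⟨c₀ * v * ω + a₀, ?_, ?_⟩
    · rw [IsRoot.def, ← taylor_eval, ← hP, eval_eq_sum_range' (n := N + 3) (by omega),
        Finset.sum_range_succ', Finset.sum_range_succ']
      have key : ∀ j ∈ Finset.range (N + 1), P.coeff (j + 2) * (c₀ * v * ω) ^ (j + 2) =
          c₀ * ω ^ (N + 2) *
            (P.coeff (j + 2) * c₀ ^ (j + 1) * v ^ (j + 2) * (wu : A) ^ (N - j)) := by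
        intro j hj
        have hj' : j ≤ N := Nat.lt_succ_iff.mp (Finset.mem_range.mp hj)
        have h5 : ω ^ (N + 2) * (wu : A) ^ (N - j) = ω ^ (j + 2) := by
          have h6 : N + 2 = (j + 2) + (N - j) := by omega
          rw [h6, pow_add, mul_assoc, ← mul_pow, hωw, one_pow, mul_one]
        linear_combination (-(P.coeff (j + 2) * c₀ ^ (j + 2) * v ^ (j + 2))) * h5
      rw [Finset.sum_congr rfl key, ← Finset.mul_sum]
      have h7 : ∑ j ∈ Finset.range (N + 1),
          P.coeff (j + 2) * c₀ ^ (j + 1) * v ^ (j + 2) * (wu : A) ^ (N - j) =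
          -((wu : A) ^ (N + 1) * ((wu : A) - 1)) := by linear_combination hE
      rw [h7, ht0, ht1]
      have h8 : ω ^ (N + 2) * (wu : A) ^ (N + 1) = ω := by
        rw [pow_succ' ω (N + 1), mul_assoc, ← mul_pow, hωw, one_pow, mul_one]
      have h9 : c₀ * ω ^ (N + 2) * -((wu : A) ^ (N + 1) * ((wu : A) - 1)) =
          -(c₀ * (ω ^ (N + 2) * (wu : A) ^ (N + 1)) * ((wu : A) - 1)) := by ring
      rw [h9, h8]
      linear_combination (c₀ * ω) * huv - c₀ * hωw
    · have : c₀ * v * ω + a₀ - a₀ = c₀ * (v * ω) := by ring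
      rw [this]
      exact I.mul_mem_right _ h₁

end Groth.Agent.S0524
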