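import Groth.Statements.S0525
import Groth.Agent.H3.HenselBasic
import Groth.Agent.S0527

set_option autoImplicit false
universe u
open Hensel

namespace Groth.Agent.S0525

theorem aux (A : Type u) [CommRing A] (I : Ideal A) (h : HenselianRing A I) :
    HenselianRing A I.radical := by
  refine Groth.Agent.H3.henselianRing_of_quotient Ideal.le_radical h ?_
  apply Groth.Agent.S0527.result
  intro x hx
  rw [Ideal.mem_map_iff_of_surjective _ Ideal.Quotient.mk_surjective] at hx
  obtain ⟨y, ⟨n, hn⟩, rfl⟩ := hx
  refine ⟨n, ?_⟩
  rw [← map_pow, Ideal.Quotient.eq_zero_iff_mem]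
  exact hn

/-- If two ideals of a ring have the same radical (the same closed set), the ring is Henselian at one
exactly when it is Henselian at the other. -/
theorem result (A : Type u) [CommRing A] (I J : Ideal A)
    (h : I.radical = J.radical) : HenselianRing A I ↔ HenselianRing A J := by
  constructor
  · intro hI
    exact Groth.Agent.H3.henselianRing_of_le (h ▸ Ideal.le_radical) (aux A I hI)
  · intro hJ
    exact Groth.Agent.H3.henselianRing_of_le (h ▸ Ideal.le_radical) (aux A J hJ)

end Groth.Agent.S0525
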