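import Groth.Statements.S0529
import Groth.Agent.H3.HenselBasic
import Mathlib.Algebra.Group.Pi.Units
import Mathlib.Tactic.LinearCombination
import Mathlib.Tactic.Ring
-- import your own Groth.Agent.* helpers here

set_option autoImplicit false
universe u
open Hensel

namespace Groth.Agent.S0529

/-- A product of rings, with the product ideal, is Henselian exactly when every factor is Henselian at
its ideal. -/
theorem result (J : Type u) (A : J → Type u) [∀ j, CommRing (A j)]
    (I : ∀ j, Ideal (A j)) :
    HenselianRing (∀ j, A j) (⨅ j, Ideal.comap (Pi.evalRingHom A j) (I j)) ↔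
      ∀ j, HenselianRing (A j) (I j) := by
  classical
  open Polynomial Groth.Agent.H3 in
  have hmem : ∀ x : (∀ j, A j), x ∈ (⨅ j, Ideal.comap (Pi.evalRingHom A j) (I j)) ↔
      ∀ j, x j ∈ I j := by
    intro x; simp
  have hev : ∀ (G : (∀ k, A k)[X]) (x : ∀ k, A k) (k : J),
      (G.eval x) k = (G.map (Pi.evalRingHom A k)).eval (x k) := by
    intro G x k
    rw [eval_map]
    exact (eval₂_hom (Pi.evalRingHom A k) x).symm
  constructor
  · intro h j
    have hjacP := h.jac
    have hjac : I j ≤ Ideal.jacobson ⊥ := by
      intro x hx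
      rw [Ideal.mem_jacobson_bot]
      intro y
      have hx' : Pi.single j x ∈ (⨅ j, Ideal.comap (Pi.evalRingHom A j) (I j)) := by
        rw [hmem]; intro k
        by_cases hk : k = j
        · subst hk; simpa using hx
        · rw [Pi.single_eq_of_ne hk]; exact (I k).zero_mem
      have h1 := Ideal.mem_jacobson_bot.mp (hjacP hx') (Pi.single j y)
      have h2 := h1.map (Pi.evalRingHom A j)
      simpa using h2
    rw [henselianRing_iff_unit]
    refine ⟨hjac, fun f hf a₀ h₁ h₂ => ?_⟩
    set d := f.natDegree with hd'
    by_cases hd : d = 0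
    · have hf1 : f = 1 := hf.natDegree_eq_zero.mp hd
      have h1I : (1 : A j) ∈ I j := by simpa [hf1] using h₁
      have hsub : Subsingleton (A j) := by
        have h3 := Ideal.mem_jacobson_bot.mp (hjac h1I) (-1)
        rw [one_mul, neg_add_cancel, isUnit_zero_iff] at h3
        exact subsingleton_of_zero_eq_one h3
      exact ⟨a₀, Subsingleton.elim _ _, by rw [sub_self]; exact (I j).zero_mem⟩
    have hdpos : 0 < d := Nat.pos_of_ne_zero hd
    let q : ∀ k, (A k)[X] := Function.update (fun k => X ^ d - X ^ (d - 1)) j f
    have hqj : q j = f := Function.update_self ..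
    have hqk : ∀ k, k ≠ j → q k = X ^ d - X ^ (d - 1) := fun k hk => Function.update_of_ne hk ..
    have hq_deg : ∀ k, (q k).natDegree ≤ d := by
      intro k
      by_cases hk : k = j
      · subst hk; rw [hqj]
      · rw [hqk k hk]
        exact (natDegree_sub_le _ _).trans (max_le (natDegree_X_pow_le d)
          ((natDegree_X_pow_le (d - 1)).trans (Nat.sub_le d 1)))
    have hq_lead : ∀ k, (q k).coeff d = 1 := by
      intro k
      by_cases hk : k = j
      · subst hk; rw [hqj]; exact hf.coeff_natDegree
      · rw [hqk k hk, coeff_sub, coeff_X_pow, coeff_X_pow, if_pos rfl, if_neg (by omega), sub_zero]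
    let F : (∀ k, A k)[X] := ∑ i ∈ Finset.range (d + 1), monomial i (fun k => (q k).coeff i)
    have hFmap : ∀ k, F.map (Pi.evalRingHom A k) = q k := by
      intro k
      ext n
      simp only [F, Polynomial.map_sum, map_monomial, finsetSum_coeff, coeff_monomial,
        Pi.evalRingHom_apply]
      rw [Finset.sum_ite_eq' (Finset.range (d + 1)) n (fun i => (q k).coeff i)]
      split_ifs with hn
      · rfl
      · rw [Finset.mem_range, not_lt] at hn
        exact (coeff_eq_zero_of_natDegree_lt (lt_of_le_of_lt (hq_deg k) hn)).symm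
    have hFm : F.Monic := by
      refine monic_of_natDegree_le_of_coeff_eq_one d ?_ ?_
      · exact natDegree_sum_le_of_forall_le _ _ (fun i hi =>
          (natDegree_monomial_le _).trans (Nat.lt_succ_iff.mp (Finset.mem_range.mp hi)))
      · funext k
        have := hq_lead k
        rw [← hFmap k, coeff_map] at this
        exact this
    let b₀ : ∀ k, A k := Function.update (fun k => 1) j a₀
    have hb₀j : b₀ j = a₀ := Function.update_self ..
    have hb₀k : ∀ k, k ≠ j → b₀ k = 1 := fun k hk => Function.update_of_ne hk ..
    have hh := (henselianRing_iff_unit _).mp h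
    have hF1 : F.eval b₀ ∈ (⨅ j, Ideal.comap (Pi.evalRingHom A j) (I j)) := by
      rw [hmem]; intro k
      rw [hev, hFmap]
      by_cases hk : k = j
      · subst hk; rw [hqj, hb₀j]; exact h₁
      · rw [hqk k hk, hb₀k k hk]
        simp
    have hF2 : IsUnit (F.derivative.eval b₀) := by
      rw [Pi.isUnit_iff]; intro k
      rw [hev, ← derivative_map, hFmap]
      by_cases hk : k = j
      · subst hk; rw [hqj, hb₀j]; exact h₂
      · rw [hqk k hk, hb₀k k hk]
        have : (derivative (X ^ d - X ^ (d - 1) : (A k)[X])).eval 1 = 1 := by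
          simp only [derivative_sub, derivative_X_pow, eval_sub, eval_mul, eval_C, eval_pow,
            eval_X, one_pow, mul_one]
          rw [Nat.cast_pred hdpos]
          ring
        rw [this]; exact isUnit_one
    obtain ⟨a, ha, haP⟩ := hh.2 F hFm b₀ hF1 hF2
    refine ⟨a j, ?_, ?_⟩
    · have h3 := congrFun ha.eq_zero j
      rw [hev, hFmap, hqj] at h3
      exact h3
    · have h3 := (hmem _).mp haP j
      rw [Pi.sub_apply, hb₀j] at h3
      exact h3
  · intro h
    rw [henselianRing_iff_unit]
    refine ⟨?_, ?_⟩
    · intro x hx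
      rw [Ideal.mem_jacobson_bot]
      intro y
      rw [Pi.isUnit_iff]
      intro j
      exact Ideal.mem_jacobson_bot.mp ((h j).jac ((hmem x).mp hx j)) (y j)
    · intro F hF a₀ h₁ h₂
      have hj : ∀ j, ∃ a : A j, (F.map (Pi.evalRingHom A j)).IsRoot a ∧ a - a₀ j ∈ I j := by
        intro j
        have hh := (henselianRing_iff_unit (I j)).mp (h j)
        refine hh.2 (F.map (Pi.evalRingHom A j)) (hF.map _) (a₀ j) ?_ ?_
        · rw [← hev]
          exact (hmem _).mp h₁ j
        · rw [derivative_map, ← hev]
          exact (Pi.isUnit_iff.mp h₂) j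
      choose a ha ha' using hj
      refine ⟨a, ?_, (hmem _).mpr ha'⟩
      rw [IsRoot.def]
      funext j
      rw [hev]
      exact ha j

end Groth.Agent.S0529
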