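import Groth.Statements.S0530
import Groth.Agent.H3.Gabber
import Mathlib.Tactic.LinearCombination
import Mathlib.Tactic.Ring

set_option autoImplicit false
universe u
open Hensel

namespace Groth.Agent.S0530

open Polynomial in
/-- In a ring henselian along `J`, an element which is idempotent modulo `J` is congruent to an
idempotent. -/
theorem exists_idem {B : Type u} [CommRing B] {J : Ideal B} (h : HenselianRing B J) (b : B)
    (hb : b ^ 2 - b ∈ J) : ∃ e : B, e * e = e ∧ e - b ∈ J := by
  have hmonic : (X ^ 2 - X : B[X]).Monic := by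
    apply Polynomial.monic_X_pow_sub
    exact lt_of_le_of_lt Polynomial.degree_X_le (by norm_num)
  have heval : (X ^ 2 - X : B[X]).eval b = b ^ 2 - b := by simp
  have hder : (derivative (X ^ 2 - X : B[X])).eval b = 2 * b - 1 := by
    simp
    ring
  have hunit : IsUnit ((Ideal.Quotient.mk J) ((derivative (X ^ 2 - X : B[X])).eval b)) := by
    rw [hder]
    have h1 : (Ideal.Quotient.mk J) (2 * b - 1) * (Ideal.Quotient.mk J) (2 * b - 1) = 1 := by
      rw [← map_mul, ← map_one (Ideal.Quotient.mk J), Ideal.Quotient.eq]
      have : (2 * b - 1) * (2 * b - 1) - 1 = 4 * (b ^ 2 - b) := by ring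
      rw [this]
      exact J.mul_mem_left _ hb
    exact IsUnit.of_mul_eq_one _ h1
  obtain ⟨e, he, hea⟩ := h.is_henselian (X ^ 2 - X) hmonic b (by rw [heval]; exact hb) hunit
  refine ⟨e, ?_, hea⟩
  have : e ^ 2 - e = 0 := by simpa [IsRoot] using he
  linear_combination this

/-- If `A` is Henselian at `I` and `p` is a prime ideal of `A`, then the spectrum of `A/(p + I)` is
connected. -/
theorem result (A : Type u) [CommRing A] (I : Ideal A) [HenselianRing A I]
    (p : Ideal A) [p.IsPrime] : ConnectedSpace (PrimeSpectrum (A ⧸ p ⊔ I)) := by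
  have hI : HenselianRing A I := inferInstance
  have hB : HenselianRing (A ⧸ p) (I.map (Ideal.Quotient.mk p)) :=
    Groth.Agent.H3.henselianRing_quotient_general p hI
  -- the quotient is nontrivial
  have hne : p ⊔ I ≠ ⊤ := by
    obtain ⟨m, hm, hpm⟩ := Ideal.exists_le_maximal p (Ideal.IsPrime.ne_top inferInstance)
    intro htop
    have hIm : I ≤ m := by
      refine hI.jac.trans ?_
      rw [Ideal.jacobson]
      exact sInf_le ⟨bot_le, hm⟩
    exact hm.ne_top (top_le_iff.mp (htop ▸ sup_le hpm hIm))
  have : Nontrivial (A ⧸ p ⊔ I) := Ideal.Quotient.nontrivial_iff.mpr hne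
  -- idempotents are trivial
  have hidem : ∀ x : A ⧸ p ⊔ I, IsIdempotentElem x → x = 0 ∨ x = 1 := by
    intro x hx
    obtain ⟨a, rfl⟩ := Ideal.Quotient.mk_surjective x
    have ha : a ^ 2 - a ∈ p ⊔ I := by
      rw [← Ideal.Quotient.eq]
      rw [map_pow, pow_two]
      exact hx
    have ha' : (Ideal.Quotient.mk p a) ^ 2 - Ideal.Quotient.mk p a ∈
        I.map (Ideal.Quotient.mk p) := by
      rw [← map_pow, ← map_sub, Ideal.mem_quotient_iff_mem_sup, sup_comm]
      exact ha
    obtain ⟨e, he, hea⟩ := exists_idem hB _ ha'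
    have he01 : e = 0 ∨ e = 1 := by
      have : e * (e - 1) = 0 := by linear_combination he
      rcases mul_eq_zero.mp this with h | h
      · exact Or.inl h
      · exact Or.inr (sub_eq_zero.mp h)
    rcases he01 with rfl | rfl
    · left
      have : Ideal.Quotient.mk p a ∈ I.map (Ideal.Quotient.mk p) := by
        have := (I.map (Ideal.Quotient.mk p)).neg_mem hea
        simpa using this
      rw [Ideal.mem_quotient_iff_mem_sup, sup_comm] at this
      exact Ideal.Quotient.eq_zero_iff_mem.mpr this
    · right
      have : Ideal.Quotient.mk p (a - 1) ∈ I.map (Ideal.Quotient.mk p) := by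
        have := (I.map (Ideal.Quotient.mk p)).neg_mem hea
        simpa using this
      rw [Ideal.mem_quotient_iff_mem_sup, sup_comm] at this
      have h2 := Ideal.Quotient.eq_zero_iff_mem.mpr this
      rw [map_sub, map_one, sub_eq_zero] at h2
      exact h2
  have hpre : PreconnectedSpace (PrimeSpectrum (A ⧸ p ⊔ I)) := by
    rw [preconnectedSpace_iff_clopen]
    intro s hs
    obtain ⟨e, he, rfl⟩ := PrimeSpectrum.isClopen_iff.mp hs
    rcases hidem e he with rfl | rfl
    · left; simp
    · right; simp
  exact { toPreconnectedSpace := hpre, toNonempty := inferInstance }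

end Groth.Agent.S0530
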