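import Groth.Statements.S0531
import Groth.Agent.H3.Gabber
import Mathlib.LinearAlgebra.Finsupp.Span
-- import your own Groth.Agent.* helpers here

set_option autoImplicit false
universe u
open Hensel

namespace Groth.Agent.S0531

/-- Every ring has a largest ideal at which it is Henselian. -/
theorem result (A : Type u) [CommRing A] :
    ∃ I : Ideal A, HenselianRing A I ∧ ∀ J : Ideal A, HenselianRing A J → J ≤ I := by
  classical
  open Groth.Agent.H3 in
  have hbot : HenselianRing A (⊥ : Ideal A) := by
    refine ⟨bot_le, fun f _ a₀ h₁ _ => ⟨a₀, ?_, by simp⟩⟩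
    rwa [Ideal.mem_bot] at h₁
  have hfin : ∀ s : Finset (Ideal A), (∀ I ∈ s, HenselianRing A I) →
      HenselianRing A (⨆ I ∈ s, I) := by
    intro s
    induction s using Finset.induction_on with
    | empty => intro _; simpa using hbot
    | insert I s _ ih =>
      intro h
      rw [Finset.iSup_insert]
      exact henselianRing_sup (h I (Finset.mem_insert_self I s))
        (ih (fun J hJ => h J (Finset.mem_insert_of_mem hJ)))
  refine ⟨sSup {I : Ideal A | HenselianRing A I}, ?_, fun J hJ => le_sSup hJ⟩
  rw [henselianRing_iff_unit]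
  refine ⟨sSup_le (fun I hI => hI.jac), fun f hf a₀ h₁ h₂ => ?_⟩
  obtain ⟨s, hs, hsm⟩ := Submodule.mem_sSup_iff_exists_finset.mp h₁
  have h3 := hfin s (fun I hI => hs hI)
  obtain ⟨a, ha, haI⟩ := ((henselianRing_iff_unit _).mp h3).2 f hf a₀ hsm h₂
  refine ⟨a, ha, ?_⟩
  have hle : (⨆ I ∈ s, I) ≤ sSup {I : Ideal A | HenselianRing A I} :=
    iSup₂_le (fun I hI => le_sSup (hs hI))
  exact hle haI

end Groth.Agent.S0531
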