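import Groth.Statements.S0535
import Mathlib.Tactic.LinearCombination
import Mathlib.Tactic.Ring
import Mathlib.RingTheory.Nakayama
import Mathlib.LinearAlgebra.TensorProduct.Quotient
import Mathlib.Tactic.Abel

set_option autoImplicit false
universe u
open Hensel

namespace Groth.Agent.S0535

open TensorProduct

section aux

variable {R : Type u} [CommRing R] (I : Ideal R) {P : Type u} [AddCommGroup P] [Module R P]

/-- `1 ⊗ p = 0` in `R/I ⊗ P` iff `p ∈ I P`. -/
theorem one_tmul_eq_zero_iff (p : P) :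
    ((1 : R ⧸ I) ⊗ₜ[R] p = 0) ↔ p ∈ (I • ⊤ : Submodule R P) := by
  rw [← (TensorProduct.quotTensorEquivQuotSMul P I).map_eq_zero_iff]
  have : (1 : R ⧸ I) = Ideal.Quotient.mk I 1 := rfl
  rw [this, TensorProduct.quotTensorEquivQuotSMul_mk_tmul, one_smul,
    Submodule.Quotient.mk_eq_zero]

/-- every element of `R/I ⊗ P` is of the form `1 ⊗ p`. -/
theorem exists_one_tmul (z : (R ⧸ I) ⊗[R] P) : ∃ p : P, z = (1 : R ⧸ I) ⊗ₜ[R] p := by
  induction z using TensorProduct.induction_on with
  | zero => exact ⟨0, by simp⟩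
  | tmul r p =>
    obtain ⟨r, rfl⟩ := Ideal.Quotient.mk_surjective r
    refine ⟨r • p, ?_⟩
    rw [TensorProduct.tmul_smul, TensorProduct.smul_tmul']
    congr 1
    rw [Algebra.smul_def, mul_one]
    rfl
  | add x y hx hy =>
    obtain ⟨p, rfl⟩ := hx
    obtain ⟨q, rfl⟩ := hy
    exact ⟨p + q, by rw [TensorProduct.tmul_add]⟩

end aux

/-- If `R` is Henselian at `I` and two finitely generated projective `R`-modules become isomorphic after
base change to `R/I`, then they are isomorphic. -/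
theorem result (R : Type u) [CommRing R] (I : Ideal R)
    [HenselianRing R I] (P₁ P₂ : Type u) [AddCommGroup P₁] [Module R P₁] [AddCommGroup P₂]
    [Module R P₂] [Module.Finite R P₁] [Module.Projective R P₁] [Module.Finite R P₂]
    [Module.Projective R P₂]
    (e : TensorProduct R (R ⧸ I) P₁ ≃ₗ[R ⧸ I] TensorProduct R (R ⧸ I) P₂) :
    Nonempty (P₁ ≃ₗ[R] P₂) := by
  have hjac : I ≤ Ideal.jacobson ⊥ := HenselianRing.jac
  -- the maps `p ↦ 1 ⊗ p`
  let q₁ : P₁ →ₗ[R] (R ⧸ I) ⊗[R] P₁ := TensorProduct.mk R (R ⧸ I) P₁ 1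
  let q₂ : P₂ →ₗ[R] (R ⧸ I) ⊗[R] P₂ := TensorProduct.mk R (R ⧸ I) P₂ 1
  have hq₂ : Function.Surjective q₂ := by
    intro z
    obtain ⟨p, rfl⟩ := exists_one_tmul I z
    exact ⟨p, rfl⟩
  let eR : (R ⧸ I) ⊗[R] P₁ →ₗ[R] (R ⧸ I) ⊗[R] P₂ := (e.toLinearMap).restrictScalars R
  -- lift
  obtain ⟨f, hf⟩ := Module.projective_lifting_property q₂ (eR ∘ₗ q₁) hq₂
  have hf' : ∀ p : P₁, (1 : R ⧸ I) ⊗ₜ[R] (f p) = e ((1 : R ⧸ I) ⊗ₜ[R] p) := fun p =>
    LinearMap.congr_fun hf p
  -- `f` is surjective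
  have hsurj : Function.Surjective f := by
    rw [← LinearMap.range_eq_top]
    apply top_le_iff.mp
    apply Submodule.le_of_le_smul_of_le_jacobson_bot Module.Finite.fg_top hjac
    intro y _
    obtain ⟨p, hp⟩ := exists_one_tmul I (e.symm ((1 : R ⧸ I) ⊗ₜ[R] y))
    have h1 : (1 : R ⧸ I) ⊗ₜ[R] (y - f p) = 0 := by
      rw [TensorProduct.tmul_sub, hf', ← hp, LinearEquiv.apply_symm_apply, sub_self]
    have h2 := (one_tmul_eq_zero_iff I _).mp h1
    have : y = f p + (y - f p) := by abel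
    rw [this]
    exact Submodule.add_mem_sup (LinearMap.mem_range_self f p) h2
  -- split
  obtain ⟨s, hs⟩ := Module.projective_lifting_property f LinearMap.id hsurj
  have hs' : ∀ y, f (s y) = y := fun y => LinearMap.congr_fun hs y
  -- the kernel is finitely generated
  let π : P₁ →ₗ[R] P₁ := LinearMap.id - s ∘ₗ f
  have hπker : ∀ p, π p ∈ LinearMap.ker f := by
    intro p
    simp only [π, LinearMap.mem_ker, LinearMap.sub_apply, LinearMap.id_apply,
      LinearMap.comp_apply, map_sub, hs', sub_self]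
  have hπid : ∀ k ∈ LinearMap.ker f, π k = k := by
    intro k hk
    simp only [π, LinearMap.sub_apply, LinearMap.id_apply, LinearMap.comp_apply,
      LinearMap.mem_ker.mp hk, map_zero, sub_zero]
  have hrange : LinearMap.range π = LinearMap.ker f := by
    apply le_antisymm
    · rintro _ ⟨p, rfl⟩
      exact hπker p
    · intro k hk
      exact ⟨k, hπid k hk⟩
  have hfg : (LinearMap.ker f).FG := by
    rw [← hrange, LinearMap.range_eq_map]
    exact Submodule.FG.map π Module.Finite.fg_top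
  have hker : LinearMap.ker f = ⊥ := by
    apply Submodule.eq_bot_of_le_smul_of_le_jacobson_bot I _ hfg _ hjac
    intro k hk
    have h1 : (1 : R ⧸ I) ⊗ₜ[R] k = 0 := by
      apply e.injective
      rw [← hf', LinearMap.mem_ker.mp hk, TensorProduct.tmul_zero, map_zero]
    have h2 : k ∈ (I • ⊤ : Submodule R P₁) := (one_tmul_eq_zero_iff I _).mp h1
    have h3 : π k ∈ I • LinearMap.ker f := by
      have : (I • ⊤ : Submodule R P₁).map π ≤ I • LinearMap.ker f := by
        rw [Submodule.map_smul'', Submodule.map_top, hrange]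
      exact this (Submodule.mem_map_of_mem h2)
    rwa [hπid k hk] at h3
  exact ⟨LinearEquiv.ofBijective f ⟨LinearMap.ker_eq_bot.mp hker, hsurj⟩⟩

end Groth.Agent.S0535
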