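import Groth.Statements.S0536
import Groth.Agent.H87.SmoothHens

set_option autoImplicit false
universe u
open Hensel

namespace Groth.Agent.S0536

/-- Let `S` be a smooth `R`-algebra and `A` an `R`-algebra Henselian at an ideal `I`. Every `R`-algebra
map `S → A/I` lifts to an `R`-algebra map `S → A`. -/
theorem result (R : Type u) [CommRing R] (S : Type u) [CommRing S]
    [Algebra R S] [Algebra.Smooth R S] (A : Type u) [CommRing A] [Algebra R A] (I : Ideal A)
    [HenselianRing A I] (σ : S →ₐ[R] A ⧸ I) :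
    ∃ τ : S →ₐ[R] A, (Ideal.Quotient.mkₐ R I).comp τ = σ := by
  classical
  let B := TensorProduct R A S
  let σA : B →ₐ[A] A ⧸ I :=
    Algebra.TensorProduct.lift (Algebra.ofId A (A ⧸ I)) σ (fun _ _ => Commute.all _ _)
  have hσA : ∀ x : S, σA (1 ⊗ₜ x) = σ x := fun x => by
    change Algebra.TensorProduct.lift _ _ _ (1 ⊗ₜ x) = _
    rw [Algebra.TensorProduct.lift_tmul, map_one, one_mul]
  obtain ⟨τA, hτA⟩ := Groth.Agent.H87.SmoothHens.exists_lift_of_smooth ‹HenselianRing A I› B σA
  refine ⟨(τA.restrictScalars R).comp Algebra.TensorProduct.includeRight, ?_⟩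
  apply AlgHom.ext
  intro x
  have h1 := congrArg (fun g : B →ₐ[A] A ⧸ I => g (1 ⊗ₜ x)) hτA
  simp only [AlgHom.comp_apply] at h1
  rw [hσA] at h1
  rw [← h1]
  rfl

end Groth.Agent.S0536
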