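import Groth.Statements.S0551
-- import your own Groth.Agent.* helpers here
import Groth.Agent.H70.FlatLim.Adic

set_option autoImplicit false
universe u
open CAlg

namespace Groth.Agent.S0551

/-- Let `R` be a ring, `I` a finitely generated ideal with `R/I` Noetherian, and `M` an `R`-module such
that `M/IM` is flat over `R/I` and the multiplication map `I ⊗ M → M` is injective (the vanishing of
the first Tor of `M` against `R/I`). Then the `I`-adic completion of `M` is flat over the `I`-adic
completion of `R`. (The published statement also records that the completed ring is Noetherian; that
is stated separately.) -/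
theorem result (R : Type u) [CommRing R] (I : Ideal R) (hI : I.FG)
    [IsNoetherianRing (R ⧸ I)] (M : Type u) [AddCommGroup M] [Module R M]
    [Module.Flat (R ⧸ I) (M ⧸ (I • ⊤ : Submodule R M))]
    (hT : Function.Injective (TensorProduct.lift ((LinearMap.lsmul R M).comp (Submodule.subtype I)))) :
    Module.Flat (AdicCompletion I R) (AdicCompletion I M) := by
  have h : ∀ x, TensorProduct.lift ((LinearMap.lsmul R M).comp (Submodule.subtype I)) x =
      TensorProduct.lid R M (I.subtype.rTensor M x) := by
    intro x
    induction x using TensorProduct.induction_on with
    | zero => simp
    | tmul a m => simp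
    | add x y hx hy => simp only [map_add, hx, hy]
  have hT' : Function.Injective (I.subtype.rTensor M) := by
    intro x y hxy
    apply hT
    rw [h, h, hxy]
  exact Groth.Agent.H70.FlatLim.flat_adicCompletion hI hT'

end Groth.Agent.S0551
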