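import Groth.Statements.S0552
import Groth.Agent.H62.CatenRing
-- import your own Groth.Agent.* helpers here

set_option autoImplicit false
universe u
open CAlg

open Groth.Agent.H62

namespace Groth.Agent.S0552

/-- A ring is catenary exactly when its localization at every maximal ideal is catenary. -/
theorem result (R : Type u) [CommRing R] :
    CAlg.IsCatenary R ↔ ∀ (m : Ideal R) [m.IsMaximal], CAlg.IsCatenary (Localization.AtPrime m) := by
  constructor
  · intro hR m hm
    exact isCatenary_of_isLocalization m.primeCompl hR
  · intro H
    rw [isCatenary_iff_catPair']
    intro p q hpq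
    obtain ⟨m, hm, hqm⟩ := Ideal.exists_le_maximal q.asIdeal q.2.ne_top
    refine catPair'_of_isLocalization (B := Localization.AtPrime m) m.primeCompl (H m) p q hpq ?_
    rw [Set.disjoint_left]
    intro x hx hxq
    exact hx (hqm hxq)

end Groth.Agent.S0552
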