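import Groth.Statements.S0553
import Groth.Agent.H62.CatenRing
import Groth.Agent.S9126
-- import your own Groth.Agent.* helpers here

set_option autoImplicit false
universe u
open CAlg

open Groth.Agent.H62

namespace Groth.Agent.S0553

attribute [local instance] Algebra.TensorProduct.rightAlgebra

/-- A Noetherian ring is universally catenary exactly when its localization at every maximal ideal is
universally catenary. -/
theorem result (R : Type u) [CommRing R]
    [IsNoetherianRing R] :
    CAlg.IsUniversallyCatenary R ↔
      ∀ (m : Ideal R) [m.IsMaximal], CAlg.IsUniversallyCatenary (Localization.AtPrime m) := by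
  constructor
  · intro hR m hm
    exact Groth.Agent.S9126.result R (Localization.AtPrime m) hR
  · intro H
    refine ⟨inferInstance, ?_⟩
    intro S _ _ hS
    rw [isCatenary_iff_catPair']
    intro p q hpq
    have hP : (q.asIdeal.comap (algebraMap R S)) ≠ ⊤ := (Ideal.IsPrime.comap _).ne_top
    obtain ⟨m, hm, hPm⟩ := Ideal.exists_le_maximal _ hP
    have hB : CAlg.IsCatenary (TensorProduct R (Localization.AtPrime m) S) :=
      (H m).2 _ inferInstance
    refine catPair'_of_isLocalization (B := TensorProduct R (Localization.AtPrime m) S)
      (Algebra.algebraMapSubmonoid S m.primeCompl) hB p q hpq ?_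
    rw [Set.disjoint_left]
    rintro _ ⟨r, hr, rfl⟩ hxq
    exact hr (hPm hxq)

end Groth.Agent.S0553
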