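import Groth.Statements.S0573
import Groth.Agent.H38.NagataIC

set_option autoImplicit false
universe u
open CAlg

namespace Groth.Agent.S0573

/-- Stated for finite type rather than essentially finite type algebras: if `R` is a Nagata ring and `S`
a reduced `R`-algebra of finite type, then the integral closure of `R` in `S` is a finitely
generated `R`-module. -/
theorem result (R : Type u) [CommRing R] (hR : CAlg.IsNagata R)
    (S : Type u) [CommRing S] [IsReduced S] [Algebra R S] [Algebra.FiniteType R S] :
    Module.Finite R (integralClosure R S) := by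
  haveI : IsNoetherianRing R := hR.1
  haveI : IsNoetherianRing S := Algebra.FiniteType.isNoetherianRing R S
  refine Groth.Agent.H38.NagataIC.finite_integralClosure_of_minimalPrimes
    (minimalPrimes.finite_of_isNoetherianRing S) ?_
  intro q hq
  haveI hqp : q.IsPrime := hq.1.1
  haveI : (q.comap (algebraMap R S)).IsPrime := Ideal.IsPrime.comap _
  have hN2 : CAlg.IsN2 (R ⧸ q.comap (algebraMap R S)) := hR.2 (q.comap (algebraMap R S))
  have hinj' : Function.Injective (algebraMap (R ⧸ q.comap (algebraMap R S)) (S ⧸ q)) :=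
    Ideal.algebraMap_quotient_injective
  have hinjL : Function.Injective (algebraMap (R ⧸ q.comap (algebraMap R S))
      (FractionRing (S ⧸ q))) := by
    rw [IsScalarTower.algebraMap_eq (R ⧸ q.comap (algebraMap R S)) (S ⧸ q)
      (FractionRing (S ⧸ q))]
    exact (IsFractionRing.injective (S ⧸ q) _).comp hinj'
  haveI : FaithfulSMul (R ⧸ q.comap (algebraMap R S)) (FractionRing (S ⧸ q)) :=
    (faithfulSMul_iff_algebraMap_injective _ _).mpr hinjL
  letI : Algebra (FractionRing (R ⧸ q.comap (algebraMap R S))) (FractionRing (S ⧸ q)) :=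
    FractionRing.liftAlgebra _ _
  haveI : IsScalarTower (R ⧸ q.comap (algebraMap R S))
      (FractionRing (R ⧸ q.comap (algebraMap R S))) (FractionRing (S ⧸ q)) :=
    FractionRing.isScalarTower_liftAlgebra _ _
  haveI : Algebra.FiniteType R (S ⧸ q) :=
    Algebra.FiniteType.of_surjective (Ideal.Quotient.mkₐ R q) (Ideal.Quotient.mkₐ_surjective R q)
  haveI : Algebra.FiniteType (R ⧸ q.comap (algebraMap R S)) (S ⧸ q) :=
    Algebra.FiniteType.of_restrictScalars_finiteType R _ _
  haveI : Algebra.EssFiniteType (S ⧸ q) (FractionRing (S ⧸ q)) :=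
    Algebra.EssFiniteType.of_isLocalization _ (nonZeroDivisors (S ⧸ q))
  haveI : Algebra.EssFiniteType (R ⧸ q.comap (algebraMap R S)) (FractionRing (S ⧸ q)) :=
    Algebra.EssFiniteType.comp _ (S ⧸ q) _
  haveI : Algebra.EssFiniteType (FractionRing (R ⧸ q.comap (algebraMap R S)))
      (FractionRing (S ⧸ q)) :=
    Algebra.EssFiniteType.of_comp (R ⧸ q.comap (algebraMap R S)) _ _
  have h1 : Module.Finite (R ⧸ q.comap (algebraMap R S))
      (integralClosure (R ⧸ q.comap (algebraMap R S)) (FractionRing (S ⧸ q))) :=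
    Groth.Agent.H38.NagataIC.finite_integralClosure_of_isN2_of_essFiniteType _
      (FractionRing (R ⧸ q.comap (algebraMap R S))) (FractionRing (S ⧸ q)) hN2
  refine ⟨FractionRing (S ⧸ q), inferInstance,
    (algebraMap (S ⧸ q) (FractionRing (S ⧸ q))).comp (Ideal.Quotient.mk q), ?_, ?_⟩
  · intro b hb
    rw [RingHom.mem_ker, RingHom.comp_apply] at hb
    have : Ideal.Quotient.mk q b = 0 :=
      (IsFractionRing.injective (S ⧸ q) (FractionRing (S ⧸ q))) (by rw [hb, map_zero])
    exact Ideal.Quotient.eq_zero_iff_mem.mp this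
  · have htower : @IsScalarTower R (R ⧸ q.comap (algebraMap R S)) (FractionRing (S ⧸ q)) _ _
        ((((algebraMap (S ⧸ q) (FractionRing (S ⧸ q))).comp (Ideal.Quotient.mk q)).comp
        (algebraMap R S)).toAlgebra).toSMul :=
      @IsScalarTower.of_algebraMap_eq R (R ⧸ q.comap (algebraMap R S)) (FractionRing (S ⧸ q))
        _ _ _ _ _ ((((algebraMap (S ⧸ q) (FractionRing (S ⧸ q))).comp (Ideal.Quotient.mk q)).comp
        (algebraMap R S)).toAlgebra) (fun r => by
        change algebraMap (S ⧸ q) (FractionRing (S ⧸ q)) (Ideal.Quotient.mk q (algebraMap R S r)) =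
          algebraMap (R ⧸ q.comap (algebraMap R S)) (FractionRing (S ⧸ q))
            (algebraMap R (R ⧸ q.comap (algebraMap R S)) r)
        rw [IsScalarTower.algebraMap_apply (R ⧸ q.comap (algebraMap R S)) (S ⧸ q)
          (FractionRing (S ⧸ q))]
        rfl)
    exact @Groth.Agent.H38.NagataIC.finite_integralClosure_of_surjective
      R (R ⧸ q.comap (algebraMap R S)) (FractionRing (S ⧸ q)) _ _ _ Ideal.Quotient.mk_surjective
      _ _ ((((algebraMap (S ⧸ q) (FractionRing (S ⧸ q))).comp (Ideal.Quotient.mk q)).comp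
        (algebraMap R S)).toAlgebra) htower h1

end Groth.Agent.S0573
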