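import Groth.Statements.S0574
import Mathlib

set_option autoImplicit false
universe u
open CAlg

namespace Groth.Agent.S0574

/-- For Noetherian domains of characteristic zero the conditions N-1 and N-2 coincide. -/
theorem result (R : Type u) [CommRing R] [IsDomain R] [IsNoetherianRing R]
    [CharZero R] : CAlg.IsN1 R ↔ CAlg.IsN2 R := by
  constructor
  · intro hN1 L _ _ _ _ hfin
    have hN1' : Module.Finite R (integralClosure R (FractionRing R)) := hN1
    set K := FractionRing R with hK
    set R' := integralClosure R K with hR'
    have : IsNoetherianRing R' := Algebra.FiniteType.isNoetherianRing R R'
    have : IsIntegrallyClosed R' := integralClosure.isIntegrallyClosedOfFiniteExtension K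
    have : IsFractionRing R' K := integralClosure.isFractionRing_of_finite_extension K K
    have : CharZero K := charZero_of_injective_algebraMap (IsFractionRing.injective R K)
    have : Algebra.IsSeparable K L := inferInstance
    have : IsScalarTower R' K L := inferInstance
    have hfin' : Module.Finite R' (integralClosure R' L) :=
      IsIntegralClosure.finite R' K L (integralClosure R' L)
    have : IsScalarTower R R' L := inferInstance
    have : Module.Finite R (integralClosure R' L) := Module.Finite.trans R' _
    have : Algebra.IsIntegral R R' := inferInstance
    let f : integralClosure R' L →ₗ[R] integralClosure R L :=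
      { toFun := fun x => ⟨x.1, isIntegral_trans (R := R) (A := R') x.1 x.2⟩
        map_add' := fun _ _ => rfl
        map_smul' := fun _ _ => rfl }
    have hf : Function.Surjective f := fun x => ⟨⟨x.1, IsIntegral.tower_top x.2⟩, rfl⟩
    exact Module.Finite.of_surjective f hf
  · intro hN2
    exact hN2 (FractionRing R) inferInstance

end Groth.Agent.S0574
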