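import Groth.Statements.S0577
import Groth.Agent.H13.NagataAnUnram
-- import your own Groth.Agent.* helpers here

set_option autoImplicit false
universe u
open CAlg TensorProduct

namespace Groth.Agent.S0577

/-- Let `A` be a Noetherian local domain of prime characteristic `p` which is a Nagata ring. If `a ∈ A`
has a `p`-th root in the completion of `A`, then it has a `p`-th root in `A`. -/
theorem result (A : Type u) [CommRing A] [IsDomain A]
    [IsLocalRing A] (hA : CAlg.IsNagata A) (p : ℕ) [Fact p.Prime] [CharP A p] (a : A)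
    (h : ∃ α : AdicCompletion (IsLocalRing.maximalIdeal A) A,
      α ^ p = algebraMap A (AdicCompletion (IsLocalRing.maximalIdeal A) A) a) :
    ∃ b : A, b ^ p = a := by
  classical
  haveI : IsNoetherianRing A := hA.1
  obtain ⟨α, hα⟩ := h
  have hp : p.Prime := Fact.out
  haveI hloc := Groth.Agent.H72.FormalEquidim.isLocalRing_compl A
  haveI := Groth.Agent.H72.FormalEquidim.isLocalHom_compl A
  haveI : Module.Flat A (AdicCompletion (IsLocalRing.maximalIdeal A) A) := inferInstance
  haveI : Module.FaithfullyFlat A (AdicCompletion (IsLocalRing.maximalIdeal A) A) :=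
    Module.FaithfullyFlat.of_flat_of_isLocalHom
  -- a `p`-th root of `a` in an algebraic closure of the fraction field
  let Ω := AlgebraicClosure (FractionRing A)
  obtain ⟨β, hβ⟩ := IsAlgClosed.exists_pow_nat_eq (algebraMap A Ω a) hp.pos
  have hint : IsIntegral A β := IsIntegral.of_pow hp.pos (hβ ▸ isIntegral_algebraMap)
  let B : Subalgebra A Ω := Algebra.adjoin A {β}
  haveI : Module.Finite A B := Module.Finite.iff_fg.mpr hint.fg_adjoin_singleton
  have hred : IsReduced (B ⊗[A] AdicCompletion (IsLocalRing.maximalIdeal A) A) :=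
    Groth.Agent.H13.NagataAnUnram.isReduced_tensor_of_isDomain A hA.2 B
  let β' : B := ⟨β, Algebra.subset_adjoin (Set.mem_singleton β)⟩
  have hβ' : β' ^ p = algebraMap A B a := by
    apply Subtype.ext
    rw [SubmonoidClass.coe_pow]
    exact hβ
  -- `β' ⊗ 1 = 1 ⊗ α`
  let T := B ⊗[A] AdicCompletion (IsLocalRing.maximalIdeal A) A
  have hp0 : (p : T) = 0 := by
    have : (p : T) = algebraMap A T (p : A) := by rw [map_natCast]
    rw [this, CharP.cast_eq_zero, map_zero]
  have heq : (β' ⊗ₜ[A] (1 : AdicCompletion (IsLocalRing.maximalIdeal A) A) : T) =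
      (1 : B) ⊗ₜ[A] α := by
    set u : T := β' ⊗ₜ[A] (1 : AdicCompletion (IsLocalRing.maximalIdeal A) A) with hu
    set v : T := (1 : B) ⊗ₜ[A] α with hv
    obtain ⟨r, hr⟩ := exists_add_pow_prime_eq hp (u - v) v
    rw [sub_add_cancel, hp0] at hr
    have hu' : u ^ p = v ^ p := by
      rw [hu, hv, Algebra.TensorProduct.tmul_pow, Algebra.TensorProduct.tmul_pow, one_pow, one_pow,
        hβ', hα, Algebra.algebraMap_eq_smul_one, Algebra.algebraMap_eq_smul_one,
        TensorProduct.smul_tmul]
    have hz : (u - v) ^ p = 0 := by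
      have : u ^ p = (u - v) ^ p + v ^ p := by rw [hr]; ring
      rw [hu'] at this
      exact (add_eq_right.mp this.symm)
    have := (IsNilpotent.eq_zero ⟨p, hz⟩ : u - v = 0)
    exact sub_eq_zero.mp this
  -- descend along the faithfully flat map
  let N : Submodule A B := LinearMap.range (Algebra.linearMap A B)
  have h1 : (N.mkQ.rTensor (AdicCompletion (IsLocalRing.maximalIdeal A) A)) (β' ⊗ₜ[A] 1) = 0 := by
    rw [heq, LinearMap.rTensor_tmul]
    have : N.mkQ (1 : B) = 0 := by
      rw [Submodule.mkQ_apply, Submodule.Quotient.mk_eq_zero]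
      exact ⟨1, by simp⟩
    rw [this, TensorProduct.zero_tmul]
  rw [LinearMap.rTensor_tmul] at h1
  have h2 : (TensorProduct.mk A (AdicCompletion (IsLocalRing.maximalIdeal A) A) (B ⧸ N) 1)
      (N.mkQ β') = 0 := by
    rw [TensorProduct.mk_apply]
    have := congrArg (TensorProduct.comm A (B ⧸ N) (AdicCompletion (IsLocalRing.maximalIdeal A) A)) h1
    rwa [TensorProduct.comm_tmul, map_zero] at this
  have h3 : N.mkQ β' = 0 := by
    apply Module.FaithfullyFlat.tensorProduct_mk_injective
      (A := A) (B := AdicCompletion (IsLocalRing.maximalIdeal A) A) (B ⧸ N)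
    rw [h2, map_zero]
  rw [Submodule.mkQ_apply, Submodule.Quotient.mk_eq_zero] at h3
  obtain ⟨b, hb⟩ := h3
  refine ⟨b, ?_⟩
  have hinj : Function.Injective (algebraMap A B) := by
    have h4 : Function.Injective (algebraMap A Ω) := by
      rw [IsScalarTower.algebraMap_eq A (FractionRing A) Ω]
      exact (algebraMap (FractionRing A) Ω).injective.comp (IsFractionRing.injective A _)
    intro x y hxy
    apply h4
    have := congrArg (algebraMap B Ω) hxy
    rwa [← IsScalarTower.algebraMap_apply, ← IsScalarTower.algebraMap_apply] at this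
  apply hinj
  rw [map_pow, ← hβ']
  congr 1

end Groth.Agent.S0577
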