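import Groth.Statements.S0602
import Groth.Agent.H14.ZClos.Serre
import Mathlib.RingTheory.KrullDimension.Zero
import Mathlib.RingTheory.RegularLocalRing.Defs
import Mathlib.RingTheory.LocalProperties.Reduced

set_option autoImplicit false
universe u
open CAlg

namespace Groth.Agent.S0602

theorem support_self (R : Type u) [CommRing R] : Module.support R R = Set.univ := by
  rw [Module.support_of_algebra]
  have : RingHom.ker (algebraMap R R) = ⊥ := by
    rw [Algebra.algebraMap_self]
    exact (RingHom.injective_iff_ker_eq_bot _).mp Function.injective_id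
  rw [this]
  simp

/-- In a reduced ring, associated primes are minimal. -/
theorem height_eq_zero_of_mem_associatedPrimes (R : Type u) [CommRing R] [IsNoetherianRing R]
    [IsReduced R]
    (p : Ideal R) (hp : p ∈ associatedPrimes R R) : p.height = 0 := by
  have hpprime : p.IsPrime := hp.isPrime
  obtain ⟨x, hx⟩ := (isAssociatedPrime_iff.mp hp).2
  have hx0 : x ≠ 0 := by
    rintro rfl
    apply hpprime.ne_top
    rw [hx]
    ext a
    simp [Submodule.mem_colon]
  -- `x` is not nilpotent, so some minimal prime misses it
  have hnil : x ∉ sInf (minimalPrimes R) := by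
    change x ∉ sInf (⊥ : Ideal R).minimalPrimes
    rw [Ideal.sInf_minimalPrimes]
    change x ∉ nilradical R
    rw [nilradical_eq_zero R]
    exact hx0
  rw [Ideal.mem_sInf] at hnil
  push Not at hnil
  obtain ⟨q, hq, hxq⟩ := hnil
  have hqprime : q.IsPrime := hq.1.1
  have hpq : p ≤ q := by
    intro a ha
    rw [hx, Submodule.mem_colon_singleton] at ha
    have h0 : a * x ∈ q := by
      have : a • x = 0 := by simpa using ha
      rw [smul_eq_mul] at this
      rw [this]; exact q.zero_mem
    exact (hqprime.mem_or_mem h0).resolve_right hxq
  have hqp : q ≤ p := hq.2 ⟨hpprime, bot_le⟩ hpq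
  have : p = q := le_antisymm hpq hqp
  rw [this]
  exact Ideal.height_eq_zero_iff.mpr hq

/-- A Noetherian ring is reduced exactly when it satisfies the conditions R₀ and S₁. -/
theorem result (R : Type u) [CommRing R] [IsNoetherianRing R] :
    IsReduced R ↔ (LocCoh.HasRk 0 R ∧ LocCoh.HasSk 1 R R) := by
  rw [H14.ZClos.hasSk_iff 1 (support_self R)]
  constructor
  · intro hred
    refine ⟨?_, ?_⟩
    · intro p hp hht
      have hht0 : p.height = 0 := by simpa using hht
      have hmin : p ∈ minimalPrimes R := Ideal.height_eq_zero_iff.mp hht0
      have hdim0 : Ring.KrullDimLE 0 (Localization.AtPrime p) :=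
        Ring.KrullDimLE.of_isLocalization p hmin _
      have hredp : IsReduced (Localization.AtPrime p) := inferInstance
      have hm : IsLocalRing.maximalIdeal (Localization.AtPrime p) = ⊥ := by
        rw [← Ring.KrullDimLE.nilradical_eq_maximalIdeal, nilradical_eq_zero]
        rfl
      rw [isRegularLocalRing_iff, hm, Submodule.spanFinrank_bot,
        IsLocalization.AtPrime.ringKrullDim_eq_height p, hht0]
      rfl
    · intro p hp
      by_cases hass : p ∈ associatedPrimes R R
      · rw [height_eq_zero_of_mem_associatedPrimes R p hass]
        simp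
      · exact (min_le_left _ _).trans (by
          exact_mod_cast (H14.ZClos.one_le_depth_localization_iff R p).mpr hass)
  · rintro ⟨hR0, hS1⟩
    constructor
    intro x hxnil
    by_contra hx0
    obtain ⟨p, hp, hle⟩ := exists_le_isAssociatedPrime_of_isNoetherianRing R x hx0
    have hpprime : p.IsPrime := hp.isPrime
    have hdepth : ¬ (1 ≤ LocCoh.depth (Localization.AtPrime p) (LocalizedModule p.primeCompl R)) :=
      fun h1 => (H14.ZClos.one_le_depth_localization_iff R p).mp h1 hp
    have hht0 : p.height = 0 := by
      by_contra hne
      apply hdepth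
      have h1 : (1 : ℕ∞) ≤ p.height := Order.one_le_iff_pos.mpr (pos_iff_ne_zero.mpr hne)
      have := hS1 p
      rwa [Nat.cast_one, min_eq_left h1] at this
    have hreg := hR0 p (by rw [hht0]; simp)
    have hm : IsLocalRing.maximalIdeal (Localization.AtPrime p) = ⊥ := by
      have h1 := hreg.spanFinrank_maximalIdeal
      rw [IsLocalization.AtPrime.ringKrullDim_eq_height p, hht0] at h1
      have h2 : (IsLocalRing.maximalIdeal (Localization.AtPrime p)).spanFinrank = 0 := by
        exact_mod_cast h1
      exact (Submodule.spanFinrank_eq_zero_iff_eq_bot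
        (IsNoetherian.noetherian _)).mp h2
    -- `x/1` is nilpotent hence in the maximal ideal, hence zero
    have hx1 : algebraMap R (Localization.AtPrime p) x ∈
        IsLocalRing.maximalIdeal (Localization.AtPrime p) := by
      rw [IsLocalRing.mem_maximalIdeal]
      intro hunit
      have hnil' : IsNilpotent (algebraMap R (Localization.AtPrime p) x) := hxnil.map _
      obtain ⟨n, hn⟩ := hnil'
      have := hunit.pow n
      rw [hn] at this
      exact not_isUnit_zero this
    rw [hm, Ideal.mem_bot] at hx1
    obtain ⟨s, hs⟩ := (IsLocalization.map_eq_zero_iff p.primeCompl _ x).mp hx1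
    have hsp : (s : R) ∈ p := hle (by
      rw [Submodule.mem_colon_singleton]
      simpa [smul_eq_mul] using hs)
    exact s.2 hsp

end Groth.Agent.S0602
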