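import Mathlib
import Groth.Statements.S0605
import Groth.Agent.H29.RegFree
import Groth.Agent.H72.FlatCM
-- import your own Groth.Agent.* helpers here

set_option autoImplicit false
universe u
open CAlg

namespace Groth.Agent.S0605

/-- Over a regular local ring, a finitely generated module whose depth equals the dimension of the ring
(a maximal Cohen–Macaulay module) is free. -/
theorem result (R : Type u) [CommRing R]
    [IsRegularLocalRing R] (M : Type u) [AddCommGroup M] [Module R M] [Module.Finite R M]
    (h : ((LocCoh.depth R M : ℕ∞) : WithBot ℕ∞) = ringKrullDim R) : Module.Free R M := by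
  obtain ⟨d, hd⟩ := Groth.Agent.H72.FlatCM.exists_ringKrullDim_eq_natCast R
  rw [hd] at h
  have h' : LocCoh.depth R M = (d : ℕ∞) := by exact_mod_cast h
  exact Groth.Agent.H29.RegFree.free_of_depth_eq_dim d R hd M h'

end Groth.Agent.S0605
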