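import Groth.Statements.S0608
import Mathlib
import Groth.Agent.H15.Koszul3

set_option autoImplicit false
universe u
open RRAlg

namespace Groth.Agent.S0608

open MvPolynomial RingTheory.Sequence

variable {A : Type u} [CommRing A] {n : ℕ}

/-- The ideal of Koszul-type relations. -/
noncomputable def K (a : Fin n → A) : Ideal (MvPolynomial (Fin n) A) :=
  Ideal.span {q : MvPolynomial (Fin n) A | ∃ i j : Fin n,
    q = C (a i) * X j - C (a j) * X i}

/-- `θ v = ∑ X_j v_j`. -/
noncomputable abbrev θ (A : Type u) [CommRing A] (n : ℕ) :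
    (Fin n → MvPolynomial (Fin n) A) →ₗ[MvPolynomial (Fin n) A] MvPolynomial (Fin n) A :=
  Groth.Agent.H15.sig (fun j : Fin n => (X j : MvPolynomial (Fin n) A)) (MvPolynomial (Fin n) A)

theorem kos (a : Fin n → A) (ha : IsWeaklyRegular A (List.ofFn a))
    (m : Fin n → MvPolynomial (Fin n) A) (hm : ∑ j, C (a j) * m j = 0) :
    θ A n m ∈ K a := by
  have h1 : IsWeaklyRegular (MvPolynomial (Fin n) A)
      (List.ofFn (fun i => (C (a i) : MvPolynomial (Fin n) A))) := by
    have := ha.of_flat (S := MvPolynomial (Fin n) A)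
    rwa [List.map_ofFn] at this
  have h2 := Groth.Agent.H15.koszulH1Zero_of_isWeaklyRegular
    (fun i => (C (a i) : MvPolynomial (Fin n) A)) (MvPolynomial (Fin n) A) h1
  have h3 := h2 m (by simpa [smul_eq_mul] using hm)
  have hle : Submodule.span (MvPolynomial (Fin n) A)
      {v : Fin n → MvPolynomial (Fin n) A | ∃ (i j : Fin n) (x : MvPolynomial (Fin n) A),
        v = (C (a j) : MvPolynomial (Fin n) A) • (Pi.single i x : Fin n → MvPolynomial (Fin n) A) -
          (C (a i) : MvPolynomial (Fin n) A) • (Pi.single j x : Fin n → MvPolynomial (Fin n) A)} ≤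
      Submodule.comap (θ A n) (K a) := by
    rw [Submodule.span_le]
    rintro _ ⟨i, j, x, rfl⟩
    rw [SetLike.mem_coe, Submodule.mem_comap, map_sub, map_smul, map_smul,
      Groth.Agent.H15.sig_single, Groth.Agent.H15.sig_single]
    have : (C (a j) : MvPolynomial (Fin n) A) • ((X i : MvPolynomial (Fin n) A) • x) -
        (C (a i) : MvPolynomial (Fin n) A) • ((X j : MvPolynomial (Fin n) A) • x) =
        x * (C (a j) * X i - C (a i) * X j) := by
      simp only [smul_eq_mul]; ring
    rw [this]
    exact Ideal.mul_mem_left _ _ (Ideal.subset_span ⟨j, i, rfl⟩)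
  exact hle h3

theorem exists_w (a : Fin n → A) (G : MvPolynomial (Fin n) A) (hG : G ∈ K a) :
    ∃ w : Fin n → MvPolynomial (Fin n) A, ∑ j, C (a j) * w j = G ∧ ∑ j, X j * w j = 0 := by
  classical
  rw [K] at hG
  induction hG using Submodule.span_induction with
  | mem q hq =>
    obtain ⟨i, j, rfl⟩ := hq
    refine ⟨Pi.single i (X j) - Pi.single j (X i), ?_, ?_⟩
    · simp only [Pi.sub_apply, mul_sub, Finset.sum_sub_distrib, Pi.single_apply, mul_ite, mul_zero,
        Finset.sum_ite_eq', Finset.mem_univ, if_true]
    · simp only [Pi.sub_apply, mul_sub, Finset.sum_sub_distrib, Pi.single_apply, mul_ite, mul_zero,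
        Finset.sum_ite_eq', Finset.mem_univ, if_true]
      ring
  | zero => exact ⟨0, by simp, by simp⟩
  | add x y _ _ hx hy =>
    obtain ⟨w₁, h₁, h₁'⟩ := hx
    obtain ⟨w₂, h₂, h₂'⟩ := hy
    refine ⟨w₁ + w₂, ?_, ?_⟩
    · simp only [Pi.add_apply, mul_add, Finset.sum_add_distrib, h₁, h₂]
    · simp only [Pi.add_apply, mul_add, Finset.sum_add_distrib, h₁', h₂', add_zero]
  | smul c x _ hx =>
    obtain ⟨w, h, h'⟩ := hx
    refine ⟨fun j => c * w j, ?_, ?_⟩
    · rw [smul_eq_mul, ← h, Finset.mul_sum]
      exact Finset.sum_congr rfl fun j _ => by ring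
    · have : ∑ j, X j * (c * w j) = c * ∑ j, X j * w j := by
        rw [Finset.mul_sum]; exact Finset.sum_congr rfl fun j _ => by ring
      rw [this, h', mul_zero]


/-- A homogeneous polynomial of degree `d + 1` is `∑ X_j G_j` with `G_j` homogeneous of degree `d`. -/
theorem exists_decomp (F : MvPolynomial (Fin n) A) (d : ℕ) (hF : F.IsHomogeneous (d + 1)) :
    ∃ G : Fin n → MvPolynomial (Fin n) A, (∀ j, (G j).IsHomogeneous d) ∧ F = ∑ j, X j * G j := by
  classical
  refine ⟨fun j => ∑ s ∈ F.support, if s.support.min = (j : WithTop (Fin n)) then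
      monomial (s - Finsupp.single j 1) (coeff s F) else 0, ?_, ?_⟩
  · intro j
    apply IsHomogeneous.sum
    intro s hs
    split_ifs with h
    · apply isHomogeneous_monomial
      have hdeg : s.degree = d + 1 := by
        by_contra hne
        exact (mem_support_iff.mp hs) (hF.coeff_eq_zero hne)
      have hj : j ∈ s.support := Finset.mem_of_min h
      have hsj : 1 ≤ s j := Nat.one_le_iff_ne_zero.mpr (Finsupp.mem_support_iff.mp hj)
      have hle : Finsupp.single j 1 ≤ s := Finsupp.single_le_iff.mpr hsj
      have := map_add (Finsupp.degree (σ := Fin n) (R := ℕ)) (s - Finsupp.single j 1) (Finsupp.single j 1)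
      rw [tsub_add_cancel_of_le hle, hdeg, Finsupp.degree_single] at this
      omega
    · exact isHomogeneous_zero _ _ _
  · conv_lhs => rw [F.as_sum]
    simp only [Finset.mul_sum]
    rw [Finset.sum_comm]
    apply Finset.sum_congr rfl
    intro s hs
    have hdeg : s.degree = d + 1 := by
      by_contra hne
      exact (mem_support_iff.mp hs) (hF.coeff_eq_zero hne)
    have hne : s.support.Nonempty := by
      rw [Finset.nonempty_iff_ne_empty]
      intro h
      rw [Finsupp.support_eq_empty] at h
      rw [h] at hdeg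
      simp at hdeg
    obtain ⟨j₀, hj₀⟩ := Finset.min_of_nonempty hne
    rw [Finset.sum_eq_single j₀]
    · rw [if_pos hj₀]
      have hj : j₀ ∈ s.support := Finset.mem_of_min hj₀
      have hsj : 1 ≤ s j₀ := Nat.one_le_iff_ne_zero.mpr (Finsupp.mem_support_iff.mp hj)
      have hle : Finsupp.single j₀ 1 ≤ s := Finsupp.single_le_iff.mpr hsj
      rw [X, monomial_mul, one_mul, add_comm, tsub_add_cancel_of_le hle]
    · intro j _ hjne
      rw [if_neg, mul_zero]
      intro h
      rw [hj₀] at h
      exact hjne (WithTop.coe_injective h).symm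
    · intro h; exact absurd (Finset.mem_univ _) h

/-- The map to the Rees algebra. -/
noncomputable abbrev φ (a : Fin n → A) : MvPolynomial (Fin n) A →ₐ[A] Polynomial A :=
  MvPolynomial.aeval (R := A) (fun i : Fin n => Polynomial.C (a i) * (Polynomial.X : Polynomial A))

theorem φ_monomial (a : Fin n → A) (s : Fin n →₀ ℕ) (c : A) :
    φ a (monomial s c) =
      Polynomial.C (MvPolynomial.eval a (monomial s c)) * Polynomial.X ^ s.degree := by
  rw [φ, aeval_monomial, eval_monomial, Finsupp.degree_apply, Polynomial.algebraMap_eq, map_mul,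
    mul_assoc]
  congr 1
  simp only [Finsupp.prod, mul_pow, Finset.prod_mul_distrib, map_prod, map_pow,
    Finset.prod_pow_eq_pow_sum]

theorem φ_hom (a : Fin n → A) (G : MvPolynomial (Fin n) A) (d : ℕ) (hG : G.IsHomogeneous d) :
    φ a G = Polynomial.C (MvPolynomial.eval a G) * Polynomial.X ^ d := by
  conv_lhs => rw [G.as_sum]
  conv_rhs => rw [G.as_sum]
  rw [map_sum, map_sum, map_sum, Finset.sum_mul]
  apply Finset.sum_congr rfl
  intro s hs
  have hdeg : s.degree = d := by
    by_contra hne
    exact (mem_support_iff.mp hs) (hG.coeff_eq_zero hne)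
  rw [φ_monomial, hdeg]

theorem K_le_ker (a : Fin n → A) : K a ≤ RingHom.ker (φ a) := by
  rw [K, Ideal.span_le]
  rintro _ ⟨i, j, rfl⟩
  rw [SetLike.mem_coe, RingHom.mem_ker, map_sub, map_mul, map_mul]
  simp only [φ, aeval_C, aeval_X, Polynomial.algebraMap_eq]
  ring

theorem hom_mem (a : Fin n → A) (ha : IsWeaklyRegular A (List.ofFn a)) :
    ∀ (d : ℕ) (F : MvPolynomial (Fin n) A), F.IsHomogeneous d → MvPolynomial.eval a F = 0 →
      F ∈ K a := by
  intro d
  induction d with
  | zero =>
    intro F hF h0
    have hFc : F = C (coeff 0 F) := by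
      have := hF.totalDegree_le
      exact (totalDegree_eq_zero_iff_eq_C).mp (Nat.le_zero.mp this)
    rw [hFc, eval_C] at h0
    rw [hFc, h0, map_zero]
    exact Ideal.zero_mem _
  | succ d ih =>
    intro F hF h0
    obtain ⟨G, hG, rfl⟩ := exists_decomp F d hF
    have hF₁ : (∑ j, C (a j) * G j).IsHomogeneous d := by
      apply IsHomogeneous.sum
      intro j _
      have := (isHomogeneous_C (Fin n) (a j)).mul (hG j)
      rwa [zero_add] at this
    have h1 : MvPolynomial.eval a (∑ j, C (a j) * G j) = 0 := by
      rw [← h0, map_sum, map_sum]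
      apply Finset.sum_congr rfl
      intro j _
      rw [map_mul, map_mul, eval_C, eval_X]
    obtain ⟨w, hw1, hw2⟩ := exists_w a _ (ih _ hF₁ h1)
    have h2 : ∑ j, C (a j) * (G j - w j) = 0 := by
      simp only [mul_sub, Finset.sum_sub_distrib, hw1, sub_self]
    have h3 := kos a ha (fun j => G j - w j) h2
    have h4 : θ A n (fun j => G j - w j) = ∑ j, X j * G j := by
      rw [Groth.Agent.H15.sig_apply]
      simp only [smul_eq_mul, mul_sub, Finset.sum_sub_distrib, hw2, sub_zero]
    rwa [h4] at h3

/-- Let a_1, …, a_n be a weakly regular sequence in a commutative ring A (each a_i is a non-zero-divisor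
modulo (a_1, …, a_(i−1)); the a_i are allowed to generate the unit ideal). Then the kernel of the
A-algebra map A[X_1, …, X_n] → A[T] sending X_i to a_i·T, whose image is the Rees algebra of the
ideal (a_1, …, a_n), is the ideal generated by the elements a_i X_j − a_j X_i. (The published
statement assumes a regular sequence; only weak regularity is assumed here.) -/
theorem result {A : Type u} [CommRing A] {n : ℕ} (a : Fin n → A)
    (ha : RingTheory.Sequence.IsWeaklyRegular A (List.ofFn a)) :
    RingHom.ker (MvPolynomial.aeval (R := A)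
      (fun i : Fin n => Polynomial.C (a i) * (Polynomial.X : Polynomial A))) =
      Ideal.span {q : MvPolynomial (Fin n) A | ∃ i j : Fin n,
        q = MvPolynomial.C (a i) * MvPolynomial.X j - MvPolynomial.C (a j) * MvPolynomial.X i} := by
  change RingHom.ker (φ a) = K a
  apply le_antisymm _ (K_le_ker a)
  intro F hF
  rw [RingHom.mem_ker] at hF
  have hsum := MvPolynomial.sum_homogeneousComponent (φ := F)
  have hφ : φ a F = ∑ i ∈ Finset.range (F.totalDegree + 1),
      Polynomial.C (MvPolynomial.eval a (homogeneousComponent i F)) * Polynomial.X ^ i := by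
    conv_lhs => rw [← hsum]
    rw [map_sum]
    apply Finset.sum_congr rfl
    intro i _
    exact φ_hom a _ i (homogeneousComponent_isHomogeneous i F)
  rw [hF] at hφ
  have hcoeff : ∀ i ∈ Finset.range (F.totalDegree + 1),
      MvPolynomial.eval a (homogeneousComponent i F) = 0 := by
    intro i hi
    have := congrArg (fun p : Polynomial A => p.coeff i) hφ
    simp only [Polynomial.coeff_zero, Polynomial.finset_sum_coeff, Polynomial.coeff_C_mul,
      Polynomial.coeff_X_pow, mul_ite, mul_one, mul_zero] at this
    rw [Finset.sum_ite_eq (Finset.range (F.totalDegree + 1)) i, if_pos hi] at this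
    exact this.symm
  rw [← hsum]
  apply Ideal.sum_mem
  intro i hi
  exact hom_mem a ha i _ (homogeneousComponent_isHomogeneous i F) (hcoeff i hi)

end Groth.Agent.S0608
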