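import Groth.Statements.S0610
import Groth.Agent.H62.CD5
import Groth.Agent.H62.CD6
import Groth.Agent.H62.RH11
import Groth.Agent.H86.GM2
import Groth.Agent.H86.ZT17
-- import your own Groth.Agent.* helpers here

set_option autoImplicit false
universe u
open AlgebraicGeometry CategoryTheory
open Zeta

namespace Groth.Agent.S0610

attribute [local instance] Curv2.stalkAlgebra

/-- Weil conjectures for curves, in elementary form (rationality of the zeta function with numerator of
degree 2g, the functional equation and the Riemann hypothesis, packaged as a point-count formula):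
let k be a finite field with q elements and C a smooth, proper, geometrically irreducible curve over
k of genus g, the genus being pinned down by #H¹(C, O_C) = q^g (equivalent to dim_k H¹(C, O_C) = g).
Then there are complex numbers α_1, …, α_{2g}, each an algebraic integer with |α_i|² = q, and a
permutation σ of the indices with α_{σ(i)} · α_i = q for all i, such that for every finite extension
k' of k the number of k'-points of C equals q^{[k':k]} + 1 − Σ_i α_i^{[k':k]}. -/
theorem result {k : Type u} [Field k] [Finite k] {C : Scheme.{u}}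
    (f : C ⟶ Spec (CommRingCat.of k)) (hC : Curve.IsSmoothProperCurve k C f)
    [GeometricallyIrreducible f] (g : ℕ)
    (hg : Nat.card (Coh.HH C (Coh.structureModule C) 1) = Nat.card k ^ g) :
    ∃ α : Fin (2 * g) → ℂ, (∀ i, IsIntegral ℤ (α i)) ∧ (∀ i, ‖α i‖ ^ 2 = Nat.card k) ∧
      (∃ σ : Equiv.Perm (Fin (2 * g)), ∀ i, α (σ i) * α i = Nat.card k) ∧
      ∀ (k' : Type u) [Field k'] [Algebra k k'] [Finite k'],
        (SgaExt.pointCount f k' : ℂ) =
          (Nat.card k : ℂ) ^ Module.finrank k k' + 1 - ∑ i, α i ^ Module.finrank k k' := by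
  letI : C.Over (Spec (CommRingCat.of k)) := ⟨f⟩
  haveI : IsIntegral C := hC.2.2.1
  haveI : GeometricallyIrreducible (C ↘ Spec (CommRingCat.of k)) := ‹GeometricallyIrreducible f›
  have hCurve : Groth.Agent.H62.CD.IsCurve k C :=
    Groth.Agent.H62.CD.IsCurve.of_isSmoothProperCurve hC
  have hK := hCurve.isFunctionField
  have hcard := hCurve.card_HH_one
  have hq : 1 < Nat.card k := Finite.one_lt_card
  have hgen : g = FunFld.genus k C.functionField :=
    Nat.pow_right_injective hq (hg.symm.trans hcard)
  subst hgen
  obtain ⟨α, hint, hα, hpair⟩ := Groth.Agent.H86.Zeta.exists_reciprocal_roots hK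
  have hnorm := Groth.Agent.H62.RH.norm_sq_of_model hK
    (Groth.Agent.H86.GeoModel.exists_geometric_model k C.functionField hK) α hα hpair
  refine ⟨α, hint, fun i => ?_, ⟨Fin.revPerm, fun i => ?_⟩, ?_⟩
  · rw [hnorm i]
  · rw [Fin.revPerm_apply, mul_comm]
    exact hpair i
  · intro k' _ _ _
    have hn1 : 1 ≤ Module.finrank k k' := Module.finrank_pos
    have h1 : SgaExt.pointCount f k' =
        Groth.Agent.H62.Weil.Nm k C.functionField (Module.finrank k k') :=
      hCurve.pointCount_eq k'
    rw [h1, Groth.Agent.H62.Weil.Nm_eq hK α hα hn1]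
    ring

end Groth.Agent.S0610
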