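import Groth.Statements.S0615
import Mathlib
-- import your own Groth.Agent.* helpers here

set_option autoImplicit false
universe u
open RRAlg

namespace Groth.Agent.S0615

open RingTheory.Sequence MvPolynomial

theorem take_ofFn_set {A : Type*} {n : ℕ} (a : Fin n → A) (k : ℕ) :
    {r | r ∈ (List.ofFn a).take k} = a '' {j : Fin n | (j : ℕ) < k} := by
  ext r
  simp only [Set.mem_ofPred_eq, List.mem_take_iff_getElem, Set.mem_image]
  constructor
  · rintro ⟨j, hj, rfl⟩
    have hj' : j < n := by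
      have := (lt_min_iff.mp hj).2
      simpa using this
    exact ⟨⟨j, hj'⟩, (lt_min_iff.mp hj).1, by simp⟩
  · rintro ⟨j, hj, rfl⟩
    exact ⟨j, lt_min_iff.mpr ⟨hj, by simp⟩, by simp⟩

theorem reg_unpack {A : Type*} [CommRing A] {n : ℕ} (a : Fin n → A)
    (ha : IsWeaklyRegular A (List.ofFn a)) (k : Fin n) (x : A)
    (hx : a k * x ∈ Ideal.span (a '' {j : Fin n | (j : ℕ) < k})) :
    x ∈ Ideal.span (a '' {j : Fin n | (j : ℕ) < k}) := by
  rw [isWeaklyRegular_iff_Fin] at ha
  have h1 := ha ⟨k, by simp⟩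
  rw [isSMulRegular_quotient_iff_mem_of_smul_mem] at h1
  have h2 : (Ideal.ofList ((List.ofFn a).take k) • ⊤ : Submodule A A) =
      Ideal.span (a '' {j : Fin n | (j : ℕ) < k}) := by
    rw [smul_eq_mul, Ideal.mul_top, Ideal.ofList, take_ofFn_set]
  simp only [h2] at h1
  apply h1
  simpa using hx

theorem key {R : Type*} [CommRing R] (J : Ideal R) (a b t : R)
    (ha : ∀ g, a * g ∈ J → g ∈ J)
    (hb : ∀ h, b * h ∈ J ⊔ Ideal.span {a} → h ∈ J ⊔ Ideal.span {a}) :
    ∀ g, a * g ∈ J ⊔ Ideal.span {a * t - b} → g ∈ J ⊔ Ideal.span {a * t - b} := by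
  intro g hg
  obtain ⟨j, hj, y, hy, hjy⟩ := Submodule.mem_sup.mp hg
  obtain ⟨h, rfl⟩ := Ideal.mem_span_singleton'.mp hy
  have h1 : b * h ∈ J ⊔ Ideal.span {a} := by
    have : b * h = j + (t * h - g) * a := by linear_combination (-1 : R) * hjy
    rw [this]
    exact Submodule.add_mem_sup hj (Ideal.mem_span_singleton'.mpr ⟨_, rfl⟩)
  obtain ⟨j', hj', z, hz, hjz⟩ := Submodule.mem_sup.mp (hb h h1)
  obtain ⟨h', rfl⟩ := Ideal.mem_span_singleton'.mp hz
  have h2 : a * (g - (a * t - b) * h') ∈ J := by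
    have : a * (g - (a * t - b) * h') = j + (a * t - b) * j' := by
      linear_combination (-1 : R) * hjy - (a * t - b) * hjz
    rw [this]
    exact J.add_mem hj (J.mul_mem_left _ hj')
  have h3 := ha _ h2
  have : g = (g - (a * t - b) * h') + h' * (a * t - b) := by ring
  rw [this]
  exact Submodule.add_mem_sup h3 (Ideal.mem_span_singleton'.mpr ⟨_, rfl⟩)

variable {A : Type u} [CommRing A] {n : ℕ}

/-- The generator `a₀ Tᵢ - a_{i+1}`. -/
noncomputable def gen (a : Fin (n + 1) → A) (i : Fin n) : MvPolynomial (Fin n) A :=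
  C (a 0) * X i - C (a i.succ)

/-- The ideal generated by the first `k` generators. -/
noncomputable def JJ (a : Fin (n + 1) → A) (k : ℕ) : Ideal (MvPolynomial (Fin n) A) :=
  Ideal.span (gen a '' {i : Fin n | (i : ℕ) < k})

/-- The ideal `(a₀, …, a_{k-1})`. -/
def II (a : Fin (n + 1) → A) (k : ℕ) : Ideal A :=
  Ideal.span (a '' {j : Fin (n + 1) | (j : ℕ) < k})

theorem claimA (a : Fin (n + 1) → A) (k : ℕ) :
    JJ a k ⊔ Ideal.span {C (a 0)} = Ideal.map C (II a (k + 1)) := by
  apply le_antisymm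
  · apply sup_le
    · rw [JJ, Ideal.span_le]
      rintro _ ⟨i, hi, rfl⟩
      have hi' : (i : ℕ) < k := hi
      apply Ideal.sub_mem
      · apply Ideal.mul_mem_right
        apply Ideal.mem_map_of_mem
        exact Ideal.subset_span ⟨0, by simp, rfl⟩
      · apply Ideal.mem_map_of_mem
        exact Ideal.subset_span ⟨i.succ, by simpa using hi', rfl⟩
    · rw [Ideal.span_singleton_le_iff_mem]
      apply Ideal.mem_map_of_mem
      exact Ideal.subset_span ⟨0, by simp, rfl⟩
  · rw [II, Ideal.map_span, Ideal.span_le]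
    rintro _ ⟨_, ⟨j, hj, rfl⟩, rfl⟩
    have hj' : (j : ℕ) < k + 1 := hj
    induction j using Fin.cases with
    | zero => exact Ideal.mem_sup_right (Ideal.subset_span rfl)
    | succ i =>
      have hik : (i : ℕ) < k := by simpa using hj'
      have : (C (a i.succ) : MvPolynomial (Fin n) A) = -(gen a i) + X i * C (a 0) := by
        rw [gen]; ring
      rw [this]
      exact Submodule.add_mem_sup ((JJ a k).neg_mem (Ideal.subset_span ⟨i, hik, rfl⟩))
        (Ideal.mem_span_singleton'.mpr ⟨_, rfl⟩)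

theorem JJ_succ (a : Fin (n + 1) → A) (k : ℕ) (hk : k < n) :
    JJ a (k + 1) = JJ a k ⊔ Ideal.span {C (a 0) * X ⟨k, hk⟩ - C (a (Fin.succ ⟨k, hk⟩))} := by
  have : {i : Fin n | (i : ℕ) < k + 1} = {i : Fin n | (i : ℕ) < k} ∪ {⟨k, hk⟩} := by
    ext i
    simp only [Set.mem_ofPred_eq, Set.mem_union, Set.mem_singleton_iff, Fin.ext_iff]
    omega
  rw [JJ, this, Set.image_union, Ideal.span_union, Set.image_singleton]
  rfl

theorem claimB (a : Fin (n + 1) → A) (ha : IsWeaklyRegular A (List.ofFn a)) :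
    ∀ k, k ≤ n → ∀ g : MvPolynomial (Fin n) A, C (a 0) * g ∈ JJ a k → g ∈ JJ a k := by
  intro k
  induction k with
  | zero =>
    intro _ g hg
    have h0 : JJ a 0 = ⊥ := by
      rw [JJ]
      have : {i : Fin n | (i : ℕ) < 0} = ∅ := by ext i; simp
      rw [this, Set.image_empty, Ideal.span_empty]
    rw [h0, Ideal.mem_bot] at hg ⊢
    ext m
    have h1 := congrArg (coeff m) hg
    rw [coeff_C_mul, coeff_zero] at h1
    have h2 := reg_unpack a ha 0 (coeff m g) (by rw [h1]; exact Ideal.zero_mem _)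
    have h3 : {j : Fin (n + 1) | (j : ℕ) < ((0 : Fin (n + 1)) : ℕ)} = ∅ := by ext i; simp
    rw [h3, Set.image_empty, Ideal.span_empty, Ideal.mem_bot] at h2
    rw [h2, coeff_zero]
  | succ k ih =>
    intro hk
    have hk' : k < n := hk
    rw [JJ_succ a k hk']
    apply key
    · exact ih hk'.le
    · intro h hh
      rw [claimA] at hh ⊢
      rw [mem_map_C_iff] at hh ⊢
      intro m
      have h1 := hh m
      rw [coeff_C_mul] at h1
      have h2 := reg_unpack a ha (Fin.succ ⟨k, hk'⟩) (coeff m h)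
      have h3 : ((Fin.succ ⟨k, hk'⟩ : Fin (n + 1)) : ℕ) = k + 1 := by simp
      rw [h3] at h2
      exact h2 h1

theorem JJ_top (a : Fin (n + 1) → A) :
    JJ a n = Ideal.span (Set.range fun i : Fin n => C (a 0) * X i - C (a i.succ)) := by
  rw [JJ]
  have : {i : Fin n | (i : ℕ) < n} = Set.univ := by ext i; simp
  rw [this, Set.image_univ]
  rfl

theorem reduce (a : Fin (n + 1) → A) (f : MvPolynomial (Fin n) A) :
    ∃ (m : ℕ) (c : A), C (a 0) ^ m * f - C c ∈ JJ a n := by
  induction f using MvPolynomial.induction_on with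
  | C c => exact ⟨0, c, by simp⟩
  | add f₁ f₂ h₁ h₂ =>
    obtain ⟨m₁, c₁, h₁⟩ := h₁
    obtain ⟨m₂, c₂, h₂⟩ := h₂
    refine ⟨m₁ + m₂, a 0 ^ m₂ * c₁ + a 0 ^ m₁ * c₂, ?_⟩
    have : C (a 0) ^ (m₁ + m₂) * (f₁ + f₂) - C (a 0 ^ m₂ * c₁ + a 0 ^ m₁ * c₂) =
        C (a 0) ^ m₂ * (C (a 0) ^ m₁ * f₁ - C c₁) + C (a 0) ^ m₁ * (C (a 0) ^ m₂ * f₂ - C c₂) := by
      simp only [map_add, map_mul, map_pow]
      ring
    rw [this]
    exact (JJ a n).add_mem ((JJ a n).mul_mem_left _ h₁) ((JJ a n).mul_mem_left _ h₂)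
  | mul_X f i h =>
    obtain ⟨m, c, h⟩ := h
    refine ⟨m + 1, a i.succ * c, ?_⟩
    have : C (a 0) ^ (m + 1) * (f * X i) - C (a i.succ * c) =
        (C (a 0) * X i) * (C (a 0) ^ m * f - C c) + C c * gen a i := by
      rw [gen]
      simp only [map_mul]
      ring
    rw [this]
    exact (JJ a n).add_mem ((JJ a n).mul_mem_left _ h)
      ((JJ a n).mul_mem_left _ (Ideal.subset_span ⟨i, i.isLt, rfl⟩))

/-- Let A be a commutative ring and a_0, a_1, …, a_n a weakly regular sequence in A (for each i, a_i is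
a non-zero-divisor on A/(a_0, …, a_{i−1}); the sequence is indexed here by Fin (n+1)). Then the
kernel of the A-algebra homomorphism A[T_1, …, T_n] → A[1/a_0] sending T_i to a_i/a_0 is the ideal
generated by the elements a_0 T_i − a_i for 1 ≤ i ≤ n (a presentation of the affine blow-up algebra
A[a_1/a_0, …, a_n/a_0]). -/
theorem result {A : Type u} [CommRing A] {n : ℕ}
    (a : Fin (n + 1) → A) (ha : RingTheory.Sequence.IsWeaklyRegular A (List.ofFn a)) :
    RingHom.ker (MvPolynomial.aeval (R := A) (S₁ := Localization.Away (a 0))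
      (fun i : Fin n => IsLocalization.mk' (Localization.Away (a 0)) (a i.succ)
        (⟨a 0, Submonoid.mem_powers (a 0)⟩ : Submonoid.powers (a 0)))) =
      Ideal.span (Set.range fun i : Fin n =>
        MvPolynomial.C (a 0) * MvPolynomial.X i - MvPolynomial.C (a i.succ)) := by
  rw [← JJ_top]
  set φ := MvPolynomial.aeval (R := A) (S₁ := Localization.Away (a 0))
      (fun i : Fin n => IsLocalization.mk' (Localization.Away (a 0)) (a i.succ)
        (⟨a 0, Submonoid.mem_powers (a 0)⟩ : Submonoid.powers (a 0))) with hφ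
  have hJle : JJ a n ≤ RingHom.ker φ := by
    rw [JJ, Ideal.span_le]
    rintro _ ⟨i, -, rfl⟩
    rw [SetLike.mem_coe, RingHom.mem_ker, gen, map_sub, map_mul, hφ, aeval_C, aeval_X, aeval_C]
    rw [sub_eq_zero]
    exact IsLocalization.mk'_spec' (Localization.Away (a 0)) (a i.succ)
      (⟨a 0, Submonoid.mem_powers (a 0)⟩ : Submonoid.powers (a 0))
  have hreg0 : ∀ x : A, a 0 * x = 0 → x = 0 := by
    intro x hx
    have h2 := reg_unpack a ha 0 x (by rw [hx]; exact Ideal.zero_mem _)
    have h3 : {j : Fin (n + 1) | (j : ℕ) < ((0 : Fin (n + 1)) : ℕ)} = ∅ := by ext i; simp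
    rwa [h3, Set.image_empty, Ideal.span_empty, Ideal.mem_bot] at h2
  have hregpow : ∀ (N : ℕ) (x : A), a 0 ^ N * x = 0 → x = 0 := by
    intro N
    induction N with
    | zero => intro x hx; simpa using hx
    | succ N ih =>
      intro x hx
      apply ih
      apply hreg0
      rw [← hx]; ring
  have hB := claimB a ha n le_rfl
  have hBpow : ∀ (m : ℕ) (g : MvPolynomial (Fin n) A), C (a 0) ^ m * g ∈ JJ a n → g ∈ JJ a n := by
    intro m
    induction m with
    | zero => intro g hg; simpa using hg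
    | succ m ih =>
      intro g hg
      apply ih
      apply hB
      have : C (a 0) * (C (a 0) ^ m * g) = C (a 0) ^ (m + 1) * g := by ring
      rw [this]; exact hg
  apply le_antisymm _ hJle
  intro f hf
  obtain ⟨m, c, hmc⟩ := reduce a f
  have h1 : φ (C (a 0) ^ m * f - C c) = 0 := hJle hmc
  rw [RingHom.mem_ker] at hf
  rw [map_sub, map_mul, hf, mul_zero, zero_sub, neg_eq_zero, hφ, aeval_C] at h1
  have h2 : c = 0 := by
    rw [IsLocalization.map_eq_zero_iff (Submonoid.powers (a 0))] at h1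
    obtain ⟨⟨_, N, rfl⟩, hN⟩ := h1
    exact hregpow N c hN
  rw [h2, map_zero, sub_zero] at hmc
  exact hBpow m f hmc

end Groth.Agent.S0615
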