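import Groth.Statements.S0619
import Groth.Agent.S0610
-- import your own Groth.Agent.* helpers here

set_option autoImplicit false
universe u
open AlgebraicGeometry CategoryTheory
open Zeta

namespace Groth.Agent.S0619

/-- For a geometrically connected smooth proper curve of genus g over a finite field k with q elements
and a finite extension k' of degree n, |#C(k') − (qⁿ + 1)| ≤ 2g·q^(n/2). -/
theorem result {k : Type u} [Field k] [Finite k] {C : Scheme.{u}}
    (f : C ⟶ Spec (CommRingCat.of k)) (hC : Curve.IsSmoothProperCurve k C f)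
    [GeometricallyIrreducible f] (g : ℕ)
    (hg : Nat.card (Coh.HH C (Coh.structureModule C) 1) = Nat.card k ^ g)
    (k' : Type u) [Field k'] [Algebra k k'] [Finite k'] :
    |(SgaExt.pointCount f k' : ℝ) - ((Nat.card k : ℝ) ^ Module.finrank k k' + 1)| ≤
      2 * g * (Nat.card k : ℝ) ^ ((Module.finrank k k' : ℝ) / 2) := by
  obtain ⟨α, -, hnorm, -, hcount⟩ := Groth.Agent.S0610.result f hC g hg
  have hN := hcount k'
  set n := Module.finrank k k' with hn
  have hq0 : (0 : ℝ) ≤ (Nat.card k : ℝ) := Nat.cast_nonneg _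
  -- each `α i` has norm `√q`
  have hα : ∀ i, ‖α i‖ ^ n = (Nat.card k : ℝ) ^ ((n : ℝ) / 2) := by
    intro i
    have h1 : ‖α i‖ = Real.sqrt (Nat.card k : ℝ) := by
      rw [← hnorm i, Real.sqrt_sq (norm_nonneg _)]
    rw [h1, Real.sqrt_eq_rpow, ← Real.rpow_natCast, ← Real.rpow_mul hq0]
    congr 1
    ring
  have h2 : (((SgaExt.pointCount f k' : ℝ) - ((Nat.card k : ℝ) ^ n + 1) : ℝ) : ℂ) =
      - ∑ i, α i ^ n := by
    push_cast
    rw [hN]
    ring
  have h3 : |(SgaExt.pointCount f k' : ℝ) - ((Nat.card k : ℝ) ^ n + 1)| =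
      ‖(((SgaExt.pointCount f k' : ℝ) - ((Nat.card k : ℝ) ^ n + 1) : ℝ) : ℂ)‖ := by
    rw [Complex.norm_real, Real.norm_eq_abs]
  rw [h3, h2, norm_neg]
  calc ‖∑ i, α i ^ n‖ ≤ ∑ i, ‖α i ^ n‖ := norm_sum_le _ _
    _ = ∑ _i : Fin (2 * g), (Nat.card k : ℝ) ^ ((n : ℝ) / 2) := by
        refine Finset.sum_congr rfl (fun i _ => ?_)
        rw [norm_pow, hα i]
    _ = 2 * g * (Nat.card k : ℝ) ^ ((n : ℝ) / 2) := by
        rw [Finset.sum_const, Finset.card_univ, Fintype.card_fin, nsmul_eq_mul]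
        push_cast
        ring

end Groth.Agent.S0619
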