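import Groth.Statements.S0625
import Groth.Agent.S0624

set_option autoImplicit false
open CategoryTheory CategoryTheory.Limits AlgebraicGeometry Opposite
universe u
open EtCore

namespace Groth.Agent.S0625

/-- Let X be an affine integral normal scheme whose function field is separably closed and Z -> X a
closed immersion. Every surjective finite etale morphism V -> Z has a section. -/
theorem result {V Z X : Scheme.{u}} [IsAffine X] [IsIntegral X]
    (hN : ∀ x : X, IsIntegrallyClosed (X.presheaf.stalk x)) [IsSepClosed X.functionField]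
    (i : Z ⟶ X) [IsClosedImmersion i] (φ : V ⟶ Z) [AlgebraicGeometry.Etale φ] [IsFinite φ] [Surjective φ] :
    ∃ s : Z ⟶ V, s ≫ φ = 𝟙 Z := by
  classical
  have : IsAffine Z := isAffine_of_isAffineHom i
  have : IsAffine V := isAffine_of_isAffineHom φ
  obtain ⟨ι, hfin, W, e, he⟩ := Groth.Agent.S0624.result hN i φ
  -- the clopen pieces of V
  let σ : ∀ k, (W k : Scheme.{u}) ⟶ V := fun k =>
    Sigma.ι (fun k => (W k : Scheme.{u})) k ≫ e.hom
  have hσφ : ∀ k, σ k ≫ φ = (W k).ι := fun k => by
    simp only [σ, Category.assoc]; exact he k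
  have hσsurj : ∀ v : V, ∃ (k : ι) (w : (W k : Scheme.{u})), σ k w = v := by
    intro v
    obtain ⟨⟨k, w⟩, hw⟩ := (sigmaMk (fun k => (W k : Scheme.{u}))).surjective (e.inv v)
    refine ⟨k, w, ?_⟩
    rw [sigmaMk_mk] at hw
    simp only [σ, Scheme.Hom.comp_apply]
    rw [hw, ← Scheme.Hom.comp_apply, e.inv_hom_id]
    rfl
  have hσdisj : ∀ (k j : ι) (w : (W k : Scheme.{u})) (w' : (W j : Scheme.{u})),
      σ k w = σ j w' → k = j := by
    intro k j w w' h
    simp only [σ, Scheme.Hom.comp_apply] at h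
    have hinj : Function.Injective e.hom := (e.hom.homeomorph).injective
    have h2 := hinj h
    exact congrArg Sigma.fst ((sigmaι_eq_iff _ _ _ _ _).mp h2)
  have hclosedV : ∀ k, IsClosed (Set.range (σ k)) := by
    intro k
    rw [← isOpen_compl_iff]
    have : (Set.range (σ k))ᶜ = ⋃ j ∈ {j | j ≠ k}, Set.range (σ j) := by
      ext v
      simp only [Set.mem_compl_iff, Set.mem_range, not_exists, ne_eq,         Set.mem_iUnion, exists_prop]
      constructor
      · intro hv
        obtain ⟨j, w, hw⟩ := hσsurj v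
        refine ⟨j, ?_, w, hw⟩
        rintro rfl
        exact hv w hw
      · rintro ⟨j, hj, w, hw⟩ w' hw'
        exact hj (hσdisj j k w w' (hw.trans hw'.symm))
    rw [this]
    exact isOpen_biUnion (fun j _ => (σ j).isOpenEmbedding.isOpen_range)
  have hclosed : ∀ k, IsClosed (W k : Set Z) := by
    intro k
    have : (W k : Set Z) = φ '' Set.range (σ k) := by
      rw [← Scheme.Opens.range_ι, ← hσφ]
      ext z
      simp only [Set.mem_range, Set.mem_image, Scheme.Hom.comp_apply]
      constructor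
      · rintro ⟨w, rfl⟩
        exact ⟨σ k w, ⟨w, rfl⟩, rfl⟩
      · rintro ⟨v, ⟨w, rfl⟩, rfl⟩
        exact ⟨w, rfl⟩
    rw [this]
    exact φ.isClosedMap _ (hclosedV k)
  have hcov : ∀ z : Z, ∃ k, z ∈ W k := by
    intro z
    obtain ⟨v, rfl⟩ := φ.surjective z
    obtain ⟨k, w, rfl⟩ := hσsurj v
    refine ⟨k, ?_⟩
    rw [← Scheme.Hom.comp_apply, hσφ]
    exact w.2
  -- disjointification
  obtain ⟨n, ⟨eqv⟩⟩ := Finite.exists_equiv_fin ι
  let r : ι → ℕ := fun k => (eqv k : ℕ)
  have hr : Function.Injective r := fun a b h => eqv.injective (Fin.ext h)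
  let W' : ι → Z.Opens := fun k =>
    ⟨(W k : Set Z) \ ⋃ j ∈ {j | r j < r k}, (W j : Set Z),
      IsOpen.sdiff (W k).2 (Set.Finite.isClosed_biUnion (Set.toFinite _) (fun j _ => hclosed j))⟩
  have hle : ∀ k, W' k ≤ W k := fun k z hz => hz.1
  have hcov' : ⨆ k, ((W' k).ι).opensRange = ⊤ := by
    rw [eq_top_iff]
    intro z _
    rw [TopologicalSpace.Opens.mem_iSup]
    obtain ⟨k0, hk0⟩ := hcov z
    obtain ⟨k, hk, hmin⟩ := Set.exists_min_image {k | z ∈ W k} r (Set.toFinite _) ⟨k0, hk0⟩
    refine ⟨k, ?_⟩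
    rw [Scheme.Opens.opensRange_ι]
    refine ⟨hk, ?_⟩
    simp only [Set.mem_iUnion, not_exists]
    intro j hj hzj
    exact absurd (hmin j hzj) (not_le.mpr hj)
  have hdisj' : Pairwise (Function.onFun Disjoint (fun k => ((W' k).ι).opensRange)) := by
    intro k j hne
    simp only [Function.onFun]
    rw [Scheme.Opens.opensRange_ι, Scheme.Opens.opensRange_ι, disjoint_iff]
    ext z
    simp only [TopologicalSpace.Opens.coe_inf, TopologicalSpace.Opens.coe_bot,
      Set.mem_inter_iff, Set.mem_empty_iff_false, iff_false, not_and]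
    intro hz hz'
    have hne' : r k ≠ r j := fun h => hne (hr h)
    rcases lt_or_gt_of_ne hne' with h | h
    · apply hz'.2
      simp only [Set.mem_iUnion]
      exact ⟨k, h, hz.1⟩
    · apply hz.2
      simp only [Set.mem_iUnion]
      exact ⟨j, h, hz'.1⟩
  obtain ⟨hc⟩ := nonempty_isColimit_cofanMk_of (fun k => (W' k).ι) hcov' hdisj'
  refine ⟨Cofan.IsColimit.desc hc (fun k => Z.homOfLE (hle k) ≫ σ k), ?_⟩
  apply Cofan.IsColimit.hom_ext hc
  intro k
  rw [← Category.assoc, Cofan.IsColimit.fac, Category.assoc, hσφ]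
  exact (Scheme.homOfLE_ι _ _).trans (Category.comp_id _).symm

end Groth.Agent.S0625
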