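import Groth.Statements.S0632
import Groth.Agent.H4.ClosedLift

set_option autoImplicit false
open CategoryTheory CategoryTheory.Limits AlgebraicGeometry Opposite
universe u
open EtCore

namespace Groth.Agent.S0632

/-- Let X -> Y be a closed immersion and U_i -> X (i in ι) a jointly surjective family of etale
morphisms. Then one can find a jointly surjective family of etale Y-schemes V_j each of which either
has empty preimage over X or, after base change to X, maps into one of the U_i over X. -/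
theorem result {X Y : Scheme.{u}} (f : X ⟶ Y) [IsClosedImmersion f]
    {ι : Type u} (U : ι → X.Etale) (hU : EtCoh.Covers U) :
    ∃ (κ : Type u) (V : κ → Y.Etale), EtCoh.Covers V ∧
      ∀ j, IsEmpty ↥(pullback (V j).hom f) ∨
        ∃ (i : ι) (h : pullback (V j).hom f ⟶ (U i).left), h ≫ (U i).hom = pullback.snd (V j).hom f := by
  have key : ∀ y : Y, ∃ V : Y.Etale, (∃ v : V.left, V.hom v = y) ∧
      (IsEmpty ↥(pullback V.hom f) ∨
        ∃ (i : ι) (h : pullback V.hom f ⟶ (U i).left), h ≫ (U i).hom = pullback.snd V.hom f) := by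
    intro y
    by_cases hy : y ∈ Set.range f
    · obtain ⟨x, rfl⟩ := hy
      obtain ⟨i, u, hu⟩ := hU x
      have : Etale (U i).hom := (U i).prop
      obtain ⟨V₀, p, hp, W₁, a, ha, b, hw, sq⟩ :=
        Groth.Agent.H4.ClosedLift.exists_etale_lift f (U i).hom u
      obtain ⟨w, hw'⟩ := hw
      refine ⟨@Scheme.Etale.mk _ _ p hp, ⟨b w, ?_⟩, Or.inr ⟨i, sq.isoPullback.inv ≫ a, ?_⟩⟩
      · have h1 : (b ≫ p) w = ((a ≫ (U i).hom) ≫ f) w := by rw [sq.w]
        have h2 : ((a ≫ (U i).hom) ≫ f) w = f ((U i).hom (a w)) := rfl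
        have h3 : (U i).hom (a w) = x := by rw [hw']; exact hu
        exact h1.trans (h2.trans (congrArg (fun t => f t) h3))
      · have h2 : sq.isoPullback.hom ≫ pullback.snd p f = a ≫ (U i).hom := sq.isoPullback_hom_snd
        have h3 : sq.isoPullback.inv ≫ a ≫ (U i).hom = pullback.snd p f :=
          (congrArg (fun t => sq.isoPullback.inv ≫ t) h2.symm).trans
            (Iso.inv_hom_id_assoc sq.isoPullback (pullback.snd p f))
        exact (Category.assoc _ _ _).trans h3
    · let Uc : Y.Opens := ⟨(Set.range f)ᶜ, f.isClosedEmbedding.isClosed_range.isOpen_compl⟩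
      refine ⟨Scheme.Etale.mk Uc.ι, ⟨⟨y, hy⟩, rfl⟩, Or.inl ⟨fun z => ?_⟩⟩
      have h1 : (pullback.fst Uc.ι f ≫ Uc.ι) z = (pullback.snd Uc.ι f ≫ f) z := by
        rw [pullback.condition]
      have h2 : Uc.ι (pullback.fst Uc.ι f z) ∈ (Uc : Set Y) := by
        rw [← Scheme.Opens.range_ι]; exact ⟨_, rfl⟩
      exact h2 ⟨pullback.snd Uc.ι f z, h1.symm⟩
  choose V hV1 hV2 using key
  exact ⟨Y, V, fun y => ⟨y, hV1 y⟩, hV2⟩

end Groth.Agent.S0632
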