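import Groth.Statements.S0633
import Groth.Agent.H4.ClosedLift

set_option autoImplicit false
open CategoryTheory CategoryTheory.Limits AlgebraicGeometry Opposite
universe u
open EtCore

namespace Groth.Agent.S0633

/-- Let X -> Y be a closed immersion and U -> X etale. Then there exist etale morphisms V_i -> Y and
X-morphisms V_i x_Y X -> U which are open immersions whose images cover U. -/
theorem result {X Y : Scheme.{u}} (f : X ⟶ Y) [IsClosedImmersion f]
    (U : X.Etale) :
    ∃ (κ : Type u) (V : κ → Y.Etale) (h : ∀ j, pullback (V j).hom f ⟶ U.left),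
      (∀ j, h j ≫ U.hom = pullback.snd (V j).hom f) ∧ (∀ j, IsOpenImmersion (h j)) ∧
      ∀ x : U.left, ∃ (j : κ) (y : ↥(pullback (V j).hom f)), (h j).base y = x := by
  have : Etale U.hom := U.prop
  choose V₀ p hp W₁ a ha b hw sq using
    fun x : U.left => Groth.Agent.H4.ClosedLift.exists_etale_lift f U.hom x
  refine ⟨U.left, fun x => @Scheme.Etale.mk _ _ (p x) (hp x),
    fun x => (sq x).isoPullback.inv ≫ a x, ?_, ?_, ?_⟩
  · intro x
    have h2 : (sq x).isoPullback.hom ≫ pullback.snd (p x) f = a x ≫ U.hom :=
      (sq x).isoPullback_hom_snd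
    have h3 : (sq x).isoPullback.inv ≫ a x ≫ U.hom = pullback.snd (p x) f :=
      (congrArg (fun t => (sq x).isoPullback.inv ≫ t) h2.symm).trans
        (Iso.inv_hom_id_assoc (sq x).isoPullback (pullback.snd (p x) f))
    exact (Category.assoc _ _ _).trans h3
  · intro x
    have := ha x
    infer_instance
  · intro x
    obtain ⟨w, hw'⟩ := hw x
    refine ⟨x, (sq x).isoPullback.hom w, ?_⟩
    have h3 : ((sq x).isoPullback.hom ≫ (sq x).isoPullback.inv ≫ a x) w = x := by
      rw [Iso.hom_inv_id_assoc]; exact hw'
    exact h3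

end Groth.Agent.S0633
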