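import Groth.Statements.S0671
import Groth.Agent.H4.Stalks

set_option autoImplicit false
open CategoryTheory CategoryTheory.Limits AlgebraicGeometry Opposite
universe u
open EtCore

namespace Groth.Agent.S0671

/-- For an abelian sheaf F on the small etale site of S and a section σ over an etale S-scheme U, the
support of σ is a closed subset of U; and a point of S has a nonzero geometric stalk exactly when it
is the image of a point lying in the support of some section over some etale S-scheme. -/
theorem result {S : Scheme.{u}} (F : EtCoh.Ab S) :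
    (∀ (U : S.Etale) (σ : EtCoh.sect F U), IsClosed (EtShriek.sectSupp F U σ)) ∧
    EtPBC.supp F = ⋃ (U : S.Etale) (σ : EtCoh.sect F U), U.hom.base '' EtShriek.sectSupp F U σ := by
  open Groth.Agent.H4.Stalks in
  constructor
  · intro U σ
    rw [← isOpen_compl_iff, isOpen_iff_forall_mem_open]
    intro x hx
    simp only [EtShriek.sectSupp, Set.mem_compl_iff, Set.mem_ofPred_eq, not_forall, not_not] at hx
    obtain ⟨W, g, ⟨w, hw⟩, hs⟩ := hx
    refine ⟨Set.range g.left, ?_, (isOpenMap_left g).isOpen_range, ⟨w, hw⟩⟩
    rintro _ ⟨w', rfl⟩ hmem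
    exact hmem W g ⟨w', rfl⟩ hs
  · ext x
    simp only [Set.mem_iUnion, Set.mem_image]
    constructor
    · rintro ⟨Ω, _, _, ξ, hξ, hnz⟩
      have hx : ξ default = x := by
        have : ξ default ∈ Set.range ξ := ⟨default, rfl⟩
        rw [hξ] at this
        exact this
      have : ∃ t : (EtCoh.stalk ξ).obj F, t ≠ 0 := by
        by_contra hcon
        push Not at hcon
        apply hnz
        rw [AddCommGrpCat.isZero_iff_subsingleton]
        exact ⟨fun a b => (hcon a).trans (hcon b).symm⟩
      obtain ⟨t, ht⟩ := this
      obtain ⟨U, y, σ, rfl⟩ := germ_surjective F t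
      refine ⟨U, σ, y.pt, ?_, (Fib.hom_pt y).trans hx⟩
      intro W g ⟨w, hw⟩ hzero
      exact ht ((germ_eq_zero_iff' F y σ).2 ⟨W, g, w, hw, hzero⟩)
    · rintro ⟨U, σ, u, hu, rfl⟩
      obtain ⟨y, hy⟩ := Fib.exists_of_point (ξ := Groth.Agent.H4.Stalks.geomPt (U.hom u)) U u
        (Groth.Agent.H4.Stalks.geomPt_default _).symm
      refine ⟨_, inferInstance, inferInstance, Groth.Agent.H4.Stalks.geomPt (U.hom u), ?_, ?_⟩
      · ext z
        simp only [Set.mem_range, Set.mem_singleton_iff]
        constructor
        · rintro ⟨a, rfl⟩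
          rw [Subsingleton.elim a default]
          exact Groth.Agent.H4.Stalks.geomPt_default _
        · rintro rfl
          exact ⟨default, Groth.Agent.H4.Stalks.geomPt_default _⟩
      · intro hz
        have h0 : germ F y σ = 0 := by
          have := AddCommGrpCat.subsingleton_of_isZero hz
          exact Subsingleton.elim _ _
        obtain ⟨V, g, v, hv, hs⟩ := (germ_eq_zero_iff' F y σ).1 h0
        exact hu V g ⟨v, hv.trans hy⟩ hs

end Groth.Agent.S0671
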