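import Groth.Statements.S0634
import Groth.Agent.H4.StalkPull
import Groth.Agent.S0671

set_option autoImplicit false
open CategoryTheory CategoryTheory.Limits AlgebraicGeometry Opposite
universe u
open EtCore

namespace Groth.Agent.S0634

/-- For an abelian sheaf F on the small etale site of S and two global sections s, t there is an open W
of S such that a morphism f : T -> S has image inside W if and only if the pullbacks of s and t
along f (images under the adjunction unit, as sections of the pullback sheaf over T) coincide. -/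
theorem result {S : Scheme.{u}} (F : EtCoh.Ab S) (s t : EtCoh.sect F (EtCoh.top S)) :
    ∃ W : S.Opens, ∀ (T : Scheme.{u}) (f : T ⟶ S),
      Set.range f.base ⊆ (W : Set S) ↔
        ((EtCoh.pullPushAdj f).unit.app F).hom.app (op (EtCoh.top S)) s =
          ((EtCoh.pullPushAdj f).unit.app F).hom.app (op (EtCoh.top S)) t := by
  open Groth.Agent.H4.Stalks Groth.Agent.H4.StalkPull in
  have hcl : IsClosed (EtShriek.sectSupp F (EtCoh.top S) (s - t)) :=
    (Groth.Agent.S0671.result F).1 (EtCoh.top S) (s - t)
  refine ⟨⟨(EtShriek.sectSupp F (EtCoh.top S) (s - t))ᶜ, hcl.isOpen_compl⟩, ?_⟩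
  intro T f
  -- membership in the complement of the support
  have hmem : ∀ x : S, x ∈ (EtShriek.sectSupp F (EtCoh.top S) (s - t))ᶜ ↔
      ∃ (W : S.Etale) (g : W ⟶ EtCoh.top S) (w : W.left), g.left w = x ∧
        F.obj.map g.op (s - t) = 0 := by
    intro x
    constructor
    · intro hx
      by_contra hcon
      apply hx
      intro W g ⟨w, hw⟩ h0
      exact hcon ⟨W, g, w, hw, h0⟩
    · rintro ⟨W, g, w, hw, h0⟩ hx
      exact hx W g ⟨w, hw⟩ h0
  -- reduce to the difference
  have hsub : (((EtCoh.pullPushAdj f).unit.app F).hom.app (op (EtCoh.top S)) s =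
      ((EtCoh.pullPushAdj f).unit.app F).hom.app (op (EtCoh.top S)) t) ↔
      ((EtCoh.pullPushAdj f).unit.app F).hom.app (op (EtCoh.top S)) (s - t) = 0 := by
    rw [map_sub, sub_eq_zero]
  rw [hsub]
  -- the key germ computation
  have keyg : ∀ {Ω : Type u} [Field Ω] [IsSepClosed Ω] (y : Spec (CommRingCat.of Ω) ⟶ T)
      (v : Fib (y ≫ f) (EtCoh.top S)),
      (stalkPullIso f y).hom.app F (germ F v (s - t)) =
        germ ((EtCoh.pull f).obj F) (fibPull f y v)
          (((EtCoh.pullPushAdj f).unit.app F).hom.app (op (EtCoh.top S)) (s - t)) := by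
    intro Ω _ _ y v
    have key2 := ConcreteCategory.congr_hom (germ_stalkPullIso f y F v) (s - t)
    rw [ConcreteCategory.comp_apply, ConcreteCategory.comp_apply] at key2
    exact key2
  constructor
  · intro hr
    apply eq_zero_of_germs ((EtCoh.pull f).obj F)
    intro p'
    obtain ⟨y'', hy''⟩ := Fib.exists_of_point
      (ξ := Groth.Agent.H4.Stalks.geomPt (((EtCoh.bc f).obj (EtCoh.top S)).hom p'))
      ((EtCoh.bc f).obj (EtCoh.top S)) p' (Groth.Agent.H4.Stalks.geomPt_default _).symm
    refine ⟨_, inferInstance, inferInstance, _, y'', hy'', ?_⟩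
    have key := keyg _ (fibPush f _ y'')
    rw [fibPull_fibPush] at key
    rw [← key]
    have hz : germ F (fibPush f _ y'') (s - t) = 0 := by
      rw [germ_eq_zero_iff']
      have hpt : (fibPush f _ y'').pt ∈ (EtShriek.sectSupp F (EtCoh.top S) (s - t))ᶜ := by
        apply hr
        have := Fib.hom_pt (fibPush f _ y'')
        refine ⟨(Groth.Agent.H4.Stalks.geomPt (((EtCoh.bc f).obj (EtCoh.top S)).hom p')) default, ?_⟩
        exact this.symm
      obtain ⟨W, g, w, hw, h0⟩ := (hmem _).1 hpt
      exact ⟨W, g, w, hw, h0⟩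
    rw [hz, map_zero]
  · intro h0
    rintro _ ⟨p, rfl⟩
    refine (hmem (f p)).2 ?_
    obtain ⟨v₀, hv₀⟩ := Fib.exists_of_point (ξ := Groth.Agent.H4.Stalks.geomPt p ≫ f)
      (EtCoh.top S) (f p) (by
        have := Groth.Agent.H4.Stalks.geomPt_default p
        change f p = f ((Groth.Agent.H4.Stalks.geomPt p) default)
        rw [this])
    have key := keyg (Groth.Agent.H4.Stalks.geomPt p) v₀
    have key' : (stalkPullIso f (Groth.Agent.H4.Stalks.geomPt p)).hom.app F
        (germ F v₀ (s - t)) = 0 :=
      key.trans ((congrArg (germ ((EtCoh.pull f).obj F)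
        (fibPull f (Groth.Agent.H4.Stalks.geomPt p) v₀)) h0).trans (map_zero _))
    have hinj : Function.Injective
        ((stalkPullIso f (Groth.Agent.H4.Stalks.geomPt p)).hom.app F) :=
      (ConcreteCategory.bijective_of_isIso _).1
    have hz : germ F v₀ (s - t) = 0 := hinj (by rw [key', map_zero])
    obtain ⟨W, g, w, hw, hg⟩ := (germ_eq_zero_iff' F v₀ (s - t)).1 hz
    exact ⟨W, g, w, hw.trans hv₀, hg⟩

end Groth.Agent.S0634
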