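import Groth.Statements.S0642
import Groth.Agent.H4.IntInjEss
import Groth.Agent.S6633
import Groth.Agent.S3054
import Groth.Agent.S14451
import Groth.Agent.H4.HpullAPI

set_option autoImplicit false
open CategoryTheory CategoryTheory.Limits AlgebraicGeometry Opposite
universe u
open EtCore

namespace Groth.Agent.S0642

/-- Let X_0 -> X be integral, universally injective and surjective (a universal homeomorphism). Then for
every abelian sheaf F on the small etale site of X and every q the pullback map from H^q(X, F) to
H^q(X_0, F|_{X_0}) is bijective. (Exactness of pullback of abelian sheaves, which always holds, is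
carried as an instance hypothesis.) -/
theorem result {X₀ X : Scheme.{u}} (i : X₀ ⟶ X) [IsIntegralHom i]
    [UniversallyInjective i] [Surjective i] [PreservesFiniteLimits (EtCoh.pull i)] (F : EtCoh.Ab X) (q : ℕ) :
    Function.Bijective (EtCore.Hpull i F q) := by
  open Abelian in
  have hclm : IsClosedMap i.base := i.isClosedMap
  have hinj : Function.Injective i.base := i.injective
  have hce : Topology.IsClosedEmbedding i.base :=
    Topology.IsClosedEmbedding.of_continuous_injective_isClosedMap i.continuous hinj hclm
  have hC : BigSite.PropC i := Groth.Agent.S6633.result i hce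
  have hcl : IsClosed (Set.range i.base) := hce.isClosed_range
  have hemb : ∀ V : X.Etale, Topology.IsInducing (pullback.fst V.hom i) := fun V => by
    have h1 : IsClosedMap (pullback.fst V.hom i).base := (pullback.fst V.hom i).isClosedMap
    have : UniversallyInjective (pullback.fst V.hom i) :=
      MorphismProperty.pullback_fst V.hom i inferInstance
    have h2 : Function.Injective (pullback.fst V.hom i).base := (pullback.fst V.hom i).injective
    exact (Topology.IsClosedEmbedding.of_continuous_injective_isClosedMap
      (pullback.fst V.hom i).continuous h2 h1).isInducing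
  -- the unit at `F` is an isomorphism
  have hess : (EtCoh.push i).essImage F := by
    rw [Groth.Agent.H4.IntInj.essImage_iff i hC hemb hcl F]
    intro s _
    exact i.surjective s
  have hunit : IsIso ((EtCoh.pullPushAdj i).unit.app F) := by
    obtain ⟨F', ⟨e⟩⟩ := hess
    have hε : IsIso ((EtCoh.pullPushAdj i).counit.app F') :=
      Groth.Agent.H4.IntInj.isIso_counit i hC hemb F'
    have h1 : IsIso ((EtCoh.pullPushAdj i).unit.app ((EtCoh.push i).obj F')) := by
      have ht := (EtCoh.pullPushAdj i).right_triangle_components F'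
      have : IsIso ((EtCoh.push i).map ((EtCoh.pullPushAdj i).counit.app F')) := inferInstance
      have h2 : (EtCoh.pullPushAdj i).unit.app ((EtCoh.push i).obj F') =
          inv ((EtCoh.push i).map ((EtCoh.pullPushAdj i).counit.app F')) := by
        rw [← cancel_mono ((EtCoh.push i).map ((EtCoh.pullPushAdj i).counit.app F')), ht,
          IsIso.inv_hom_id]
        rfl
      rw [h2]
      infer_instance
    exact (NatTrans.isIso_app_iff_of_iso (EtCoh.pullPushAdj i).unit e).1 h1
  have hR : ∀ q : ℕ, 0 < q → IsZero ((EtCoh.Rpush i q).obj ((EtCoh.pull i).obj F)) :=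
    fun q hq => Groth.Agent.S3054.result i _ q hq
  have hpush := Groth.Agent.S14451.result i ((EtCoh.pull i).obj F) hR q
  have hpost : Function.Bijective (fun e : Ext (EtCoh.const X ℤ) F q =>
      e.comp (Ext.mk₀ ((EtCoh.pullPushAdj i).unit.app F)) (add_zero q)) := by
    refine Function.bijective_iff_has_inverse.mpr
      ⟨fun e => e.comp (Ext.mk₀ (inv ((EtCoh.pullPushAdj i).unit.app F))) (add_zero q),
        fun e => ?_, fun e => ?_⟩
    · change (e.comp (Ext.mk₀ ((EtCoh.pullPushAdj i).unit.app F)) (add_zero q)).comp
        (Ext.mk₀ (inv ((EtCoh.pullPushAdj i).unit.app F))) (add_zero q) = e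
      rw [Ext.comp_assoc _ _ _ (add_zero q) (add_zero 0) (by omega), Ext.mk₀_comp_mk₀,
        IsIso.hom_inv_id, Ext.comp_mk₀_id]
    · change (e.comp (Ext.mk₀ (inv ((EtCoh.pullPushAdj i).unit.app F))) (add_zero q)).comp
        (Ext.mk₀ ((EtCoh.pullPushAdj i).unit.app F)) (add_zero q) = e
      rw [Ext.comp_assoc _ _ _ (add_zero q) (add_zero 0) (by omega), Ext.mk₀_comp_mk₀,
        IsIso.inv_hom_id, Ext.comp_mk₀_id]
  have h : ⇑(EtCore.Hpull i F q) = ⇑(EtLim.HofPush i ((EtCoh.pull i).obj F) q) ∘
      (fun e : Ext (EtCoh.const X ℤ) F q =>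
        e.comp (Ext.mk₀ ((EtCoh.pullPushAdj i).unit.app F)) (add_zero q)) := by
    funext e
    change (Ext.mk₀ (EtCore.pullConst i ℤ).inv).comp (e.mapExactFunctor (EtCoh.pull i)) (zero_add q) =
      ((Ext.mk₀ (EtCore.pullConst i ℤ).inv).comp
        ((e.comp (Ext.mk₀ ((EtCoh.pullPushAdj i).unit.app F)) (add_zero q)).mapExactFunctor
          (EtCoh.pull i)) (zero_add q)).comp
        (Ext.mk₀ ((EtCoh.pullPushAdj i).counit.app ((EtCoh.pull i).obj F))) (add_zero q)
    rw [Ext.mapExactFunctor_comp, Ext.mapExactFunctor_mk₀,
      Ext.comp_assoc _ _ _ (zero_add q) (add_zero q) (by omega),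
      Ext.comp_assoc _ _ _ (add_zero q) (add_zero 0) (by omega), Ext.mk₀_comp_mk₀,
      (EtCoh.pullPushAdj i).left_triangle_components, Ext.comp_mk₀_id]
  rw [h]
  exact hpush.comp hpost

end Groth.Agent.S0642
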