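import Groth.Statements.S0643

set_option autoImplicit false
universe u
open EtCore

namespace Groth.Agent.S0643

open Polynomial in
/-- Let A be a ring, assumed nonzero here (the published statement does not say so; over the zero ring
no polynomial has positive degree in Lean's sense), and a, b elements generating the unit ideal such
that some positive power of a is congruent to 1 modulo b. Then there is a monic polynomial P of
positive degree over A such that in B = A[y]/(P) the element a - b y is a unit. -/
theorem result (A : Type u) [CommRing A] [Nontrivial A] (a b : A) (hab : IsCoprime a b)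
    (hroot : ∃ n : ℕ, 0 < n ∧ a ^ n - 1 ∈ Ideal.span ({b} : Set A)) :
    ∃ P : A[X], P.Monic ∧ 0 < P.natDegree ∧
      IsUnit (algebraMap A (AdjoinRoot P) a - algebraMap A (AdjoinRoot P) b * AdjoinRoot.root P) := by
  obtain ⟨n, hn, hmem⟩ := hroot
  obtain ⟨c, hc⟩ := Ideal.mem_span_singleton'.mp hmem
  obtain ⟨u, v, huv⟩ := hab
  obtain ⟨m, rfl⟩ : ∃ m, n = m + 1 := ⟨n - 1, by omega⟩
  set Q : A[X] := - (C c * (C u * X + C v) ^ m) with hQ
  have hQnat : Q.natDegree ≤ m := by
    rw [hQ, natDegree_neg]
    refine (natDegree_C_mul_le _ _).trans ?_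
    refine (natDegree_pow_le_of_le m (natDegree_linear_le (a := u) (b := v))).trans ?_
    simp
  have hQdeg : Q.degree < ((m + 1 : ℕ) : WithBot ℕ) :=
    lt_of_le_of_lt (degree_le_of_natDegree_le hQnat) (by exact_mod_cast Nat.lt_succ_self m)
  refine ⟨X ^ (m + 1) + Q, monic_X_pow_add hQdeg, ?_, ?_⟩
  · have hnd : (X ^ (m + 1) + Q).natDegree = m + 1 := by
      rw [natDegree_add_eq_left_of_degree_lt, natDegree_X_pow]
      rw [degree_X_pow]; exact hQdeg
    rw [hnd]; exact hn
  · set P : A[X] := X ^ (m + 1) + Q with hP
    set y := AdjoinRoot.root P with hy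
    have hroot : y ^ (m + 1) =
        algebraMap A (AdjoinRoot P) c *
          (algebraMap A (AdjoinRoot P) u * y + algebraMap A (AdjoinRoot P) v) ^ m := by
      have h0 : aeval y P = 0 := (AdjoinRoot.aeval_eq P).trans AdjoinRoot.mk_self
      have h0' : aeval y (X ^ (m + 1) + -(C c * (C u * X + C v) ^ m)) = 0 := h0
      simp only [map_add, map_neg, map_mul, map_pow, aeval_X, aeval_C] at h0'
      exact (eq_neg_of_add_eq_zero_left h0').trans (neg_neg _)
    have hα : algebraMap A (AdjoinRoot P) a ^ (m + 1) =
        1 + algebraMap A (AdjoinRoot P) c * algebraMap A (AdjoinRoot P) b := by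
      rw [← map_pow, ← map_mul, ← map_one (algebraMap A (AdjoinRoot P)), ← map_add]
      congr 1
      rw [hc]; ring
    have huv' : algebraMap A (AdjoinRoot P) u * algebraMap A (AdjoinRoot P) a +
        algebraMap A (AdjoinRoot P) v * algebraMap A (AdjoinRoot P) b = 1 := by
      rw [← map_mul, ← map_mul, ← map_add, huv, map_one]
    apply isUnit_of_dvd_one
    have h1 : (1 : AdjoinRoot P) =
        (algebraMap A (AdjoinRoot P) a ^ (m + 1) - (algebraMap A (AdjoinRoot P) b * y) ^ (m + 1)) -
          algebraMap A (AdjoinRoot P) c * algebraMap A (AdjoinRoot P) b *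
            ((algebraMap A (AdjoinRoot P) u * algebraMap A (AdjoinRoot P) a +
                algebraMap A (AdjoinRoot P) v * algebraMap A (AdjoinRoot P) b) ^ m -
              (algebraMap A (AdjoinRoot P) u * (algebraMap A (AdjoinRoot P) b * y) +
                algebraMap A (AdjoinRoot P) v * algebraMap A (AdjoinRoot P) b) ^ m) := by
      rw [huv', one_pow, mul_pow, hroot, hα]
      have : (algebraMap A (AdjoinRoot P) u * (algebraMap A (AdjoinRoot P) b * y) +
          algebraMap A (AdjoinRoot P) v * algebraMap A (AdjoinRoot P) b) =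
          algebraMap A (AdjoinRoot P) b *
            (algebraMap A (AdjoinRoot P) u * y + algebraMap A (AdjoinRoot P) v) := by ring
      rw [this, mul_pow]
      ring
    rw [h1]
    apply dvd_sub
    · exact sub_dvd_pow_sub_pow _ _ _
    · apply dvd_mul_of_dvd_right
      refine dvd_trans ?_ (sub_dvd_pow_sub_pow _ _ m)
      exact ⟨algebraMap A (AdjoinRoot P) u, by ring⟩

end Groth.Agent.S0643
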