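import Groth.Statements.S0652
import Groth.Agent.H4.ExtZeroStalk

set_option autoImplicit false
open CategoryTheory CategoryTheory.Limits AlgebraicGeometry Opposite
universe u
open EtCore

namespace Groth.Agent.S0652

/-- For an open immersion j : U -> X and an abelian sheaf F on the small etale site of U, an abelian
sheaf G on X is isomorphic to j_! F as soon as G restricts to a sheaf isomorphic to F on U and has
vanishing stalks at every geometric point of X not in U. (Continuity of the composition functor of
etale sites, which always holds, is carried as an instance hypothesis.) -/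
theorem result {U X : Scheme.{u}} (j : U ⟶ X) [IsOpenImmersion j]
    [AlgebraicGeometry.Etale j] [EtShriek.JCont j] (F : EtCoh.Ab U) (G : EtCoh.Ab X)
    (hres : Nonempty ((EtShriek.restrAlong j).obj G ≅ F))
    (hzero : ∀ (Ω : Type u) [Field Ω] [IsSepClosed Ω] (ξ : Spec (CommRingCat.of Ω) ⟶ X),
      Set.range ξ.base ⊆ (Set.range j.base)ᶜ → IsZero ((EtCoh.stalk ξ).obj G)) :
    Nonempty (G ≅ (EtShriek.extZero j).obj F) := by
  open Groth.Agent.H4.Stalks Groth.Agent.H4.ExtZeroStalk in
  obtain ⟨e⟩ := hres
  suffices h : IsIso ((EtShriek.extZeroAdj j).counit.app G) from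
    ⟨(asIso ((EtShriek.extZeroAdj j).counit.app G)).symm ≪≫ (EtShriek.extZero j).mapIso e⟩
  rw [(jri X).isIso_iff]
  rintro ⟨_, ⟨s⟩⟩
  change IsIso ((EtCoh.stalk (Groth.Agent.H4.Stalks.geomPt s)).map _)
  by_cases hsU : s ∈ Set.range j.base
  · have hr : Set.range (Groth.Agent.H4.Stalks.geomPt s).base ⊆ Set.range j.base := by
      rintro _ ⟨a, rfl⟩
      rw [Subsingleton.elim a default]
      have := Groth.Agent.H4.Stalks.geomPt_default s
      rw [show (Groth.Agent.H4.Stalks.geomPt s).base default = s from this]
      exact hsU
    exact isIso_stalk_counit j G (IsOpenImmersion.lift j _ hr) _ (IsOpenImmersion.lift_fac _ _ _)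
  · have hr : Set.range (Groth.Agent.H4.Stalks.geomPt s).base ⊆ (Set.range j.base)ᶜ := by
      rintro _ ⟨a, rfl⟩
      rw [Subsingleton.elim a default]
      have := Groth.Agent.H4.Stalks.geomPt_default s
      rw [show (Groth.Agent.H4.Stalks.geomPt s).base default = s from this]
      exact hsU
    have h1 := hzero _ (Groth.Agent.H4.Stalks.geomPt s) hr
    have h2 := isZero_stalk_extZero j (ξ := Groth.Agent.H4.Stalks.geomPt s)
      ((EtShriek.restrAlong j).obj G) (fun u hu => hsU ⟨u default, by
        have := Groth.Agent.H4.Stalks.geomPt_default s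
        rw [← hu] at this
        exact this⟩)
    exact h2.isIso h1 _

end Groth.Agent.S0652
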