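import Groth.Statements.S0653
import Groth.Agent.H4.PushStalkZero
import Groth.Agent.H4.ExtZeroStalk
import Groth.Agent.H4.ExtZeroBC

set_option autoImplicit false
open CategoryTheory CategoryTheory.Limits AlgebraicGeometry Opposite
universe u
open EtCore

namespace Groth.Agent.S0653

/-- Consider a cartesian square U = X x_Y V with f : X -> Y finite, j : V -> Y an open immersion, j' : U
-> X and g : U -> V the projections. Then for every abelian sheaf F on the small etale site of U,
f_* j'_! F is isomorphic to j_! g_* F. (The source also asserts functoriality in F; only the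
objectwise isomorphism is stated.) (Continuity of the composition functor of etale sites, which
always holds, is carried as an instance hypothesis.) -/
theorem result {U X V Y : Scheme.{u}} (f : X ⟶ Y) [IsFinite f] (j : V ⟶ Y)
    [IsOpenImmersion j] [AlgebraicGeometry.Etale j] [EtShriek.JCont j] (j' : U ⟶ X) [IsOpenImmersion j']
    [AlgebraicGeometry.Etale j'] [EtShriek.JCont j'] (g : U ⟶ V) (h : IsPullback j' g f j) (F : EtCoh.Ab U) :
    Nonempty ((EtCoh.push f).obj ((EtShriek.extZero j').obj F) ≅ (EtShriek.extZero j).obj ((EtCoh.push g).obj F)) := by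
  open EtShriek EtCoh Groth.Agent.H4.Stalks in
  let G := (EtCoh.push f).obj ((EtShriek.extZero j').obj F)
  have hcl : ∀ W : Y.Etale, IsClosedMap (pullback.fst W.hom f) := fun W =>
    (pullback.fst W.hom f).isClosedMap
  have hcounit : IsIso ((EtShriek.extZeroAdj j).counit.app G) := by
    rw [(jri Y).isIso_iff]
    rintro ⟨_, ⟨s⟩⟩
    change IsIso ((EtCoh.stalk (Groth.Agent.H4.Stalks.geomPt s)).map _)
    by_cases hs : s ∈ Set.range j.base
    · have hr : Set.range (Groth.Agent.H4.Stalks.geomPt s).base ⊆ Set.range j.base := by
        rintro _ ⟨a, rfl⟩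
        rw [Subsingleton.elim a default, geomPt_default]
        exact hs
      exact Groth.Agent.H4.ExtZeroStalk.isIso_stalk_counit j G
        (IsOpenImmersion.lift j (Groth.Agent.H4.Stalks.geomPt s) hr) _
        (IsOpenImmersion.lift_fac _ _ _)
    · have h1 : IsZero ((EtCoh.stalk (Groth.Agent.H4.Stalks.geomPt s)).obj
          ((EtShriek.extZero j).obj ((EtShriek.restrAlong j).obj G))) := by
        apply Groth.Agent.H4.ExtZeroStalk.isZero_stalk_extZero
        intro u hu
        apply hs
        refine ⟨u default, ?_⟩
        have := congrArg (fun k => k default) hu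
        simpa using this
      have h2 : IsZero ((EtCoh.stalk (Groth.Agent.H4.Stalks.geomPt s)).obj G) := by
        apply Groth.Agent.H4.PushStalkZero.isZero_stalk_push f hcl
        intro x hx
        apply Groth.Agent.H4.ExtZeroStalk.isZero_stalk_extZero
        intro u hu
        apply hs
        refine ⟨g (u default), ?_⟩
        have h3 : (j' ≫ f) (u default) = (g ≫ j) (u default) := by rw [h.w]
        have h4 : j' (u default) = x := by
          have := congrArg (fun k => k default) hu
          simpa using this
        have h5 : f (j' (u default)) = j (g (u default)) := h3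
        rw [← h5, h4, hx, geomPt_default]
      exact h1.isIso h2 _
  have hunit : IsIso ((EtShriek.extZeroAdj j').unit.app F) := inferInstance
  let e2 : (EtShriek.restrAlong j).obj G ≅ (EtCoh.push g).obj F :=
    ((Groth.Agent.H4.ExtZeroBC.restrPushIso j f j' g h).app ((EtShriek.extZero j').obj F)).symm ≪≫
      (EtCoh.push g).mapIso (asIso ((EtShriek.extZeroAdj j').unit.app F)).symm
  exact ⟨(asIso ((EtShriek.extZeroAdj j).counit.app G)).symm ≪≫ (EtShriek.extZero j).mapIso e2⟩

end Groth.Agent.S0653
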