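import Groth.Statements.S0654
import Groth.Agent.H4.ClosedStalk
import Groth.Agent.H4.ExtZeroStalk
import Groth.Agent.S0069
import Groth.Agent.S0622

set_option autoImplicit false
open CategoryTheory CategoryTheory.Limits AlgebraicGeometry Opposite
universe u
open EtCore

namespace Groth.Agent.S0654

/-- Let i : Z -> X be a closed immersion and j : U -> X the open immersion of the complement of its
image. For every abelian sheaf F on the small etale site of X, the counit j_! (F|_U) -> F followed
by the unit F -> i_* i^{-1} F composes to zero and the resulting three-term sequence is short exact.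
(Continuity of the composition functor of etale sites, which always holds, is carried as an instance
hypothesis.) -/
theorem result {Z X : Scheme.{u}} (i : Z ⟶ X) [IsClosedImmersion i]
    (U : X.Opens) (hU : (U : Set X) = (Set.range i.base)ᶜ) [AlgebraicGeometry.Etale U.ι] [EtShriek.JCont U.ι]
    (F : EtCoh.Ab X) :
    ∃ w : (EtShriek.extZeroAdj U.ι).counit.app F ≫ (EtCoh.pullPushAdj i).unit.app F = 0,
      (ShortComplex.mk _ _ w).ShortExact := by
  open Groth.Agent.H4.Stalks Groth.Agent.H4.ClosedStalk Groth.Agent.H4.ExtZeroStalk in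
  have key : ∀ (Ω : Type u) [Field Ω] [IsSepClosed Ω] (ξ : Spec (CommRingCat.of Ω) ⟶ X),
      (IsIso ((EtCoh.stalk ξ).map ((EtShriek.extZeroAdj U.ι).counit.app F)) ∧
        IsZero ((EtCoh.stalk ξ).obj ((EtCoh.push i).obj ((EtCoh.pull i).obj F)))) ∨
      (IsZero ((EtCoh.stalk ξ).obj ((EtShriek.extZero U.ι).obj ((EtShriek.restrAlong U.ι).obj F))) ∧
        IsIso ((EtCoh.stalk ξ).map ((EtCoh.pullPushAdj i).unit.app F))) := by
    intro Ω _ _ ξ
    by_cases hξ : ξ default ∈ Set.range i.base
    · right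
      obtain ⟨ζ, rfl⟩ := exists_lift_geomPoint i ξ hξ
      refine ⟨isZero_stalk_extZero U.ι (ξ := ζ ≫ i) _ (fun u hu => ?_), isIso_stalk_unit i ζ F⟩
      have h1 : (u ≫ U.ι) default = (ζ ≫ i) default := by rw [hu]
      have h2 : (u ≫ U.ι) default ∈ (U : Set X) := (u default).2
      rw [hU, h1] at h2
      exact h2 ⟨ζ default, rfl⟩
    · left
      have hr : Set.range ξ ⊆ Set.range U.ι := by
        rintro _ ⟨a, rfl⟩
        rw [Subsingleton.elim a default, Scheme.Opens.range_ι, hU]
        exact hξ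
      refine ⟨isIso_stalk_counit U.ι F (IsOpenImmersion.lift U.ι ξ hr) ξ
        (IsOpenImmersion.lift_fac _ _ _), Groth.Agent.S0069.result i _ ξ ?_⟩
      rw [Set.disjoint_left]
      rintro _ ⟨a, rfl⟩ h
      rw [Subsingleton.elim a default] at h
      exact hξ h
  have w : (EtShriek.extZeroAdj U.ι).counit.app F ≫ (EtCoh.pullPushAdj i).unit.app F = 0 := by
    apply hom_eq_zero_of_stalks
    intro s
    rw [Functor.map_comp]
    rcases key _ (Groth.Agent.H4.Stalks.geomPt s) with ⟨-, h⟩ | ⟨h, -⟩
    · exact h.eq_of_tgt _ _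
    · exact h.eq_of_src _ _
  refine ⟨w, ?_⟩
  have hex : (ShortComplex.mk _ _ w).Exact := by
    rw [(Groth.Agent.S0622.result (ShortComplex.mk _ _ w) (𝟙 F)).1]
    intro Ω _ _ ξ
    rcases key Ω ξ with ⟨h1, h2⟩ | ⟨h1, h2⟩
    · rw [ShortComplex.exact_iff_epi _ (h2.eq_of_tgt _ _)]
      show Epi ((EtCoh.stalk ξ).map ((EtShriek.extZeroAdj U.ι).counit.app F))
      infer_instance
    · rw [ShortComplex.exact_iff_mono _ (h1.eq_of_src _ _)]
      show Mono ((EtCoh.stalk ξ).map ((EtCoh.pullPushAdj i).unit.app F))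
      infer_instance
  have hmono : Mono ((EtShriek.extZeroAdj U.ι).counit.app F) := by
    rw [(Groth.Agent.S0622.result (ShortComplex.mk _ _ w) ((EtShriek.extZeroAdj U.ι).counit.app F)).2.1]
    intro Ω _ _ ξ
    rcases key Ω ξ with ⟨h1, h2⟩ | ⟨h1, h2⟩
    · exact (ConcreteCategory.bijective_of_isIso _).1
    · have : Subsingleton ↑((EtCoh.stalk ξ).obj
          ((EtShriek.restrAlong U.ι ⋙ EtShriek.extZero U.ι).obj F)) :=
        AddCommGrpCat.subsingleton_of_isZero h1
      exact Function.injective_of_subsingleton _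
  have hepi : Epi ((EtCoh.pullPushAdj i).unit.app F) := by
    rw [(Groth.Agent.S0622.result (ShortComplex.mk _ _ w) ((EtCoh.pullPushAdj i).unit.app F)).2.2]
    intro Ω _ _ ξ
    rcases key Ω ξ with ⟨h1, h2⟩ | ⟨h1, h2⟩
    · have : Subsingleton ↑((EtCoh.stalk ξ).obj ((EtCoh.pull i ⋙ EtCoh.push i).obj F)) :=
        AddCommGrpCat.subsingleton_of_isZero h2
      intro b
      exact ⟨0, Subsingleton.elim _ _⟩
    · exact (ConcreteCategory.bijective_of_isIso _).2
  exact { exact := hex, mono_f := hmono, epi_g := hepi }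

end Groth.Agent.S0654
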