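import Groth.Statements.S0660
import Groth.Agent.H4.ClosedLift

set_option autoImplicit false
open CategoryTheory CategoryTheory.Limits AlgebraicGeometry Opposite
universe u
open EtCore

namespace Groth.Agent.S0660

set_option backward.isDefEq.respectTransparency.types false in
/-- Let i : Z -> X be a closed immersion, U and U' schemes etale over X, and h a Z-morphism from U x_X Z
to U' x_X Z. Then there are an etale X-scheme W and X-morphisms a : W -> U, b : W -> U' such that
the base change of a to Z is an isomorphism and h is the base change of b composed with the inverse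
of the base change of a. -/
theorem result {Z X : Scheme.{u}} (i : Z ⟶ X) [IsClosedImmersion i] (U U' : X.Etale)
    (h : (EtCoh.bc i).obj U ⟶ (EtCoh.bc i).obj U') :
    ∃ (W : X.Etale) (a : W ⟶ U) (b : W ⟶ U'), IsIso ((EtCoh.bc i).map a) ∧ (EtCoh.bc i).map a ≫ h = (EtCoh.bc i).map b := by
  let P : X.Etale := U ⨯ U'
  let pr₁ : P ⟶ U := prod.fst
  let pr₂ : P ⟶ U' := prod.snd
  have : IsIso (prodComparison (EtCoh.bc i) U U') := inferInstance
  let γ : (EtCoh.bc i).obj U ⟶ (EtCoh.bc i).obj P := prod.lift (𝟙 _) h ≫ inv (prodComparison (EtCoh.bc i) U U')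
  have hγ1 : γ ≫ (EtCoh.bc i).map pr₁ = 𝟙 _ := by
    have h1 : inv (prodComparison (EtCoh.bc i) U U') ≫ (EtCoh.bc i).map pr₁ = prod.fst := by
      rw [IsIso.inv_comp_eq]; exact (prodComparison_fst (EtCoh.bc i) U U').symm
    rw [Category.assoc, h1, prod.lift_fst]
  have hγ2 : γ ≫ (EtCoh.bc i).map pr₂ = h := by
    have h1 : inv (prodComparison (EtCoh.bc i) U U') ≫ (EtCoh.bc i).map pr₂ = prod.snd := by
      rw [IsIso.inv_comp_eq]; exact (prodComparison_snd (EtCoh.bc i) U U').symm
    rw [Category.assoc, h1, prod.lift_snd]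
  have hγo : IsOpenImmersion γ.left := by
    apply Groth.Agent.H4.ClosedLift.isOpenImmersion_of_section ((EtCoh.bc i).map pr₁).left γ.left
    have := congrArg (fun t => t.left) hγ1
    exact this
  have hcl : IsClosedImmersion (pullback.fst P.hom i) := inferInstance
  obtain ⟨W₀s, hW₀, hpre⟩ := (pullback.fst P.hom i).isEmbedding.isInducing.isOpen_iff.1
    γ.left.isOpenEmbedding.isOpen_range
  let W₀ : P.left.Opens := ⟨W₀s, hW₀⟩
  have : Etale P.hom := P.prop
  let W : X.Etale := Scheme.Etale.mk (W₀.ι ≫ P.hom)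
  let c : W ⟶ P := MorphismProperty.Over.homMk (A := W) (B := P) W₀.ι rfl trivial
  have sqc := EtCoh.isPullback_bc_map i c
  have hco : IsOpenImmersion ((EtCoh.bc i).map c).left :=
    MorphismProperty.of_isPullback (P := @IsOpenImmersion) sqc.flip
      (inferInstanceAs (IsOpenImmersion W₀.ι))
  have hrange : Set.range ((EtCoh.bc i).map c).left = Set.range γ.left := by
    have h1 := Scheme.image_preimage_eq_of_isPullback sqc.flip Set.univ
    rw [Set.preimage_univ, Set.image_univ, Set.image_univ] at h1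
    rw [h1, ← hpre]
    congr 1
    exact Scheme.Opens.range_ι W₀
  let θ := IsOpenImmersion.isoOfRangeEq ((EtCoh.bc i).map c).left γ.left hrange
  have hθ : θ.hom ≫ γ.left = ((EtCoh.bc i).map c).left := IsOpenImmersion.isoOfRangeEq_hom_fac _ _ _
  have hleft1 : ((EtCoh.bc i).map (c ≫ pr₁)).left = θ.hom := by
    rw [Functor.map_comp]
    show ((EtCoh.bc i).map c).left ≫ ((EtCoh.bc i).map pr₁).left = θ.hom
    rw [← hθ, Category.assoc]
    have := congrArg (fun t => t.left) hγ1
    have h2 : γ.left ≫ ((EtCoh.bc i).map pr₁).left = 𝟙 _ := this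
    rw [h2, Category.comp_id]
  have hleft2 : ((EtCoh.bc i).map (c ≫ pr₂)).left = θ.hom ≫ h.left := by
    rw [Functor.map_comp]
    show ((EtCoh.bc i).map c).left ≫ ((EtCoh.bc i).map pr₂).left = θ.hom ≫ h.left
    rw [← hθ, Category.assoc]
    have := congrArg (fun t => t.left) hγ2
    have h2 : γ.left ≫ ((EtCoh.bc i).map pr₂).left = h.left := this
    rw [h2]
  refine ⟨W, c ≫ pr₁, c ≫ pr₂, ?_, ?_⟩
  · have h3 : IsIso ((Scheme.Etale.forget Z ⋙ Over.forget Z).map ((EtCoh.bc i).map (c ≫ pr₁))) := by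
      show IsIso ((EtCoh.bc i).map (c ≫ pr₁)).left
      rw [hleft1]; infer_instance
    exact isIso_of_reflects_iso _ (Scheme.Etale.forget Z ⋙ Over.forget Z)
  · apply (Scheme.Etale.forget Z ⋙ Over.forget Z).map_injective
    show ((EtCoh.bc i).map (c ≫ pr₁)).left ≫ h.left = ((EtCoh.bc i).map (c ≫ pr₂)).left
    rw [hleft1, hleft2]

end Groth.Agent.S0660
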