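import Groth.Statements.S16465
import Groth.Agent.S6773

set_option autoImplicit false
universe v u v' u'
open CategoryTheory CategoryTheory.Limits
open RDer

namespace Groth.Agent.S16465

/-- Let F be an additive functor from an abelian category C with injective resolutions to an abelian
category D, with its connecting morphisms for the right derived functors. Then (RⁿF, δ)_{n ≥ 0} is a
universal cohomological delta-functor: a natural transformation from R⁰F to the degree-zero functor
of any delta-functor extends uniquely to a morphism of delta-functors. (The published statement
assumes that every object is a subobject of an object on which the higher derived functors vanish;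
this row carries no such hypothesis.) -/
theorem result {C : Type u} [Category.{v} C] [Abelian C] [HasInjectiveResolutions C]
    {D : Type u'} [Category.{v'} D] [Abelian D] (F : C ⥤ D) [F.Additive] (Δ : RDer.DerivedLES F) :
    Δ.toCohDeltaFunctor.IsUniversal := by
  apply Groth.Agent.S6773.result
  intro n X
  let I : InjectiveResolution X := Classical.choice (HasInjectiveResolution.out (Z := X))
  have hmono : Mono (I.ι.f 0) := inferInstance
  refine ⟨I.cocomplex.X 0, I.ι.f 0, ?_, ?_⟩
  · exact hmono
  · haveI : Injective (I.cocomplex.X 0) := I.injective 0
    exact (Functor.isZero_rightDerived_obj_injective_succ F n (I.cocomplex.X 0)).eq_of_tgt _ _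

end Groth.Agent.S16465
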