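import Groth.Statements.S6774

set_option autoImplicit false
open CategoryTheory
universe v u v' u'
open DeltaF

namespace Groth.Agent.S6774

/-- Two universal cohomological delta-functors (indexed by `ℕ`) with isomorphic degree-`0` functors are
isomorphic as delta-functors, by a unique isomorphism extending the given one in degree `0`. -/
theorem result {A : Type u} [Category.{v} A] [Abelian A] {B : Type u'} [Category.{v'} B] [Abelian B] (T T' : DeltaF.CohDeltaFunctor A B ℕ) (hT : T.IsUniversal) (hT' : T'.IsUniversal) (e : T.F 0 ≅ T'.F 0) : ∃! φ : T ≅ T', φ.hom.app 0 = e.hom := by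
  obtain ⟨τ, hτ, hτu⟩ := hT T' e.hom
  obtain ⟨τ', hτ', hτ'u⟩ := hT' T e.inv
  obtain ⟨i, hi, hiu⟩ := hT T (𝟙 _)
  obtain ⟨i', hi', hi'u⟩ := hT' T' (𝟙 _)
  have h1 : τ ≫ τ' = 𝟙 T := by
    have a1 : τ ≫ τ' = i := hiu _ (by
      change (τ ≫ τ').app 0 = 𝟙 _
      rw [CohDeltaFunctor.comp_app, hτ, hτ', Iso.hom_inv_id])
    have a2 : 𝟙 T = i := hiu _ (by
      change (𝟙 T : T ⟶ T).app 0 = 𝟙 _
      rw [CohDeltaFunctor.id_app])
    rw [a1, a2]
  have h2 : τ' ≫ τ = 𝟙 T' := by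
    have a1 : τ' ≫ τ = i' := hi'u _ (by
      change (τ' ≫ τ).app 0 = 𝟙 _
      rw [CohDeltaFunctor.comp_app, hτ, hτ', Iso.inv_hom_id])
    have a2 : 𝟙 T' = i' := hi'u _ (by
      change (𝟙 T' : T' ⟶ T').app 0 = 𝟙 _
      rw [CohDeltaFunctor.id_app])
    rw [a1, a2]
  refine ⟨⟨τ, τ', h1, h2⟩, hτ, ?_⟩
  intro φ hφ
  apply Iso.ext
  exact hτu φ.hom hφ

end Groth.Agent.S6774
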