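import Groth.Statements.S0666
import Groth.Agent.H60.CechDeltaF
import Groth.Agent.S16463
import Groth.Agent.S16465
import Groth.Agent.S6774
-- import your own Groth.Agent.* helpers here

set_option autoImplicit false
open CategoryTheory CategoryTheory.Limits Opposite
universe w v
open EtCore

namespace Groth.Agent.S0666

open Groth.Agent.H60.CechDeltaF

/-- With C, U and the family (U_i -> U) as in the definition of the Cech complex, on the abelian
category of abelian presheaves on C the p-th Cech cohomology functor is isomorphic to the p-th right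
derived functor of the zeroth Cech cohomology functor (assuming, as binders, that the latter is
additive and that abelian presheaves have injective resolutions, which hold because C is taken
essentially small relative to the coefficient universe). -/
theorem result {C : Type w} [Category.{v} C] [EssentiallySmall.{w} C] {U : C} [HasFiniteProducts (Over U)]
    {ι : Type w} (Uf : ι → Over U) [(EtCech.cechHFunctor (C := C) Uf 0).Additive]
    [HasInjectiveResolutions (Cᵒᵖ ⥤ AddCommGrpCat.{w})] (p : ℕ) :
    Nonempty (EtCech.cechHFunctor (C := C) Uf p ≅ (EtCech.cechHFunctor (C := C) Uf 0).rightDerived p) := by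
  -- enough injectives from injective resolutions
  have hEI : EnoughInjectives (Cᵒᵖ ⥤ AddCommGrpCat.{w}) := by
    constructor
    intro P
    let I : InjectiveResolution P := Classical.choice (HasInjectiveResolution.out (Z := P))
    have hm : Mono (I.ι.f 0) := inferInstance
    exact ⟨⟨I.cocomplex.X 0, I.injective 0, I.ι.f 0, hm⟩⟩
  have hLS : LocallySmall.{w} C := inferInstance
  -- the derived δ-functor
  obtain ⟨Δ⟩ := Groth.Agent.S16463.result (EtCech.cechHFunctor (C := C) Uf 0)
  have hU' : Δ.toCohDeltaFunctor.IsUniversal := Groth.Agent.S16465.result _ Δ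
  -- the Čech δ-functor
  have hU : (cechDelta Uf).IsUniversal := Groth.Agent.S6773.result _ (isEffaceable Uf)
  have hPFL : PreservesFiniteLimits (EtCech.cechHFunctor (C := C) Uf 0) :=
    inferInstanceAs (PreservesFiniteLimits (CC Uf ⋙ HomologicalComplex.homologyFunctor _ _ 0))
  let e : (cechDelta Uf).F 0 ≅ Δ.toCohDeltaFunctor.F 0 :=
    (Functor.rightDerivedZeroIsoSelf (EtCech.cechHFunctor (C := C) Uf 0)).symm
  obtain ⟨φ, -, -⟩ := Groth.Agent.S6774.result (cechDelta Uf) Δ.toCohDeltaFunctor hU hU' e
  refine ⟨⟨φ.hom.app p, φ.inv.app p, ?_, ?_⟩⟩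
  · have := congrArg (fun ψ => DeltaF.CohDeltaFunctor.Hom.app ψ p) φ.hom_inv_id
    exact this
  · have := congrArg (fun ψ => DeltaF.CohDeltaFunctor.Hom.app ψ p) φ.inv_hom_id
    exact this

end Groth.Agent.S0666
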