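import Groth.Statements.S0702
import Groth.Agent.S0701

set_option autoImplicit false
open CategoryTheory CategoryTheory.Limits AlgebraicGeometry Opposite Topology
universe u
open ProEtW

namespace Groth.Agent.S0702

/-- Let Spec A be profinite and A -> B induce algebraic extensions of residue fields at all primes. Then
Spec B is profinite. -/
theorem result (A B : Type u) [CommRing A] [CommRing B]
    [Algebra A B] [T2Space (PrimeSpectrum A)] [TotallyDisconnectedSpace (PrimeSpectrum A)]
    (h : ProEtW.AlgebraicResidueExtensions A B) :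
    ProEtW.IsProfinite (PrimeSpectrum B) := by
  refine Groth.Agent.S0701.result A B ?_
  intro q q' hpp hle
  by_contra hne
  have hnle : ¬ q'.asIdeal ≤ q.asIdeal := fun hle' =>
    hne (PrimeSpectrum.ext (le_antisymm hle hle'))
  obtain ⟨x, hxq', hxq⟩ := SetLike.not_le_iff_exists.mp hnle
  have := h q.asIdeal
  set I : Ideal (B ⧸ q.asIdeal) := q'.asIdeal.map (Ideal.Quotient.mk q.asIdeal) with hI
  have hx0 : Ideal.Quotient.mk q.asIdeal x ≠ 0 := by
    rwa [Ne, Ideal.Quotient.eq_zero_iff_mem]
  have hxI : Ideal.Quotient.mk q.asIdeal x ∈ I := Ideal.mem_map_of_mem _ hxq'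
  have halg : IsAlgebraic (A ⧸ q.asIdeal.comap (algebraMap A B)) (Ideal.Quotient.mk q.asIdeal x) :=
    Algebra.IsAlgebraic.isAlgebraic _
  have hcomap := Ideal.comap_ne_bot_of_algebraic_mem hx0 hxI halg
  apply hcomap
  rw [eq_bot_iff]
  intro a ha
  obtain ⟨a, rfl⟩ := Ideal.Quotient.mk_surjective a
  rw [Ideal.mem_comap] at ha
  have ha' : Ideal.Quotient.mk q.asIdeal (algebraMap A B a) ∈ I := ha
  rw [hI, Ideal.mem_map_iff_of_surjective _ Ideal.Quotient.mk_surjective] at ha'
  obtain ⟨y, hy, hya⟩ := ha'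
  have hsub : y - algebraMap A B a ∈ q.asIdeal := by
    rw [← Ideal.Quotient.eq_zero_iff_mem, map_sub, hya, sub_self]
  have hmem : algebraMap A B a ∈ q'.asIdeal := by
    have := q'.asIdeal.sub_mem hy (hle hsub)
    simpa using this
  have : a ∈ q.asIdeal.comap (algebraMap A B) := by
    rw [hpp]; exact hmem
  rw [Ideal.mem_bot, Ideal.Quotient.eq_zero_iff_mem]
  exact this

end Groth.Agent.S0702
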