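import Groth.Statements.S0706


set_option autoImplicit false
open CategoryTheory CategoryTheory.Limits AlgebraicGeometry Opposite Topology
universe u
open ProEtW

namespace Groth.Agent.S0706

/-- Let f be an element and I an ideal of A, and Z the intersection of D(f) and V(I) in Spec A. There is
a multiplicative subset S of A for which the image of Spec(S^{-1}A) in Spec A consists precisely of
the points having a specialization in Z. -/
theorem result (A : Type u) [CommRing A] (f : A) (I : Ideal A) :
    ∃ S : Submonoid A,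
      Set.range (PrimeSpectrum.comap (algebraMap A (Localization S))) =
        {x | ∃ z : PrimeSpectrum A,
          z ∈ (PrimeSpectrum.basicOpen f : Set (PrimeSpectrum A)) ∩ PrimeSpectrum.zeroLocus I ∧ x ⤳ z} := by
  classical
  let Z : Set (PrimeSpectrum A) :=
    (PrimeSpectrum.basicOpen f : Set (PrimeSpectrum A)) ∩ PrimeSpectrum.zeroLocus I
  let S : Submonoid A :=
    { carrier := {s | ∀ z ∈ Z, s ∉ z.asIdeal}
      one_mem' := fun z _ h1 => z.isPrime.ne_top ((Ideal.eq_top_iff_one _).mpr h1)
      mul_mem' := fun {a b} ha hb z hz hab =>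
        (z.isPrime.mem_or_mem hab).elim (ha z hz) (hb z hz) }
  refine ⟨S, ?_⟩
  rw [PrimeSpectrum.localization_comap_range (Localization S) S]
  ext p
  simp only [Set.mem_ofPred_eq]
  constructor
  · intro hdisj
    by_contra hno
    push Not at hno
    have hsub : PrimeSpectrum.zeroLocus ((p.asIdeal ⊔ I : Ideal A) : Set A) ⊆
        PrimeSpectrum.zeroLocus {f} := by
      intro z hz
      rw [PrimeSpectrum.mem_zeroLocus] at hz
      have hpz : p.asIdeal ≤ z.asIdeal := fun x hx => hz (Ideal.mem_sup_left hx)
      have hIz : (I : Set A) ⊆ z.asIdeal := fun x hx => hz (Ideal.mem_sup_right hx)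
      by_contra hfz
      rw [PrimeSpectrum.mem_zeroLocus, Set.singleton_subset_iff] at hfz
      have hzZ : z ∈ Z := ⟨hfz, (PrimeSpectrum.mem_zeroLocus _ _).mpr hIz⟩
      exact hno z hzZ ((PrimeSpectrum.le_iff_specializes p z).mp hpz)
    have hfrad : f ∈ (p.asIdeal ⊔ I).radical := by
      rw [← PrimeSpectrum.vanishingIdeal_zeroLocus_eq_radical]
      rw [PrimeSpectrum.mem_vanishingIdeal]
      intro z hz
      have := hsub hz
      rw [PrimeSpectrum.mem_zeroLocus, Set.singleton_subset_iff] at this
      exact this
    obtain ⟨n, hn⟩ := hfrad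
    obtain ⟨a, ha, i, hi, hai⟩ := Submodule.mem_sup.mp hn
    have haS : a ∈ S := by
      intro z hz haz
      have hiz : i ∈ z.asIdeal := ((PrimeSpectrum.mem_zeroLocus _ _).mp hz.2) hi
      have : f ^ n ∈ z.asIdeal := hai ▸ z.asIdeal.add_mem haz hiz
      exact hz.1 (z.isPrime.mem_of_pow_mem n this)
    exact Set.disjoint_left.mp hdisj haS ha
  · rintro ⟨z, hz, hpz⟩
    rw [Set.disjoint_left]
    intro s hs hsp
    exact hs z hz ((PrimeSpectrum.le_iff_specializes p z).mpr hpz hsp)

end Groth.Agent.S0706
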