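import Groth.Statements.S0714
import Groth.Agent.H27.ProEtSigma
import Groth.Agent.H27.ProEtIsWC
import Groth.Agent.H27.ProEtWCover2

set_option autoImplicit false
open CategoryTheory CategoryTheory.Limits AlgebraicGeometry Opposite
universe u
open ProEtS

namespace Groth.Agent.S0714

/-- In the small pro-étale site X_proét of a scheme X, every object U whose underlying scheme is
quasi-compact admits a covering {V → U} by a single object V which is affine and weakly
contractible. -/
theorem result {X : Scheme.{u}} (U : X.ProEt)
    [CompactSpace ↥U.left] :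
    ∃ (V : X.ProEt) (g : V ⟶ U),
      Sieve.generate (Presieve.singleton g) ∈ Scheme.ProEt.topology X U ∧ IsAffine V.left ∧
        ProEtS.IsWC V := by
  obtain ⟨V, g, hcov, hV⟩ :=
    Groth.Agent.H27.ProEtWCover2.main U U.left.affineCover.finiteSubcover
  haveI : ∀ p, IsAffine (V p).left := fun p => (hV p).1
  refine ⟨Groth.Agent.H27.ProEtSigma.sigmaObj V, Groth.Agent.H27.ProEtSigma.sigmaDesc V g,
    Groth.Agent.H27.ProEtSigma.generate_singleton_sigmaDesc_mem V g hcov, ?_,
    Groth.Agent.H27.ProEtSigma.isWC_sigma V (fun i => ?_)⟩
  · exact inferInstanceAs (IsAffine (∐ fun p => (V p).left))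
  · exact Groth.Agent.H27.ProEtIsWC.isWC_of_isWContractible (V i) (hV i).2

end Groth.Agent.S0714
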