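import Groth.Statements.S0754
import Groth.Agent.H3.HensUnion
import Groth.Agent.H3.UnionEtaleWeakly
import Groth.Agent.H10.WeaklyEtaleScheme
import Groth.Agent.H51.FlatValLift

set_option autoImplicit false
open CategoryTheory CategoryTheory.Limits AlgebraicGeometry Opposite
universe u
open ProEtS

namespace Groth.Agent.S0754

/-- For a point x of a scheme X and a strict henselization R of the local ring of X at x, the canonical
morphism Spec R -> X is weakly etale, so that Spec R is an object of the small pro-etale site of X. -/
theorem result (X : Scheme.{u}) (x : ↥X) (R : Type u) [CommRing R]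
    [IsLocalRing R] [Algebra (X.presheaf.stalk x) R] [IsLocalHom (algebraMap (X.presheaf.stalk x) R)]
    [Hensel.IsStrictHenselization (X.presheaf.stalk x) R] :
    WeaklyEtale (Hens2.specOf X x R) := by
  have hsh : Hensel.IsStrictHenselization (X.presheaf.stalk x) R := inferInstance
  obtain ⟨hU, hff⟩ := Groth.Agent.H3.HensUnion.package (R := X.presheaf.stalk x) (S := R)
    (Or.inr hsh)
  have h1 : Algebra.WeaklyEtale (X.presheaf.stalk x) R := hU.weaklyEtale
  have h2 : WeaklyEtale (Spec.map (CommRingCat.ofHom (algebraMap (X.presheaf.stalk x) R))) :=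
    (Groth.Agent.H10.weaklyEtale_SpecMap_algebraMap_iff _ _).mpr h1
  have h3 : Flat (X.fromSpecStalk x) := Groth.Agent.H51.flat_fromSpecStalk X x
  have h4 : WeaklyEtale (X.fromSpecStalk x) := { }
  exact inferInstanceAs (WeaklyEtale
    (Spec.map (CommRingCat.ofHom (algebraMap (X.presheaf.stalk x) R)) ≫ X.fromSpecStalk x))

end Groth.Agent.S0754
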