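import Groth.Statements.S0825
import Groth.Agent.H58.LCDTExact2

set_option autoImplicit false
universe u
open scoped BigOperators
open LocCoh

namespace Groth.Agent.S0825

/-- Let A be a Noetherian ring and I the ideal generated by f_1, …, f_r, with cohomological dimension
exactly 1. Then there are c ≥ 1 and A-linear maps φ_j : I^c → A such that x = Σ_j f_j φ_j(x) for
every x ∈ I^c. -/
theorem result (A : Type u) [CommRing A] [IsNoetherianRing A] (r : ℕ) (f : Fin r → A)
    (h₁ : LocCoh.CdLE A (Ideal.span (Set.range f)) 1) (h₀ : ¬ LocCoh.CdLE A (Ideal.span (Set.range f)) 0) :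
    ∃ (c : ℕ) (φ : Fin r → (↥(Ideal.span (Set.range f) ^ (c + 1)) →ₗ[A] A)),
      ∀ x : ↥(Ideal.span (Set.range f) ^ (c + 1)), (x : A) = ∑ j, f j * φ j x := by
  classical
  have hex := Groth.Agent.H58.LC.idealTransform_exact_of_cdLE _ h₁
  have htop := Groth.Agent.H58.LC.smul_top_of_exact _ hex.2
  obtain ⟨m, g, hg, hgr⟩ := Groth.Agent.H58.LC.exists_incl_mem_smul_top _ htop
  let I := Ideal.span (Set.range f)
  have key : ∀ (N : Type u) [AddCommGroup N] [Module A N] (x : N),
      x ∈ I • (⊤ : Submodule A N) → ∃ φ : Fin r → N, x = ∑ j, f j • φ j := by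
    intro N _ _ x hx
    refine Submodule.smul_induction_on hx ?_ ?_
    · intro a ha n _
      obtain ⟨c, rfl⟩ := (Submodule.mem_span_range_iff_exists_fun A).mp ha
      refine ⟨fun j => c j • n, ?_⟩
      rw [Finset.sum_smul]
      refine Finset.sum_congr rfl (fun j _ => ?_)
      rw [smul_eq_mul, mul_smul, smul_comm]
    · rintro x y ⟨φ, rfl⟩ ⟨φ', rfl⟩
      refine ⟨fun j => φ j + φ' j, ?_⟩
      rw [← Finset.sum_add_distrib]
      exact Finset.sum_congr rfl (fun j _ => (smul_add _ _ _).symm)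
  have hg' := Groth.Agent.H58.LC.map_mem_smul_top I (LinearMap.lcomp A A
    (Submodule.inclusion (Ideal.pow_le_pow_right (Nat.le_succ m)))) hg
  obtain ⟨φ, hφ⟩ := key _ _ hg'
  refine ⟨m, φ, fun x => ?_⟩
  have h1 := LinearMap.congr_fun hφ x
  rw [LinearMap.lcomp_apply, hgr] at h1
  rw [LinearMap.sum_apply] at h1
  simpa using h1

end Groth.Agent.S0825
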