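import Groth.Statements.S0826
import Groth.Agent.H16.FormalLim
import Groth.Agent.H16.RlimLimFunctorC
import Groth.Agent.Lead.Coh.LocTop

set_option autoImplicit false
universe u
open Formal2

namespace Groth.Agent.S0826

open CategoryTheory CategoryTheory.Limits AlgebraicGeometry in
/-- Part (2), for the ideal sheaf generated by an ideal I of a base ring A. Let X be a scheme over Spec
A and (G_n) an inverse system of quasi-coherent O_X-modules with G_n killed by I^(n+1) and G_n =
G_{n+1}/I^(n+1)G_{n+1} (indices shifted by one). Then the limit O_X-module lim G_n has vanishing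
cohomology in positive degrees over every affine open of X. -/
theorem result (A : Type u) [CommRing A] (I : Ideal A) (X : Scheme.{u})
    [X.Over (Spec (CommRingCat.of A))] (G : ℕᵒᵖ ⥤ X.Modules) (hG : Formal2.IsQCohFormal I G)
    (U : X.Opens) (hU : IsAffineOpen U) (p : ℕ) (hp : 0 < p) :
    Subsingleton (Coh.HHon X (limit G) U p) := by
  obtain ⟨q, rfl⟩ : ∃ q, p = q + 1 := ⟨p - 1, by omega⟩
  obtain ⟨e⟩ := Groth.Agent.Lead.Coh.nonempty_addEquiv_HHon_EM (limit G) U (q + 1)
  have h : Subsingleton (CohSite.HU (Coh.toAb (limit G)) (q + 1) U) :=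
    Groth.Agent.H16.RlimLimFunctor.subsingleton_HU_of_iso_limit (Groth.Agent.H16.FormalLim.Fab G)
      (Groth.Agent.H16.FormalLim.Baff X) (Groth.Agent.H16.FormalLim.hB X)
      (Groth.Agent.H16.FormalLim.hsurj G hG) (Groth.Agent.H16.FormalLim.hvan G hG)
      (Coh.toAb (limit G)) (Groth.Agent.H16.FormalLim.limIso G) U hU q
  have h' : Subsingleton (Groth.Agent.Lead.Coh.EM (limit G) U (q + 1)) := h
  exact e.toEquiv.subsingleton


end Groth.Agent.S0826
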