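import Groth.Statements.S0855
import Groth.Agent.H16.CohPushColim

set_option autoImplicit false
universe u
open CategoryTheory
open CohTop

namespace Groth.Agent.S0855

open TopologicalSpace Opposite CategoryTheory.Limits in
/-- For a continuous map f : X -> Y, a diagram (F_i) of abelian sheaves on X and p ≥ 0: if the opens V
of Y for which the canonical map colim_i H^p(f^{-1}V, F_i) -> H^p(f^{-1}V, colim F_i) is an
isomorphism form a basis of the topology of Y, then colim_i R^p f_* F_i -> R^p f_* (colim F_i) is an
isomorphism. Both commutations are phrased as preservation of the colimit by the functor in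
question. -/
theorem result {X Y : TopCat.{u}} (f : X ⟶ Y)
    {ι : Type u} [SmallCategory ι] (F : ι ⥤ CohTop.Ab X) (p : ℕ)
    (h : Opens.IsBasis {V : Opens Y | PreservesColimit F
        ((Sheaf.cohomologyPresheafFunctor (Opens.grothendieckTopology X) p).flip.obj
          (op ((Opens.map f).obj V)))}) :
    PreservesColimit F (CohTop.Rpush f p) := by
  haveI : ((Opens.map f).sheafPushforwardContinuous AddCommGrpCat.{u} (Opens.grothendieckTopology Y)
      (Opens.grothendieckTopology X)).Additive := inferInstanceAs (CohTop.push f).Additive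
  refine Groth.Agent.H16.CohPush.preservesColimit_rightDerived (Opens.grothendieckTopology X)
    (Opens.grothendieckTopology Y) (Opens.map f) p F ?_
  intro V
  refine ⟨{W : Opens Y // W ∈ {V : Opens Y | PreservesColimit F
        ((Sheaf.cohomologyPresheafFunctor (Opens.grothendieckTopology X) p).flip.obj
          (op ((Opens.map f).obj V)))} ∧ W ≤ V}, fun k => k.1, fun k => homOfLE k.2.2, ?_, ?_⟩
  · rw [Opens.mem_grothendieckTopology]
    intro x hx
    obtain ⟨W, hW, hxW, hWV⟩ := Opens.isBasis_iff_nbhd.1 h hx
    exact ⟨W, homOfLE hWV, Sieve.ofArrows_mk _ _ (⟨W, hW, hWV⟩ : {W : Opens Y // _ ∧ W ≤ V}), hxW⟩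
  · intro k
    exact k.2.1

end Groth.Agent.S0855
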