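import Groth.Statements.S0856
import Groth.Agent.H31.MonoRestr
import Groth.Agent.H31.ModAcyc
import Groth.Agent.H60.Canon1
-- import your own Groth.Agent.* helpers here

set_option autoImplicit false
universe u
open CategoryTheory
open CohSite

namespace Groth.Agent.S0856

open Groth.Agent.H31.SieveExt Groth.Agent.H31.LocTriv Groth.Agent.H31.MonoRestr
open Groth.Agent.H60.Canon (hat secEquiv_hat secEquiv_map)
open Groth.Agent.H60.ER (secEquiv)

open Opposite in

open Opposite in
/-- Let (C, O) be a ringed site, a : U' -> U a monomorphism of C and I an injective sheaf of O-modules.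
Then the restriction map I(U) -> I(U') is surjective. -/
theorem result {C : Type u} [SmallCategory C]
    {J : GrothendieckTopology C} (O : Sheaf J RingCat.{u}) (I : SheafOfModules.{u} O) [Injective I]
    {U U' : C} (a : U' ⟶ U) [Mono a] : Function.Surjective (I.val.map a.op) := by
  intro x'
  let F : Sheaf J AddCommGrpCat.{u} := (SheafOfModules.toSheaf O).obj I
  have hF : CohCx.IsTotallyAcyclic F := Groth.Agent.H31.ModAcyc.totallyAcyclic_of_injective O I
  let G : Sheaf J (Type u) := setOf F
  let Y : Sheaf J (Type u) := (presheafToSheaf J (Type u)).obj (yoneda.obj U')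
  let X : Sheaf J (Type u) := (presheafToSheaf J (Type u)).obj (yoneda.obj U)
  let ι : Y ⟶ X := (presheafToSheaf J (Type u)).map (yoneda.map a)
  have : Mono (yoneda.map a) := inferInstance
  have : Mono ι := inferInstance
  let x'' : G.obj.obj (op U') := x'
  let s : Zs J Y.obj ⟶ F := (homEquivS Y F).symm (hat J (op U') x'')
  obtain ⟨r, hr⟩ := restr_surjective F hF ι s
  refine ⟨secEquiv J (op U) G (homEquivS X F r), ?_⟩
  have h1 := secEquiv_map (J := J) (X := G) a.op (homEquivS X F r)
  have h2 : ι ≫ homEquivS X F r = hat J (op U') x'' := by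
    rw [← homEquivS_naturality_left ι r, hr, Equiv.apply_symm_apply]
  have h3 : secEquiv J (op U') G (ι ≫ homEquivS X F r) = x'' := by
    rw [h2, secEquiv_hat]
  exact h1.symm.trans h3

end Groth.Agent.S0856
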