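import Groth.Statements.S0868
import Groth.Agent.H16.HyperAcyclicC

set_option autoImplicit false
universe u
open CategoryTheory
open CohTop

namespace Groth.Agent.S0868

open TopologicalSpace Opposite in
/-- Let K be an object of the derived category of abelian sheaves on X and B a basis of opens such that
H^p(U, H^q(K)) = 0 for all p > 0, all q and all U in B. Then for U in B and every q, H^q(U, K) (maps
from the free abelian sheaf on U to K[q]) is isomorphic to the sections of the cohomology sheaf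
H^q(K) over U. -/
theorem result {X : TopCat.{u}}
    [HasDerivedCategory.{u} (CohTop.Ab X)] (K : DerivedCategory (CohTop.Ab X))
    (B : Set (Opens X)) (hB : Opens.IsBasis B)
    (h : ∀ U ∈ B, ∀ (p : ℕ) (q : ℤ), Subsingleton (CohTop.HU (CohCx.HD K q) (p + 1) U))
    (U : Opens X) (hU : U ∈ B) (q : ℤ) :
    Nonempty (CohCx.HDU K q U ≃+ (CohCx.HD K q).obj.obj (op U)) := by
  refine Groth.Agent.H16.HyperAcyclicC.main K B ?_ h U hU q
  intro V
  refine ⟨{W : Opens X // W ∈ B ∧ W ≤ V}, fun i => i.1, fun i => homOfLE i.2.2, ?_,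
    fun i => i.2.1⟩
  intro x hx
  obtain ⟨W, hWB, hxW, hWV⟩ := Opens.isBasis_iff_nbhd.1 hB hx
  exact ⟨W, homOfLE hWV, Sieve.ofArrows_mk (fun i : {W : Opens X // W ∈ B ∧ W ≤ V} => i.1)
    (fun i => homOfLE i.2.2) ⟨W, hWB, hWV⟩, hxW⟩

end Groth.Agent.S0868
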