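import Groth.Statements.S0874
import Groth.Agent.H16.RlimInjD

set_option autoImplicit false
universe u
open CategoryTheory
open CohTop

namespace Groth.Agent.S0874

open TopologicalSpace CategoryTheory.Limits in
/-- Let (K_n) be an inverse system in D(Ab X), the derived category of sheaves of abelian groups on X,
with derived limit L (through maps a_n : L -> K_n), x a point and m an integer. Suppose there are an
index n(x) and a fundamental system of open neighbourhoods U of x such that (1) the inverse system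
H^{m-1}(U, K_n) has vanishing R^1 lim and (2) for every n >= n(x), the transition map from H^m(U,
K_n) to H^m(U, K_{n(x)}) is one-to-one. Then a_{n(x)} induces an injection of stalks at x, from
H^m(L) into H^m(K_{n(x)}). -/
theorem result {X : TopCat.{u}} [HasDerivedCategory.{u} (CohTop.Ab X)]
    (K : ℕ → DerivedCategory (CohTop.Ab X)) (t : ∀ n, K (n + 1) ⟶ K n) [HasProduct K]
    (L : DerivedCategory (CohTop.Ab X)) (a : ∀ n, L ⟶ K n) (hL : CohCx.IsRlimVia K t L a)
    (x : X) (m : ℤ) (nx : ℕ)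
    (h : ∀ V : Opens X, x ∈ V → ∃ U : Opens X, x ∈ U ∧ U ≤ V ∧
      CohCx.LimOneIsZero (fun n => CohCx.HDU (K n) (m - 1) U)
        (fun n => Preadditive.rightComp _ ((shiftFunctor _ (m - 1)).map (t n))) ∧
      ∀ k : ℕ, Function.Injective
        (Preadditive.rightComp _ ((shiftFunctor _ m).map (CohCx.transition K t nx k)) :
          CohCx.HDU (K (nx + k)) m U → CohCx.HDU (K nx) m U)) :
    Function.Injective ((TopCat.Presheaf.stalkFunctor AddCommGrpCat.{u} x).map
      ((DerivedCategory.homologyFunctor (CohTop.Ab X) m).map (a nx)).hom) := by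
  let F := (DerivedCategory.homologyFunctor (CohTop.Ab X) m).map (a nx)
  refine (injective_iff_map_eq_zero
    (((TopCat.Presheaf.stalkFunctor AddCommGrpCat.{u} x).map F.hom).hom)).2 ?_
  intro σ hσ
  obtain ⟨V, hxV, s, rfl⟩ := TopCat.Presheaf.exists_germ_eq (CohCx.HD L m).obj σ
  have h1 : TopCat.Presheaf.germ (CohCx.HD (K nx) m).obj V x hxV ((F.hom.app (Opposite.op V)) s) =
      TopCat.Presheaf.germ (CohCx.HD (K nx) m).obj V x hxV 0 := by
    rw [map_zero]
    exact (TopCat.Presheaf.stalkFunctor_map_germ_apply V x hxV F.hom s).symm.trans hσ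
  obtain ⟨W, hxW, iU, iV, hW⟩ := TopCat.Presheaf.germ_eq _ x hxV hxV _ _ h1
  -- restrict to `W`
  let sW : (CohCx.HD L m).obj.obj (Opposite.op W) := ((CohCx.HD L m).obj.map iU.op).hom s
  have hsW : (F.hom.app (Opposite.op W)).hom sW = 0 := by
    refine (Groth.Agent.H16.RlimInjB.res_comm _ F iU s).trans ?_
    refine hW.trans ?_
    exact map_zero _
  obtain ⟨T, hT, hT'⟩ := Groth.Agent.H16.RlimInjD.core K t L a hL W m nx sW hsW
  obtain ⟨U₁, f₁, hf₁, hxU₁⟩ := hT x hxW
  obtain ⟨U, hxU, hUU₁, hU1, hU2⟩ := h U₁ hxU₁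
  have hUT : T.arrows (homOfLE hUU₁ ≫ f₁) := T.downward_closed hf₁ (homOfLE hUU₁)
  have h2 := hT' (homOfLE hUU₁ ≫ f₁) hUT ⟨hU1, hU2⟩
  have h3 : TopCat.Presheaf.germ (CohCx.HD L m).obj V x hxV s =
      TopCat.Presheaf.germ (CohCx.HD L m).obj U x hxU
        (((CohCx.HD L m).obj.map (homOfLE hUU₁ ≫ f₁).op).hom sW) := by
    have e1 := TopCat.Presheaf.germ_res_apply (CohCx.HD L m).obj (homOfLE hUU₁ ≫ f₁) x hxU sW
    have e2 := TopCat.Presheaf.germ_res_apply (CohCx.HD L m).obj iU x hxW s
    exact (e1.trans e2).symm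
  rw [h3, h2]
  exact map_zero _

end Groth.Agent.S0874
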