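import Groth.Statements.S0875
import Groth.Agent.H16.RlimTruncB
import Groth.Agent.H16.RlimTruncC
import Groth.Agent.S0874

set_option autoImplicit false
universe u
open CategoryTheory
open CohTop

namespace Groth.Agent.S0875

open TopologicalSpace CategoryTheory.Limits in
/-- Let E be an object of the derived category of abelian sheaves on X. Assume every point x has a
function p(x, -) and a fundamental system of open neighbourhoods U with H^p(U, H^{m-p}(E)) = 0 for
all m and all p > p(x, m). Then E is a derived limit of the tower of its truncations τ_{≥ -n} E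
through the canonical maps E -> τ_{≥ -n} E (equivalently, E -> R lim τ_{≥ -n} E is an isomorphism).
The existence of the countable product of the truncations is assumed. -/
theorem result {X : TopCat.{u}}
    [HasDerivedCategory.{u} (CohTop.Ab X)] (E : DerivedCategory (CohTop.Ab X))
    [HasProduct (CohCx.truncTower E)]
    (h : ∀ x : X, ∃ p : ℤ → ℤ, ∀ V : Opens X, x ∈ V → ∃ U : Opens X, x ∈ U ∧ U ≤ V ∧
      ∀ (m : ℤ) (k : ℕ), p m < k → Subsingleton (CohTop.HU (CohCx.HD E (m - k)) k U)) :
    CohCx.IsRlimVia (CohCx.truncTower E) (CohCx.truncTowerMap E) E (CohCx.toTruncTower E) := by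
  apply Groth.Agent.H16.RlimTruncC.isRlimVia_of_mono E
  intro R a hR m
  let K := CohCx.truncTower E
  let tt := CohCx.truncTowerMap E
  let Hm := DerivedCategory.homologyFunctor (CohTop.Ab X) m
  have hstalk : ∀ x : X, Mono ((TopCat.Presheaf.stalkFunctor AddCommGrpCat.{u} x).map
      (Hm.map (a (-m).toNat)).hom) := by
    intro x
    obtain ⟨p, hp⟩ := h x
    let n₀ := (-m).toNat
    let k := (p m - m).toNat
    have hak := Groth.Agent.H16.RlimInjA.a_comp_transition hR n₀ k
    have hiso : IsIso (Hm.map (CohCx.transition K tt n₀ k)) :=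
      Groth.Agent.H16.RlimTruncA.isIso_homologyMap_transition E n₀ k m (by omega)
    have hinj := Groth.Agent.S0874.result K tt R a hR x m (n₀ + k) (by
      intro V hxV
      obtain ⟨U, hxU, hUV, hvan⟩ := hp V hxV
      refine ⟨U, hxU, hUV, ?_⟩
      exact Groth.Agent.H16.RlimTruncB.hyp_of_vanishing E U m (p m)
        (fun k' hk' => hvan m k' hk') (n₀ + k) (by omega) (by omega))
    have hm1 : Mono ((TopCat.Presheaf.stalkFunctor AddCommGrpCat.{u} x).map
        (Hm.map (a (n₀ + k))).hom) := (AddCommGrpCat.mono_iff_injective _).2 hinj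
    have hi2 : IsIso (Hm.map (CohCx.transition K tt n₀ k)).hom :=
      inferInstanceAs (IsIso ((sheafToPresheaf _ _).map (Hm.map (CohCx.transition K tt n₀ k))))
    have hfac : (Hm.map (a (-m).toNat)).hom =
        (Hm.map (a (n₀ + k))).hom ≫ (Hm.map (CohCx.transition K tt n₀ k)).hom := by
      rw [← ObjectProperty.FullSubcategory.comp_hom, ← Functor.map_comp, hak]
    rw [hfac, Functor.map_comp]
    infer_instance
  exact TopCat.Presheaf.mono_of_stalk_mono (C := AddCommGrpCat.{u}) (Hm.map (a (-m).toNat))

end Groth.Agent.S0875
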