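import Groth.Statements.S0876
import Groth.Agent.H4.TriMV

set_option autoImplicit false
universe u
open CategoryTheory
open CohSite

namespace Groth.Agent.S0876

open CategoryTheory.Limits in
/-- As a long exact sequence of cohomology groups rather than a triangle of complexes: let S be a
Mayer-Vietoris square of a site, with corners X₁ (playing the role of the intersection), X₂, X₃ and
X₄ (the union). For every object K of the derived category of abelian sheaves there are connecting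
homomorphisms H^n(X₁, K) -> H^{n+1}(X₄, K) which together with the restriction maps (sum into
H^n(X₂, K) ⊕ H^n(X₃, K), difference out of it) form a long exact sequence ... -> H^n(X₄, K) ->
H^n(X₂, K) ⊕ H^n(X₃, K) -> H^n(X₁, K) -> H^{n+1}(X₄, K) -> .... Here H^n(U, K) is the group of maps
from the free abelian sheaf on U to K[n]. -/
theorem result {C : Type u} [SmallCategory C] {J : GrothendieckTopology C}
    [HasWeakSheafify J (Type u)] [HasDerivedCategory.{u} (Sheaf J AddCommGrpCat.{u})]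
    (S : J.MayerVietorisSquare) (K : DerivedCategory (Sheaf J AddCommGrpCat.{u})) :
    ∃ δ : ∀ n : ℤ, CohCx.HDU K n S.X₁ →+ CohCx.HDU K (n + 1) S.X₄,
      ∀ n : ℤ,
        (ComposableArrows.mk₂
          (AddCommGrpCat.ofHom ((CohCx.HDUres K n S.f₂₄).prod (CohCx.HDUres K n S.f₃₄)))
          (AddCommGrpCat.ofHom ((CohCx.HDUres K n S.f₁₂).coprod (-(CohCx.HDUres K n S.f₁₃))))).Exact ∧
        (ComposableArrows.mk₂
          (AddCommGrpCat.ofHom ((CohCx.HDUres K n S.f₁₂).coprod (-(CohCx.HDUres K n S.f₁₃))))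
          (AddCommGrpCat.ofHom (δ n))).Exact ∧
        (ComposableArrows.mk₂ (AddCommGrpCat.ofHom (δ n))
          (AddCommGrpCat.ofHom ((CohCx.HDUres K (n + 1) S.f₂₄).prod (CohCx.HDUres K (n + 1) S.f₃₄)))).Exact := by
  let A := Sheaf J AddCommGrpCat.{u}
  let hS := S.shortComplex_shortExact
  let sF := DerivedCategory.singleFunctor A 0
  let Z₁ : A := CohCx.freeSheaf J S.X₁
  let Z₂ : A := CohCx.freeSheaf J S.X₂
  let Z₃ : A := CohCx.freeSheaf J S.X₃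
  let Z₄ : A := CohCx.freeSheaf J S.X₄
  let p₁₂ : Z₁ ⟶ Z₂ := CohCx.freeSheafMap J S.f₁₂
  let p₁₃ : Z₁ ⟶ Z₃ := CohCx.freeSheafMap J S.f₁₃
  let p₂₄ : Z₂ ⟶ Z₄ := CohCx.freeSheafMap J S.f₂₄
  let p₃₄ : Z₃ ⟶ Z₄ := CohCx.freeSheafMap J S.f₃₄
  let f' : Z₁ ⟶ Z₂ ⊞ Z₃ := biprod.lift p₁₂ (-p₁₃)
  let g' : Z₂ ⊞ Z₃ ⟶ Z₄ := biprod.desc p₂₄ p₃₄
  let T : Pretriangulated.Triangle (DerivedCategory A) :=
    Pretriangulated.Triangle.mk (sF.map f') (sF.map g') hS.singleδ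
  have hT : T ∈ distTriang (DerivedCategory A) := hS.singleTriangle_distinguished
  have htot : sF.map (biprod.fst : Z₂ ⊞ Z₃ ⟶ Z₂) ≫ sF.map (biprod.inl : Z₂ ⟶ Z₂ ⊞ Z₃) +
      sF.map (biprod.snd : Z₂ ⊞ Z₃ ⟶ Z₃) ≫ sF.map (biprod.inr : Z₃ ⟶ Z₂ ⊞ Z₃) = 𝟙 T.obj₂ := by
    rw [← Functor.map_comp, ← Functor.map_comp, ← Functor.map_add, biprod.total,
      CategoryTheory.Functor.map_id]
    rfl
  have h22 : sF.map (biprod.inl : Z₂ ⟶ Z₂ ⊞ Z₃) ≫ sF.map (biprod.fst : Z₂ ⊞ Z₃ ⟶ Z₂) = 𝟙 _ := by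
    rw [← Functor.map_comp, biprod.inl_fst, CategoryTheory.Functor.map_id]
  have h33 : sF.map (biprod.inr : Z₃ ⟶ Z₂ ⊞ Z₃) ≫ sF.map (biprod.snd : Z₂ ⊞ Z₃ ⟶ Z₃) = 𝟙 _ := by
    rw [← Functor.map_comp, biprod.inr_snd, CategoryTheory.Functor.map_id]
  have h23 : sF.map (biprod.inl : Z₂ ⟶ Z₂ ⊞ Z₃) ≫ sF.map (biprod.snd : Z₂ ⊞ Z₃ ⟶ Z₃) = 0 := by
    rw [← Functor.map_comp, biprod.inl_snd, Functor.map_zero]
  have h32 : sF.map (biprod.inr : Z₃ ⟶ Z₂ ⊞ Z₃) ≫ sF.map (biprod.fst : Z₂ ⊞ Z₃ ⟶ Z₂) = 0 := by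
    rw [← Functor.map_comp, biprod.inr_fst, Functor.map_zero]
  have ha₂ : T.mor₁ ≫ sF.map (biprod.fst : Z₂ ⊞ Z₃ ⟶ Z₂) = sF.map p₁₂ := by
    change sF.map f' ≫ sF.map biprod.fst = _
    rw [← Functor.map_comp, biprod.lift_fst]
  have hb₃ : T.mor₁ ≫ sF.map (biprod.snd : Z₂ ⊞ Z₃ ⟶ Z₃) = -sF.map p₁₃ := by
    change sF.map f' ≫ sF.map biprod.snd = _
    rw [← Functor.map_comp, biprod.lift_snd, Functor.map_neg]
  have hg₂ : sF.map (biprod.inl : Z₂ ⟶ Z₂ ⊞ Z₃) ≫ T.mor₂ = sF.map p₂₄ := by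
    change sF.map biprod.inl ≫ sF.map g' = _
    rw [← Functor.map_comp, biprod.inl_desc]
  have hg₃ : sF.map (biprod.inr : Z₃ ⟶ Z₂ ⊞ Z₃) ≫ T.mor₂ = sF.map p₃₄ := by
    change sF.map biprod.inr ≫ sF.map g' = _
    rw [← Functor.map_comp, biprod.inr_desc]
  exact Groth.Agent.H4.TriMV.mvTri T hT _ _ _ _ htot h22 h33 h23 h32 _ _ ha₂ hb₃ _ _ hg₂ hg₃ K

end Groth.Agent.S0876
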