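import Groth.Statements.S0894
import Groth.Agent.H34.CechH0
import Groth.Agent.H34.HyperFaces
import Groth.Agent.H34.FCCov3

set_option autoImplicit false
universe u
open CategoryTheory
open Hyper

namespace Groth.Agent.S0894

open Opposite in
/-- For a hypercovering K of an object X of a site with fibre products (a simplicial semi-representable
object over X; coskeleta are assumed to exist): (1) for each n the family K_n is a covering of X,
and (2) every face map d_i : K_{n+1} -> K_n is a covering morphism of semi-representable objects. -/
theorem result {C : Type u} [SmallCategory C] [Limits.HasPullbacks C]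
    (J : GrothendieckTopology C) (X : C) (K : SimplicialObject (Limits.FormalCoproduct.{u} (Over X)))
    [∀ (n : ℕ) (F : (SimplexCategory.Truncated n)ᵒᵖ ⥤ Limits.FormalCoproduct.{u} (Over X)),
      (SimplexCategory.Truncated.inclusion n).op.HasRightKanExtension F]
    (hK : Hyper.IsHypercovering J X K) :
    (∀ n : ℕ, Sieve.ofArrows (fun i => ((K.obj (op (SimplexCategory.mk n))).obj i).left)
      (fun i => ((K.obj (op (SimplexCategory.mk n))).obj i).hom) ∈ J X) ∧
    ∀ (n : ℕ) (i : Fin (n + 2)), Hyper.IsSRCovering (J.over X) (K.δ i) := by
  obtain ⟨h0, hY⟩ := Groth.Agent.H34.HyperDict.hyp_of_isHypercovering J X K hK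
  let Y := ((SimplicialObject.whiskering _ _).obj
      (Limits.FormalCoproduct.yoneda (C := Over X))).obj K
  constructor
  · intro n
    have h := Groth.Agent.H34.HyperTower.isLocallySurjective_to_P₀ (J.over X) Y h0 hY n
      (Groth.Agent.H34.HyperTower.toP₀ _)
    exact Groth.Agent.H34.FCYoneda.covers_of_isLocallySurjective J X
      (K.obj (op (SimplexCategory.mk n))) PUnit.unit _ h
  · intro n i
    have h := Groth.Agent.H34.HyperTower.isLocallySurjective_δ (J.over X) Y hY n i
    exact Groth.Agent.H34.FCYoneda.isSRCovering_of_isLocallySurjective_yoneda_map (J.over X)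
      (K.δ i) h

end Groth.Agent.S0894
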