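import Groth.Statements.S0905
import Groth.Agent.H16.WCProj

set_option autoImplicit false
universe u
open CategoryTheory
open CohSite

namespace Groth.Agent.S0905

open Opposite CategoryTheory.Limits in
/-- Parts (1) and (2), for a weakly contractible object U of a site (one over which every epimorphism of
sheaves of sets is surjective on sections): (1) the functor F ↦ F(U) from abelian sheaves to abelian
groups preserves finite colimits (it is exact, finite limits being automatic), and (2) H^p(U, F) = 0
for every abelian sheaf F and every p > 0. (Part (3) about torsors is not included.) -/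
theorem result {C : Type u} [SmallCategory C] (J : GrothendieckTopology C)
    (U : C) (hU : CohSite.IsWeaklyContractible J U) :
    PreservesFiniteColimits (sheafToPresheaf J AddCommGrpCat.{u} ⋙ (evaluation Cᵒᵖ AddCommGrpCat.{u}).obj (op U)) ∧
    ∀ (F : Sheaf J AddCommGrpCat.{u}) (p : ℕ), Subsingleton (CohSite.HU F (p + 1) U) := by
  refine ⟨Groth.Agent.H16.WCProj.preservesFiniteColimits_sections J U hU, ?_⟩
  intro F p
  haveI := Groth.Agent.H16.WCProj.projective_free J U hU
  refine subsingleton_of_forall_eq 0 (fun x => ?_)
  exact Abelian.Ext.eq_zero_of_projective
    (P := (Groth.Agent.H16.WCProj.L J).obj (yoneda.obj U)) (Y := F) (n := p) x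

end Groth.Agent.S0905
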