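import Groth.Statements.S0919
-- import your own Groth.Agent.* helpers here

set_option autoImplicit false
universe v u
open CategoryTheory
open CohDer

namespace Groth.Agent.S0919

open CategoryTheory.Limits in
/-- Let A be a Grothendieck abelian category and F a contravariant functor from A to sets (a functor on
the opposite category). Then F is representable if and only if F turns all small colimits of A into
limits, i.e. preserves small limits as a functor on the opposite category. -/
theorem result {A : Type u} [Category.{v} A] [Abelian A]
    [IsGrothendieckAbelian.{v} A] (F : Aᵒᵖ ⥤ Type v) :
    F.IsRepresentable ↔ PreservesLimitsOfSize.{v, v} F := by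
  constructor
  · intro h
    obtain ⟨X, ⟨e⟩⟩ := h.has_representation
    have e' : yoneda.obj X ≅ F := Functor.representableByEquiv e
    exact preservesLimits_of_natIso e'
  · intro h
    have hsep : IsSeparator (separator A) := isSeparator_separator A
    have hcosep : ObjectProperty.IsCoseparating
        (ObjectProperty.singleton (Opposite.op (separator A))) :=
      (isCoseparator_op_iff (separator A)).2 hsep
    have hR : F.IsRightAdjoint :=
      isRightAdjoint_of_preservesLimits_of_isCoseparating hcosep F
    let adj := Adjunction.ofIsRightAdjoint F
    have c : (F ⋙ coyoneda.obj (Opposite.op PUnit.{v+1})).CorepresentableBy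
        (F.leftAdjoint.obj PUnit.{v+1}) := adj.corepresentableBy PUnit.{v+1}
    refine ⟨⟨(F.leftAdjoint.obj PUnit.{v+1}).unop, ⟨?_⟩⟩⟩
    exact
      { homEquiv := fun {X} =>
          (opEquiv _ _).symm.trans
            ((c.homEquiv (Y := Opposite.op X)).trans
              (TypeCat.homEquiv.trans (Equiv.funUnique PUnit.{v+1} (F.obj (Opposite.op X)))))
        homEquiv_comp := fun {X X'} f g => by
          have := c.homEquiv_comp f.op g.op
          simp only [Equiv.trans_apply]
          erw [this]
          rfl }

end Groth.Agent.S0919
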