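import Groth.Statements.S0929
import Groth.Agent.H5.FunctorialInjective
import Mathlib.Algebra.Category.ModuleCat.Presheaf.Generator
import Mathlib.Algebra.Category.ModuleCat.Presheaf.Colimits
import Mathlib.Algebra.Category.ModuleCat.Presheaf.Limits
import Mathlib.CategoryTheory.Abelian.GrothendieckAxioms.FunctorCategory
import Mathlib.CategoryTheory.Functor.ReflectsIso.Balanced
import Mathlib.Algebra.Category.Grp.AB

set_option autoImplicit false
universe u
open CategoryTheory
open CohDer

namespace Groth.Agent.S0929

/-- For a presheaf of rings O on a small category C, the category of presheaves of O-modules has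
functorial injective embeddings (an endofunctor J with a natural transformation from the identity
whose components are monomorphisms into injective objects). -/
theorem result {C : Type u} [SmallCategory C]
    (O : Cᵒᵖ ⥤ RingCat.{u}) :
    ∃ (J : PresheafOfModules.{u} O ⥤ PresheafOfModules.{u} O) (j : 𝟭 _ ⟶ J),
      ∀ F : PresheafOfModules.{u} O, Injective (J.obj F) ∧ Mono (j.app F) := by
  open CategoryTheory.Limits in
  have h1 : (PresheafOfModules.toPresheaf O).ReflectsIsomorphisms :=
    reflectsIsomorphisms_of_reflectsMonomorphisms_of_reflectsEpimorphisms _
  open CategoryTheory.Limits in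
  have h2 : AB5OfSize.{u, u} (PresheafOfModules.{u} O) :=
    { ofShape := fun J _ _ =>
        HasExactColimitsOfShape.domain_of_functor J (PresheafOfModules.toPresheaf O) }
  have h3 : HasSeparator (PresheafOfModules.{u} O) :=
    ⟨⟨_, (PresheafOfModules.freeYoneda.isSeparating O).isSeparator_coproduct⟩⟩
  have : IsGrothendieckAbelian.{u} (PresheafOfModules.{u} O) := {}
  exact Groth.Agent.H5.exists_functorial_injective_embedding

end Groth.Agent.S0929
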