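import Groth.Statements.S0930
import Groth.Agent.H5.RDFComp

set_option autoImplicit false
universe u
open CategoryTheory
attribute [local instance] HasDerivedCategory.standard
open CohTop

namespace Groth.Agent.S0930

/-- For continuous maps f : X -> Y and g : Y -> Z, the composite of the right derived functors Rf_* :
D^+(X) -> D^+(Y) and Rg_* : D^+(Y) -> D^+(Z) is isomorphic to R(g ∘ f)_* (existence of an
isomorphism of functors between bounded below derived categories). -/
theorem result {X Y Z : TopCat.{u}} (f : X ⟶ Y) (g : Y ⟶ Z) :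
    Nonempty ((CohTop.push f).rightDerivedFunctorPlus ⋙ (CohTop.push g).rightDerivedFunctorPlus ≅
      (CohTop.push (f ≫ g)).rightDerivedFunctorPlus) := by
  have e : CohTop.push f ⋙ CohTop.push g ≅ CohTop.push (f ≫ g) :=
    NatIso.ofComponents (fun F => Iso.refl _) (fun φ =>
      (Category.comp_id ((CohTop.push f ⋙ CohTop.push g).map φ)).trans
        (Category.id_comp ((CohTop.push (f ≫ g)).map φ)).symm)
  refine H5.RDFComp.nonempty_iso (CohTop.push f) (CohTop.push g) (CohTop.push (f ≫ g)) e ?_
  intro I hI
  have h1 : Limits.PreservesFiniteLimits (TopCat.Sheaf.pullback AddCommGrpCat.{u} f) :=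
    H5.RDFComp.preservesFiniteLimits_pull f
  have : (TopCat.Sheaf.pullback AddCommGrpCat.{u} f).PreservesMonomorphisms :=
    preservesMonomorphisms_of_preservesLimitsOfShape _
  exact @Injective.injective_of_adjoint _ _ _ _ _ _ this
    (TopCat.Sheaf.pullbackPushforwardAdjunction AddCommGrpCat.{u} f) I hI

end Groth.Agent.S0930
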