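import Groth.Statements.S0948
import Groth.Agent.H60.SCoh
-- import your own Groth.Agent.* helpers here

set_option autoImplicit false
universe u
open CategoryTheory
open CohSite

open Groth.Agent.H31.SieveExt Groth.Agent.H60.ConstTop CategoryTheory.Abelian CategoryTheory.Limits Opposite
open Groth.Agent.H28 ToposFin Groth.Agent.H60.ExtColim Groth.Agent.H60.HomColim Groth.Agent.H60.SCoh

namespace Groth.Agent.S0948

open CategoryTheory.Limits in
/-- Let S be a class of sheaves of sets on a site such that (1) some member of S maps epimorphically to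
the final sheaf, (2) every epimorphism F -> K onto a member K of S is refined by a map K' -> F from
a member K' of S with K' -> K epimorphic, (3) for K, K' in S some member of S maps epimorphically
onto K × K', (4) for parallel maps a, b : K -> K' between members of S some member of S maps
epimorphically onto their equalizer, and (5) every member of S is a quasi-compact object. Then for
every p the functor F ↦ H^p(C, F) on abelian sheaves preserves filtered colimits. -/
theorem result {C : Type u} [SmallCategory C]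
    {J : GrothendieckTopology C} (S : Set (Sheaf J (Type u)))
    (h1 : ∃ K ∈ S, Epi (terminal.from K))
    (h2 : ∀ (F : Sheaf J (Type u)) (K : Sheaf J (Type u)) (g : F ⟶ K), K ∈ S → Epi g →
      ∃ (K' : Sheaf J (Type u)) (k : K' ⟶ F), K' ∈ S ∧ Epi (k ≫ g))
    (h3 : ∀ K ∈ S, ∀ K' ∈ S, ∃ (K'' : Sheaf J (Type u)) (g : K'' ⟶ K ⨯ K'), K'' ∈ S ∧ Epi g)
    (h4 : ∀ K ∈ S, ∀ K' ∈ S, ∀ (a b : K ⟶ K'), ∃ (K'' : Sheaf J (Type u)) (g : K'' ⟶ equalizer a b), K'' ∈ S ∧ Epi g)
    (h5 : ∀ K ∈ S, CohCx.IsQcObject K)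
    (Λ : Type u) [SmallCategory Λ] [IsFiltered Λ] (p : ℕ) :
    PreservesColimitsOfShape Λ (Sheaf.functorH J p : Sheaf J AddCommGrpCat.{u} ⥤ AddCommGrpCat.{u}) := by
  have hqc : ∀ K ∈ S, IsQC K := fun K hK => isQC_of_isQcObject (h5 K hK)
  have hT : SCoh S (⊤_ (Sh J)) := scoh_terminal h3 h1
  have hfp : IsFP (⊤_ (Sh J)) := isFP_of_scoh hqc h2 hT
  have h1' : PreservesColimitsOfShape Λ
      ((extFunctor.{u} p).obj (op (Zs J (⊤_ (Sheaf J (Type u))).obj))) := by
    refine preservesColimitsOfShape_extFunctor (Zs J (⊤_ (Sheaf J (Type u))).obj) p ?_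
    refine surj_inj (Zs J (⊤_ (Sheaf J (Type u))).obj) ?_ ?_ p
    · intro D
      constructor
      · intro ξ
        obtain ⟨φ, rfl⟩ := (Ext.mk₀_bijective _ _).surjective ξ
        obtain ⟨i, φi, hφi⟩ := hom_surj (colimit.isColimit D) hfp φ
        refine ⟨i, Ext.mk₀ φi, ?_⟩
        rw [push_apply, Ext.mk₀_comp_mk₀]
        exact congrArg Ext.mk₀ hφi
      · intro i ξi h
        obtain ⟨φi, rfl⟩ := (Ext.mk₀_bijective _ _).surjective ξi
        rw [push_apply, Ext.mk₀_comp_mk₀] at h
        have h' : φi ≫ colimit.ι D i = 0 :=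
          (Ext.mk₀_bijective _ _).injective (h.trans (Ext.mk₀_zero _ _).symm)
        obtain ⟨j, f, hf⟩ := hom_inj (colimit.isColimit D) hfp φi h'
        refine ⟨j, f, ?_⟩
        rw [push_apply, Ext.mk₀_comp_mk₀, hf, Ext.mk₀_zero]
    · intro D hD q x
      have hsub : Subsingleton (Abelian.Ext (Zs J (⊤_ (Sheaf J (Type u))).obj) (colimit D) (q + 1)) :=
        scoh_acyclic_colim hqc h2 h3 h4 (colimit.isColimit D)
          (fun i K' _ q => subsingleton_of_forall_eq 0 (fun y => Ext.eq_zero_of_injective y))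
          (⊤_ (Sh J)) hT q
      exact Subsingleton.elim _ _
  have e : (extFunctor.{u} p).obj (op (Zs J (⊤_ (Sheaf J (Type u))).obj)) ≅
      (extFunctor.{u} p).obj (op ((constantSheaf J AddCommGrpCat.{u}).obj
        (AddCommGrpCat.of (ULift.{u} ℤ)))) :=
    (extFunctor.{u} p).mapIso (constIsoTop J).op
  have h2' : PreservesColimitsOfShape Λ ((extFunctor.{u} p).obj
      (op ((constantSheaf J AddCommGrpCat.{u}).obj (AddCommGrpCat.of (ULift.{u} ℤ))))) :=
    preservesColimitsOfShape_of_natIso e
  exact h2'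

end Groth.Agent.S0948
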