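import Groth.Statements.S0960
import Groth.Agent.H5.LpullKFlat
import Groth.Agent.H5.LTensorKFlat
import Groth.Agent.H5.PullbackTensorCx
import Groth.Agent.H5.LpullComp
import Groth.Agent.S0952

set_option autoImplicit false
universe u
open CategoryTheory
attribute [local instance] HasDerivedCategory.standard
open DCoh

namespace Groth.Agent.S0960

open AlgebraicGeometry in
/-- Schemes; second factor given by a K-flat complex L, so that Lf^* L is the plain pullback f^* L: for
f : X -> Y, K in D(O_Y) and a K-flat complex L of O_Y-modules there is an isomorphism Lf^*(K ⊗^L L)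
≅ (Lf^* K) ⊗^L (f^* L). The derived functors are taken under their existence binders; the assertion
is the existence of an isomorphism for each K. -/
theorem result {X Y : Scheme.{u}} (f : X ⟶ Y) [DCoh.HasLpull f] (L : CochainComplex Y.Modules ℤ)
    (hL : DCoh.IsKFlat L) [DCoh.HasLTensorCx L] [DCoh.HasLTensorCx (((Scheme.Modules.pullback f).mapHomologicalComplex (ComplexShape.up ℤ)).obj L)] (K : DCoh.D Y) :
    Nonempty ((DCoh.Lpull f).obj ((DCoh.LTensorCx L).obj K) ≅
      (DCoh.LTensorCx (((Scheme.Modules.pullback f).mapHomologicalComplex (ComplexShape.up ℤ)).obj L)).obj ((DCoh.Lpull f).obj K)) := by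
  obtain ⟨K', ⟨eK⟩⟩ : ∃ K' : CochainComplex Y.Modules ℤ,
      Nonempty (DerivedCategory.Q.obj K' ≅ K) :=
    ⟨_, ⟨DerivedCategory.Q.objObjPreimageIso K⟩⟩
  obtain ⟨P, q, hq, hP, -⟩ := Groth.Agent.H5.LpullComp.exists_resolution f K'
  have eP : DerivedCategory.Q.obj P ≅ DerivedCategory.Q.obj K' := asIso (DerivedCategory.Q.map q)
  have hfL : DCoh.IsKFlat (((Scheme.Modules.pullback f).mapHomologicalComplex
      (ComplexShape.up ℤ)).obj L) := Groth.Agent.S0952.result f L hL
  let e0 : K ≅ DerivedCategory.Q.obj P := (eP ≪≫ eK).symm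
  let e1 := (DCoh.Lpull f).mapIso ((DCoh.LTensorCx L).mapIso e0)
  let e2 := (DCoh.Lpull f).mapIso (Groth.Agent.H5.LTensorKFlat.LTensorCxIso L hL P)
  let e3 := Groth.Agent.H5.LpullKFlat.LpullIso f ((DCoh.tensorCx.obj P).obj L)
    (Groth.Agent.H5.LTensorKFlat.isKFlat_tensorCx hP.1 hL)
  let e4 := DerivedCategory.Q.mapIso (Groth.Agent.H5.PullbackTensor.pullbackTotIso f P L)
  let e5 := Groth.Agent.H5.LTensorKFlat.LTensorCxIso _ hfL
    (((Scheme.Modules.pullback f).mapHomologicalComplex (ComplexShape.up ℤ)).obj P)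
  let e6 := Groth.Agent.H5.LpullKFlat.LpullIso f P hP.1
  let e7 := (DCoh.Lpull f).mapIso e0
  exact ⟨e1 ≪≫ e2 ≪≫ e3 ≪≫ e4 ≪≫ e5.symm ≪≫
    (DCoh.LTensorCx (((Scheme.Modules.pullback f).mapHomologicalComplex
      (ComplexShape.up ℤ)).obj L)).mapIso (e6.symm ≪≫ e7.symm)⟩

end Groth.Agent.S0960
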