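import Groth.Statements.S0963
import Groth.Agent.H5.KFlatSchemeTriangle

set_option autoImplicit false
universe u
open CategoryTheory
attribute [local instance] HasDerivedCategory.standard
open DCoh

namespace Groth.Agent.S0963

open AlgebraicGeometry CategoryTheory.Pretriangulated in
/-- Schemes; hypotheses in the flat-representative form of tor-amplitude, conclusions in the
derived-tensor form: for a distinguished triangle K -> L -> M -> K[1] in D(O_X) and integers a, b:
(1) tor-amplitude of K in [a+1, b+1] and of L in [a, b] give tor-amplitude of M in [a, b]; (2)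
tor-amplitude of K and of M in [a, b] give the same for L; (3) tor-amplitude of L in [a+1, b+1] and
of M in [a, b] give tor-amplitude of K in [a+1, b+1]. -/
theorem result {X : Scheme.{u}} (T : Triangle (DCoh.D X)) (hT : T ∈ distinguishedTriangles)
    (a b : ℤ) :
    (DCoh.HasFlatAmplitudeIn (a + 1) (b + 1) T.obj₁ → DCoh.HasFlatAmplitudeIn a b T.obj₂ →
      DCoh.HasTorAmplitudeIn a b T.obj₃) ∧
    (DCoh.HasFlatAmplitudeIn a b T.obj₁ → DCoh.HasFlatAmplitudeIn a b T.obj₃ → DCoh.HasTorAmplitudeIn a b T.obj₂) ∧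
    (DCoh.HasFlatAmplitudeIn (a + 1) (b + 1) T.obj₂ → DCoh.HasFlatAmplitudeIn a b T.obj₃ →
      DCoh.HasTorAmplitudeIn (a + 1) (b + 1) T.obj₁) := by
  have key : ∀ (F : X.Modules) [HasLTensorMod F],
      ∃ T' ∈ distTriang (DCoh.D X), Nonempty (T'.obj₁ ≅ (DCoh.LTensorMod F).obj T.obj₁) ∧
        Nonempty (T'.obj₂ ≅ (DCoh.LTensorMod F).obj T.obj₂) ∧
        Nonempty (T'.obj₃ ≅ (DCoh.LTensorMod F).obj T.obj₃) := fun F _ =>
    Groth.Agent.H5.KFlatSchemeTriangle.exists_distTriang_LTensorMod F T hT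
  have tor := fun (a b : ℤ) (K : DCoh.D X) =>
    Groth.Agent.H5.KFlatSchemeTriangle.hasTorAmplitudeIn_of_hasFlatAmplitudeIn a b K
  refine ⟨fun h₁ h₂ => ?_, fun h₁ h₃ => ?_, fun h₂ h₃ => ?_⟩
  · intro F _ i hi
    obtain ⟨T', hT', ⟨e₁⟩, ⟨e₂⟩, ⟨e₃⟩⟩ := key F
    have z₁ : Limits.IsZero ((DerivedCategory.homologyFunctor X.Modules (i + 1)).obj T'.obj₁) :=
      (tor _ _ _ h₁ F (i + 1) (by lia)).of_iso
        ((DerivedCategory.homologyFunctor X.Modules (i + 1)).mapIso e₁)
    have z₂ : Limits.IsZero ((DerivedCategory.homologyFunctor X.Modules i).obj T'.obj₂) :=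
      (tor _ _ _ h₂ F i hi).of_iso ((DerivedCategory.homologyFunctor X.Modules i).mapIso e₂)
    have ex := DerivedCategory.HomologySequence.exact₃ T' hT' i (i + 1) rfl
    exact (ex.isZero_of_both_zeros (z₂.eq_of_src _ _) (z₁.eq_of_tgt _ _)).of_iso
      ((DerivedCategory.homologyFunctor X.Modules i).mapIso e₃.symm)
  · intro F _ i hi
    obtain ⟨T', hT', ⟨e₁⟩, ⟨e₂⟩, ⟨e₃⟩⟩ := key F
    have z₁ : Limits.IsZero ((DerivedCategory.homologyFunctor X.Modules i).obj T'.obj₁) :=
      (tor _ _ _ h₁ F i hi).of_iso ((DerivedCategory.homologyFunctor X.Modules i).mapIso e₁)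
    have z₃ : Limits.IsZero ((DerivedCategory.homologyFunctor X.Modules i).obj T'.obj₃) :=
      (tor _ _ _ h₃ F i hi).of_iso ((DerivedCategory.homologyFunctor X.Modules i).mapIso e₃)
    have ex := DerivedCategory.HomologySequence.exact₂ T' hT' i
    exact (ex.isZero_of_both_zeros (z₁.eq_of_src _ _) (z₃.eq_of_tgt _ _)).of_iso
      ((DerivedCategory.homologyFunctor X.Modules i).mapIso e₂.symm)
  · intro F _ i hi
    obtain ⟨T', hT', ⟨e₁⟩, ⟨e₂⟩, ⟨e₃⟩⟩ := key F
    have z₂ : Limits.IsZero ((DerivedCategory.homologyFunctor X.Modules i).obj T'.obj₂) :=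
      (tor _ _ _ h₂ F i hi).of_iso ((DerivedCategory.homologyFunctor X.Modules i).mapIso e₂)
    have z₃ : Limits.IsZero ((DerivedCategory.homologyFunctor X.Modules (i - 1)).obj T'.obj₃) :=
      (tor _ _ _ h₃ F (i - 1) (by lia)).of_iso
        ((DerivedCategory.homologyFunctor X.Modules (i - 1)).mapIso e₃)
    have ex := DerivedCategory.HomologySequence.exact₁ T' hT' (i - 1) i (by lia)
    exact (ex.isZero_of_both_zeros (z₃.eq_of_src _ _) (z₂.eq_of_tgt _ _)).of_iso
      ((DerivedCategory.homologyFunctor X.Modules i).mapIso e₁.symm)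

end Groth.Agent.S0963
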