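import Groth.Statements.S0966
import Groth.Agent.H5.ProjFormulaCx
import Groth.Agent.H5.RpushExact
import Groth.Agent.H5.LTensorKFlat
import Groth.Agent.S0952

set_option autoImplicit false
universe u
open CategoryTheory
attribute [local instance] HasDerivedCategory.standard
open DCoh

namespace Groth.Agent.S0966

open AlgebraicGeometry in
/-- Schemes, f a closed immersion; K given by a K-flat complex P so that Lf^*K is f^*P: for E in D(O_X)
there is an isomorphism Rf_* E ⊗^L P ≅ Rf_*(E ⊗^L f^* P), with no perfectness assumption on P. The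
derived functors are taken under their existence binders. -/
theorem result {X Y : Scheme.{u}} (f : X ⟶ Y) [IsClosedImmersion f] [DCoh.HasRpush f]
    (P : CochainComplex Y.Modules ℤ) (hP : DCoh.IsKFlat P)
    [DCoh.HasLTensorCx P] [DCoh.HasLTensorCx (((Scheme.Modules.pullback f).mapHomologicalComplex (ComplexShape.up ℤ)).obj P)] (E : DCoh.D X) :
    Nonempty ((DCoh.LTensorCx P).obj ((DCoh.Rpush f).obj E) ≅
      (DCoh.Rpush f).obj ((DCoh.LTensorCx (((Scheme.Modules.pullback f).mapHomologicalComplex (ComplexShape.up ℤ)).obj P)).obj E)) := by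
  obtain ⟨M, ⟨e⟩⟩ : ∃ M : CochainComplex X.Modules ℤ, Nonempty (E ≅ DerivedCategory.Q.obj M) :=
    ⟨_, ⟨(DerivedCategory.Q.objObjPreimageIso E).symm⟩⟩
  have hP' := Groth.Agent.S0952.result f P hP
  exact ⟨(DCoh.LTensorCx P).mapIso ((DCoh.Rpush f).mapIso e) ≪≫
    (DCoh.LTensorCx P).mapIso (Groth.Agent.H5.RpushExact.RpushIsoClosed f M) ≪≫
    Groth.Agent.H5.LTensorKFlat.LTensorCxIso P hP _ ≪≫
    DerivedCategory.Q.mapIso (Groth.Agent.H5.ProjFormula.pushTotIso f M P) ≪≫
    (Groth.Agent.H5.RpushExact.RpushIsoClosed f _).symm ≪≫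
    (DCoh.Rpush f).mapIso (Groth.Agent.H5.LTensorKFlat.LTensorCxIso _ hP' M).symm ≪≫
    (DCoh.Rpush f).mapIso ((DCoh.LTensorCx _).mapIso e.symm)⟩

end Groth.Agent.S0966
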