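import Groth.Statements.S0970
import Groth.Agent.H33.IRes
import Groth.Agent.H33.OpCx

set_option autoImplicit false
universe v u
open CategoryTheory
open CohDer

namespace Groth.Agent.S0970

/-- Let P be a class of objects in an abelian category containing a zero object and such that every
object is a quotient of an object in P. For a cochain complex K vanishing in degrees above a there
is a quasi-isomorphism Q ⟶ K, surjective in each degree, where Q has all terms in P and also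
vanishes above degree a. -/
theorem result {A : Type u} [Category.{v} A] [Abelian A] (P : A → Prop)
    (hP0 : ∃ Z : A, Limits.IsZero Z ∧ P Z) (hP : ∀ X : A, ∃ (Y : A) (π : Y ⟶ X), P Y ∧ Epi π)
    (K : CochainComplex A ℤ) (a : ℤ) [K.IsStrictlyLE a] :
    ∃ (Q : CochainComplex A ℤ) (α : Q ⟶ K), Q.IsStrictlyLE a ∧ (∀ n, P (Q.X n)) ∧ (∀ n, Epi (α.f n)) ∧ QuasiIso α := by
  classical
  obtain ⟨Z, hZ, hPZ⟩ := hP0
  let I : Aᵒᵖ → Prop := fun X => P (Opposite.unop X)
  have hI0 : ∃ Z' : Aᵒᵖ, Limits.IsZero Z' ∧ I Z' := ⟨Opposite.op Z, hZ.op, hPZ⟩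
  have hI : ∀ X : Aᵒᵖ, ∃ (Y : Aᵒᵖ) (ι : X ⟶ Y), I Y ∧ Mono ι := by
    intro X
    obtain ⟨Y, π, hY, hπ⟩ := hP (Opposite.unop X)
    exact ⟨Opposite.op Y, π.op, hY, inferInstance⟩
  have : (Groth.Agent.H33.OpCx.opC K).IsStrictlyGE (-a) :=
    Groth.Agent.H33.OpCx.isStrictlyGE_opC K a (-a) (by omega)
  obtain ⟨L, β, hL, hLI, hβm, hβ⟩ :=
    Groth.Agent.H33.IRes.exists_resolution I hI0 hI (Groth.Agent.H33.OpCx.opC K) (-a)
  have hQ : (Groth.Agent.H33.OpCx.unopC L).IsStrictlyLE a :=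
    Groth.Agent.H33.OpCx.isStrictlyLE_unopC L (-a) a (by omega)
  have hq : QuasiIso (Groth.Agent.H33.OpCx.unopM β) := Groth.Agent.H33.OpCx.quasiIso_unopM β
  refine ⟨Groth.Agent.H33.OpCx.unopC L,
    Groth.Agent.H33.OpCx.unopM β ≫ (Groth.Agent.H33.OpCx.unopOpIso K).hom, hQ, ?_, ?_, ?_⟩
  · intro n
    exact hLI (-n)
  · intro n
    have h1 : Epi ((Groth.Agent.H33.OpCx.unopM β).f n) := by
      have := hβm (-n)
      change Epi (β.f (-n)).unop
      infer_instance
    rw [HomologicalComplex.comp_f]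
    infer_instance
  · infer_instance

end Groth.Agent.S0970
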