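import Groth.Statements.S0976
import Mathlib.CategoryTheory.Triangulated.Orthogonal
import Mathlib.CategoryTheory.Localization.Triangulated

set_option autoImplicit false
universe v u
open CategoryTheory
open CohDer

namespace Groth.Agent.S0976

open CategoryTheory.Pretriangulated in
/-- Let P be a triangulated subcategory of a triangulated category D (an object property containing
zero, stable under shifts, closed under extensions). Consider the class of objects X sitting in a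
distinguished triangle A → X → B → A[1] with P A and B right orthogonal to P. This class is again
stable under shifts and closed under extensions, i.e. satisfies two-out-of-three in distinguished
triangles. -/
theorem result {D : Type u} [Category.{v} D] [Preadditive D] [Limits.HasZeroObject D] [HasShift D ℤ]
    [∀ n : ℤ, (shiftFunctor D n).Additive] [Pretriangulated D] [IsTriangulated D]
    (P : ObjectProperty D) [P.IsTriangulated] :
    ObjectProperty.IsTriangulated (fun X : D => ∃ (A B : D) (f : A ⟶ X) (g : X ⟶ B) (h : B ⟶ (shiftFunctor D (1 : ℤ)).obj A),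
      Triangle.mk f g h ∈ distinguishedTriangles ∧ P A ∧ P.rightOrthogonal B) := by
  have key : ∀ X : D, (∃ (A B : D) (f : A ⟶ X) (g : X ⟶ B) (h : B ⟶ (shiftFunctor D (1 : ℤ)).obj A),
      Triangle.mk f g h ∈ distinguishedTriangles ∧ P A ∧ P.rightOrthogonal B) ↔
      ∃ (A : D) (f : A ⟶ X), P A ∧ P.rightOrthogonal.trW f := by
    intro X
    constructor
    · rintro ⟨A, B, f, g, h, hT, hA, hB⟩
      exact ⟨A, f, hA, ⟨B, g, h, hT, hB⟩⟩
    · rintro ⟨A, f, hA, ⟨B, g, h, hT, hB⟩⟩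
      exact ⟨A, B, f, g, h, hT, hA, hB⟩
  refine @ObjectProperty.IsTriangulated.mk _ _ _ _ _ _ _ _ ⟨?_⟩ ⟨fun n => ⟨?_⟩⟩ ⟨?_⟩
  · obtain ⟨Z, hZ, hPZ⟩ := (inferInstance : P.ContainsZero).exists_zero
    refine ⟨Z, hZ, (key Z).2 ⟨Z, 𝟙 Z, hPZ, ?_⟩⟩
    exact MorphismProperty.id_mem _ _
  · intro X hX
    obtain ⟨A, f, hA, hf⟩ := (key X).1 hX
    exact (key _).2 ⟨_, (shiftFunctor D n).map f, P.le_shift n _ hA, hf.shift n⟩
  · intro T hT h₁ h₃
    obtain ⟨A₁, B₁, a₁, b₁, c₁, hT₁, hA₁, hB₁⟩ := h₁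
    obtain ⟨A₃, a₃, hA₃, ha₃⟩ := (key _).1 h₃
    have ha₁ : P.rightOrthogonal.trW a₁ := ⟨_, _, _, hT₁, hB₁⟩
    have ha₃' : P.rightOrthogonal.trW ((shiftFunctor D (-1 : ℤ)).map a₃) := ha₃.shift (-1)
    have hT' := inv_rot_of_distTriang _ hT
    have hzero : ((shiftFunctor D (-1 : ℤ)).map a₃ ≫ T.invRotate.mor₁) ≫ b₁ = 0 :=
      hB₁ _ (P.le_shift (-1) _ hA₃)
    obtain ⟨θ, hθ⟩ := Triangle.coyoneda_exact₂ _ hT₁ _ hzero
    obtain ⟨A₂, α, β, hTA⟩ := distinguished_cocone_triangle θ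
    obtain ⟨c, hc, -, -⟩ := MorphismProperty.compatible_with_triangulation _ T.invRotate hTA hT'
      ((shiftFunctor D (-1 : ℤ)).map a₃) a₁ ha₃' ha₁ hθ.symm
    obtain ⟨A₂', hA₂', ⟨e⟩⟩ := P.ext_of_isTriangulatedClosed₃' _ hTA (P.le_shift (-1) _ hA₃) hA₁
    have hc' : P.rightOrthogonal.trW (e.inv ≫ c) :=
      MorphismProperty.comp_mem _ _ _ (ObjectProperty.trW_of_isIso _ _) hc
    exact ObjectProperty.le_isoClosure _ _ ((key _).2 ⟨A₂', e.inv ≫ c, hA₂', hc'⟩)

end Groth.Agent.S0976
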