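import Groth.Statements.S0978
import Groth.Agent.S0984
import Groth.Agent.S1076
import Groth.Agent.H5.HocolimCompact

set_option autoImplicit false
universe v u
open CategoryTheory
open CohDer

namespace Groth.Agent.S0978

open CategoryTheory.Limits in
/-- Let D be a triangulated category with all small direct sums and E a compact object. Then E generates
D (an object admitting only zero maps from all shifts of E is zero) if and only if D is compactly
generated and every compact object lies in the triangulated envelope of E (objects reachable from E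
by shifts, finite sums, direct summands and extensions). -/
theorem result {D : Type u} [Category.{v} D] [Preadditive D] [Limits.HasZeroObject D] [HasShift D ℤ]
    [∀ n : ℤ, (shiftFunctor D n).Additive] [Pretriangulated D] [IsTriangulated D] [HasCoproducts.{v} D]
    [HasColimitsOfShape (Discrete ℕ) D]
    (E : D) (hE : CohDer.IsCompactObject E) :
    CohDer.Generates (fun _ : Unit => E) ↔
      (CohDer.IsCompactlyGenerated D ∧ ∀ X : D, CohDer.IsCompactObject X → ObjectProperty.triangEnvelope (fun Y : D => Y = E) X) := by
  open ZeroObject in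
  constructor
  · intro hg
    have hg' : CohDer.Generates (fun _ : PUnit.{v + 1} => E) :=
      fun K hK => hg K (fun _ n f => hK PUnit.unit n f)
    refine ⟨⟨PUnit.{v + 1}, fun _ => E, fun _ => hE, hg'⟩, ?_⟩
    intro X hX
    obtain ⟨K, f, i, hL, h0, hstep⟩ := Groth.Agent.S0984.result (fun _ : PUnit.{v + 1} => E)
      (fun _ => hE) hg' X
    obtain ⟨N, y, hy⟩ := Groth.Agent.H5.HocolimCompact.factor_of_isHocolim K f i hL hX (𝟙 X)
    obtain ⟨s, E', g, h, hE', hgh⟩ := Groth.Agent.S1076.result (fun _ : PUnit.{v + 1} => E)
      (fun _ => hE) K f h0 hstep X hX N y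
    have hle : ObjectProperty.triangEnvelope (fun Y : D => ∃ i ∈ s, Y = (fun _ : PUnit.{v + 1} => E) i) ≤
        ObjectProperty.triangEnvelope (fun Y : D => Y = E) :=
      ObjectProperty.monotone_triangEnvelope (fun Y ⟨_, _, h⟩ => h)
    have hr : Retract X E' := ⟨g, h ≫ i N, by rw [← Category.assoc, hgh, ← hy]⟩
    exact ObjectProperty.prop_of_retract _ hr (hle _ hE')
  · rintro ⟨⟨ι, F, hF, hgen⟩, henv⟩ K hK
    let Q : ObjectProperty D := fun Y => ∀ (n : ℤ) (f : Y ⟶ (shiftFunctor D n).obj K), f = 0
    have hQiso : Q.IsClosedUnderIsomorphisms := ⟨fun {Y Y'} e hY n f => by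
      have := hY n (e.hom ≫ f)
      rw [← cancel_epi e.hom, this, comp_zero]⟩
    have hQret : Q.IsStableUnderRetracts := ⟨fun {Y Y'} r hY' n f => by
      have := hY' n (r.r ≫ f)
      have h2 : f = r.i ≫ r.r ≫ f := by rw [← Category.assoc, r.retract, Category.id_comp]
      rw [h2, this, comp_zero]⟩
    have hQzero : Q.ContainsZero := ⟨⟨0, Limits.isZero_zero D, fun n f =>
      (Limits.isZero_zero D).eq_of_src _ _⟩⟩
    have hQshift : Q.IsStableUnderShift ℤ := ⟨fun a => ⟨fun Y hY n f => by
      have h1 := hY (n + (-a)) ((shiftFunctorCompIsoId D a (-a) (add_neg_cancel a)).inv.app Y ≫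
        (shiftFunctor D (-a)).map f ≫ (shiftFunctorAdd D n (-a)).inv.app K)
      have h2 : (shiftFunctor D (-a)).map f = 0 := by
        have h3 : (shiftFunctorCompIsoId D a (-a) (add_neg_cancel a)).inv.app Y ≫
            ((shiftFunctor D (-a)).map f ≫ (shiftFunctorAdd D n (-a)).inv.app K) =
            (shiftFunctorCompIsoId D a (-a) (add_neg_cancel a)).inv.app Y ≫ 0 := by
          rw [comp_zero]; exact h1
        have h4 := (cancel_epi _).mp h3
        have h5 : (shiftFunctor D (-a)).map f ≫ (shiftFunctorAdd D n (-a)).inv.app K =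
            0 ≫ (shiftFunctorAdd D n (-a)).inv.app K := by rw [zero_comp]; exact h4
        exact (cancel_mono _).mp h5
      apply (shiftFunctor D (-a)).map_injective
      rw [h2, Functor.map_zero]⟩⟩
    have hQext : Q.IsTriangulatedClosed₂ :=
      ObjectProperty.IsTriangulatedClosed₂.mk' (fun T hT h₁ h₃ n f => by
        have h0 : T.mor₁ ≫ f = 0 := h₁ n _
        obtain ⟨g, hg⟩ := Pretriangulated.Triangle.yoneda_exact₂ _ hT f h0
        rw [hg, h₃ n g, comp_zero])
    have hQtri : Q.IsTriangulated := {}
    have hEQ : (fun Y : D => Y = E) ≤ Q := by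
      rintro Y rfl n f
      exact hK () n f
    have hle : ObjectProperty.triangEnvelope (fun Y : D => Y = E) ≤ Q :=
      (ObjectProperty.triangEnvelope_le_iff _).2 hEQ
    apply hgen K
    intro j n f
    exact hle _ (henv _ (hF j)) n f

end Groth.Agent.S0978
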