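import Groth.Statements.S0982
import Mathlib.Algebra.Homology.DerivedCategory.ShortExact
import Mathlib.Algebra.Homology.DerivedCategory.TStructure
import Mathlib.Tactic.Ring
import Mathlib.Tactic.Linarith

set_option autoImplicit false
universe w v u
open CategoryTheory CategoryTheory.Limits
open CohDer

namespace Groth.Agent.S0982


open HomologicalComplex in
/-- A cochain map from a complex strictly `≤ e` to a complex strictly `≥ e` which is zero on
`H^e` is zero. -/
lemma eq_zero_of_homologyMap_eq_zero {A : Type u} [Category.{v} A] [Abelian A]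
    (W V : CochainComplex A ℤ) (e : ℤ) [W.IsStrictlyLE e] [V.IsStrictlyGE e]
    (g : W ⟶ V) (hg : HomologicalComplex.homologyMap g e = 0) : g = 0 := by
  ext i
  rcases lt_trichotomy i e with hi | rfl | hi
  · exact (V.isZero_of_isStrictlyGE e i hi).eq_of_tgt _ _
  · have hW : W.d i (i+1) = 0 := (W.isZero_of_isStrictlyLE i (i+1) (by lia)).eq_of_tgt _ _
    have hV : V.d (i-1) i = 0 := (V.isZero_of_isStrictlyGE i (i-1) (by lia)).eq_of_src _ _
    have : IsIso (W.iCycles i) := W.isIso_iCycles i (i+1) (by simp) hW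
    have : IsIso (V.homologyπ i) := V.isIso_homologyπ (i-1) i (by simp) hV
    have h1 : cyclesMap g i = 0 := by
      rw [← cancel_mono (V.homologyπ i), zero_comp, ← homologyπ_naturality, hg, comp_zero]
    rw [← cancel_epi (W.iCycles i), ← cyclesMap_i, h1, zero_comp]
    simp
  · exact (W.isZero_of_isStrictlyLE e i hi).eq_of_src _ _

/-- Key step: if `f : L ⟶ L'` induces zero on `H^e`, then `τ_{≤ e} L ⟶ L ⟶ L'` factors in the derived
category through `τ_{≤ e'} L'` where `e' + 1 = e`. -/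
lemma factors_step {A : Type u} [Category.{v} A] [Abelian A] [HasDerivedCategory.{w} A]
    (L L' : CochainComplex A ℤ) (f : L ⟶ L') (e' e : ℤ) (he : e' + 1 = e)
    (hf : HomologicalComplex.homologyMap f e = 0) :
    ∃ ψ : DerivedCategory.Q.obj (L.truncLE e) ⟶ DerivedCategory.Q.obj (L'.truncLE e'),
      ψ ≫ DerivedCategory.Q.map (L'.ιTruncLE e') = DerivedCategory.Q.map (L.ιTruncLE e ≫ f) := by
  have hS := L'.shortComplexTruncLE_shortExact e'
  have hT := DerivedCategory.triangleOfSES_distinguished hS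
  have hzero : L.ιTruncLE e ≫ f ≫ L'.πTruncGE e = 0 := by
    apply eq_zero_of_homologyMap_eq_zero _ _ e
    rw [HomologicalComplex.homologyMap_comp, HomologicalComplex.homologyMap_comp, hf]
    simp
  have hz' : (L.ιTruncLE e ≫ f) ≫ ((L'.shortComplexTruncLE e').g ≫
      L'.shortComplexTruncLEX₃ToTruncGE e' e he) = 0 :=
    (congrArg (fun t => (L.ιTruncLE e ≫ f) ≫ t) (L'.g_shortComplexTruncLEX₃ToTruncGE e' e he)).trans
      (by rw [Category.assoc]; exact hzero)
  have h2 : DerivedCategory.Q.map (L.ιTruncLE e ≫ f) ≫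
      DerivedCategory.Q.map (L'.shortComplexTruncLE e').g = 0 := by
    have : IsIso (DerivedCategory.Q.map (L'.shortComplexTruncLEX₃ToTruncGE e' e he)) := inferInstance
    rw [← cancel_mono (DerivedCategory.Q.map (L'.shortComplexTruncLEX₃ToTruncGE e' e he)), zero_comp,
      Category.assoc, ← Functor.map_comp, ← Functor.map_comp]
    exact (congrArg (fun t => DerivedCategory.Q.map t) hz').trans (Functor.map_zero _ _ _)
  obtain ⟨ψ, hψ⟩ := Pretriangulated.Triangle.coyoneda_exact₂ _ hT
    (DerivedCategory.Q.map (L.ιTruncLE e ≫ f)) h2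
  exact ⟨ψ, hψ.symm⟩

/-- Let K : ℕ ⥤ CochainComplex A ℤ be a sequence of cochain maps K₀ → K₁ → K₂ → … in an abelian category
with Hⁱ(K₀) = 0 for i > 0 and such that for every j < n the map H⁻ʲ(Kⱼ) → H⁻ʲ(Kⱼ₊₁) is zero. Then in
the derived category the composite K₀ → Kₙ factors through the canonical truncation τ_{≤ -n}Kₙ → Kₙ. -/
theorem result {A : Type u} [Category.{v} A] [Abelian A] [HasDerivedCategory.{w} A]
    (K : ℕ ⥤ CochainComplex A ℤ) (n : ℕ)
    (h0 : ∀ i : ℤ, 0 < i → IsZero ((K.obj 0).homology i))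
    (hz : ∀ j : ℕ, j < n → HomologicalComplex.homologyMap (K.map (homOfLE (Nat.le_succ j))) (-(j : ℤ)) = 0) :
    ∃ φ : DerivedCategory.Q.obj (K.obj 0) ⟶ DerivedCategory.Q.obj ((K.obj n).truncLE (-(n : ℤ))),
      φ ≫ DerivedCategory.Q.map ((K.obj n).ιTruncLE (-(n : ℤ))) = DerivedCategory.Q.map (K.map (homOfLE (Nat.zero_le n))) := by
  suffices H : ∀ m : ℕ, (hm : m ≤ n) →
      ∃ φ : DerivedCategory.Q.obj (K.obj 0) ⟶ DerivedCategory.Q.obj ((K.obj m).truncLE (-(m : ℤ))),
        φ ≫ DerivedCategory.Q.map ((K.obj m).ιTruncLE (-(m : ℤ))) =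
          DerivedCategory.Q.map (K.map (homOfLE (Nat.zero_le m))) from H n le_rfl
  intro m
  induction m with
  | zero =>
    intro _
    have hLE : (K.obj 0).IsLE 0 := by
      rw [CochainComplex.isLE_iff]
      intro i hi
      rw [HomologicalComplex.exactAt_iff_isZero_homology]
      exact h0 i hi
    have hq : QuasiIso ((K.obj 0).ιTruncLE 0) := inferInstance
    have : IsIso (DerivedCategory.Q.map ((K.obj 0).ιTruncLE (-((0 : ℕ) : ℤ)))) := by
      have h00 : (-((0 : ℕ) : ℤ)) = 0 := by simp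
      rw [h00]
      infer_instance
    refine ⟨inv (DerivedCategory.Q.map ((K.obj 0).ιTruncLE (-((0 : ℕ) : ℤ)))), ?_⟩
    rw [IsIso.inv_hom_id]
    have : homOfLE (Nat.zero_le 0) = 𝟙 (0 : ℕ) := rfl
    rw [this, CategoryTheory.Functor.map_id, CategoryTheory.Functor.map_id]
  | succ m ih =>
    intro hm
    obtain ⟨φ, hφ⟩ := ih (by lia)
    obtain ⟨ψ, hψ⟩ := factors_step (K.obj m) (K.obj (m+1)) (K.map (homOfLE (Nat.le_succ m)))
      (-((m+1 : ℕ) : ℤ)) (-(m : ℤ)) (by push_cast; lia) (hz m (by lia))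
    refine ⟨φ ≫ ψ, ?_⟩
    rw [Category.assoc, hψ, Functor.map_comp, reassoc_of% hφ, ← Functor.map_comp, ← Functor.map_comp]
    rfl

end Groth.Agent.S0982
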