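import Groth.Statements.S0983
-- import your own Groth.Agent.* helpers here

set_option autoImplicit false
universe v u
open CategoryTheory
open CohDer

namespace Groth.Agent.S0983

open CategoryTheory.Pretriangulated in
/-- In a triangulated category, a commutative square f ≫ v = u ≫ f' (with f : X ⟶ Y, f' : X' ⟶ Y', u : X
⟶ X', v : Y ⟶ Y') extends to a diagram with three distinguished rows (X, Y, Z), (X', Y', Z'), (X'',
Y'', Z'') and three distinguished columns (X, X', X''), (Y, Y', Y''), (Z, Z', Z''), in which all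
squares commute except the one formed by the third morphisms of the last row and last column, which
anticommutes; the fourth row and column are the shifts of the first ones. -/
theorem result {D : Type u} [Category.{v} D] [Preadditive D] [Limits.HasZeroObject D] [HasShift D ℤ]
    [∀ n : ℤ, (shiftFunctor D n).Additive] [Pretriangulated D] [IsTriangulated D]
    {X Y X' Y' : D} (f : X ⟶ Y) (f' : X' ⟶ Y') (u : X ⟶ X') (v : Y ⟶ Y') (comm : f ≫ v = u ≫ f') :
    ∃ (Z Z' X'' Y'' Z'' : D) (g : Y ⟶ Z) (h : Z ⟶ (shiftFunctor D (1 : ℤ)).obj X)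
      (g' : Y' ⟶ Z') (h' : Z' ⟶ (shiftFunctor D (1 : ℤ)).obj X')
      (f'' : X'' ⟶ Y'') (g'' : Y'' ⟶ Z'') (h'' : Z'' ⟶ (shiftFunctor D (1 : ℤ)).obj X'')
      (u' : X' ⟶ X'') (u'' : X'' ⟶ (shiftFunctor D (1 : ℤ)).obj X)
      (v' : Y' ⟶ Y'') (v'' : Y'' ⟶ (shiftFunctor D (1 : ℤ)).obj Y)
      (w : Z ⟶ Z') (w' : Z' ⟶ Z'') (w'' : Z'' ⟶ (shiftFunctor D (1 : ℤ)).obj Z),
      Triangle.mk f g h ∈ distinguishedTriangles ∧ Triangle.mk f' g' h' ∈ distinguishedTriangles ∧
      Triangle.mk f'' g'' h'' ∈ distinguishedTriangles ∧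
      Triangle.mk u u' u'' ∈ distinguishedTriangles ∧ Triangle.mk v v' v'' ∈ distinguishedTriangles ∧
      Triangle.mk w w' w'' ∈ distinguishedTriangles ∧
      g ≫ w = v ≫ g' ∧ h ≫ (shiftFunctor D (1 : ℤ)).map u = w ≫ h' ∧
      f' ≫ v' = u' ≫ f'' ∧ g' ≫ w' = v' ≫ g'' ∧ h' ≫ (shiftFunctor D (1 : ℤ)).map u' = w' ≫ h'' ∧
      f'' ≫ v'' = u'' ≫ (shiftFunctor D (1 : ℤ)).map f ∧ g'' ≫ w'' = v'' ≫ (shiftFunctor D (1 : ℤ)).map g ∧
      h'' ≫ (shiftFunctor D (1 : ℤ)).map u'' = -(w'' ≫ (shiftFunctor D (1 : ℤ)).map h) := by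
  classical
  obtain ⟨Z, g, h, hT_f⟩ := Pretriangulated.distinguished_cocone_triangle f
  obtain ⟨Z', g', h', hT_f'⟩ := Pretriangulated.distinguished_cocone_triangle f'
  obtain ⟨X'', u', u'', hT_u⟩ := Pretriangulated.distinguished_cocone_triangle u
  obtain ⟨Y'', v', v'', hT_v⟩ := Pretriangulated.distinguished_cocone_triangle v
  obtain ⟨A, b, c, hT_a⟩ := Pretriangulated.distinguished_cocone_triangle (f ≫ v)
  obtain ⟨m₁, m₃, a1, a2, a3, a4, amem⟩ :=
    Triangulated.someOctahedron (rfl : f ≫ v = f ≫ v) hT_f hT_v hT_a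
  obtain ⟨n₁, n₃, b1, b2, b3, b4, bmem⟩ :=
    Triangulated.someOctahedron (comm.symm : u ≫ f' = f ≫ v) hT_u hT_f' hT_a
  obtain ⟨Z'', g'', h'', hT_f''⟩ := Pretriangulated.distinguished_cocone_triangle (n₁ ≫ m₃)
  have hrot : Triangle.mk m₃ (v'' ≫ (shiftFunctor D (1 : ℤ)).map g)
      (-(shiftFunctor D (1 : ℤ)).map m₁) ∈ distinguishedTriangles :=
    Pretriangulated.rot_of_distTriang _ amem
  obtain ⟨p₁, p₃, c1, c2, c3, c4, cmem⟩ :=
    Triangulated.someOctahedron (rfl : n₁ ≫ m₃ = n₁ ≫ m₃) bmem hrot hT_f''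
  refine ⟨Z, Z', X'', Y'', Z'', g, h, g', h', n₁ ≫ m₃, g'', h'', u', u'', v', v'',
    m₁ ≫ n₃, p₁, p₃, hT_f, hT_f', hT_f'', hT_u, hT_v, ?_, ?_, ?_, ?_, ?_, ?_, ?_, ?_, ?_⟩
  · refine (Pretriangulated.rotate_distinguished_triangle _).2 ?_
    refine Pretriangulated.isomorphic_distinguished _ cmem _ ?_
    refine Triangle.isoMk _ _ (Iso.refl _) (Iso.refl _) (Iso.refl _) ?_ ?_ ?_
    · exact (Category.comp_id _).trans (Category.id_comp _).symm
    · exact (Category.comp_id _).trans (Category.id_comp _).symm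
    · refine Eq.trans ?_ (Category.id_comp _).symm
      change (-(shiftFunctor D (1 : ℤ)).map (m₁ ≫ n₃)) ≫ (shiftFunctor D (1 : ℤ)).map (𝟙 Z') = _
      rw [CategoryTheory.Functor.map_id, Category.comp_id, Functor.map_comp]
      exact (Preadditive.neg_comp _ _).symm
  · rw [← Category.assoc, a1, Category.assoc, b3]
  · rw [← a2, Category.assoc, b4, Category.assoc]
  · rw [← a3, ← Category.assoc, ← b1, Category.assoc]
  · rw [← b3, Category.assoc, c1, ← Category.assoc, a3]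
  · exact c2.symm
  · rw [Category.assoc, ← a4, ← Category.assoc, b2]
  · exact c3
  · rw [← b2, Functor.map_comp, ← Category.assoc, c4, ← a2, Functor.map_comp]
    simp

end Groth.Agent.S0983
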