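import Groth.Statements.S0987
import Groth.Agent.H16.K0DerC
import Groth.Agent.H16.K0Top

set_option autoImplicit false
universe w v u
open CategoryTheory CategoryTheory.Limits
open KZero

namespace Groth.Agent.S0987

/-- For an abelian category A there is an isomorphism between K₀(A) and K₀ of the bounded derived
category D^b(A) (objects of D(A) with bounded cohomology, with the distinguished triangles of D(A))
which sends the class of an object X to the class of X placed in degree 0. -/
theorem result (A : Type u) [Category.{v} A] [Abelian A] [HasDerivedCategory.{w} A] :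
    ∃ φ : KZero.K0 A ≃+ KZero.K0tr (fun X : DerivedCategory A => ∃ a b : ℤ, X.IsGE a ∧ X.IsLE b),
      ∀ X : A, φ (KZero.cl X) =
        KZero.clTr (fun X : DerivedCategory A => ∃ a b : ℤ, X.IsGE a ∧ X.IsLE b) ((DerivedCategory.singleFunctor A 0).obj X) := by
  have key : ∀ (Q' : ObjectProperty (DerivedCategory A))
      (_ : Groth.Agent.H16.K0Der.QP (⊤ : ObjectProperty A) = Q'),
      ∃ φ : KZero.K0 A ≃+ KZero.K0tr Q', ∀ X : A, φ (KZero.cl X) =
        KZero.clTr Q' ((DerivedCategory.singleFunctor A 0).obj X) := by
    intro Q' hQ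
    subst hQ
    refine ⟨(Groth.Agent.H16.K0Top.equiv A).trans
      (Groth.Agent.H16.K0Der.sigmaEquiv (⊤ : ObjectProperty A)), fun X => ?_⟩
    rw [AddEquiv.trans_apply, Groth.Agent.H16.K0Top.equiv_cl]
    exact Groth.Agent.H16.K0Der.sigmaEquiv_clSub (⊤ : ObjectProperty A) trivial
  apply key
  funext K
  apply propext
  constructor
  · rintro ⟨_, a, b, ha, hb⟩
    exact ⟨a, b, ha, hb⟩
  · rintro ⟨a, b, ha, hb⟩
    exact ⟨fun _ => trivial, a, b, ha, hb⟩

end Groth.Agent.S0987
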