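import Groth.Statements.S0989
-- import your own Groth.Agent.* helpers here

set_option autoImplicit false
universe w v u
open CategoryTheory CategoryTheory.Limits
open CohDer ZeroObject

namespace Groth.Agent.S0989

/-- Let P be a weak Serre class in an abelian category A: P is closed under isomorphisms, holds for a
zero object, and whenever X₀ → X₁ → X₂ → X₃ → X₄ is exact with P holding for X₀, X₁, X₃, X₄ it holds
for X₂. Then the class of objects of the derived category all of whose cohomology objects satisfy P
is a triangulated subcategory (contains zero, stable under shifts, closed under extensions) which is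
moreover closed under retracts (saturated). -/
theorem result {A : Type u} [Category.{v} A] [Abelian A] [HasDerivedCategory.{w} A]
    (P : ObjectProperty A) [P.IsClosedUnderIsomorphisms] (h0 : ∃ Z : A, IsZero Z ∧ P Z)
    (hP : ∀ S : ComposableArrows A 4, S.Exact → P (S.obj 0) → P (S.obj 1) → P (S.obj 3) → P (S.obj 4) → P (S.obj 2)) :
    ObjectProperty.IsTriangulated (fun X : DerivedCategory A => ∀ n : ℤ, P ((DerivedCategory.homologyFunctor A n).obj X)) ∧
    ObjectProperty.IsStableUnderRetracts (fun X : DerivedCategory A => ∀ n : ℤ, P ((DerivedCategory.homologyFunctor A n).obj X)) := by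
  obtain ⟨Z, hZ, hPZ⟩ := h0
  have hzero : ∀ M : A, IsZero M → P M := fun M hM => P.prop_of_iso (hZ.iso hM) hPZ
  -- retracts
  have hretr : ∀ {M N : A} (i : M ⟶ N) (r : N ⟶ M), i ≫ r = 𝟙 M → P N → P M := by
    intro M N i r hir hN
    have : Mono i := mono_of_mono_fac hir
    have w1 : (0 : Z ⟶ Z) ≫ (0 : Z ⟶ M) = 0 := by simp
    have w2 : (0 : Z ⟶ M) ≫ i = 0 := by simp
    have w3 : i ≫ (𝟙 N - r ≫ i) = 0 := by
      rw [Preadditive.comp_sub, Category.comp_id, ← Category.assoc, hir, Category.id_comp, sub_self]
    have e1 : (ShortComplex.mk _ _ w1).Exact := ShortComplex.exact_of_isZero_X₂ _ hZ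
    have e2 : (ShortComplex.mk _ _ w2).Exact :=
      (ShortComplex.exact_iff_mono _ rfl).2 (by dsimp; infer_instance)
    have e3 : (ShortComplex.mk _ _ w3).Exact := by
      apply ShortComplex.exact_of_f_is_kernel
      exact KernelFork.IsLimit.ofι _ _ (fun {W} g hg => g ≫ r)
        (fun {W} g hg => by
          dsimp at hg ⊢
          rw [Preadditive.comp_sub, Category.comp_id, sub_eq_zero] at hg
          rw [Category.assoc, ← hg])
        (fun {W} g hg b hb => by
          dsimp at hb ⊢
          rw [← hb, Category.assoc, hir, Category.comp_id])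
    have hS : (ComposableArrows.mk₄ (0 : Z ⟶ Z) (0 : Z ⟶ M) i (𝟙 N - r ≫ i)).Exact :=
      ComposableArrows.exact_of_δ₀ e1.exact_toComposableArrows
        (ComposableArrows.exact_of_δ₀ e2.exact_toComposableArrows e3.exact_toComposableArrows)
    exact hP _ hS hPZ hPZ hN hN
  -- shift stability
  have hshift : ∀ (X : DerivedCategory A) (m : ℤ),
      (∀ n : ℤ, P ((DerivedCategory.homologyFunctor A n).obj X)) →
      ∀ n : ℤ, P ((DerivedCategory.homologyFunctor A n).obj ((shiftFunctor _ m).obj X)) := by
    intro X m hX n
    exact P.prop_of_iso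
      (((DerivedCategory.homologyFunctor A 0).shiftIso m n (m + n) rfl).app X).symm (hX (m + n))
  refine ⟨@ObjectProperty.IsTriangulated.mk _ _ _ _ _ _ _ _ ⟨?_⟩ ⟨fun m => ⟨?_⟩⟩ ⟨?_⟩, ⟨?_⟩⟩
  · exact ⟨0, isZero_zero _, fun n =>
      hzero _ (Functor.map_isZero _ (isZero_zero _))⟩
  · intro X hX
    exact hshift X m hX
  · intro T hT h₁ h₃
    refine ObjectProperty.le_isoClosure _ _ (fun n => ?_)
    have hT' := Pretriangulated.inv_rot_of_distTriang _ hT
    have hex := (DerivedCategory.homologyFunctor A 0).homologySequenceComposableArrows₅_exact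
      _ hT' n (n + 1) rfl
    have h₃' := hshift _ (-1) h₃
    exact hP _ hex.δlast (h₃' n) (h₁ n) (h₃' (n + 1)) (h₁ (n + 1))
  · intro X Y h hY n
    exact hretr ((DerivedCategory.homologyFunctor A n).map h.i)
      ((DerivedCategory.homologyFunctor A n).map h.r)
      (by rw [← Functor.map_comp, h.retract, CategoryTheory.Functor.map_id]) (hY n)

end Groth.Agent.S0989
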