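import Groth.Statements.S0992
import Groth.Agent.H5.LimitAcyclic
import Groth.Agent.H5.LimitComplexAb
import Mathlib.Algebra.Homology.ShortComplex.Ab

set_option autoImplicit false
universe w
open CategoryTheory CategoryTheory.Limits Opposite
open CohDer

namespace Groth.Agent.S0992

/-- Let I be a well-ordered type and K : Iᵒᵖ ⥤ CochainComplex Ab an inverse system of acyclic complexes
of abelian groups such that for every β and every degree n, each family of elements of the Kⁿ_γ (γ <
β) compatible under the transition maps lifts to an element of Kⁿ_β (i.e. Kⁿ_β → lim_{γ<β} Kⁿ_γ is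
surjective). Then the limit complex lim K is acyclic. -/
theorem result {I : Type w} [LinearOrder I] [WellFoundedLT I]
    (K : Iᵒᵖ ⥤ CochainComplex AddCommGrpCat.{w} ℤ)
    (hac : ∀ (β : I) (n : ℤ), (K.obj (op β)).ExactAt n)
    (hsurj : ∀ (β : I) (n : ℤ) (x : ∀ γ : {γ : I // γ < β}, (K.obj (op γ.1)).X n),
      (∀ (γ γ' : {γ : I // γ < β}) (h : γ.1 ≤ γ'.1), ((K.map (homOfLE h).op).f n).hom (x γ') = x γ) →
      ∃ y : (K.obj (op β)).X n, ∀ γ : {γ : I // γ < β}, ((K.map (homOfLE γ.2.le).op).f n).hom y = x γ)
    (n : ℤ) : (limit K).ExactAt n := by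
  open Groth.Agent.H5.LimitAcyclic Groth.Agent.H5.LimitComplexAb in
  let X : I → ℤ → Type w := fun β m => (K.obj (op β)).X m
  let d : ∀ β (i j : ℤ), X β i →+ X β j := fun β i j => ((K.obj (op β)).d i j).hom
  let r : ∀ {γ β : I}, γ ≤ β → ∀ m, X β m →+ X γ m :=
    fun {γ β} h m => ((K.map (homOfLE h).op).f m).hom
  have H : Hyp X d r :=
    { r_refl := by
        intro β m x
        have h1 : (homOfLE (le_refl β)).op = 𝟙 (op β) := Subsingleton.elim _ _
        change ((K.map (homOfLE (le_refl β)).op).f m).hom x = x
        rw [h1, K.map_id]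
        rfl
      r_trans := by
        intro a b c h1 h2 m x
        change ((K.map (homOfLE h1).op).f m).hom (((K.map (homOfLE h2).op).f m).hom x) =
          ((K.map (homOfLE (h1.trans h2)).op).f m).hom x
        have h3 : (homOfLE (h1.trans h2)).op = (homOfLE h2).op ≫ (homOfLE h1).op :=
          Subsingleton.elim _ _
        rw [h3, K.map_comp]
        rfl
      r_d := by
        intro γ β h i j x
        change ((K.map (homOfLE h).op).f j).hom (((K.obj (op β)).d i j).hom x) =
          ((K.obj (op γ)).d i j).hom (((K.map (homOfLE h).op).f i).hom x)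
        have := (K.map (homOfLE h).op).comm i j
        have h2 := congrArg (fun φ => φ.hom x) this
        exact h2.symm
      d_d := by
        intro β i j k x
        change ((K.obj (op β)).d j k).hom (((K.obj (op β)).d i j).hom x) = 0
        have := (K.obj (op β)).d_comp_d i j k
        exact congrArg (fun φ => φ.hom x) this
      ex := by
        intro β i j k hij hjk z hz
        have h1 := hac β j
        rw [HomologicalComplex.exactAt_iff' _ i j k (by simp; omega) (by simp; omega),
          ShortComplex.ab_exact_iff] at h1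
        exact h1 z hz
      surj := by
        intro β m x hx
        obtain ⟨y, hy⟩ := hsurj β m (fun γ => x γ.1 γ.2)
          (fun γ γ' h => hx γ.1 γ'.1 γ.2 γ'.2 h)
        exact ⟨y, fun γ hγ => hy ⟨γ, hγ⟩⟩ }
  rw [HomologicalComplex.exactAt_iff' _ (n - 1) n (n + 1) (by simp) (by simp),
    ShortComplex.ab_exact_iff]
  intro z hz
  have hzc : ∀ (γ β : I) (h : γ ≤ β),
      r h n (((limit.π K (op β)).f n).hom z) = ((limit.π K (op γ)).f n).hom z := by
    intro γ β h
    have := limit.w K (homOfLE h).op
    exact congrArg (fun φ => (φ.f n).hom z) this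
  have hzd : ∀ β, d β n (n + 1) (((limit.π K (op β)).f n).hom z) = 0 := by
    intro β
    have h1 := (limit.π K (op β)).comm n (n + 1)
    have h2 := congrArg (fun φ => φ.hom z) h1
    change ((K.obj (op β)).d n (n + 1)).hom (((limit.π K (op β)).f n).hom z) = 0
    have h3 : ((limit K).d n (n + 1)).hom z = 0 := hz
    have h4 : ((limit.π K (op β)).f (n + 1)).hom (((limit K).d n (n + 1)).hom z) =
        ((K.obj (op β)).d n (n + 1)).hom (((limit.π K (op β)).f n).hom z) := h2.symm
    rw [← h4, h3, map_zero]
  obtain ⟨y, hyc, hyd⟩ := exists_primitive H (n - 1) n (n + 1) (by omega) rfl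
    (fun β => ((limit.π K (op β)).f n).hom z) hzc hzd
  obtain ⟨y', hy'⟩ := lim_exists K (n - 1) (fun j => y j.unop)
    (by
      intro j j' f
      have h : j'.unop ≤ j.unop := leOfHom f.unop
      have hf : f = (homOfLE h).op := Subsingleton.elim _ _
      rw [hf]
      exact hyc j'.unop j.unop h)
  refine ⟨y', ?_⟩
  apply lim_ext K n
  intro j
  have h1 := (limit.π K j).comm (n - 1) n
  have h2 := congrArg (fun φ => φ.hom y') h1
  have h3 : ((limit.π K j).f n).hom (((limit K).d (n - 1) n).hom y') =
      ((K.obj j).d (n - 1) n).hom (((limit.π K j).f (n - 1)).hom y') := h2.symm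
  change ((limit.π K j).f n).hom (((limit K).d (n - 1) n).hom y') = ((limit.π K j).f n).hom z
  rw [h3]
  have h5 : ((limit.π K j).f (n - 1)).hom y' = y j.unop := hy' j
  rw [h5]
  exact hyd j.unop

end Groth.Agent.S0992
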