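import Groth.Statements.S0999
import Groth.Agent.H16.RpushBound
import Groth.Agent.H16.RpushCover

set_option autoImplicit false
universe u
open CategoryTheory CategoryTheory.Limits AlgebraicGeometry
attribute [local instance] HasDerivedCategory.standard
open Perf

namespace Groth.Agent.S0999

/-- Let f : X ⟶ S be quasi-compact and quasi-separated with S quasi-compact, and assume Rf_* exists on
the unbounded derived category. There is an integer N such that for every E ∈ D_QCoh(O_X) whose
cohomology sheaves vanish in positive degrees, Hᵐ(Rf_*E) = 0 for all m ≥ N. -/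
theorem result {X S : Scheme.{u}} (f : X ⟶ S) [QuasiCompact f] [QuasiSeparated f] [CompactSpace ↥S]
    [DCoh.HasRpush f] :
    ∃ N : ℤ, ∀ (E : DCoh.D X), DCoh.IsQCohD E → E.IsLE 0 → ∀ m : ℤ, N ≤ m → IsZero (DCoh.HD ((DCoh.Rpush f).obj E) m) := by
  obtain ⟨N₀, B, hN₀, hB, hvan⟩ := Groth.Agent.H16.RpushCover.exists_uniform_bound f
  refine ⟨(N₀ : ℤ) + 1, fun E hE hLE m hm => ?_⟩
  have hb : ∀ i : ℤ, 0 < i → IsZero (DCoh.HD E i) := fun i hi =>
    (DerivedCategory.isLE_iff E 0).1 hLE i hi
  exact Groth.Agent.H16.RpushBound.isZero_HD_Rpush f N₀ hN₀ B hB hvan E hE 0 hb m (by omega)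

end Groth.Agent.S0999
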