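import Groth.Statements.S10047
import Groth.Agent.H53.Deform.LocFin

set_option autoImplicit false
universe u
open CategoryTheory CategoryTheory.Limits AlgebraicGeometry
open AlgSp

namespace Groth.Agent.S10047

/-- Let `f : X ⟶ B` and `g : B' ⟶ B` be morphisms of algebraic spaces over `S` with `g` a closed
immersion inducing a bijection on points, and suppose the base change `X ×_B B' ⟶ B'` is a closed
immersion. If `f` is of finite type or `g` is of finite presentation, then `f` is a closed
immersion. -/
theorem result (S : Scheme.{u}) {X B B' : AlgSp.Space S}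
    (f : X ⟶ B) (g : B' ⟶ B) (hg : AlgSp.RepWith @IsClosedImmersion g.hom)
    (hbij : Function.Bijective (AlgSp.Points.map g.hom))
    (X' : AlgSp.Sp S) (fst : X' ⟶ X.obj) (snd : X' ⟶ B'.obj) (hX' : IsPullback fst snd f.hom g.hom)
    (hsnd : AlgSp.RepWith @IsClosedImmersion snd)
    (hor : AlgSp.IsFiniteTypeMor f.hom ∨ AlgSp.IsFinitePresentationMor g.hom) :
    AlgSp.RepWith @IsClosedImmersion f.hom := by
  have hgs : AlgSp.RepWith @Surjective g.hom :=
    Groth.Agent.H51.repWith_surjective_of_surjective_map g.hom hg.1 hbij.2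
  have hgthick : AlgSp.IsThickMor g.hom := by
    rw [AlgSp.IsThickMor, AlgSp.repWith_iff]
    exact ⟨hg.1, fun U V t fst₀ snd₀ sq =>
      ⟨hg.property t fst₀ snd₀ sq, hgs.property t fst₀ snd₀ sq⟩⟩
  have hX'alg : AlgSp.IsAlgSpace X' :=
    Groth.Agent.H49.isAlgSpace_of_isPullback hX' B.property.diag X.property B'.property
  let X'' : AlgSp.Space S := ⟨X', hX'alg⟩
  let fstS : X'' ⟶ X := ObjectProperty.homMk fst
  let sndS : X'' ⟶ B' := ObjectProperty.homMk snd
  have hfstthick : AlgSp.IsThickMor fst :=
    Groth.Agent.H53.isThickMor_of_isPullback hX'.flip hgthick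
  have w : fstS ≫ f = sndS ≫ g := ObjectProperty.hom_ext _ hX'.w
  have key : AlgSp.LocP @LocallyOfFiniteType f.hom → AlgSp.RepWith @IsClosedImmersion f.hom :=
    fun hft => Groth.Agent.H53.Deform.repWith_isClosedImmersion_of_thick fstS g sndS f hfstthick
      hgthick w hX' hft hsnd
  rcases hor with ⟨hft, -⟩ | ⟨hlfp, -, -⟩
  · exact key hft
  · refine key ?_
    have hsndft : AlgSp.LocP @LocallyOfFiniteType snd := by
      refine Groth.Agent.H50.locP_of_repWith _ Groth.Agent.H50.goodClass_lft.etale_le snd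
        (Groth.Agent.H49.repWith_of_le ?_ hsnd)
      intro A C k hk
      have : IsClosedImmersion k := hk
      infer_instance
    refine Groth.Agent.H53.Deform.locP_lft_of_locFinThick hfstthick ?_ hgthick hX' hsndft
    intro V W b fst₀ snd₀ hV hb sq
    have sq2 : IsPullback ((AlgSp.yon S).map snd₀) (fst₀ ≫ snd) (b ≫ f.hom) g.hom :=
      sq.flip.paste_vert hX'
    have h1 : IsClosedImmersion snd₀.left := hg.property (b ≫ f.hom) (fst₀ ≫ snd) snd₀ sq2.flip
    have h2 : Surjective snd₀.left := hgs.property (b ≫ f.hom) (fst₀ ≫ snd) snd₀ sq2.flip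
    have h3 : LocallyOfFinitePresentation snd₀.left :=
      AlgSp.locP_yon_map (Groth.Agent.H50.goodClass_lfp.locP_of_isPullback B'.property B.property
        (AlgSp.IsAlgSpace.yon_obj V) g.hom (b ≫ f.hom) (fst₀ ≫ snd) ((AlgSp.yon S).map snd₀)
        sq2.flip hlfp)
    have : IsAffine V.left := hV
    exact Groth.Agent.H53.Deform.exists_powZero_of_lfp snd₀.left

end Groth.Agent.S10047
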