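import Groth.Statements.S10057
import Groth.Agent.H50.LimPts

set_option autoImplicit false
universe u
open CategoryTheory CategoryTheory.Limits AlgebraicGeometry
open AlgSp

namespace Groth.Agent.S10057

/-- Let `X` be the limit, in fppf sheaves over `S`, of a cofiltered system `(X_i)` of decent algebraic
spaces over `S` with affine transition morphisms. Then `|X| = lim |X_i|` as sets: the projections
separate the points of `X`, and every compatible family of points `(x_i ∈ |X_i|)` comes from a point
of `X`. -/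
theorem result (S : Scheme.{u}) {I : Type u} [SmallCategory I] [IsCofiltered I]
    (D : I ⥤ AlgSp.Sp S) (hD : ∀ i, AlgSp.IsAlgSpace (D.obj i))
    (hDa : ∀ (i j : I) (φ : i ⟶ j), AlgSp.IsAffineMor (D.map φ))
    (c : Cone D) (hc : IsLimit c)
    (hdec : ∀ i, AlgSp.IsDecent (D.obj i)) :
    (∀ x x' : AlgSp.Points c.pt, (∀ i, AlgSp.Points.map (c.π.app i) x = AlgSp.Points.map (c.π.app i) x') → x = x') ∧
    (∀ s : ∀ i, AlgSp.Points (D.obj i), (∀ (i j : I) (φ : i ⟶ j), AlgSp.Points.map (D.map φ) (s i) = s j) →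
      ∃ x : AlgSp.Points c.pt, ∀ i, AlgSp.Points.map (c.π.app i) x = s i) := by
  refine ⟨fun x x' h => ?_, fun s hs => ?_⟩
  · obtain ⟨y, -, hy⟩ := Groth.Agent.H50.exists_unique_point_of_isLimit c hc hdec
      (fun i => AlgSp.Points.map (c.π.app i) x) (fun i j φ => by
        rw [← AlgSp.Points.map_comp, c.w])
    rw [hy x fun i => rfl, hy x' fun i => (h i).symm]
  · obtain ⟨x, hx, -⟩ := Groth.Agent.H50.exists_unique_point_of_isLimit c hc hdec s hs
    exact ⟨x, hx⟩

end Groth.Agent.S10057
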