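import Groth.Statements.S10096
import Groth.Agent.H50.Fppf
set_option backward.isDefEq.respectTransparency false

set_option autoImplicit false
universe u
open CategoryTheory CategoryTheory.Limits AlgebraicGeometry
open AlgSp

namespace Groth.Agent.S10096

/-- Let `a : F ⟶ G` be a map of fppf sheaves of sets over `S` that is flat, surjective, locally of
finite presentation and representable by algebraic spaces (every base change `h_U ×_G F ⟶ h_U` to a
scheme is such a morphism of algebraic spaces). Then `a` is surjective as a map of sheaves (an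
epimorphism of fppf sheaves). -/
theorem result (S : Scheme.{u}) (F G : AlgSp.Sp S) (a : F ⟶ G)
    (ha : AlgSp.RepBySpWith (AlgSp.IsSurjectiveMor ⊓ AlgSp.LocP @Flat ⊓ AlgSp.LocP @LocallyOfFinitePresentation) a.hom) :
    Epi a := by
  rw [AlgSp.repBySpWith_hom_iff] at ha
  apply Groth.Agent.H50.epi_of_exists_local_lift
  intro T ξ
  obtain ⟨hP, hQ⟩ := ha ξ (pullback.fst a ξ) (pullback.snd a ξ) (IsPullback.of_hasPullback a ξ)
  obtain ⟨⟨hsurj, hflat⟩, hlfp⟩ := hQ
  obtain ⟨U, p, hpe, hps⟩ := hP.atlas
  obtain ⟨g, hg⟩ := (AlgSp.yon S).map_surjective (p ≫ pullback.snd a ξ)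
  have hgflat : Flat g.left :=
    hflat p (𝟙 _) g hpe (AlgSp.repWith_id _ T) (by rw [hg, Category.comp_id])
  have hglfp : LocallyOfFinitePresentation g.left :=
    hlfp p (𝟙 _) g hpe (AlgSp.repWith_id _ T) (by rw [hg, Category.comp_id])
  have hgsurj : Surjective g.left := by
    constructor
    intro t
    obtain ⟨z, hz⟩ := hsurj (AlgSp.Points.schemeHomeo T t)
    obtain ⟨y, rfl⟩ := Groth.Agent.H50.surjective_points_of_repWith_surjective p hps z
    obtain ⟨u, rfl⟩ := (AlgSp.Points.schemeHomeo U).surjective y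
    rw [← AlgSp.Points.map_comp, ← hg, AlgSp.Points.map_yon_map_apply] at hz
    exact ⟨u, (AlgSp.Points.schemeHomeo T).injective hz⟩
  refine ⟨_, Groth.Agent.H50.generate_singleton_mem_J g, ?_⟩
  rintro T' k ⟨_, l, _, ⟨_⟩, rfl⟩
  refine ⟨(AlgSp.yon S).map l ≫ p ≫ pullback.fst a ξ, ?_⟩
  rw [Category.assoc, Category.assoc, pullback.condition, ← Category.assoc p, ← hg,
    ← Functor.map_comp_assoc]

end Groth.Agent.S10096
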