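import Groth.Statements.S10098
import Groth.Agent.H65.FppfDescScheme
import Groth.Agent.H53.ZMT.LqfSep2
-- import your own Groth.Agent.* helpers here

set_option autoImplicit false
universe u
open CategoryTheory CategoryTheory.Limits AlgebraicGeometry
open AlgSp

namespace Groth.Agent.S10098

/-- Let `E = H ×_G F` be a cartesian square of fppf sheaves of sets over `S`, with `a : E ⟶ F`, `f : E ⟶
H`, `g : F ⟶ G`, `b : H ⟶ G`. Suppose that `a` and `g` are both representable by algebraic spaces,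
that `g` is flat, surjective and locally of finite presentation, and that `a` is separated and
locally quasi-finite. Under these assumptions `b` is representable by schemes, separated, and
locally quasi-finite. -/
theorem result (S : Scheme.{u}) (E F G H : AlgSp.Sp S)
    (a : E ⟶ F) (f : E ⟶ H) (g : F ⟶ G) (b : H ⟶ G) (sq : IsPullback a f g b)
    (hg : AlgSp.RepBySpWith (AlgSp.IsSurjectiveMor ⊓ AlgSp.LocP @Flat ⊓ AlgSp.LocP @LocallyOfFinitePresentation) g.hom)
    (ha : AlgSp.RepBySpWith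
      (AlgSp.IsSeparatedMor ⊓ AlgSp.LocP (@LocallyQuasiFinite ⊓ @LocallyOfFiniteType)) a.hom) :
    AlgSp.RepWith @IsSeparated b ∧ AlgSp.RepWith (@LocallyQuasiFinite ⊓ @LocallyOfFiniteType) b := by
  have key : ∀ ⦃T : Over S⦄ (ξ : (AlgSp.yon S).obj T ⟶ G), ∃ (G₀ : Over S)
      (fst : (AlgSp.yon S).obj G₀ ⟶ H) (γ : G₀ ⟶ T), IsPullback fst ((AlgSp.yon S).map γ) b ξ ∧
      IsSeparated γ.left ∧ LocallyQuasiFinite γ.left ∧ LocallyOfFiniteType γ.left := by
    intro T ξ
    -- the base change of `g`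
    have sqF : IsPullback (pullback.fst g ξ) (pullback.snd g ξ) g ξ := IsPullback.of_hasPullback _ _
    obtain ⟨h, hA, hQ⟩ := hg ξ.hom _ _ (sqF.map (sheafToPresheaf (AlgSp.J S) (Type (u + 1))))
    have hA' : AlgSp.IsAlgSpace (pullback g ξ) := hA
    have hsurj : AlgSp.IsSurjectiveMor (pullback.snd g ξ) := hQ.1.1
    have hflat : AlgSp.LocP @Flat (pullback.snd g ξ) := hQ.1.2
    have hfp : AlgSp.LocP @LocallyOfFinitePresentation (pullback.snd g ξ) := hQ.2
    obtain ⟨F₀, c₀, hcE, hcS⟩ := hA'.atlas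
    obtain ⟨c, hc⟩ := (AlgSp.yon S).map_surjective (c₀ ≫ pullback.snd g ξ)
    have hcomp : c₀ ≫ pullback.snd g ξ = (AlgSp.yon S).map c ≫ 𝟙 _ := by
      rw [hc, Category.comp_id]
    have hcfl : Flat c.left := hflat _ (𝟙 _) c hcE (AlgSp.repWith_id _ T) hcomp
    have hcfp : LocallyOfFinitePresentation c.left := hfp _ (𝟙 _) c hcE (AlgSp.repWith_id _ T) hcomp
    have hcs : Surjective c.left := by
      refine ⟨fun t => ?_⟩
      obtain ⟨y, hy⟩ := hsurj (AlgSp.Points.ofScheme T t)
      obtain ⟨u, rfl⟩ := Groth.Agent.H53.exists_ofPt_eq_of_repWith_surjective _ hcS y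
      refine ⟨u, ?_⟩
      rw [AlgSp.Points.map_ofPt, hcomp, Category.comp_id] at hy
      have := congrArg (AlgSp.Points.toScheme T) hy
      rwa [AlgSp.Points.toScheme_ofPt, AlgSp.Points.toScheme_ofScheme] at this
    -- the base change of `a`
    set η : (AlgSp.yon S).obj F₀ ⟶ F := c₀ ≫ pullback.fst g ξ with hη
    have hηg : η ≫ g = (AlgSp.yon S).map c ≫ ξ := by
      rw [hη, Category.assoc, sqF.w, ← Category.assoc, hc]
    have sqE : IsPullback (pullback.fst a η) (pullback.snd a η) a η := IsPullback.of_hasPullback _ _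
    obtain ⟨h', hE, hQ'⟩ := ha η.hom _ _ (sqE.map (sheafToPresheaf (AlgSp.J S) (Type (u + 1))))
    have hE' : AlgSp.IsAlgSpace (pullback a η) := hE
    have hsepE : AlgSp.IsSeparatedMor (pullback.snd a η) := hQ'.1
    have hqfE : AlgSp.LocP (@LocallyQuasiFinite ⊓ @LocallyOfFiniteType) (pullback.snd a η) := hQ'.2
    obtain ⟨V', ⟨e'⟩⟩ :=
      Groth.Agent.H53.ZMT.exists_iso_yon_of_lqf_separated hE' (pullback.snd a η) hsepE hqfE
    obtain ⟨a', ha'⟩ := (AlgSp.yon S).map_surjective (e'.hom ≫ pullback.snd a η)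
    have ha'sep : IsSeparated a'.left := by
      rw [← AlgSp.isSeparatedMor_yon_map_iff, ha']
      have sqI : IsPullback e'.hom (e'.hom ≫ pullback.snd a η) (pullback.snd a η) (𝟙 _) :=
        IsPullback.of_horiz_isIso ⟨by simp⟩
      exact Groth.Agent.H53.ZMT.isSeparatedMor_of_isPullback sqI hsepE
    have ha'q : (@LocallyQuasiFinite ⊓ @LocallyOfFiniteType : MorphismProperty Scheme.{u}) a'.left :=
      hqfE e'.hom (𝟙 _) a' ((AlgSp.RepWith @Etale).of_isIso e'.hom) (AlgSp.repWith_id _ F₀) (by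
        rw [ha', Category.comp_id])
    -- the descent square
    have sqH : IsPullback (pullback.fst b ξ) (pullback.snd b ξ) b ξ := IsPullback.of_hasPullback _ _
    have outer₀ := sqE.paste_horiz sq.flip
    have outer : IsPullback (e'.hom ≫ pullback.fst a η ≫ f) ((AlgSp.yon S).map a') b
        ((AlgSp.yon S).map c ≫ ξ) := by
      rw [← hηg, ha']
      exact IsPullback.of_iso outer₀ e'.symm (Iso.refl _) (Iso.refl _) (Iso.refl _) (by simp)
        (by simp) (by simp) (by simp)
    let t : (AlgSp.yon S).obj V' ⟶ pullback b ξ :=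
      pullback.lift (e'.hom ≫ pullback.fst a η ≫ f) ((AlgSp.yon S).map a' ≫ (AlgSp.yon S).map c) (by
        rw [outer.w, Category.assoc])
    have ht1 : t ≫ pullback.fst b ξ = e'.hom ≫ pullback.fst a η ≫ f := pullback.lift_fst _ _ _
    have ht2 : t ≫ pullback.snd b ξ = (AlgSp.yon S).map a' ≫ (AlgSp.yon S).map c :=
      pullback.lift_snd _ _ _
    have sqD : IsPullback t ((AlgSp.yon S).map a') (pullback.snd b ξ) ((AlgSp.yon S).map c) := by
      refine IsPullback.of_right ?_ ht2 sqH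
      rw [ht1]
      exact outer
    obtain ⟨G₀, e, γ, heγ, h1, h2, h3⟩ := Groth.Agent.H65.FppfDesc.exists_rep_of_fppf_descent
      (pullback.snd b ξ) (fun _ : PUnit.{u + 1} => F₀) (fun _ => V') (fun _ => c) (fun _ => hcfl)
      (fun _ => hcfp) (fun y => ⟨PUnit.unit, hcs.surj y⟩) (fun _ => a') (fun _ => ha'sep)
      (fun _ => ha'q.1) (fun _ => ha'q.2) (fun _ => t) (fun _ => sqD)
    have sqL : IsPullback e.hom (e.hom ≫ pullback.snd b ξ) (pullback.snd b ξ) (𝟙 _) :=
      IsPullback.of_horiz_isIso ⟨by simp⟩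
    have sqB := sqL.paste_horiz sqH
    rw [Category.id_comp, heγ] at sqB
    exact ⟨G₀, e.hom ≫ pullback.fst b ξ, γ, sqB, h1, h2, h3⟩
  constructor
  · refine MorphismProperty.relative.of_exists fun T ξ => ?_
    obtain ⟨G₀, fst, γ, sq', h1, -, -⟩ := key ξ
    exact ⟨G₀, fst, γ, sq', h1⟩
  · refine MorphismProperty.relative.of_exists fun T ξ => ?_
    obtain ⟨G₀, fst, γ, sq', -, h2, h3⟩ := key ξ
    exact ⟨G₀, fst, γ, sq', ⟨h2, h3⟩⟩

end Groth.Agent.S10098
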