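import Groth.Statements.S10099
import Groth.Agent.H65.BootDiag
-- import your own Groth.Agent.* helpers here

set_option autoImplicit false
universe u
open CategoryTheory CategoryTheory.Limits AlgebraicGeometry
open AlgSp

namespace Groth.Agent.S10099

/-- Let `F` be an fppf sheaf of sets over `S` and `X ⟶ F` a map from an algebraic space that is
representable by algebraic spaces and is flat, surjective and locally of finite presentation. It
follows that the diagonal `F ⟶ F × F` is representable (by schemes). -/
theorem result (S : Scheme.{u}) (F : AlgSp.Sp S) (X : AlgSp.Space S)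
    (p : X.obj ⟶ F) (hp : AlgSp.RepBySpWith (AlgSp.IsSurjectiveMor ⊓ AlgSp.LocP @Flat ⊓ AlgSp.LocP @LocallyOfFinitePresentation) p.hom) :
    AlgSp.Representable (Limits.diag F) := by
  refine Functor.relativelyRepresentable.diag_of_map_from_obj fun T a T' b => ?_
  obtain ⟨G, e, γ, -, -, -⟩ := Groth.Agent.H65.BootDiag.exists_iso_yon_pullback X.property p hp a b
  have sq : IsPullback (pullback.fst a b) (pullback.snd a b) a b := IsPullback.of_hasPullback a b
  obtain ⟨s, hs'⟩ := (AlgSp.yon S).map_surjective (e.hom ≫ pullback.snd a b)
  have sqL : IsPullback e.hom (e.hom ≫ pullback.snd a b) (pullback.snd a b) (𝟙 _) :=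
    IsPullback.of_horiz_isIso ⟨by simp⟩
  have sqB := sqL.paste_horiz sq
  rw [Category.id_comp, ← hs'] at sqB
  exact ⟨G, s, e.hom ≫ pullback.fst a b, sqB⟩

end Groth.Agent.S10099
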