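import Groth.Statements.S10100
import Groth.Agent.S10613
import Groth.Agent.H50.RepBySp

set_option autoImplicit false
universe u
open CategoryTheory CategoryTheory.Limits AlgebraicGeometry
open AlgSp

namespace Groth.Agent.S10100

/-- Let `F` be a presheaf of sets on schemes over `S`, `X` a scheme over `S` and `h_X ⟶ F` a map which
is representable by algebraic spaces and locally quasi-finite. Then `h_X ⟶ F` is representable by
schemes. -/
theorem result (S : Scheme.{u}) (F : AlgSp.PSp S) (X : Over S)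
    (p : (AlgSp.pyon S).obj X ⟶ F)
    (hp : AlgSp.RepBySpWith (AlgSp.LocP (@LocallyQuasiFinite ⊓ @LocallyOfFiniteType)) p) :
    (AlgSp.pyon S).relativelyRepresentable p := by
  intro T ξ
  have sq : IsPullback (pullback.fst p ξ) (pullback.snd p ξ) p ξ := IsPullback.of_hasPullback _ _
  obtain ⟨h, hA, hQ⟩ := hp ξ _ _ sq
  set E : AlgSp.Sp S := ⟨pullback p ξ, h⟩ with hE
  let fstS : E ⟶ (AlgSp.yon S).obj X := ObjectProperty.homMk (pullback.fst p ξ)
  let sndS : E ⟶ (AlgSp.yon S).obj T := ObjectProperty.homMk (pullback.snd p ξ)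
  -- the monomorphism to the product
  let m : E ⟶ (AlgSp.yon S).obj (X ⨯ T) :=
    prod.lift fstS sndS ≫ inv (prodComparison (AlgSp.yon S) X T)
  have hm1 : m ≫ (AlgSp.yon S).map (prod.fst : X ⨯ T ⟶ X) = fstS := by
    rw [Category.assoc, ← prodComparison_fst, IsIso.inv_hom_id_assoc, prod.lift_fst]
  have hm2 : m ≫ (AlgSp.yon S).map (prod.snd : X ⨯ T ⟶ T) = sndS := by
    rw [Category.assoc, ← prodComparison_snd, IsIso.inv_hom_id_assoc, prod.lift_snd]
  have hmono : Mono m := by
    refine ⟨fun {Z} u v huv => ?_⟩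
    have e1 : u ≫ fstS = v ≫ fstS := by rw [← hm1, ← Category.assoc, huv, Category.assoc]
    have e2 : u ≫ sndS = v ≫ sndS := by rw [← hm2, ← Category.assoc, huv, Category.assoc]
    apply ObjectProperty.hom_ext
    apply sq.hom_ext
    · exact congrArg (fun w => w.hom) e1
    · exact congrArg (fun w => w.hom) e2
  have hlft : AlgSp.LocP @LocallyOfFiniteType m := by
    intro U V a b k ha hb hcomm
    obtain ⟨b', rfl⟩ := (AlgSp.yon S).map_surjective b
    have h1 := hQ a (𝟙 _) (k ≫ b' ≫ prod.snd) ha (AlgSp.repWith_id _ T) (by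
      rw [Category.comp_id, Functor.map_comp, Functor.map_comp, ← Category.assoc, ← hcomm,
        Category.assoc, hm2])
    have h2 : LocallyOfFiniteType (k.left ≫ (b' ≫ prod.snd).left) := h1.2
    exact locallyOfFiniteType_of_comp k.left (b' ≫ prod.snd).left
  obtain ⟨hrep, -, -⟩ := (Groth.Agent.S10613.result
    (X := ⟨E, hA⟩) (Y := (AlgSp.ofScheme S).obj (X ⨯ T)) (ObjectProperty.homMk m)).2.2.2
    ⟨hlft, hmono⟩
  obtain ⟨W, s, fst', sq'⟩ := hrep (𝟙 ((AlgSp.yon S).obj (X ⨯ T)))
  have sq'' : IsPullback fst' ((AlgSp.yon S).map s) m (𝟙 ((AlgSp.yon S).obj (X ⨯ T))) := sq'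
  have hiso : IsIso fst' := sq''.isIso_fst_of_isIso
  have hfs : fst' ≫ m = (AlgSp.yon S).map s := by
    rw [sq''.w, Category.comp_id]
  let φ : (AlgSp.pyon S).obj W ⟶ pullback p ξ := fst'.hom
  have hisoP : IsIso φ := by
    have : IsIso ((ObjectProperty.ι _).map fst') := inferInstance
    exact this
  have hsnd : φ ≫ pullback.snd p ξ = (AlgSp.pyon S).map (s ≫ prod.snd) := by
    have : fst' ≫ sndS = (AlgSp.yon S).map (s ≫ prod.snd) := by
      rw [← hm2, ← Category.assoc, hfs, ← Functor.map_comp]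
    exact congrArg (fun w => w.hom) this
  have sqL : IsPullback φ (φ ≫ pullback.snd p ξ) (pullback.snd p ξ) (𝟙 _) :=
    IsPullback.of_horiz_isIso ⟨by simp⟩
  have sqB := sqL.paste_horiz sq
  rw [Category.id_comp, hsnd] at sqB
  exact ⟨W, s ≫ prod.snd, φ ≫ pullback.fst p ξ, sqB⟩

end Groth.Agent.S10100
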