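import Groth.Statements.S10105
import Groth.Agent.H64.Boot6.FppfLocal
import Mathlib.CategoryTheory.Sites.PreservesLimits

set_option autoImplicit false
universe u
open CategoryTheory CategoryTheory.Limits AlgebraicGeometry
open AlgSp

namespace Groth.Agent.S10105

/-- Let `F` be an fppf sheaf of sets over `S` and `{S_i ⟶ S}` an fppf covering. If every `h_{S_i} × F`
is an algebraic space and the coproduct `∐ h_{S_i} × F` (in sheaves) is an algebraic space, then `F`
is an algebraic space: being an algebraic space is fppf local on the base. -/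
theorem result (S : Scheme.{u}) (F : AlgSp.Sp S) {ι : Type u} (Si : ι → Over S)
    (hfl : ∀ i, Flat (Si i).hom) (hfp : ∀ i, LocallyOfFinitePresentation (Si i).hom)
    (hsurj : ∀ x : ↥S, ∃ (i : ι) (y : ↥(Si i).left), (Si i).hom.base y = x)
    (halg : ∀ i, AlgSp.IsAlgSpace ((AlgSp.yon S).obj (Si i) ⨯ F))
    (c : Cofan (fun i => (AlgSp.yon S).obj (Si i) ⨯ F)) (hc : IsColimit c) (hcop : AlgSp.IsAlgSpace c.pt) :
    AlgSp.IsAlgSpace F := by
  have hT : IsTerminal ((AlgSp.yon S).obj (Over.mk (𝟙 S))) :=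
    IsTerminal.isTerminalObj (AlgSp.yon S) _ Over.mkIdTerminal
  let u : ∀ i, Si i ⟶ Over.mk (𝟙 S) := fun i => Over.homMk (Si i).hom (by simp)
  refine Groth.Agent.H64.Boot6.isAlgSpace_of_fppf_cover_schemes Si u hfl hfp
    (fun x => by obtain ⟨i, y, hy⟩ := hsurj x; exact ⟨i, y, hy⟩) F (hT.from F) (fun i => ?_)
  have sq : IsPullback (prod.snd : (AlgSp.yon S).obj (Si i) ⨯ F ⟶ F) prod.fst (hT.from F)
      ((AlgSp.yon S).map (u i)) := by
    have h1 := IsPullback.of_is_product' (prodIsProd F ((AlgSp.yon S).obj (Si i))) hT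
    have h2 : IsPullback (prod.snd : (AlgSp.yon S).obj (Si i) ⨯ F ⟶ F) prod.fst (hT.from F)
        (hT.from ((AlgSp.yon S).obj (Si i))) :=
      IsPullback.of_iso h1 (prod.braiding _ _) (Iso.refl _) (Iso.refl _) (Iso.refl _)
        (by rw [Iso.refl_hom, Category.comp_id, prod.braiding_hom, prod.lift_snd])
        (by rw [Iso.refl_hom, Category.comp_id, prod.braiding_hom, prod.lift_fst])
        (by simp) (by simp)
    have h3 : (AlgSp.yon S).map (u i) = hT.from ((AlgSp.yon S).obj (Si i)) := hT.hom_ext _ _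
    rw [h3]
    exact h2
  exact (halg i).of_iso sq.isoPullback

end Groth.Agent.S10105
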