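import Groth.Statements.S10112
import Groth.Agent.H64.Boot6.FreeAction
import Groth.Agent.S10102
import Groth.Agent.S10107
import Groth.Agent.H65.QuotSpFppf
import Groth.Agent.H50.LocPBase
import Groth.Agent.H53.ZMT.MonoUnram
import Groth.Agent.H49.AlgSpRep

set_option autoImplicit false
universe u
open CategoryTheory CategoryTheory.Limits AlgebraicGeometry MonoidalCategory
open AlgSp

namespace Groth.Agent.S10112

theorem isIso_lift_of_isPullback {C : Type*} [Category C] {P X Y Z : C} {fst : P ⟶ X} {snd : P ⟶ Y}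
    {f : X ⟶ Z} {g : Y ⟶ Z} [HasPullback f g] (h : IsPullback fst snd f g)
    (w : fst ≫ f = snd ≫ g) : IsIso (pullback.lift fst snd w) := by
  have : pullback.lift fst snd w = h.isoPullback.hom := by
    apply pullback.hom_ext
    · rw [pullback.lift_fst, IsPullback.isoPullback_hom_fst]
    · rw [pullback.lift_snd, IsPullback.isoPullback_hom_snd]
  rw [this]
  infer_instance

/-- Let `G` be a group algebraic space over an algebraic space `B`, flat and locally of finite
presentation over `B`, acting freely on an algebraic space `X` over `B`. Then `X/G` is an algebraic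
space, the quotient map `X ⟶ X/G` is flat, surjective and locally of finite presentation, and `(g,
x) ↦ (g x, x)` is an isomorphism `G ×_B X ⟶ X ×_{X/G} X`, so that `X` is an fppf `G`-torsor over
`X/G`. -/
theorem result (S : Scheme.{u}) (B : AlgSp.Sp S) (hB : AlgSp.IsAlgSpace B)
    (G X : Over B) [GrpObj G] (hG : AlgSp.IsAlgSpace G.left) (hX : AlgSp.IsAlgSpace X.left)
    (a : AlgSp.GAction G X) (ha : a.IsFree)
    (hfl : AlgSp.LocP @Flat G.hom ∧ AlgSp.LocP @LocallyOfFinitePresentation G.hom) :
    AlgSp.IsAlgSpace a.quot ∧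
      (AlgSp.IsSurjectiveMor a.quotπ ∧ AlgSp.LocP @Flat a.quotπ ∧ AlgSp.LocP @LocallyOfFinitePresentation a.quotπ) ∧
      IsIso (pullback.lift a.act.left (CartesianMonoidalCategory.snd G X).left
        (AlgSp.quotSp_condition (CartesianMonoidalCategory.snd G X).left a.act.left).symm :
          (G ⊗ X).left ⟶ pullback a.quotπ a.quotπ) := by
  have sq : IsPullback (pullback.fst G.hom X.hom) (pullback.snd G.hom X.hom) G.hom X.hom :=
    IsPullback.of_hasPullback _ _
  have hR : AlgSp.IsAlgSpace (G ⊗ X).left :=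
    Groth.Agent.H49.isAlgSpace_of_isPullback sq hB.diag hG hX
  have hsfl : AlgSp.LocP @Flat (CartesianMonoidalCategory.snd G X).left :=
    Groth.Agent.H50.goodClass_flat.locP_of_isPullback hG hB hX G.hom X.hom _ _ sq hfl.1
  have hsfp : AlgSp.LocP @LocallyOfFinitePresentation (CartesianMonoidalCategory.snd G X).left :=
    Groth.Agent.H50.goodClass_lfp.locP_of_isPullback hG hB hX G.hom X.hom _ _ sq hfl.2
  have hσ : (Groth.Agent.H64.Boot6.shear a).left ≫ (CartesianMonoidalCategory.snd G X).left =
      a.act.left := by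
    rw [← Over.comp_left, Groth.Agent.H64.Boot6.shear_snd]
  have hσiso : IsIso (Groth.Agent.H64.Boot6.shear a).left :=
    (Over.forget B).map_isIso (Groth.Agent.H64.Boot6.shear a)
  have hσE : AlgSp.RepWith @Etale (Groth.Agent.H64.Boot6.shear a).left :=
    Groth.Agent.H53.ZMT.repWith_of_isIso @Etale _
  have htfl : AlgSp.LocP @Flat a.act.left := by
    rw [← hσ]
    exact Groth.Agent.H50.goodClass_flat.locP_comp hR _ _
      (Groth.Agent.H50.goodClass_flat.locP_of_repWith_etale _ hσE) hsfl
  have htfp : AlgSp.LocP @LocallyOfFinitePresentation a.act.left := by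
    rw [← hσ]
    exact Groth.Agent.H50.goodClass_lfp.locP_comp hR _ _
      (Groth.Agent.H50.goodClass_lfp.locP_of_repWith_etale _ hσE) hsfp
  have hj := Groth.Agent.H64.Boot6.isEqvRelSp_of_free a ha
  have hF : AlgSp.IsAlgSpace a.quot :=
    Groth.Agent.S10102.result S _ _ hR hX _ _ hj ⟨hsfl, hsfp⟩ ⟨htfl, htfp⟩
  refine ⟨hF, Groth.Agent.S10107.result S _ _ hR hX _ _ hj ⟨hsfl, hsfp⟩ ⟨htfl, htfp⟩ hF, ?_⟩
  have hπ := Groth.Agent.H65.QuotSpFppf.isPullback_quotSpπ _ _ hj
  exact isIso_lift_of_isPullback hπ _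

end Groth.Agent.S10112
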