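import Groth.Statements.S10117
import Groth.Agent.H50.GAct
import Groth.Agent.H50.Quot
set_option backward.isDefEq.respectTransparency false

set_option autoImplicit false
universe u
open CategoryTheory CategoryTheory.Limits AlgebraicGeometry MonoidalCategory MonObj
open AlgSp AlgSp.GAction

namespace Groth.Agent.S10117

/-- If a group algebraic space `G` over `B` acts freely on an algebraic space `X` over `B`, then `G ×_B
X ⟶ X ×_B X`, `(g, x) ↦ (g x, x)`, is a monomorphism. (The published statement is an equivalence;
this row states only the direction from free to monomorphism.) -/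
theorem result (S : Scheme.{u}) (B : AlgSp.Sp S) (hB : AlgSp.IsAlgSpace B)
    (G X : Over B) [GrpObj G] (hG : AlgSp.IsAlgSpace G.left) (hX : AlgSp.IsAlgSpace X.left)
    (a : AlgSp.GAction G X) (ha : a.IsFree) :
    Mono (CartesianMonoidalCategory.lift a.act (CartesianMonoidalCategory.snd G X)).left := by
  apply Groth.Agent.H50.mono_of_yon_injective
  intro T p q hpq
  set φ := CartesianMonoidalCategory.lift a.act (CartesianMonoidalCategory.snd G X) with hφ
  let β : (AlgSp.yon S).obj T ⟶ B := p ≫ (G ⊗ X).hom
  have hq : q ≫ (G ⊗ X).hom = β := by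
    change q ≫ (G ⊗ X).hom = p ≫ (G ⊗ X).hom
    rw [← Over.w φ, ← Category.assoc, ← hpq, Category.assoc]
  let P : Over.mk β ⟶ G ⊗ X := Over.homMk p rfl
  let Q : Over.mk β ⟶ G ⊗ X := Over.homMk q hq
  have hPQ : P ≫ φ = Q ≫ φ := by
    apply Over.OverMorphism.ext
    exact hpq
  have h1 : P ≫ a.act = Q ≫ a.act := by
    have := congr($hPQ ≫ CartesianMonoidalCategory.fst X X)
    simpa [hφ] using this
  have h2 : P ≫ CartesianMonoidalCategory.snd G X = Q ≫ CartesianMonoidalCategory.snd G X := by
    have := congr($hPQ ≫ CartesianMonoidalCategory.snd X X)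
    simpa [hφ] using this
  have hP : P = CartesianMonoidalCategory.lift (P ≫ CartesianMonoidalCategory.fst G X)
      (P ≫ CartesianMonoidalCategory.snd G X) := by
    apply CartesianMonoidalCategory.hom_ext <;> simp
  have hQ : Q = CartesianMonoidalCategory.lift (Q ≫ CartesianMonoidalCategory.fst G X)
      (P ≫ CartesianMonoidalCategory.snd G X) := by
    apply CartesianMonoidalCategory.hom_ext <;> simp [h2]
  have h3 : P ≫ CartesianMonoidalCategory.fst G X = Q ≫ CartesianMonoidalCategory.fst G X := by
    apply Groth.Agent.H50.GAct.smul_left_cancel_of_free a ha β _ _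
      (P ≫ CartesianMonoidalCategory.snd G X)
    unfold Groth.Agent.H50.GAct.smul
    rw [← hP, ← hQ]
    exact h1
  have hfin : P = Q := by
    rw [hP, hQ, h3]
  exact congr(($hfin).left)

end Groth.Agent.S10117
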