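import Groth.Statements.S10130
import Groth.Agent.H50.OpenImm
set_option backward.isDefEq.respectTransparency false

set_option autoImplicit false
universe u
open CategoryTheory CategoryTheory.Limits AlgebraicGeometry
open AlgSp AlgSp.GroupoidSp

namespace Groth.Agent.S10130

/-- Let `(U, R, s, t, c)` be a groupoid in algebraic spaces over `B` with `s, t` open. For every open
subspace `W ⊂ U`, the open subspace `s(t⁻¹(W))` of `U` is `R`-invariant. -/
theorem result (S : Scheme.{u}) (B : AlgSp.Sp S) (hB : AlgSp.IsAlgSpace B)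
    (G : AlgSp.GroupoidSp B) (hU : AlgSp.IsAlgSpace G.U) (hR : AlgSp.IsAlgSpace G.R)
    (hs : AlgSp.IsOpenMor G.s) (ht : AlgSp.IsOpenMor G.t)
    (W W' : AlgSp.Sp S) (w : W ⟶ G.U) (w' : W' ⟶ G.U)
    (hw : AlgSp.RepWith @IsOpenImmersion w) (hw' : AlgSp.RepWith @IsOpenImmersion w')
    (himg : Set.range (AlgSp.Points.map w') =
      AlgSp.Points.map G.s '' (AlgSp.Points.map G.t ⁻¹' Set.range (AlgSp.Points.map w))) :
    G.IsInvariant w' := by
  -- invariance of the image set on points
  have key : ∀ ρ : AlgSp.Points G.R,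
      AlgSp.Points.map G.s ρ ∈ Set.range (AlgSp.Points.map w') →
      AlgSp.Points.map G.t ρ ∈ Set.range (AlgSp.Points.map w') := by
    intro ρ hρ
    rw [himg] at hρ ⊢
    obtain ⟨σ, hσ, hσρ⟩ := hρ
    have hcompat : AlgSp.Points.map G.s σ = AlgSp.Points.map G.t (AlgSp.Points.map G.i ρ) := by
      rw [hσρ, ← AlgSp.Points.map_comp, G.i_t]
    obtain ⟨z, hz1, hz2⟩ := Groth.Agent.H50.points_exists_of_isPullback
      (IsPullback.of_hasPullback G.s G.t) σ (AlgSp.Points.map G.i ρ) hcompat
    have hcs : G.c ≫ G.s = pullback.snd G.s G.t ≫ G.s := by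
      have := G.comp_s (pullback.fst G.s G.t) (pullback.snd G.s G.t) pullback.condition
      have hid : pullback.lift (pullback.fst G.s G.t) (pullback.snd G.s G.t) pullback.condition
          = 𝟙 _ := by
        apply pullback.hom_ext <;> simp
      rwa [hid, Category.id_comp] at this
    have hct : G.c ≫ G.t = pullback.fst G.s G.t ≫ G.t := by
      have := G.comp_t (pullback.fst G.s G.t) (pullback.snd G.s G.t) pullback.condition
      have hid : pullback.lift (pullback.fst G.s G.t) (pullback.snd G.s G.t) pullback.condition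
          = 𝟙 _ := by
        apply pullback.hom_ext <;> simp
      rwa [hid, Category.id_comp] at this
    refine ⟨AlgSp.Points.map G.c z, ?_, ?_⟩
    · change AlgSp.Points.map G.t (AlgSp.Points.map G.c z) ∈ Set.range (AlgSp.Points.map w)
      rw [← AlgSp.Points.map_comp, hct, AlgSp.Points.map_comp, hz1]
      exact hσ
    · rw [← AlgSp.Points.map_comp, hcs, AlgSp.Points.map_comp, hz2, ← AlgSp.Points.map_comp, G.i_s]
  have key' : ∀ ρ : AlgSp.Points G.R,
      AlgSp.Points.map G.t ρ ∈ Set.range (AlgSp.Points.map w') ↔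
      AlgSp.Points.map G.s ρ ∈ Set.range (AlgSp.Points.map w') := by
    intro ρ
    refine ⟨fun h => ?_, key ρ⟩
    have := key (AlgSp.Points.map G.i ρ)
    rw [← AlgSp.Points.map_comp, ← AlgSp.Points.map_comp, G.i_s, G.i_t] at this
    exact this h
  intro T r
  rw [Groth.Agent.H50.exists_factor_iff_of_isOpenImmersion w' hw',
    Groth.Agent.H50.exists_factor_iff_of_isOpenImmersion w' hw']
  constructor
  · rintro h _ ⟨p, rfl⟩
    rw [AlgSp.Points.map_comp]
    exact (key' _).1 (by rw [← AlgSp.Points.map_comp]; exact h ⟨p, rfl⟩)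
  · rintro h _ ⟨p, rfl⟩
    rw [AlgSp.Points.map_comp]
    exact (key' _).2 (by rw [← AlgSp.Points.map_comp]; exact h ⟨p, rfl⟩)

end Groth.Agent.S10130
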