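import Groth.Statements.S10138
import Groth.Agent.H64.Boot6.FppfLocal
import Groth.Agent.S9873
import Groth.Agent.H53.Points

set_option autoImplicit false
universe u
open CategoryTheory CategoryTheory.Limits AlgebraicGeometry
open AlgSp

namespace Groth.Agent.S10138

/-- Let `{X_i ⟶ X}` be an fppf covering of algebraic spaces over `S`. Then every descent datum for
algebraic spaces relative to it is effective; concretely, an fppf sheaf `F ⟶ X` all of whose base
changes `F ×_X X_i` are algebraic spaces is an algebraic space. (The published statement asks the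
index set to be countable, which is only a size condition and may be ignored; this row allows any
index type in the universe of `S`. The published part (2), which asks the `Y_i ⟶ X_i` to be of
finite type instead, is then a special case of this row.) -/
theorem result (S : Scheme.{u}) (X : AlgSp.Space S) {ι : Type u}
    (Xi : ι → AlgSp.Space S) (g : ∀ i, (Xi i).obj ⟶ X.obj) (hcov : AlgSp.IsFppfCover (fun i => (Xi i).obj) g)
    (F : AlgSp.Sp S) (p : F ⟶ X.obj)
    (h : ∀ (i : ι) (P : AlgSp.Sp S) (fst : P ⟶ F) (snd : P ⟶ (Xi i).obj), IsPullback fst snd p (g i) → AlgSp.IsAlgSpace P) :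
    AlgSp.IsAlgSpace F := by
  obtain ⟨U, a, haE, haS⟩ := X.property.atlas
  -- the base change of `F` to the atlas
  have sqU : IsPullback (pullback.fst p a) (pullback.snd p a) p a := IsPullback.of_hasPullback p a
  -- the base changes of the covering to the atlas
  have sqY : ∀ i, IsPullback (pullback.fst (g i) a) (pullback.snd (g i) a) (g i) a :=
    fun i => IsPullback.of_hasPullback (g i) a
  have hY : ∀ i, AlgSp.IsAlgSpace (pullback (g i) a) := fun i =>
    Groth.Agent.H49.isAlgSpace_of_isPullback (sqY i) X.property.diag (Xi i).property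
      (AlgSp.IsAlgSpace.yon_obj U)
  have hat : ∀ i, ∃ (Ui : Over S) (b : (AlgSp.yon S).obj Ui ⟶ pullback (g i) a),
      AlgSp.RepWith @Etale b ∧ AlgSp.RepWith @Surjective b := fun i => (hY i).atlas
  choose Ui b hbE hbS using hat
  have hu : ∀ i, ∃ u : Ui i ⟶ U, (AlgSp.yon S).map u = b i ≫ pullback.snd (g i) a :=
    fun i => (AlgSp.yon S).map_surjective _
  choose u hu using hu
  have hflY : ∀ i, AlgSp.LocP @Flat (pullback.snd (g i) a) := fun i =>
    Groth.Agent.H50.goodClass_flat.locP_of_isPullback (Xi i).property X.property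
      (AlgSp.IsAlgSpace.yon_obj U) _ _ _ _ (sqY i) (hcov.1 i).1
  have hfpY : ∀ i, AlgSp.LocP @LocallyOfFinitePresentation (pullback.snd (g i) a) := fun i =>
    Groth.Agent.H50.goodClass_lfp.locP_of_isPullback (Xi i).property X.property
      (AlgSp.IsAlgSpace.yon_obj U) _ _ _ _ (sqY i) (hcov.1 i).2
  have hfl : ∀ i, Flat (u i).left := fun i =>
    hflY i (b i) (𝟙 _) (u i) (hbE i) (AlgSp.repWith_id @Etale U)
      (by rw [Category.comp_id, hu])
  have hfp : ∀ i, LocallyOfFinitePresentation (u i).left := fun i =>
    hfpY i (b i) (𝟙 _) (u i) (hbE i) (AlgSp.repWith_id @Etale U)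
      (by rw [Category.comp_id, hu])
  have hsurj : ∀ x : ↥U.left, ∃ (i : ι) (y : ↥(Ui i).left), (u i).left y = x := by
    intro x
    obtain ⟨i, xi, hxi⟩ := hcov.2 (AlgSp.Points.ofPt a x)
    rw [AlgSp.Points.ofPt_eq_map_ofScheme] at hxi
    obtain ⟨z, -, hz⟩ :=
      Groth.Agent.H53.exists_point_of_isPullback (sqY i) xi (AlgSp.Points.ofScheme U x) hxi
    obtain ⟨w, hw⟩ := Groth.Agent.H53.exists_ofPt_eq_of_repWith_surjective (b i) (hbS i) z
    refine ⟨i, w, ?_⟩
    apply (AlgSp.Points.schemeEquiv U).injective
    change AlgSp.Points.ofScheme U ((u i).left w) = AlgSp.Points.ofScheme U x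
    rw [← hz, ← hw, AlgSp.Points.ofPt_eq_map_ofScheme, ← AlgSp.Points.map_comp, ← hu]
    exact (AlgSp.Points.map_yon_map_apply (u i) w).symm
  -- the base changes of `F_U` are algebraic spaces
  have hQ : ∀ i, AlgSp.IsAlgSpace (pullback (pullback.snd p a) ((AlgSp.yon S).map (u i))) := by
    intro i
    have sqQ := IsPullback.of_hasPullback (pullback.snd p a) ((AlgSp.yon S).map (u i))
    have hP : AlgSp.IsAlgSpace (pullback p (g i)) :=
      h i _ _ _ (IsPullback.of_hasPullback p (g i))
    -- the outer rectangle
    have big : IsPullback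
        (pullback.fst (pullback.snd p a) ((AlgSp.yon S).map (u i)) ≫ pullback.fst p a)
        (pullback.snd (pullback.snd p a) ((AlgSp.yon S).map (u i))) p
        ((AlgSp.yon S).map (u i) ≫ a) := sqQ.paste_horiz sqU
    have e1 : (AlgSp.yon S).map (u i) ≫ a = (b i ≫ pullback.fst (g i) a) ≫ g i := by
      rw [hu, Category.assoc, Category.assoc, pullback.condition]
    rw [e1] at big
    have hw : (pullback.fst (pullback.snd p a) ((AlgSp.yon S).map (u i)) ≫ pullback.fst p a) ≫ p =
        (pullback.snd (pullback.snd p a) ((AlgSp.yon S).map (u i)) ≫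
          b i ≫ pullback.fst (g i) a) ≫ g i := by
      rw [big.w]
      simp only [Category.assoc]
    have sqL : IsPullback
        (pullback.lift _ _ hw : pullback (pullback.snd p a) ((AlgSp.yon S).map (u i)) ⟶
          pullback p (g i))
        (pullback.snd (pullback.snd p a) ((AlgSp.yon S).map (u i)))
        (pullback.snd p (g i)) (b i ≫ pullback.fst (g i) a) := by
      refine IsPullback.of_right ?_ (pullback.lift_snd _ _ _) (IsPullback.of_hasPullback p (g i))
      rw [pullback.lift_fst]
      exact big
    exact Groth.Agent.H49.isAlgSpace_of_isPullback sqL (Xi i).property.diag hP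
      (AlgSp.IsAlgSpace.yon_obj (Ui i))
  have hFU : AlgSp.IsAlgSpace (pullback p a) :=
    Groth.Agent.H64.Boot6.isAlgSpace_of_fppf_cover_schemes Ui u hfl hfp hsurj (pullback p a)
      (pullback.snd p a) hQ
  -- descend along the atlas
  have := AlgSp.repWith_isStableUnderBaseChange (S := S) @Etale
  have := AlgSp.repWith_isStableUnderBaseChange (S := S) @Surjective
  exact Groth.Agent.S9873.result S ⟨pullback p a, hFU⟩ F (pullback.fst p a)
    (MorphismProperty.of_isPullback (P := AlgSp.RepWith (S := S) @Etale) sqU.flip haE)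
    (MorphismProperty.of_isPullback (P := AlgSp.RepWith (S := S) @Surjective) sqU.flip haS)

end Groth.Agent.S10138
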