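import Groth.Statements.S10141
import Groth.Agent.H51.SpQuotChart3

set_option autoImplicit false
universe u
open CategoryTheory CategoryTheory.Limits AlgebraicGeometry
open AlgSp

namespace Groth.Agent.S10141

/-- Let `(U, R, s, t, c)` be a groupoid scheme over `S` and `g : U' ⟶ U` a morphism such that the
composite `h : U' ×_{g, U, t} R ⟶ R ⟶ U` of the projection with `s` has open image `W ⊂ U` and `h :
U' ×_{g, U, t} R ⟶ W` is a surjection of fppf sheaves. Then for the restriction `R' = R|_{U'}` the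
map of fppf quotient sheaves `U'/R' ⟶ U/R` is representable and an open immersion. -/
theorem result (S : Scheme.{u}) (G : Grpd.GroupoidScheme S)
    (U' : Scheme.{u}) (g : U' ⟶ G.U) (W : G.U.Opens)
    (hW : (W : Set ↥G.U) = Set.range ⇑(pullback.snd g G.t ≫ G.s))
    (hlift : pullback g G.t ⟶ ↑W) (hh : hlift ≫ W.ι = pullback.snd g G.t ≫ G.s)
    (hsurj : Sheaf.IsLocallySurjective ((AlgSp.yon S).map
      (Over.homMk hlift ((Category.assoc _ _ _).symm.trans (congrArg (· ≫ G.pU) hh)) :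
        Over.mk ((pullback.snd g G.t ≫ G.s) ≫ G.pU) ⟶ Over.mk (W.ι ≫ G.pU))))
    (R' : Over S) (s' t' : R' ⟶ Over.mk (g ≫ G.pU)) (r : R' ⟶ Over.mk G.pR)
    (hsq : IsPullback (prod.lift t' s') r
      (prod.map (Over.homMk g rfl : Over.mk (g ≫ G.pU) ⟶ Over.mk G.pU) (Over.homMk g rfl : Over.mk (g ≫ G.pU) ⟶ Over.mk G.pU))
      (prod.lift (Over.homMk G.t G.t_over : Over.mk G.pR ⟶ Over.mk G.pU) (Over.homMk G.s G.s_over : Over.mk G.pR ⟶ Over.mk G.pU)))
    (ψ : QuotSh.quot Scheme.fppfPrecoverage s' t' ⟶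
      QuotSh.quot Scheme.fppfPrecoverage (Over.homMk G.s G.s_over : Over.mk G.pR ⟶ Over.mk G.pU) (Over.homMk G.t G.t_over : Over.mk G.pR ⟶ Over.mk G.pU))
    (hψ : QuotSh.quotπ Scheme.fppfPrecoverage s' t' ≫ ψ =
      QuotSh.repMap Scheme.fppfPrecoverage (Over.homMk g rfl : Over.mk (g ≫ G.pU) ⟶ Over.mk G.pU) ≫ QuotSh.quotπ Scheme.fppfPrecoverage _ _) :
    AlgSp.RepWith @IsOpenImmersion ψ := by
  classical
  have hpre := Groth.Agent.H51.isPreEqvRelSp_of_equivalence
    (Groth.Agent.H51.groupoidScheme_equivalence G)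
  -- the fibre product `U' ×_{g, U, t} R` over `S`
  let P : Over S := Over.mk ((pullback.snd g G.t ≫ G.s) ≫ G.pU)
  let pr₁ : P ⟶ Over.mk (g ≫ G.pU) := Over.homMk (pullback.fst g G.t) (by
    change pullback.fst g G.t ≫ g ≫ G.pU = (pullback.snd g G.t ≫ G.s) ≫ G.pU
    rw [← Category.assoc, pullback.condition, Category.assoc, G.t_over, Category.assoc,
      G.s_over])
  let pr₂ : P ⟶ Over.mk G.pR := Over.homMk (pullback.snd g G.t) (by
    change pullback.snd g G.t ≫ G.pR = (pullback.snd g G.t ≫ G.s) ≫ G.pU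
    rw [Category.assoc, G.s_over])
  let hl : P ⟶ Groth.Agent.H50.opensOv (Over.mk G.pU) W :=
    (Over.homMk hlift ((Category.assoc _ _ _).symm.trans (congrArg (· ≫ G.pU) hh)) :
        Over.mk ((pullback.snd g G.t ≫ G.s) ≫ G.pU) ⟶ Over.mk (W.ι ≫ G.pU))
  haveI : Sheaf.IsLocallySurjective ((AlgSp.yon S).map hl) := hsurj
  have hhl : hl ≫ Groth.Agent.H50.opensOvι (Over.mk G.pU) W =
      pr₂ ≫ (Over.homMk G.s G.s_over : Over.mk G.pR ⟶ Over.mk G.pU) := by
    ext
    exact hh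
  have hP : pr₁ ≫ (Over.homMk g rfl : Over.mk (g ≫ G.pU) ⟶ Over.mk G.pU) =
      pr₂ ≫ (Over.homMk G.t G.t_over : Over.mk G.pR ⟶ Over.mk G.pU) := by
    ext
    exact pullback.condition
  have hψ' : Groth.Agent.H49.quotMap s' t' ≫ ψ =
      (yon S).map (Over.homMk g rfl : Over.mk (g ≫ G.pU) ⟶ Over.mk G.pU) ≫
        Groth.Agent.H49.quotMap _ _ := by
    unfold Groth.Agent.H49.quotMap
    rw [Category.assoc, hψ, ← Category.assoc, Groth.Agent.H49.repIso_inv_comp_repMap,
      Category.assoc]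
  refine Groth.Agent.H51.repWith_isOpenImmersion_quot_of_chart _ _ _ s' t' hpre
    (Groth.Agent.H51.exists_lift_restrict hsq) pr₁ pr₂ hP ?_ W hl hhl ψ hψ'
  intro T a ρ h
  have h' : a.left ≫ g = ρ.left ≫ G.t := congr(($h).left)
  refine ⟨Over.homMk (pullback.lift a.left ρ.left h') ?_, ?_, ?_⟩
  · change pullback.lift a.left ρ.left h' ≫ (pullback.snd g G.t ≫ G.s) ≫ G.pU = T.hom
    rw [Category.assoc, pullback.lift_snd_assoc, G.s_over]
    exact Over.w ρ
  · ext
    exact pullback.lift_fst _ _ _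
  · ext
    exact pullback.lift_snd _ _ _

end Groth.Agent.S10141
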