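import Groth.Statements.S1015
import Groth.Agent.S0998
import Groth.Agent.H33.LocCoh.UnitIso
import Groth.Agent.H33.Supp.Main
import Groth.Agent.H12.QCohAbelian

set_option autoImplicit false
universe u
open CategoryTheory CategoryTheory.Limits AlgebraicGeometry
attribute [local instance] HasDerivedCategory.standard
open Perf

namespace Groth.Agent.S1015

/-- Let U ⊆ X be an open subscheme whose inclusion is quasi-compact. Every object F of D(O_U) with
quasi-coherent cohomology sheaves is the restriction of such an object on X: there is a complex G of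
O_X-modules with quasi-coherent cohomology sheaves whose termwise restriction to U is isomorphic to
F in D(O_U). -/
theorem result (X : Scheme.{u}) (U : X.Opens) [QuasiCompact U.ι]
    (F : DCoh.D (U : Scheme.{u})) (hF : DCoh.IsQCohD F) :
    ∃ G : CochainComplex X.Modules ℤ, DCoh.IsQCohD (DCoh.toD X G) ∧
      Nonempty (DerivedCategory.Q.obj ((DCoh.restrictCx U).obj G) ≅ F) := by
  haveI : DCoh.HasRpush U.ι := Groth.Agent.H33.Supp.hasRpush U.ι
  let R : DCoh.D X := (DCoh.Rpush U.ι).obj F
  let G : CochainComplex X.Modules ℤ := DerivedCategory.Q.objPreimage R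
  let e : DCoh.toD X G ≅ R := DerivedCategory.Q.objObjPreimageIso R
  have hR : DCoh.IsQCohD R := Groth.Agent.S0998.result U.ι F hF
  refine ⟨G, fun i => ?_, ⟨?_⟩⟩
  · haveI : ((DerivedCategory.homologyFunctor X.Modules i).obj R).IsQuasicoherent := hR i
    exact Groth.Agent.H12.QCohAbelian.isQuasicoherent_of_iso
      (M := (DerivedCategory.homologyFunctor X.Modules i).obj R)
      ((DerivedCategory.homologyFunctor X.Modules i).mapIso e).symm
  · exact ((AlgebraicGeometry.Scheme.Modules.restrictFunctor U.ι).mapDerivedCategoryFactors.app G).symm ≪≫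
      (DCoh.restrictD U.ι).mapIso e ≪≫
      asIso ((Groth.Agent.H33.LocCoh.dadj U.ι).counit.app F)

end Groth.Agent.S1015
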