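import Groth.Statements.S10171
import Groth.Agent.H51.ComplQuot

set_option autoImplicit false
universe u v
open LinTop

namespace Groth.Agent.S10171

/-- Let M be a linearly topologized module over a ring R and N a submodule. Write M^ for the separated
completion of M and (M/N)^ for that of M/N (quotient topology, additive uniform structure). Then the
kernel of the induced map M^ → (M/N)^ is the closure of the image of N in M^; that closure is the
completion of N, so this is the exactness of 0 → N^ → M^ → (M/N)^ at M^. -/
theorem result
    {R : Type u} [Ring R] {M : Type v} [AddCommGroup M] [Module R M] [UniformSpace M]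
    [IsUniformAddGroup M] [IsLinearTopology R M] (N : Submodule R M) :
    (@UniformSpace.Completion.map M _ (M ⧸ N.toAddSubgroup)
        (IsTopologicalAddGroup.rightUniformSpace (M ⧸ N.toAddSubgroup))
        (QuotientAddGroup.mk' N.toAddSubgroup)) ⁻¹' {0} =
      closure (Set.range (fun n : N => ((n : M) : UniformSpace.Completion M))) := by
  let _ : UniformSpace (M ⧸ N.toAddSubgroup) :=
    IsTopologicalAddGroup.rightUniformSpace (M ⧸ N.toAddSubgroup)
  have : IsUniformAddGroup (M ⧸ N.toAddSubgroup) := isUniformAddGroup_of_addCommGroup
  have hbasis : ∀ U ∈ nhds (0 : M), ∃ S : AddSubgroup M, IsOpen (S : Set M) ∧ (S : Set M) ⊆ U := by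
    intro U hU
    obtain ⟨P, hPo, hPU⟩ := (IsLinearTopology.hasBasis_open_submodule R).mem_iff.mp hU
    exact ⟨P.toAddSubgroup, hPo, hPU⟩
  have key := Groth.Agent.H51.preimage_zero_completion_map hbasis
    (QuotientAddGroup.mk' N.toAddSubgroup) QuotientAddGroup.continuous_mk
    QuotientAddGroup.isOpenMap_coe
  rw [QuotientAddGroup.ker_mk'] at key
  have himg : Set.range (fun n : N => ((n : M) : UniformSpace.Completion M)) =
      ((↑) : M → UniformSpace.Completion M) '' ((N.toAddSubgroup : AddSubgroup M) : Set M) := by
    ext y
    constructor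
    · rintro ⟨n, rfl⟩
      exact ⟨n, n.2, rfl⟩
    · rintro ⟨m, hm, rfl⟩
      exact ⟨⟨m, hm⟩, rfl⟩
  rw [himg]
  exact key

end Groth.Agent.S10171
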