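import Groth.Statements.S10199
import Groth.Agent.S10350
import Groth.Agent.H52.ZarLocal
import Groth.Agent.H52.SoberSp2
import Groth.Agent.H52.Special

set_option autoImplicit false
universe u
open CategoryTheory CategoryTheory.Limits AlgebraicGeometry Topology TopologicalSpace
open AlgSp

namespace Groth.Agent.S10199

/-- Let X be an algebraic space over a scheme S that is Zariski locally quasi-separated over S (X has a
Zariski covering by open subspaces whose diagonals over S are quasi-compact; for instance X
quasi-separated over S). Then |X| is a sober topological space. (Being Zariski locally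
quasi-separated over S is the same as the absolute notion, so no hypothesis on S is needed.) -/
theorem result {S : Scheme.{u}} (X : AlgSp.Space S)
    (hX : ∃ (ι : Type u) (Xi : ι → AlgSp.Space S) (j : ∀ i, Xi i ⟶ X),
        AlgSp.IsZarCover (fun i => (Xi i).obj) (fun i => (j i).hom) ∧ ∀ i, AlgSp.IsQuasiSeparatedSp (Xi i).obj) :
    QuasiSober (AlgSp.Points X.obj) ∧ T0Space (AlgSp.Points X.obj) := by
  obtain ⟨ι, Xi, j, hj, hqs⟩ := hX
  have hd : AlgSp.IsDecent X.obj :=
    Groth.Agent.H52.isDecent_of_zarCover X.property (fun i => (Xi i).obj) (fun i => (j i).hom) hj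
      (fun i => Groth.Agent.S10350.result (Xi i) (hqs i))
  obtain ⟨V, b, hb, hbs⟩ := X.property.atlas
  exact ⟨Groth.Agent.H52.SoberSp.quasiSober_points_of_isDecent X hd,
    Groth.Agent.H52.t0Space_points_of_isDecent hd b hb hbs⟩

end Groth.Agent.S10199
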