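import Groth.Statements.S10200
import Groth.Agent.H52.CodimZeroSchematicC
import Groth.Agent.H51.SpSchLocus

set_option autoImplicit false
universe u
open CategoryTheory CategoryTheory.Limits AlgebraicGeometry Topology TopologicalSpace
open AlgSp

namespace Groth.Agent.S10200

/-- Let X be an algebraic space over a scheme S that is Zariski locally quasi-separated over S (for
example quasi-separated over S). Then there is a dense open subspace of X which is a scheme; more
precisely there is an open subspace X' ⟶ X with representable underlying sheaf such that |X'| is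
dense in |X| and contains every codimension 0 point of X (every point under which some etale chart
has a zero-dimensional local ring). -/
theorem result {S : Scheme.{u}} (X : AlgSp.Space S)
    (hX : ∃ (ι : Type u) (Xi : ι → AlgSp.Space S) (j : ∀ i, Xi i ⟶ X),
        AlgSp.IsZarCover (fun i => (Xi i).obj) (fun i => (j i).hom) ∧ ∀ i, AlgSp.IsQuasiSeparatedSp (Xi i).obj) :
    ∃ (X' : AlgSp.Space S) (j : X' ⟶ X), AlgSp.RepWith @IsOpenImmersion j.hom ∧ X'.obj.obj.IsRepresentable ∧
      Dense (Set.range (AlgSp.Points.map j.hom)) ∧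
      ∀ x : AlgSp.Points X.obj, AlgSp.HasAt (fun U u => ringKrullDim ↥(U.presheaf.stalk u) = 0) X.obj x →
        x ∈ Set.range (AlgSp.Points.map j.hom) := by
  open Groth.Agent.H51 Groth.Agent.H52.CodimZeroSchematic in
  obtain ⟨ι, Xi, j, ⟨hjo, hjs⟩, hqs⟩ := hX
  have hW := isOpen_schematicLocus X.obj
  have hj' := repWith_isOpenImmersion_openSubι _ hW
  have hr := range_map_openSubι (schematicLocus X.obj)
  have hcodim : ∀ x : AlgSp.Points X.obj,
      AlgSp.HasAt (fun U u => ringKrullDim ↥(U.presheaf.stalk u) = 0) X.obj x →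
      x ∈ schematicLocus X.obj := by
    intro x hx
    obtain ⟨i, hxi⟩ := hjs x
    obtain ⟨W, hWo, M, ⟨e⟩, hxW⟩ :=
      exists_schematic_nbhd_of_open (j i).hom (hjo i) (hqs i) x hxi hx
    refine ⟨M, e.hom ≫ openSubι X.obj W, ?_, ?_⟩
    · exact MorphismProperty.RespectsIso.precomp _ e.hom _
        (repWith_isOpenImmersion_openSubι W hWo)
    · rw [← range_map_openSubι W] at hxW
      obtain ⟨y, rfl⟩ := hxW
      refine ⟨AlgSp.Points.map e.inv y, ?_⟩
      rw [AlgSp.Points.map_comp, ← AlgSp.Points.map_comp e.inv e.hom, e.inv_hom_id,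
        AlgSp.Points.map_id]
  refine ⟨⟨openSubSp X.obj (schematicLocus X.obj), isAlgSpace_openSubSp X.property _ hW⟩,
    ObjectProperty.homMk (openSubι X.obj (schematicLocus X.obj)), hj', ?_, ?_, ?_⟩
  · obtain ⟨G, ⟨e⟩⟩ := exists_iso_yon_schematicLocus X.property
    exact isRepresentable_of_iso e
  · change Dense (Set.range (AlgSp.Points.map (openSubι X.obj (schematicLocus X.obj))))
    rw [hr, dense_iff_inter_open]
    rintro O hO ⟨x, hxO⟩
    obtain ⟨U, a, he, hs⟩ := X.property.atlas
    obtain ⟨u, rfl⟩ := Groth.Agent.H52.ofPt_surjective_of_repWith_surjective a hs x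
    let O' : U.left.Opens := ⟨AlgSp.Points.ofPt a ⁻¹' O, hO.preimage (AlgSp.Points.continuous_ofPt a)⟩
    obtain ⟨η, hηO, hη⟩ := Groth.Agent.H52.FinEtSchematic.exists_dim_zero_mem_open O' u hxO
    exact ⟨AlgSp.Points.ofPt a η, hηO, hcodim _ ⟨U, a, η, he, rfl, hη⟩⟩
  · intro x hx
    change x ∈ Set.range (AlgSp.Points.map (openSubι X.obj (schematicLocus X.obj)))
    rw [hr]; exact hcodim x hx

end Groth.Agent.S10200
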