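import Groth.Statements.S10217
import Groth.Agent.H51.SpEtNbhd

set_option autoImplicit false
universe u
open CategoryTheory CategoryTheory.Limits AlgebraicGeometry Topology TopologicalSpace
open AlgSp

namespace Groth.Agent.S10217

/-- Let X be an algebraic space over a scheme S and x̄ a geometric point of X. Then the category of
etale neighbourhoods of x̄ (schemes etale over X with a lift of x̄) is cofiltered: it is nonempty,
any two neighbourhoods are dominated by a third, and any two morphisms between neighbourhoods are
equalised by a morphism from a further neighbourhood. -/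
theorem result {S : Scheme.{u}} (X : AlgSp.Space S) (p : AlgSp.FieldPt X.obj) (hp : p.IsGeometric) :
    IsCofiltered (AlgSp.EtNbhd p) := by
  obtain ⟨U, a, hae, has⟩ := X.property.atlas
  obtain ⟨u, hu⟩ := Groth.Agent.H51.exists_lift_of_chart p hp a hae has
  exact
    { cone_objs := fun N₁ N₂ => Groth.Agent.H51.etNbhd_cone_objs p N₁ N₂
      cone_maps := fun _ _ f g => Groth.Agent.H51.etNbhd_cone_maps p f g
      nonempty := ⟨⟨AlgSp.EtOver.mk a hae, ⟨u, hu⟩⟩⟩ }

end Groth.Agent.S10217
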