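import Groth.Statements.S10218
import Mathlib.AlgebraicGeometry.Sites.EtalePoint

set_option autoImplicit false
universe u
open CategoryTheory CategoryTheory.Limits AlgebraicGeometry Topology TopologicalSpace
open AlgSp

namespace Groth.Agent.S10218

/-- Let X be an algebraic space over a scheme S, x̄ a geometric point of X, (U, ū) an etale
neighbourhood of x̄ and {U_i ⟶ U} an etale covering of U in the small etale site of X. Then for some
index i the point x̄ lifts to U_i compatibly, that is, (U_i, ū_i) ⟶ (U, ū) is a morphism of etale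
neighbourhoods for a suitable lift ū_i. -/
theorem result {S : Scheme.{u}} (X : AlgSp.Space S) (p : AlgSp.FieldPt X.obj) (hp : p.IsGeometric)
    (N : AlgSp.EtNbhd p) {ι : Type u} (Ui : ι → AlgSp.EtOver X.obj) (g : ∀ i, Ui i ⟶ N.1)
    (hcov : Presieve.ofArrows Ui g ∈ AlgSp.etPre X.obj N.1) :
    ∃ (i : ι) (ui : (AlgSp.FieldPt.liftsTo p).obj (Ui i)), (AlgSp.FieldPt.liftsTo p).map (g i) ui = N.2 := by
  classical
  haveI : IsAlgClosed p.K := hp
  haveI : IsSepClosed p.K := IsSepClosed.of_isAlgClosed p.K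
  have hcov' := (AlgSp.ofArrows_mem_etPre_iff Ui g).1 hcov
  -- the image point of the lift
  let s : Spec (CommRingCat.of p.K) ⟶ N.1.obj.left.left := N.2.1.left
  obtain ⟨i, y, hy⟩ := hcov' (s default)
  haveI : Etale (g i).hom.left.left := AlgSp.EtOver.etale_left (g i)
  obtain ⟨l, hl, -⟩ := Scheme.exists_fac_of_etale_of_isSepClosed (g i).hom.left.left s y hy
  have hw : l ≫ (Ui i).obj.left.hom = p.str := by
    have h1 : (g i).hom.left.left ≫ N.1.obj.left.hom = (Ui i).obj.left.hom := Over.w (g i).hom.left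
    have h2 : s ≫ N.1.obj.left.hom = p.str := Over.w N.2.1
    rw [← h1, ← Category.assoc, hl, h2]
  let ui0 : p.pt ⟶ (Ui i).obj.left := Over.homMk l hw
  have hcomp : ui0 ≫ (g i).hom.left = N.2.1 := Over.OverMorphism.ext hl
  have hui : (yon S).map ui0 ≫ (Ui i).obj.hom = p.toHom := by
    rw [← AlgSp.EtOver.w (g i), ← Category.assoc, ← Functor.map_comp, hcomp]
    exact N.2.2
  exact ⟨i, ⟨ui0, hui⟩, Subtype.ext hcomp⟩

end Groth.Agent.S10218
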