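import Groth.Statements.S10222
import Groth.Agent.H51.SpDim
import Groth.Agent.H52.GeomRed

set_option autoImplicit false
universe u
open CategoryTheory CategoryTheory.Limits AlgebraicGeometry Topology TopologicalSpace
open AlgSp

namespace Groth.Agent.S10222

/-- (1) if and only if (2): an algebraic space X over a scheme S is reduced if and only if at each x ∈
|X| the local ring of X is reduced, the latter meaning that for some scheme U, some representable
etale h_U ⟶ X and some point u of U mapping to x, the local ring of U at u is reduced. (The
assertions about global sections in the published statement are not part of this row.) -/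
theorem result {S : Scheme.{u}} (X : AlgSp.Space S) :
    AlgSp.IsReducedSp X.obj ↔
      ∀ x : AlgSp.Points X.obj, AlgSp.HasAt (fun U u => _root_.IsReduced ↥(U.presheaf.stalk u)) X.obj x := by
  constructor
  · rintro ⟨U, a, hae, has, hred⟩ x
    obtain ⟨u, hu⟩ := Groth.Agent.H51.surjective_ofPt_of_surjective a has x
    haveI : AlgebraicGeometry.IsReduced U.left := hred
    exact ⟨U, a, u, hae, hu, inferInstance⟩
  · intro h
    obtain ⟨U, a, hae, has⟩ := X.property.atlas
    refine ⟨U, a, hae, has, ?_⟩
    haveI : ∀ u : ↥U.left, _root_.IsReduced (U.left.presheaf.stalk u) := by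
      intro u
      obtain ⟨U₀, a₀, u₀, ha₀, hu₀, hred₀⟩ := h (AlgSp.Points.ofPt a u)
      obtain ⟨W, p₁, p₂, w, hp₁, hp₂, hw1, hw2, -⟩ :=
        Groth.Agent.H51.exists_common_etale_refinement a₀ ha₀ a hae u₀ u hu₀
      have h1 : _root_.IsReduced (W.left.presheaf.stalk w) :=
        Groth.Agent.H52.isReduced_stalk_of_etale p₁.left w (by rw [hw1]; exact hred₀)
      have h2 := Groth.Agent.H52.isReduced_stalk_of_flat p₂.left w h1
      rw [hw2] at h2
      exact h2
    exact AlgebraicGeometry.isReduced_of_isReduced_stalk U.left

end Groth.Agent.S10222
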