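import Groth.Statements.S10226
import Groth.Agent.H51.OEtSH7

set_option autoImplicit false
universe u
open CategoryTheory CategoryTheory.Limits AlgebraicGeometry Topology TopologicalSpace
open AlgSp

namespace Groth.Agent.S10226

/-- Let X be a Noetherian algebraic space over a scheme S (quasi-compact, with quasi-compact diagonal
over S, and locally Noetherian) and x̄ a geometric point of X. Then the etale local ring of X at x̄
is a Noetherian local ring. -/
theorem result {S : Scheme.{u}} (X : AlgSp.Space S)
    (hqc : AlgSp.IsQuasiCompactSp X.obj) (hqs : AlgSp.IsQuasiSeparatedSp X.obj) (hX : AlgSp.IsLocNoethSp X.obj)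
    (p : AlgSp.FieldPt X.obj) (hp : p.IsGeometric) :
    IsNoetherianRing ↥(AlgSp.OEtStalk p) ∧ IsLocalRing ↥(AlgSp.OEtStalk p) := by
  obtain ⟨U, a, hae, has, hU⟩ := hX
  haveI : IsLocallyNoetherian U.left := hU
  obtain ⟨v, hv⟩ := Groth.Agent.H51.exists_lift_of_chart p hp a hae has
  let l : (AlgSp.FieldPt.liftsTo p).obj (AlgSp.EtOver.mk a hae) := ⟨v, hv⟩
  have hu := Groth.Agent.H51.ofPt_lift_eq p l (default : Spec (CommRingCat.of p.K))
  have hpk := Groth.Agent.H51.shPackage_of_ofPt_eq X p hp a hae _ hu
  refine ⟨hpk.isNoetherianRing_iff.2 ?_, hpk.isLocalRing⟩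
  infer_instance

end Groth.Agent.S10226
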