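import Groth.Statements.S10227
import Groth.Agent.H52.GeomUnibranchSp3

set_option autoImplicit false
universe u
open CategoryTheory CategoryTheory.Limits AlgebraicGeometry Topology TopologicalSpace
open AlgSp

namespace Groth.Agent.S10227

/-- (1) ⇔ (4) ⇔ (5): let X be an algebraic space over a scheme S and x ∈ |X|. The following are
equivalent: for every scheme U, every etale h_U ⟶ X and every point u of U over x, the local ring of
U at u has a unique minimal prime; for every such (U, u), the local ring of U at u is geometrically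
unibranch; for every geometric point x̄ over x, the etale local ring of X at x̄ has a unique minimal
prime. -/
theorem result {S : Scheme.{u}} (X : AlgSp.Space S) (x : AlgSp.Points X.obj) :
    ((∀ (U : Over S) (a : (AlgSp.yon S).obj U ⟶ X.obj) (u : ↥U.left),
        AlgSp.RepWith @Etale a → AlgSp.Points.ofPt a u = x → CAlgX.HasUniqueMinimalPrime ↥(U.left.presheaf.stalk u)) ↔
      (∀ (U : Over S) (a : (AlgSp.yon S).obj U ⟶ X.obj) (u : ↥U.left),
        AlgSp.RepWith @Etale a → AlgSp.Points.ofPt a u = x → CAlg2.IsGeomUnibranch ↥(U.left.presheaf.stalk u))) ∧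
    ((∀ (U : Over S) (a : (AlgSp.yon S).obj U ⟶ X.obj) (u : ↥U.left),
        AlgSp.RepWith @Etale a → AlgSp.Points.ofPt a u = x → CAlgX.HasUniqueMinimalPrime ↥(U.left.presheaf.stalk u)) ↔
      ∀ p : AlgSp.FieldPt X.obj, p.IsGeometric → AlgSp.Points.mk p = x →
        CAlgX.HasUniqueMinimalPrime ↥(AlgSp.OEtStalk p)) := by
  refine ⟨⟨fun H U a u ha hu =>
      Groth.Agent.H52.GeomUnibranchSp.isGeomUnibranch_of_forall_hasUniqueMinimalPrime x H U a u ha hu,
    fun H U a u ha hu =>
      Groth.Agent.H52.GeomUnibranchSp.hasUniqueMinimalPrime_of_isGeomUnibranch u (H U a u ha hu)⟩,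
    ⟨fun H p hp hpx =>
      Groth.Agent.H52.GeomUnibranchSp.hasUniqueMinimalPrime_OEtStalk_of_forall_stalk X x H p hp hpx,
    fun H U a u ha hu =>
      Groth.Agent.H52.GeomUnibranchSp.hasUniqueMinimalPrime_stalk_of_forall_OEtStalk X x H U a u
        ha hu⟩⟩

end Groth.Agent.S10227
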