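import Groth.Statements.S10231
import Groth.Agent.H51.OEtSH7

set_option autoImplicit false
universe u
open CategoryTheory CategoryTheory.Limits AlgebraicGeometry Topology TopologicalSpace
open AlgSp

namespace Groth.Agent.S10231

/-- Let X be a locally Noetherian algebraic space over a scheme S. Then X is regular (etale locally a
regular scheme: some surjective etale chart from a locally Noetherian scheme all of whose local
rings are regular) if and only if every etale local ring of X at a geometric point is a regular
local ring. -/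
theorem result {S : Scheme.{u}} (X : AlgSp.Space S) (hX : AlgSp.IsLocNoethSp X.obj) :
    AlgSp.EtaleLocally (fun U => IsLocallyNoetherian U ∧ ∀ u : ↥U, IsRegularLocalRing ↥(U.presheaf.stalk u)) X.obj ↔
      ∀ p : AlgSp.FieldPt X.obj, p.IsGeometric → IsRegularLocalRing ↥(AlgSp.OEtStalk p) := by
  constructor
  · rintro ⟨U, a, hae, has, hU, hreg⟩ p hp
    obtain ⟨v, hv⟩ := Groth.Agent.H51.exists_lift_of_chart p hp a hae has
    let l : (AlgSp.FieldPt.liftsTo p).obj (AlgSp.EtOver.mk a hae) := ⟨v, hv⟩
    have hu := Groth.Agent.H51.ofPt_lift_eq p l (default : Spec (CommRingCat.of p.K))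
    exact (Groth.Agent.H51.shPackage_of_ofPt_eq X p hp a hae _ hu).isRegularLocalRing_iff.2
      (hreg _)
  · intro h
    obtain ⟨U, a, hae, has, hU⟩ := hX
    refine ⟨U, a, hae, has, hU, fun u => ?_⟩
    obtain ⟨p, hp, hpx⟩ := Groth.Agent.H51.exists_geometric_over (AlgSp.Points.ofPt a u)
    exact (Groth.Agent.H51.shPackage_of_ofPt_eq X p hp a hae u hpx.symm).isRegularLocalRing_iff.1
      (h p hp)

end Groth.Agent.S10231
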