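import Groth.Statements.S10232
import Groth.Agent.H51.OEtSH7

set_option autoImplicit false
universe u
open CategoryTheory CategoryTheory.Limits AlgebraicGeometry Topology TopologicalSpace
open AlgSp

namespace Groth.Agent.S10232

/-- Let X be an algebraic space over a scheme S and x ∈ |X|. Then X is regular at x (for some etale
chart h_U ⟶ X and some point u of U over x, the local ring of U at u is regular) if and only if the
etale local ring of X at x̄ is regular for every geometric point x̄ lying over x, if and only if it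
is regular for some geometric point x̄ lying over x. -/
theorem result {S : Scheme.{u}} (X : AlgSp.Space S) (x : AlgSp.Points X.obj) :
    (AlgSp.HasAt (fun U u => IsRegularLocalRing ↥(U.presheaf.stalk u)) X.obj x ↔
      ∀ p : AlgSp.FieldPt X.obj, p.IsGeometric → AlgSp.Points.mk p = x → IsRegularLocalRing ↥(AlgSp.OEtStalk p)) ∧
    (AlgSp.HasAt (fun U u => IsRegularLocalRing ↥(U.presheaf.stalk u)) X.obj x ↔
      ∃ p : AlgSp.FieldPt X.obj, p.IsGeometric ∧ AlgSp.Points.mk p = x ∧ IsRegularLocalRing ↥(AlgSp.OEtStalk p)) := by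
  have key : ∀ (U : Over S) (a : (AlgSp.yon S).obj U ⟶ X.obj) (u : ↥U.left),
      AlgSp.RepWith @Etale a → AlgSp.Points.ofPt a u = x →
      ∀ p : AlgSp.FieldPt X.obj, p.IsGeometric → AlgSp.Points.mk p = x →
        (IsRegularLocalRing ↥(AlgSp.OEtStalk p) ↔ IsRegularLocalRing ↥(U.left.presheaf.stalk u)) :=
    fun U a u hae hu p hp hpx =>
      (Groth.Agent.H51.shPackage_of_ofPt_eq X p hp a hae u (hu.trans hpx.symm)).isRegularLocalRing_iff
  have hex := Groth.Agent.H51.exists_geometric_over x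
  refine ⟨⟨?_, ?_⟩, ⟨?_, ?_⟩⟩
  · rintro ⟨U, a, u, hae, hu, hreg⟩ p hp hpx
    exact (key U a u hae hu p hp hpx).2 hreg
  · intro h
    obtain ⟨p, hp, hpx⟩ := hex
    obtain ⟨U, a, u, hae, hu⟩ := Groth.Agent.H51.exists_chart_of_geometric X p hp
    exact ⟨U, a, u, hae, hu.trans hpx, (key U a u hae (hu.trans hpx) p hp hpx).1 (h p hp hpx)⟩
  · rintro ⟨U, a, u, hae, hu, hreg⟩
    obtain ⟨p, hp, hpx⟩ := hex
    exact ⟨p, hp, hpx, (key U a u hae hu p hp hpx).2 hreg⟩
  · rintro ⟨p, hp, hpx, hreg⟩
    obtain ⟨U, a, u, hae, hu⟩ := Groth.Agent.H51.exists_chart_of_geometric X p hp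
    exact ⟨U, a, u, hae, hu.trans hpx, (key U a u hae (hu.trans hpx) p hp hpx).1 hreg⟩

end Groth.Agent.S10232
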