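import Groth.Statements.S10235
import Groth.Agent.H40.GQ.CoversOfClosed
import Groth.Agent.H40.QuotShDesc

set_option autoImplicit false
universe u
open CategoryTheory CategoryTheory.Limits AlgebraicGeometry Topology TopologicalSpace
open AlgSp

namespace Groth.Agent.S10235

/-- Let (U, R, s, t, c) be a groupoid scheme over a scheme S whose source and target maps s, t : R ⟶ U
are finite locally free and whose map j = (t, s) is an equivalence relation, and suppose that in
each nonempty closed subset of U one can find a point u such that some affine open of U contains the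
whole equivalence class t(s⁻¹{u}) of u. Then there are a scheme M over S and a finite locally free
morphism U ⟶ M over S such that the square with the two maps t, s : R ⟶ U over U ⟶ M is cartesian (R
= U ×_M U) and U ⟶ M exhibits h_M as the quotient of h_U by the pair h_R ⇉ h_U in the category of
fppf sheaves. -/
theorem result {S : Scheme.{u}} (G : Grpd.GroupoidScheme S)
    (hs : Mor2.IsFinLocFree G.s) (ht : Mor2.IsFinLocFree G.t)
    (heq : AlgSp.IsEqvRel (Over.homMk G.s G.s_over : Over.mk G.pR ⟶ Over.mk G.pU) (Over.homMk G.t G.t_over : Over.mk G.pR ⟶ Over.mk G.pU))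
    (h3 : ∀ Z : Set ↥G.U, IsClosed Z → Z.Nonempty →
      ∃ u ∈ Z, ∃ W : G.U.Opens, IsAffineOpen W ∧ ∀ r : ↥G.R, G.s r = u → G.t r ∈ W) :
    ∃ (M : Over S) (m : Over.mk G.pU ⟶ M), Mor2.IsFinLocFree m.left ∧ IsPullback G.t G.s m.left m.left ∧
      QuotSh.IsQuotient Scheme.fppfPrecoverage (Over.homMk G.s G.s_over : Over.mk G.pR ⟶ Over.mk G.pU) (Over.homMk G.t G.t_over : Over.mk G.pR ⟶ Over.mk G.pU) m := by
  obtain ⟨hs1, hs2, hs3⟩ := hs
  haveI := hs1
  haveI := hs2
  haveI := hs3
  haveI : Mono G.j := Groth.Agent.H40.GQ.mono_j_of_injective G heq.injective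
  have hcov : Groth.Agent.H40.GQ.Covers G := Groth.Agent.H40.GQ.covers_of_closed G h3
  have hpb := Groth.Agent.H40.GQ.isPullback_quotP hcov
  haveI : QuasiCompact (Groth.Agent.H40.GQ.quotP hcov) := inferInstance
  have hee : EffectiveEpi (Groth.Agent.H40.GQ.quotP hcov) := inferInstance
  have hdesc : ∀ {Z : Scheme.{u}} (g₁ g₂ : Z ⟶ G.U),
      g₁ ≫ Groth.Agent.H40.GQ.quotP hcov = g₂ ≫ Groth.Agent.H40.GQ.quotP hcov →
      g₁ ≫ G.pU = g₂ ≫ G.pU := by
    intro Z g₁ g₂ hg
    have h1 : hpb.lift g₁ g₂ hg ≫ G.t = g₁ := hpb.lift_fst _ _ _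
    have h2 : hpb.lift g₁ g₂ hg ≫ G.s = g₂ := hpb.lift_snd _ _ _
    calc g₁ ≫ G.pU = (hpb.lift g₁ g₂ hg ≫ G.t) ≫ G.pU := by rw [h1]
      _ = (hpb.lift g₁ g₂ hg ≫ G.s) ≫ G.pU := by
        rw [Category.assoc, Category.assoc, G.t_over, G.s_over]
      _ = g₂ ≫ G.pU := by rw [h2]
  have hm : Groth.Agent.H40.GQ.quotP hcov ≫
      EffectiveEpi.desc (Groth.Agent.H40.GQ.quotP hcov) G.pU hdesc = G.pU :=
    EffectiveEpi.fac _ _ _
  refine ⟨Over.mk (EffectiveEpi.desc (Groth.Agent.H40.GQ.quotP hcov) G.pU hdesc),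
    Over.homMk (Groth.Agent.H40.GQ.quotP hcov) hm,
    ⟨(inferInstance : IsFinite (Groth.Agent.H40.GQ.quotP hcov)),
      (inferInstance : Flat (Groth.Agent.H40.GQ.quotP hcov)),
      (inferInstance : LocallyOfFinitePresentation (Groth.Agent.H40.GQ.quotP hcov))⟩,
    hpb, ?_⟩
  apply Groth.Agent.H40.QuotShLoc.isQuotient_of_isKernelPair
  · refine IsPullback.of_map (Over.forget S) ?_ hpb.flip
    apply Over.OverMorphism.ext
    simp only [Over.comp_left, Over.homMk_left]
    exact (Groth.Agent.H40.GQ.t_quotP hcov).symm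
  · intro T y
    apply Groth.Agent.H40.QuotShLoc.liftSieve_mem_of_cover
    intro Z g
    change Presieve.singleton (pullback.fst g (Groth.Agent.H40.GQ.quotP hcov)) ∈ _
    exact Scheme.Hom.singleton_mem_fppfPrecoverage _

end Groth.Agent.S10235
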