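import Groth.Statements.S10239
import Groth.Agent.H51.OEtSH8

set_option autoImplicit false
universe u
open CategoryTheory CategoryTheory.Limits AlgebraicGeometry Topology TopologicalSpace
open AlgSp

namespace Groth.Agent.S10239

/-- (1) ⇔ (4) ⇔ (5): let X be an algebraic space over a scheme S, x ∈ |X| and n ≥ 1 an integer. The
following are equivalent: (1) for every scheme U, etale h_U ⟶ X and u ∈ U over x the local ring of U
at u has at most n minimal primes, and for some such (U, u) exactly n; (4) for every such (U, u) the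
number of geometric branches of U at u is n; (5) for every geometric point x̄ over x the etale local
ring of X at x̄ has exactly n minimal primes. -/
theorem result {S : Scheme.{u}} (X : AlgSp.Space S) (x : AlgSp.Points X.obj)
    (n : ℕ) (hn : 1 ≤ n) :
    (((∀ (U : Over S) (a : (AlgSp.yon S).obj U ⟶ X.obj) (u : ↥U.left),
        AlgSp.RepWith @Etale a → AlgSp.Points.ofPt a u = x → (minimalPrimes ↥(U.left.presheaf.stalk u)).encard ≤ n) ∧
        AlgSp.HasAt (fun U u => (minimalPrimes ↥(U.presheaf.stalk u)).encard = n) X.obj x) ↔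
      (∀ (U : Over S) (a : (AlgSp.yon S).obj U ⟶ X.obj) (u : ↥U.left),
        AlgSp.RepWith @Etale a → AlgSp.Points.ofPt a u = x → Brnch.numGeomBranchesAt U.left u = n)) ∧
    ((∀ (U : Over S) (a : (AlgSp.yon S).obj U ⟶ X.obj) (u : ↥U.left),
        AlgSp.RepWith @Etale a → AlgSp.Points.ofPt a u = x → Brnch.numGeomBranchesAt U.left u = n) ↔
      ∀ p : AlgSp.FieldPt X.obj, p.IsGeometric → AlgSp.Points.mk p = x →
        (minimalPrimes ↥(AlgSp.OEtStalk p)).encard = n) := by
  classical
  have hex := Groth.Agent.H51.exists_geometric_over x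
  have pk : ∀ (U : Over S) (a : (AlgSp.yon S).obj U ⟶ X.obj) (u : ↥U.left)
      (hae : AlgSp.RepWith @Etale a), AlgSp.Points.ofPt a u = x →
      ∀ p : AlgSp.FieldPt X.obj, p.IsGeometric → AlgSp.Points.mk p = x →
        Groth.Agent.H51.SHPackage (U.left.presheaf.stalk u) (AlgSp.OEtStalk p) :=
    fun U a u hae hu p hp hpx =>
      Groth.Agent.H51.shPackage_of_ofPt_eq X p hp a hae u (hu.trans hpx.symm)
  -- (4) ↔ (5)
  have K : (∀ (U : Over S) (a : (AlgSp.yon S).obj U ⟶ X.obj) (u : ↥U.left),
        AlgSp.RepWith @Etale a → AlgSp.Points.ofPt a u = x →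
          Brnch.numGeomBranchesAt U.left u = n) ↔
      ∀ p : AlgSp.FieldPt X.obj, p.IsGeometric → AlgSp.Points.mk p = x →
        (minimalPrimes ↥(AlgSp.OEtStalk p)).encard = n := by
    constructor
    · intro h p hp hpx
      obtain ⟨U, a, u, hae, hu⟩ := Groth.Agent.H51.exists_chart_of_geometric X p hp
      rw [(pk U a u hae (hu.trans hpx) p hp hpx).encard_minimalPrimes]
      exact h U a u hae (hu.trans hpx)
    · intro h U a u hae hu
      obtain ⟨p, hp, hpx⟩ := hex
      change Brnch.numGeomBranches (U.left.presheaf.stalk u) = n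
      rw [← (pk U a u hae hu p hp hpx).encard_minimalPrimes]
      exact h p hp hpx
  -- (1) ↔ (5)
  have L : ((∀ (U : Over S) (a : (AlgSp.yon S).obj U ⟶ X.obj) (u : ↥U.left),
        AlgSp.RepWith @Etale a → AlgSp.Points.ofPt a u = x →
          (minimalPrimes ↥(U.left.presheaf.stalk u)).encard ≤ n) ∧
        AlgSp.HasAt (fun U u => (minimalPrimes ↥(U.presheaf.stalk u)).encard = n) X.obj x) ↔
      ∀ p : AlgSp.FieldPt X.obj, p.IsGeometric → AlgSp.Points.mk p = x →
        (minimalPrimes ↥(AlgSp.OEtStalk p)).encard = n := by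
    constructor
    · rintro ⟨h1, U₀, a₀, u₀, hae₀, hu₀, hn₀⟩ p hp hpx
      refine le_antisymm ?_ ?_
      · by_contra hcon
        rw [not_le] at hcon
        have hk : ((n + 1 : ℕ) : ℕ∞) ≤ (minimalPrimes ↥(AlgSp.OEtStalk p)).encard := by
          rw [Nat.cast_add, Nat.cast_one]
          exact Order.add_one_le_of_lt hcon
        obtain ⟨t, hts, ht⟩ := Set.exists_subset_encard_eq hk
        have htf : t.Finite := Set.finite_of_encard_eq_coe ht
        obtain ⟨V, b, v, hbe, hv, hle⟩ := Groth.Agent.H51.exists_chart_card_le X p hp htf.toFinset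
          (fun Q hQ => hts (htf.mem_toFinset.1 hQ))
        have hc : ((htf.toFinset.card : ℕ) : ℕ∞) = ((n + 1 : ℕ) : ℕ∞) := by
          rw [← htf.encard_eq_coe_toFinset_card, ht]
        rw [hc] at hle
        have := hle.trans (h1 V b v hbe (hv.trans hpx))
        have h2 : n + 1 ≤ n := by exact_mod_cast this
        omega
      · have := (pk U₀ a₀ u₀ hae₀ hu₀ p hp hpx).encard_minimalPrimes_le
        have hn₀' : (minimalPrimes ↥(U₀.left.presheaf.stalk u₀)).encard = n := hn₀
        rw [hn₀'] at this
        exact this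
    · intro h
      have h1 : ∀ (U : Over S) (a : (AlgSp.yon S).obj U ⟶ X.obj) (u : ↥U.left),
          AlgSp.RepWith @Etale a → AlgSp.Points.ofPt a u = x →
            (minimalPrimes ↥(U.left.presheaf.stalk u)).encard ≤ n := by
        intro U a u hae hu
        obtain ⟨p, hp, hpx⟩ := hex
        have := (pk U a u hae hu p hp hpx).encard_minimalPrimes_le
        rw [h p hp hpx] at this
        exact this
      refine ⟨h1, ?_⟩
      obtain ⟨p, hp, hpx⟩ := hex
      have hpn := h p hp hpx
      have htf : (minimalPrimes ↥(AlgSp.OEtStalk p)).Finite := Set.finite_of_encard_eq_coe hpn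
      obtain ⟨V, b, v, hbe, hv, hle⟩ := Groth.Agent.H51.exists_chart_card_le X p hp htf.toFinset
        (fun Q hQ => htf.mem_toFinset.1 hQ)
      have hc : ((htf.toFinset.card : ℕ) : ℕ∞) = (n : ℕ∞) := by
        rw [← htf.encard_eq_coe_toFinset_card, hpn]
      rw [hc] at hle
      exact ⟨V, b, v, hbe, hv.trans hpx, le_antisymm (h1 V b v hbe (hv.trans hpx)) hle⟩
  exact ⟨L.trans K.symm, K⟩

end Groth.Agent.S10239
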