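import Groth.Statements.S10244
import Groth.Agent.H51.SpOpen

set_option autoImplicit false
universe u
open CategoryTheory CategoryTheory.Limits AlgebraicGeometry Topology TopologicalSpace
open AlgSp

namespace Groth.Agent.S10244

/-- Let X be an algebraic space over a scheme S and X_i ⟶ X a family of open subspaces. Then the X_i
form a Zariski covering of X in the sense that for every scheme T and every h_T ⟶ X the open
subschemes T ×_X X_i cover T, if and only if |X| is the union of the |X_i|. -/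
theorem result {S : Scheme.{u}} (X : AlgSp.Space S) {ι : Type u} (Xi : ι → AlgSp.Space S)
    (j : ∀ i, Xi i ⟶ X) (hj : ∀ i, AlgSp.RepWith @IsOpenImmersion (j i).hom) :
    AlgSp.IsZarCover (fun i => (Xi i).obj) (fun i => (j i).hom) ↔
      ∀ (T : Over S) (g : (AlgSp.yon S).obj T ⟶ X.obj) (t : ↥T.left),
        ∃ (i : ι) (P : Over S) (fst : (AlgSp.yon S).obj P ⟶ (Xi i).obj) (snd : P ⟶ T),
          IsPullback fst ((AlgSp.yon S).map snd) (j i).hom g ∧ t ∈ Set.range snd.left := by
  constructor
  · rintro ⟨-, hx⟩ T g t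
    obtain ⟨i, x', hx'⟩ := hx (AlgSp.Points.ofPt g t)
    have sq := (hj i).rep.isPullback g
    rw [Groth.Agent.H51.ofPt_eq_map_schemeHomeo] at hx'
    obtain ⟨z, -, hz⟩ := Groth.Agent.H50.points_exists_of_isPullback sq x' _ hx'
    obtain ⟨v, rfl⟩ := (AlgSp.Points.schemeHomeo _).surjective z
    rw [AlgSp.Points.map_yon_map_apply] at hz
    exact ⟨i, _, _, _, sq, v, (AlgSp.Points.schemeHomeo T).injective hz⟩
  · intro h
    refine ⟨hj, fun x => ?_⟩
    obtain ⟨T, g, t, rfl⟩ := Groth.Agent.H51.exists_ofPt_eq _ x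
    obtain ⟨i, P, fst, snd, sq, p, rfl⟩ := h T g t
    refine ⟨i, AlgSp.Points.ofPt fst p, ?_⟩
    rw [AlgSp.Points.map_ofPt, sq.w, Groth.Agent.H51.ofPt_map_comp]

end Groth.Agent.S10244
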