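import Groth.Statements.S10258
import Groth.Agent.H51.SpEtStalk

set_option autoImplicit false
universe u
open CategoryTheory CategoryTheory.Limits AlgebraicGeometry Topology TopologicalSpace
open AlgSp

namespace Groth.Agent.S10258

/-- Let X be an algebraic space over a scheme S, a : F ⟶ G a morphism of abelian sheaves on the small
etale site of X and x ∈ |X|. If a is surjective (an epimorphism of sheaves) and x lies in the
support of G, i.e. G_x̄ ≠ 0 for some geometric point x̄ over x, then x lies in the support of F; if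
a is injective (a monomorphism) and x lies in the support of F, then x lies in the support of G.
(The published definition of the support allows any, equivalently some, geometric point over x; this
row uses the existential form and does not assert that the two readings agree.) -/
theorem result {S : Scheme.{u}} (X : AlgSp.Space S) {F G : AlgSp.AbEt X.obj}
    (a : F ⟶ G) (x : AlgSp.Points X.obj) :
    (Epi a → (∃ p : AlgSp.FieldPt X.obj, p.IsGeometric ∧ AlgSp.Points.mk p = x ∧ ¬ IsZero (AlgSp.stalkEt p G)) →
        ∃ p : AlgSp.FieldPt X.obj, p.IsGeometric ∧ AlgSp.Points.mk p = x ∧ ¬ IsZero (AlgSp.stalkEt p F)) ∧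
    (Mono a → (∃ p : AlgSp.FieldPt X.obj, p.IsGeometric ∧ AlgSp.Points.mk p = x ∧ ¬ IsZero (AlgSp.stalkEt p F)) →
        ∃ p : AlgSp.FieldPt X.obj, p.IsGeometric ∧ AlgSp.Points.mk p = x ∧ ¬ IsZero (AlgSp.stalkEt p G)) := by
  constructor
  · rintro hE ⟨p, hp, hx, hG⟩
    refine ⟨p, hp, hx, fun hF => hG ?_⟩
    haveI h1 := Groth.Agent.H51.stalkEt_preservesFiniteColimits_ab X p hp
    haveI h2 : (AlgSp.stalkEtFunctor AddCommGrpCat.{u + 1} p).PreservesEpimorphisms := inferInstance
    haveI h3 : Epi ((AlgSp.stalkEtFunctor AddCommGrpCat.{u + 1} p).map a) := Functor.map_epi _ a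
    have hF' : IsZero ((AlgSp.stalkEtFunctor AddCommGrpCat.{u + 1} p).obj F) := hF
    have hres := IsZero.of_epi ((AlgSp.stalkEtFunctor AddCommGrpCat.{u + 1} p).map a) hF'
    exact hres
  · rintro hM ⟨p, hp, hx, hF⟩
    refine ⟨p, hp, hx, fun hG => hF ?_⟩
    haveI h1 := Groth.Agent.H51.stalkEt_preservesFiniteLimits_ab X p hp
    haveI h2 : (AlgSp.stalkEtFunctor AddCommGrpCat.{u + 1} p).PreservesMonomorphisms := inferInstance
    haveI h3 : Mono ((AlgSp.stalkEtFunctor AddCommGrpCat.{u + 1} p).map a) := Functor.map_mono _ a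
    have hG' : IsZero ((AlgSp.stalkEtFunctor AddCommGrpCat.{u + 1} p).obj G) := hG
    have hres := IsZero.of_mono ((AlgSp.stalkEtFunctor AddCommGrpCat.{u + 1} p).map a) hG'
    exact hres

end Groth.Agent.S10258
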