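import Groth.Statements.S10274
import Groth.Agent.S9949
import Groth.Agent.S9904
import Groth.Agent.H49.AlgSpClosed
import Groth.Agent.H49.AlgSpQC
import Groth.Agent.H51.SpUnram

set_option autoImplicit false
universe u
open CategoryTheory CategoryTheory.Limits AlgebraicGeometry
open AlgSp

namespace Groth.Agent.S10274

/-- (4) ⇒ (1): properness of a morphism of algebraic spaces descends along a surjective etale base
change from a scheme. -/
theorem result {S : Scheme.{u}} {X Y : AlgSp.Space S} (f : X ⟶ Y) (V : Over S)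
    (p : (AlgSp.yon S).obj V ⟶ Y.obj) (hp : AlgSp.RepWith @Etale p) (hps : AlgSp.RepWith @Surjective p)
    {P : AlgSp.Sp S} (fst : P ⟶ X.obj) (snd : P ⟶ (AlgSp.yon S).obj V) (sq : IsPullback fst snd f.hom p)
    (h : AlgSp.IsProperMor snd) : AlgSp.IsProperMor f.hom := by
  obtain ⟨h1, ⟨h2, h3⟩, h4⟩ := h
  have hP : AlgSp.IsAlgSpace P :=
    Groth.Agent.H49.isAlgSpace_of_isPullback sq Y.property.diag X.property (AlgSp.IsAlgSpace.yon_obj V)
  refine ⟨(Groth.Agent.S9904.result f V p hp hps fst snd sq).1 h1,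
    ⟨Groth.Agent.S9949.result f V p hp hps fst snd sq h2, ?_⟩,
    Groth.Agent.H49.isUnivClosedMor_of_etale_cover f.hom p hp hps fst snd sq h4⟩
  exact Groth.Agent.H49.isQuasiCompactMor_of_univOpen_surjective_baseChange X.property Y.property
    (AlgSp.IsAlgSpace.yon_obj V) f.hom p fst snd sq
    (Groth.Agent.H49.isUnivOpenMor_of_isEtaleMor (AlgSp.IsAlgSpace.yon_obj V) p
      (Groth.Agent.H51.isEtaleMor_of_repWith_etale hp))
    (Groth.Agent.H51.surjective_map_of_repWith_surjective p hps) h3

end Groth.Agent.S10274
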