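import Groth.Statements.S10285
import Groth.Agent.H50.VC7
import Groth.Agent.H51.SpValRep

set_option autoImplicit false
universe u
open CategoryTheory CategoryTheory.Limits AlgebraicGeometry
open AlgSp

namespace Groth.Agent.S10285

/-- For a separated morphism of algebraic spaces the two forms of the existence part of the valuative
criterion (with and without extensions) agree. -/
theorem result {S : Scheme.{u}} {X Y : AlgSp.Space S} (f : X ⟶ Y)
    (hf : AlgSp.IsSeparatedMor f.hom) : AlgSp.ExistVC f.hom ↔ AlgSp.ExistVCStrict f.hom := by
  exact ⟨fun h sq => Groth.Agent.H50.VC.hasLift_of_domExt_of_separated X.property Y.property f.hom hf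
      sq (h sq).choose (h sq).choose_spec,
    Groth.Agent.H51.existVC_of_existVCStrict f.hom⟩

end Groth.Agent.S10285
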