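import Groth.Statements.S7142
import Groth.Agent.H16.PerfK0D
import Mathlib.Algebra.Category.ModuleCat.Projective
import Mathlib.Algebra.Category.ModuleCat.Biproducts
import Mathlib.Algebra.Module.Projective
import Mathlib.RingTheory.Finiteness.Prod

set_option autoImplicit false
universe u
open CategoryTheory CategoryTheory.Limits
attribute [local instance] HasDerivedCategory.standard
open KZero

namespace Groth.Agent.S7142

open Groth.Agent.H16.PerfK0

section

variable (R : Type u) [CommRing R]

/-- finite projective modules -/
abbrev Pfp : ObjectProperty (ModuleCat.{u} R) :=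
  fun M : ModuleCat.{u} R => Module.Finite R M ∧ Module.Projective R M

theorem pfp_iso {X Y : ModuleCat.{u} R} (e : X ≅ Y) (hX : Pfp R X) : Pfp R Y := by
  obtain ⟨h1, h2⟩ := hX
  exact ⟨Module.Finite.equiv e.toLinearEquiv, Module.Projective.of_equiv e.toLinearEquiv⟩

theorem projClass_pfp : ProjClass (Pfp R) where
  iso := fun e hX => pfp_iso R e hX
  zero := fun X hX => by
    have : Subsingleton X := ModuleCat.subsingleton_of_isZero hX
    exact ⟨inferInstance, inferInstance⟩
  biprod := fun X Y hX hY => by
    obtain ⟨h1, h2⟩ := hX
    obtain ⟨h3, h4⟩ := hY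
    have : Pfp R (ModuleCat.of R (X × Y)) := ⟨inferInstance, inferInstance⟩
    exact pfp_iso R (ModuleCat.biprodIsoProd X Y).symm this
  retract := fun X Y i r hir hY => by
    obtain ⟨h1, h2⟩ := hY
    have hs : r.hom.comp i.hom = LinearMap.id := by
      have := congrArg ModuleCat.Hom.hom hir
      simpa using this
    refine ⟨?_, Module.Projective.of_split i.hom r.hom hs⟩
    apply Module.Finite.of_surjective r.hom
    intro x
    exact ⟨i.hom x, by
      have := LinearMap.congr_fun hs x
      simpa using this⟩
  proj := fun X hX => by
    obtain ⟨_, h2⟩ := hX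
    infer_instance

theorem perf_iff (K : Dual.D R) : DRing.IsPerfect R K ↔ Perf (Pfp R) K := by
  constructor
  · rintro ⟨E, a, b, hab, hE, he⟩
    exact ⟨E, ⟨⟨a, b, hab⟩, hE⟩, he⟩
  · rintro ⟨E, ⟨⟨a, b, hab⟩, hE⟩, he⟩
    exact ⟨E, a, b, hab, hE, he⟩

end

/-- Let R be a ring. There is an isomorphism K₀(R) ≅ K₀(D_perf(R)) between the Grothendieck group of
finite projective R-modules and that of the triangulated category of perfect objects of D(R),
sending the class of a finite projective module M to the class of M placed in degree 0; under its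
inverse the class of a bounded complex M^• of finite projective modules (vanishing outside [a, b])
goes to Σ_i (-1)^i [M^i]. -/
theorem result (R : Type u) [CommRing R] :
    ∃ φ : KZero.K0sub (fun M : ModuleCat.{u} R => Module.Finite R M ∧ Module.Projective R M) ≃+
        KZero.K0tr (fun K : Dual.D R => DRing.IsPerfect R K),
      (∀ (M : Type u) [AddCommGroup M] [Module R M], Module.Finite R M → Module.Projective R M →
        φ (KZero.clSub (fun M : ModuleCat.{u} R => Module.Finite R M ∧ Module.Projective R M) (ModuleCat.of R M)) =
          KZero.clTr (fun K : Dual.D R => DRing.IsPerfect R K) (Dual.inD R M)) ∧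
      ∀ (E : DRing.Cx R) (a b : ℤ), DRing.VanishesOutside E a b → DRing.TermwiseFiniteProjective E →
        φ.symm (KZero.clTr (fun K : Dual.D R => DRing.IsPerfect R K) (DRing.toD E)) =
          (Finset.Icc a b).sum (fun i => (i.negOnePow : ℤ) •
            KZero.clSub (fun M : ModuleCat.{u} R => Module.Finite R M ∧ Module.Projective R M) (E.X i)) := by
  have hEq : (fun K : Dual.D R => DRing.IsPerfect R K) = Perf (Pfp R) :=
    funext fun K => propext (perf_iff R K)
  rw [hEq]
  refine ⟨equiv (projClass_pfp R), ?_, ?_⟩
  · intro M _ _ h1 h2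
    exact equiv_clSub (projClass_pfp R) (X := ModuleCat.of R M) ⟨h1, h2⟩
  · intro E a b hab hE
    exact equiv_symm_clTr_Q (projClass_pfp R) E a b hab hE

end Groth.Agent.S7142
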