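import Groth.Statements.S1029
import Groth.Agent.H5.DQ.K0Tilde
import Groth.Agent.S7142

set_option autoImplicit false
universe u
open CategoryTheory CategoryTheory.Limits AlgebraicGeometry
attribute [local instance] HasDerivedCategory.standard
open KZero

namespace Groth.Agent.S1029

/-- Let A be a ring and X = Spec A. There is an isomorphism from K₀(A) (free abelian group on finite
projective A-modules modulo short exact sequences of such) to K₀(X) = K₀(D_perf(O_X)) (free abelian
group on perfect objects of D(O_X) modulo distinguished triangles among them) sending the class of M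
to the class of M~ placed in degree 0. -/
theorem result (A : Type u) [CommRing A] :
    ∃ φ : KZero.K0sub (fun M : ModuleCat.{u} A => Module.Finite A M ∧ Module.Projective A M) ≃+
        KZero.K0tr (fun K : DCoh.D (Spec (CommRingCat.of A)) => DCoh.IsPerfect K),
      ∀ (M : ModuleCat.{u} A), Module.Finite A M → Module.Projective A M →
        φ (KZero.clSub (fun M : ModuleCat.{u} A => Module.Finite A M ∧ Module.Projective A M) M) =
          KZero.clTr (fun K : DCoh.D (Spec (CommRingCat.of A)) => DCoh.IsPerfect K) (DCoh.inD (Spec (CommRingCat.of A)) (tilde M)) := by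
  haveI := Groth.Agent.H47.tilde_preservesFiniteLimits (CommRingCat.of A)
  obtain ⟨φ₁, hφ₁, -⟩ := Groth.Agent.S7142.result A
  obtain ⟨φ₂, hφ₂⟩ := Groth.Agent.H5.DQ.K0Tilde.exists_K0tr_equiv_tildeD A
  refine ⟨φ₁.trans φ₂, fun M hfin hproj => ?_⟩
  have h1 := hφ₁ M hfin hproj
  have hperf : DRing.IsPerfect A (Dual.inD A M) := by
    refine ⟨(CochainComplex.singleFunctor (ModuleCat.{u} A) 0).obj M, 0, 0, ?_, ?_,
      ⟨((DerivedCategory.singleFunctorIsoCompQ (ModuleCat.{u} A) 0).app M).symm⟩⟩
    · intro i hi
      exact HomologicalComplex.isZero_single_obj_X (ComplexShape.up ℤ) 0 M i (by omega)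
    · intro i
      by_cases hi : i = 0
      · subst hi
        let e : ((CochainComplex.singleFunctor (ModuleCat.{u} A) 0).obj M).X 0 ≅ M :=
          HomologicalComplex.singleObjXSelf (ComplexShape.up ℤ) 0 M
        exact ⟨Module.Finite.equiv e.symm.toLinearEquiv,
          Module.Projective.of_equiv e.symm.toLinearEquiv⟩
      · have hz : IsZero (((CochainComplex.singleFunctor (ModuleCat.{u} A) 0).obj M).X i) :=
          HomologicalComplex.isZero_single_obj_X (ComplexShape.up ℤ) 0 M i hi
        haveI : Subsingleton (((CochainComplex.singleFunctor (ModuleCat.{u} A) 0).obj M).X i) :=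
          ModuleCat.subsingleton_of_isZero hz
        exact ⟨inferInstance, inferInstance⟩
  have h2 := hφ₂ _ hperf
  have hP1 : DCoh.IsPerfect ((DCoh.tildeD (CommRingCat.of A)).obj (Dual.inD A M)) :=
    (Groth.Agent.S1105.result A _).2 hperf
  let e : (DCoh.tildeD (CommRingCat.of A)).obj (Dual.inD A M) ≅
      DCoh.inD (Spec (CommRingCat.of A)) (tilde M) :=
    Groth.Agent.H5.DQ.K0Tilde.tildeDSingleIso (CommRingCat.of A) M
  have h3 := Groth.Agent.H16.K0Der.clTr_iso
    (fun K : DCoh.D (Spec (CommRingCat.of A)) => DCoh.IsPerfect K)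
    Groth.Agent.H5.DQ.K0Tilde.isPerfect_zero' e hP1
    (Groth.Agent.H5.PerfectTriangle.isPerfect_of_iso e hP1)
  rw [AddEquiv.trans_apply]
  exact (congrArg φ₂ h1).trans (h2.trans h3)

end Groth.Agent.S1029
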