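import Groth.Statements.S10293
import Groth.Agent.H50.AffineLocal4
import Groth.Agent.H51.SpAffine
import Groth.Agent.H52.AtlasLocal
import Groth.Agent.H52.FlatDescent
import Mathlib.AlgebraicGeometry.Morphisms.LocalFlatDescent

set_option backward.isDefEq.respectTransparency false

set_option autoImplicit false
universe u
open CategoryTheory CategoryTheory.Limits AlgebraicGeometry
open AlgSp

namespace Groth.Agent.S10293

/-- (3) ⇒ (1): being finite locally free descends along a surjective etale base change from a scheme. -/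
theorem result {S : Scheme.{u}} {X Y : AlgSp.Space S} (f : X ⟶ Y) (V : Over S)
    (p : (AlgSp.yon S).obj V ⟶ Y.obj) (hp : AlgSp.RepWith @Etale p) (hps : AlgSp.RepWith @Surjective p)
    {P : AlgSp.Sp S} (fst : P ⟶ X.obj) (snd : P ⟶ (AlgSp.yon S).obj V) (sq : IsPullback fst snd f.hom p)
    (h : AlgSp.IsFinLocFreeMor snd) : AlgSp.IsFinLocFreeMor f.hom := by
  have hfinaff : ∀ {A B : Scheme.{u}} (g : A ⟶ B), IsFinite g → IsAffineHom g :=
    fun g hg => inferInstance
  have r1 : AlgSp.RepWith @IsFinite snd :=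
    ⟨h.rep, fun T V g fst snd sq => (h.property g fst snd sq).1⟩
  -- the represented pullback of `f` along the atlas
  have sq0 := h.rep.isPullback (𝟙 ((AlgSp.yon S).obj V))
  have hprop := h.property _ _ _ sq0
  have sqV : IsPullback (h.rep.fst (𝟙 ((AlgSp.yon S).obj V)) ≫ fst)
      ((AlgSp.yon S).map (h.rep.snd (𝟙 ((AlgSp.yon S).obj V)))) f.hom p := by
    have := sq0.paste_horiz sq
    rwa [Category.id_comp] at this
  -- finiteness
  have hfinsnd := (Groth.Agent.H51.affine_test_iff_repWith @IsFinite hfinaff snd).2 r1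
  have hfin : AlgSp.RepWith @IsFinite f.hom := by
    refine (Groth.Agent.H51.affine_test_iff_repWith @IsFinite hfinaff f.hom).1 ?_
    intro Z hZ g
    obtain ⟨VZ, a, b, sqW⟩ := hp.1 g
    obtain ⟨b', rfl⟩ := (AlgSp.yon S).map_surjective b
    have := Groth.Agent.H1.isFinite_descendsAlong_fpqc.{u}
    exact Groth.Agent.H50.exists_affine_pullback_with_property @IsFinite f.hom hZ g a
      (hp.2 g _ a sqW) (hps.2 g _ a sqW) p b' sqW.w fst snd sq hfinsnd
  have hrep := hfin.rep
  have := Groth.Agent.H1.isFinite_descendsAlong_fpqc.{u}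
  have hflat : AlgSp.RepWith @Flat f.hom :=
    Groth.Agent.H52.repWith_of_atlas @Flat f.hom hrep p hp hps _ _ sqV hprop.2.1
  have hlfp : AlgSp.RepWith @LocallyOfFinitePresentation f.hom :=
    Groth.Agent.H52.repWith_of_atlas @LocallyOfFinitePresentation f.hom hrep p hp hps _ _ sqV
      hprop.2.2
  exact ⟨hrep, fun T V g fst snd sq =>
    ⟨hfin.property g fst snd sq, hflat.property g fst snd sq, hlfp.property g fst snd sq⟩⟩

end Groth.Agent.S10293
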