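import Groth.Statements.S10309
import Groth.Agent.S9355
import Groth.Agent.H53.FibreDimChart
import Groth.Agent.H49.AlgSpOpen
import Groth.Agent.H51.SpBasic

set_option autoImplicit false
universe u
open CategoryTheory CategoryTheory.Limits AlgebraicGeometry
open AlgSp

namespace Groth.Agent.S10309

/-- For f locally of finite presentation, the locus where the relative dimension is at most n is
retrocompact in |X|. -/
theorem result {S : Scheme.{u}} {X Y : AlgSp.Space S} (f : X ⟶ Y)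
    (hf : AlgSp.LocP @LocallyOfFinitePresentation f.hom) (n : ℕ) (V : Set (AlgSp.Points X.obj))
    (hV : IsOpen V) (hVc : IsCompact V) :
    IsCompact (V ∩ {x : AlgSp.Points X.obj |
      AlgSp.HasAtMor (fun _ _ h u => FlatMor.fibreDimAt h u ≤ (n : WithBot ℕ∞)) f.hom x}) := by
  classical
  obtain ⟨V₀, b, hb, hbs⟩ := Y.property.atlas
  obtain ⟨U₀, a, h, ha, has, e⟩ := Groth.Agent.H49.exists_chart_lift X.property f.hom b hb hbs
  haveI : LocallyOfFinitePresentation h.left := hf a b h ha hb e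
  have hL' : IsRetrocompact {u : ↥U₀.left | FlatMor.fibreDimAt h.left u ≤ (n : WithBot ℕ∞)} :=
    Groth.Agent.S9355.result h.left n
  have key : ∀ u : ↥U₀.left,
      AlgSp.HasAtMor (fun _ _ h u => FlatMor.fibreDimAt h u ≤ (n : WithBot ℕ∞)) f.hom
        (Points.ofPt a u) ↔ FlatMor.fibreDimAt h.left u ≤ (n : WithBot ℕ∞) := by
    intro u
    constructor
    · rintro ⟨U', V', a', b', h', u', ha', hb', e', hu', hQ⟩
      rw [Groth.Agent.H53.fibreDimAt_chart_indep f.hom a b h a' b' h' ha hb ha' hb' e e' u u'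
        hu'.symm]
      exact hQ
    · intro hQ
      exact ⟨U₀, V₀, a, b, h, u, ha, hb, e, rfl, hQ⟩
  have hopen : IsOpenMap (Points.ofPt a) := Groth.Agent.H51.isOpenMap_ofPt_of_etale a ha
  have hcont : Continuous (Points.ofPt a) := Points.continuous_ofPt a
  have hsurj : Function.Surjective (Points.ofPt a) :=
    Groth.Agent.H51.surjective_ofPt_of_surjective a has
  -- a compact open of the chart mapping onto `V`
  have hloc : ∀ x ∈ V, ∃ W : Set ↥U₀.left, IsOpen W ∧ IsCompact W ∧ W ⊆ Points.ofPt a ⁻¹' V ∧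
      x ∈ Points.ofPt a '' W := by
    intro x hx
    obtain ⟨u, rfl⟩ := hsurj x
    obtain ⟨_, ⟨W, hW, rfl⟩, huW, hWV⟩ := U₀.left.isBasis_affineOpens.exists_subset_of_mem_open
      (show u ∈ Points.ofPt a ⁻¹' V from hx) (hV.preimage hcont)
    have hW' : IsAffineOpen W := hW
    exact ⟨W, W.2, hW'.isCompact, hWV, ⟨u, huW, rfl⟩⟩
  choose! W hWo hWc hWV hxW using hloc
  obtain ⟨t, ht, htV⟩ := hVc.elim_nhds_subcover (fun x => Points.ofPt a '' W x)
    (fun x hx => (hopen _ (hWo x hx)).mem_nhds (hxW x hx))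
  let W₀ : Set ↥U₀.left := ⋃ x ∈ t, W x
  have hW₀o : IsOpen W₀ := isOpen_biUnion fun x hx => hWo x (ht x hx)
  have hW₀c : IsCompact W₀ := t.isCompact_biUnion fun x hx => hWc x (ht x hx)
  have hW₀V : W₀ ⊆ Points.ofPt a ⁻¹' V := Set.iUnion₂_subset fun x hx => hWV x (ht x hx)
  have himg : V ∩ {x : AlgSp.Points X.obj |
      AlgSp.HasAtMor (fun _ _ h u => FlatMor.fibreDimAt h u ≤ (n : WithBot ℕ∞)) f.hom x} =
      Points.ofPt a '' ({u : ↥U₀.left | FlatMor.fibreDimAt h.left u ≤ (n : WithBot ℕ∞)} ∩ W₀) := by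
    ext x
    constructor
    · rintro ⟨hxV, hxL⟩
      obtain ⟨y, hyt, u, huW, rfl⟩ := Set.mem_iUnion₂.1 (htV hxV)
      exact ⟨u, ⟨(key u).1 hxL, Set.mem_biUnion hyt huW⟩, rfl⟩
    · rintro ⟨u, ⟨hu, huW⟩, rfl⟩
      exact ⟨hW₀V huW, (key u).2 hu⟩
  rw [himg]
  exact (hL' hW₀c hW₀o).image hcont

end Groth.Agent.S10309
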