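import Groth.Statements.S10311
import Groth.Agent.H53.BCCharts
import Groth.Agent.H53.FibreDimChart
import Groth.Agent.H49.FibreDimAtBC
import Groth.Agent.H51.SpBasic

set_option autoImplicit false
universe u
open CategoryTheory CategoryTheory.Limits AlgebraicGeometry
open AlgSp

namespace Groth.Agent.S10311

/-- The relative dimension at a point of a morphism locally of finite type is preserved by base change. -/
theorem result {S : Scheme.{u}} {X Y Y' X' : AlgSp.Space S} (f : X ⟶ Y) (g : Y' ⟶ Y)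
    (g' : X' ⟶ X) (f' : X' ⟶ Y') (sq : IsPullback g'.hom f'.hom f.hom g.hom)
    (hf : AlgSp.LocP @LocallyOfFiniteType f.hom) (x' : AlgSp.Points X'.obj) (d : WithBot ℕ∞)
    (hd : AlgSp.HasAtMor (fun _ _ h u => FlatMor.fibreDimAt h u = d) f.hom (AlgSp.Points.map g'.hom x')) :
    AlgSp.HasAtMor (fun _ _ h u => FlatMor.fibreDimAt h u = d) f'.hom x' := by
  obtain ⟨U, V, U', V', a, b, a', b', h, h', k, v, haE, -, hbE, -, ha'E, ha'S, hb'E, -, e, e', ek, -, sqS⟩ :=
    Groth.Agent.H53.exists_baseChange_charts X.property Y.property Y'.property f.hom g.hom g'.hom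
      f'.hom sq
  obtain ⟨u', hu'⟩ := Groth.Agent.H51.surjective_ofPt_of_surjective a' ha'S x'
  have : LocallyOfFiniteType h.left := hf a b h haE hbE e
  have h1 : FlatMor.fibreDimAt h'.left u' = FlatMor.fibreDimAt h.left (k.left u') :=
    Groth.Agent.H49.FibreDimAtBC.fibreDimAt_eq_of_isPullback h.left v.left h'.left k.left sqS u'
  have hpt : Points.ofPt a (k.left u') = Points.map g'.hom x' := by
    rw [← hu', Points.map_ofPt, ek, Groth.Agent.H51.ofPt_map_comp]
  obtain ⟨U₁, V₁, a₁, b₁, h₁, u₁, ha₁, hb₁, e₁, hu₁, hd₁⟩ := hd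
  have h2 : FlatMor.fibreDimAt h.left (k.left u') = d := by
    rw [← hd₁]
    exact Groth.Agent.H53.fibreDimAt_chart_indep f.hom a b h a₁ b₁ h₁ haE hbE ha₁ hb₁ e e₁
      (k.left u') u₁ (hpt.trans hu₁.symm)
  exact ⟨U', V', a', b', h', u', ha'E, hb'E, e', hu', h1.trans h2⟩

end Groth.Agent.S10311
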