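import Groth.Statements.S10313
import Groth.Agent.H53.QfLocus
import Groth.Agent.H51.SpOpen

set_option autoImplicit false
universe u
open CategoryTheory CategoryTheory.Limits AlgebraicGeometry
open AlgSp

namespace Groth.Agent.S10313

/-- For f locally of finite type there is an open subspace of X on which f is locally quasi-finite,
outside of which the relative dimension is at least 1, and whose formation commutes with base
change. -/
theorem result {S : Scheme.{u}} {X Y : AlgSp.Space S} (f : X ⟶ Y)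
    (hf : AlgSp.LocP @LocallyOfFiniteType f.hom) :
    ∃ (X' : AlgSp.Space S) (j : X' ⟶ X), AlgSp.RepWith @IsOpenImmersion j.hom ∧
      AlgSp.LocP (@LocallyQuasiFinite ⊓ @LocallyOfFiniteType) (j ≫ f).hom ∧
      (∀ x : AlgSp.Points X.obj, x ∉ Set.range (AlgSp.Points.map j.hom) →
        AlgSp.HasAtMor (fun _ _ h u => 1 ≤ FlatMor.fibreDimAt h u) f.hom x) ∧
      ∀ (Y'' X'' : AlgSp.Space S) (g : Y'' ⟶ Y) (b : X'' ⟶ X) (f'' : X'' ⟶ Y''),
        IsPullback b.hom f''.hom f.hom g.hom → ∀ x'' : AlgSp.Points X''.obj,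
          AlgSp.Points.map b.hom x'' ∈ Set.range (AlgSp.Points.map j.hom) ↔ AlgSp.HasAtMor (fun U _ h u => ∃ W : U.Opens, u ∈ W ∧ LocallyQuasiFinite (W.ι ≫ h) ∧ LocallyOfFiniteType (W.ι ≫ h)) f''.hom x'' := by
  obtain ⟨X', j, hX', hj, hr⟩ := Groth.Agent.H51.exists_open_subspace X.property
    {x | AlgSp.HasAtMor Groth.Agent.H53.QfAt f.hom x} (Groth.Agent.H53.isOpen_hasAtMor_qfAt f.hom)
  have hjE : AlgSp.RepWith @Etale j :=
    MorphismProperty.relative_monotone (fun _ _ g hg => by
      have : IsOpenImmersion g.left := hg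
      exact (inferInstance : Etale g.left)) _ hj
  refine ⟨⟨X', hX'⟩, ObjectProperty.homMk j, hj, ?_, ?_, ?_⟩
  · change AlgSp.LocP _ (j ≫ f.hom)
    have : IsZariskiLocalAtSource
        (@LocallyQuasiFinite ⊓ @LocallyOfFiniteType : MorphismProperty Scheme.{u}) := inferInstance
    rw [Groth.Agent.H50.goodClass_lqf.locP_iff_forall_hasAtMor hX' Y.property]
    intro x₀
    obtain ⟨U, V, a, b, h, u, ha, hb, comm, rfl⟩ :=
      Groth.Agent.H53.exists_chart_through hX' Y.property (j ≫ f.hom) x₀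
    have haj : AlgSp.RepWith @Etale (a ≫ j) := (AlgSp.RepWith @Etale).comp_mem _ _ ha hjE
    have comm' : (a ≫ j) ≫ f.hom = (AlgSp.yon S).map h ≫ b := by rw [Category.assoc]; exact comm
    have hlft : LocallyOfFiniteType h.left := hf (a ≫ j) b h haj hb comm'
    have hmem : AlgSp.HasAtMor Groth.Agent.H53.QfAt f.hom (AlgSp.Points.ofPt (a ≫ j) u) := by
      have : AlgSp.Points.ofPt (a ≫ j) u ∈ Set.range (AlgSp.Points.map j) :=
        ⟨AlgSp.Points.ofPt a u, AlgSp.Points.map_ofPt a j u⟩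
      rw [hr] at this
      exact this
    rw [Groth.Agent.H53.hasAtMor_qfAt_iff X.property Y.property f.hom (a ≫ j) b h haj hb comm' u]
      at hmem
    obtain ⟨U₁, V₁, a₁, b₁, h₁, u₁, ha₁, hb₁, hc₁, hx₁, W, hW, h1, h2⟩ :=
      (Groth.Agent.H53.hasAtMor_qfAt_iff hX' Y.property (j ≫ f.hom) a b h ha hb comm u).2 hmem
    exact ⟨U₁, V₁, a₁, b₁, h₁, u₁, ha₁, hb₁, hc₁, hx₁, W, hW, h1, h2⟩
  · intro x hx
    obtain ⟨U, V, a, b, h, u, ha, hb, comm, rfl⟩ :=
      Groth.Agent.H53.exists_chart_through X.property Y.property f.hom x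
    have hlft : LocallyOfFiniteType h.left := hf a b h ha hb comm
    refine ⟨U, V, a, b, h, u, ha, hb, comm, rfl,
      Groth.Agent.H53.one_le_fibreDimAt_of_not_quasiFiniteAt h.left u fun hq => hx ?_⟩
    change _ ∈ Set.range (AlgSp.Points.map j)
    rw [hr]
    exact (Groth.Agent.H53.hasAtMor_qfAt_iff X.property Y.property f.hom a b h ha hb comm u).2 hq
  · intro Y'' X'' g b f'' sq x''
    change _ ∈ Set.range (AlgSp.Points.map j) ↔ _
    rw [hr]
    exact (Groth.Agent.H53.hasAtMor_qfAt_baseChange_iff X.property Y.property X''.property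
      Y''.property f.hom hf g.hom b.hom f''.hom sq x'').symm

end Groth.Agent.S10313
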