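import Groth.Statements.S10314
import Groth.Agent.H51.FlatDimFormula
import Groth.Agent.H51.SpFibreNoeth2
import Groth.Agent.H51.SpDim2
import Groth.Agent.H53.FibreDimChart
import Groth.Agent.H49.AlgSpOpen
import Groth.Agent.H51.SpBasic

set_option autoImplicit false
universe u
open CategoryTheory CategoryTheory.Limits AlgebraicGeometry
open AlgSp

namespace Groth.Agent.S10314

/-- For a flat morphism locally of finite type of relative dimension d between locally Noetherian
algebraic spaces, the dimension of X at a point equals the dimension of Y at the image point plus d. -/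
theorem result {S : Scheme.{u}} {X Y : AlgSp.Space S} (f : X ⟶ Y)
    (hX : AlgSp.IsLocNoethSp X.obj) (hY : AlgSp.IsLocNoethSp Y.obj) (hf : AlgSp.LocP @Flat f.hom)
    (hf' : AlgSp.LocP @LocallyOfFiniteType f.hom) (d : ℕ)
    (hd : ∀ x : AlgSp.Points X.obj, AlgSp.HasAtMor (fun _ _ h u => FlatMor.fibreDimAt h u = (d : WithBot ℕ∞)) f.hom x)
    (x : AlgSp.Points X.obj) (dX dY : WithBot ℕ∞) (hx : AlgSp.HasAt (fun U u => FlatMor.localDim ↥U u = dX) X.obj x)
    (hy : AlgSp.HasAt (fun U u => FlatMor.localDim ↥U u = dY) Y.obj (AlgSp.Points.map f.hom x)) :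
    dX = dY + (d : WithBot ℕ∞) := by
  obtain ⟨V, b, hb, hbs⟩ := Y.property.atlas
  obtain ⟨U, a, h, ha, has, eh⟩ := Groth.Agent.H49.exists_chart_lift X.property f.hom b hb hbs
  obtain ⟨u, hu⟩ := Groth.Agent.H51.surjective_ofPt_of_surjective a has x
  have : LocallyOfFiniteType h.left := hf' a b h ha hb eh
  have : Flat h.left := hf a b h ha hb eh
  have : IsLocallyNoetherian U.left := Groth.Agent.H51.isLocallyNoetherian_of_isLocNoethSp hX a ha
  have : IsLocallyNoetherian V.left := Groth.Agent.H51.isLocallyNoetherian_of_isLocNoethSp hY b hb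
  have hfd : ∀ u' : U.left, FlatMor.fibreDimAt h.left u' = d := by
    intro u'
    obtain ⟨U₁, V₁, a₁, b₁, h₁, u₁, ha₁, hb₁, e₁, hu₁, hd₁⟩ := hd (Points.ofPt a u')
    rw [← hd₁]
    exact Groth.Agent.H53.fibreDimAt_chart_indep f.hom a b h a₁ b₁ h₁ ha hb ha₁ hb₁ eh e₁
      u' u₁ hu₁.symm
  have h1 : FlatMor.localDim ↥U.left u = dX := by
    obtain ⟨U₁, a₁, u₁, ha₁, hu₁, hd₁⟩ := hx
    rw [← hd₁]
    exact Groth.Agent.H51.localDim_chart_indep a ha a₁ ha₁ u u₁ (hu.trans hu₁.symm)
  have hu' : Points.ofPt b (h.left u) = Points.map f.hom x := by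
    rw [← hu, Points.map_ofPt, eh, Groth.Agent.H51.ofPt_map_comp]
  have h2 : FlatMor.localDim ↥V.left (h.left u) = dY := by
    obtain ⟨V₁, b₁, v₁, hb₁, hv₁, hd₁⟩ := hy
    rw [← hd₁]
    exact Groth.Agent.H51.localDim_chart_indep b hb b₁ hb₁ (h.left u) v₁ (hu'.trans hv₁.symm)
  rw [← h1, ← h2]
  exact Groth.Agent.H51.localDim_eq_add_of_flat h.left d hfd u

end Groth.Agent.S10314
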