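import Groth.Statements.S10317
import Groth.Agent.H51.SpCodimZeroLift
import Groth.Agent.H51.SpNormalization2
import Groth.Agent.H49.AlgSpQC
import Groth.Agent.H50.QCImage2

set_option autoImplicit false
universe u
open CategoryTheory CategoryTheory.Limits AlgebraicGeometry
open AlgSp

namespace Groth.Agent.S10317

/-- A codimension-0 point of the normalization X' of X in Y is the image of a codimension-0 point of Y.
(The published statement is phrased for a morphism of schemes; this row states it for a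
quasi-compact quasi-separated morphism of algebraic spaces.) -/
theorem result {S : Scheme.{u}} {Y X X' : AlgSp.Space S} (f : Y ⟶ X)
    (hqc : AlgSp.IsQuasiCompactMor f.hom) (hqs : AlgSp.IsQuasiSeparatedMor f.hom) (ν : X' ⟶ X) (f' : Y ⟶ X')
    (hn : AlgSp.IsRelNormalization f.hom ν.hom f'.hom) (x' : AlgSp.Points X'.obj) (hx' : AlgSp.HasAt (fun U u => ringKrullDim ↥(U.presheaf.stalk u) = 0) X'.obj x') :
    ∃ y : AlgSp.Points Y.obj, AlgSp.HasAt (fun U u => ringKrullDim ↥(U.presheaf.stalk u) = 0) Y.obj y ∧ AlgSp.Points.map f'.hom y = x' := by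
  obtain ⟨hn1, hn2, hn3⟩ := hn
  -- `f'` is quasi-compact
  have hνsep : AlgSp.IsSeparatedMor ν.hom := Groth.Agent.H51.isSeparatedMor_of_isIntegralMor _ hn2
  have hνqs : AlgSp.IsQuasiSeparatedMor ν.hom := by
    refine Groth.Agent.H49.repWith_of_le ?_ hνsep
    intro A B j hj
    have : IsClosedImmersion j := hj
    exact (inferInstance : QuasiCompact j)
  have hf'qc : AlgSp.IsQuasiCompactMor f'.hom :=
    Groth.Agent.H49.isQuasiCompactMor_of_comp_of_isQuasiSeparatedMor Y.property X'.property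
      X.property f'.hom ν.hom (by rw [hn1]; exact hqc) hνqs
  -- the scheme theoretic image of `f'`
  have hZ : AlgSp.IsAlgSpace (Groth.Agent.H50.qcImg f'.hom) :=
    Groth.Agent.H50.isAlgSpace_qcImg X'.property hf'qc
  have hSI : AlgSp.IsSchImage f'.hom (Groth.Agent.H50.qcImgι f'.hom) :=
    Groth.Agent.H50.isSchImage_qcImgι X'.property hf'qc
  obtain ⟨hci, ⟨k, hk⟩, -⟩ := id hSI
  have hiI : AlgSp.IsIntegralMor (Groth.Agent.H50.qcImgι f'.hom) := by
    rw [Groth.Agent.H51.isIntegralMor_iff_repWith]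
    refine Groth.Agent.H49.repWith_of_le ?_ hci
    intro A B j hj
    have : IsClosedImmersion j := hj
    exact (inferInstance : IsIntegralHom j)
  have hπ : AlgSp.IsIntegralMor (Groth.Agent.H50.qcImgι f'.hom ≫ ν.hom) :=
    Groth.Agent.H51.isIntegralMor_comp _ _ hiI hn2
  obtain ⟨h, ⟨hh1, hh2⟩, -⟩ := hn3 hZ (Groth.Agent.H50.qcImgι f'.hom ≫ ν.hom) k hπ
    (by rw [← Category.assoc, hk, hn1])
  obtain ⟨h0, -, hh0⟩ := hn3 X'.property ν.hom f'.hom hn2 hn1
  have e1 : h ≫ Groth.Agent.H50.qcImgι f'.hom = h0 :=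
    hh0 _ ⟨by rw [← Category.assoc, hh1, hk], by rw [Category.assoc, hh2]⟩
  have e2 : 𝟙 X'.obj = h0 := hh0 _ ⟨Category.comp_id _, Category.id_comp _⟩
  have e3 : h ≫ Groth.Agent.H50.qcImgι f'.hom = 𝟙 X'.obj := e1.trans e2.symm
  -- the image of `f'` is dense
  have hdense : Dense (Set.range (AlgSp.Points.map f'.hom)) := by
    intro ζ
    apply Groth.Agent.H50.range_map_subset_closure_of_isSchImage X'.property hf'qc _ hSI
    refine ⟨AlgSp.Points.map h ζ, ?_⟩
    rw [← AlgSp.Points.map_comp, e3, AlgSp.Points.map_id]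
  exact Groth.Agent.H51.exists_codimZero_lift_of_dense f'.hom hf'qc hdense x' hx'

end Groth.Agent.S10317
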