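import Groth.Statements.S10323
import Groth.Agent.H51.DimIneq
import Groth.Agent.H51.SpDim
import Groth.Agent.H51.ResTrdeg2
import Groth.Agent.H51.SpFibreNoeth2

set_option autoImplicit false
universe u
open CategoryTheory CategoryTheory.Limits AlgebraicGeometry
open AlgSp

namespace Groth.Agent.S10323

/-- For Y locally Noetherian and f locally of finite type, the dimension of the local ring of X at x is
at most the dimension of the local ring of Y at the image point plus E minus the transcendence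
degree of x over its image, where E bounds the transcendence degrees of the codimension-0 points
specializing to x. -/
theorem result {S : Scheme.{u}} {X Y : AlgSp.Space S} (f : X ⟶ Y)
    (hY : AlgSp.IsLocNoethSp Y.obj) (hf : AlgSp.LocP @LocallyOfFiniteType f.hom) (x : AlgSp.Points X.obj)
    (E : Cardinal.{u})
    (hE : ∀ ξ : AlgSp.Points X.obj, ξ ⤳ x → AlgSp.HasAt (fun U u => ringKrullDim ↥(U.presheaf.stalk u) = 0) X.obj ξ →
      ∀ s : Cardinal.{u}, AlgSp.HasAtMor (fun _ _ h u => Dual3.resTrdeg h u = s) f.hom ξ → s ≤ E)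
    (a b : WithBot ℕ∞) (r : Cardinal.{u})
    (ha : AlgSp.HasAt (fun U u => ringKrullDim ↥(U.presheaf.stalk u) = a) X.obj x)
    (hb : AlgSp.HasAt (fun U u => ringKrullDim ↥(U.presheaf.stalk u) = b) Y.obj (AlgSp.Points.map f.hom x))
    (hr : AlgSp.HasAtMor (fun _ _ h u => Dual3.resTrdeg h u = r) f.hom x) :
    a + ((Cardinal.toENat r : ℕ∞) : WithBot ℕ∞) ≤ b + ((Cardinal.toENat E : ℕ∞) : WithBot ℕ∞) := by
  obtain ⟨U, V, p, q, h, u, hpE, hqE, e, hu⟩ := Groth.Agent.H51.exists_chart_diagram f x
  have : LocallyOfFiniteType h.left := hf p q h hpE hqE e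
  have : IsLocallyNoetherian V.left :=
    Groth.Agent.H51.isLocallyNoetherian_of_isLocNoethSp hY q hqE
  have key := Groth.Agent.H51.stalk_dim_add_trdeg_le h.left u E (by
    intro ξ hξ h0
    refine hE (Points.ofPt p ξ) ?_ ⟨U, p, ξ, hpE, rfl, h0⟩ _ ⟨U, V, p, q, h, ξ, hpE, hqE, e, rfl, rfl⟩
    rw [← hu]
    exact hξ.map (Points.continuous_ofPt p))
  have ha' : ringKrullDim (U.left.presheaf.stalk u) = a :=
    ((Groth.Agent.H51.s10248 X x a).1 ha) U p u hpE hu
  have hpt : Points.ofPt q (h.left u) = Points.map f.hom x := by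
    rw [← hu, Points.map_ofPt, e, Groth.Agent.H51.ofPt_map_comp]
  have hb' : ringKrullDim (V.left.presheaf.stalk (h.left u)) = b :=
    ((Groth.Agent.H51.s10248 Y _ b).1 hb) V q (h.left u) hqE hpt
  have hr' : Dual3.resTrdeg h.left u = r :=
    Groth.Agent.H51.hasAtMor_resTrdeg_unique f x _ r ⟨U, V, p, q, h, u, hpE, hqE, e, hu, rfl⟩ hr
  rw [ha', hr', hb'] at key
  exact key

end Groth.Agent.S10323
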