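import Groth.Statements.S10324
import Groth.Agent.S10323
import Groth.Agent.H51.FlatDimFormula

set_option autoImplicit false
universe u
open CategoryTheory CategoryTheory.Limits AlgebraicGeometry
open AlgSp

namespace Groth.Agent.S10324

/-- For Y locally Noetherian and f : X -> Y locally of finite type, dim X ≤ dim Y + E where E bounds the
transcendence degrees over Y of the codimension-0 points of X. -/
theorem result {S : Scheme.{u}} {X Y : AlgSp.Space S} (f : X ⟶ Y)
    (hY : AlgSp.IsLocNoethSp Y.obj) (hf : AlgSp.LocP @LocallyOfFiniteType f.hom) (E : Cardinal.{u})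
    (hE : ∀ ξ : AlgSp.Points X.obj, AlgSp.HasAt (fun U u => ringKrullDim ↥(U.presheaf.stalk u) = 0) X.obj ξ → ∀ s : Cardinal.{u}, AlgSp.HasAtMor (fun _ _ h u => Dual3.resTrdeg h u = s) f.hom ξ → s ≤ E) :
    AlgSp.dim X.obj ≤ AlgSp.dim Y.obj + ((Cardinal.toENat E : ℕ∞) : WithBot ℕ∞) := by
  unfold AlgSp.dim
  refine iSup_le fun U => iSup_le fun p => iSup_le fun hpE => ?_
  rw [Groth.Agent.H51.topologicalKrullDim_eq_iSup_stalk]
  refine iSup_le fun u => ?_
  obtain ⟨U', V', p', q', h, u', hpE', hqE', e, hu'⟩ :=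
    Groth.Agent.H51.exists_chart_diagram f (Points.ofPt p u)
  have hpt : Points.ofPt q' (h.left u') = Points.map f.hom (Points.ofPt p u) := by
    rw [← hu', Points.map_ofPt, e, Groth.Agent.H51.ofPt_map_comp]
  have key := Groth.Agent.S10323.result f hY hf (Points.ofPt p u) E
    (fun ξ _ h0 s hs => hE ξ h0 s hs) (ringKrullDim (U.left.presheaf.stalk u))
    (ringKrullDim (V'.left.presheaf.stalk (h.left u'))) (Dual3.resTrdeg h.left u')
    ⟨U, p, u, hpE, rfl, rfl⟩ ⟨V', q', h.left u', hqE', hpt, rfl⟩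
    ⟨U', V', p', q', h, u', hpE', hqE', e, hu', rfl⟩
  have h0 : (0 : WithBot ℕ∞) ≤ ((Cardinal.toENat (Dual3.resTrdeg h.left u') : ℕ∞) : WithBot ℕ∞) := by
    rw [← WithBot.coe_zero]
    exact WithBot.coe_le_coe.2 zero_le
  refine le_trans (le_add_of_nonneg_right h0) (le_trans key ?_)
  refine add_le_add_left ?_ _
  refine le_trans (Groth.Agent.H51.ringKrullDim_stalk_le_dim V'.left (h.left u')) ?_
  exact le_iSup_of_le V' (le_iSup_of_le q' (le_iSup_of_le hqE' le_rfl))

end Groth.Agent.S10324
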