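import Groth.Statements.S10328
import Groth.Agent.H51.FibCompMain
import Groth.Agent.H53.FibreDimChart
import Groth.Agent.H49.AlgSpOpen
import Groth.Agent.H51.SpBasic

set_option autoImplicit false
universe u
open CategoryTheory CategoryTheory.Limits AlgebraicGeometry
open AlgSp

namespace Groth.Agent.S10328

/-- The relative dimension of a composite at a point is at most the sum of the relative dimensions, with
equality when the first morphism is flat at the point. (The published part (2) allows more generally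
flatness of a fibre of X -> Y over a field point of Z; only the case f flat at x is stated.) -/
theorem result {S : Scheme.{u}} {X Y Z : AlgSp.Space S} (f : X ⟶ Y) (g : Y ⟶ Z)
    (hf : AlgSp.LocP @LocallyOfFiniteType f.hom) (hg : AlgSp.LocP @LocallyOfFiniteType g.hom)
    (x : AlgSp.Points X.obj) (a b : WithBot ℕ∞)
    (ha : AlgSp.HasAtMor (fun _ _ h u => FlatMor.fibreDimAt h u = a) f.hom x)
    (hb : AlgSp.HasAtMor (fun _ _ h u => FlatMor.fibreDimAt h u = b) g.hom (AlgSp.Points.map f.hom x)) :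
    AlgSp.HasAtMor (fun _ _ h u => FlatMor.fibreDimAt h u ≤ a + b) (f ≫ g).hom x ∧
    (AlgSp.IsFlatAtMor f.hom x → AlgSp.HasAtMor (fun _ _ h u => FlatMor.fibreDimAt h u = a + b) (f ≫ g).hom x) := by
  obtain ⟨W, c, hc, hcs⟩ := Z.property.atlas
  obtain ⟨V, b', k, hb', hb's, ek⟩ := Groth.Agent.H49.exists_chart_lift Y.property g.hom c hc hcs
  obtain ⟨U, a', h, ha', ha's, eh⟩ :=
    Groth.Agent.H49.exists_chart_lift X.property f.hom b' hb' hb's
  obtain ⟨u, hu⟩ := Groth.Agent.H51.surjective_ofPt_of_surjective a' ha's x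
  haveI : LocallyOfFiniteType h.left := hf a' b' h ha' hb' eh
  haveI : LocallyOfFiniteType k.left := hg b' c k hb' hc ek
  have ehk : a' ≫ (f ≫ g).hom = (yon S).map (h ≫ k) ≫ c := by
    change a' ≫ f.hom ≫ g.hom = _
    rw [← Category.assoc, eh, Category.assoc, ek, Functor.map_comp, Category.assoc]
  -- chart independence
  have h1 : FlatMor.fibreDimAt h.left u = a := by
    obtain ⟨U₁, V₁, a₁, b₁, h₁, u₁, ha₁, hb₁, e₁, hu₁, hd⟩ := ha
    rw [← hd]
    exact Groth.Agent.H53.fibreDimAt_chart_indep f.hom a' b' h a₁ b₁ h₁ ha' hb' ha₁ hb₁ eh e₁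
      u u₁ (hu.trans hu₁.symm)
  have hu' : Points.ofPt b' (h.left u) = Points.map f.hom x := by
    rw [← hu, Points.map_ofPt, eh, Groth.Agent.H51.ofPt_map_comp]
  have h2 : FlatMor.fibreDimAt k.left (h.left u) = b := by
    obtain ⟨U₁, V₁, a₁, b₁, h₁, u₁, ha₁, hb₁, e₁, hu₁, hd⟩ := hb
    rw [← hd]
    exact Groth.Agent.H53.fibreDimAt_chart_indep g.hom b' c k a₁ b₁ h₁ hb' hc ha₁ hb₁ ek e₁
      (h.left u) u₁ (hu'.trans hu₁.symm)
  obtain ⟨hle, heq⟩ := Groth.Agent.H51.fibreDimAt_comp_le h.left k.left u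
  rw [h1, h2] at hle heq
  refine ⟨⟨U, W, a', c, h ≫ k, u, ha', hc, ehk, hu, hle⟩, fun hfl => ?_⟩
  exact ⟨U, W, a', c, h ≫ k, u, ha', hc, ehk, hu, heq (hfl a' b' h u ha' hb' eh hu)⟩

end Groth.Agent.S10328
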