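import Groth.Statements.S10329
import Groth.Agent.H53.QfLocus
import Groth.Agent.H52.LQFField

set_option autoImplicit false
universe u
open CategoryTheory CategoryTheory.Limits AlgebraicGeometry
open AlgSp

namespace Groth.Agent.S10329

/-- If the fibre of a morphism locally of finite type has dimension 0 at a point, then the morphism is
locally quasi-finite on some open subspace containing the image of that point. -/
theorem result {S : Scheme.{u}} {X Y F : AlgSp.Space S} (f : X ⟶ Y)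
    (hf : AlgSp.LocP @LocallyOfFiniteType f.hom) (k : Type u) [Field k] (str : Spec (.of k) ⟶ S)
    (y : (AlgSp.yon S).obj (Over.mk str) ⟶ Y.obj) (p : F ⟶ X) (q : F.obj ⟶ (AlgSp.yon S).obj (Over.mk str))
    (sq : IsPullback p.hom q f.hom y) (z : AlgSp.Points F.obj)
    (hz : AlgSp.HasAt (fun U u => FlatMor.localDim ↥U u = 0) F.obj z) :
    ∃ (X' : AlgSp.Space S) (j : X' ⟶ X), AlgSp.RepWith @IsOpenImmersion j.hom ∧
      AlgSp.Points.map p.hom z ∈ Set.range (AlgSp.Points.map j.hom) ∧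
      AlgSp.LocP (@LocallyQuasiFinite ⊓ @LocallyOfFiniteType) (j ≫ f).hom := by
  obtain ⟨U₁, a₁, u₁, ha₁, rfl, hd⟩ := hz
  have hYk : AlgSp.IsAlgSpace ((AlgSp.yon S).obj (Over.mk str)) := AlgSp.IsAlgSpace.yon_obj _
  have hq : AlgSp.LocP @LocallyOfFiniteType q :=
    Groth.Agent.H50.goodClass_lft.locP_of_isPullback X.property Y.property hYk f.hom y p.hom q sq hf
  obtain ⟨h₁, hh₁⟩ := (AlgSp.yon S).map_surjective (a₁ ≫ q)
  have hb : AlgSp.RepWith @Etale (𝟙 ((AlgSp.yon S).obj (Over.mk str))) := AlgSp.repWith_id _ _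
  have comm : a₁ ≫ q = (AlgSp.yon S).map h₁ ≫ 𝟙 _ := by rw [hh₁, Category.comp_id]
  have hlft : LocallyOfFiniteType h₁.left := hq a₁ (𝟙 _) h₁ ha₁ hb comm
  -- `U₁` is locally Noetherian
  have : IsLocallyNoetherian (Spec (CommRingCat.of k)) := inferInstance
  have hN : IsLocallyNoetherian U₁.left :=
    LocallyOfFiniteType.isLocallyNoetherian (Y := Spec (CommRingCat.of k)) h₁.left
  obtain ⟨W, huW, hW⟩ : ∃ W : U₁.left.Opens, u₁ ∈ W ∧ topologicalKrullDim ↥(W : Set ↥U₁.left) ≤ 0 :=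
    Groth.Agent.H52.exists_open_dim_le_zero_of_localDim u₁ hd.le
  have hW' : topologicalKrullDim ↥(Scheme.Opens.toScheme (X := U₁.left) W) ≤ 0 := hW
  have hdisc : DiscreteTopology ↥(Scheme.Opens.toScheme (X := U₁.left) W) :=
    Groth.Agent.H52.discreteTopology_of_topologicalKrullDim_le_zero hW'
  have hqf : LocallyQuasiFinite (W.ι ≫ h₁.left) :=
    Groth.Agent.H52.locallyQuasiFinite_of_discreteTopology (W.ι ≫ h₁.left)
  have hat : AlgSp.HasAtMor Groth.Agent.H53.QfAt q (AlgSp.Points.ofPt a₁ u₁) :=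
    ⟨U₁, Over.mk str, a₁, 𝟙 _, h₁, u₁, ha₁, hb, comm, rfl, W, huW, hqf, inferInstance⟩
  rw [Groth.Agent.H53.hasAtMor_qfAt_baseChange_iff X.property Y.property F.property hYk f.hom hf y
    p.hom q sq] at hat
  have hat' : AlgSp.HasAtMor (fun U _ h u => ∃ W : U.Opens, u ∈ W ∧
      (@LocallyQuasiFinite ⊓ @LocallyOfFiniteType : MorphismProperty Scheme.{u}) (W.ι ≫ h)) f.hom
      (AlgSp.Points.map p.hom (AlgSp.Points.ofPt a₁ u₁)) := by
    obtain ⟨U₂, V₂, a₂, b₂, h₂, u₂, ha₂, hb₂, hc₂, hx₂, W₂, hW₂, h1, h2⟩ := hat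
    exact ⟨U₂, V₂, a₂, b₂, h₂, u₂, ha₂, hb₂, hc₂, hx₂, W₂, hW₂, h1, h2⟩
  obtain ⟨X', j, hX', hj, hmem, hP⟩ :=
    (Groth.Agent.H50.goodClass_lqf.hasAtMor_iff_exists_open X.property Y.property f.hom _).1 hat'
  exact ⟨⟨X', hX'⟩, ObjectProperty.homMk j, hj, hmem, hP⟩

end Groth.Agent.S10329
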