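import Groth.Statements.S1033
import Mathlib.Algebra.Homology.DerivedCategory.Ext.ExactSequences
import Mathlib.Algebra.Homology.DerivedCategory.Ext.EnoughProjectives
-- import your own Groth.Agent.* helpers here

set_option autoImplicit false
universe w v u
open CategoryTheory CategoryTheory.Abelian
open CohDer

namespace Groth.Agent.S1033

open Category Limits

section helpers

variable {C : Type u} [Category.{v} C] [Abelian C]

open DerivedCategory HomologicalComplex in
set_option backward.defeqAttrib.useBackward true in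
set_option backward.isDefEq.respectTransparency false in
lemma efface_aux [HasDerivedCategory.{w} C] {X : C} {L : CochainComplex C ℤ} (n : ℤ) (hn : n < 0)
    [L.IsStrictlyLE n]
    (φ : Q.obj ((CochainComplex.singleFunctor C 0).obj X) ⟶ Q.obj L) :
    ∃ (X' : C) (p : X' ⟶ X) (_ : Epi p),
      Q.map ((CochainComplex.singleFunctor C 0).map p) ≫ φ = 0 := by
  obtain ⟨K, _, π, h, g, rfl⟩ := right_fac_of_isStrictlyLE φ 0
  rw [isIso_Q_map_iff_quasiIso] at h
  let e := K.iCyclesIso 0 (0 + 1) (by simp)
    ((K.isZero_of_isStrictlyLE 0 (0 + 1) (by simp)).eq_of_tgt _ _)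
  let α : K.X 0 ⟶ X := e.inv ≫ K.homologyπ 0 ≫ homologyMap π 0 ≫ (singleObjHomologySelfIso _ _ _).hom
  have hα : π.f 0 = α ≫ (singleObjXSelf (ComplexShape.up ℤ) 0 X).inv := by
    rw [← cancel_epi e.hom]
    dsimp [α, e]
    rw [assoc, assoc, assoc, iCyclesIso_hom_inv_id_assoc,
      homologyπ_naturality_assoc]
    dsimp [CochainComplex.singleFunctor, CochainComplex.singleFunctors]
    rw [homologyπ_singleObjHomologySelfIso_hom_assoc,
      ← singleObjCyclesSelfIso_inv_iCycles, Iso.hom_inv_id_assoc, ← cyclesMap_i]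
  have : Epi α := by
    dsimp [α]
    infer_instance
  let j : (CochainComplex.singleFunctor C 0).obj (K.X 0) ⟶ K :=
    mkHomFromSingle (𝟙 _) (by
      rintro _ rfl
      apply (K.isZero_of_isStrictlyLE 0 (0 + 1) (by simp)).eq_of_tgt)
  have h₁ : j ≫ π = (CochainComplex.singleFunctor C 0).map α := by
    apply HomologicalComplex.from_single_hom_ext
    rw [comp_f, mkHomFromSingle_f, hα]
    simp [CochainComplex.singleFunctor, CochainComplex.singleFunctors, single_map_f_self]
  have h₂ : j ≫ g = 0 := by
    apply HomologicalComplex.from_single_hom_ext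
    apply (L.isZero_of_isStrictlyLE n 0 hn).eq_of_tgt
  refine ⟨K.X 0, α, inferInstance, ?_⟩
  rw [← h₁, Q.map_comp, assoc, IsIso.hom_inv_id_assoc, ← Q.map_comp, h₂, Q.map_zero]

open DerivedCategory in
set_option backward.isDefEq.respectTransparency false in
lemma exists_epi_comp_eq_zero [HasExt.{w} C] {X Y : C} {n : ℕ} (e : Ext X Y (n + 1)) :
    ∃ (X' : C) (p : X' ⟶ X) (_ : Epi p), (Ext.mk₀ p).comp e (zero_add _) = 0 := by
  let := HasDerivedCategory.standard C
  obtain ⟨X', p, hp, h⟩ := efface_aux (X := X)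
    (L := (CochainComplex.singleFunctor C (-(n + 1 : ℕ))).obj Y) (-(n + 1 : ℕ)) (by simp; omega)
    (e.hom ≫ ((singleFunctors C).shiftIso (n + 1 : ℕ) (-(n + 1 : ℕ)) 0 (by omega)).hom.app _)
  refine ⟨X', p, hp, ?_⟩
  apply Ext.homEquiv.injective
  simp only [← cancel_mono (((singleFunctors C).shiftIso (n + 1 : ℕ) (-(n + 1 : ℕ)) 0
    (by lia)).hom.app _), Ext.zero_hom, Limits.zero_comp]
  rw [← h, ← assoc]
  congr 1
  exact (Ext.singleFunctor_map_comp_hom p e).symm


end helpers

/-- Let A be an abelian category (with Ext groups in some universe) and p ≥ 0. If Extᵖ(B, C) = 0 for all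
objects B, C, then Extⁱ(B, C) = 0 for all i ≥ p and all B, C. -/
theorem result {A : Type u} [Category.{v} A] [Abelian A] [HasExt.{w} A] (p : ℕ)
    (h : ∀ (B C : A) (x : Ext B C p), x = 0) (i : ℕ) (hi : p ≤ i) (B C : A) (x : Ext B C i) : x = 0 := by
  induction i, hi using Nat.le_induction generalizing B C with
  | base => exact h B C x
  | succ i hi ih =>
    obtain ⟨B', π, hπ, hx⟩ := exists_epi_comp_eq_zero x
    let S := ShortComplex.mk (kernel.ι π) π (kernel.condition π)
    have hS : S.ShortExact :=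
      { exact := ShortComplex.exact_of_f_is_kernel _ (kernelIsKernel S.g) }
    obtain ⟨x₁, rfl⟩ := Ext.contravariant_sequence_exact₃ hS C x hx (add_comm 1 i)
    rw [ih _ _ x₁, Ext.comp_zero]

end Groth.Agent.S1033
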