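import Groth.Statements.S10333
import Groth.Agent.H51.SpNormalization2
import Groth.Agent.H50.RedInduced
import Groth.Agent.H51.SpRedClosed
import Groth.Agent.H50.SchImageRed

set_option autoImplicit false
universe u
open CategoryTheory CategoryTheory.Limits AlgebraicGeometry
open AlgSp

namespace Groth.Agent.S10333

/-- Let f : Y -> X be a morphism of algebraic spaces over S that is quasi-compact and quasi-separated,
and X' -> X the normalization of X in Y (an integral morphism through which f factors, initial among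
such factorizations). If Y is reduced then X' is reduced. -/
theorem result {S : Scheme.{u}} {Y X X' : AlgSp.Space S} (f : Y ⟶ X)
    (hqc : AlgSp.IsQuasiCompactMor f.hom) (hqs : AlgSp.IsQuasiSeparatedMor f.hom) (ν : X' ⟶ X) (f' : Y ⟶ X')
    (hn : AlgSp.IsRelNormalization f.hom ν.hom f'.hom) (hY : AlgSp.IsReducedSp Y.obj) :
    AlgSp.IsReducedSp X'.obj := by
  obtain ⟨hn1, hn2, hn3⟩ := hn
  obtain ⟨Z, i, hZ, hci, hrange, hred⟩ :=
    Groth.Agent.H50.exists_isRedInduced X'.property (Set.univ : Set (AlgSp.Points X'.obj))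
      isClosed_univ
  obtain ⟨k, hk⟩ := (Groth.Agent.H51.s10193 i hci hY f'.hom).2 (by rw [hrange]; exact Set.subset_univ _)
  have hiI : AlgSp.IsIntegralMor i := by
    rw [Groth.Agent.H51.isIntegralMor_iff_repWith]
    refine Groth.Agent.H49.repWith_of_le ?_ hci
    intro A B j hj
    have : IsClosedImmersion j := hj
    exact (inferInstance : IsIntegralHom j)
  have hπ : AlgSp.IsIntegralMor (i ≫ ν.hom) := Groth.Agent.H51.isIntegralMor_comp _ _ hiI hn2
  obtain ⟨h, ⟨hh1, hh2⟩, -⟩ := hn3 hZ (i ≫ ν.hom) k hπ (by rw [← Category.assoc, hk, hn1])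
  obtain ⟨h0, -, hh0⟩ := hn3 X'.property ν.hom f'.hom hn2 hn1
  have e1 : h ≫ i = h0 := hh0 _ ⟨by rw [← Category.assoc, hh1, hk], by rw [Category.assoc, hh2]⟩
  have e2 : 𝟙 X'.obj = h0 := hh0 _ ⟨Category.comp_id _, Category.id_comp _⟩
  have e3 : h ≫ i = 𝟙 X'.obj := e1.trans e2.symm
  haveI : Mono i := Groth.Agent.H49.mono_of_repWith_mono Groth.Agent.H50.isClosedImmersion_le_mono i hci
  have e4 : i ≫ h = 𝟙 Z := by
    rw [← cancel_mono i, Category.assoc, e3, Category.comp_id, Category.id_comp]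
  haveI : IsIso i := ⟨h, e4, e3⟩
  obtain ⟨U, q, hq, hqs, hU⟩ := hred
  exact ⟨U, q ≫ i, MorphismProperty.RespectsIso.postcomp _ i _ hq,
    MorphismProperty.RespectsIso.postcomp _ i _ hqs, hU⟩

end Groth.Agent.S10333
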