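import Groth.Statements.S10335
import Groth.Agent.H51.FibreStalkBC
import Groth.Agent.H53.BCCharts
import Groth.Agent.H50.Points
import Groth.Agent.H50.LocPBase
import Groth.Agent.H50.LocPClass
import Groth.Agent.H51.SpPoints

set_option autoImplicit false
universe u
open CategoryTheory CategoryTheory.Limits AlgebraicGeometry
open AlgSp

namespace Groth.Agent.S10335

/-- In a base change square of algebraic spaces with f : X -> Y locally of finite type and f' : X' -> Y'
its base change along g : Y' -> Y, take a point x' of X' over x. The fibre of f' has a local ring at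
x' whose dimension exceeds the corresponding dimension for the fibre of f at x by exactly the
transcendence degree of x over f(x) minus that of x' over f'(x'), and this excess is never negative;
and for x in X and y' in Y' over the same point of Y some x' over both has excess zero. All four
quantities are read on some chart diagram through the point. -/
theorem result {S : Scheme.{u}} {X Y Y' X' : AlgSp.Space S} (f : X ⟶ Y) (g : Y' ⟶ Y)
    (g' : X' ⟶ X) (f' : X' ⟶ Y') (sq : IsPullback g'.hom f'.hom f.hom g.hom)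
    (hf : AlgSp.LocP @LocallyOfFiniteType f.hom) :
    (∀ (x' : AlgSp.Points X'.obj) (e e' : WithBot ℕ∞) (r r' : Cardinal.{u}),
      AlgSp.HasAtMor (fun _ _ h u => ringKrullDim ↥((h.fiber (h u)).presheaf.stalk (h.asFiber u)) = e) f.hom
          (AlgSp.Points.map g'.hom x') →
      AlgSp.HasAtMor (fun _ _ h u => Dual3.resTrdeg h u = r) f.hom (AlgSp.Points.map g'.hom x') →
      AlgSp.HasAtMor (fun _ _ h u => ringKrullDim ↥((h.fiber (h u)).presheaf.stalk (h.asFiber u)) = e') f'.hom x' →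
      AlgSp.HasAtMor (fun _ _ h u => Dual3.resTrdeg h u = r') f'.hom x' →
        e' + ((Cardinal.toENat r' : ℕ∞) : WithBot ℕ∞) = e + ((Cardinal.toENat r : ℕ∞) : WithBot ℕ∞) ∧ e ≤ e') ∧
    (∀ (x : AlgSp.Points X.obj) (y' : AlgSp.Points Y'.obj) (e : WithBot ℕ∞),
      AlgSp.Points.map f.hom x = AlgSp.Points.map g.hom y' →
      AlgSp.HasAtMor (fun _ _ h u => ringKrullDim ↥((h.fiber (h u)).presheaf.stalk (h.asFiber u)) = e) f.hom x →
        ∃ x' : AlgSp.Points X'.obj, AlgSp.Points.map g'.hom x' = x ∧ AlgSp.Points.map f'.hom x' = y' ∧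
          AlgSp.HasAtMor (fun _ _ h u => ringKrullDim ↥((h.fiber (h u)).presheaf.stalk (h.asFiber u)) = e)
            f'.hom x') := by
  have hf' : AlgSp.LocP @LocallyOfFiniteType f'.hom :=
    Groth.Agent.H50.goodClass_lft.locP_of_isPullback X.property Y.property Y'.property f.hom g.hom
      g'.hom f'.hom sq hf
  obtain ⟨U, V, U', V', a, b, a', b', h, h', k, v, haE, haS, hbE, hbS, ha'E, ha'S, hb'E, hb'S, e, e',
      ek, ev, sqS⟩ :=
    Groth.Agent.H53.exists_baseChange_charts X.property Y.property Y'.property f.hom g.hom g'.hom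
      f'.hom sq
  haveI : LocallyOfFiniteType h.left := hf a b h haE hbE e
  haveI : LocallyOfFiniteType h'.left := hf' a' b' h' ha'E hb'E e'
  constructor
  · intro x' d d' r r' hd hr hd' hr'
    obtain ⟨u', hu'⟩ := Groth.Agent.H51.surjective_ofPt_of_surjective a' ha'S x'
    have hpt : AlgSp.Points.ofPt a (k.left u') = AlgSp.Points.map g'.hom x' := by
      rw [← hu', AlgSp.Points.map_ofPt, ek, Groth.Agent.H51.ofPt_map_comp]
    obtain ⟨U₁, V₁, a₁, b₁, h₁, u₁, ha₁, hb₁, e₁, hu₁, hd₁⟩ := hd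
    obtain ⟨U₂, V₂, a₂, b₂, h₂, u₂, ha₂, hb₂, e₂, hu₂, hr₂⟩ := hr
    obtain ⟨U₃, V₃, a₃, b₃, h₃, u₃, ha₃, hb₃, e₃, hu₃, hd₃⟩ := hd'
    obtain ⟨U₄, V₄, a₄, b₄, h₄, u₄, ha₄, hb₄, e₄, hu₄, hr₄⟩ := hr'
    have E1 : ringKrullDim ((h.left.fiber (h.left (k.left u'))).presheaf.stalk
        (h.left.asFiber (k.left u'))) = d := by
      rw [← hd₁]
      exact Groth.Agent.H51.dim_stalk_fibre_chart_indep f hf a b h a₁ b₁ h₁ haE hbE ha₁ hb₁ e e₁
        (k.left u') u₁ (hpt.trans hu₁.symm)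
    have R1 : Dual3.resTrdeg h.left (k.left u') = r := by
      rw [← hr₂]
      exact Groth.Agent.H51.resTrdeg_chart_indep f a b h a₂ b₂ h₂ haE hbE ha₂ hb₂ e e₂
        (k.left u') u₂ (hpt.trans hu₂.symm)
    have E2 : ringKrullDim ((h'.left.fiber (h'.left u')).presheaf.stalk
        (h'.left.asFiber u')) = d' := by
      rw [← hd₃]
      exact Groth.Agent.H51.dim_stalk_fibre_chart_indep f' hf' a' b' h' a₃ b₃ h₃ ha'E hb'E ha₃ hb₃
        e' e₃ u' u₃ (hu'.trans hu₃.symm)
    have R2 : Dual3.resTrdeg h'.left u' = r' := by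
      rw [← hr₄]
      exact Groth.Agent.H51.resTrdeg_chart_indep f' a' b' h' a₄ b₄ h₄ ha'E hb'E ha₄ hb₄ e' e₄
        u' u₄ (hu'.trans hu₄.symm)
    have hD : FlatMor.fibreDimAt h'.left u' = FlatMor.fibreDimAt h.left (k.left u') :=
      Groth.Agent.H49.FibreDimAtBC.fibreDimAt_eq_of_isPullback h.left v.left h'.left k.left sqS u'
    rw [Groth.Agent.H51.fibreDimAt_eq_dim_stalk_add_trdeg h'.left u',
      Groth.Agent.H51.fibreDimAt_eq_dim_stalk_add_trdeg h.left (k.left u'), E1, E2, R1, R2] at hD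
    refine ⟨hD, ?_⟩
    rw [← E1, ← E2]
    exact Groth.Agent.H51.dim_stalk_fibre_le_of_isPullback h.left v.left h'.left k.left sqS u'
  · intro x y' d hxy hd
    obtain ⟨x'₀, hx'₀1, hx'₀2⟩ := Groth.Agent.H50.points_exists_of_isPullback sq x y' hxy
    obtain ⟨u'₀, hu'₀⟩ := Groth.Agent.H51.surjective_ofPt_of_surjective a' ha'S x'₀
    have hptx : AlgSp.Points.ofPt a (k.left u'₀) = x := by
      rw [← hx'₀1, ← hu'₀, AlgSp.Points.map_ofPt, ek, Groth.Agent.H51.ofPt_map_comp]
    have hpty : AlgSp.Points.ofPt b' (h'.left u'₀) = y' := by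
      rw [← hx'₀2, ← hu'₀, AlgSp.Points.map_ofPt, e', Groth.Agent.H51.ofPt_map_comp]
    have hcomm : h.left (k.left u'₀) = v.left (h'.left u'₀) := by
      rw [← Scheme.Hom.comp_apply, sqS.w, Scheme.Hom.comp_apply]
    obtain ⟨u', hu'1, hu'2, hu'3⟩ :=
      Groth.Agent.H51.exists_dim_stalk_fibre_eq_of_isPullback h.left v.left h'.left k.left sqS
        (k.left u'₀) (h'.left u'₀) hcomm
    refine ⟨AlgSp.Points.ofPt a' u', ?_, ?_, ?_⟩
    · rw [AlgSp.Points.map_ofPt, ek, Groth.Agent.H51.ofPt_map_comp, hu'1, hptx]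
    · rw [AlgSp.Points.map_ofPt, e', Groth.Agent.H51.ofPt_map_comp, hu'2, hpty]
    · refine ⟨U', V', a', b', h', u', ha'E, hb'E, e', rfl, ?_⟩
      change ringKrullDim ((h'.left.fiber (h'.left u')).presheaf.stalk (h'.left.asFiber u')) = d
      rw [hu'3]
      obtain ⟨U₁, V₁, a₁, b₁, h₁, u₁, ha₁, hb₁, e₁, hu₁, hd₁⟩ := hd
      rw [← hd₁]
      exact Groth.Agent.H51.dim_stalk_fibre_chart_indep f hf a b h a₁ b₁ h₁ haE hbE ha₁ hb₁ e e₁
        (k.left u'₀) u₁ (hptx.trans hu₁.symm)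

end Groth.Agent.S10335
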