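import Groth.Statements.S10337
import Groth.Agent.H52.EtDegF
import Groth.Agent.H51.SpSchLocus

set_option autoImplicit false
universe u
open CategoryTheory CategoryTheory.Limits AlgebraicGeometry Topology TopologicalSpace
open AlgSp

namespace Groth.Agent.S10337

/-- For a scheme S, a decent algebraic space X over S contains a dense open subspace that is a scheme:
there is an open subspace X' ⟶ X whose underlying sheaf is representable by a scheme and whose set
of points is dense in |X|. -/
theorem result {S : Scheme.{u}} (X : AlgSp.Space S)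
    (hX : AlgSp.IsDecent X.obj) :
    ∃ (X' : AlgSp.Space S) (j : X' ⟶ X), AlgSp.RepWith @IsOpenImmersion j.hom ∧ X'.obj.obj.IsRepresentable ∧
      Dense (Set.range (AlgSp.Points.map j.hom)) := by
  open Groth.Agent.H51 Groth.Agent.H52.EtDeg in
  have hW := isOpen_schematicLocus X.obj
  have hj' := repWith_isOpenImmersion_openSubι _ hW
  have hr := range_map_openSubι (schematicLocus X.obj)
  refine ⟨⟨openSubSp X.obj (schematicLocus X.obj), isAlgSpace_openSubSp X.property _ hW⟩,
    ObjectProperty.homMk (openSubι X.obj (schematicLocus X.obj)), hj', ?_, ?_⟩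
  · obtain ⟨G, ⟨e⟩⟩ := exists_iso_yon_schematicLocus X.property
    exact isRepresentable_of_iso e
  · change Dense (Set.range (AlgSp.Points.map (openSubι X.obj (schematicLocus X.obj))))
    rw [hr, dense_iff_inter_open]
    rintro O hO ⟨x, hxO⟩
    obtain ⟨U₀, a₀, he₀, hs₀⟩ := X.property.atlas
    obtain ⟨u₀, rfl⟩ := Groth.Agent.H52.ofPt_surjective_of_repWith_surjective a₀ hs₀ x
    let O' : U₀.left.Opens :=
      ⟨AlgSp.Points.ofPt a₀ ⁻¹' O, hO.preimage (AlgSp.Points.continuous_ofPt a₀)⟩
    obtain ⟨U₁, hU₁, hu₀U₁, hU₁le⟩ :=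
      exists_isAffineOpen_mem_and_subset (x := u₀) (U := O') hxO
    let U : Over S := overOpen U₀ U₁
    let a : (AlgSp.yon S).obj U ⟶ X.obj := (AlgSp.yon S).map (overOpenι U₀ U₁) ≫ a₀
    have he : AlgSp.RepWith @Etale a := repWith_etale_restrict a₀ he₀ U₁
    have hUaff : IsAffine U.left := hU₁
    have hUne : Nonempty ↥U.left := ⟨⟨u₀, hu₀U₁⟩⟩
    obtain ⟨M, j, hj, ⟨m⟩, hrange⟩ := exists_open_subscheme_of_isDecent hX a he
    have hmem : AlgSp.Points.map j (AlgSp.Points.schemeHomeo M m) ∈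
        Set.range (AlgSp.Points.ofPt a) := hrange ⟨_, rfl⟩
    obtain ⟨y, hy⟩ := hmem
    refine ⟨AlgSp.Points.map j (AlgSp.Points.schemeHomeo M m), ?_, ⟨M, j, hj, ⟨_, rfl⟩⟩⟩
    rw [← hy]
    have : AlgSp.Points.ofPt a y = AlgSp.Points.ofPt a₀ (U₁.ι y) := ofPt_restrict a₀ U₁ y
    rw [this]
    exact hU₁le y.2

end Groth.Agent.S10337
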