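import Groth.Statements.S1034
import Groth.Agent.S0986

set_option autoImplicit false
universe v v' u u'
open CategoryTheory CategoryTheory.Limits
open DerLim

namespace Groth.Agent.S1034


section Helpers

variable {D : Type u} [Category.{v} D] [Preadditive D]
  {A : Type u'} [Category.{v'} A] [Abelian A]

lemma hasCoproduct_of_preserves (Φ : D ⥤ A) (K : ℕ → D) [HasCoproduct K]
    [PreservesColimit (Discrete.functor K) Φ] : HasCoproduct (fun n => Φ.obj (K n)) := by
  have : HasColimit (Discrete.functor K ⋙ Φ) :=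
    ⟨⟨⟨_, isColimitOfPreserves Φ (colimit.isColimit (Discrete.functor K))⟩⟩⟩
  exact hasColimit_of_iso (Discrete.compNatIsoDiscrete K Φ).symm

variable [HasColimitsOfShape ℕ A] [HasExactColimitsOfShape ℕ A]

/-- The sequence `Φ(K 0) ⟶ Φ(K 1) ⟶ …`. -/
noncomputable abbrev seq (Φ : D ⥤ A) (K : ℕ → D) (f : ∀ n, K n ⟶ K (n + 1)) : ℕ ⥤ A :=
  Functor.ofSequence (fun n => Φ.map (f n))

lemma key (Φ : D ⥤ A) [Φ.Additive] (K : ℕ → D) (f : ∀ n, K n ⟶ K (n + 1)) [HasCoproduct K]
    [PreservesColimit (Discrete.functor K) Φ] [HasCoproduct (fun n => Φ.obj (K n))] :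
    (PreservesCoproduct.iso Φ K).inv ≫ Φ.map (𝟙 (∐ K) - DerLim.shiftMap K f) ≫
      (PreservesCoproduct.iso Φ K).hom =
    𝟙 _ - DerLim.shiftMap (fun n => Φ.obj (K n)) (fun n => Φ.map (f n)) := by
  have hinv : ∀ n, Sigma.ι (fun n => Φ.obj (K n)) n ≫ (PreservesCoproduct.iso Φ K).inv =
      Φ.map (Sigma.ι K n) := by
    intro n
    rw [PreservesCoproduct.inv_hom]
    exact ι_comp_sigmaComparison Φ K n
  have hhom : ∀ n, Φ.map (Sigma.ι K n) ≫ (PreservesCoproduct.iso Φ K).hom =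
      Sigma.ι (fun n => Φ.obj (K n)) n := by
    intro n
    rw [← hinv, Category.assoc, Iso.inv_hom_id, Category.comp_id]
  refine Sigma.hom_ext _ _ (fun n => ?_)
  rw [reassoc_of% (hinv n), ← Functor.map_comp_assoc, Preadditive.comp_sub, Preadditive.comp_sub,
    Category.comp_id, Category.comp_id]
  simp only [DerLim.shiftMap, Sigma.ι_desc, Functor.map_sub, Functor.map_comp, Preadditive.sub_comp,
    Category.assoc, hhom]

lemma main (Φ : D ⥤ A) [Φ.Additive] (K : ℕ → D) (f : ∀ n, K n ⟶ K (n + 1)) [HasCoproduct K]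
    [PreservesColimit (Discrete.functor K) Φ] :
    Mono (Φ.map (𝟙 (∐ K) - DerLim.shiftMap K f)) ∧
    ∀ (Z : A) (g : Φ.obj (∐ K) ⟶ Z) (_ : Epi g) (w : Φ.map (𝟙 (∐ K) - DerLim.shiftMap K f) ≫ g = 0)
      (_ : (ShortComplex.mk _ _ w).Exact),
      ∃ e : colimit (seq Φ K f) ≅ Z, ∀ n, colimit.ι (seq Φ K f) n ≫ e.hom = Φ.map (Sigma.ι K n) ≫ g := by
  have : HasCoproduct (fun n => Φ.obj (K n)) := hasCoproduct_of_preserves Φ K
  have : HasCoproduct (seq Φ K f).obj := hasCoproduct_of_preserves Φ K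
  have hfun : (fun n => (seq Φ K f).map (homOfLE (Nat.le_succ n))) = (fun n => Φ.map (f n)) :=
    funext (fun n => Functor.ofSequence_map_homOfLE_succ _ n)
  obtain ⟨w', hS⟩ : ∃ w : (𝟙 (∐ fun n => Φ.obj (K n)) -
      DerLim.shiftMap (fun n => Φ.obj (K n)) (fun n => Φ.map (f n))) ≫
      (Sigma.desc (fun n => colimit.ι (seq Φ K f) n) : (∐ fun n => Φ.obj (K n)) ⟶ colimit (seq Φ K f)) = 0,
      (ShortComplex.mk _ _ w).ShortExact := by
    have h := Groth.Agent.S0986.result (seq Φ K f)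
    rw [hfun] at h
    exact h
  set σ := PreservesCoproduct.iso Φ K with hσ
  set u := Φ.map (𝟙 (∐ K) - DerLim.shiftMap K f) with hu
  set u' : (∐ fun n => Φ.obj (K n)) ⟶ ∐ fun n => Φ.obj (K n) :=
    𝟙 _ - DerLim.shiftMap (fun n => Φ.obj (K n)) (fun n => Φ.map (f n)) with hu'
  set p : (∐ fun n => Φ.obj (K n)) ⟶ colimit (seq Φ K f) :=
    Sigma.desc (fun n => colimit.ι (seq Φ K f) n) with hp
  have hkey : σ.inv ≫ u ≫ σ.hom = u' := key Φ K f
  have hmono : Mono u' := hS.mono_f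
  have hepi : Epi p := hS.epi_g
  have hex : (ShortComplex.mk u' p w').Exact := hS.exact
  have hu_eq : u = σ.hom ≫ u' ≫ σ.inv := by
    rw [← hkey]; simp
  refine ⟨?_, ?_⟩
  · rw [hu_eq]
    infer_instance
  · intro Z g hg w hZ
    have := hg
    have w1 : u' ≫ σ.inv ≫ g = 0 := by
      rw [← hkey, Category.assoc, Category.assoc, Iso.hom_inv_id_assoc, w, comp_zero]
    have w2 : u ≫ σ.hom ≫ p = 0 := by
      rw [hu_eq, Category.assoc, Category.assoc, Iso.inv_hom_id_assoc, w', comp_zero]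
    have h1 : p ≫ hex.desc (σ.inv ≫ g) w1 = σ.inv ≫ g := hex.g_desc _ _
    have h2 : g ≫ hZ.desc (σ.hom ≫ p) w2 = σ.hom ≫ p := hZ.g_desc _ _
    refine ⟨⟨hex.desc (σ.inv ≫ g) w1, hZ.desc (σ.hom ≫ p) w2, ?_, ?_⟩, ?_⟩
    · rw [← cancel_epi p, reassoc_of% h1, h2, Iso.inv_hom_id_assoc, Category.comp_id]
    · rw [← cancel_epi g, reassoc_of% h2, h1, Iso.hom_inv_id_assoc, Category.comp_id]
    · intro n
      have hι : colimit.ι (seq Φ K f) n = Sigma.ι (fun n => Φ.obj (K n)) n ≫ p := by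
        rw [hp, Sigma.ι_desc]
      have hinv : Sigma.ι (fun n => Φ.obj (K n)) n ≫ σ.inv = Φ.map (Sigma.ι K n) := by
        rw [hσ, PreservesCoproduct.inv_hom]
        exact ι_comp_sigmaComparison Φ K n
      have e1 : colimit.ι (seq Φ K f) n ≫ hex.desc (σ.inv ≫ g) w1 =
          (Sigma.ι (fun n => Φ.obj (K n)) n ≫ p) ≫ hex.desc (σ.inv ≫ g) w1 :=
        congrArg (fun t => t ≫ hex.desc (σ.inv ≫ g) w1) hι
      exact e1.trans ((Category.assoc _ _ _).trans
        ((congrArg (fun t => Sigma.ι (fun n => Φ.obj (K n)) n ≫ t) h1).trans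
          ((Category.assoc _ _ _).symm.trans (congrArg (fun t => t ≫ g) hinv))))

end Helpers

open CategoryTheory.Pretriangulated in
/-- Let D be a pretriangulated category with countable direct sums, A an abelian category with exact
colimits of shape ℕ, and H : D ⥤ A a homological functor that preserves countable direct sums. If L
(with maps iₙ : Kₙ ⟶ L) is a homotopy colimit of a system (Kₙ, fₙ), then H(L) is the colimit of the
H(Kₙ): there is an isomorphism colimₙ H(Kₙ) ≅ H(L) compatible with the maps H(iₙ). -/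
theorem result {D : Type u} [Category.{v} D] [Preadditive D] [Limits.HasZeroObject D] [HasShift D ℤ]
    [∀ n : ℤ, (shiftFunctor D n).Additive] [Pretriangulated D] [IsTriangulated D] [HasColimitsOfShape (Discrete ℕ) D]
    {A : Type u'} [Category.{v'} A] [Abelian A] [HasColimitsOfShape ℕ A] [HasExactColimitsOfShape ℕ A]
    (H : D ⥤ A) [H.IsHomological] [PreservesColimitsOfShape (Discrete ℕ) H]
    (K : ℕ → D) (f : ∀ n, K n ⟶ K (n + 1)) (L : D) (i : ∀ n, K n ⟶ L) (hL : DerLim.IsHocolim K f L i) :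
    ∃ e : colimit (Functor.ofSequence (fun n => H.map (f n))) ≅ H.obj L,
      ∀ n : ℕ, colimit.ι (Functor.ofSequence (fun n => H.map (f n))) n ≫ e.hom = H.map (i n) := by
  obtain ⟨c, hT⟩ := hL
  have hT' := rot_of_distTriang _ hT
  have hT'' := rot_of_distTriang _ hT'
  have hex1 := H.map_distinguished_exact _ hT
  have hex2 := H.map_distinguished_exact _ hT'
  have hz : H.map c ≫ H.map (-((𝟙 (∐ K) - DerLim.shiftMap K f)⟦(1 : ℤ)⟧')) = 0 := by
    rw [← H.map_comp]
    exact (congrArg (fun t => H.map t) (comp_distTriang_mor_zero₁₂ _ hT'')).trans (H.map_zero _ _)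
  have hmono : Mono ((shiftFunctor D (1 : ℤ) ⋙ H).map (𝟙 (∐ K) - DerLim.shiftMap K f)) :=
    (main (shiftFunctor D (1 : ℤ) ⋙ H) K f).1
  have hc : H.map c = 0 := by
    rw [← cancel_mono ((shiftFunctor D (1 : ℤ) ⋙ H).map (𝟙 (∐ K) - DerLim.shiftMap K f)), zero_comp]
    rw [Functor.map_neg, Preadditive.comp_neg, neg_eq_zero] at hz
    exact hz
  have hepi : Epi (H.map (Sigma.desc i)) := hex2.epi_f hc
  obtain ⟨e, he⟩ := (main H K f).2 (H.obj L) (H.map (Sigma.desc i)) hepi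
    (by rw [← H.map_comp]
        exact (congrArg (fun t => H.map t) (comp_distTriang_mor_zero₁₂ _ hT)).trans (H.map_zero _ _)) hex1
  refine ⟨e, fun n => ?_⟩
  rw [he n, ← H.map_comp, Sigma.ι_desc]

end Groth.Agent.S1034
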