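import Groth.Statements.S10349
import Groth.Agent.H52.ChartFinite

set_option autoImplicit false
universe u
open CategoryTheory CategoryTheory.Limits AlgebraicGeometry Topology TopologicalSpace
open AlgSp

namespace Groth.Agent.S10349

/-- Let S be a scheme, X a decent algebraic space over S, k a field over S and p : h_{Spec k} ⟶ X a
surjective etale map. Then X ≅ h_{Spec k'} for a field k' over S, and p corresponds to a finite
etale morphism Spec k ⟶ Spec k' over S, so that k is a finite separable extension of k'. -/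
theorem result {S : Scheme.{u}} (X : AlgSp.Space S)
    (hX : AlgSp.IsDecent X.obj) (k : Type u) [Field k] (str : Spec (CommRingCat.of k) ⟶ S)
    (p : (AlgSp.yon S).obj (Over.mk str) ⟶ X.obj) (hp : AlgSp.RepWith @Etale p) (hs : AlgSp.RepWith @Surjective p) :
    ∃ (k' : Type u) (_ : Field k') (str' : Spec (CommRingCat.of k') ⟶ S)
      (e : (AlgSp.yon S).obj (Over.mk str') ≅ X.obj) (c : Over.mk str ⟶ Over.mk str'),
      (AlgSp.yon S).map c ≫ e.hom = p ∧ IsFinite c.left ∧ Etale c.left := by
  have hXs : AlgSp.IsAlgSpace X.obj := X.property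
  obtain ⟨p', hp', hm, -⟩ := hX (AlgSp.Points.mk (Groth.Agent.H52.fieldPtOfHom str p))
  obtain ⟨c, hc⟩ := Groth.Agent.H52.exists_factor_of_mono p' (Groth.Agent.H52.fieldPtOfHom str p) hm
    (hXs.representable_from_yon _) hp'.symm
  rw [Groth.Agent.H52.toHom_fieldPtOfHom] at hc
  have hepi : Epi p := Groth.Agent.H52.epi_of_repWith_etale_surjective p hp hs
  have hepi' : Epi p'.toHom := by
    have : Epi ((AlgSp.yon S).map c ≫ p'.toHom) := by rw [hc]; exact hepi
    exact epi_of_epi ((AlgSp.yon S).map c) p'.toHom
  have hiso : IsIso p'.toHom := isIso_of_mono_of_epi p'.toHom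
  refine ⟨p'.K, inferInstance, p'.str, asIso p'.toHom, c, hc, ?_⟩
  have het : Etale c.left := by
    have h1 : AlgSp.RepWith @Etale ((AlgSp.yon S).map c) := by
      have e : (AlgSp.yon S).map c = p ≫ inv p'.toHom := by
        rw [← hc, Category.assoc, IsIso.hom_inv_id, Category.comp_id]
      rw [e]
      exact (AlgSp.RepWith @Etale).comp_mem _ _ hp (MorphismProperty.of_isIso _ _)
    exact (AlgSp.repWith_yon_map_iff @Etale c).1 h1
  have hqc : QuasiCompact c.left :=
    Groth.Agent.H52.quasiCompact_of_finite (X := Spec (CommRingCat.of k)) c.left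
  exact ⟨Groth.Agent.H52.isFinite_of_etale_of_quasiCompact (K := p'.K) c.left, het⟩

end Groth.Agent.S10349
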