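import Groth.Statements.S10352
import Groth.Agent.H52.ChartFinite
import Groth.Agent.S10360

set_option autoImplicit false
universe u
open CategoryTheory CategoryTheory.Limits AlgebraicGeometry Topology TopologicalSpace
open AlgSp

namespace Groth.Agent.S10352

/-- Let S be a scheme, X and Y algebraic spaces over S, and f : X ⟶ Y an etale morphism. If Y is decent
then X is decent. -/
theorem result {S : Scheme.{u}} {X Y : AlgSp.Space S} (f : X ⟶ Y)
    (hf : AlgSp.IsEtaleMor f.hom) (hY : AlgSp.IsDecent Y.obj) : AlgSp.IsDecent X.obj := by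
  have hYs : AlgSp.IsAlgSpace Y.obj := Y.property
  intro x
  refine (Groth.Agent.S10360.result X x).1 ?_
  intro U φ haff hφ R s t hR
  -- the condition at the image point in `Y`
  have HY := (Groth.Agent.S10360.result Y (AlgSp.Points.map f.hom x)).2 (hY _)
  have hφY : AlgSp.RepWith @Etale (φ ≫ f.hom) := hf φ hφ
  have hrepY := hYs.representable_from_yon (φ ≫ f.hom)
  obtain ⟨tY, htY⟩ := (AlgSp.yon S).map_surjective (hrepY.fst (φ ≫ f.hom))
  have hRY := hrepY.isPullback (φ ≫ f.hom)
  rw [← htY] at hRY
  obtain ⟨h1, h2⟩ := HY U (φ ≫ f.hom) haff hφY _ _ _ hRY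
  constructor
  · refine h1.subset ?_
    intro u hu
    have hu' : AlgSp.Points.ofPt φ u = x := hu
    change AlgSp.Points.ofPt (φ ≫ f.hom) u = _
    rw [← AlgSp.Points.map_ofPt, hu']
  · -- the monomorphism `R ⟶ R_Y`
    have hcond : (AlgSp.yon S).map t ≫ φ ≫ f.hom = (AlgSp.yon S).map s ≫ φ ≫ f.hom := by
      rw [← Category.assoc, hR.w, Category.assoc]
    obtain ⟨m, hm1, hm2⟩ := Groth.Agent.H52.exists_lift_of_isPullback_yon hRY t s hcond
    have hmono : Mono m := by
      refine ⟨fun {T} z z' hzz => ?_⟩
      refine Groth.Agent.H52.hom_ext_of_isPullback_yon hR z z' ?_ ?_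
      · rw [← hm1, ← Category.assoc, ← Category.assoc, hzz]
      · rw [← hm2, ← Category.assoc, ← Category.assoc, hzz]
    have hmonol : Mono m.left := inferInstance
    have hinj : Function.Injective m.left := m.left.injective
    refine (h2.preimage hinj.injOn).subset ?_
    intro r hr
    have hr' : AlgSp.Points.ofPt ((AlgSp.yon S).map t ≫ φ) r = x := hr
    change AlgSp.Points.ofPt ((AlgSp.yon S).map tY ≫ φ ≫ f.hom) (m.left r) = _
    rw [Groth.Agent.H52.ofPt_yon_map_comp]
    have e : tY.left (m.left r) = t.left r := by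
      have := congrArg (fun k => k.left r) hm1
      simpa only [Over.comp_left, Scheme.Hom.comp_apply] using this
    rw [e, ← AlgSp.Points.map_ofPt, ← Groth.Agent.H52.ofPt_yon_map_comp, hr']

end Groth.Agent.S10352
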