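import Groth.Statements.S10366
import Groth.Agent.H52.FieldCover

set_option autoImplicit false
universe u
open CategoryTheory CategoryTheory.Limits AlgebraicGeometry Topology TopologicalSpace
open AlgSp

namespace Groth.Agent.S10366

/-- (1) ⇔ (2): an algebraic space Z over a scheme S is reduced with |Z| a single point if and only if
there is a surjective flat morphism Spec k ⟶ Z from the spectrum of a field. -/
theorem result {S : Scheme.{u}} (Z : AlgSp.Space S) :
    (AlgSp.EtaleLocally (fun U => IsReduced U) Z.obj ∧ Nonempty (AlgSp.Points Z.obj) ∧ Subsingleton (AlgSp.Points Z.obj)) ↔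
      ∃ (k : Type u) (_ : Field k) (str : Spec (CommRingCat.of k) ⟶ S) (p : (AlgSp.yon S).obj (Over.mk str) ⟶ Z.obj),
        AlgSp.LocP @Flat p ∧ AlgSp.IsSurjectiveMor p := by
  constructor
  · rintro ⟨⟨U, a, ha, has, hU⟩, ⟨z⟩, hsub⟩
    have : IsReduced U.left := hU
    obtain ⟨u, -⟩ := Groth.Agent.H52.ofPt_surjective_of_repWith_surjective a has z
    obtain ⟨η, -, h1, h2⟩ := Groth.Agent.H52.exists_flat_surjective_of_reduced a ha u
    exact ⟨_, inferInstance, _, _, h1, h2⟩
  · rintro ⟨k, _, str, p, hpf, hps⟩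
    obtain ⟨V, b, hb, hbs⟩ := Z.property.atlas
    refine ⟨⟨V, b, hb, hbs, Groth.Agent.H52.isReduced_of_field_cover Z.property str p hpf hps b hb⟩,
      ?_, Groth.Agent.H52.subsingleton_points_of_field_cover str p hps⟩
    obtain ⟨y⟩ := Groth.Agent.H52.nonempty_points_spec_field (S := S) str
    exact ⟨AlgSp.Points.map p y⟩

end Groth.Agent.S10366
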