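import Groth.Statements.S10367
import Groth.Agent.H52.FieldCoverFT

set_option autoImplicit false
universe u
open CategoryTheory CategoryTheory.Limits AlgebraicGeometry Topology TopologicalSpace
open AlgSp

namespace Groth.Agent.S10367

/-- (2) ⇒ (3): if an algebraic space Z over a scheme S admits a surjective flat morphism Spec k ⟶ Z with
k a field, then it also admits such a morphism which is moreover locally of finite type. -/
theorem result {S : Scheme.{u}} (Z : AlgSp.Space S)
    (k : Type u) [Field k] (str : Spec (CommRingCat.of k) ⟶ S) (p : (AlgSp.yon S).obj (Over.mk str) ⟶ Z.obj)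
    (hpf : AlgSp.LocP @Flat p) (hps : AlgSp.IsSurjectiveMor p) :
    ∃ (k' : Type u) (_ : Field k') (str' : Spec (CommRingCat.of k') ⟶ S) (q : (AlgSp.yon S).obj (Over.mk str') ⟶ Z.obj),
      AlgSp.LocP @LocallyOfFiniteType q ∧ AlgSp.LocP @Flat q ∧ AlgSp.IsSurjectiveMor q := by
  obtain ⟨V, b, hb, hbs⟩ := Z.property.atlas
  obtain ⟨y⟩ := Groth.Agent.H52.nonempty_points_spec_field (S := S) str
  obtain ⟨v, -⟩ := Groth.Agent.H52.ofPt_surjective_of_repWith_surjective b hbs (AlgSp.Points.map p y)
  obtain ⟨h1, h2, h3⟩ := Groth.Agent.H52.lft_flat_surjective_ofPt_of_field_cover Z.property str p hpf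
    hps b hb v
  exact ⟨_, inferInstance, _, _, h1, h2, h3⟩

end Groth.Agent.S10367
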