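import Groth.Statements.S10371
import Groth.Agent.H52.Residual

set_option autoImplicit false
universe u
open CategoryTheory CategoryTheory.Limits AlgebraicGeometry Topology TopologicalSpace
open AlgSp

namespace Groth.Agent.S10371

/-- Two monomorphisms Z ⟶ X, Z' ⟶ X of algebraic spaces over a scheme S with image {x} in |X|, whose
sources admit a locally finitely presented, flat, surjective morphism from the spectrum of a field,
are isomorphic over X. -/
theorem result {S : Scheme.{u}} (X : AlgSp.Space S) (x : AlgSp.Points X.obj)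
    {Z Z' : AlgSp.Space S} (i : Z ⟶ X) (i' : Z' ⟶ X) [Mono i.hom] [Mono i'.hom]
    (hi : Set.range (AlgSp.Points.map i.hom) = {x}) (hi' : Set.range (AlgSp.Points.map i'.hom) = {x})
    (hZ : ∃ (k : Type u) (_ : Field k) (str : Spec (CommRingCat.of k) ⟶ S) (p : (AlgSp.yon S).obj (Over.mk str) ⟶ Z.obj),
        AlgSp.LocP @LocallyOfFinitePresentation p ∧ AlgSp.LocP @Flat p ∧ AlgSp.IsSurjectiveMor p)
    (hZ' : ∃ (k : Type u) (_ : Field k) (str : Spec (CommRingCat.of k) ⟶ S) (p : (AlgSp.yon S).obj (Over.mk str) ⟶ Z'.obj),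
        AlgSp.LocP @LocallyOfFinitePresentation p ∧ AlgSp.LocP @Flat p ∧ AlgSp.IsSurjectiveMor p) :
    ∃ e : Z' ≅ Z, e.hom ≫ i = i' := by
  obtain ⟨k, _, str, p, h1, h2, h3⟩ := hZ
  obtain ⟨k', _, str', p', h1', h2', h3'⟩ := hZ'
  obtain ⟨e, he⟩ := Groth.Agent.H52.exists_iso_of_mono_of_field_cover X.property Z.property
    Z'.property x i.hom i'.hom hi hi' str p h1 h2 h3 str' p' h1' h2' h3'
  refine ⟨⟨ObjectProperty.homMk e.hom, ObjectProperty.homMk e.inv, ?_, ?_⟩, ?_⟩
  · apply ObjectProperty.hom_ext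
    exact e.hom_inv_id
  · apply ObjectProperty.hom_ext
    exact e.inv_hom_id
  · apply ObjectProperty.hom_ext
    exact he

end Groth.Agent.S10371
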