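import Groth.Statements.S10372
import Groth.Agent.H52.FieldCover
import Mathlib.RingTheory.RegularLocalRing.Defs

set_option autoImplicit false
universe u
open CategoryTheory CategoryTheory.Limits AlgebraicGeometry Topology TopologicalSpace
open AlgSp

namespace Groth.Agent.S10372

/-- A reduced, locally Noetherian algebraic space Z over a scheme S whose space of points is a single
point is regular (etale locally a regular scheme). -/
theorem result {S : Scheme.{u}} (Z : AlgSp.Space S)
    (hr : AlgSp.EtaleLocally (fun U => IsReduced U) Z.obj) (hN : AlgSp.IsLocNoethSp Z.obj)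
    [Nonempty (AlgSp.Points Z.obj)] [Subsingleton (AlgSp.Points Z.obj)] :
    AlgSp.EtaleLocally (fun U => IsLocallyNoetherian U ∧ ∀ u : ↥U, IsRegularLocalRing ↥(U.presheaf.stalk u)) Z.obj := by
  obtain ⟨U, a, ha, has, hU⟩ := hr
  obtain ⟨U', a', ha', has', hU'⟩ := hN
  have : IsReduced U.left := hU
  obtain ⟨z⟩ := ‹Nonempty (AlgSp.Points Z.obj)›
  obtain ⟨u, -⟩ := Groth.Agent.H52.ofPt_surjective_of_repWith_surjective a has z
  obtain ⟨η, -, h1, h2⟩ := Groth.Agent.H52.exists_flat_surjective_of_reduced a ha u
  refine ⟨U', a', ha', has', hU', fun u' => ?_⟩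
  have hf := Groth.Agent.H52.isField_stalk_of_field_cover Z.property _ _ h1 h2 a' ha' u'
  let _ := hf.toField
  infer_instance

end Groth.Agent.S10372
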