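import Groth.Statements.S10374
import Groth.Agent.H52.SymQuotH

set_option autoImplicit false
universe u
open CategoryTheory CategoryTheory.Limits AlgebraicGeometry Topology TopologicalSpace
open AlgSp

namespace Groth.Agent.S10374

/-- Let S be a scheme and X a decent algebraic space over S. Every point x ∈ |X| admits an etale
neighbourhood (U, u) ⟶ (X, x) which is elementary, with U an affine scheme and u the only point of U
over x; being elementary means that Spec κ(u) ⟶ X is a monomorphism, equivalently that the residue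
field of X at x maps isomorphically to κ(u). -/
theorem result {S : Scheme.{u}} (X : AlgSp.Space S) (hX : AlgSp.IsDecent X.obj)
    (x : AlgSp.Points X.obj) :
    ∃ (U : Over S) (a : (AlgSp.yon S).obj U ⟶ X.obj) (u : ↥U.left), IsAffine U.left ∧
      AlgSp.IsElemEtaleNbhd a u x ∧ AlgSp.Points.ofPt a ⁻¹' {x} = {u} := by
  classical
  obtain ⟨U₀, a₀, hae, has⟩ := X.property.atlas
  obtain ⟨u₀', hu₀'⟩ := Groth.Agent.H52.ofPt_surjective_of_repWith_surjective a₀ has x
  obtain ⟨Wo, hWo, hu₀W, -⟩ :=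
    exists_isAffineOpen_mem_and_subset (X := U₀.left) (x := u₀') (U := ⊤) trivial
  let U : Over S := Over.mk (Wo.ι ≫ U₀.hom)
  let e : (AlgSp.yon S).obj U ⟶ X.obj := (AlgSp.yon S).map (Groth.Agent.H52.openIncl U₀ Wo) ≫ a₀
  have he : AlgSp.RepWith @Etale e := Groth.Agent.H52.repWith_etale_restrict a₀ hae Wo
  have hUaff : IsAffine U.left := hWo
  let u₀ : ↥U.left := ⟨u₀', hu₀W⟩
  have hu₀ : AlgSp.Points.ofPt e u₀ = x := by
    rw [Groth.Agent.H52.ofPt_yon_map_comp]; exact hu₀'
  obtain ⟨R, t, s, sq⟩ := Groth.Agent.H53.exists_pullback_yon e e he.rep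
  -- the degree of the point
  have hUc : CompactSpace ↥U.left := inferInstance
  obtain ⟨N, hN⟩ := Groth.Agent.H52.EtDeg.exists_notMem_strat_of_isDecent hX e he s t sq u₀
  have hex : ∃ d, u₀ ∉ Groth.Agent.H52.EtDeg.Strat s.left d := ⟨N + 1, hN⟩
  obtain ⟨d, hd, hmin⟩ : ∃ d, u₀ ∉ Groth.Agent.H52.EtDeg.Strat s.left d ∧
      ∀ d' < d, u₀ ∈ Groth.Agent.H52.EtDeg.Strat s.left d' :=
    ⟨Nat.find hex, Nat.find_spec hex, fun d' h => by_contra fun hc => Nat.find_min hex h hc⟩
  rcases d with _ | _ | n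
  · exact (hd (by rw [Groth.Agent.H52.EtDeg.strat_zero]; trivial)).elim
  · exact (hd (Groth.Agent.H52.SymQuot.mem_strat_one sq u₀)).elim
  have hmem : u₀ ∈ Groth.Agent.H52.EtDeg.Strat s.left (n + 1) := hmin (n + 1) (by omega)
  -- the symmetric quotient
  obtain ⟨W, ρ, M, m, b, hW, hmet, hmsurj, hmfin, hbe, hb, hmrel⟩ :=
    Groth.Agent.H52.SymQuot.exists_symQuot X.property e he n
  obtain ⟨p, hp, hm, hq⟩ := hX x
  have hprep : AlgSp.Representable p.toHom := X.property.representable_from_yon _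
  obtain ⟨l, hl, huniq⟩ := Groth.Agent.H52.SymQuot.exists_unique_point sq X.property he hbe hW
    hmsurj hb hmrel u₀ hmem hd p (hp.trans hu₀.symm) hm
  -- an affine neighbourhood
  obtain ⟨V, hV, hvV, -⟩ := exists_isAffineOpen_mem_and_subset (X := M.left)
    (x := l.left (IsLocalRing.closedPoint p.K)) (U := ⊤) trivial
  let U' : Over S := Over.mk (V.ι ≫ M.hom)
  let a : (AlgSp.yon S).obj U' ⟶ X.obj := (AlgSp.yon S).map (Groth.Agent.H52.openIncl M V) ≫ b
  have ha : AlgSp.RepWith @Etale a := Groth.Agent.H52.repWith_etale_restrict b hbe V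
  have hrange : Set.range l.left ⊆ Set.range V.ι := by
    rintro _ ⟨q, rfl⟩
    rw [Scheme.Opens.range_ι]
    have : q = IsLocalRing.closedPoint p.K := Subsingleton.elim (α := PrimeSpectrum p.K) _ _
    rw [this]; exact hvV
  let ll := IsOpenImmersion.lift V.ι l.left hrange
  have hll : ll ≫ V.ι = l.left := IsOpenImmersion.lift_fac _ _ _
  let l' : p.pt ⟶ U' := Over.homMk ll (by
    change ll ≫ V.ι ≫ M.hom = p.pt.hom
    rw [← Category.assoc, hll, Over.w l])
  have hl'o : l' ≫ Groth.Agent.H52.openIncl M V = l := by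
    ext; exact hll
  have hl' : (AlgSp.yon S).map l' ≫ a = p.toHom := by
    rw [← Category.assoc, ← Functor.map_comp, hl'o, hl]
  obtain ⟨hmono, hpt⟩ := Groth.Agent.H52.mono_ofPt_of_lift p hm hprep a l' hl'
  have hιu : V.ι (l'.left (IsLocalRing.closedPoint p.K)) = l.left (IsLocalRing.closedPoint p.K) := by
    rw [← hl'o, Over.comp_left, Scheme.Hom.comp_apply]
    rfl
  refine ⟨U', a, l'.left (IsLocalRing.closedPoint p.K), hV, ⟨ha, hpt.trans hp, hmono⟩, ?_⟩
  ext u'
  simp only [Set.mem_preimage, Set.mem_singleton_iff]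
  constructor
  · intro hu'
    rw [Groth.Agent.H52.ofPt_yon_map_comp] at hu'
    have h1 := huniq _ (hu'.trans hu₀.symm)
    apply V.ι.isOpenEmbedding.injective
    rw [hιu]
    exact h1
  · rintro rfl
    exact hpt.trans hp

end Groth.Agent.S10374
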