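import Groth.Statements.S10384
import Groth.Agent.H49.AlgSpQC
import Groth.Agent.S10361

set_option autoImplicit false
universe u
open CategoryTheory CategoryTheory.Limits AlgebraicGeometry Topology TopologicalSpace
open AlgSp

namespace Groth.Agent.S10384

/-- Let f : X ⟶ Y be a quasi-compact, etale and surjective morphism of algebraic spaces over a scheme S.
If X is decent then Y is decent. -/
theorem result {S : Scheme.{u}} {X Y : AlgSp.Space S} (f : X ⟶ Y)
    (hq : AlgSp.IsQuasiCompactMor f.hom) (he : AlgSp.IsEtaleMor f.hom) (hs : AlgSp.IsSurjectiveMor f.hom)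
    (hX : AlgSp.IsDecent X.obj) : AlgSp.IsDecent Y.obj := by
  intro y
  obtain ⟨x, rfl⟩ := hs y
  obtain ⟨p, rfl, hm, hqc⟩ := hX x
  have hqY : AlgSp.RepWith @QuasiCompact (p.map f.hom).toHom := by
    rw [AlgSp.FieldPt.toHom_map]
    have h1 : AlgSp.IsQuasiCompactMor p.toHom :=
      (Groth.Agent.H49.repWith_quasiCompact_iff p.toHom hqc.rep).1 hqc
    have h2 : AlgSp.IsQuasiCompactMor (p.toHom ≫ f.hom) :=
      Groth.Agent.H49.isQuasiCompactMor_comp X.property Y.property h1 hq
    exact (Groth.Agent.H49.repWith_quasiCompact_iff _ (Y.property.representable_from_yon _)).2 h2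
  obtain ⟨p', hp', hm', hq'⟩ := Groth.Agent.S10361.result Y (p.map f.hom) hqY
  exact ⟨p', hp', hm', hq'⟩

end Groth.Agent.S10384
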