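import Groth.Statements.S10389
import Groth.Agent.H52.QuasiFiniteAt

set_option autoImplicit false
universe u
open CategoryTheory CategoryTheory.Limits AlgebraicGeometry Topology TopologicalSpace
open AlgSp

namespace Groth.Agent.S10389

/-- Let W = X ×_Y Z be a fibre product of algebraic spaces over a scheme S with projections p, q, and
let x ∈ |X|, z ∈ |Z| lie over the same point y ∈ |Y|. If y is represented by a monomorphism Spec k ⟶
Y from the spectrum of a field and g : Z ⟶ Y is quasi-finite at z, then the set of points of |W|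
mapping to x and to z is finite. (Special case: Y decent and g etale.) -/
theorem result {S : Scheme.{u}} {X Y Z W : AlgSp.Space S} (f : X ⟶ Y)
    (g : Z ⟶ Y) (p : W ⟶ X) (q : W ⟶ Z) (hW : IsPullback p.hom q.hom f.hom g.hom) (x : AlgSp.Points X.obj)
    (z : AlgSp.Points Z.obj) (hxz : AlgSp.Points.map f.hom x = AlgSp.Points.map g.hom z)
    (hy : ∃ r : AlgSp.FieldPt Y.obj, AlgSp.Points.mk r = AlgSp.Points.map g.hom z ∧ Mono r.toHom)
    (hg : AlgSp.HasAtMor (fun U _ h u => ∃ W : U.Opens, u ∈ W ∧ LocallyQuasiFinite (W.ι ≫ h) ∧ LocallyOfFiniteType (W.ι ≫ h)) g.hom z) :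
    {w : AlgSp.Points W.obj | AlgSp.Points.map p.hom w = x ∧ AlgSp.Points.map q.hom w = z}.Finite := by
  obtain ⟨r, hr, hm⟩ := hy
  obtain ⟨U, V, a', b', h, u, ha', hb', hcomm, hu, W₀, huW, hlqf, -⟩ := hg
  have hrep : AlgSp.Representable r.toHom := Y.property.representable_from_yon _
  induction x using AlgSp.Points.ind with
  | h a =>
  have hb : AlgSp.Points.mk (AlgSp.FieldPt.ofPt a' u) = z := hu
  obtain ⟨ca', hca'⟩ := Groth.Agent.H52.exists_factor_of_mono r (a.map f.hom) hm hrep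
    (by rw [← AlgSp.Points.map_mk, hxz, hr])
  let ca : a.pt ⟶ r.pt := ca'
  have hca : (AlgSp.yon S).map ca ≫ r.toHom = a.toHom ≫ f.hom :=
    hca'.trans (AlgSp.FieldPt.toHom_map f.hom a)
  obtain ⟨cb', hcb'⟩ := Groth.Agent.H52.exists_factor_of_mono r
    ((AlgSp.FieldPt.ofPt a' u).map g.hom) hm hrep (by rw [← AlgSp.Points.map_mk, hb, hr])
  let cb : Over.mk (U.left.fromSpecResidueField u ≫ U.hom) ⟶ r.pt := cb'
  have hcb0 : (AlgSp.yon S).map cb ≫ r.toHom = (AlgSp.FieldPt.ofPt a' u).toHom ≫ g.hom :=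
    hcb'.trans (AlgSp.FieldPt.toHom_map g.hom _)
  have hcb : (AlgSp.yon S).map cb ≫ r.toHom =
      ((AlgSp.yon S).map (Groth.Agent.H52.ptHom U u) ≫ a') ≫ g.hom := by
    rw [hcb0, AlgSp.FieldPt.toHom_ofPt]; rfl
  have hquf := Groth.Agent.H52.quasiFiniteAt_of_opens h.left u W₀ huW hlqf
  have hl := Groth.Agent.H52.locallyQuasiFinite_factor_of_chart g.hom a' b' h hb' hcomm u hquf r hm
    hrep (by rw [hu, hr]) cb hcb
  rw [← hb]
  exact Groth.Agent.H52.finite_points_over_of_mono hW r hm a (AlgSp.FieldPt.ofPt a' u) ca cb hca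
    hcb0 hl

end Groth.Agent.S10389
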