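import Groth.Statements.S10397
import Groth.Agent.H52.DecentGenericA
import Groth.Agent.S10337
import Groth.Agent.H51.SpField2

set_option autoImplicit false
universe u
open CategoryTheory CategoryTheory.Limits AlgebraicGeometry Topology TopologicalSpace
open AlgSp

namespace Groth.Agent.S10397

/-- (1) ⇔ (3): an algebraic space X over a scheme S is decent with |X| having finitely many irreducible
components if and only if X has a dense open subscheme X' with finitely many irreducible components
whose generic points x'_j give quasi-compact morphisms Spec κ(x'_j) ⟶ X. -/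
theorem result {S : Scheme.{u}} (X : AlgSp.Space S) :
    (AlgSp.IsDecent X.obj ∧ (irreducibleComponents (AlgSp.Points X.obj)).Finite) ↔
      ∃ (X' : Over S) (j : (AlgSp.yon S).obj X' ⟶ X.obj), AlgSp.RepWith @IsOpenImmersion j ∧
        Dense (Set.range (AlgSp.Points.ofPt j)) ∧ (irreducibleComponents ↥X'.left).Finite ∧
        ∀ x' : ↥X'.left, (∃ T ∈ irreducibleComponents ↥X'.left, IsGenericPoint x' T) →
          AlgSp.RepWith @QuasiCompact (AlgSp.FieldPt.ofPt j x').toHom := by
  open Groth.Agent.H51 Groth.Agent.H52 in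
  constructor
  · rintro ⟨hdec, hfinX⟩
    obtain ⟨X'', j'', hj'', hrep'', hdense''⟩ := Groth.Agent.S10337.result X hdec
    obtain ⟨G, ⟨e⟩⟩ := exists_iso_of_isRepresentable hrep''
    let j : (AlgSp.yon S).obj G ⟶ X.obj := e.hom ≫ j''.hom
    have hj : AlgSp.RepWith @IsOpenImmersion j :=
      MorphismProperty.RespectsIso.precomp _ e.hom _ hj''
    have hjm : Mono j := Groth.Agent.H49.mono_of_repWith_mono isOpenImmersion_le_mono j hj
    have hje : AlgSp.RepWith @Etale j := repWith_mono isOpenImmersion_le_etale hj
    have hrange : Set.range (AlgSp.Points.ofPt j) = Set.range (AlgSp.Points.map j''.hom) := by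
      rw [← range_map_eq_range_ofPt]
      ext x
      constructor
      · rintro ⟨z, rfl⟩
        exact ⟨AlgSp.Points.map e.hom z, (AlgSp.Points.map_comp e.hom j''.hom z).symm⟩
      · rintro ⟨z, rfl⟩
        refine ⟨AlgSp.Points.map e.inv z, ?_⟩
        rw [AlgSp.Points.map_comp, ← AlgSp.Points.map_comp e.inv e.hom, e.inv_hom_id,
          AlgSp.Points.map_id]
    have hemb : Topology.IsOpenEmbedding (AlgSp.Points.ofPt j) := by
      refine Topology.IsOpenEmbedding.of_continuous_injective_isOpenMap
        (AlgSp.Points.continuous_ofPt j) ?_ (isOpenMap_ofPt_of_repWith_etale j hje)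
      intro g g' hgg'
      rw [AlgSp.Points.ofPt_eq_map_ofScheme, AlgSp.Points.ofPt_eq_map_ofScheme j] at hgg'
      exact (AlgSp.Points.schemeEquiv G).injective (injective_map_of_mono j hgg')
    refine ⟨G, j, hj, ?_, IrredComp.finite_of_isOpenEmbedding hemb hfinX, ?_⟩
    · rw [hrange]; exact hdense''
    · intro x' _
      obtain ⟨p, hp, hm, hqc⟩ := hdec (AlgSp.Points.ofPt j x')
      obtain ⟨c, hc⟩ := exists_factor_of_mono p (AlgSp.FieldPt.ofPt j x') hm hqc.rep hp.symm
      rw [← hc]
      refine (AlgSp.RepWith @QuasiCompact).comp_mem _ _ ?_ hqc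
      rw [AlgSp.repWith_yon_map_iff]
      exact quasiCompact_of_finite (X := Spec (CommRingCat.of (AlgSp.FieldPt.ofPt j x').K)) c.left
  · rintro ⟨X', j, hj, hd, hfin, hq⟩
    refine ⟨DecentGeneric.isDecent_of_dense_open_subscheme j hj hd hfin hq X.property, ?_⟩
    exact IrredComp.finite_of_denseRange (AlgSp.Points.continuous_ofPt j) hd hfin

end Groth.Agent.S10397
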