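import Groth.Statements.S10398
import Groth.Agent.H53.ZMT.GenFinLocal
import Groth.Agent.H53.ZMT.QfLocus
import Groth.Agent.H52.FppfFpqc
import Groth.Agent.H51.SpOpen
import Groth.Agent.S10540

set_option autoImplicit false
universe u
open CategoryTheory CategoryTheory.Limits AlgebraicGeometry Topology TopologicalSpace
open AlgSp

namespace Groth.Agent.S10398

/-- (2) ⇒ (3): let S be a scheme, X and Y algebraic spaces over S, and f : X ⟶ Y a quasi-separated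
morphism of finite type, and let y ∈ |Y| be a codimension 0 point of Y. Suppose that at every point
of |X| lying over y the morphism f is quasi-finite. Then there is an open subspace Y' ⊆ Y containing
y for which the morphism Y' ×_Y X ⟶ Y' is finite. -/
theorem result {S : Scheme.{u}} {X Y : AlgSp.Space S} (f : X ⟶ Y)
    (hqs : AlgSp.IsQuasiSeparatedMor f.hom) (hft : AlgSp.IsFiniteTypeMor f.hom) (y : AlgSp.Points Y.obj)
    (hy : AlgSp.HasAt (fun U u => ringKrullDim ↥(U.presheaf.stalk u) = 0) Y.obj y)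
    (hqf : ∀ x : AlgSp.Points X.obj, AlgSp.Points.map f.hom x = y → AlgSp.HasAtMor (fun U _ h u => ∃ W : U.Opens, u ∈ W ∧ LocallyQuasiFinite (W.ι ≫ h) ∧ LocallyOfFiniteType (W.ι ≫ h)) f.hom x) :
    ∃ (Y' X' : AlgSp.Space S) (j : Y' ⟶ Y) (fst : X' ⟶ Y') (snd : X' ⟶ X), AlgSp.RepWith @IsOpenImmersion j.hom ∧
      y ∈ Set.range (AlgSp.Points.map j.hom) ∧ IsPullback fst.hom snd.hom j.hom f.hom ∧
      AlgSp.IsFiniteMor fst.hom := by
  -- an affine etale chart of `Y` at `y` through a point with zero-dimensional local ring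
  obtain ⟨B, β, b, hβe, hb, hdim⟩ := hy
  obtain ⟨_, ⟨(B₀ : B.left.Opens), hB₀, rfl⟩, hbB₀, -⟩ :=
    B.left.isBasis_affineOpens.exists_subset_of_mem_open (Set.mem_univ b) isOpen_univ
  let T₀ : Over S := Groth.Agent.H51.overOpen B B₀
  have hT₀aff : IsAffine T₀.left := hB₀
  set b₀ : (AlgSp.yon S).obj T₀ ⟶ Y.obj :=
    (AlgSp.yon S).map (Groth.Agent.H51.overOpenι B B₀) ≫ β with hb₀def
  have hb₀e : AlgSp.RepWith @Etale b₀ := Groth.Agent.H51.repWith_etale_restrict β hβe B₀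
  let t₀ : ↥T₀.left := ⟨b, hbB₀⟩
  have ht₀ : AlgSp.Points.ofPt b₀ t₀ = y := (Groth.Agent.H51.ofPt_restrict β B₀ t₀).trans hb
  have hdim₀ : ringKrullDim (T₀.left.presheaf.stalk t₀) = 0 := by
    have e : B₀.ι t₀ = b := rfl
    rw [ringKrullDim_stalk_eq_coheight, ← coheight_eq_of_isOpenImmersion B₀.ι, e,
      ← ringKrullDim_stalk_eq_coheight]
    exact hdim
  -- the base change of `X` to the chart
  let X₀ : AlgSp.Sp S := pullback f.hom b₀
  let pr : X₀ ⟶ X.obj := pullback.fst f.hom b₀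
  let f₀ : X₀ ⟶ (AlgSp.yon S).obj T₀ := pullback.snd f.hom b₀
  have sq₀ : IsPullback pr f₀ f.hom b₀ := IsPullback.of_hasPullback f.hom b₀
  have hT₀sp : AlgSp.IsAlgSpace ((AlgSp.yon S).obj T₀) := AlgSp.IsAlgSpace.yon_obj T₀
  have hX₀ : AlgSp.IsAlgSpace X₀ :=
    Groth.Agent.H49.isAlgSpace_of_isPullback sq₀ Y.property.diag X.property hT₀sp
  have hlft₀ : AlgSp.LocP @LocallyOfFiniteType f₀ :=
    Groth.Agent.H50.goodClass_lft.locP_of_isPullback X.property Y.property hT₀sp f.hom b₀ pr f₀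
      sq₀ hft.1
  have hqs₀ : AlgSp.RepWith @QuasiCompact (pullback.diagonal f₀) :=
    MorphismProperty.of_isPullback (P := (AlgSp.RepWith @QuasiCompact).diagonal) sq₀ hqs
  have hqc₀ : AlgSp.IsQuasiCompactSp X₀ :=
    hft.2 hT₀sp (Groth.Agent.H49.isQuasiCompactSp_yon T₀) b₀ pr f₀ sq₀
  have hqf₀ : ∀ x : AlgSp.Points X₀, AlgSp.Points.map f₀ x = AlgSp.Points.ofScheme T₀ t₀ →
      AlgSp.HasAtMor Groth.Agent.H53.ZMT.QfAt f₀ x := by
    intro x hx
    refine Groth.Agent.H53.ZMT.hasAtMor_qfAt_of_isPullback X.property Y.property hX₀ hT₀sp sq₀ x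
      (hqf _ ?_)
    rw [← AlgSp.Points.map_comp, sq₀.w, AlgSp.Points.map_comp, hx,
      ← AlgSp.Points.ofPt_eq_map_ofScheme, ht₀]
  obtain ⟨r₀, hr₀, H⟩ := Groth.Agent.H53.ZMT.exists_basicOpen_isFiniteMor hT₀aff f₀ hqs₀ hlft₀
    hqc₀ t₀ hdim₀ hqf₀
  -- the open subspace of `Y`
  let T₁ : Over S := Groth.Agent.H51.overOpen T₀ (T₀.left.basicOpen r₀)
  let j₁ : T₁ ⟶ T₀ := Groth.Agent.H51.overOpenι T₀ (T₀.left.basicOpen r₀)
  set b₁ : (AlgSp.yon S).obj T₁ ⟶ Y.obj := (AlgSp.yon S).map j₁ ≫ b₀ with hb₁def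
  have hb₁e : AlgSp.RepWith @Etale b₁ :=
    Groth.Agent.H51.repWith_etale_restrict b₀ hb₀e (T₀.left.basicOpen r₀)
  have hT₁sp : AlgSp.IsAlgSpace ((AlgSp.yon S).obj T₁) := AlgSp.IsAlgSpace.yon_obj T₁
  have hWy : IsOpen (Set.range (AlgSp.Points.ofPt b₁)) :=
    (Groth.Agent.H51.isOpenMap_ofPt_of_etale b₁ hb₁e).isOpen_range
  have hyW : y ∈ Set.range (AlgSp.Points.ofPt b₁) :=
    ⟨⟨t₀, hr₀⟩, (Groth.Agent.H51.ofPt_restrict b₀ (T₀.left.basicOpen r₀) ⟨t₀, hr₀⟩).trans ht₀⟩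
  let Y'obj : AlgSp.Sp S := Groth.Agent.H51.openSubSp Y.obj (Set.range (AlgSp.Points.ofPt b₁))
  let jY : Y'obj ⟶ Y.obj := Groth.Agent.H51.openSubι Y.obj (Set.range (AlgSp.Points.ofPt b₁))
  have hY' : AlgSp.IsAlgSpace Y'obj := Groth.Agent.H51.isAlgSpace_openSubSp Y.property _ hWy
  have hjY : AlgSp.RepWith @IsOpenImmersion jY :=
    Groth.Agent.H51.repWith_isOpenImmersion_openSubι _ hWy
  let X'obj : AlgSp.Sp S := pullback jY f.hom
  let fst' : X'obj ⟶ Y'obj := pullback.fst jY f.hom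
  let snd' : X'obj ⟶ X.obj := pullback.snd jY f.hom
  have sqX' : IsPullback fst' snd' jY f.hom := IsPullback.of_hasPullback jY f.hom
  have hX' : AlgSp.IsAlgSpace X'obj :=
    Groth.Agent.H49.isAlgSpace_of_isPullback sqX'.flip Y.property.diag X.property hY'
  -- the chart of the open subspace
  obtain ⟨b₁', hb₁', hb₁'e, hb₁'s, -⟩ := Groth.Agent.H51.isPresentation_of_open_image b₁ hb₁e jY
    hjY (Groth.Agent.H51.range_map_openSubι _)
  have hcov : AlgSp.IsFpqcCover (fun _ : PUnit.{u + 1} => (AlgSp.yon S).obj T₁)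
      (fun _ => b₁') :=
    ⟨fun _ => Groth.Agent.H50.goodClass_flat.locP_of_repWith_etale b₁' hb₁'e,
      Groth.Agent.H52.fpqcRefine_of_chart hY' b₁' hb₁'e hb₁'s⟩
  let X₁ : AlgSp.Sp S := pullback fst' b₁'
  let q : X₁ ⟶ X'obj := pullback.fst fst' b₁'
  let p : X₁ ⟶ (AlgSp.yon S).obj T₁ := pullback.snd fst' b₁'
  have sqA : IsPullback q p fst' b₁' := IsPullback.of_hasPullback fst' b₁'
  have hX₁ : AlgSp.IsAlgSpace X₁ :=
    Groth.Agent.H49.isAlgSpace_of_isPullback sqA hY'.diag hX' hT₁sp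
  have sqAB : IsPullback (q ≫ snd') p f.hom (b₁' ≫ jY) := sqA.paste_horiz sqX'.flip
  rw [hb₁', hb₁def] at sqAB
  have hcomm : (q ≫ snd') ≫ f.hom = (p ≫ (AlgSp.yon S).map j₁) ≫ b₀ := by
    rw [Category.assoc p]; exact sqAB.w
  let q₁ : X₁ ⟶ X₀ := sq₀.lift (q ≫ snd') (p ≫ (AlgSp.yon S).map j₁) hcomm
  have hq₁1 : q₁ ≫ pr = q ≫ snd' := sq₀.lift_fst _ _ _
  have hq₁2 : q₁ ≫ f₀ = p ≫ (AlgSp.yon S).map j₁ := sq₀.lift_snd _ _ _
  have sqQ : IsPullback q₁ p f₀ ((AlgSp.yon S).map j₁) := by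
    refine IsPullback.of_right ?_ hq₁2 sq₀
    rw [hq₁1]
    exact sqAB
  have hpfin : AlgSp.IsFiniteMor p := H X₁ q₁ p sqQ
  have hfin : AlgSp.IsFiniteMor fst' :=
    ((Groth.Agent.S10540.result S) (fun _ : PUnit.{u + 1} => (AlgSp.yon S).obj T₁)
      (fun _ => b₁') hY' (fun _ => hT₁sp) hcov fst' hX' (fun _ => X₁) (fun _ => p) (fun _ => q)
      (fun _ => hX₁) (fun _ => sqA)).2 (fun _ => hpfin)
  refine ⟨⟨Y'obj, hY'⟩, ⟨X'obj, hX'⟩, ObjectProperty.homMk jY, ObjectProperty.homMk fst',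
    ObjectProperty.homMk snd', hjY, ?_, sqX', hfin⟩
  change y ∈ Set.range (AlgSp.Points.map jY)
  rw [Groth.Agent.H51.range_map_openSubι]
  exact hyW

end Groth.Agent.S10398
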