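import Groth.Statements.S1040
import Groth.Agent.H16.QCohSigma
import Groth.Agent.H33.BrownGA.QCoprod
import Groth.Agent.H33.SheafMod.Grothendieck
import Groth.Agent.H9.HomologyFilteredColimits

set_option autoImplicit false
universe u
open CategoryTheory CategoryTheory.Limits AlgebraicGeometry
attribute [local instance] HasDerivedCategory.standard
open Perf

namespace Groth.Agent.S1040

/-- Let X be a scheme and Kᵢ a family of objects of D(O_X) with quasi-coherent cohomology sheaves,
indexed by a small type, whose direct sum exists in D(O_X). Then ∐ Kᵢ has quasi-coherent cohomology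
sheaves. -/
theorem result (X : Scheme.{u}) {ι : Type u} (K : ι → DCoh.D X) (hK : ∀ i, DCoh.IsQCohD (K i)) [HasCoproduct K] :
    DCoh.IsQCohD (∐ K) := by
  haveI : IsGrothendieckAbelian.{u} X.Modules :=
    Groth.Agent.H33.SheafMod.isGrothendieckAbelian _ X.ringCatSheaf
  let C : ι → CochainComplex X.Modules ℤ := fun i => DerivedCategory.Q.objPreimage (K i)
  let e : ∀ i, DerivedCategory.Q.obj (C i) ≅ K i := fun i => DerivedCategory.Q.objObjPreimageIso (K i)
  have hcolim := Groth.Agent.H33.BrownGA.isColimitQ C
  haveI : HasCoproduct fun i => DerivedCategory.Q.obj (C i) := ⟨⟨⟨_, hcolim⟩⟩⟩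
  let e1 : (∐ fun i => DerivedCategory.Q.obj (C i)) ≅ DerivedCategory.Q.obj (∐ C) :=
    IsColimit.coconePointUniqueUpToIso (coproductIsCoproduct _) hcolim
  let e2 : (∐ fun i => DerivedCategory.Q.obj (C i)) ≅ ∐ K :=
    IsColimit.coconePointsIsoOfNatIso (coproductIsCoproduct _) (coproductIsCoproduct K)
      (Discrete.natIso (fun j => e j.as))
  intro n
  haveI : HasExactColimitsOfShape (Discrete ι) X.Modules := inferInstance
  haveI : PreservesColimitsOfShape (Discrete ι)
      (HomologicalComplex.homologyFunctor X.Modules (ComplexShape.up ℤ) n) :=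
    Groth.Agent.H9.preservesColimitsOfShape_homologyFunctor _ n
  let e3 : DCoh.HD (∐ K) n ≅ (∐ C).homology n :=
    (DerivedCategory.homologyFunctor X.Modules n).mapIso (e2.symm ≪≫ e1) ≪≫
      (DerivedCategory.homologyFunctorFactors X.Modules n).app (∐ C)
  let e4 : (∐ C).homology n ≅ ∐ fun i => (C i).homology n :=
    PreservesCoproduct.iso (HomologicalComplex.homologyFunctor X.Modules (ComplexShape.up ℤ) n) C
  have h1 : ∀ i, ((C i).homology n).IsQuasicoherent := by
    intro i
    have h2 : Coh.IsQCoh (DCoh.HD (K i) n) := hK i n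
    let e5 : DCoh.HD (K i) n ≅ (C i).homology n :=
      (DerivedCategory.homologyFunctor X.Modules n).mapIso (e i).symm ≪≫
        (DerivedCategory.homologyFunctorFactors X.Modules n).app (C i)
    exact (SheafOfModules.isQuasicoherent X.ringCatSheaf).prop_of_iso e5 h2
  have h3 : (∐ fun i => (C i).homology n).IsQuasicoherent :=
    Groth.Agent.H16.QCohSigma.isQuasicoherent_sigma _ h1
  exact (SheafOfModules.isQuasicoherent X.ringCatSheaf).prop_of_iso (e3 ≪≫ e4).symm h3

end Groth.Agent.S1040
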