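import Groth.Statements.S10400
import Groth.Agent.H53.ZMT.GenFinDense5
import Groth.Agent.H52.FppfFpqc
import Groth.Agent.H51.SpOpen
import Groth.Agent.H50.OpenImm
import Groth.Agent.S10540

set_option autoImplicit false
universe u
open CategoryTheory CategoryTheory.Limits AlgebraicGeometry Topology TopologicalSpace
open AlgSp

namespace Groth.Agent.S10400

/-- Let f : X ⟶ Y be a morphism locally of finite type of algebraic spaces over a scheme S with Y
decent. Assume the codimension 0 points of X and of Y form finite sets, that a point of X has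
codimension 0 exactly when its image does, and that f is quasi-compact or separated. Then there is a
dense open subspace V ⊆ Y with f⁻¹(V) ⟶ V finite. -/
theorem result {S : Scheme.{u}} {X Y : AlgSp.Space S} (f : X ⟶ Y)
    (hf : AlgSp.LocP @LocallyOfFiniteType f.hom) (hY : AlgSp.IsDecent Y.obj)
    (hX0 : {x : AlgSp.Points X.obj | AlgSp.HasAt (fun U u => ringKrullDim ↥(U.presheaf.stalk u) = 0) X.obj x}.Finite)
    (hY0 : {y : AlgSp.Points Y.obj | AlgSp.HasAt (fun U u => ringKrullDim ↥(U.presheaf.stalk u) = 0) Y.obj y}.Finite)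
    (hpre : ∀ x : AlgSp.Points X.obj, AlgSp.HasAt (fun U u => ringKrullDim ↥(U.presheaf.stalk u) = 0) X.obj x ↔ AlgSp.HasAt (fun U u => ringKrullDim ↥(U.presheaf.stalk u) = 0) Y.obj (AlgSp.Points.map f.hom x))
    (hqs : AlgSp.IsQuasiCompactMor f.hom ∨ AlgSp.IsSeparatedMor f.hom) :
    ∃ (V X' : AlgSp.Space S) (j : V ⟶ Y) (fst : X' ⟶ V) (snd : X' ⟶ X), AlgSp.RepWith @IsOpenImmersion j.hom ∧
      Dense (Set.range (AlgSp.Points.map j.hom)) ∧ IsPullback fst.hom snd.hom j.hom f.hom ∧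
      AlgSp.IsFiniteMor fst.hom := by
  classical
  -- step 1: a chart at every codimension 0 point of `Y` over which `f` is finite
  have key : ∀ y : AlgSp.Points Y.obj,
      AlgSp.HasAt (fun U u => ringKrullDim ↥(U.presheaf.stalk u) = 0) Y.obj y →
      ∃ (T : Over S) (b : (AlgSp.yon S).obj T ⟶ Y.obj), AlgSp.RepWith @Etale b ∧
        y ∈ Set.range (AlgSp.Points.ofPt b) ∧
        ∀ (X₁ : AlgSp.Sp S) (q : X₁ ⟶ X.obj) (f₁ : X₁ ⟶ (AlgSp.yon S).obj T),
          IsPullback q f₁ f.hom b → AlgSp.IsFiniteMor f₁ := by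
    intro y hy
    obtain ⟨T₀, b₀, t₀, hT₀, hb₀, ht₀, hdim, huniq⟩ :=
      Groth.Agent.H53.ZMT.exists_affine_chart_unique_codimZero Y hY hY0 y hy
    have H : ∃ r₀ : Γ(T₀.left, ⊤), t₀ ∈ T₀.left.basicOpen r₀ ∧
        ∀ (X₁ : AlgSp.Sp S) (q : X₁ ⟶ X.obj)
          (f₁ : X₁ ⟶ (AlgSp.yon S).obj (Groth.Agent.H51.overOpen T₀ (T₀.left.basicOpen r₀))),
          IsPullback q f₁ f.hom
            ((AlgSp.yon S).map (Groth.Agent.H51.overOpenι T₀ (T₀.left.basicOpen r₀)) ≫ b₀) →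
            AlgSp.IsFiniteMor f₁ := by
      rcases hqs with hqc | hsep
      · exact Groth.Agent.H53.ZMT.exists_basicOpen_isFiniteMor_of_qc f hf hpre hqc hT₀ b₀ hb₀ t₀
          hdim huniq
      · exact Groth.Agent.H53.ZMT.exists_basicOpen_isFiniteMor_of_sep f hf hY hX0 hpre hsep hT₀ b₀
          hb₀ t₀ hdim huniq
    obtain ⟨r₀, hr₀, H⟩ := H
    exact ⟨Groth.Agent.H51.overOpen T₀ (T₀.left.basicOpen r₀),
      (AlgSp.yon S).map (Groth.Agent.H51.overOpenι T₀ (T₀.left.basicOpen r₀)) ≫ b₀,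
      Groth.Agent.H51.repWith_etale_restrict b₀ hb₀ _,
      ⟨⟨t₀, hr₀⟩, (Groth.Agent.H51.ofPt_restrict b₀ (T₀.left.basicOpen r₀) ⟨t₀, hr₀⟩).trans ht₀⟩, H⟩
  -- step 2: enumerate the codimension 0 points
  let e := hY0.toFinset.equivFin
  let ι : Type u := ULift.{u} (Fin hY0.toFinset.card)
  let yy : ι → AlgSp.Points Y.obj := fun i => (e.symm i.down).1
  have hyy : ∀ i : ι,
      AlgSp.HasAt (fun U u => ringKrullDim ↥(U.presheaf.stalk u) = 0) Y.obj (yy i) := fun i =>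
    hY0.mem_toFinset.1 (e.symm i.down).2
  have hyy_surj : ∀ y : AlgSp.Points Y.obj,
      AlgSp.HasAt (fun U u => ringKrullDim ↥(U.presheaf.stalk u) = 0) Y.obj y → ∃ i : ι, yy i = y := by
    intro y hy
    refine ⟨⟨e ⟨y, hY0.mem_toFinset.2 hy⟩⟩, ?_⟩
    change (e.symm (e ⟨y, hY0.mem_toFinset.2 hy⟩)).1 = y
    rw [Equiv.symm_apply_apply]
  choose T b hbe hyb Hfin using fun i : ι => key (yy i) (hyy i)
  -- step 3: the dense open subspace
  let Wy : Set (AlgSp.Points Y.obj) := ⋃ i : ι, Set.range (AlgSp.Points.ofPt (b i))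
  have hWy : IsOpen Wy := isOpen_iUnion fun i =>
    (Groth.Agent.H51.isOpenMap_ofPt_of_etale (b i) (hbe i)).isOpen_range
  have hdense : Dense Wy := by
    refine (Groth.Agent.H51.dense_codim_zero Y.property).mono ?_
    intro y hy
    obtain ⟨i, rfl⟩ := hyy_surj y hy
    exact Set.mem_iUnion.2 ⟨i, hyb i⟩
  let Y'obj : AlgSp.Sp S := Groth.Agent.H51.openSubSp Y.obj Wy
  let jY : Y'obj ⟶ Y.obj := Groth.Agent.H51.openSubι Y.obj Wy
  have hY' : AlgSp.IsAlgSpace Y'obj := Groth.Agent.H51.isAlgSpace_openSubSp Y.property _ hWy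
  have hjY : AlgSp.RepWith @IsOpenImmersion jY :=
    Groth.Agent.H51.repWith_isOpenImmersion_openSubι _ hWy
  have hjYr : Set.range (AlgSp.Points.map jY) = Wy := Groth.Agent.H51.range_map_openSubι _
  have hjYmono : Mono jY :=
    Groth.Agent.H49.mono_of_repWith_mono Groth.Agent.H51.isOpenImmersion_le_mono jY hjY
  let X'obj : AlgSp.Sp S := pullback jY f.hom
  let fst' : X'obj ⟶ Y'obj := pullback.fst jY f.hom
  let snd' : X'obj ⟶ X.obj := pullback.snd jY f.hom
  have sqX' : IsPullback fst' snd' jY f.hom := IsPullback.of_hasPullback jY f.hom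
  have hX' : AlgSp.IsAlgSpace X'obj :=
    Groth.Agent.H49.isAlgSpace_of_isPullback sqX'.flip Y.property.diag X.property hY'
  -- step 4: the charts of the open subspace
  have hfac : ∀ i : ι, ∃ b' : (AlgSp.yon S).obj (T i) ⟶ Y'obj, b' ≫ jY = b i := fun i =>
    Groth.Agent.H50.exists_factor_of_isOpenImmersion jY hjY (b i) (by
      rw [Groth.Agent.H51.range_map_eq_range_ofPt, hjYr]
      exact Set.subset_iUnion (fun i : ι => Set.range (AlgSp.Points.ofPt (b i))) i)
  choose b' hb' using hfac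
  have hb'e : ∀ i, AlgSp.RepWith @Etale (b' i) := fun i =>
    Groth.Agent.H51.repWith_of_comp_mono (b' i) jY (by rw [hb' i]; exact hbe i)
  have hTsp : ∀ i, AlgSp.IsAlgSpace ((AlgSp.yon S).obj (T i)) := fun i =>
    AlgSp.IsAlgSpace.yon_obj (T i)
  have hcov : AlgSp.IsFpqcCover (fun i : ι => (AlgSp.yon S).obj (T i)) b' := by
    refine ⟨fun i => Groth.Agent.H50.goodClass_flat.locP_of_repWith_etale (b' i) (hb'e i),
      Groth.Agent.H52.fpqcRefine_of_isFppfCover hY' _ hTsp _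
        ⟨fun i => ⟨Groth.Agent.H50.goodClass_flat.locP_of_repWith_etale (b' i) (hb'e i),
          Groth.Agent.H50.goodClass_lfp.locP_of_repWith_etale (b' i) (hb'e i)⟩, fun x => ?_⟩⟩
    have hx : AlgSp.Points.map jY x ∈ Wy := hjYr ▸ ⟨x, rfl⟩
    obtain ⟨i, u, hu⟩ := Set.mem_iUnion.1 hx
    refine ⟨i, AlgSp.Points.ofScheme (T i) u, ?_⟩
    rw [← AlgSp.Points.ofPt_eq_map_ofScheme]
    refine Groth.Agent.H51.injective_map_of_mono jY ?_
    rw [AlgSp.Points.map_ofPt, hb' i]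
    exact hu
  -- step 5: descent
  let X₁ : ι → AlgSp.Sp S := fun i => pullback fst' (b' i)
  let q : ∀ i, X₁ i ⟶ X'obj := fun i => pullback.fst fst' (b' i)
  let p : ∀ i, X₁ i ⟶ (AlgSp.yon S).obj (T i) := fun i => pullback.snd fst' (b' i)
  have sqA : ∀ i, IsPullback (q i) (p i) fst' (b' i) := fun i =>
    IsPullback.of_hasPullback fst' (b' i)
  have hX₁ : ∀ i, AlgSp.IsAlgSpace (X₁ i) := fun i =>
    Groth.Agent.H49.isAlgSpace_of_isPullback (sqA i) hY'.diag hX' (hTsp i)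
  have hpfin : ∀ i, AlgSp.IsFiniteMor (p i) := by
    intro i
    have sqAB : IsPullback (q i ≫ snd') (p i) f.hom (b' i ≫ jY) := (sqA i).paste_horiz sqX'.flip
    rw [hb' i] at sqAB
    exact Hfin i (X₁ i) (q i ≫ snd') (p i) sqAB
  have hfin : AlgSp.IsFiniteMor fst' :=
    ((Groth.Agent.S10540.result S) (fun i : ι => (AlgSp.yon S).obj (T i)) b' hY' hTsp hcov fst' hX'
      X₁ p q hX₁ sqA).2 hpfin
  refine ⟨⟨Y'obj, hY'⟩, ⟨X'obj, hX'⟩, ObjectProperty.homMk jY, ObjectProperty.homMk fst',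
    ObjectProperty.homMk snd', hjY, ?_, sqX', hfin⟩
  change Dense (Set.range (AlgSp.Points.map jY))
  rw [hjYr]
  exact hdense

end Groth.Agent.S10400
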