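import Groth.Statements.S10405
import Groth.Agent.H52.PunctTop
import Groth.Agent.H52.PunctAlg
import Groth.Agent.H52.JacobsonSp
import Groth.Agent.H52.SoberSp2
import Groth.Agent.H52.Special
import Groth.Agent.H52.Chart

set_option autoImplicit false
universe u
open CategoryTheory CategoryTheory.Limits AlgebraicGeometry Topology TopologicalSpace
open AlgSp

namespace Groth.Agent.S10405

/-- Let S be a scheme, X an algebraic space over S which is decent and locally Noetherian, and x ∈ |X|.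
Then the set W of proper generizations of x (points x' ≠ x with x' ⤳ x), with the topology induced
from |X|, is a topological space which is Noetherian, spectral, sober and Jacobson. -/
theorem result {S : Scheme.{u}} (X : AlgSp.Space S)
    (hd : AlgSp.IsDecent X.obj) (hN : AlgSp.IsLocNoethSp X.obj) (x : AlgSp.Points X.obj) :
    NoetherianSpace {x' : AlgSp.Points X.obj // x' ⤳ x ∧ x' ≠ x} ∧
      SpectralSpace {x' : AlgSp.Points X.obj // x' ⤳ x ∧ x' ≠ x} ∧
      QuasiSober {x' : AlgSp.Points X.obj // x' ⤳ x ∧ x' ≠ x} ∧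
      JacobsonSpace {x' : AlgSp.Points X.obj // x' ⤳ x ∧ x' ≠ x} := by
  classical
  open Groth.Agent.H52 in
  obtain ⟨U₀, p₀, hp₀e, hp₀s, hU₀N⟩ := hN
  have hU₀N' : IsLocallyNoetherian U₀.left := hU₀N
  obtain ⟨u₀, hu₀⟩ := ofPt_surjective_of_repWith_surjective p₀ hp₀s x
  obtain ⟨V, hV, hu₀V, -⟩ :=
    exists_isAffineOpen_mem_and_subset (X := U₀.left) (x := u₀) (U := ⊤) trivial
  have hVaff : IsAffine V.toScheme := hV
  have hVN : IsLocallyNoetherian V.toScheme := inferInstance
  have hVN' : IsNoetherian V.toScheme := { }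
  have hT0 : T0Space (AlgSp.Points X.obj) := t0Space_points_of_isDecent hd p₀ hp₀e hp₀s
  have hQS : QuasiSober (AlgSp.Points X.obj) := SoberSp.quasiSober_points_of_isDecent X hd
  let a : (AlgSp.yon S).obj (Over.mk (V.ι ≫ U₀.hom)) ⟶ X.obj := (AlgSp.yon S).map (openIncl U₀ V) ≫ p₀
  have ha : AlgSp.RepWith @Etale a := repWith_etale_restrict p₀ hp₀e V
  have hNS : NoetherianSpace ↥(Over.mk (V.ι ≫ U₀.hom)).left :=
    inferInstanceAs (NoetherianSpace ↥V.toScheme)
  have hLN : IsLocallyNoetherian (Over.mk (V.ι ≫ U₀.hom)).left := hVN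
  have hau : AlgSp.Points.ofPt a (⟨u₀, hu₀V⟩ : ↥V.toScheme) = x := by
    change AlgSp.Points.ofPt ((AlgSp.yon S).map (openIncl U₀ V) ≫ p₀) _ = x
    rw [ofPt_yon_map_comp]
    exact hu₀
  have h1 : NoetherianSpace {x' : AlgSp.Points X.obj // x' ⤳ x ∧ x' ≠ x} :=
    Punct.noetherianSpace_pg (AlgSp.Points.ofPt a) (AlgSp.Points.continuous_ofPt a)
      (isOpenMap_ofPt_of_repWith_etale a ha).isOpen_range x ⟨_, hau⟩
  have h2 : QuasiSober {x' : AlgSp.Points X.obj // x' ⤳ x ∧ x' ≠ x} := Punct.quasiSober_pg x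
  refine ⟨h1, Punct.spectralSpace_of_noetherianSpace, h2, ?_⟩
  exact Punct.jacobsonSpace_pg (AlgSp.Points.ofPt a) (AlgSp.Points.continuous_ofPt a)
    (generalizingMap_ofPt_of_isDecent hd a ha) (isDiscrete_fibre_of_isDecent hd a ha) x _ hau
    (fun u₁ u₂ h12 h2 hne12 hne2 V' hV' hu₁ =>
      Punct.exists_between u₁ u₂ _ h12 h2 hne12 hne2 V' hV' hu₁)

end Groth.Agent.S10405
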