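import Groth.Statements.S10409
import Groth.Agent.H52.EqvRelGeom

set_option autoImplicit false
universe u
open CategoryTheory CategoryTheory.Limits AlgebraicGeometry Topology TopologicalSpace
open AlgSp

namespace Groth.Agent.S10409

/-- (3) ⇔ (4): for an algebraic space X over a scheme S and x ∈ |X|, there is a monomorphism Spec k ⟶ X
representing x if and only if there is a morphism Spec k' ⟶ X representing x whose
self-fibre-product has etale and quasi-compact projections to Spec k'. -/
theorem result {S : Scheme.{u}} (X : AlgSp.Space S)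
    (x : AlgSp.Points X.obj) :
    (∃ p : AlgSp.FieldPt X.obj, AlgSp.Points.mk p = x ∧ Mono p.toHom) ↔
      ∃ q : AlgSp.FieldPt X.obj, AlgSp.Points.mk q = x ∧
        ∀ (P : AlgSp.Sp S) (fst snd : P ⟶ (AlgSp.yon S).obj q.pt), IsPullback fst snd q.toHom q.toHom →
          AlgSp.RepWith @Etale fst ∧ AlgSp.RepWith @QuasiCompact fst := by
  constructor
  · rintro ⟨p, hp, hm⟩
    refine ⟨p, hp, fun P fst snd hP => ?_⟩
    have hk : IsKernelPair p.toHom fst snd := hP
    have : IsIso fst := hk.isIso_of_mono
    exact ⟨MorphismProperty.of_isIso _ fst, MorphismProperty.of_isIso _ fst⟩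
  · rintro ⟨q, hq, h⟩
    have hrep : AlgSp.Representable q.toHom := X.property.representable_from_yon _
    obtain ⟨pr₁, hpr₁⟩ := (AlgSp.yon S).map_surjective (hrep.fst q.toHom)
    have sq := hrep.isPullback q.toHom
    rw [← hpr₁] at sq
    obtain ⟨h1, h2⟩ := h _ _ _ sq
    have het : Etale pr₁.left := (AlgSp.repWith_yon_map_iff @Etale pr₁).1 h1
    have hqc : QuasiCompact pr₁.left := (AlgSp.repWith_yon_map_iff @QuasiCompact pr₁).1 h2
    have hlqf : LocallyQuasiFinite pr₁.left := Groth.Agent.H52.etale_locallyQuasiFinite pr₁.left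
    have hart : IsLocallyArtinian q.pt.left :=
      Scheme.isLocallyArtinianScheme_Spec.2 (inferInstanceAs (IsArtinianRing q.K))
    have hfin : IsFinite pr₁.left := IsFinite.of_locallyQuasiFinite pr₁.left
    obtain ⟨p, c, -, hm, -, hpq⟩ := Groth.Agent.H52.exists_mono_point_of_finite q pr₁ _ sq
    exact ⟨p, hpq.trans hq, hm⟩

end Groth.Agent.S10409
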