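import Groth.Statements.S10410
import Groth.Agent.H52.ChartFinite
import Groth.Agent.S10408

set_option autoImplicit false
universe u
open CategoryTheory CategoryTheory.Limits AlgebraicGeometry Topology TopologicalSpace
open AlgSp

namespace Groth.Agent.S10410

/-- Let X be an algebraic space over a scheme S, x ∈ |X|, and φ : U ⟶ X etale with U a scheme. Then x
lies in the image of |U| and the fibres of |U| → |X| and |U ×_X U| → |X| over x are finite, if and
only if x is represented by a monomorphism Spec k ⟶ X such that Spec k ×_X U is a nonempty scheme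
finite over k. -/
theorem result {S : Scheme.{u}} (X : AlgSp.Space S) (x : AlgSp.Points X.obj)
    {U : Over S} (φ : (AlgSp.yon S).obj U ⟶ X.obj) (hφ : AlgSp.RepWith @Etale φ) :
    (x ∈ Set.range (AlgSp.Points.ofPt φ) ∧ (AlgSp.Points.ofPt φ ⁻¹' {x}).Finite ∧
        ∀ (R : Over S) (s t : R ⟶ U), IsPullback ((AlgSp.yon S).map t) ((AlgSp.yon S).map s) φ φ →
          (AlgSp.Points.ofPt ((AlgSp.yon S).map t ≫ φ) ⁻¹' {x}).Finite) ↔
      ∃ p : AlgSp.FieldPt X.obj, AlgSp.Points.mk p = x ∧ Mono p.toHom ∧
        ∀ (T : Over S) (c : T ⟶ p.pt) (snd : (AlgSp.yon S).obj T ⟶ (AlgSp.yon S).obj U),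
          IsPullback ((AlgSp.yon S).map c) snd p.toHom φ → Nonempty ↥T.left ∧ IsFinite c.left := by
  have hX : AlgSp.IsAlgSpace X.obj := X.property
  constructor
  · rintro ⟨⟨u, rfl⟩, hF, H⟩
    have hrep := hX.representable_from_yon φ
    obtain ⟨t, ht⟩ := (AlgSp.yon S).map_surjective (hrep.fst φ)
    have hR := hrep.isPullback φ
    rw [← ht] at hR
    have h2 := H _ _ _ hR
    have hfin : {r : ↥(hrep.pullback φ).left | t.left r = u ∧ (hrep.snd φ).left r = u}.Finite := by
      refine h2.subset ?_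
      rintro r ⟨hr1, -⟩
      change AlgSp.Points.ofPt _ r = _
      rw [Groth.Agent.H52.ofPt_yon_map_comp, hr1]
    obtain ⟨p, c₀, -, hm, -, hp⟩ := Groth.Agent.H52.exists_mono_point_of_chart hX φ hφ u _ t hR hfin
    refine ⟨p, hp, hm, ?_⟩
    intro T c snd sq
    obtain ⟨b, rfl⟩ := (AlgSp.yon S).map_surjective snd
    -- nonemptiness
    have hne : Nonempty ↥T.left := by
      have e : AlgSp.Points.ofPt p.toHom (IsLocalRing.closedPoint p.K) = AlgSp.Points.ofPt φ u := by
        rw [AlgSp.Points.ofPt_toHom]; exact hp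
      obtain ⟨v, -, -⟩ := (Groth.Agent.H52.ofPt_eq_iff_of_isPullback sq _ _).1 e
      exact ⟨v⟩
    refine ⟨hne, ?_⟩
    -- finiteness
    have hmono : Mono ((AlgSp.yon S).map b) :=
      (MorphismProperty.monomorphisms _).of_isPullback sq hm
    have hmono' : Mono b := (AlgSp.yon S).mono_of_mono_map hmono
    have hmonol : Mono b.left := inferInstance
    have hinj : Function.Injective b.left := b.left.injective
    have hfinT : Finite ↥T.left := by
      have hsub : ∀ v : ↥T.left, b.left v ∈ AlgSp.Points.ofPt φ ⁻¹' {AlgSp.Points.ofPt φ u} := by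
        intro v
        have : AlgSp.Points.ofPt p.toHom (c.left v) = AlgSp.Points.ofPt φ (b.left v) :=
          (Groth.Agent.H52.ofPt_eq_iff_of_isPullback sq _ _).2 ⟨v, rfl, rfl⟩
        change AlgSp.Points.ofPt φ (b.left v) = _
        rw [← this, AlgSp.Points.ofPt_toHom]; exact hp
      have : Finite (AlgSp.Points.ofPt φ ⁻¹' {AlgSp.Points.ofPt φ u}) := hF.to_subtype
      exact Finite.of_injective (fun v => (⟨b.left v, hsub v⟩ :
        (AlgSp.Points.ofPt φ ⁻¹' {AlgSp.Points.ofPt φ u}))) (fun v v' h => hinj (congrArg Subtype.val h))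
    have het : Etale c.left := hφ.property _ _ _ sq.flip
    have hlqf : LocallyQuasiFinite c.left := Groth.Agent.H52.etale_locallyQuasiFinite c.left
    exact Groth.Agent.H52.isFinite_of_lqf_of_finite c.left
  · rintro ⟨p, hp, hm, H⟩
    subst hp
    obtain ⟨Z, a, b, hpb, hrange⟩ := Groth.Agent.H52.exists_fibre_scheme p φ hφ.rep
    obtain ⟨⟨z⟩, hfinb⟩ := H Z b _ hpb.flip
    have hlqf : LocallyQuasiFinite b.left := inferInstance
    have hqc : QuasiCompact b.left := inferInstance
    have hfinZ : Finite ↥Z.left := by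
      have h1 := b.left.finite_preimage_singleton (IsLocalRing.closedPoint p.K)
      have h2 : b.left ⁻¹' {IsLocalRing.closedPoint p.K} = Set.univ := by
        ext v
        simp only [Set.mem_preimage, Set.mem_univ, iff_true]
        exact Subsingleton.elim (α := PrimeSpectrum p.K) _ _
      exact Set.finite_univ_iff.1 (h2 ▸ h1)
    have hF : (AlgSp.Points.ofPt φ ⁻¹' {AlgSp.Points.mk p}).Finite := by
      rw [← hrange]; exact Set.finite_range _
    refine ⟨⟨a.left z, ?_⟩, hF, ?_⟩
    · have : a.left z ∈ Set.range a.left := ⟨z, rfl⟩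
      rw [hrange] at this
      exact this
    · intro R s t hR
      have hfin2 : (⋃ u ∈ AlgSp.Points.ofPt φ ⁻¹' {AlgSp.Points.mk p},
          ⋃ u' ∈ AlgSp.Points.ofPt φ ⁻¹' {AlgSp.Points.mk p},
            {r : ↥R.left | s.left r = u ∧ t.left r = u'}).Finite := by
        refine hF.biUnion fun u hu => hF.biUnion fun u' hu' => ?_
        exact Groth.Agent.S10408.result X _ ⟨p, rfl, hm⟩ φ hφ u u' hu hu' R s t hR
      refine hfin2.subset ?_
      intro r hr
      have hr' : AlgSp.Points.ofPt ((AlgSp.yon S).map t ≫ φ) r = AlgSp.Points.mk p := hr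
      have h1 : AlgSp.Points.ofPt φ (t.left r) = AlgSp.Points.mk p := by
        rw [← Groth.Agent.H52.ofPt_yon_map_comp]; exact hr'
      have h2 : AlgSp.Points.ofPt φ (s.left r) = AlgSp.Points.mk p := by
        rw [← Groth.Agent.H52.ofPt_yon_map_comp, ← hR.w]; exact hr'
      simp only [Set.mem_iUnion]
      exact ⟨s.left r, h2, t.left r, h1, rfl, rfl⟩

end Groth.Agent.S10410
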