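import Groth.Statements.S10411
import Groth.Agent.H52.FinLocFreeSchematic

set_option autoImplicit false
universe u
open CategoryTheory CategoryTheory.Limits AlgebraicGeometry Topology TopologicalSpace
open AlgSp

namespace Groth.Agent.S10411

/-- Let S be a scheme, X and Y algebraic spaces over S, X ⟶ Y a surjective finite locally free morphism,
and y ∈ |Y|. Then y lies in the schematic locus of Y (some open subspace of Y containing y is a
scheme) if and only if there is an affine open subscheme U ⊆ X containing the preimage of y. -/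
theorem result {S : Scheme.{u}} {X Y : AlgSp.Space S} (f : X ⟶ Y)
    (hf : AlgSp.IsFinLocFreeMor f.hom) (hs : AlgSp.RepWith @Surjective f.hom) (y : AlgSp.Points Y.obj) :
    (∃ (Y' : AlgSp.Space S) (j : Y' ⟶ Y), AlgSp.RepWith @IsOpenImmersion j.hom ∧ Y'.obj.obj.IsRepresentable ∧
        y ∈ Set.range (AlgSp.Points.map j.hom)) ↔
      ∃ (U : Over S) (a : (AlgSp.yon S).obj U ⟶ X.obj), IsAffine U.left ∧ AlgSp.RepWith @IsOpenImmersion a ∧
        AlgSp.Points.map f.hom ⁻¹' {y} ⊆ Set.range (AlgSp.Points.ofPt a) := by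
  constructor
  · rintro ⟨Y', j, hj, hrep, y', hy'⟩
    obtain ⟨G, ⟨e⟩⟩ := Groth.Agent.H51.exists_iso_of_isRepresentable hrep
    have hjG : AlgSp.RepWith @IsOpenImmersion (e.hom ≫ j.hom) :=
      (AlgSp.RepWith @IsOpenImmersion).comp_mem _ _
        ((AlgSp.RepWith @IsOpenImmersion).of_isIso e.hom) hj
    refine Groth.Agent.H52.FinLocFreeQuot.exists_affine_open_of_schematic f.hom hf y
      (e.hom ≫ j.hom) hjG (AlgSp.Points.toScheme G (AlgSp.Points.map e.inv y')) ?_
    rw [AlgSp.Points.ofPt_eq_map_ofScheme, AlgSp.Points.ofScheme_toScheme,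
      ← AlgSp.Points.map_comp, Iso.inv_hom_id_assoc, hy']
  · rintro ⟨U, a, hU, ha, hfib⟩
    obtain ⟨W, hW, M, ⟨e⟩, hyW⟩ :=
      Groth.Agent.H52.FinLocFreeQuot.exists_open_subscheme_of_fibre_affine Y.property f.hom hf hs y
        hU a ha hfib
    refine ⟨⟨Groth.Agent.H51.openSubSp Y.obj W,
        Groth.Agent.H51.isAlgSpace_openSubSp Y.property _ hW⟩,
      ObjectProperty.homMk (Groth.Agent.H51.openSubι Y.obj W),
      Groth.Agent.H51.repWith_isOpenImmersion_openSubι _ hW,
      Groth.Agent.H51.isRepresentable_of_iso e, ?_⟩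
    change y ∈ Set.range (AlgSp.Points.map (Groth.Agent.H51.openSubι Y.obj W))
    rw [Groth.Agent.H51.range_map_openSubι W]; exact hyW

end Groth.Agent.S10411
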