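import Groth.Statements.S10416
import Groth.Agent.H52.ResidualFactor
import Groth.Agent.H50.RedInduced
import Groth.Agent.H50.SchImageRed
import Groth.Agent.H49.AlgSpBasic

set_option autoImplicit false
universe u
open CategoryTheory CategoryTheory.Limits AlgebraicGeometry Topology TopologicalSpace
open AlgSp

namespace Groth.Agent.S10416

/-- Let S be a scheme, X a locally Noetherian algebraic space over S, x ∈ |X|, and i : Z_x ⟶ X the
residual space at x. Then x is closed in |X| if and only if i is a closed immersion. -/
theorem result {S : Scheme.{u}} {X Z : AlgSp.Space S}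
    (hX : AlgSp.IsLocNoethSp X.obj) (x : AlgSp.Points X.obj) (i : Z ⟶ X) [Mono i.hom]
    (hi : Set.range (AlgSp.Points.map i.hom) = {x}) (hZ : ∃ (k : Type u) (_ : Field k) (str : Spec (CommRingCat.of k) ⟶ S) (p : (AlgSp.yon S).obj (Over.mk str) ⟶ Z.obj),
        AlgSp.LocP @LocallyOfFinitePresentation p ∧ AlgSp.LocP @Flat p ∧ AlgSp.IsSurjectiveMor p) :
    IsClosed ({x} : Set (AlgSp.Points X.obj)) ↔ AlgSp.RepWith @IsClosedImmersion i.hom := by
  obtain ⟨k, hk, str, p, h1, h2, h3⟩ := hZ
  constructor
  · intro hcl
    obtain ⟨Z', i', hZ', hci, hr, hred⟩ :=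
      Groth.Agent.H50.exists_isRedInduced X.property ({x} : Set (AlgSp.Points X.obj)) hcl
    have hx : x ∈ Set.range (AlgSp.Points.map i.hom) := by rw [hi]; rfl
    have hmi' : Mono i' := Groth.Agent.H49.mono_of_repWith_mono
      (P := @IsClosedImmersion) (fun _ _ f (hf : IsClosedImmersion f) =>
        (inferInstance : Mono f)) i' hci
    obtain ⟨g, hg⟩ := Groth.Agent.H52.ResidualFactor.exists_factor_of_reduced X.property
      Z.property hX i.hom x hx i' hred (fun y => by
        have : AlgSp.Points.map i' y ∈ Set.range (AlgSp.Points.map i') := ⟨y, rfl⟩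
        rw [hr] at this
        exact this)
    have hmg : Mono g := mono_of_mono_fac hg
    rcases Groth.Agent.H52.isEmpty_or_isIso_of_mono_of_field_cover hZ' Z.property g str p h1 h2 h3
      with he | hiso
    · exfalso
      have : x ∈ Set.range (AlgSp.Points.map i') := by rw [hr]; rfl
      obtain ⟨y, -⟩ := this
      exact he.false y
    · have : i.hom = inv g ≫ i' := by rw [← hg, IsIso.inv_hom_id_assoc]
      rw [this]
      exact MorphismProperty.RespectsIso.precomp _ (inv g) i' hci
  · intro hci
    have := Groth.Agent.H50.isClosed_range_map_of_isClosedImmersion X.property i.hom hci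
    rwa [hi] at this

end Groth.Agent.S10416
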