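import Groth.Statements.S10418
import Groth.Agent.H52.FiltD
import Groth.Agent.H51.SpCover

set_option autoImplicit false
universe u
open CategoryTheory CategoryTheory.Limits AlgebraicGeometry Topology TopologicalSpace
open AlgSp

namespace Groth.Agent.S10418

/-- Let S be a scheme and X an algebraic space over S which is quasi-compact. There are open subspaces X
= U_1 ⊇ U_2 ⊇ U_3 ⊇ ⋯ such that (1) with T_p = U_p ∖ U_{p+1} (reduced induced subspace structure)
there is a separated scheme V_p with a surjective etale f_p : V_p ⟶ U_p for which the map f_p⁻¹(T_p)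
⟶ T_p is an isomorphism, and (2) every x ∈ |X| admitting a representative given by a quasi-compact
morphism from the spectrum of a field lies in T_p for some p. -/
theorem result {S : Scheme.{u}} (X : AlgSp.Space S)
    (hX : AlgSp.IsQuasiCompactSp X.obj) :
    ∃ (Uo : ℕ → AlgSp.Space S) (j : ∀ p, Uo p ⟶ X) (k : ∀ p, Uo (p + 1) ⟶ Uo p)
      (T : ℕ → AlgSp.Space S) (i : ∀ p, T p ⟶ Uo p),
      (∀ p, AlgSp.RepWith @IsOpenImmersion (j p).hom) ∧ (∀ p, k p ≫ j p = j (p + 1)) ∧ IsIso (j 1) ∧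
      (∀ p, AlgSp.IsRedInduced (Set.range (AlgSp.Points.map (k p).hom))ᶜ (i p).hom) ∧
      (∀ p, 1 ≤ p → ∃ (V : Over S) (f : (AlgSp.yon S).obj V ⟶ (Uo p).obj), V.left.IsSeparated ∧
        AlgSp.RepWith @Etale f ∧ AlgSp.RepWith @Surjective f ∧
        ∀ (P : AlgSp.Sp S) (fst : P ⟶ (T p).obj) (snd : P ⟶ (AlgSp.yon S).obj V),
          IsPullback fst snd (i p).hom f → IsIso fst) ∧
      (∀ x : AlgSp.Points X.obj, (∃ q : AlgSp.FieldPt X.obj, AlgSp.Points.mk q = x ∧ AlgSp.RepWith @QuasiCompact q.toHom) →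
        ∃ p, 1 ≤ p ∧ x ∈ Set.range (AlgSp.Points.map ((i p) ≫ (j p)).hom)) := by
  classical
  obtain ⟨U, e, hUaff, he, hes⟩ :=
    (Groth.Agent.H51.isQuasiCompactSp_iff_exists_affine_atlas).1 hX
  have := hUaff
  obtain ⟨R, t, s, sq⟩ := Groth.Agent.H53.exists_pullback_yon e e he.rep
  obtain ⟨Uo, j, k, T, i, hUo, hT, hj, hk, hiso, hjr, hi, hir, hV⟩ :=
    Groth.Agent.H52.Filt.exists_filtration X.property e he hes t s sq
  refine ⟨fun p => ⟨Uo p, hUo p⟩, fun p => ObjectProperty.homMk (j p),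
    fun p => ObjectProperty.homMk (k p), fun p => ⟨T p, hT p⟩,
    fun p => ObjectProperty.homMk (i p), hj, fun p => ObjectProperty.hom_ext _ (hk p), ?_, hi,
    ?_, ?_⟩
  · have h1 : IsIso ((ObjectProperty.ι _).map
        (ObjectProperty.homMk (j 1) : (⟨Uo 1, hUo 1⟩ : AlgSp.Space S) ⟶ X)) := hiso
    exact isIso_of_reflects_iso _ (ObjectProperty.ι _)
  · intro p hp
    obtain ⟨n, rfl⟩ : ∃ n, p = n + 1 := ⟨p - 1, by omega⟩
    obtain ⟨W, ρ, M, m, b, hW, hmet, hmsurj, hmfin, hbe, hb, hmrel⟩ :=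
      Groth.Agent.H52.SymQuot.exists_symQuot X.property e he n
    obtain ⟨f, -, hMsep, hfe, hfs, hP⟩ := hV n W ρ M m b hW hmsurj hmfin hbe hb hmrel
    exact ⟨M, f, hMsep, hfe, hfs, hP⟩
  · rintro x ⟨q, rfl, hq⟩
    obtain ⟨u₀, hu₀⟩ := Groth.Agent.H52.ofPt_surjective_of_repWith_surjective e hes (AlgSp.Points.mk q)
    have : CompactSpace ↥U.left := inferInstance
    obtain ⟨N, hN⟩ := Groth.Agent.H52.Filt.exists_notMem_strat_of_qc_point e he s t sq u₀ q
      hu₀.symm hq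
    have hex : ∃ d, u₀ ∉ Groth.Agent.H52.EtDeg.Strat s.left d := ⟨N + 1, hN⟩
    obtain ⟨d, hd, hmin⟩ : ∃ d, u₀ ∉ Groth.Agent.H52.EtDeg.Strat s.left d ∧
        ∀ d' < d, u₀ ∈ Groth.Agent.H52.EtDeg.Strat s.left d' :=
      ⟨Nat.find hex, Nat.find_spec hex, fun d' h => by_contra fun hc => Nat.find_min hex h hc⟩
    rcases d with _ | _ | n
    · exact (hd (by rw [Groth.Agent.H52.EtDeg.strat_zero]; trivial)).elim
    · exact (hd (Groth.Agent.H52.SymQuot.mem_strat_one sq u₀)).elim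
    have hmem : u₀ ∈ Groth.Agent.H52.EtDeg.Strat s.left (n + 1) := hmin (n + 1) (by omega)
    refine ⟨n + 1, by omega, ?_⟩
    change AlgSp.Points.mk q ∈ Set.range (AlgSp.Points.map (i (n + 1) ≫ j (n + 1)))
    rw [hir]
    refine ⟨⟨u₀, hmem, hu₀⟩, fun hc => hd ?_⟩
    rw [← hu₀] at hc
    exact (Groth.Agent.H52.Filt.ofPt_mem_degSet_iff sq he _ u₀).1 hc

end Groth.Agent.S10418
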