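import Groth.Statements.S10422
import Groth.Agent.H52.TensorDiag

set_option autoImplicit false
universe u
open Topology TopologicalSpace TensorProduct
open AlgSp

namespace Groth.Agent.S10422

/-- Let A be a ring, k a field, (p_n) a sequence of primes of A which are pairwise distinct, and k →
κ(p_n) field embeddings. Then the closure in Spec(A ⊗ A) of the image of ∐_{n ≠ m} Spec(κ(p_n) ⊗_k
κ(p_m)) meets the diagonal. Here κ(p_n) is any A-algebra K_n which is a field whose structure map
has kernel p_n and whose elements are quotients of images of elements of A. -/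
theorem result (A : Type u) [CommRing A] (k : Type u) [Field k]
    (p : ℕ → PrimeSpectrum A) (hp : Function.Injective p) (K : ℕ → Type u) [∀ n, Field (K n)]
    [∀ n, Algebra A (K n)] [∀ n, Algebra k (K n)]
    (hker : ∀ n, RingHom.ker (algebraMap A (K n)) = (p n).asIdeal)
    (hfrac : ∀ n (x : K n), ∃ a b : A, algebraMap A (K n) b ≠ 0 ∧ x * algebraMap A (K n) b = algebraMap A (K n) a) :
    (closure (⋃ (n : ℕ) (m : ℕ) (_ : n ≠ m),
        Set.range (PrimeSpectrum.comap
          (Algebra.TensorProduct.lift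
            ((Algebra.TensorProduct.includeLeft (R := k) (S := ℤ) (A := K n) (B := K m)).toRingHom.toIntAlgHom.comp
              (Algebra.ofId A (K n)).toRingHom.toIntAlgHom)
            ((Algebra.TensorProduct.includeRight (R := k) (A := K n) (B := K m)).toRingHom.toIntAlgHom.comp
              (Algebra.ofId A (K m)).toRingHom.toIntAlgHom)
            (fun _ _ => Commute.all _ _)).toRingHom)) ∩
      Set.range (PrimeSpectrum.comap (Algebra.TensorProduct.lmul' (S := A) ℤ).toRingHom)).Nonempty := by
  classical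
  set T : Set (PrimeSpectrum (A ⊗[ℤ] A)) := ⋃ (n : ℕ) (m : ℕ) (_ : n ≠ m),
        Set.range (PrimeSpectrum.comap (Groth.Agent.H52.TensorDiag.psi A k K n m)) with hT
  set mult : A ⊗[ℤ] A →+* A := (Algebra.TensorProduct.lmul' (S := A) ℤ).toRingHom with hmult
  have hsurj : Function.Surjective mult := fun a => ⟨a ⊗ₜ 1, by simp [hmult]⟩
  have hJ : (PrimeSpectrum.vanishingIdeal T).map mult ≠ ⊤ := by
    intro h
    have h1 : (1 : A) ∈ (PrimeSpectrum.vanishingIdeal T).map mult := by rw [h]; trivial
    obtain ⟨f, hfI, hf1⟩ := (Ideal.mem_map_iff_of_surjective mult hsurj).1 h1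
    refine Groth.Agent.H52.TensorDiag.lmul_ne_one A k K f (fun n m hnm P => ?_) hf1
    rw [PrimeSpectrum.mem_vanishingIdeal] at hfI
    have := hfI (PrimeSpectrum.comap (Groth.Agent.H52.TensorDiag.psi A k K n m) P)
      (Set.mem_iUnion.2 ⟨n, Set.mem_iUnion.2 ⟨m, Set.mem_iUnion.2 ⟨hnm, P, rfl⟩⟩⟩)
    exact this
  obtain ⟨M, hM, hJM⟩ := Ideal.exists_le_maximal _ hJ
  refine ⟨PrimeSpectrum.comap mult ⟨M, hM.isPrime⟩, ?_, ⟨_, rfl⟩⟩
  rw [← PrimeSpectrum.zeroLocus_vanishingIdeal_eq_closure, PrimeSpectrum.mem_zeroLocus]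
  intro g hg
  exact hJM (Ideal.mem_map_of_mem mult hg)

end Groth.Agent.S10422
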