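import Groth.Statements.S10430
import Groth.Agent.H52.QCPoint
import Groth.Agent.S10360

set_option autoImplicit false
universe u
open CategoryTheory CategoryTheory.Limits AlgebraicGeometry Topology TopologicalSpace
open AlgSp

namespace Groth.Agent.S10430

/-- If every etale morphism U ⟶ X from an affine scheme to the algebraic space X has universally bounded
fibres, then X is decent. -/
theorem result {S : Scheme.{u}} (X : AlgSp.Space S)
    (h : ∀ (U : Over S) (φ : (AlgSp.yon S).obj U ⟶ X.obj), IsAffine U.left → AlgSp.RepWith @Etale φ → W4dec.HasUnivBddFibres φ) :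
    AlgSp.IsDecent X.obj := by
  have hXs : AlgSp.IsAlgSpace X.obj := X.property
  intro x
  refine (Groth.Agent.S10360.result X x).1 ?_
  intro U φ haff hφ R s t hR
  induction x using AlgSp.Points.ind with
  | h q =>
  obtain ⟨n, hn⟩ := h U φ haff hφ
  have hfin : ∀ (Z : Over S) (a : Z ⟶ U) (b : Z ⟶ q.pt),
      IsPullback ((AlgSp.yon S).map a) ((AlgSp.yon S).map b) φ q.toHom → IsFinite b.left :=
    fun Z a b hpb => (hn q Z b _ hpb.flip).1
  refine ⟨Groth.Agent.H52.finite_fibre_of_isFinite_fibre q φ hφ.rep hfin, ?_⟩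
  obtain ⟨Z, a, b, hpb, -⟩ := Groth.Agent.H52.exists_fibre_scheme q φ hφ.rep
  exact Groth.Agent.H52.finite_rel_fibre_of_isFinite_fibre q φ hφ.rep a b hpb (hfin Z a b hpb) s t hR

end Groth.Agent.S10430
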