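import Groth.Statements.S10433
import Groth.Agent.H52.FibDegB
import Groth.Agent.H50.RedInduced

set_option autoImplicit false
universe u
open CategoryTheory CategoryTheory.Limits AlgebraicGeometry Topology TopologicalSpace
open AlgSp

namespace Groth.Agent.S10433

/-- Let S be a scheme, X an algebraic space over S, W a scheme over S, and W ⟶ X a morphism which is
flat, separated, locally of finite presentation and locally quasi-finite, with universally bounded
fibres. Then X has closed subspaces, each reduced, ∅ = Z_{-1} ⊆ Z_0 ⊆ ⋯ ⊆ Z_n with |Z_n| = |X| such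
that, putting X_r = Z_r ∖ Z_{r-1}, for every morphism g : T ⟶ X the second projection W ×_X T ⟶ T is
a finite locally free morphism of degree r exactly when g(|T|) ⊆ |X_r|. (Indexing: Zs 0 = Z_{-1}, Zs
(r+1) = Z_r.) -/
theorem result {S : Scheme.{u}} (X : AlgSp.Space S) {W : Over S}
    (w : (AlgSp.yon S).obj W ⟶ X.obj) (hfl : AlgSp.RepWith @Flat w) (hfp : AlgSp.RepWith @LocallyOfFinitePresentation w)
    (hsep : AlgSp.RepWith @IsSeparated w) (hqf : AlgSp.RepWith @LocallyQuasiFinite w) (hb : W4dec.HasUnivBddFibres w) :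
    ∃ (n : ℕ) (Zs : ℕ → AlgSp.Space S) (i : ∀ r, Zs r ⟶ X),
      (∀ r, AlgSp.IsRedInduced (Set.range (AlgSp.Points.map (i r).hom)) (i r).hom) ∧
      IsEmpty (AlgSp.Points (Zs 0).obj) ∧ Set.range (AlgSp.Points.map (i (n + 1)).hom) = Set.univ ∧
      (∀ r, Set.range (AlgSp.Points.map (i r).hom) ⊆ Set.range (AlgSp.Points.map (i (r + 1)).hom)) ∧
      ∀ (r : ℕ) (T : AlgSp.Space S) (g : T ⟶ X) (P : AlgSp.Sp S) (fst : P ⟶ (AlgSp.yon S).obj W) (snd : P ⟶ T.obj),
        IsPullback fst snd w g.hom →
          (AlgSp.IsFinLocFreeOfDegMor r snd ↔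
            Set.range (AlgSp.Points.map g.hom) ⊆
              Set.range (AlgSp.Points.map (i (r + 1)).hom) \ Set.range (AlgSp.Points.map (i r).hom)) := by
  obtain ⟨n, E, hcl, h0, hn, hmono, hiff⟩ :=
    Groth.Agent.H52.FibDeg.exists_stratification X.property w hfl hfp hsep hqf hb
  choose Z i hZ hi using fun r => Groth.Agent.H50.exists_isRedInduced X.property (E r) (hcl r)
  have hr : ∀ r, Set.range (AlgSp.Points.map (i r)) = E r := fun r => (hi r).2.1
  refine ⟨n, fun r => ⟨Z r, hZ r⟩, fun r => ObjectProperty.homMk (i r), ?_, ?_, ?_, ?_, ?_⟩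
  · intro r
    change AlgSp.IsRedInduced (Set.range (AlgSp.Points.map (i r))) (i r)
    rw [hr]
    exact hi r
  · refine ⟨fun z => ?_⟩
    have h1 : AlgSp.Points.map (i 0) z ∈ E 0 := by
      rw [← hr]; exact ⟨z, rfl⟩
    rw [h0] at h1
    exact h1
  · change Set.range (AlgSp.Points.map (i (n + 1))) = Set.univ
    rw [hr, hn]
  · intro r
    change Set.range (AlgSp.Points.map (i r)) ⊆ Set.range (AlgSp.Points.map (i (r + 1)))
    rw [hr, hr]
    exact hmono r
  · intro r T g P fst snd hP
    change _ ↔ Set.range (AlgSp.Points.map g.hom) ⊆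
      Set.range (AlgSp.Points.map (i (r + 1))) \ Set.range (AlgSp.Points.map (i r))
    rw [hr, hr]
    exact hiff r T.obj g.hom P fst snd hP

end Groth.Agent.S10433
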