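import Groth.Statements.S10434
import Groth.Agent.H52.BiratE
import Groth.Agent.H52.SoberSp2
import Groth.Agent.H52.Special

set_option autoImplicit false
universe u
open CategoryTheory CategoryTheory.Limits AlgebraicGeometry Topology TopologicalSpace
open AlgSp

namespace Groth.Agent.S10434

/-- Take decent algebraic spaces X and Y over a scheme S, each with only finitely many irreducible
components in its space of points, and a birational f : X ⟶ Y. For a generic point y of an
irreducible component of |Y|, seen as a point v of an open subscheme V of Y, the base change of f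
along Spec(O_{V,v}) ⟶ V ⟶ Y has invertible projection onto Spec(O_{V,v}). -/
theorem result {S : Scheme.{u}} {X Y : AlgSp.Space S} (f : X ⟶ Y)
    (hX : AlgSp.IsDecent X.obj) (hY : AlgSp.IsDecent Y.obj)
    (hXf : (irreducibleComponents (AlgSp.Points X.obj)).Finite)
    (hYf : (irreducibleComponents (AlgSp.Points Y.obj)).Finite)
    (hf : W4stk3decentspacesp2.IsBirational f.hom) {V : Over S} (b : (AlgSp.yon S).obj V ⟶ Y.obj)
    (hb : AlgSp.RepWith @IsOpenImmersion b) (v : ↥V.left)
    (hv : AlgSp.Points.ofPt b v ∈ genericPoints (AlgSp.Points Y.obj)) {P : AlgSp.Sp S} (fst : P ⟶ X.obj)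
    (snd : P ⟶ (AlgSp.yon S).obj (Over.mk (V.left.fromSpecStalk v ≫ V.hom)))
    (hP : IsPullback fst snd f.hom ((AlgSp.yon S).map (Over.homMk (V.left.fromSpecStalk v) rfl) ≫ b)) :
    IsIso snd := by
  classical
  open Groth.Agent.H52 Groth.Agent.H52.Birat in
  obtain ⟨A, p, hp, hps⟩ := Y.property.atlas
  have hT0 : T0Space (AlgSp.Points Y.obj) := t0Space_points_of_isDecent hY p hp hps
  have hQS : QuasiSober (AlgSp.Points X.obj) := SoberSp.quasiSober_points_of_isDecent X hX
  -- the generic point of `X` over `y`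
  obtain ⟨x₁, hx₁, hfx₁⟩ := hf.bijOn.surjOn hv
  obtain ⟨U, V₁, a, b₁, g, u, ha, hb₁, hcomm, hau, hiso⟩ := hf.stalkIso x₁ hx₁
  have hvb : AlgSp.Points.ofPt b v = AlgSp.Points.ofPt b₁ (g.left u) := by
    rw [← hfx₁, ← hau, AlgSp.Points.map_ofPt, hcomm, ← ofPt_yon_map_comp]
  obtain ⟨U', a', g', u', ha', hcomm', hau', hgu', hiso'⟩ :=
    exists_datum_over f.hom a b₁ g u ha hb₁ hcomm hiso b hb v hvb
  subst hgu'
  have hx₁' : AlgSp.Points.ofPt a' u' = x₁ := hau'.trans hau
  refine isIso_snd_of_datum f.hom a' b g' u' ha' hb hcomm' hiso' fst snd hP ?_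
  intro t
  rw [hx₁']
  -- the image of `t` in `Y` is `y`
  have hy : AlgSp.Points.map f.hom (AlgSp.Points.map fst t) = AlgSp.Points.ofPt b (g'.left u') := by
    rw [← AlgSp.Points.map_comp, hP.w, AlgSp.Points.map_comp]
    obtain ⟨s, hs⟩ := (AlgSp.Points.schemeEquiv _).surjective (AlgSp.Points.map snd t)
    have hs' : AlgSp.Points.ofScheme _ s = AlgSp.Points.map snd t := hs
    rw [← hs', ← AlgSp.Points.ofPt_eq_map_ofScheme, ofPt_yon_map_comp]
    have h1 : V.left.fromSpecStalk (g'.left u') s ⤳ g'.left u' := by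
      have : V.left.fromSpecStalk (g'.left u') s ∈ Set.range (V.left.fromSpecStalk (g'.left u')) :=
        ⟨s, rfl⟩
      rwa [Scheme.range_fromSpecStalk] at this
    have h2 := h1.map (AlgSp.Points.continuous_ofPt b)
    exact Groth.Agent.H20.eq_of_specializes_of_mem_irreducibleComponents hv h2
  obtain ⟨x₂, hx₂, hx₂x⟩ := Groth.Agent.H20.exists_generic_specializes (AlgSp.Points.map fst t)
  have hfx₂ : AlgSp.Points.map f.hom x₂ = AlgSp.Points.ofPt b (g'.left u') := by
    have h3 := hx₂x.map (AlgSp.Points.continuous_map f.hom)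
    rw [hy] at h3
    exact Groth.Agent.H20.eq_of_specializes_of_mem_irreducibleComponents hv h3
  have h21 : x₂ = x₁ := hf.bijOn.injOn hx₂ hx₁ (hfx₂.trans hfx₁.symm)
  rw [h21, ← hx₁'] at hx₂x
  have := eq_of_specializes_of_datum f hX a' b g' u' ha' hb hcomm' hiso' _ hx₂x
    (by rw [hy, hx₁', hfx₁])
  rw [this, hx₁']

end Groth.Agent.S10434
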