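import Groth.Statements.S10436
import Groth.Agent.H52.BiratK
import Groth.Agent.H52.BiratL

set_option autoImplicit false
universe u
open CategoryTheory CategoryTheory.Limits AlgebraicGeometry Topology TopologicalSpace
open AlgSp

namespace Groth.Agent.S10436

/-- Take decent algebraic spaces X and Y over a scheme S, each with only finitely many irreducible
components in its space of points, and a birational f : X ⟶ Y. Suppose f is quasi-compact or
separated, and in addition that f is locally of finite type with Y reduced, or locally of finite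
presentation. Then Y contains a dense open subspace V, which may be taken to be a scheme, such that
f⁻¹(V) ⟶ V is an isomorphism. -/
theorem result {S : Scheme.{u}} {X Y : AlgSp.Space S} (f : X ⟶ Y)
    (hX : AlgSp.IsDecent X.obj) (hY : AlgSp.IsDecent Y.obj)
    (hXf : (irreducibleComponents (AlgSp.Points X.obj)).Finite)
    (hYf : (irreducibleComponents (AlgSp.Points Y.obj)).Finite)
    (hf : W4stk3decentspacesp2.IsBirational f.hom) (h₁ : AlgSp.IsQuasiCompactMor f.hom ∨ AlgSp.IsSeparatedMor f.hom)
    (h₂ : (AlgSp.LocP @LocallyOfFiniteType f.hom ∧ AlgSp.EtaleLocally (fun T => IsReduced T) Y.obj) ∨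
      AlgSp.LocP @LocallyOfFinitePresentation f.hom) :
    ∃ (V : Over S) (b : (AlgSp.yon S).obj V ⟶ Y.obj), AlgSp.RepWith @IsOpenImmersion b ∧
      Dense (Set.range (AlgSp.Points.ofPt b)) ∧
        ∀ ⦃P : AlgSp.Sp S⦄ (fst : P ⟶ X.obj) (snd : P ⟶ (AlgSp.yon S).obj V),
          IsPullback fst snd f.hom b → IsIso snd := by
  obtain ⟨W, w, hw, hwf, hsX, hsY⟩ :=
    Groth.Agent.H52.Birat.exists_open_subscheme_isOpenImmersion f hX hY hXf hYf hf h₂
  have : QuasiSober (AlgSp.Points Y.obj) := Groth.Agent.H52.SoberSp.quasiSober_points_of_isDecent Y hY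
  rcases h₁ with hqc | hsep
  · -- quasi-compact case: shrink
    let Zc : Set (AlgSp.Points X.obj) := (Set.range (AlgSp.Points.ofPt w))ᶜ
    let C : Set (AlgSp.Points Y.obj) := closure (AlgSp.Points.map f.hom '' Zc)
    let A : W.left.Opens := ⟨AlgSp.Points.ofPt (w ≫ f.hom) ⁻¹' Cᶜ,
      isClosed_closure.isOpen_compl.preimage (AlgSp.Points.continuous_ofPt _)⟩
    let V : Over S := Over.mk (A.ι ≫ W.hom)
    let j : V ⟶ W := Over.homMk A.ι rfl
    have hj : AlgSp.RepWith @IsOpenImmersion ((AlgSp.yon S).map j) :=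
      (AlgSp.repWith_yon_map_iff _ _).2 (inferInstanceAs (IsOpenImmersion A.ι))
    have hs : AlgSp.RepWith @IsOpenImmersion ((AlgSp.yon S).map j ≫ w) :=
      (AlgSp.RepWith @IsOpenImmersion).comp_mem _ _ hj hw
    have hb : AlgSp.RepWith @IsOpenImmersion (((AlgSp.yon S).map j ≫ w) ≫ f.hom) := by
      rw [Category.assoc]
      exact (AlgSp.RepWith @IsOpenImmersion).comp_mem _ _ hj hwf
    refine ⟨V, ((AlgSp.yon S).map j ≫ w) ≫ f.hom, hb, ?_, ?_⟩
    · apply Groth.Agent.H6.BiratOpen.dense_of_gen_subset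
      intro η hη
      obtain ⟨t, rfl⟩ := hsY hη
      have hnot := Groth.Agent.H52.Birat.not_mem_closure_image_of_isQuasiCompactMor f hX hY hf hqc
        w hw hwf hsX t hη
      refine ⟨⟨t, hnot⟩, ?_⟩
      rw [Category.assoc, Groth.Agent.H53.ofPt_yon_map_comp]
      rfl
    · intro P fst snd sq
      refine Groth.Agent.H52.Birat.isIso_snd_of_section f.hom _ hb _ hs rfl fst snd sq ?_
      intro p
      have h1 : AlgSp.Points.map f.hom (AlgSp.Points.map fst p) ∈
          Set.range (AlgSp.Points.ofPt (((AlgSp.yon S).map j ≫ w) ≫ f.hom)) := by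
        rw [← AlgSp.Points.map_comp, sq.w, AlgSp.Points.map_comp,
          ← Groth.Agent.H51.range_map_eq_range_ofPt]
        exact ⟨_, rfl⟩
      obtain ⟨t', ht'⟩ := h1
      rw [Category.assoc, Groth.Agent.H53.ofPt_yon_map_comp] at ht'
      have hnC : AlgSp.Points.map f.hom (AlgSp.Points.map fst p) ∉ C := by
        rw [← ht']; exact t'.2
      have hx : AlgSp.Points.map fst p ∈ Set.range (AlgSp.Points.ofPt w) := by
        by_contra hx
        exact hnC (subset_closure ⟨_, hx, rfl⟩)
      obtain ⟨t, ht⟩ := hx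
      have htA : t ∈ A := by
        change AlgSp.Points.ofPt (w ≫ f.hom) t ∈ Cᶜ
        rw [← AlgSp.Points.map_ofPt, ht]
        exact hnC
      refine ⟨⟨t, htA⟩, ?_⟩
      rw [Groth.Agent.H53.ofPt_yon_map_comp]
      exact ht
  · -- separated case
    refine ⟨W, w ≫ f.hom, hwf, Groth.Agent.H6.BiratOpen.dense_of_gen_subset hsY, ?_⟩
    intro P fst snd sq
    exact Groth.Agent.H52.Birat.isIso_snd_of_isSeparatedMor f hX hsep w hw hwf hsX fst snd sq

end Groth.Agent.S10436
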