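import Groth.Statements.S10438
import Groth.Agent.H52.BiratR
import Groth.Agent.H52.ZarLocalBase
import Groth.Agent.H65.QAffFppf

set_option autoImplicit false
universe u
open CategoryTheory CategoryTheory.Limits AlgebraicGeometry Topology TopologicalSpace
open AlgSp

namespace Groth.Agent.S10438

/-- Take decent algebraic spaces X and Y over a scheme S, each with only finitely many irreducible
components in its space of points, and f : X ⟶ Y integral as well as birational. If Y is normal
while X is reduced, f is an isomorphism. -/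
theorem result {S : Scheme.{u}} {X Y : AlgSp.Space S} (f : X ⟶ Y)
    (hX : AlgSp.IsDecent X.obj) (hY : AlgSp.IsDecent Y.obj)
    (hXf : (irreducibleComponents (AlgSp.Points X.obj)).Finite)
    (hYf : (irreducibleComponents (AlgSp.Points Y.obj)).Finite)
    (hi : AlgSp.IsIntegralMor f.hom) (hf : W4stk3decentspacesp2.IsBirational f.hom)
    (hYn : AlgSp.EtaleLocally (fun T => ∀ t : ↥T, IsDomain ↥(T.presheaf.stalk t) ∧
      IsIntegrallyClosed ↥(T.presheaf.stalk t)) Y.obj)
    (hXr : AlgSp.EtaleLocally (fun T => IsReduced T) X.obj) : IsIso f.hom := by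
  obtain ⟨T, pa, hpa, hpas⟩ := Y.property.atlas
  have key : ∀ t : T.left, ∃ A : T.left.Opens, t ∈ A ∧ IsAffineOpen A := by
    intro t
    obtain ⟨A, hA, htA, -⟩ := Opens.isBasis_iff_nbhd.mp T.left.isBasis_affineOpens
      (U := ⊤) (Opens.mem_top t)
    exact ⟨A, htA, hA⟩
  choose A hA hAaff using key
  have hloc : ∀ t, ∃ (W : Over S) (i : W ⟶ Over.mk ((A t).ι ≫ T.hom))
      (k : (yon S).obj W ⟶ X.obj),
      IsPullback k ((yon S).map i) f.hom
        ((yon S).map (Groth.Agent.H52.openIncl T (A t)) ≫ pa) ∧ IsIso i.left := by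
    intro t
    have haff : IsAffine (Over.mk ((A t).ι ≫ T.hom)).left := hAaff t
    obtain ⟨W, i, k, sq, -, hint⟩ :=
      hi haff ((yon S).map (Groth.Agent.H52.openIncl T (A t)) ≫ pa)
    have hb : RepWith @Etale ((yon S).map (Groth.Agent.H52.openIncl T (A t)) ≫ pa) :=
      (RepWith @Etale).comp_mem _ _
        ((repWith_yon_map_iff _ _).2 (show Etale (A t).ι from inferInstance)) hpa
    exact ⟨W, i, k, sq,
      Groth.Agent.H52.Birat.isIso_left_of_chart f hX hY hYf hf hYn hXr _ hb i k sq⟩
  choose W i k sq hiso using hloc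
  obtain ⟨G, π, fst, sqG, hP⟩ :=
    Groth.Agent.H52.ZarLocalBase.exists_rep_of_local X.property Y.property f.hom pa A hA W i k sq
  have hπ : IsIso π.left := hP (MorphismProperty.isomorphisms Scheme) hiso
  have hπ' : IsIso π := by
    have : IsIso ((Over.forget S).map π) := hπ
    exact isIso_of_reflects_iso π (Over.forget S)
  have : IsIso ((yon S).map π) := inferInstance
  have : Epi pa := Groth.Agent.H53.epi_of_repWith_etale_surjective pa hpa hpas
  exact Groth.Agent.H65.FppfDesc.isIso_of_isPullback_of_epi f.hom pa sqG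

end Groth.Agent.S10438
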