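import Groth.Statements.S1044
import Groth.Agent.H5.Kosz.Main

set_option autoImplicit false
universe u
open CategoryTheory CategoryTheory.Limits AlgebraicGeometry
attribute [local instance] HasDerivedCategory.standard
open Perf

namespace Groth.Agent.S1044

/-- Let A be a ring, f₁, …, f_r elements of A, X = Spec A, U ⊆ X the open complement of V(f₁, …, f_r)
with inclusion j, and K the perfect object of D(O_X) associated with the Koszul complex on f₁, …,
f_r. Assuming Rj_* exists (and tilde is recorded as exact), for E ∈ D(O_X) with quasi-coherent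
cohomology sheaves the following are equivalent: E is of the form Rj_*M for some M ∈ D_QCoh(O_U)
(equivalently E = Rj_*(E|_U)); every morphism K[n] ⟶ E, n ∈ ℤ, is zero. -/
theorem result (A : Type u) [CommRing A] (fs : List A) [PreservesFiniteLimits (tilde.functor (CommRingCat.of A))]
    [DCoh.HasRpush (LocCoh.puncturedOpen A (Ideal.span {a | a ∈ fs})).ι]
    (E : DCoh.D (Spec (CommRingCat.of A))) (hE : DCoh.IsQCohD E) :
    (∃ M : DCoh.D (LocCoh.puncturedOpen A (Ideal.span {a | a ∈ fs}) : Scheme.{u}), DCoh.IsQCohD M ∧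
        Nonempty (E ≅ (DCoh.Rpush (LocCoh.puncturedOpen A (Ideal.span {a | a ∈ fs})).ι).obj M)) ↔
    ∀ (n : ℤ) (φ : ((DCoh.tildeD (CommRingCat.of A)).obj (DerivedCategory.Q.obj (Koszul.koszul A fs)))⟦n⟧ ⟶ E), φ = 0 := by
  constructor
  · rintro ⟨M, -, ⟨e⟩⟩ n φ
    have h := Groth.Agent.H5.Kosz.Bridge.hom_koszul_Rpush_eq_zero (CommRingCat.of A) fs
      (Groth.Agent.H33.LocCoh.dadj (LocCoh.puncturedOpen A (Ideal.span {a | a ∈ fs})).ι) M n
      (φ ≫ e.hom)
    exact (cancel_mono e.hom).1 (h.trans zero_comp.symm)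
  · intro h
    haveI := Groth.Agent.H5.Kosz.Main.isIso_unit (CommRingCat.of A) fs
      (Groth.Agent.H33.LocCoh.dadj (LocCoh.puncturedOpen A (Ideal.span {a | a ∈ fs})).ι) E hE h
    exact ⟨(DCoh.restrictD (LocCoh.puncturedOpen A (Ideal.span {a | a ∈ fs})).ι).obj E,
      Groth.Agent.H5.HomVan.MV.isQCohD_restrictD _ E hE,
      ⟨asIso ((Groth.Agent.H33.LocCoh.dadj
        (LocCoh.puncturedOpen A (Ideal.span {a | a ∈ fs})).ι).unit.app E)⟩⟩

end Groth.Agent.S1044
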