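import Groth.Statements.S10440
import Groth.Agent.H52.HensElem
import Groth.Agent.H52.HensElemSch
import Groth.Agent.H52.HensElemSp
import Groth.Agent.H53.Charts

set_option autoImplicit false
universe u
open CategoryTheory CategoryTheory.Limits AlgebraicGeometry Topology TopologicalSpace
open AlgSp

namespace Groth.Agent.S10440

/-- For a decent algebraic space X over a scheme S and x ∈ |X|, let g : (U', u') ⟶ (U, u) be a morphism
of elementary etale neighbourhoods of (X, x). If R is a henselization of O_{U', u'} then, through
the local ring map O_{U, u} ⟶ O_{U', u'} induced by g, R is a henselization of O_{U, u} as well.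
(The published statement identifies the henselian local ring at x, defined as the colimit of global
sections over all elementary etale neighbourhoods, with the henselization of O_{U, u}; that ring is
not a separate construction here, and this row states the resulting independence of the
henselization from the chosen neighbourhood.) -/
theorem result {S : Scheme.{u}} (X : AlgSp.Space S)
    (hX : AlgSp.IsDecent X.obj) (x : AlgSp.Points X.obj) {U U' : Over S}
    (a : (AlgSp.yon S).obj U ⟶ X.obj) (a' : (AlgSp.yon S).obj U' ⟶ X.obj) (g : U' ⟶ U) (u' : ↥U'.left)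
    (hg : (AlgSp.yon S).map g ≫ a = a') (ha : AlgSp.IsElemEtaleNbhd a (g.left.base u') x)
    (ha' : AlgSp.IsElemEtaleNbhd a' u' x) (R : Type u) [CommRing R] [IsLocalRing R]
    [Algebra ↥(U'.left.presheaf.stalk u') R] [IsLocalHom (algebraMap ↥(U'.left.presheaf.stalk u') R)]
    [Hensel.IsHenselization ↥(U'.left.presheaf.stalk u') R] :
    letI : Algebra ↥(U.left.presheaf.stalk (g.left.base u')) R :=
      ((algebraMap ↥(U'.left.presheaf.stalk u') R).comp (g.left.stalkMap u').hom).toAlgebra
    ∃ (_ : IsLocalHom (algebraMap ↥(U.left.presheaf.stalk (g.left.base u')) R)),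
      Hensel.IsHenselization ↥(U.left.presheaf.stalk (g.left.base u')) R := by
  have hget : Etale g.left :=
    Groth.Agent.H53.etale_left_of_repWith_etale a' a ha'.etale ha.etale g hg
  have hsurj : Function.Surjective (g.left.residueFieldMap u').hom :=
    Groth.Agent.H52.HensElemSp.surjective_residueFieldMap_of_mono a a' g u' hg ha'.mono
  have hm : (IsLocalRing.maximalIdeal ↥(U.left.presheaf.stalk (g.left.base u'))).map
      (g.left.stalkMap u').hom = IsLocalRing.maximalIdeal ↥(U'.left.presheaf.stalk u') := by
    let _ : Algebra ↥(U.left.presheaf.stalk (g.left.base u')) ↥(U'.left.presheaf.stalk u') :=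
      (g.left.stalkMap u').hom.toAlgebra
    have h1 : Algebra.EssFiniteType ↥(U.left.presheaf.stalk (g.left.base u'))
        ↥(U'.left.presheaf.stalk u') := LocallyOfFiniteType.stalkMap g.left u'
    have h2 : Algebra.FormallyEtale ↥(U.left.presheaf.stalk (g.left.base u'))
        ↥(U'.left.presheaf.stalk u') :=
      Groth.Agent.H25.EtaleStalk.formallyEtale_stalkMap_of_etale g.left u'
    have h3 : IsLocalHom (algebraMap ↥(U.left.presheaf.stalk (g.left.base u'))
        ↥(U'.left.presheaf.stalk u')) :=
      inferInstanceAs (IsLocalHom (g.left.stalkMap u').hom)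
    exact Algebra.FormallyUnramified.map_maximalIdeal
  exact Groth.Agent.H52.HensElem.isHenselization_of_lift (g.left.stalkMap u').hom hm hsurj
    (fun T _ _ f _ α hα =>
      Groth.Agent.H52.HensElemSch.existsUnique_lift_stalkMap g.left u' T f α hα)

end Groth.Agent.S10440
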