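import Groth.Statements.S10441
import Groth.Agent.H52.UnibranchSp

set_option autoImplicit false
universe u
open CategoryTheory CategoryTheory.Limits AlgebraicGeometry Topology TopologicalSpace
open AlgSp

namespace Groth.Agent.S10441

/-- For a decent algebraic space X over a scheme S and x ∈ |X|, fix an elementary etale neighbourhood
(U₀, u₀) of (X, x) and a henselization R of O_{U₀, u₀} (a model of the henselian local ring at x).
The following are equivalent: (1) O_{U, u} has exactly one minimal prime whenever (U, u) is an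
elementary etale neighbourhood of (X, x); (2) a unique irreducible component of U passes through u
for all such (U, u); (3) O_{U, u} is unibranch for all such (U, u); (4) R has exactly one minimal
prime. -/
theorem result {S : Scheme.{u}} (X : AlgSp.Space S)
    (hX : AlgSp.IsDecent X.obj) (x : AlgSp.Points X.obj) {U₀ : Over S}
    (a₀ : (AlgSp.yon S).obj U₀ ⟶ X.obj) (u₀ : ↥U₀.left) (h₀ : AlgSp.IsElemEtaleNbhd a₀ u₀ x)
    (R : Type u) [CommRing R] [IsLocalRing R] [Algebra ↥(U₀.left.presheaf.stalk u₀) R]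
    [IsLocalHom (algebraMap ↥(U₀.left.presheaf.stalk u₀) R)] [Hensel.IsHenselization ↥(U₀.left.presheaf.stalk u₀) R] :
    ((∀ (U : Over S) (a : (AlgSp.yon S).obj U ⟶ X.obj) (u : ↥U.left), AlgSp.IsElemEtaleNbhd a u x →
        CAlgX.HasUniqueMinimalPrime ↥(U.left.presheaf.stalk u)) ↔
      (∀ (U : Over S) (a : (AlgSp.yon S).obj U ⟶ X.obj) (u : ↥U.left), AlgSp.IsElemEtaleNbhd a u x →
        {Z : Set ↥U.left | Z ∈ irreducibleComponents ↥U.left ∧ u ∈ Z}.encard = 1)) ∧
    ((∀ (U : Over S) (a : (AlgSp.yon S).obj U ⟶ X.obj) (u : ↥U.left), AlgSp.IsElemEtaleNbhd a u x →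
        {Z : Set ↥U.left | Z ∈ irreducibleComponents ↥U.left ∧ u ∈ Z}.encard = 1) ↔
      (∀ (U : Over S) (a : (AlgSp.yon S).obj U ⟶ X.obj) (u : ↥U.left), AlgSp.IsElemEtaleNbhd a u x →
        CAlg2.IsUnibranch ↥(U.left.presheaf.stalk u))) ∧
    ((∀ (U : Over S) (a : (AlgSp.yon S).obj U ⟶ X.obj) (u : ↥U.left), AlgSp.IsElemEtaleNbhd a u x →
        CAlg2.IsUnibranch ↥(U.left.presheaf.stalk u)) ↔ CAlgX.HasUniqueMinimalPrime R) := by
  have h12 : ∀ (U : Over S) (u : ↥U.left),
      CAlgX.HasUniqueMinimalPrime ↥(U.left.presheaf.stalk u) ↔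
        {Z : Set ↥U.left | Z ∈ irreducibleComponents ↥U.left ∧ u ∈ Z}.encard = 1 := by
    intro U u
    rw [Groth.Agent.H52.UnibranchSp.hasUniqueMinimalPrime_iff_encard,
      Groth.Agent.H14.HensProp.CompStalk.encard_components_eq]
  refine ⟨⟨fun H U a u h => (h12 U u).1 (H U a u h), fun H U a u h => (h12 U u).2 (H U a u h)⟩,
    ⟨?_, ?_⟩, ⟨?_, ?_⟩⟩
  · intro H U a u h
    rw [Groth.Agent.H14.HensProp.ElemNbhd.isUnibranch_iff]
    intro V g v hg
    exact H (Over.mk (g ≫ U.hom)) (Groth.Agent.H52.UnibranchSp.compChart a g) v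
      (Groth.Agent.H52.UnibranchSp.isElemEtaleNbhd_comp a u x h g v hg)
  · intro H U a u h
    refine Groth.Agent.H14.HensProp.ElemNbhd.encard_eq_one_of_isUnibranch (𝟙 U.left) u u
      ⟨inferInstance, rfl, ?_⟩ (H U a u h)
    rw [Scheme.residueFieldMap_id]
    exact Function.bijective_id
  · intro H
    exact (Groth.Agent.H14.HensProp.UniqueMin.isUnibranch_iff_hasUniqueMinimalPrime
      (A := ↥(U₀.left.presheaf.stalk u₀)) (Ah := R)).1 (H U₀ a₀ u₀ h₀)
  · intro H4 U a u h
    obtain ⟨R', _, _, _, _, hH, ⟨ε⟩⟩ :=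
      Groth.Agent.H52.HensElemMain.exists_henselization_ringEquiv X.property x a₀ a u₀ u h₀ h R
    exact (Groth.Agent.H14.HensProp.UniqueMin.isUnibranch_iff_hasUniqueMinimalPrime
      (A := ↥(U.left.presheaf.stalk u)) (Ah := R')).2
      (Groth.Agent.H52.UnibranchSp.hasUniqueMinimalPrime_of_ringEquiv ε H4)

end Groth.Agent.S10441
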