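import Groth.Statements.S10442
import Groth.Agent.H52.UnibranchSp2

set_option autoImplicit false
universe u
open CategoryTheory CategoryTheory.Limits AlgebraicGeometry Topology TopologicalSpace
open AlgSp

namespace Groth.Agent.S10442

/-- For a decent algebraic space X over a scheme S, x ∈ |X| and n ≥ 1, fix an elementary etale
neighbourhood (U₀, u₀) of (X, x) and a henselization R of O_{U₀, u₀} (a model of the henselian local
ring at x). The following are equivalent: (1) over all elementary etale neighbourhoods (U, u) of (X,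
x), O_{U, u} has at most n minimal primes, with the value n attained; (2) the same for the number of
irreducible components of U through u; (3) the same for the branch number of U at u; (4) R has
exactly n minimal primes. -/
theorem result {S : Scheme.{u}} (X : AlgSp.Space S)
    (hX : AlgSp.IsDecent X.obj) (x : AlgSp.Points X.obj) (n : ℕ) (hn : 1 ≤ n) {U₀ : Over S}
    (a₀ : (AlgSp.yon S).obj U₀ ⟶ X.obj) (u₀ : ↥U₀.left) (h₀ : AlgSp.IsElemEtaleNbhd a₀ u₀ x)
    (R : Type u) [CommRing R] [IsLocalRing R] [Algebra ↥(U₀.left.presheaf.stalk u₀) R]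
    [IsLocalHom (algebraMap ↥(U₀.left.presheaf.stalk u₀) R)] [Hensel.IsHenselization ↥(U₀.left.presheaf.stalk u₀) R] :
    (((∀ (U : Over S) (a : (AlgSp.yon S).obj U ⟶ X.obj) (u : ↥U.left), AlgSp.IsElemEtaleNbhd a u x →
        (minimalPrimes ↥(U.left.presheaf.stalk u)).encard ≤ n) ∧
      (∃ (U : Over S) (a : (AlgSp.yon S).obj U ⟶ X.obj) (u : ↥U.left), AlgSp.IsElemEtaleNbhd a u x ∧
        (minimalPrimes ↥(U.left.presheaf.stalk u)).encard = n)) ↔
     ((∀ (U : Over S) (a : (AlgSp.yon S).obj U ⟶ X.obj) (u : ↥U.left), AlgSp.IsElemEtaleNbhd a u x →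
        {Z : Set ↥U.left | Z ∈ irreducibleComponents ↥U.left ∧ u ∈ Z}.encard ≤ n) ∧
      (∃ (U : Over S) (a : (AlgSp.yon S).obj U ⟶ X.obj) (u : ↥U.left), AlgSp.IsElemEtaleNbhd a u x ∧
        {Z : Set ↥U.left | Z ∈ irreducibleComponents ↥U.left ∧ u ∈ Z}.encard = n))) ∧
    (((∀ (U : Over S) (a : (AlgSp.yon S).obj U ⟶ X.obj) (u : ↥U.left), AlgSp.IsElemEtaleNbhd a u x →
        {Z : Set ↥U.left | Z ∈ irreducibleComponents ↥U.left ∧ u ∈ Z}.encard ≤ n) ∧
      (∃ (U : Over S) (a : (AlgSp.yon S).obj U ⟶ X.obj) (u : ↥U.left), AlgSp.IsElemEtaleNbhd a u x ∧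
        {Z : Set ↥U.left | Z ∈ irreducibleComponents ↥U.left ∧ u ∈ Z}.encard = n)) ↔
     ((∀ (U : Over S) (a : (AlgSp.yon S).obj U ⟶ X.obj) (u : ↥U.left), AlgSp.IsElemEtaleNbhd a u x →
        Brnch.numBranchesAt U.left u ≤ n) ∧
      (∃ (U : Over S) (a : (AlgSp.yon S).obj U ⟶ X.obj) (u : ↥U.left), AlgSp.IsElemEtaleNbhd a u x ∧
        Brnch.numBranchesAt U.left u = n))) ∧
    (((∀ (U : Over S) (a : (AlgSp.yon S).obj U ⟶ X.obj) (u : ↥U.left), AlgSp.IsElemEtaleNbhd a u x →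
        Brnch.numBranchesAt U.left u ≤ n) ∧
      (∃ (U : Over S) (a : (AlgSp.yon S).obj U ⟶ X.obj) (u : ↥U.left), AlgSp.IsElemEtaleNbhd a u x ∧
        Brnch.numBranchesAt U.left u = n)) ↔
     (minimalPrimes R).encard = n) := by
  have h12 : ∀ (U : Over S) (u : ↥U.left),
      {Z : Set ↥U.left | Z ∈ irreducibleComponents ↥U.left ∧ u ∈ Z}.encard =
        (minimalPrimes ↥(U.left.presheaf.stalk u)).encard :=
    fun U u => Groth.Agent.H14.HensProp.CompStalk.encard_components_eq u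
  have hnb : ∀ (U : Over S) (a : (AlgSp.yon S).obj U ⟶ X.obj) (u : ↥U.left),
      AlgSp.IsElemEtaleNbhd a u x → Brnch.numBranchesAt U.left u = (minimalPrimes R).encard :=
    fun U a u h =>
      Groth.Agent.H52.UnibranchSp.numBranchesAt_eq_encard X.property x a₀ a u₀ u h₀ h R
  refine ⟨⟨?_, ?_⟩, ⟨?_, ?_⟩, ⟨?_, ?_⟩⟩
  · rintro ⟨H1, U, a, u, h, e⟩
    exact ⟨fun U a u h => (h12 U u).trans_le (H1 U a u h), U, a, u, h, (h12 U u).trans e⟩
  · rintro ⟨H1, U, a, u, h, e⟩
    exact ⟨fun U a u h => (h12 U u).symm.trans_le (H1 U a u h), U, a, u, h,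
      (h12 U u).symm.trans e⟩
  · -- (2) ⇒ (3)
    rintro ⟨H1, U, a, u, h, e⟩
    have hle : ∀ (U : Over S) (a : (AlgSp.yon S).obj U ⟶ X.obj) (u : ↥U.left),
        AlgSp.IsElemEtaleNbhd a u x → Brnch.numBranchesAt U.left u ≤ n := by
      intro U a u h
      rw [Groth.Agent.H14.HensProp.BranchSup.numBranchesAt_eq]
      refine iSup_le fun V => iSup_le fun g => iSup_le fun v => iSup_le fun hg => ?_
      exact H1 (Over.mk (g ≫ U.hom)) (Groth.Agent.H52.UnibranchSp.compChart a g) v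
        (Groth.Agent.H52.UnibranchSp.isElemEtaleNbhd_comp a u x h g v hg)
    refine ⟨hle, U, a, u, h, le_antisymm (hle U a u h) ?_⟩
    rw [← e]
    exact Groth.Agent.H52.UnibranchSp.encard_le_numBranchesAt_self u
  · -- (3) ⇒ (2)
    rintro ⟨H1, U, a, u, h, e⟩
    refine ⟨fun U a u h =>
      (Groth.Agent.H52.UnibranchSp.encard_le_numBranchesAt_self u).trans (H1 U a u h), ?_⟩
    obtain ⟨V, g, v, hg, hV⟩ :=
      Groth.Agent.H52.UnibranchSp.exists_encard_eq_numBranchesAt u n hn e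
    exact ⟨Over.mk (g ≫ U.hom), Groth.Agent.H52.UnibranchSp.compChart a g, v,
      Groth.Agent.H52.UnibranchSp.isElemEtaleNbhd_comp a u x h g v hg, hV⟩
  · rintro ⟨-, U, a, u, h, e⟩
    rw [← hnb U a u h, e]
  · intro H4
    refine ⟨fun U a u h => ?_, U₀, a₀, u₀, h₀, ?_⟩
    · rw [hnb U a u h, H4]
    · rw [hnb U₀ a₀ u₀ h₀, H4]

end Groth.Agent.S10442
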