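import Groth.Statements.S10446
import Groth.Agent.H53.ZMT.FinFibreNbhd
import Groth.Agent.S10350
import Groth.Agent.S10398

set_option autoImplicit false
universe u
open CategoryTheory CategoryTheory.Limits AlgebraicGeometry Topology TopologicalSpace
open AlgSp

namespace Groth.Agent.S10446

/-- (1) ⇔ (3): let S be a scheme with quasi-separated underlying space, f : X ⟶ Y a quasi-separated
morphism of algebraic spaces over S that is locally of finite type, with Y quasi-separated over S,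
and y ∈ |Y| a point of codimension 0. Then |f|⁻¹(y) is finite if and only if f restricts to a finite
morphism X' ⟶ Y' between an open subspace X' of X containing the whole fibre |f|⁻¹(y) and an open
subspace Y' of Y through y. (The published statement assumes Y quasi-separated in the absolute
sense; this row assumes S has quasi-separated underlying space and Y quasi-separated over S. Its
condition on the finiteness of |Spec k ×_Y X| is not part of this row.) -/
theorem result {S : Scheme.{u}} [QuasiSeparatedSpace ↥S] {X Y : AlgSp.Space S}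
    (f : X ⟶ Y) (hqs : AlgSp.IsQuasiSeparatedMor f.hom) (hft : AlgSp.LocP @LocallyOfFiniteType f.hom)
    (hY : AlgSp.IsQuasiSeparatedSp Y.obj) (y : AlgSp.Points Y.obj)
    (hy : AlgSp.HasAt (fun U u => ringKrullDim ↥(U.presheaf.stalk u) = 0) Y.obj y) :
    (AlgSp.Points.map f.hom ⁻¹' {y}).Finite ↔
      ∃ (X' Y' : AlgSp.Space S) (i : X' ⟶ X) (j : Y' ⟶ Y) (f' : X' ⟶ Y'), AlgSp.RepWith @IsOpenImmersion i.hom ∧
        AlgSp.RepWith @IsOpenImmersion j.hom ∧ f' ≫ j = i ≫ f ∧ y ∈ Set.range (AlgSp.Points.map j.hom) ∧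
          AlgSp.Points.map f.hom ⁻¹' {y} ⊆ Set.range (AlgSp.Points.map i.hom) ∧ AlgSp.IsFiniteMor f'.hom := by
  have hEle : (@IsOpenImmersion : MorphismProperty Scheme.{u}) ≤ @Etale := fun _ _ g hg => by
    have : IsOpenImmersion g := hg
    exact (inferInstance : Etale g)
  constructor
  · intro hfin
    -- `X` is quasi-separated over `S`
    have hXqs : AlgSp.IsQuasiSeparatedSp X.obj := by
      have hY' := (Groth.Agent.H49.diag_iff_diagonal_terminal (AlgSp.RepWith @QuasiCompact)
        Y.obj).1 hY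
      refine (Groth.Agent.H49.diag_iff_diagonal_terminal (AlgSp.RepWith @QuasiCompact)
        X.obj).2 ?_
      rw [← terminal.comp_from f.hom]
      exact (AlgSp.RepWith @QuasiCompact).diagonal.comp_mem _ _ hqs hY'
    -- a quasi-compact open subspace containing the fibre
    obtain ⟨W, m, hWaff, hme, hmcov⟩ :=
      Groth.Agent.H53.ZMT.exists_affine_chart_covering X.property _ hfin
    have hWaff' : IsAffine W.left := hWaff
    have hO : IsOpen (Set.range (AlgSp.Points.ofPt m)) :=
      (Groth.Agent.H51.isOpenMap_ofPt_of_etale m hme).isOpen_range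
    let X₁obj : AlgSp.Sp S := Groth.Agent.H51.openSubSp X.obj (Set.range (AlgSp.Points.ofPt m))
    let ι₁ : X₁obj ⟶ X.obj := Groth.Agent.H51.openSubι X.obj (Set.range (AlgSp.Points.ofPt m))
    have hX₁ : AlgSp.IsAlgSpace X₁obj := Groth.Agent.H51.isAlgSpace_openSubSp X.property _ hO
    have hι₁ : AlgSp.RepWith @IsOpenImmersion ι₁ :=
      Groth.Agent.H51.repWith_isOpenImmersion_openSubι _ hO
    have hι₁r : Set.range (AlgSp.Points.map ι₁) = Set.range (AlgSp.Points.ofPt m) :=
      Groth.Agent.H51.range_map_openSubι _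
    have hι₁mono : Mono ι₁ :=
      Groth.Agent.H49.mono_of_repWith_mono Groth.Agent.H51.isOpenImmersion_le_mono ι₁ hι₁
    have hι₁e : AlgSp.RepWith @Etale ι₁ := Groth.Agent.H51.repWith_mono hEle hι₁
    obtain ⟨m', hm', hm'e, hm's, -⟩ :=
      Groth.Agent.H51.isPresentation_of_open_image m hme ι₁ hι₁ hι₁r
    have hX₁qc : AlgSp.IsQuasiCompactSp X₁obj := ⟨W, m', hm'e, hm's, inferInstance⟩
    let X₁ : AlgSp.Space S := ⟨X₁obj, hX₁⟩
    let i₁ : X₁ ⟶ X := ObjectProperty.homMk ι₁
    let f₁ : X₁ ⟶ Y := i₁ ≫ f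
    have hf₁ : f₁.hom = ι₁ ≫ f.hom := rfl
    have hdiagι : (AlgSp.RepWith @QuasiCompact).diagonal ι₁ := by
      have : IsIso (pullback.diagonal ι₁) := (pullback.isIso_diagonal_iff ι₁).2 hι₁mono
      exact MorphismProperty.of_isIso (AlgSp.RepWith @QuasiCompact) _
    have hf₁lft : AlgSp.LocP @LocallyOfFiniteType f₁.hom := by
      rw [hf₁]
      exact Groth.Agent.H53.ZMT.locP_comp_of_etale _ hι₁e hft
    have hf₁qs : AlgSp.IsQuasiSeparatedMor f₁.hom := by
      rw [hf₁]
      exact (AlgSp.RepWith @QuasiCompact).diagonal.comp_mem _ _ hdiagι hqs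
    have hf₁qc : AlgSp.IsQuasiCompactMor f₁.hom :=
      Groth.Agent.H49.isQuasiCompactMor_of_isQuasiCompactSp_of_isQuasiSeparatedSp hX₁ Y.property
        f₁.hom hX₁qc hY
    have hX₁qs : AlgSp.IsQuasiSeparatedSp X₁obj := by
      have hX' := (Groth.Agent.H49.diag_iff_diagonal_terminal (AlgSp.RepWith @QuasiCompact)
        X.obj).1 hXqs
      refine (Groth.Agent.H49.diag_iff_diagonal_terminal (AlgSp.RepWith @QuasiCompact)
        X₁obj).2 ?_
      rw [← terminal.comp_from ι₁]
      exact (AlgSp.RepWith @QuasiCompact).diagonal.comp_mem _ _ hdiagι hX'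
    have hX₁dec : AlgSp.IsDecent X₁.obj := Groth.Agent.S10350.result X₁ hX₁qs
    have hfin₁ : (AlgSp.Points.map f₁.hom ⁻¹' {y}).Finite := by
      refine Set.Finite.of_finite_image (f := AlgSp.Points.map ι₁) ?_
        (Groth.Agent.H51.injective_map_of_mono ι₁).injOn
      refine hfin.subset ?_
      rintro _ ⟨x₁, hx₁, rfl⟩
      change AlgSp.Points.map f.hom (AlgSp.Points.map ι₁ x₁) = y
      rw [← AlgSp.Points.map_comp]
      exact hx₁
    have hqf₁ : ∀ x₁ : AlgSp.Points X₁.obj, AlgSp.Points.map f₁.hom x₁ = y →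
        AlgSp.HasAtMor (fun U _ h u => ∃ W : U.Opens, u ∈ W ∧ LocallyQuasiFinite (W.ι ≫ h) ∧
          LocallyOfFiniteType (W.ι ≫ h)) f₁.hom x₁ := fun x₁ hx₁ =>
      Groth.Agent.H53.ZMT.hasAtMor_qfAt_of_finite_fibre_of_isDecent f₁ hf₁lft hX₁dec y hfin₁ x₁ hx₁
    obtain ⟨Y', X', j, fst, snd, hj, hyj, sq, hfinmor⟩ :=
      Groth.Agent.S10398.result f₁ hf₁qs ⟨hf₁lft, hf₁qc⟩ y hy hqf₁
    refine ⟨X', Y', snd ≫ i₁, j, fst, ?_, hj, ?_, hyj, ?_, hfinmor⟩
    · have hsnd : AlgSp.RepWith @IsOpenImmersion snd.hom := MorphismProperty.of_isPullback sq hj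
      exact (AlgSp.RepWith @IsOpenImmersion).comp_mem _ _ hsnd hι₁
    · apply ObjectProperty.hom_ext
      change fst.hom ≫ j.hom = (snd.hom ≫ ι₁) ≫ f.hom
      rw [Category.assoc]
      exact sq.w
    · intro x hx
      obtain ⟨w, hw⟩ := hmcov x hx
      have hxr : x ∈ Set.range (AlgSp.Points.map ι₁) := by rw [hι₁r]; exact ⟨w, hw⟩
      obtain ⟨x₁, rfl⟩ := hxr
      obtain ⟨y', hy'⟩ := hyj
      have hx₁ : AlgSp.Points.map f₁.hom x₁ = y := by
        rw [hf₁, AlgSp.Points.map_comp]
        exact hx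
      obtain ⟨z, -, hz⟩ := Groth.Agent.H50.points_exists_of_isPullback sq y' x₁ (by
        rw [hy', hx₁])
      refine ⟨z, ?_⟩
      change AlgSp.Points.map (snd.hom ≫ ι₁) z = _
      rw [AlgSp.Points.map_comp, hz]
  · rintro ⟨X', Y', i, j, f', hi, hj, hcomm, ⟨y', hy'⟩, hsub, hfinmor⟩
    have hjmono : Mono j.hom :=
      Groth.Agent.H49.mono_of_repWith_mono Groth.Agent.H51.isOpenImmersion_le_mono j.hom hj
    have hfib' := Groth.Agent.H53.ZMT.finite_fibre_of_isFiniteMor Y'.property f'.hom hfinmor y'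
    refine (hfib'.image (AlgSp.Points.map i.hom)).subset ?_
    intro x hx
    obtain ⟨x', rfl⟩ := hsub hx
    refine ⟨x', ?_, rfl⟩
    apply Groth.Agent.H51.injective_map_of_mono j.hom
    have hc : f'.hom ≫ j.hom = i.hom ≫ f.hom := congrArg (fun k => k.hom) hcomm
    change AlgSp.Points.map j.hom (AlgSp.Points.map f'.hom x') = AlgSp.Points.map j.hom y'
    rw [← AlgSp.Points.map_comp, hc, AlgSp.Points.map_comp, hy']
    exact hx

end Groth.Agent.S10446
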