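import Groth.Statements.S10451
import Groth.Agent.H52.LqfField

set_option autoImplicit false
universe u
open CategoryTheory CategoryTheory.Limits AlgebraicGeometry Topology TopologicalSpace
open AlgSp

namespace Groth.Agent.S10451

/-- Let k be a field and X an algebraic space locally of finite type over k with dim X = 0. Then X is a
separated scheme and every quasi-compact open of X is affine. -/
theorem result (k : Type u) [Field k]
    (X : AlgSp.Space (Spec (CommRingCat.of k))) (p : X.obj ⟶ (AlgSp.yon (Spec (CommRingCat.of k))).obj (Over.mk (𝟙 _)))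
    (hp : AlgSp.LocP @LocallyOfFiniteType p) (hd : AlgSp.dim X.obj = 0) :
    ∃ (U : Over (Spec (CommRingCat.of k))) (_ : (AlgSp.yon (Spec (CommRingCat.of k))).obj U ≅ X.obj), U.left.IsSeparated ∧
      ∀ V : U.left.Opens, IsCompact (V : Set ↥U.left) → IsAffineOpen V := by
  have hlqf : AlgSp.LocP (@LocallyQuasiFinite ⊓ @LocallyOfFiniteType :
      MorphismProperty Scheme.{u}) p := by
    obtain ⟨U, a, ha, has⟩ := X.property.atlas
    have comm : a ≫ p = (AlgSp.yon _).map (Over.homMk U.hom : U ⟶ Over.mk (𝟙 _)) ≫ 𝟙 _ :=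
      (Groth.Agent.H52.GeomConn.isTerminalYon _).hom_ext _ _
    have hlft : LocallyOfFiniteType U.hom :=
      hp a (𝟙 _) (Over.homMk U.hom : U ⟶ Over.mk (𝟙 _)) ha (AlgSp.repWith_id _ _) comm
    have hdim : topologicalKrullDim ↥U.left ≤ 0 := by
      rw [← hd]
      exact le_iSup_of_le U (le_iSup_of_le a (le_iSup_of_le ha le_rfl))
    have hq : LocallyQuasiFinite U.hom :=
      Groth.Agent.H52.LqfField.lqf_of_lft_of_dim_le_zero k U.hom hdim
    exact Groth.Agent.H50.goodClass_lqf.locP_of_one_chart p a (𝟙 _)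
      (Over.homMk U.hom : U ⟶ Over.mk (𝟙 _)) ha has (AlgSp.repWith_id _ _) comm ⟨hq, hlft⟩
  obtain ⟨G, ⟨e⟩⟩ := Groth.Agent.H52.LqfField.exists_iso_yon_of_lqf_field k X.property p hlqf
  have hG := Groth.Agent.H52.LqfField.lqf_hom_of_chart k p hlqf e.hom
    (MorphismProperty.of_isIso _ e.hom)
  have : LocallyQuasiFinite G.hom := hG.1
  refine ⟨G, e, ?_, fun V hV => Groth.Agent.H52.LqfField.isAffineOpen_of_lqf_field k G.hom V hV⟩
  have : IsSeparated G.hom := Groth.Agent.H52.LqfField.isSeparated_of_lqf_field k G.hom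
  constructor
  rw [← terminal.comp_from G.hom]
  infer_instance

end Groth.Agent.S10451
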