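import Groth.Statements.S10455
import Groth.Agent.H51.DimIneq2
import Groth.Agent.H51.SpDim
import Groth.Agent.H51.ResTrdeg2
import Groth.Agent.H51.SpFibreNoeth2

set_option autoImplicit false
universe u
open CategoryTheory CategoryTheory.Limits AlgebraicGeometry Topology TopologicalSpace
open AlgSp

namespace Groth.Agent.S10455

/-- Let f : X ⟶ Y be a morphism of algebraic spaces over a scheme S which is locally of finite type,
with Y locally Noetherian, and let y be a point of Y of codimension at most 1. If every codimension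
0 point x of X whose image specializes to y has transcendence degree 0 over its image, then every
point of X mapping to y is a point where f is quasi-finite. -/
theorem result {S : Scheme.{u}} {X Y : AlgSp.Space S} (f : X ⟶ Y)
    (hf : AlgSp.LocP @LocallyOfFiniteType f.hom) (hY : AlgSp.IsLocNoethSp Y.obj) (y : AlgSp.Points Y.obj)
    (hy : AlgSp.HasAt (fun U u => ringKrullDim ↥(U.presheaf.stalk u) ≤ 1) Y.obj y)
    (h : ∀ x : AlgSp.Points X.obj, AlgSp.HasAt (fun U u => ringKrullDim ↥(U.presheaf.stalk u) = 0) X.obj x → AlgSp.Points.map f.hom x ⤳ y →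
      AlgSp.HasAtMor (fun _ _ h u => Dual3.resTrdeg h u = 0) f.hom x)
    (x : AlgSp.Points X.obj) (hx : AlgSp.Points.map f.hom x = y) :
    AlgSp.HasAtMor (fun U _ h u => ∃ W : U.Opens, u ∈ W ∧ LocallyQuasiFinite (W.ι ≫ h) ∧ LocallyOfFiniteType (W.ι ≫ h)) f.hom x := by
  obtain ⟨U, V, p, q, k, u, hpE, hqE, e, hu⟩ := Groth.Agent.H51.exists_chart_diagram f x
  have : LocallyOfFiniteType k.left := hf p q k hpE hqE e
  have : IsLocallyNoetherian V.left :=
    Groth.Agent.H51.isLocallyNoetherian_of_isLocNoethSp hY q hqE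
  have hpt : Points.ofPt q (k.left u) = y := by
    rw [← hx, ← hu, Points.map_ofPt, e, Groth.Agent.H51.ofPt_map_comp]
  have hv : ringKrullDim (V.left.presheaf.stalk (k.left u)) ≤ 1 := by
    obtain ⟨V₀, b₀, v₀, hb₀, hv₀, hd₀⟩ := hy
    have h1 : AlgSp.HasAt (fun U u => ringKrullDim ↥(U.presheaf.stalk u) =
        ringKrullDim (V₀.left.presheaf.stalk v₀)) Y.obj y := ⟨V₀, b₀, v₀, hb₀, hv₀, rfl⟩
    rw [((Groth.Agent.H51.s10248 Y y _).1 h1) V q (k.left u) hqE hpt]
    exact hd₀
  have hq := Groth.Agent.H51.quasiFiniteAt_of_codim_le_one k.left u hv (by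
    intro ξ hξ h0
    have hsp : Points.map f.hom (Points.ofPt p ξ) ⤳ y := by
      rw [← hx, ← hu]
      exact (hξ.map (Points.continuous_ofPt p)).map (Points.continuous_map f.hom)
    have h1 := h (Points.ofPt p ξ) ⟨U, p, ξ, hpE, rfl, h0⟩ hsp
    exact Groth.Agent.H51.hasAtMor_resTrdeg_unique f (Points.ofPt p ξ) _ 0
      ⟨U, V, p, q, k, ξ, hpE, hqE, e, rfl, rfl⟩ h1)
  exact ⟨U, V, p, q, k, u, hpE, hqE, e, hu, (Groth.Agent.H53.qfAt_iff_quasiFiniteAt k.left u).2 hq⟩

end Groth.Agent.S10455
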