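import Groth.Statements.S10649
import Groth.Agent.S10260
import Groth.Agent.S9955
import Groth.Agent.S9948
import Groth.Agent.S9905
import Groth.Agent.H51.SpProper
import Groth.Agent.H50.Points
import Mathlib.AlgebraicGeometry.ZariskisMainTheorem

set_option autoImplicit false
universe u
open CategoryTheory CategoryTheory.Limits AlgebraicGeometry
open AlgSp

namespace Groth.Agent.S10649

/-- The following conditions on a morphism f : X ⟶ Y of algebraic spaces over S are equivalent: (1)
finiteness of f; (2) f is locally quasi-finite as well as proper (locally quasi-finite and locally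
of finite type etale locally); (3) f is proper and for every field k and every k-point Spec k ⟶ Y
the fibre X_k (any pullback of f along it in fppf sheaves) has discrete space of points; (4) f is
universally closed, separated and locally of finite type, and every such fibre X_k has discrete
space of points. -/
theorem result {S : Scheme.{u}} {X Y : AlgSp.Space S} (f : X ⟶ Y) :
    [AlgSp.IsFiniteMor f.hom,
      AlgSp.IsProperMor f.hom ∧ AlgSp.LocP (@LocallyQuasiFinite ⊓ @LocallyOfFiniteType) f.hom,
      AlgSp.IsProperMor f.hom ∧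
        ∀ (k : AlgSp.FieldPt Y.obj) (Xk : AlgSp.Sp S) (fst : Xk ⟶ X.obj) (snd : Xk ⟶ (AlgSp.yon S).obj k.pt),
          IsPullback fst snd f.hom k.toHom → DiscreteTopology (AlgSp.Points Xk),
      AlgSp.IsUnivClosedMor f.hom ∧ AlgSp.IsSeparatedMor f.hom ∧ AlgSp.LocP @LocallyOfFiniteType f.hom ∧
        ∀ (k : AlgSp.FieldPt Y.obj) (Xk : AlgSp.Sp S) (fst : Xk ⟶ X.obj) (snd : Xk ⟶ (AlgSp.yon S).obj k.pt),
          IsPullback fst snd f.hom k.toHom → DiscreteTopology (AlgSp.Points Xk)].TFAE := by
  have qf_case : (@LocallyQuasiFinite ⊓ @LocallyOfFiniteType : MorphismProperty Scheme.{u}) =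
        @LocallyOfFiniteType ∨
      (@LocallyQuasiFinite ⊓ @LocallyOfFiniteType : MorphismProperty Scheme.{u}) =
        @LocallyOfFinitePresentation ∨
      (@LocallyQuasiFinite ⊓ @LocallyOfFiniteType : MorphismProperty Scheme.{u}) = @Flat ∨
      (@LocallyQuasiFinite ⊓ @LocallyOfFiniteType : MorphismProperty Scheme.{u}) = @Smooth ∨
      (@LocallyQuasiFinite ⊓ @LocallyOfFiniteType : MorphismProperty Scheme.{u}) = @Etale ∨
      (∀ ⦃A B : Scheme.{u}⦄ (g : A ⟶ B),
        (@LocallyQuasiFinite ⊓ @LocallyOfFiniteType : MorphismProperty Scheme.{u}) g ↔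
          (LocallyQuasiFinite g ∧ LocallyOfFiniteType g)) ∨
      (∀ ⦃A B : Scheme.{u}⦄ (g : A ⟶ B),
        (@LocallyQuasiFinite ⊓ @LocallyOfFiniteType : MorphismProperty Scheme.{u}) g ↔
          (LocallyOfFiniteType g ∧ FormallyUnramified g)) :=
    Or.inr (Or.inr (Or.inr (Or.inr (Or.inr (Or.inl (fun _ _ g => Iff.rfl))))))
  -- the two forms of the fibre condition
  have hD : (∀ (k : AlgSp.FieldPt Y.obj) (Xk : AlgSp.Sp S) (fst : Xk ⟶ X.obj)
        (snd : Xk ⟶ (AlgSp.yon S).obj k.pt),
        IsPullback fst snd f.hom k.toHom → DiscreteTopology (AlgSp.Points Xk)) ↔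
      (∀ (k : Type u) [Field k] (str : Spec (CommRingCat.of k) ⟶ S)
        (y : (AlgSp.yon S).obj (Over.mk str) ⟶ Y.obj)
        (P : AlgSp.Sp S) (fst : P ⟶ X.obj) (snd : P ⟶ (AlgSp.yon S).obj (Over.mk str)),
        IsPullback fst snd f.hom y → DiscreteTopology (AlgSp.Points P)) := by
    constructor
    · intro h k _ str y P fst snd sq
      refine h (Groth.Agent.H50.fieldPtOfHom str y) P fst snd ?_
      rw [Groth.Agent.H50.toHom_fieldPtOfHom]
      exact sq
    · intro h k Xk fst snd sq
      exact h k.K k.str k.toHom Xk fst snd sq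
  tfae_have 1 → 2 := by
    intro h
    have r : AlgSp.RepWith @IsFinite f.hom := (Groth.Agent.H51.s10267 f).2.1 h
    refine ⟨((Groth.Agent.H51.s10271 f).1 h).2, ?_⟩
    exact (Groth.Agent.S9948.result _ qf_case f r.rep).2 (Groth.Agent.H49.repWith_of_le
      (fun _ _ g hg => by
        have : IsFinite g := hg
        exact ⟨(inferInstance : LocallyQuasiFinite g), (inferInstance : LocallyOfFiniteType g)⟩) r)
  tfae_have 2 → 3 := by
    rintro ⟨hp, hq⟩
    exact ⟨hp, hD.2 ((Groth.Agent.S9955.result f hp.2.1.1).1 hq)⟩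
  tfae_have 3 → 4 := by
    rintro ⟨⟨hsep, ⟨hlft, -⟩, huc⟩, hd⟩
    exact ⟨huc, hsep, hlft, hd⟩
  tfae_have 4 → 1 := by
    rintro ⟨huc, hsep, hlft, hd⟩
    have hq : AlgSp.LocP (@LocallyQuasiFinite ⊓ @LocallyOfFiniteType) f.hom :=
      (Groth.Agent.S9955.result f hlft).2 (hD.1 hd)
    have hrep : AlgSp.Representable f.hom := Groth.Agent.S10260.result f hq hsep
    have r1 : AlgSp.RepWith @UniversallyClosed f.hom :=
      Groth.Agent.H49.repWith_universallyClosed_of_isUnivClosedMor hrep huc
    have r2 : AlgSp.RepWith @IsSeparated f.hom := (Groth.Agent.S9905.result f hrep).1.1 hsep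
    have r3 : AlgSp.RepWith (@LocallyQuasiFinite ⊓ @LocallyOfFiniteType) f.hom :=
      (Groth.Agent.S9948.result _ qf_case f hrep).1 hq
    refine (Groth.Agent.H51.s10267 f).2.2 ⟨hrep, fun T V g fst snd sq => ?_⟩
    have a1 : UniversallyClosed snd.left := r1.property g fst snd sq
    have a2 : IsSeparated snd.left := r2.property g fst snd sq
    have a3 : LocallyQuasiFinite snd.left := (r3.property g fst snd sq).1
    have a4 : LocallyOfFiniteType snd.left := (r3.property g fst snd sq).2
    have a5 : IsProper snd.left := {}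
    exact IsFinite.of_isProper_of_locallyQuasiFinite snd.left
  tfae_finish

end Groth.Agent.S10649
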