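import Groth.Statements.S10650
import Groth.Agent.S10649
import Groth.Agent.H53.ZMT.QfLocus
import Groth.Agent.H50.ProperImage
import Groth.Agent.H51.SpProper

set_option autoImplicit false
universe u
open CategoryTheory CategoryTheory.Limits AlgebraicGeometry
open AlgSp

namespace Groth.Agent.S10650

/-- For a proper morphism f : X ⟶ Y of algebraic spaces over S and a point y of |Y| such that f is
quasi-finite at every point of |X| lying over y (for each such point some etale chart diagram
through it has top arrow locally quasi-finite and locally of finite type on an open neighbourhood),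
there is an open subspace V of Y containing y such that the base change X ×_Y V ⟶ V is finite. -/
theorem result {S : Scheme.{u}} {X Y : AlgSp.Space S} (f : X ⟶ Y) (y : AlgSp.Points Y.obj)
    (hf : AlgSp.IsProperMor f.hom)
    (hq : ∀ x : AlgSp.Points X.obj, AlgSp.Points.map f.hom x = y →
      AlgSp.HasAtMor (fun U _ h u => ∃ W : U.Opens, u ∈ W ∧ LocallyQuasiFinite (W.ι ≫ h) ∧ LocallyOfFiniteType (W.ι ≫ h)) f.hom x) :
    ∃ (V : AlgSp.Space S) (j : V ⟶ Y), AlgSp.RepWith @IsOpenImmersion j.hom ∧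
      y ∈ Set.range (AlgSp.Points.map j.hom) ∧
        ∀ (P : AlgSp.Space S) (fst : P ⟶ X) (snd : P ⟶ V), IsPullback fst.hom snd.hom f.hom j.hom →
          AlgSp.IsFiniteMor snd.hom := by
  have hf' := hf
  obtain ⟨hsep, ⟨hlft, hqc⟩, huc⟩ := hf
  have hcl : IsClosedMap (AlgSp.Points.map f.hom) :=
    Groth.Agent.H50.isClosedMap_of_isUnivClosedMor Y.property f.hom huc
  have hWqo : IsOpen {x : AlgSp.Points X.obj | AlgSp.HasAtMor Groth.Agent.H53.ZMT.QfAt f.hom x} :=
    Groth.Agent.H53.ZMT.isOpen_hasAtMor_qfAt f.hom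
  have hO : IsOpen (AlgSp.Points.map f.hom ''
      {x : AlgSp.Points X.obj | AlgSp.HasAtMor Groth.Agent.H53.ZMT.QfAt f.hom x}ᶜ)ᶜ :=
    (hcl _ hWqo.isClosed_compl).isOpen_compl
  have hy : y ∈ (AlgSp.Points.map f.hom ''
      {x : AlgSp.Points X.obj | AlgSp.HasAtMor Groth.Agent.H53.ZMT.QfAt f.hom x}ᶜ)ᶜ := by
    rintro ⟨x, hx, rfl⟩
    exact hx (hq x rfl)
  refine ⟨⟨Groth.Agent.H51.openSubSp Y.obj _, Groth.Agent.H51.isAlgSpace_openSubSp Y.property _ hO⟩,
    ObjectProperty.homMk (Groth.Agent.H51.openSubι Y.obj _),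
    Groth.Agent.H51.repWith_isOpenImmersion_openSubι _ hO, ?_, ?_⟩
  · change y ∈ Set.range (AlgSp.Points.map (Groth.Agent.H51.openSubι Y.obj _))
    rw [Groth.Agent.H51.range_map_openSubι]
    exact hy
  · intro P fst snd sq
    have hprop : AlgSp.IsProperMor snd.hom := Groth.Agent.H51.s10275 f _ fst snd sq hf'
    have hlqf : AlgSp.LocP (@LocallyQuasiFinite ⊓ @LocallyOfFiniteType) snd.hom := by
      refine Groth.Agent.H53.ZMT.locP_lqf_of_forall_hasAtMor P.property
        (Groth.Agent.H51.isAlgSpace_openSubSp Y.property _ hO) snd.hom (fun x' => ?_)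
      refine Groth.Agent.H53.ZMT.hasAtMor_qfAt_of_isPullback X.property Y.property P.property
        (Groth.Agent.H51.isAlgSpace_openSubSp Y.property _ hO) sq x' ?_
      by_contra hcon
      have hmem : AlgSp.Points.map (Groth.Agent.H51.openSubι Y.obj _) (AlgSp.Points.map snd.hom x') ∈
          Set.range (AlgSp.Points.map (Groth.Agent.H51.openSubι Y.obj (AlgSp.Points.map f.hom ''
            {x : AlgSp.Points X.obj | AlgSp.HasAtMor Groth.Agent.H53.ZMT.QfAt f.hom x}ᶜ)ᶜ)) :=
        ⟨_, rfl⟩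
      rw [Groth.Agent.H51.range_map_openSubι] at hmem
      refine hmem ⟨AlgSp.Points.map fst.hom x', hcon, ?_⟩
      rw [← AlgSp.Points.map_comp, ← AlgSp.Points.map_comp]
      congr 1
      exact sq.w
    have hiff : (AlgSp.IsProperMor snd.hom ∧
        AlgSp.LocP (@LocallyQuasiFinite ⊓ @LocallyOfFiniteType) snd.hom) → AlgSp.IsFiniteMor snd.hom :=
      ((Groth.Agent.S10649.result snd).out 1 0).1
    exact hiff ⟨hprop, hlqf⟩

end Groth.Agent.S10650
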