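import Groth.Statements.S10459
import Groth.Agent.S10324
import Groth.Agent.H52.JacobsonSp

set_option autoImplicit false
universe u
open CategoryTheory CategoryTheory.Limits AlgebraicGeometry Topology TopologicalSpace
open AlgSp

namespace Groth.Agent.S10459

/-- Let f : X ⟶ Y be a dominant morphism locally of finite type between integral algebraic spaces over a
scheme S, with Y locally Noetherian, and let r be the transcendence degree of the generic point of X
over its image (the generic point of Y). Then dim X ≤ dim Y + r. -/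
theorem result {S : Scheme.{u}} {X Y : AlgSp.Space S} (f : X ⟶ Y)
    (hY : AlgSp.IsLocNoethSp Y.obj) (hXi : AlgSp.IsIntegralSp X.obj) (hYi : AlgSp.IsIntegralSp Y.obj)
    (hd : AlgSp.IsDominantMor f.hom) (hft : AlgSp.LocP @LocallyOfFiniteType f.hom)
    (x : AlgSp.Points X.obj) (hx : IsGenericPoint x (Set.univ : Set (AlgSp.Points X.obj))) (r : ℕ)
    (hr : AlgSp.HasAtMor (fun _ _ h u => Dual3.resTrdeg h u = (r : Cardinal.{u})) f.hom x) :
    AlgSp.dim X.obj ≤ AlgSp.dim Y.obj + ((r : ℕ∞) : WithBot ℕ∞) := by
  have key := Groth.Agent.S10324.result f hY hft (r : Cardinal.{u}) (by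
    intro ξ hξ s hs
    obtain ⟨U, p, u, hpE, hu, h0⟩ := hξ
    have hxξ : x ⤳ Points.ofPt p u := by
      rw [specializes_iff_mem_closure, hx.def]
      exact Set.mem_univ _
    obtain ⟨u', hu'u, hu'⟩ :=
      Groth.Agent.H52.generalizingMap_ofPt_of_isDecent hXi.2.1 p hpE hxξ
    have hmax : IsMax u := by
      rw [ringKrullDim_stalk_eq_coheight] at h0
      have h1 : Order.coheight u = 0 := by exact_mod_cast h0
      exact Order.coheight_eq_zero.1 h1
    have huu' : u ⤳ u' := hmax hu'u
    have heq : u' = u := (hu'u.antisymm huu').eq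
    have hξx : ξ = x := by rw [← hu, ← hu', heq]
    subst hξx
    have := Groth.Agent.H51.hasAtMor_resTrdeg_unique f ξ s (r : Cardinal.{u}) hs hr
    exact this.le)
  simpa using key

end Groth.Agent.S10459
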