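import Groth.Statements.S1046
import Groth.Agent.H30.RpushQC.RgammaZQC
import Groth.Agent.H30.RpushQC.RgammaZSupp

set_option autoImplicit false
universe u
open CategoryTheory CategoryTheory.Limits AlgebraicGeometry
attribute [local instance] HasDerivedCategory.standard
open Perf

namespace Groth.Agent.S1046

/-- Let U ⊆ X be an open subscheme with quasi-compact inclusion and T = X ∖ U. Assuming O_X-modules have
enough injectives (true, not recorded), for every bounded below E ∈ D(O_X) with quasi-coherent
cohomology sheaves, the derived sections with support RΓ_T(E) (right derived functor of F ↦ ker(F →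
j_*(F|_U))) has quasi-coherent cohomology sheaves, all supported on T. -/
theorem result (X : Scheme.{u}) (U : X.Opens) [QuasiCompact U.ι] [EnoughInjectives X.Modules]
    (E : DerivedCategory.Plus X.Modules) (hE : DCoh.IsQCohD E.obj) :
    DCoh.IsQCohD ((DCoh.RgammaZPlus U.ι).obj E).obj ∧
    ∀ i : ℤ, CohB1.support (DCoh.HD ((DCoh.RgammaZPlus U.ι).obj E).obj i) ⊆ (U : Set X)ᶜ := by
  refine ⟨Groth.Agent.H30.RpushQC.isQCohD_RgammaZPlus U.ι E hE, fun i => ?_⟩
  have h := Groth.Agent.H30.RpushQC.support_HD_RgammaZPlus_subset U.ι E i
  rwa [Scheme.Opens.opensRange_ι] at h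

end Groth.Agent.S1046
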