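import Groth.Statements.S10481
import Groth.Agent.H52.GeomRed

set_option autoImplicit false
universe u
open CategoryTheory CategoryTheory.Limits AlgebraicGeometry Topology TopologicalSpace
open AlgSp

namespace Groth.Agent.S10481

/-- Let k be a field, f : X ⟶ Y a morphism of algebraic spaces over k and x a point of X at which f is
etale. Then X is geometrically reduced at x if and only if Y is geometrically reduced at the image
of x. -/
theorem result (k : Type u) [Field k] {X Y : AlgSp.Space (Spec (CommRingCat.of k))} (f : X ⟶ Y)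
    (x : AlgSp.Points X.obj)
    (he : AlgSp.HasAtMor (fun U _ h u => ∃ W : U.Opens, u ∈ W ∧ Etale (W.ι ≫ h)) f.hom x) :
    (∃ (U : Over (Spec (CommRingCat.of k))) (a : (AlgSp.yon (Spec (CommRingCat.of k))).obj U ⟶ X.obj) (u : ↥U.left),
      AlgSp.RepWith @Etale a ∧ AlgSp.Points.ofPt a u = x ∧ FBase.IsGeomReducedAt U.hom u) ↔ (∃ (U : Over (Spec (CommRingCat.of k))) (a : (AlgSp.yon (Spec (CommRingCat.of k))).obj U ⟶ Y.obj) (u : ↥U.left),
      AlgSp.RepWith @Etale a ∧ AlgSp.Points.ofPt a u = (AlgSp.Points.map f.hom x) ∧ FBase.IsGeomReducedAt U.hom u) := by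
  obtain ⟨U, V, a, b, h, u, ha, hb, hcomm, hu, W, huW, hW⟩ := he
  have haW := Groth.Agent.H52.repWith_etale_restrict a ha W
  have huW' : AlgSp.Points.ofPt ((AlgSp.yon _).map (Groth.Agent.H52.openIncl U W) ≫ a)
      (⟨u, huW⟩ : W) = x := by
    rw [Groth.Agent.H52.ofPt_yon_map_comp]; exact hu
  have hbv : AlgSp.Points.ofPt b (h.left u) = AlgSp.Points.map f.hom x := by
    rw [← Groth.Agent.H52.ofPt_yon_map_comp, ← hcomm, ← AlgSp.Points.map_ofPt, hu]
  have key := Groth.Agent.H52.isGeomReducedAt_iff_of_etale (W.ι ≫ h.left) V.hom (⟨u, huW⟩ : W)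
  have hstr : (W.ι ≫ h.left) ≫ V.hom = W.ι ≫ U.hom := by rw [Category.assoc, Over.w h]
  rw [hstr] at key
  have hpt : (W.ι ≫ h.left) (⟨u, huW⟩ : W) = h.left u := rfl
  rw [hpt] at key
  constructor
  · rintro ⟨U₁, a₁, u₁, ha₁, hu₁, hG⟩
    refine ⟨V, b, h.left u, hb, hbv, key.1 ?_⟩
    exact (Groth.Agent.H52.isGeomReducedAt_chart_iff a₁ ha₁ _ haW u₁ (⟨u, huW⟩ : W)
      (hu₁.trans huW'.symm)).1 hG
  · rintro ⟨V₁, b₁, v₁, hb₁, hv₁, hG⟩
    refine ⟨Over.mk (W.ι ≫ U.hom), _, (⟨u, huW⟩ : W), haW, huW', key.2 ?_⟩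
    exact (Groth.Agent.H52.isGeomReducedAt_chart_iff b₁ hb₁ b hb v₁ (h.left u)
      (hv₁.trans hbv.symm)).1 hG

end Groth.Agent.S10481
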