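import Groth.Statements.S10483
import Groth.Agent.H52.LqfField

set_option autoImplicit false
universe u
open CategoryTheory CategoryTheory.Limits AlgebraicGeometry Topology TopologicalSpace
open AlgSp

namespace Groth.Agent.S10483

/-- (1) ⇔ (5): let k be a field and X an algebraic space over k. Then X is locally quasi-finite over k
if and only if X decomposes as a disjoint union of spectra of finite-dimensional Artinian local
k-algebras: X is a scheme every point of which has an affine open neighbourhood with Artinian local
coordinate ring, finite over k. -/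
theorem result (k : Type u) [Field k] (X : AlgSp.Space (Spec (CommRingCat.of k))) (p : X.obj ⟶ (AlgSp.yon (Spec (CommRingCat.of k))).obj (Over.mk (𝟙 _))) :
    AlgSp.LocP (@LocallyQuasiFinite ⊓ @LocallyOfFiniteType : MorphismProperty Scheme.{u}) p ↔
      ∃ (U : Over (Spec (CommRingCat.of k))) (_ : (AlgSp.yon (Spec (CommRingCat.of k))).obj U ≅ X.obj), ∀ u : ↥U.left, ∃ V : U.left.Opens,
        u ∈ V ∧ IsAffineOpen V ∧ IsArtinianRing ↥Γ(U.left, V) ∧ IsLocalRing ↥Γ(U.left, V) ∧
          IsFinite (V.ι ≫ U.hom) := by
  constructor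
  · intro hp
    obtain ⟨G, ⟨e⟩⟩ := Groth.Agent.H52.LqfField.exists_iso_yon_of_lqf_field k X.property p hp
    have hG := Groth.Agent.H52.LqfField.lqf_hom_of_chart k p hp e.hom
      (MorphismProperty.of_isIso _ e.hom)
    have : LocallyQuasiFinite G.hom := hG.1
    exact ⟨G, e, fun u => Groth.Agent.H52.LqfField.exists_artinian_local_nbhd k G u⟩
  · rintro ⟨G, e, h⟩
    choose V hV using h
    have hcov : iSup V = ⊤ := by
      ext x
      simp only [TopologicalSpace.Opens.coe_iSup, Set.mem_iUnion, SetLike.mem_coe,
        TopologicalSpace.Opens.coe_top, Set.mem_univ, iff_true]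
      exact ⟨x, (hV x).1⟩
    have h1 : LocallyQuasiFinite G.hom := by
      refine IsZariskiLocalAtSource.of_iSup_eq_top (P := @LocallyQuasiFinite) V hcov fun u => ?_
      have := (hV u).2.2.2.2
      infer_instance
    have h2 : LocallyOfFiniteType G.hom := by
      refine IsZariskiLocalAtSource.of_iSup_eq_top (P := @LocallyOfFiniteType) V hcov fun u => ?_
      have := (hV u).2.2.2.2
      infer_instance
    refine Groth.Agent.H50.goodClass_lqf.locP_of_one_chart p e.hom (𝟙 _)
      (Over.homMk G.hom : G ⟶ Over.mk (𝟙 _)) (MorphismProperty.of_isIso _ e.hom)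
      (MorphismProperty.of_isIso _ e.hom) (AlgSp.repWith_id _ _)
      ((Groth.Agent.H52.GeomConn.isTerminalYon _).hom_ext _ _) ⟨h1, h2⟩

end Groth.Agent.S10483
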