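import Groth.Statements.S10486
import Groth.Agent.H52.TrdegSpec
import Groth.Agent.H52.GenericQF

set_option autoImplicit false
universe u
open CategoryTheory CategoryTheory.Limits AlgebraicGeometry Topology TopologicalSpace
open AlgSp

namespace Groth.Agent.S10486

/-- (1) ⇔ (5): let f : X ⟶ Y be a dominant morphism locally of finite type between integral algebraic
spaces over a scheme S, with generic points x and y. Then the transcendence degree of x over y is 0
if and only if x is the only point of X mapping to y. -/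
theorem result {S : Scheme.{u}} {X Y : AlgSp.Space S} (hXi : AlgSp.IsIntegralSp X.obj) (hYi : AlgSp.IsIntegralSp Y.obj)
    (f : X ⟶ Y) (hft : AlgSp.LocP @LocallyOfFiniteType f.hom) (hd : AlgSp.IsDominantMor f.hom)
    (x : AlgSp.Points X.obj) (hx : IsGenericPoint x (Set.univ : Set (AlgSp.Points X.obj)))
    (y : AlgSp.Points Y.obj) (hy : IsGenericPoint y (Set.univ : Set (AlgSp.Points Y.obj))) :
    AlgSp.HasAtMor (fun _ _ h u => Dual3.resTrdeg h u = 0) f.hom x ↔ (∀ x' : AlgSp.Points X.obj, AlgSp.Points.map f.hom x' = y → x' = x) := by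
  open Groth.Agent Groth.Agent.H52 Groth.Agent.H52.CZ Groth.Agent.H52.QFAt in
  constructor
  · rintro ⟨U₂, V₂, a₂, b₂, h₂, u₂, ha₂, hb₂, e₂, hu₂, ht⟩ x' hx'
    obtain ⟨U, a, ha, has⟩ := X.property.atlas
    obtain ⟨V, b, hb, hbs⟩ := Y.property.atlas
    obtain ⟨W, a', h, ha', has', e⟩ := exists_chart_diagram f.hom a ha has b hb hbs
    have hsurj := H51.surjective_ofPt_of_surjective a' has'
    have hXd : IsDecent X.obj := hXi.2.1
    have hYd : IsDecent Y.obj := hYi.2.1
    have hT0X : T0Space (Points X.obj) := t0Space_points_of_isDecent hXd a ha has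
    have hT0Y : T0Space (Points Y.obj) := t0Space_points_of_isDecent hYd b hb hbs
    have hfx : Points.map f.hom x = y := by
      refine IsGenericPoint.eq ?_ hy
      change closure {Points.map f.hom x} = Set.univ
      rw [← Set.univ_subset_iff, ← hd.closure_range]
      refine closure_minimal ?_ isClosed_closure
      rintro _ ⟨x', rfl⟩
      have hs : x ⤳ x' := by
        rw [specializes_iff_mem_closure, hx.def]; trivial
      exact specializes_iff_mem_closure.1 (hs.map (Points.continuous_map f.hom))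
    obtain ⟨w', rfl⟩ := hsurj x'
    have hs : x ⤳ Points.ofPt a' w' := by
      rw [specializes_iff_mem_closure, hx.def]; trivial
    obtain ⟨p, hp, -, hpq⟩ := hXd x
    obtain ⟨w₁, hw₁s, hw₁⟩ := exists_specializes_lift _ x hs p hp hpq a' ha' w' rfl
    have hv : h.left w' = h.left w₁ := by
      refine eq_of_specializes_of_isDecent hYd b hb _ _ ?_ (hw₁s.map h.left.continuous)
      rw [← map_ofPt_chart f.hom a' b h e, ← map_ofPt_chart f.hom a' b h e, hw₁, hx', hfx]
    have ht₁ : Dual3.resTrdeg h.left w₁ = 0 := by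
      rw [H51.resTrdeg_chart_indep f a' b h a₂ b₂ h₂ ha' hb ha₂ hb₂ e e₂ w₁ u₂
        (hw₁.trans hu₂.symm)]
      exact ht
    rw [← TrdegSpec.eq_of_specializes_of_resTrdeg_zero h.left w₁ w' hw₁s hv.symm ht₁, hw₁]
  · intro huniq
    obtain ⟨U₂, V₂, a₂, b₂, h₂, u₂, ha₂, hb₂, e₂, hu₂, hq⟩ :=
      (CZ.s10485 hXi hYi f hft hd x hx y hy).2 huniq
    exact ⟨U₂, V₂, a₂, b₂, h₂, u₂, ha₂, hb₂, e₂, hu₂,
      H51.resTrdeg_eq_zero_of_quasiFiniteAt _ _ (quasiFiniteAt_of_qfNear h₂.left u₂ hq)⟩

end Groth.Agent.S10486
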