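import Groth.Statements.S10489
import Groth.Agent.H53.SmoothFieldRegular

set_option autoImplicit false
universe u
open CategoryTheory CategoryTheory.Limits AlgebraicGeometry Topology TopologicalSpace
open AlgSp

namespace Groth.Agent.S10489

/-- Let k be a field and X an algebraic space which is smooth over k. Then X is regular as an algebraic
space. -/
theorem result (k : Type u) [Field k] (X : AlgSp.Space (Spec (CommRingCat.of k))) (p : X.obj ⟶ (AlgSp.yon (Spec (CommRingCat.of k))).obj (Over.mk (𝟙 _))) (hp : AlgSp.LocP @Smooth p) :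
    AlgSp.EtaleLocally (fun U => IsLocallyNoetherian U ∧ ∀ u : ↥U, IsRegularLocalRing ↥(U.presheaf.stalk u)) X.obj := by
  obtain ⟨U, a, hae, has⟩ := X.property.atlas
  refine ⟨U, a, hae, has, ?_⟩
  have hcomm : a ≫ p = (AlgSp.yon (Spec (CommRingCat.of k))).map (Over.homMk U.hom (by simp) : U ⟶ Over.mk (𝟙 _)) ≫
      𝟙 _ := by
    rw [Category.comp_id]
    obtain ⟨g, hg⟩ := (AlgSp.yon (Spec (CommRingCat.of k))).map_surjective (a ≫ p)
    rw [← hg]
    congr 1
    ext
    have := Over.w g
    simpa using this
  have hsm : Smooth U.hom :=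
    hp a (𝟙 _) (Over.homMk U.hom (by simp)) hae (AlgSp.repWith_id @Etale _) hcomm
  have hN : IsLocallyNoetherian U.left := LocallyOfFiniteType.isLocallyNoetherian U.hom
  exact ⟨hN, fun u => Groth.Agent.H53.isRegularLocalRing_stalk_of_smooth_field k U.hom u⟩

end Groth.Agent.S10489
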