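import Groth.Statements.S10506
import Groth.Agent.H52.FpqcTop
import Groth.Agent.H52.FlatDescent
import Groth.Agent.H53.LocPBase
import Groth.Agent.H50.LocPClass

set_option autoImplicit false
universe u
open CategoryTheory CategoryTheory.Limits AlgebraicGeometry
open AlgSp

namespace Groth.Agent.S10506

/-- The base change of an fpqc covering of an algebraic space `X` by algebraic spaces along a morphism
of algebraic spaces `X' ⟶ X` is an fpqc covering of `X'`; the base changes `X' ×_X X_i ⟶ X'` are
given as pullback squares of sheaves whose corners `X'_i` are algebraic spaces. -/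
theorem result {S : Scheme.{u}} {X X' : AlgSp.Space S} (a : X' ⟶ X) {ι : Type u}
    (Xi : ι → AlgSp.Space S) (g : ∀ i, Xi i ⟶ X) (Xi' : ι → AlgSp.Space S) (q : ∀ i, Xi' i ⟶ X')
    (p : ∀ i, Xi' i ⟶ Xi i) (sq : ∀ i, IsPullback (q i).hom (p i).hom a.hom (g i).hom)
    (h : AlgSp.IsFpqcCover (fun i => (Xi i).obj) (fun i => (g i).hom)) :
    AlgSp.IsFpqcCover (fun i => (Xi' i).obj) (fun i => (q i).hom) := by
  refine ⟨fun i => ?_, ?_⟩
  · have hG := Groth.Agent.H50.goodClass_flat.{u}
    exact Groth.Agent.H53.locP_of_isPullback @Flat hG.etale_le (fun e h he hes H => hG.src e h he hes H)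
      (Xi i).property X.property X'.property (sq i).flip (h.1 i)
  · exact Groth.Agent.H52.FpqcRefine.baseChange (Yi := fun i => (Xi i).obj)
      (g := fun i => (g i).hom) h.2 a.hom _ _ (fun i => (p i).hom) sq

end Groth.Agent.S10506
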