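import Groth.Statements.S10509
import Groth.Agent.H53.SmoothSection
import Groth.Agent.H53.LocSource
import Groth.Agent.H51.SpUnram

set_option autoImplicit false
universe u
open CategoryTheory CategoryTheory.Limits AlgebraicGeometry
open AlgSp

namespace Groth.Agent.S10509

/-- A smooth covering of an algebraic space `X` over `S` by algebraic spaces can be refined by an etale
covering of `X` by algebraic spaces: there is an etale covering `{U_j ⟶ X}` each member of which
factors through some member of the given smooth covering. -/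
theorem result {S : Scheme.{u}} (X : AlgSp.Space S) {ι : Type u}
    (Xi : ι → AlgSp.Space S) (g : ∀ i, Xi i ⟶ X)
    (h : AlgSp.IsSmCover (fun i => (Xi i).obj) (fun i => (g i).hom)) :
    ∃ (κ : Type u) (U : κ → AlgSp.Space S) (c : ∀ j, U j ⟶ X),
      AlgSp.IsEtCover (fun j => (U j).obj) (fun j => (c j).hom) ∧
      ∀ j, ∃ (i : ι) (r : U j ⟶ Xi i), r ≫ g i = c j := by
  classical
  obtain ⟨V, a, hae, has⟩ := X.property.atlas
  obtain ⟨W, w, Ui, c, r, hc1, hc2, sq, hQ, -⟩ :=
    Groth.Agent.H53.exists_chart_family (P := ⊤) (Q := @Smooth) (fun i => (Xi i).obj)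
      (fun i => (g i).hom) (fun i => (Xi i).property) h.1 (𝟙 X.obj) (fun _ => by
        intro U V a b h ha hb hc; trivial) a a (𝟙 V) hae hae (by simp)
  have hsurjW : ∀ v : ↥V.left, ∃ i, v ∈ Set.range (w i).left :=
    Groth.Agent.H53.chart_family_surjective (fun i => (Xi i).obj) (fun i => (g i).hom) h.2 a W w Ui c r
      hc2 sq
  -- etale-local sections of the smooth maps `w i`
  have key : ∀ (j : Σ i : ι, ↥(W i).left), ∃ (V' : Scheme.{u}) (e : V' ⟶ V.left)
      (σ : V' ⟶ (W j.1).left) (v' : V'), Etale e ∧ σ ≫ (w j.1).left = e ∧ e v' = (w j.1).left j.2 :=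
    fun j => by
      have : Smooth (w j.1).left := hQ j.1
      exact Groth.Agent.H53.exists_etale_section_of_smooth (w j.1).left j.2
  choose V' e σ v' he hσ hv' using key
  let T : (Σ i : ι, ↥(W i).left) → Over S := fun j => Over.mk (e j ≫ V.hom)
  let eo : ∀ j, T j ⟶ V := fun j => Over.homMk (e j) rfl
  let so : ∀ j, T j ⟶ W j.1 := fun j => Over.homMk (σ j) (by
    show σ j ≫ (W j.1).hom = e j ≫ V.hom
    rw [← hσ j, Category.assoc, Over.w])
  have hso : ∀ j, so j ≫ w j.1 = eo j := fun j => by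
    ext
    exact hσ j
  refine ⟨Σ i : ι, ↥(W i).left, fun j => ⟨(AlgSp.yon S).obj (T j), AlgSp.IsAlgSpace.yon_obj _⟩,
    fun j => ObjectProperty.homMk ((AlgSp.yon S).map (eo j) ≫ a), ⟨?_, ?_⟩, ?_⟩
  · intro j
    exact Groth.Agent.H51.isEtaleMor_of_repWith_etale
      (Groth.Agent.H53.repWith_etale_map_comp (eo j) (he j) a hae)
  · intro x
    obtain ⟨v, hv⟩ := Groth.Agent.H53.exists_ofPt_eq_of_repWith_surjective a has x
    obtain ⟨i, t, ht⟩ := hsurjW v
    refine ⟨⟨i, t⟩, AlgSp.Points.ofPt (𝟙 _) (v' ⟨i, t⟩), ?_⟩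
    show AlgSp.Points.map ((AlgSp.yon S).map (eo ⟨i, t⟩) ≫ a) (AlgSp.Points.ofPt (𝟙 _) (v' ⟨i, t⟩)) = x
    rw [AlgSp.Points.map_ofPt, Category.id_comp, Groth.Agent.H53.ofPt_yon_map_comp]
    show AlgSp.Points.ofPt a (e ⟨i, t⟩ (v' ⟨i, t⟩)) = x
    rw [hv' ⟨i, t⟩, ht, hv]
  · intro j
    refine ⟨j.1, ObjectProperty.homMk ((AlgSp.yon S).map (so j) ≫ (AlgSp.yon S).map (r j.1) ≫ c j.1), ?_⟩
    apply ObjectProperty.hom_ext
    show ((AlgSp.yon S).map (so j) ≫ (AlgSp.yon S).map (r j.1) ≫ c j.1) ≫ (g j.1).hom =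
      (AlgSp.yon S).map (eo j) ≫ a
    rw [Category.assoc, Category.assoc, (sq j.1).w, ← Category.assoc, ← Functor.map_comp, hso]

end Groth.Agent.S10509
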