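import Groth.Statements.S10516
import Groth.Agent.H53.LocPBase
import Groth.Agent.H50.LocPClass

set_option autoImplicit false
universe u
open CategoryTheory CategoryTheory.Limits AlgebraicGeometry
open AlgSp

namespace Groth.Agent.S10516

/-- The base change of a ph covering of an algebraic space `X` by algebraic spaces along a morphism of
algebraic spaces `X' ⟶ X` is a ph covering of `X'`; the base changes `X' ×_X X_i ⟶ X'` are given as
pullback squares of sheaves whose corners `X'_i` are algebraic spaces. -/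
theorem result {S : Scheme.{u}} {X X' : AlgSp.Space S} (a : X' ⟶ X) {ι : Type u}
    (Xi : ι → AlgSp.Space S) (g : ∀ i, Xi i ⟶ X) (Xi' : ι → AlgSp.Space S) (q : ∀ i, Xi' i ⟶ X')
    (p : ∀ i, Xi' i ⟶ Xi i) (sq : ∀ i, IsPullback (q i).hom (p i).hom a.hom (g i).hom)
    (h : AlgSp.IsPhCover (fun i => (Xi i).obj) (fun i => (g i).hom)) :
    AlgSp.IsPhCover (fun i => (Xi' i).obj) (fun i => (q i).hom) := by
  refine ⟨fun i => ?_, fun Z hZ t => ?_⟩
  · have hG := Groth.Agent.H50.goodClass_lft.{u}
    exact Groth.Agent.H53.locP_of_isPullback @LocallyOfFiniteType hG.etale_le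
      (fun e h he hes H => hG.src e h he hes H)
      (Xi i).property X.property X'.property (sq i).flip (h.1 i)
  · obtain ⟨F, hF, hl⟩ := h.2 Z hZ (t ≫ a.hom)
    refine ⟨F, hF, fun j => ?_⟩
    obtain ⟨i, l, hl⟩ := hl j
    have hw : ((AlgSp.yon S).map (Over.homMk (F.f j) rfl : Over.mk (F.f j ≫ Z.hom) ⟶ Z) ≫ t) ≫ a.hom =
        l ≫ (g i).hom := by rw [hl, Category.assoc]
    exact ⟨i, (sq i).lift _ _ hw, (sq i).lift_fst _ _ hw⟩

end Groth.Agent.S10516
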