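import Groth.Statements.S10538
import Groth.Agent.S10537
import Groth.Agent.H53.RepWithFpqc
import Groth.Agent.H6.ImmDescent

set_option autoImplicit false
universe u
open CategoryTheory CategoryTheory.Limits AlgebraicGeometry
open AlgSp

namespace Groth.Agent.S10538

/-- The property of morphisms of algebraic spaces over S given by f is a quasi-compact immersion
(representable, every base change to a scheme an immersion of schemes that is quasi-compact) is fpqc
local on the base: for an fpqc covering of an algebraic space Y by algebraic spaces Y_i, a morphism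
f : X ⟶ Y of algebraic spaces and cartesian squares X_i = Y_i ×_Y X, f has the property if and only
if every X_i ⟶ Y_i has it. -/
theorem result (S : Scheme.{u}) :
    AlgSp.IsLocalOnBase (AlgSp.IsFpqcCover (S := S)) (AlgSp.RepWith (@IsImmersion ⊓ @QuasiCompact)) := by
  have hdesc := Groth.Agent.H6.ImmDescent.immersion_qc_descendsAlong.{u}
  intro ι Y Yi g hY hYi hcov X f hX Xi p q hXi hsq
  constructor
  · intro hf i
    exact MorphismProperty.of_isPullback
      (P := AlgSp.RepWith (@IsImmersion ⊓ @QuasiCompact : MorphismProperty Scheme.{u})) (hsq i) hf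
  · intro hp
    have hqa : ∀ i, AlgSp.IsQuasiAffineMor (p i) := by
      intro i Z hZ k
      refine ⟨(hp i).rep.pullback k, (hp i).rep.snd k, (hp i).rep.fst k, (hp i).rep.isPullback k,
        ?_⟩
      have h1 := (hp i).property_snd k
      have h2 : IsImmersion ((hp i).rep.snd k).left := h1.1
      have h3 : QuasiCompact ((hp i).rep.snd k).left := h1.2
      have : IsAffine Z.left := hZ
      have : CompactSpace ((hp i).rep.pullback k).left :=
        (quasiCompact_iff_compactSpace ((hp i).rep.snd k).left).mp h3
      exact Scheme.IsQuasiAffine.of_isImmersion ((hp i).rep.snd k).left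
    have hf : AlgSp.IsQuasiAffineMor f :=
      (Groth.Agent.S10537.result S Yi g hY hYi hcov f hX Xi p q hXi hsq).2 hqa
    have hrep : AlgSp.Representable f :=
      Groth.Agent.H51.representable_of_affine_test f (fun Z hZ k => by
        obtain ⟨W, i, fst, sq, -⟩ := hf hZ k
        exact ⟨W, i, fst, sq⟩)
    exact Groth.Agent.H53.repWith_of_fpqc_cover
      (@IsImmersion ⊓ @QuasiCompact : MorphismProperty Scheme.{u}) Yi g hcov f hrep Xi p q hsq hp

end Groth.Agent.S10538
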