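import Groth.Statements.S10539
import Groth.Agent.H53.RepWithFpqc

set_option autoImplicit false
universe u
open CategoryTheory CategoryTheory.Limits AlgebraicGeometry
open AlgSp

namespace Groth.Agent.S10539

/-- The property of morphisms of algebraic spaces over S given by f is integral (every base change to an
affine scheme is an affine scheme integral over it) is fpqc local on the base: for an fpqc covering
of an algebraic space Y by algebraic spaces Y_i, a morphism f : X ⟶ Y of algebraic spaces and
cartesian squares X_i = Y_i ×_Y X, f has the property if and only if every X_i ⟶ Y_i has it. -/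
theorem result (S : Scheme.{u}) :
    AlgSp.IsLocalOnBase (AlgSp.IsFpqcCover (S := S)) AlgSp.IsIntegralMor := by
  have := Groth.Agent.H1.isIntegralHom_descendsAlong_fpqc.{u}
  have hQ : ∀ {A B : Scheme.{u}} (g : A ⟶ B), @IsIntegralHom A B g → IsAffineHom g := fun g hg => by
    have : IsIntegralHom g := hg
    infer_instance
  exact Groth.Agent.H53.isLocalOnBase_congr
    (fun X Y f => (Groth.Agent.H51.affine_test_iff_repWith @IsIntegralHom hQ f).symm)
    (Groth.Agent.H53.isLocalOnBase_fpqc_repWith_of_affine @IsIntegralHom hQ)

end Groth.Agent.S10539
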