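import Groth.Statements.S10552
import Groth.Agent.H53.FppfOpen

set_option autoImplicit false
universe u
open CategoryTheory CategoryTheory.Limits AlgebraicGeometry
open AlgSp

namespace Groth.Agent.S10552

/-- The property of morphisms of algebraic spaces over S given by f is universally open (every base
change along a morphism from an algebraic space is open on points) is fppf local on the source: for
a morphism f : X ⟶ Y of algebraic spaces and a fppf covering of X by algebraic spaces X_i, f has the
property if and only if every composite X_i ⟶ X ⟶ Y has it. -/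
theorem result (S : Scheme.{u}) :
    AlgSp.IsLocalOnSource (AlgSp.IsFppfCover (S := S)) AlgSp.IsUnivOpenMor := by
  intro ι X Xi g hX hXi hcov Y f hY
  constructor
  · intro hf i Z Z' hZ k fst snd sq
    have sqP := IsPullback.of_hasPullback f k
    have hP : IsAlgSpace (pullback f k) :=
      Groth.Agent.H49.isAlgSpace_of_isPullback sqP hY.diag hX hZ
    obtain ⟨φ, hφ1, hφ2⟩ : ∃ φ : Z' ⟶ pullback f k,
        φ ≫ pullback.fst f k = fst ≫ g i ∧ φ ≫ pullback.snd f k = snd :=
      ⟨sqP.lift (fst ≫ g i) snd (by rw [Category.assoc]; exact sq.w), sqP.lift_fst _ _ _,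
        sqP.lift_snd _ _ _⟩
    have upper : IsPullback fst φ (g i) (pullback.fst f k) := by
      refine IsPullback.of_bot ?_ hφ1.symm sqP
      rw [hφ2]
      exact sq
    have hZ' : IsAlgSpace Z' :=
      Groth.Agent.H49.isAlgSpace_of_isPullback upper hX.diag (hXi i) hP
    have hφo : IsOpenMap (Points.map φ) :=
      Groth.Agent.H53.isOpenMor_of_fppf hZ' hP φ
        (Groth.Agent.H53.locP_flat_of_isPullback (hXi i) hX hP upper (hcov.1 i).1)
        (Groth.Agent.H53.locP_lfp_of_isPullback (hXi i) hX hP upper (hcov.1 i).2)
    have hso : IsOpenMap (Points.map (pullback.snd f k)) := hf hZ k _ _ sqP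
    have := Groth.Agent.H53.isOpenMap_points_comp φ (pullback.snd f k) hφo hso
    rw [hφ2] at this
    exact this
  · intro H Z Z' hZ k fst snd sq
    have hZ' : IsAlgSpace Z' := Groth.Agent.H49.isAlgSpace_of_isPullback sq hY.diag hX hZ
    refine Groth.Agent.H53.isOpenMap_of_family (fun i => pullback (g i) fst)
      (fun i => pullback.snd (g i) fst) ?_ snd ?_
    · intro x
      obtain ⟨i, xi, hxi⟩ := hcov.2 (Points.map fst x)
      obtain ⟨z, -, hz⟩ := Groth.Agent.H53.exists_point_of_isPullback
        (IsPullback.of_hasPullback (g i) fst) xi x hxi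
      exact ⟨i, z, hz⟩
    · intro i
      refine H i hZ k (pullback.fst (g i) fst) _ ?_
      have := (IsPullback.of_hasPullback (g i) fst).paste_vert sq
      exact this

end Groth.Agent.S10552
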