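import Groth.Statements.S10561
import Groth.Agent.H53.ChartSq
import Groth.Agent.H10.WeaklyEtaleReduced
import Groth.Agent.H23.Geometrically

set_option autoImplicit false
universe u
open CategoryTheory CategoryTheory.Limits AlgebraicGeometry
open AlgSp

namespace Groth.Agent.S10561

/-- Let f : X ⟶ Y be a flat and surjective morphism of algebraic spaces over S. If X is reduced then Y
is reduced. -/
theorem result {S : Scheme.{u}} {X Y : AlgSp.Space S} (f : X ⟶ Y)
    (hfl : AlgSp.LocP @Flat f.hom) (hs : AlgSp.IsSurjectiveMor f.hom) (hX : AlgSp.IsReducedSp X.obj) :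
    AlgSp.IsReducedSp Y.obj := by
  obtain ⟨U, a, hae, has, hU⟩ := hX
  obtain ⟨V, b, hbe, hbs⟩ := Y.property.atlas
  refine ⟨V, b, hbe, hbs, ?_⟩
  obtain ⟨Q, q, h, hq, hqa, hcomm, -, hsurj⟩ := Groth.Agent.H53.exists_chart_square f.hom a b hae hbe
  have hQ : IsReduced Q.left := by
    have : Etale q.left := hq
    have : IsReduced U.left := hU
    exact Groth.Agent.H10.isReduced_of_weaklyEtale q.left
  exact Groth.Agent.H23.isReduced_of_flat_of_surjective h.left (hfl _ b h hqa hbe hcomm)
    (hsurj has hs) hQ

end Groth.Agent.S10561
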