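import Groth.Statements.S10563
import Groth.Agent.H53.ChartSq
import Groth.Agent.H53.NoethFppf
import Groth.Agent.H53.RegularFppf

set_option autoImplicit false
universe u
open CategoryTheory CategoryTheory.Limits AlgebraicGeometry
open AlgSp

namespace Groth.Agent.S10563

/-- Let f : X ⟶ Y be a morphism of algebraic spaces over S which is locally of finite presentation, flat
and surjective. If X is regular (etale locally a locally Noetherian scheme all of whose local rings
are regular local rings) then Y is regular. -/
theorem result {S : Scheme.{u}} {X Y : AlgSp.Space S} (f : X ⟶ Y)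
    (hfp : AlgSp.LocP @LocallyOfFinitePresentation f.hom) (hfl : AlgSp.LocP @Flat f.hom)
    (hs : AlgSp.IsSurjectiveMor f.hom)
    (hX : AlgSp.EtaleLocally (fun U => IsLocallyNoetherian U ∧ ∀ u : ↥U, IsRegularLocalRing ↥(U.presheaf.stalk u)) X.obj) :
    AlgSp.EtaleLocally (fun U => IsLocallyNoetherian U ∧ ∀ u : ↥U, IsRegularLocalRing ↥(U.presheaf.stalk u)) Y.obj := by
  obtain ⟨U, a, hae, has, hU, hUr⟩ := hX
  obtain ⟨V, b, hbe, hbs⟩ := Y.property.atlas
  refine ⟨V, b, hbe, hbs, ?_⟩
  obtain ⟨Q, q, h, hq, hqa, hcomm, -, hsurj⟩ := Groth.Agent.H53.exists_chart_square f.hom a b hae hbe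
  have : Etale q.left := hq
  have : IsLocallyNoetherian U.left := hU
  have hQ : IsLocallyNoetherian Q.left := LocallyOfFiniteType.isLocallyNoetherian q.left
  have : Flat h.left := hfl _ b h hqa hbe hcomm
  have : LocallyOfFinitePresentation h.left := hfp _ b h hqa hbe hcomm
  have : Surjective h.left := hsurj has hs
  have hV : IsLocallyNoetherian V.left := Groth.Agent.H53.isLocallyNoetherian_of_fppf_surjective h.left
  refine ⟨hV, fun v => ?_⟩
  obtain ⟨w, rfl⟩ := h.left.surjective v
  exact Groth.Agent.H53.isRegularLocalRing_stalk_of_flat h.left w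
    ((Groth.Agent.H20.isRegularLocalRing_stalk_iff_of_etale q.left w).2 (hUr _))

end Groth.Agent.S10563
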