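import Groth.Statements.S10564
import Groth.Agent.H53.ReducedSm
import Groth.Agent.H53.LargestOpenInst
import Groth.Agent.S10561

set_option autoImplicit false
universe u
open CategoryTheory CategoryTheory.Limits AlgebraicGeometry
open AlgSp

namespace Groth.Agent.S10564

/-- For a smooth morphism f : X ⟶ Y of algebraic spaces over S, reducedness of Y implies reducedness of
X, and when f is moreover surjective, reducedness of X implies reducedness of Y. -/
theorem result {S : Scheme.{u}} {X Y : AlgSp.Space S} (f : X ⟶ Y) (hf : AlgSp.LocP @Smooth f.hom) :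
    (AlgSp.IsReducedSp Y.obj → AlgSp.IsReducedSp X.obj) ∧
    (AlgSp.IsSurjectiveMor f.hom → AlgSp.IsReducedSp X.obj → AlgSp.IsReducedSp Y.obj) := by
  refine ⟨?_, fun hs hX => Groth.Agent.S10561.result f
    (Groth.Agent.H53.locP_mono (fun _ _ e he => by
      have : Smooth e := he
      exact (inferInstance : Flat e)) f.hom hf) hs hX⟩
  rintro ⟨V, b, hbe, hbs, hV⟩
  obtain ⟨U, a, hae, has⟩ := X.property.atlas
  obtain ⟨Q, q, h, hq, hqa, hcomm, hqs, -⟩ := Groth.Agent.H53.exists_chart_square f.hom a b hae hbe
  refine ⟨Q, (yon S).map q ≫ a, hqa, Groth.Agent.H53.repWith_surjective_map_comp q (hqs hbs) a has, ?_⟩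
  have : Smooth h.left := hf _ b h hqa hbe hcomm
  have : IsReduced V.left := hV
  exact Groth.Agent.H53.isReduced_of_smooth_scheme h.left

end Groth.Agent.S10564
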