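import Groth.Statements.S10568
import Groth.Agent.H53.LocalST

set_option autoImplicit false
universe u
open CategoryTheory CategoryTheory.Limits AlgebraicGeometry
open AlgSp AlgSp.IsEtaleSmoothLocalST

namespace Groth.Agent.S10568

/-- A property P of morphisms of algebraic spaces over S, local on source-and-target in the etale-smooth
sense, is (1) etale local on the source, (2) smooth local on the base, (3) stable under
postcomposition with etale morphisms: whenever g : Y ⟶ Z is etale and f : X ⟶ Y has P, the composite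
f ≫ g has P, and (4) conversely, if g : Y ⟶ Z is etale and f ≫ g has P then f has P. -/
theorem result {S : Scheme.{u}} {P : MorphismProperty (AlgSp.Sp S)}
    (hP : AlgSp.IsEtaleSmoothLocalST P) :
    AlgSp.IsLocalOnSource (AlgSp.IsEtCover (S := S)) P ∧
    AlgSp.IsLocalOnBase (AlgSp.IsSmCover (S := S)) P ∧
    (∀ ⦃X Y Z : AlgSp.Space S⦄ (f : X ⟶ Y) (g : Y ⟶ Z), P f.hom → AlgSp.IsEtaleMor g.hom → P (f ≫ g).hom) ∧
    (∀ ⦃X Y Z : AlgSp.Space S⦄ (f : X ⟶ Y) (g : Y ⟶ Z), AlgSp.IsEtaleMor g.hom → P (f ≫ g).hom → P f.hom) := by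
  have hidpb : ∀ {X Y : Sp S} (f : X ⟶ Y), IsPullback (𝟙 X) f f (𝟙 Y) := fun f =>
    (IsPullback.of_horiz_isIso (fst := 𝟙 _) (snd := f) (f := f) (g := 𝟙 _) ⟨by simp⟩ :)
  refine ⟨?_, ?_, ?_, ?_⟩
  · intro ι X Xi g hX hXi hcov Y f hY
    constructor
    · intro hf i
      exact hP.precomp (hXi i) hX hY (g i) f (hcov.1 i) hf
    · intro H
      refine (hP.locality hX hY f).2 fun x => ?_
      obtain ⟨i, v, hv⟩ := hcov.2 x
      refine ⟨Y, X, Xi i, 𝟙 Y, 𝟙 X, f, g i, v, hY, hX, hXi i, Groth.Agent.H53.locP_smooth_id Y,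
        hidpb f, hcov.1 i, ?_, H i⟩
      rw [Category.comp_id]; exact hv
  · intro ι Y Yi g hY hYi hcov X f hX Xi p q hXi sq
    constructor
    · intro hf i
      exact hP.baseChange hX hY (hXi i) (hYi i) f (g i) (p i) (q i) (sq i) (hcov.1 i) hf
    · intro H
      refine (hP.locality hX hY f).2 fun x => ?_
      obtain ⟨i, yi, hyi⟩ := hcov.2 (Points.map f x)
      obtain ⟨z, hz1, -⟩ := Groth.Agent.H53.exists_point_of_isPullback (sq i) x yi hyi.symm
      refine ⟨Yi i, Xi i, Xi i, g i, q i, p i, 𝟙 _, z, hYi i, hXi i, hXi i, hcov.1 i, sq i,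
        Groth.Agent.H53.isEtaleMor_id _, ?_, ?_⟩
      · rw [Category.id_comp]; exact hz1
      · rw [Category.id_comp]; exact H i
  · intro X Y Z f g hf hg
    have sq := IsPullback.of_hasPullback (f.hom ≫ g.hom) g.hom
    have hW : IsAlgSpace (pullback (f.hom ≫ g.hom) g.hom) :=
      Groth.Agent.H49.isAlgSpace_of_isPullback sq Z.property.diag X.property Y.property
    have he := Groth.Agent.H53.isEtaleMor_graph X.property Y.property Z.property f.hom g.hom hg sq
      (pullback.lift (𝟙 X.obj) f.hom (by simp)) (pullback.lift_fst _ _ _)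
    refine (hP.locality X.property Z.property (f ≫ g).hom).2 fun x => ?_
    refine ⟨Y.obj, pullback (f.hom ≫ g.hom) g.hom, X.obj, g.hom, pullback.fst _ _, pullback.snd _ _,
      pullback.lift (𝟙 X.obj) f.hom (by simp), x, Y.property, hW, X.property,
      Groth.Agent.H53.locP_smooth_of_isEtaleMor _ hg, sq, he, ?_, ?_⟩
    · rw [pullback.lift_fst]; exact Points.map_id x
    · rw [pullback.lift_snd]; exact hf
  · intro X Y Z f g hg hfg
    have sq := IsPullback.of_hasPullback (f.hom ≫ g.hom) g.hom
    have hW : IsAlgSpace (pullback (f.hom ≫ g.hom) g.hom) :=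
      Groth.Agent.H49.isAlgSpace_of_isPullback sq Z.property.diag X.property Y.property
    have he := Groth.Agent.H53.isEtaleMor_graph X.property Y.property Z.property f.hom g.hom hg sq
      (pullback.lift (𝟙 X.obj) f.hom (by simp)) (pullback.lift_fst _ _ _)
    have hq : P (pullback.snd (f.hom ≫ g.hom) g.hom) :=
      hP.baseChange X.property Z.property hW Y.property (f.hom ≫ g.hom) g.hom _ _ sq
        (Groth.Agent.H53.locP_smooth_of_isEtaleMor _ hg) hfg
    have := hP.precomp X.property hW Y.property _ _ he hq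
    rwa [pullback.lift_snd] at this

end Groth.Agent.S10568
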