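import Groth.Statements.S10569
import Groth.Agent.H53.LocalST
import Groth.Agent.S10568

set_option autoImplicit false
universe u
open CategoryTheory CategoryTheory.Limits AlgebraicGeometry
open AlgSp AlgSp.IsEtaleSmoothLocalST

namespace Groth.Agent.S10569

/-- For a property P of morphisms of algebraic spaces over S that is etale-smooth local on
source-and-target and a morphism f : X ⟶ Y of algebraic spaces, each of the following is equivalent
to P f: (c) for some smooth b : V ⟶ Y, cartesian square W = X ×_Y V and etale e : U ⟶ W with U ⟶ W ⟶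
X surjective, the composite U ⟶ W ⟶ V has P; (d) for every smooth b : V ⟶ Y, cartesian square W = X
×_Y V and etale e : U ⟶ W, the composite U ⟶ W ⟶ V has P; (e) for some smooth covering of Y by
algebraic spaces Y_i every base change Y_i ×_Y X ⟶ Y_i has P; (f) for some etale covering of X by
algebraic spaces X_i every composite X_i ⟶ Y has P. (Condition (b) of the published list is the
defining locality condition, and its condition (g) combines (e) and (f); they are not repeated
here.) -/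
theorem result {S : Scheme.{u}} {P : MorphismProperty (AlgSp.Sp S)}
    (hP : AlgSp.IsEtaleSmoothLocalST P) {X Y : AlgSp.Space S} (f : X ⟶ Y) :
    (P f.hom ↔ ∃ (U V W : AlgSp.Space S) (b : V ⟶ Y) (p : W ⟶ X) (q : W ⟶ V) (e : U ⟶ W),
      AlgSp.LocP @Smooth b.hom ∧ IsPullback p.hom q.hom f.hom b.hom ∧ AlgSp.IsEtaleMor e.hom ∧
      AlgSp.IsSurjectiveMor (e ≫ p).hom ∧ P (e ≫ q).hom) ∧
    (P f.hom ↔ ∀ (U V W : AlgSp.Space S) (b : V ⟶ Y) (p : W ⟶ X) (q : W ⟶ V) (e : U ⟶ W),
      AlgSp.LocP @Smooth b.hom → IsPullback p.hom q.hom f.hom b.hom → AlgSp.IsEtaleMor e.hom → P (e ≫ q).hom) ∧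
    (P f.hom ↔ ∃ (ι : Type u) (Yi Xi : ι → AlgSp.Space S) (g : ∀ i, Yi i ⟶ Y) (p : ∀ i, Xi i ⟶ Yi i)
      (q : ∀ i, Xi i ⟶ X), AlgSp.IsSmCover (fun i => (Yi i).obj) (fun i => (g i).hom) ∧
      (∀ i, IsPullback (q i).hom (p i).hom f.hom (g i).hom) ∧ ∀ i, P (p i).hom) ∧
    (P f.hom ↔ ∃ (ι : Type u) (Xi : ι → AlgSp.Space S) (g : ∀ i, Xi i ⟶ X),
      AlgSp.IsEtCover (fun i => (Xi i).obj) (fun i => (g i).hom) ∧ ∀ i, P (g i ≫ f).hom) := by
  obtain ⟨hsrc, hbase, -, -⟩ := Groth.Agent.S10568.result hP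
  have hidX := Groth.Agent.H53.locP_smooth_id X.obj
  have hidY := Groth.Agent.H53.locP_smooth_id Y.obj
  have hpb : IsPullback (𝟙 X.obj) f.hom f.hom (𝟙 Y.obj) :=
    (IsPullback.of_horiz_isIso (fst := 𝟙 X.obj) (snd := f.hom) (f := f.hom) (g := 𝟙 Y.obj)
      ⟨by simp⟩ :)
  refine ⟨?_, ?_, ?_, ?_⟩
  · constructor
    · intro hf
      refine ⟨X, Y, X, 𝟙 Y, 𝟙 X, f, 𝟙 X, hidY, hpb, Groth.Agent.H53.isEtaleMor_id _,
        fun x => ⟨x, ?_⟩, ?_⟩
      · simp only [Category.comp_id]; exact Points.map_id x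
      · simpa using hf
    · rintro ⟨U, V, W, b, p, q, e, hb, sq, he, hs, hh⟩
      refine (hP.locality X.property Y.property f.hom).2 fun x => ?_
      obtain ⟨v, hv⟩ := hs x
      exact ⟨V.obj, W.obj, U.obj, b.hom, p.hom, q.hom, e.hom, v, V.property, W.property,
        U.property, hb, sq, he, hv, hh⟩
  · constructor
    · intro hf U V W b p q e hb sq he
      have hq : P q.hom := hP.baseChange X.property Y.property W.property V.property f.hom b.hom
        q.hom p.hom sq hb hf
      exact hP.precomp U.property W.property V.property e.hom q.hom he hq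
    · intro H
      have := H X Y X (𝟙 Y) (𝟙 X) f (𝟙 X) hidY hpb (Groth.Agent.H53.isEtaleMor_id _)
      simpa using this
  · constructor
    · intro hf
      exact ⟨PUnit.{u+1}, fun _ => Y, fun _ => X, fun _ => 𝟙 Y, fun _ => f, fun _ => 𝟙 X,
        ⟨fun _ => hidY, fun x => ⟨PUnit.unit, x, Points.map_id x⟩⟩, fun _ => hpb, fun _ => hf⟩
    · rintro ⟨ι, Yi, Xi, g, p, q, hcov, sq, H⟩
      exact (hbase (fun i => (Yi i).obj) (fun i => (g i).hom) Y.property (fun i => (Yi i).property)
        hcov f.hom X.property (fun i => (Xi i).obj) (fun i => (p i).hom) (fun i => (q i).hom)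
        (fun i => (Xi i).property) sq).2 H
  · constructor
    · intro hf
      refine ⟨PUnit.{u+1}, fun _ => X, fun _ => 𝟙 X,
        ⟨fun _ => Groth.Agent.H53.isEtaleMor_id _, fun x => ⟨PUnit.unit, x, Points.map_id x⟩⟩,
        fun _ => ?_⟩
      simpa using hf
    · rintro ⟨ι, Xi, g, hcov, H⟩
      exact (hsrc (fun i => (Xi i).obj) (fun i => (g i).hom) X.property (fun i => (Xi i).property)
        hcov f.hom Y.property).2 H

end Groth.Agent.S10569
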