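import Groth.Statements.S10573
import Groth.Agent.H53.LocSource
import Groth.Agent.H49.FpqcOpens

set_option autoImplicit false
universe u
open CategoryTheory CategoryTheory.Limits AlgebraicGeometry
open AlgSp

namespace Groth.Agent.S10573

/-- Let {g_i : T_i ⟶ T} be a family of algebraic spaces over S forming an fpqc covering, and let W_i ⊂
|T_i| be open subsets (open subspaces) such that for all i, j the two projections T_i ×_T T_j ⟶ T_i,
T_j pull W_i and W_j back to the same subset of |T_i ×_T T_j|. Then there is a unique open subset W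
⊂ |T| with g_i⁻¹(W) = W_i for every i. -/
theorem result {S : Scheme.{u}} {ι : Type u} {T : AlgSp.Space S}
    (Ti : ι → AlgSp.Space S) (g : ∀ i, Ti i ⟶ T)
    (hg : AlgSp.IsFpqcCover (fun i => (Ti i).obj) (fun i => (g i).hom))
    (Wi : ∀ i, Set (AlgSp.Points (Ti i).obj)) (hW : ∀ i, IsOpen (Wi i))
    (hc : ∀ i j, AlgSp.Points.map (pullback.fst (g i).hom (g j).hom) ⁻¹' Wi i =
      AlgSp.Points.map (pullback.snd (g i).hom (g j).hom) ⁻¹' Wi j) :
    ∃! W : TopologicalSpace.Opens (AlgSp.Points T.obj), ∀ i, AlgSp.Points.map (g i).hom ⁻¹' (W : Set (AlgSp.Points T.obj)) = Wi i := by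
  have hpre : ∀ i, AlgSp.Points.map (g i).hom ⁻¹'
      (⋃ i, AlgSp.Points.map (g i).hom '' Wi i) = Wi i := by
    intro i
    ext x
    constructor
    · intro hx
      obtain ⟨j, y, hy, hxy⟩ := Set.mem_iUnion.1 hx
      obtain ⟨z, hz1, hz2⟩ := Groth.Agent.H53.exists_point_of_isPullback
        (IsPullback.of_hasPullback (g i).hom (g j).hom) x y hxy.symm
      have h1 : z ∈ AlgSp.Points.map (pullback.snd (g i).hom (g j).hom) ⁻¹' Wi j := by
        rw [Set.mem_preimage, hz2]; exact hy
      rw [← hc i j, Set.mem_preimage, hz1] at h1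
      exact h1
    · intro hx
      exact Set.mem_iUnion.2 ⟨i, x, hx, rfl⟩
  have hopen : IsOpen (⋃ i, AlgSp.Points.map (g i).hom '' Wi i) := by
    rw [AlgSp.Points.isOpen_iff]
    intro Z h
    have hcov : TopologicalSpace.IsOpenCover (fun U : Z.left.affineOpens => (U : Z.left.Opens)) :=
      TopologicalSpace.IsOpenCover.mk (iSup_affineOpens_eq_top Z.left)
    rw [hcov.isOpen_iff_coe_preimage]
    intro U
    have hZ : IsAffine (Groth.Agent.H53.overOf Z U.1.ι).left := U.2
    obtain ⟨m, T', cT, hT, hfl, hs, hlift⟩ :=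
      hg.2 _ hZ ((AlgSp.yon S).map (Groth.Agent.H53.overHom Z U.1.ι) ≫ h)
    choose i l hl using hlift
    have : ∀ j, IsAffine (T' j).left := hT
    have : ∀ j, Flat (cT j).left := hfl
    have hfpqc := Groth.Agent.H53.sigmaDesc_fpqc (fun j => (T' j).left) (fun j => (cT j).left) hs
    have : Surjective (Sigma.desc fun j => (cT j).left) := hfpqc.1.1
    have : Flat (Sigma.desc fun j => (cT j).left) := hfpqc.1.2
    have : QuasiCompact (Sigma.desc fun j => (cT j).left) := hfpqc.2
    have hq := Flat.isQuotientMap_of_surjective (Sigma.desc fun j => (cT j).left)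
    have key : IsOpen (U.1.ι ⁻¹' (AlgSp.Points.ofPt h ⁻¹'
        (⋃ i, AlgSp.Points.map (g i).hom '' Wi i))) := by
      rw [← hq.isOpen_preimage]
      apply Groth.Agent.H49.isOpen_sigma_of_preimage
      intro j
      have e : (Sigma.ι (fun j => (T' j).left) j) ⁻¹' ((Sigma.desc fun j => (cT j).left) ⁻¹'
          (U.1.ι ⁻¹' (AlgSp.Points.ofPt h ⁻¹' (⋃ i, AlgSp.Points.map (g i).hom '' Wi i)))) =
          AlgSp.Points.ofPt (l j) ⁻¹' Wi (i j) := by
        ext w
        rw [← hpre (i j)]
        simp only [Set.mem_preimage]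
        rw [← Scheme.Hom.comp_apply, ← Scheme.Hom.comp_apply, Sigma.ι_desc_assoc,
          AlgSp.Points.map_ofPt, hl j,
          Groth.Agent.H53.ofPt_yon_map_comp, Groth.Agent.H53.ofPt_yon_map_comp]
        rfl
      rw [e]
      exact (hW (i j)).preimage (AlgSp.Points.continuous_ofPt (l j))
    exact key
  refine ⟨⟨_, hopen⟩, hpre, ?_⟩
  intro W' hW'
  apply TopologicalSpace.Opens.ext
  ext x
  constructor
  · intro hx
    obtain ⟨i, y, rfl⟩ := Groth.Agent.H53.isFpqcCover_surjective_points _ _ T.property hg x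
    have : y ∈ Wi i := by rw [← hW' i]; exact hx
    exact Set.mem_iUnion.2 ⟨i, y, this, rfl⟩
  · intro hx
    obtain ⟨i, y, hy, rfl⟩ := Set.mem_iUnion.1 hx
    rw [← hW' i] at hy
    exact hy

end Groth.Agent.S10573
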