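import Groth.Statements.S10579
import Groth.Agent.H1.GeomUnibranchFlat
import Groth.Agent.H53.Charts
import Groth.Agent.H53.Points
import Groth.Agent.H51.SpBasic

set_option autoImplicit false
universe u
open CategoryTheory CategoryTheory.Limits AlgebraicGeometry
open AlgSp

namespace Groth.Agent.S10579

/-- Let f : X ⟶ Y be a morphism of algebraic spaces over S and x ∈ |X|. If X is geometrically unibranch
at x and f is flat at x, then Y is geometrically unibranch at the image point f(x). Here an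
algebraic space is geometrically unibranch at a point when for every etale chart from a scheme U and
every point u of U over it the local ring of U at u is geometrically unibranch. -/
theorem result {S : Scheme.{u}} {X Y : AlgSp.Space S} (f : X ⟶ Y) (x : AlgSp.Points X.obj)
    (hf : AlgSp.IsFlatAtMor f.hom x)
    (hX : ∀ (U : Over S) (a : (AlgSp.yon S).obj U ⟶ X.obj) (v : ↥U.left), AlgSp.RepWith @Etale a →
      AlgSp.Points.ofPt a v = x → CAlg2.IsGeomUnibranch ↥(U.left.presheaf.stalk v))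
    (V : Over S) (b : (AlgSp.yon S).obj V ⟶ Y.obj) (w : ↥V.left) (hb : AlgSp.RepWith @Etale b)
    (hw : AlgSp.Points.ofPt b w = AlgSp.Points.map f.hom x) :
    CAlg2.IsGeomUnibranch ↥(V.left.presheaf.stalk w) := by
  obtain ⟨U₀, a₀, ha₀E, ha₀S⟩ := X.property.atlas
  obtain ⟨u₀, hu₀⟩ := Groth.Agent.H53.exists_ofPt_eq_of_repWith_surjective a₀ ha₀S x
  obtain ⟨P, p₁, p₂, sq⟩ := Groth.Agent.H53.exists_pullback_yon (a₀ ≫ f.hom) b hb.rep
  have hp₁ : Etale p₁.left := Groth.Agent.H53.prop_of_isPullback_yon sq hb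
  have hpt : AlgSp.Points.ofPt (a₀ ≫ f.hom) u₀ = AlgSp.Points.ofPt b w := by
    rw [hw, ← hu₀, AlgSp.Points.map_ofPt]
  obtain ⟨v, hv1, hv2⟩ := Groth.Agent.H51.exists_of_ofPt_eq sq u₀ w hpt
  have ha : AlgSp.RepWith @Etale ((AlgSp.yon S).map p₁ ≫ a₀) :=
    Groth.Agent.H53.repWith_etale_map_comp p₁ hp₁ a₀ ha₀E
  have hcomm : ((AlgSp.yon S).map p₁ ≫ a₀) ≫ f.hom = (AlgSp.yon S).map p₂ ≫ b := by
    rw [Category.assoc]
    exact sq.w
  have hx : AlgSp.Points.ofPt ((AlgSp.yon S).map p₁ ≫ a₀) v = x := by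
    rw [Groth.Agent.H53.ofPt_yon_map_comp, hv1, hu₀]
  have hfl : (p₂.left.stalkMap v).hom.Flat := hf _ b p₂ v ha hb hcomm hx
  have hgu := hX P _ v ha hx
  have := Groth.Agent.H1.GeomUnibranchFlat.isGeomUnibranch_of_flat_stalkMap p₂.left v hfl hgu
  rw [hv2] at this
  exact this

end Groth.Agent.S10579
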