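import Groth.Statements.S10583
import Groth.Agent.H53.ThickTop
import Groth.Agent.H53.LargestOpenInst
import Groth.Agent.H50.OpenImm

set_option autoImplicit false
universe u
open CategoryTheory CategoryTheory.Limits AlgebraicGeometry
open AlgSp

namespace Groth.Agent.S10583

/-- Let i : X ⟶ X' be a thickening of algebraic spaces (representable, every base change to a scheme a
surjective closed immersion) and let u : U ⟶ X be an open immersion. Then there is an open immersion
u' : U' ⟶ X' with U = X ×_{X'} U' (a pullback square), and any two open subspaces of X' with this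
property are isomorphic over X'. -/
theorem result {S : Scheme.{u}} {X X' U : AlgSp.Space S} (i : X ⟶ X')
    (hi : AlgSp.IsThickMor i.hom)
    (u : U ⟶ X) (hu : AlgSp.RepWith @IsOpenImmersion u.hom) :
    (∃ (U' : AlgSp.Space S) (u' : U' ⟶ X') (k : U ⟶ U'),
      AlgSp.RepWith @IsOpenImmersion u'.hom ∧ IsPullback u.hom k.hom i.hom u'.hom) ∧
    (∀ (U₁ U₂ : AlgSp.Space S) (u₁ : U₁ ⟶ X') (u₂ : U₂ ⟶ X') (k₁ : U ⟶ U₁) (k₂ : U ⟶ U₂),
      AlgSp.RepWith @IsOpenImmersion u₁.hom → IsPullback u.hom k₁.hom i.hom u₁.hom →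
      AlgSp.RepWith @IsOpenImmersion u₂.hom → IsPullback u.hom k₂.hom i.hom u₂.hom →
      ∃ e : U₁ ≅ U₂, e.hom ≫ u₂ = u₁) := by
  have hinj := Groth.Agent.H53.injective_points_of_isThickMor i.hom hi
  have hsurj := Groth.Agent.H53.surjective_points_of_isThickMor i.hom hi
  have hmu : Mono u.hom := Groth.Agent.H53.mono_of_isOpenImmersion _ hu
  have hrange : ∀ (U₁ : AlgSp.Space S) (u₁ : U₁ ⟶ X') (k₁ : U ⟶ U₁),
      IsPullback u.hom k₁.hom i.hom u₁.hom → Set.range (AlgSp.Points.map u₁.hom) =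
        AlgSp.Points.map i.hom '' Set.range (AlgSp.Points.map u.hom) := by
    intro U₁ u₁ k₁ sq
    ext y
    constructor
    · rintro ⟨z, rfl⟩
      obtain ⟨x, hx⟩ := hsurj (AlgSp.Points.map u₁.hom z)
      obtain ⟨w, hw1, -⟩ := Groth.Agent.H53.exists_point_of_isPullback sq x z hx
      exact ⟨x, ⟨w, hw1⟩, hx⟩
    · rintro ⟨x, ⟨w, rfl⟩, rfl⟩
      refine ⟨AlgSp.Points.map k₁.hom w, ?_⟩
      rw [← AlgSp.Points.map_comp, ← sq.w, AlgSp.Points.map_comp]
  constructor
  · have hopen : IsOpen (AlgSp.Points.map i.hom '' Set.range (AlgSp.Points.map u.hom)) :=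
      Groth.Agent.H53.isOpenMap_points_of_isThickMor i.hom hi _
        (Groth.Agent.H53.goodCov_etale.isOpen U.property X.property _
          (Groth.Agent.H53.isEtaleMor_of_isOpenImmersion _ hu)).isOpen_range
    have hU' := Groth.Agent.H51.isAlgSpace_openSubSp X'.property _ hopen
    have hu' := Groth.Agent.H51.repWith_isOpenImmersion_openSubι _ hopen
    have hr' := Groth.Agent.H51.range_map_openSubι (F := X'.obj)
      (AlgSp.Points.map i.hom '' Set.range (AlgSp.Points.map u.hom))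
    obtain ⟨k, hk⟩ := (Groth.Agent.H51.exists_factor_iff_of_isOpenImmersion'
      (Groth.Agent.H51.openSubι X'.obj _) hu' (u.hom ≫ i.hom)).2 (by
        rw [hr']
        rintro _ ⟨w, rfl⟩
        rw [AlgSp.Points.map_comp]
        exact ⟨_, ⟨w, rfl⟩, rfl⟩)
    refine ⟨⟨_, hU'⟩, ObjectProperty.homMk (Groth.Agent.H51.openSubι X'.obj _),
      ObjectProperty.homMk k, hu', ?_⟩
    apply Groth.Agent.H51.isPullback_of_forall_yon hk.symm
    intro T a b hab
    obtain ⟨p, hp⟩ := (Groth.Agent.H50.exists_factor_iff_of_isOpenImmersion u.hom hu a).2 (by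
      rintro _ ⟨t, rfl⟩
      have h1 : AlgSp.Points.map i.hom (AlgSp.Points.map a t) ∈
          AlgSp.Points.map i.hom '' Set.range (AlgSp.Points.map u.hom) := by
        rw [← AlgSp.Points.map_comp, hab, AlgSp.Points.map_comp]
        exact (Set.ext_iff.1 hr' _).1 ⟨_, rfl⟩
      obtain ⟨x, hx, hxe⟩ := h1
      rw [← hinj hxe]
      exact hx)
    refine ⟨p, ⟨hp, ?_⟩, fun p' hp' => ?_⟩
    · rw [← cancel_mono (Groth.Agent.H51.openSubι X'.obj
        (AlgSp.Points.map i.hom '' Set.range (AlgSp.Points.map u.hom))), Category.assoc]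
      change p ≫ k ≫ Groth.Agent.H51.openSubι X'.obj _ = _
      rw [hk, ← Category.assoc, hp, hab]
    · rw [← cancel_mono u.hom, hp'.1, hp]
  · intro U₁ U₂ u₁ u₂ k₁ k₂ h1 sq1 h2 sq2
    have e12 : Set.range (AlgSp.Points.map u₁.hom) = Set.range (AlgSp.Points.map u₂.hom) :=
      (hrange _ _ _ sq1).trans (hrange _ _ _ sq2).symm
    obtain ⟨a, ha⟩ := (Groth.Agent.H51.exists_factor_iff_of_isOpenImmersion' u₂.hom h2 u₁.hom).2
      (by rw [e12])
    obtain ⟨b, hb⟩ := (Groth.Agent.H51.exists_factor_iff_of_isOpenImmersion' u₁.hom h1 u₂.hom).2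
      (by rw [e12])
    have m1 : Mono u₁.hom := Groth.Agent.H53.mono_of_isOpenImmersion _ h1
    have m2 : Mono u₂.hom := Groth.Agent.H53.mono_of_isOpenImmersion _ h2
    refine ⟨ObjectProperty.isoMk _ ⟨a, b, ?_, ?_⟩, ?_⟩
    · rw [← cancel_mono u₁.hom, Category.assoc, hb, ha, Category.id_comp]
    · rw [← cancel_mono u₂.hom, Category.assoc, ha, hb, Category.id_comp]
    · ext : 1
      exact ha

end Groth.Agent.S10583
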