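import Groth.Statements.S10591
import Groth.Agent.H53.ThickChart2

set_option autoImplicit false
universe u
open CategoryTheory CategoryTheory.Limits AlgebraicGeometry
open AlgSp

namespace Groth.Agent.S10591

/-- Consider a morphism (f, f') from the thickening X ⊂ X' to the thickening Y ⊂ Y' of algebraic spaces
over S, meaning: i : X ⟶ X' and j : Y ⟶ Y' are thickenings (representable, every base change to a
scheme a surjective closed immersion) and i ≫ f' = f ≫ j. Assume moreover that the square is
cartesian (X = Y ×_{Y'} X') and that i is a finite order thickening (for one n, on every affine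
etale scheme chart of X' the (n+1)-st power of the ideal of the base change of X vanishes). Then f
is locally of finite type of relative dimension d, resp. locally of finite type, resp. locally
quasi-finite, resp. unramified, if and only if f' is (relative dimension d at a point: some chart
diagram through the point has fibre of local dimension d there) (all in the etale-local sense,
locally quasi-finite and unramified including locally of finite type). -/
theorem result {S : Scheme.{u}} {X X' Y Y' : AlgSp.Space S} (i : X ⟶ X') (j : Y ⟶ Y')
    (f : X ⟶ Y) (f' : X' ⟶ Y')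
    (hi : AlgSp.IsThickMor i.hom)
    (hj : AlgSp.IsThickMor j.hom) (w : i ≫ f' = f ≫ j)
    (hcart : IsPullback i.hom f.hom f'.hom j.hom)
    (hfo : AlgSp.IsFinThickMor i.hom) (d : ℕ) :
    ((AlgSp.LocP @LocallyOfFiniteType f.hom ∧
        ∀ x, AlgSp.HasAtMor (fun _ _ h u => FlatMor.fibreDimAt h u = (d : WithBot ℕ∞)) f.hom x) ↔
      (AlgSp.LocP @LocallyOfFiniteType f'.hom ∧
        ∀ x', AlgSp.HasAtMor (fun _ _ h u => FlatMor.fibreDimAt h u = (d : WithBot ℕ∞)) f'.hom x')) ∧
    (AlgSp.LocP @LocallyOfFiniteType f.hom ↔ AlgSp.LocP @LocallyOfFiniteType f'.hom) ∧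
    (AlgSp.LocP (@LocallyQuasiFinite ⊓ @LocallyOfFiniteType) f.hom ↔
      AlgSp.LocP (@LocallyQuasiFinite ⊓ @LocallyOfFiniteType) f'.hom) ∧
    (AlgSp.LocP (@LocallyOfFiniteType ⊓ @FormallyUnramified) f.hom ↔
      AlgSp.LocP (@LocallyOfFiniteType ⊓ @FormallyUnramified) f'.hom) := by
  have hlft : AlgSp.LocP @LocallyOfFiniteType f.hom ↔ AlgSp.LocP @LocallyOfFiniteType f'.hom := by
    constructor
    · exact Groth.Agent.H53.locP_lft_of_finThick hfo hj hcart
    · intro hf'
      refine Groth.Agent.H53.locP_of_isPullback @LocallyOfFiniteType ?_ ?_
        X'.property Y'.property Y.property hcart hf'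
      · intro A B e he
        have : Etale e := he
        infer_instance
      · intro A B C e h he hs hh
        have := he
        have := hs
        exact Groth.Agent.H50.locallyOfFiniteType_of_comp_etale_surjective e h hh
  have hdim := Groth.Agent.H53.hasAtMor_fibreDim_iff_of_thick i j f f' hi hj hcart (d : WithBot ℕ∞)
  refine ⟨and_congr hlft hdim, hlft, ?_, ?_⟩
  · constructor
    · intro hf
      have hft' : AlgSp.LocP @LocallyOfFiniteType f'.hom :=
        hlft.1 (fun U V a b h ha hb e => (hf a b h ha hb e).2)
      exact (Groth.Agent.H53.locP_lqf_iff_of_thick hi hj hcart X'.property Y.property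
        Y'.property hft').1 hf
    · intro hf'
      have hft' : AlgSp.LocP @LocallyOfFiniteType f'.hom :=
        fun U V a b h ha hb e => (hf' a b h ha hb e).2
      exact (Groth.Agent.H53.locP_lqf_iff_of_thick hi hj hcart X'.property Y.property
        Y'.property hft').2 hf'
  · constructor
    · intro hf
      have hft' : AlgSp.LocP @LocallyOfFiniteType f'.hom :=
        hlft.1 (fun U V a b h ha hb e => (hf a b h ha hb e).1)
      exact (Groth.Agent.H53.locP_unramified_iff_of_thick hi hj hcart X'.property Y.property
        Y'.property hft').1 hf
    · intro hf'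
      have hft' : AlgSp.LocP @LocallyOfFiniteType f'.hom :=
        fun U V a b h ha hb e => (hf' a b h ha hb e).1
      exact (Groth.Agent.H53.locP_unramified_iff_of_thick hi hj hcart X'.property Y.property
        Y'.property hft').2 hf'

end Groth.Agent.S10591
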