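import Groth.Statements.S10592
import Groth.Agent.H53.Deform.Imm
import Groth.Agent.S10591

set_option autoImplicit false
universe u
open CategoryTheory CategoryTheory.Limits AlgebraicGeometry
open AlgSp

namespace Groth.Agent.S10592

/-- Consider a morphism (f, f') from the thickening X ⊂ X' to the thickening Y ⊂ Y' of algebraic spaces
over S, meaning: i : X ⟶ X' and j : Y ⟶ Y' are thickenings (representable, every base change to a
scheme a surjective closed immersion) and i ≫ f' = f ≫ j. Assume moreover that the square is
cartesian (X = Y ×_{Y'} X') and that i is a finite order thickening (for one n, on every affine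
etale scheme chart of X' the (n+1)-st power of the ideal of the base change of X vanishes). Then f
is a closed immersion, resp. proper, resp. finite, resp. an immersion, if and only if f' is
(immersions of algebraic spaces being the representable ones). -/
theorem result {S : Scheme.{u}} {X X' Y Y' : AlgSp.Space S} (i : X ⟶ X') (j : Y ⟶ Y')
    (f : X ⟶ Y) (f' : X' ⟶ Y')
    (hi : AlgSp.IsThickMor i.hom)
    (hj : AlgSp.IsThickMor j.hom) (w : i ≫ f' = f ≫ j)
    (hcart : IsPullback i.hom f.hom f'.hom j.hom)
    (hfo : AlgSp.IsFinThickMor i.hom) :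
    (AlgSp.RepWith @IsClosedImmersion f.hom ↔ AlgSp.RepWith @IsClosedImmersion f'.hom) ∧
    (AlgSp.IsProperMor f.hom ↔ AlgSp.IsProperMor f'.hom) ∧
    (AlgSp.IsFiniteMor f.hom ↔ AlgSp.IsFiniteMor f'.hom) ∧
    (AlgSp.RepWith @IsImmersion f.hom ↔ AlgSp.RepWith @IsImmersion f'.hom) := by
  have H := Groth.Agent.S10591.result i j f f' hi hj w hcart hfo 0
  have hlft : AlgSp.LocP @LocallyOfFiniteType f.hom ↔ AlgSp.LocP @LocallyOfFiniteType f'.hom :=
    H.2.1
  have hlft_of : ∀ {P : MorphismProperty Scheme.{u}} (_ : P ≤ @LocallyOfFiniteType),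
      AlgSp.RepWith P f.hom → AlgSp.LocP @LocallyOfFiniteType f'.hom := by
    intro P hP hf
    exact hlft.1 (Groth.Agent.H50.locP_of_repWith _ Groth.Agent.H50.goodClass_lft.etale_le f.hom
      (Groth.Agent.H49.repWith_of_le hP hf))
  refine ⟨?_, ?_, ?_, ?_⟩
  · refine ⟨fun hf => ?_,
      fun h => MorphismProperty.of_isPullback (P := AlgSp.RepWith @IsClosedImmersion) hcart h⟩
    refine Groth.Agent.H53.Deform.repWith_isClosedImmersion_of_thick i j f f' hi hj w hcart
      (hlft_of ?_ hf) hf
    intro A B k hk
    have : IsClosedImmersion k := hk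
    infer_instance
  · exact Groth.Agent.H53.Deform.isProperMor_iff_of_thick i j f f' hi hj w hlft.1 hlft.2
  · rw [Groth.Agent.H53.Deform.isFiniteMor_iff_repWith,
      Groth.Agent.H53.Deform.isFiniteMor_iff_repWith]
    refine ⟨fun hf => ?_,
      fun h => MorphismProperty.of_isPullback (P := AlgSp.RepWith @IsFinite) hcart h⟩
    refine Groth.Agent.H53.Deform.repWith_isFinite_of_thick i j f f' hi hj w hcart
      (hlft_of ?_ hf) hf
    intro A B k hk
    have : IsFinite k := hk
    infer_instance
  · refine ⟨fun hf => ?_,
      fun h => MorphismProperty.of_isPullback (P := AlgSp.RepWith @IsImmersion) hcart h⟩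
    refine Groth.Agent.H53.Deform.repWith_isImmersion_of_thick i j f f' hi hj w hcart
      (hlft_of ?_ hf) hf
    intro A B k hk
    have : IsImmersion k := hk
    infer_instance

end Groth.Agent.S10592
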