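import Groth.Statements.S10596
import Groth.Agent.H53.ThickDeform
import Groth.Agent.H53.ThickChart2
import Groth.Agent.H53.EtaleIff
import Groth.Agent.H50.LocPBase
import Groth.Agent.S1320
import Groth.Agent.S1321
import Groth.Agent.S1322

set_option autoImplicit false
universe u
open CategoryTheory CategoryTheory.Limits AlgebraicGeometry
open AlgSp

namespace Groth.Agent.S10596

/-- Let iB : B ⟶ B' be a finite order thickening of algebraic spaces over S (a thickening such that for
one n the (n+1)-st power of the ideal vanishes on every affine etale scheme chart), f' : X' ⟶ Y' a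
morphism of algebraic spaces over B' (via g' : Y' ⟶ B') with X' flat over B', and f : X ⟶ Y, g : Y ⟶
B its base change to B (both squares to iB cartesian, iX ≫ f' = f ≫ iY). Then f is locally of finite
type of relative dimension d, resp. flat, resp. locally of finite type, locally quasi-finite,
locally of finite presentation, smooth, unramified, etale, if and only if f' is (etale-local sense;
locally quasi-finite and unramified include locally of finite type). -/
theorem result {S : Scheme.{u}} {X X' Y Y' B B' : AlgSp.Space S} (iX : X ⟶ X') (iY : Y ⟶ Y') (iB : B ⟶ B')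
    (f : X ⟶ Y) (f' : X' ⟶ Y') (g : Y ⟶ B) (g' : Y' ⟶ B')
    (hcX : IsPullback iX.hom (f ≫ g).hom (f' ≫ g').hom iB.hom) (hcY : IsPullback iY.hom g.hom g'.hom iB.hom)
    (w : iX ≫ f' = f ≫ iY)
    (hB : AlgSp.IsFinThickMor iB.hom) (hflat : AlgSp.LocP @Flat (f' ≫ g').hom) (d : ℕ) :
    ((AlgSp.LocP @LocallyOfFiniteType f.hom ∧
        ∀ x, AlgSp.HasAtMor (fun _ _ h u => FlatMor.fibreDimAt h u = (d : WithBot ℕ∞)) f.hom x) ↔
      (AlgSp.LocP @LocallyOfFiniteType f'.hom ∧
        ∀ x', AlgSp.HasAtMor (fun _ _ h u => FlatMor.fibreDimAt h u = (d : WithBot ℕ∞)) f'.hom x')) ∧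
    (AlgSp.LocP @Flat f.hom ↔ AlgSp.LocP @Flat f'.hom) ∧
    (AlgSp.LocP @LocallyOfFiniteType f.hom ↔ AlgSp.LocP @LocallyOfFiniteType f'.hom) ∧
    (AlgSp.LocP (@LocallyQuasiFinite ⊓ @LocallyOfFiniteType) f.hom ↔
      AlgSp.LocP (@LocallyQuasiFinite ⊓ @LocallyOfFiniteType) f'.hom) ∧
    (AlgSp.LocP @LocallyOfFinitePresentation f.hom ↔ AlgSp.LocP @LocallyOfFinitePresentation f'.hom) ∧
    (AlgSp.LocP @Smooth f.hom ↔ AlgSp.LocP @Smooth f'.hom) ∧
    (AlgSp.LocP (@LocallyOfFiniteType ⊓ @FormallyUnramified) f.hom ↔
      AlgSp.LocP (@LocallyOfFiniteType ⊓ @FormallyUnramified) f'.hom) ∧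
    (AlgSp.IsEtaleMor f.hom ↔ AlgSp.IsEtaleMor f'.hom) := by
  have hB' := B'.property
  have hthickB : AlgSp.IsThickMor iB.hom := by
    obtain ⟨n, h1, -⟩ := hB
    exact h1
  have hiX : AlgSp.IsThickMor iX.hom := Groth.Agent.H53.isThickMor_of_isPullback hcX.flip hthickB
  have hiY : AlgSp.IsThickMor iY.hom := Groth.Agent.H53.isThickMor_of_isPullback hcY.flip hthickB
  have hfinX : AlgSp.IsFinThickMor iX.hom :=
    Groth.Agent.H53.isFinThickMor_of_isPullback hB hB' hcX.flip
  have w' : iX.hom ≫ f'.hom = f.hom ≫ iY.hom := congrArg (fun t => t.hom) w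
  have hcart : IsPullback iX.hom f.hom f'.hom iY.hom :=
    (IsPullback.of_right hcX.flip w'.symm hcY.flip).flip
  -- base change direction
  have hbc : ∀ {P : MorphismProperty Scheme.{u}}, Groth.Agent.H50.GoodClass P →
      AlgSp.LocP P f'.hom → AlgSp.LocP P f.hom := fun hG hf' =>
    hG.locP_of_isPullback X'.property Y'.property Y.property f'.hom iY.hom iX.hom f.hom hcart hf'
  -- finite type
  have hlft : AlgSp.LocP @LocallyOfFiniteType f.hom ↔ AlgSp.LocP @LocallyOfFiniteType f'.hom :=
    ⟨Groth.Agent.H53.locP_lft_of_finThick hfinX hiY hcart, hbc Groth.Agent.H50.goodClass_lft⟩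
  have hdim := Groth.Agent.H53.hasAtMor_fibreDim_iff_of_thick iX iY f f' hiX hiY hcart
    (d : WithBot ℕ∞)
  refine ⟨and_congr hlft hdim, ?_, hlft, ?_, ?_, ?_, ?_, ?_⟩
  · exact ⟨Groth.Agent.H53.locP_flat_of_finThick hB' hcX hcY w' hB hflat,
      hbc Groth.Agent.H50.goodClass_flat⟩
  · constructor
    · intro hf
      have hft' : AlgSp.LocP @LocallyOfFiniteType f'.hom :=
        hlft.1 (fun U V a b h ha hb e => (hf a b h ha hb e).2)
      exact (Groth.Agent.H53.locP_lqf_iff_of_thick hiX hiY hcart X'.property Y.property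
        Y'.property hft').1 hf
    · intro hf'
      have hft' : AlgSp.LocP @LocallyOfFiniteType f'.hom :=
        fun U V a b h ha hb e => (hf' a b h ha hb e).2
      exact (Groth.Agent.H53.locP_lqf_iff_of_thick hiX hiY hcart X'.property Y.property
        Y'.property hft').2 hf'
  · refine ⟨?_, hbc Groth.Agent.H50.goodClass_lfp⟩
    refine Groth.Agent.H53.locP_of_finThick_of_deforms (P := @LocallyOfFinitePresentation)
      ?_ ?_ ?_ hB' hcX hcY w' hB hflat
    · intro X X' Y Y' S S' iX iY iS f f' g g' hS hcX hcY w hfl hf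
      have := hfl
      exact (Groth.Agent.S1320.result iX iY iS f f' g g' hS hcX hcY w).1 hf
    · exact Groth.Agent.H50.goodClass_lfp.src
    · intro A B C h e he hh
      have : Etale e := he
      have : LocallyOfFinitePresentation h := hh
      infer_instance
  · refine ⟨?_, hbc Groth.Agent.H50.goodClass_smooth⟩
    refine Groth.Agent.H53.locP_of_finThick_of_deforms (P := @Smooth)
      ?_ ?_ ?_ hB' hcX hcY w' hB hflat
    · intro X X' Y Y' S S' iX iY iS f f' g g' hS hcX hcY w hfl hf
      have := hfl
      exact (Groth.Agent.S1321.result iX iY iS f f' g g' hS hcX hcY w).1 hf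
    · exact Groth.Agent.H50.goodClass_smooth.src
    · intro A B C h e he hh
      have : Etale e := he
      have : Smooth h := hh
      infer_instance
  · constructor
    · intro hf
      have hft' : AlgSp.LocP @LocallyOfFiniteType f'.hom :=
        hlft.1 (fun U V a b h ha hb e => (hf a b h ha hb e).1)
      exact (Groth.Agent.H53.locP_unramified_iff_of_thick hiX hiY hcart X'.property Y.property
        Y'.property hft').1 hf
    · intro hf'
      have hft' : AlgSp.LocP @LocallyOfFiniteType f'.hom :=
        fun U V a b h ha hb e => (hf' a b h ha hb e).1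
      exact (Groth.Agent.H53.locP_unramified_iff_of_thick hiX hiY hcart X'.property Y.property
        Y'.property hft').2 hf'
  · have het : AlgSp.LocP @Etale f.hom → AlgSp.LocP @Etale f'.hom := by
      refine Groth.Agent.H53.locP_of_finThick_of_deforms (P := @Etale)
        ?_ ?_ ?_ hB' hcX hcY w' hB hflat
      · intro X X' Y Y' S S' iX iY iS f f' g g' hS hcX hcY w hfl hf
        have := hfl
        exact (Groth.Agent.S1322.result iX iY iS f f' g g' hS hcX hcY w).1 hf
      · exact Groth.Agent.H50.goodClass_etale.src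
      · intro A B C h e he hh
        have : Etale e := he
        have : Etale h := hh
        infer_instance
    constructor
    · intro hf
      exact Groth.Agent.H53.isEtaleMor_of_locP_etale Y'.property f'.hom
        (het (Groth.Agent.H53.locP_etale_of_isEtaleMor f.hom hf))
    · intro hf'
      exact Groth.Agent.H53.isEtaleMor_of_locP_etale Y.property f.hom
        (hbc Groth.Agent.H50.goodClass_etale (Groth.Agent.H53.locP_etale_of_isEtaleMor f'.hom hf'))

end Groth.Agent.S10596
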