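import Groth.Statements.S2060
import Mathlib
import Groth.Agent.H23.SmallExt2

set_option autoImplicit false
universe u
open CAlg

namespace Groth.Agent.S2060

/-- Let `R` be Noetherian, `S` of finite type over `R` and `𝔮` a prime of `S`. Then `R → S` is smooth at
`𝔮` if and only if for every surjection `B' → B` of Artinian local `R`-algebras whose kernel is
principal and killed by the maximal ideal of `B'`, every `R`-algebra map `S → B` under which the
maximal ideal pulls back to `𝔮` lifts to `B'`. -/
theorem result {R S : Type u} [CommRing R] [IsNoetherianRing R]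
    [CommRing S] [Algebra R S] [Algebra.FiniteType R S] (q : Ideal S) [q.IsPrime] :
    Algebra.IsSmoothAt R q ↔
      ∀ (B' B : Type u) [CommRing B'] [CommRing B] [IsLocalRing B'] [IsLocalRing B]
        [IsArtinianRing B'] [IsArtinianRing B] [Algebra R B'] [Algebra R B] (π : B' →ₐ[R] B),
        Function.Surjective π →
        (∃ t : B', RingHom.ker π.toRingHom = Ideal.span {t} ∧
          ∀ a ∈ IsLocalRing.maximalIdeal B', a * t = 0) →
        ∀ g : S →ₐ[R] B, (IsLocalRing.maximalIdeal B).comap g = q →
          ∃ g' : S →ₐ[R] B', π.comp g' = g := by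
  classical
  constructor
  · intro hsm B' B _ _ _ _ _ _ _ _ π hπ hker g hg
    obtain ⟨t, hker, hkill⟩ := hker
    have hsm' : Algebra.FormallySmooth R (Localization.AtPrime q) := hsm
    have hunit : ∀ s : q.primeCompl, IsUnit ((g : S →+* B) s) := by
      intro s
      by_contra hnu
      have h1 : (s : S) ∈ (IsLocalRing.maximalIdeal B).comap g := hnu
      rw [hg] at h1
      exact s.2 h1
    let g₀ : Localization.AtPrime q →+* B :=
      IsLocalization.lift (M := q.primeCompl) (g := (g : S →+* B)) hunit
    have hg₀ : ∀ s, g₀ (algebraMap S (Localization.AtPrime q) s) = g s :=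
      fun s => IsLocalization.lift_eq hunit s
    let gh : Localization.AtPrime q →ₐ[R] B :=
      { g₀ with
        commutes' := fun r => by
          change g₀ (algebraMap R _ r) = _
          rw [IsScalarTower.algebraMap_apply R S (Localization.AtPrime q), hg₀]
          exact g.commutes r }
    have ht : t ∈ IsLocalRing.maximalIdeal B' := by
      by_contra hnm
      have hu : IsUnit t := by
        rwa [IsLocalRing.mem_maximalIdeal, mem_nonunits_iff, not_not] at hnm
      have h1 : (1 : B') ∈ RingHom.ker π.toRingHom := by
        rw [hker, Ideal.span_singleton_eq_top.mpr hu]; trivial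
      have h2 : π 1 = 0 := h1
      rw [map_one] at h2
      exact one_ne_zero h2
    have hnil : IsNilpotent (RingHom.ker (π : B' →+* B)) := by
      refine ⟨2, ?_⟩
      change RingHom.ker π.toRingHom ^ 2 = ⊥
      rw [hker, pow_two, Ideal.span_singleton_mul_span_singleton, hkill t ht]
      exact Ideal.span_singleton_eq_bot.mpr rfl
    refine ⟨(Algebra.FormallySmooth.liftOfSurjective gh π hπ hnil).comp
      (IsScalarTower.toAlgHom R S (Localization.AtPrime q)), ?_⟩
    ext s
    have h1 := Algebra.FormallySmooth.liftOfSurjective_apply gh π hπ hnil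
      (algebraMap S (Localization.AtPrime q) s)
    exact h1.trans (hg₀ s)
  · intro H
    obtain ⟨n, f, hf⟩ := Algebra.FiniteType.iff_quotient_mvPolynomial''.mp
      (inferInstance : Algebra.FiniteType R S)
    letI algPS : Algebra (MvPolynomial (Fin n) R) S := f.toRingHom.toAlgebra
    have tow : IsScalarTower R (MvPolynomial (Fin n) R) S :=
      IsScalarTower.of_algebraMap_eq (fun a => (f.commutes a).symm)
    have hsurj : Function.Surjective (algebraMap (MvPolynomial (Fin n) R) S) := hf
    exact Groth.Agent.H23.SmallExt.formallySmooth_atPrime_of_smallLift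
      (P := MvPolynomial (Fin n) R) hsurj q H

end Groth.Agent.S2060
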