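import Groth.Statements.S10608
import Groth.Agent.H1.SmGlue.ChartLift
import Groth.Agent.H50.LocPNbhd
import Groth.Agent.H50.LocPClass
import Groth.Agent.S2060
import Groth.Agent.H50.LimOpen

set_option autoImplicit false
universe u
open CategoryTheory CategoryTheory.Limits AlgebraicGeometry
open AlgSp

namespace Groth.Agent.S10608



theorem ker_sq_of_small {B' B : Type u} [CommRing B'] [CommRing B] [IsLocalRing B'] [Nontrivial B]
    (π : B' →+* B)
    (hker : ∃ t : B', RingHom.ker π = Ideal.span {t} ∧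
      ∀ a ∈ IsLocalRing.maximalIdeal B', a * t = 0) : RingHom.ker π ^ 2 = ⊥ := by
  obtain ⟨t, hkt, hkill⟩ := hker
  have ht : t ∈ IsLocalRing.maximalIdeal B' := by
    by_contra hnm
    have hu : IsUnit t := by
      rwa [IsLocalRing.mem_maximalIdeal, mem_nonunits_iff, not_not] at hnm
    have h1 : (1 : B') ∈ RingHom.ker π := by
      rw [hkt, Ideal.span_singleton_eq_top.mpr hu]; trivial
    have h2 : π 1 = 0 := h1
    rw [map_one] at h2
    exact one_ne_zero h2
  rw [hkt, pow_two, Ideal.span_singleton_mul_span_singleton, hkill t ht]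
  exact Ideal.span_singleton_eq_bot.mpr rfl

open Groth.Agent.H1.SmGlue Groth.Agent.H53 in
/-- (1) ⇒ (2): smooth at `x` implies lifting along square-zero surjections of local rings. -/
theorem lift_of_smoothAt {S : Scheme.{u}} {X Y : AlgSp.Space S} (f : X ⟶ Y) (x : AlgSp.Points X.obj)
    (h1 : AlgSp.HasAtMor (fun U _ h u => ∃ W : U.Opens, u ∈ W ∧ Smooth (W.ι ≫ h)) f.hom x)
    (B' B : Type u) [CommRing B'] [CommRing B] [IsLocalRing B'] [IsLocalRing B] (π : B' →+* B)
    (hπ : Function.Surjective π) (hker : RingHom.ker π ^ 2 = ⊥)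
    (s : Spec (CommRingCat.of B') ⟶ S)
    (α : (AlgSp.yon S).obj (Over.mk (Spec.map (CommRingCat.ofHom π) ≫ s)) ⟶ X.obj)
    (β : (AlgSp.yon S).obj (Over.mk s) ⟶ Y.obj)
    (hx : AlgSp.Points.ofPt α (IsLocalRing.closedPoint B) = x)
    (comm : α ≫ f.hom = (AlgSp.yon S).map
      (Over.homMk (Spec.map (CommRingCat.ofHom π)) :
        Over.mk (Spec.map (CommRingCat.ofHom π) ≫ s) ⟶ Over.mk s) ≫ β) :
    ∃ γ : (AlgSp.yon S).obj (Over.mk s) ⟶ X.obj,
      (AlgSp.yon S).map (Over.homMk (Spec.map (CommRingCat.ofHom π)) :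
        Over.mk (Spec.map (CommRingCat.ofHom π) ≫ s) ⟶ Over.mk s) ≫ γ = α ∧ γ ≫ f.hom = β := by
  obtain ⟨X', j, hX', hj, ⟨x', hx'⟩, hsm⟩ :=
    (Groth.Agent.H50.goodClass_smooth.hasAtMor_iff_exists_open X.property Y.property f.hom x).1 h1
  -- factor `α` through the open subspace
  have hopen : IsOpen (Set.range (Points.map j)) :=
    (Groth.Agent.H50.isOpenMap_points_map_of_isOpenImmersion j hj).isOpen_range
  obtain ⟨α', hα'⟩ := (Groth.Agent.H51.exists_factor_iff_of_isOpenImmersion' j hj α).2 (by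
    rintro _ ⟨p, rfl⟩
    rw [← Points.ofScheme_toScheme _ p]
    change Points.ofPt (𝟙 _ ≫ α) _ ∈ Set.range (Points.map j)
    rw [Category.id_comp]
    have hop : IsOpen (Points.ofPt α ⁻¹' Set.range (Points.map j)) :=
      hopen.preimage (Points.continuous_ofPt α)
    have hcl : IsLocalRing.closedPoint B ∈ Points.ofPt α ⁻¹' Set.range (Points.map j) := by
      change Points.ofPt α (IsLocalRing.closedPoint B) ∈ Set.range (Points.map j)
      rw [hx]
      exact ⟨x', hx'⟩
    have hspec : (Points.toScheme _ p : PrimeSpectrum B) ⤳ IsLocalRing.closedPoint B :=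
      IsLocalRing.specializes_closedPoint _
    exact hspec.mem_open hop hcl)
  obtain ⟨γ', hγ1, hγ2⟩ := exists_lift_of_smooth_of_isLocalRing hX' Y.property (j ≫ f.hom) hsm
    B' B π hπ hker s α' β (by rw [← Category.assoc, hα', comm])
  exact ⟨γ' ≫ j, by rw [← Category.assoc, hγ1, hα'], by rw [Category.assoc, hγ2]⟩


open Groth.Agent.H1.SmGlue Groth.Agent.H53 in
set_option maxHeartbeats 1600000 in
/-- (3) ⇒ (1): lifting along small extensions of Artinian local rings implies smooth at `x`. -/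
theorem smoothAt_of_lift {S : Scheme.{u}} {X Y : AlgSp.Space S} (f : X ⟶ Y)
    (hY : AlgSp.IsLocNoethSp Y.obj) (hft : AlgSp.LocP @LocallyOfFiniteType f.hom)
    (x : AlgSp.Points X.obj)
    (h3 : ∀ (B' B : Type u) [CommRing B'] [CommRing B] [IsLocalRing B'] [IsLocalRing B]
        [IsArtinianRing B'] [IsArtinianRing B] (π : B' →+* B), Function.Surjective π →
        (∃ t : B', RingHom.ker π = Ideal.span {t} ∧ ∀ a ∈ IsLocalRing.maximalIdeal B', a * t = 0) →
        ∀ (s : Spec (CommRingCat.of B') ⟶ S)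
          (α : (AlgSp.yon S).obj (Over.mk (Spec.map (CommRingCat.ofHom π) ≫ s)) ⟶ X.obj)
          (β : (AlgSp.yon S).obj (Over.mk s) ⟶ Y.obj),
          AlgSp.Points.ofPt α (IsLocalRing.closedPoint B) = x →
          α ≫ f.hom = (AlgSp.yon S).map
            (Over.homMk (Spec.map (CommRingCat.ofHom π)) :
              Over.mk (Spec.map (CommRingCat.ofHom π) ≫ s) ⟶ Over.mk s) ≫ β →
          ∃ γ : (AlgSp.yon S).obj (Over.mk s) ⟶ X.obj,
            (AlgSp.yon S).map (Over.homMk (Spec.map (CommRingCat.ofHom π)) :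
              Over.mk (Spec.map (CommRingCat.ofHom π) ≫ s) ⟶ Over.mk s) ≫ γ = α ∧ γ ≫ f.hom = β) :
    AlgSp.HasAtMor (fun U _ h u => ∃ W : U.Opens, u ∈ W ∧ Smooth (W.ι ≫ h)) f.hom x := by
  obtain ⟨U₀, a₀, u₀, -, ha₀, hu₀⟩ := exists_affine_chart_through X.property x
  obtain ⟨V, b, hb, hbs, hVN⟩ := hY
  obtain ⟨W, w₁, w₂, sq⟩ := exists_pullback_yon (a₀ ≫ f.hom) b hb.rep
  have hw₁e : Etale w₁.left := prop_of_isPullback_yon sq hb
  have hw₁s : Surjective w₁.left := prop_of_isPullback_yon sq hbs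
  obtain ⟨w, hw⟩ := hw₁s.surj u₀
  have ha : RepWith @Etale ((yon S).map w₁ ≫ a₀) := repWith_etale_map_comp w₁ hw₁e a₀ ha₀
  have hcomm : ((yon S).map w₁ ≫ a₀) ≫ f.hom = (yon S).map w₂ ≫ b := by
    rw [Category.assoc, sq.w]
  have hxw : Points.ofPt ((yon S).map w₁ ≫ a₀) w = x := by
    rw [ofPt_yon_map_comp, hw, hu₀]
  have hlft : LocallyOfFiniteType w₂.left := hft _ b w₂ ha hb hcomm
  haveI : IsLocallyNoetherian V.left := hVN
  haveI hlfp : LocallyOfFinitePresentation w₂.left := by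
    rw [HasRingHomProperty.iff_appLE (P := @LocallyOfFinitePresentation)]
    intro U₁ V₁ e
    haveI : IsNoetherianRing Γ(V.left, U₁.1) := IsLocallyNoetherian.component_noetherian U₁
    exact RingHom.FinitePresentation.of_finiteType.mp (w₂.left.finiteType_appLE U₁.2 V₁.2 e)
  refine ⟨W, V, _, b, w₂, w, ha, hb, hcomm, hxw, w₂.left.smoothLocus, ?_, ?_⟩
  · rw [Scheme.Hom.mem_smoothLocus]
    obtain ⟨_, ⟨V₁, hV₁, rfl⟩, hwV₁, -⟩ :=
      V.left.isBasis_affineOpens.exists_subset_of_mem_open (Set.mem_univ (w₂.left w)) isOpen_univ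
    obtain ⟨_, ⟨U₁, hU₁, rfl⟩, hwU₁, hUV⟩ :=
      W.left.isBasis_affineOpens.exists_subset_of_mem_open hwV₁ (V₁.2.preimage w₂.left.continuous)
    rw [formallySmooth_stalkMap_iff V₁ hV₁ U₁ hU₁ hUV hwU₁]
    letI := (w₂.left.appLE V₁ U₁ hUV).hom.toAlgebra
    haveI : IsNoetherianRing Γ(V.left, V₁) := IsLocallyNoetherian.component_noetherian ⟨V₁, hV₁⟩
    haveI : Algebra.FiniteType Γ(V.left, V₁) Γ(W.left, U₁) :=
      w₂.left.finiteType_appLE hV₁ hU₁ hUV
    change Algebra.IsSmoothAt Γ(V.left, V₁) (hU₁.primeIdealOf ⟨w, hwU₁⟩).asIdeal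
    rw [Groth.Agent.S2060.result]
    intro B' B _ _ _ _ _ _ _ _ π hπ hker g hg
    have hkersq : RingHom.ker π.toRingHom ^ 2 = ⊥ := ker_sq_of_small π.toRingHom hker
    have hgρ : g.toRingHom.comp (w₂.left.appLE V₁ U₁ hUV).hom =
        π.toRingHom.comp (algebraMap Γ(V.left, V₁) B') := by
      ext r
      change g (algebraMap Γ(V.left, V₁) Γ(W.left, U₁) r) = π (algebraMap Γ(V.left, V₁) B' r)
      rw [g.commutes, π.commutes]
    have hptw : (Spec.map (CommRingCat.ofHom g.toRingHom) ≫ hU₁.fromSpec)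
        (IsLocalRing.closedPoint B) = w := by
      rw [Scheme.Hom.comp_apply]
      have : Spec.map (CommRingCat.ofHom g.toRingHom) (IsLocalRing.closedPoint B) =
          hU₁.primeIdealOf ⟨w, hwU₁⟩ := PrimeSpectrum.ext hg
      rw [this]
      exact hU₁.fromSpec_primeIdealOf ⟨w, hwU₁⟩
    obtain ⟨g'₀, hg'1, hg'2⟩ := exists_ringHom_lift_of_space_lift f.hom _ b w₂ ha hb hcomm hV₁ hU₁
      hUV B' B π.toRingHom hπ hkersq (algebraMap Γ(V.left, V₁) B') g.toRingHom hgρ
      (fun s α β hpt cm => h3 B' B π.toRingHom hπ hker s α β (by rw [hpt, hptw, hxw]) cm)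
    refine ⟨{ g'₀ with commutes' := fun r => congr($hg'2 r) }, ?_⟩
    ext y
    exact congr($hg'1 y)
  · rw [← Scheme.Hom.smoothLocus_eq_top_iff, ← Scheme.Hom.preimage_smoothLocus_eq]
    ext z
    simp

/-- Take a morphism f : X ⟶ Y of algebraic spaces over S that is locally of finite type, with Y locally
Noetherian, and let x be a point of X. The following are equivalent: (1) f is smooth at x (in some
chart diagram through x the chart morphism is smooth on an open neighbourhood); (2) for every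
surjection π : B' → B of local rings with kernel of square zero, every structure map Spec B' ⟶ S,
every α : Spec B ⟶ X sending the closed point to x and every β : Spec B' ⟶ Y with α ≫ f = Spec(π) ≫
β there is γ : Spec B' ⟶ X with Spec(π) ≫ γ = α and γ ≫ f = β; (3) the same for π ranging over
surjections of Artinian local rings with kernel principal and killed by the maximal ideal. Stated as
(1) ↔ (2) and (1) ↔ (3). -/
theorem result {S : Scheme.{u}} {X Y : AlgSp.Space S} (f : X ⟶ Y)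
    (hY : AlgSp.IsLocNoethSp Y.obj) (hft : AlgSp.LocP @LocallyOfFiniteType f.hom) (x : AlgSp.Points X.obj) :
    (AlgSp.HasAtMor (fun U _ h u => ∃ W : U.Opens, u ∈ W ∧ Smooth (W.ι ≫ h)) f.hom x ↔
      ∀ (B' B : Type u) [CommRing B'] [CommRing B] [IsLocalRing B'] [IsLocalRing B] (π : B' →+* B),
        Function.Surjective π → RingHom.ker π ^ 2 = ⊥ →
        ∀ (s : Spec (CommRingCat.of B') ⟶ S)
          (α : (AlgSp.yon S).obj (Over.mk (Spec.map (CommRingCat.ofHom π) ≫ s)) ⟶ X.obj)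
          (β : (AlgSp.yon S).obj (Over.mk s) ⟶ Y.obj),
          AlgSp.Points.ofPt α (IsLocalRing.closedPoint B) = x →
          α ≫ f.hom = (AlgSp.yon S).map
            (Over.homMk (Spec.map (CommRingCat.ofHom π)) :
              Over.mk (Spec.map (CommRingCat.ofHom π) ≫ s) ⟶ Over.mk s) ≫ β →
          ∃ γ : (AlgSp.yon S).obj (Over.mk s) ⟶ X.obj,
            (AlgSp.yon S).map (Over.homMk (Spec.map (CommRingCat.ofHom π)) :
              Over.mk (Spec.map (CommRingCat.ofHom π) ≫ s) ⟶ Over.mk s) ≫ γ = α ∧ γ ≫ f.hom = β) ∧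
    (AlgSp.HasAtMor (fun U _ h u => ∃ W : U.Opens, u ∈ W ∧ Smooth (W.ι ≫ h)) f.hom x ↔
      ∀ (B' B : Type u) [CommRing B'] [CommRing B] [IsLocalRing B'] [IsLocalRing B]
        [IsArtinianRing B'] [IsArtinianRing B] (π : B' →+* B), Function.Surjective π →
        (∃ t : B', RingHom.ker π = Ideal.span {t} ∧ ∀ a ∈ IsLocalRing.maximalIdeal B', a * t = 0) →
        ∀ (s : Spec (CommRingCat.of B') ⟶ S)
          (α : (AlgSp.yon S).obj (Over.mk (Spec.map (CommRingCat.ofHom π) ≫ s)) ⟶ X.obj)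
          (β : (AlgSp.yon S).obj (Over.mk s) ⟶ Y.obj),
          AlgSp.Points.ofPt α (IsLocalRing.closedPoint B) = x →
          α ≫ f.hom = (AlgSp.yon S).map
            (Over.homMk (Spec.map (CommRingCat.ofHom π)) :
              Over.mk (Spec.map (CommRingCat.ofHom π) ≫ s) ⟶ Over.mk s) ≫ β →
          ∃ γ : (AlgSp.yon S).obj (Over.mk s) ⟶ X.obj,
            (AlgSp.yon S).map (Over.homMk (Spec.map (CommRingCat.ofHom π)) :
              Over.mk (Spec.map (CommRingCat.ofHom π) ≫ s) ⟶ Over.mk s) ≫ γ = α ∧ γ ≫ f.hom = β) := by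
  have h12 := fun h1 (B' B : Type u) [CommRing B'] [CommRing B] [IsLocalRing B'] [IsLocalRing B]
      (π : B' →+* B) hπ hker s α β hx comm =>
    lift_of_smoothAt f x h1 B' B π hπ hker s α β hx comm
  refine ⟨⟨h12, fun h2 => smoothAt_of_lift f hY hft x ?_⟩,
    ⟨fun h1 => ?_, smoothAt_of_lift f hY hft x⟩⟩
  · intro B' B _ _ _ _ _ _ π hπ hker s α β hx comm
    exact h2 B' B π hπ (ker_sq_of_small π hker) s α β hx comm
  · intro B' B _ _ _ _ _ _ π hπ hker s α β hx comm
    exact h12 h1 B' B π hπ (ker_sq_of_small π hker) s α β hx comm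

end Groth.Agent.S10608
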