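import Groth.Statements.S10602
import Groth.Agent.H1.SmGlue.ChartLift2
import Groth.Agent.H1.SmallFT.Main
import Groth.Agent.H50.LocPClass
import Groth.Agent.S10608

set_option autoImplicit false
universe u
open CategoryTheory CategoryTheory.Limits AlgebraicGeometry
open AlgSp

namespace Groth.Agent.S10602

/-- Take a morphism f : X ⟶ Y of algebraic spaces over S that is locally of finite type, with Y locally
Noetherian. Then f is smooth if and only if for every surjection π : B' → B of Artinian local rings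
whose kernel is principal and killed by the maximal ideal of B', every structure map Spec B' ⟶ S,
every α : Spec B ⟶ X and every β : Spec B' ⟶ Y locally of finite type with α ≫ f = Spec(π) ≫ β,
there is γ : Spec B' ⟶ X with Spec(π) ≫ γ = α and γ ≫ f = β. (The published statement asks for lifts
only against β of finite type, which can be vacuous when Y is not quasi-separated; this row asks for
lifts against every β locally of finite type.) -/
theorem result {S : Scheme.{u}} {X Y : AlgSp.Space S} (f : X ⟶ Y)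
    (hY : AlgSp.IsLocNoethSp Y.obj) (hft : AlgSp.LocP @LocallyOfFiniteType f.hom) :
    AlgSp.LocP @Smooth f.hom ↔
      ∀ (B' B : Type u) [CommRing B'] [CommRing B] [IsLocalRing B'] [IsLocalRing B]
        [IsArtinianRing B'] [IsArtinianRing B] (π : B' →+* B), Function.Surjective π →
        (∃ t : B', RingHom.ker π = Ideal.span {t} ∧ ∀ a ∈ IsLocalRing.maximalIdeal B', a * t = 0) →
        ∀ (s : Spec (CommRingCat.of B') ⟶ S)
          (α : (AlgSp.yon S).obj (Over.mk (Spec.map (CommRingCat.ofHom π) ≫ s)) ⟶ X.obj)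
          (β : (AlgSp.yon S).obj (Over.mk s) ⟶ Y.obj),
          AlgSp.LocP @LocallyOfFiniteType β →
          α ≫ f.hom = (AlgSp.yon S).map
            (Over.homMk (Spec.map (CommRingCat.ofHom π)) :
              Over.mk (Spec.map (CommRingCat.ofHom π) ≫ s) ⟶ Over.mk s) ≫ β →
          ∃ γ : (AlgSp.yon S).obj (Over.mk s) ⟶ X.obj,
            (AlgSp.yon S).map (Over.homMk (Spec.map (CommRingCat.ofHom π)) :
              Over.mk (Spec.map (CommRingCat.ofHom π) ≫ s) ⟶ Over.mk s) ≫ γ = α ∧ γ ≫ f.hom = β := by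
  constructor
  · intro hsm B' B _ _ _ _ _ _ π hπ hker s α β _ comm
    exact Groth.Agent.H1.SmGlue.exists_lift_of_smooth_of_isLocalRing X.property Y.property f.hom hsm
      B' B π hπ (Groth.Agent.S10608.ker_sq_of_small π hker) s α β comm
  · intro h3
    obtain ⟨U₀, a₀, ha₀, ha₀s⟩ := X.property.atlas
    obtain ⟨V, b, hb, hbs, hVN⟩ := hY
    obtain ⟨W, w₁, w₂, sq⟩ := Groth.Agent.H53.exists_pullback_yon (a₀ ≫ f.hom) b hb.rep
    have hw₁e : Etale w₁.left := Groth.Agent.H53.prop_of_isPullback_yon sq hb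
    have hw₁s : Surjective w₁.left := Groth.Agent.H53.prop_of_isPullback_yon sq hbs
    have ha : RepWith @Etale ((yon S).map w₁ ≫ a₀) :=
      Groth.Agent.H53.repWith_etale_map_comp w₁ hw₁e a₀ ha₀
    have has : RepWith @Surjective ((yon S).map w₁ ≫ a₀) :=
      (RepWith @Surjective).comp_mem _ _ ((repWith_yon_map_iff _ _).2 hw₁s) ha₀s
    have hcomm : ((yon S).map w₁ ≫ a₀) ≫ f.hom = (yon S).map w₂ ≫ b := by
      rw [Category.assoc, sq.w]
    have hlft : LocallyOfFiniteType w₂.left := hft _ b w₂ ha hb hcomm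
    haveI : IsLocallyNoetherian V.left := hVN
    haveI hlfp : LocallyOfFinitePresentation w₂.left := by
      rw [HasRingHomProperty.iff_appLE (P := @LocallyOfFinitePresentation)]
      intro U₁ V₁ e
      haveI : IsNoetherianRing Γ(V.left, U₁.1) := IsLocallyNoetherian.component_noetherian U₁
      exact RingHom.FinitePresentation.of_finiteType.mp (w₂.left.finiteType_appLE U₁.2 V₁.2 e)
    refine Groth.Agent.H50.goodClass_smooth.locP_of_one_chart f.hom _ b w₂ ha has hb hcomm ?_
    rw [← Scheme.Hom.smoothLocus_eq_top_iff, ← top_le_iff]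
    rintro z -
    obtain ⟨_, ⟨V₁, hV₁, rfl⟩, hzV₁, -⟩ :=
      V.left.isBasis_affineOpens.exists_subset_of_mem_open (Set.mem_univ (w₂.left z)) isOpen_univ
    obtain ⟨_, ⟨U₁, hU₁, rfl⟩, hzU₁, hUV⟩ :=
      W.left.isBasis_affineOpens.exists_subset_of_mem_open hzV₁ (V₁.2.preimage w₂.left.continuous)
    -- a closed point of `U₁` in the closure of `z`
    obtain ⟨q, hqmax, hpq⟩ := Ideal.exists_le_maximal (hU₁.primeIdealOf ⟨z, hzU₁⟩).asIdeal
      (Ideal.IsPrime.ne_top inferInstance)
    let q' : PrimeSpectrum Γ(W.left, U₁) := ⟨q, hqmax.isPrime⟩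
    have hz'U₁ : hU₁.fromSpec q' ∈ U₁ := by
      have : hU₁.fromSpec q' ∈ Set.range hU₁.fromSpec := ⟨_, rfl⟩
      rwa [hU₁.range_fromSpec] at this
    have hspec : z ⤳ hU₁.fromSpec q' := by
      have h1 : hU₁.primeIdealOf ⟨z, hzU₁⟩ ⤳ q' := (PrimeSpectrum.le_iff_specializes _ _).1 hpq
      have h2 := h1.map hU₁.fromSpec.continuous
      rwa [hU₁.fromSpec_primeIdealOf ⟨z, hzU₁⟩] at h2
    refine hspec.mem_open w₂.left.smoothLocus.isOpen ?_
    have hprime : hU₁.primeIdealOf ⟨hU₁.fromSpec q', hz'U₁⟩ = q' := by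
      apply hU₁.fromSpec.isOpenEmbedding.injective
      rw [hU₁.fromSpec_primeIdealOf ⟨hU₁.fromSpec q', hz'U₁⟩]
    change hU₁.fromSpec q' ∈ w₂.left.smoothLocus
    rw [Scheme.Hom.mem_smoothLocus, formallySmooth_stalkMap_iff V₁ hV₁ U₁ hU₁ hUV hz'U₁]
    letI := (w₂.left.appLE V₁ U₁ hUV).hom.toAlgebra
    haveI : IsNoetherianRing Γ(V.left, V₁) := IsLocallyNoetherian.component_noetherian ⟨V₁, hV₁⟩
    haveI : Algebra.FiniteType Γ(V.left, V₁) Γ(W.left, U₁) :=
      w₂.left.finiteType_appLE hV₁ hU₁ hUV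
    change Algebra.IsSmoothAt Γ(V.left, V₁) (hU₁.primeIdealOf ⟨hU₁.fromSpec q', hz'U₁⟩).asIdeal
    rw [hprime]
    haveI : q.IsMaximal := hqmax
    change Algebra.IsSmoothAt Γ(V.left, V₁) q
    apply Groth.Agent.H1.SmallFT.isSmoothAt_of_smallLiftFT q
    intro B' B _ _ _ _ _ _ _ _ _ π hπ hker g hg
    have hkersq : RingHom.ker π.toRingHom ^ 2 = ⊥ :=
      Groth.Agent.S10608.ker_sq_of_small π.toRingHom hker
    have hgρ : g.toRingHom.comp (w₂.left.appLE V₁ U₁ hUV).hom =
        π.toRingHom.comp (algebraMap Γ(V.left, V₁) B') := by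
      ext r
      change g (algebraMap Γ(V.left, V₁) Γ(W.left, U₁) r) = π (algebraMap Γ(V.left, V₁) B' r)
      rw [g.commutes, π.commutes]
    obtain ⟨g'₀, hg'1, hg'2⟩ := Groth.Agent.H1.SmGlue.exists_ringHom_lift_of_space_lift' f.hom _ b w₂
      ha hb hcomm hV₁ hU₁ hUV B' B π.toRingHom hπ hkersq (algebraMap Γ(V.left, V₁) B') g.toRingHom hgρ
      (fun s α β hβ _ cm => by
        obtain ⟨βV, hβV, rfl⟩ := hβ
        refine h3 B' B π.toRingHom hπ hker s α _ ?_ cm
        have h1 : LocallyOfFiniteType βV.left := by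
          rw [hβV]
          have : LocallyOfFiniteType
              (Spec.map (CommRingCat.ofHom (algebraMap Γ(V.left, V₁) B'))) := by
            rw [HasRingHomProperty.Spec_iff (P := @LocallyOfFiniteType)]
            exact RingHom.finiteType_algebraMap.2 inferInstance
          infer_instance
        exact Groth.Agent.H50.goodClass_lft.locP_comp (IsAlgSpace.yon_obj V) _ _
          (Groth.Agent.H50.goodClass_lft.locP_yon_map βV h1)
          (Groth.Agent.H50.goodClass_lft.locP_of_repWith_etale b hb))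
    refine ⟨{ g'₀ with commutes' := fun r => congr($hg'2 r) }, ?_⟩
    ext y
    exact congr($hg'1 y)

end Groth.Agent.S10602
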