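import Groth.Statements.S10605
import Groth.Agent.H53.RepWithFpqc

set_option autoImplicit false
universe u
open CategoryTheory CategoryTheory.Limits AlgebraicGeometry
open AlgSp

namespace Groth.Agent.S10605

/-- The property of a morphism of algebraic spaces over S of being a thickening (representable, every
base change to a scheme a surjective closed immersion) is local on the base for the fpqc topology.
(The published statement also claims the same for first order thickenings; this row states only the
thickening clause.) -/
theorem result {S : Scheme.{u}} :
    AlgSp.IsLocalOnBase (S := S) AlgSp.IsFpqcCover
      AlgSp.IsThickMor := by
  have h1 := Groth.Agent.H1.isClosedImmersion_descendsAlong_fpqc.{u}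
  exact Groth.Agent.H53.isLocalOnBase_fpqc_repWith_of_affine
    (Q := ((@IsClosedImmersion : MorphismProperty Scheme.{u}) ⊓
      (@Surjective : MorphismProperty Scheme.{u})))
    (fun g hg => by
      have : IsClosedImmersion g := hg.1
      infer_instance)

end Groth.Agent.S10605
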