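import Groth.Statements.S10611
import Groth.Agent.H53.Deform.Finite
import Groth.Agent.H50.LimEvImm
import Groth.Agent.H50.LocPBase

set_option autoImplicit false
universe u
open CategoryTheory CategoryTheory.Limits AlgebraicGeometry
open AlgSp

namespace Groth.Agent.S10611

/-- Let iB : B ⟶ B' be a thickening of algebraic spaces over S (representable, every base change to a
scheme a surjective closed immersion), f' : X' ⟶ Y' a morphism of algebraic spaces over B' (via g' :
Y' ⟶ B') with Y' locally of finite type over B' and X' flat and locally of finite presentation over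
B', and f : X ⟶ Y, g : Y ⟶ B its base change to B (both squares to iB cartesian, iX ≫ f' = f ≫ iY).
Then f is proper if and only if f' is proper, and f is finite if and only if f' is finite. (The
published statement lists nine further properties with the same equivalence: representable by
schemes, quasi-compact, universally closed, separated, quasi-separated, surjective, universally
injective, affine and universally open. Since iX and iY are again thickenings and X = Y ×_{Y'} X',
those cases follow from the corresponding statements for morphisms of thickenings and are not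
restated here.) -/
theorem result {S : Scheme.{u}} {X X' Y Y' B B' : AlgSp.Space S} (iX : X ⟶ X') (iY : Y ⟶ Y') (iB : B ⟶ B')
    (f : X ⟶ Y) (f' : X' ⟶ Y') (g : Y ⟶ B) (g' : Y' ⟶ B')
    (hcX : IsPullback iX.hom (f ≫ g).hom (f' ≫ g').hom iB.hom) (hcY : IsPullback iY.hom g.hom g'.hom iB.hom)
    (w : iX ≫ f' = f ≫ iY)
    (hB : AlgSp.IsThickMor iB.hom)
    (hg' : AlgSp.LocP @LocallyOfFiniteType g'.hom)
    (hflat : AlgSp.LocP @Flat (f' ≫ g').hom) (hfp : AlgSp.LocP @LocallyOfFinitePresentation (f' ≫ g').hom) :
    (AlgSp.IsProperMor f.hom ↔ AlgSp.IsProperMor f'.hom) ∧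
    (AlgSp.IsFiniteMor f.hom ↔ AlgSp.IsFiniteMor f'.hom) := by
  have hiX : AlgSp.IsThickMor iX.hom := Groth.Agent.H53.isThickMor_of_isPullback hcX.flip hB
  have hiY : AlgSp.IsThickMor iY.hom := Groth.Agent.H53.isThickMor_of_isPullback hcY.flip hB
  have w' : iX.hom ≫ f'.hom = f.hom ≫ iY.hom := congrArg (fun t => t.hom) w
  have hcart : IsPullback iX.hom f.hom f'.hom iY.hom :=
    (IsPullback.of_right hcX.flip w'.symm hcY.flip).flip
  have hft' : AlgSp.LocP @LocallyOfFiniteType f'.hom := by
    refine Groth.Agent.H50.locP_lft_of_comp B'.property f'.hom g'.hom ?_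
    intro U V a b h ha hb e
    have : LocallyOfFinitePresentation h.left := hfp a b h ha hb e
    infer_instance
  have hft : AlgSp.LocP @LocallyOfFiniteType f.hom :=
    Groth.Agent.H50.goodClass_lft.locP_of_isPullback X'.property Y'.property Y.property f'.hom
      iY.hom iX.hom f.hom hcart hft'
  have H1 := Groth.Agent.S10587.result iX iY f f' hiX hiY w
  have H2 := Groth.Agent.S10589.result iX iY f f' hiX hiY w
  refine ⟨?_, ?_⟩
  · constructor
    · rintro ⟨h1, ⟨-, h2⟩, h3⟩
      exact ⟨H2.1.1 h1, ⟨hft', H1.2.1.1 h2⟩, H1.2.2.1.1 h3⟩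
    · rintro ⟨h1, ⟨-, h2⟩, h3⟩
      exact ⟨H2.1.2 h1, ⟨hft, H1.2.1.2 h2⟩, H1.2.2.1.2 h3⟩
  · rw [Groth.Agent.H53.Deform.isFiniteMor_iff_repWith,
      Groth.Agent.H53.Deform.isFiniteMor_iff_repWith]
    constructor
    · intro hf
      exact Groth.Agent.H53.Deform.repWith_isFinite_of_thick iX iY f f' hiX hiY w hcart hft' hf
    · intro h
      exact MorphismProperty.of_isPullback (P := AlgSp.RepWith @IsFinite) hcart h

end Groth.Agent.S10611
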