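import Groth.Statements.S1486
import Groth.Agent.H53.SmoothGlobalLift

set_option autoImplicit false
universe u
open FlatMor

namespace Groth.Agent.S1486

open AlgebraicGeometry CategoryTheory Limits in
/-- (1) ⇔ (3): a morphism f : X → Y is formally smooth (lifting against first order thickenings of
affine schemes, rings in the same universe) if and only if for all affine opens U ⊆ f⁻¹(V) the ring
map O_Y(V) → O_X(U) is formally smooth. -/
theorem result {X Y : Scheme.{u}} (f : X ⟶ Y) :
    MoreMor.IsFormallySmoothHom f ↔ ∀ (U : X.Opens) (V : Y.Opens) (hU : IsAffineOpen U) (hV : IsAffineOpen V) (hUV : U ≤ f ⁻¹ᵁ V),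
      letI := (f.appLE V U hUV).hom.toAlgebra
      Algebra.FormallySmooth Γ(Y, V) Γ(X, U) := by
  constructor
  · intro hf U V hU hV hUV
    letI := (f.appLE V U hUV).hom.toAlgebra
    rw [Algebra.FormallySmooth.iff_comp_surjective]
    intro B _ _ J hJ g
    have key : Spec.map (CommRingCat.ofHom (Ideal.Quotient.mk J)) ≫
          (Spec.map (CommRingCat.ofHom (algebraMap Γ(Y, V) B)) ≫ hV.fromSpec) =
        (Spec.map (CommRingCat.ofHom g.toRingHom) ≫ hU.fromSpec) ≫ f := by
      have hg : f.appLE V U hUV ≫ CommRingCat.ofHom g.toRingHom =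
          CommRingCat.ofHom (algebraMap Γ(Y, V) B) ≫ CommRingCat.ofHom (Ideal.Quotient.mk J) :=
        CommRingCat.hom_ext g.comp_algebraMap
      rw [Category.assoc, ← hV.SpecMap_appLE_fromSpec f hU hUV, ← Spec.map_comp_assoc,
        ← Spec.map_comp_assoc, hg]
    obtain ⟨l, hl1, hl2⟩ := hf B J hJ _ _ key
    have hrange : Set.range l ⊆ Set.range hU.fromSpec := by
      rintro _ ⟨y, rfl⟩
      obtain ⟨y', rfl⟩ := Groth.Agent.H8.specMap_quotientMk_surjective J hJ y
      rw [← Scheme.Hom.comp_apply, hl1, Scheme.Hom.comp_apply]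
      exact ⟨_, rfl⟩
    let l₀ := IsOpenImmersion.lift hU.fromSpec l hrange
    have hl₀ : l₀ ≫ hU.fromSpec = l := IsOpenImmersion.lift_fac _ _ _
    let lam := Spec.preimage l₀
    have hlam : Spec.map lam = l₀ := Spec.map_preimage l₀
    have hcomm : f.appLE V U hUV ≫ lam = CommRingCat.ofHom (algebraMap Γ(Y, V) B) := by
      rw [← Spec.map_inj, ← cancel_mono hV.fromSpec, Spec.map_comp, Category.assoc,
        hV.SpecMap_appLE_fromSpec f hU hUV, hlam, ← Category.assoc, hl₀, hl2]
    refine ⟨⟨lam.hom, fun r ↦ congr($hcomm r)⟩, ?_⟩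
    have hq : lam ≫ CommRingCat.ofHom (Ideal.Quotient.mk J) = CommRingCat.ofHom g.toRingHom := by
      rw [← Spec.map_inj, ← cancel_mono hU.fromSpec, Spec.map_comp, Category.assoc, hlam, hl₀, hl1]
    exact AlgHom.ext fun x ↦ congr($hq x)
  · intro H
    exact Groth.Agent.H53.SmoothGlobalLift.isFormallySmoothHom_of_appLE f H

end Groth.Agent.S1486
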