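import Groth.Statements.S1488
import Groth.Agent.S1486

set_option autoImplicit false
universe u
open FlatMor

namespace Groth.Agent.S1488

open AlgebraicGeometry CategoryTheory Limits in
/-- A morphism f : X → S is smooth if and only if it is locally of finite presentation and formally
smooth, i.e. has the lifting property against first order thickenings of affine schemes (rings in
the same universe). -/
theorem result {X S : Scheme.{u}} (f : X ⟶ S) :
    Smooth f ↔ LocallyOfFinitePresentation f ∧ MoreMor.IsFormallySmoothHom f := by
  constructor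
  · intro hf
    refine ⟨inferInstance, ?_⟩
    rw [Groth.Agent.S1486.result]
    intro U V hU hV hUV
    have h := f.smooth_appLE hV hU hUV
    letI := (f.appLE V U hUV).hom.toAlgebra
    have h' : Algebra.Smooth Γ(S, V) Γ(X, U) := h
    exact h'.formallySmooth
  · rintro ⟨hfp, hfs⟩
    rw [Groth.Agent.S1486.result] at hfs
    refine ⟨fun {U} hU {V} hV e ↦ ?_⟩
    have h1 := hfs V U hV hU e
    have h2 : (f.appLE U V e).hom.FinitePresentation :=
      (HasRingHomProperty.iff_appLE (P := @LocallyOfFinitePresentation)).mp hfp ⟨U, hU⟩ ⟨V, hV⟩ e
    letI := (f.appLE U V e).hom.toAlgebra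
    exact (⟨h1, h2⟩ : Algebra.Smooth Γ(S, U) Γ(X, V))

end Groth.Agent.S1488
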