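import Groth.Statements.S10616
import Groth.Agent.S1488
import Groth.Agent.H53.FormalEtale

set_option autoImplicit false
universe u
open CategoryTheory CategoryTheory.Limits AlgebraicGeometry
open AlgSp

namespace Groth.Agent.S10616

/-- Let a : F ⟶ G be a morphism of fppf sheaves on (Sch/S). If a is representable and smooth, then a is
formally smooth; if a is representable and etale, then a is formally etale; if a is representable
and unramified, then a is formally unramified (lifting conditions against square-zero thickenings of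
affine schemes). (The published statement is for transformations of arbitrary presheaves of sets on
(Sch/S)_fppf; this row takes fppf sheaves, the case of algebraic spaces.) -/
theorem result {S : Scheme.{u}} {F G : AlgSp.Sp S} (a : F ⟶ G) :
    (AlgSp.RepWith @Smooth a → AlgSp.IsFormallySmoothMor a) ∧
    (AlgSp.RepWith @Etale a → AlgSp.IsFormallyEtaleMor a) ∧
    (AlgSp.RepWith (@LocallyOfFiniteType ⊓ @FormallyUnramified) a → AlgSp.IsFormallyUnramifiedMor a) := by
  refine ⟨fun ha ↦ ?_, Groth.Agent.H53.isFormallyEtaleMor_of_repWith_etale a, fun ha ↦ ?_⟩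
  · intro sq
    have P := ha.rep.isPullback sq.bot
    have hsnd : Smooth (ha.rep.snd sq.bot).left := ha.property_snd sq.bot
    have hfs : MoreMor.IsFormallySmoothHom (ha.rep.snd sq.bot).left :=
      ((Groth.Agent.S1488.result (ha.rep.snd sq.bot).left).mp hsnd).2
    obtain ⟨s, hs1, hs2⟩ : ∃ s, s ≫ ha.rep.fst sq.bot = sq.top ∧
        s ≫ (AlgSp.yon S).map (ha.rep.snd sq.bot) = (AlgSp.yon S).map sq.j :=
      ⟨P.lift sq.top ((AlgSp.yon S).map sq.j) sq.comm, P.lift_fst _ _ _, P.lift_snd _ _ _⟩
    obtain ⟨s₀, rfl⟩ := (AlgSp.yon S).map_surjective s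
    have hs2' : s₀ ≫ ha.rep.snd sq.bot = sq.j :=
      (AlgSp.yon S).map_injective (by rw [Functor.map_comp]; exact hs2)
    have hs2'' : s₀.left ≫ (ha.rep.snd sq.bot).left =
        Spec.map (CommRingCat.ofHom (Ideal.Quotient.mk sq.I)) :=
      congrArg (fun k => k.left) hs2'
    obtain ⟨l₀, hl1, hl2⟩ := hfs sq.A sq.I sq.sq_zero s₀.left (𝟙 _)
      (by rw [Category.comp_id, hs2''])
    have hL : l₀ ≫ (ha.rep.pullback sq.bot).hom = sq.ptT'.hom := by
      rw [← Over.w (ha.rep.snd sq.bot), reassoc_of% hl2]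
    let L : sq.ptT' ⟶ ha.rep.pullback sq.bot := Over.homMk l₀ hL
    have hL1 : sq.j ≫ L = s₀ := by
      ext
      exact hl1
    have hL2 : L ≫ ha.rep.snd sq.bot = 𝟙 _ := by
      ext
      exact hl2
    refine ⟨(AlgSp.yon S).map L ≫ ha.rep.fst sq.bot, ?_, ?_⟩
    · rw [← Category.assoc, ← Functor.map_comp, hL1, hs1]
    · rw [Category.assoc, P.w, ← Category.assoc, ← Functor.map_comp, hL2,
        CategoryTheory.Functor.map_id, Category.id_comp]
  · intro sq l l' h1 h2 h1' h2'
    have P := ha.rep.isPullback sq.bot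
    have hsnd : FormallyUnramified (ha.rep.snd sq.bot).left := (ha.property_snd sq.bot).2
    obtain ⟨k, hk1, hk2⟩ : ∃ k, k ≫ ha.rep.fst sq.bot = l ∧
        k ≫ (AlgSp.yon S).map (ha.rep.snd sq.bot) = 𝟙 _ :=
      ⟨P.lift l (𝟙 _) (by rw [h2, Category.id_comp]), P.lift_fst _ _ _, P.lift_snd _ _ _⟩
    obtain ⟨k', hk1', hk2'⟩ : ∃ k, k ≫ ha.rep.fst sq.bot = l' ∧
        k ≫ (AlgSp.yon S).map (ha.rep.snd sq.bot) = 𝟙 _ :=
      ⟨P.lift l' (𝟙 _) (by rw [h2', Category.id_comp]), P.lift_fst _ _ _, P.lift_snd _ _ _⟩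
    obtain ⟨k₀, rfl⟩ := (AlgSp.yon S).map_surjective k
    obtain ⟨k₀', rfl⟩ := (AlgSp.yon S).map_surjective k'
    have e1 : k₀ ≫ ha.rep.snd sq.bot = 𝟙 _ :=
      (AlgSp.yon S).map_injective (by rw [Functor.map_comp, CategoryTheory.Functor.map_id]; exact hk2)
    have e1' : k₀' ≫ ha.rep.snd sq.bot = 𝟙 _ :=
      (AlgSp.yon S).map_injective (by rw [Functor.map_comp, CategoryTheory.Functor.map_id]; exact hk2')
    have e2 : sq.j ≫ k₀ = sq.j ≫ k₀' := by
      apply (AlgSp.yon S).map_injective
      rw [Functor.map_comp, Functor.map_comp]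
      apply P.hom_ext
      · rw [Category.assoc, Category.assoc, hk1, hk1', h1, h1']
      · rw [Category.assoc, Category.assoc, hk2, hk2']
    have e3 : k₀.left = k₀'.left := by
      haveI : IsClosedImmersion (Spec.map (CommRingCat.ofHom (Ideal.Quotient.mk sq.I))) :=
        IsClosedImmersion.spec_of_surjective _ Ideal.Quotient.mk_surjective
      refine FormallyUnramified.hom_ext (Spec.map (CommRingCat.ofHom (Ideal.Quotient.mk sq.I)))
        (Groth.Agent.H8.isNilpotent_ker_specMap_quotientMk sq.I sq.sq_zero)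
        (ha.rep.snd sq.bot).left ?_ ?_
      · exact congrArg (fun k => k.left) e2
      · have a1 := congrArg (fun k => k.left) e1
        have a2 := congrArg (fun k => k.left) e1'
        exact a1.trans a2.symm
    have e4 : k₀ = k₀' := by
      ext
      exact e3
    rw [← hk1, ← hk1', e4]

end Groth.Agent.S10616
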