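import Groth.Statements.S9771
import Groth.Agent.S1487
import Groth.Agent.H53.FlatUnramEtale

set_option autoImplicit false
universe u
open FlatMor

namespace Groth.Agent.S9771

open AlgebraicGeometry CategoryTheory Limits in
/-- An unramified (formally unramified and locally of finite type) flat morphism of schemes is formally
étale. (When the morphism is moreover locally of finite presentation this is the statement that flat
unramified morphisms are étale; the content here is the case without finite presentation.) -/
theorem result {X S : Scheme.{u}} (f : X ⟶ S)
    [Flat f] [FormallyUnramified f] [LocallyOfFiniteType f] : MoreMor.IsFormallyEtaleHom f := by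
  rw [Groth.Agent.S1487.result]
  intro U V hU hV hUV
  letI := (f.appLE V U hUV).hom.toAlgebra
  haveI hfl : Module.Flat Γ(S, V) Γ(X, U) := f.flat_appLE hV hU hUV
  haveI hfu : Algebra.FormallyUnramified Γ(S, V) Γ(X, U) := f.formallyUnramified_appLE hV hU hUV
  haveI hft : Algebra.FiniteType Γ(S, V) Γ(X, U) := f.finiteType_appLE hV hU hUV
  exact Groth.Agent.H53.formallyEtale_of_flat_of_formallyUnramified _ _

end Groth.Agent.S9771
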