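import Groth.Statements.S10629
import Groth.Agent.H1.SmGlue.Union
import Groth.Agent.H53.LargestOpenInst
import Groth.Agent.H53.FormalEtale
import Groth.Agent.H53.Thick
import Groth.Agent.S1488

set_option autoImplicit false
universe u
open CategoryTheory CategoryTheory.Limits AlgebraicGeometry
open AlgSp

namespace Groth.Agent.S10629

/-- A morphism f : X ⟶ Y of algebraic spaces over S is smooth if and only if it is locally of finite
presentation and formally smooth (lifting sense). -/
theorem result {S : Scheme.{u}} {X Y : AlgSp.Space S} (f : X ⟶ Y) :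
    AlgSp.LocP @Smooth f.hom ↔ AlgSp.LocP @LocallyOfFinitePresentation f.hom ∧ AlgSp.IsFormallySmoothMor f.hom := by
  constructor
  · intro hf
    exact ⟨Groth.Agent.H53.locP_mono Groth.Agent.H53.smooth_le_lfp f.hom hf,
      Groth.Agent.H1.SmGlue.isFormallySmoothMor_of_smooth X.property Y.property f.hom hf⟩
  · rintro ⟨hlfp, hfs⟩ U V a b h ha hb hc
    rw [Groth.Agent.S1488.result]
    refine ⟨hlfp a b h ha hb hc, ?_⟩
    -- `h_h` is formally smooth
    have haE := Groth.Agent.H53.isFormallyEtaleMor_of_repWith_etale a ha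
    have hbE := Groth.Agent.H53.isFormallyEtaleMor_of_repWith_etale b hb
    have h1 : IsFormallySmoothMor (a ≫ f.hom) :=
      Groth.Agent.H53.formallySmooth_comp
        (Groth.Agent.H53.isFormallySmoothMor_of_isFormallyEtaleMor haE) hfs
    rw [hc] at h1
    have h2 : IsFormallySmoothMor ((yon S).map h) :=
      Groth.Agent.H53.formallySmooth_of_comp
        (Groth.Agent.H53.isFormallyUnramifiedMor_of_isFormallyEtaleMor hbE) h1
    rw [Groth.Agent.H53.formallySmooth_iff] at h2
    intro A _ I hI a₀ b₀ comm
    have hw : a₀ ≫ U.hom = Spec.map (CommRingCat.ofHom (Ideal.Quotient.mk I)) ≫ b₀ ≫ V.hom := by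
      rw [← Over.w h, ← Category.assoc, ← comm, Category.assoc]
    obtain ⟨l, hl1, hl2⟩ := h2 A I hI (b₀ ≫ V.hom)
      ((yon S).map (Over.homMk a₀ hw : Groth.Agent.H53.smallPt I (b₀ ≫ V.hom) ⟶ U))
      ((yon S).map (Over.homMk b₀ rfl : Groth.Agent.H53.bigPt (b₀ ≫ V.hom) ⟶ V)) (by
        rw [← Functor.map_comp, ← Functor.map_comp]
        congr 1
        ext
        exact comm.symm)
    obtain ⟨l₀, rfl⟩ := (yon S).map_surjective l
    rw [← Functor.map_comp] at hl1 hl2
    refine ⟨l₀.left, ?_, ?_⟩
    · exact congrArg (fun k => k.left) ((yon S).map_injective hl1)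
    · exact congrArg (fun k => k.left) ((yon S).map_injective hl2)

end Groth.Agent.S10629
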