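import Groth.Statements.S10630
import Groth.Agent.H53.Thick

set_option autoImplicit false
universe u
open CategoryTheory CategoryTheory.Limits AlgebraicGeometry
open AlgSp

namespace Groth.Agent.S10630

/-- (1) ⇔ (3): let h : Z ⟶ X be a morphism of algebraic spaces over S and let i : Z ⟶ Z', h' : Z' ⟶ X be
a first order thickening of Z over X (i ≫ h' = h). Then (i, h') is a universal first order
thickening of Z over X if and only if for every first order thickening j : T ⟶ T' of schemes over S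
with T' affine, every a : T ⟶ Z and b : T' ⟶ X with j ≫ b = a ≫ h, there is exactly one a' : T' ⟶ Z'
with j ≫ a' = a ≫ i and a' ≫ h' = b. -/
theorem result {S : Scheme.{u}} {Z Z' X : AlgSp.Space S} (h : Z ⟶ X) (i : Z ⟶ Z')
    (h' : Z' ⟶ X) (hi : AlgSp.IsFOThickMor i.hom) (w : i ≫ h' = h) :
    AlgSp.IsUnivFOThick h.hom i.hom h'.hom ↔
      ∀ (T T' : Over S) (j : T ⟶ T'), IsAffine T'.left → AlgSp.IsFOThickMor ((AlgSp.yon S).map j) →
        ∀ (a : (AlgSp.yon S).obj T ⟶ Z.obj) (b : (AlgSp.yon S).obj T' ⟶ X.obj),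
          (AlgSp.yon S).map j ≫ b = a ≫ h.hom →
          ∃! a' : (AlgSp.yon S).obj T' ⟶ Z'.obj, (AlgSp.yon S).map j ≫ a' = a ≫ i.hom ∧ a' ≫ h'.hom = b := by
  constructor
  · intro HU T T' j _ hj a b hjb
    exact HU.2.2 (AlgSp.IsAlgSpace.yon_obj T) (AlgSp.IsAlgSpace.yon_obj T') _ a b hj hjb
  · intro H
    refine ⟨hi, congrArg (fun k => k.hom) w, ?_⟩
    intro T T' hT hT' j a b hj hjb
    have key : ∀ (Z₀ : Over S) (β : (AlgSp.yon S).obj Z₀ ⟶ T'), IsAffine Z₀.left →
        AlgSp.RepWith @Etale β →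
        ∃! m : (AlgSp.yon S).obj Z₀ ⟶ Z'.obj,
          Groth.Agent.H53.IsChartLift h'.hom j (a ≫ i.hom) b β m := by
      intro Z₀ β hZ₀ hβ
      have sq := hj.1.rep.isPullback β
      have hthick := Groth.Agent.H53.isFOThickMor_of_isPullback_chart hj hβ sq
      obtain ⟨m, ⟨hm1, hm2⟩, hm3⟩ := H _ _ (hj.1.rep.snd β) hZ₀ hthick (hj.1.rep.fst β ≫ a) (β ≫ b)
        (by rw [← Category.assoc, ← sq.w, Category.assoc, hjb, Category.assoc])
      refine ⟨m, (Groth.Agent.H53.isChartLift_iff_of_isPullback sq m).2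
        ⟨by rw [hm1, Category.assoc], hm2⟩, fun m' hm' => ?_⟩
      have := (Groth.Agent.H53.isChartLift_iff_of_isPullback sq m').1 hm'
      exact hm3 m' ⟨by rw [this.1, Category.assoc], this.2⟩
    exact Groth.Agent.H53.thick_lift_of_charts h'.hom j hT' (a ≫ i.hom) b
      (fun Z₀ β hZ₀ hβ => (key Z₀ β hZ₀ hβ).exists)
      (fun Z₀ β hZ₀ hβ m m' hm hm' => (key Z₀ β hZ₀ hβ).unique hm hm')

end Groth.Agent.S10630
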