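import Groth.Statements.S10631
import Groth.Agent.H53.Thick

set_option autoImplicit false
universe u
open CategoryTheory CategoryTheory.Limits AlgebraicGeometry
open AlgSp

namespace Groth.Agent.S10631

/-- Consider morphisms Z ⟶ Y ⟶ X of algebraic spaces over S. If (i : Z ⟶ Z', h' : Z' ⟶ Y) is, over Y, a
universal first order thickening of Z and g : Y ⟶ X is formally etale, then (i, h' ≫ g) is, over X,
a universal first order thickening of Z. -/
theorem result {S : Scheme.{u}} {Z Z' Y X : AlgSp.Space S} (hZ : Z ⟶ Y) (g : Y ⟶ X)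
    (i : Z ⟶ Z') (h' : Z' ⟶ Y) (HU : AlgSp.IsUnivFOThick hZ.hom i.hom h'.hom) (hg : AlgSp.IsFormallyEtaleMor g.hom) :
    AlgSp.IsUnivFOThick (hZ ≫ g).hom i.hom (h' ≫ g).hom := by
  obtain ⟨h1, h2, h3⟩ := HU
  refine ⟨h1, ?_, ?_⟩
  · change i.hom ≫ h'.hom ≫ g.hom = hZ.hom ≫ g.hom
    rw [← Category.assoc, h2]
  · intro T T' hT hT' j a b hj hjb
    have hgu := Groth.Agent.H53.isFormallyUnramifiedMor_of_isFormallyEtaleMor hg
    have hjb' : (a ≫ hZ.hom) ≫ g.hom = j ≫ b := by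
      rw [Category.assoc]; exact hjb.symm
    obtain ⟨b', hb1, hb2⟩ := Groth.Agent.H53.thick_lift_exists g.hom hg j hj hT' (a ≫ hZ.hom) b hjb'
    obtain ⟨a', ⟨ha1, ha2⟩, ha3⟩ := h3 hT hT' j a b' hj hb1
    refine ⟨a', ⟨ha1, ?_⟩, ?_⟩
    · change a' ≫ h'.hom ≫ g.hom = b
      rw [← Category.assoc, ha2, hb2]
    · rintro a'' ⟨h4, h5⟩
      refine ha3 a'' ⟨h4, ?_⟩
      refine Groth.Agent.H53.thick_lift_unique g.hom hgu j hj hT' (a ≫ hZ.hom) b _ _ ?_ ?_ hb1 hb2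
      · rw [← Category.assoc, h4, Category.assoc, h2]
      · rw [Category.assoc]; exact h5

end Groth.Agent.S10631
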