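import Groth.Statements.S10632
import Groth.Agent.H53.EtaleFormal

set_option autoImplicit false
universe u
open CategoryTheory CategoryTheory.Limits AlgebraicGeometry
open AlgSp

namespace Groth.Agent.S10632

/-- Let e : Z ⟶ Y be an etale morphism of algebraic spaces over S, hY : Y ⟶ X, and let (iY : Y ⟶ Y', hY'
: Y' ⟶ X) be a universal first order thickening of Y over X. Let e' : Z' ⟶ Y' be etale with iZ : Z ⟶
Z' making Z = Y ×_{Y'} Z' a pullback square. Then (iZ, e' ≫ hY') is a universal first order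
thickening of Z over X. -/
theorem result {S : Scheme.{u}} {Z Y Y' Z' X : AlgSp.Space S} (e : Z ⟶ Y)
    (he : AlgSp.IsEtaleMor e.hom) (hY : Y ⟶ X) (iY : Y ⟶ Y') (hY' : Y' ⟶ X)
    (HU : AlgSp.IsUnivFOThick hY.hom iY.hom hY'.hom) (iZ : Z ⟶ Z') (e' : Z' ⟶ Y') (he' : AlgSp.IsEtaleMor e'.hom)
    (sq : IsPullback e.hom iZ.hom iY.hom e'.hom) :
    AlgSp.IsUnivFOThick (e ≫ hY).hom iZ.hom (e' ≫ hY').hom := by
  obtain ⟨h1, h2, h3⟩ := HU
  have hfe := Groth.Agent.H53.isFormallyEtaleMor_of_isEtaleMor Z'.property e'.hom he'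
  have hfu := Groth.Agent.H53.isFormallyUnramifiedMor_of_isFormallyEtaleMor hfe
  refine ⟨⟨MorphismProperty.of_isPullback (P := AlgSp.RepWith AlgSp.thick) sq h1.1, ?_⟩, ?_, ?_⟩
  · intro V W b fst snd hV hb sqb
    exact h1.2 (b ≫ e'.hom) (fst ≫ e.hom) snd hV (he' b hb) (sqb.paste_horiz sq)
  · change iZ.hom ≫ e'.hom ≫ hY'.hom = e.hom ≫ hY.hom
    rw [← Category.assoc, ← sq.w, Category.assoc, h2]
  · intro T T' hT hT' j a b hj hjb
    have hjb' : j ≫ b = (a ≫ e.hom) ≫ hY.hom := by rw [Category.assoc]; exact hjb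
    obtain ⟨c, ⟨hc1, hc2⟩, hc3⟩ := h3 hT hT' j (a ≫ e.hom) b hj hjb'
    have hw : (a ≫ iZ.hom) ≫ e'.hom = j ≫ c := by
      rw [Category.assoc, ← sq.w, ← Category.assoc, hc1, Category.assoc]
    obtain ⟨a', ha1, ha2⟩ := Groth.Agent.H53.thick_lift_exists e'.hom hfe j hj hT' (a ≫ iZ.hom) c hw
    refine ⟨a', ⟨ha1, ?_⟩, ?_⟩
    · change a' ≫ e'.hom ≫ hY'.hom = b
      rw [← Category.assoc, ha2, hc2]
    · rintro a'' ⟨h4, h5⟩
      have h5' : (a'' ≫ e'.hom) ≫ hY'.hom = b := by rw [Category.assoc]; exact h5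
      have hc'' : a'' ≫ e'.hom = c := hc3 _ ⟨by
        rw [← Category.assoc, h4, Category.assoc, ← sq.w, Category.assoc], h5'⟩
      exact Groth.Agent.H53.thick_lift_unique e'.hom hfu j hj hT' (a ≫ iZ.hom) c a'' a' h4 hc'' ha1 ha2

end Groth.Agent.S10632
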