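import Groth.Statements.S10636
import Groth.Agent.H53.ThickBC

set_option autoImplicit false
universe u
open CategoryTheory CategoryTheory.Limits AlgebraicGeometry
open AlgSp

namespace Groth.Agent.S10636

/-- Take a formally unramified morphism h : Z ⟶ X of algebraic spaces over S and let (i : Z ⟶ Z', h' :
Z' ⟶ X) be a universal first order thickening of Z over X. Then h' is formally unramified. -/
theorem result {S : Scheme.{u}} {Z Z' X : AlgSp.Space S} (h : Z ⟶ X)
    (hh : AlgSp.IsFormallyUnramifiedMor h.hom) (i : Z ⟶ Z') (h' : Z' ⟶ X) (HU : AlgSp.IsUnivFOThick h.hom i.hom h'.hom) :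
    AlgSp.IsFormallyUnramifiedMor h'.hom := by
  intro sq l l' h1 h2 h3 h4
  have hih : i.hom ≫ h'.hom = h.hom := HU.2.1
  have hrep : Representable i.hom := HU.1.1.rep
  have sql := hrep.isPullback l
  have hil : IsFOThickMor ((yon S).map (hrep.snd l)) :=
    Groth.Agent.H53.isFOThickMor_of_isPullback HU.1 Z'.property sql
  have hrepj := representable_yon_map sq.j
  have Q := hrepj.isPullback ((yon S).map (hrep.snd l))
  have hk : IsFOThickMor ((yon S).map (hrepj.snd ((yon S).map (hrep.snd l)))) :=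
    Groth.Agent.H53.isFOThickMor_of_isPullback (Groth.Agent.H53.isFOThickMor_infSq_j sq)
      (IsAlgSpace.yon_obj _) Q
  have hb : (yon S).map (hrep.snd l) ≫ sq.bot = hrep.fst l ≫ h.hom := by
    rw [← hih, ← Category.assoc, sql.w, Category.assoc, h2]
  -- Step A: the two lifts agree on `l⁻¹(Z)`
  have E : (yon S).map (hrep.snd l) ≫ l = (yon S).map (hrep.snd l) ≫ l' := by
    have HA := HU.2.2 (IsAlgSpace.yon_obj _) (IsAlgSpace.yon_obj _)
      ((yon S).map (hrepj.snd ((yon S).map (hrep.snd l))))
      ((yon S).map (hrepj.snd ((yon S).map (hrep.snd l))) ≫ hrep.fst l)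
      ((yon S).map (hrep.snd l) ≫ sq.bot) hk (by rw [hb, Category.assoc])
    refine HA.unique ⟨?_, ?_⟩ ⟨?_, ?_⟩
    · rw [Category.assoc, sql.w]
    · rw [Category.assoc, h2]
    · rw [Category.assoc, sql.w, ← Category.assoc, ← Q.w, Category.assoc, h3]
      have := Q.w =≫ l
      simp only [Category.assoc] at this
      rw [← this, h1]
    · rw [Category.assoc, h4]
  -- Step B: uniqueness for the thickening `l⁻¹(Z) ⊂ T'`
  have HB := HU.2.2 (IsAlgSpace.yon_obj _) (IsAlgSpace.yon_obj _)
    ((yon S).map (hrep.snd l)) (hrep.fst l) sq.bot hil hb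
  exact HB.unique ⟨sql.w.symm, h2⟩ ⟨by rw [← E, sql.w], h4⟩

end Groth.Agent.S10636
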