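import Groth.Statements.S1064
import Groth.Agent.H5.LocFreeLocus

set_option autoImplicit false
universe u
open CategoryTheory CategoryTheory.Limits AlgebraicGeometry Opposite
attribute [local instance] HasDerivedCategory.standard
open Perf

namespace Groth.Agent.S1064

/-- Let E be a perfect object of D(O_X), i ∈ ℤ and r ∈ ℕ. There is an open subset U ⊆ X such that for
every morphism f : Y ⟶ X whose derived pullback Lf^* exists, f has its image inside U exactly when
Lf^*E is isomorphic in D(O_Y) to a finite locally free O_Y-module of rank r placed in degree i. -/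
theorem result (X : Scheme.{u}) (E : DCoh.D X) (hE : DCoh.IsPerfect E) (i : ℤ) (r : ℕ) :
    ∃ U : X.Opens, ∀ (Y : Scheme.{u}) (f : Y ⟶ X) [DCoh.HasLpull f],
      Set.range f.base ⊆ (U : Set X) ↔
        ∃ V : Y.Modules, FlatMod.IsFinLocFreeOfRank r V ∧ Nonempty ((DCoh.Lpull f).obj E ≅ (DCoh.inD Y V)⟦-i⟧) := by
  refine ⟨⟨Groth.Agent.H5.LocFreeLocus.locus E i r,
    Groth.Agent.H5.LocFreeLocus.isOpen_locus E i r⟩, fun Y f _ => ⟨fun h => ?_, ?_⟩⟩
  · obtain ⟨V, hV, ⟨e⟩⟩ := Groth.Agent.H5.LocFreeLocus.exists_iso_of_range_subset f E i r h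
    exact ⟨V, hV, ⟨e ≪≫ (((DerivedCategory.singleFunctors Y.Modules).shiftIso (-i) i 0
      (by omega)).app V).symm⟩⟩
  · rintro ⟨V, hV, ⟨e⟩⟩ _ ⟨y, rfl⟩
    exact Groth.Agent.H5.LocFreeLocus.mem_locus f E hE i r V hV
      (e ≪≫ ((DerivedCategory.singleFunctors Y.Modules).shiftIso (-i) i 0 (by omega)).app V) y

end Groth.Agent.S1064
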