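import Groth.Statements.S10651
import Groth.Agent.H53.ZMT.FinFibreNbhd
import Groth.Agent.H52.DecentMor
import Groth.Agent.S9964
import Groth.Agent.S10281
import Groth.Agent.S10650

set_option autoImplicit false
universe u
open CategoryTheory CategoryTheory.Limits AlgebraicGeometry
open AlgSp

namespace Groth.Agent.S10651

/-- Consider morphisms h : X ⟶ Y, f : X ⟶ B, g : Y ⟶ B of algebraic spaces over S with h ≫ g = f, a
point b of |B| and a field point k of B in the class of b. Assume f is proper, g is separated and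
locally of finite type, and either (a) for the fibres X_k ⟶ Y_k of h over k (pullbacks in fppf
sheaves) the image of |X_k| in |Y_k| is finite, or (b) the image in |Y| of the fibre of |X| ⟶ |B|
over b is finite and B is decent. Then over some open subspace B' of B containing b the base change
X_{B'} ⟶ Y_{B'} of h lands in a closed subspace Z of Y_{B'} that is finite over B' (it factors
through Z). -/
theorem result {S : Scheme.{u}} {X Y B : AlgSp.Space S} (h : X ⟶ Y) (f : X ⟶ B) (g : Y ⟶ B) (hc : h ≫ g = f)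
    (b : AlgSp.Points B.obj) (k : AlgSp.FieldPt B.obj) (hk : AlgSp.Points.mk k = b)
    (hf : AlgSp.IsProperMor f.hom) (hg1 : AlgSp.IsSeparatedMor g.hom) (hg2 : AlgSp.LocP @LocallyOfFiniteType g.hom)
    (h3 : (∀ (Yk : AlgSp.Sp S) (gY : Yk ⟶ Y.obj) (sY : Yk ⟶ (AlgSp.yon S).obj k.pt),
            IsPullback gY sY g.hom k.toHom →
            ∀ (Xk : AlgSp.Sp S) (gX : Xk ⟶ X.obj) (hk' : Xk ⟶ Yk), IsPullback gX hk' h.hom gY →
              (Set.range (AlgSp.Points.map hk')).Finite) ∨
          ((AlgSp.Points.map h.hom '' (AlgSp.Points.map f.hom ⁻¹' {b})).Finite ∧ AlgSp.IsDecent B.obj)) :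
    ∃ (B' : AlgSp.Space S) (j : B' ⟶ B), AlgSp.RepWith @IsOpenImmersion j.hom ∧
      b ∈ Set.range (AlgSp.Points.map j.hom) ∧
        ∀ (YB : AlgSp.Space S) (gY : YB ⟶ Y) (sY : YB ⟶ B'), IsPullback gY.hom sY.hom g.hom j.hom →
          ∀ (XB : AlgSp.Space S) (gX : XB ⟶ X) (hB : XB ⟶ YB), IsPullback gX.hom hB.hom h.hom gY.hom →
            ∃ (Z : AlgSp.Space S) (i : Z ⟶ YB) (e : XB ⟶ Z), AlgSp.RepWith @IsClosedImmersion i.hom ∧
              AlgSp.IsFiniteMor (i ≫ sY).hom ∧ e ≫ i = hB := by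
  classical
  have hle : (@IsClosedImmersion : MorphismProperty Scheme.{u}) ≤ @QuasiCompact :=
    fun _ _ g hg => by
      have : IsClosedImmersion g := hg
      exact (inferInstance : QuasiCompact g)
  -- the scheme theoretic image of `h`
  obtain ⟨Z₀, i₀, hZ₀⟩ := Groth.Agent.S9964.result h
  have hi₀cl : AlgSp.RepWith @IsClosedImmersion i₀.hom := hZ₀.1
  obtain ⟨h'hom, hfac⟩ := hZ₀.2.1
  let h' : X ⟶ Z₀ := ObjectProperty.homMk h'hom
  have fac : h' ≫ i₀ = h := by
    apply ObjectProperty.hom_ext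
    exact hfac
  obtain ⟨hprop, hsurj⟩ := Groth.Agent.S10281.result h f g hc hf hg1 hg2 i₀ hZ₀ h' fac
  have hig : (i₀ ≫ g).hom = i₀.hom ≫ g.hom := rfl
  have hi₀mono : Mono i₀.hom :=
    Groth.Agent.H49.mono_of_repWith_mono
      (fun _ _ g hg => by
        have : IsClosedImmersion g := hg
        exact (inferInstance : Mono g)) i₀.hom hi₀cl
  have hlft : AlgSp.LocP @LocallyOfFiniteType (i₀ ≫ g).hom := hprop.2.1.1
  have hsepig : AlgSp.IsSeparatedMor (i₀ ≫ g).hom := hprop.1
  have hfx : ∀ x : AlgSp.Points X.obj, AlgSp.Points.map i₀.hom (AlgSp.Points.map h'hom x) =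
      AlgSp.Points.map h.hom x := by
    intro x
    rw [← AlgSp.Points.map_comp, hfac]
  have hfb : ∀ x : AlgSp.Points X.obj,
      AlgSp.Points.map (i₀ ≫ g).hom (AlgSp.Points.map h'hom x) = AlgSp.Points.map f.hom x := by
    intro x
    rw [hig, AlgSp.Points.map_comp, hfx, ← AlgSp.Points.map_comp]
    have : h.hom ≫ g.hom = f.hom := congrArg (fun m => m.hom) hc
    rw [this]
  -- quasi-finiteness at the points over `b`
  have hq : ∀ z : AlgSp.Points Z₀.obj, AlgSp.Points.map (i₀ ≫ g).hom z = b →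
      AlgSp.HasAtMor (fun U _ h u => ∃ W : U.Opens, u ∈ W ∧ LocallyQuasiFinite (W.ι ≫ h) ∧
        LocallyOfFiniteType (W.ι ≫ h)) (i₀ ≫ g).hom z := by
    rcases h3 with ha | ⟨hfinb, hBdec⟩
    · intro z hz
      let Yk : AlgSp.Sp S := pullback g.hom k.toHom
      let gY : Yk ⟶ Y.obj := pullback.fst g.hom k.toHom
      let sY : Yk ⟶ (AlgSp.yon S).obj k.pt := pullback.snd g.hom k.toHom
      have sqY : IsPullback gY sY g.hom k.toHom := IsPullback.of_hasPullback _ _
      let Xk : AlgSp.Sp S := pullback h.hom gY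
      let gX : Xk ⟶ X.obj := pullback.fst h.hom gY
      let hk' : Xk ⟶ Yk := pullback.snd h.hom gY
      have sqX : IsPullback gX hk' h.hom gY := IsPullback.of_hasPullback _ _
      have hfinr := ha Yk gY sY sqY Xk gX hk' sqX
      let Zk : AlgSp.Sp S := pullback i₀.hom gY
      let gZ : Zk ⟶ Z₀.obj := pullback.fst i₀.hom gY
      let ik : Zk ⟶ Yk := pullback.snd i₀.hom gY
      have sqZ : IsPullback gZ ik i₀.hom gY := IsPullback.of_hasPullback _ _
      have sqZk : IsPullback gZ (ik ≫ sY) (i₀ ≫ g).hom k.toHom :=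
        (sqZ.flip.paste_horiz sqY.flip).flip
      have hZk : AlgSp.IsAlgSpace Zk :=
        Groth.Agent.H49.isAlgSpace_of_isPullback sqZk B.property.diag Z₀.property
          (AlgSp.IsAlgSpace.yon_obj _)
      have hsepk : AlgSp.IsSeparatedMor (ik ≫ sY) :=
        Groth.Agent.H53.ZMT.isSeparatedMor_of_isPullback sqZk hsepig
      have hqsk : AlgSp.RepWith @QuasiCompact (pullback.diagonal (ik ≫ sY)) :=
        Groth.Agent.H51.repWith_mono hle hsepk
      have hdec : AlgSp.IsDecent Zk :=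
        Groth.Agent.H52.isDecent_of_quasiSeparated_over hZk (ik ≫ sY) hqsk
      have hikmono : Mono ik := by
        have : Mono i₀.hom := hi₀mono
        exact MorphismProperty.of_isPullback (P := MorphismProperty.monomorphisms _) sqZ this
      have hrange : Set.range (AlgSp.Points.map ik) ⊆ Set.range (AlgSp.Points.map hk') := by
        rintro _ ⟨zk, rfl⟩
        obtain ⟨x, hx⟩ := hsurj (AlgSp.Points.map gZ zk)
        obtain ⟨xk, -, hxk⟩ := Groth.Agent.H50.points_exists_of_isPullback sqX x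
          (AlgSp.Points.map ik zk) (by
            rw [← hfx, show AlgSp.Points.map h'hom x = AlgSp.Points.map gZ zk from hx,
              ← AlgSp.Points.map_comp, sqZ.w, AlgSp.Points.map_comp])
        exact ⟨xk, hxk⟩
      have hfinrange : (Set.range (AlgSp.Points.map ik)).Finite := hfinr.subset hrange
      have hfin : Finite (AlgSp.Points Zk) := by
        have : Finite ↥(Set.range (AlgSp.Points.map ik)) := hfinrange
        exact Finite.of_injective_finite_range (Groth.Agent.H51.injective_map_of_mono ik)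
      exact Groth.Agent.H53.ZMT.hasAtMor_qfAt_of_finite_points_fibre (i₀ ≫ g) hlft k gZ (ik ≫ sY)
        sqZk hdec hfin z (hz.trans hk.symm)
    · have hqsig : AlgSp.IsQuasiSeparatedMor (i₀ ≫ g).hom := Groth.Agent.H51.repWith_mono hle hsepig
      have hZ₀dec : AlgSp.IsDecent Z₀.obj :=
        Groth.Agent.H52.isDecent_of_isDecentMor (i₀ ≫ g).hom
          (Groth.Agent.H52.isDecentMor_of_isQuasiSeparatedMor Z₀.property B.property _ hqsig) hBdec
      have hfib : (AlgSp.Points.map (i₀ ≫ g).hom ⁻¹' {b}).Finite := by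
        refine (hfinb.preimage (Groth.Agent.H51.injective_map_of_mono i₀.hom).injOn).subset ?_
        intro z hz
        obtain ⟨x, rfl⟩ := hsurj z
        refine ⟨x, ?_, (hfx x).symm⟩
        change AlgSp.Points.map f.hom x = b
        rw [← hfb]
        exact hz
      intro z hz
      exact Groth.Agent.H53.ZMT.hasAtMor_qfAt_of_finite_fibre_of_isDecent (i₀ ≫ g) hlft hZ₀dec b
        hfib z hz
  -- finiteness over a neighbourhood
  obtain ⟨B', j, hj, hbj, hfinB⟩ := Groth.Agent.S10650.result (i₀ ≫ g) b hprop hq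
  refine ⟨B', j, hj, hbj, ?_⟩
  intro YB gY sY sqY XB gX hB sqX
  let Zobj : AlgSp.Sp S := pullback i₀.hom gY.hom
  let pZ : Zobj ⟶ Z₀.obj := pullback.fst i₀.hom gY.hom
  let iZ : Zobj ⟶ YB.obj := pullback.snd i₀.hom gY.hom
  have sqZ : IsPullback pZ iZ i₀.hom gY.hom := IsPullback.of_hasPullback _ _
  have hZalg : AlgSp.IsAlgSpace Zobj :=
    Groth.Agent.H49.isAlgSpace_of_isPullback sqZ Y.property.diag Z₀.property YB.property
  let Z : AlgSp.Space S := ⟨Zobj, hZalg⟩
  let i : Z ⟶ YB := ObjectProperty.homMk iZ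
  let pZ' : Z ⟶ Z₀ := ObjectProperty.homMk pZ
  have hicl : AlgSp.RepWith @IsClosedImmersion iZ := MorphismProperty.of_isPullback sqZ hi₀cl
  have sqZB : IsPullback pZ (iZ ≫ sY.hom) (i₀ ≫ g).hom j.hom :=
    (sqZ.flip.paste_horiz sqY.flip).flip
  have hfin : AlgSp.IsFiniteMor (i ≫ sY).hom := hfinB Z pZ' (i ≫ sY) sqZB
  have hcomm : (gX.hom ≫ h'hom) ≫ i₀.hom = hB.hom ≫ gY.hom := by
    rw [Category.assoc, hfac]
    exact sqX.w
  refine ⟨Z, i, ObjectProperty.homMk (sqZ.lift (gX.hom ≫ h'hom) hB.hom hcomm), hicl, hfin, ?_⟩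
  apply ObjectProperty.hom_ext
  exact sqZ.lift_snd _ _ _

end Groth.Agent.S10651
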