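import Groth.Statements.S10653
import Groth.Agent.H51.SpOpenTrace
import Groth.Agent.H49.AlgSpOpen
import Groth.Agent.H53.FibreDimChart
import Groth.Agent.S1240

set_option autoImplicit false
universe u
open CategoryTheory CategoryTheory.Limits AlgebraicGeometry
open AlgSp

namespace Groth.Agent.S10653

/-- For a flat morphism f : X ⟶ Y of algebraic spaces over S which is locally of finite type, and an
open subspace j : V ⟶ Y with |V| dense in |Y| such that the base change X ×_Y V ⟶ V has relative
dimension at most d (at every point some etale chart diagram has top arrow with local fibre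
dimension at most d): if either j is quasi-compact or f is locally of finite presentation, then f
has relative dimension at most d at every point of |X|. -/
theorem result {S : Scheme.{u}} {X Y V : AlgSp.Space S} (f : X ⟶ Y) (j : V ⟶ Y) (d : ℕ)
    (hf1 : AlgSp.LocP @Flat f.hom) (hf2 : AlgSp.LocP @LocallyOfFiniteType f.hom)
    (hj1 : AlgSp.RepWith @IsOpenImmersion j.hom) (hj2 : Dense (Set.range (AlgSp.Points.map j.hom)))
    (P : AlgSp.Space S) (fst : P ⟶ X) (snd : P ⟶ V) (hP : IsPullback fst.hom snd.hom f.hom j.hom)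
    (hV : ∀ x, AlgSp.HasAtMor (fun _ _ h u => FlatMor.fibreDimAt h u ≤ (d : WithBot ℕ∞)) snd.hom x)
    (h : AlgSp.LocP @LocallyOfFinitePresentation f.hom ∨ AlgSp.IsQuasiCompactMor j.hom) :
    ∀ x, AlgSp.HasAtMor (fun _ _ h u => FlatMor.fibreDimAt h u ≤ (d : WithBot ℕ∞)) f.hom x := by
  intro x
  obtain ⟨W, b, hbE, hbS⟩ := Y.property.atlas
  obtain ⟨U, a, g, haE, haS, e⟩ := Groth.Agent.H49.exists_chart_lift X.property f.hom b hbE hbS
  have : Flat g.left := hf1 a b g haE hbE e
  have : LocallyOfFiniteType g.left := hf2 a b g haE hbE e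
  obtain ⟨W', ι, b', sq, hιO, hι⟩ := Groth.Agent.H51.exists_open_trace j.hom hj1 b
  have hdense := Groth.Agent.H51.dense_range_of_open_trace j.hom hj2 b hbE ι hι
  have hfstO : RepWith @IsOpenImmersion fst.hom := MorphismProperty.of_isPullback hP.flip hj1
  have hle_et : (@IsOpenImmersion : MorphismProperty Scheme.{u}) ≤ @Etale :=
    fun _ _ g hg => inferInstance
  have hfstE : RepWith @Etale fst.hom := Groth.Agent.H51.repWith_mono hle_et hfstO
  have hjE : RepWith @Etale j.hom := Groth.Agent.H51.repWith_mono hle_et hj1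
  have hle : ∀ u : ↥U.left, g.left u ∈ ι.left.opensRange →
      FlatMor.fibreDimAt g.left u ≤ (d : WithBot ℕ∞) := by
    intro u hu
    obtain ⟨v, hv⟩ := (hι (g.left u)).2 hu
    have hxy : Points.map f.hom (Points.ofPt a u) = Points.map j.hom v := by
      rw [hv, Points.map_ofPt, e, Groth.Agent.H51.ofPt_map_comp]
    obtain ⟨p, hp1, hp2⟩ := Groth.Agent.H50.points_exists_of_isPullback hP _ _ hxy
    obtain ⟨U₁, V₁, a₁, b₁, h₁, u₁, ha₁, hb₁, e₁, hu₁, hd₁⟩ := hV p
    have key := Groth.Agent.H53.fibreDimAt_chart_indep f.hom a b g (a₁ ≫ fst.hom) (b₁ ≫ j.hom) h₁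
      haE hbE (MorphismProperty.comp_mem _ _ _ ha₁ hfstE) (MorphismProperty.comp_mem _ _ _ hb₁ hjE) e
      (by rw [Category.assoc, hP.w, ← Category.assoc, e₁, Category.assoc]) u u₁
      (by rw [← Points.map_ofPt, hu₁, hp1])
    rw [key]
    exact hd₁
  have hcond : LocallyOfFinitePresentation g.left ∨
      IsRetrocompact (ι.left.opensRange : Set ↥W.left) := by
    rcases h with h | h
    · exact Or.inl (h a b g haE hbE e)
    · exact Or.inr (Groth.Agent.H51.isRetrocompact_range_of_open_trace j.hom hj1 h b ι b' sq)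
  obtain ⟨u, rfl⟩ := Groth.Agent.H51.surjective_ofPt_of_surjective a haS x
  exact ⟨U, W, a, b, g, u, haE, hbE, e, rfl,
    Groth.Agent.S1240.result g.left ι.left.opensRange hdense d hle hcond u⟩

end Groth.Agent.S10653
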