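import Groth.Statements.S10654
import Groth.Agent.S10653
import Groth.Agent.S10649
import Groth.Agent.H51.SpQuasiFiniteAt

set_option autoImplicit false
universe u
open CategoryTheory CategoryTheory.Limits AlgebraicGeometry
open AlgSp

namespace Groth.Agent.S10654

/-- For a flat proper morphism f : X ⟶ Y of algebraic spaces over S and an open subspace j : V ⟶ Y with
|V| dense in |Y| such that the base change X ×_Y V ⟶ V is finite: f is finite over all of Y,
provided either j is quasi-compact or f is locally of finite presentation. -/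
theorem result {S : Scheme.{u}} {X Y V : AlgSp.Space S} (f : X ⟶ Y) (j : V ⟶ Y)
    (hf1 : AlgSp.LocP @Flat f.hom) (hf2 : AlgSp.IsProperMor f.hom)
    (hj1 : AlgSp.RepWith @IsOpenImmersion j.hom) (hj2 : Dense (Set.range (AlgSp.Points.map j.hom)))
    (P : AlgSp.Space S) (fst : P ⟶ X) (snd : P ⟶ V) (hP : IsPullback fst.hom snd.hom f.hom j.hom)
    (hV : AlgSp.IsFiniteMor snd.hom)
    (h : AlgSp.LocP @LocallyOfFinitePresentation f.hom ∨ AlgSp.IsQuasiCompactMor j.hom) :
    AlgSp.IsFiniteMor f.hom := by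
  have hLFT : AlgSp.LocP @LocallyOfFiniteType f.hom := hf2.2.1.1
  have hnonneg : ∀ {A B : Scheme.{u}} (g : A ⟶ B) (x : ↥A), (0 : WithBot ℕ∞) ≤ FlatMor.fibreDimAt g x := by
    intro A B g x
    unfold FlatMor.fibreDimAt FlatMor.localDim
    exact le_iInf fun U => Groth.Agent.H51.topologicalKrullDim_nonneg_of_mem
      (⟨g.asFiber x, U.2⟩ : (U.1 : Set (g.fiber (g x))))
  -- the base change over `V` has relative dimension `≤ 0`
  have tf1 : AlgSp.IsFiniteMor snd.hom ↔
      AlgSp.IsProperMor snd.hom ∧ AlgSp.LocP (@LocallyQuasiFinite ⊓ @LocallyOfFiniteType) snd.hom :=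
    (Groth.Agent.S10649.result snd).out 0 1
  have tf2 : AlgSp.IsFiniteMor f.hom ↔
      AlgSp.IsProperMor f.hom ∧ AlgSp.LocP (@LocallyQuasiFinite ⊓ @LocallyOfFiniteType) f.hom :=
    (Groth.Agent.S10649.result f).out 0 1
  have hsnd : AlgSp.LocP (@LocallyQuasiFinite ⊓ @LocallyOfFiniteType) snd.hom := (tf1.1 hV).2
  have hsndLFT : AlgSp.LocP @LocallyOfFiniteType snd.hom :=
    fun U V a b g ha hb e => (hsnd a b g ha hb e).2
  have hV0 : ∀ p, AlgSp.HasAtMor
      (fun _ _ h u => FlatMor.fibreDimAt h u ≤ ((0 : ℕ) : WithBot ℕ∞)) snd.hom p := by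
    intro p
    obtain ⟨U, V, a, b, g, u, ha, hb, e, hu, hd⟩ :=
      (Groth.Agent.H51.lqf_iff_fibreDimAt_zero snd hsndLFT).1 hsnd p
    refine ⟨U, V, a, b, g, u, ha, hb, e, hu, ?_⟩
    change FlatMor.fibreDimAt g.left u ≤ ((0 : ℕ) : WithBot ℕ∞)
    rw [hd]
    simp
  have hall := Groth.Agent.S10653.result f j 0 hf1 hLFT hj1 hj2 P fst snd hP hV0 h
  have hlqf : AlgSp.LocP (@LocallyQuasiFinite ⊓ @LocallyOfFiniteType) f.hom := by
    refine (Groth.Agent.H51.lqf_iff_fibreDimAt_zero f hLFT).2 fun x => ?_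
    obtain ⟨U, V, a, b, g, u, ha, hb, e, hu, hd⟩ := hall x
    refine ⟨U, V, a, b, g, u, ha, hb, e, hu, le_antisymm ?_ (hnonneg g.left u)⟩
    have hd' : FlatMor.fibreDimAt g.left u ≤ ((0 : ℕ) : WithBot ℕ∞) := hd
    simpa using hd'
  exact tf2.2 ⟨hf2, hlqf⟩

end Groth.Agent.S10654
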