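import Groth.Statements.S10659
import Groth.Agent.H53.Charts
import Groth.Agent.H53.FpqcLocal

set_option autoImplicit false
universe u
open CategoryTheory CategoryTheory.Limits AlgebraicGeometry
open AlgSp

namespace Groth.Agent.S10659

/-- For a property P of morphisms of schemes that is etale local on the target (local for the etale
precoverage) and a representable morphism f : X ⟶ Y of algebraic spaces over S: if for one scheme V
with a representable etale surjective b : h_V ⟶ Y and one pullback square of f along b with corner
h_W the projection W ⟶ V has P, then f has P etale locally on the target in the representable sense,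
i.e. every such projection along every etale h_V ⟶ Y has P. (The published statement also asserts
the converse direction and that, for X and Y representable, the condition is equivalent to f having
P; this row states only that one surjective etale chart suffices.) -/
theorem result {S : Scheme.{u}} (P : MorphismProperty Scheme.{u}) [P.IsLocalAtTarget Scheme.etalePrecoverage]
    {X Y : AlgSp.Space S} (f : X ⟶ Y) (hf : AlgSp.Representable f.hom)
    {V W : Over S} (b : (AlgSp.yon S).obj V ⟶ Y.obj) (hb1 : AlgSp.RepWith @Etale b) (hb2 : AlgSp.RepWith @Surjective b)
    (fst : (AlgSp.yon S).obj W ⟶ X.obj) (snd : W ⟶ V)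
    (sq : IsPullback fst ((AlgSp.yon S).map snd) f.hom b) (hP : P snd.left) :
    AlgSp.RepLocT P f.hom := by
  refine ⟨hf, fun V' W' b' fst' snd' hb' sq' => ?_⟩
  have hRI : P.RespectsIso := inferInstance
  obtain ⟨V'', q, r, sqV⟩ := Groth.Agent.H53.exists_pullback_yon b b' hb'.rep
  have hq : Etale q.left := Groth.Agent.H53.prop_of_isPullback_yon sqV hb'
  have hr1 : Etale r.left := Groth.Agent.H53.prop_of_isPullback_yon sqV.flip hb1
  have hr2 : Surjective r.left := Groth.Agent.H53.prop_of_isPullback_yon sqV.flip hb2
  -- step 1
  have h1 : P (pullback.snd snd.left q.left) := by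
    let X : Option Unit → Scheme.{u} := fun o => o.elim V.left (fun _ => V''.left)
    let g : ∀ o, X o ⟶ V.left := fun o => match o with
      | none => 𝟙 V.left
      | some _ => q.left
    have hR : Presieve.ofArrows X g ∈ Scheme.etalePrecoverage V.left := by
      change _ ∈ Scheme.precoverage @Etale V.left
      rw [Scheme.ofArrows_mem_precoverage_iff]
      refine ⟨fun x => ⟨none, x, rfl⟩, ?_⟩
      rintro (_ | _)
      · exact (inferInstance : Etale (𝟙 V.left))
      · exact hq
    exact MorphismProperty.IsLocalAtTarget.pullbackSnd (P := P) hR (Presieve.ofArrows.mk (some ())) hP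
  -- step 2
  have sqA : IsPullback (pullback.fst snd q) (pullback.snd snd q) snd q := IsPullback.of_hasPullback _ _
  have sqA' : IsPullback (pullback.fst snd' r) (pullback.snd snd' r) snd' r := IsPullback.of_hasPullback _ _
  have hA : P (pullback.snd snd q).left :=
    Groth.Agent.H53.prop_snd_of_isPullback_of_isPullback P (IsPullback.of_hasPullback snd.left q.left)
      (sqA.map (Over.forget S)) h1
  have bigA := (sqA.map (yon S)).paste_horiz sq
  have bigA' := (sqA'.map (yon S)).paste_horiz sq'
  rw [sqV.w] at bigA
  have he := IsPullback.isoIsPullback_hom_snd _ _ bigA bigA'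
  have hε : ((yon S).preimageIso (bigA.isoIsPullback _ _ bigA')).hom ≫ pullback.snd snd' r =
      pullback.snd snd q := by
    apply (yon S).map_injective
    rw [Functor.map_comp, Functor.preimageIso_hom, Functor.map_preimage]
    exact he
  have hA' : P (pullback.snd snd' r).left := by
    have h3 : (pullback.snd snd q).left =
        ((Over.forget S).mapIso ((yon S).preimageIso (bigA.isoIsPullback _ _ bigA'))).hom ≫
          (pullback.snd snd' r).left := congrArg (fun φ => φ.left) hε.symm
    rw [h3] at hA
    exact (P.cancel_left_of_respectsIso _ _).1 hA
  have h2 : P (pullback.snd snd'.left r.left) :=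
    Groth.Agent.H53.prop_snd_of_isPullback_of_isPullback P (sqA'.map (Over.forget S))
      (IsPullback.of_hasPullback snd'.left r.left) hA'
  -- step 3
  have hR : Presieve.singleton r.left ∈ Scheme.etalePrecoverage V'.left := by
    change _ ∈ Scheme.precoverage @Etale V'.left
    rw [Scheme.singleton_mem_precoverage_iff]
    exact ⟨hr2.surj, hr1⟩
  refine MorphismProperty.IsLocalAtTarget.of_forall_pullbackSnd (P := P) hR ?_
  rintro _ _ _ ⟨⟩
  exact h2

end Groth.Agent.S10659
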