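import Groth.Statements.S10662
import Groth.Agent.H51.SpRegImmChart

set_option autoImplicit false
universe u
open CategoryTheory CategoryTheory.Limits AlgebraicGeometry
open AlgSp

namespace Groth.Agent.S10662

/-- Let k be one of the kinds Koszul-regular, H_1-regular, quasi-regular; let i : Z ⟶ X be a regular
immersion of algebraic spaces over S of kind k and g : X' ⟶ X a flat morphism of algebraic spaces.
Then the base change Z ×_X X' ⟶ X' (any pullback square of algebraic spaces) is a regular immersion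
of kind k. -/
theorem result {S : Scheme.{u}} (k : RegImm.Kind) (hk : k = RegImm.Kind.koszul ∨ k = RegImm.Kind.h1 ∨ k = RegImm.Kind.quasi)
    {Z X X' : AlgSp.Space S} (i : Z ⟶ X) (g : X' ⟶ X)
    (hi : AlgSp.IsRegImmMor k i.hom) (hg : AlgSp.LocP @Flat g.hom)
    (P : AlgSp.Space S) (fst : P ⟶ Z) (i' : P ⟶ X') (sq : IsPullback fst.hom i'.hom i.hom g.hom) :
    AlgSp.IsRegImmMor k i'.hom := by
  obtain ⟨hrep, hall⟩ := hi
  have hrep' : AlgSp.Representable i'.hom := MorphismProperty.of_isPullback sq hrep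
  refine ⟨hrep', fun V' W' b' fst' snd' hb' sqW' => ?_⟩
  obtain ⟨U, p, hp1, hp2⟩ := X.property.atlas
  obtain ⟨T, t₁, t₂, sqT⟩ := Groth.Agent.H53.exists_pullback_yon (b' ≫ g.hom) p hp1.rep
  have ht₁ : Etale t₁.left := Groth.Agent.H53.prop_of_isPullback_yon sqT hp1
  have ht₁s : Surjective t₁.left := Groth.Agent.H53.prop_of_isPullback_yon sqT hp2
  have ht₂ : Flat t₂.left :=
    hg ((yon S).map t₁ ≫ b') p t₂ (Groth.Agent.H53.repWith_etale_map_comp t₁ ht₁ b' hb') hp1
      (by rw [Category.assoc]; exact sqT.w)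
  have sq₀ := hrep.isPullback p
  have h₀ := hall p (hrep.fst p) (hrep.snd p) hp1 sq₀
  have sqV := sqW'.paste_horiz sq
  have hk' : k ≠ RegImm.Kind.regular := by
    rcases hk with rfl | rfl | rfl <;> decide
  exact Groth.Agent.H51.regImm_of_chart k hk' i.hom hrep p _ _ sq₀ h₀ (b' ≫ g.hom) _ snd' sqV
    t₁ t₂ ht₁ ht₁s ht₂ sqT.w

end Groth.Agent.S10662
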