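import Groth.Statements.S10665
import Groth.Agent.H94.LciSp
import Groth.Agent.H39.RegImmKoszul

set_option autoImplicit false
universe u
open CategoryTheory CategoryTheory.Limits AlgebraicGeometry
open AlgSp

namespace Groth.Agent.S10665

/-- A Koszul-regular immersion between algebraic spaces over S (representable, Koszul-regular immersion
on every etale scheme chart of the target) is a local complete intersection morphism (Koszul at
every point, etale locally on source and target). -/
theorem result {S : Scheme.{u}} {X Y : AlgSp.Space S} (i : X ⟶ Y) (hi : AlgSp.IsRegImmMor RegImm.Kind.koszul i.hom) :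
    AlgSp.IsLCIMor i.hom := by
  intro U V a b h ha hb w
  obtain ⟨hrep, hloc⟩ := hi
  have he : AlgSp.RepWith @Etale (hrep.fst b) := Groth.Agent.H51.repWith_fst hrep b hb
  have hreg : RegImm.IsRegularImmersion RegImm.Kind.koszul (hrep.snd b).left :=
    hloc b (hrep.fst b) (hrep.snd b) hb (hrep.isPullback b)
  let k : U ⟶ hrep.pullback b := hrep.lift a h w
  have hk1 : (AlgSp.yon S).map k ≫ hrep.fst b = a := hrep.lift_fst a h w
  have hk2 : k ≫ hrep.snd b = h := hrep.lift_snd a h w
  have hk : Etale k.left := Groth.Agent.H51.etale_of_chart_hom a _ ha he k hk1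
  rw [← hk2, Over.comp_left]
  exact Groth.Agent.H94.LciLocal.lci_comp _ _ (Groth.Agent.H94.LciLocal.lci_of_smooth _)
    (Groth.Agent.H39.RegImmKoszul.isKoszulAt_of_regularImmersion _ _ (Or.inr rfl) hreg)

end Groth.Agent.S10665
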