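import Groth.Statements.S10669
import Groth.Agent.H51.SpDvrReduced

set_option autoImplicit false
universe u
open CategoryTheory CategoryTheory.Limits AlgebraicGeometry
open AlgSp

namespace Groth.Agent.S10669

/-- For a discrete valuation ring R with residue field κ and fraction field K and an algebraic space X
over Spec R whose structure morphism s (to the terminal sheaf h_{Spec R}) is flat and proper: if the
special fibre X ×_{Spec R} Spec κ is reduced (some etale surjective scheme chart is reduced), then X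
is reduced and so is the generic fibre X ×_{Spec R} Spec K. -/
theorem result (R : Type u) [CommRing R] [IsDomain R] [IsDiscreteValuationRing R]
    {X : AlgSp.Space (Spec (CommRingCat.of R))}
    (s : X.obj ⟶ (AlgSp.yon (Spec (CommRingCat.of R))).obj (Over.mk (𝟙 _)))
    (hs1 : AlgSp.IsProperMor s) (hs2 : AlgSp.LocP @Flat s)
    (h0 : ∀ (X0 : AlgSp.Sp (Spec (CommRingCat.of R))) (fst : X0 ⟶ X.obj)
      (snd : X0 ⟶ (AlgSp.yon (Spec (CommRingCat.of R))).obj
        (Over.mk (Spec.map (CommRingCat.ofHom (IsLocalRing.residue R))))),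
      IsPullback fst snd s ((AlgSp.yon (Spec (CommRingCat.of R))).map
        (Over.homMk (Spec.map (CommRingCat.ofHom (IsLocalRing.residue R))) (Category.comp_id _) :
          Over.mk (Spec.map (CommRingCat.ofHom (IsLocalRing.residue R))) ⟶ Over.mk (𝟙 _))) →
      AlgSp.EtaleLocally (fun U => IsReduced U) X0) :
    AlgSp.EtaleLocally (fun U => IsReduced U) X.obj ∧
      ∀ (Xη : AlgSp.Sp (Spec (CommRingCat.of R))) (fst : Xη ⟶ X.obj)
        (snd : Xη ⟶ (AlgSp.yon (Spec (CommRingCat.of R))).obj
          (Over.mk (Spec.map (CommRingCat.ofHom (algebraMap R (FractionRing R)))))),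
        IsPullback fst snd s ((AlgSp.yon (Spec (CommRingCat.of R))).map
          (Over.homMk (Spec.map (CommRingCat.ofHom (algebraMap R (FractionRing R)))) (Category.comp_id _) :
            Over.mk (Spec.map (CommRingCat.ofHom (algebraMap R (FractionRing R)))) ⟶ Over.mk (𝟙 _))) →
        AlgSp.EtaleLocally (fun U => IsReduced U) Xη := by
  have hT := Groth.Agent.H52.GeomConn.isTerminalYon (Spec (CommRingCat.of R))
  obtain ⟨U, p, hpE, hpS⟩ := X.property.atlas
  let t : U ⟶ Over.mk (𝟙 (Spec (CommRingCat.of R))) := Over.homMk U.hom (Category.comp_id _)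
  have ht : p ≫ s = (AlgSp.yon _).map t := hT.hom_ext _ _
  have hchart : p ≫ s = (AlgSp.yon _).map t ≫ 𝟙 _ := by rw [Category.comp_id, ht]
  have hid : RepWith @Etale (𝟙 ((AlgSp.yon (Spec (CommRingCat.of R))).obj
      (Over.mk (𝟙 (Spec (CommRingCat.of R)))))) := repWith_id @Etale _
  haveI hflat : Flat t.left := hs2 p (𝟙 _) t hpE hid hchart
  haveI hlft : LocallyOfFiniteType t.left := hs1.2.1.1 p (𝟙 _) t hpE hid hchart
  have sqU : IsPullback ((AlgSp.yon _).map (𝟙 U)) ((AlgSp.yon _).map t) (p ≫ s) (𝟙 _) := by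
    rw [CategoryTheory.Functor.map_id, ht]
    exact IsPullback.of_id_fst
  -- the special fibre of the chart is reduced
  let ι₀ : Over.mk (Spec.map (CommRingCat.ofHom (IsLocalRing.residue R))) ⟶
      Over.mk (𝟙 (Spec (CommRingCat.of R))) :=
    Over.homMk (Spec.map (CommRingCat.ofHom (IsLocalRing.residue R))) (Category.comp_id _)
  have sq0 := IsPullback.of_hasPullback s ((AlgSp.yon _).map ι₀)
  have hX0 := h0 _ _ _ sq0
  have PB := IsPullback.of_hasPullback t ι₀
  have PX : IsPullback (pullback.fst s ((AlgSp.yon _).map ι₀)) (pullback.snd s ((AlgSp.yon _).map ι₀)) s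
      ((AlgSp.yon _).map ι₀ ≫ 𝟙 _) := by
    rw [Category.comp_id]; exact sq0
  obtain ⟨φ, hφE, hφS, -, -⟩ := Groth.Agent.H53.exists_chart_of_baseChange s p hpE hpS (𝟙 _) (𝟙 U) t
    sqU ι₀ _ _ PB _ _ PX
  have hred0 : IsReduced (pullback t ι₀).left :=
    Groth.Agent.H51.isReduced_of_isReducedSp hX0 (EtOver.mk φ hφE)
  have PBs : IsPullback (pullback.fst t ι₀).left (pullback.snd t ι₀).left t.left ι₀.left :=
    PB.map (Over.forget _)
  have hfib0 := Groth.Agent.H51.isReduced_fiber_of_isPullback_field t.left ι₀.left _ _ PBs hred0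
  have hcp : ι₀.left (IsLocalRing.closedPoint (IsLocalRing.ResidueField R)) = IsLocalRing.closedPoint R :=
    IsLocalRing.PrimeSpectrum.comap_residue R _
  rw [hcp] at hfib0
  haveI := hfib0
  -- quasi-separatedness and decency
  have hqs : IsQuasiSeparatedSp X.obj :=
    Groth.Agent.H51.isQuasiSeparatedSp_of_isSeparatedMor_terminal s hs1.1
  have hdec : IsDecent X.obj := Groth.Agent.S10350.result X hqs
  have hcl : IsClosedMap (Points.map s) :=
    hs1.2.2 (IsAlgSpace.yon_obj _) (𝟙 _) (𝟙 _) s IsPullback.of_id_fst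
  -- all local rings of the chart are reduced
  have hstalk : ∀ u : ↥U.left, _root_.IsReduced (U.left.presheaf.stalk u) := by
    intro u
    set x := Points.ofPt p u with hx
    set c := Points.schemeHomeo (Over.mk (𝟙 (Spec (CommRingCat.of R)))) (IsLocalRing.closedPoint R) with hc
    have hcmem : c ∈ Points.map s '' closure {x} := by
      have h1 : IsClosed (Points.map s '' closure {x}) := hcl _ isClosed_closure
      have h2 : Points.map s x ⤳ c := by
        obtain ⟨z, hz⟩ := (Points.schemeHomeo (Over.mk (𝟙 (Spec (CommRingCat.of R))))).surjective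
          (Points.map s x)
        rw [← hz]
        exact (IsLocalRing.specializes_closedPoint z).map (Points.schemeHomeo _).continuous
      exact h2.mem_closed h1 ⟨x, subset_closure rfl, rfl⟩
    obtain ⟨x₀, hx₀, hsx₀⟩ := hcmem
    have hspec : x ⤳ x₀ := specializes_iff_mem_closure.mpr hx₀
    obtain ⟨u₀, hu₀⟩ := Groth.Agent.H51.surjective_ofPt_of_surjective p hpS x₀
    have hu₀c : t.left u₀ = IsLocalRing.closedPoint R := by
      apply (Points.schemeHomeo (Over.mk (𝟙 (Spec (CommRingCat.of R))))).injective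
      rw [← Points.map_yon_map_apply, ← ht, ← Groth.Agent.H51.ofPt_eq_map_schemeHomeo,
        ← Points.map_ofPt, hu₀, hsx₀]
    obtain ⟨u', hu's, hu'x⟩ := Groth.Agent.S10343.result X x₀ x hspec (hdec x) p hpE u₀ hu₀
    have hmem : u₀ ∈ Set.range (t.left.fiberι (IsLocalRing.closedPoint R)) := by
      rw [Scheme.Hom.range_fiberι]
      exact hu₀c
    obtain ⟨x', rfl⟩ := hmem
    have h0red := Groth.Agent.H20.isReduced_stalk_of_specialFibre t.left x'
    have h1 := Groth.Agent.H51.isReduced_stalk_of_specializes hu's h0red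
    exact Groth.Agent.H51.isReduced_stalk_chart_indep p hpE p hpE u' u hu'x h1
  haveI hUred : IsReduced U.left := isReduced_of_isReduced_stalk U.left
  refine ⟨⟨U, p, hpE, hpS, hUred⟩, ?_⟩
  -- the generic fibre
  intro Xη fst snd sqη
  let ιη : Over.mk (Spec.map (CommRingCat.ofHom (algebraMap R (FractionRing R)))) ⟶
      Over.mk (𝟙 (Spec (CommRingCat.of R))) :=
    Over.homMk (Spec.map (CommRingCat.ofHom (algebraMap R (FractionRing R)))) (Category.comp_id _)
  have PBη := IsPullback.of_hasPullback t ιη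
  have PXη : IsPullback fst snd s ((AlgSp.yon _).map ιη ≫ 𝟙 _) := by
    rw [Category.comp_id]; exact sqη
  obtain ⟨ψ, hψE, hψS, -, -⟩ := Groth.Agent.H53.exists_chart_of_baseChange s p hpE hpS (𝟙 _) (𝟙 U) t
    sqU ιη _ _ PBη fst snd PXη
  refine ⟨pullback t ιη, ψ, hψE, hψS, ?_⟩
  have PBηs : IsPullback (pullback.fst t ιη).left (pullback.snd t ιη).left t.left ιη.left :=
    PBη.map (Over.forget _)
  obtain ⟨ϖ, hϖ⟩ := IsDiscreteValuationRing.exists_irreducible R
  haveI := Groth.Agent.H63.EtaEt.isLocalization_away_of_dvr R ϖ hϖ (FractionRing R)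
  have hoi : IsOpenImmersion ιη.left := IsOpenImmersion.of_isLocalization ϖ
  haveI : IsOpenImmersion (pullback.fst t ιη).left :=
    MorphismProperty.of_isPullback PBηs.flip hoi
  exact isReduced_of_isOpenImmersion (pullback.fst t ιη).left

end Groth.Agent.S10669
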