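import Groth.Statements.S10670
import Groth.Agent.H52.SepConn
import Groth.Agent.H53.Points
import Groth.Agent.H49.AlgSpRep

set_option autoImplicit false
universe u
open CategoryTheory CategoryTheory.Limits AlgebraicGeometry
open AlgSp

namespace Groth.Agent.S10670

/-- For morphisms f : X ⟶ Y and g : Y' ⟶ Y between algebraic spaces over S, f' : X' ⟶ Y' the base change
of f along g, an algebraically closed field point k' of Y' and an algebraically closed field point k
of Y whose class in |Y| is the image of the class of k', the fibres X'_{k'} and X_k (pullbacks in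
fppf sheaves) have the same number of connected components of their spaces of points, counted in ℕ∞.
With g the identity this says the number of geometric connected components of the fibre over a point
of |Y| is well defined. -/
theorem result {S : Scheme.{u}} {X Y X' Y' : AlgSp.Space S} (f : X ⟶ Y) (g : Y' ⟶ Y) (gX : X' ⟶ X) (f' : X' ⟶ Y')
    (hsq : IsPullback gX.hom f'.hom f.hom g.hom)
    (k' : AlgSp.FieldPt Y'.obj) (hk' : k'.IsGeometric) (k : AlgSp.FieldPt Y.obj) (hk : k.IsGeometric)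
    (hkk : AlgSp.Points.mk k = AlgSp.Points.map g.hom (AlgSp.Points.mk k'))
    (Xk' : AlgSp.Sp S) (a' : Xk' ⟶ X'.obj) (b' : Xk' ⟶ (AlgSp.yon S).obj k'.pt) (h' : IsPullback a' b' f'.hom k'.toHom)
    (Xk : AlgSp.Sp S) (a : Xk ⟶ X.obj) (b : Xk ⟶ (AlgSp.yon S).obj k.pt) (h : IsPullback a b f.hom k.toHom) :
    ENat.card (_root_.ConnectedComponents (AlgSp.Points Xk')) = ENat.card (_root_.ConnectedComponents (AlgSp.Points Xk)) := by
  -- a common field extension
  have hrel : FieldPt.Rel k (k'.map g.hom) := by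
    rw [← Points.mk_eq_mk_iff, hkk, Points.map_mk]
  rw [Groth.Agent.H53.rel_iff_toHom] at hrel
  obtain ⟨Ω, _, w, α, β₀, hαβ₀⟩ := hrel
  rw [FieldPt.toHom_map] at hαβ₀
  obtain ⟨β, hαβ⟩ : ∃ β : Over.mk w ⟶ k'.pt,
      (AlgSp.yon S).map α ≫ k.toHom = (AlgSp.yon S).map β ≫ k'.toHom ≫ g.hom := ⟨β₀, hαβ₀⟩
  clear hαβ₀ β₀
  -- the fibres are algebraic spaces
  have hXk : IsAlgSpace Xk :=
    Groth.Agent.H49.isAlgSpace_of_isPullback h Y.property.diag X.property (IsAlgSpace.yon_obj k.pt)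
  have hXk' : IsAlgSpace Xk' :=
    Groth.Agent.H49.isAlgSpace_of_isPullback h' Y'.property.diag X'.property (IsAlgSpace.yon_obj k'.pt)
  -- the fibre over `Ω`
  have sqΩ := IsPullback.of_hasPullback f.hom ((AlgSp.yon S).map α ≫ k.toHom)
  set XΩ := pullback f.hom ((AlgSp.yon S).map α ≫ k.toHom) with hXΩ
  set pΩ := pullback.fst f.hom ((AlgSp.yon S).map α ≫ k.toHom) with hpΩ
  set qΩ := pullback.snd f.hom ((AlgSp.yon S).map α ≫ k.toHom) with hqΩ
  -- geometric connectedness of the field extensions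
  have hgc : ∀ {K : Type u} [Field K] [IsSepClosed K] (γ : Spec (CommRingCat.of Ω) ⟶ Spec (CommRingCat.of K)),
      GeometricallyConnected γ := by
    intro K _ _ γ
    obtain ⟨ψ, rfl⟩ := Spec.map_surjective γ
    letI : Algebra K Ω := ψ.hom.toAlgebra
    exact Groth.Agent.H25.SepIrr.geometricallyConnected_specMap_of_isSepClosed K Ω
  haveI : IsAlgClosed k.K := hk
  haveI : IsAlgClosed k'.K := hk'
  -- comparison with `X_k`
  have e1 : ∃ e : XΩ ⟶ Xk, e ≫ a = pΩ ∧ e ≫ b = qΩ ≫ (AlgSp.yon S).map α :=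
    ⟨h.lift pΩ (qΩ ≫ (AlgSp.yon S).map α) (by rw [Category.assoc]; exact sqΩ.w),
      h.lift_fst _ _ _, h.lift_snd _ _ _⟩
  obtain ⟨e, he1, he2⟩ := e1
  have sq1 : IsPullback e qΩ b ((AlgSp.yon S).map α) := by
    refine IsPullback.of_right ?_ he2 h
    rw [he1]
    exact sqΩ
  have bij1 := Groth.Agent.H52.SepConn.connectedComponentsMap_bijective_of_isPullback α
    (hgc α.left) hXk sq1.flip
  -- comparison with `X'_{k'}`
  have big' : IsPullback (a' ≫ gX.hom) b' f.hom (k'.toHom ≫ g.hom) := h'.paste_horiz hsq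
  have sqΩ' : IsPullback pΩ qΩ f.hom ((AlgSp.yon S).map β ≫ k'.toHom ≫ g.hom) := by
    rw [← hαβ]; exact sqΩ
  have e2 : ∃ e' : XΩ ⟶ Xk', e' ≫ (a' ≫ gX.hom) = pΩ ∧ e' ≫ b' = qΩ ≫ (AlgSp.yon S).map β :=
    ⟨big'.lift pΩ (qΩ ≫ (AlgSp.yon S).map β) (by rw [Category.assoc]; exact sqΩ'.w),
      big'.lift_fst _ _ _, big'.lift_snd _ _ _⟩
  obtain ⟨e', he1', he2'⟩ := e2
  have sq2 : IsPullback e' qΩ b' ((AlgSp.yon S).map β) := by
    refine IsPullback.of_right ?_ he2' big'
    rw [he1']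
    exact sqΩ'
  have bij2 := Groth.Agent.H52.SepConn.connectedComponentsMap_bijective_of_isPullback β
    (hgc β.left) hXk' sq2.flip
  rw [← ENat.card_congr (Equiv.ofBijective _ bij1), ← ENat.card_congr (Equiv.ofBijective _ bij2)]

end Groth.Agent.S10670
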