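import Groth.Statements.S10676
import Groth.Agent.H53.ZMT.ElemSplit
import Groth.Agent.H53.ZMT.ElemPoints
import Groth.Agent.H53.ZMT.MultiPrep
import Groth.Agent.H53.ZMT.SpLemmas

set_option autoImplicit false
universe u
open CategoryTheory CategoryTheory.Limits AlgebraicGeometry
open AlgSp

namespace Groth.Agent.S10676

/-- For a separated morphism f : X ⟶ Y of algebraic spaces over S which is locally of finite type, a
point y of |Y| and a finite set xs of points of |X| mapping to y at each of which f is quasi-finite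
(some etale chart diagram through the point has top arrow locally quasi-finite and locally of finite
type on an open neighbourhood), assuming moreover that f is quasi-compact or Y is decent: there are
an etale morphism of algebraic spaces a : U ⟶ Y and a point u of |U| over y such that for the base
change P = U ×_Y X there is an open and closed subspace V ⊂ P, finite over U, such that every point
of |V| over u maps into xs and no point of |P| outside |V| lying over u maps into xs. -/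
theorem result {S : Scheme.{u}} {X Y : AlgSp.Space S} (f : X ⟶ Y) (y : AlgSp.Points Y.obj)
    (xs : Finset (AlgSp.Points X.obj)) (hxs : ∀ x ∈ xs, AlgSp.Points.map f.hom x = y)
    (hf1 : AlgSp.LocP @LocallyOfFiniteType f.hom) (hf2 : AlgSp.IsSeparatedMor f.hom)
    (hf3 : ∀ x ∈ xs, AlgSp.HasAtMor (fun U _ h u => ∃ W : U.Opens, u ∈ W ∧ LocallyQuasiFinite (W.ι ≫ h) ∧ LocallyOfFiniteType (W.ι ≫ h)) f.hom x)
    (hf4 : AlgSp.IsQuasiCompactMor f.hom ∨ AlgSp.IsDecent Y.obj) :
    ∃ (U : AlgSp.Space S) (a : U ⟶ Y) (u : AlgSp.Points U.obj), AlgSp.IsEtaleMor a.hom ∧ AlgSp.Points.map a.hom u = y ∧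
      ∀ (P : AlgSp.Space S) (prX : P ⟶ X) (prU : P ⟶ U), IsPullback prX.hom prU.hom f.hom a.hom →
        ∃ (V : AlgSp.Space S) (jV : V ⟶ P), AlgSp.RepWith @IsOpenImmersion jV.hom ∧ AlgSp.RepWith @IsClosedImmersion jV.hom ∧
          AlgSp.IsFiniteMor (jV ≫ prU).hom ∧
          (∀ v : AlgSp.Points V.obj, AlgSp.Points.map (jV ≫ prU).hom v = u → AlgSp.Points.map (jV ≫ prX).hom v ∈ xs) ∧
          ∀ w : AlgSp.Points P.obj, w ∉ Set.range (AlgSp.Points.map jV.hom) → AlgSp.Points.map prU.hom w = u →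
            AlgSp.Points.map prX.hom w ∉ xs := by
  classical
  -- an affine etale chart of `Y` at `y`
  obtain ⟨B, β, hβe, hβs⟩ := Y.property.atlas
  obtain ⟨b, hb⟩ := Groth.Agent.H51.surjective_ofPt_of_surjective β hβs y
  obtain ⟨_, ⟨(B₀ : B.left.Opens), hB₀, rfl⟩, hbB₀, -⟩ :=
    B.left.isBasis_affineOpens.exists_subset_of_mem_open (Set.mem_univ b) isOpen_univ
  let T₀ : Over S := Groth.Agent.H51.overOpen B B₀
  set b₀ : (AlgSp.yon S).obj T₀ ⟶ Y.obj :=
    (AlgSp.yon S).map (Groth.Agent.H51.overOpenι B B₀) ≫ β with hb₀def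
  have hb₀e : AlgSp.RepWith @Etale b₀ := Groth.Agent.H51.repWith_etale_restrict β hβe B₀
  let t₀ : ↥T₀.left := ⟨b, hbB₀⟩
  have ht₀ : AlgSp.Points.ofPt b₀ t₀ = y := (Groth.Agent.H51.ofPt_restrict β B₀ t₀).trans hb
  -- the base change of `X` to the chart
  let X₀ : AlgSp.Sp S := pullback f.hom b₀
  let pr : X₀ ⟶ X.obj := pullback.fst f.hom b₀
  let f₀ : X₀ ⟶ (AlgSp.yon S).obj T₀ := pullback.snd f.hom b₀
  have sq₀ : IsPullback pr f₀ f.hom b₀ := IsPullback.of_hasPullback f.hom b₀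
  have hT₀sp : AlgSp.IsAlgSpace ((AlgSp.yon S).obj T₀) := AlgSp.IsAlgSpace.yon_obj T₀
  have hX₀ : AlgSp.IsAlgSpace X₀ :=
    Groth.Agent.H49.isAlgSpace_of_isPullback sq₀ Y.property.diag X.property hT₀sp
  have hlft₀ : AlgSp.LocP @LocallyOfFiniteType f₀ :=
    Groth.Agent.H50.goodClass_lft.locP_of_isPullback X.property Y.property hT₀sp f.hom b₀ pr f₀
      sq₀ hf1
  -- the finite set of points of `X₀` over `t₀` and `xs`
  have hfinS := Groth.Agent.H53.ZMT.finite_points_over_chart f y xs hxs hf1 hf3 hf4 b₀ hb₀e t₀ ht₀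
    hX₀ pr f₀ sq₀
  let n : ℕ := hfinS.toFinset.card
  let en : {p // p ∈ hfinS.toFinset} ≃ Fin n := hfinS.toFinset.equivFin
  let pt : ULift.{u} (Fin n) → AlgSp.Points X₀ := fun i => (en.symm i.down).1
  have hpt : ∀ i, AlgSp.Points.map pr (pt i) ∈ xs ∧
      AlgSp.Points.map f₀ (pt i) = AlgSp.Points.ofScheme T₀ t₀ := fun i =>
    hfinS.mem_toFinset.1 (en.symm i.down).2
  have hptsurj : ∀ p : AlgSp.Points X₀, AlgSp.Points.map pr p ∈ xs →
      AlgSp.Points.map f₀ p = AlgSp.Points.ofScheme T₀ t₀ → ∃ i, pt i = p := by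
    intro p hp1 hp2
    refine ⟨⟨en ⟨p, hfinS.mem_toFinset.2 ⟨hp1, hp2⟩⟩⟩, ?_⟩
    change (en.symm (en ⟨p, _⟩)).1 = p
    rw [Equiv.symm_apply_apply]
  -- pointed charts, quasi-finite at the marked points
  have hqf₀ : ∀ i, AlgSp.HasAtMor Groth.Agent.H53.ZMT.QfAt f₀ (pt i) := fun i =>
    Groth.Agent.H53.ZMT.hasAtMor_qfAt_of_isPullback X.property Y.property hX₀ hT₀sp sq₀ (pt i)
      (hf3 _ (hpt i).1)
  choose W a w k hWaff hae haw hk hklft hkqf using fun i =>
    Groth.Agent.H53.ZMT.exists_affine_chart_qf hX₀ f₀ hlft₀ (pt i) (hqf₀ i)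
  have hkt : ∀ i, (k i).left (w i) = t₀ := by
    intro i
    apply (AlgSp.Points.schemeEquiv T₀).injective
    change AlgSp.Points.ofScheme T₀ ((k i).left (w i)) = AlgSp.Points.ofScheme T₀ t₀
    rw [← (hpt i).2, ← haw i, AlgSp.Points.map_ofPt, ← hk, Groth.Agent.H52.ofPt_yon_map]
  -- the elementary etale neighbourhood
  obtain ⟨T', e, σ, hT'a, hee, hσ, H⟩ := Groth.Agent.H53.ZMT.exists_elementary_clopen_finite
    f₀ t₀ W a w k hae hk hklft hkqf hkt
  have het' : e.left (σ (IsLocalRing.closedPoint _)) = t₀ := by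
    rw [← Scheme.Hom.comp_apply, hσ, Scheme.fromSpecResidueField_apply]
  have hae' : AlgSp.RepWith @Etale ((AlgSp.yon S).map e ≫ b₀) :=
    (AlgSp.RepWith @Etale).comp_mem _ _ ((AlgSp.repWith_yon_map_iff _ _).2 hee) hb₀e
  have main : ∀ (Pobj : AlgSp.Sp S) (_ : AlgSp.IsAlgSpace Pobj) (prXh : Pobj ⟶ X.obj)
      (prUh : Pobj ⟶ (AlgSp.yon S).obj T'),
      IsPullback prXh prUh f.hom ((AlgSp.yon S).map e ≫ b₀) →
      ∃ Wm : Set (AlgSp.Points Pobj), IsOpen Wm ∧ IsClosed Wm ∧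
        AlgSp.IsFiniteMor (Groth.Agent.H51.openSubι Pobj Wm ≫ prUh) ∧
        (∀ q ∈ Wm, AlgSp.Points.map prUh q =
            AlgSp.Points.ofScheme T' (σ (IsLocalRing.closedPoint _)) →
          AlgSp.Points.map prXh q ∈ xs) ∧
        ∀ z, AlgSp.Points.map prUh z = AlgSp.Points.ofScheme T' (σ (IsLocalRing.closedPoint _)) →
          AlgSp.Points.map prXh z ∈ xs → z ∈ Wm := by
    intro Pobj hP prXh prUh sq'
    have hsep' : AlgSp.IsSeparatedMor prUh :=
      Groth.Agent.H53.ZMT.isSeparatedMor_of_isPullback sq' hf2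
    have hw : prXh ≫ f.hom = (prUh ≫ (AlgSp.yon S).map e) ≫ b₀ := by
      rw [Category.assoc]; exact sq'.w
    let prX₀ : Pobj ⟶ X₀ := sq₀.lift prXh (prUh ≫ (AlgSp.yon S).map e) hw
    have h1 : prX₀ ≫ pr = prXh := sq₀.lift_fst _ _ _
    have h2 : prX₀ ≫ f₀ = prUh ≫ (AlgSp.yon S).map e := sq₀.lift_snd _ _ _
    have sqP : IsPullback prX₀ prUh f₀ ((AlgSp.yon S).map e) := by
      refine IsPullback.of_right ?_ h2 sq₀
      rw [h1]; exact sq'
    obtain ⟨Wm, hWm, hWmc, hfin, hA, hB⟩ := H Pobj hP prX₀ prUh sqP hsep'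
    refine ⟨Wm, hWm, hWmc, hfin, ?_, ?_⟩
    · intro q hq hv'
      obtain ⟨i, hi⟩ := hA _ hq hv'
      rw [← h1, AlgSp.Points.map_comp, hi, haw]
      exact (hpt i).1
    · intro z hzu hzx
      have hp1 : AlgSp.Points.map pr (AlgSp.Points.map prX₀ z) ∈ xs := by
        rw [← AlgSp.Points.map_comp, h1]; exact hzx
      have hp2 : AlgSp.Points.map f₀ (AlgSp.Points.map prX₀ z) = AlgSp.Points.ofScheme T₀ t₀ := by
        rw [← AlgSp.Points.map_comp, h2, AlgSp.Points.map_comp, hzu]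
        change AlgSp.Points.map ((AlgSp.yon S).map e) (AlgSp.Points.ofPt (𝟙 _) _) = _
        rw [AlgSp.Points.map_ofPt, Category.id_comp, Groth.Agent.H52.ofPt_yon_map, het']
      obtain ⟨i, hi⟩ := hptsurj _ hp1 hp2
      obtain ⟨q, hqW, hq1, hq2⟩ := hB i
      have hzq : z = q := Groth.Agent.H53.ZMT.points_eq_of_elementary e t₀ σ hσ sqP z q
        (by rw [hq1, haw, hi]) hzu hq2
      rw [hzq]; exact hqW
  refine ⟨(AlgSp.ofScheme S).obj T', ObjectProperty.homMk ((AlgSp.yon S).map e ≫ b₀),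
    AlgSp.Points.ofScheme T' (σ (IsLocalRing.closedPoint _)),
    Groth.Agent.H53.ZMT.isEtaleMor_of_repWith hae', ?_, ?_⟩
  · change AlgSp.Points.map ((AlgSp.yon S).map e ≫ b₀) (AlgSp.Points.ofPt (𝟙 _) _) = y
    rw [AlgSp.Points.map_ofPt, Category.id_comp, Groth.Agent.H51.ofPt_map_comp, het', ht₀]
  · intro P prX prU sq
    obtain ⟨Wm, hWm, hWmc, hfin, hA, hB⟩ := main P.obj P.property prX.hom prU.hom sq
    refine ⟨⟨Groth.Agent.H51.openSubSp P.obj Wm,
        Groth.Agent.H51.isAlgSpace_openSubSp P.property _ hWm⟩,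
      ObjectProperty.homMk (Groth.Agent.H51.openSubι P.obj Wm),
      Groth.Agent.H51.repWith_isOpenImmersion_openSubι _ hWm,
      Groth.Agent.H53.ZMT.repWith_isClosedImmersion_openSubι _ hWm hWmc, hfin, ?_, ?_⟩
    · intro v hv
      have hq : AlgSp.Points.map (Groth.Agent.H51.openSubι P.obj Wm) v ∈ Wm := by
        have hmem := Set.mem_range_self (f := AlgSp.Points.map (Groth.Agent.H51.openSubι P.obj Wm)) v
        rwa [Groth.Agent.H51.range_map_openSubι] at hmem
      have hv' : AlgSp.Points.map prU.hom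
          (AlgSp.Points.map (Groth.Agent.H51.openSubι P.obj Wm) v) =
          AlgSp.Points.ofScheme T' (σ (IsLocalRing.closedPoint _)) := by
        rw [← AlgSp.Points.map_comp]; exact hv
      have := hA _ hq hv'
      change AlgSp.Points.map (Groth.Agent.H51.openSubι P.obj Wm ≫ prX.hom) v ∈ xs
      rw [AlgSp.Points.map_comp]
      exact this
    · intro z hz hzu hzx
      apply hz
      change z ∈ Set.range (AlgSp.Points.map (Groth.Agent.H51.openSubι P.obj Wm))
      rw [Groth.Agent.H51.range_map_openSubι]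
      exact hB z hzu hzx

end Groth.Agent.S10676
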