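import Groth.Statements.S10677
import Groth.Agent.H53.ZMT.FinSplit

set_option autoImplicit false
universe u
open CategoryTheory CategoryTheory.Limits AlgebraicGeometry
open AlgSp

namespace Groth.Agent.S10677

/-- For a separated morphism f : X ⟶ Y of algebraic spaces over S which is locally of finite type and a
point x of |X| with image y at which f is quasi-finite (some etale chart diagram through x has top
arrow locally quasi-finite and locally of finite type on an open neighbourhood), there are an etale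
morphism a : U ⟶ Y and a point u of |U| over y such that for the base change P = U ×_Y X there is an
open and closed subspace V ⊂ P, finite over U, containing a point mapping to x in |X| and to u in
|U|. -/
theorem result {S : Scheme.{u}} {X Y : AlgSp.Space S} (f : X ⟶ Y) (x : AlgSp.Points X.obj)
    (hf1 : AlgSp.LocP @LocallyOfFiniteType f.hom) (hf2 : AlgSp.IsSeparatedMor f.hom)
    (hf3 : AlgSp.HasAtMor (fun U _ h u => ∃ W : U.Opens, u ∈ W ∧ LocallyQuasiFinite (W.ι ≫ h) ∧ LocallyOfFiniteType (W.ι ≫ h)) f.hom x) :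
    ∃ (U : AlgSp.Space S) (a : U ⟶ Y) (u : AlgSp.Points U.obj), AlgSp.IsEtaleMor a.hom ∧
      AlgSp.Points.map a.hom u = AlgSp.Points.map f.hom x ∧
      ∀ (P : AlgSp.Space S) (prX : P ⟶ X) (prU : P ⟶ U), IsPullback prX.hom prU.hom f.hom a.hom →
        ∃ (V : AlgSp.Space S) (jV : V ⟶ P), AlgSp.RepWith @IsOpenImmersion jV.hom ∧ AlgSp.RepWith @IsClosedImmersion jV.hom ∧
          AlgSp.IsFiniteMor (jV ≫ prU).hom ∧
          ∃ v : AlgSp.Points V.obj, AlgSp.Points.map (jV ≫ prX).hom v = x ∧ AlgSp.Points.map (jV ≫ prU).hom v = u := by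
  obtain ⟨U₀, V₀, a₀, b₀, h₀, u₀, ha₀e, hb₀e, hcomm₀, hu₀, W₀, hu₀W, hW₀qf, -⟩ := hf3
  have hqfat₀ : h₀.left.QuasiFiniteAt u₀ := by
    have h1 : (W₀.ι ≫ h₀.left).QuasiFiniteAt ⟨u₀, hu₀W⟩ := (W₀.ι ≫ h₀.left).quasiFiniteAt _
    exact Scheme.Hom.quasiFiniteAt_comp_iff_of_isOpenImmersion.1 h1
  obtain ⟨_, ⟨(U₃ : U₀.left.Opens), hU₃, rfl⟩, hu₀U₃, -⟩ :=
    U₀.left.isBasis_affineOpens.exists_subset_of_mem_open (Set.mem_univ u₀) isOpen_univ
  have hU₃aff : IsAffine (Groth.Agent.H51.overOpen U₀ U₃).left := hU₃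
  set a₃ : (AlgSp.yon S).obj (Groth.Agent.H51.overOpen U₀ U₃) ⟶ X.obj :=
    (AlgSp.yon S).map (Groth.Agent.H51.overOpenι U₀ U₃) ≫ a₀ with ha₃
  have ha₃e : AlgSp.RepWith @Etale a₃ := Groth.Agent.H51.repWith_etale_restrict a₀ ha₀e U₃
  let u₃ : ↥(Groth.Agent.H51.overOpen U₀ U₃).left := ⟨u₀, hu₀U₃⟩
  have hu₃ : AlgSp.Points.ofPt a₃ u₃ = AlgSp.Points.ofPt a₀ u₀ :=
    Groth.Agent.H51.ofPt_restrict a₀ U₃ u₃
  set h₃ : Groth.Agent.H51.overOpen U₀ U₃ ⟶ V₀ := Groth.Agent.H51.overOpenι U₀ U₃ ≫ h₀ with hh₃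
  have hcomm₃ : a₃ ≫ f.hom = (AlgSp.yon S).map h₃ ≫ b₀ := by
    rw [ha₃, Category.assoc, hcomm₀, hh₃, Functor.map_comp, Category.assoc]
  have hh₃lft : LocallyOfFiniteType h₃.left := hf1 a₃ b₀ h₃ ha₃e hb₀e hcomm₃
  have hh₃sep : IsSeparated h₃.left := inferInstance
  have hqfat₃ : h₃.left.QuasiFiniteAt u₃ := by
    have h1 : h₃.left = U₃.ι ≫ h₀.left := rfl
    rw [h1]
    exact Scheme.Hom.quasiFiniteAt_comp_iff_of_isOpenImmersion.2 hqfat₀
  obtain ⟨T'l, g, V₁, al, bl, hT'aff, hg, hcomm, hbfin, haet, v₁, hv₁⟩ :=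
    Groth.Agent.H53.ZMT.exists_etale_finite_of_quasiFiniteAt h₃.left u₃ hqfat₃
  let T' : Over S := Over.mk (g ≫ V₀.hom)
  let e : T' ⟶ V₀ := Over.homMk g rfl
  let V₁o : Over S := Over.mk (bl ≫ g ≫ V₀.hom)
  let b : V₁o ⟶ T' := Over.homMk bl rfl
  let a' : V₁o ⟶ Groth.Agent.H51.overOpen U₀ U₃ := Over.homMk al (by
    change al ≫ (Groth.Agent.H51.overOpen U₀ U₃).hom = bl ≫ g ≫ V₀.hom
    rw [← Over.w h₃, ← Category.assoc, hcomm, Category.assoc])
  have hcommO : a' ≫ h₃ = b ≫ e := by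
    ext1
    exact hcomm
  have hT'a : IsAffine T'.left := hT'aff
  have hV₁aff : IsAffine V₁o.left := isAffine_of_isAffineHom bl
  have hee : Etale e.left := hg
  have hae : AlgSp.RepWith @Etale ((AlgSp.yon S).map e ≫ b₀) :=
    (AlgSp.RepWith @Etale).comp_mem _ _ ((AlgSp.repWith_yon_map_iff _ _).2 hee) hb₀e
  have e1 : (AlgSp.yon S).map b ≫ (AlgSp.yon S).map e ≫ b₀ =
      (AlgSp.yon S).map a' ≫ a₃ ≫ f.hom := by
    rw [hcomm₃, ← Category.assoc, ← Category.assoc, ← Functor.map_comp, ← Functor.map_comp,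
      hcommO]
  have hav : a'.left v₁ = u₃ := hv₁
  refine ⟨(AlgSp.ofScheme S).obj T', ObjectProperty.homMk ((AlgSp.yon S).map e ≫ b₀),
    AlgSp.Points.schemeHomeo T' (bl v₁), Groth.Agent.H53.ZMT.isEtaleMor_of_repWith hae, ?_, ?_⟩
  · calc AlgSp.Points.map ((AlgSp.yon S).map e ≫ b₀) (AlgSp.Points.schemeHomeo T' (bl v₁))
        = AlgSp.Points.ofPt ((AlgSp.yon S).map e ≫ b₀) (b.left v₁) :=
          (Groth.Agent.H51.ofPt_eq_map_schemeHomeo _ _).symm
      _ = AlgSp.Points.ofPt ((AlgSp.yon S).map b ≫ (AlgSp.yon S).map e ≫ b₀) v₁ :=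
          (Groth.Agent.H51.ofPt_map_comp b _ v₁).symm
      _ = AlgSp.Points.ofPt ((AlgSp.yon S).map a' ≫ a₃ ≫ f.hom) v₁ := by rw [e1]
      _ = AlgSp.Points.ofPt (a₃ ≫ f.hom) (a'.left v₁) := Groth.Agent.H51.ofPt_map_comp a' _ v₁
      _ = AlgSp.Points.ofPt (a₃ ≫ f.hom) u₃ := by rw [hav]
      _ = AlgSp.Points.map f.hom (AlgSp.Points.ofPt a₃ u₃) := (AlgSp.Points.map_ofPt _ _ _).symm
      _ = AlgSp.Points.map f.hom x := by rw [hu₃, hu₀]
  · intro P prX prU sq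
    have sq' : IsPullback prX.hom prU.hom f.hom ((AlgSp.yon S).map e ≫ b₀) := sq
    have hP' : AlgSp.IsAlgSpace P.obj := P.property
    have hsep' : AlgSp.IsSeparatedMor prU.hom :=
      Groth.Agent.H53.ZMT.isSeparatedMor_of_isPullback sq' hf2
    have hp2e : AlgSp.RepWith @Etale prX.hom := (AlgSp.RepWith @Etale).of_isPullback sq'.flip hae
    obtain ⟨m, hm2, hm1⟩ := sq'.exists_lift ((AlgSp.yon S).map a' ≫ a₃) ((AlgSp.yon S).map b) (by
      rw [Category.assoc]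
      exact e1.symm)
    have ha'e : AlgSp.RepWith @Etale ((AlgSp.yon S).map a') := (AlgSp.repWith_yon_map_iff _ _).2 haet
    have hmet : AlgSp.RepWith @Etale m := by
      have h1 : AlgSp.IsEtaleMor (m ≫ prX.hom) := by
        rw [hm2]
        exact Groth.Agent.H53.ZMT.isEtaleMor_of_repWith
          ((AlgSp.RepWith @Etale).comp_mem _ _ ha'e ha₃e)
      have h2 := Groth.Agent.H51.isEtaleMor_of_comp hP' h1
        (Groth.Agent.H53.ZMT.isEtaleMor_of_repWith hp2e) (𝟙 _) (AlgSp.repWith_id _ V₁o)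
      rwa [Category.id_comp] at h2
    obtain ⟨hWm, hWmc, hfin⟩ := Groth.Agent.H53.ZMT.exists_clopen_finite hT'a hV₁aff hP' prU.hom
      hsep' m hmet b hbfin hm1
    obtain ⟨v, hv⟩ : AlgSp.Points.ofPt m v₁ ∈ Set.range (AlgSp.Points.map
        (Groth.Agent.H51.openSubι P.obj (Set.range (AlgSp.Points.ofPt m)))) := by
      rw [Groth.Agent.H51.range_map_openSubι]
      exact ⟨v₁, rfl⟩
    refine ⟨⟨Groth.Agent.H51.openSubSp P.obj (Set.range (AlgSp.Points.ofPt m)),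
      Groth.Agent.H51.isAlgSpace_openSubSp hP' _ hWm⟩,
      ObjectProperty.homMk (Groth.Agent.H51.openSubι P.obj (Set.range (AlgSp.Points.ofPt m))),
      Groth.Agent.H51.repWith_isOpenImmersion_openSubι _ hWm,
      Groth.Agent.H53.ZMT.repWith_isClosedImmersion_openSubι _ hWm hWmc, hfin, v, ?_, ?_⟩
    · change AlgSp.Points.map (Groth.Agent.H51.openSubι P.obj _ ≫ prX.hom) v = x
      rw [AlgSp.Points.map_comp, hv, AlgSp.Points.map_ofPt, hm2, Groth.Agent.H51.ofPt_map_comp,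
        hav, hu₃, hu₀]
    · change AlgSp.Points.map (Groth.Agent.H51.openSubι P.obj _ ≫ prU.hom) v = _
      rw [AlgSp.Points.map_comp, hv, AlgSp.Points.map_ofPt, hm1,
        Groth.Agent.H51.ofPt_eq_map_schemeHomeo]
      exact AlgSp.Points.map_yon_map_apply b v₁

end Groth.Agent.S10677
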