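import Groth.Statements.S10687
import Groth.Agent.H53.Gor.Tower

set_option autoImplicit false
universe u
open CategoryTheory CategoryTheory.Limits AlgebraicGeometry
open AlgSp

namespace Groth.Agent.S10687

/-- For morphisms f : X ⟶ Y and g : Y ⟶ Z between algebraic spaces over S whose fibres, and those of f ≫
g, are locally Noetherian, and a point x of |X|: (1) if g is Gorenstein at the image of x and f is
Gorenstein at x itself, then so is f ≫ g at x; (2) if f ≫ g is Gorenstein at x and f is flat there,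
then f is Gorenstein at x and g at the image of x. Here f is Gorenstein at x when in every etale
chart diagram through x the top arrow is Gorenstein at the point over x (flat there, with Gorenstein
local ring of its fibre), and the fibres of a morphism are locally Noetherian when every fibre over
a field point (pullback in fppf sheaves) is a locally Noetherian algebraic space. -/
theorem result {S : Scheme.{u}} {X Y Z : AlgSp.Space S} (f : X ⟶ Y) (g : Y ⟶ Z)
    (hf : ∀ (k : AlgSp.FieldPt Y.obj) (Xk : AlgSp.Sp S) (a : Xk ⟶ X.obj) (b : Xk ⟶ (AlgSp.yon S).obj k.pt),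
        IsPullback a b f.hom k.toHom → AlgSp.IsLocNoethSp Xk)
    (hg : ∀ (k : AlgSp.FieldPt Z.obj) (Xk : AlgSp.Sp S) (a : Xk ⟶ Y.obj) (b : Xk ⟶ (AlgSp.yon S).obj k.pt),
        IsPullback a b g.hom k.toHom → AlgSp.IsLocNoethSp Xk)
    (hfg : ∀ (k : AlgSp.FieldPt Z.obj) (Xk : AlgSp.Sp S) (a : Xk ⟶ X.obj) (b : Xk ⟶ (AlgSp.yon S).obj k.pt),
        IsPullback a b (f ≫ g).hom k.toHom → AlgSp.IsLocNoethSp Xk)
    (x : AlgSp.Points X.obj) :
    (AlgSp.LocPAt (fun h u => Dual3.IsGorensteinAt h u) f.hom x → AlgSp.LocPAt (fun h u => Dual3.IsGorensteinAt h u) g.hom (AlgSp.Points.map f.hom x) →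
        AlgSp.LocPAt (fun h u => Dual3.IsGorensteinAt h u) (f ≫ g).hom x) ∧
      (AlgSp.LocPAt (fun h u => Dual3.IsGorensteinAt h u) (f ≫ g).hom x → AlgSp.IsFlatAtMor f.hom x →
        AlgSp.LocPAt (fun h u => Dual3.IsGorensteinAt h u) f.hom x ∧ AlgSp.LocPAt (fun h u => Dual3.IsGorensteinAt h u) g.hom (AlgSp.Points.map f.hom x)) := by
  obtain ⟨U, V, W, a, b, c, h, k, haE, haS, hbE, hbS, hcE, hcS, hw1, hw2⟩ :=
    Groth.Agent.H53.Gor.exists_chart_tower X.property Y.property Z.property f.hom g.hom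
  obtain ⟨u, rfl⟩ := Groth.Agent.H53.exists_ofPt_eq_of_repWith_surjective a haS x
  have hfg' : (f ≫ g).hom = f.hom ≫ g.hom := rfl
  have hw3 : a ≫ (f ≫ g).hom = (AlgSp.yon S).map (h ≫ k) ≫ c := by
    rw [hfg', ← Category.assoc, hw1, Category.assoc, hw2, Functor.map_comp, Category.assoc]
  have hpt : AlgSp.Points.map f.hom (AlgSp.Points.ofPt a u) = AlgSp.Points.ofPt b (h.left u) := by
    rw [AlgSp.Points.map_ofPt, hw1, Groth.Agent.H53.ofPt_yon_map_comp]
  have I1 := Groth.Agent.H53.Gor.locPAt_gor_iff_chart f.hom hf a b h haE hbE hw1 u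
  have I2 := Groth.Agent.H53.Gor.locPAt_gor_iff_chart g.hom hg b c k hbE hcE hw2 (h.left u)
  have I3 := Groth.Agent.H53.Gor.locPAt_gor_iff_chart (f ≫ g).hom hfg a c (h ≫ k) haE hcE hw3 u
  have I4 := Groth.Agent.H1.FlatLocusSp.isFlatAtMor_iff_chart f.hom a b h haE hbE hw1 u
  have N1 := Groth.Agent.H53.Gor.isLocallyNoetherian_fiber_of_chart f.hom hf a b h haE hbE hw1
  have N2 := Groth.Agent.H53.Gor.isLocallyNoetherian_fiber_of_chart g.hom hg b c k hbE hcE hw2
  have N3 := Groth.Agent.H53.Gor.isLocallyNoetherian_fiber_of_chart (f ≫ g).hom hfg a c (h ≫ k)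
    haE hcE hw3
  have key := Groth.Agent.S3627.result _ _ _ h.left k.left N1 N2 N3 u
  rw [hpt, I1, I2, I3, I4]
  exact key

end Groth.Agent.S10687
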