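import Groth.Statements.S10688
import Groth.Agent.H53.Gor.Tower
import Groth.Agent.H53.BCCharts

set_option autoImplicit false
universe u
open CategoryTheory CategoryTheory.Limits AlgebraicGeometry
open AlgSp

namespace Groth.Agent.S10688

/-- For a morphism f : X ⟶ Y between algebraic spaces over S with locally Noetherian fibres, g : Y' ⟶ Y
locally of finite type, f' : X' ⟶ Y' the base change (a pullback square of algebraic spaces) with
projection g' : X' ⟶ X, and x' a point of |X'| with image x: (1) if f is Gorenstein at x then so is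
f' at x'; (2) when f is flat at x, Gorensteinness of f' at x' implies that of f at x; (3) the same
conclusion holds if instead g is flat at the image of x' and f' is Gorenstein at x'. Here f is
Gorenstein at x when in every etale chart diagram through x the top arrow is Gorenstein at the point
over x (flat there, with Gorenstein local ring of its fibre), and the fibres of a morphism are
locally Noetherian when every fibre over a field point (pullback in fppf sheaves) is a locally
Noetherian algebraic space. -/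
theorem result {S : Scheme.{u}} {X Y X' Y' : AlgSp.Space S} (f : X ⟶ Y) (g : Y' ⟶ Y) (g' : X' ⟶ X) (f' : X' ⟶ Y')
    (hsq : IsPullback g'.hom f'.hom f.hom g.hom)
    (hf : ∀ (k : AlgSp.FieldPt Y.obj) (Xk : AlgSp.Sp S) (a : Xk ⟶ X.obj) (b : Xk ⟶ (AlgSp.yon S).obj k.pt),
        IsPullback a b f.hom k.toHom → AlgSp.IsLocNoethSp Xk)
    (hg : AlgSp.LocP @LocallyOfFiniteType g.hom) (x' : AlgSp.Points X'.obj) :
    (AlgSp.LocPAt (fun h u => Dual3.IsGorensteinAt h u) f.hom (AlgSp.Points.map g'.hom x') → AlgSp.LocPAt (fun h u => Dual3.IsGorensteinAt h u) f'.hom x') ∧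
      (AlgSp.IsFlatAtMor f.hom (AlgSp.Points.map g'.hom x') → AlgSp.LocPAt (fun h u => Dual3.IsGorensteinAt h u) f'.hom x' →
        AlgSp.LocPAt (fun h u => Dual3.IsGorensteinAt h u) f.hom (AlgSp.Points.map g'.hom x')) ∧
      (AlgSp.IsFlatAtMor g.hom (AlgSp.Points.map f'.hom x') → AlgSp.LocPAt (fun h u => Dual3.IsGorensteinAt h u) f'.hom x' →
        AlgSp.LocPAt (fun h u => Dual3.IsGorensteinAt h u) f.hom (AlgSp.Points.map g'.hom x')) := by
  obtain ⟨U, V, U', V', a, b, a', b', h, h', gU, v, haE, haS, hbE, hbS, ha'E, ha'S, hb'E, hb'S,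
    w1, w2, w3, w4, sqS⟩ := Groth.Agent.H53.exists_baseChange_charts X.property Y.property
      Y'.property f.hom g.hom g'.hom f'.hom hsq
  obtain ⟨u', rfl⟩ := Groth.Agent.H53.exists_ofPt_eq_of_repWith_surjective a' ha'S x'
  have hpt1 : AlgSp.Points.map g'.hom (AlgSp.Points.ofPt a' u') =
      AlgSp.Points.ofPt a (gU.left u') := by
    rw [AlgSp.Points.map_ofPt, w3, Groth.Agent.H53.ofPt_yon_map_comp]
  have hpt2 : AlgSp.Points.map f'.hom (AlgSp.Points.ofPt a' u') =
      AlgSp.Points.ofPt b' (h'.left u') := by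
    rw [AlgSp.Points.map_ofPt, w2, Groth.Agent.H53.ofPt_yon_map_comp]
  -- the fibres of `f'` over field points are locally Noetherian
  have hf' : ∀ (k : AlgSp.FieldPt Y'.obj) (Xk : AlgSp.Sp S) (a : Xk ⟶ X'.obj)
      (b : Xk ⟶ (AlgSp.yon S).obj k.pt), IsPullback a b f'.hom k.toHom → AlgSp.IsLocNoethSp Xk := by
    intro k Xk a₁ b₁ sq₁
    have hp := sq₁.paste_horiz hsq
    rw [← AlgSp.FieldPt.toHom_map] at hp
    exact hf (k.map g.hom) Xk _ b₁ hp
  have I1 := Groth.Agent.H53.Gor.locPAt_gor_iff_chart f.hom hf a b h haE hbE w1 (gU.left u')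
  have I2 := Groth.Agent.H53.Gor.locPAt_gor_iff_chart f'.hom hf' a' b' h' ha'E hb'E w2 u'
  have I3 := Groth.Agent.H1.FlatLocusSp.isFlatAtMor_iff_chart f.hom a b h haE hbE w1 (gU.left u')
  have I4 := Groth.Agent.H1.FlatLocusSp.isFlatAtMor_iff_chart g.hom b' b v hb'E hbE w4 (h'.left u')
  have N1 := Groth.Agent.H53.Gor.isLocallyNoetherian_fiber_of_chart f.hom hf a b h haE hbE w1
  have hv : LocallyOfFiniteType v.left := hg b' b v hb'E hbE w4
  have key := Groth.Agent.S3625.result _ _ _ _ h.left v.left h'.left gU.left sqS N1 u'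
  rw [hpt1, hpt2, I1, I2, I3, I4]
  exact key

end Groth.Agent.S10688
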