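import Groth.Statements.S10690
import Groth.Agent.H53.Gor.FibreGor

set_option autoImplicit false
universe u
open CategoryTheory CategoryTheory.Limits AlgebraicGeometry
open AlgSp

namespace Groth.Agent.S10690

/-- For a morphism f : X ⟶ Y between algebraic spaces over S whose fibres are locally Noetherian, the
following are equivalent: (1) f is Gorenstein at every point of |X|; (2) f is flat and for some
scheme V with a representable etale surjective b : h_V ⟶ Y every fibre of X ×_Y V ⟶ V over a point v
of V (pullback along the residue field point of v) is a Gorenstein algebraic space (some etale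
surjective scheme chart is a Gorenstein scheme); (3) f is flat and the same holds for every scheme V
with a representable etale b : h_V ⟶ Y. Here f is Gorenstein at x when in every etale chart diagram
through x the top arrow is Gorenstein at the point over x (flat there, with Gorenstein local ring of
its fibre), and the fibres of a morphism are locally Noetherian when every fibre over a field point
(pullback in fppf sheaves) is a locally Noetherian algebraic space. (The published statement also
characterises being Gorenstein at a single point through strict henselizations; that part is stated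
separately and not included here.) -/
theorem result {S : Scheme.{u}} {X Y : AlgSp.Space S} (f : X ⟶ Y)
    (hf : ∀ (k : AlgSp.FieldPt Y.obj) (Xk : AlgSp.Sp S) (a : Xk ⟶ X.obj) (b : Xk ⟶ (AlgSp.yon S).obj k.pt),
        IsPullback a b f.hom k.toHom → AlgSp.IsLocNoethSp Xk) :
    [∀ x : AlgSp.Points X.obj, AlgSp.LocPAt (fun h u => Dual3.IsGorensteinAt h u) f.hom x,
      AlgSp.LocP @Flat f.hom ∧ ∃ (V : Over S) (b : (AlgSp.yon S).obj V ⟶ Y.obj),
        AlgSp.RepWith @Etale b ∧ AlgSp.RepWith @Surjective b ∧
          ∀ (v : ↥V.left) (Xv : AlgSp.Sp S) (a : Xv ⟶ X.obj)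
            (c : Xv ⟶ (AlgSp.yon S).obj (Over.mk (V.left.fromSpecResidueField v ≫ V.hom))),
            IsPullback a c f.hom ((AlgSp.yon S).map (Over.homMk (V.left.fromSpecResidueField v) rfl :
              Over.mk (V.left.fromSpecResidueField v ≫ V.hom) ⟶ V) ≫ b) →
            AlgSp.EtaleLocally Dual3.IsGorenstein Xv,
      AlgSp.LocP @Flat f.hom ∧ ∀ (V : Over S) (b : (AlgSp.yon S).obj V ⟶ Y.obj), AlgSp.RepWith @Etale b →
          ∀ (v : ↥V.left) (Xv : AlgSp.Sp S) (a : Xv ⟶ X.obj)
            (c : Xv ⟶ (AlgSp.yon S).obj (Over.mk (V.left.fromSpecResidueField v ≫ V.hom))),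
            IsPullback a c f.hom ((AlgSp.yon S).map (Over.homMk (V.left.fromSpecResidueField v) rfl :
              Over.mk (V.left.fromSpecResidueField v ≫ V.hom) ⟶ V) ≫ b) →
            AlgSp.EtaleLocally Dual3.IsGorenstein Xv].TFAE := by
  tfae_have 1 → 3 := by
    intro H1
    refine ⟨?_, ?_⟩
    · intro U V a b h ha hb w
      exact Flat.of_stalkMap h.left
        (fun u => (H1 (AlgSp.Points.ofPt a u) a b h u ha hb w rfl).1)
    · intro V b hb v Xv pa pc sqX
      obtain ⟨U₀, a₀, ha₀E, ha₀S⟩ := X.property.atlas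
      obtain ⟨U, e, h, sq⟩ := Groth.Agent.H53.exists_pullback_yon (a₀ ≫ f.hom) b hb.rep
      have he : Etale e.left := Groth.Agent.H53.prop_of_isPullback_yon sq hb
      have haE : AlgSp.RepWith @Etale ((AlgSp.yon S).map e ≫ a₀) :=
        Groth.Agent.H53.repWith_etale_map_comp e he a₀ ha₀E
      have w : ((AlgSp.yon S).map e ≫ a₀) ≫ f.hom = (AlgSp.yon S).map h ≫ b := by
        rw [Category.assoc]; exact sq.w
      obtain ⟨c, hcE, hcS⟩ :=
        Groth.Agent.H53.Gor.exists_fibre_chart_etale f.hom a₀ ha₀E b e h sq v pa pc sqX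
      refine ⟨Groth.Agent.H53.Gor.fibOver h v, c, hcE, hcS ha₀S, ?_⟩
      have hN := Groth.Agent.H53.Gor.isLocallyNoetherian_fiber_of_chart f.hom hf _ b h haE hb w v
      exact Groth.Agent.H53.Gor.isGorenstein_fiber_of_forall h.left v hN
        (fun u _ => H1 (AlgSp.Points.ofPt _ u) _ b h u haE hb w rfl)
  tfae_have 3 → 2 := by
    rintro ⟨hfl, H3⟩
    obtain ⟨V, b, hbE, hbS⟩ := Y.property.atlas
    exact ⟨hfl, V, b, hbE, hbS, H3 V b hbE⟩
  tfae_have 2 → 1 := by
    rintro ⟨hfl, V, b, hbE, hbS, H2⟩ x
    obtain ⟨U₀, a₀, ha₀E, ha₀S⟩ := X.property.atlas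
    obtain ⟨U, e, h, sq⟩ := Groth.Agent.H53.exists_pullback_yon (a₀ ≫ f.hom) b hbE.rep
    have he : Etale e.left := Groth.Agent.H53.prop_of_isPullback_yon sq hbE
    have heS : Surjective e.left := Groth.Agent.H53.prop_of_isPullback_yon sq hbS
    have haE : AlgSp.RepWith @Etale ((AlgSp.yon S).map e ≫ a₀) :=
      Groth.Agent.H53.repWith_etale_map_comp e he a₀ ha₀E
    have w : ((AlgSp.yon S).map e ≫ a₀) ≫ f.hom = (AlgSp.yon S).map h ≫ b := by
      rw [Category.assoc]; exact sq.w
    obtain ⟨u₀, rfl⟩ := Groth.Agent.H53.exists_ofPt_eq_of_repWith_surjective a₀ ha₀S x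
    obtain ⟨u, rfl⟩ := heS.surj u₀
    rw [← Groth.Agent.H53.ofPt_yon_map_comp e a₀ u,
      Groth.Agent.H53.Gor.locPAt_gor_iff_chart f.hom hf _ b h haE hbE w u]
    have hflat : Flat h.left := hfl _ b h haE hbE w
    refine ⟨Flat.stalkMap h.left u, ?_⟩
    have sqX := IsPullback.of_hasPullback f.hom
      ((AlgSp.yon S).map (Groth.Agent.H53.Gor.resOverι V (h.left u)) ≫ b)
    have hXv := H2 (h.left u) _ _ _ sqX
    obtain ⟨c, hcE, -⟩ := Groth.Agent.H53.Gor.exists_fibre_chart_etale f.hom a₀ ha₀E b e h sq
      (h.left u) _ _ sqX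
    have hT := Groth.Agent.H53.Gor.isGorenstein_of_etaleLocally hXv c hcE
    exact hT.2 (h.left.asFiber u)
  tfae_finish

end Groth.Agent.S10690
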