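import Groth.Statements.S10695
import Groth.Agent.H53.ElemDist

set_option autoImplicit false
universe u
open CategoryTheory CategoryTheory.Limits AlgebraicGeometry
open AlgSp

namespace Groth.Agent.S10695

/-- Suppose `(U ⊂ W, f : V → W)`, a square of algebraic spaces over `S`, is elementary distinguished
(`j` an open immersion, `f` etale and an isomorphism over the reduced closed complement of `U`) and
let `P` with its two projections be a fibre product `U ×_W V`. Then `W` is the pushout of `U` and
`V` along `P` among algebraic spaces over `S`. -/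
theorem result {S : Scheme.{u}} {U V W P : AlgSp.Space S} (j : U ⟶ W) (f : V ⟶ W)
    (hsq : AlgSp.IsElemDistSq j.hom f.hom) (p : P ⟶ U) (q : P ⟶ V)
    (hP : IsPullback p.hom q.hom j.hom f.hom) : IsPushout p q j f := by
  refine Groth.Agent.H53.isPushout_of_existsUnique
    (ObjectProperty.hom_ext _ (by
      rw [ObjectProperty.FullSubcategory.comp_hom, ObjectProperty.FullSubcategory.comp_hom]
      exact hP.w)) ?_
  intro Z a b hab
  have hab' : p.hom ≫ a.hom = q.hom ≫ b.hom := by
    rw [← ObjectProperty.FullSubcategory.comp_hom, ← ObjectProperty.FullSubcategory.comp_hom, hab]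
  obtain ⟨l, ⟨hl1, hl2⟩, hl3⟩ := Groth.Agent.H53.elemDist_existsUnique U.property V.property
    j.hom f.hom hsq p.hom q.hom hP Z.obj a.hom b.hom hab'
  refine ⟨ObjectProperty.homMk l, ⟨ObjectProperty.hom_ext _ ?_, ObjectProperty.hom_ext _ ?_⟩,
    fun l' hl' => ObjectProperty.hom_ext _ ?_⟩
  · rw [ObjectProperty.FullSubcategory.comp_hom]; exact hl1
  · rw [ObjectProperty.FullSubcategory.comp_hom]; exact hl2
  · refine hl3 l'.hom ⟨?_, ?_⟩
    · rw [← ObjectProperty.FullSubcategory.comp_hom, hl'.1]
    · rw [← ObjectProperty.FullSubcategory.comp_hom, hl'.2]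

end Groth.Agent.S10695
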