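import Groth.Statements.S10702
import Groth.Agent.H53.Epi

set_option autoImplicit false
universe u
open CategoryTheory CategoryTheory.Limits AlgebraicGeometry
open AlgSp

namespace Groth.Agent.S10702

/-- Consider a commutative diagram of algebraic spaces over `S` with top row `A → C → E`, bottom row `B
→ D → F` and vertical maps `A → B`, `C → D`, `E → F`. If the left square and the outer rectangle are
cartesian and `B → D` is surjective etale, then the right square is cartesian. -/
theorem result {S : Scheme.{u}} {A B C D E F : AlgSp.Space S} (ac : A ⟶ C) (ab : A ⟶ B)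
    (cd : C ⟶ D) (bd : B ⟶ D) (ce : C ⟶ E) (df : D ⟶ F) (ef : E ⟶ F)
    (hl : IsPullback ac.hom ab.hom cd.hom bd.hom) (hcomm : cd ≫ df = ce ≫ ef)
    (hout : IsPullback (ac ≫ ce).hom ab.hom ef.hom (bd ≫ df).hom) (hsurj : AlgSp.IsSurjectiveMor bd.hom)
    (het : AlgSp.IsEtaleMor bd.hom) : IsPullback ce.hom cd.hom ef.hom df.hom := by
  have hepi : Epi bd.hom :=
    Groth.Agent.H53.epi_of_isEtaleMor_of_isSurjectiveMor B.property bd.hom het hsurj
  have hcomm' : cd.hom ≫ df.hom = ce.hom ≫ ef.hom := congrArg (·.hom) hcomm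
  have hlw : ac.hom ≫ cd.hom = ab.hom ≫ bd.hom := hl.w
  -- the comparison map to the chosen pullback
  let k : C.obj ⟶ pullback ef.hom df.hom := pullback.lift ce.hom cd.hom hcomm'.symm
  have hk1 : k ≫ pullback.fst _ _ = ce.hom := pullback.lift_fst _ _ _
  have hk2 : k ≫ pullback.snd _ _ = cd.hom := pullback.lift_snd _ _ _
  have hmono : Mono k := by
    refine Groth.Agent.H53.mono_of_forall_yon k fun T c₁ c₂ h12 => ?_
    have e1 : c₁ ≫ ce.hom = c₂ ≫ ce.hom := by
      rw [← hk1, ← Category.assoc, h12, Category.assoc]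
    have e2 : c₁ ≫ cd.hom = c₂ ≫ cd.hom := by
      rw [← hk2, ← Category.assoc, h12, Category.assoc]
    obtain ⟨R, hR, hlift⟩ := Groth.Agent.H53.exists_local_lift bd.hom (c₁ ≫ cd.hom)
    refine Groth.Agent.H53.yon_hom_ext_of_sieve c₁ c₂ R hR fun W w hw => ?_
    obtain ⟨b, hb⟩ := hlift w hw
    have w1 : ((yon S).map w ≫ c₁) ≫ cd.hom = b ≫ bd.hom := by rw [Category.assoc, hb]
    have w2 : ((yon S).map w ≫ c₂) ≫ cd.hom = b ≫ bd.hom := by rw [Category.assoc, ← e2, hb]
    have ea : hl.lift _ _ w1 = hl.lift _ _ w2 := by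
      apply hout.hom_ext
      · change _ ≫ (ac.hom ≫ ce.hom) = _ ≫ (ac.hom ≫ ce.hom)
        rw [← Category.assoc, ← Category.assoc, hl.lift_fst, hl.lift_fst, Category.assoc, Category.assoc, e1]
      · rw [hl.lift_snd, hl.lift_snd]
    rw [← hl.lift_fst _ _ w1, ea, hl.lift_fst]
  have hepik : Epi k := by
    refine Groth.Agent.H53.epi_of_local_lift k fun T m => ?_
    obtain ⟨R, hR, hlift⟩ := Groth.Agent.H53.exists_local_lift bd.hom (m ≫ pullback.snd _ _)
    refine ⟨R, hR, fun W w hw => ?_⟩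
    obtain ⟨b, hb⟩ := hlift w hw
    have w1 : ((yon S).map w ≫ m ≫ pullback.fst _ _) ≫ ef.hom = b ≫ (bd.hom ≫ df.hom) := by
      rw [← Category.assoc b, hb]
      simp only [Category.assoc, pullback.condition]
    have w1' : ((yon S).map w ≫ m ≫ pullback.fst _ _) ≫ ef.hom = b ≫ (bd ≫ df).hom := w1
    refine ⟨hout.lift _ _ w1' ≫ ac.hom, ?_⟩
    apply pullback.hom_ext
    · rw [Category.assoc, Category.assoc, hk1]
      have := hout.lift_fst _ _ w1'
      change _ ≫ (ac.hom ≫ ce.hom) = _ at this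
      rw [this, Category.assoc]
    · rw [Category.assoc, Category.assoc, hk2, hlw, ← Category.assoc, hout.lift_snd, hb, Category.assoc]
  have hiso : IsIso k := Groth.Agent.H53.sp_isIso_of_mono_of_epi k
  exact IsPullback.of_iso_pullback ⟨hcomm'.symm⟩ (asIso k) hk1 hk2

end Groth.Agent.S10702
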