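import Groth.Statements.S10704
import Groth.Agent.H53.Fpqc.Modification

set_option autoImplicit false
universe u
open CategoryTheory CategoryTheory.Limits AlgebraicGeometry
open AlgSp

namespace Groth.Agent.S10704

/-- Let `f : Y → X` be a quasi-compact quasi-separated morphism of algebraic spaces over `S`, `i : Z →
X` a closed immersion of finite presentation such that `f⁻¹Z → Z` is an isomorphism and `f` is flat
at every point of `|f⁻¹Z|`, and let `U ⊂ X` be the open subspace complementary to `Z`. Then there is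
an fpqc covering `{X_k → X}` refining the family `{U → X, Y → X}`: every `X_k → X` factors through
`U` or through `Y`. -/
theorem result {S : Scheme.{u}} {X Y Z FZ U : AlgSp.Space S} (f : Y ⟶ X)
    (hqc : AlgSp.IsQuasiCompactMor f.hom) (hqs : AlgSp.IsQuasiSeparatedMor f.hom) (i : Z ⟶ X)
    (hi : AlgSp.RepWith @IsClosedImmersion i.hom) (hifp : AlgSp.LocP @LocallyOfFinitePresentation i.hom)
    (iY : FZ ⟶ Y) (fZ : FZ ⟶ Z) (hFZ : IsPullback iY.hom fZ.hom f.hom i.hom) [IsIso fZ]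
    (hflat : ∀ y ∈ Set.range (AlgSp.Points.map iY.hom), AlgSp.IsFlatAtMor f.hom y) (j : U ⟶ X)
    (hj : AlgSp.RepWith @IsOpenImmersion j.hom)
    (hU : Set.range (AlgSp.Points.map j.hom) = (Set.range (AlgSp.Points.map i.hom))ᶜ) :
    ∃ (ι : Type u) (W : ι → AlgSp.Space S) (w : ∀ k, W k ⟶ X),
      AlgSp.IsFpqcCover (fun k => (W k).obj) (fun k => (w k).hom) ∧
        ∀ k, (∃ l : W k ⟶ U, l ≫ j = w k) ∨ (∃ l : W k ⟶ Y, l ≫ f = w k) := by
  have hGf := Groth.Agent.H50.goodClass_flat.{u}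
  have hGp := Groth.Agent.H50.goodClass_lfp.{u}
  obtain ⟨T₀, p₀, hp₀e, hp₀s⟩ := X.property.atlas
  let 𝒰 := T₀.left.affineOpenCover
  let e : ∀ k : 𝒰.I₀, (Over.mk (𝒰.f k ≫ T₀.hom) : Over S) ⟶ T₀ := fun k => Over.homMk (𝒰.f k) rfl
  let p : ∀ k : 𝒰.I₀, (AlgSp.yon S).obj (Over.mk (𝒰.f k ≫ T₀.hom)) ⟶ X.obj :=
    fun k => (AlgSp.yon S).map (e k) ≫ p₀
  have hpe : ∀ k, AlgSp.RepWith @Etale (p k) := fun k =>
    Groth.Agent.H53.repWith_etale_map_comp (e k)
      (by change Etale (𝒰.f k); infer_instance) p₀ hp₀e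
  choose κ hκ W c hW hc hs hl using fun k : 𝒰.I₀ =>
    Groth.Agent.H53.Fpqc.exists_standard_cover_chart f hqc i hi hifp iY fZ hFZ hflat j hj hU
      (𝒰.X k) (𝒰.f k ≫ T₀.hom) (p k) (hpe k)
  refine ⟨Σ k : 𝒰.I₀, κ k, fun r => (AlgSp.ofScheme S).obj (W r.1 r.2),
    fun r => ObjectProperty.homMk ((AlgSp.yon S).map (c r.1 r.2) ≫ p r.1), ⟨fun r => ?_, ?_⟩,
    fun r => ?_⟩
  · exact hGf.locP_comp (AlgSp.IsAlgSpace.yon_obj _) _ _ (hGf.locP_yon_map _ (hc r.1 r.2))
      (hGf.locP_of_repWith_etale _ (hpe r.1))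
  · have h1 : Groth.Agent.H52.FpqcRefine
        (fun k : 𝒰.I₀ => (AlgSp.yon S).obj (Over.mk (𝒰.f k ≫ T₀.hom))) p := by
      refine Groth.Agent.H52.fpqcRefine_of_isFppfCover X.property _
        (fun k => AlgSp.IsAlgSpace.yon_obj _) p
        ⟨fun k => ⟨hGf.locP_of_repWith_etale _ (hpe k), hGp.locP_of_repWith_etale _ (hpe k)⟩,
          fun x => ?_⟩
      obtain ⟨t, rfl⟩ := Groth.Agent.H53.exists_ofPt_eq_of_repWith_surjective p₀ hp₀s x
      obtain ⟨t', ht'⟩ := 𝒰.covers t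
      refine ⟨𝒰.idx t, AlgSp.Points.ofScheme _ t', ?_⟩
      rw [← AlgSp.Points.ofPt_eq_map_ofScheme, Groth.Agent.H53.ofPt_yon_map_comp]
      congr 1
    have h2 := Groth.Agent.H52.FpqcRefine.comp h1 (κ := κ)
      (Zij := fun k l => (AlgSp.yon S).obj (W k l)) (aij := fun k l => (AlgSp.yon S).map (c k l))
      (fun k => by
        have := hκ k
        exact Groth.Agent.H53.Fpqc.fpqcRefine_of_standard (inferInstance : IsAffine (Spec (𝒰.X k)))
          (W k) (c k) (hW k) (hc k) (hs k))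
    exact h2
  · rcases hl r.1 r.2 with ⟨l, hl'⟩ | ⟨l, hl'⟩
    · left
      refine ⟨ObjectProperty.homMk l, ?_⟩
      apply ObjectProperty.hom_ext
      exact hl'
    · right
      refine ⟨ObjectProperty.homMk l, ?_⟩
      apply ObjectProperty.hom_ext
      exact hl'

end Groth.Agent.S10704
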