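import Groth.Statements.S10705
import Groth.Agent.S10704
import Groth.Agent.S10532
import Groth.Agent.H53.ZMT.GenFinDense4

set_option autoImplicit false
universe u
open CategoryTheory CategoryTheory.Limits AlgebraicGeometry
open AlgSp

namespace Groth.Agent.S10705

/-- Let `f : Y → X` be a quasi-compact quasi-separated morphism of algebraic spaces over `S`, `i : Z →
X` a closed immersion of finite presentation such that `f⁻¹Z → Z` is an isomorphism and `f` is flat
at every point of `|f⁻¹Z|`, and let `U ⊂ X` be the open subspace complementary to `Z`. Let `a : X₁ →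
X₂` be a morphism of algebraic spaces over `X`. If the base change of `a` to `U` and the base change
of `a` to `Y` are isomorphisms, then `a` is an isomorphism: the formal glueing functor reflects
isomorphisms. -/
theorem result {S : Scheme.{u}} {X Y Z FZ U : AlgSp.Space S} (f : Y ⟶ X)
    (hqc : AlgSp.IsQuasiCompactMor f.hom) (hqs : AlgSp.IsQuasiSeparatedMor f.hom) (i : Z ⟶ X)
    (hi : AlgSp.RepWith @IsClosedImmersion i.hom) (hifp : AlgSp.LocP @LocallyOfFinitePresentation i.hom)
    (iY : FZ ⟶ Y) (fZ : FZ ⟶ Z) (hFZ : IsPullback iY.hom fZ.hom f.hom i.hom) [IsIso fZ]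
    (hflat : ∀ y ∈ Set.range (AlgSp.Points.map iY.hom), AlgSp.IsFlatAtMor f.hom y) (j : U ⟶ X)
    (hj : AlgSp.RepWith @IsOpenImmersion j.hom)
    (hU : Set.range (AlgSp.Points.map j.hom) = (Set.range (AlgSp.Points.map i.hom))ᶜ)
    {X₁ X₂ QU QU₁ QY QY₁ : AlgSp.Space S} (p₂ : X₂ ⟶ X) (a : X₁ ⟶ X₂)
    (qU : QU ⟶ X₂) (rU : QU ⟶ U) (hQU : IsPullback qU.hom rU.hom p₂.hom j.hom) (aU : QU₁ ⟶ QU)
    (bU : QU₁ ⟶ X₁) (hQU₁ : IsPullback bU.hom aU.hom a.hom qU.hom) [IsIso aU] (qY : QY ⟶ X₂) (rY : QY ⟶ Y)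
    (hQY : IsPullback qY.hom rY.hom p₂.hom f.hom) (aY : QY₁ ⟶ QY) (bY : QY₁ ⟶ X₁)
    (hQY₁ : IsPullback bY.hom aY.hom a.hom qY.hom) [IsIso aY] : IsIso a := by
  have hGf := Groth.Agent.H50.goodClass_flat.{u}
  obtain ⟨ι, W, w, hcov, hfac⟩ :=
    Groth.Agent.S10704.result f hqc hqs i hi hifp iY fZ hFZ hflat j hj hU
  -- base change of the covering to `X₂`
  let Yi : ι → AlgSp.Sp S := fun k => pullback p₂.hom (w k).hom
  let g : ∀ k, Yi k ⟶ X₂.obj := fun k => pullback.fst p₂.hom (w k).hom
  let r : ∀ k, Yi k ⟶ (W k).obj := fun k => pullback.snd p₂.hom (w k).hom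
  have sqY : ∀ k, IsPullback (g k) (r k) p₂.hom (w k).hom :=
    fun k => IsPullback.of_hasPullback _ _
  have hYi : ∀ k, AlgSp.IsAlgSpace (Yi k) := fun k =>
    Groth.Agent.H49.isAlgSpace_of_isPullback (sqY k) X.property.diag X₂.property (W k).property
  have hcovY : AlgSp.IsFpqcCover Yi g := by
    refine ⟨fun k => ?_, Groth.Agent.H52.FpqcRefine.baseChange hcov.2 p₂.hom Yi g r sqY⟩
    exact Groth.Agent.H53.locP_of_isPullback @Flat hGf.etale_le
      (fun e h he hes H => hGf.src e h he hes H) (W k).property X.property X₂.property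
      (sqY k).flip (hcov.1 k)
  let Xi : ι → AlgSp.Sp S := fun k => pullback a.hom (g k)
  have sqX : ∀ k, IsPullback (pullback.fst a.hom (g k)) (pullback.snd a.hom (g k)) a.hom (g k) :=
    fun k => IsPullback.of_hasPullback _ _
  have hXi : ∀ k, AlgSp.IsAlgSpace (Xi k) := fun k =>
    Groth.Agent.H49.isAlgSpace_of_isPullback (sqX k) X₂.property.diag X₁.property (hYi k)
  have key : ∀ k, IsIso (pullback.snd a.hom (g k)) := by
    intro k
    rcases hfac k with ⟨l, hl⟩ | ⟨l, hl⟩
    · have hl' : l.hom ≫ j.hom = (w k).hom := congrArg (fun φ => φ.hom) hl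
      have hcomm : g k ≫ p₂.hom = (r k ≫ l.hom) ≫ j.hom := by
        rw [Category.assoc, hl']
        exact (sqY k).w
      let mk : Yi k ⟶ QU.obj := hQU.lift (g k) (r k ≫ l.hom) hcomm
      have hmk : mk ≫ qU.hom = g k := hQU.lift_fst _ _ _
      have sq' : IsPullback (pullback.fst a.hom (g k)) (pullback.snd a.hom (g k)) a.hom
          (mk ≫ qU.hom) := by
        rw [hmk]
        exact sqX k
      obtain ⟨q₁, -, sq₁⟩ := Groth.Agent.H53.ZMT.exists_lift_isPullback hQU₁ sq'
      have h1 : IsIso aU.hom := (inferInstance : IsIso ((ObjectProperty.ι _).map aU))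
      exact MorphismProperty.of_isPullback (P := MorphismProperty.isomorphisms _) sq₁ h1
    · have hl' : l.hom ≫ f.hom = (w k).hom := congrArg (fun φ => φ.hom) hl
      have hcomm : g k ≫ p₂.hom = (r k ≫ l.hom) ≫ f.hom := by
        rw [Category.assoc, hl']
        exact (sqY k).w
      let mk : Yi k ⟶ QY.obj := hQY.lift (g k) (r k ≫ l.hom) hcomm
      have hmk : mk ≫ qY.hom = g k := hQY.lift_fst _ _ _
      have sq' : IsPullback (pullback.fst a.hom (g k)) (pullback.snd a.hom (g k)) a.hom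
          (mk ≫ qY.hom) := by
        rw [hmk]
        exact sqX k
      obtain ⟨q₁, -, sq₁⟩ := Groth.Agent.H53.ZMT.exists_lift_isPullback hQY₁ sq'
      have h1 : IsIso aY.hom := (inferInstance : IsIso ((ObjectProperty.ι _).map aY))
      exact MorphismProperty.of_isPullback (P := MorphismProperty.isomorphisms _) sq₁ h1
  have hiso : IsIso a.hom :=
    (Groth.Agent.S10532.result S Yi g X₂.property hYi hcovY a.hom X₁.property Xi
      (fun k => pullback.snd a.hom (g k)) (fun k => pullback.fst a.hom (g k)) hXi sqX).2 key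
  have : IsIso ((ObjectProperty.ι _).map a) := hiso
  exact isIso_of_reflects_iso a (ObjectProperty.ι _)

end Groth.Agent.S10705
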