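import Groth.Statements.S10706
import Groth.Agent.H53.Glue.GlueableCover

set_option autoImplicit false
universe u
open CategoryTheory CategoryTheory.Limits AlgebraicGeometry TensorProduct
open AlgSp

namespace Groth.Agent.S10706

/-- Let `(R → R', f)` be a glueing pair and `Y` an algebraic space over `Spec R`. The following are
equivalent: (1) there is an etale covering of `Y` by affine schemes `Spec A_k` with every `A_k`
glueable as an `R`-module; (2) for every affine scheme `Spec A` etale over `Y`, the `R`-module `A`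
is glueable. -/
theorem result (R : Type u) [CommRing R] (R' : Type u) [CommRing R'] [Algebra R R']
    (f : R) (hRR' : EtGlue.IsGlueingPair R R' f) (Y : AlgSp.Space (Spec (CommRingCat.of R))) :
    (∃ (ι : Type u) (A : ι → Type u) (_ : ∀ k, CommRing (A k)) (_ : ∀ k, Algebra R (A k))
        (g : ∀ k, (AlgSp.yon (Spec (CommRingCat.of R))).obj (Over.mk (Spec.map (CommRingCat.ofHom (algebraMap R (A k)))) : Over (Spec (CommRingCat.of R))) ⟶ Y.obj),
        (∀ k, AlgSp.RepWith @Etale (g k)) ∧ (∀ y : AlgSp.Points Y.obj, ∃ k, y ∈ Set.range (AlgSp.Points.map (g k))) ∧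
          ∀ k, EtGlue.IsGlueable R R' f (A k)) ↔
      (∀ (A : Type u) [CommRing A] [Algebra R A]
      (g : (AlgSp.yon (Spec (CommRingCat.of R))).obj (Over.mk (Spec.map (CommRingCat.ofHom (algebraMap R A))) : Over (Spec (CommRingCat.of R))) ⟶ Y.obj),
      AlgSp.RepWith @Etale g → EtGlue.IsGlueable R R' f A) := by
  constructor
  · rintro ⟨ι, A, _, _, g, hg, hcov, hA⟩ A' _ _ g' hg'
    exact Groth.Agent.H53.Glue.isGlueable_of_cover hRR' A g hg hcov hA A' g' hg'
  · intro H
    obtain ⟨U, a, haE, haS⟩ := Y.property.atlas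
    let 𝒰 := U.left.affineOpenCover
    let ρ : ∀ i : 𝒰.I₀, CommRingCat.of R ⟶ 𝒰.X i := fun i => Spec.preimage (𝒰.f i ≫ U.hom)
    let alg : ∀ i : 𝒰.I₀, Algebra R (𝒰.X i) := fun i => (ρ i).hom.toAlgebra
    have he : ∀ i : 𝒰.I₀, 𝒰.f i ≫ U.hom =
        Spec.map (CommRingCat.ofHom (algebraMap R (𝒰.X i))) := fun i =>
      (Spec.map_preimage (𝒰.f i ≫ U.hom)).symm
    let e : ∀ i : 𝒰.I₀, Groth.Agent.H53.Glue.specOver R (𝒰.X i) ⟶ U := fun i =>
      Over.homMk (𝒰.f i) (he i)
    have heE : ∀ i, Etale (e i).left := fun i => by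
      change Etale (𝒰.f i)
      infer_instance
    refine ⟨𝒰.I₀, fun i => 𝒰.X i, fun i => inferInstance, alg,
      fun i => (AlgSp.yon _).map (e i) ≫ a, ?_, ?_, ?_⟩
    · intro i
      exact Groth.Agent.H53.repWith_etale_map_comp (e i) (heE i) a haE
    · intro y
      obtain ⟨u, rfl⟩ := Groth.Agent.H53.exists_ofPt_eq_of_repWith_surjective a haS y
      obtain ⟨c, hc⟩ := 𝒰.covers u
      refine ⟨𝒰.idx u, AlgSp.Points.ofScheme _ c, ?_⟩
      rw [← AlgSp.Points.ofPt_eq_map_ofScheme, Groth.Agent.H53.ofPt_yon_map_comp]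
      congr 1
    · intro i
      exact H (𝒰.X i) _ (Groth.Agent.H53.repWith_etale_map_comp (e i) (heE i) a haE)

end Groth.Agent.S10706
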