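import Groth.Statements.S10721
import Groth.Agent.H9.GlueBij

set_option autoImplicit false
universe u
open TensorProduct
open EtAlg

namespace Groth.Agent.S10721

/-- Glueing along a glueing pair detects closed immersions of affine schemes, stated for coordinate
rings. Let `(R → R', f)` be a glueing pair and `φ : A → B` a homomorphism of `R`-algebras with `A`,
`B` glueable as `R`-modules (so `Spec A`, `Spec B` are affine and glueable over `Spec R`). Then `φ`
is surjective (a closed immersion on spectra) if and only if `A_f → B_f` and `R' ⊗_R A → R' ⊗_R B`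
are surjective. -/
theorem result (R : Type u) [CommRing R] (R' : Type u) [CommRing R'] [Algebra R R'] (f : R)
    (hRR' : EtGlue.IsGlueingPair R R' f) (A B : Type u) [CommRing A] [Algebra R A] [CommRing B] [Algebra R B]
    (hA : EtGlue.IsGlueable R R' f A) (hB : EtGlue.IsGlueable R R' f B) (φ : A →ₐ[R] B) :
    Function.Surjective φ ↔
      Function.Surjective (Localization.awayMap φ.toRingHom (algebraMap R A f)) ∧ Function.Surjective (Algebra.TensorProduct.map (AlgHom.id R R') φ).toRingHom := by
  constructor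
  · intro hφ
    refine ⟨?_, ?_⟩
    · rw [Localization.awayMap_surjective_iff]
      intro b
      obtain ⟨a, rfl⟩ := hφ b
      exact ⟨a, 0, by simp⟩
    · intro z
      induction z using TensorProduct.induction_on with
      | zero => exact ⟨0, map_zero _⟩
      | tmul r b =>
        obtain ⟨a, rfl⟩ := hφ b
        exact ⟨r ⊗ₜ[R] a, by simp⟩
      | add x y hx hy =>
        obtain ⟨x', rfl⟩ := hx
        obtain ⟨y', rfl⟩ := hy
        exact ⟨x' + y', map_add _ _ _⟩
  · rintro ⟨h1, h2⟩
    rw [Localization.awayMap_surjective_iff] at h1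
    let N : Submodule R B := LinearMap.range φ.toLinearMap
    have hC : ∀ c : B ⧸ N, ∃ n : ℕ, f ^ n • c = 0 := by
      intro c
      obtain ⟨b, rfl⟩ := Submodule.mkQ_surjective N c
      obtain ⟨a, m, ha⟩ := h1 b
      refine ⟨m, ?_⟩
      rw [← map_smul, Submodule.mkQ_apply, Submodule.Quotient.mk_eq_zero]
      refine ⟨a, ?_⟩
      simp only [AlgHom.toRingHom_eq_coe, RingHom.coe_coe, AlgHom.commutes] at ha
      rw [AlgHom.toLinearMap_apply, ha, Algebra.smul_def, map_pow]
    have hz : ∀ x : R' ⊗[R] A, LinearMap.lTensor R' N.mkQ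
        ((Algebra.TensorProduct.map (AlgHom.id R R') φ) x) = 0 := by
      intro x
      induction x using TensorProduct.induction_on with
      | zero => simp
      | tmul r a =>
        have e : (Submodule.Quotient.mk (φ a) : B ⧸ N) = 0 :=
          (Submodule.Quotient.mk_eq_zero N).2 ⟨a, rfl⟩
        rw [Algebra.TensorProduct.map_tmul, LinearMap.lTensor_tmul, Submodule.mkQ_apply, e,
          TensorProduct.tmul_zero]
      | add x y hx hy => rw [map_add, map_add, hx, hy, add_zero]
    intro b
    have h0 : (1 : R') ⊗ₜ[R] (N.mkQ b) = (1 : R') ⊗ₜ[R] (0 : B ⧸ N) := by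
      obtain ⟨x, hx⟩ := h2 ((1 : R') ⊗ₜ[R] b)
      have e : (1 : R') ⊗ₜ[R] (N.mkQ b) = LinearMap.lTensor R' N.mkQ ((1 : R') ⊗ₜ[R] b) := rfl
      rw [e, ← hx, TensorProduct.tmul_zero]
      exact hz x
    have h3 := (Groth.Agent.H9.glue_tmul_bijective hRR'.1 (B ⧸ N) hC).1 h0
    rw [Submodule.mkQ_apply, Submodule.Quotient.mk_eq_zero] at h3
    obtain ⟨a, ha⟩ := h3
    exact ⟨a, ha⟩

end Groth.Agent.S10721
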