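import Groth.Statements.S10727
import Groth.Agent.H9.BLAbs

set_option autoImplicit false
universe u
open TensorProduct
open EtAlg

namespace Groth.Agent.S10727

/-- Glueing affine schemes along a glueing pair, stated for their coordinate rings. Let `(R → R', f)` be
a glueing pair, `A₁` an `R`-algebra in which `f` is invertible, `A'` an `R'`-algebra and `φ : A'_f ≅
R' ⊗_R A₁` an isomorphism of `R'`-algebras. Then there is an `R`-algebra `A`, glueable as an
`R`-module, with isomorphisms `A_f ≅ A₁` of `R`-algebras and `R' ⊗_R A ≅ A'` of `R'`-algebras under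
which `φ` is the canonical identification `(R' ⊗_R A)_f = R' ⊗_R A_f`. (The published statement is
that base change is an equivalence between affine schemes over `Spec R` that are glueable and
triples of affine schemes over `Spec R_f`, `Spec R'_f`, `Spec R'` with cartesian squares; this row
states only that every such triple arises, on coordinate rings.) -/
theorem result (R : Type u) [CommRing R] (R' : Type u) [CommRing R'] [Algebra R R']
    (f : R) (hRR' : EtGlue.IsGlueingPair R R' f) (A₁ : Type u) [CommRing A₁] [Algebra R A₁]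
    (h₁ : IsUnit (algebraMap R A₁ f)) (A' : Type u) [CommRing A'] [Algebra R A'] [Algebra R' A']
    [IsScalarTower R R' A'] (φ : Localization.Away (algebraMap R A' f) ≃ₐ[R'] R' ⊗[R] A₁) :
    ∃ (A : Type u) (_ : CommRing A) (_ : Algebra R A) (_ : EtGlue.IsGlueable R R' f A)
      (e₁ : Localization.Away (algebraMap R A f) ≃ₐ[R] A₁) (e' : R' ⊗[R] A ≃ₐ[R'] A'),
      ∀ a : A, φ (algebraMap A' (Localization.Away (algebraMap R A' f)) (e' ((1 : R') ⊗ₜ[R] a))) =
        (1 : R') ⊗ₜ[R] e₁ (algebraMap A (Localization.Away (algebraMap R A f)) a) := by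
  classical
  let aAlg : A' →ₐ[R'] R' ⊗[R] A₁ :=
    φ.toAlgHom.comp (IsScalarTower.toAlgHom R' A' (Localization.Away (algebraMap R A' f)))
  let bAlg : A₁ →ₐ[R] R' ⊗[R] A₁ := Algebra.TensorProduct.includeRight
  let S : Subalgebra R (A' × A₁) :=
    AlgHom.equalizer ((aAlg.restrictScalars R).comp (AlgHom.fst R A' A₁))
      (bAlg.comp (AlgHom.snd R A' A₁))
  let p₁Alg : ↥S →ₐ[R] A' := (AlgHom.fst R A' A₁).comp S.val
  let p₂Alg : ↥S →ₐ[R] A₁ := (AlgHom.snd R A' A₁).comp S.val
  let a : A' →ₗ[R'] R' ⊗[R] A₁ := aAlg.toLinearMap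
  let p₁ : ↥S →ₗ[R] A' := p₁Alg.toLinearMap
  let p₂ : ↥S →ₗ[R] A₁ := p₂Alg.toLinearMap
  have F1 : ∀ m : ↥S, a (p₁ m) = (1 : R') ⊗ₜ[R] p₂ m := fun m => m.2
  have F2 : ∀ m n : ↥S, p₁ m = p₁ n → p₂ m = p₂ n → m = n :=
    fun m n h1 h2 => Subtype.ext (Prod.ext h1 h2)
  have F3 : ∀ (m' : A') (m₁ : A₁), a m' = (1 : R') ⊗ₜ[R] m₁ → ∃ m : ↥S, p₁ m = m' ∧ p₂ m = m₁ :=
    fun m' m₁ h => ⟨⟨(m', m₁), h⟩, rfl, rfl⟩
  have hf : Function.Bijective fun x : A₁ => f • x := by
    obtain ⟨u, hu⟩ := h₁
    have : (fun x : A₁ => f • x) = fun x => (u : A₁) * x := by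
      funext x
      rw [Algebra.smul_def, hu]
    rw [this]
    exact (Units.mulLeft u).bijective
  have hφalg : ∀ r : R, φ (algebraMap R (Localization.Away (algebraMap R A' f)) r) =
      algebraMap R (R' ⊗[R] A₁) r := by
    intro r
    rw [IsScalarTower.algebraMap_apply R R' (Localization.Away (algebraMap R A' f)),
      AlgEquiv.commutes, ← IsScalarTower.algebraMap_apply]
  have hsurj : ∀ z : R' ⊗[R] A₁, ∃ (n : ℕ) (m' : A'), f ^ n • z = a m' := by
    intro z
    obtain ⟨⟨m', s⟩, hs⟩ := IsLocalization.surj (Submonoid.powers (algebraMap R A' f)) (φ.symm z)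
    obtain ⟨s, ⟨n, rfl⟩⟩ := s
    refine ⟨n, m', ?_⟩
    have h2 := congrArg φ hs
    rw [map_mul, AlgEquiv.apply_symm_apply] at h2
    change f ^ n • z = φ (algebraMap A' (Localization.Away (algebraMap R A' f)) m')
    rw [← h2]
    change f ^ n • z = z * φ (algebraMap A' _ ((algebraMap R A' f) ^ n))
    rw [← map_pow, ← IsScalarTower.algebraMap_apply R A', hφalg, Algebra.smul_def, mul_comm]
  have hker : ∀ m' : A', a m' = 0 → ∃ n : ℕ, f ^ n • m' = 0 := by
    intro m' hm'
    have h0 : algebraMap A' (Localization.Away (algebraMap R A' f)) m' = 0 :=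
      φ.injective (by rw [map_zero]; exact hm')
    rw [IsLocalization.map_eq_zero_iff (Submonoid.powers (algebraMap R A' f))] at h0
    obtain ⟨⟨s, ⟨n, rfl⟩⟩, hs⟩ := h0
    refine ⟨n, ?_⟩
    rw [Algebra.smul_def, map_pow]
    exact hs
  have hloc := Groth.Agent.H9.BLA.isLocalizedModule_p₂ a p₁ p₂ F1 F2 F3 hf hsurj hker
  have hglue := Groth.Agent.H9.BLA.isGlueable a p₁ p₂ F1 F2 F3 hf hsurj hker hRR'
  have hinj := Groth.Agent.H9.BLA.e'_injective a p₁ p₂ F1 F2 F3 hsurj hker hRR'
  have hsur := Groth.Agent.H9.BLA.e'_surjective a p₁ p₂ F1 F3 hsurj hRR'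
  -- the algebra version of e'
  let e'Alg : R' ⊗[R] ↥S →ₐ[R'] A' :=
    Algebra.TensorProduct.productLeftAlgHom (Algebra.ofId R' A') p₁Alg
  have he'fun : ∀ x : R' ⊗[R] ↥S, e'Alg x = Groth.Agent.H9.BLA.e' (R' := R') p₁ x := by
    intro x
    induction x using TensorProduct.induction_on with
    | zero => simp
    | tmul r m =>
      rw [Groth.Agent.H9.BLA.e', LinearMap.liftBaseChange_tmul]
      change algebraMap R' A' r * p₁Alg m = r • p₁ m
      rw [Algebra.smul_def]
      rfl
    | add x y hx hy => rw [map_add, map_add, hx, hy]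
  have he'bij : Function.Bijective e'Alg := by
    have : (e'Alg : R' ⊗[R] ↥S → A') = Groth.Agent.H9.BLA.e' (R' := R') p₁ := funext he'fun
    rw [this]
    exact ⟨hinj, hsur⟩
  -- the localization
  letI : Algebra ↥S A₁ := p₂Alg.toRingHom.toAlgebra
  haveI : IsScalarTower R ↥S A₁ := IsScalarTower.of_algebraMap_eq (fun r => (p₂Alg.commutes r).symm)
  have hloc' : IsLocalization.Away (algebraMap R ↥S f) A₁ := by
    have e : (IsScalarTower.toAlgHom R ↥S A₁).toLinearMap = p₂ := LinearMap.ext fun x => rfl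
    have h3 := (isLocalizedModule_iff_isLocalization (S := Submonoid.powers f) (A := ↥S)
      (Aₛ := A₁)).1 (e ▸ hloc)
    have e2 : Algebra.algebraMapSubmonoid ↥S (Submonoid.powers f) =
        Submonoid.powers (algebraMap R ↥S f) := by
      rw [Algebra.algebraMapSubmonoid, Submonoid.map_powers]
    rw [e2] at h3
    exact h3
  let e₁ : Localization.Away (algebraMap R ↥S f) ≃ₐ[R] A₁ :=
    (IsLocalization.algEquiv (Submonoid.powers (algebraMap R ↥S f))
      (Localization.Away (algebraMap R ↥S f)) A₁).restrictScalars R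
  refine ⟨↥S, inferInstance, inferInstance, hglue, e₁, AlgEquiv.ofBijective e'Alg he'bij, ?_⟩
  intro x
  have h4 : e₁ (algebraMap ↥S (Localization.Away (algebraMap R ↥S f)) x) = p₂ x := by
    change (IsLocalization.algEquiv (Submonoid.powers (algebraMap R ↥S f))
      (Localization.Away (algebraMap R ↥S f)) A₁) (algebraMap ↥S _ x) = p₂ x
    rw [AlgEquiv.commutes]
    rfl
  have h5 : (AlgEquiv.ofBijective e'Alg he'bij) ((1 : R') ⊗ₜ[R] x) = p₁ x := by
    rw [AlgEquiv.ofBijective_apply, he'fun, Groth.Agent.H9.BLA.e', LinearMap.liftBaseChange_tmul,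
      one_smul]
  rw [h4, h5]
  exact F1 x

end Groth.Agent.S10727
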