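import Groth.Statements.S1075
-- import your own Groth.Agent.* helpers here
import Groth.Agent.H6.DerivedProd

set_option autoImplicit false
universe w v u
open CategoryTheory CategoryTheory.Limits
open CohDer

namespace Groth.Agent.S1075

/-- In D(A), for A abelian with enough injectives and countable products, every sequence of
bounded-below objects has a product, so derived limits of such sequences exist. -/
theorem result {A : Type u} [Category.{v} A] [Abelian A] [HasDerivedCategory.{w} A]
    [HasLimitsOfShape (Discrete ℕ) A] [EnoughInjectives A]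
    (K : ℕ → DerivedCategory A) (hK : ∀ n, ∃ a : ℤ, (K n).IsGE a) : HasProduct K := by
  have h : ∀ n, ∃ (I : CochainComplex A ℤ), I.IsKInjective ∧
      Nonempty (DerivedCategory.Q.obj I ≅ K n) := by
    intro n
    obtain ⟨a, ha⟩ := hK n
    obtain ⟨X, hX, ⟨e⟩⟩ := (K n).exists_iso_Q_obj_of_isGE a
    obtain ⟨L, i, _, hqi, hL, hLa⟩ := Groth.Agent.H6.exists_mono_quasiIso_injective_ge X a
    have hLK : L.IsKInjective := CochainComplex.isKInjective_of_injective L a
    have hiso : IsIso (DerivedCategory.Q.map i) := by
      rw [DerivedCategory.isIso_Q_map_iff_quasiIso]; exact hqi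
    exact ⟨L, hLK, ⟨(asIso (DerivedCategory.Q.map i)).symm ≪≫ e.symm⟩⟩
  choose I hI e using h
  exact Groth.Agent.H6.DerivedProd.hasProduct_of_iso (Fan.mk (∏ᶜ I) (Pi.π I))
    (productIsProduct I) hI K (fun n => (e n).some)

end Groth.Agent.S1075
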