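import Groth.Statements.S10750
import Groth.Agent.H53.ZMT.GeomFibreQF
import Groth.Agent.S10650

set_option autoImplicit false
universe u
open CategoryTheory CategoryTheory.Limits AlgebraicGeometry Opposite
open AlgSp

namespace Groth.Agent.S10750

/-- Take a proper morphism f : X ⟶ Y of algebraic spaces over S whose target Y is locally Noetherian,
and let y be a geometric point of Y such that the fibre X_y (a pullback of f along the corresponding
morphism from the spectrum of the algebraically closed field) has finitely many points. Then there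
is an open subspace V of Y containing the image of y such that the base change X ×_Y V ⟶ V is
finite. -/
theorem result {S : Scheme.{u}} {X Y : AlgSp.Space S}
    (f : X ⟶ Y) (hY : AlgSp.IsLocNoethSp Y.obj) (hf : AlgSp.IsProperMor f.hom) (y : AlgSp.FieldPt Y.obj)
    (hy : y.IsGeometric) (Xy : AlgSp.Sp S) (fst : Xy ⟶ X.obj) (snd : Xy ⟶ (AlgSp.yon S).obj y.pt)
    (hsq : IsPullback fst snd f.hom y.toHom) (hfin : Finite (AlgSp.Points Xy)) :
    ∃ (V : AlgSp.Space S) (j : V ⟶ Y), AlgSp.RepWith @IsOpenImmersion j.hom ∧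
      AlgSp.Points.mk y ∈ Set.range (AlgSp.Points.map j.hom) ∧
        ∀ (P : AlgSp.Space S) (fst' : P ⟶ X) (snd' : P ⟶ V), IsPullback fst'.hom snd'.hom f.hom j.hom →
          AlgSp.IsFiniteMor snd'.hom := by
  have hXy : AlgSp.IsAlgSpace Xy :=
    Groth.Agent.H49.isAlgSpace_of_isPullback hsq Y.property.diag X.property
      (AlgSp.IsAlgSpace.yon_obj _)
  have hsep : AlgSp.IsSeparatedMor snd := Groth.Agent.H53.ZMT.isSeparatedMor_of_isPullback hsq hf.1
  have hle : (@IsClosedImmersion : MorphismProperty Scheme.{u}) ≤ @QuasiCompact :=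
    fun _ _ g hg => by
      have : IsClosedImmersion g := hg
      exact (inferInstance : QuasiCompact g)
  have hqs : AlgSp.RepWith @QuasiCompact (pullback.diagonal snd) :=
    Groth.Agent.H51.repWith_mono hle hsep
  have hdec : AlgSp.IsDecent Xy := Groth.Agent.H52.isDecent_of_quasiSeparated_over hXy snd hqs
  have hq : ∀ x : AlgSp.Points X.obj, AlgSp.Points.map f.hom x = AlgSp.Points.mk y →
      AlgSp.HasAtMor (fun U _ h u => ∃ W : U.Opens, u ∈ W ∧ LocallyQuasiFinite (W.ι ≫ h) ∧
        LocallyOfFiniteType (W.ι ≫ h)) f.hom x := fun x hx =>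
    Groth.Agent.H53.ZMT.hasAtMor_qfAt_of_finite_points_fibre f hf.2.1.1 y fst snd hsq hdec hfin x hx
  exact Groth.Agent.S10650.result f (AlgSp.Points.mk y) hf hq

end Groth.Agent.S10750
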