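import Groth.Statements.S10768
import Groth.Agent.H53.Induct.QC

set_option autoImplicit false
universe u
open CategoryTheory CategoryTheory.Limits AlgebraicGeometry
open AlgSp

namespace Groth.Agent.S10768

/-- Let X be a quasi-compact and quasi-separated algebraic space over S, W ⊂ X a quasi-compact open
subspace, and P a property of open subspaces of X (pairs of an algebraic space and a representable
open immersion into X). Assume (1) W has property P, and (2) given any elementary distinguished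
square (W₁ ⊂ W₂, V ⟶ W₂) where W₁ ⊂ W₂ are quasi-compact open subspaces of X containing W and V is
affine, P for W₁ implies P for W₂. Then P holds for X (with its identity). Quasi-separatedness is
relative to S with S quasi-separated. -/
theorem result {S : Scheme.{u}} [QuasiSeparatedSpace ↥S] (X : AlgSp.Space S)
    (hXc : AlgSp.IsQuasiCompactSp X.obj) (hXs : AlgSp.IsQuasiSeparatedSp X.obj)
    (P : ∀ U : AlgSp.Space S, (U ⟶ X) → Prop)
    (W : AlgSp.Space S) (jW : W ⟶ X) (hjW : AlgSp.RepWith @IsOpenImmersion jW.hom)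
    (hWc : AlgSp.IsQuasiCompactSp W.obj) (h1 : P W jW)
    (h2 : ∀ (W₁ W₂ V : AlgSp.Space S) (j₁ : W₁ ⟶ X) (j₂ : W₂ ⟶ X) (k : W₁ ⟶ W₂) (m : W ⟶ W₁) (f : V ⟶ W₂),
      AlgSp.RepWith @IsOpenImmersion j₁.hom → AlgSp.RepWith @IsOpenImmersion j₂.hom →
      k ≫ j₂ = j₁ → m ≫ j₁ = jW →
      AlgSp.IsQuasiCompactSp W₁.obj → AlgSp.IsQuasiCompactSp W₂.obj →
      (∃ T : Over S, IsAffine T.left ∧ Nonempty ((AlgSp.yon S).obj T ≅ V.obj)) →
      AlgSp.IsElemDistSq k.hom f.hom → P W₁ j₁ → P W₂ j₂) :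
    P X (𝟙 X) := by
  classical
  have hX : AlgSp.IsAlgSpace X.obj := X.property
  -- the key step in terms of arbitrary representatives
  have key : ∀ (O₁ : Set (AlgSp.Points X.obj)), IsCompact O₁ →
      (∃ (W₁ : AlgSp.Space S) (j₁ : W₁ ⟶ X) (m : W ⟶ W₁), AlgSp.RepWith @IsOpenImmersion j₁.hom ∧
        Set.range (AlgSp.Points.map j₁.hom) = O₁ ∧ m ≫ j₁ = jW ∧ P W₁ j₁) →
      ∀ (T : Over S) (φ : (AlgSp.yon S).obj T ⟶ X.obj), IsAffine T.left → AlgSp.RepWith @Etale φ →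
        Groth.Agent.H53.Induct.FieldInjOff φ O₁ →
      ∀ (W₂ : AlgSp.Space S) (j₂ : W₂ ⟶ X), AlgSp.RepWith @IsOpenImmersion j₂.hom →
        Set.range (AlgSp.Points.map j₂.hom) = O₁ ∪ Set.range (AlgSp.Points.map φ) → P W₂ j₂ := by
    rintro O₁ hc₁ ⟨W₁, j₁, m, hj₁, hr₁, hm, hP₁⟩ T φ hT hφ hinj W₂ j₂ hj₂ hr₂
    obtain ⟨k₀, f₀, hk₀, hf₀, hsq⟩ :=
      Groth.Agent.H53.Induct.step_exists W₂.property j₁.hom j₂.hom hj₁ hj₂ φ hφ
        (by rw [hr₂, hr₁]) (by rw [hr₁]; exact hinj)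
    have hqc₁ : AlgSp.IsQuasiCompactSp W₁.obj :=
      Groth.Agent.H53.Induct.isQuasiCompactSp_of_isCompact_range W₁.property j₁.hom hj₁
        (by rw [hr₁]; exact hc₁)
    have hqc₂ : AlgSp.IsQuasiCompactSp W₂.obj :=
      Groth.Agent.H53.Induct.isQuasiCompactSp_of_isCompact_range W₂.property j₂.hom hj₂
        (by rw [hr₂]; exact hc₁.union (Groth.Agent.H53.Induct.isCompact_range_yon φ))
    exact h2 W₁ W₂ ⟨(AlgSp.yon S).obj T, AlgSp.IsAlgSpace.yon_obj T⟩ j₁ j₂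
      (ObjectProperty.homMk k₀) m (ObjectProperty.homMk f₀) hj₁ hj₂
      (ObjectProperty.hom_ext _ hk₀) hm hqc₁ hqc₂ ⟨T, hT, ⟨Iso.refl _⟩⟩ hsq hP₁
  -- the starting open
  have hO₀ : IsOpen (Set.range (AlgSp.Points.map jW.hom)) :=
    Groth.Agent.H53.Induct.isOpen_range_of_isOpenImmersion _ hjW
  have hc₀ : IsCompact (Set.range (AlgSp.Points.map jW.hom)) :=
    Groth.Agent.H53.Induct.isCompact_range_of_isQuasiCompactSp W.property jW.hom hWc
  have hfinal := Groth.Agent.H53.Induct.induction_on_opens X hXc hXs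
    (Set.range (AlgSp.Points.map jW.hom)) hO₀ hc₀
    (fun O => IsCompact O ∧ ∃ (W₁ : AlgSp.Space S) (j₁ : W₁ ⟶ X) (m : W ⟶ W₁),
      AlgSp.RepWith @IsOpenImmersion j₁.hom ∧
        Set.range (AlgSp.Points.map j₁.hom) = O ∧ m ≫ j₁ = jW ∧ P W₁ j₁)
    ⟨hc₀, W, jW, 𝟙 W, hjW, rfl, Category.id_comp _, h1⟩
    (by
      intro O₁ T φ hO₁ hc₁ h01 hT hφ hinj hQ
      have hT' : IsAffine T.left := hT
      have hO₂ : IsOpen (O₁ ∪ Set.range (AlgSp.Points.map φ)) := by
        refine hO₁.union ?_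
        rw [Groth.Agent.H53.Induct.range_map_eq_range_ofPt]
        exact (Groth.Agent.H51.isOpenMap_ofPt_of_etale φ hφ).isOpen_range
      have hc₂ : IsCompact (O₁ ∪ Set.range (AlgSp.Points.map φ)) :=
        hc₁.union (Groth.Agent.H53.Induct.isCompact_range_yon φ)
      have hj₂ := Groth.Agent.H51.repWith_isOpenImmersion_openSubι (F := X.obj) _ hO₂
      have hr₂ := Groth.Agent.H51.range_map_openSubι (F := X.obj)
        (O₁ ∪ Set.range (AlgSp.Points.map φ))
      let W₂ : AlgSp.Space S := ⟨Groth.Agent.H51.openSubSp X.obj (O₁ ∪ Set.range (AlgSp.Points.map φ)),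
        Groth.Agent.H51.isAlgSpace_openSubSp hX _ hO₂⟩
      let j₂ : W₂ ⟶ X := ObjectProperty.homMk (Groth.Agent.H51.openSubι X.obj _)
      have hP₂ : P W₂ j₂ := key O₁ hc₁ hQ.2 T φ hT' hφ hinj W₂ j₂ hj₂ hr₂
      obtain ⟨m₂, hm₂⟩ := (Groth.Agent.H51.exists_factor_iff_of_isOpenImmersion' j₂.hom hj₂ jW.hom).2
        (by
          have hr₂' : Set.range (AlgSp.Points.map j₂.hom) =
              O₁ ∪ Set.range (AlgSp.Points.map φ) := hr₂
          rw [hr₂']
          exact h01.trans Set.subset_union_left)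
      exact ⟨hc₂, W₂, j₂, ObjectProperty.homMk m₂, hj₂, hr₂, ObjectProperty.hom_ext _ hm₂, hP₂⟩)
  obtain ⟨hcu, hQu⟩ := hfinal
  obtain ⟨T, hTe, φ, hφ⟩ := Groth.Agent.H53.Induct.exists_empty_chart hX
  have := hTe
  refine key Set.univ hcu hQu T φ inferInstance hφ
    (Groth.Agent.H53.Induct.fieldInjOff_of_isEmpty φ _) X (𝟙 X)
    (Groth.Agent.H53.repWith_isOpenImmersion_id X.obj) ?_
  rw [Set.univ_union]
  apply Set.eq_univ_of_forall
  intro x
  exact ⟨x, AlgSp.Points.map_id x⟩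

end Groth.Agent.S10768
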