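import Groth.Statements.S10794
import Groth.Agent.H51.EffCartierDim
import Groth.Agent.H51.SpBasic

set_option autoImplicit false
universe u
open CategoryTheory CategoryTheory.Limits AlgebraicGeometry Topology TopologicalSpace
open AlgSp

namespace Groth.Agent.S10794

/-- Let X be an algebraic space over a scheme S, D ⟶ X an effective Cartier divisor (one-chart sense)
and x a point of |D|. If the dimension of X at the image of x is d, in the sense that some etale
scheme chart of X has local dimension d at a point over it, and d is finite, then the dimension of D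
at x is strictly smaller: some etale scheme chart of D has local dimension less than d at a point
over x. -/
theorem result {S : Scheme.{u}} (X D : AlgSp.Space S) (i : D ⟶ X)
    (hD : AlgSp.IsEffCartierSub i.hom) (x : AlgSp.Points D.obj) (d : WithBot ℕ∞)
    (hd : AlgSp.HasAt (fun U u => FlatMor.localDim ↥U u = d) X.obj (AlgSp.Points.map i.hom x)) (hfin : d ≠ ⊤) :
    AlgSp.HasAt (fun V v => FlatMor.localDim ↥V v < d) D.obj x := by
  obtain ⟨-, V, φ, I, fst, hφE, hφS, sq, hI⟩ := hD
  have hfE : RepWith @Etale fst := MorphismProperty.of_isPullback (P := RepWith @Etale) sq.flip hφE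
  have hfS : RepWith @Surjective fst :=
    MorphismProperty.of_isPullback (P := RepWith @Surjective) sq.flip hφS
  obtain ⟨z, hz⟩ := Groth.Agent.H51.surjective_ofPt_of_surjective fst hfS x
  refine ⟨Over.mk (I.subschemeι ≫ V.hom), fst, z, hfE, hz, ?_⟩
  change FlatMor.localDim ↥I.subscheme z < d
  obtain ⟨U₁, a₁, u₁, ha₁, hu₁, hd₁⟩ := hd
  have hpt : Points.ofPt φ (I.subschemeι z) = Points.ofPt a₁ u₁ := by
    rw [hu₁, ← hz, Points.map_ofPt, sq.w]
    exact (Groth.Agent.H51.ofPt_map_comp (Over.homMk I.subschemeι rfl :
      Over.mk (I.subschemeι ≫ V.hom) ⟶ V) φ z).symm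
  have hdV : FlatMor.localDim ↥V.left (I.subschemeι z) = d := by
    rw [Groth.Agent.H51.localDim_chart_indep φ hφE a₁ ha₁ (I.subschemeι z) u₁ hpt]
    exact hd₁
  have key := Groth.Agent.H51.localDim_subscheme_add_one_le I hI z
  rw [hdV] at key
  have h0 : 0 ≤ FlatMor.localDim ↥I.subscheme z := Groth.Agent.H52.localDim_nonneg z
  generalize FlatMor.localDim ↥I.subscheme z = a at key h0
  induction a using WithBot.recBotCoe with
  | bot => simp at h0
  | coe e =>
    induction d using WithBot.recBotCoe with
    | bot => simp at key
    | coe d' =>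
      have hd' : d' ≠ ⊤ := fun h => hfin (by rw [h]; rfl)
      have key' : e + 1 ≤ d' := by exact_mod_cast key
      have he : e ≠ ⊤ := by
        rintro rfl
        simp at key'
        exact hd' key'
      exact_mod_cast (ENat.add_one_le_iff he).1 key'

end Groth.Agent.S10794
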