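import Groth.Statements.S10825
import Groth.Agent.H54.NormZeroLocus

set_option autoImplicit false
universe u
open Topology
open CAlg

namespace Groth.Agent.S10825

/-- Let A → B be an injective integral homomorphism of integral domains with fraction fields K and L, L
a finite extension of K, and A integrally closed. For b in B the norm N_{L/K}(b) lies in A; if a
denotes this element of A, then the image of the closed set V(b) of Spec B under Spec B → Spec A is
exactly V(a), and V(b) and V(a) have the same dimension. -/
theorem result
    (A B K L : Type u) [CommRing A] [IsDomain A] [CommRing B] [IsDomain B] [Algebra A B]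
    [Field K] [Field L] [Algebra A K] [IsFractionRing A K] [Algebra B L] [IsFractionRing B L]
    [Algebra A L] [Algebra K L] [IsScalarTower A B L] [IsScalarTower A K L]
    [FiniteDimensional K L] [Algebra.IsIntegral A B] [IsIntegrallyClosed A]
    (hinj : Function.Injective (algebraMap A B))
    (b : B) (a : A) (ha : algebraMap A K a = Algebra.norm K (algebraMap B L b)) :
    PrimeSpectrum.comap (algebraMap A B) '' PrimeSpectrum.zeroLocus ({b} : Set B) =
        PrimeSpectrum.zeroLocus ({a} : Set A) ∧
      topologicalKrullDim ↥(PrimeSpectrum.zeroLocus ({b} : Set B)) =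
        topologicalKrullDim ↥(PrimeSpectrum.zeroLocus ({a} : Set A)) := by
  classical
  -- the contracted ideal
  set I : Ideal A := (Ideal.span ({b} : Set B)).comap (algebraMap A B) with hI
  have haI : a ∈ I := Groth.Agent.H54.norm_mem_span_singleton A B K L b a ha
  -- zero loci of `I` and `a` agree
  have hzl : PrimeSpectrum.zeroLocus (I : Set A) = PrimeSpectrum.zeroLocus ({a} : Set A) := by
    ext p
    simp only [PrimeSpectrum.mem_zeroLocus, Set.singleton_subset_iff, SetLike.mem_coe]
    constructor
    · intro h
      exact h haI
    · intro hap x hx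
      have h1 : x ^ Module.finrank K L ∈ Ideal.span {a} :=
        Groth.Agent.H54.pow_mem_span_of_mem_comap A B K L b a ha x hx
      have h2 : Ideal.span {a} ≤ p.asIdeal := by
        rw [Ideal.span_le]
        simpa using hap
      exact p.isPrime.mem_of_pow_mem _ (h2 h1)
  refine ⟨?_, ?_⟩
  · ext p
    constructor
    · rintro ⟨q, hq, rfl⟩
      rw [← hzl]
      intro x hx
      have hbq : Ideal.span {b} ≤ q.asIdeal := by
        rw [Ideal.span_le]
        exact hq
      exact hbq hx
    · intro hp
      rw [← hzl] at hp
      obtain ⟨Q, hQ, hQp, hQc⟩ := Ideal.exists_ideal_over_prime_of_isIntegral p.asIdeal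
        (Ideal.span ({b} : Set B)) hp
      refine ⟨⟨Q, hQp⟩, ?_, ?_⟩
      · simp only [PrimeSpectrum.mem_zeroLocus, Set.singleton_subset_iff, SetLike.mem_coe]
        exact hQ (Ideal.subset_span rfl)
      · ext1
        exact hQc
  · rw [Groth.Agent.H54.topologicalKrullDim_zeroLocus_singleton,
      ← hzl, Groth.Agent.H54.topologicalKrullDim_zeroLocus_eq_ringKrullDim_quotient]
    symm
    -- `A ⧸ I → B ⧸ bB` is injective and integral
    let f : A ⧸ I →+* B ⧸ Ideal.span ({b} : Set B) :=
      Ideal.quotientMap (Ideal.span ({b} : Set B)) (algebraMap A B) le_rfl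
    have hfinj : Function.Injective f := Ideal.quotientMap_injective
    have hfint : f.IsIntegral := by
      apply RingHom.IsIntegral.quotient
      exact Algebra.IsIntegral.isIntegral
    exact Groth.Agent.H54.ringKrullDim_eq_of_ringHom_isIntegral_of_injective f hfint hfinj

end Groth.Agent.S10825
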