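import Groth.Statements.S10831
import Groth.Agent.H54.TopDim

set_option autoImplicit false
universe u
open Topology TopologicalSpace
open TopDim

namespace Groth.Agent.S10831

/-- The Krull dimension of a topological space is the supremum of the Krull dimensions of its
irreducible components. -/
theorem result (X : Type u) [TopologicalSpace X] :
    topologicalKrullDim X = ⨆ Y ∈ irreducibleComponents X, topologicalKrullDim ↥Y := by
  apply le_antisymm
  · unfold topologicalKrullDim
    rw [Order.krullDim]
    apply iSup_le
    intro p
    obtain ⟨Y, hY, hsub⟩ := exists_mem_irreducibleComponents_subset_of_isIrreducible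
      (p.last : Set X) p.last.isIrreducible
    refine le_trans ?_ (le_iSup₂ (f := fun (Y : Set X) (_ : Y ∈ irreducibleComponents X) =>
      Order.krullDim (IrreducibleCloseds ↥Y)) Y hY)
    exact Groth.Agent.H54.length_le_topologicalKrullDim_of_last_subset Y p hsub
  · apply iSup₂_le
    intro Y _
    exact topologicalKrullDim_subspace_le X Y

end Groth.Agent.S10831
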