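import Groth.Statements.S10836
import Mathlib

open TensorProduct

set_option autoImplicit false
universe u
open Coh

namespace Groth.Agent.S10836

/-- Let A be a commutative ring, M a finitely generated projective A-module whose rank at every prime is
r, and Z a finite set of prime ideals of A. Then there is an element s of A outside every prime of Z
such that the localized module M_s has a basis of r elements over A_s. -/
theorem result (A : Type u) [CommRing A]
    (M : Type u) [AddCommGroup M] [Module A M] [Module.Finite A M] [Module.Projective A M] (r : ℕ)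
    (hr : ∀ p : PrimeSpectrum A, Module.rankAtStalk M p = r)
    (Z : Set (PrimeSpectrum A)) (hZ : Z.Finite) :
    ∃ s : A, (∀ p ∈ Z, s ∉ p.asIdeal) ∧
      Nonempty (Module.Basis (Fin r) (Localization.Away s) (LocalizedModule (Submonoid.powers s) M)) := by
  classical
  -- the multiplicative set
  let S : Submonoid A :=
    { carrier := {a | ∀ p ∈ Z, a ∉ p.asIdeal}
      mul_mem' := by
        intro a b ha hb p hp hab
        rcases p.2.mem_or_mem hab with h | h
        · exact ha p hp h
        · exact hb p hp h
      one_mem' := fun p _ => p.2.one_notMem }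
  let Rₛ := Localization S
  let M' := LocalizedModule S M
  have hdisj : ∀ p ∈ Z, Disjoint (S : Set A) (p.asIdeal : Set A) := by
    intro p hp
    rw [Set.disjoint_left]
    intro a ha hap
    exact ha p hp hap
  -- semilocal
  have hfinmax : Finite (MaximalSpectrum Rₛ) := by
    have : Finite Z := hZ.to_subtype
    have key : ∀ m : MaximalSpectrum Rₛ, ∃ p : Z,
        m.asIdeal = Ideal.map (algebraMap A Rₛ) p.1.asIdeal := by
      intro m
      have hmprime : m.asIdeal.IsPrime := m.isMaximal.isPrime
      have hq := (IsLocalization.isPrime_iff_isPrime_disjoint S Rₛ m.asIdeal).mp hmprime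
      set q := Ideal.comap (algebraMap A Rₛ) m.asIdeal with hq_def
      have hsub : (q : Set A) ⊆ ⋃ p ∈ (hZ.toFinset : Set (PrimeSpectrum A)), (p.asIdeal : Set A) := by
        intro a ha
        have : a ∉ S := fun haS => Set.disjoint_left.mp hq.2 haS ha
        have : ¬ ∀ p ∈ Z, a ∉ p.asIdeal := this
        push Not at this
        obtain ⟨p, hp, hap⟩ := this
        simp only [Set.mem_iUnion]
        exact ⟨p, by simpa using hp, hap⟩
      by_cases hZe : Z = ∅
      · exfalso
        have : (1 : A) ∈ q := by
          have h0 : (0 : A) ∈ S := by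
            intro p hp; rw [hZe] at hp; exact absurd hp (Set.notMem_empty _)
          have : (0 : A) ∈ q := q.zero_mem
          exact absurd this (fun h => Set.disjoint_left.mp hq.2 h0 h)
        exact hq.1.one_notMem this
      obtain ⟨p₀, hp₀⟩ := Set.nonempty_iff_ne_empty.mpr hZe
      rw [Ideal.subset_union_prime p₀ p₀ (fun p _ _ _ => p.2)] at hsub
      obtain ⟨p, hp, hqp⟩ := hsub
      have hpZ : p ∈ Z := by simpa using hp
      refine ⟨⟨p, hpZ⟩, ?_⟩
      have h1 : m.asIdeal ≤ Ideal.map (algebraMap A Rₛ) p.asIdeal := by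
        rw [← IsLocalization.map_under S Rₛ m.asIdeal]
        exact Ideal.map_mono hqp
      have h2 : Ideal.map (algebraMap A Rₛ) p.asIdeal ≠ ⊤ := by
        have := (IsLocalization.map_algebraMap_ne_top_iff_disjoint S Rₛ p.asIdeal).mpr
          (hdisj p hpZ)
        exact this
      exact (m.isMaximal.eq_of_le h2 h1)
    choose φ hφ using key
    refine Finite.of_injective φ ?_
    intro m₁ m₂ h
    ext1
    rw [hφ m₁, hφ m₂, h]
  have hbc : IsBaseChange Rₛ (LocalizedModule.mkLinearMap S M) := LocalizedModule.isBaseChange S M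
  have hfinM' : Module.Finite Rₛ M' :=
    Module.Finite.of_isLocalizedModule S (LocalizedModule.mkLinearMap S M)
  have hflatM' : Module.Flat Rₛ M' := inferInstance
  have hrk : ∀ P : MaximalSpectrum Rₛ,
      Module.finrank (Rₛ ⧸ P.1) ((Rₛ ⧸ P.1) ⊗[Rₛ] M') = r := by
    intro P
    have hPprime : P.asIdeal.IsPrime := P.isMaximal.isPrime
    let _ : Field (Rₛ ⧸ P.asIdeal) := Ideal.Quotient.field P.asIdeal
    have h1 : Module.rankAtStalk M' ⟨P.asIdeal, hPprime⟩ = r := by
      rw [Module.rankAtStalk_isBaseChange hbc, hr]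
    rw [Module.rankAtStalk_eq] at h1
    let e : P.asIdeal.ResidueField ⊗[Rₛ ⧸ P.asIdeal] ((Rₛ ⧸ P.asIdeal) ⊗[Rₛ] M') ≃ₗ[P.asIdeal.ResidueField]
        P.asIdeal.ResidueField ⊗[Rₛ] M' :=
      TensorProduct.AlgebraTensorModule.cancelBaseChange _ _ _ _ _
    rw [← h1]
    change _ = Module.finrank P.asIdeal.ResidueField (P.asIdeal.ResidueField ⊗[Rₛ] M')
    rw [← e.finrank_eq]
    exact (Module.finrank_baseChange (R := P.asIdeal.ResidueField) (S := Rₛ ⧸ P.asIdeal)
      (M' := (Rₛ ⧸ P.asIdeal) ⊗[Rₛ] M')).symm
  obtain ⟨b⟩ := Module.nonempty_basis_of_flat_of_finrank_eq Rₛ M' r hrk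
  have hfp : Module.FinitePresentation A M := Module.finitePresentation_of_projective A M
  obtain ⟨s, hsS, b', -⟩ := Module.FinitePresentation.exists_basis_localizedModule_powers S
    (LocalizedModule.mkLinearMap S M) Rₛ b
  exact ⟨s, fun p hp => hsS p hp, ⟨b'⟩⟩

end Groth.Agent.S10836
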