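import Groth.Statements.S10838
import Groth.Agent.S10837
import Mathlib.AlgebraicGeometry.Properties

set_option autoImplicit false
universe u
open CategoryTheory AlgebraicGeometry Topology
open Mor

namespace Groth.Agent.S10838

theorem dim_eq_krullDim_points (T : Type*) [TopologicalSpace T] [QuasiSober T] [T0Space T] :
    topologicalKrullDim T = @Order.krullDim T (specializationPreorder T) :=
  @Order.krullDim_eq_of_orderIso _ _ _ (specializationPreorder T)
    (@irreducibleSetEquivPoints T _ _ _)

theorem exists_lift {X Y : Type*} [TopologicalSpace X] [TopologicalSpace Y]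
    (f : X → Y) (hc : Continuous f) (hf : GeneralizingMap f)
    (l : @LTSeries ↥(Set.range f) (specializationPreorder _)) (x : X) (hx : f x = l.head.1) :
    ∃ L : @LTSeries X (specializationPreorder X), L.length = l.length ∧ L.head = x := by
  let _ := specializationPreorder X
  let _ := specializationPreorder ↥(Set.range f)
  induction l using RelSeries.inductionOn generalizing x with
  | singleton q => exact ⟨RelSeries.singleton _ x, rfl, rfl⟩
  | cons l q lt ih =>
    simp only [RelSeries.head_cons] at hx
    have hlt : l.head ⤳ q ∧ ¬ q ⤳ l.head := lt
    have hspec : l.head.1 ⤳ f x := by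
      rw [hx]
      exact (subtype_specializes_iff _ _).mp hlt.1
    obtain ⟨x', hx'x, hfx'⟩ := hf hspec
    obtain ⟨L, hlen, hhead⟩ := ih x' hfx'
    have hxx' : x < L.head := by
      rw [hhead]
      refine ⟨hx'x, ?_⟩
      intro h
      apply hlt.2
      rw [subtype_specializes_iff, ← hx, ← hfx']
      exact h.map hc
    refine ⟨L.cons x hxx', ?_, ?_⟩
    · simp [hlen]
    · simp

/-- For a morphism of schemes f : X → Y which is open as a map of topological spaces, the Krull
dimension of the image f(X) (with the subspace topology from Y) is at most the Krull dimension of X. -/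
theorem result {X Y : Scheme.{u}} (f : X ⟶ Y) (hf : IsOpenMap f.base) :
    topologicalKrullDim ↥(Set.range f.base) ≤ topologicalKrullDim ↥X := by
  have hopen : IsOpen (Set.range f.base) := hf.isOpen_range
  have : QuasiSober ↥(Set.range f.base) := hopen.isOpenEmbedding_subtypeVal.quasiSober
  rw [dim_eq_krullDim_points, dim_eq_krullDim_points]
  rw [Order.krullDim]
  apply iSup_le
  intro l
  obtain ⟨x, hx⟩ := l.head.2
  obtain ⟨L, hlen, -⟩ := exists_lift f.base f.continuous (Groth.Agent.S10837.result f hf) l x hx
  rw [← hlen]
  exact @Order.LTSeries.length_le_krullDim _ (specializationPreorder _) L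

end Groth.Agent.S10838
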