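import Groth.Statements.S10841
import Groth.Agent.H79.SchResMap

set_option autoImplicit false
universe u
open CategoryTheory AlgebraicGeometry Topology
open Variety

namespace Groth.Agent.S10841

/-- Let k be a field, X an irreducible scheme of finite type over k, and f : Y → X a morphism over k
from a scheme Y of finite type over k whose image contains the generic point of X. Then dim Y ≥ dim
X. -/
theorem result (k : Type u) [Field k] {X Y : Scheme.{u}}
    (p : X ⟶ Spec (CommRingCat.of k)) (q : Y ⟶ Spec (CommRingCat.of k))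
    [LocallyOfFiniteType p] [QuasiCompact p] [LocallyOfFiniteType q] [QuasiCompact q]
    [IrreducibleSpace ↥X] (f : Y ⟶ X) (hf : f ≫ p = q)
    (hη : genericPoint ↥X ∈ Set.range f.base) :
    topologicalKrullDim ↥X ≤ topologicalKrullDim ↥Y := by
  let _ : X.Over (Spec (CommRingCat.of k)) := ⟨p⟩
  let _ : Y.Over (Spec (CommRingCat.of k)) := ⟨q⟩
  have hp : LocallyOfFiniteType (X ↘ Spec (CommRingCat.of k)) :=
    inferInstanceAs (LocallyOfFiniteType p)
  have hq : LocallyOfFiniteType (Y ↘ Spec (CommRingCat.of k)) :=
    inferInstanceAs (LocallyOfFiniteType q)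
  obtain ⟨y, hy⟩ := hη
  have hy' : f y = genericPoint ↥X := hy
  have hcl : closure ({f y} : Set X) = Set.univ := by
    rw [hy']
    exact genericPoint_spec X
  obtain ⟨n, hn⟩ := Groth.Agent.H79.SchChart.exists_trdeg_eq (k := k) (f y)
  obtain ⟨m, hm⟩ := Groth.Agent.H79.SchChart.exists_trdeg_eq (k := k) y
  have h1 := Groth.Agent.H79.SchDim.topologicalKrullDim_closure_eq k (f y) n hn
  have h2 := Groth.Agent.H79.SchDim.topologicalKrullDim_closure_eq k y m hm
  have hX : topologicalKrullDim X = n := by
    rw [← h1, hcl]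
    exact ((Homeomorph.Set.univ X).isHomeomorph.topologicalKrullDim_eq).symm
  have hY : (m : WithBot ℕ∞) ≤ topologicalKrullDim Y := by
    rw [← h2]
    exact topologicalKrullDim_subspace_le Y _
  have hnm := Groth.Agent.H79.SchResMap.trdeg_le k f hf y
  rw [hn, hm] at hnm
  have hnm' : n ≤ m := by exact_mod_cast hnm
  rw [hX]
  refine le_trans ?_ hY
  exact_mod_cast hnm'

end Groth.Agent.S10841
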