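import Groth.Statements.S10842
import Groth.Agent.H54.NormalLoc

set_option autoImplicit false
universe u
open CategoryTheory AlgebraicGeometry
open Variety

namespace Groth.Agent.S10842

/-- A quasi-compact scheme whose local rings at all closed points are integrally closed domains is
normal, i.e. all of its local rings are integrally closed domains. -/
theorem result (X : Scheme.{u}) [CompactSpace ↥X]
    (h : ∀ x : X, IsClosed ({x} : Set X) →
      IsDomain (X.presheaf.stalk x) ∧ IsIntegrallyClosed (X.presheaf.stalk x)) :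
    Pi1.IsNormalScheme X := by
  intro x
  obtain ⟨y, hy, hyc⟩ := IsClosed.exists_closed_singleton (isClosed_closure (s := ({x} : Set X)))
    ⟨x, subset_closure rfl⟩
  have hxy : x ⤳ y := specializes_iff_mem_closure.mpr hy
  obtain ⟨hdom, hic⟩ := h y hyc
  obtain ⟨_, ⟨U, hU, rfl⟩, hyU, -⟩ := X.isBasis_affineOpens.exists_subset_of_mem_open
    (Set.mem_univ y) isOpen_univ
  have hxU : x ∈ U := hxy.mem_open U.2 hyU
  let _ := X.presheaf.algebra_section_stalk ⟨y, hyU⟩
  let _ := X.presheaf.algebra_section_stalk ⟨x, hxU⟩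
  have hB := hU.isLocalization_stalk ⟨y, hyU⟩
  have hC := hU.isLocalization_stalk ⟨x, hxU⟩
  have hle : (hU.primeIdealOf ⟨x, hxU⟩).asIdeal ≤ (hU.primeIdealOf ⟨y, hyU⟩).asIdeal := by
    have h1 : (⟨x, hxU⟩ : U) ⤳ ⟨y, hyU⟩ := (subtype_specializes_iff _ _).mpr hxy
    have h2 : hU.primeIdealOf ⟨x, hxU⟩ ⤳ hU.primeIdealOf ⟨y, hyU⟩ :=
      h1.map hU.isoSpec.hom.continuous
    exact (PrimeSpectrum.le_iff_specializes _ _).mpr h2
  exact Groth.Agent.H54.isDomain_and_isIntegrallyClosed_of_le
    (B := X.presheaf.stalk y) (C := X.presheaf.stalk x)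
    (hU.primeIdealOf ⟨x, hxU⟩).asIdeal (hU.primeIdealOf ⟨y, hyU⟩).asIdeal hle

end Groth.Agent.S10842
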