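import Groth.Statements.S10843
import Groth.Agent.H54.Dim

set_option autoImplicit false
universe u
open CAlg

namespace Groth.Agent.S10843

/-- For a field k, a nonzero finitely generated k-algebra A and a natural number d, the algebra A has
Krull dimension d exactly when some injective k-algebra map from the polynomial ring in d variables
over k to A makes A a finite module over that polynomial ring. -/
theorem result (k A : Type u) [Field k]
    [CommRing A] [Nontrivial A] [Algebra k A] [Algebra.FiniteType k A] (d : ℕ) :
    ringKrullDim A = (d : WithBot ℕ∞) ↔
      ∃ φ : MvPolynomial (Fin d) k →ₐ[k] A, φ.toRingHom.Finite ∧ Function.Injective φ := by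
  have key : ∀ (s : ℕ) (g : MvPolynomial (Fin s) k →ₐ[k] A), g.toRingHom.Finite →
      Function.Injective g → ringKrullDim A = (s : WithBot ℕ∞) := by
    intro s g hfin hinj
    rw [← Groth.Agent.H54.ringKrullDim_mvPolynomial_fin_field k s]
    exact (Groth.Agent.H54.ringKrullDim_eq_of_ringHom_isIntegral_of_injective g.toRingHom
      hfin.to_isIntegral hinj).symm
  constructor
  · intro h
    obtain ⟨s, g, hinj, hfin⟩ := exists_finite_inj_algHom_of_fg k A
    have hs := key s g hfin hinj
    rw [h] at hs
    have hds : d = s := by exact_mod_cast hs
    subst hds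
    exact ⟨g, hfin, hinj⟩
  · rintro ⟨φ, hfin, hinj⟩
    exact key d φ hfin hinj

end Groth.Agent.S10843
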