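import Groth.Statements.S10851
import Mathlib

set_option autoImplicit false
universe u
open Mero

namespace Groth.Agent.S10851

open AlgebraicGeometry in
/-- Let X be a locally Noetherian scheme and D a divisor on X (a global section of K_X^×/O_X^×). Then
the support of D has codimension at least 1 in X: for every point z at which the germ of D is
non-trivial, the local ring O_{X,z} has Krull dimension at least 1. -/
theorem result {X : Scheme.{u}} [IsLocallyNoetherian X]
    (D : Mero.Divisor X) (z : X) (hz : z ∈ Mero.supp D) :
    (1 : WithBot ℕ∞) ≤ ringKrullDim (X.presheaf.stalk z) := by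
  by_contra hlt
  apply hz
  have hdim0 : Ring.KrullDimLE 0 (X.presheaf.stalk z) := by
    rw [Ring.krullDimLE_iff]
    rw [not_le] at hlt
    generalize ringKrullDim (X.presheaf.stalk z) = d at hlt ⊢
    induction d using WithBot.recBotCoe with
    | bot => exact bot_le
    | coe n =>
      have h1 : n < 1 := by exact_mod_cast hlt
      have h2 : n = 0 := Order.lt_one_iff.mp h1
      subst h2
      exact le_refl _
  have hart : IsArtinianRing (X.presheaf.stalk z) := isArtinianRing_iff_krullDimLE_zero.mpr hdim0
  -- every unit of `KStalk` comes from a unit of the stalk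
  have hunits : Mero.stalkUnits X z = ⊤ := by
    rw [eq_top_iff]
    rintro u -
    have hle : Mero.regStalk X z ≤ IsUnit.submonoid (X.presheaf.stalk z) := by
      intro a ha
      exact IsArtinianRing.isUnit_of_mem_nonZeroDivisors (Mero.regStalk_le_nonZeroDivisors z ha)
    have hbij : Function.Bijective (algebraMap (X.presheaf.stalk z) (Mero.KStalk X z)) :=
      (IsLocalization.atUnits _ (Mero.regStalk X z) hle).bijective
    let e : X.presheaf.stalk z ≃+* Mero.KStalk X z := RingEquiv.ofBijective _ hbij
    refine ⟨Units.map e.symm.toRingHom.toMonoidHom u, ?_⟩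
    ext
    simp only [Units.coe_map, RingHom.toMonoidHom_eq_coe, MonoidHom.coe_coe]
    exact e.apply_symm_apply _
  have : ∀ g : Mero.Germ X z, g = 1 := by
    intro g
    obtain ⟨u, rfl⟩ := QuotientGroup.mk_surjective g
    rw [QuotientGroup.eq_one_iff, hunits]
    trivial
  exact this _

end Groth.Agent.S10851
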