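import Groth.Statements.S10860
import Mathlib.AlgebraicGeometry.ZariskisMainTheorem

set_option autoImplicit false
universe u
open Mor

namespace Groth.Agent.S10860

open CategoryTheory AlgebraicGeometry in
/-- For a proper morphism f : X → Y, the set V of points of Y with finite fibre is open, and f
restricted over V is finite (stated as the existence of an open subscheme of Y whose underlying set
is exactly V and over which f is finite). -/
theorem result {X Y : Scheme.{u}} (f : X ⟶ Y) [IsProper f] :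
    ∃ U : Y.Opens, (U : Set Y) = {y : Y | (f.base ⁻¹' {y}).Finite} ∧ IsFinite (f ∣_ U) := by
  let V : Y.Opens := ⟨_, (f.isClosedMap _ f.quasiFiniteLocus.isOpen.isClosed_compl).isOpen_compl⟩
  have hfin : IsFinite (f ∣_ V) := by
    suffices LocallyQuasiFinite (f ∣_ V) from .of_isProper_of_locallyQuasiFinite _
    rw [← Scheme.Hom.quasiFiniteLocus_eq_top_iff]
    ext x
    have : f.QuasiFiniteAt ((f ⁻¹ᵁ V).ι x) := by by_contra H; exact x.2 ⟨_, H, by simp⟩
    rw [← Scheme.Hom.quasiFiniteAt_comp_iff_of_isOpenImmersion, ← morphismRestrict_ι,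
      Scheme.Hom.quasiFiniteAt_comp_iff] at this
    simpa
  refine ⟨V, ?_, hfin⟩
  ext y
  constructor
  · intro hy
    have h1 : ((f ∣_ V) ⁻¹' {⟨y, hy⟩}).Finite := (f ∣_ V).finite_preimage_singleton ⟨y, hy⟩
    have h2 : (f.base ⁻¹' {y}) ⊆ (f ⁻¹ᵁ V).ι '' ((f ∣_ V) ⁻¹' {⟨y, hy⟩}) := by
      intro x hx
      have hxV : x ∈ f ⁻¹ᵁ V := by
        show f x ∈ V
        have : f x = y := hx
        rw [this]; exact hy
      refine ⟨⟨x, hxV⟩, ?_, rfl⟩
      show (f ∣_ V) ⟨x, hxV⟩ = ⟨y, hy⟩
      apply Subtype.ext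
      rw [morphismRestrict_base_coe]
      exact hx
    exact (h1.image _).subset h2
  · intro hy
    show y ∈ V
    suffices ∀ x, f x = y → f.QuasiFiniteAt x by simpa [V, not_imp_not]
    rintro x rfl
    have : Finite (f.fiber (f x)) := (f.fiberHomeo (f x)).finite_iff.mpr hy
    exact Scheme.Hom.quasiFiniteAt_iff_isOpen_singleton_asFiber.mpr (isOpen_discrete _)

end Groth.Agent.S10860
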