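import Groth.Statements.S10868
import Mathlib.AlgebraicGeometry.ZariskisMainTheorem

set_option autoImplicit false
universe u
open Mor

namespace Groth.Agent.S10868

open CategoryTheory AlgebraicGeometry in
/-- f : X → Y is a finite morphism exactly when it is proper and quasi-affine (quasi-compact, with the
inverse image of every affine open subscheme of Y a quasi-affine scheme). -/
theorem result {X Y : Scheme.{u}} (f : X ⟶ Y) :
    IsFinite f ↔ IsProper f ∧ Mor2.IsQuasiAffine f := by
  constructor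
  · intro hf
    refine ⟨inferInstance, inferInstance, ?_⟩
    intro V hV
    have : IsAffine (f ⁻¹ᵁ V : Scheme.{u}) := hV.preimage f
    infer_instance
  · rintro ⟨hp, _, hqa⟩
    rw [IsFinite.iff_isProper_and_isAffineHom]
    refine ⟨hp, ?_⟩
    rw [isAffineHom_iff]
    intro V hV
    have hQ : Scheme.IsQuasiAffine (f ⁻¹ᵁ V : Scheme.{u}) := hqa V hV
    have hVa : IsAffine (V : Scheme.{u}) := hV
    -- g : f⁻¹ V ⟶ V is proper
    let g : (f ⁻¹ᵁ V : Scheme.{u}) ⟶ (V : Scheme.{u}) := f ∣_ V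
    have hg : IsProper g := inferInstance
    have hnat : (f ⁻¹ᵁ V : Scheme.{u}).toSpecΓ ≫ Spec.map g.appTop = g ≫ (V : Scheme.{u}).toSpecΓ :=
      (Scheme.toSpecΓ_naturality g).symm
    have h1 : IsProper ((f ⁻¹ᵁ V : Scheme.{u}).toSpecΓ ≫ Spec.map g.appTop) := by
      rw [hnat]; infer_instance
    have h2 : IsProper (f ⁻¹ᵁ V : Scheme.{u}).toSpecΓ := IsProper.of_comp _ (Spec.map g.appTop)
    have h3 : IsFinite (f ⁻¹ᵁ V : Scheme.{u}).toSpecΓ :=
      IsFinite.of_isProper_of_locallyQuasiFinite _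
    exact isAffine_of_isAffineHom (f ⁻¹ᵁ V : Scheme.{u}).toSpecΓ

end Groth.Agent.S10868
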