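import Groth.Statements.S10869
import Groth.Agent.H54.CounitEpiQcqs

set_option autoImplicit false
universe u
open Coh

namespace Groth.Agent.S10869

open CategoryTheory AlgebraicGeometry in
/-- For f : X → S quasi-compact and quasi-separated and F a quasi-coherent O_X-module, the counit
f^*f_*F → F is an epimorphism iff F is a quotient of f^*G for some quasi-coherent O_S-module G, iff
the restriction of F to the inverse image of every affine open of S is globally generated. -/
theorem result {X S : Scheme.{u}} (f : X ⟶ S) [QuasiCompact f] [QuasiSeparated f]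
    (F : X.Modules) (hF : Coh.IsQCoh F) :
    (Epi ((Scheme.Modules.pullbackPushforwardAdjunction f).counit.app F) ↔
      ∃ G : S.Modules, Coh.IsQCoh G ∧ ∃ φ : (Scheme.Modules.pullback f).obj G ⟶ F, Epi φ) ∧
    (Epi ((Scheme.Modules.pullbackPushforwardAdjunction f).counit.app F) ↔
      ∀ U : S.Opens, IsAffineOpen U → Curv2.IsGloballyGenerated (F.restrict (f ⁻¹ᵁ U).ι)) := by
  haveI : F.IsQuasicoherent := hF
  haveI hpush : ((Scheme.Modules.pushforward f).obj F).IsQuasicoherent :=
    Groth.Agent.H8.isQuasicoherent_pushforward_of_qcqs f F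
  refine ⟨⟨fun h => ⟨(Scheme.Modules.pushforward f).obj F, hpush, _, h⟩, ?_⟩, ⟨?_, ?_⟩⟩
  · rintro ⟨G, hG, φ, hφ⟩
    exact Groth.Agent.H54.CounitEpiQcqs.epi_counit_of_epi_pullback f F G φ hφ
  · intro h U hU
    exact Groth.Agent.H54.CounitEpiQcqs.isGloballyGenerated_restrict_of_epi_pullback f F
      ((Scheme.Modules.pushforward f).obj F) _ h U hU
  · intro h
    refine Groth.Agent.H18.CounitCrit.epi_counit_of_locally_globally_generated f F (fun x => ?_)
    obtain ⟨V, hV, hxV, -⟩ := exists_isAffineOpen_mem_and_subset (x := f x)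
      (U := (⊤ : S.Opens)) trivial
    obtain ⟨ι, p, hp⟩ := h V hV
    exact ⟨V, hxV, ι, p, hp⟩

end Groth.Agent.S10869
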