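import Groth.Statements.S10871
import Groth.Agent.H54.DedekindLoc
import Mathlib.AlgebraicGeometry.Morphisms.Affine

set_option autoImplicit false
universe u
open AlgebraicGeometry
open Curves

namespace Groth.Agent.S10871

/-- Every open subscheme of the spectrum of a Dedekind domain is affine. -/
theorem result (A : Type u) [CommRing A] [IsDedekindDomain A]
    (U : (Spec (CommRingCat.of A)).Opens) : IsAffineOpen U := by
  classical
  let U' : Set (PrimeSpectrum A) := U.1
  have hU' : IsOpen U' := U.2
  obtain ⟨I, hI⟩ : ∃ I : Ideal A, U'ᶜ = PrimeSpectrum.zeroLocus (I : Set A) :=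
    (PrimeSpectrum.isClosed_iff_zeroLocus_ideal _).mp hU'.isClosed_compl
  have hmemU : ∀ q : PrimeSpectrum A, q ∈ U' ↔ ¬ I ≤ q.asIdeal := by
    intro q
    have h1 : q ∈ U'ᶜ ↔ q ∈ PrimeSpectrum.zeroLocus (I : Set A) := by rw [hI]
    rw [PrimeSpectrum.mem_zeroLocus, Set.mem_compl_iff] at h1
    constructor
    · intro hq hle; exact (h1.mpr hle) hq
    · intro hq; by_contra hqU; exact hq (h1.mp hqU)
  by_cases hIbot : I = ⊥
  · -- U is empty
    have : U = ⊥ := by
      apply TopologicalSpace.Opens.ext
      ext q
      simp only [TopologicalSpace.Opens.coe_bot, Set.mem_empty_iff_false, iff_false]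
      intro hq
      exact ((hmemU q).mp hq) (hIbot ▸ bot_le)
    rw [this]
    exact isAffineOpen_bot _
  have haff : IsAffineHom U.ι := by
    apply isAffineHom_of_forall_exists_isAffineOpen
    intro x
    have key : ∃ g : A, (x : PrimeSpectrum A) ∈ PrimeSpectrum.basicOpen g ∧ ∃ h : A,
        U' ∩ (PrimeSpectrum.basicOpen g : Set (PrimeSpectrum A)) = PrimeSpectrum.basicOpen h := by
      by_cases hxU : (x : PrimeSpectrum A) ∈ U'
      · obtain ⟨_, ⟨g, rfl⟩, hxg, hgU⟩ :=
          (PrimeSpectrum.isTopologicalBasis_basic_opens (R := A)).exists_subset_of_mem_open hxU hU'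
        refine ⟨g, hxg, g, ?_⟩
        exact Set.inter_eq_right.mpr hgU
      · have hIx : I ≤ (x : PrimeSpectrum A).asIdeal := by
          by_contra h; exact hxU ((hmemU x).mpr h)
        obtain ⟨a, haI, f, hfx, hf⟩ :=
          Groth.Agent.H54.exists_mul_mem_span_singleton_of_dedekind I hIbot
            (x : PrimeSpectrum A).asIdeal hIx
        refine ⟨f, hfx, a * f, ?_⟩
        ext q
        simp only [Set.mem_inter_iff, SetLike.mem_coe, PrimeSpectrum.mem_basicOpen]
        rw [hmemU q]
        constructor
        · rintro ⟨hIq, hfq⟩ haf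
          rcases q.2.mem_or_mem haf with h | h
          · apply hIq
            intro y hy
            have h1 : f * y ∈ Ideal.span {a} := hf y hy
            have h2 : f * y ∈ q.asIdeal :=
              (Ideal.span_singleton_le_iff_mem (I := q.asIdeal)).mpr h h1
            exact (q.2.mem_or_mem h2).resolve_left hfq
          · exact hfq h
        · intro haf
          exact ⟨fun hIq => haf (Ideal.mul_mem_right _ _ (hIq haI)),
            fun hfq => haf (Ideal.mul_mem_left _ _ hfq)⟩
    obtain ⟨g, hxg, h, hgh⟩ := key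
    have hgaff : IsAffineOpen (X := Spec (CommRingCat.of A)) (PrimeSpectrum.basicOpen g) :=
      IsAffineOpen.Spec_basicOpen (R := CommRingCat.of A) g
    refine ⟨PrimeSpectrum.basicOpen g, hxg, hgaff, ?_⟩
    rw [← Scheme.Hom.isAffineOpen_iff_of_isOpenImmersion U.ι,
      Scheme.Hom.image_preimage_eq_opensRange_inf, Scheme.Opens.opensRange_ι]
    have : U ⊓ (PrimeSpectrum.basicOpen g : (Spec (CommRingCat.of A)).Opens) =
        (PrimeSpectrum.basicOpen h : (Spec (CommRingCat.of A)).Opens) :=
      TopologicalSpace.Opens.ext hgh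
    rw [this]
    exact IsAffineOpen.Spec_basicOpen (R := CommRingCat.of A) h
  exact isAffine_of_isAffineHom U.ι

end Groth.Agent.S10871
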