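import Groth.Statements.S10876
import Groth.Agent.H9.FlatTopDescent
import Mathlib.RingTheory.Filtration

set_option autoImplicit false
universe u
open TensorProduct
open CAlg

namespace Groth.Agent.S10876

/-- Descent of flatness along finite injective maps: let A → B be a local homomorphism of Noetherian
local rings and A → A' an injective ring homomorphism making A' a finite A-module. Then B is A-flat
if and only if the base change A' ⊗_A B is A'-flat. -/
theorem result (A B A' : Type u) [CommRing A] [CommRing B]
    [CommRing A'] [IsNoetherianRing A] [IsLocalRing A] [IsNoetherianRing B] [IsLocalRing B]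
    [Algebra A B] [IsLocalHom (algebraMap A B)] [Algebra A A'] [Module.Finite A A']
    (hinj : Function.Injective (algebraMap A A')) :
    Module.Flat A B ↔ Module.Flat A' (A' ⊗[A] B) := by
  constructor
  · intro _
    infer_instance
  · intro _
    refine Groth.Agent.H9.flat_of_flat_baseChange_of_comap_pow (A := A) (B := B) (A' := A') ?_
    intro n _
    obtain ⟨c, hc⟩ := Ideal.exists_pow_inf_eq_pow_smul (IsLocalRing.maximalIdeal A)
      (LinearMap.range (Algebra.linearMap A A'))
    refine ⟨((IsLocalRing.maximalIdeal A) ^ (n + c)).map (algebraMap A A'), n + c, ?_,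
      Ideal.le_comap_map⟩
    intro x hx
    have h1 : algebraMap A A' x ∈
        ((IsLocalRing.maximalIdeal A) ^ (n + c) • ⊤ : Submodule A A') ⊓
          LinearMap.range (Algebra.linearMap A A') := by
      refine ⟨?_, ⟨x, rfl⟩⟩
      rw [Ideal.smul_top_eq_map]
      exact hx
    rw [hc (n + c) (by omega), Nat.add_sub_cancel] at h1
    have h2 : ((IsLocalRing.maximalIdeal A) ^ n •
        (((IsLocalRing.maximalIdeal A) ^ c • ⊤ : Submodule A A') ⊓
          LinearMap.range (Algebra.linearMap A A'))) ≤
        Submodule.map (Algebra.linearMap A A') ((IsLocalRing.maximalIdeal A) ^ n) := by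
      refine (Submodule.smul_mono le_rfl inf_le_right).trans ?_
      rw [LinearMap.range_eq_map, ← Submodule.map_smul'', smul_eq_mul, Ideal.mul_top]
    obtain ⟨y, hy, hxy⟩ := h2 h1
    have : y = x := hinj hxy
    rw [← this]
    exact hy

end Groth.Agent.S10876
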