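import Groth.Statements.S10877
import Groth.Agent.H54.SepOpenImm

set_option autoImplicit false
universe u
open CategoryTheory AlgebraicGeometry
open FlatMor

namespace Groth.Agent.S10877

/-- A separated morphism f : X → Y, with X having finitely many irreducible components, which restricts
to an open immersion on each member of a cover of X by dense open subsets, is an open immersion. -/
theorem result {X Y : Scheme.{u}} (f : X ⟶ Y) [IsSeparated f]
    (hfin : (irreducibleComponents (X : Type u)).Finite) {ι : Type u} (U : ι → X.Opens)
    (hU : ⨆ i, U i = ⊤) (hd : ∀ i, Dense (U i : Set X)) (h : ∀ i, IsOpenImmersion ((U i).ι ≫ f)) :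
    IsOpenImmersion f := by
  have hinj : Function.Injective f := by
    intro x y hxy
    have hx : x ∈ ⨆ i, U i := hU ▸ trivial
    have hy : y ∈ ⨆ i, U i := hU ▸ trivial
    obtain ⟨i, hi⟩ := TopologicalSpace.Opens.mem_iSup.mp hx
    obtain ⟨j, hj⟩ := TopologicalSpace.Opens.mem_iSup.mp hy
    have := h i
    have := h j
    exact Groth.Agent.H54.eq_of_isOpenImmersion_of_dense f (U i) (U j) (hd i) (hd j) x y hi hj hxy
  exact IsOpenImmersion.of_openCover_source f (X.openCoverOfIsOpenCover U hU) hinj h

end Groth.Agent.S10877
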