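import Groth.Statements.S10886
import Mathlib

set_option autoImplicit false
universe u
open CategoryTheory AlgebraicGeometry
open Curves

namespace Groth.Agent.S10886

open TopologicalSpace in
/-- Purely topological core: in an irreducible, Noetherian, quasi-sober T0 space of Krull dimension
one, every proper closed subset is a finite set of closed points. -/
theorem finite_of_isClosed_ne_univ {X : Type u} [TopologicalSpace X] [NoetherianSpace X]
    [IrreducibleSpace X] [QuasiSober X] [T0Space X] (hX : topologicalKrullDim X = 1)
    (C : Set X) (hC : IsClosed C) (hne : C ≠ Set.univ) :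
    C.Finite ∧ ∀ x ∈ C, IsClosed ({x} : Set X) := by
  -- points of C are closed
  have hpt : ∀ x ∈ C, IsClosed ({x} : Set X) := by
    intro x hx
    have hcl : closure {x} ⊆ C := hC.closure_subset_iff.mpr (Set.singleton_subset_iff.mpr hx)
    have hcl_ne : closure ({x} : Set X) ≠ Set.univ := fun h => hne (Set.univ_subset_iff.mp (h ▸ hcl))
    suffices h : closure ({x} : Set X) = {x} by rw [← h]; exact isClosed_closure
    apply Set.Subset.antisymm _ subset_closure
    intro y hy
    by_contra hyx
    have hyx' : y ≠ x := hyx
    -- chain closure{y} < closure{x} < univ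
    let a : IrreducibleCloseds X :=
      ⟨closure {y}, isIrreducible_singleton.closure, isClosed_closure⟩
    let b : IrreducibleCloseds X :=
      ⟨closure {x}, isIrreducible_singleton.closure, isClosed_closure⟩
    let c : IrreducibleCloseds X :=
      ⟨Set.univ, IrreducibleSpace.isIrreducible_univ X, isClosed_univ⟩
    have hab : a < b := by
      refine lt_of_le_of_ne ?_ ?_
      · show closure {y} ⊆ closure {x}
        exact isClosed_closure.closure_subset_iff.mpr (Set.singleton_subset_iff.mpr hy)
      · intro h
        have h' : closure ({y} : Set X) = closure {x} := congrArg (fun z : IrreducibleCloseds X => (z : Set X)) h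
        have : Inseparable y x := by
          rw [inseparable_iff_closure_eq]; exact h'
        exact hyx' this.eq
    have hbc : b < c := by
      refine lt_of_le_of_ne (fun z _ => Set.mem_univ z) ?_
      intro h
      exact hcl_ne (congrArg (fun z : IrreducibleCloseds X => (z : Set X)) h)
    let p : LTSeries (IrreducibleCloseds X) :=
      ((RelSeries.singleton _ a).snoc b (by simpa using hab)).snoc c (by simpa using hbc)
    have hlen : p.length = 2 := rfl
    have := Order.LTSeries.length_le_krullDim p
    rw [hlen] at this
    have h2 : ((2 : ℕ) : WithBot ℕ∞) ≤ 1 := by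
      calc ((2 : ℕ) : WithBot ℕ∞) ≤ Order.krullDim (IrreducibleCloseds X) := this
        _ = topologicalKrullDim X := rfl
        _ = 1 := hX
    exact absurd h2 (by decide)
  refine ⟨?_, hpt⟩
  obtain ⟨S, hSf, hSirr, hS⟩ :=
    NoetherianSpace.exists_finite_set_closeds_irreducible (⟨C, hC⟩ : Closeds X)
  have hCeq : C = ⋃ t ∈ S, (t : Set X) := by
    have := congrArg (fun z : Closeds X => (z : Set X)) hS
    simp only [Closeds.coe_mk] at this
    rw [this]
    lift S to Finset (Closeds X) using hSf
    simp [← Finset.sup_id_eq_sSup, Closeds.coe_finset_sup]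
  rw [hCeq]
  refine hSf.biUnion ?_
  intro t ht
  have htC : (t : Set X) ⊆ C := by
    rw [hCeq]; exact Set.subset_biUnion_of_mem (u := fun t : Closeds X => (t : Set X)) ht
  -- t irreducible closed, with generic point
  obtain ⟨z, hz⟩ := QuasiSober.sober (hSirr t ht) t.isClosed
  have hzt : z ∈ (t : Set X) := hz.mem
  have hzcl : IsClosed ({z} : Set X) := hpt z (htC hzt)
  have : (t : Set X) = {z} := by
    rw [← hz.def, hzcl.closure_eq]
  rw [this]
  exact Set.finite_singleton z

theorem result {X : Scheme.{u}} [IsNoetherian X]
    [IrreducibleSpace X] (hX : topologicalKrullDim X = 1) (s : Set X) (hs : Topology.IsConstructible s) :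
    (s.Finite ∧ (∀ x ∈ s, IsClosed ({x} : Set X))) ∨ (sᶜ.Finite ∧ ∀ x ∈ sᶜ, IsClosed ({x} : Set X)) := by
  have key := fun C hC hne => finite_of_isClosed_ne_univ (X := X) hX C hC hne
  induction hs using Topology.IsConstructible.empty_union_induction with
  | open_retrocompact U hUopen _ =>
    by_cases hU : U = ∅
    · left; subst hU; simp
    · right
      apply key _ hUopen.isClosed_compl
      intro h
      exact hU (Set.compl_univ_iff.mp h)
  | union s _ t _ hs ht =>
    rcases hs with ⟨hs1, hs2⟩ | ⟨hs1, hs2⟩
    · rcases ht with ⟨ht1, ht2⟩ | ⟨ht1, ht2⟩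
      · left
        refine ⟨hs1.union ht1, ?_⟩
        rintro x (hx | hx)
        · exact hs2 x hx
        · exact ht2 x hx
      · right
        rw [Set.compl_union]
        exact ⟨ht1.subset Set.inter_subset_right, fun x hx => ht2 x hx.2⟩
    · right
      rw [Set.compl_union]
      exact ⟨hs1.subset Set.inter_subset_left, fun x hx => hs2 x hx.1⟩
  | compl s _ hs =>
    rcases hs with h | h
    · right; rwa [compl_compl]
    · left; exact h

end Groth.Agent.S10886
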