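import Groth.Statements.S10889
import Groth.Agent.H17.Chev.FlatLC5

set_option autoImplicit false
universe u
open CategoryTheory AlgebraicGeometry
open FlatMor

namespace Groth.Agent.S10889

/-- Let f : X → Y be proper, flat and of finite presentation, and let V be the set of points of Y whose
fibre is (non-empty and) zero-dimensional. Then V is a clopen subset of Y, and over every open
subset of V the restriction of f is finite, hence finite locally free. -/
theorem result {X Y : Scheme.{u}} (f : X ⟶ Y) [IsProper f] [Flat f]
    [LocallyOfFinitePresentation f] :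
    IsClopen {y : Y | topologicalKrullDim (f.base ⁻¹' {y}) = 0} ∧
      ∀ U : Y.Opens, (U : Set Y) ⊆ {y : Y | topologicalKrullDim (f.base ⁻¹' {y}) = 0} → IsFinite (f ∣_ U) := by
  constructor
  · have hset : {y : Y | topologicalKrullDim (f.base ⁻¹' {y}) = 0} =
        {y : Y | 0 < topologicalKrullDim ↥(f.base ⁻¹' {y})}ᶜ ∩ Set.range f.base := by
      ext y
      simp only [Set.mem_ofPred_eq, Set.mem_inter_iff, Set.mem_compl_iff, not_lt]
      rw [← Groth.Agent.H17.Chev.zero_le_dim_fibre_iff f y]
      exact ⟨fun h => ⟨h.le, h.ge⟩, fun h => le_antisymm h.1 h.2⟩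
    rw [hset]
    refine IsClopen.inter ?_ ?_
    · refine IsClopen.compl ⟨?_, ?_⟩
      · -- closed: image of a closed set under a closed map
        have h1 : {y : Y | 0 < topologicalKrullDim ↥(f.base ⁻¹' {y})} =
            f.base '' {x : X | 0 < FlatMor.fibreDimAt f x} := by
          ext y
          exact Groth.Agent.H17.Chev.zero_lt_dim_fibre_iff f y
        rw [h1]
        refine f.isClosedMap _ ?_
        have h2 := (Groth.Agent.H17.Chev.isOpen_setOf_fibreDimAt_le f 0).isClosed_compl
        convert h2 using 1
        ext x
        simp only [Set.mem_ofPred_eq, Set.mem_compl_iff, not_le]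
        rfl
      · have h1 := Groth.Agent.H17.Chev.isOpen_setOf_lt_dim_fiber_of_flat f 0
        convert h1 using 1
        ext y
        simp only [Set.mem_ofPred_eq]
        rw [Groth.Agent.H17.Chev.dim_fiber_eq]
    · exact ⟨f.isClosedMap.isClosed_range, f.isOpenMap.isOpen_range⟩
  · intro U hU
    haveI : LocallyQuasiFinite (f ∣_ U) := by
      refine Groth.Agent.H17.Chev.locallyQuasiFinite_of_forall_fibreDimAt_le_zero _ fun t => ?_
      have h1 : FlatMor.fibreDimAt (f ∣_ U) t = FlatMor.fibreDimAt f t.1 := by
        have := Groth.Agent.H17.Chev.fibreDimAt_resLE f U (f ⁻¹ᵁ U) le_rfl t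
        rw [Scheme.Hom.resLE_eq_morphismRestrict] at this
        exact this
      rw [h1]
      refine (Groth.Agent.H17.Chev.fibreDimAt_le_dim_fiber f t.1).trans ?_
      rw [Groth.Agent.H17.Chev.dim_fiber_eq]
      exact (hU t.2).le
    exact IsFinite.of_isProper_of_locallyQuasiFinite _

end Groth.Agent.S10889
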