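import Groth.Statements.S10891
import Mathlib.Algebra.MvPolynomial.Eval

set_option autoImplicit false
universe u
open CAlg

namespace Groth.Agent.S10891

open MvPolynomial in
theorem monomial_fin_two {k : Type u} [Field k] (m : Fin 2 →₀ ℕ) (c : k) :
    (monomial m c : MvPolynomial (Fin 2) k) = C c * (X 0 ^ m 0 * X 1 ^ m 1) := by
  rw [monomial_eq, Finsupp.prod_fintype _ _ (fun i => by simp), Fin.prod_univ_two]

open MvPolynomial in
theorem sigma_monomial {k : Type u} [Field k] (u v : k) (m : Fin 2 →₀ ℕ) (c : k) :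
    aeval (fun i : Fin 2 => if i = 0 then C u * X 0 else C v * (X 1 : MvPolynomial (Fin 2) k))
      (monomial m c) = monomial m (u ^ m 0 * v ^ m 1 * c) := by
  rw [monomial_fin_two, monomial_fin_two]
  simp only [map_mul, map_pow, aeval_C, aeval_X, algebraMap_eq]
  simp only [if_true, Fin.isValue, one_ne_zero, if_false, mul_pow, ← C_pow]
  ring

open MvPolynomial in
theorem coeff_sigma {k : Type u} [Field k] (u v : k) (p : MvPolynomial (Fin 2) k)
    (m : Fin 2 →₀ ℕ) :
    coeff m (aeval (fun i : Fin 2 => if i = 0 then C u * X 0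
      else C v * (X 1 : MvPolynomial (Fin 2) k)) p) = u ^ m 0 * v ^ m 1 * coeff m p := by
  induction p using MvPolynomial.induction_on' with
  | monomial n c =>
    rw [sigma_monomial, coeff_monomial, coeff_monomial]
    split_ifs with h
    · subst h; rfl
    · simp
  | add p q hp hq =>
    rw [map_add, coeff_add, coeff_add, hp, hq, mul_add]

/-- Let k be a field containing a primitive r-th root of unity ζ and 0 < a < r. The cyclic group of r-th
roots of unity acts on k[X, Y] through the generator X ↦ ζ⁻¹ X, Y ↦ ζ^(−a) Y, and the ring of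
invariants of this action is generated as a k-algebra by the monomials X^i Y^j with 0 ≤ i, j ≤ r,
(i, j) ≠ (r, r) and i + a·j ≡ 0 (mod r). (The printed statement writes n for the order of the group,
which the surrounding section calls r.) -/
theorem result (k : Type u) [Field k] (r a : ℕ) (ha : 0 < a) (har : a < r)
    (ζ : k) (hζ : IsPrimitiveRoot ζ r) (p : MvPolynomial (Fin 2) k) :
    MvPolynomial.aeval (fun i : Fin 2 => if i = 0 then MvPolynomial.C ζ⁻¹ * MvPolynomial.X 0
        else MvPolynomial.C (ζ⁻¹ ^ a) * (MvPolynomial.X 1 : MvPolynomial (Fin 2) k)) p = p ↔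
      p ∈ Algebra.adjoin k {q : MvPolynomial (Fin 2) k | ∃ i j : ℕ, i ≤ r ∧ j ≤ r ∧ ¬ (i = r ∧ j = r) ∧
        r ∣ i + a * j ∧ q = MvPolynomial.X 0 ^ i * MvPolynomial.X 1 ^ j} := by
  classical
  have hr : 0 < r := lt_trans ha har
  have hζi : IsPrimitiveRoot ζ⁻¹ r := hζ.inv
  set G : Set (MvPolynomial (Fin 2) k) := {q : MvPolynomial (Fin 2) k | ∃ i j : ℕ, i ≤ r ∧ j ≤ r ∧
    ¬ (i = r ∧ j = r) ∧ r ∣ i + a * j ∧ q = MvPolynomial.X 0 ^ i * MvPolynomial.X 1 ^ j} with hG
  set σ : MvPolynomial (Fin 2) k →ₐ[k] MvPolynomial (Fin 2) k :=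
    MvPolynomial.aeval (fun i : Fin 2 => if i = 0 then MvPolynomial.C ζ⁻¹ * MvPolynomial.X 0
        else MvPolynomial.C (ζ⁻¹ ^ a) * (MvPolynomial.X 1 : MvPolynomial (Fin 2) k)) with hσ
  have hw : ∀ m : Fin 2 →₀ ℕ, ζ⁻¹ ^ m 0 * (ζ⁻¹ ^ a) ^ m 1 = ζ⁻¹ ^ (m 0 + a * m 1) := by
    intro m
    rw [← pow_mul, ← pow_add]
  have hcoeff : ∀ (q : MvPolynomial (Fin 2) k) (m : Fin 2 →₀ ℕ),
      MvPolynomial.coeff m (σ q) = ζ⁻¹ ^ (m 0 + a * m 1) * MvPolynomial.coeff m q := by
    intro q m
    rw [hσ, coeff_sigma, hw]
  constructor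
  · intro hfix
    -- every monomial in the support has exponent divisible by r
    have hsupp : ∀ m ∈ p.support, r ∣ m 0 + a * m 1 := by
      intro m hm
      have h1 := hcoeff p m
      rw [hfix] at h1
      have hne : MvPolynomial.coeff m p ≠ 0 := MvPolynomial.mem_support_iff.mp hm
      have h2 : ζ⁻¹ ^ (m 0 + a * m 1) = 1 := by
        have : (ζ⁻¹ ^ (m 0 + a * m 1) - 1) * MvPolynomial.coeff m p = 0 := by
          rw [sub_mul, one_mul, ← h1, sub_self]
        rcases mul_eq_zero.mp this with h | h
        · exact sub_eq_zero.mp h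
        · exact absurd h hne
      exact (hζi.pow_eq_one_iff_dvd _).mp h2
    -- monomials with divisible exponent are in the adjoin
    have hmono : ∀ (n : ℕ) (i j : ℕ), i + j = n → r ∣ i + a * j →
        (MvPolynomial.X 0 ^ i * MvPolynomial.X 1 ^ j : MvPolynomial (Fin 2) k) ∈ Algebra.adjoin k G := by
      intro n
      induction n using Nat.strong_induction_on with
      | _ n ih =>
        intro i j hij hdvd
        by_cases hi : r ≤ i
        · -- split off X0^r
          have hgen : (MvPolynomial.X 0 ^ r : MvPolynomial (Fin 2) k) ∈ Algebra.adjoin k G := by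
            apply Algebra.subset_adjoin
            refine ⟨r, 0, le_rfl, Nat.zero_le _, ?_, ?_, ?_⟩
            · rintro ⟨-, h⟩; omega
            · simp
            · simp
          have hrest := ih (i - r + j) (by omega) (i - r) j rfl (by
            have : i - r + a * j + r = i + a * j := by omega
            exact (Nat.dvd_add_left (dvd_refl r)).mp (this ▸ hdvd))
          have : (MvPolynomial.X 0 ^ i * MvPolynomial.X 1 ^ j : MvPolynomial (Fin 2) k) =
              MvPolynomial.X 0 ^ r * (MvPolynomial.X 0 ^ (i - r) * MvPolynomial.X 1 ^ j) := by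
            rw [← mul_assoc, ← pow_add, Nat.add_sub_cancel' hi]
          rw [this]
          exact Subalgebra.mul_mem _ hgen hrest
        · by_cases hj : r ≤ j
          · have hgen : (MvPolynomial.X 1 ^ r : MvPolynomial (Fin 2) k) ∈ Algebra.adjoin k G := by
              apply Algebra.subset_adjoin
              refine ⟨0, r, Nat.zero_le _, le_rfl, ?_, ?_, ?_⟩
              · rintro ⟨h, -⟩; omega
              · simp
              · simp
            have hrest := ih (i + (j - r)) (by omega) i (j - r) rfl (by
              have : i + a * (j - r) + a * r = i + a * j := by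
                rw [add_assoc, ← mul_add, Nat.sub_add_cancel hj]
              exact (Nat.dvd_add_left (Dvd.intro_left a rfl)).mp (this ▸ hdvd))
            have : (MvPolynomial.X 0 ^ i * MvPolynomial.X 1 ^ j : MvPolynomial (Fin 2) k) =
                MvPolynomial.X 1 ^ r * (MvPolynomial.X 0 ^ i * MvPolynomial.X 1 ^ (j - r)) := by
              rw [mul_left_comm, ← pow_add, Nat.add_sub_cancel' hj]
            rw [this]
            exact Subalgebra.mul_mem _ hgen hrest
          · apply Algebra.subset_adjoin
            refine ⟨i, j, by omega, by omega, ?_, hdvd, rfl⟩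
            rintro ⟨h, -⟩; omega
    rw [MvPolynomial.as_sum p]
    apply Subalgebra.sum_mem
    intro m hm
    rw [monomial_fin_two]
    apply Subalgebra.mul_mem
    · exact Subalgebra.algebraMap_mem _ _
    · exact hmono _ _ _ rfl (hsupp m hm)
  · intro hmem
    have hle : Algebra.adjoin k G ≤ AlgHom.equalizer σ (AlgHom.id k _) := by
      apply Algebra.adjoin_le
      rintro q ⟨i, j, -, -, -, hdvd, rfl⟩
      show σ _ = (MvPolynomial.X 0 ^ i * MvPolynomial.X 1 ^ j : MvPolynomial (Fin 2) k)
      apply MvPolynomial.ext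
      intro m
      rw [hcoeff]
      by_cases hm : MvPolynomial.coeff m (MvPolynomial.X 0 ^ i * MvPolynomial.X 1 ^ j :
          MvPolynomial (Fin 2) k) = 0
      · rw [hm, mul_zero]
      · -- m = (i, j)
        have h0 : (MvPolynomial.X 0 ^ i * MvPolynomial.X 1 ^ j : MvPolynomial (Fin 2) k) =
            MvPolynomial.monomial (Finsupp.single 0 i + Finsupp.single 1 j) 1 := by
          rw [MvPolynomial.X_pow_eq_monomial, MvPolynomial.X_pow_eq_monomial,
            MvPolynomial.monomial_mul, one_mul]
        rw [h0, MvPolynomial.coeff_monomial] at hm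
        have hm' : Finsupp.single 0 i + Finsupp.single 1 j = m := by
          by_contra h
          exact hm (if_neg h)
        subst hm'
        have : ζ⁻¹ ^ ((Finsupp.single (0 : Fin 2) i + Finsupp.single (1 : Fin 2) j : Fin 2 →₀ ℕ) 0 +
            a * (Finsupp.single (0 : Fin 2) i + Finsupp.single (1 : Fin 2) j : Fin 2 →₀ ℕ) 1) = 1 := by
          apply (hζi.pow_eq_one_iff_dvd _).mpr
          simpa using hdvd
        rw [this, one_mul]
    exact hle hmem

end Groth.Agent.S10891
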