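import Groth.Statements.S10896
import Groth.Agent.H99.CubicL

set_option autoImplicit false
universe u
open Cubic

namespace Groth.Agent.S10896

/-- Over an algebraically closed field of characteristic zero, a smooth cubic surface S = V_+(f) ⊂ P^3
which contains a line contains two disjoint lines (2-dimensional subspaces of k^4 on which f
vanishes and which intersect trivially). -/
theorem result (k : Type u) [Field k] [IsAlgClosed k] [CharZero k]
    (f : MvPolynomial (Fin 4) k) (hf : f.IsHomogeneous 3) (hf0 : f ≠ 0)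
    (hsm : ∀ v : Fin 4 → k, v ≠ 0 → MvPolynomial.eval v f = 0 →
      ∃ i : Fin 4, MvPolynomial.eval v (MvPolynomial.pderiv i f) ≠ 0)
    (hL : ∃ U : Submodule k (Fin 4 → k), (Module.finrank k ↥U = 2 ∧ ∀ u ∈ U, MvPolynomial.eval u f = 0)) :
    ∃ U₁ U₂ : Submodule k (Fin 4 → k), (Module.finrank k ↥U₁ = 2 ∧ ∀ u ∈ U₁, MvPolynomial.eval u f = 0) ∧ (Module.finrank k ↥U₂ = 2 ∧ ∀ u ∈ U₂, MvPolynomial.eval u f = 0) ∧ U₁ ⊓ U₂ = ⊥ := by
  classical
  have hsymm : Groth.Agent.H99.Cubic.IsSymm (Groth.Agent.H99.Cubic.TT f) :=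
    ⟨Groth.Agent.H99.Cubic.TT_swap12 f, Groth.Agent.H99.Cubic.TT_swap23 f⟩
  have hV : Module.finrank k (Fin 4 → k) = 4 := by simp
  have hsm' : ∀ w : Fin 4 → k, w ≠ 0 → Groth.Agent.H99.Cubic.TT f w w w = 0 →
      ∃ y, Groth.Agent.H99.Cubic.TT f y w w ≠ 0 := by
    intro w hw hfw
    obtain ⟨i, hi⟩ := hsm w hw (by rw [Groth.Agent.H99.Cubic.eval_eq_TT hf]; exact hfw)
    refine ⟨Pi.single i 1, ?_⟩
    intro h0
    apply hi
    rw [Groth.Agent.H99.Cubic.eval_pderiv_eq_TT hf, h0, mul_zero]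
  obtain ⟨L, hL2, hLS⟩ := hL
  have hLS' : ∀ u ∈ L, Groth.Agent.H99.Cubic.TT f u u u = 0 := fun u hu => by
    rw [← Groth.Agent.H99.Cubic.eval_eq_TT hf]; exact hLS u hu
  obtain ⟨M₁, M₂, ⟨h12, h1S⟩, ⟨h22, h2S⟩, hdisj⟩ :=
    Groth.Agent.H99.Cubic.exists_disjoint_lines hV hsymm hsm' hL2 hLS'
  exact ⟨M₁, M₂, ⟨h12, fun u hu => by rw [Groth.Agent.H99.Cubic.eval_eq_TT hf]; exact h1S u hu⟩,
    ⟨h22, fun u hu => by rw [Groth.Agent.H99.Cubic.eval_eq_TT hf]; exact h2S u hu⟩, hdisj⟩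

end Groth.Agent.S10896
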