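import Groth.Statements.S10897
import Groth.Agent.H99.CubicJ

set_option autoImplicit false
universe u
open Cubic

namespace Groth.Agent.S10897

/-- Over an algebraically closed field of characteristic zero, through a point s of a smooth cubic
surface S = V_+(f) ⊂ P^3 there pass at most three lines contained in S, and these lines are
coplanar. With s given by a nonzero vector v with f(v) = 0, the lines through s on S are the
2-dimensional subspaces of k^4 containing v on which f vanishes; there are at most three of them and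
one 3-dimensional subspace contains them all. -/
theorem result (k : Type u) [Field k] [IsAlgClosed k] [CharZero k]
    (f : MvPolynomial (Fin 4) k) (hf : f.IsHomogeneous 3) (hf0 : f ≠ 0)
    (hsm : ∀ v : Fin 4 → k, v ≠ 0 → MvPolynomial.eval v f = 0 →
      ∃ i : Fin 4, MvPolynomial.eval v (MvPolynomial.pderiv i f) ≠ 0)
    (v : Fin 4 → k) (hv : v ≠ 0) (hfv : MvPolynomial.eval v f = 0) :
    {U : Submodule k (Fin 4 → k) | v ∈ U ∧ (Module.finrank k ↥U = 2 ∧ ∀ u ∈ U, MvPolynomial.eval u f = 0)}.Finite ∧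
      {U : Submodule k (Fin 4 → k) | v ∈ U ∧ (Module.finrank k ↥U = 2 ∧ ∀ u ∈ U, MvPolynomial.eval u f = 0)}.ncard ≤ 3 ∧
      ∃ H : Submodule k (Fin 4 → k), Module.finrank k ↥H = 3 ∧
        ∀ U : Submodule k (Fin 4 → k), v ∈ U → (Module.finrank k ↥U = 2 ∧ ∀ u ∈ U, MvPolynomial.eval u f = 0) → U ≤ H := by
  classical
  have hsymm : Groth.Agent.H99.Cubic.IsSymm (Groth.Agent.H99.Cubic.TT f) :=
    ⟨Groth.Agent.H99.Cubic.TT_swap12 f, Groth.Agent.H99.Cubic.TT_swap23 f⟩
  have hV : Module.finrank k (Fin 4 → k) = 4 := by simp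
  have hsm' : ∀ w : Fin 4 → k, w ≠ 0 → Groth.Agent.H99.Cubic.TT f w w w = 0 →
      ∃ y, Groth.Agent.H99.Cubic.TT f y w w ≠ 0 := by
    intro w hw hfw
    obtain ⟨i, hi⟩ := hsm w hw (by rw [Groth.Agent.H99.Cubic.eval_eq_TT hf]; exact hfw)
    refine ⟨Pi.single i 1, ?_⟩
    intro h0
    apply hi
    rw [Groth.Agent.H99.Cubic.eval_pderiv_eq_TT hf, h0, mul_zero]
  have hvvv : Groth.Agent.H99.Cubic.TT f v v v = 0 := by
    rw [← Groth.Agent.H99.Cubic.eval_eq_TT hf]; exact hfv
  have hset : {U : Submodule k (Fin 4 → k) | v ∈ U ∧ (Module.finrank k ↥U = 2 ∧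
      ∀ u ∈ U, MvPolynomial.eval u f = 0)} =
      {U : Submodule k (Fin 4 → k) | v ∈ U ∧ Module.finrank k ↥U = 2 ∧
        ∀ u ∈ U, Groth.Agent.H99.Cubic.TT f u u u = 0} := by
    ext U
    simp only [Set.mem_setOf_eq, Groth.Agent.H99.Cubic.eval_eq_TT hf]
  obtain ⟨h1, h2, H, hH3, hH⟩ :=
    Groth.Agent.H99.Cubic.lines_through_point hV hsymm hsm' hv hvvv
  rw [hset]
  refine ⟨h1, h2, H, hH3, ?_⟩
  intro U hvU hU
  exact hH U hvU hU.1 (fun u hu => by
    rw [← Groth.Agent.H99.Cubic.eval_eq_TT hf]; exact hU.2 u hu)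

end Groth.Agent.S10897
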