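import Groth.Statements.S10898
import Mathlib.RingTheory.Polynomial.Basic

set_option autoImplicit false
universe u
open Polynomial
open WDiv

namespace Groth.Agent.S10898

/-- Let A be a Noetherian integral domain and P a prime ideal of height 1 of the polynomial ring A[X].
Then either P meets A in 0 only, or its contraction p = P ∩ A is a prime of height 1 of A and P is
the extension p·A[X]. (The published lemma also assumes A regular in codimension 1; that hypothesis
is not used for this assertion.) -/
theorem result (A : Type u) [CommRing A] [IsDomain A]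
    [IsNoetherianRing A] (P : Ideal A[X]) [P.IsPrime] (hP : P.height = 1) :
    P.comap (C : A →+* A[X]) = ⊥ ∨
      ((P.comap (C : A →+* A[X])).height = 1 ∧ P = (P.comap (C : A →+* A[X])).map C) := by
  by_cases hbot : P.comap (C : A →+* A[X]) = ⊥
  · exact Or.inl hbot
  · right
    set p := P.comap (C : A →+* A[X]) with hp
    have hpprime : p.IsPrime := Ideal.comap_isPrime _ _
    have hmapprime : (p.map (C : A →+* A[X])).IsPrime := Ideal.isPrime_map_C_of_isPrime
    have hle : p.map (C : A →+* A[X]) ≤ P := Ideal.map_comap_le
    have hmapne : p.map (C : A →+* A[X]) ≠ ⊥ := by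
      intro h
      apply hbot
      rw [eq_bot_iff]
      intro a ha
      have : (C a : A[X]) ∈ p.map (C : A →+* A[X]) := Ideal.mem_map_of_mem _ ha
      rw [h, Ideal.mem_bot, C_eq_zero] at this
      simpa using this
    have hbotprime : (⊥ : Ideal A[X]).IsPrime := Ideal.isPrime_bot
    have h1 : (1 : ℕ∞) ≤ (p.map (C : A →+* A[X])).height := by
      have := Ideal.height_add_one_le_of_lt_of_isPrime (I := (⊥ : Ideal A[X]))
        (J := p.map (C : A →+* A[X])) (bot_lt_iff_ne_bot.mpr hmapne)
      simpa [Ideal.height_bot] using this
    have hPeq : P = p.map (C : A →+* A[X]) := by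
      by_contra hne
      have hlt : p.map (C : A →+* A[X]) < P := lt_of_le_of_ne hle (Ne.symm hne)
      have h2 := Ideal.height_add_one_le_of_lt_of_isPrime hlt
      rw [hP] at h2
      have h3 : (1 : ℕ∞) + 1 ≤ 1 := (add_le_add_left h1 1).trans h2
      exact absurd h3 (by decide)
    refine ⟨?_, hPeq⟩
    -- height of p
    have hpge : (1 : ℕ∞) ≤ p.height := by
      have hbotA : (⊥ : Ideal A).IsPrime := Ideal.isPrime_bot
      have := Ideal.height_add_one_le_of_lt_of_isPrime (I := (⊥ : Ideal A))
        (J := p) (bot_lt_iff_ne_bot.mpr hbot)
      simpa [Ideal.height_bot] using this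
    have hlies : P.LiesOver p := ⟨rfl⟩
    have hformula := Ideal.height_eq_height_add_of_liesOver_of_hasGoingDown p P
    rw [hP] at hformula
    apply le_antisymm _ hpge
    rw [hformula]
    exact le_self_add

end Groth.Agent.S10898
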