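import Groth.Statements.S10899
import Groth.Agent.S10898
import Groth.Agent.H54.PolyReg

set_option autoImplicit false
universe u
open Polynomial
open WDiv

namespace Groth.Agent.S10899

/-- Let A be a Noetherian integral domain which is regular in codimension 1, i.e. whose localization at
every prime ideal of height 1 is a discrete valuation ring. Then the polynomial ring A[X] is regular
in codimension 1 as well: its localization at every prime ideal of height 1 is a discrete valuation
ring. -/
theorem result (A : Type u) [CommRing A]
    [IsDomain A] [IsNoetherianRing A]
    (hR1 : ∀ (p : Ideal A) [p.IsPrime], p.height = 1 → IsDiscreteValuationRing (Localization.AtPrime p))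
    (P : Ideal A[X]) [P.IsPrime] (hP : P.height = 1) :
    IsDiscreteValuationRing (Localization.AtPrime P) := by
  have hq : (P.comap (C : A →+* A[X])).IsPrime := Ideal.comap_isPrime _ _
  have hreg : IsRegularRing (Localization.AtPrime (P.comap (C : A →+* A[X]))) := by
    rcases Groth.Agent.S10898.result A P hP with h | ⟨h, -⟩
    · let _ : Field (Localization.AtPrime (P.comap (C : A →+* A[X]))) := IsField.toField <| by
        simp [IsLocalRing.isField_iff_maximalIdeal_eq, ← Localization.AtPrime.map_eq_maximalIdeal, h]
      infer_instance
    · have := hR1 _ h
      infer_instance
  have hloc : IsRegularLocalRing (Localization.AtPrime P) :=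
    Groth.Agent.H54.isRegularLocalRing_localization_polynomial P
  have hdim : ringKrullDim (Localization.AtPrime P) = 1 := by
    rw [IsLocalization.AtPrime.ringKrullDim_eq_height P, hP]
    rfl
  exact Groth.Agent.H54.isDiscreteValuationRing_of_isRegularLocalRing_of_dim_one hdim

end Groth.Agent.S10899
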