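import Groth.Statements.S10902
import Mathlib
import Groth.Agent.H94.FibreDim
import Groth.Agent.H14.DimTrdeg

set_option autoImplicit false
universe u
open TensorProduct
open SmVar

namespace Groth.Agent.S10902

/-- Let k be a field and A a k-algebra of finite type (X = Spec A a k-scheme of finite type), P a prime
ideal of A, and suppose P contains a prime q with dim A/q ≥ n, i.e. the point P lies on an
irreducible component of X of dimension at least n. Then the fibre at P of the sheaf of
differentials of X over k has dimension at least n over the residue field: dim_{κ(P)} (κ(P) ⊗_A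
Ω_{A/k}) ≥ n. (The published statement asks every irreducible component of X to have dimension ≥ n
and concludes this at every point.) -/
theorem result (k : Type u) [Field k]
    (A : Type u) [CommRing A] [Algebra k A] [Algebra.FiniteType k A] (n : ℕ)
    (P : Ideal A) [P.IsPrime] (q : Ideal A) [q.IsPrime] (hqP : q ≤ P)
    (hq : (n : WithBot ℕ∞) ≤ ringKrullDim (A ⧸ q)) :
    n ≤ Module.finrank P.ResidueField (P.ResidueField ⊗[A] (Ω[A⁄k])) := by
  haveI : IsDomain (A ⧸ q) := Ideal.Quotient.isDomain q
  haveI : Algebra.FiniteType k (A ⧸ q) :=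
    Algebra.FiniteType.of_surjective (IsScalarTower.toAlgHom k A (A ⧸ q))
      Ideal.Quotient.mk_surjective
  obtain ⟨d, hd1, hd2, -⟩ := Groth.Agent.H14.ringKrullDim_eq_trdeg_of_finiteType_domain k (A ⧸ q)
  have hnd : n ≤ d := by
    rw [hd2] at hq
    exact_mod_cast hq
  let e : FractionRing (A ⧸ q) ≃ₐ[A ⧸ q] q.ResidueField :=
    FractionRing.algEquiv (A ⧸ q) q.ResidueField
  have htr : Algebra.trdeg k q.ResidueField = d := by
    rw [← hd1]
    exact (e.restrictScalars k).trdeg_eq.symm
  haveI : Algebra.EssFiniteType k q.ResidueField := Algebra.EssFiniteType.comp k A q.ResidueField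
  have h1 := Groth.Agent.H94.FibreDim.trdeg_le_finrank_kaehler k q.ResidueField
  rw [htr] at h1
  have h1' : d ≤ Module.finrank q.ResidueField Ω[q.ResidueField⁄k] := by exact_mod_cast h1
  have h2 := Groth.Agent.H94.FibreDim.finrank_kaehler_residueField_le k A q
  haveI : Module.Finite A Ω[A⁄k] := inferInstance
  have h3 := Groth.Agent.H94.FibreDim.finrank_fiber_le_of_le A Ω[A⁄k] q P hqP
  omega

end Groth.Agent.S10902
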