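import Groth.Statements.S10903
import Groth.Agent.S5671
import Groth.Agent.H54.Catenary
import Groth.Agent.H29.DimL3

set_option autoImplicit false
universe u
open CInt

namespace Groth.Agent.S10903

open IsLocalRing RingTheory.Sequence Groth.Agent.H29.CML MvPolynomial

section irrelevant

variable (k : Type u) [Field k] (σ : Type) 

/-- the irrelevant ideal is the kernel of the constant coefficient map -/
theorem idealOfVars_eq_ker :
    idealOfVars σ k = RingHom.ker (constantCoeff : MvPolynomial σ k →+* k) := by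
  ext p
  have h := mem_pow_idealOfVars_iff' (σ := σ) (R := k) 1 p
  rw [pow_one] at h
  rw [h, RingHom.mem_ker, constantCoeff_eq]
  constructor
  · intro hp
    exact hp 0 (by simp)
  · intro hp x hx
    have : x = 0 := by
      rw [Nat.lt_one_iff, Finsupp.degree_eq_zero_iff] at hx
      exact hx
    rw [this]
    exact hp

instance idealOfVars_isMaximal : (idealOfVars σ k).IsMaximal := by
  rw [idealOfVars_eq_ker]
  exact RingHom.ker_isMaximal_of_surjective _ (fun c => ⟨C c, by simp⟩)

end irrelevant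

section localpart

variable (R : Type u) [CommRing R] [IsRegularLocalRing R]

/-- for a prime `P`, `ht P + dim R/P ≤ dim R` -/
theorem height_add_le (P : Ideal R) [hP : P.IsPrime] :
    ((P.height : ℕ∞) : WithBot ℕ∞) + ringKrullDim (R ⧸ P) ≤ ringKrullDim R := by
  have h1 := ringKrullDim_quotient_eq_coheight (⟨P, hP⟩ : PrimeSpectrum R)
  simp only at h1
  rw [h1]
  have : Nonempty (PrimeSpectrum R) := ⟨⟨P, hP⟩⟩
  rw [ringKrullDim, Order.krullDim_eq_iSup_height_add_coheight_of_nonempty,
    ← WithBot.coe_add, WithBot.coe_le_coe,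
    PrimeSpectrum.height_eq_orderHeight (⟨P, hP⟩ : PrimeSpectrum R)]
  exact le_iSup (fun a : PrimeSpectrum R => Order.height a + Order.coheight a) ⟨P, hP⟩

theorem maximalIdeal_notMem_associatedPrimes (D : ℕ) (hD : ringKrullDim R = D) (fs : List R)
    (hmem : ∀ x ∈ fs, x ∈ maximalIdeal R) (hlt : fs.length < D)
    (hht : (fs.length : ℕ∞) ≤ (Ideal.ofList fs).height) :
    maximalIdeal R ∉ associatedPrimes R (R ⧸ (Ideal.ofList fs • ⊤ : Submodule R R)) := by
  have hCM := Groth.Agent.S5671.isCM_self R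
  have hRdim : Module.supportDim R R = D := by
    rw [Module.supportDim_self_eq_ringKrullDim, hD]
  obtain ⟨hnt, hge⟩ := Groth.Agent.H29.DimL.supportDim_le_supportDim_quotient_add_length R fs
    (by
      intro y hy
      rw [IsLocalRing.ringJacobson_eq_maximalIdeal]
      exact hmem y hy)
  obtain ⟨e, he⟩ := exists_nat_supportDim_eq (A := R)
    (R ⧸ (Ideal.ofList fs • ⊤ : Submodule R R))
  -- upper bound
  have hle : e + fs.length ≤ D := by
    obtain ⟨P, hPsupp, hPdim⟩ := Groth.Agent.H29.DimL.exists_mem_support_ringKrullDim_eq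
      (R ⧸ (Ideal.ofList fs • ⊤ : Submodule R R)) e (le_of_eq he)
    rw [he] at hPdim
    have hPle : Ideal.ofList fs ≤ P.asIdeal := by
      rw [Module.support_eq_zeroLocus, PrimeSpectrum.mem_zeroLocus] at hPsupp
      have h2 : (Ideal.ofList fs • ⊤ : Submodule R R) = Ideal.ofList fs := by
        rw [smul_eq_mul, Ideal.mul_top]
      rw [h2, Ideal.annihilator_quotient] at hPsupp
      exact hPsupp
    have h3 := height_add_le R P.asIdeal
    rw [hPdim, hD] at h3
    have h4 : (fs.length : ℕ∞) ≤ P.asIdeal.height := hht.trans (Ideal.height_mono hPle)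
    have h5 : ((fs.length : ℕ∞) : WithBot ℕ∞) + (e : WithBot ℕ∞) ≤ (D : WithBot ℕ∞) := by
      refine le_trans ?_ h3
      gcongr
      exact WithBot.coe_le_coe.mpr h4
    have h6 : ((fs.length + e : ℕ) : WithBot ℕ∞) ≤ (D : WithBot ℕ∞) := by
      push_cast
      exact h5
    have : fs.length + e ≤ D := by exact_mod_cast h6
    omega
  rw [hRdim, he] at hge
  have hge' : D ≤ e + fs.length := by exact_mod_cast hge
  have heq : Module.supportDim R (R ⧸ (Ideal.ofList fs • ⊤ : Submodule R R)) + fs.length =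
      Module.supportDim R R := by
    rw [hRdim, he]
    exact_mod_cast (by omega : e + fs.length = D)
  have hreg := isWeaklyRegular_of_supportDim_eq fs R hCM hmem heq
  have hCMq := isCM_quotient_of_isWeaklyRegular fs R hCM hmem hreg
  intro hass
  have h7 := depth_le_ringKrullDim_quotient (R ⧸ (Ideal.ofList fs • ⊤ : Submodule R R))
    (maximalIdeal R) hass
  unfold LocCoh.IsCohenMacaulayModule at hCMq
  rw [← hCMq, he] at h7
  have h8 : ringKrullDim (R ⧸ maximalIdeal R) = 0 := by
    letI : Field (R ⧸ maximalIdeal R) := Ideal.Quotient.field _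
    exact ringKrullDim_eq_zero_of_field _
  rw [h8] at h7
  have : e ≤ 0 := by exact_mod_cast h7
  omega

end localpart

theorem result (k : Type u) [Field k] (n r : ℕ)
    (hr : r ≤ n) (f : Fin r → MvPolynomial (Fin (n + 1)) k) (d : Fin r → ℕ)
    (hf : ∀ i, (f i).IsHomogeneous (d i)) (hd : ∀ i, 0 < d i)
    (hJ : (Ideal.span (Set.range f)).height = r) (g : MvPolynomial (Fin (n + 1)) k)
    (hg : ∀ i : Fin (n + 1), ∃ m : ℕ, MvPolynomial.X i ^ m * g ∈ Ideal.span (Set.range f)) :
    g ∈ Ideal.span (Set.range f) := by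
  classical
  set J := Ideal.span (Set.range f) with hJdef
  set 𝔪 := idealOfVars (Fin (n + 1)) k with h𝔪def
  by_contra hgJ
  -- `J ≤ 𝔪`
  have hJm : J ≤ 𝔪 := by
    rw [hJdef, Ideal.span_le]
    rintro _ ⟨i, rfl⟩
    rw [SetLike.mem_coe, h𝔪def, idealOfVars_eq_ker, RingHom.mem_ker, constantCoeff_eq]
    exact (hf i).coeff_eq_zero (by
      rw [map_zero]
      exact (hd i).ne)
  -- `𝔪` is an associated prime of `S/J`
  have hgne : (Ideal.Quotient.mk J g) ≠ 0 := by
    rwa [Ne, Ideal.Quotient.eq_zero_iff_mem]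
  obtain ⟨P, hPass, hPle⟩ := exists_le_isAssociatedPrime_of_isNoetherianRing
    (MvPolynomial (Fin (n + 1)) k) (Ideal.Quotient.mk J g) hgne
  have hPprime := hPass.isPrime
  have h𝔪P : 𝔪 ≤ P := by
    rw [h𝔪def, idealOfVars, Ideal.span_le]
    rintro _ ⟨i, rfl⟩
    obtain ⟨m, hm⟩ := hg i
    have : (X i : MvPolynomial (Fin (n + 1)) k) ^ m ∈ P := by
      apply hPle
      rw [Submodule.mem_colon_singleton, Submodule.mem_bot]
      change Ideal.Quotient.mk J (X i ^ m * g) = 0
      exact Ideal.Quotient.eq_zero_iff_mem.mpr hm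
    exact hPprime.mem_of_pow_mem m this
  have hP𝔪 : P = 𝔪 :=
    ((idealOfVars_isMaximal k (Fin (n + 1))).eq_of_le hPprime.ne_top h𝔪P).symm
  rw [hP𝔪, isAssociatedPrime_iff] at hPass
  obtain ⟨-, hbar, hcolon⟩ := hPass
  obtain ⟨h, rfl⟩ := Ideal.Quotient.mk_surjective hbar
  have hcol : ∀ a, a ∈ 𝔪 ↔ a * h ∈ J := by
    intro a
    rw [hcolon, Submodule.mem_colon_singleton, Submodule.mem_bot]
    change Ideal.Quotient.mk J (a * h) = 0 ↔ _
    rw [Ideal.Quotient.eq_zero_iff_mem]
  -- localize at `𝔪`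
  haveI : IsRegularLocalRing (Localization.AtPrime 𝔪) := inferInstance
  have hD : ringKrullDim (Localization.AtPrime 𝔪) = ((n + 1 : ℕ) : WithBot ℕ∞) := by
    rw [IsLocalization.AtPrime.ringKrullDim_eq_height 𝔪 (Localization.AtPrime 𝔪),
      Groth.Agent.H54.height_of_isMaximal_mvPolynomial k (n + 1) 𝔪]
    rfl
  set φ := algebraMap (MvPolynomial (Fin (n + 1)) k) (Localization.AtPrime 𝔪) with hφ
  set fs : List (Localization.AtPrime 𝔪) := List.ofFn (fun i => φ (f i)) with hfs
  have hofList : Ideal.ofList fs = J.map φ := by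
    rw [hfs, Groth.Agent.H29.DimL.ofList_ofFn, hJdef, Ideal.map_span, ← Set.range_comp]
    rfl
  have hlen : fs.length = r := by rw [hfs, List.length_ofFn]
  have hmem : ∀ x ∈ fs, x ∈ maximalIdeal (Localization.AtPrime 𝔪) := by
    intro x hx
    rw [hfs, List.mem_ofFn] at hx
    obtain ⟨i, rfl⟩ := hx
    exact (IsLocalization.AtPrime.to_map_mem_maximal_iff (Localization.AtPrime 𝔪) 𝔪 (f i)).mpr
      (hJm (Ideal.subset_span ⟨i, rfl⟩))
  have hht : (fs.length : ℕ∞) ≤ (Ideal.ofList fs).height := by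
    rw [hlen, hofList, ← IsLocalization.height_under 𝔪.primeCompl (J.map φ), ← hJ]
    exact Ideal.height_mono Ideal.le_comap_map
  refine maximalIdeal_notMem_associatedPrimes (Localization.AtPrime 𝔪) (n + 1) hD fs hmem
    (by rw [hlen]; omega) hht ?_
  rw [AssociatedPrimes.mem_iff, isAssociatedPrime_iff]
  refine ⟨inferInstance, Submodule.Quotient.mk (φ h), ?_⟩
  have hsub : (Ideal.ofList fs • ⊤ : Submodule (Localization.AtPrime 𝔪)
      (Localization.AtPrime 𝔪)) = J.map φ := by
    rw [smul_eq_mul, Ideal.mul_top, hofList]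
  have hle1 : maximalIdeal (Localization.AtPrime 𝔪) ≤
      (⊥ : Submodule (Localization.AtPrime 𝔪) (Localization.AtPrime 𝔪 ⧸
        (Ideal.ofList fs • ⊤ : Submodule (Localization.AtPrime 𝔪)
          (Localization.AtPrime 𝔪)))).colon {Submodule.Quotient.mk (φ h)} := by
    rw [← Localization.AtPrime.map_eq_maximalIdeal, Ideal.map_le_iff_le_comap]
    intro a ha
    rw [Ideal.mem_comap, Submodule.mem_colon_singleton, Submodule.mem_bot,
      ← Submodule.Quotient.mk_smul, Submodule.Quotient.mk_eq_zero, hsub, smul_eq_mul,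
      ← map_mul]
    exact Ideal.mem_map_of_mem _ ((hcol a).mp ha)
  have hne : (⊥ : Submodule (Localization.AtPrime 𝔪) (Localization.AtPrime 𝔪 ⧸
        (Ideal.ofList fs • ⊤ : Submodule (Localization.AtPrime 𝔪)
          (Localization.AtPrime 𝔪)))).colon {Submodule.Quotient.mk (φ h)} ≠ ⊤ := by
    intro htop
    have h1 : (1 : Localization.AtPrime 𝔪) ∈
        (⊥ : Submodule (Localization.AtPrime 𝔪) (Localization.AtPrime 𝔪 ⧸
        (Ideal.ofList fs • ⊤ : Submodule (Localization.AtPrime 𝔪)
          (Localization.AtPrime 𝔪)))).colon {Submodule.Quotient.mk (φ h)} := by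
      rw [htop]; trivial
    rw [Submodule.mem_colon_singleton, Submodule.mem_bot, one_smul,
      Submodule.Quotient.mk_eq_zero, hsub,
      IsLocalization.algebraMap_mem_map_algebraMap_iff 𝔪.primeCompl] at h1
    obtain ⟨s, hs, hsh⟩ := h1
    exact hs ((hcol s).mpr hsh)
  exact le_antisymm hle1 (le_maximalIdeal hne)

end Groth.Agent.S10903
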