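import Groth.Statements.S10909
import Mathlib
import Groth.Agent.H94.JacCrit
import Groth.Agent.Lead.RegularLocal

set_option autoImplicit false
universe u
open TensorProduct
open SmVar

namespace Groth.Agent.S10909

/-- Let k be an algebraically closed field and A a k-algebra of finite type with irreducible spectrum
(the nilradical of A is prime) and Krull dimension n; X = Spec A is then an irreducible separated
k-scheme of finite type of dimension n. Then X is a nonsingular variety — A is reduced and every
localization of A at a prime is a regular local ring — if and only if the module of Kähler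
differentials Ω_{A/k} is locally free of rank n: projective, with fibre κ(P) ⊗_A Ω_{A/k} of
dimension n at every prime P. -/
theorem result (k : Type u) [Field k]
    [IsAlgClosed k] (A : Type u) [CommRing A] [Algebra k A] [Algebra.FiniteType k A]
    (hirr : (nilradical A).IsPrime) (n : ℕ) (hn : ringKrullDim A = n) :
    (IsReduced A ∧ IsRegularRing A) ↔
      (Module.Projective A (Ω[A⁄k]) ∧
        ∀ (P : Ideal A) [P.IsPrime],
          Module.finrank P.ResidueField (P.ResidueField ⊗[A] Ω[A⁄k]) = n) := by
  haveI : IsNoetherianRing A := Algebra.FiniteType.isNoetherianRing k A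
  have hfp : Algebra.FinitePresentation k A :=
    Algebra.FinitePresentation.of_finiteType.mp inferInstance
  have hdim : ∀ (m : Ideal A) [m.IsMaximal], ringKrullDim (Localization.AtPrime m) = n :=
    fun m _ => by
      rw [Groth.Agent.H94.JacCrit.ringKrullDim_localization_of_isMaximal k A hirr m, hn]
  constructor
  · rintro ⟨hred, hreg⟩
    have hsm : Algebra.Smooth k A := Groth.Agent.H23.RegSmooth.smooth_of_isRegularRing k A
    haveI : Algebra.FormallySmooth k A := hsm.1
    have hproj : Module.Projective A Ω[A⁄k] := inferInstance
    refine ⟨hproj, ?_⟩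
    intro P hP
    obtain ⟨m, hm, hPm⟩ := Ideal.exists_le_maximal P hP.ne_top
    haveI := hm
    haveI : Module.Finite A Ω[A⁄k] := inferInstance
    have h1 : Module.finrank P.ResidueField (P.ResidueField ⊗[A] Ω[A⁄k]) =
        Module.rankAtStalk Ω[A⁄k] ⟨P, hP⟩ := Ideal.finrank_fiber_eq_rankAtStalk P
    have h2 : Module.finrank m.ResidueField (m.ResidueField ⊗[A] Ω[A⁄k]) =
        Module.rankAtStalk Ω[A⁄k] ⟨m, hm.isPrime⟩ := Ideal.finrank_fiber_eq_rankAtStalk m
    rw [h1, Module.rankAtStalk_eq_of_le_of_finite_of_flat' Ω[A⁄k] hPm, ← h2,
      Groth.Agent.H94.JacCrit.finrank_fiber_eq_finrank_cotangentSpace k A m]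
    have hregm : IsRegularLocalRing (Localization.AtPrime m) := inferInstance
    have h3 := (IsRegularLocalRing.iff_finrank_cotangentSpace _).mp hregm
    rw [hdim m] at h3
    exact_mod_cast h3
  · rintro ⟨hproj, hrank⟩
    have hregm : ∀ (m : Ideal A) [m.IsMaximal],
        IsRegularLocalRing (Localization.AtPrime m) := by
      intro m hm
      rw [IsRegularLocalRing.iff_finrank_cotangentSpace,
        ← Groth.Agent.H94.JacCrit.finrank_fiber_eq_finrank_cotangentSpace k A m, hrank m, hdim m]
    have hreg : IsRegularRing A := Groth.Agent.H29.RegCompl.isRegularRing_of_maximal A hregm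
    refine ⟨?_, hreg⟩
    apply isReduced_ofLocalizationMaximal
    intro m hm
    haveI := hregm m
    haveI : IsDomain (Localization.AtPrime m) := Groth.Agent.Lead.RLR.isDomain _
    infer_instance

end Groth.Agent.S10909
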