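import Groth.Statements.S10911
import Groth.Agent.H54.OrdOpenImm

set_option autoImplicit false
universe u
open CategoryTheory CategoryTheory.Limits AlgebraicGeometry TopologicalSpace
open WDiv

namespace Groth.Agent.S10911

/-- Let X be an integral Noetherian separated scheme which is regular in codimension 1 (local rings at
points of coheight 1 are discrete valuation rings), z a point of coheight 1 (generic point of a
prime divisor Z), and U the open subscheme complementary to the closure of z. Let D be a Weil
divisor on X, an integer-valued function on its points with finite support inside the points of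
coheight 1. If the restriction of D to U is the divisor of a nonzero rational function on U, then D
differs from an integer multiple of Z by a principal divisor on X: there are an integer m and a
nonzero rational function f on X with ord_z(f) = D(z) − m and ord_x(f) = D(x) for every other point
x of coheight 1. In other words, the sequence ℤ → Cl X → Cl(X − Z), whose first map sends m to the
class of m·Z and whose second map is restriction, is exact at Cl X. -/
theorem result (X : Scheme.{u}) [IsIntegral X]
    [IsNoetherian X] [X.IsSeparated]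
    (hR1 : ∀ x : ↥X, Order.coheight x = 1 → IsDiscreteValuationRing ↑(X.presheaf.stalk x))
    (z : ↥X) (hz : Order.coheight z = 1) (U : X.Opens) (hU : (U : Set ↥X) = (closure {z})ᶜ)
    [Nonempty U]
    (D : ↥X → ℤ) (hD : ∀ x, Order.coheight x ≠ 1 → D x = 0) (hfin : {x | D x ≠ 0}.Finite)
    (g : ↑(U : Scheme.{u}).functionField) (hg : g ≠ 0)
    (h : ∀ u : ↥(U : Scheme.{u}), Order.coheight u = 1 → Scheme.ord g u = D u.1) :
    ∃ (m : ℤ) (f : ↑X.functionField), f ≠ 0 ∧ Scheme.ord f z = D z - m ∧
      ∀ x : ↥X, x ≠ z → Order.coheight x = 1 → Scheme.ord f x = D x := by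
  have hinvmap : ∀ g : ↑(U : Scheme.{u}).functionField,
      (Groth.Agent.H54.WD.ffMap U.ι).hom ((inv (Groth.Agent.H54.WD.ffMap U.ι)).hom g) = g := by
    intro g
    have := congrArg (fun φ => φ.hom g) (IsIso.inv_hom_id (Groth.Agent.H54.WD.ffMap U.ι))
    exact this
  have hco : ∀ u : ↥(U : Scheme.{u}), Order.coheight (U.ι u) = Order.coheight u :=
    fun u => coheight_eq_of_isOpenImmersion U.ι
  have key : ∀ (g : ↑(U : Scheme.{u}).functionField),
      (∀ u : ↥(U : Scheme.{u}), Order.coheight u = 1 → Scheme.ord g u = D u.1) →
      ∀ x : ↥X, x ∈ U → Order.coheight x = 1 →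
        Scheme.ord ((inv (Groth.Agent.H54.WD.ffMap U.ι)).hom g) x = D x := by
    intro g h x hxU hx
    obtain ⟨u, hu⟩ : ∃ u : ↥(U : Scheme.{u}), U.ι u = x := ⟨⟨x, hxU⟩, rfl⟩
    have h1 := Groth.Agent.H54.WD.ord_ffMap U.ι u ((inv (Groth.Agent.H54.WD.ffMap U.ι)).hom g)
    rw [hinvmap g] at h1
    have h2 : Order.coheight u = 1 := by rw [← hco u, hu]; exact hx
    rw [h u h2, hu] at h1
    rw [← h1, ← hu]
    rfl
  have hf0 : (inv (Groth.Agent.H54.WD.ffMap U.ι)).hom g ≠ 0 := by
    intro h0
    apply hg
    rw [← hinvmap g, h0, map_zero]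
  refine ⟨D z - Scheme.ord ((inv (Groth.Agent.H54.WD.ffMap U.ι)).hom g) z,
    (inv (Groth.Agent.H54.WD.ffMap U.ι)).hom g, hf0, by ring, fun x hxz hx => ?_⟩
  have hxU : x ∈ U := by
    change x ∈ (U : Set ↥X)
    rw [hU]
    intro hxc
    -- z ⤳ x with both of coheight one forces x = z
    have hspec : z ⤳ x := specializes_iff_mem_closure.mpr hxc
    have hle : x ≤ z := hspec
    by_cases hzx : z ≤ x
    · have hspec' : x ⤳ z := hzx
      exact hxz (hspec'.antisymm hspec).eq
    · have hlt : x < z := lt_of_le_not_ge hle hzx
      have := Order.coheight_strictAnti hlt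
      rw [hx, hz] at this
      exact absurd (this ENat.one_lt_top) (lt_irrefl _)
  exact key g h x hxU hx

end Groth.Agent.S10911
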