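import Groth.Statements.S10912
import Groth.Agent.H54.OrdOpenImm

set_option autoImplicit false
universe u
open CategoryTheory CategoryTheory.Limits AlgebraicGeometry TopologicalSpace
open WDiv

namespace Groth.Agent.S10912

/-- Let X be an integral Noetherian separated scheme which is regular in codimension 1, and U a nonempty
open subscheme whose complement has codimension at least 2: every point not in U has coheight ≥ 2 in
the specialization order. Then restriction identifies the divisor class groups of X and U;
concretely, since all points of coheight 1 lie in U, a Weil divisor D on X (integer-valued function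
with finite support inside the coheight-1 points) is the divisor of a nonzero rational function on X
if and only if its restriction to U is the divisor of a nonzero rational function on U. -/
theorem result (X : Scheme.{u}) [IsIntegral X]
    [IsNoetherian X] [X.IsSeparated]
    (hR1 : ∀ x : ↥X, Order.coheight x = 1 → IsDiscreteValuationRing ↑(X.presheaf.stalk x))
    (U : X.Opens) [Nonempty U] (hcod : ∀ x : ↥X, x ∉ U → 2 ≤ Order.coheight x)
    (D : ↥X → ℤ) (hD : ∀ x, Order.coheight x ≠ 1 → D x = 0) (hfin : {x | D x ≠ 0}.Finite) :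
    (∃ f : ↑X.functionField, f ≠ 0 ∧ ∀ x : ↥X, Order.coheight x = 1 → Scheme.ord f x = D x) ↔
      ∃ g : ↑(U : Scheme.{u}).functionField, g ≠ 0 ∧
        ∀ u : ↥(U : Scheme.{u}), Order.coheight u = 1 → Scheme.ord g u = D u.1 := by
  have hinvmap : ∀ g : ↑(U : Scheme.{u}).functionField,
      (Groth.Agent.H54.WD.ffMap U.ι).hom ((inv (Groth.Agent.H54.WD.ffMap U.ι)).hom g) = g := by
    intro g
    have := congrArg (fun φ => φ.hom g) (IsIso.inv_hom_id (Groth.Agent.H54.WD.ffMap U.ι))
    exact this
  have hco : ∀ u : ↥(U : Scheme.{u}), Order.coheight (U.ι u) = Order.coheight u :=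
    fun u => coheight_eq_of_isOpenImmersion U.ι
  have key : ∀ (g : ↑(U : Scheme.{u}).functionField),
      (∀ u : ↥(U : Scheme.{u}), Order.coheight u = 1 → Scheme.ord g u = D u.1) →
      ∀ x : ↥X, x ∈ U → Order.coheight x = 1 →
        Scheme.ord ((inv (Groth.Agent.H54.WD.ffMap U.ι)).hom g) x = D x := by
    intro g h x hxU hx
    obtain ⟨u, hu⟩ : ∃ u : ↥(U : Scheme.{u}), U.ι u = x := ⟨⟨x, hxU⟩, rfl⟩
    have h1 := Groth.Agent.H54.WD.ord_ffMap U.ι u ((inv (Groth.Agent.H54.WD.ffMap U.ι)).hom g)
    rw [hinvmap g] at h1
    have h2 : Order.coheight u = 1 := by rw [← hco u, hu]; exact hx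
    rw [h u h2, hu] at h1
    rw [← h1, ← hu]
    rfl
  constructor
  · rintro ⟨f, hf, h⟩
    refine ⟨(Groth.Agent.H54.WD.ffMap U.ι).hom f, (map_ne_zero _).mpr hf, fun u hu => ?_⟩
    rw [Groth.Agent.H54.WD.ord_ffMap U.ι u f]
    exact h (U.ι u) ((hco u).trans hu)
  · rintro ⟨g, hg, h⟩
    refine ⟨(inv (Groth.Agent.H54.WD.ffMap U.ι)).hom g, ?_, fun x hx => ?_⟩
    · intro h0
      apply hg
      rw [← hinvmap g, h0, map_zero]
    · have hxU : x ∈ U := by
        by_contra hnot
        have := hcod x hnot
        rw [hx] at this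
        exact absurd this (by norm_num)
      exact key g h x hxU hx

end Groth.Agent.S10912
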