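import Groth.Statements.S10929
import Mathlib
import Groth.Agent.H39.GenericSmooth
import Groth.Agent.H39.GenericReduced

set_option autoImplicit false
universe u
open CategoryTheory CategoryTheory.Limits AlgebraicGeometry
open Variety

namespace Groth.Agent.S10929

/-- Let k be an algebraically closed field of characteristic zero, X and Y integral schemes of finite
type over k and f : X → Y a dominant k-morphism. Then there is a nonempty open subscheme U of X such
that f restricted to U is a smooth morphism U → Y. -/
theorem result (k : Type u) [Field k] [IsAlgClosed k] [CharZero k]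
    {X Y : Scheme.{u}} (qX : X ⟶ Spec (CommRingCat.of k)) (qY : Y ⟶ Spec (CommRingCat.of k))
    [LocallyOfFiniteType qX] [QuasiCompact qX] [LocallyOfFiniteType qY] [QuasiCompact qY]
    [IsIntegral X] [IsIntegral Y] (f : X ⟶ Y) (hf : f ≫ qY = qX) (hdom : DenseRange f.base) :
    ∃ U : X.Opens, (U : Set ↥X).Nonempty ∧ Smooth (U.ι ≫ f) := by
  have hflft : LocallyOfFiniteType f := by
    have : LocallyOfFiniteType (f ≫ qY) := hf ▸ inferInstance
    exact locallyOfFiniteType_of_comp f qY
  have hYN : IsLocallyNoetherian Y := LocallyOfFiniteType.isLocallyNoetherian qY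
  have hflfp : LocallyOfFinitePresentation f := inferInstance
  have : IsDominant f := ⟨hdom⟩
  have hη := Groth.Agent.H39.GenericReduced.map_genericPoint_of_isDominant f
  have hchar : CharZero Y.functionField := by
    let φ : k →+* Y.functionField :=
      (Y.presheaf.germ ⊤ (genericPoint Y) trivial).hom.comp
        (qY.appTop.hom.comp (Scheme.ΓSpecIso (.of k)).inv.hom)
    exact charZero_of_injective_ringHom φ.injective
  have : PerfectField Y.functionField := inferInstance
  have : IsRegularLocalRing (X.presheaf.stalk (genericPoint X)) :=
    inferInstanceAs (IsRegularLocalRing X.functionField)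
  have hξ := Groth.Agent.H39.GenericSmooth.mem_smoothLocus_of_map_eq_genericPoint f
    (genericPoint X) hη
  refine ⟨f.smoothLocus, ⟨_, hξ⟩, ?_⟩
  rw [← Scheme.Hom.smoothLocus_eq_top_iff, ← Scheme.Hom.preimage_smoothLocus_eq]
  ext x
  simp


end Groth.Agent.S10929
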