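import Groth.Statements.S10930
import Mathlib
import Groth.Agent.H39.GenericSmooth
import Groth.Agent.H47.SmoothLocusField

set_option autoImplicit false
universe u
open CategoryTheory CategoryTheory.Limits AlgebraicGeometry
open Variety

namespace Groth.Agent.S10930

/-- Let k be an algebraically closed field of characteristic zero, X and Y varieties over k (integral,
separated and of finite type over k) with X nonsingular, i.e. smooth over k, and f : X → Y a
k-morphism. Then there is a nonempty open subscheme V of Y such that the restriction f⁻¹(V) → V of f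
is smooth. -/
theorem result (k : Type u) [Field k] [IsAlgClosed k] [CharZero k]
    {X Y : Scheme.{u}} (qX : X ⟶ Spec (CommRingCat.of k)) (qY : Y ⟶ Spec (CommRingCat.of k))
    [LocallyOfFiniteType qX] [QuasiCompact qX] [IsSeparated qX] [Smooth qX]
    [LocallyOfFiniteType qY] [QuasiCompact qY] [IsSeparated qY]
    [IsIntegral X] [IsIntegral Y] (f : X ⟶ Y) (hf : f ≫ qY = qX) :
    ∃ V : Y.Opens, (V : Set ↥Y).Nonempty ∧ Smooth (f ∣_ V) := by
  have hflft : LocallyOfFiniteType f := by
    have : LocallyOfFiniteType (f ≫ qY) := hf ▸ inferInstance
    exact locallyOfFiniteType_of_comp f qY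
  have hYN : IsLocallyNoetherian Y := LocallyOfFiniteType.isLocallyNoetherian qY
  have hXN : IsLocallyNoetherian X := LocallyOfFiniteType.isLocallyNoetherian qX
  have hflfp : LocallyOfFinitePresentation f := inferInstance
  have hqc : QuasiCompact f := by
    have : QuasiCompact (f ≫ qY) := hf ▸ inferInstance
    exact QuasiCompact.of_comp f qY
  have hchar : CharZero Y.functionField := by
    let φ : k →+* Y.functionField :=
      (Y.presheaf.germ ⊤ (genericPoint Y) trivial).hom.comp
        (qY.appTop.hom.comp (Scheme.ΓSpecIso (.of k)).inv.hom)
    exact charZero_of_injective_ringHom φ.injective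
  have : PerfectField Y.functionField := inferInstance
  have hreg : ∀ x : X, IsRegularLocalRing (X.presheaf.stalk x) := by
    intro x
    rw [← Groth.Agent.H47.SLF.mem_smoothLocus_iff_isRegularLocalRing_of_perfectField k qX x,
      Scheme.Hom.smoothLocus_eq_top qX]
    trivial
  obtain ⟨V, hV, hsm⟩ :=
    Groth.Agent.H39.GenericSmooth.exists_dense_open_smooth_restrict X Y hreg f
  exact ⟨V, hV.nonempty, hsm⟩


end Groth.Agent.S10930
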