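import Groth.Statements.S10933
import Groth.Agent.Lead.RegularGlDim
import Groth.Agent.Lead.ExtRing

set_option autoImplicit false
universe u
open CategoryTheory
open CAlg

namespace Groth.Agent.S10933

/-- Let A be a (Noetherian) regular local ring, M a finitely generated A-module and d a natural number.
Then the projective dimension of M equals d if and only if Ext^j_A(M, A) = 0 for every j > d and
Ext^d_A(M, A) ≠ 0. (Projective dimension valued in WithBot ℕ∞, the zero module having projective
dimension ⊥.) -/
theorem result (A : Type u) [CommRing A] [IsRegularLocalRing A]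
    (M : Type u) [AddCommGroup M] [Module A M] [Module.Finite A M] (d : ℕ) :
    projectiveDimension (ModuleCat.of A M) = (d : WithBot ℕ∞) ↔
      ((∀ j : ℕ, d < j → Subsingleton (Abelian.Ext (ModuleCat.of A M) (ModuleCat.of A A) j)) ∧
        Nontrivial (Abelian.Ext (ModuleCat.of A M) (ModuleCat.of A A) d)) := by
  obtain ⟨n, hn, -⟩ := Groth.Agent.Lead.RLR.exists_ringKrullDim_eq A
  constructor
  · intro hpd
    have hlt : HasProjectiveDimensionLT (ModuleCat.of A M) (d + 1) :=
      (projectiveDimension_le_iff _ _).mp (le_of_eq hpd)
    refine ⟨fun j hj => HasProjectiveDimensionLT.subsingleton (ModuleCat.of A M) (d + 1) j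
      (by omega) _, ?_⟩
    by_contra hnt
    rw [not_nontrivial_iff_subsingleton] at hnt
    have h2 := Groth.Agent.Lead.ExtRing.hasProjectiveDimensionLT_of_ext_ring_subsingleton A M d
      hlt hnt
    have h3 : projectiveDimension (ModuleCat.of A M) < (d : WithBot ℕ∞) :=
      (projectiveDimension_lt_iff).mpr h2
    rw [hpd] at h3
    exact lt_irrefl _ h3
  · rintro ⟨hvan, hnt⟩
    have h0 : HasProjectiveDimensionLT (ModuleCat.of A M) (d + n + 1) := by
      have := Groth.Agent.Lead.RLR.hasProjectiveDimensionLT A n hn (ModuleCat.of A M)
      exact hasProjectiveDimensionLT_of_ge _ (n + 1) _ (by omega)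
    have h1 : HasProjectiveDimensionLT (ModuleCat.of A M) (d + 1) :=
      Groth.Agent.Lead.ExtRing.hasProjectiveDimensionLT_of_forall_ext_ring_subsingleton A M d
        hvan n h0
    apply le_antisymm ((projectiveDimension_le_iff _ _).mpr h1)
    rw [← not_lt]
    intro hlt
    have h2 : HasProjectiveDimensionLT (ModuleCat.of A M) d := (projectiveDimension_lt_iff).mp hlt
    have := HasProjectiveDimensionLT.subsingleton (ModuleCat.of A M) d d le_rfl (ModuleCat.of A A)
    exact not_subsingleton _ this

end Groth.Agent.S10933
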