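import Groth.Statements.S10944
import Mathlib

set_option autoImplicit false
universe u
open CategoryTheory AlgebraicGeometry
open FlatMor

namespace Groth.Agent.S10944

/-- Let f : X → Y be a flat morphism of Noetherian schemes and Y' an irreducible component of Y. Then
f⁻¹(Y') is the union of the irreducible components Z of X with f(Z) ⊆ Y'. -/
theorem result {X Y : Scheme.{u}}
    [IsNoetherian X] [IsNoetherian Y] (f : X ⟶ Y) [Flat f]
    (Y' : Set ↥Y) (hY' : Y' ∈ irreducibleComponents ↥Y) :
    f.base ⁻¹' Y' = ⋃₀ {Z : Set ↥X | Z ∈ irreducibleComponents ↥X ∧ f.base '' Z ⊆ Y'} := by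
  have hgen : GeneralizingMap f.base := Flat.generalizingMap f
  have hY'cl : IsClosed Y' := isClosed_of_mem_irreducibleComponents Y' hY'
  have hY'irr : IsIrreducible Y' := hY'.1
  apply Set.Subset.antisymm
  · intro x hx
    obtain ⟨η, hη⟩ := QuasiSober.sober hY'irr hY'cl
    have hηcl : closure {η} = Y' := hη
    have hspec : η ⤳ f.base x := by
      rw [specializes_iff_mem_closure, hηcl]
      exact hx
    obtain ⟨x', hx'x, hfx'⟩ := hgen hspec
    set Z := irreducibleComponent x' with hZ
    have hZmem : Z ∈ irreducibleComponents ↥X := irreducibleComponent_mem_irreducibleComponents x'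
    have hZcl : IsClosed Z := isClosed_irreducibleComponent
    have hZirr : IsIrreducible Z := isIrreducible_irreducibleComponent
    have hx'Z : x' ∈ Z := mem_irreducibleComponent
    have hxZ : x ∈ Z := by
      have : x ∈ closure {x'} := specializes_iff_mem_closure.mp hx'x
      exact (closure_minimal (Set.singleton_subset_iff.mpr hx'Z) hZcl) this
    obtain ⟨ξ, hξ⟩ := QuasiSober.sober hZirr hZcl
    have hξcl : closure {ξ} = Z := hξ
    have hξx' : ξ ⤳ x' := by
      rw [specializes_iff_mem_closure, hξcl]
      exact hx'Z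
    have hfξ : f.base ξ ⤳ η := by
      rw [← hfx']
      exact hξx'.map f.base.hom.continuous
    -- closure {f ξ} is irreducible and contains Y'
    have hsub : Y' ⊆ closure {f.base ξ} := by
      rw [← hηcl]
      exact closure_minimal (Set.singleton_subset_iff.mpr (specializes_iff_mem_closure.mp hfξ))
        isClosed_closure
    have hsub' : closure {f.base ξ} ⊆ Y' := hY'.2 isIrreducible_singleton.closure hsub
    have hfξY' : f.base ξ ∈ Y' := hsub' (subset_closure rfl)
    refine ⟨Z, ⟨hZmem, ?_⟩, hxZ⟩
    rw [← hξcl]
    refine (image_closure_subset_closure_image f.base.hom.continuous).trans ?_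
    rw [Set.image_singleton]
    exact hsub'
  · rintro x ⟨Z, ⟨-, hZ⟩, hxZ⟩
    exact hZ ⟨x, hxZ, rfl⟩

end Groth.Agent.S10944
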