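import Groth.Statements.S3584
import Groth.Agent.H18.TwistAmple

set_option autoImplicit false
universe u
open CategoryTheory CategoryTheory.Limits AlgebraicGeometry
open EGA2

namespace Groth.Agent.S3584

/-- Let S be a graded ring whose irrelevant ideal S_+ is generated by finitely many elements of degree
one. Then the twisting sheaf O_X(1) on X = Proj S is ample (X is quasi-compact and covered by the
affine non-vanishing loci of sections of the positive powers of O_X(1)). -/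
theorem result {R A : Type u} [CommRing R] [CommRing A] [Algebra R A] (𝒜 : ℕ → Submodule R A) [GradedAlgebra 𝒜]
    (s : Finset A) (hs1 : ∀ f ∈ s, f ∈ 𝒜 1)
    (hs : (HomogeneousIdeal.irrelevant 𝒜).toIdeal = Ideal.span (s : Set A)) :
    CohB1.IsAmple (Twist.twist 𝒜 1) := by
  classical
  have hcov : ∀ x : ProjectiveSpectrum 𝒜, ∃ f : A, f ∈ 𝒜 1 ∧ f ∉ x.asHomogeneousIdeal := by
    intro x
    by_contra hcon
    push Not at hcon
    apply x.not_irrelevant_le
    change (HomogeneousIdeal.irrelevant 𝒜).toIdeal ≤ x.asHomogeneousIdeal.toIdeal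
    rw [hs, Ideal.span_le]
    intro g hg
    by_contra hgx
    obtain ⟨j, hj, hjx⟩ : ∃ j ∈ s, j ∉ x.asHomogeneousIdeal := ⟨g, hg, hgx⟩
    exact hjx (hcon j (hs1 j hj))
  have hcov' : ∀ x : ProjectiveSpectrum 𝒜, ∃ f ∈ s, f ∉ x.asHomogeneousIdeal := by
    intro x
    by_contra hcon
    push Not at hcon
    apply x.not_irrelevant_le
    change (HomogeneousIdeal.irrelevant 𝒜).toIdeal ≤ x.asHomogeneousIdeal.toIdeal
    rw [hs, Ideal.span_le]
    intro g hg
    exact hcon g hg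
  refine ⟨Groth.Agent.H18.isInvertible_twist 𝒜 hcov 1, ?_, ?_⟩
  · constructor
    have hun : (Set.univ : Set (Proj 𝒜)) =
        ⋃ j : ↥s, ((Proj.basicOpen 𝒜 (j : A) : (Proj 𝒜).Opens) : Set (Proj 𝒜)) := by
      ext x
      simp only [Set.mem_univ, Set.mem_iUnion, true_iff]
      obtain ⟨f, hf, hfx⟩ := hcov' x
      exact ⟨⟨f, hf⟩, hfx⟩
    rw [hun]
    exact isCompact_iUnion (fun j =>
      (Proj.isAffineOpen_basicOpen 𝒜 (j : A) (hs1 j.1 j.2) one_pos).isCompact)
  · intro x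
    obtain ⟨f, hfs, hfx⟩ := hcov' x
    have hf : f ∈ 𝒜 1 := hs1 f hfs
    obtain ⟨e1⟩ := Groth.Agent.H18.nonempty_twist_iso_tensorPow 𝒜 hcov 1
    have e1' : Twist.twist 𝒜 1 ≅ CohB1.tensorPow (Twist.twist 𝒜 1) (0 + 1) := e1
    refine ⟨0, Groth.Agent.H18.sectionHom (Twist.twist 𝒜 1) (Groth.Agent.H18.secOne 𝒜 hf) ≫ e1'.hom, ?_⟩
    rw [Groth.Agent.H18.genLocus_comp_iso, Groth.Agent.H18.genLocus_sectionHom_secOne 𝒜 hf hcov]
    exact ⟨hfx, Proj.isAffineOpen_basicOpen 𝒜 f hf one_pos⟩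

end Groth.Agent.S3584
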