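import Groth.Statements.S10947
import Groth.Agent.H12.QAffAcyclic
import Groth.Agent.S1108
import Groth.Agent.S3584
import Groth.Agent.S9815
import Groth.Agent.H97.ProjNoeth
import Groth.Agent.H71.QCoh.ExactSections
import Groth.Agent.H67.FreeNearFinite
import Groth.Agent.Lead.Coh.ProjSpaceCover

set_option autoImplicit false
universe u
open CategoryTheory AlgebraicGeometry
open Coherent

namespace Groth.Agent.S10947

/-- Let k be a field and X a quasi-projective scheme over k, given with an immersion ι : X → P^N_k into
a projective space. If n is a natural number with H^i(X, E) = 0 for all finite locally free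
O_X-modules E and all i > n, then H^i(X, F) = 0 for all coherent O_X-modules F (quasi-coherent of
finite type) and all i > n. -/
theorem result
    (k : Type u) [Field k] (N : ℕ) {X : Scheme.{u}} (ι : X ⟶ CohB1.ProjSpace N k) [IsImmersion ι]
    (n : ℕ) (h : ∀ E : X.Modules, FlatMod.IsFinLocFree E → ∀ i : ℕ, n < i → Subsingleton (Coh.HH X E i))
    (F : X.Modules) (hF : Coh.IsCoh F) (i : ℕ) (hi : n < i) :
    Subsingleton (Coh.HH X F i) := by
  classical
  -- `X` is Noetherian
  have hP : IsNoetherian (CohB1.ProjSpace N k) :=
    Groth.Agent.H97.ProjNoeth.isNoetherian_proj (CohB1.polyGrading N k)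
  have hXln : IsLocallyNoetherian X := LocallyOfFiniteType.isLocallyNoetherian ι
  have hXc : CompactSpace X := by
    have hemb : Topology.IsEmbedding ι := ι.isEmbedding
    rw [← isCompact_univ_iff, hemb.isCompact_iff]
    exact TopologicalSpace.NoetherianSpace.isCompact _
  have hXqs : QuasiSeparatedSpace X := inferInstance
  -- `O(1)` is ample on projective space
  have hs : (HomogeneousIdeal.irrelevant (CohB1.polyGrading N k)).toIdeal =
      Ideal.span ((Finset.univ.image (MvPolynomial.X : Fin (N + 1) → MvPolynomial (Fin (N + 1)) k) :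
        Finset (MvPolynomial (Fin (N + 1)) k)) : Set (MvPolynomial (Fin (N + 1)) k)) := by
    apply le_antisymm
    · refine (Groth.Agent.Lead.Coh.irrelevant_le_span_X N k).trans ?_
      apply Ideal.span_mono
      rintro _ ⟨i, rfl⟩
      exact Finset.mem_coe.mpr (Finset.mem_image_of_mem _ (Finset.mem_univ i))
    · rw [Ideal.span_le]
      intro f hf
      obtain ⟨i, -, rfl⟩ := Finset.mem_image.mp (Finset.mem_coe.mp hf)
      change MvPolynomial.X i ∈ HomogeneousIdeal.irrelevant (CohB1.polyGrading N k)
      rw [HomogeneousIdeal.mem_irrelevant_iff, GradedRing.proj_apply,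
        DirectSum.decompose_of_mem_ne (CohB1.polyGrading N k)
          (show MvPolynomial.X i ∈ CohB1.polyGrading N k 1 from MvPolynomial.isHomogeneous_X k i)
          one_ne_zero]
  have hO1 : CohB1.IsAmple (Twist.twist (CohB1.polyGrading N k) 1) :=
    Groth.Agent.S3584.result (CohB1.polyGrading N k) _ (by
      intro f hf
      obtain ⟨i, -, rfl⟩ := Finset.mem_image.mp hf
      exact MvPolynomial.isHomogeneous_X k i) hs
  have hL : CohB1.IsAmple ((Scheme.Modules.pullback ι).obj (Twist.twist (CohB1.polyGrading N k) 1)) :=
    Groth.Agent.S9815.result ι ι.isEmbedding _ hO1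
  have hres : PerfAux.HasResolutionProperty X := Groth.Agent.S1108.result X _ hL
  -- descending induction
  obtain ⟨b, hb⟩ := Groth.Agent.H12.QAffAcyclic.exists_bound X
  have key : ∀ d p : ℕ, n < p → b ≤ p + d → ∀ (F : X.Modules), Coh.IsCoh F →
      Subsingleton (Coh.HH X F p) := by
    intro d
    induction d with
    | zero => intro p _ hp F hF; exact hb F hF.1 p hp
    | succ d ih =>
      intro p hp0 hp F hF
      obtain ⟨E, π, hE, hπ⟩ := hres F hF.1 hF.2
      have hEq : E.IsQuasicoherent :=
        Groth.Agent.H67.FreeNearFinite.isQuasicoherent_of_isFinLocFree E hE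
      have hEft : SheafOfModules.IsFiniteType (R := X.ringCatSheaf) E :=
        Groth.Agent.H71.QCoh.isFiniteType_of_isFinLocFree E hE
      have hFq : F.IsQuasicoherent := hF.1
      have hKq : (Limits.kernel π).IsQuasicoherent :=
        Groth.Agent.H12.QCohAbelian.isQuasicoherent_kernel π
      have hKft : SheafOfModules.IsFiniteType (R := X.ringCatSheaf) (Limits.kernel π) := by
        have hm : Mono (Limits.kernel.ι π) := inferInstance
        exact @Groth.Agent.H71.QCoh.isFiniteType_of_mono X hXln _ _ hKq hEq hEft (Limits.kernel.ι π) hm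
      have hS : (ShortComplex.mk (Limits.kernel.ι π) π (Limits.kernel.condition π)).ShortExact :=
        ShortComplex.ShortExact.mk' (ShortComplex.exact_kernel π) inferInstance hπ
      have h2 : Subsingleton (Coh.HH X E p) := h E hE p hp0
      have h1 : Subsingleton (Coh.HH X (Limits.kernel π) (p + 1)) :=
        ih (p + 1) (by omega) (by omega) _ ⟨hKq, hKft⟩
      exact Groth.Agent.H12.QAffAcyclic.subsingleton_HH_X₃_of_shortExact _ hS p h2 h1
  exact key b i hi (by omega) F hF

end Groth.Agent.S10947
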