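import Groth.Statements.S10948
import Groth.Agent.H67.YO4
import Groth.Agent.S0019

set_option autoImplicit false
universe u
open CategoryTheory AlgebraicGeometry
open Coherent

namespace Groth.Agent.S10948

/-- Let f : X → Y be a finite surjective morphism of integral Noetherian schemes. Then there are an
integer r ≥ 1, a coherent O_X-module M (quasi-coherent of finite type) and a morphism of O_Y-modules
α : O_Y^r → f_*M (O_Y^r the free O_Y-module on r generators) such that the map induced by α on
stalks of the underlying abelian sheaves at the generic point of Y is an isomorphism. -/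
theorem result
    {X Y : Scheme.{u}} [IsIntegral X] [IsNoetherian X] [IsIntegral Y] [IsNoetherian Y]
    (f : X ⟶ Y) [IsFinite f] [Surjective f] :
    ∃ (r : ℕ) (M : X.Modules) (α : (SheafOfModules.free (ULift.{u} (Fin r)) : Y.Modules) ⟶
        (Scheme.Modules.pushforward f).obj M),
      0 < r ∧ Coh.IsCoh M ∧
      IsIso ((TopCat.Presheaf.stalkFunctor AddCommGrpCat.{u} (genericPoint ↥Y)).map
        ((SheafOfModules.toSheaf Y.ringCatSheaf).map α).hom) := by
  classical
  open Groth.Agent.H67.Dev Groth.Agent.H67.YO CategoryTheory.Limits in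
  -- `f_* O_X` is coherent
  have hG : Coh.IsCoh (pushO f) :=
    Groth.Agent.S0019.result f (Coh.structureModule X)
      ⟨inferInstance, Groth.Agent.H67.Dev.isFiniteType_structureModule⟩
  haveI : (pushO f).IsQuasicoherent := hG.1
  haveI : SheafOfModules.IsFiniteType (R := Y.ringCatSheaf) (pushO f) := hG.2
  have hann : ∀ a ∈ IsLocalRing.maximalIdeal (Y.presheaf.stalk ((𝟙 Y : Y ⟶ Y) (genericPoint Y))),
      ∀ m : ↑((pushO f).presheaf.stalk ((𝟙 Y : Y ⟶ Y) (genericPoint Y))), a • m = 0 := by
    intro a ha m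
    have h0 : IsLocalRing.maximalIdeal Y.functionField = ⊥ := IsLocalRing.maximalIdeal_eq_bot
    have ha' : a ∈ IsLocalRing.maximalIdeal Y.functionField := ha
    rw [h0] at ha'
    have : a = 0 := ha'
    rw [this, zero_smul]
  obtain ⟨W, hW, hξ, r, e, hg⟩ := exists_goodOn (𝟙 Y) (pushO f) hann
  have hξ' : genericPoint Y ∈ W := hξ
  -- `r > 0`
  have hr : 0 < r := by
    rcases Nat.eq_zero_or_pos r with h0 | h0
    · exfalso
      subst h0
      obtain ⟨x, hx⟩ := Surjective.surj (f := f) (genericPoint Y)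
      haveI : Nonempty (f ⁻¹ᵁ W) := ⟨⟨x, by show f x ∈ W; rw [hx]; exact hξ'⟩⟩
      obtain ⟨c, hc⟩ := hg.span ((secE f W).symm 1)
      rw [Finset.univ_eq_empty, Finset.sum_empty] at hc
      have h1 : (1 : Γ(X, f ⁻¹ᵁ W)) = 0 := by
        have := congrArg (secE f W) hc
        rwa [AddEquiv.apply_symm_apply, map_zero] at this
      exact one_ne_zero h1
    · exact h0
  haveI : IsIso ((Rw W).map (α' f W e)) := isIso_restrict_α' f W e hW hg
  let j : (SheafOfModules.free (ULift.{u} (Fin r)) : Y.Modules) ≅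
      ∐ fun _ : Fin r => Coh.structureModule Y :=
    Sigma.reindex (Equiv.ulift : ULift.{u} (Fin r) ≃ Fin r) (fun _ : Fin r => Coh.structureModule Y)
  refine ⟨r, M f W e, j.hom ≫ α' f W e, hr, isCoh_M f W e, ?_⟩
  have h1 : IsIso ((TopCat.Presheaf.stalkFunctor AddCommGrpCat.{u} (genericPoint Y)).map
      ((Scheme.Modules.toPresheaf Y).map (α' f W e))) :=
    Groth.Agent.H33.LocCoh.isIso_stalk_map_of_isIso_restrict W.ι (α' f W e)
      (⟨genericPoint Y, hξ'⟩ : W)
  let Φ := Scheme.Modules.toPresheaf Y ⋙ TopCat.Presheaf.stalkFunctor AddCommGrpCat.{u} (genericPoint Y)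
  have h2 : IsIso (Φ.map (α' f W e)) := h1
  have h3 : IsIso (Φ.map (j.hom ≫ α' f W e)) := by
    rw [Functor.map_comp]
    exact IsIso.comp_isIso' (Functor.map_isIso Φ j.hom) h2
  exact h3

end Groth.Agent.S10948
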