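import Groth.Statements.S10955
import Groth.Agent.H25.JacobiZariski
import Mathlib.RingTheory.LocalRing.Module
import Mathlib.RingTheory.Etale.Kaehler
import Mathlib.RingTheory.Smooth.Locus

set_option autoImplicit false
universe u
open scoped TensorProduct
open Unram

namespace Groth.Agent.S10955
open TensorProduct KaehlerDifferential

/-- Let A → B → C be ring homomorphisms with B and C finitely presented over A, let q be a prime ideal
of C and p its inverse image in B, and assume that C is smooth over A at q and that B is smooth over
A at p. Then C is smooth over B at q if and only if the map obtained from the canonical map C ⊗_B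
Ω_{B/A} → Ω_{C/A} by tensoring over C with the residue field k(q) is injective. -/
theorem result (A B C : Type u) [CommRing A] [CommRing B]
    [CommRing C] [Algebra A B] [Algebra B C] [Algebra A C] [IsScalarTower A B C]
    [Algebra.FinitePresentation A B] [Algebra.FinitePresentation A C] (q : Ideal C) [q.IsPrime]
    (hC : Algebra.IsSmoothAt A q) (hB : Algebra.IsSmoothAt A (q.under B)) :
    Algebra.IsSmoothAt B q ↔
      Function.Injective ((KaehlerDifferential.mapBaseChange A B C).lTensor q.ResidueField) := by
  have hsm : Algebra.FormallySmooth A (Localization.AtPrime q) := hC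
  have hfin : Module.Finite (Localization.AtPrime q) Ω[Localization.AtPrime q⁄A] := inferInstance
  have hfree : Module.Free (Localization.AtPrime q) Ω[Localization.AtPrime q⁄A] :=
    Module.free_of_flat_of_isLocalRing
  have hfin2 : Module.Finite (Localization.AtPrime q) ((Localization.AtPrime q) ⊗[B] Ω[B⁄A]) :=
    inferInstance
  unfold Algebra.IsSmoothAt
  rw [Groth.Agent.H25.formallySmooth_iff_exists_retraction_mapBaseChange A B (Localization.AtPrime q),
    IsLocalRing.split_injective_iff_lTensor_residueField_injective]
  let e₁ : q.ResidueField ⊗[C] (C ⊗[B] Ω[B⁄A]) ≃ₗ[C] q.ResidueField ⊗[B] Ω[B⁄A] :=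
    AlgebraTensorModule.cancelBaseChange B C C q.ResidueField Ω[B⁄A]
  let e₁' : q.ResidueField ⊗[Localization.AtPrime q] ((Localization.AtPrime q) ⊗[B] Ω[B⁄A]) ≃ₗ[Localization.AtPrime q]
      q.ResidueField ⊗[B] Ω[B⁄A] :=
    AlgebraTensorModule.cancelBaseChange B (Localization.AtPrime q) (Localization.AtPrime q) q.ResidueField Ω[B⁄A]
  let e₂ : q.ResidueField ⊗[Localization.AtPrime q] ((Localization.AtPrime q) ⊗[C] Ω[C⁄A]) ≃ₗ[Localization.AtPrime q]
      q.ResidueField ⊗[C] Ω[C⁄A] :=
    AlgebraTensorModule.cancelBaseChange C (Localization.AtPrime q) (Localization.AtPrime q) q.ResidueField Ω[C⁄A]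
  let e₃ : (Localization.AtPrime q) ⊗[C] Ω[C⁄A] ≃ₗ[Localization.AtPrime q] Ω[Localization.AtPrime q⁄A] :=
    tensorKaehlerEquivOfFormallyEtale A C (Localization.AtPrime q)
  have key : ∀ x, (mapBaseChange A B (Localization.AtPrime q)).lTensor q.ResidueField x =
      (e₃.lTensor q.ResidueField) (e₂.symm ((mapBaseChange A B C).lTensor q.ResidueField
        (e₁.symm (e₁' x)))) := by
    intro x
    induction x using TensorProduct.induction_on with
    | zero => simp
    | add x y hx hy => simp only [map_add, hx, hy]
    | tmul k y =>
      induction y using TensorProduct.induction_on with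
      | zero => simp
      | add y z hy hz => simp only [TensorProduct.tmul_add, map_add, hy, hz]
      | tmul t ω =>
        simp only [LinearMap.lTensor_tmul, mapBaseChange_tmul, e₁, e₁', e₂, e₃,
          AlgebraTensorModule.cancelBaseChange_tmul, AlgebraTensorModule.cancelBaseChange_symm_tmul,
          LinearEquiv.lTensor_tmul, tensorKaehlerEquivOfFormallyEtale_apply, one_smul,
          Groth.Agent.H25.kaehler_map_map]
        rw [TensorProduct.tmul_smul, TensorProduct.smul_tmul']
  have hfun : ⇑((mapBaseChange A B (Localization.AtPrime q)).lTensor q.ResidueField) =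
      ⇑(e₃.lTensor q.ResidueField) ∘ ⇑e₂.symm ∘ ⇑((mapBaseChange A B C).lTensor q.ResidueField) ∘
        ⇑e₁.symm ∘ ⇑e₁' := funext key
  show Function.Injective ⇑((mapBaseChange A B (Localization.AtPrime q)).lTensor q.ResidueField) ↔ _
  rw [hfun, EquivLike.comp_injective, EquivLike.comp_injective, ← Function.comp_assoc,
    EquivLike.injective_comp, EquivLike.injective_comp]


end Groth.Agent.S10955
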