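import Groth.Statements.S10956

set_option autoImplicit false
universe u
open scoped TensorProduct
open CAlg

namespace Groth.Agent.S10956

/-- Let R be a commutative ring, A and B commutative R-algebras and T = A ⊗_R B, an A-algebra through
the left factor. There is a T-linear map r from Ω_{T/R} to T ⊗_A Ω_{A/R} sending d(a ⊗ b) to (1 ⊗ b)
⊗ da for all a in A and b in B, and together with the canonical map Ω_{T/R} → Ω_{T/A} it identifies
Ω_{T/R} with the product (T ⊗_A Ω_{A/R}) × Ω_{T/A}. (The published statement is the isomorphism of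
(Ω_{A/R} ⊗_R B) ⊕ (A ⊗_R Ω_{B/R}) with Ω_{T/R} matching the exterior differentials; it is stated
here through the canonical identifications T ⊗_A Ω_{A/R} = Ω_{A/R} ⊗_R B and Ω_{T/A} = A ⊗_R
Ω_{B/R}.) -/
theorem result (R A B : Type u) [CommRing R] [CommRing A] [CommRing B]
    [Algebra R A] [Algebra R B] :
    ∃ r : Ω[(A ⊗[R] B)⁄R] →ₗ[A ⊗[R] B] ((A ⊗[R] B) ⊗[A] Ω[A⁄R]),
      (∀ (a : A) (b : B), r (KaehlerDifferential.D R (A ⊗[R] B) (a ⊗ₜ[R] b)) =
          ((1 : A) ⊗ₜ[R] b) ⊗ₜ[A] KaehlerDifferential.D R A a) ∧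
        Function.Bijective (fun ω : Ω[(A ⊗[R] B)⁄R] =>
          (r ω, KaehlerDifferential.map R A (A ⊗[R] B) (A ⊗[R] B) ω)) := by
  classical
  -- the bilinear map `(a, b) ↦ (1 ⊗ b) ⊗ da`
  let β : A →ₗ[R] B →ₗ[R] ((A ⊗[R] B) ⊗[A] Ω[A⁄R]) :=
    LinearMap.mk₂ R (fun a b => (((1 : A) ⊗ₜ[R] b : A ⊗[R] B)) ⊗ₜ[A] KaehlerDifferential.D R A a)
      (by intro a a' b; rw [map_add, TensorProduct.tmul_add])
      (by
        intro c a b
        rw [Derivation.map_smul, TensorProduct.tmul_smul])
      (by intro a b b'; rw [TensorProduct.tmul_add, TensorProduct.add_tmul])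
      (by
        intro c a b
        rw [TensorProduct.tmul_smul]
        exact (TensorProduct.smul_tmul' _ _ _).symm)
  let D0 : (A ⊗[R] B) →ₗ[R] ((A ⊗[R] B) ⊗[A] Ω[A⁄R]) := TensorProduct.lift β
  have hD0 : ∀ a b, D0 (a ⊗ₜ[R] b) =
      (((1 : A) ⊗ₜ[R] b : A ⊗[R] B)) ⊗ₜ[A] KaehlerDifferential.D R A a := fun a b => rfl
  have hmove : ∀ (a : A) (t : A ⊗[R] B) (ω : Ω[A⁄R]),
      t ⊗ₜ[A] (a • ω) = ((a ⊗ₜ[R] (1 : B)) * t) ⊗ₜ[A] ω := by
    intro a t ω
    rw [TensorProduct.tmul_smul, TensorProduct.smul_tmul', Algebra.smul_def]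
    rfl
  have hleib : ∀ s t : A ⊗[R] B, D0 (s * t) = s • D0 t + t • D0 s := by
    intro s t
    induction s using TensorProduct.induction_on with
    | zero => simp
    | tmul a b =>
      induction t using TensorProduct.induction_on with
      | zero => simp
      | tmul a' b' =>
        rw [Algebra.TensorProduct.tmul_mul_tmul, hD0, hD0, hD0, Derivation.leibniz,
          TensorProduct.tmul_add, hmove, hmove, TensorProduct.smul_tmul', TensorProduct.smul_tmul',
          smul_eq_mul, smul_eq_mul, Algebra.TensorProduct.tmul_mul_tmul,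
          Algebra.TensorProduct.tmul_mul_tmul, Algebra.TensorProduct.tmul_mul_tmul,
          Algebra.TensorProduct.tmul_mul_tmul]
        simp only [mul_one, one_mul]
        rw [mul_comm b b']
      | add t t' ht ht' =>
        rw [mul_add, map_add, ht, ht', map_add, smul_add, add_smul]
        abel
    | add s s' hs hs' =>
      rw [add_mul, map_add, hs, hs', map_add, smul_add, add_smul]
      abel
  let D' : Derivation R (A ⊗[R] B) ((A ⊗[R] B) ⊗[A] Ω[A⁄R]) := Derivation.mk' D0 hleib
  let r : Ω[(A ⊗[R] B)⁄R] →ₗ[A ⊗[R] B] ((A ⊗[R] B) ⊗[A] Ω[A⁄R]) := D'.liftKaehlerDifferential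
  have hr : ∀ t, r (KaehlerDifferential.D R (A ⊗[R] B) t) = D0 t := fun t =>
    Derivation.liftKaehlerDifferential_comp_D D' t
  -- `r` is a retraction of `mapBaseChange`
  have hpure : ∀ (ω : Ω[A⁄R]) (t : A ⊗[R] B),
      r (KaehlerDifferential.mapBaseChange R A (A ⊗[R] B) (t ⊗ₜ[A] ω)) = t ⊗ₜ[A] ω := by
    intro ω
    have hω : ω ∈ Submodule.span A (Set.range (KaehlerDifferential.D R A)) := by
      rw [KaehlerDifferential.span_range_derivation]; trivial
    induction hω using Submodule.span_induction with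
    | mem ω h =>
      obtain ⟨a, rfl⟩ := h
      intro t
      rw [KaehlerDifferential.mapBaseChange_tmul, map_smul, KaehlerDifferential.map_D, hr]
      change t • D0 (a ⊗ₜ[R] (1 : B)) = _
      rw [hD0, TensorProduct.smul_tmul', smul_eq_mul]
      congr 1
      exact mul_one t
    | zero => intro t; simp
    | add ω ω' _ _ h h' =>
      intro t
      rw [TensorProduct.tmul_add, map_add, map_add, h, h']
    | smul a ω _ h =>
      intro t
      rw [hmove, h]
  have hretr : ∀ n : (A ⊗[R] B) ⊗[A] Ω[A⁄R],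
      r (KaehlerDifferential.mapBaseChange R A (A ⊗[R] B) n) = n := by
    intro n
    induction n using TensorProduct.induction_on with
    | zero => simp
    | tmul t ω => exact hpure ω t
    | add n n' hn hn' => rw [map_add, map_add, hn, hn']
  refine ⟨r, fun a b => by rw [hr, hD0], ?_, ?_⟩
  · -- injective
    intro ω ω' h
    have h1 : r ω = r ω' := congrArg Prod.fst h
    have h2 : KaehlerDifferential.map R A (A ⊗[R] B) (A ⊗[R] B) ω =
        KaehlerDifferential.map R A (A ⊗[R] B) (A ⊗[R] B) ω' := congrArg Prod.snd h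
    have h3 : KaehlerDifferential.map R A (A ⊗[R] B) (A ⊗[R] B) (ω - ω') = 0 := by
      rw [map_sub, h2, sub_self]
    obtain ⟨n, hn⟩ := (KaehlerDifferential.exact_mapBaseChange_map R A (A ⊗[R] B) _).1 h3
    have h4 : n = 0 := by
      rw [← hretr n, hn, map_sub, h1, sub_self]
    rw [h4, map_zero] at hn
    exact (sub_eq_zero.1 hn.symm)
  · -- surjective
    rintro ⟨n, m⟩
    obtain ⟨ω0, hω0⟩ := KaehlerDifferential.map_surjective R A (A ⊗[R] B) m
    refine ⟨ω0 + KaehlerDifferential.mapBaseChange R A (A ⊗[R] B) (n - r ω0), ?_⟩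
    have hz : KaehlerDifferential.map R A (A ⊗[R] B) (A ⊗[R] B)
        (KaehlerDifferential.mapBaseChange R A (A ⊗[R] B) (n - r ω0)) = 0 :=
      (KaehlerDifferential.exact_mapBaseChange_map R A (A ⊗[R] B) _).2 ⟨_, rfl⟩
    refine Prod.ext ?_ ?_
    · change r (ω0 + _) = n
      rw [map_add, hretr]
      abel
    · change KaehlerDifferential.map R A (A ⊗[R] B) (A ⊗[R] B) (ω0 + _) = m
      rw [map_add, hz, add_zero, hω0]

end Groth.Agent.S10956
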