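import Groth.Statements.S10975

set_option autoImplicit false
open FunFld

namespace Groth.Agent.S10975

/-- `A(D₁ ⊔ D₂) = A(D₁) + A(D₂)` for divisors of a function field of one variable. -/
theorem result (k K : Type*) [Field k] [Field K] [Algebra k K] (D₁ D₂ : FunFld.Divisor k K) :
    FunFld.AD (D₁ ⊔ D₂) = FunFld.AD D₁ ⊔ FunFld.AD D₂ := by
  classical
  apply le_antisymm
  · intro a ha
    rw [Submodule.mem_sup]
    refine ⟨fun P => if P.1 (a P) ≤ WithZero.exp (D₁ P) then a P else 0, ?_,
      fun P => if P.1 (a P) ≤ WithZero.exp (D₁ P) then 0 else a P, ?_, ?_⟩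
    · intro P
      show P.1 (if P.1 (a P) ≤ WithZero.exp (D₁ P) then a P else 0) ≤ _
      split_ifs with h
      · exact h
      · simp
    · intro P
      show P.1 (if P.1 (a P) ≤ WithZero.exp (D₁ P) then 0 else a P) ≤ _
      split_ifs with h
      · simp
      · have h2 : P.1 (a P) ≤ WithZero.exp ((D₁ ⊔ D₂) P) := ha P
        rw [Finsupp.sup_apply] at h2
        rcases le_total (D₁ P) (D₂ P) with h3 | h3
        · rwa [sup_eq_right.mpr h3] at h2
        · rw [sup_eq_left.mpr h3] at h2
          exact absurd h2 h
    · funext P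
      show (if P.1 (a P) ≤ WithZero.exp (D₁ P) then a P else 0) +
        (if P.1 (a P) ≤ WithZero.exp (D₁ P) then 0 else a P) = a P
      split_ifs <;> simp
  · apply sup_le
    · intro a ha P
      refine (ha P).trans ?_
      rw [WithZero.exp_le_exp, Finsupp.sup_apply]
      exact le_sup_left
    · intro a ha P
      refine (ha P).trans ?_
      rw [WithZero.exp_le_exp, Finsupp.sup_apply]
      exact le_sup_right

end Groth.Agent.S10975
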