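import Groth.Statements.S11014
import Groth.Agent.H62.FFHypGenus2
-- import your own Groth.Agent.* helpers here

set_option autoImplicit false
open FunFld

namespace Groth.Agent.S11014

/-- For `char k ≠ 2` and `K = k(x, y)` with `y² = f(x)`, `f` squarefree of degree `d ≥ 1`, the genus is
`(d - 2)/2` for `d` even and `(d - 1)/2` for `d` odd. -/
theorem result (k K : Type*) [Field k] [Field K] [Algebra k K]
    (hK : FunFld.IsFunctionField k K) (h2 : ringChar k ≠ 2) (x y : K) (hx : Transcendental k x)
    (hxy : IntermediateField.adjoin k ({x, y} : Set K) = ⊤)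
    (f : Polynomial k) (hf : Squarefree f) (hd : 1 ≤ f.natDegree)
    (heq : y ^ 2 = Polynomial.aeval x f) :
    FunFld.genus k K = (f.natDegree - 1) / 2 := by
  have h2k : (2 : k) ≠ 0 := by
    intro h0
    apply h2
    have hchar : CharP k 2 := by
      apply (CharP.charP_iff_prime_eq_zero Nat.prime_two).mpr
      exact_mod_cast h0
    exact (ringChar.eq k 2)
  have hy := Groth.Agent.H62.FFHypRepr.not_mem_adjoin hx hf hd heq
  have hdeg := Groth.Agent.H62.FFHypRepr.finrank_eq_two hxy hy heq
  exact Groth.Agent.H62.FFHypGenus.genus_eq hK hx hdeg hy hf heq h2k hd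

end Groth.Agent.S11014
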