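import Groth.Statements.S11017

set_option autoImplicit false
open FunFld

namespace Groth.Agent.S11017

theorem AD_le_adele {k K : Type*} [Field k] [Field K] [Algebra k K] (D : FunFld.Divisor k K) :
    FunFld.AD D ≤ FunFld.adele k K := by
  intro a ha
  show ∀ᶠ P : Place k K in Filter.cofinite, P.1 (a P) ≤ 1
  rw [Filter.eventually_cofinite]
  apply D.support.finite_toSet.subset
  intro P hP
  simp only [Set.mem_ofPred_eq] at hP
  simp only [Finset.mem_coe, Finsupp.mem_support_iff]
  intro h0
  apply hP
  have := ha P
  rwa [h0, WithZero.exp_zero] at this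

/-- For a Weil differential `ω` with divisor `C`, `ord_P [ω] ≥ e` iff `ω` kills every repartition
concentrated at `P` with `P`-component of order at least `-e`. -/
theorem result (k K : Type*) [Field k] [Field K] [Algebra k K] (ω : Module.Dual k (FunFld.adele k K)) (C : FunFld.Divisor k K) (hω : FunFld.IsDivOf ω C)
    (P : FunFld.Place k K) (e : ℤ) :
    e ≤ C P ↔ ∀ (a : FunFld.Place k K → K) (ha : a ∈ FunFld.adele k K),
      (∀ Q, Q ≠ P → a Q = 0) → P.1 (a P) ≤ WithZero.exp e → ω ⟨a, ha⟩ = 0 := by
  classical
  constructor
  · intro he a ha h0 hP
    have h1 : ω ∈ WD C := (hω C).mpr le_rfl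
    unfold FunFld.WD at h1
    rw [Submodule.mem_dualAnnihilator] at h1
    apply h1
    unfold FunFld.ADK
    rw [Submodule.mem_comap]
    apply Submodule.mem_sup_left
    intro Q
    show Q.1 (a Q) ≤ _
    by_cases hQ : Q = P
    · subst hQ
      exact hP.trans (WithZero.exp_le_exp.mpr he)
    · rw [h0 Q hQ]; simp
  · intro h
    have h1 : ω ∈ WD (C.update P e) := by
      unfold FunFld.WD
      rw [Submodule.mem_dualAnnihilator]
      intro a ha
      unfold FunFld.ADK at ha
      rw [Submodule.mem_comap, Submodule.mem_sup] at ha
      obtain ⟨b, hb, c, ⟨y, rfl⟩, hbc⟩ := ha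
      -- split b
      have hb' : Function.update b P 0 ∈ AD C := by
        intro Q
        by_cases hQ : Q = P
        · subst hQ; simp
        · rw [Function.update_of_ne hQ]
          have := hb Q
          rwa [Finsupp.coe_update, Function.update_of_ne hQ] at this
      have hb'' : (Pi.single P (b P) : Place k K → K) ∈ adele k K := by
        show ∀ᶠ Q : Place k K in Filter.cofinite, Q.1 ((Pi.single P (b P) : Place k K → K) Q) ≤ 1
        rw [Filter.eventually_cofinite]
        apply (Set.finite_singleton P).subset
        intro Q hQ
        simp only [Set.mem_ofPred_eq] at hQ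
        by_contra hne
        apply hQ
        rw [Pi.single_eq_of_ne hne]; simp
      have hbad : b ∈ adele k K := AD_le_adele _ hb
      have hdiag : diag k K y ∈ adele k K := by
        have : diag k K y = (adele k K).subtype a - b := by rw [← hbc]; simp
        rw [this]
        exact (adele k K).sub_mem a.2 hbad
      have hb'ad : Function.update b P 0 ∈ adele k K := AD_le_adele _ hb'
      have hsplit : a = ⟨Function.update b P 0 + diag k K y, (adele k K).add_mem hb'ad hdiag⟩ +
          ⟨Pi.single P (b P), hb''⟩ := by
        apply Subtype.ext
        show (adele k K).subtype a = Function.update b P 0 + diag k K y + Pi.single P (b P)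
        rw [← hbc]
        funext Q
        by_cases hQ : Q = P
        · subst hQ; simp [add_comm]
        · simp [Function.update_of_ne hQ, Pi.single_eq_of_ne hQ]
      rw [hsplit, map_add]
      have h2 : ω ∈ WD C := (hω C).mpr le_rfl
      unfold FunFld.WD at h2
      rw [Submodule.mem_dualAnnihilator] at h2
      rw [h2, zero_add]
      · apply h
        · intro Q hQ
          exact Pi.single_eq_of_ne hQ _
        · rw [Pi.single_eq_same]
          have := hb P
          rwa [Finsupp.coe_update, Function.update_self] at this
      · unfold FunFld.ADK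
        rw [Submodule.mem_comap]
        exact Submodule.add_mem _ (Submodule.mem_sup_left hb') (Submodule.mem_sup_right ⟨y, rfl⟩)
    have h2 := (hω _).mp h1 P
    rwa [Finsupp.coe_update, Function.update_self] at h2

end Groth.Agent.S11017
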