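import Groth.Statements.S11042
import Groth.Agent.H62.RH11
import Groth.Agent.H86.GM2
import Groth.Agent.H86.ZT17
-- import your own Groth.Agent.* helpers here

set_option autoImplicit false
open FunFld

namespace Groth.Agent.S11042

/-- A function field of one variable of genus `g` over a finite field with `q` elements has `N` places
of degree one with `|N - q - 1| ≤ 2 g √q`. -/
theorem result
    (k K : Type*) [Field k] [Finite k] [Field K] [Algebra k K]
    (hK : FunFld.IsFunctionField k K) :
    |(Nat.card {P : FunFld.Place k K // P.deg = 1} : ℝ) - (Nat.card k : ℝ) - 1| ≤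
      2 * (FunFld.genus k K : ℝ) * Real.sqrt (Nat.card k : ℝ) := by
  obtain ⟨α, -, hα, hpair⟩ := Groth.Agent.H86.Zeta.exists_reciprocal_roots hK
  have hnorm := Groth.Agent.H62.RH.norm_sq_of_model hK
    (Groth.Agent.H86.GeoModel.exists_geometric_model k K hK) α hα hpair
  exact Groth.Agent.H86.Zeta.hasse_weil_of_norm hK α hα hnorm

end Groth.Agent.S11042
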