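import Groth.Statements.S11043
import Groth.Agent.H27.RootsProd

set_option autoImplicit false
open FunFld

namespace Groth.Agent.S11043

/-- For positive integers `n`, `d` with `e = gcd(n, d)`, in `ℂ[t]` one has `(1 - t^{nd/e})^e = ∏_{θⁿ =
1} (1 - (θ t)^d)`, the product over the complex `n`-th roots of unity. -/
theorem result (n d : ℕ) (hn : 0 < n) (hd : 0 < d) :
    ((1 : Polynomial ℂ) - Polynomial.X ^ (n * d / Nat.gcd n d)) ^ Nat.gcd n d =
      ∏ θ ∈ Polynomial.nthRootsFinset n (1 : ℂ),
        (1 - Polynomial.C (θ ^ d) * Polynomial.X ^ d) := by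
  apply Polynomial.funext
  intro z
  have hζ := Complex.isPrimitiveRoot_exp n hn.ne'
  have key := Groth.Agent.H27.RootsProd.prod_one_sub_pow_mul hn hζ d hd (z ^ d)
  have hexp : n * d / Nat.gcd n d = d * (n / Nat.gcd n d) := by
    rw [mul_comm n d, Nat.mul_div_assoc d (Nat.gcd_dvd_left n d)]
  simp only [Polynomial.eval_pow, Polynomial.eval_sub, Polynomial.eval_one, Polynomial.eval_X,
    Polynomial.eval_prod, Polynomial.eval_mul, Polynomial.eval_C]
  rw [key, hexp, pow_mul]

end Groth.Agent.S11043
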