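import Groth.Statements.S11049
import Mathlib.LinearAlgebra.Dimension.RankNullity
import Mathlib.LinearAlgebra.Dimension.DivisionRing
import Mathlib.LinearAlgebra.Isomorphisms
import Mathlib.RingTheory.Finiteness.Finsupp
import Mathlib.LinearAlgebra.Dimension.Constructions
import Mathlib.RingTheory.Ideal.Span
import Mathlib.Algebra.Algebra.Bilinear

set_option autoImplicit false
open CAlg

namespace Groth.Agent.S11049

/-- For `k`-algebras `S ⊆ R` with `R` an integral domain and a nonzero `x ∈ S`, if `R/S` and `R/Rx` are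
finite-dimensional over `k` then `dim_k R/Rx = dim_k S/Sx`. (The published statement allows `x = 0`;
then `R` is a field finite over `k` and the two sides are `dim_k R` and `dim_k S`, which differ for
`S = k ⊊ R`; the published proof multiplies by `x` as an injection, so `x ≠ 0` is assumed here.) -/
theorem result
    (k R : Type*) [Field k] [CommRing R]
    [IsDomain R] [Algebra k R] (S : Subalgebra k R) (x : S) (hx : (x : R) ≠ 0)
    [Module.Finite k (R ⧸ Subalgebra.toSubmodule S)]
    [Module.Finite k (R ⧸ Ideal.span {(x : R)})] :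
    Module.finrank k (R ⧸ Ideal.span {(x : R)}) = Module.finrank k (S ⧸ Ideal.span {x}) := by
  classical
  set U : Submodule k R := Subalgebra.toSubmodule S with hU
  let mx : R →ₗ[k] R := LinearMap.mulLeft k (x : R)
  have hmx : ∀ r, mx r = (x : R) * r := fun r => rfl
  let xS : Submodule k R := U.map mx
  have hxS_le : xS ≤ U := by
    rintro _ ⟨s, hs, rfl⟩
    exact S.mul_mem x.2 hs
  let π : R →ₗ[k] (R ⧸ xS) := xS.mkQ
  have hπ : ∀ r, π r = 0 ↔ r ∈ xS := fun r => Submodule.Quotient.mk_eq_zero xS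
  let f : R →ₗ[k] (R ⧸ xS) := π ∘ₗ mx
  have hfker : LinearMap.ker f = U := by
    ext r
    rw [LinearMap.mem_ker, LinearMap.comp_apply, hπ]
    constructor
    · rintro ⟨s, hs, hsr⟩
      rw [hmx, hmx] at hsr
      rw [← mul_left_cancel₀ hx hsr]
      exact hs
    · intro hr
      exact ⟨r, hr, rfl⟩
  let g : S →ₗ[k] (R ⧸ xS) := π ∘ₗ S.val.toLinearMap
  have hgker : LinearMap.ker g = (Ideal.span {x}).restrictScalars k := by
    ext s
    rw [LinearMap.mem_ker, LinearMap.comp_apply, hπ, Submodule.restrictScalars_mem,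
      Ideal.mem_span_singleton']
    constructor
    · rintro ⟨t, ht, hts⟩
      refine ⟨⟨t, ht⟩, ?_⟩
      apply Subtype.ext
      rw [mul_comm]
      exact hts
    · rintro ⟨t, rfl⟩
      refine ⟨t, t.2, ?_⟩
      rw [hmx, mul_comm]
      rfl
  -- first iso: range f ≃ R ⧸ U
  have e1 : (R ⧸ U) ≃ₗ[k] LinearMap.range f :=
    (Submodule.quotEquivOfEq _ _ hfker.symm).trans f.quotKerEquivRange
  -- V ⧸ range f ≃ R ⧸ xR
  let qf : R →ₗ[k] ((R ⧸ xS) ⧸ LinearMap.range f) := (LinearMap.range f).mkQ ∘ₗ π
  have hqf_surj : Function.Surjective qf :=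
    (Submodule.mkQ_surjective _).comp (Submodule.mkQ_surjective _)
  have hqf_ker : LinearMap.ker qf = (Ideal.span {(x : R)}).restrictScalars k := by
    ext r
    rw [LinearMap.mem_ker, LinearMap.comp_apply, Submodule.mkQ_apply,
      Submodule.Quotient.mk_eq_zero, Submodule.restrictScalars_mem, Ideal.mem_span_singleton']
    constructor
    · rintro ⟨r', hr'⟩
      have h1 : π (mx r' - r) = 0 := by
        rw [map_sub, sub_eq_zero]; exact hr'
      rw [hπ] at h1
      obtain ⟨s, hs, hs'⟩ := h1
      rw [hmx, hmx] at hs'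
      refine ⟨r' - s, ?_⟩
      rw [mul_comm, mul_sub, hs']
      ring
    · rintro ⟨t, rfl⟩
      refine ⟨t, ?_⟩
      change π (mx t) = π (t * x)
      rw [hmx, mul_comm]
  have e2 : (R ⧸ Ideal.span {(x : R)}) ≃ₗ[k] ((R ⧸ xS) ⧸ LinearMap.range f) :=
    ((Submodule.Quotient.restrictScalarsEquiv k (Ideal.span {(x : R)})).symm.trans
      (Submodule.quotEquivOfEq _ _ hqf_ker.symm)).trans (qf.quotKerEquivOfSurjective hqf_surj)
  -- V ⧸ range g ≃ R ⧸ U
  let qg : R →ₗ[k] ((R ⧸ xS) ⧸ LinearMap.range g) := (LinearMap.range g).mkQ ∘ₗ π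
  have hqg_surj : Function.Surjective qg :=
    (Submodule.mkQ_surjective _).comp (Submodule.mkQ_surjective _)
  have hqg_ker : LinearMap.ker qg = U := by
    ext r
    rw [LinearMap.mem_ker, LinearMap.comp_apply, Submodule.mkQ_apply,
      Submodule.Quotient.mk_eq_zero]
    constructor
    · rintro ⟨s, hs⟩
      have h1 : π ((s : R) - r) = 0 := by
        rw [map_sub, sub_eq_zero]; exact hs
      rw [hπ] at h1
      have h2 : (s : R) - r ∈ U := hxS_le h1
      have h3 : r = (s : R) - ((s : R) - r) := by ring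
      rw [h3]
      exact U.sub_mem s.2 h2
    · intro hr
      exact ⟨⟨r, hr⟩, rfl⟩
  have e3 : (R ⧸ U) ≃ₗ[k] ((R ⧸ xS) ⧸ LinearMap.range g) :=
    (Submodule.quotEquivOfEq _ _ hqg_ker.symm).trans (qg.quotKerEquivOfSurjective hqg_surj)
  -- S ⧸ (x) ≃ range g
  have e4 : (S ⧸ Ideal.span {x}) ≃ₗ[k] LinearMap.range g :=
    ((Submodule.Quotient.restrictScalarsEquiv k (Ideal.span {x})).symm.trans
      (Submodule.quotEquivOfEq _ _ hgker.symm)).trans g.quotKerEquivRange
  -- finiteness
  have : Module.Finite k (LinearMap.range f) := Module.Finite.equiv e1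
  have : Module.Finite k ((R ⧸ xS) ⧸ LinearMap.range f) := Module.Finite.equiv e2
  have : Module.Finite k (R ⧸ xS) := Module.Finite.of_submodule_quotient (LinearMap.range f)
  have h1 := (LinearMap.range f).finrank_quotient_add_finrank
  have h2 := (LinearMap.range g).finrank_quotient_add_finrank
  rw [← e1.finrank_eq, ← e2.finrank_eq] at h1
  rw [← e3.finrank_eq, ← e4.finrank_eq] at h2
  omega

end Groth.Agent.S11049
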