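import Groth.Statements.S11060
import Groth.Agent.H55.FFNS7

set_option autoImplicit false
open FunFld

namespace Groth.Agent.S11060

/-- Over an algebraically closed constant field, a function field of genus `g` with a nonsingular plane
model has `g` a triangular number. Here a projective map is nonsingular at a place when its local
ring there (quotients of polynomials over `k` in the ratios `φᵢ/φⱼ`, `φⱼ` of least order at the
place, with denominator a unit there) is the whole valuation ring. -/
theorem result
    (k K : Type*) [Field k] [IsAlgClosed k] [Field K] [Algebra k K]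
    (hK : FunFld.IsFunctionField k K)
    (h : ∃ x y : K, IntermediateField.adjoin k ({x, y} : Set K) = ⊤ ∧
      ∀ P : FunFld.Place k K, FunFld.IsNonsingularAt ![(1 : K), x, y] P) :
    ∃ m : ℕ, 2 * FunFld.genus k K = m * (m + 1) := by
  obtain ⟨x, y, hxy, hns⟩ := h
  have h1 := (Groth.Agent.H55.plane_nonsingular_iff hK x y hxy).mpr hns
  set d := (FunFld.mapDiv k ![(1 : K), x, y]).deg with hd
  rcases le_or_gt 2 d with h2 | h2
  · refine ⟨(d - 2).toNat, ?_⟩
    have h3 : ((d - 2).toNat : ℤ) = d - 2 := Int.toNat_of_nonneg (by omega)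
    have : ((2 * FunFld.genus k K : ℕ) : ℤ) = (((d - 2).toNat * ((d - 2).toNat + 1) : ℕ) : ℤ) := by
      push_cast
      rw [h3, h1]; ring
    exact_mod_cast this
  · -- d ≤ 1: then (d-1)(d-2) = 2g ≥ 0
    have hg0 : (0 : ℤ) ≤ FunFld.genus k K := by positivity
    refine ⟨(1 - d).toNat, ?_⟩
    have h3 : ((1 - d).toNat : ℤ) = 1 - d := Int.toNat_of_nonneg (by omega)
    have : ((2 * FunFld.genus k K : ℕ) : ℤ) = (((1 - d).toNat * ((1 - d).toNat + 1) : ℕ) : ℤ) := by
      push_cast
      rw [h3, h1]; ring
    exact_mod_cast this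

end Groth.Agent.S11060
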