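import Groth.Statements.S11074
import Groth.Agent.H86.HS15

set_option autoImplicit false
open FunFld Groth.Agent.H86

namespace Groth.Agent.S11074

/-- Over an algebraically closed constant field, at a nonsingular point `a = φ(P)` of a plane curve
`V(f)` with birational natural map `φ = (φ₀ : φ₁ : φ₂)`, the tangent line is `(∂f/∂X₀(a) : ∂f/∂X₁(a)
: ∂f/∂X₂(a))`: the corresponding linear form, pulled back along `φ` normalized at `P`, vanishes to
order at least `2` at `P` (the tangent line being the one line whose pullback vanishes to order `≥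
2`). Nonsingular at `P` means that the local ring of `φ` at `P` (quotients of polynomials over `k`
in the `φᵢ/φⱼ`, `φⱼ` of least order at `P`, denominator a unit at `P`) is the whole valuation ring. -/
theorem result
    (k K : Type*) [Field k] [IsAlgClosed k] [Field K] [Algebra k K]
    (hK : FunFld.IsFunctionField k K) (φ : Fin 3 → K) (hφ : LinearIndependent k φ)
    (hbir : IntermediateField.adjoin k (Set.range fun i => φ i / φ 0) = ⊤)
    (f : MvPolynomial (Fin 3) k) (hf : Irreducible f) (hhom : f.IsHomogeneous f.totalDegree)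
    (hfφ : MvPolynomial.aeval φ f = 0) (P : FunFld.Place k K) (j : Fin 3)
    (hj : ∀ i, P.1 (φ i) ≤ P.1 (φ j)) (hns : FunFld.IsNonsingularAt φ P) (a : Fin 3 → P.O)
    (ha : ∀ i, ((a i : P.O) : K) = φ i / φ j) (c : Fin 3 → k)
    (hc : ∀ i, algebraMap k (IsLocalRing.ResidueField P.O) (c i) =
      MvPolynomial.aeval (fun l => IsLocalRing.residue P.O (a l)) (MvPolynomial.pderiv i f)) :
    P.1 (∑ i, c i • (φ i / φ j)) ≤ WithZero.exp (-2) := by
  have hφj : φ j ≠ 0 := hφ.ne_zero j
  -- `f` vanishes at the affine coordinates
  have hfa : MvPolynomial.aeval a f = 0 := by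
    apply Subtype.ext
    have h1 : ((MvPolynomial.aeval a f : P.O) : K) =
        MvPolynomial.aeval (fun i => ((a i : P.O) : K)) f := by
      have := MvPolynomial.aeval_algebraMap_apply (R := k) (A := P.O) (B := K) a f
      exact this.symm
    rw [h1]
    have h2 : (fun i => ((a i : P.O) : K)) = fun i => (φ j)⁻¹ * φ i := by
      funext i
      rw [ha i]; field_simp
    rw [h2, Groth.Agent.H63.CoordChange.aeval_smul_of_isHomogeneous hhom, hfφ, mul_zero]
    rfl
  have h := FF.tangent_form_val hK f hhom P a hfa c hc
  have h3 : ((∑ i, c i • a i : P.O) : K) = ∑ i, c i • (φ i / φ j) := by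
    rw [← Subring.coe_subtype, map_sum]
    apply Finset.sum_congr rfl
    intro i _
    rw [← ha i, Algebra.smul_def, Algebra.smul_def, map_mul]
    rfl
  rw [← h3]
  exact h

end Groth.Agent.S11074
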