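import Groth.Statements.S11079
import Groth.Agent.H79.GalDescent

set_option autoImplicit false
universe u
open CAlg

namespace Groth.Agent.S11079

/-- Let L/K be a finite Galois extension of fields, n a natural number, and B a map from the Galois
group of L over K to the invertible n × n matrices over L such that B(σ) · σ(B(τ)) = B(στ) for all
σ, τ, where σ acts on matrices entrywise and στ is the automorphism applying τ first. Then there is
an invertible matrix A over L with B(σ) = A⁻¹ · σ(A) for every σ; that is, every 1-cocycle of the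
Galois group with values in GL_n(L) is a coboundary. -/
theorem result (K L : Type u) [Field K] [Field L]
    [Algebra K L] [FiniteDimensional K L] [IsGalois K L] (n : ℕ)
    (B : (L ≃ₐ[K] L) → GL (Fin n) L)
    (hB : ∀ σ τ : L ≃ₐ[K] L,
      (B σ : Matrix (Fin n) (Fin n) L) * (B τ : Matrix (Fin n) (Fin n) L).map σ = (B (σ * τ) : Matrix (Fin n) (Fin n) L)) :
    ∃ A : GL (Fin n) L, ∀ σ : L ≃ₐ[K] L,
      (B σ : Matrix (Fin n) (Fin n) L) = ((A⁻¹ : GL (Fin n) L) : Matrix (Fin n) (Fin n) L) * (A : Matrix (Fin n) (Fin n) L).map σ := by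
  classical
  -- the twisted semilinear action on `L^n`
  let ρ : (L ≃ₐ[K] L) → (Fin n → L) → (Fin n → L) := fun σ x =>
    (B σ : Matrix (Fin n) (Fin n) L).mulVec (fun i => σ (x i))
  have hadd : ∀ σ x y, ρ σ (x + y) = ρ σ x + ρ σ y := by
    intro σ x y
    simp only [ρ]
    rw [← Matrix.mulVec_add]
    congr 1
    funext i
    simp
  have hsmul : ∀ σ (c : L) x, ρ σ (c • x) = σ c • ρ σ x := by
    intro σ c x
    simp only [ρ]
    rw [← Matrix.mulVec_smul]
    congr 1
    funext i
    simp
  have hB1 : (B 1 : Matrix (Fin n) (Fin n) L) = 1 := by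
    have h := hB 1 1
    have hmap : ((B 1 : Matrix (Fin n) (Fin n) L).map (1 : L ≃ₐ[K] L)) = (B 1 : Matrix (Fin n) (Fin n) L) := by
      ext i j; simp
    rw [hmap, mul_one] at h
    have h2 : (B 1 * B 1 : GL (Fin n) L) = B 1 := by
      ext i j
      simpa using congrFun (congrFun h i) j
    have h3 : (B 1 : GL (Fin n) L) = 1 := by
      simpa using h2
    rw [h3]; rfl
  have hone : ∀ x, ρ 1 x = x := by
    intro x
    simp only [ρ]
    rw [hB1]
    simp
  have hmul : ∀ σ τ x, ρ σ (ρ τ x) = ρ (σ * τ) x := by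
    intro σ τ x
    simp only [ρ]
    rw [← hB σ τ, ← Matrix.mulVec_mulVec]
    congr 1
    funext i
    simp only [Matrix.mulVec, dotProduct, map_sum, map_mul, Matrix.map_apply, AlgEquiv.mul_apply]
  -- fixed vectors
  let W : Submodule K (Fin n → L) :=
    { carrier := {x | ∀ σ, ρ σ x = x}
      add_mem' := by
        intro x y hx hy σ
        rw [hadd, hx σ, hy σ]
      zero_mem' := by
        intro σ
        exact Groth.Agent.H79.rho_zero ρ hadd σ
      smul_mem' := by
        intro c x hx σ
        rw [← algebraMap_smul L c x, hsmul, hx σ]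
        simp }
  have hsurj : Function.Surjective (W.subtype.liftBaseChange L) := by
    apply Groth.Agent.H79.descent_surjective ρ hadd hsmul hone hmul
    intro x hx
    exact ⟨⟨x, hx⟩, rfl⟩
  have hspan : Submodule.span L (W : Set (Fin n → L)) = ⊤ := by
    rw [eq_top_iff]
    intro x _
    obtain ⟨t, rfl⟩ := hsurj x
    clear * - t
    induction t using TensorProduct.induction_on with
    | zero => simp
    | tmul c w =>
      rw [LinearMap.liftBaseChange_tmul]
      exact Submodule.smul_mem _ _ (Submodule.subset_span w.2)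
    | add t t' ht ht' =>
      rw [map_add]
      exact Submodule.add_mem _ ht ht'
  obtain ⟨b, hbW, hbspan, hbli⟩ := exists_linearIndependent L (W : Set (Fin n → L))
  have hbfin : b.Finite := hbli.setFinite
  have : Fintype b := hbfin.fintype
  let bas : Module.Basis b L (Fin n → L) := Module.Basis.mk hbli (by
    rw [Subtype.range_coe, hbspan, hspan])
  have hcard : Fintype.card b = n := by
    rw [← Module.finrank_eq_card_basis bas]
    simp
  let e : b ≃ Fin n := Fintype.equivFinOfCardEq hcard
  let bas' : Module.Basis (Fin n) L (Fin n → L) := bas.reindex e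
  let P : Matrix (Fin n) (Fin n) L := (Pi.basisFun L (Fin n)).toMatrix bas'
  have hPij : ∀ i j, P i j = ((e.symm j : b) : Fin n → L) i := by
    intro i j
    simp [P, bas', bas, Module.Basis.toMatrix_apply]
  have hPinv : Invertible P := (Pi.basisFun L (Fin n)).invertibleToMatrix bas'
  have hfix : ∀ σ : L ≃ₐ[K] L, (B σ : Matrix (Fin n) (Fin n) L) * P.map σ = P := by
    intro σ
    ext i j
    have hmem : ((e.symm j : b) : Fin n → L) ∈ W := hbW (e.symm j).2
    have h := congrFun (hmem σ) i
    rw [hPij, ← h]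
    simp only [ρ, Matrix.mul_apply, Matrix.mulVec, dotProduct, Matrix.map_apply, hPij]
  let A : GL (Fin n) L := ⟨P⁻¹, P, Matrix.inv_mul_of_invertible P, Matrix.mul_inv_of_invertible P⟩
  refine ⟨A, fun σ => ?_⟩
  have hA : ((A⁻¹ : GL (Fin n) L) : Matrix (Fin n) (Fin n) L) = P := rfl
  have hA' : (A : Matrix (Fin n) (Fin n) L) = P⁻¹ := rfl
  rw [hA, hA']
  have hmapinv : (P⁻¹).map σ * P.map σ = 1 := by
    have : (P⁻¹ * P).map σ = (1 : Matrix (Fin n) (Fin n) L).map σ := by
      rw [Matrix.inv_mul_of_invertible]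
    rw [Matrix.map_mul] at this
    rw [this]
    ext i j
    simp [Matrix.one_apply]
  have hmapinv' : P.map σ * (P⁻¹).map σ = 1 := by
    rw [mul_eq_one_comm]; exact hmapinv
  calc (B σ : Matrix (Fin n) (Fin n) L)
      = (B σ : Matrix (Fin n) (Fin n) L) * (P.map σ * (P⁻¹).map σ) := by rw [hmapinv', mul_one]
    _ = ((B σ : Matrix (Fin n) (Fin n) L) * P.map σ) * (P⁻¹).map σ := by rw [mul_assoc]
    _ = P * (P⁻¹).map σ := by rw [hfix]

end Groth.Agent.S11079
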