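import Groth.Statements.S11080

set_option autoImplicit false
universe u
open CAlg

namespace Groth.Agent.S11080

/-- Valuation rings over a curve: let A be a Dedekind domain with fraction field K. A valuation subring
O of K contains A and is different from K if and only if O is the valuation ring of the v-adic
valuation of K at some nonzero prime v of A (equivalently O is the local ring of A at a maximal
ideal, a discrete valuation ring). (The published statement takes A to be the coordinate ring of a
nonsingular affine curve over an algebraically closed field, which is such a Dedekind domain; its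
proof uses only that the local rings of A at nonzero primes are discrete valuation rings and that
nonzero primes are maximal.) -/
theorem result (A K : Type u) [CommRing A]
    [IsDedekindDomain A] [Field K] [Algebra A K] [IsFractionRing A K] (O : ValuationSubring K) :
    ((algebraMap A K).range ≤ O.toSubring ∧ O ≠ ⊤) ↔
      ∃ v : IsDedekindDomain.HeightOneSpectrum A, O = (v.valuation K).valuationSubring := by
  classical
  constructor
  · rintro ⟨hA, hO⟩
    have hA' : ∀ a : A, O.valuation (algebraMap A K a) ≤ 1 := fun a =>
      (O.valuation_le_one_iff _).2 (hA ⟨a, rfl⟩)
    let p : Ideal A :=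
      { carrier := {a | O.valuation (algebraMap A K a) < 1}
        add_mem' := by
          intro a b ha hb
          simp only [Set.mem_setOf_eq, map_add] at *
          exact lt_of_le_of_lt (O.valuation.map_add _ _) (max_lt ha hb)
        zero_mem' := by simp
        smul_mem' := by
          intro c a ha
          simp only [Set.mem_setOf_eq, smul_eq_mul, map_mul] at *
          calc O.valuation (algebraMap A K c) * O.valuation (algebraMap A K a)
              ≤ 1 * O.valuation (algebraMap A K a) := by gcongr; exact hA' c
            _ < 1 := by rwa [one_mul] }
    have hp_mem : ∀ a : A, a ∈ p ↔ O.valuation (algebraMap A K a) < 1 := fun a => Iff.rfl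
    have hp_prime : p.IsPrime := by
      refine ⟨?_, ?_⟩
      · rw [Ideal.ne_top_iff_one, hp_mem]
        simp
      · intro a b hab
        rw [hp_mem, map_mul, map_mul] at hab
        by_contra hcon
        push_neg at hcon
        obtain ⟨ha, hb⟩ := hcon
        rw [hp_mem, not_lt] at ha hb
        have ha1 : O.valuation (algebraMap A K a) = 1 := le_antisymm (hA' a) ha
        have hb1 : O.valuation (algebraMap A K b) = 1 := le_antisymm (hA' b) hb
        rw [ha1, hb1, one_mul] at hab
        exact lt_irrefl _ hab
    have hp_ne : p ≠ ⊥ := by
      intro hbot
      apply hO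
      rw [eq_top_iff]
      intro x _
      obtain ⟨a, s, rfl⟩ := IsLocalization.exists_mk'_eq (nonZeroDivisors A) x
      rw [IsFractionRing.mk'_eq_div]
      have hs0 : (s : A) ≠ 0 := nonZeroDivisors.ne_zero s.2
      have hs1 : O.valuation (algebraMap A K s) = 1 := by
        refine le_antisymm (hA' s) ?_
        rw [← not_lt, ← hp_mem, hbot]
        simpa using hs0
      rw [← O.valuation_le_one_iff, map_div₀, hs1, div_one]
      exact hA' a
    let v : IsDedekindDomain.HeightOneSpectrum A := ⟨p, hp_prime, hp_ne⟩
    refine ⟨v, ?_⟩
    rw [← IsDedekindDomain.HeightOneSpectrum.valuationSubringAtPrime_eq_valuationSubring]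
    symm
    refine ValuationSubring.eq_of_le_of_ne_top _ ?_ hO
    rintro x ⟨a, s, hs, rfl⟩
    have hs1 : O.valuation (algebraMap A K s) = 1 := by
      refine le_antisymm (hA' s) ?_
      rw [← not_lt, ← hp_mem]
      exact hs
    have : O.valuation (algebraMap A K a * (algebraMap A K s)⁻¹) ≤ 1 := by
      rw [map_mul, map_inv₀, hs1, inv_one, mul_one]
      exact hA' a
    exact (O.valuation_le_one_iff _).1 this
  · rintro ⟨v, rfl⟩
    refine ⟨?_, ?_⟩
    · rintro _ ⟨a, rfl⟩
      exact v.valuation_le_one a
    · rw [Ne, Valuation.valuationSubring_eq_top_iff, not_not]
      infer_instance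

end Groth.Agent.S11080
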