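import Groth.Statements.S11081
import Groth.Agent.H95.TraceCRT2

set_option autoImplicit false
universe u
attribute [local instance] FractionRing.liftAlgebra
open CAlg

namespace Groth.Agent.S11081

/-- Let A be a Dedekind domain, B a Dedekind domain which is a finitely generated torsion-free A-algebra
whose fraction field is separable over that of A (B is the integral closure of A in a finite
separable extension), p a nonzero prime ideal of A and y an element of B. Then the class modulo p of
the trace of y from B to A is the sum over the primes Q of B lying over p of e(Q|p) times the trace,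
from B/Q to A/p, of the class of y modulo Q. -/
theorem result (A B : Type u) [CommRing A] [CommRing B]
    [IsDedekindDomain A] [IsDedekindDomain B] [Algebra A B] [Module.Finite A B] [Module.IsTorsionFree A B]
    [Algebra.IsSeparable (FractionRing A) (FractionRing B)]
    (p : Ideal A) [p.IsMaximal] (hp : p ≠ ⊥) (y : B) :
    Ideal.Quotient.mk p (Algebra.intTrace A B y) =
      ∑ᶠ Q : p.primesOver B,
        Q.1.ramificationIdx A •
          Algebra.trace (A ⧸ p) (B ⧸ Q.1) (Ideal.Quotient.mk Q.1 y) := by
  classical
  have h0 := Algebra.trace_quotient_eq_of_isDedekindDomain (R := A) (S := B) p y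
  rw [← h0, Groth.Agent.H95.TraceCRT.trace_quot_map_eq_sum A B p hp y]
  -- reindex
  let G : Ideal B → A ⧸ p := fun P =>
    if h : P.LiesOver p then
      P.ramificationIdx A • @Algebra.trace (A ⧸ p) (B ⧸ P) _ _
        (@Ideal.Quotient.algebraOfLiesOver _ _ _ _ _ P p h) (Ideal.Quotient.mk P y)
    else 0
  have hR : (∑ᶠ Q : p.primesOver B, Q.1.ramificationIdx A •
      Algebra.trace (A ⧸ p) (B ⧸ Q.1) (Ideal.Quotient.mk Q.1 y)) = ∑ᶠ Q : p.primesOver B, G Q.1 := by
    refine finsum_congr fun Q => ?_
    have hQ : Q.1.LiesOver p := Q.2.2
    simp only [G, dif_pos hQ]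
  rw [hR, finsum_set_coe_eq_finsum_mem (s := p.primesOver B) (f := G),
    ← IsDedekindDomain.coe_primesOverFinset hp B, finsum_mem_coe_finset,
    ← Finset.sum_coe_sort (IsDedekindDomain.primesOverFinset p B) G]
  refine Finset.sum_congr rfl fun P _ => ?_
  have hP : P.1.LiesOver p := Ideal.Factors.liesOver p P
  have hPprime : P.1.IsPrime := Ideal.Factors.isPrime p P
  simp only [G, dif_pos hP]
  rw [Ideal.ramificationIdx'_eq_ramificationIdx p P.1 hp]

end Groth.Agent.S11081
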