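import Groth.Statements.S11082
import Groth.Agent.H80.SepDiff

set_option autoImplicit false
universe u v
open CAlg

namespace Groth.Agent.S11082

/-- Let k be an algebraically closed field, F a field extension of k which is finitely generated as a
field, and x a transcendence basis of F over k indexed by a type ι. Then F is a separable algebraic
extension of the subfield k(x) generated by the family (x is a separating transcendence basis) if
and only if the differentials d(x i) form a basis of the F-vector space of Kähler differentials of F
over k, i.e. they are linearly independent over F and span it. -/
theorem result (k : Type u) (F : Type v)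
    [Field k] [IsAlgClosed k] [Field F] [Algebra k F] (hF : (⊤ : IntermediateField k F).FG)
    {ι : Type v} (x : ι → F) (hx : IsTranscendenceBasis k x) :
    Algebra.IsSeparable (IntermediateField.adjoin k (Set.range x)) F ↔
      (LinearIndependent F (fun i : ι => KaehlerDifferential.D k F (x i)) ∧
        Submodule.span F (Set.range fun i : ι => KaehlerDifferential.D k F (x i)) = ⊤) := by
  have hess : Algebra.EssFiniteType k F := IntermediateField.fg_top_iff.1 hF
  constructor
  · intro hsep
    obtain ⟨b, hb⟩ := Groth.Agent.H80.exists_basis_D_of_isSeparable hx.1
    have hfun : (fun i : ι => KaehlerDifferential.D k F (x i)) = ⇑b := by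
      funext i; exact (hb i).symm
    rw [hfun]
    exact ⟨b.linearIndependent, b.span_eq⟩
  · rintro ⟨-, hspan⟩
    exact Groth.Agent.H80.isSeparable_of_span_D hspan

end Groth.Agent.S11082
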