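import Groth.Statements.S11084
import Groth.Agent.S11080
import Mathlib.NumberTheory.RatFunc.Ostrowski

set_option autoImplicit false
universe u
open CAlg

namespace Groth.Agent.S11084

/-- Let k be a field and O a valuation subring of the field of rational functions k(x). Then O contains
the constants k and is different from k(x) if and only if O is the valuation ring of the P-adic
valuation at a nonzero prime P of the polynomial ring k[x], or O is the valuation ring of the
valuation at infinity (given by the degree). (The published statement has k algebraically closed, so
that these valuation rings correspond to the points of the projective line; the published proof does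
not use that k is algebraically closed. The published statement also asserts that distinct points
give distinct valuation rings, which this row does not state, and counts k(x) itself among the
valuation rings containing k; this row excludes it.) -/
theorem result (k : Type u) [Field k] [DecidableEq (RatFunc k)]
    (O : ValuationSubring (RatFunc k)) :
    ((algebraMap k (RatFunc k)).range ≤ O.toSubring ∧ O ≠ ⊤) ↔
      ((∃ v : IsDedekindDomain.HeightOneSpectrum (Polynomial k), O = (v.valuation (RatFunc k)).valuationSubring) ∨
        O = (RatFunc.inftyValuation k).valuationSubring) := by
  classical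
  constructor
  · rintro ⟨hk, hO⟩
    have hk' : ∀ c : k, O.valuation (algebraMap k (RatFunc k) c) ≤ 1 := fun c =>
      (O.valuation_le_one_iff _).2 (hk ⟨c, rfl⟩)
    have : O.valuation.IsTrivialOn k := ⟨fun c hc => by
      refine le_antisymm (hk' c) ?_
      have h1 := hk' c⁻¹
      rw [map_inv₀, map_inv₀] at h1
      have hne : O.valuation (algebraMap k (RatFunc k) c) ≠ 0 := by
        rw [Valuation.ne_zero_iff]
        exact (map_ne_zero _).2 hc
      exact (inv_le_one₀ (zero_lt_iff.2 hne)).1 h1⟩
    by_cases hX : O.valuation RatFunc.X ≤ 1
    · left
      have hA : (algebraMap (Polynomial k) (RatFunc k)).range ≤ O.toSubring := by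
        rintro _ ⟨p, rfl⟩
        change algebraMap (Polynomial k) (RatFunc k) p ∈ O
        induction p using Polynomial.induction_on' with
        | add p q hp hq => rw [map_add]; exact O.add_mem _ _ hp hq
        | monomial n c =>
          rw [← Polynomial.C_mul_X_pow_eq_monomial, map_mul, map_pow, RatFunc.algebraMap_C,
            RatFunc.algebraMap_X]
          refine O.mul_mem _ _ ?_ (pow_mem ((O.valuation_le_one_iff _).1 hX) n)
          exact hk ⟨c, rfl⟩
      exact (Groth.Agent.S11080.result (Polynomial k) (RatFunc k) O).1 ⟨hA, hO⟩
    · right
      have hlt : 1 < O.valuation RatFunc.X := not_le.1 hX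
      have heq := RatFunc.valuation_isEquiv_inftyValuation_of_one_lt_valuation_X hlt
      have := (Valuation.isEquiv_iff_valuationSubring _ _).1 heq
      rw [ValuationSubring.valuationSubring_valuation] at this
      exact this
  · rintro (⟨v, rfl⟩ | rfl)
    · have h := (Groth.Agent.S11080.result (Polynomial k) (RatFunc k)
        (v.valuation (RatFunc k)).valuationSubring).2 ⟨v, rfl⟩
      refine ⟨?_, h.2⟩
      rintro _ ⟨c, rfl⟩
      apply h.1
      exact ⟨Polynomial.C c, by rw [RatFunc.algebraMap_C, RatFunc.algebraMap_eq_C]⟩
    · refine ⟨?_, ?_⟩
      · rintro _ ⟨c, rfl⟩
        change RatFunc.inftyValuation k (algebraMap k (RatFunc k) c) ≤ 1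
        by_cases hc : c = 0
        · rw [hc, map_zero, map_zero]; exact zero_le_one
        · have := RatFunc.inftyValuation.C k hc
          rw [← RatFunc.algebraMap_eq_C] at this
          rw [this]
      · intro htop
        have hX : (RatFunc.X : RatFunc k) ∈ (RatFunc.inftyValuation k).valuationSubring := by
          rw [htop]; trivial
        have h1 : RatFunc.inftyValuation k RatFunc.X ≤ 1 := hX
        rw [RatFunc.inftyValuation.X] at h1
        have : (1 : WithZero (Multiplicative ℤ)) < WithZero.exp 1 := by
          rw [← WithZero.exp_zero]; exact WithZero.exp_lt_exp.2 zero_lt_one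
        exact absurd h1 (not_le.2 this)

end Groth.Agent.S11084
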