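import Groth.Statements.S11087
import Groth.Agent.H80.CompleteExt2

set_option autoImplicit false
universe u
attribute [local instance] FractionRing.liftAlgebra
open CAlg

namespace Groth.Agent.S11087

/-- Let A be a complete discrete valuation ring and K a perfect field contained in A such that K → A →
A/m is bijective. Let B be a Dedekind domain which is a finite torsion-free A-algebra with fraction
field separable over that of A (the integral closure of A in a finite separable extension of its
fraction field). Then for every maximal ideal M of B and every b in B there is exactly one element c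
of B which is algebraic over K and congruent to b modulo M; in other words the algebraic closure of
K in B is a subfield mapping isomorphically onto B/M. -/
theorem result (K A B : Type u) [Field K]
    [PerfectField K] [CommRing A] [IsDomain A] [IsDiscreteValuationRing A]
    [IsAdicComplete (IsLocalRing.maximalIdeal A) A]
    [Algebra K A] (hK : Function.Bijective ((IsLocalRing.residue A).comp (algebraMap K A)))
    [CommRing B] [IsDedekindDomain B] [Algebra A B] [Module.Finite A B] [Module.IsTorsionFree A B]
    [Algebra.IsSeparable (FractionRing A) (FractionRing B)] [Algebra K B] [IsScalarTower K A B]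
    (M : Ideal B) [M.IsMaximal] (b : B) :
    ∃! c : B, IsAlgebraic K c ∧ b - c ∈ M := by
  classical
  have hMtop : M ≠ ⊤ := Ideal.IsMaximal.ne_top inferInstance
  let _ : Field (B ⧸ M) := Ideal.Quotient.field M
  have hlo := Groth.Agent.H80.liesOver_maximalIdeal_of_complete A M
  have hmle : ∀ a ∈ IsLocalRing.maximalIdeal A, algebraMap A B a ∈ M := by
    intro a ha
    have : a ∈ M.under A := by rw [← hlo.over]; exact ha
    exact this
  -- the residue class of `b` is integral over `K`
  have hbint : IsIntegral K (Ideal.Quotient.mk M b) := by
    have hbA : IsIntegral A b := Algebra.IsIntegral.isIntegral b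
    obtain ⟨p, hpm, hp⟩ := hbA
    -- choose representatives in `K` of the coefficients
    have hrep : ∀ a : A, ∃ c : K, a - algebraMap K A c ∈ IsLocalRing.maximalIdeal A := by
      intro a
      obtain ⟨c, hc⟩ := hK.2 (IsLocalRing.residue A a)
      refine ⟨c, ?_⟩
      rw [← Ideal.Quotient.eq_zero_iff_mem, map_sub]
      change IsLocalRing.residue A a - IsLocalRing.residue A (algebraMap K A c) = 0
      rw [sub_eq_zero]
      exact hc.symm
    choose r hr using hrep
    -- reduction map `A → B ⧸ M` factors through `K`
    have hred : ∀ a : A, Ideal.Quotient.mk M (algebraMap A B a) =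
        algebraMap K (B ⧸ M) (r a) := by
      intro a
      have h1 : algebraMap A B (a - algebraMap K A (r a)) ∈ M := hmle _ (hr a)
      rw [map_sub, ← Ideal.Quotient.eq, ← IsScalarTower.algebraMap_apply] at h1
      rw [h1]; rfl
    refine ⟨Polynomial.X ^ p.natDegree +
      ∑ i ∈ Finset.range p.natDegree, Polynomial.C (r (p.coeff i)) * Polynomial.X ^ i, ?_, ?_⟩
    · apply Polynomial.monic_X_pow_add
      refine lt_of_le_of_lt (Polynomial.degree_sum_le _ _) ?_
      rw [Finset.sup_lt_iff (WithBot.bot_lt_coe _)]
      intro i hi
      refine lt_of_le_of_lt (Polynomial.degree_C_mul_X_pow_le _ _) ?_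
      exact_mod_cast Finset.mem_range.1 hi
    · have hp' := congrArg (Ideal.Quotient.mk M) hp
      rw [map_zero, Polynomial.eval₂_eq_sum_range, map_sum] at hp'
      rw [Finset.sum_range_succ] at hp'
      simp only [map_mul, map_pow, hred] at hp'
      rw [Polynomial.Monic.coeff_natDegree hpm] at hp'
      rw [Polynomial.eval₂_add, Polynomial.eval₂_pow, Polynomial.eval₂_X,
        Polynomial.eval₂_finsetSum]
      simp only [Polynomial.eval₂_mul, Polynomial.eval₂_C, Polynomial.eval₂_pow,
        Polynomial.eval₂_X]
      rw [add_comm]
      convert hp' using 2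
      have h1 : algebraMap K (B ⧸ M) (r 1) = 1 := by
        rw [← hred, map_one, map_one]
      rw [h1, one_mul]
  -- the minimal polynomial of the residue class, lifted to `B`
  have hsep : (minpoly K (Ideal.Quotient.mk M b)).Separable :=
    PerfectField.separable_of_irreducible (minpoly.irreducible hbint)
  have hgm : ((minpoly K (Ideal.Quotient.mk M b)).map (algebraMap K B)).Monic :=
    (minpoly.monic hbint).map _
  have hmk : ∀ q : Polynomial K, Ideal.Quotient.mk M ((q.map (algebraMap K B)).eval b) =
      Polynomial.aeval (Ideal.Quotient.mk M b) q := by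
    intro q
    rw [Polynomial.eval_map, Polynomial.hom_eval₂, Polynomial.aeval_def]
    rfl
  have h1 : ((minpoly K (Ideal.Quotient.mk M b)).map (algebraMap K B)).eval b ∈ M := by
    rw [← Ideal.Quotient.eq_zero_iff_mem, hmk, minpoly.aeval]
  have h2 : IsUnit (Ideal.Quotient.mk M
      (((minpoly K (Ideal.Quotient.mk M b)).map (algebraMap K B)).derivative.eval b)) := by
    rw [Polynomial.derivative_map, hmk]
    exact (hsep.aeval_derivative_ne_zero (minpoly.aeval K _)).isUnit
  have hHens := Groth.Agent.H80.henselianRing_of_complete A M
  obtain ⟨c, hc, hcb⟩ := hHens.is_henselian _ hgm b h1 h2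
  have hcalg : IsAlgebraic K c := by
    refine ⟨minpoly K (Ideal.Quotient.mk M b), minpoly.ne_zero hbint, ?_⟩
    rw [Polynomial.aeval_def, ← Polynomial.eval_map]
    exact hc
  refine ⟨c, ⟨hcalg, ?_⟩, ?_⟩
  · have : b - c = -(c - b) := by ring
    rw [this]; exact neg_mem hcb
  · rintro c' ⟨hc'alg, hc'b⟩
    by_contra hne
    have hd0 : c' - c ≠ 0 := sub_ne_zero.2 hne
    have hdM : c' - c ∈ M := by
      have h3 : c' - b ∈ M := by
        have : c' - b = -(b - c') := by ring
        rw [this]; exact neg_mem hc'b
      have h4 : c' - c = (c' - b) - (c - b) := by ring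
      rw [h4]; exact M.sub_mem h3 hcb
    have hdalg : IsAlgebraic K (c' - c) := hc'alg.sub hcalg
    have hdint : IsIntegral K (c' - c) := hdalg.isIntegral
    have hcoeff := minpoly.coeff_zero_ne_zero hdint hd0
    have hev := minpoly.aeval K (c' - c)
    rw [← Polynomial.divX_mul_X_add (minpoly K (c' - c)), map_add, map_mul, Polynomial.aeval_X,
      Polynomial.aeval_C] at hev
    have hmem : algebraMap K B ((minpoly K (c' - c)).coeff 0) ∈ M := by
      have : algebraMap K B ((minpoly K (c' - c)).coeff 0) =
          -(Polynomial.aeval (c' - c) (minpoly K (c' - c)).divX * (c' - c)) := by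
        rw [eq_neg_iff_add_eq_zero, add_comm]; exact hev
      rw [this]
      exact neg_mem (Ideal.mul_mem_left _ _ hdM)
    have hunit : IsUnit (algebraMap K B ((minpoly K (c' - c)).coeff 0)) :=
      (IsUnit.mk0 _ hcoeff).map _
    exact hMtop (Ideal.eq_top_of_isUnit_mem _ hmem hunit)

end Groth.Agent.S11087
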