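import Groth.Statements.S11088
import Groth.Agent.H80.CompleteExt2

set_option autoImplicit false
universe u
attribute [local instance] FractionRing.liftAlgebra
open CAlg

namespace Groth.Agent.S11088

/-- Let A be a complete discrete valuation ring with maximal ideal m and B a Dedekind domain which is a
finite torsion-free A-algebra with fraction field separable over that of A (the integral closure of
A in a finite separable extension). Then for every maximal ideal M of B, with f the degree of B/M
over A/m, and every nonzero x in B, the multiplicity of m in the ideal generated by the norm of x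
equals f times the multiplicity of M in the ideal generated by x: v(N(x)) = f · w(x). -/
theorem result (A B : Type u) [CommRing A] [IsDomain A] [IsDiscreteValuationRing A]
    [IsAdicComplete (IsLocalRing.maximalIdeal A) A]
    [CommRing B] [IsDedekindDomain B] [Algebra A B] [Module.Finite A B] [Module.IsTorsionFree A B]
    [Algebra.IsSeparable (FractionRing A) (FractionRing B)]
    (M : Ideal B) [M.IsMaximal] (x : B) (hx : x ≠ 0) :
    emultiplicity (IsLocalRing.maximalIdeal A) (Ideal.span {Algebra.intNorm A B x}) =
      (M.inertiaDeg A : ℕ∞) * emultiplicity M (Ideal.span {x}) := by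
  classical
  have hx0 : Ideal.span {x} ≠ ⊥ := by
    rw [Ne, Ideal.span_singleton_eq_bot]; exact hx
  obtain ⟨hw, -⟩ := Groth.Agent.H80.exists_eq_pow_of_unique_maximal M
    (fun M' hM' => Groth.Agent.H80.eq_of_isMaximal_of_complete A M' M) hx0
  generalize Multiset.count M (UniqueFactorizationMonoid.normalizedFactors (Ideal.span {x})) = w
    at hw
  have hM0 : M ≠ ⊥ := by
    intro h
    have h1 := Groth.Agent.H80.map_maximalIdeal_eq_pow_of_complete A M
    have h2 := Groth.Agent.H80.ramificationIdx_ne_zero_of_complete A M
    rw [h] at h1 h2
    rw [Ideal.bot_pow h2] at h1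
    exact Groth.Agent.H80.map_maximalIdeal_ne_bot_of_complete A (B := B) h1
  have hMunit : ¬ IsUnit M := by
    rw [Ideal.isUnit_iff]; exact Ideal.IsMaximal.ne_top inferInstance
  have hmunit : ¬ IsUnit (IsLocalRing.maximalIdeal A) := by
    rw [Ideal.isUnit_iff]; exact Ideal.IsMaximal.ne_top inferInstance
  have hm0 : IsLocalRing.maximalIdeal A ≠ ⊥ := IsDiscreteValuationRing.not_a_field A
  have h1 : Ideal.span {Algebra.intNorm A B x} =
      IsLocalRing.maximalIdeal A ^ (M.inertiaDeg A * w) := by
    rw [← Ideal.relNorm_singleton, hw, map_pow,
      Groth.Agent.H80.relNorm_eq_pow_inertiaDeg_of_complete A M, ← pow_mul]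
  rw [h1, hw, emultiplicity_pow_self hm0 hmunit, emultiplicity_pow_self hM0 hMunit]
  push_cast
  rfl

end Groth.Agent.S11088
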