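import Groth.Statements.S11089
import Groth.Agent.H80.CompleteExt2
import Mathlib.RingTheory.Polynomial.Eisenstein.Basic
import Mathlib.FieldTheory.Minpoly.IsIntegrallyClosed

set_option autoImplicit false
universe u
attribute [local instance] FractionRing.liftAlgebra
open CAlg

namespace Groth.Agent.S11089

/-- Let A be a complete discrete valuation ring containing a field K with K → A → A/m bijective, and B a
Dedekind domain which is a finite torsion-free A-algebra of rank m with fraction field separable
over that of A (the integral closure of A in a finite separable extension E of F = Frac A). If the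
extension is totally ramified — the maximal ideal M of B has ramification index m — and m is a unit
in A, then some uniformizer u of B (an element of M not in M²) satisfies u^m ∈ A and generates E
over F: its minimal polynomial over A has degree m. -/
theorem result (K A B : Type u) [Field K]
    [CommRing A] [IsDomain A] [IsDiscreteValuationRing A]
    [IsAdicComplete (IsLocalRing.maximalIdeal A) A]
    [Algebra K A] (hK : Function.Bijective ((IsLocalRing.residue A).comp (algebraMap K A)))
    [CommRing B] [IsDedekindDomain B] [Algebra A B] [Module.Finite A B] [Module.IsTorsionFree A B]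
    [Algebra.IsSeparable (FractionRing A) (FractionRing B)]
    (M : Ideal B) [M.IsMaximal] (hram : M.ramificationIdx A = Module.finrank A B)
    (hm : IsUnit ((Module.finrank A B : ℕ) : A)) :
    ∃ u : B, u ∈ M ∧ u ∉ M ^ 2 ∧ u ^ Module.finrank A B ∈ (algebraMap A B).range ∧
      (minpoly A u).natDegree = Module.finrank A B := by
  classical
  have hM' : M.IsMaximal := inferInstance
  have hef := Groth.Agent.H80.ramificationIdx_mul_inertiaDeg_of_complete A M
  have he0 := Groth.Agent.H80.ramificationIdx_ne_zero_of_complete A M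
  have hn0 : Module.finrank A B ≠ 0 := hram ▸ he0
  have hf1 : M.inertiaDeg A = 1 := by
    rw [hram] at hef
    exact Nat.eq_of_mul_eq_mul_left (Nat.pos_of_ne_zero hn0) (by rw [hef, mul_one])
  obtain ⟨t, ht1, ht2, htM⟩ := Groth.Agent.H80.exists_uniformizer_of_complete A M
  obtain ⟨π, hπ⟩ := IsDiscreteValuationRing.exists_irreducible A
  have hmπ : IsLocalRing.maximalIdeal A = Ideal.span {π} := hπ.maximalIdeal_eq
  have hlo := Groth.Agent.H80.liesOver_maximalIdeal_of_complete A M
  have hmle : ∀ a ∈ IsLocalRing.maximalIdeal A, algebraMap A B a ∈ M := by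
    intro a ha
    have : a ∈ M.under A := by rw [← hlo.over]; exact ha
    exact this
  have hmap : Ideal.span {algebraMap A B π} = Ideal.span {t ^ Module.finrank A B} := by
    rw [← Ideal.span_singleton_pow, htM]
    conv_rhs => rw [← hram]
    rw [← Groth.Agent.H80.map_maximalIdeal_eq_pow_of_complete A M, hmπ, Ideal.map_span,
      Set.image_singleton]
  obtain ⟨ε, hε⟩ := Ideal.span_singleton_eq_span_singleton.1 hmap
  obtain ⟨a, ha⟩ := Groth.Agent.H80.exists_sub_mem_of_inertiaDeg_eq_one A M hf1 (ε : B)
  have haM : algebraMap A B a ∉ M := by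
    intro h
    have h3 : (ε : B) ∈ M := by
      have := M.add_mem ha h
      simpa using this
    exact hM'.ne_top (Ideal.eq_top_of_isUnit_mem _ h3 ε.isUnit)
  have hau : IsUnit a := by
    by_contra hna
    exact haM (hmle a hna)
  obtain ⟨a', rfl⟩ := hau
  have hη1 : 1 - (ε : B) * algebraMap A B (↑a'⁻¹ : A) ∈ M := by
    have h3 : 1 - (ε : B) * algebraMap A B (↑a'⁻¹ : A) =
        -(((ε : B) - algebraMap A B a') * algebraMap A B (↑a'⁻¹ : A)) := by
      rw [sub_mul, ← map_mul, Units.mul_inv, map_one]; ring
    rw [h3]; exact neg_mem (Ideal.mul_mem_right _ _ ha)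
  have hHens := Groth.Agent.H80.henselianRing_of_complete A M
  have hfm : (Polynomial.X ^ Module.finrank A B -
      Polynomial.C ((ε : B) * algebraMap A B (↑a'⁻¹ : A)) : Polynomial B).Monic :=
    Polynomial.monic_X_pow_sub_C _ hn0
  have h1 : (Polynomial.X ^ Module.finrank A B -
      Polynomial.C ((ε : B) * algebraMap A B (↑a'⁻¹ : A)) : Polynomial B).eval 1 ∈ M := by
    simp only [Polynomial.eval_sub, Polynomial.eval_pow, Polynomial.eval_X, one_pow,
      Polynomial.eval_C]
    exact hη1
  have h2 : IsUnit (Ideal.Quotient.mk M ((Polynomial.X ^ Module.finrank A B -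
      Polynomial.C ((ε : B) * algebraMap A B (↑a'⁻¹ : A)) : Polynomial B).derivative.eval 1)) := by
    have h3 : (Polynomial.X ^ Module.finrank A B -
        Polynomial.C ((ε : B) * algebraMap A B (↑a'⁻¹ : A)) : Polynomial B).derivative.eval 1 =
        algebraMap A B ((Module.finrank A B : ℕ) : A) := by
      simp [Polynomial.derivative_X_pow]
    rw [h3]
    exact (hm.map (algebraMap A B)).map (Ideal.Quotient.mk M)
  obtain ⟨z, hz, hz1⟩ := hHens.is_henselian _ hfm 1 h1 h2
  have hzn : z ^ Module.finrank A B = (ε : B) * algebraMap A B (↑a'⁻¹ : A) := by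
    have h3 : Polynomial.eval z (Polynomial.X ^ Module.finrank A B -
      Polynomial.C ((ε : B) * algebraMap A B (↑a'⁻¹ : A)) : Polynomial B) = 0 := hz
    simp only [Polynomial.eval_sub, Polynomial.eval_pow, Polynomial.eval_X,
      Polynomial.eval_C] at h3
    exact sub_eq_zero.1 h3
  have hzM : z ∉ M := by
    intro h
    have h3 : (1 : B) ∈ M := by
      have := M.sub_mem h hz1
      simpa using this
    exact hM'.ne_top ((Ideal.eq_top_iff_one _).2 h3)
  obtain ⟨z', rfl⟩ := Groth.Agent.H80.isUnit_of_notMem_of_complete A M hzM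
  have hpow : (t * (↑z'⁻¹ : B)) ^ Module.finrank A B = algebraMap A B (π * a') := by
    have key : ((↑z'⁻¹ : B)) ^ Module.finrank A B * ((ε : B) * algebraMap A B (↑a'⁻¹ : A)) = 1 := by
      rw [← hzn, ← mul_pow, Units.inv_mul, one_pow]
    have h4 : algebraMap A B (↑a'⁻¹ : A) * algebraMap A B (a' : A) = 1 := by
      rw [← map_mul, Units.inv_mul, map_one]
    rw [mul_pow, ← hε, map_mul]
    calc algebraMap A B π * ↑ε * (↑z'⁻¹ : B) ^ Module.finrank A B
        = algebraMap A B π * ↑ε * (↑z'⁻¹ : B) ^ Module.finrank A B *
            (algebraMap A B (↑a'⁻¹ : A) * algebraMap A B (a' : A)) := by rw [h4, mul_one]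
      _ = algebraMap A B π * algebraMap A B (a' : A) *
            ((↑z'⁻¹ : B) ^ Module.finrank A B * ((ε : B) * algebraMap A B (↑a'⁻¹ : A))) := by ring
      _ = algebraMap A B π * algebraMap A B (a' : A) := by rw [key, mul_one]
  refine ⟨t * (↑z'⁻¹ : B), Ideal.mul_mem_right _ _ ht1, ?_, ⟨π * a', hpow.symm⟩, ?_⟩
  · intro h
    apply ht2
    have h3 : t = t * (↑z'⁻¹ : B) * z' := by rw [mul_assoc, Units.inv_mul, mul_one]
    rw [h3]; exact Ideal.mul_mem_right _ _ h
  · -- the minimal polynomial
    have hint : IsIntegral A (t * (↑z'⁻¹ : B)) := Algebra.IsIntegral.isIntegral _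
    have hroot : Polynomial.aeval (t * (↑z'⁻¹ : B))
        (Polynomial.X ^ Module.finrank A B - Polynomial.C (π * a') : Polynomial A) = 0 := by
      rw [map_sub, map_pow, Polynomial.aeval_X, Polynomial.aeval_C, hpow, sub_self]
    have hdvd := minpoly.isIntegrallyClosed_dvd hint hroot
    have hnat : (Polynomial.X ^ Module.finrank A B - Polynomial.C (π * a') : Polynomial A).natDegree
        = Module.finrank A B := Polynomial.natDegree_X_pow_sub_C
    have hEis : (Polynomial.X ^ Module.finrank A B - Polynomial.C (π * a') :
        Polynomial A).IsEisensteinAt (IsLocalRing.maximalIdeal A) := by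
      refine ⟨?_, ?_, ?_⟩
      · rw [(Polynomial.monic_X_pow_sub_C _ hn0).leadingCoeff]
        exact fun h => (Ideal.IsMaximal.ne_top inferInstance) ((Ideal.eq_top_iff_one _).2 h)
      · intro i hi
        rw [hnat] at hi
        rw [Polynomial.coeff_sub, Polynomial.coeff_X_pow, if_neg hi.ne, zero_sub,
          Polynomial.coeff_C]
        split_ifs
        · rw [hmπ]
          exact neg_mem (Ideal.mul_mem_right _ _ (Ideal.mem_span_singleton_self π))
        · simp
      · rw [Polynomial.coeff_sub, Polynomial.coeff_X_pow, if_neg (Ne.symm hn0), zero_sub,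
          Polynomial.coeff_C_zero, neg_mem_iff, hmπ, Ideal.span_singleton_pow,
          Ideal.mem_span_singleton]
        rintro ⟨c, hc⟩
        have h3 : π * (a' : A) = π * (π * c) := by rw [hc]; ring
        have h4 : (a' : A) = π * c := mul_left_cancel₀ hπ.ne_zero h3
        have h5 : IsUnit π := isUnit_of_mul_isUnit_left (h4 ▸ a'.isUnit)
        exact hπ.not_isUnit h5
    have hirr : Irreducible (Polynomial.X ^ Module.finrank A B - Polynomial.C (π * a') :
        Polynomial A) :=
      hEis.irreducible inferInstance (Polynomial.monic_X_pow_sub_C _ hn0).isPrimitive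
        (by rw [hnat]; exact Nat.pos_of_ne_zero hn0)
    obtain ⟨q, hq⟩ := hdvd
    rcases hirr.isUnit_or_isUnit hq with hu | hu
    · exact absurd hu (minpoly.not_isUnit A _)
    · have h3 := congrArg Polynomial.natDegree hq
      rw [hnat, Polynomial.natDegree_mul (minpoly.ne_zero hint) hu.ne_zero,
        Polynomial.natDegree_eq_zero_of_isUnit hu, add_zero] at h3
      exact h3.symm

end Groth.Agent.S11089
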