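import Groth.Statements.S11092
import Groth.Agent.H80.SepDiff

set_option autoImplicit false
universe u v
open CAlg

namespace Groth.Agent.S11092

open scoped TensorProduct KaehlerDifferential

/-- Let k be an algebraically closed field, K a field finitely generated over k admitting a one-element
transcendence basis over k (a function field of dimension one), and L a finite extension field of K
with the compatible k-algebra structure. Then the K-linear map from the Kähler differentials of K
over k to those of L over k induced by the inclusion is either the zero map or injective, and it is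
injective if and only if L is separable over K. (The published statement takes K ⊆ L to be the
function fields of two elliptic curves related by a nonzero homomorphism; its proof uses only that
they are function fields of dimension one over k.) -/
theorem result (k : Type u) (K L : Type v)
    [Field k] [IsAlgClosed k] [Field K] [Field L] [Algebra k K] [Algebra k L] [Algebra K L]
    [IsScalarTower k K L] (hK : (⊤ : IntermediateField k K).FG)
    (hx : ∃ x : K, IsTranscendenceBasis k (fun _ : Unit => x)) [FiniteDimensional K L] :
    (KaehlerDifferential.map k k K L = 0 ∨ Function.Injective (KaehlerDifferential.map k k K L)) ∧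
      (Function.Injective (KaehlerDifferential.map k k K L) ↔ Algebra.IsSeparable K L) := by
  classical
  obtain ⟨x, hx⟩ := hx
  have hessK : Algebra.EssFiniteType k K := IntermediateField.fg_top_iff.1 hK
  have hessKL : Algebra.EssFiniteType K L := inferInstance
  have hessL : Algebra.EssFiniteType k L := Algebra.EssFiniteType.comp k K L
  have hrK : Module.finrank K Ω[K⁄k] = 1 := by
    rw [Groth.Agent.H80.finrank_kaehler_eq_card hx]; rfl
  have hxL : IsTranscendenceBasis k (algebraMap K L ∘ fun _ : Unit => x) := hx.algebraMap_comp
  have hrL : Module.finrank L Ω[L⁄k] = 1 := by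
    rw [Groth.Agent.H80.finrank_kaehler_eq_card hxL]; rfl
  obtain ⟨ω0, hω0, hgen⟩ := finrank_eq_one_iff'.1 hrK
  obtain ⟨η0, hη0, hgenL⟩ := finrank_eq_one_iff'.1 hrL
  have hsmul : ∀ (c : K) (v : Ω[L⁄k]), c • v = 0 → v ≠ 0 → c = 0 := by
    intro c v hcv hv
    rw [← algebraMap_smul L c v] at hcv
    rcases smul_eq_zero.1 hcv with h | h
    · exact (map_eq_zero _).1 h
    · exact absurd h hv
  have hdich : KaehlerDifferential.map k k K L = 0 ∨
      Function.Injective (KaehlerDifferential.map k k K L) := by
    by_cases h0 : KaehlerDifferential.map k k K L ω0 = 0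
    · left
      apply LinearMap.ext
      intro ω
      obtain ⟨c, rfl⟩ := hgen ω
      rw [map_smul, h0, smul_zero]; rfl
    · right
      rw [injective_iff_map_eq_zero]
      intro ω hω
      obtain ⟨c, rfl⟩ := hgen ω
      rw [map_smul] at hω
      rw [hsmul c _ hω h0, zero_smul]
  refine ⟨hdich, ?_, ?_⟩
  · intro hinj
    have hf0 : KaehlerDifferential.map k k K L ω0 ≠ 0 := fun h =>
      hω0 (hinj (by rw [h, map_zero]))
    have hsurj : Function.Surjective (KaehlerDifferential.mapBaseChange k K L) := by
      obtain ⟨c, hc⟩ := hgenL (KaehlerDifferential.map k k K L ω0)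
      have hc0 : c ≠ 0 := by
        rintro rfl
        rw [zero_smul] at hc
        exact hf0 hc.symm
      intro η
      obtain ⟨d, rfl⟩ := hgenL η
      refine ⟨(d * c⁻¹) ⊗ₜ[K] ω0, ?_⟩
      rw [KaehlerDifferential.mapBaseChange_tmul, ← hc, smul_smul, mul_assoc,
        inv_mul_cancel₀ hc0, mul_one]
    have hsub : Subsingleton Ω[L⁄K] := by
      refine ⟨fun a b => ?_⟩
      suffices h : ∀ ω : Ω[L⁄K], ω = 0 by rw [h a, h b]
      intro ω
      obtain ⟨ω', rfl⟩ := KaehlerDifferential.map_surjective k K L ω
      obtain ⟨t, rfl⟩ := hsurj ω'
      exact (KaehlerDifferential.exact_mapBaseChange_map k K L _).2 ⟨t, rfl⟩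
    have hunr : Algebra.FormallyUnramified K L := ⟨hsub⟩
    exact (Algebra.FormallyUnramified.iff_isSeparable K L).1 hunr
  · intro hsep
    have het : Algebra.FormallyEtale K L := Algebra.FormallyEtale.of_isSeparable K L
    have h1 : ∀ ω, KaehlerDifferential.map k k K L ω =
        KaehlerDifferential.tensorKaehlerEquivOfFormallyEtale k K L ((1 : L) ⊗ₜ[K] ω) := by
      intro ω
      rw [KaehlerDifferential.tensorKaehlerEquivOfFormallyEtale_apply,
        KaehlerDifferential.mapBaseChange_tmul, one_smul]
    intro ω ω' h
    rw [h1, h1] at h
    have h2 := (KaehlerDifferential.tensorKaehlerEquivOfFormallyEtale k K L).injective h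
    exact Module.Flat.tensorProduct_mk_injective (R := K) (S := L) (M := Ω[K⁄k]) h2

end Groth.Agent.S11092
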