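import Groth.Statements.S11094
import Groth.Agent.H75.FunctionFieldHom
import Groth.Agent.H75.TransAut

set_option autoImplicit false
universe u
open CategoryTheory CategoryTheory.Limits MonoidalCategory CartesianMonoidalCategory MonObj GrpObj AlgebraicGeometry
open AbVar

namespace Groth.Agent.S11094

/-- Let k be an algebraically closed field, E and E′ elliptic curves over k — group schemes over Spec k
whose underlying schemes are proper, smooth, integral and one-dimensional — and φ : E → E′ a
homomorphism which is finite, surjective and étale (a separable isogeny), sending the generic point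
of E to that of E′, so that the function field of E′ maps into the function field of E. Then the
function field of E is a Galois extension of that of E′, and the number of its automorphisms over
the function field of E′ equals the number of k-valued points of E that φ sends to the unit of E′. -/
theorem result (k : Type u) [Field k] [IsAlgClosed k]
    (E E' : Over (Spec (CommRingCat.of k)))
    [GrpObj E] [IsProper E.hom] [Smooth E.hom] [IsIntegral E.left] (hE : topologicalKrullDim E.left = 1)
    [GrpObj E'] [IsProper E'.hom] [Smooth E'.hom] [IsIntegral E'.left] (hE' : topologicalKrullDim E'.left = 1)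
    (φ : E ⟶ E') [IsMonHom φ] [IsFinite φ.left] [Surjective φ.left] [Etale φ.left]
    (e : φ.left (genericPoint E.left) = genericPoint E'.left) :
    letI := ((E'.left.presheaf.stalkSpecializes (specializes_of_eq e) ≫
      φ.left.stalkMap (genericPoint E.left)).hom).toAlgebra
    IsGalois E'.left.functionField E.left.functionField ∧
      Nat.card (E.left.functionField ≃ₐ[E'.left.functionField] E.left.functionField) =
        Nat.card {P : 𝟙_ (Over (Spec (CommRingCat.of k))) ⟶ E // P ≫ φ = η[E']} := by
  classical
  -- basic instances
  haveI : LocallyOfFiniteType E.hom := inferInstance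
  haveI : LocallyOfFiniteType E'.hom := inferInstance
  haveI : IsSeparated E.hom := inferInstance
  haveI : Flat φ.left := inferInstance
  haveI : FormallyUnramified φ.left := inferInstance
  letI alg : Algebra E'.left.functionField E.left.functionField :=
    (Groth.Agent.H75.FibreDegree.ffHom φ.left e).toAlgebra
  change IsGalois E'.left.functionField E.left.functionField ∧
    Nat.card (E.left.functionField ≃ₐ[E'.left.functionField] E.left.functionField) =
      Nat.card {P : 𝟙_ (Over (Spec (CommRingCat.of k))) ⟶ E // P ≫ φ = η[E']}
  -- the closed point of `Spec k`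
  let pt : ↥(𝟙_ (Over (Spec (CommRingCat.of k)))).left :=
    (show ↥(Spec (CommRingCat.of k)) from IsLocalRing.closedPoint k)
  -- the unit point of `E'`
  let e' : E'.left := (η[E']).left pt
  have hw' : (η[E']).left ≫ E'.hom = 𝟙 _ := Over.w (η[E'])
  have he' : IsClosed ({e'} : Set E'.left) :=
    (pointEquivClosedPoint E'.hom ⟨(η[E']).left, hw'⟩).2
  -- the fibre count
  have hfib : Nat.card {q : E.left // φ.left.base q = e'} =
      Module.finrank E'.left.functionField E.left.functionField :=
    Groth.Agent.H75.FibreDegree.card_fibre_eq_finrank k E'.hom φ.left e e' he'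
  -- kernel points ↔ fibre points
  have hG : Nat.card {P : 𝟙_ (Over (Spec (CommRingCat.of k))) ⟶ E // P ≫ φ = η[E']} =
      Nat.card {q : E.left // φ.left.base q = e'} := by
    refine Nat.card_congr (Equiv.ofBijective (fun P => ⟨P.1.left pt, ?_⟩) ⟨?_, ?_⟩)
    · have := congr($(P.2).left pt)
      exact this
    · intro P Q h
      have h1 : P.1.left pt = Q.1.left pt := congr($(h).1)
      apply Subtype.ext
      apply Over.OverMorphism.ext
      exact ext_of_apply_closedPoint_eq E.hom (Over.w P.1) (Over.w Q.1) h1
    · rintro ⟨q, hq⟩
      have hqc : IsClosed ({q} : Set E.left) := by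
        refine isClosed_of_subset_discrete_closed (t := φ.left.base ⁻¹' {e'}) ?_
          (φ.left.isDiscrete_preimage_singleton e') (he'.preimage φ.left.continuous)
        simpa using hq
      let P : 𝟙_ (Over (Spec (CommRingCat.of k))) ⟶ E :=
        Over.homMk (pointOfClosedPoint E.hom q hqc) (by simp)
      have hPpt : P.left pt = q := pointOfClosedPoint_apply E.hom q hqc pt
      refine ⟨⟨P, ?_⟩, Subtype.ext hPpt⟩
      apply Over.OverMorphism.ext
      refine ext_of_apply_closedPoint_eq E'.hom (Over.w (P ≫ φ)) hw' ?_
      change φ.left (P.left pt) = e'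
      rw [hPpt]
      exact hq
  -- finite-dimensionality
  have hpos : 0 < Module.finrank E'.left.functionField E.left.functionField := by
    rw [← hfib]
    obtain ⟨q, hq⟩ := φ.left.surjective e'
    haveI : Nonempty {q : E.left // φ.left.base q = e'} := ⟨⟨q, hq⟩⟩
    haveI : Finite {q : E.left // φ.left.base q = e'} :=
      (φ.left.finite_preimage_singleton e').to_subtype
    exact Nat.card_pos
  haveI : FiniteDimensional E'.left.functionField E.left.functionField :=
    Module.finite_of_finrank_pos hpos
  -- translations
  have key : ∀ P : {P : 𝟙_ (Over (Spec (CommRingCat.of k))) ⟶ E // P ≫ φ = η[E']},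
      ∃ (hη : (Groth.Agent.H75.TransAut.tr P.1).left.base (genericPoint E.left) =
        genericPoint E.left),
        (Groth.Agent.H75.FibreDegree.ffHom (Groth.Agent.H75.TransAut.tr P.1).left hη).comp
          (Groth.Agent.H75.FibreDegree.ffHom φ.left e) =
            Groth.Agent.H75.FibreDegree.ffHom φ.left e := by
    intro P
    haveI : IsIso (Groth.Agent.H75.TransAut.tr P.1) := Groth.Agent.H75.TransAut.isIso_tr P.1
    haveI : IsIso (Groth.Agent.H75.TransAut.tr P.1).left :=
      (Over.forget _).map_isIso (Groth.Agent.H75.TransAut.tr P.1)
    have hη := genericPoint_eq_of_isOpenImmersion (Groth.Agent.H75.TransAut.tr P.1).left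
    refine ⟨hη, ?_⟩
    have h1 : Groth.Agent.H75.TransAut.tr P.1 ≫ φ = φ :=
      Groth.Agent.H75.TransAut.tr_comp_hom φ P.1 P.2
    have h2 : (Groth.Agent.H75.TransAut.tr P.1).left ≫ φ.left = φ.left := by
      rw [← Over.comp_left, h1]
    have e2 : ((Groth.Agent.H75.TransAut.tr P.1).left ≫ φ.left).base (genericPoint E.left) =
        genericPoint E'.left := by
      rw [h2]
      exact e
    rw [← Groth.Agent.H75.FibreDegree.ffHom_comp (Groth.Agent.H75.TransAut.tr P.1).left φ.left
      hη e e2]
    exact Groth.Agent.H75.FibreDegree.ffHom_congr h2 e2 e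
  choose hη hcomm using key
  let a : {P : 𝟙_ (Over (Spec (CommRingCat.of k))) ⟶ E // P ≫ φ = η[E']} →
      (E.left.functionField →ₐ[E'.left.functionField] E.left.functionField) := fun P =>
    { toRingHom := Groth.Agent.H75.FibreDegree.ffHom (Groth.Agent.H75.TransAut.tr P.1).left (hη P)
      commutes' := fun x => congr($(hcomm P) x) }
  have ha : Function.Injective a := by
    intro P Q h
    have h1 : Groth.Agent.H75.FibreDegree.ffHom (Groth.Agent.H75.TransAut.tr P.1).left (hη P) =
        Groth.Agent.H75.FibreDegree.ffHom (Groth.Agent.H75.TransAut.tr Q.1).left (hη Q) :=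
      congr($(h).toRingHom)
    have h2 : (Groth.Agent.H75.TransAut.tr P.1).left = (Groth.Agent.H75.TransAut.tr Q.1).left :=
      Groth.Agent.H75.FibreDegree.eq_of_ffHom_eq E.hom _ _
        ((Over.w (Groth.Agent.H75.TransAut.tr P.1)).trans
          (Over.w (Groth.Agent.H75.TransAut.tr Q.1)).symm) (hη P) (hη Q) h1
    apply Subtype.ext
    apply Groth.Agent.H75.TransAut.tr_injective
    exact Over.OverMorphism.ext h2
  -- counting
  have hle1 : Nat.card {P : 𝟙_ (Over (Spec (CommRingCat.of k))) ⟶ E // P ≫ φ = η[E']} ≤
      Nat.card (E.left.functionField →ₐ[E'.left.functionField] E.left.functionField) :=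
    Nat.card_le_card_of_injective a ha
  have hle2 : Nat.card (E.left.functionField →ₐ[E'.left.functionField] E.left.functionField) ≤
      Module.finrank E'.left.functionField E.left.functionField := by
    rw [Nat.card_eq_fintype_card]
    exact AlgHom.card_le
  have hequiv : Nat.card (E.left.functionField ≃ₐ[E'.left.functionField] E.left.functionField) =
      Nat.card (E.left.functionField →ₐ[E'.left.functionField] E.left.functionField) :=
    Nat.card_congr (algEquivEquivAlgHom E'.left.functionField E.left.functionField).toEquiv
  have hcard : Nat.card (E.left.functionField ≃ₐ[E'.left.functionField] E.left.functionField) =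
      Module.finrank E'.left.functionField E.left.functionField := by
    rw [hequiv]
    rw [hG, hfib] at hle1
    exact le_antisymm hle2 hle1
  exact ⟨IsGalois.of_card_aut_eq_finrank _ _ hcard, by rw [hcard, hG, hfib]⟩

end Groth.Agent.S11094
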