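import Groth.Statements.S11096

set_option autoImplicit false
universe u
open Neron

namespace Groth.Agent.S11096

/-- Let a Weierstrass equation have coefficients in a commutative ring R and let I be an ideal with a₃,
a₄, a₆ ∈ I. If the discriminant Δ does not lie in I ^ 2, then a₆ does not lie in I ^ 2 and b₂ does
not lie in I. (For a discrete valuation ring with maximal ideal (π): if π divides a₃, a₄, a₆ and
v(Δ) = 1, then v(a₆) = 1 and π does not divide b₂.) -/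
theorem result {R : Type u} [CommRing R] (W : WeierstrassCurve R)
    (I : Ideal R) (h3 : W.a₃ ∈ I) (h4 : W.a₄ ∈ I) (h6 : W.a₆ ∈ I) (hΔ : W.Δ ∉ I ^ 2) :
    W.a₆ ∉ I ^ 2 ∧ W.b₂ ∉ I := by
  have hb4 : W.b₄ ∈ I := by
    unfold WeierstrassCurve.b₄
    exact I.add_mem (I.mul_mem_left _ h4) (I.mul_mem_left _ h3)
  have hb6 : W.b₆ ∈ I := by
    unfold WeierstrassCurve.b₆
    exact I.add_mem (I.pow_mem_of_mem h3 2 (by norm_num)) (I.mul_mem_left _ h6)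
  have key : W.Δ = -(W.b₂ ^ 3 * W.a₆) + (W.b₂ ^ 2 * W.a₁) * (W.a₃ * W.a₄)
      - (W.b₂ ^ 2 * W.a₂) * (W.a₃ * W.a₃) + W.b₂ ^ 2 * (W.a₄ * W.a₄)
      - 8 * W.b₄ * (W.b₄ * W.b₄) - 27 * (W.b₆ * W.b₆) + 9 * W.b₂ * (W.b₄ * W.b₆) := by
    simp only [WeierstrassCurve.Δ, WeierstrassCurve.b₈, WeierstrassCurve.b₂]
    ring
  have hmul : ∀ {a b : R}, a ∈ I → b ∈ I → a * b ∈ I ^ 2 := by
    intro a b ha hb
    rw [sq]
    exact Ideal.mul_mem_mul ha hb
  have rest : ∀ x : R, x ∈ I ^ 2 → W.Δ ∈ I ^ 2 ∨ W.b₂ ^ 3 * W.a₆ ∉ I ^ 2 := by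
    intro x _
    by_cases h : W.b₂ ^ 3 * W.a₆ ∈ I ^ 2
    · left
      rw [key]
      refine (I ^ 2).add_mem ((I ^ 2).sub_mem ((I ^ 2).sub_mem ((I ^ 2).add_mem ((I ^ 2).sub_mem
        ((I ^ 2).add_mem ((I ^ 2).neg_mem h) ?_) ?_) ?_) ?_) ?_) ?_
      · exact (I ^ 2).mul_mem_left _ (hmul h3 h4)
      · exact (I ^ 2).mul_mem_left _ (hmul h3 h3)
      · exact (I ^ 2).mul_mem_left _ (hmul h4 h4)
      · exact (I ^ 2).mul_mem_left _ (hmul hb4 hb4)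
      · exact (I ^ 2).mul_mem_left _ (hmul hb6 hb6)
      · exact (I ^ 2).mul_mem_left _ (hmul hb4 hb6)
    · right; exact h
  have h1 : W.b₂ ^ 3 * W.a₆ ∉ I ^ 2 := by
    rcases rest 0 (I ^ 2).zero_mem with h | h
    · exact absurd h hΔ
    · exact h
  constructor
  · intro h
    exact h1 ((I ^ 2).mul_mem_left _ h)
  · intro h
    apply h1
    have : W.b₂ ^ 3 * W.a₆ = (W.b₂ ^ 2 * W.b₂) * W.a₆ := by ring
    rw [this, mul_assoc]
    exact (I ^ 2).mul_mem_left _ (hmul h h6)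

end Groth.Agent.S11096
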