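import Groth.Statements.S11098


set_option autoImplicit false
universe u
open CategoryTheory CategoryTheory.Limits AlgebraicGeometry
open Neron

namespace Groth.Agent.S11098

/-- Take a Dedekind domain R, write K for its fraction field, and suppose N₁, N₂ are Néron models over
Spec R of the same K-scheme A, through identifications e₁, e₂ of their generic fibres with A. Then
there is a unique R-morphism N₁ → N₂ whose restriction to generic fibres is compatible with e₁ and
e₂, and any such morphism is an isomorphism: the Néron model is unique up to unique isomorphism.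
(The published statement concerns Néron models of an elliptic curve, with the mapping property asked
for rational maps; this row allows any K-scheme A and uses the mapping property for morphisms from
smooth R-schemes.) -/
theorem result (R : Type u) [CommRing R] [IsDedekindDomain R]
    (A : Over (Spec (CommRingCat.of (FractionRing R))))
    (N₁ N₂ : Over (Spec (CommRingCat.of R)))
    (e₁ : (Neron.genericFibre R).obj N₁ ≅ A) (e₂ : (Neron.genericFibre R).obj N₂ ≅ A)
    (h₁ : Neron.IsNeronModelOf R N₁ A e₁) (h₂ : Neron.IsNeronModelOf R N₂ A e₂) :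
    (∃! ψ : N₁ ⟶ N₂, (Neron.genericFibre R).map ψ ≫ e₂.hom = e₁.hom) ∧
      ∀ ψ : N₁ ⟶ N₂, (Neron.genericFibre R).map ψ ≫ e₂.hom = e₁.hom → IsIso ψ := by
  obtain ⟨hsm₁, -, -, -, hb₁⟩ := h₁
  obtain ⟨hsm₂, -, -, -, hb₂⟩ := h₂
  have hψ : ∃! ψ : N₁ ⟶ N₂, (Neron.genericFibre R).map ψ ≫ e₂.hom = e₁.hom :=
    (hb₂ N₁ hsm₁).existsUnique e₁.hom
  refine ⟨hψ, ?_⟩
  intro ψ hψ'
  obtain ⟨ψ', hψ'', -⟩ := (hb₁ N₂ hsm₂).existsUnique e₂.hom
  have hψ''' : (Neron.genericFibre R).map ψ' ≫ e₁.hom = e₂.hom := hψ''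
  have h12 : ψ ≫ ψ' = 𝟙 N₁ := by
    apply (hb₁ N₁ hsm₁).injective
    show (Neron.genericFibre R).map (ψ ≫ ψ') ≫ e₁.hom = (Neron.genericFibre R).map (𝟙 N₁) ≫ e₁.hom
    rw [CategoryTheory.Functor.map_comp, Category.assoc, hψ''', hψ', CategoryTheory.Functor.map_id, Category.id_comp]
  have h21 : ψ' ≫ ψ = 𝟙 N₂ := by
    apply (hb₂ N₂ hsm₂).injective
    show (Neron.genericFibre R).map (ψ' ≫ ψ) ≫ e₂.hom = (Neron.genericFibre R).map (𝟙 N₂) ≫ e₂.hom
    rw [CategoryTheory.Functor.map_comp, Category.assoc, hψ', hψ''', CategoryTheory.Functor.map_id, Category.id_comp]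
  exact ⟨ψ', h12, h21⟩

end Groth.Agent.S11098
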