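import Groth.Statements.S4440
import Groth.Agent.H22.ExtendProper
import Groth.Agent.H14.RegularNormal
import Groth.Agent.Lead.RegularLocal
import Mathlib.RingTheory.DiscreteValuationRing.TFAE

set_option autoImplicit false
universe u
open CategoryTheory CategoryTheory.Limits AlgebraicGeometry
open EGA2

namespace Groth.Agent.S4440

/-- Let S be a locally Noetherian scheme, X proper over S, and Y a reduced S-scheme whose non-regular
locus has codimension at least two (the local ring at every point with local ring of dimension at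
most one is regular). Then the locus where an S-rational map from Y to X is not defined has
codimension at least two: an S-morphism given on a dense open V of Y extends to an S-morphism on an
open containing V and every point whose local ring has dimension at most one. (The published
statement does not ask Y to be locally Noetherian; this row does, which is the setting in which
regularity of local rings is defined.) -/
theorem result {S X Y : Scheme.{u}} [IsLocallyNoetherian S]
    (p : X ⟶ S) [IsProper p] (q : Y ⟶ S) [IsLocallyNoetherian Y] [IsReduced Y]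
    (hreg : ∀ y : Y, ringKrullDim (Y.presheaf.stalk y) ≤ 1 → IsRegularLocalRing (Y.presheaf.stalk y))
    (V : Y.Opens) (hV : Dense (V : Set Y)) (g : (V : Scheme.{u}) ⟶ X) (hg : g ≫ p = V.ι ≫ q) :
    ∃ (U : Y.Opens) (hVU : V ≤ U) (g' : (U : Scheme.{u}) ⟶ X), g' ≫ p = U.ι ≫ q ∧ Y.homOfLE hVU ≫ g' = g ∧
      ∀ y : Y, ringKrullDim (Y.presheaf.stalk y) ≤ 1 → y ∈ U := by
  classical
  -- local extension at a point of codimension ≤ 1 outside `V`
  have step : ∀ y : Y, ringKrullDim (Y.presheaf.stalk y) ≤ 1 → y ∉ V →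
      ∃ (Uy : Y.Opens) (hle : V ≤ Uy) (k : Uy.toScheme ⟶ X), y ∈ Uy ∧ k ≫ p = Uy.ι ≫ q ∧
        Y.homOfLE hle ≫ k = g := by
    intro y hdim hyV
    have hR : IsRegularLocalRing (Y.presheaf.stalk y) := hreg y hdim
    have hdom : IsDomain (Y.presheaf.stalk y) := Groth.Agent.Lead.RLR.isDomain _
    have hic : IsIntegrallyClosed (Y.presheaf.stalk y) :=
      Groth.Agent.H14.isIntegrallyClosed_of_isRegularLocalRing _
    have hN : IsNoetherianRing (Y.presheaf.stalk y) := inferInstance
    have hval : ValuationRing (Y.presheaf.stalk y) := by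
      have htf := (tfae_of_isNoetherianRing_of_isLocalRing_of_isDomain
        (Y.presheaf.stalk y)).out 3 1
      refine htf.mp ⟨hic, ?_⟩
      intro P hP0 hPprime
      have hle1 : Ring.KrullDimLE 1 (Y.presheaf.stalk y) := Ring.krullDimLE_iff.mpr hdim
      have hmax := Ring.krullDimLE_one_iff_of_noZeroDivisors.mp hle1 P hP0 hPprime
      exact IsLocalRing.eq_maximalIdeal hmax
    obtain ⟨W₀, hyW₀, hW₀, hinj⟩ := Y.exists_germ_injective y
    obtain ⟨w, hwW₀, hwV⟩ := hV.inter_open_nonempty W₀ W₀.2 ⟨y, hyW₀⟩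
    obtain ⟨Vy, hyVy, v, hv, hvg⟩ := H22.exists_extension_of_valuationRing_stalk q p V g hg y W₀
      hW₀ hyW₀ hinj ⟨w, hwW₀, hwV⟩
    obtain ⟨k, hk1, hk2⟩ := H22.exists_glue_sup V Vy g v hvg.symm
    refine ⟨V ⊔ Vy, le_sup_left, k, Or.inr hyVy, ?_, hk1⟩
    apply H22.hom_ext_sup
    · rw [← Category.assoc, hk1, hg, Scheme.homOfLE_ι_assoc]
    · rw [← Category.assoc, hk2, hv, Scheme.homOfLE_ι_assoc]
  -- the family of extensions
  let J := Option {y : Y // ringKrullDim (Y.presheaf.stalk y) ≤ 1 ∧ y ∉ V}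
  have H : ∀ j : J, ∃ (Uj : Y.Opens) (hle : V ≤ Uj) (k : Uj.toScheme ⟶ X),
      k ≫ p = Uj.ι ≫ q ∧ Y.homOfLE hle ≫ k = g ∧ ∀ y, j = some y → y.1 ∈ Uj := by
    intro j
    cases j with
    | none =>
      refine ⟨V, le_rfl, g, hg, ?_, by simp⟩
      rw [Scheme.homOfLE_rfl, Category.id_comp]
    | some y =>
      obtain ⟨Uy, hle, k, hyU, hk1, hk2⟩ := step y.1 y.2.1 y.2.2
      refine ⟨Uy, hle, k, hk1, hk2, ?_⟩
      intro y' hy'
      rw [← Option.some.inj hy']
      exact hyU
  choose Uj hle k hk1 hk2 hk3 using H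
  obtain ⟨G, hG⟩ := H22.exists_glue_iSup Uj k (fun i j =>
    H22.homOfLE_comp_eq_of_dense q p V hV g (Uj i) (Uj j) (hle i) (hle j) (k i) (k j) (hk1 i)
      (hk1 j) (hk2 i) (hk2 j))
  have hVU : V ≤ ⨆ j, Uj j := (hle none).trans (le_iSup Uj none)
  refine ⟨⨆ j, Uj j, hVU, G, ?_, ?_, ?_⟩
  · apply H22.hom_ext_iSup
    intro j
    rw [← Category.assoc, hG j, hk1 j, Scheme.homOfLE_ι_assoc]
  · have : Y.homOfLE hVU = Y.homOfLE (hle none) ≫ Y.homOfLE (le_iSup Uj none) := by
      rw [Scheme.homOfLE_homOfLE]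
    rw [this, Category.assoc, hG none, hk2 none]
  · intro y hdim
    by_cases hyV : y ∈ V
    · exact hVU hyV
    · exact le_iSup Uj (some ⟨y, hdim, hyV⟩) (hk3 _ ⟨y, hdim, hyV⟩ rfl)

end Groth.Agent.S4440
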