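import Groth.Statements.S11107
import Groth.Agent.S4440
import Groth.Agent.H39.SmoothStalk

set_option autoImplicit false
universe u
open CategoryTheory AlgebraicGeometry
open Neron

namespace Groth.Agent.S11107

/-- Let R be a Dedekind domain, X → Spec R a smooth morphism, Y → Spec R a proper morphism, U ⊆ X a
dense open subscheme and f : U → Y a morphism over Spec R (a rational map X ⇢ Y over R). Then f
extends, over Spec R, to an open subscheme V ⊇ U of X such that every point of X outside V has a
local ring of Krull dimension at least 2: the locus where the rational map is undefined has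
codimension at least two. (The published statement assumes the rational map dominant; this row does
not.) -/
theorem result {R : Type u} [CommRing R] [IsDedekindDomain R]
    {X Y : Scheme.{u}} (pX : X ⟶ Spec (CommRingCat.of R)) (pY : Y ⟶ Spec (CommRingCat.of R))
    [Smooth pX] [IsProper pY] (U : X.Opens) (hU : Dense (U : Set X))
    (f : (U : Scheme.{u}) ⟶ Y) (hf : f ≫ pY = U.ι ≫ pX) :
    ∃ (V : X.Opens) (hUV : U ≤ V) (g : (V : Scheme.{u}) ⟶ Y),
      g ≫ pY = V.ι ≫ pX ∧ X.homOfLE hUV ≫ g = f ∧
      ∀ x : X, x ∉ V → (2 : WithBot ℕ∞) ≤ ringKrullDim (X.presheaf.stalk x) := by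
  classical
  haveI : IsLocallyNoetherian (Spec (CommRingCat.of R)) := inferInstance
  haveI : IsLocallyNoetherian X := LocallyOfFiniteType.isLocallyNoetherian pX
  -- the local rings of `Spec R` are regular
  have hregS : ∀ y : Spec (CommRingCat.of R),
      IsRegularLocalRing ((Spec (CommRingCat.of R)).presheaf.stalk y) := by
    intro y
    haveI : IsLocalRing (Localization.AtPrime y.asIdeal) := inferInstance
    haveI : IsPrincipalIdealRing (Localization.AtPrime y.asIdeal) := by
      apply IsPrincipalIdealRing.of_finite_maximals
      have : {I : Ideal (Localization.AtPrime y.asIdeal) | I.IsMaximal} =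
          {IsLocalRing.maximalIdeal _} := by
        ext I
        exact ⟨fun h => IsLocalRing.eq_maximalIdeal h,
          fun h => h ▸ IsLocalRing.maximalIdeal.isMaximal _⟩
      rw [this]
      exact Set.finite_singleton _
    haveI : IsRegularLocalRing (Localization.AtPrime y.asIdeal) := inferInstance
    have loc : IsLocalization.AtPrime
        ((Spec.structureSheaf R).presheaf.stalk y) y.asIdeal :=
      StructureSheaf.IsLocalization.to_stalk _ y
    exact IsRegularLocalRing.of_ringEquiv
      (IsLocalization.algEquiv y.asIdeal.primeCompl (Localization.AtPrime y.asIdeal)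
        ((Spec.structureSheaf R).presheaf.stalk y)).toRingEquiv
  have hregX : ∀ x : X, IsRegularLocalRing (X.presheaf.stalk x) := by
    intro x
    apply Groth.Agent.H39.SmoothStalk.isRegularLocalRing_stalk_of_mem_smoothLocus pX x
    · rw [pX.smoothLocus_eq_top]; trivial
    · exact hregS _
  haveI : IsReduced X := by
    haveI : ∀ x : X, _root_.IsReduced (X.presheaf.stalk x) := fun x => by
      haveI := hregX x
      haveI : IsDomain (X.presheaf.stalk x) := Groth.Agent.Lead.RLR.isDomain _
      infer_instance
    exact isReduced_of_isReduced_stalk X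
  obtain ⟨V, hUV, g, hg1, hg2, hV⟩ := Groth.Agent.S4440.result pY pX (fun x _ => hregX x) U hU f hf
  refine ⟨V, hUV, g, hg1, hg2, ?_⟩
  intro x hx
  have h1 : ¬ ringKrullDim (X.presheaf.stalk x) ≤ 1 := fun h => hx (hV x h)
  generalize ringKrullDim (X.presheaf.stalk x) = d at h1
  induction d using WithBot.recBotCoe with
  | bot => exact absurd bot_le h1
  | coe n =>
    have h2 : ¬ n ≤ 1 := fun hn => h1 (by exact_mod_cast hn)
    rw [not_le] at h2
    have h3 : (2 : ℕ∞) ≤ n := by
      have := Order.add_one_le_of_lt h2
      simpa [one_add_one_eq_two] using this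
    have h4 : ((2 : ℕ∞) : WithBot ℕ∞) ≤ (n : WithBot ℕ∞) := WithBot.coe_le_coe.mpr h3
    exact h4

end Groth.Agent.S11107
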