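import Groth.Statements.S11115
import Groth.Agent.H33.SchemeDer.RestrictPush
import Mathlib.Algebra.Homology.Factorizations.CM5a

set_option autoImplicit false
universe u
open CategoryTheory CategoryTheory.Limits AlgebraicGeometry
attribute [local instance] HasDerivedCategory.standard
open Perf

namespace Groth.Agent.S11115

/-- Let f : X ⟶ Y be a quasi-compact quasi-separated morphism of schemes and assume the unbounded
derived direct image Rf_* exists. If F in D(O_X) has cohomology sheaves vanishing below degree n,
then so has Rf_* F. (The published statement restricts F to complexes with quasi-coherent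
cohomology; this row allows any F.) -/
theorem result {X Y : Scheme.{u}} (f : X ⟶ Y) [QuasiCompact f] [QuasiSeparated f] [DCoh.HasRpush f]
    (F : DCoh.D X) (n : ℤ) [F.IsGE n] : ((DCoh.Rpush f).obj F).IsGE n := by
  classical
  obtain ⟨K, hK, ⟨e⟩⟩ := DerivedCategory.exists_iso_Q_obj_of_isGE F n
  obtain ⟨L, i, hi, hL, hLn⟩ :=
    CochainComplex.Plus.modelCategoryQuillen.exists_quasiIso_injective K n
  have hLK : L.IsKInjective := CochainComplex.isKInjective_of_injective L n
  -- the unit is an isomorphism at `L`
  have h1 := Groth.Agent.H33.DerComp.isIso_RFunit_app (Groth.Agent.H33.SchemeDer.hKinj X)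
    (DCoh.pushKh f) ⟨(HomotopyCategory.quotient _ _).obj L, hLK⟩
  have e1 : (DCoh.Rpush f).obj F ≅
      DerivedCategory.Q.obj
        (((Scheme.Modules.pushforward f).mapHomologicalComplex (ComplexShape.up ℤ)).obj L) :=
    (DCoh.Rpush f).mapIso (e ≪≫ asIso (DerivedCategory.Q.map i)) ≪≫ (asIso
      ((Groth.Agent.H33.DerComp.RFunit (DCoh.pushKh f)).app
        ((Groth.Agent.H5.KInjDeriv.Φ X.Modules).functor.obj
          ⟨(HomotopyCategory.quotient _ _).obj L, hLK⟩))).symm
  have h2 : CochainComplex.IsStrictlyGE
      (((Scheme.Modules.pushforward f).mapHomologicalComplex (ComplexShape.up ℤ)).obj L) n := by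
    rw [CochainComplex.isStrictlyGE_iff]
    intro j hj
    exact ((Scheme.Modules.pushforward f).map_isZero (L.isZero_of_isStrictlyGE n j hj))
  exact DerivedCategory.TStructure.t.isGE_of_iso e1.symm n

end Groth.Agent.S11115
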