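import Groth.Statements.S1113
-- import your own Groth.Agent.* helpers here
import Groth.Agent.H6.TruncFactor

set_option autoImplicit false
universe w v u
open CategoryTheory CategoryTheory.Limits
open CohDer

namespace Groth.Agent.S1113

open Category DerivedCategory HomologicalComplex Groth.Agent.H6

/-- Let K : ℕᵒᵖ ⥤ CochainComplex A ℤ be a sequence of cochain maps … → K₂ → K₁ → K₀ in an abelian
category with Hⁱ(K₀) = 0 for i < 0 and such that for every j < n the map Hʲ(Kⱼ₊₁) → Hʲ(Kⱼ) is zero.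
Then in the derived category the composite Kₙ → K₀ factors through the canonical truncation Kₙ →
τ_{≥ n}Kₙ. -/
theorem result {A : Type u} [Category.{v} A] [Abelian A] [HasDerivedCategory.{w} A]
    (K : ℕᵒᵖ ⥤ CochainComplex A ℤ) (n : ℕ)
    (h0 : ∀ i : ℤ, i < 0 → IsZero ((K.obj (Opposite.op 0)).homology i))
    (hz : ∀ j : ℕ, j < n → HomologicalComplex.homologyMap (K.map (homOfLE (Nat.le_succ j)).op) (j : ℤ) = 0) :
    ∃ φ : DerivedCategory.Q.obj ((K.obj (Opposite.op n)).truncGE (n : ℤ)) ⟶ DerivedCategory.Q.obj (K.obj (Opposite.op 0)),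
      DerivedCategory.Q.map ((K.obj (Opposite.op n)).πTruncGE (n : ℤ)) ≫ φ = DerivedCategory.Q.map (K.map (homOfLE (Nat.zero_le n)).op) := by
  induction n with
  | zero =>
    have hGE : (K.obj (Opposite.op 0)).IsGE ((0 : ℕ) : ℤ) := by
      rw [CochainComplex.isGE_iff]
      intro i hi
      rw [exactAt_iff_isZero_homology]
      exact h0 i (by simpa using hi)
    have : IsIso (Q.map ((K.obj (Opposite.op 0)).πTruncGE ((0 : ℕ) : ℤ))) := by
      rw [isIso_Q_map_iff_quasiIso]; infer_instance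
    refine ⟨inv (Q.map ((K.obj (Opposite.op 0)).πTruncGE ((0 : ℕ) : ℤ))), ?_⟩
    rw [IsIso.hom_inv_id]
    have : (homOfLE (Nat.zero_le 0)).op = 𝟙 (Opposite.op 0) := Subsingleton.elim _ _
    rw [this, K.map_id, Q.map_id]
  | succ j ih =>
    obtain ⟨φ, hφ⟩ := ih (fun k hk => hz k (by omega))
    have hcomp : K.map (homOfLE (Nat.zero_le (j + 1))).op =
        K.map (homOfLE (Nat.le_succ j)).op ≫ K.map (homOfLE (Nat.zero_le j)).op := by
      rw [← K.map_comp]
      congr 1
    let X := K.obj (Opposite.op (j + 1))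
    let Y := K.obj (Opposite.op j)
    let t : X ⟶ Y := K.map (homOfLE (Nat.le_succ j)).op
    -- the key vanishing
    have hvan : Q.map (X.ιTruncLE (j : ℤ)) ≫ Q.map (K.map (homOfLE (Nat.zero_le (j + 1))).op) = 0 := by
      rw [hcomp, Q.map_comp, ← hφ]
      have h1 : Q.map (X.ιTruncLE (j : ℤ)) ≫ Q.map t ≫ Q.map (Y.πTruncGE (j : ℤ)) = 0 := by
        apply Q_hom_eq_zero_of_homology_map_eq_zero _ _ (j : ℤ)
        rw [← Q.map_comp, ← Q.map_comp]
        have := (homologyFunctorFactors A (j : ℤ)).hom.naturality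
          (X.ιTruncLE (j : ℤ) ≫ t ≫ Y.πTruncGE (j : ℤ))
        dsimp at this
        rw [← cancel_mono ((homologyFunctorFactors A (j : ℤ)).hom.app _), zero_comp, this]
        have h2 : homologyMap (X.ιTruncLE (j : ℤ) ≫ t ≫ Y.πTruncGE (j : ℤ)) (j : ℤ) = 0 := by
          rw [homologyMap_comp, homologyMap_comp, hz j (by omega), zero_comp, comp_zero]
        have h3 : (HomologicalComplex.homologyFunctor A (ComplexShape.up ℤ) (j : ℤ)).map
            (X.ιTruncLE (j : ℤ) ≫ t ≫ Y.πTruncGE (j : ℤ)) = 0 := h2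
        rw [h3, comp_zero]
      simp only [← assoc] at h1 ⊢
      rw [h1, zero_comp]
    exact exists_fac_πTruncGE X (j : ℤ) ((j + 1 : ℕ) : ℤ) (by push_cast; rfl) _ hvan

end Groth.Agent.S1113
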