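import Groth.Statements.S11132
import Groth.Agent.H5.Stalk.KFlat

set_option autoImplicit false
universe u
open CategoryTheory AlgebraicGeometry
open DCoh

namespace Groth.Agent.S11132

/-- For a scheme X, a cochain complex F of O_X-modules is K-flat if and only if for every point x of X
the complex of stalks F_x, a complex of modules over the local ring O_{X,x}, is K-flat. (The
published statement is for a diagram of schemes and also compares with the restrictions to each
scheme of the diagram; this row is its case of a single scheme.) -/
theorem result (X : Scheme.{u}) (F : CochainComplex X.Modules ℤ) :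
    DCoh.IsKFlat F ↔ ∀ x : X, DRing.IsKFlat (X.presheaf.stalk x)
      (((DerSch.stalkFunctor X x).mapHomologicalComplex (ComplexShape.up ℤ)).obj F) := by
  have key : ∀ (x : X) (G : X.Modules ⥤ ModuleCat.{u} (X.presheaf.stalk x)) [G.Additive]
      (_ : G = Groth.Agent.H5.Stalk.stalkFunctor x),
      DRing.IsKFlat (X.presheaf.stalk x)
        ((G.mapHomologicalComplex (ComplexShape.up ℤ)).obj F) ↔
      DRing.IsKFlat (X.presheaf.stalk x) (Groth.Agent.H5.Stalk.TensorCx.stalkCx x F) := by
    intro x G _ hG
    subst hG
    exact Iff.rfl
  rw [Groth.Agent.H5.Stalk.KFlat.isKFlat_iff_stalks]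
  exact forall_congr' (fun x =>
    (key x _ (Groth.Agent.H5.Stalk.KFlat.derSch_stalkFunctor_eq x)).symm)

end Groth.Agent.S11132
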