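import Groth.Statements.S11136
import Mathlib.RingTheory.Invariant.Basic
import Mathlib.RingTheory.Spectrum.Prime.Noetherian
import Mathlib.Topology.NoetherianSpace
import Mathlib.RingTheory.Ideal.GoingUp

set_option autoImplicit false
universe u v
open InvTh

namespace Groth.Agent.S11136

open scoped Pointwise

/-- Let a finite group G act on a Noetherian commutative ring R by ring automorphisms, with ring of
invariants A (A → R injective with image the fixed elements). When the prime spectrum of A is
connected, any two connected components of Spec R are exchanged by some element of G: for all points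
x, y of Spec R there is g in G whose induced self-map of Spec R carries the connected component of x
onto the connected component of y. -/
theorem result
    (A : Type u) (R : Type v) [CommRing A] [CommRing R] [Algebra A R] [IsNoetherianRing R]
    (G : Type u) [Group G] [Finite G] [MulSemiringAction G R] [SMulCommClass G A R]
    [Algebra.IsInvariant A R G] [FaithfulSMul A R]
    [ConnectedSpace (PrimeSpectrum A)] (x y : PrimeSpectrum R) :
    ∃ g : G, PrimeSpectrum.comap (MulSemiringAction.toRingHom G R g) '' connectedComponent x =
      connectedComponent y := by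
  classical
  -- Noetherian topological space: connected components are open
  have hopen : ∀ z : PrimeSpectrum R, IsOpen (connectedComponent z) := by
    intro z
    have hfin := TopologicalSpace.NoetherianSpace.finite_irreducibleComponents
      (α := PrimeSpectrum R)
    have hcompl : (connectedComponent z)ᶜ =
        ⋃₀ {Z ∈ irreducibleComponents (PrimeSpectrum R) | Disjoint Z (connectedComponent z)} := by
      ext w
      constructor
      · intro hw
        refine ⟨irreducibleComponent w, ⟨irreducibleComponent_mem_irreducibleComponents w, ?_⟩,
          mem_irreducibleComponent⟩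
        rw [Set.disjoint_left]
        intro u hu huz
        apply hw
        have hpre : IsPreconnected (irreducibleComponent w) :=
          (isIrreducible_irreducibleComponent (x := w)).isConnected.isPreconnected
        have hsub := hpre.subset_connectedComponent hu
        rw [← connectedComponent_eq huz] at hsub
        exact hsub mem_irreducibleComponent
      · rintro ⟨Z, ⟨-, hZ⟩, hwZ⟩ hw
        exact Set.disjoint_left.1 hZ hwZ hw
    rw [← isClosed_compl_iff, hcompl, Set.sUnion_eq_biUnion]
    refine Set.Finite.isClosed_biUnion (hfin.subset fun Z hZ => hZ.1) fun Z hZ => ?_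
    exact isClosed_of_mem_irreducibleComponents Z hZ.1
  -- the action on the spectrum
  let h : G → PrimeSpectrum R → PrimeSpectrum R := fun g =>
    PrimeSpectrum.comap (MulSemiringAction.toRingHom G R g)
  have hcont : ∀ g, Continuous (h g) := fun g => PrimeSpectrum.continuous_comap _
  have hmul : ∀ g g' z, h g (h g' z) = h (g' * g) z := by
    intro g g' z
    apply PrimeSpectrum.ext
    ext r
    simp only [h, PrimeSpectrum.comap_asIdeal, Ideal.mem_comap, MulSemiringAction.toRingHom_apply,
      mul_smul]
  have hone : ∀ z, h 1 z = z := by
    intro z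
    apply PrimeSpectrum.ext
    ext r
    simp only [h, PrimeSpectrum.comap_asIdeal, Ideal.mem_comap, MulSemiringAction.toRingHom_apply,
      one_smul]
  -- images of connected components
  have himage : ∀ g z, h g '' connectedComponent z = connectedComponent (h g z) := by
    intro g z
    apply le_antisymm
    · exact (hcont g).image_connectedComponent_subset z
    · intro w hw
      have h1 := (hcont g⁻¹).image_connectedComponent_subset (h g z) ⟨w, hw, rfl⟩
      rw [hmul, mul_inv_cancel, hone] at h1
      refine ⟨h g⁻¹ w, h1, ?_⟩
      rw [hmul, inv_mul_cancel, hone]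
  -- the projection
  let π : PrimeSpectrum R → PrimeSpectrum A := PrimeSpectrum.comap (algebraMap A R)
  have hint : Algebra.IsIntegral A R := Algebra.IsInvariant.isIntegral A R G
  have hπclosed : IsClosedMap π :=
    PrimeSpectrum.isClosedMap_comap_of_isIntegral _ (algebraMap_isIntegral_iff.2 hint)
  have hfib : ∀ z w, π z = π w → ∃ g, w = h g z := by
    intro z w hzw
    have hzw' : z.asIdeal.under A = w.asIdeal.under A := congrArg PrimeSpectrum.asIdeal hzw
    obtain ⟨g, hg⟩ := Algebra.IsInvariant.exists_smul_of_under_eq A R G z.asIdeal w.asIdeal hzw'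
    refine ⟨g⁻¹, ?_⟩
    apply PrimeSpectrum.ext
    rw [hg, Ideal.pointwise_smul_eq_comap]
    ext r
    simp only [h, PrimeSpectrum.comap_asIdeal, Ideal.mem_comap, MulSemiringAction.toRingHom_apply]
    rfl
  -- the saturated clopen set
  let Z : Set (PrimeSpectrum R) := ⋃ g, h g '' connectedComponent x
  have hZclopen : IsClopen Z := by
    refine ⟨isClosed_iUnion_of_finite fun g => ?_, isOpen_iUnion fun g => ?_⟩
    · rw [himage]; exact isClosed_connectedComponent
    · rw [himage]; exact hopen _
  have hZstable : ∀ z w, z ∈ Z → π z = π w → w ∈ Z := by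
    intro z w hz hzw
    obtain ⟨g, rfl⟩ := hfib z w hzw
    obtain ⟨g', c, hc, rfl⟩ := Set.mem_iUnion.1 hz
    rw [hmul]
    exact Set.mem_iUnion.2 ⟨g' * g, c, hc, rfl⟩
  have hxZ : x ∈ Z := Set.mem_iUnion.2 ⟨1, x, mem_connectedComponent, hone x⟩
  have hπZ : IsClopen (π '' Z) := by
    refine ⟨hπclosed _ hZclopen.1, ?_⟩
    have hcompl : (π '' Z)ᶜ = π '' Zᶜ := by
      ext q
      constructor
      · intro hq
        obtain ⟨w, hw⟩ : ∃ w, π w = q := by
          obtain ⟨P0, -, hP0prime, hP0⟩ :=
            Ideal.exists_ideal_over_prime_of_isIntegral q.asIdeal (⊥ : Ideal R)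
              (by
                rw [← RingHom.ker_eq_comap_bot,
                  (RingHom.injective_iff_ker_eq_bot _).1 (FaithfulSMul.algebraMap_injective A R)]
                exact bot_le)
          exact ⟨⟨P0, hP0prime⟩, PrimeSpectrum.ext hP0⟩
        refine ⟨w, fun hwZ => hq ⟨w, hwZ, hw⟩, hw⟩
      · rintro ⟨w, hw, rfl⟩ ⟨z, hz, hzw⟩
        exact hw (hZstable z w hz hzw)
    rw [← isClosed_compl_iff, hcompl]
    exact hπclosed _ hZclopen.compl.1
  have hπZuniv : π '' Z = Set.univ := by
    rcases isClopen_iff.1 hπZ with h0 | h1
    · have hx' : π x ∈ π '' Z := ⟨x, hxZ, rfl⟩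
      rw [h0] at hx'
      exact absurd hx' (Set.notMem_empty _)
    · exact h1
  have hyZ : y ∈ Z := by
    have : π y ∈ π '' Z := hπZuniv ▸ Set.mem_univ _
    obtain ⟨z, hz, hzy⟩ := this
    exact hZstable z y hz hzy
  obtain ⟨g, c, hc, hcy⟩ := Set.mem_iUnion.1 hyZ
  refine ⟨g, ?_⟩
  change h g '' connectedComponent x = connectedComponent y
  rw [himage, ← hcy]
  have : connectedComponent x = connectedComponent c := connectedComponent_eq hc
  rw [← himage, ← himage, this]

end Groth.Agent.S11136
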