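import Groth.Statements.S11139
import Groth.Agent.H93.InvSk
import Groth.Agent.H14.SerreLoc

set_option autoImplicit false
universe u
open TensorProduct
open InvTh

namespace Groth.Agent.S11139

/-- Let k be a field and H a finite-dimensional commutative Hopf algebra over k (the coordinate ring of
a finite k-group scheme G) which is linearly reductive, i.e. every finite-dimensional H-comodule is
semisimple. Let R be a commutative k-algebra of finite type with an H-comodule structure whose
coaction R → R ⊗ H is multiplicative and unital (an action of G on Spec R), and let A be the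
k-subalgebra of invariants, the elements a whose coaction is a ⊗ 1. If the ring R satisfies Serre's
condition (S_r), then (S_r) holds both for R viewed as a module over A and for the ring A itself. -/
theorem result (k : Type u) [Field k]
    (H : Type u) [CommRing H] [HopfAlgebra k H] [Module.Finite k H] (hG : HopfRep.IsLinearlyReductive k H)
    (R : Type u) [CommRing R] [Algebra k R] [Algebra.FiniteType k R] [HopfRep.Comod k H R]
    (hmul : ∀ x y : R, HopfRep.Comod.coact (k := k) (A := H) (x * y) =
        HopfRep.Comod.coact (k := k) (A := H) x * HopfRep.Comod.coact (k := k) (A := H) y)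
    (hone : HopfRep.Comod.coact (k := k) (A := H) (1 : R) = 1)
    (A : Subalgebra k R)
    (hA : ∀ a : R, a ∈ A ↔ HopfRep.Comod.coact (k := k) (A := H) a = a ⊗ₜ[k] (1 : H))
    (r : ℕ) (hR : LocCoh.HasSk r R R) :
    LocCoh.HasSk r A R ∧ LocCoh.HasSk r A A := by
  haveI : GLin.IsCoactAlg k H R := ⟨hone, hmul⟩
  obtain rfl : A = GLin.invariants k H R := by
    ext a
    rw [hA]
    rfl
  haveI : IsNoetherianRing (GLin.invariants k H R) := Groth.Agent.H93.isNoetherianRing_invariants
  rw [Groth.Agent.H14.hasSk_self_iff] at hR
  -- the key inequality at each prime of the invariants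
  have key : ∀ (p : Ideal (GLin.invariants k H R)) [p.IsPrime],
      min (r : ℕ∞) p.height ≤
        LocCoh.depth (Localization.AtPrime p) (LocalizedModule p.primeCompl R) ∧
      LocCoh.depth (Localization.AtPrime p) (LocalizedModule p.primeCompl R) ≤
        LocCoh.depth (Localization.AtPrime p)
          (LocalizedModule p.primeCompl (GLin.invariants k H R)) := by
    intro p hp
    obtain ⟨q, hq, -, hht, hd1, hd2⟩ := Groth.Agent.H93.exists_prime_core (R := R) hG p
    refine ⟨?_, hd2⟩
    exact (min_le_min le_rfl hht).trans ((hR q).trans hd1)
  have hdim : ∀ (p : Ideal (GLin.invariants k H R)) [p.IsPrime] (M : Type u) [AddCommGroup M]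
      [Module (GLin.invariants k H R) M],
      min (r : WithBot ℕ∞)
        (Module.supportDim (Localization.AtPrime p) (LocalizedModule p.primeCompl M)) ≤
      ((min (r : ℕ∞) p.height : ℕ∞) : WithBot ℕ∞) := by
    intro p hp M _ _
    have h1 := Module.supportDim_le_ringKrullDim (Localization.AtPrime p)
      (LocalizedModule p.primeCompl M)
    rw [IsLocalization.AtPrime.ringKrullDim_eq_height p (Localization.AtPrime p)] at h1
    rw [WithBot.coe_min]
    exact min_le_min le_rfl h1
  constructor
  · intro p hp
    exact (hdim p R).trans (WithBot.coe_le_coe.mpr (key p).1)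
  · intro p hp
    exact (hdim p (GLin.invariants k H R)).trans
      (WithBot.coe_le_coe.mpr ((key p).1.trans (key p).2))

end Groth.Agent.S11139
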