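import Groth.Statements.S11140
import Groth.Agent.H93.InvSk
import Groth.Agent.H72.DepthCM

set_option autoImplicit false
universe u
open TensorProduct
open InvTh

namespace Groth.Agent.S11140

/-- Let k be a field and H a finite-dimensional commutative Hopf algebra over k (the coordinate ring of
a finite k-group scheme G) which is linearly reductive, i.e. every finite-dimensional H-comodule is
semisimple. Let R be a commutative k-algebra of finite type with an H-comodule structure whose
coaction R → R ⊗ H is multiplicative and unital (an action of G on Spec R), and let A be the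
k-subalgebra of invariants. If R is a Cohen–Macaulay ring, then so is A, and R is maximal
Cohen–Macaulay as a module over A: for every prime p of A the localized module R_p over A_p is
Cohen–Macaulay and its support has Krull dimension equal to that of A_p. -/
theorem result (k : Type u) [Field k]
    (H : Type u) [CommRing H] [HopfAlgebra k H] [Module.Finite k H] (hG : HopfRep.IsLinearlyReductive k H)
    (R : Type u) [CommRing R] [Algebra k R] [Algebra.FiniteType k R] [HopfRep.Comod k H R]
    (hmul : ∀ x y : R, HopfRep.Comod.coact (k := k) (A := H) (x * y) =
        HopfRep.Comod.coact (k := k) (A := H) x * HopfRep.Comod.coact (k := k) (A := H) y)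
    (hone : HopfRep.Comod.coact (k := k) (A := H) (1 : R) = 1)
    (A : Subalgebra k R)
    (hA : ∀ a : R, a ∈ A ↔ HopfRep.Comod.coact (k := k) (A := H) a = a ⊗ₜ[k] (1 : H))
    (hR : LocCoh.IsCohenMacaulayRing R) :
    LocCoh.IsCohenMacaulayRing A ∧ ∀ (p : Ideal A) [p.IsPrime],
      LocCoh.IsCohenMacaulayModule (Localization.AtPrime p) (LocalizedModule p.primeCompl R) ∧
        Module.supportDim (Localization.AtPrime p) (LocalizedModule p.primeCompl R) =
          ringKrullDim (Localization.AtPrime p) := by
  haveI : GLin.IsCoactAlg k H R := ⟨hone, hmul⟩
  obtain rfl : A = GLin.invariants k H R := by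
    ext a
    rw [hA]
    rfl
  haveI : IsNoetherianRing (GLin.invariants k H R) := Groth.Agent.H93.isNoetherianRing_invariants
  haveI : Module.Finite (GLin.invariants k H R) R := Groth.Agent.H93.finite_invariants
  -- everything at a prime of the invariants
  have key : ∀ (p : Ideal (GLin.invariants k H R)) [p.IsPrime],
      Module.supportDim (Localization.AtPrime p) (LocalizedModule p.primeCompl R) =
        ((LocCoh.depth (Localization.AtPrime p) (LocalizedModule p.primeCompl R) : ℕ∞) :
          WithBot ℕ∞) ∧
      Module.supportDim (Localization.AtPrime p) (LocalizedModule p.primeCompl R) =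
        ringKrullDim (Localization.AtPrime p) ∧
      ringKrullDim (Localization.AtPrime p) =
        ((LocCoh.depth (Localization.AtPrime p) (Localization.AtPrime p) : ℕ∞) : WithBot ℕ∞) := by
    intro p hp
    obtain ⟨q, hq, -, hht, hd1, hd2⟩ := Groth.Agent.H93.exists_prime_core (R := R) hG p
    haveI := hq
    haveI : IsNoetherianRing (Localization.AtPrime p) :=
      IsLocalization.isNoetherianRing p.primeCompl _ inferInstance
    -- Cohen–Macaulayness of `R` at `q`
    have hCM := (hR.isCohenMacaulayLocalRing_localization q).supportDim_eq_depth
    rw [Module.supportDim_self_eq_ringKrullDim,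
      IsLocalization.AtPrime.ringKrullDim_eq_height q (Localization.AtPrime q)] at hCM
    have hCM' : q.height = LocCoh.idealDepth (IsLocalRing.maximalIdeal (Localization.AtPrime q))
        (Localization.AtPrime q) := WithBot.coe_injective hCM
    -- nontriviality
    haveI hntA : Nontrivial (LocalizedModule p.primeCompl (GLin.invariants k H R)) :=
      (Groth.Agent.H72.DepthCM.locSelfEquiv p).toEquiv.nontrivial
    haveI hntR : Nontrivial (LocalizedModule p.primeCompl R) :=
      (LocalizedModule.map_injective p.primeCompl
        (Algebra.linearMap (GLin.invariants k H R) R) Subtype.val_injective).nontrivial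
    have hkd := IsLocalization.AtPrime.ringKrullDim_eq_height p (Localization.AtPrime p)
    -- upper bounds
    have hR1 := Groth.Agent.H72.DepthCM.depth_le_supportDim (A := Localization.AtPrime p)
      (LocalizedModule p.primeCompl R)
    have hR2 := Module.supportDim_le_ringKrullDim (Localization.AtPrime p)
      (LocalizedModule p.primeCompl R)
    have hA1 := Groth.Agent.H72.DepthCM.depth_le_supportDim (A := Localization.AtPrime p)
      (LocalizedModule p.primeCompl (GLin.invariants k H R))
    have hA2 := Module.supportDim_le_ringKrullDim (Localization.AtPrime p)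
      (LocalizedModule p.primeCompl (GLin.invariants k H R))
    rw [hkd] at hR2 hA2
    -- lower bounds
    have hlow : (p.height : WithBot ℕ∞) ≤
        ((LocCoh.depth (Localization.AtPrime p) (LocalizedModule p.primeCompl R) : ℕ∞) :
          WithBot ℕ∞) := by
      apply WithBot.coe_le_coe.mpr
      exact hht.trans (hCM'.le.trans hd1)
    have hlowA : (p.height : WithBot ℕ∞) ≤
        ((LocCoh.depth (Localization.AtPrime p)
          (LocalizedModule p.primeCompl (GLin.invariants k H R)) : ℕ∞) : WithBot ℕ∞) :=
      hlow.trans (WithBot.coe_le_coe.mpr hd2)
    refine ⟨le_antisymm (hR2.trans hlow) hR1, ?_, ?_⟩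
    · rw [hkd]
      exact le_antisymm hR2 (hlow.trans hR1)
    · rw [hkd, ← Groth.Agent.H72.DepthCM.depth_localizedModule_self]
      exact le_antisymm hlowA (hA1.trans hA2)
  refine ⟨?_, fun p hp => ⟨(key p).1, (key p).2.1⟩⟩
  refine { isCohenMacaulayLocalRing_localization := fun p hp => ?_ }
  haveI : IsNoetherianRing (Localization.AtPrime p) :=
    IsLocalization.isNoetherianRing p.primeCompl _ inferInstance
  refine { supportDim_eq_depth := ?_ }
  rw [Module.supportDim_self_eq_ringKrullDim]
  exact (key p).2.2

end Groth.Agent.S11140
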