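import Groth.Statements.S11141
import Groth.Agent.S11135
import Groth.Agent.H93.Integral

set_option autoImplicit false
universe u
open TensorProduct
open InvTh


namespace Groth.Agent.S11141

open Groth.Agent.H93 in
theorem Phi_tmul {k : Type u} [Field k] {H : Type u} [CommRing H] [HopfAlgebra k H]
    {S : Type u} [CommRing S] [Algebra k S] [HopfRep.Comod k H S] (s : S) (h : H) :
    tw S (LinearMap.mul' k H) (s ⊗ₜ[k] h) =
      HopfRep.Comod.coact (k := k) (A := H) s * ((1 : S) ⊗ₜ[k] h) := by
  rw [tw_tmul]
  induction (HopfRep.Comod.coact (k := k) (A := H) s : S ⊗[k] H) using TensorProduct.induction_on with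
  | zero => simp
  | tmul x b => simp
  | add y y' hy hy' => simp only [add_tmul, map_add, hy, hy', add_mul]

open Groth.Agent.H93 in
theorem Phi_mul {k : Type u} [Field k] {H : Type u} [CommRing H] [HopfAlgebra k H]
    {S : Type u} [CommRing S] [Algebra k S] [HopfRep.Comod k H S]
    (hmul : ∀ x y : S, HopfRep.Comod.coact (k := k) (A := H) (x * y) =
        HopfRep.Comod.coact (k := k) (A := H) x * HopfRep.Comod.coact (k := k) (A := H) y)
    (s : S) (z : S ⊗[k] H) :
    tw S (LinearMap.mul' k H) ((s ⊗ₜ[k] (1 : H)) * z) =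
      HopfRep.Comod.coact (k := k) (A := H) s * tw S (LinearMap.mul' k H) z := by
  induction z using TensorProduct.induction_on with
  | zero => simp
  | tmul t h =>
    rw [Algebra.TensorProduct.tmul_mul_tmul, one_mul, Phi_tmul, Phi_tmul, hmul, mul_assoc]
  | add y y' hy hy' => simp only [mul_add, map_add, hy, hy']

open Groth.Agent.H93 in
theorem coact_mem_nonZeroDivisors {k : Type u} [Field k] {H : Type u} [CommRing H] [HopfAlgebra k H]
    {S : Type u} [CommRing S] [Algebra k S] [HopfRep.Comod k H S]
    (hmul : ∀ x y : S, HopfRep.Comod.coact (k := k) (A := H) (x * y) =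
        HopfRep.Comod.coact (k := k) (A := H) x * HopfRep.Comod.coact (k := k) (A := H) y)
    (s : S) (hs : (s ⊗ₜ[k] (1 : H)) ∈ nonZeroDivisors (S ⊗[k] H)) :
    HopfRep.Comod.coact (k := k) (A := H) s ∈ nonZeroDivisors (S ⊗[k] H) := by
  rw [mem_nonZeroDivisors_iff_left] at hs ⊢
  intro z hz
  have h1 : z = tw S (LinearMap.mul' k H) (tw S (mS k H) z) := by
    have := LinearMap.congr_fun (tw_mul_comp_tw_mS (k := k) (A := H) (V := S)) z
    simpa using this.symm
  rw [h1, ← Phi_mul hmul] at hz
  have h2 : (s ⊗ₜ[k] (1 : H)) * tw S (mS k H) z = 0 := by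
    have := LinearMap.congr_fun (tw_mS_comp_tw_mul (k := k) (A := H) (V := S))
      ((s ⊗ₜ[k] (1 : H)) * tw S (mS k H) z)
    simp only [LinearMap.comp_apply, hz, map_zero, LinearMap.id_apply] at this
    exact this.symm
  rw [h1, hs _ h2, map_zero]

theorem tmul_one_mem_nonZeroDivisors {k : Type u} [Field k] {H : Type u} [CommRing H] [Algebra k H]
    {S : Type u} [CommRing S] [Algebra k S] (s : S) (hs : s ∈ nonZeroDivisors S) :
    (s ⊗ₜ[k] (1 : H)) ∈ nonZeroDivisors (S ⊗[k] H) := by
  rw [mem_nonZeroDivisors_iff_left] at hs ⊢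
  have hinj : Function.Injective (LinearMap.mulLeft k s) := by
    intro x y hxy
    have : s * (x - y) = 0 := by simpa [mul_sub, sub_eq_zero] using hxy
    exact sub_eq_zero.mp (hs _ this)
  have h2 := Module.Flat.rTensor_preserves_injective_linearMap (M := H) (LinearMap.mulLeft k s) hinj
  have h3 : ∀ z : S ⊗[k] H, (LinearMap.mulLeft k s).rTensor H z = (s ⊗ₜ[k] (1 : H)) * z := by
    intro z
    induction z using TensorProduct.induction_on with
    | zero => simp
    | tmul t h => simp
    | add y y' hy hy' => simp only [mul_add, map_add, hy, hy']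
  intro z hz
  apply h2
  rw [map_zero, h3, hz]

end Groth.Agent.S11141

namespace Groth.Agent.S11141

/-- Let k be a field, H a finitely generated commutative Hopf algebra over k (the coordinate ring of a
group scheme affine and of finite type over k), and S a commutative k-algebra which is
ring-isomorphic to a finite product of normal (integrally closed) domains and carries an H-comodule
structure whose coaction S → S ⊗ H is multiplicative and unital. Then the k-subalgebra of invariants
of S, the elements s whose coaction is s ⊗ 1, is again ring-isomorphic to a finite product of normal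
domains. -/
theorem result (k : Type u) [Field k]
    (H : Type u) [CommRing H] [HopfAlgebra k H] [Algebra.FiniteType k H]
    (S : Type u) [CommRing S] [Algebra k S] [HopfRep.Comod k H S]
    (hmul : ∀ x y : S, HopfRep.Comod.coact (k := k) (A := H) (x * y) =
        HopfRep.Comod.coact (k := k) (A := H) x * HopfRep.Comod.coact (k := k) (A := H) y)
    (hone : HopfRep.Comod.coact (k := k) (A := H) (1 : S) = 1)
    {ι : Type u} [Fintype ι] (D : ι → Type u) [∀ i, CommRing (D i)] [∀ i, IsDomain (D i)]
    [∀ i, IsIntegrallyClosed (D i)] (e : S ≃+* Π i, D i)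
    (A : Subalgebra k S)
    (hA : ∀ a : S, a ∈ A ↔ HopfRep.Comod.coact (k := k) (A := H) a = a ⊗ₜ[k] (1 : H)) :
    ∃ (κ : Type u) (_ : Fintype κ) (E : κ → Type u) (_ : ∀ j, CommRing (E j)) (_ : ∀ j, IsDomain (E j))
      (_ : ∀ j, IsIntegrallyClosed (E j)), Nonempty (A ≃+* Π j, E j) := by
  classical
  -- the two ring maps
  let ρ : S →+* S ⊗[k] H :=
    { toFun := fun s => HopfRep.Comod.coact (k := k) (A := H) s
      map_one' := hone
      map_mul' := hmul
      map_zero' := map_zero _
      map_add' := map_add _ }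
  let ι₁ : S →+* S ⊗[k] H := (Algebra.TensorProduct.includeLeft (R := k) (S := k) (A := S) (B := H)).toRingHom
  let F : Set ((Π i, D i) →+* S ⊗[k] H) := {ρ.comp e.symm.toRingHom, ι₁.comp e.symm.toRingHom}
  let A' : Subring (Π i, D i) := A.toSubring.map e.toRingHom
  have hι₁ : ∀ s : S, ι₁ s = s ⊗ₜ[k] (1 : H) := fun s => rfl
  have hρ : ∀ s : S, ρ s = HopfRep.Comod.coact (k := k) (A := H) s := fun s => rfl
  have hnzd : ∀ s ∈ nonZeroDivisors (Π i, D i), e.symm s ∈ nonZeroDivisors S := by
    intro s hs
    rw [mem_nonZeroDivisors_iff_left] at hs ⊢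
    intro x hx
    have : s * e x = 0 := by
      have := congrArg e hx
      simpa using this
    have := hs _ this
    simpa using this
  have hF : ∀ f ∈ F, ∀ s ∈ nonZeroDivisors (Π i, D i), f s ∈ nonZeroDivisors (S ⊗[k] H) := by
    intro f hf s hs
    have h1 := tmul_one_mem_nonZeroDivisors (k := k) (H := H) (e.symm s) (hnzd s hs)
    rcases hf with rfl | rfl
    · exact coact_mem_nonZeroDivisors hmul _ h1
    · exact h1
  have hA' : ∀ a, a ∈ A' ↔ ∀ f ∈ F, ∀ f' ∈ F, f a = f' a := by
    intro a
    have key : a ∈ A' ↔ e.symm a ∈ A := by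
      constructor
      · rintro ⟨s, hs, rfl⟩
        simpa using hs
      · intro h
        exact ⟨e.symm a, h, by simp⟩
    rw [key, hA]
    constructor
    · intro h f hf f' hf'
      rcases hf with rfl | rfl <;> rcases hf' with rfl | rfl
      · rfl
      · simpa [hρ, hι₁] using h
      · simpa [hρ, hι₁] using h.symm
      · rfl
    · intro h
      have := h (ρ.comp e.symm.toRingHom) (Or.inl rfl) (ι₁.comp e.symm.toRingHom) (Or.inr rfl)
      simpa [hρ, hι₁] using this
  obtain ⟨κ, hκ, E, i1, i2, i3, ⟨φ⟩⟩ := Groth.Agent.S11135.result D (S ⊗[k] H) F hF A' hA'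
  refine ⟨κ, hκ, E, i1, i2, i3, ⟨RingEquiv.trans ?_ φ⟩⟩
  exact (A.toSubring.equivMapOfInjective e.toRingHom e.injective)

end Groth.Agent.S11141
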