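import Groth.Statements.S11147
import Mathlib.RingTheory.Unramified.Field
import Mathlib.FieldTheory.PurelyInseparable.PerfectClosure
import Mathlib.FieldTheory.IntermediateField.Adjoin.Algebra
import Mathlib.LinearAlgebra.TensorProduct.Basis
import Mathlib.RingTheory.Kaehler.Basic
-- import your own Groth.Agent.* helpers here

set_option autoImplicit false
universe u
open FrobAlg

namespace Groth.Agent.S11147

/-- Let p be a prime and k ⊆ K fields of characteristic p such that K is finitely generated over k as a
field. Then the relative Frobenius ring homomorphism K ⊗_{k,Frob} k → K, b ⊗ a ↦ b^p a (the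
Radu–André homomorphism of k → K), is bijective exactly when K is algebraic over k and every element
of K is separable over k. -/
theorem result (p : ℕ) [Fact p.Prime] (k K : Type u) [Field k]
    [Field K] [Algebra k K] [CharP k p] [CharP K p] (hfg : (⊤ : IntermediateField k K).FG) :
    Function.Bijective (FrobAlg.relFrob p k K) ↔ Algebra.IsSeparable k K := by
  classical
  have hess : Algebra.EssFiniteType k K := IntermediateField.fg_top_iff.mp hfg
  have key : ∀ (b : K) (a : FrobAlg.Twist p k), FrobAlg.relFrob p k K (b ⊗ₜ a) =
      b ^ p * algebraMap k K ((FrobAlg.toTwist p k).symm a) := by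
    intro b a
    simp [FrobAlg.relFrob, FrobAlg.frobHom, FrobAlg.inclHom, Algebra.TensorProduct.lift_tmul]
    exact Or.inl rfl
  constructor
  · rintro ⟨-, hsurj⟩
    have hD : ∀ t : FrobAlg.BaseChange p k K,
        KaehlerDifferential.D k K (FrobAlg.relFrob p k K t) = 0 := by
      intro t
      induction t using TensorProduct.induction_on with
      | zero => simp
      | tmul b a =>
        rw [key, Derivation.leibniz, Derivation.map_algebraMap, smul_zero, zero_add,
          Derivation.leibniz_pow]
        rw [← Nat.cast_smul_eq_nsmul K, CharP.cast_eq_zero, zero_smul, smul_zero]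
      | add x y hx hy => rw [map_add, map_add, hx, hy, add_zero]
    have hsub : Subsingleton (Ω[K⁄k]) := by
      have h1 : (⊤ : Submodule K (Ω[K⁄k])) = ⊥ := by
        rw [← KaehlerDifferential.span_range_derivation, Submodule.span_eq_bot]
        rintro _ ⟨x, rfl⟩
        obtain ⟨t, rfl⟩ := hsurj x
        exact hD t
      exact (Submodule.subsingleton_iff K).mp (subsingleton_of_bot_eq_top h1.symm)
    have : Algebra.FormallyUnramified k K := ⟨hsub⟩
    exact Algebra.FormallyUnramified.isSeparable k K
  · intro hsep
    have hfin : Module.Finite k K := Algebra.finite_of_essFiniteType_of_isAlgebraic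
    have hexp : ExpChar k p := ExpChar.prime Fact.out
    constructor
    · rw [injective_iff_map_eq_zero]
      intro t ht
      obtain ⟨c, rfl⟩ := TensorProduct.eq_repr_basis_left (Module.finBasis k K) t
      have hli : LinearIndependent k (fun i => (Module.finBasis k K) i ^ p ^ 1) :=
        LinearIndependent.map_pow_expChar_pow_of_isSeparable p 1
          (Module.finBasis k K).linearIndependent
      rw [Finsupp.sum, map_sum] at ht
      simp only [key] at ht
      have h0 : ∀ i, (FrobAlg.toTwist p k).symm (c i) = 0 := by
        have := (linearIndependent_iff'.mp hli) c.support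
          (fun i => (FrobAlg.toTwist p k).symm (c i)) (by
            rw [← ht]
            apply Finset.sum_congr rfl
            intro i _
            rw [Algebra.smul_def, _root_.mul_comm, pow_one])
        intro i
        by_cases hi : i ∈ c.support
        · exact this i hi
        · rw [Finsupp.notMem_support_iff] at hi
          rw [hi, map_zero]
      have hc : c = 0 := by
        ext i
        have := h0 i
        simpa using this
      rw [hc]
      simp
    · let S : Submodule k K :=
        { carrier := Set.range (FrobAlg.relFrob p k K)
          add_mem' := by
            rintro _ _ ⟨x, rfl⟩ ⟨y, rfl⟩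
            exact ⟨x + y, map_add _ _ _⟩
          zero_mem' := ⟨0, map_zero _⟩
          smul_mem' := by
            rintro a _ ⟨t, rfl⟩
            refine ⟨(1 ⊗ₜ (FrobAlg.toTwist p k a)) * t, ?_⟩
            rw [map_mul, key, Algebra.smul_def]
            simp }
      have hS : S = ⊤ := by
        have hspan := Field.span_map_pow_expChar_pow_eq_top_of_isSeparable (F := k) (E := K) p 1
          (v := (id : K → K)) (by simp)
        rw [eq_top_iff, ← hspan, Submodule.span_le]
        rintro _ ⟨x, rfl⟩
        refine ⟨x ⊗ₜ 1, ?_⟩
        rw [key]
        simp
      intro x
      have hx : x ∈ S := hS ▸ Submodule.mem_top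
      exact hx

end Groth.Agent.S11147
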