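import Groth.Statements.S11148
import Mathlib
import Groth.Agent.H81.Wat.Main

set_option autoImplicit false
universe u
open InvTh

namespace Groth.Agent.S11148

/-- Let k be a field, G a finite group whose order is invertible in k, and ρ : G → GL_n(k) a group
homomorphism all of whose values have determinant 1. Let G act on the polynomial ring k[X_1, …, X_n]
by ring automorphisms fixing k with g • X_i = Σ_j ρ(g)_{ji} X_j (the induced action on the symmetric
algebra of the representation), and let A be the ring of invariants (A → k[X] injective with image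
the fixed elements). Then A is a Gorenstein ring. (The published statement allows any linearly
reductive finite k-group scheme G with G → GL(V) factoring through SL(V), and also identifies the
canonical module of A with A; this row is the case of a constant group of order invertible in k and
keeps the Gorenstein conclusion.) -/
theorem result (k : Type u) [Field k] (n : ℕ)
    (G : Type u) [Group G] [Finite G] (hG : IsUnit ((Nat.card G : ℕ) : k))
    (ρ : G →* Matrix.GeneralLinearGroup (Fin n) k)
    (hdet : ∀ g : G, Matrix.det ((ρ g : Matrix (Fin n) (Fin n) k)) = 1)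
    [MulSemiringAction G (MvPolynomial (Fin n) k)]
    (hC : ∀ (g : G) (c : k), g • (MvPolynomial.C c : MvPolynomial (Fin n) k) = MvPolynomial.C c)
    (hX : ∀ (g : G) (i : Fin n), g • (MvPolynomial.X i : MvPolynomial (Fin n) k) =
      ∑ j : Fin n, (ρ g : Matrix (Fin n) (Fin n) k) j i • (MvPolynomial.X j : MvPolynomial (Fin n) k))
    (A : Type u) [CommRing A] [Algebra A (MvPolynomial (Fin n) k)]
    [SMulCommClass G A (MvPolynomial (Fin n) k)] [Algebra.IsInvariant A (MvPolynomial (Fin n) k) G]
    [FaithfulSMul A (MvPolynomial (Fin n) k)] :
    LocCoh.IsGorensteinRing A := by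
  classical
  haveI : Fintype G := Fintype.ofFinite G
  have hcard : ((Fintype.card G : ℕ) : k) ≠ 0 := by
    rw [← Nat.card_eq_fintype_card]
    exact hG.ne_zero
  have hmul : ∀ g h : G, ((ρ (g * h) : Matrix.GeneralLinearGroup (Fin n) k) :
      Matrix (Fin n) (Fin n) k) = (ρ g : Matrix (Fin n) (Fin n) k) * (ρ h : Matrix (Fin n) (Fin n) k) := by
    intro g h
    rw [map_mul]
    rfl
  have hInv := Groth.Agent.H81.Wat.isGorensteinRing_Inv
    (fun g => ((ρ g : Matrix.GeneralLinearGroup (Fin n) k) : Matrix (Fin n) (Fin n) k))
    hC hX hcard hmul hdet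
  -- `A` is isomorphic to the subalgebra of invariants
  have hmem : ∀ a : A, algebraMap A (MvPolynomial (Fin n) k) a ∈ Groth.Agent.H81.Wat.Inv hC := by
    intro a g
    rw [Algebra.algebraMap_eq_smul_one, smul_comm, smul_one]
  let f : A →+* Groth.Agent.H81.Wat.Inv hC :=
    (algebraMap A (MvPolynomial (Fin n) k)).codRestrict (Groth.Agent.H81.Wat.Inv hC) hmem
  have hf : Function.Bijective f := by
    constructor
    · intro a b hab
      exact FaithfulSMul.algebraMap_injective A (MvPolynomial (Fin n) k)
        (congrArg Subtype.val hab)
    · rintro ⟨b, hb⟩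
      obtain ⟨a, ha⟩ := Algebra.IsInvariant.isInvariant (A := A) (G := G) b hb
      exact ⟨a, Subtype.ext ha⟩
  exact Groth.Agent.H81.ACILink.isGorensteinRing_of_ringEquiv
    (RingEquiv.ofBijective f hf).symm hInv

end Groth.Agent.S11148
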