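import Groth.Statements.S11153
import Groth.Agent.H5.InjAmp

set_option autoImplicit false
universe w v u
open CategoryTheory CategoryTheory.Limits
open CohDer

namespace Groth.Agent.S11153

/-- (i) ⇔ (iii): let A be an abelian category with enough injectives and K a bounded below cochain
complex of objects of A. Then K admits a quasi-isomorphism into a bounded complex of injective
objects of A if and only if there is an integer n₀ such that Hom_{D(A)}(Y[0], K[i]) = 0 for every
object Y of A and every i > n₀. -/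
theorem result {A : Type u} [Category.{v} A] [Abelian A]
    [HasDerivedCategory.{w} A] [EnoughInjectives A]
    (K : CochainComplex A ℤ) (a : ℤ) [K.IsStrictlyGE a] :
    (∃ (I : CochainComplex A ℤ) (b c : ℤ) (f : K ⟶ I), I.IsStrictlyGE b ∧ I.IsStrictlyLE c ∧
        (∀ n : ℤ, Injective (I.X n)) ∧ QuasiIso f) ↔
      ∃ n₀ : ℤ, ∀ (Y : A) (i : ℤ), n₀ < i →
        ∀ φ : (DerivedCategory.singleFunctor A 0).obj Y ⟶ (DerivedCategory.Q.obj K)⟦i⟧, φ = 0 := by
  constructor
  · rintro ⟨I, b, c, f, hb, hc, hI, hf⟩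
    refine ⟨c, fun Y i hi φ => ?_⟩
    exact Groth.Agent.H5.InjAmp.eq_zero_of_isStrictlyLE I hI b c
      (asIso (DerivedCategory.Q.map f)).symm Y i hi φ
  · rintro ⟨n₀, hv⟩
    obtain ⟨I₀, j, hj, hI₀, hI₀'⟩ :=
      CochainComplex.Plus.modelCategoryQuillen.exists_quasiIso_injective K a
    obtain ⟨I, hI, h1, h2, ⟨e⟩⟩ := Groth.Agent.H5.InjAmp.exists_bounded_of_vanishing I₀ hI₀ a
      (max n₀ a) (le_max_right _ _) (asIso (DerivedCategory.Q.map j)).symm
      (fun F i hi φ => hv F i (lt_of_le_of_lt (le_max_left _ _) hi) φ)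
    have : I.IsKInjective := CochainComplex.isKInjective_of_injective I a
    obtain ⟨f, hf⟩ := Groth.Agent.H5.InjAmp.exists_quasiIso_of_iso K I e.symm
    exact ⟨I, a, max n₀ a, f, h1, h2, hI, hf⟩

end Groth.Agent.S11153
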