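import Groth.Statements.S11159
import Groth.Agent.H5.InjAmp

set_option autoImplicit false
universe w v u
open CategoryTheory CategoryTheory.Limits CategoryTheory.Pretriangulated
open CohDer

namespace Groth.Agent.S11159

/-- Let A be an abelian category with enough injectives and X ⟶ Y ⟶ Z ⟶ X⟦1⟧ a distinguished triangle in
D(A). If X and Z are each isomorphic in D(A) to a bounded complex of injective objects of A, then so
is Y. -/
theorem result {A : Type u} [Category.{v} A] [Abelian A]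
    [HasDerivedCategory.{w} A] [EnoughInjectives A]
    (T : Triangle (DerivedCategory A)) (hT : T ∈ distTriang (DerivedCategory A))
    (h₁ : (∃ (I : CochainComplex A ℤ) (b c : ℤ), I.IsStrictlyGE b ∧ I.IsStrictlyLE c ∧
        (∀ n : ℤ, Injective (I.X n)) ∧ Nonempty (T.obj₁ ≅ DerivedCategory.Q.obj I)))
    (h₃ : (∃ (I : CochainComplex A ℤ) (b c : ℤ), I.IsStrictlyGE b ∧ I.IsStrictlyLE c ∧
        (∀ n : ℤ, Injective (I.X n)) ∧ Nonempty (T.obj₃ ≅ DerivedCategory.Q.obj I))) :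
    (∃ (I : CochainComplex A ℤ) (b c : ℤ), I.IsStrictlyGE b ∧ I.IsStrictlyLE c ∧
        (∀ n : ℤ, Injective (I.X n)) ∧ Nonempty (T.obj₂ ≅ DerivedCategory.Q.obj I)) := by
  obtain ⟨I₁, b₁, c₁, hb₁, hc₁, hI₁, ⟨e₁⟩⟩ := h₁
  obtain ⟨I₃, b₃, c₃, hb₃, hc₃, hI₃, ⟨e₃⟩⟩ := h₃
  have key : ∀ (F : A) (i : ℤ), (i < min b₁ b₃ ∨ max (max c₁ c₃) (min b₁ b₃) < i) →
      ∀ φ : (DerivedCategory.singleFunctor A 0).obj F ⟶ (T.obj₂)⟦i⟧, φ = 0 := by
    intro F i hi φ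
    have hT' := Pretriangulated.Triangle.shift_distinguished T hT i
    have h3 : ∀ ψ : (DerivedCategory.singleFunctor A 0).obj F ⟶ (T.obj₃)⟦i⟧, ψ = 0 := fun ψ => by
      obtain hi | hi := hi
      · exact Groth.Agent.H5.InjAmp.eq_zero_of_isStrictlyGE I₃ hI₃ b₃ e₃.symm F i (by omega) ψ
      · exact Groth.Agent.H5.InjAmp.eq_zero_of_isStrictlyLE I₃ hI₃ b₃ c₃ e₃.symm F i (by omega) ψ
    have h1 : ∀ ψ : (DerivedCategory.singleFunctor A 0).obj F ⟶ (T.obj₁)⟦i⟧, ψ = 0 := fun ψ => by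
      obtain hi | hi := hi
      · exact Groth.Agent.H5.InjAmp.eq_zero_of_isStrictlyGE I₁ hI₁ b₁ e₁.symm F i (by omega) ψ
      · exact Groth.Agent.H5.InjAmp.eq_zero_of_isStrictlyLE I₁ hI₁ b₁ c₁ e₁.symm F i (by omega) ψ
    obtain ⟨ψ, hψ⟩ := Pretriangulated.Triangle.coyoneda_exact₂ _ hT' φ (h3 _)
    rw [hψ]
    exact (congrArg (· ≫ _) (h1 ψ)).trans zero_comp
  obtain ⟨I, hI, hz, ⟨e⟩⟩ := (Groth.Agent.H5.InjAmp.main T.obj₂ (min b₁ b₃)
    (max (max c₁ c₃) (min b₁ b₃)) (le_max_right _ _)).1 key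
  refine ⟨I, min b₁ b₃, max (max c₁ c₃) (min b₁ b₃), ?_, ?_, hI, ⟨e.symm⟩⟩
  · rw [CochainComplex.isStrictlyGE_iff]
    intro j hj
    exact hz j (Or.inl hj)
  · rw [CochainComplex.isStrictlyLE_iff]
    intro j hj
    exact hz j (Or.inr hj)

end Groth.Agent.S11159
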