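import Groth.Statements.S11160
import Mathlib.Algebra.Homology.DerivedCategory.KInjective
import Mathlib.Algebra.Homology.DerivedCategory.DerivabilityStructureInjectives
import Mathlib.Algebra.Homology.Factorizations.CM5a
-- import your own Groth.Agent.* helpers here

set_option autoImplicit false
universe w w' v v' u u'
open CategoryTheory CategoryTheory.Limits
open CohDer

namespace Groth.Agent.S11160

section Prelim

variable {A' : Type u'} [Category.{v'} A'] [Abelian A']
  {A : Type u} [Category.{v} A] [Abelian A]
  (F : A' ⥤ A) [F.Additive] [PreservesFiniteLimits F] [F.Full] [F.Faithful]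

omit [Abelian A'] [Abelian A] [F.Additive] in
/-- An object whose image under an exact fully faithful functor is injective is injective. -/
lemma injective_of_injective_obj (Y' : A') (h : Injective (F.obj Y')) : Injective Y' := by
  constructor
  intro U V g f hf
  have : Mono (F.map f) := inferInstance
  refine ⟨F.preimage (Injective.factorThru (F.map g) (F.map f)), ?_⟩
  apply F.map_injective
  rw [F.map_comp, F.map_preimage, Injective.comp_factorThru]

variable (hinj : ∀ X' : A', ∃ (Y' : A') (i : X' ⟶ Y'), Mono i ∧ Injective (F.obj Y'))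

omit [Abelian A'] [Abelian A] [F.Additive] in
include hinj in
lemma enoughInjectives : EnoughInjectives A' := by
  constructor
  intro X'
  obtain ⟨Y', i, hi, hY'⟩ := hinj X'
  exact ⟨⟨Y', injective_of_injective_obj F Y' hY', i, hi⟩⟩

omit [Abelian A'] [Abelian A] [F.Additive] [PreservesFiniteLimits F] [F.Full] [F.Faithful] in
include hinj in
/-- Under the hypothesis, the functor preserves injective objects. -/
lemma injective_obj_of_injective (J : A') [Injective J] : Injective (F.obj J) := by
  obtain ⟨Y', i, hi, hY'⟩ := hinj J
  let r : Y' ⟶ J := Injective.factorThru (𝟙 J) i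
  have hr : i ≫ r = 𝟙 J := Injective.comp_factorThru _ _
  constructor
  intro U V g f hf
  refine ⟨Injective.factorThru (g ≫ F.map i) f ≫ F.map r, ?_⟩
  rw [← Category.assoc, Injective.comp_factorThru, Category.assoc, ← F.map_comp, hr, F.map_id,
    Category.comp_id]

end Prelim

section Transport

variable {C : Type*} [Category C] {D : Type*} [Category D] (G : C ⥤ D)

/-- Bijectivity of a functor on a Hom set only depends on the isomorphism classes of the source
and the target. -/
lemma map_bijective_of_iso {X X' Y Y' : C} (eX : X ≅ X') (eY : Y ≅ Y')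
    (h : Function.Bijective (fun f : X' ⟶ Y' => G.map f)) :
    Function.Bijective (fun f : X ⟶ Y => G.map f) := by
  have h1 : (fun f : X ⟶ Y => G.map f) =
      (fun g => G.map eX.hom ≫ g ≫ G.map eY.inv) ∘ (fun f : X' ⟶ Y' => G.map f) ∘
        (fun f : X ⟶ Y => eX.inv ≫ f ≫ eY.hom) := by
    funext f
    simp only [Function.comp_apply, G.map_comp, Category.assoc]
    rw [← G.map_comp eY.hom eY.inv, eY.hom_inv_id, G.map_id, Category.comp_id,
      ← Category.assoc, ← G.map_comp, eX.hom_inv_id, G.map_id, Category.id_comp]
  rw [h1]
  refine Function.Bijective.comp ?_ (Function.Bijective.comp h ?_)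
  · exact ((G.mapIso eX).homCongr (G.mapIso eY)).symm.bijective
  · exact (eX.homCongr eY).bijective

end Transport


section Main

variable {A' : Type u'} [Category.{v'} A'] [Abelian A'] [HasDerivedCategory.{w'} A']
    {A : Type u} [Category.{v} A] [Abelian A] [HasDerivedCategory.{w} A]
    (F : A' ⥤ A) [F.Additive] [PreservesFiniteLimits F] [PreservesFiniteColimits F]
    [F.Full] [F.Faithful]

open DerivedCategory

lemma bijective_conj {C : Type*} [Category C] {X X' Y Y' : C} (a : X' ⟶ X) [IsIso a]
    (b : Y ⟶ Y') [IsIso b] : Function.Bijective (fun h : X ⟶ Y => a ≫ h ≫ b) := by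
  refine ⟨fun h1 h2 e => ?_, fun k => ⟨inv a ≫ k ≫ inv b, by simp⟩⟩
  simpa [cancel_epi, cancel_mono] using e

/-- The key case: maps into the image of a K-injective complex whose image is K-injective. -/
lemma bijective_of_isKInjective (K : HomotopyCategory A' (ComplexShape.up ℤ))
    (I : CochainComplex A' ℤ) [I.IsKInjective]
    [CochainComplex.IsKInjective ((F.mapHomologicalComplex (ComplexShape.up ℤ)).obj I)] :
    Function.Bijective (fun f : Qh.obj K ⟶
      Qh.obj ((HomotopyCategory.quotient A' (ComplexShape.up ℤ)).obj I) =>
        F.mapDerivedCategory.map f) := by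
  let T := (HomotopyCategory.quotient A' (ComplexShape.up ℤ)).obj I
  have hα : Function.Bijective (Qh.map : (K ⟶ T) → _) :=
    CochainComplex.IsKInjective.Qh_map_bijective K I
  let Fh := F.mapHomotopyCategory (ComplexShape.up ℤ)
  have hFh : Function.Bijective (Fh.map : (K ⟶ T) → _) :=
    ⟨Fh.map_injective, Fh.map_surjective⟩
  let e : Fh.obj T ≅ (HomotopyCategory.quotient A (ComplexShape.up ℤ)).obj
      ((F.mapHomologicalComplex _).obj I) :=
    (F.mapHomotopyCategoryFactors (ComplexShape.up ℤ)).app I
  have hQ : Function.Bijective (fun g : Fh.obj K ⟶ Fh.obj T => Qh.map g) :=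
    map_bijective_of_iso Qh (Iso.refl _) e
      (CochainComplex.IsKInjective.Qh_map_bijective (Fh.obj K) _)
  have hcomp : (fun f : Qh.obj K ⟶ Qh.obj T => F.mapDerivedCategory.map f) ∘
      (Qh.map : (K ⟶ T) → _) =
      (fun h => F.mapDerivedCategoryFactorsh.hom.app K ≫ h ≫
        F.mapDerivedCategoryFactorsh.inv.app T) ∘
        (fun g : Fh.obj K ⟶ Fh.obj T => Qh.map g) ∘ (Fh.map : (K ⟶ T) → _) := by
    funext g
    simp only [Function.comp_apply]
    have h1 := F.mapDerivedCategoryFactorsh.hom.naturality g
    simp only [Functor.comp_map] at h1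
    rw [← Category.assoc, ← h1, Category.assoc, Iso.hom_inv_id_app, Category.comp_id]
  have hbij : Function.Bijective
      ((fun f : Qh.obj K ⟶ Qh.obj T => F.mapDerivedCategory.map f) ∘
        (Qh.map : (K ⟶ T) → _)) := by
    rw [hcomp]
    exact (bijective_conj _ _).comp (hQ.comp hFh)
  exact (Function.Bijective.of_comp_iff _ hα).mp hbij

end Main

/-- Let ι : A' ⥤ A be an exact fully faithful functor of abelian categories whose essential image is
closed under extensions (a thick abelian subcategory), and suppose every object of A' admits a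
monomorphism into an object of A' whose image in A is injective (A' has enough A-injectives). Then
the induced triangulated functor D(A') ⥤ D(A) is fully faithful on cohomologically bounded below
objects. -/
theorem result {A' : Type u'} [Category.{v'} A'] [Abelian A'] [HasDerivedCategory.{w'} A']
    {A : Type u} [Category.{v} A] [Abelian A] [HasDerivedCategory.{w} A]
    (ι : A' ⥤ A) [ι.Additive] [PreservesFiniteLimits ι] [PreservesFiniteColimits ι] [ι.Full] [ι.Faithful]
    (hext : ∀ S : ShortComplex A, S.ShortExact → ι.essImage S.X₁ → ι.essImage S.X₃ → ι.essImage S.X₂)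
    (hinj : ∀ X' : A', ∃ (Y' : A') (i : X' ⟶ Y'), Mono i ∧ Injective (ι.obj Y'))
    (X Y : DerivedCategory A') (a b : ℤ) [X.IsGE a] [Y.IsGE b] :
    Function.Bijective (fun f : X ⟶ Y => ι.mapDerivedCategory.map f) := by
  have hEI : EnoughInjectives A' := enoughInjectives ι hinj
  obtain ⟨L, hL, ⟨eY⟩⟩ := DerivedCategory.exists_iso_Q_obj_of_isGE Y b
  obtain ⟨I, i, hi, hI, hIb⟩ :=
    CochainComplex.Plus.modelCategoryQuillen.exists_quasiIso_injective L b
  have hKI : I.IsKInjective := CochainComplex.isKInjective_of_injective I b
  have hI' : ∀ n, Injective (((ι.mapHomologicalComplex (ComplexShape.up ℤ)).obj I).X n) :=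
    fun n => injective_obj_of_injective ι hinj (I.X n)
  have hGE : CochainComplex.IsStrictlyGE ((ι.mapHomologicalComplex (ComplexShape.up ℤ)).obj I) b :=
    inferInstance
  have hKI' : CochainComplex.IsKInjective ((ι.mapHomologicalComplex (ComplexShape.up ℤ)).obj I) :=
    CochainComplex.isKInjective_of_injective _ b
  let eY' : Y ≅ DerivedCategory.Qh.obj
      ((HomotopyCategory.quotient A' (ComplexShape.up ℤ)).obj I) :=
    eY ≪≫ asIso (DerivedCategory.Q.map i) ≪≫ ((DerivedCategory.quotientCompQhIso A').app I).symm
  let eX : X ≅ DerivedCategory.Qh.obj (DerivedCategory.Qh.objPreimage X) :=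
    (DerivedCategory.Qh.objObjPreimageIso X).symm
  exact map_bijective_of_iso ι.mapDerivedCategory eX eY' (bijective_of_isKInjective ι _ I)

end Groth.Agent.S11160
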