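import Groth.Statements.S11172
import Groth.Agent.H2.LDNonComplete
import Groth.Agent.H2.LCArtinian
import Groth.Agent.H9.LD.GeneralLD
import Groth.Agent.H9.LD.HDICompare
import Groth.Agent.H2.DualCx.Finite

set_option autoImplicit false
universe u
open CategoryTheory
attribute [local instance] HasDerivedCategory.standard
open Dual

namespace Groth.Agent.S11172

/-- Let A be a Noetherian local ring with maximal ideal m and residue field k, ω a normalized dualizing
complex (maps k → ω[i] in D(A) vanish for i ≠ 0), k → E an injective hull of k, and M a finite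
A-module. For every natural number i the local cohomology module H^i_m(M) (the direct limit of
Ext^i(A/m^n, M)) is A-linearly isomorphic to Hom_A(Hom_{D(A)}(M, ω[−i]), E), the E-dual of the
A-module of maps M → ω[−i] in D(A). Existence of an isomorphism only; A is not assumed complete. -/
theorem result (A : Type u) [CommRing A] [IsLocalRing A] [IsNoetherianRing A] (ω : Dual.D A) (hω : Dual.IsDualizing A ω) (hn : Dual.IsNormalized A ω) (E : Type u) [AddCommGroup E] [Module A E] (f : IsLocalRing.ResidueField A →ₗ[A] E) (hf : InjHull.IsInjectiveHull f) (M : Type u) [AddCommGroup M] [Module A M] [Module.Finite A M] (i : ℕ) : Nonempty (LocCoh.H (IsLocalRing.maximalIdeal A) i M ≃ₗ[A] ((Dual.inD A M ⟶ ω⟦(-(i : ℤ))⟧) →ₗ[A] E)) := by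
  haveI := Groth.Agent.H9.RG.hasRgammaI (IsLocalRing.maximalIdeal A)
  obtain ⟨a, b, hab⟩ := hω.finite_injective_dimension
  have hfinX : ∀ j : ℤ, Module.Finite A (Dual.inD A M ⟶ ω⟦j⟧) := fun j =>
    Groth.Agent.H2.DualCx.finite_T ω a (fun N _ _ k hk => hab N k (Or.inl hk))
      hω.finite_cohomology j M
  obtain ⟨θ₀⟩ := Groth.Agent.H9.LD.nonempty_completion_hom_equiv_dual ω hω hn E f hf
    (Dual.inD A M) hfinX (-(i : ℤ)) i (by omega)
  obtain ⟨e1⟩ := Groth.Agent.H9.RG.nonempty_hd_equiv_hdi (IsLocalRing.maximalIdeal A) (i : ℤ)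
    (Dual.inD A M)
  obtain ⟨e2⟩ := Groth.Agent.H9.LD.nonempty_hdi_inD_equiv_H (IsLocalRing.maximalIdeal A) i M
  haveI : IsArtinian A (LocCoh.H (IsLocalRing.maximalIdeal A) i M) :=
    Groth.Agent.H2.LCArtinian.isArtinian_H i M
  haveI := hfinX (-(i : ℤ))
  exact Groth.Agent.H2.LDNC.nonempty_equiv
    (θ₀.trans (LinearEquiv.congrLeft E A (e1.trans e2))) f hf

end Groth.Agent.S11172
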