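import Groth.Statements.S11177
import Groth.Agent.H26.FlatBCDual10
import Groth.Agent.H47.SmoothRegular
import Groth.Agent.S0342

set_option autoImplicit false
universe u
open CategoryTheory
attribute [local instance] HasDerivedCategory.standard
open Dual
open scoped TensorProduct

namespace Groth.Agent.S11177

/-- Let A be a Noetherian ring, A → B a smooth ring homomorphism (formally smooth and of finite
presentation), and ω a dualizing complex for A. Assuming the derived base change functor D(A) → D(B)
(the total left derived functor of extension of scalars) exists, the derived base change ω ⊗^L_A B
is a dualizing complex for B. (The published statement is for a smooth morphism of finite type to a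
Noetherian scheme and concludes that the pull-back of a dualizing complex twisted by the top
relative differentials, shifted by the relative dimension, is dualizing; removing that invertible
twist does not affect being dualizing.) -/
theorem result (A B : Type u) [CommRing A] [CommRing B] [Algebra A B] [IsNoetherianRing A] [Algebra.Smooth A B] [DRing.HasLBaseChange (algebraMap A B)] (ω : Dual.D A) (hω : Dual.IsDualizing A ω) : Dual.IsDualizing B ((DRing.LBaseChange (algebraMap A B)).obj ω) := by
  haveI : Module.Flat A B := inferInstance
  haveI : Algebra.FiniteType A B := inferInstance
  haveI : IsNoetherianRing B := Algebra.FiniteType.isNoetherianRing A B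
  have hG : ∀ p : PrimeSpectrum A,
      LocCoh.IsGorensteinRing (B ⊗[A] p.asIdeal.ResidueField) := by
    intro p
    haveI : Algebra.Smooth p.asIdeal.ResidueField (p.asIdeal.ResidueField ⊗[A] B) :=
      inferInstance
    haveI : IsRegularRing (p.asIdeal.ResidueField ⊗[A] B) :=
      Groth.Agent.H47.isRegularRing_of_smooth p.asIdeal.ResidueField _
    haveI : IsRegularRing (B ⊗[A] p.asIdeal.ResidueField) :=
      IsRegularRing.of_ringEquiv
        (Algebra.TensorProduct.comm A p.asIdeal.ResidueField B).toRingEquiv
    exact
      { isGorensteinLocalRing_localization := fun q _ =>
          Groth.Agent.S0342.result (Localization.AtPrime q) }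
  have e := (Groth.Agent.H26.FlatBCDual.lbcIso (A := A) (B := B)).app ω
  exact Groth.Agent.H26.FlatBCDual.isDualizing_of_iso e.symm
    (Groth.Agent.H26.FlatBCDual.isDualizing_LB_of_finiteType_gorenstein hG ω hω)

end Groth.Agent.S11177
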