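import Groth.Statements.S11180
import Groth.Agent.H20.ComplNoeth2
import Mathlib.RingTheory.AdicCompletion.AsTensorProduct
import Mathlib.RingTheory.AdicCompletion.LocalRing
import Mathlib.RingTheory.Flat.Localization
import Mathlib.RingTheory.Flat.Stability
import Mathlib.RingTheory.Localization.AtPrime.Basic
import Mathlib.LinearAlgebra.TensorProduct.Quotient
-- import your own Groth.Agent.* helpers here

set_option autoImplicit false
universe u
open scoped TensorProduct
open CAlg

namespace Groth.Agent.S11180

/-- Let A be a Noetherian ring and M an A-module. If an element m of M is such that 1 ⊗ m = 0 in B ⊗_A M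
for every A-algebra B which is a complete Noetherian local ring, flat over A, then m = 0.
(Equivalently the natural map from M to the limit of the modules B ⊗_A M over all such B is
injective.) -/
theorem result (A : Type u) [CommRing A] [IsNoetherianRing A] (M : Type u) [AddCommGroup M] [Module A M] (m : M) (h : ∀ (B : Type u) [CommRing B] [Algebra A B] [IsNoetherianRing B] [IsLocalRing B], IsAdicComplete (IsLocalRing.maximalIdeal B) B → Module.Flat A B → (1 : B) ⊗ₜ[A] m = 0) : m = 0 := by
  classical
  by_contra hm
  let f : A →ₗ[A] M := LinearMap.toSpanSingleton A M m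
  let I : Ideal A := LinearMap.ker f
  have hIne : I ≠ ⊤ := by
    intro htop
    apply hm
    have h1 : (1 : A) ∈ I := htop ▸ Submodule.mem_top
    simpa [I, f] using h1
  obtain ⟨P, hPmax, hIP⟩ := Ideal.exists_le_maximal I hIne
  have hPprime : P.IsPrime := hPmax.isPrime
  let R := Localization.AtPrime P
  have hRn : IsNoetherianRing R := IsLocalization.isNoetherianRing P.primeCompl R inferInstance
  let B := AdicCompletion (IsLocalRing.maximalIdeal R) R
  have tower : IsScalarTower A R B := inferInstance
  have hAR : Module.Flat A R := IsLocalization.flat R P.primeCompl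
  have hRB : Module.Flat R B := inferInstance
  have hAB : Module.Flat A B := Module.Flat.trans A R B
  have h1 : (1 : B) ⊗ₜ[A] m = 0 := h B inferInstance hAB
  -- the injective map `A ⧸ I → M`
  let g : (A ⧸ I) →ₗ[A] M := Submodule.liftQ I f le_rfl
  have hg : Function.Injective g := by
    rw [← LinearMap.ker_eq_bot]
    exact Submodule.ker_liftQ_eq_bot _ _ _ le_rfl
  have hinj : Function.Injective (g.lTensor B) :=
    Module.Flat.lTensor_preserves_injective_linearMap g hg
  have h2 : (1 : B) ⊗ₜ[A] (Ideal.Quotient.mk I (1 : A)) = 0 := by
    apply hinj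
    rw [map_zero, LinearMap.lTensor_tmul]
    have : g (Ideal.Quotient.mk I (1 : A)) = m := by
      change f 1 = m
      simp [f]
    rw [this, h1]
  have h3 := congrArg (TensorProduct.tensorQuotEquivQuotSMul B I) h2
  rw [TensorProduct.tensorQuotEquivQuotSMul_tmul_mk, map_zero, one_smul,
    Submodule.Quotient.mk_eq_zero] at h3
  -- but `I • ⊤` lies in the maximal ideal of `B`
  have hle : (I • (⊤ : Submodule A B)) ≤
      (IsLocalRing.maximalIdeal B).restrictScalars A := by
    rw [Submodule.smul_le]
    intro a ha b _
    rw [Submodule.restrictScalars_mem, Algebra.smul_def]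
    apply Ideal.mul_mem_right
    have haP : a ∈ P := hIP ha
    have h4 : algebraMap A R a ∈ IsLocalRing.maximalIdeal R := by
      rw [← Localization.AtPrime.map_eq_maximalIdeal]
      exact Ideal.mem_map_of_mem _ haP
    have h5 : algebraMap R B (algebraMap A R a) ∈ IsLocalRing.maximalIdeal B := by
      rw [AdicCompletion.maximalIdeal_eq_map]
      exact Ideal.mem_map_of_mem _ h4
    exact h5
  have h6 := hle h3
  rw [Submodule.restrictScalars_mem] at h6
  exact (IsLocalRing.maximalIdeal.isMaximal B).ne_top
    ((Ideal.eq_top_iff_one _).mpr h6)

end Groth.Agent.S11180
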