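import Groth.Statements.S11185
import Groth.Agent.H28.DualSelf
import Groth.Agent.H35.RegGlDim

set_option autoImplicit false
universe u
open CategoryTheory
attribute [local instance] HasDerivedCategory.standard
open Dual

namespace Groth.Agent.S11185

/-- Let A be a Noetherian ring all of whose local rings A_p at primes are regular and whose Krull
dimension is finite. Then the complex A[0] is a dualizing complex for A (finite injective dimension,
finite cohomology, A → End(A[0]) bijective and no self-maps of nonzero degree). -/
theorem result (A : Type u) [CommRing A] [IsNoetherianRing A] (hreg : ∀ p : PrimeSpectrum A, IsRegularLocalRing (Localization.AtPrime p.asIdeal)) (hdim : ringKrullDim A < ⊤) : Dual.IsDualizing A (Dual.inD A A) := by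
  have : IsRegularRing A := ⟨fun p _ => hreg ⟨p, inferInstance⟩⟩
  obtain ⟨d, hd⟩ : ∃ d : ℕ, ringKrullDim A ≤ d := by
    by_cases hb : ringKrullDim A = ⊥
    · exact ⟨0, by rw [hb]; exact bot_le⟩
    · obtain ⟨x, hx⟩ := WithBot.ne_bot_iff_exists.1 hb
      have hx' : x ≠ ⊤ := by
        rintro rfl
        rw [← hx] at hdim
        exact (lt_irrefl _ hdim)
      obtain ⟨d, rfl⟩ := ENat.ne_top_iff_exists.1 hx'
      exact ⟨d, by rw [← hx]; rfl⟩
  exact Groth.Agent.H28.DualSelf.isDualizing_self A (d + 1)
    (Groth.Agent.H35.RegGlDim.hasInjectiveDimensionLT A d hd (ModuleCat.of A A))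

end Groth.Agent.S11185
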