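import Groth.Statements.S1121
import Groth.Agent.H5.Stalk.KFlat
import Groth.Agent.H5.Stalk.TildeStalk
import Groth.Agent.H35.KFBaseChange
import Groth.Agent.H35.KFCone

set_option autoImplicit false
universe u
open CategoryTheory CategoryTheory.Limits AlgebraicGeometry Opposite
attribute [local instance] HasDerivedCategory.standard
open Perf

namespace Groth.Agent.S1121

open MonoidalCategory in
/-- Let R be a ring and K a K-flat cochain complex of R-modules (tensoring with K preserves acyclic
complexes). Then the associated complex K~ of O_{Spec R}-modules is K-flat: for every acyclic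
complex L of O_{Spec R}-modules the total tensor complex L ⊗ K~ is acyclic. -/
theorem result (R : CommRingCat.{u}) (K : DRing.Cx R)
    (hK : ∀ L : DRing.Cx R, (∀ i : ℤ, IsZero (L.homology i)) → ∀ i : ℤ, IsZero (((tensorRight K).obj L).homology i)) :
    DCoh.IsKFlat (((tilde.functor R).mapHomologicalComplex (ComplexShape.up ℤ)).obj K) := by
  rw [Groth.Agent.H5.Stalk.KFlat.isKFlat_iff_stalks]
  intro x
  have h1 : Groth.Agent.H35.KF.IsKFlat K := hK
  have h2 := Groth.Agent.H35.KFBC.isKFlat_extendScalars
    (Groth.Agent.H5.Stalk.toStalkHom R x) (K := K) h1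
  refine Groth.Agent.H35.KF.isKFlat_of_iso ?_ h2
  exact (HomologicalComplex.Hom.isoOfComponents
    (fun n => (Groth.Agent.H5.Stalk.tildeStalkIso R x).app (K.X n))
    (fun i j _ => ((Groth.Agent.H5.Stalk.tildeStalkIso R x).hom.naturality (K.d i j)).symm)).symm

end Groth.Agent.S1121
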