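import Groth.Statements.S11217
import Mathlib.Tactic.Linarith
import Mathlib.Tactic.FinCases
-- import your own Groth.Agent.* helpers here

set_option autoImplicit false
universe u
open CategoryTheory MonoidalCategory CartesianMonoidalCategory MonObj GrpObj AlgebraicGeometry
open scoped TensorProduct
open AGF

namespace Groth.Agent.S11217

theorem derivation_sum_apply {R A M : Type*} [CommSemiring R] [CommSemiring A] [Algebra R A]
    [AddCommMonoid M] [Module A M] [Module R M] {J : Type*} [DecidableEq J]
    (s : Finset J) (D : J → Derivation R A M) (a : A) :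
    (∑ i ∈ s, D i) a = ∑ i ∈ s, D i a := by
  induction s using Finset.induction_on with
  | empty => simp
  | insert i s hi ih => rw [Finset.sum_insert hi, Finset.sum_insert hi, Derivation.add_apply, ih]

open MvPolynomial in
/-- A derivation of a polynomial ring in finitely many variables in terms of partial
derivatives. -/
theorem mkDerivation_eq_sum {k : Type u} [Field k] {σ : Type} [Fintype σ] [DecidableEq σ]
    (g : σ → MvPolynomial σ k) (p : MvPolynomial σ k) :
    mkDerivation k g p = ∑ i, g i * pderiv i p := by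
  have h : mkDerivation k g = ∑ i, g i • (pderiv i : Derivation k (MvPolynomial σ k) _) := by
    apply MvPolynomial.derivation_ext
    intro j
    rw [mkDerivation_X, derivation_sum_apply]
    simp only [Derivation.smul_apply, pderiv_X, smul_eq_mul]
    rw [Finset.sum_eq_single j]
    · simp
    · intro b _ hb
      simp [hb.symm]
    · intro hj
      exact absurd (Finset.mem_univ j) hj
  rw [h, derivation_sum_apply]
  simp [Derivation.smul_apply]


/-- Let k be a field of characteristic zero and m ≥ 2; in the polynomial ring k[x, y, z, s, t, u, v]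
(variables 0, …, 6) let δ be the k-derivation with δ(x) = δ(y) = δ(z) = 0, δ(s) = x^(m+1), δ(t) =
y^(m+1), δ(u) = z^(m+1), δ(v) = (xyz)^m, and grade by total degree in s, t, u, v. If f is
homogeneous of degree n ≥ 1 for this grading and δ(f) = 0, then every coefficient of f, as a
polynomial in s, t, u, v over k[x, y, z], lies in the ideal (x, y, z): every monomial of f has
positive degree in x, y, z. (The published statement allows n = 0, where the constant 1 is a
counterexample; this row assumes n ≥ 1. The published definition of the derivation gives δ(v) =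
(xyz)^(m+1), for which the assertion fails: v − (yz)^(m+1)·s is killed by δ and has the monomial v
with coefficient 1; this row uses δ(v) = (xyz)^m, the exponent of the published action formula and
of the published examples of invariants.) -/
theorem result (k : Type u) [Field k] [CharZero k] (m : ℕ) (hm : 2 ≤ m) (n : ℕ) (hn : 1 ≤ n)
    (f : MvPolynomial (Fin 7) k)
    (hf : MvPolynomial.IsWeightedHomogeneous (![0, 0, 0, 1, 1, 1, 1] : Fin 7 → ℕ) f n)
    (hδ : MvPolynomial.mkDerivation k
      (![0, 0, 0, MvPolynomial.X 0 ^ (m + 1), MvPolynomial.X 1 ^ (m + 1), MvPolynomial.X 2 ^ (m + 1),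
        (MvPolynomial.X 0 * MvPolynomial.X 1 * MvPolynomial.X 2) ^ m] : Fin 7 → MvPolynomial (Fin 7) k) f = 0) :
    ∀ d ∈ f.support, 0 < d 0 + d 1 + d 2 := by
  classical
  intro d hd
  by_contra hcon
  have hd0 : d 0 = 0 := by omega
  have hd1 : d 1 = 0 := by omega
  have hd2 : d 2 = 0 := by omega
  have hcoeff : MvPolynomial.coeff d f ≠ 0 := MvPolynomial.mem_support_iff.mp hd
  have hw := hf hcoeff
  have hsum : d 3 + d 4 + d 5 + d 6 = n := by
    rw [Finsupp.weight_apply, Finsupp.sum_fintype _ _ (by intro i; simp)] at hw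
    simp [Fin.sum_univ_succ] at hw
    omega
  set γ : Fin 7 → (Fin 7 →₀ ℕ) := ![0, 0, 0, Finsupp.single 0 (m + 1), Finsupp.single 1 (m + 1),
    Finsupp.single 2 (m + 1), Finsupp.single 0 m + Finsupp.single 1 m + Finsupp.single 2 m] with hγ
  set c : Fin 7 → k := ![0, 0, 0, 1, 1, 1, 1] with hc
  have hg : (![0, 0, 0, MvPolynomial.X 0 ^ (m + 1), MvPolynomial.X 1 ^ (m + 1),
      MvPolynomial.X 2 ^ (m + 1), (MvPolynomial.X 0 * MvPolynomial.X 1 * MvPolynomial.X 2) ^ m] :
      Fin 7 → MvPolynomial (Fin 7) k) = fun i => MvPolynomial.monomial (γ i) (c i) := by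
    funext i
    fin_cases i <;>
      simp [γ, c, MvPolynomial.X_pow_eq_monomial, mul_pow, MvPolynomial.monomial_mul]
  rw [hg, mkDerivation_eq_sum] at hδ
  have hco : ∀ mu : Fin 7 →₀ ℕ, ∑ i, (if γ i ≤ mu then
      c i * (MvPolynomial.coeff (mu - γ i + Finsupp.single i 1) f * (((mu - γ i) i : k) + 1))
      else 0) = 0 := by
    intro mu
    have := congrArg (MvPolynomial.coeff mu) hδ
    rw [MvPolynomial.coeff_sum, MvPolynomial.coeff_zero] at this
    refine (Finset.sum_congr rfl ?_).trans this
    intro i _
    rw [MvPolynomial.coeff_monomial_mul', MvPolynomial.coeff_pderiv]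
  have hex : ∀ i j : Fin 7, 3 ≤ i.val → 3 ≤ j.val → i ≠ j →
      ∃ t : Fin 7, t.val < 3 ∧ γ j t < γ i t := by
    intro i j hi hj hij
    fin_cases i <;> fin_cases j <;> simp at hi hj hij <;>
      first
      | (refine ⟨0, by simp, ?_⟩; simp [γ] <;> omega)
      | (refine ⟨1, by simp, ?_⟩; simp [γ] <;> omega)
      | (refine ⟨2, by simp, ?_⟩; simp [γ] <;> omega)
  have hdt : ∀ t : Fin 7, t.val < 3 → d t = 0 := by
    intro t ht
    fin_cases t <;> simp at ht <;> assumption
  have hcj : ∀ j : Fin 7, 3 ≤ j.val → c j = 1 := by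
    intro j hj
    fin_cases j <;> simp at hj <;> simp [c]
  have hci : ∀ j : Fin 7, ¬ 3 ≤ j.val → c j = 0 := by
    intro j hj
    fin_cases j <;> simp at hj <;> simp [c]
  obtain ⟨j, hj3, hdj⟩ : ∃ j : Fin 7, 3 ≤ j.val ∧ 1 ≤ d j := by
    by_contra h
    push Not at h
    have h3 := h 3 (by simp)
    have h4 := h 4 (by simp)
    have h5 := h 5 (by simp)
    have h6 := h 6 (by simp)
    omega
  have hco' := hco (d - Finsupp.single j 1 + γ j)
  rw [Finset.sum_eq_single j] at hco'
  · rw [if_pos le_add_self] at hco'
    have h1 : d - Finsupp.single j 1 + γ j - γ j = d - Finsupp.single j 1 :=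
      add_tsub_cancel_right _ _
    have h2 : d - Finsupp.single j 1 + Finsupp.single j 1 = d := by
      apply tsub_add_cancel_of_le
      rw [Finsupp.single_le_iff]
      exact hdj
    rw [h1, h2, hcj j hj3, _root_.one_mul] at hco'
    have h3 : (((d - Finsupp.single j 1 : Fin 7 →₀ ℕ) j : ℕ) : k) + 1 = (d j : k) := by
      rw [Finsupp.tsub_apply, Finsupp.single_eq_same, Nat.cast_sub hdj]
      simp
    rw [h3] at hco'
    rcases mul_eq_zero.mp hco' with h | h
    · exact hcoeff h
    · have : (d j : k) ≠ 0 := Nat.cast_ne_zero.mpr (by omega)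
      exact this h
  · intro i _ hij
    by_cases hi3 : 3 ≤ i.val
    · rw [if_neg]
      intro hle
      obtain ⟨t, ht3, hlt⟩ := hex i j hi3 hj3 hij
      have := hle t
      rw [Finsupp.add_apply, Finsupp.tsub_apply, hdt t ht3] at this
      omega
    · rw [hci i hi3]
      simp
  · intro h
    exact absurd (Finset.mem_univ j) h

end Groth.Agent.S11217
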