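import Groth.Statements.S11221
import Mathlib.RingTheory.Ideal.MinimalPrime.Colon
-- import your own Groth.Agent.* helpers here

set_option autoImplicit false
universe u
open CategoryTheory MonoidalCategory CartesianMonoidalCategory MonObj GrpObj AlgebraicGeometry
open scoped TensorProduct
open AGF

namespace Groth.Agent.S11221

/-- Let R be a Noetherian integrally closed domain with fraction field K and let p be a prime ideal of R
of height one. Then there is f ∈ K which is not in R but lies in the local ring R_q ⊆ K of every
height-one prime q ≠ p (f = a/b with b ∉ q): a rational function on Spec R with a pole along V(p)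
only. (The published statement is for the coordinate ring of a normal affine variety; this row is
for any Noetherian integrally closed domain, which is all the argument uses.) -/
theorem result (R : Type u) [CommRing R] [IsDomain R] [IsNoetherianRing R] [IsIntegrallyClosed R]
    (p : Ideal R) [p.IsPrime] (hp : p.height = 1) :
    ∃ f : FractionRing R, f ∉ Set.range ⇑(algebraMap R (FractionRing R)) ∧
      ∀ q : Ideal R, q.IsPrime → q.height = 1 → q ≠ p →
        ∃ a b : R, b ∉ q ∧ f * algebraMap R (FractionRing R) b = algebraMap R (FractionRing R) a := by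
  classical
  have hpbot : p ≠ ⊥ := Ideal.ne_bot_of_height_eq_one hp
  obtain ⟨a, hap, ha0⟩ := Submodule.exists_mem_ne_zero_of_ne_bot hpbot
  have hfin : p.FiniteHeight := ⟨Or.inr (by rw [hp]; exact ENat.one_ne_top)⟩
  have hmin : p ∈ (Ideal.span {a}).minimalPrimes := by
    apply Ideal.mem_minimalPrimes_of_height_le
    · rw [Ideal.span_singleton_le_iff_mem]; exact hap
    · rw [hp]
      exact Ideal.one_le_height_span_singleton_of_mem_nonZeroDivisors
        (mem_nonZeroDivisors_of_ne_zero ha0)
  have hcolon : (Ideal.span {a} : Submodule R R).colon {(1 : R)} = Ideal.span {a} := by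
    ext r
    rw [Submodule.mem_colon_singleton, smul_eq_mul, _root_.mul_one]
  rw [← hcolon] at hmin
  obtain ⟨b, hb⟩ := Submodule.exists_eq_colon_of_mem_minimalPrimes hmin
  have hmem : ∀ r : R, r ∈ p ↔ ∃ c : R, r * b = c * a := by
    intro r
    rw [hb, Submodule.mem_colon_singleton, smul_eq_mul]
    change r * b ∈ Ideal.span {a} ↔ _
    rw [Ideal.mem_span_singleton']
    constructor
    · rintro ⟨c, hc⟩; exact ⟨c, hc.symm⟩
    · rintro ⟨c, hc⟩; exact ⟨c, hc.symm⟩
  have ha0' : algebraMap R (FractionRing R) a ≠ 0 := by
    rw [Ne, map_eq_zero_iff _ (IsFractionRing.injective R (FractionRing R))]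
    exact ha0
  refine ⟨algebraMap R (FractionRing R) b / algebraMap R (FractionRing R) a, ?_, ?_⟩
  · rintro ⟨c, hc⟩
    have h1 : (1 : R) ∈ p := by
      rw [hmem]
      refine ⟨c, ?_⟩
      apply IsFractionRing.injective R (FractionRing R)
      rw [_root_.one_mul, map_mul, hc, div_mul_cancel₀ _ ha0']
    exact (Ideal.IsPrime.ne_top ‹p.IsPrime›) ((Ideal.eq_top_iff_one p).mpr h1)
  · intro q hq hq1 hqp
    have := hq
    have hnle : ¬ p ≤ q := by
      intro hle
      rcases lt_or_eq_of_le hle with hlt | heq
      · have := Ideal.height_strict_mono_of_isPrime hlt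
        rw [hp, hq1] at this
        exact lt_irrefl _ this
      · exact hqp heq.symm
    obtain ⟨c, hcp, hcq⟩ := Set.not_subset.mp hnle
    obtain ⟨r, hr⟩ := (hmem c).mp hcp
    refine ⟨r, c, hcq, ?_⟩
    rw [div_mul_eq_mul_div, div_eq_iff ha0', ← map_mul, ← map_mul, mul_comm b c, hr]


end Groth.Agent.S11221
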