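import Groth.Statements.S11223
import Mathlib.RingTheory.IntegralClosure.IsIntegralClosure.Basic
import Mathlib.RingTheory.GradedAlgebra.Basic
import Mathlib.Tactic.Linarith
-- import your own Groth.Agent.* helpers here

set_option autoImplicit false
universe u
open CAlg

namespace Groth.Agent.S11223

/-- Let k be a field, let z_1, ..., z_m be homogeneous polynomials of positive degree in the polynomial
ring k[x_1, ..., x_n], and suppose the radical of the ideal (z_1, ..., z_m) is the ideal (x_1, ...,
x_n) generated by the variables. Then the polynomial ring is integral over the subalgebra generated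
by z_1, ..., z_m. (The published statement is over an algebraically closed field; this row takes any
field, which its proof allows.) -/
theorem result (k : Type u) [Field k] (n m : ℕ)
    (z : Fin m → MvPolynomial (Fin n) k) (d : Fin m → ℕ) (hd : ∀ i, 0 < d i)
    (hz : ∀ i, (z i).IsHomogeneous (d i))
    (hrad : (Ideal.span (Set.range z)).radical =
      Ideal.span (Set.range (MvPolynomial.X : Fin n → MvPolynomial (Fin n) k))) :
    Algebra.IsIntegral (Algebra.adjoin k (Set.range z)) (MvPolynomial (Fin n) k) := by
  classical
  let _ := MvPolynomial.gradedAlgebra (σ := Fin n) (R := k)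
  have hN : ∃ N : ℕ, ∀ j : Fin n,
      (MvPolynomial.X j : MvPolynomial (Fin n) k) ^ N ∈ Ideal.span (Set.range z) := by
    have h1 : ∀ j : Fin n, ∃ Nj : ℕ,
        (MvPolynomial.X j : MvPolynomial (Fin n) k) ^ Nj ∈ Ideal.span (Set.range z) := fun j => by
      have : (MvPolynomial.X j : MvPolynomial (Fin n) k) ∈ (Ideal.span (Set.range z)).radical := by
        rw [hrad]
        exact Ideal.subset_span ⟨j, rfl⟩
      exact this
    choose Nj hNj using h1
    refine ⟨∑ j, Nj j, fun j => ?_⟩
    have hle : Nj j ≤ ∑ j, Nj j :=
      Finset.single_le_sum (f := Nj) (fun _ _ => Nat.zero_le _) (Finset.mem_univ j)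
    rw [← Nat.sub_add_cancel hle, pow_add]
    exact Ideal.mul_mem_left _ _ (hNj j)
  obtain ⟨N, hN⟩ := hN
  set D := n * N + 1 with hD
  set G : Set (MvPolynomial (Fin n) k) :=
    (fun e : Fin n →₀ ℕ => MvPolynomial.monomial e (1 : k)) '' {e | e.degree < D} with hG
  have hGfin : G.Finite := (Finsupp.finite_of_degree_lt D).image _
  set M : Submodule (Algebra.adjoin k (Set.range z)) (MvPolynomial (Fin n) k) :=
    Submodule.span _ G with hM
  have hmon : ∀ e : Fin n →₀ ℕ, D ≤ e.degree →
      MvPolynomial.monomial e (1 : k) ∈ Ideal.span (Set.range z) := by
    intro e he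
    have hex : ∃ j, N ≤ e j := by
      by_contra hcon
      push Not at hcon
      have : e.degree ≤ n * N := by
        rw [Finsupp.degree_eq_sum]
        calc ∑ i, e i ≤ ∑ _i : Fin n, N := Finset.sum_le_sum fun i _ => (hcon i).le
          _ = n * N := by simp
      omega
    obtain ⟨j, hj⟩ := hex
    have : MvPolynomial.monomial e (1 : k) =
        MvPolynomial.monomial (e - Finsupp.single j N) 1 * MvPolynomial.X j ^ N := by
      rw [MvPolynomial.X_pow_eq_monomial, MvPolynomial.monomial_mul, _root_.one_mul]
      have hle : Finsupp.single j N ≤ e := by
        rw [Finsupp.single_le_iff]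
        exact hj
      rw [tsub_add_cancel_of_le hle]
    rw [this]
    exact Ideal.mul_mem_left _ _ (hN j)
  have hdeg : ∀ (D' : ℕ) (f : MvPolynomial (Fin n) k), f.IsHomogeneous D' →
      ∀ e ∈ f.support, e.degree = D' := by
    intro D' f hf e he
    rw [Finsupp.degree_eq_weight_one]
    exact hf (MvPolynomial.mem_support_iff.mp he)
  have hmain : ∀ (D' : ℕ) (f : MvPolynomial (Fin n) k), f.IsHomogeneous D' → f ∈ M := by
    intro D'
    induction D' using Nat.strong_induction_on with
    | _ D' ih =>
      intro f hf
      by_cases hDD : D' < D
      · rw [← f.support_sum_monomial_coeff]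
        refine Submodule.sum_mem _ fun e he => ?_
        have hdege := hdeg D' f hf e he
        have : MvPolynomial.monomial e (MvPolynomial.coeff e f) =
            (algebraMap k (Algebra.adjoin k (Set.range z)) (MvPolynomial.coeff e f)) •
              (MvPolynomial.monomial e (1 : k)) := by
          rw [algebraMap_smul, MvPolynomial.smul_monomial, smul_eq_mul, _root_.mul_one]
        rw [this]
        exact Submodule.smul_mem _ _ (Submodule.subset_span ⟨e, by
          show e.degree < D
          omega, rfl⟩)
      · have hfa : f ∈ Ideal.span (Set.range z) := by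
          rw [← f.support_sum_monomial_coeff]
          refine Ideal.sum_mem _ fun e he => ?_
          have hdege := hdeg D' f hf e he
          have : MvPolynomial.monomial e (MvPolynomial.coeff e f) =
              MvPolynomial.C (MvPolynomial.coeff e f) * MvPolynomial.monomial e 1 := by
            rw [MvPolynomial.C_mul_monomial, _root_.mul_one]
          rw [this]
          exact Ideal.mul_mem_left _ _ (hmon e (by omega))
        obtain ⟨g, hg⟩ := Ideal.mem_span_range_iff_exists_fun.mp hfa
        have h1 : f = ∑ i, z i * (if d i ≤ D' then
            (DirectSum.decompose (MvPolynomial.homogeneousSubmodule (Fin n) k) (g i) (D' - d i) :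
              MvPolynomial (Fin n) k) else 0) := by
          have h2 := congrArg (fun p => (DirectSum.decompose
            (MvPolynomial.homogeneousSubmodule (Fin n) k) p D' : MvPolynomial (Fin n) k)) hg
          simp only at h2
          rw [DirectSum.decompose_of_mem_same _ ((MvPolynomial.mem_homogeneousSubmodule _ _).mpr hf)]
            at h2
          rw [← h2, DirectSum.decompose_sum, DFinsupp.finsetSum_apply,
            AddSubmonoidClass.coe_finsetSum]
          apply Finset.sum_congr rfl
          intro i _
          rw [_root_.mul_comm (g i) (z i), DirectSum.coe_decompose_mul_of_left_mem _ D'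
            ((MvPolynomial.mem_homogeneousSubmodule _ _).mpr (hz i))]
          split_ifs <;> simp
        rw [h1]
        refine Submodule.sum_mem _ fun i _ => ?_
        split_ifs with hle
        · have hlt : D' - d i < D' := by
            have := hd i
            omega
          have hcomp := ih _ hlt _ ((MvPolynomial.mem_homogeneousSubmodule _ _).mp
            (DirectSum.decompose (MvPolynomial.homogeneousSubmodule (Fin n) k) (g i)
              (D' - d i)).2)
          exact M.smul_mem (⟨z i, Algebra.subset_adjoin ⟨i, rfl⟩⟩ :
            Algebra.adjoin k (Set.range z)) hcomp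
        · rw [mul_zero]
          exact Submodule.zero_mem _
  have hMtop : M = ⊤ := by
    rw [eq_top_iff]
    intro f _
    rw [← MvPolynomial.sum_homogeneousComponent f]
    exact Submodule.sum_mem _ fun i _ =>
      hmain i _ (MvPolynomial.homogeneousComponent_isHomogeneous i f)
  have hfin : Module.Finite (Algebra.adjoin k (Set.range z)) (MvPolynomial (Fin n) k) :=
    ⟨⟨hGfin.toFinset, by rw [Set.Finite.coe_toFinset]; exact hMtop⟩⟩
  exact Algebra.IsIntegral.of_finite _ _

end Groth.Agent.S11223
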