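import Groth.Statements.S11231
import Mathlib.RingTheory.IntegralClosure.IntegrallyClosed
import Mathlib.RingTheory.Flat.Basic
import Mathlib.RingTheory.Localization.FractionRing
-- import your own Groth.Agent.* helpers here

set_option autoImplicit false
universe u
open CategoryTheory MonoidalCategory CartesianMonoidalCategory MonObj GrpObj AlgebraicGeometry
open scoped TensorProduct
open AGF

namespace Groth.Agent.S11231

section Alg

theorem isIntegrallyClosed_of_subalgebra {k A : Type*} [CommRing k] [CommRing A] [IsDomain A]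
    [Algebra k A] [IsIntegrallyClosed A] (S : Subalgebra k A)
    (hS : ∀ (y : A) (a b : S), b ≠ 0 → y * (b : A) = (a : A) → y ∈ S) :
    IsIntegrallyClosed S := by
  rw [isIntegrallyClosed_iff (FractionRing S)]
  intro x hx
  obtain ⟨a, b, hb, rfl⟩ := IsFractionRing.div_surjective (A := S) x
  have hb0 : b ≠ 0 := nonZeroDivisors.ne_zero hb
  -- the map `Frac S → Frac A`
  have hinj : Function.Injective ((algebraMap A (FractionRing A)).comp S.val.toRingHom) :=
    (IsFractionRing.injective A (FractionRing A)).comp Subtype.val_injective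
  let φ : FractionRing S →+* FractionRing A := IsFractionRing.lift hinj
  have hφ : ∀ s : S, φ (algebraMap S (FractionRing S) s) = algebraMap A (FractionRing A) (s : A) :=
    fun s => IsFractionRing.lift_algebraMap hinj s
  have hint : IsIntegral A (φ (algebraMap S (FractionRing S) a / algebraMap S (FractionRing S) b)) := by
    refine hx.map_of_comp_eq S.val.toRingHom φ ?_
    ext s
    exact (hφ s).symm
  obtain ⟨y, hy⟩ := IsIntegrallyClosed.isIntegral_iff.mp hint
  have hbA : algebraMap A (FractionRing A) (b : A) ≠ 0 := by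
    rw [Ne, map_eq_zero_iff _ (IsFractionRing.injective A (FractionRing A))]
    exact fun h => hb0 (Subtype.ext h)
  have hyb : y * (b : A) = (a : A) := by
    apply IsFractionRing.injective A (FractionRing A)
    rw [map_mul, hy, map_div₀, hφ, hφ, div_mul_cancel₀ _ hbA]
  have hyS := hS y a b hb0 hyb
  refine ⟨⟨y, hyS⟩, ?_⟩
  have hbK : algebraMap S (FractionRing S) b ≠ 0 := by
    rw [Ne, map_eq_zero_iff _ (IsFractionRing.injective S (FractionRing S))]
    exact hb0
  rw [eq_div_iff hbK, ← map_mul]
  congr 1
  exact Subtype.ext hyb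

end Alg

section Fixed

open VecGrp

variable {k : Type u} [Field k]
variable {G H : Over (Spec (CommRingCat.of k))} [GrpObj G] [GrpObj H]
variable {A : Type u} [CommRing A] [Algebra k A]

lemma mul_one_tmul_eq (B : Type u) [CommRing B] [Algebra k B] (b : A) (w : B ⊗[k] A) :
    w * ((1 : B) ⊗ₜ[k] b) = LinearMap.lTensor B (LinearMap.mulRight k b) w := by
  induction w using TensorProduct.induction_on with
  | zero => simp
  | tmul x y =>
    rw [Algebra.TensorProduct.tmul_mul_tmul, _root_.mul_one, LinearMap.lTensor_tmul,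
      LinearMap.mulRight_apply]
  | add x y hx hy => rw [add_mul, hx, hy, map_add]

lemma eq_zero_of_mul_one_tmul [IsDomain A] (B : Type u) [CommRing B] [Algebra k B] (b : A)
    (hb : b ≠ 0) (w : B ⊗[k] A) (h : w * ((1 : B) ⊗ₜ[k] b) = 0) : w = 0 := by
  rw [mul_one_tmul_eq] at h
  have hinj : Function.Injective (LinearMap.mulRight k b) := by
    intro x y hxy
    exact mul_right_cancel₀ hb hxy
  have := Module.Flat.lTensor_preserves_injective_linearMap (M := B) (LinearMap.mulRight k b) hinj
  exact this (by rw [h, map_zero])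

theorem isIntegrallyClosed_fixedSubalgebra [IsDomain A] [IsIntegrallyClosed A]
    (ρ : VecGrp.GMod G A) (hρ : ρ.IsMult) (i : H ⟶ G) :
    IsIntegrallyClosed ↥(ρ.fixedSubalgebra hρ i) := by
  refine isIntegrallyClosed_of_subalgebra _ ?_
  intro y a b hb0 hyb B _ _ h
  have ha := a.2 B h
  have hb := b.2 B h
  have hmul := (hρ B (h ≫ i)).1 ((1 : B) ⊗ₜ[k] y) ((1 : B) ⊗ₜ[k] (b : A))
  rw [Algebra.TensorProduct.tmul_mul_tmul, _root_.one_mul, hyb, ha, hb] at hmul
  have hbA : (b : A) ≠ 0 := fun h0 => hb0 (Subtype.ext h0)
  have key : (ρ.ρ B (h ≫ i) ((1 : B) ⊗ₜ[k] y) - (1 : B) ⊗ₜ[k] y) * ((1 : B) ⊗ₜ[k] (b : A)) = 0 := by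
    rw [sub_mul, ← hmul, Algebra.TensorProduct.tmul_mul_tmul, _root_.one_mul, hyb, sub_self]
  exact sub_eq_zero.mp (eq_zero_of_mul_one_tmul B (b : A) hbA _ key)

end Fixed

/-- Let k an algebraically closed field, G a connected reductive linear algebraic group over k, B a
Borel subgroup of G with unipotent radical U (a maximal unipotent subgroup), and let A be a
commutative k-algebra with a rational action of G by algebra automorphisms. If A is an integrally
closed domain then so is A^U. (The published statement is for A normal; its proof reduces to the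
case of a domain, which is the case stated here.) -/
theorem result (k : Type u) [Field k] [IsAlgClosed k]
    (G : Over (Spec (CommRingCat.of k))) [GrpObj G] (hG : Red.IsReductiveOver k G)
    (Bo : Over (Spec (CommRingCat.of k))) [GrpObj Bo] (iB : Bo ⟶ G) (hB : Red.IsBorelOver k iB)
    (U : Over (Spec (CommRingCat.of k))) [GrpObj U] (u : U ⟶ Bo) (hU : Par.IsUnipotentRadical u)
    (A : Type u) [CommRing A] [IsDomain A] [Algebra k A] [IsIntegrallyClosed A]
    (ρ : VecGrp.GMod G A) (hρ : ρ.IsMult) :
    IsIntegrallyClosed ↥(ρ.fixedSubalgebra hρ (u ≫ iB)) :=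
  isIntegrallyClosed_fixedSubalgebra ρ hρ (u ≫ iB)

end Groth.Agent.S11231
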