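import Groth.Statements.S11233
import Mathlib.Algebra.MvPolynomial.Funext
-- import your own Groth.Agent.* helpers here

set_option autoImplicit false
universe u
open CAlg

namespace Groth.Agent.S11233

/-- Let k be an algebraically closed field, A an integral domain which is a k-algebra, T an m by m
matrix over A with invertible determinant, and let the additive group k^m act on the polynomial ring
A[y_1, ..., y_m] by the A-algebra maps y_s ↦ y_s + Σ_r h_r T_rs. Then the only invariant polynomials
are the constants: a polynomial fixed by all these substitutions lies in A. -/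
theorem result (k : Type u) [Field k] [IsAlgClosed k]
    (A : Type u) [CommRing A] [IsDomain A] [Algebra k A] (m : ℕ) (T : Matrix (Fin m) (Fin m) A)
    (hT : IsUnit T.det) (f : MvPolynomial (Fin m) A)
    (hf : ∀ h : Fin m → k, MvPolynomial.aeval
      (fun s : Fin m => MvPolynomial.X s + MvPolynomial.C (∑ r : Fin m, algebraMap k A (h r) * T r s)) f = f) :
    ∃ a : A, f = MvPolynomial.C a := by
  classical
  have hTinv : T⁻¹ * T = 1 := Matrix.nonsing_inv_mul T hT
  -- evaluation as an algebra map
  have hev : ∀ (x : Fin m → A) (p : MvPolynomial (Fin m) A),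
      MvPolynomial.eval x p = MvPolynomial.aeval x p := fun x p => rfl
  set g : MvPolynomial (Fin m) A :=
    MvPolynomial.aeval (fun s : Fin m => ∑ r : Fin m, MvPolynomial.X r * MvPolynomial.C (T r s)) f
    with hg
  have hgeval : ∀ x : Fin m → A,
      MvPolynomial.eval x g = MvPolynomial.eval (fun s => ∑ r : Fin m, x r * T r s) f := by
    intro x
    rw [hev, hev, hg, MvPolynomial.comp_aeval_apply]
    have : (fun i => (MvPolynomial.aeval x) (∑ r : Fin m, MvPolynomial.X r * MvPolynomial.C (T r i))) =
        fun s => ∑ r : Fin m, x r * T r s := by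
      funext s
      simp
    rw [this]
  have key : ∀ h : Fin m → k,
      MvPolynomial.eval (fun r => algebraMap k A (h r)) g = MvPolynomial.eval 0 f := by
    intro h
    have h1 := congrArg (MvPolynomial.aeval (0 : Fin m → A)) (hf h)
    rw [MvPolynomial.comp_aeval_apply] at h1
    rw [hgeval, hev, hev, ← h1]
    have : (fun i => (MvPolynomial.aeval (0 : Fin m → A))
        (MvPolynomial.X i + MvPolynomial.C (∑ r : Fin m, (algebraMap k A) (h r) * T r i))) =
        fun s => ∑ r : Fin m, (algebraMap k A) (h r) * T r s := by
      funext s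
      simp
    rw [this]
  have hinf : (Set.range (algebraMap k A)).Infinite :=
    Set.infinite_range_of_injective (FaithfulSMul.algebraMap_injective k A)
  have hgC : g = MvPolynomial.C (MvPolynomial.eval 0 f) := by
    apply MvPolynomial.funext_set (fun _ : Fin m => Set.range (algebraMap k A)) (fun _ => hinf)
    intro x hx
    have hx' : ∀ i, ∃ c : k, algebraMap k A c = x i := fun i => hx i (Set.mem_univ i)
    choose h hh using hx'
    have : x = fun r => algebraMap k A (h r) := funext fun r => (hh r).symm
    rw [this, key h, MvPolynomial.eval_C]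
  have hfg : f = MvPolynomial.aeval
      (fun s : Fin m => ∑ r : Fin m, MvPolynomial.X r * MvPolynomial.C (T⁻¹ r s)) g := by
    rw [hg, MvPolynomial.comp_aeval_apply]
    conv_lhs => rw [← MvPolynomial.aeval_X_left_apply f]
    suffices hs : (fun i => (MvPolynomial.aeval fun s : Fin m =>
        ∑ r : Fin m, MvPolynomial.X r * MvPolynomial.C (T⁻¹ r s))
        (∑ r : Fin m, (MvPolynomial.X r : MvPolynomial (Fin m) A) * MvPolynomial.C (T r i))) =
        MvPolynomial.X by
      rw [hs]
    funext s
    simp only [map_sum, map_mul, MvPolynomial.aeval_X, MvPolynomial.aeval_C,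
      MvPolynomial.algebraMap_eq]
    have : ∀ r : Fin m, (∑ r' : Fin m, MvPolynomial.X r' * MvPolynomial.C (T⁻¹ r' r)) *
        MvPolynomial.C (T r s) =
        ∑ r' : Fin m, (MvPolynomial.X r' : MvPolynomial (Fin m) A) *
          MvPolynomial.C (T⁻¹ r' r * T r s) := by
      intro r
      rw [Finset.sum_mul]
      refine Finset.sum_congr rfl fun r' _ => ?_
      rw [MvPolynomial.C_mul]; ring
    simp_rw [this]
    rw [Finset.sum_comm]
    simp_rw [← Finset.mul_sum, ← map_sum]
    have h2 : ∀ r' : Fin m, ∑ r : Fin m, T⁻¹ r' r * T r s = (1 : Matrix (Fin m) (Fin m) A) r' s := by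
      intro r'
      rw [← hTinv, Matrix.mul_apply]
    simp_rw [h2, Matrix.one_apply]
    simp
  refine ⟨MvPolynomial.eval 0 f, ?_⟩
  conv_lhs => rw [hfg, hgC, MvPolynomial.aeval_C]
  rfl


end Groth.Agent.S11233
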