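import Groth.Statements.S11235
-- import your own Groth.Agent.* helpers here

set_option autoImplicit false
universe u
open CAlg

namespace Groth.Agent.S11235

/-- Let k be an algebraically closed field, A a commutative k-algebra, α ∈ k, and M a maximal ideal of
the polynomial ring A[x] containing x - α. Let I ⊆ M be an ideal whose zero set in Spec A[x] is
invariant under the automorphisms x ↦ c·x, c ∈ k nonzero (equivalently: the image of I under each
such A-algebra automorphism has the same radical as I). Then there is a maximal ideal of A[x]
containing I and x. -/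
theorem result (k : Type u) [Field k] [IsAlgClosed k]
    (A : Type u) [CommRing A] [Algebra k A] (α : k)
    (M : Ideal (Polynomial A)) (hM : M.IsMaximal)
    (hα : Polynomial.X - Polynomial.C (algebraMap k A α) ∈ M)
    (I : Ideal (Polynomial A)) (hIM : I ≤ M)
    (hI : ∀ c : kˣ, (I.map (Polynomial.aeval (R := A)
      (algebraMap k A (c : k) • (Polynomial.X : Polynomial A)))).radical = I.radical) :
    ∃ N : Ideal (Polynomial A), N.IsMaximal ∧ I ≤ N ∧ Polynomial.X ∈ N := by
  classical
  by_cases hα0 : α = 0
  · refine ⟨M, hM, hIM, ?_⟩
    simpa [hα0] using hα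
  set a' : A := algebraMap k A α with ha'
  set ev : Polynomial A →+* A := Polynomial.evalRingHom a' with hev
  have hevsurj : Function.Surjective ev := fun a => ⟨Polynomial.C a, by simp [hev]⟩
  set 𝔪 : Ideal A := Ideal.map ev M with h𝔪
  -- kernel of ev is inside M
  have hker : RingHom.ker ev ≤ M := by
    intro f hf
    rw [RingHom.mem_ker] at hf
    have hroot : Polynomial.IsRoot f a' := hf
    obtain ⟨q, hq⟩ := Polynomial.dvd_iff_isRoot.mpr hroot
    rw [hq]
    exact M.mul_mem_right q hα
  have hcomap : Ideal.comap ev 𝔪 = M := by
    rw [h𝔪, Ideal.comap_map_of_surjective ev hevsurj]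
    have : Ideal.comap ev ⊥ = RingHom.ker ev := rfl
    rw [this]
    exact sup_eq_left.mpr hker
  have h𝔪max : 𝔪.IsMaximal := by
    rcases Ideal.map_eq_top_or_isMaximal_of_surjective ev hevsurj hM with h | h
    · exfalso
      apply hM.ne_top
      rw [← hcomap, h𝔪, h, Ideal.comap_top]
    · exact h
  set ev0 : Polynomial A →+* A := Polynomial.evalRingHom 0 with hev0
  have hev0surj : Function.Surjective ev0 := fun a => ⟨Polynomial.C a, by simp [hev0]⟩
  refine ⟨Ideal.comap ev0 𝔪, Ideal.comap_isMaximal_of_surjective ev0 hev0surj, ?_, ?_⟩
  · intro f hfI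
    rw [Ideal.mem_comap]
    -- values at c * a'
    have hval : ∀ c : kˣ, Polynomial.eval (algebraMap k A (c : k) * a') f ∈ 𝔪 := by
      intro c
      have h1 : Polynomial.aeval (R := A) (algebraMap k A (c : k) • (Polynomial.X : Polynomial A)) f ∈
          (I.map (Polynomial.aeval (R := A)
            (algebraMap k A (c : k) • (Polynomial.X : Polynomial A)))).radical :=
        Ideal.le_radical (Ideal.mem_map_of_mem _ hfI)
      rw [hI c] at h1
      have h2 : Polynomial.aeval (R := A) (algebraMap k A (c : k) • (Polynomial.X : Polynomial A)) f ∈ M := by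
        have : I.radical ≤ M := by
          rw [← hM.isPrime.radical]
          exact Ideal.radical_mono hIM
        exact this h1
      rw [← hcomap, Ideal.mem_comap] at h2
      have h3 : ev (Polynomial.aeval (R := A)
          (algebraMap k A (c : k) • (Polynomial.X : Polynomial A)) f) =
          Polynomial.eval (algebraMap k A (c : k) * a') f := by
        rw [hev, Polynomial.coe_evalRingHom, ← Polynomial.comp_eq_aeval, Polynomial.eval_comp]
        simp [Algebra.smul_def]
      rw [h3] at h2
      exact h2
    -- pass to the residue field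
    have := h𝔪max
    let _ : Field (A ⧸ 𝔪) := Ideal.Quotient.field 𝔪
    set π : A →+* A ⧸ 𝔪 := Ideal.Quotient.mk 𝔪 with hπ
    set fbar : Polynomial (A ⧸ 𝔪) := f.map π with hfbar
    have hroots : ∀ c : kˣ, fbar.IsRoot (π (algebraMap k A (c : k) * a')) := by
      intro c
      rw [Polynomial.IsRoot, hfbar, Polynomial.eval_map, Polynomial.eval₂_at_apply, hπ,
        Ideal.Quotient.eq_zero_iff_mem]
      exact hval c
    have hinj : Function.Injective (π.comp (algebraMap k A)) := RingHom.injective _
    have hfbar0 : fbar = 0 := by
      apply Polynomial.eq_zero_of_infinite_isRoot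
      have hne : π a' ≠ 0 := by
        rw [ha']
        change (π.comp (algebraMap k A)) α ≠ 0
        rw [Ne, map_eq_zero_iff _ hinj]
        exact hα0
      have hinf0 : ({c : k | c ≠ 0}).Infinite := by
        have : ({c : k | c ≠ 0}) = Set.univ \ {0} := by
          ext c; simp
        rw [this]
        exact Set.Infinite.sdiff Set.infinite_univ (Set.finite_singleton 0)
      have hinf : ((fun c : k => π (algebraMap k A c * a')) '' {c : k | c ≠ 0}).Infinite := by
        apply hinf0.image
        intro c _ c' _ hcc
        simp only [map_mul] at hcc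
        have h4 := mul_right_cancel₀ hne hcc
        exact hinj h4
      apply hinf.mono
      rintro _ ⟨c, hc, rfl⟩
      exact hroots (Units.mk0 c hc)
    have : π (Polynomial.eval 0 f) = 0 := by
      have h5 : fbar.eval (π 0) = π (Polynomial.eval 0 f) := by
        rw [hfbar, Polynomial.eval_map, Polynomial.eval₂_at_apply]
      rw [← h5, hfbar0, Polynomial.eval_zero]
    rw [hπ, Ideal.Quotient.eq_zero_iff_mem] at this
    exact this
  · rw [Ideal.mem_comap, hev0]
    simp


end Groth.Agent.S11235
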