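import Groth.Statements.S11239
import Mathlib.LinearAlgebra.Matrix.Block
-- import your own Groth.Agent.* helpers here

set_option autoImplicit false
universe u
open AGF

namespace Groth.Agent.S11239

/-- Let X be an m × n matrix over a commutative ring, u an upper triangular n × n matrix with ones on
the diagonal, t a diagonal n × n matrix and p ≤ n. For any choice of p rows, the minor of X·t·u
formed with these rows and the first p columns equals (t_11 ⋯ t_pp) times the corresponding minor of
X: the minors on the first p columns are semi-invariant of weight ω_p under right multiplication by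
the upper triangular group. (The published statement is for the generic matrix over an algebraically
closed field; this row states the identity over any commutative ring.) -/
theorem result (R : Type u) [CommRing R] (m n p : ℕ) (hp : p ≤ n)
    (X : Matrix (Fin m) (Fin n) R) (d : Fin n → R) (u : Matrix (Fin n) (Fin n) R)
    (hu1 : ∀ i, u i i = 1) (hu0 : ∀ i j, j < i → u i j = 0) (I : Fin p → Fin m) :
    ((X * Matrix.diagonal d * u).submatrix I (Fin.castLE hp)).det =
      (∏ i : Fin p, d (Fin.castLE hp i)) * (X.submatrix I (Fin.castLE hp)).det := by
  classical
  set c : Fin p → Fin n := Fin.castLE hp with hc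
  have hcinj : Function.Injective c := Fin.castLE_injective hp
  have key : (X * Matrix.diagonal d * u).submatrix I c =
      X.submatrix I c * (Matrix.diagonal (d ∘ c) * u.submatrix c c) := by
    ext a i
    simp only [Matrix.submatrix_apply, Matrix.mul_apply, Matrix.diagonal_apply, Function.comp_apply,
      mul_ite, mul_zero, Finset.sum_ite_eq', Finset.mem_univ, if_true, ite_mul, zero_mul]
    -- LHS : ∑ j, X (I a) j * d j * u j (c i) ; RHS : ∑ j', X (I a) (c j') * (d (c j') * u (c j') (c i))
    have hzero : ∀ j : Fin n, j ∉ Finset.univ.map ⟨c, hcinj⟩ → X (I a) j * d j * u j (c i) = 0 := by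
      intro j hj
      have hjp : p ≤ j.val := by
        by_contra hlt
        rw [not_le] at hlt
        apply hj
        rw [Finset.mem_map]
        exact ⟨⟨j.val, hlt⟩, Finset.mem_univ _, Fin.ext rfl⟩
      have : c i < j := by
        rw [Fin.lt_def]
        have : (c i).val = i.val := rfl
        omega
      rw [hu0 j (c i) this, mul_zero]
    rw [← Finset.sum_subset (Finset.subset_univ (Finset.univ.map ⟨c, hcinj⟩)) (fun j _ hj => hzero j hj),
      Finset.sum_map]
    refine Finset.sum_congr rfl fun j' _ => ?_
    simp only [Function.Embedding.coeFn_mk]
    rw [Finset.sum_eq_single j']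
    · simp [mul_assoc]
    · intro b _ hb
      rw [if_neg]
      intro h
      exact hb h.symm
    · intro h
      exact absurd (Finset.mem_univ _) h
  rw [key, Matrix.det_mul, Matrix.det_mul, Matrix.det_diagonal]
  have htri : Matrix.BlockTriangular (u.submatrix c c) id := by
    intro i j hij
    simp only [Matrix.submatrix_apply]
    apply hu0
    exact hij
  rw [Matrix.det_of_isUpperTriangular htri]
  simp only [Matrix.submatrix_apply, hu1, Finset.prod_const_one, mul_one, Function.comp_apply]
  rw [mul_comm]


end Groth.Agent.S11239
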