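import Groth.Statements.S11240
-- import your own Groth.Agent.* helpers here

set_option autoImplicit false
universe u
open AGF

namespace Groth.Agent.S11240

/-- For a single root subgroup: let k be an algebraically closed field and X = (x_ab) the generic n × m
matrix over the polynomial ring k[x_ab]. Let i ≠ j be row indices and let I (rows) and J (columns)
be strictly increasing sequences of length p. The minor of X with rows I and columns J is invariant
under replacing X by (1 + b·E_ij)·X for every b ∈ k (the one-parameter unipotent group adding b
times row j to row i) if and only if j occurs in I whenever i does. (The published statement gives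
the criterion for the group generated by several such root subgroups, which is the conjunction of
these.) -/
theorem result (k : Type u) [Field k] [IsAlgClosed k] (n m p : ℕ)
    (i j : Fin n) (hij : i ≠ j) (I : Fin p ↪o Fin n) (J : Fin p ↪o Fin m) :
    (∀ b : k, ((Matrix.transvection i j (MvPolynomial.C b) *
        (Matrix.of fun a c => (MvPolynomial.X (a, c) : MvPolynomial (Fin n × Fin m) k))).submatrix I J).det =
        ((Matrix.of fun a c => (MvPolynomial.X (a, c) : MvPolynomial (Fin n × Fin m) k)).submatrix I J).det) ↔
      (i ∈ Set.range I → j ∈ Set.range I) := by
  classical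
  set X : Matrix (Fin n) (Fin m) (MvPolynomial (Fin n × Fin m) k) :=
    Matrix.of fun a c => (MvPolynomial.X (a, c) : MvPolynomial (Fin n × Fin m) k) with hX
  set Y : Matrix (Fin p) (Fin p) (MvPolynomial (Fin n × Fin m) k) := X.submatrix I J with hY
  constructor
  · intro h ⟨s₀, hs₀⟩
    by_contra hj
    have h1 := h 1
    -- the row-replaced matrix
    set I' : Fin p → Fin n := Function.update I s₀ j with hI'
    have hI'inj : Function.Injective I' := by
      intro s t hst
      by_cases hs : s = s₀
      · by_cases ht : t = s₀
        · rw [hs, ht]
        · exfalso
          rw [hI', hs, Function.update_self, Function.update_of_ne ht] at hst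
          exact hj ⟨t, hst.symm⟩
      · by_cases ht : t = s₀
        · exfalso
          rw [hI', ht, Function.update_self, Function.update_of_ne hs] at hst
          exact hj ⟨s, hst⟩
        · rw [hI', Function.update_of_ne hs, Function.update_of_ne ht] at hst
          exact I.injective hst
    have hsub : (Matrix.transvection i j (MvPolynomial.C (1 : k)) * X).submatrix I J =
        Matrix.updateRow Y s₀ (Y s₀ + (1 : MvPolynomial (Fin n × Fin m) k) • fun t => X j (J t)) := by
      refine Matrix.ext fun s t => ?_
      by_cases hs : s = s₀
      · subst hs
        rw [Matrix.updateRow_self, Matrix.submatrix_apply, hs₀, Matrix.transvection_mul_apply_same]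
        simp [hY]
        rw [hs₀]
      · rw [Matrix.updateRow_ne hs, Matrix.submatrix_apply,
          Matrix.transvection_mul_apply_of_ne]
        · rfl
        · intro hh
          rw [← hs₀] at hh
          exact hs (I.injective hh)
    rw [hsub, Matrix.det_updateRow_add, Matrix.det_updateRow_smul, Matrix.updateRow_eq_self,
      one_mul] at h1
    have hdet0 : (Matrix.updateRow Y s₀ fun t => X j (J t)).det = 0 := by
      have := h1
      rwa [add_eq_left] at this
    have hY' : (Matrix.updateRow Y s₀ fun t => X j (J t)) = X.submatrix I' J := by
      refine Matrix.ext fun s t => ?_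
      by_cases hs : s = s₀
      · subst hs
        rw [Matrix.updateRow_self, Matrix.submatrix_apply, hI', Function.update_self]
      · rw [Matrix.updateRow_ne hs, Matrix.submatrix_apply, hI', Function.update_of_ne hs]
        rfl
    rw [hY'] at hdet0
    -- evaluate at a permutation-like point
    set q : Fin n × Fin m → k := fun z => if ∃ t, z.1 = I' t ∧ z.2 = J t then 1 else 0 with hq
    have hev : (MvPolynomial.eval q).mapMatrix (X.submatrix I' J) = 1 := by
      refine Matrix.ext fun s t => ?_
      simp only [RingHom.mapMatrix_apply, Matrix.map_apply, Matrix.submatrix_apply, hX,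
        Matrix.of_apply, MvPolynomial.eval_X, hq, Matrix.one_apply]
      by_cases hst : s = t
      · rw [if_pos hst, if_pos ⟨t, by rw [hst], rfl⟩]
      · rw [if_neg hst, if_neg]
        rintro ⟨t', h1', h2'⟩
        have e1 := hI'inj h1'
        have e2 := J.injective h2'
        exact hst (e1.trans e2.symm)
    have := congrArg (MvPolynomial.eval q) hdet0
    rw [RingHom.map_det, hev, Matrix.det_one, map_zero] at this
    exact one_ne_zero this
  · intro h b
    by_cases hi : i ∈ Set.range I
    · obtain ⟨s₀, hs₀⟩ := hi
      obtain ⟨t₀, ht₀⟩ := h ⟨s₀, hs₀⟩
      have hst : s₀ ≠ t₀ := by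
        intro hh
        apply hij
        rw [← hs₀, ← ht₀, hh]
      have hsub : (Matrix.transvection i j (MvPolynomial.C b) * X).submatrix I J =
          Matrix.updateRow Y s₀ (Y s₀ + (MvPolynomial.C b : MvPolynomial (Fin n × Fin m) k) • Y t₀) := by
        ext s t
        by_cases hs : s = s₀
        · subst hs
          rw [Matrix.updateRow_self, Matrix.submatrix_apply, hs₀,
            Matrix.transvection_mul_apply_same]
          simp [hY]
          rw [hs₀, ht₀]
        · rw [Matrix.updateRow_ne hs, Matrix.submatrix_apply,
            Matrix.transvection_mul_apply_of_ne]
          · rfl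
          · intro hh
            rw [← hs₀] at hh
            exact hs (I.injective hh)
      rw [hsub, Matrix.det_updateRow_add_smul_self _ hst]
    · congr 1
      refine Matrix.ext fun s t => ?_
      rw [Matrix.submatrix_apply, hY, Matrix.submatrix_apply, Matrix.transvection_mul_apply_of_ne]
      intro hh
      exact hi ⟨s, hh⟩


end Groth.Agent.S11240
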