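import Groth.Statements.S11243
import Mathlib.LinearAlgebra.RootSystem.Finite.CanonicalBilinear
import Mathlib.Tactic.Linarith
-- import your own Groth.Agent.* helpers here

set_option autoImplicit false
universe u v w
open RootD

namespace Groth.Agent.S11243

/-- (b), for a connected group, as a statement about its root datum: let P be a finite reduced
crystallographic root pairing over ℤ with weight lattice M, and b a base of P (simple roots,
determining the positive roots). Then there is an additive map h : M → ℤ which is positive on every
positive root (so that h strictly increases along the dominance order) and non-negative on every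
dominant weight, i.e. on every ω ∈ M pairing non-negatively with all simple coroots. (Part (c),
invariance under the component group of a disconnected group, is not stated.) -/
theorem result {ι : Type u} {M : Type v} {N : Type w}
    [Fintype ι] [AddCommGroup M] [AddCommGroup N]
    (P : RootPairing ι ℤ M N) [P.IsReduced] [P.IsCrystallographic] (b : P.Base) :
    ∃ h : M →+ ℤ, (∀ i : ι, b.IsPos i → 0 < h (P.root i)) ∧
      ∀ ω : M, (∀ j ∈ b.support, 0 ≤ P.toLinearMap ω (P.coroot j)) → 0 ≤ h ω := by
  classical
  let T : Finset ι := Finset.univ.filter (fun i => b.IsPos i)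
  have hT : ∀ i, i ∈ T ↔ b.IsPos i := fun i => by simp [T]
  let hl : M →ₗ[ℤ] ℤ := ∑ i ∈ T, P.coroot' i
  have hl_apply : ∀ x, hl x = ∑ i ∈ T, P.coroot' i x := fun x => by
    simp [hl, LinearMap.sum_apply]
  refine ⟨hl.toAddMonoidHom, ?_, ?_⟩
  · have hsimple : ∀ j ∈ b.support, hl (P.root j) = 2 := by
      intro j hj
      have hjpos : b.IsPos j := RootPairing.Base.isPos_of_mem_support hj
      rw [hl_apply]
      simp only [P.root_coroot'_eq_pairing]
      have hjT : j ∈ T := (hT j).mpr hjpos
      rw [← Finset.add_sum_erase T _ hjT, P.pairing_same]
      have hnegj : ¬ b.IsPos (P.reflectionPerm j j) := by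
        let _ := P.indexNeg
        intro hc
        exact (RootPairing.Base.IsPos.neg_iff_not b j).mp hc hjpos
      have hσ1 : ∀ i, i ∈ T.erase j → P.reflectionPerm j i ∈ T.erase j := by
        intro i hi
        rw [Finset.mem_erase, hT] at hi ⊢
        obtain ⟨hij, hipos⟩ := hi
        refine ⟨?_, hipos.reflectionPerm hj hij⟩
        intro hc
        have h3 := P.reflectionPerm_self (i := j) (j := i)
        rw [hc] at h3
        exact hnegj (h3.symm ▸ hipos)
      have hσ : ∀ i, i ∈ T.erase j ↔ P.reflectionPerm j i ∈ T.erase j := by
        intro i
        refine ⟨hσ1 i, fun h => ?_⟩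
        have := hσ1 _ h
        rwa [P.reflectionPerm_self] at this
      have h1 : ∑ i ∈ T.erase j, P.pairing j (P.reflectionPerm j i) =
          ∑ i ∈ T.erase j, P.pairing j i :=
        Finset.sum_equiv (P.reflectionPerm j) hσ (fun i _ => rfl)
      have h2 : ∑ i ∈ T.erase j, P.pairing j (P.reflectionPerm j i) =
          - ∑ i ∈ T.erase j, P.pairing j i := by
        rw [← Finset.sum_neg_distrib]
        apply Finset.sum_congr rfl
        intro i _
        rw [P.pairing_reflectionPerm, P.pairing_reflectionPerm_self_left]
      have hS : ∑ i ∈ T.erase j, P.pairing j i = 0 := by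
        rw [h1] at h2
        linarith
      rw [hS, add_zero]
    intro i hi
    change 0 < hl (P.root i)
    refine hi.induction_on_add (p := fun i => 0 < hl (P.root i)) ?_ ?_
    · intro j hj
      rw [hsimple j hj]
      norm_num
    · intro i j k hk hpi hj
      rw [hk, map_add, hsimple j hj]
      linarith
  · intro ω hω
    change 0 ≤ hl ω
    rw [hl_apply]
    apply Finset.sum_nonneg
    intro i hi
    have hipos : b.IsPos i := (hT i).mp hi
    have hBpos : ∀ k : ι, 0 < P.RootForm (P.root k) (P.root k) := by
      intro k
      rw [P.rootForm_root_self]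
      have h4 : P.pairing k k * P.pairing k k ≤ ∑ i, P.pairing k i * P.pairing k i :=
        Finset.single_le_sum (f := fun i => P.pairing k i * P.pairing k i)
          (fun i _ => mul_self_nonneg _) (Finset.mem_univ k)
      rw [P.pairing_same] at h4
      linarith
    have hkey : ∀ k : ι, P.RootForm (P.root k) (P.root k) * P.toLinearMap ω (P.coroot k) =
        2 * P.RootForm (P.root k) ω := by
      intro k
      have := congrArg (P.toLinearMap ω) (P.rootForm_self_smul_coroot k)
      rw [map_smul, map_nsmul, P.toLinearMap_apply_apply_Polarization] at this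
      simpa using this
    have hclaim : 0 ≤ P.toLinearMap ω (P.coroot i) := by
      refine hipos.induction_on_add (p := fun i => 0 ≤ P.toLinearMap ω (P.coroot i)) ?_ ?_
      · intro j hj
        exact hω j hj
      · intro i j k hk hpi hj
        have h1 : P.RootForm (P.root k) (P.root k) * P.toLinearMap ω (P.coroot k) =
            P.RootForm (P.root i) (P.root i) * P.toLinearMap ω (P.coroot i) +
            P.RootForm (P.root j) (P.root j) * P.toLinearMap ω (P.coroot j) := by
          rw [hkey k, hkey i, hkey j, ← mul_add, ← LinearMap.add_apply, ← map_add, ← hk]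
        have h2 : 0 ≤ P.RootForm (P.root k) (P.root k) * P.toLinearMap ω (P.coroot k) := by
          rw [h1]
          exact add_nonneg (mul_nonneg (hBpos i).le hpi) (mul_nonneg (hBpos j).le (hω j hj))
        exact nonneg_of_mul_nonneg_right h2 (hBpos k)
    exact hclaim

end Groth.Agent.S11243
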