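import Groth.Statements.S11249
import Mathlib.LinearAlgebra.Matrix.Rank
import Mathlib.LinearAlgebra.Matrix.NonsingularInverse
import Mathlib.LinearAlgebra.Matrix.Adjugate
import Mathlib.LinearAlgebra.LinearIndependent.Lemmas
import Mathlib.Tactic.FieldSimp
-- import your own Groth.Agent.* helpers here

set_option autoImplicit false
universe u
open W4bk4grassmannian

namespace Groth.Agent.S11249

theorem exists_sort {d n : ℕ} (a : Fin d → Fin n) (ha : Function.Injective a) :
    ∃ (θ : Idx d n) (σ : Equiv.Perm (Fin d)), a = θ.1 ∘ σ := by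
  classical
  have hcard : (Finset.univ.image a).card = d := by
    rw [Finset.card_image_of_injective _ ha, Finset.card_univ, Fintype.card_fin]
  let e := (Finset.univ.image a).orderEmbOfFin hcard
  have hmem : ∀ i, a i ∈ Set.range e := by
    intro i
    rw [Finset.range_orderEmbOfFin]
    exact Finset.mem_coe.mpr (Finset.mem_image_of_mem a (Finset.mem_univ i))
  choose σ hσ using hmem
  have hσinj : Function.Injective σ := by
    intro i j hij
    apply ha
    rw [← hσ i, ← hσ j, hij]
  have hσbij : Function.Bijective σ := Finite.injective_iff_bijective.mp hσinj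
  refine ⟨⟨e, e.strictMono⟩, Equiv.ofBijective σ hσbij, ?_⟩
  funext i
  exact (hσ i).symm

theorem det_submatrix_general {K : Type u} [Field K] {d n : ℕ} (A A' : Matrix (Fin n) (Fin d) K)
    (c : K) (h : ∀ θ : Idx d n, (A.submatrix θ.1 id).det = c * (A'.submatrix θ.1 id).det)
    (a : Fin d → Fin n) :
    (A.submatrix a id).det = c * (A'.submatrix a id).det := by
  classical
  by_cases ha : Function.Injective a
  · obtain ⟨θ, σ, rfl⟩ := exists_sort a ha
    have e1 : ∀ M : Matrix (Fin n) (Fin d) K,
        M.submatrix (θ.1 ∘ σ) id = (M.submatrix θ.1 id).submatrix σ id := fun M => rfl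
    rw [e1, e1, Matrix.det_permute, Matrix.det_permute, h θ]
    ring
  · rw [Function.Injective] at ha
    simp only [not_forall] at ha
    obtain ⟨i, j, hij, hne⟩ := ha
    have z1 : (A.submatrix a id).det = 0 :=
      Matrix.det_zero_of_row_eq hne (by funext t; simp [Matrix.submatrix_apply, hij])
    have z2 : (A'.submatrix a id).det = 0 :=
      Matrix.det_zero_of_row_eq hne (by funext t; simp [Matrix.submatrix_apply, hij])
    rw [z1, z2, mul_zero]

theorem exists_minor_ne_zero {K : Type u} [Field K] {d n : ℕ} (A : Matrix (Fin n) (Fin d) K)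
    (hA : LinearIndependent K A.transpose) :
    ∃ θ : Idx d n, (A.submatrix θ.1 id).det ≠ 0 := by
  classical
  have hrank : A.rank = d := by
    have h1 : A.transpose.rank = Fintype.card (Fin d) :=
      LinearIndependent.rank_matrix (M := A.transpose) hA
    rw [Matrix.rank_transpose, Fintype.card_fin] at h1
    exact h1
  have hspan : Submodule.span K (Set.range A.row) = ⊤ := by
    apply Submodule.eq_top_of_finrank_eq
    rw [← Matrix.rank_eq_finrank_span_row, hrank, Module.finrank_fin_fun]
  obtain ⟨κ, a, hainj, hsp, hli⟩ := exists_linearIndependent' K A.row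
  rw [hspan] at hsp
  have : Finite κ := Finite.of_injective a hainj
  let _ : Fintype κ := Fintype.ofFinite κ
  let b : Module.Basis κ K (Fin d → K) := Module.Basis.mk hli (by rw [hsp])
  have hcard : Fintype.card κ = d := by
    rw [← Module.finrank_eq_card_basis b, Module.finrank_fin_fun]
  let e : κ ≃ Fin d := Fintype.equivFinOfCardEq hcard
  let a' : Fin d → Fin n := a ∘ e.symm
  have ha'inj : Function.Injective a' := hainj.comp e.symm.injective
  have hli' : LinearIndependent K (A.submatrix a' id).row := by
    have : (A.submatrix a' id).row = (A.row ∘ a) ∘ e.symm := by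
      funext i
      rfl
    rw [this]
    exact hli.comp _ e.symm.injective
  have hunit : IsUnit (A.submatrix a' id) := Matrix.linearIndependent_rows_iff_isUnit.mp hli'
  have hdet : (A.submatrix a' id).det ≠ 0 := by
    have := (Matrix.isUnit_iff_isUnit_det _).mp hunit
    exact this.ne_zero
  obtain ⟨θ, σ, hθ⟩ := exists_sort a' ha'inj
  refine ⟨θ, ?_⟩
  intro hzero
  apply hdet
  have e1 : A.submatrix a' id = (A.submatrix θ.1 id).submatrix σ id := by rw [hθ]; rfl
  rw [e1, Matrix.det_permute, hzero, mul_zero]

theorem span_le_of_minors {K : Type u} [Field K] {d n : ℕ} (A A' : Matrix (Fin n) (Fin d) K)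
    (hA' : LinearIndependent K A'.transpose) (c : K) (hc : c ≠ 0)
    (h : ∀ θ : Idx d n, (A.submatrix θ.1 id).det = c * (A'.submatrix θ.1 id).det) :
    Submodule.span K (Set.range A'.transpose) ≤ Submodule.span K (Set.range A.transpose) := by
  classical
  obtain ⟨θ₀, hθ₀'⟩ := exists_minor_ne_zero A' hA'
  have hθ₀ : (A.submatrix θ₀.1 id).det ≠ 0 := by rw [h θ₀]; exact mul_ne_zero hc hθ₀'
  set S := A.submatrix θ₀.1 id with hS
  set S' := A'.submatrix θ₀.1 id with hS'
  have hSunit : IsUnit S.det := isUnit_iff_ne_zero.mpr hθ₀
  have hS'unit : IsUnit S'.det := isUnit_iff_ne_zero.mpr hθ₀'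
  have hgen := det_submatrix_general A A' c h
  -- entries of the normalised matrices as minors
  have hentry : ∀ (M : Matrix (Fin n) (Fin d) K) (T : Matrix (Fin d) (Fin d) K),
      IsUnit T.det → T = M.submatrix θ₀.1 id → ∀ (i : Fin n) (j : Fin d),
      (M * T⁻¹) i j = (M.submatrix (Function.update θ₀.1 j i) id).det * T.det⁻¹ := by
    intro M T hT hTM i j
    have h1 : (M * T⁻¹).submatrix (Function.update θ₀.1 j i) id =
        Matrix.updateRow (1 : Matrix (Fin d) (Fin d) K) j ((M * T⁻¹) i) := by
      refine Matrix.ext fun s t => ?_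
      by_cases hs : s = j
      · subst hs
        rw [Matrix.updateRow_self, Matrix.submatrix_apply, Function.update_self]
        rfl
      · rw [Matrix.updateRow_ne hs, Matrix.submatrix_apply, Function.update_of_ne hs]
        have : (M * T⁻¹) (θ₀.1 s) (id t) = ((M.submatrix θ₀.1 id) * T⁻¹) s t := rfl
        rw [this, ← hTM, Matrix.mul_nonsing_inv T hT]
    have h2 : ((M * T⁻¹).submatrix (Function.update θ₀.1 j i) id).det = (M * T⁻¹) i j := by
      rw [h1, ← Matrix.cramer_transpose_apply, Matrix.transpose_one, Matrix.cramer_one]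
      rfl
    have h3 : (M * T⁻¹).submatrix (Function.update θ₀.1 j i) id =
        (M.submatrix (Function.update θ₀.1 j i) id) * T⁻¹ := rfl
    rw [← h2, h3, Matrix.det_mul, Matrix.det_nonsing_inv, Ring.inverse_eq_inv']
  have hB : A * S⁻¹ = A' * S'⁻¹ := by
    refine Matrix.ext fun i j => ?_
    have hSdet : S.det = c * S'.det := h θ₀
    rw [hentry A S hSunit rfl i j, hentry A' S' hS'unit rfl i j, hgen, hSdet]
    field_simp
  have hA'eq : A' = A * (S⁻¹ * S') := by
    rw [← Matrix.mul_assoc, hB, Matrix.mul_assoc, Matrix.nonsing_inv_mul S' hS'unit, Matrix.mul_one]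
  rw [Submodule.span_le]
  rintro _ ⟨j, rfl⟩
  have : A'.transpose j = ∑ k : Fin d, (S⁻¹ * S') k j • A.transpose k := by
    funext i
    rw [Matrix.transpose_apply]
    conv_lhs => rw [hA'eq]
    rw [Matrix.mul_apply, Finset.sum_apply]
    refine Finset.sum_congr rfl fun k _ => ?_
    rw [Pi.smul_apply, Matrix.transpose_apply, smul_eq_mul, mul_comm]
  rw [this]
  exact Submodule.sum_mem _ fun k _ => Submodule.smul_mem _ _ (Submodule.subset_span ⟨k, rfl⟩)


open W4bk4grassmannian in
/-- Injectivity of the Plücker map, in matrix form: let K be a field, A and A' two n × d matrices over K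
with linearly independent columns, and suppose there is a nonzero scalar c with det A_θ = c · det
A'_θ for every strictly increasing d-tuple θ of row indices (A_θ the d × d submatrix on the rows θ).
Then the columns of A and of A' span the same subspace of K^n. (The published statement is over an
algebraically closed field; this row allows any field K.) -/
theorem result (K : Type u) [Field K] (d n : ℕ)
    (A A' : Matrix (Fin n) (Fin d) K) (hA : LinearIndependent K A.transpose)
    (hA' : LinearIndependent K A'.transpose) (c : K) (hc : c ≠ 0)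
    (h : ∀ θ : Idx d n, (A.submatrix θ.1 id).det = c * (A'.submatrix θ.1 id).det) :
    Submodule.span K (Set.range A.transpose) = Submodule.span K (Set.range A'.transpose) := by
  apply le_antisymm
  · refine span_le_of_minors A' A hA c⁻¹ (inv_ne_zero hc) ?_
    intro θ
    rw [h θ, ← mul_assoc, inv_mul_cancel₀ hc, one_mul]
  · exact span_le_of_minors A A' hA' c hc h


end Groth.Agent.S11249
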