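import Groth.Statements.S11257
import Mathlib.RingTheory.Regular.RegularSequence
import Mathlib.RingTheory.Regular.IsSMulRegular
import Mathlib.Algebra.Exact.Basic
-- import your own Groth.Agent.* helpers here

set_option autoImplicit false
universe u
open W4bk4grassmannian

namespace Groth.Agent.S11257

theorem mem_smul_top_prod {A : Type u} [CommRing A] {M N : Type u} [AddCommGroup M] [Module A M]
    [AddCommGroup N] [Module A N] (I : Ideal A) (z : M × N) :
    z ∈ I • (⊤ : Submodule A (M × N)) ↔
      z.1 ∈ I • (⊤ : Submodule A M) ∧ z.2 ∈ I • (⊤ : Submodule A N) := by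
  constructor
  · intro hz
    constructor
    · have : z.1 ∈ (I • (⊤ : Submodule A (M × N))).map (LinearMap.fst A M N) := ⟨z, hz, rfl⟩
      rw [Submodule.map_smul''] at this
      exact SetLike.le_def.mp (smul_mono_right I le_top) this
    · have : z.2 ∈ (I • (⊤ : Submodule A (M × N))).map (LinearMap.snd A M N) := ⟨z, hz, rfl⟩
      rw [Submodule.map_smul''] at this
      exact SetLike.le_def.mp (smul_mono_right I le_top) this
  · rintro ⟨h1, h2⟩
    have e1 : (z.1, (0 : N)) ∈ I • (⊤ : Submodule A (M × N)) := by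
      have : (z.1, (0 : N)) ∈ (I • (⊤ : Submodule A M)).map (LinearMap.inl A M N) :=
        ⟨z.1, h1, rfl⟩
      rw [Submodule.map_smul''] at this
      exact SetLike.le_def.mp (smul_mono_right I le_top) this
    have e2 : ((0 : M), z.2) ∈ I • (⊤ : Submodule A (M × N)) := by
      have : ((0 : M), z.2) ∈ (I • (⊤ : Submodule A N)).map (LinearMap.inr A M N) :=
        ⟨z.2, h2, rfl⟩
      rw [Submodule.map_smul''] at this
      exact SetLike.le_def.mp (smul_mono_right I le_top) this
    have := Submodule.add_mem _ e1 e2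
    simpa using this

open RingTheory.Sequence in
theorem isWeaklyRegular_prod {A : Type u} [CommRing A] {M N : Type u} [AddCommGroup M]
    [Module A M] [AddCommGroup N] [Module A N] (rs : List A)
    (hM : IsWeaklyRegular M rs) (hN : IsWeaklyRegular N rs) : IsWeaklyRegular (M × N) rs := by
  rw [isWeaklyRegular_iff_Fin] at hM hN ⊢
  intro i
  have h1 := hM i
  have h2 := hN i
  rw [isSMulRegular_quotient_iff_mem_of_smul_mem] at h1 h2 ⊢
  intro z hz
  rw [mem_smul_top_prod] at hz ⊢
  exact ⟨h1 z.1 hz.1, h2 z.2 hz.2⟩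


open RingTheory.Sequence in
/-- Regular sequences pass to the kernel term of a short exact sequence, when the sequence is
regular on the middle term and (all but its last term) on the cokernel term. -/
theorem isWeaklyRegular_of_exact {A : Type u} [CommRing A] (rs : List A) :
    ∀ {M N P : Type u} [AddCommGroup M] [Module A M] [AddCommGroup N] [Module A N]
      [AddCommGroup P] [Module A P] (f : M →ₗ[A] N) (g : N →ₗ[A] P),
      Function.Injective f → Function.Exact f g → Function.Surjective g →
      IsWeaklyRegular N rs → IsWeaklyRegular P (rs.take (rs.length - 1)) →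
      IsWeaklyRegular M rs := by
  induction rs with
  | nil =>
    intro M N P _ _ _ _ _ _ f g _ _ _ _ _
    exact IsWeaklyRegular.nil _ _
  | cons x rs' ih =>
    intro M N P _ _ _ _ _ _ f g hf hfg hg hN hP
    obtain ⟨hxN, hN'⟩ := (isWeaklyRegular_cons_iff N x rs').mp hN
    have hxM : IsSMulRegular M x := hxN.of_injective f hf
    rw [isWeaklyRegular_cons_iff]
    refine ⟨hxM, ?_⟩
    cases rs' with
    | nil => exact IsWeaklyRegular.nil _ _
    | cons y rs'' =>
      have htake : (x :: y :: rs'').take ((x :: y :: rs'').length - 1) =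
          x :: (y :: rs'').take ((y :: rs'').length - 1) := by
        simp [List.take_succ_cons]
      rw [htake] at hP
      obtain ⟨hxP, hP'⟩ := (isWeaklyRegular_cons_iff P x _).mp hP
      have hinj : Function.Injective (QuotSMulTop.map x f) := by
        have h0 : Function.Exact (0 : PUnit.{u+1} →ₗ[A] M) f :=
          (LinearMap.exact_zero_iff_injective PUnit f).mpr hf
        have := QuotSMulTop.map_first_exact_on_four_term_exact_of_isSMulRegular_last h0 hfg hxP
        rw [map_zero] at this
        exact (LinearMap.exact_zero_iff_injective _ _).mp this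
      exact ih (QuotSMulTop.map x f) (QuotSMulTop.map x g) hinj
        (QuotSMulTop.map_exact x hfg hg) (QuotSMulTop.map_surjective x hg) hN' hP'


/-- Let A be a Noetherian local integral domain with maximal ideal m, I and J ideals of A, d ≥ 1, and
f_1, …, f_d ∈ m. Assume depth A/(I+J) ≥ d - 1, depth A/I ≥ d and depth A/J ≥ d (depths of the
quotients as A-modules), that f_1, …, f_d is a regular sequence on A/I and on A/J, and that f_1, …,
f_{d-1} is a regular sequence on A/(I+J). Then f_1, …, f_d is a regular sequence on A/(I ∩ J). -/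
theorem result (A : Type u) [CommRing A] [IsDomain A]
    [IsNoetherianRing A] [IsLocalRing A] (I J : Ideal A) (d : ℕ) (hd : 0 < d) (f : Fin d → A)
    (hf : ∀ k, f k ∈ IsLocalRing.maximalIdeal A)
    (hIJd : ((d - 1 : ℕ) : ℕ∞) ≤ LocCoh.depth A (A ⧸ (I ⊔ J)))
    (hId : (d : ℕ∞) ≤ LocCoh.depth A (A ⧸ I)) (hJd : (d : ℕ∞) ≤ LocCoh.depth A (A ⧸ J))
    (hI : RingTheory.Sequence.IsRegular (A ⧸ I) (List.ofFn f))
    (hJ : RingTheory.Sequence.IsRegular (A ⧸ J) (List.ofFn f))
    (hIJ : RingTheory.Sequence.IsRegular (A ⧸ (I ⊔ J)) ((List.ofFn f).take (d - 1))) :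
    RingTheory.Sequence.IsRegular (A ⧸ (I ⊓ J)) (List.ofFn f) := by
  classical
  have hle1 : I ⊓ J ≤ Submodule.comap (LinearMap.id : A →ₗ[A] A) I := fun x hx => hx.1
  have hle2 : I ⊓ J ≤ Submodule.comap (LinearMap.id : A →ₗ[A] A) J := fun x hx => hx.2
  have hle3 : I ≤ Submodule.comap (LinearMap.id : A →ₗ[A] A) (I ⊔ J) := fun x hx =>
    Submodule.mem_sup_left hx
  have hle4 : J ≤ Submodule.comap (LinearMap.id : A →ₗ[A] A) (I ⊔ J) := fun x hx =>
    Submodule.mem_sup_right hx
  let φ : (A ⧸ (I ⊓ J)) →ₗ[A] ((A ⧸ I) × (A ⧸ J)) :=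
    LinearMap.prod (Submodule.mapQ (I ⊓ J) I LinearMap.id hle1)
      (Submodule.mapQ (I ⊓ J) J LinearMap.id hle2)
  let ψ : ((A ⧸ I) × (A ⧸ J)) →ₗ[A] (A ⧸ (I ⊔ J)) :=
    LinearMap.coprod (Submodule.mapQ I (I ⊔ J) LinearMap.id hle3)
      (-(Submodule.mapQ J (I ⊔ J) LinearMap.id hle4))
  have hφ : ∀ a : A, φ (Submodule.Quotient.mk a) =
      (Submodule.Quotient.mk a, Submodule.Quotient.mk a) := fun a => rfl
  have hψ : ∀ a b : A, ψ (Submodule.Quotient.mk a, Submodule.Quotient.mk b) =
      Submodule.Quotient.mk (a - b) := by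
    intro a b
    simp [ψ, sub_eq_add_neg]
  have hinj : Function.Injective φ := by
    rw [injective_iff_map_eq_zero]
    intro q hq
    obtain ⟨a, rfl⟩ := Submodule.Quotient.mk_surjective _ q
    rw [hφ, Prod.mk_eq_zero, Submodule.Quotient.mk_eq_zero, Submodule.Quotient.mk_eq_zero] at hq
    rw [Submodule.Quotient.mk_eq_zero]
    exact ⟨hq.1, hq.2⟩
  have hex : Function.Exact φ ψ := by
    intro y
    obtain ⟨y1, y2⟩ := y
    obtain ⟨a, rfl⟩ := Submodule.Quotient.mk_surjective _ y1
    obtain ⟨b, rfl⟩ := Submodule.Quotient.mk_surjective _ y2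
    rw [hψ, Submodule.Quotient.mk_eq_zero]
    constructor
    · intro hab
      obtain ⟨i, hi, j, hj, hij⟩ := Submodule.mem_sup.mp hab
      refine ⟨Submodule.Quotient.mk (a - i), ?_⟩
      rw [hφ, Prod.mk.injEq, Submodule.Quotient.eq, Submodule.Quotient.eq]
      constructor
      · have : a - i - a = -i := by ring
        rw [this]
        exact I.neg_mem hi
      · have : a - i - b = j := by
          have h3 : a - i - b = (a - b) - i := by ring
          rw [h3, ← hij]
          ring
        rw [this]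
        exact hj
    · rintro ⟨q, hq⟩
      obtain ⟨c, rfl⟩ := Submodule.Quotient.mk_surjective _ q
      rw [hφ, Prod.mk.injEq, Submodule.Quotient.eq, Submodule.Quotient.eq] at hq
      have : a - b = -(c - a) + (c - b) := by ring
      rw [this]
      exact Submodule.add_mem _ (Submodule.mem_sup_left (I.neg_mem hq.1))
        (Submodule.mem_sup_right hq.2)
  have hsurj : Function.Surjective ψ := by
    intro q
    obtain ⟨a, rfl⟩ := Submodule.Quotient.mk_surjective _ q
    refine ⟨(Submodule.Quotient.mk a, Submodule.Quotient.mk 0), ?_⟩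
    rw [hψ, sub_zero]
  have hN : RingTheory.Sequence.IsWeaklyRegular ((A ⧸ I) × (A ⧸ J)) (List.ofFn f) :=
    isWeaklyRegular_prod _ hI.toIsWeaklyRegular hJ.toIsWeaklyRegular
  have hP : RingTheory.Sequence.IsWeaklyRegular (A ⧸ (I ⊔ J))
      ((List.ofFn f).take ((List.ofFn f).length - 1)) := by
    rw [List.length_ofFn]
    exact hIJ.toIsWeaklyRegular
  have hM := isWeaklyRegular_of_exact (List.ofFn f) φ ψ hinj hex hsurj hN hP
  have hnt : Nontrivial (A ⧸ (I ⊓ J)) := by
    have h1 : Nontrivial (A ⧸ I) := hI.nontrivial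
    rw [Ideal.Quotient.nontrivial_iff] at h1 ⊢
    intro h
    apply h1
    rw [eq_top_iff, ← h]
    exact inf_le_left
  refine RingTheory.Sequence.IsRegular.of_isWeaklyRegular_of_mem_maximalIdeal _ ?_ hM
  intro r hr
  rw [List.mem_ofFn] at hr
  obtain ⟨k, rfl⟩ := hr
  exact hf k

end Groth.Agent.S11257
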