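import Groth.Statements.S1126
import Groth.Agent.H37.UHBasic
import Mathlib.AlgebraicGeometry.Morphisms.FlatDescent

set_option autoImplicit false
open CategoryTheory CategoryTheory.Limits AlgebraicGeometry Opposite
universe u
open Desc

namespace Groth.Agent.S1126

/-- If the base change of a morphism along a quasi-compact flat surjective morphism to its target is a
universal homeomorphism, then the morphism is a universal homeomorphism. (Stated for a single
quasi-compact flat surjective base change; combined with Zariski-locality on the target this gives
the fpqc-local form.) -/
theorem result :
    MorphismProperty.DescendsAlong (FlatMor.IsUnivHomeo.{u})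
      (@Surjective ⊓ @Flat ⊓ @QuasiCompact : MorphismProperty Scheme.{u}) := by
  refine ⟨fun {A X Y Z fst snd f g} h hf hfst => ?_⟩
  rw [Groth.Agent.H37.isUnivHomeo_iff] at hfst ⊢
  exact ⟨MorphismProperty.of_isPullback_of_descendsAlong (P := @UniversallyClosed) h hf hfst.1,
    MorphismProperty.of_isPullback_of_descendsAlong (P := @UniversallyInjective) h hf hfst.2.1,
    MorphismProperty.of_isPullback_of_descendsAlong (P := @Surjective) h hf hfst.2.2⟩

end Groth.Agent.S1126
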