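import Groth.Statements.S11262
import Mathlib.RingTheory.MvPolynomial.Ideal
import Mathlib.Algebra.Order.Antidiag.FinsuppEquiv
import Mathlib.LinearAlgebra.Dimension.Constructions
import Mathlib.LinearAlgebra.Isomorphisms
-- import your own Groth.Agent.* helpers here

set_option autoImplicit false
universe u v
open W4bk4grassmannian

namespace Groth.Agent.S11262

open MvPolynomial

section Comb

variable {L : Type v} [PartialOrder L]

/-- The support of the exponent vector `u` is a chain. -/
def IsCh (u : L →₀ ℕ) : Prop := IsChain (fun a b : L => a ≤ b) (↑u.support : Set L)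

/-- The set of exponent vectors `e_a + e_b` of the products of incomparable pairs. -/
def skewSet (L : Type v) [PartialOrder L] : Set (L →₀ ℕ) :=
  {s | ∃ a b : L, ¬ a ≤ b ∧ ¬ b ≤ a ∧ s = Finsupp.single a 1 + Finsupp.single b 1}

lemma exists_skew_le_iff (u : L →₀ ℕ) : (∃ s ∈ skewSet L, s ≤ u) ↔ ¬ IsCh u := by
  classical
  constructor
  · rintro ⟨s, ⟨a, b, hab, hba, rfl⟩, hle⟩ hch
    have hne : a ≠ b := by
      rintro rfl
      exact hab le_rfl
    have ha : a ∈ u.support := by
      rw [Finsupp.mem_support_iff]
      have := hle a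
      simp only [Finsupp.coe_add, Pi.add_apply, Finsupp.single_eq_same] at this
      omega
    have hb : b ∈ u.support := by
      rw [Finsupp.mem_support_iff]
      have := hle b
      simp only [Finsupp.coe_add, Pi.add_apply, Finsupp.single_eq_same] at this
      omega
    rcases hch ha hb hne with h | h
    · exact hab h
    · exact hba h
  · intro hch
    unfold IsCh IsChain Set.Pairwise at hch
    push Not at hch
    obtain ⟨a, ha, b, hb, hne, hab, hba⟩ := hch
    refine ⟨_, ⟨a, b, hab, hba, rfl⟩, ?_⟩
    intro c
    simp only [Finsupp.coe_add, Pi.add_apply]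
    have ha' : 1 ≤ u a := Nat.one_le_iff_ne_zero.mpr (Finsupp.mem_support_iff.mp ha)
    have hb' : 1 ≤ u b := Nat.one_le_iff_ne_zero.mpr (Finsupp.mem_support_iff.mp hb)
    by_cases hca : c = a
    · subst hca
      rw [Finsupp.single_eq_same, Finsupp.single_eq_of_ne hne]
      omega
    · by_cases hcb : c = b
      · subst hcb
        rw [Finsupp.single_eq_same, Finsupp.single_eq_of_ne (Ne.symm hne)]
        omega
      · rw [Finsupp.single_eq_of_ne hca, Finsupp.single_eq_of_ne hcb]
        omega

end Comb

section Ideal

variable (K : Type u) [Field K] (L : Type v) [PartialOrder L]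

/-- The Stanley–Reisner ideal. -/
noncomputable abbrev srIdeal : Ideal (MvPolynomial L K) :=
  Ideal.span {f : MvPolynomial L K | ∃ a b : L, ¬ a ≤ b ∧ ¬ b ≤ a ∧
    f = MvPolynomial.X a * MvPolynomial.X b}

lemma gens_eq_image : {f : MvPolynomial L K | ∃ a b : L, ¬ a ≤ b ∧ ¬ b ≤ a ∧
    f = MvPolynomial.X a * MvPolynomial.X b} =
      (fun s => monomial s (1 : K)) '' skewSet L := by
  ext f
  constructor
  · rintro ⟨a, b, hab, hba, rfl⟩
    refine ⟨_, ⟨a, b, hab, hba, rfl⟩, ?_⟩
    simp only [X, monomial_mul, mul_one]
  · rintro ⟨s, ⟨a, b, hab, hba, rfl⟩, rfl⟩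
    refine ⟨a, b, hab, hba, ?_⟩
    simp only [X, monomial_mul, mul_one]

variable {K L}

lemma mem_srIdeal_iff (f : MvPolynomial L K) :
    f ∈ srIdeal K L ↔ ∀ u ∈ f.support, ¬ IsCh u := by
  rw [srIdeal, gens_eq_image, mem_ideal_span_monomial_image]
  exact forall₂_congr (fun u _ => exists_skew_le_iff u)

end Ideal


section Lin

variable {K : Type u} [Field K] {L : Type v} [PartialOrder L] [Fintype L]

open Classical in
/-- The exponent vectors of degree `m` whose support is a chain. -/
noncomputable def chainMonos (L : Type v) [PartialOrder L] [Fintype L] (m : ℕ) :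
    Finset (L →₀ ℕ) :=
  (Finset.univ.finsuppAntidiag m).filter (fun u => IsCh u)

lemma mem_chainMonos (m : ℕ) (u : L →₀ ℕ) :
    u ∈ chainMonos L m ↔ u.degree = m ∧ IsCh u := by
  classical
  simp [chainMonos, Finsupp.degree_eq_sum]

/-- The coefficients at the chain monomials of degree `m`. -/
noncomputable def coeffMap (K : Type u) [Field K] (L : Type v) [PartialOrder L] [Fintype L]
    (m : ℕ) : MvPolynomial L K →ₗ[K] (chainMonos L m → K) where
  toFun f u := coeff u.1 f
  map_add' f g := by ext u; simp
  map_smul' c f := by ext u; simp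

lemma coeffMap_apply (m : ℕ) (f : MvPolynomial L K) (u : chainMonos L m) :
    coeffMap K L m f u = coeff u.1 f := rfl

omit [PartialOrder L] [Fintype L] in
lemma degree_of_mem_support {m : ℕ} {f : MvPolynomial L K} (hf : f.IsHomogeneous m)
    {u : L →₀ ℕ} (hu : u ∈ f.support) : u.degree = m := by
  rw [Finsupp.degree_apply]
  exact (hf.degree_eq_sum_deg_support hu).symm

lemma mem_srIdeal_iff_coeffMap {m : ℕ} {f : MvPolynomial L K} (hf : f.IsHomogeneous m) :
    f ∈ srIdeal K L ↔ coeffMap K L m f = 0 := by
  rw [mem_srIdeal_iff]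
  constructor
  · intro h
    ext u
    rw [coeffMap_apply, Pi.zero_apply]
    by_contra hne
    have hu : u.1 ∈ f.support := mem_support_iff.mpr hne
    exact h u.1 hu ((mem_chainMonos m u.1).mp u.2).2
  · intro h u hu hch
    have hmem : u ∈ chainMonos L m := (mem_chainMonos m u).mpr ⟨degree_of_mem_support hf hu, hch⟩
    have h1 : coeffMap K L m f ⟨u, hmem⟩ = 0 := by rw [h]; rfl
    rw [coeffMap_apply] at h1
    exact (mem_support_iff.mp hu) h1

lemma coeffMap_surjective_on_homogeneous (m : ℕ) (c : chainMonos L m → K) :
    ∃ f ∈ homogeneousSubmodule L K m, coeffMap K L m f = c := by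
  classical
  refine ⟨∑ u : chainMonos L m, monomial u.1 (c u), ?_, ?_⟩
  · apply Submodule.sum_mem
    intro u _
    rw [mem_homogeneousSubmodule]
    exact isHomogeneous_monomial _ ((mem_chainMonos m u.1).mp u.2).1
  · ext u
    rw [coeffMap_apply, coeff_sum]
    simp only [coeff_monomial]
    rw [Finset.sum_eq_single u]
    · simp
    · intro v _ hvu
      rw [if_neg]
      intro h
      exact hvu (Subtype.ext h)
    · intro h
      exact absurd (Finset.mem_univ u) h

/-- The dimension of the degree `m` part of the Stanley–Reisner ring is the number of chain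
monomials of degree `m`. -/
lemma finrank_eq_card (m : ℕ) :
    Module.finrank K ((MvPolynomial.homogeneousSubmodule L K m).map
        (Ideal.Quotient.mkₐ K (srIdeal K L)).toLinearMap) = (chainMonos L m).card := by
  classical
  let H := MvPolynomial.homogeneousSubmodule L K m
  let g : H →ₗ[K] (MvPolynomial L K ⧸ srIdeal K L) :=
    (Ideal.Quotient.mkₐ K (srIdeal K L)).toLinearMap ∘ₗ H.subtype
  let ψ : H →ₗ[K] (chainMonos L m → K) := coeffMap K L m ∘ₗ H.subtype
  have hrange : H.map (Ideal.Quotient.mkₐ K (srIdeal K L)).toLinearMap = LinearMap.range g := by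
    rw [LinearMap.range_comp, Submodule.range_subtype]
  have hker : LinearMap.ker g = LinearMap.ker ψ := by
    ext f
    rw [LinearMap.mem_ker, LinearMap.mem_ker]
    change Ideal.Quotient.mk (srIdeal K L) f.1 = 0 ↔ coeffMap K L m f.1 = 0
    rw [Ideal.Quotient.eq_zero_iff_mem]
    exact mem_srIdeal_iff_coeffMap f.2
  have hsurj : Function.Surjective ψ := by
    intro c
    obtain ⟨f, hf, hfc⟩ := coeffMap_surjective_on_homogeneous (K := K) m c
    exact ⟨⟨f, hf⟩, hfc⟩
  have e1 : (H ⧸ LinearMap.ker g) ≃ₗ[K] LinearMap.range g := g.quotKerEquivRange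
  have e2 : (H ⧸ LinearMap.ker ψ) ≃ₗ[K] (chainMonos L m → K) := ψ.quotKerEquivOfSurjective hsurj
  have e3 : (H ⧸ LinearMap.ker g) ≃ₗ[K] (H ⧸ LinearMap.ker ψ) := Submodule.quotEquivOfEq _ _ hker
  rw [hrange, ← e1.finrank_eq, e3.finrank_eq, e2.finrank_eq, Module.finrank_fintype_fun_eq_card,
    Fintype.card_coe]

end Lin


section Count

variable {L : Type v} [Fintype L]

open Classical in
/-- The indicator exponent vector of a finite set. -/
noncomputable def ind (C : Finset L) : L →₀ ℕ :=
  Finsupp.equivFunOnFinite.symm (fun a => if a ∈ C then 1 else 0)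

open Classical in
lemma ind_apply (C : Finset L) (a : L) : ind C a = if a ∈ C then 1 else 0 := by
  simp [ind]

lemma degree_ind (C : Finset L) : (ind C).degree = C.card := by
  classical
  rw [Finsupp.degree_eq_sum]
  simp only [ind_apply]
  rw [Finset.sum_ite_mem, Finset.univ_inter, Finset.sum_const, smul_eq_mul, mul_one]

omit [Fintype L] in
open Classical in
lemma mem_antidiag_iff (s : Finset L) (n : ℕ) (f : L →₀ ℕ) :
    f ∈ s.finsuppAntidiag n ↔ f.degree = n ∧ f.support ⊆ s := by
  rw [Finset.mem_finsuppAntidiag']
  rfl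

lemma ind_le_of_support_eq {C : Finset L} {u : L →₀ ℕ} (hu : u.support = C) : ind C ≤ u := by
  classical
  intro a
  rw [ind_apply]
  split_ifs with h
  · rw [← hu, Finsupp.mem_support_iff] at h
    exact Nat.one_le_iff_ne_zero.mpr h
  · exact Nat.zero_le _

lemma support_add_ind {C : Finset L} {v : L →₀ ℕ} (hv : v.support ⊆ C) :
    (v + ind C).support = C := by
  classical
  ext a
  rw [Finsupp.mem_support_iff, Finsupp.coe_add, Pi.add_apply, ind_apply]
  split_ifs with h
  · simp [h]
  · have : v a = 0 := by
      by_contra hne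
      exact h (hv (Finsupp.mem_support_iff.mpr hne))
    simp [this, h]

open Classical in
lemma card_fiber (m : ℕ) (hm : 1 ≤ m) (C : Finset L) (hC : C.Nonempty) :
    ((Finset.univ.finsuppAntidiag m).filter (fun u : L →₀ ℕ => u.support = C)).card =
      Nat.choose (m - 1) (C.card - 1) := by
  have hc1 : 1 ≤ C.card := Finset.card_pos.mpr hC
  by_cases hcm : C.card ≤ m
  · have heq : (Finset.univ.finsuppAntidiag m).filter (fun u : L →₀ ℕ => u.support = C) =
        (C.finsuppAntidiag (m - C.card)).map ⟨fun v => v + ind C, add_left_injective _⟩ := by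
      ext u
      rw [Finset.mem_filter, Finset.mem_map, mem_antidiag_iff]
      constructor
      · rintro ⟨⟨hdeg, -⟩, hsupp⟩
        have hle := ind_le_of_support_eq hsupp
        refine ⟨u - ind C, ?_, ?_⟩
        · rw [mem_antidiag_iff]
          refine ⟨?_, ?_⟩
          · have h1 : (u - ind C + ind C).degree = m := by rw [tsub_add_cancel_of_le hle, hdeg]
            rw [map_add, degree_ind] at h1
            omega
          · exact Finsupp.support_tsub.trans hsupp.le
        · exact tsub_add_cancel_of_le hle
      · rintro ⟨v, hv, rfl⟩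
        rw [mem_antidiag_iff] at hv
        refine ⟨⟨?_, Finset.subset_univ (v + ind C).support⟩, support_add_ind hv.2⟩
        change (v + ind C).degree = m
        rw [map_add, degree_ind, hv.1]
        omega
    rw [heq, Finset.card_map, Finset.card_finsuppAntidiag_nat_eq_choose]
    have h2 : C.card + (m - C.card) - 1 = m - 1 := by omega
    rw [h2]
    apply Nat.choose_symm_of_eq_add
    omega
  · have hempty : (Finset.univ.finsuppAntidiag m).filter (fun u : L →₀ ℕ => u.support = C) = ∅ := by
      rw [Finset.filter_eq_empty_iff]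
      intro u hu hsupp
      rw [mem_antidiag_iff] at hu
      have hle := ind_le_of_support_eq hsupp
      have h1 : (u - ind C + ind C).degree = m := by rw [tsub_add_cancel_of_le hle, hu.1]
      rw [map_add, degree_ind] at h1
      omega
    rw [hempty, Finset.card_empty, Nat.choose_eq_zero_of_lt]
    omega

end Count

section Total

variable {L : Type v} [PartialOrder L] [Fintype L]

lemma card_chainMonos (m : ℕ) (hm : 1 ≤ m) :
    (chainMonos L m).card =
      ∑ᶠ C : {C : Finset L // C.Nonempty ∧ IsChain (fun a b : L => a ≤ b) (↑C : Set L)},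
        Nat.choose (m - 1) (C.1.card - 1) := by
  classical
  rw [finsum_eq_sum_of_fintype]
  let t : Finset (Finset L) := Finset.univ.filter
    (fun C : Finset L => C.Nonempty ∧ IsChain (fun a b : L => a ≤ b) (↑C : Set L))
  have hmaps : ((chainMonos L m : Finset (L →₀ ℕ)) : Set (L →₀ ℕ)).MapsTo
      (fun u => u.support) (t : Set (Finset L)) := by
    intro u hu
    have hu' := (mem_chainMonos m u).mp hu
    simp only [t, Finset.coe_filter, Finset.mem_univ, true_and, Set.mem_ofPred_eq]
    refine ⟨?_, hu'.2⟩
    rw [Finsupp.support_nonempty_iff]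
    rintro rfl
    rw [map_zero] at hu'
    omega
  rw [Finset.card_eq_sum_card_fiberwise hmaps]
  rw [← Finset.sum_subtype t (fun C => by simp [t])
    (fun C => Nat.choose (m - 1) (C.card - 1))]
  apply Finset.sum_congr rfl
  intro C hC
  simp only [t, Finset.mem_filter, Finset.mem_univ, true_and] at hC
  rw [← card_fiber m hm C hC.1]
  congr 1
  ext u
  simp only [Finset.mem_filter]
  constructor
  · rintro ⟨hu, hsupp⟩
    refine ⟨?_, hsupp⟩
    rw [mem_antidiag_iff]
    exact ⟨((mem_chainMonos m u).mp hu).1, Finset.subset_univ u.support⟩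
  · rintro ⟨hu, hsupp⟩
    refine ⟨?_, hsupp⟩
    rw [mem_chainMonos]
    rw [mem_antidiag_iff] at hu
    refine ⟨hu.1, ?_⟩
    unfold IsCh
    rw [hsupp]
    exact hC.2

end Total

/-- Hilbert function of the Stanley–Reisner ring of a finite distributive lattice: let K be a field, L a
finite distributive lattice, R = K[x_α : α ∈ L], I ⊆ R the ideal generated by the products x_α x_β
over the incomparable (skew) pairs α, β, and m ≥ 1. Then the image in R/I of the homogeneous
polynomials of degree m has K-dimension equal to the sum, over the nonempty chains C ⊆ L, of the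
binomial coefficient (m - 1 choose |C| - 1). (The published statement is that the degree of R/I
equals the number of maximal chains of L; this row states the Hilbert function from which that
degree is read off.) -/
theorem result (K : Type u) [Field K] (L : Type v) [DistribLattice L]
    [Fintype L] (m : ℕ) (hm : 1 ≤ m) :
    Module.finrank K ((MvPolynomial.homogeneousSubmodule L K m).map
        (Ideal.Quotient.mkₐ K (Ideal.span {f : MvPolynomial L K | ∃ a b : L, ¬ a ≤ b ∧ ¬ b ≤ a ∧
          f = MvPolynomial.X a * MvPolynomial.X b})).toLinearMap) =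
      ∑ᶠ C : {C : Finset L // C.Nonempty ∧ IsChain (fun a b : L => a ≤ b) (↑C : Set L)},
        Nat.choose (m - 1) (C.1.card - 1) := by
  rw [← card_chainMonos m hm]
  exact finrank_eq_card m

end Groth.Agent.S11262
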