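import Groth.Statements.S11271
import Groth.Agent.S11249
import Mathlib.LinearAlgebra.Matrix.SchurComplement
import Mathlib.FieldTheory.IsAlgClosed.Basic
-- import your own Groth.Agent.* helpers here

set_option autoImplicit false
universe u
open W4bk4grassmannian

namespace Groth.Agent.S11271

open W4bk4grassmannian in
/-- Semistable matrices are the matrices of full rank: let K be an algebraically closed field, 0 < d <
n, and let SL_d(K) act on n × d matrices by right multiplication; a matrix A is semistable when the
zero matrix is not in the Zariski closure of its orbit, i.e. when some polynomial in the entries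
vanishes at A g for every g ∈ SL_d(K) but not at 0. Then A is semistable if and only if its columns
are linearly independent. -/
theorem result (K : Type u) [Field K]
    [IsAlgClosed K] (d n : ℕ) (hd : 0 < d) (hdn : d < n) (A : Matrix (Fin n) (Fin d) K) :
    LinearIndependent K A.transpose ↔
      ∃ f : MatRing K d n, (∀ g : Matrix.SpecialLinearGroup (Fin d) K,
        MvPolynomial.eval (fun p : Fin n × Fin d => (A * (g : Matrix (Fin d) (Fin d) K)) p.1 p.2) f = 0) ∧
        MvPolynomial.eval (fun _ : Fin n × Fin d => (0 : K)) f ≠ 0 := by
  classical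
  constructor
  · intro hA
    obtain ⟨θ, hθ⟩ := Groth.Agent.S11249.exists_minor_ne_zero A hA
    set δ := (A.submatrix θ.1 id).det with hδ
    refine ⟨minor K d n θ.1 - MvPolynomial.C δ, ?_, ?_⟩
    · intro g
      rw [map_sub, MvPolynomial.eval_C, minor, RingHom.map_det]
      have : (MvPolynomial.eval fun p : Fin n × Fin d =>
          (A * (g : Matrix (Fin d) (Fin d) K)) p.1 p.2).mapMatrix
          (Matrix.of fun s t : Fin d => (MvPolynomial.X (θ.1 s, t) : MatRing K d n)) =
          A.submatrix θ.1 id * (g : Matrix (Fin d) (Fin d) K) := by
        refine Matrix.ext fun s t => ?_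
        simp [Matrix.mul_apply]
      rw [this, Matrix.det_mul, g.2, mul_one, sub_self]
    · rw [map_sub, MvPolynomial.eval_C, minor, RingHom.map_det]
      have hz : (MvPolynomial.eval fun _ : Fin n × Fin d => (0 : K)).mapMatrix
          (Matrix.of fun s t : Fin d => (MvPolynomial.X (θ.1 s, t) : MatRing K d n)) = 0 := by
        refine Matrix.ext fun s t => ?_
        simp
      have hne : Nonempty (Fin d) := Fin.pos_iff_nonempty.mp hd
      rw [hz, Matrix.det_zero, zero_sub]
      exact neg_ne_zero.mpr hθ
  · rintro ⟨f, hf, hf0⟩
    by_contra hA
    have hA' : ∃ v : Fin d → K, (∑ i, v i • A.transpose i = 0) ∧ ∃ j, v j ≠ 0 := by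
      by_contra hcon
      apply hA
      rw [Fintype.linearIndependent_iff]
      intro g hg i
      by_contra hi
      exact hcon ⟨g, hg, i, hi⟩
    obtain ⟨v, hv, j₀, hj₀⟩ := hA'
    have hAv : Matrix.mulVec A v = 0 := by
      funext i
      have := congrFun hv i
      simp only [Finset.sum_apply, Pi.smul_apply, Matrix.transpose_apply, smul_eq_mul,
        Pi.zero_apply] at this
      rw [Matrix.mulVec, dotProduct, Pi.zero_apply, ← this]
      exact Finset.sum_congr rfl fun k _ => mul_comm _ _
    set w : Fin d → K := Pi.single j₀ (v j₀)⁻¹ with hw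
    have hwv : dotProduct w v = 1 := by
      rw [hw, single_dotProduct, inv_mul_cancel₀ hj₀]
    -- the one-parameter family
    have hfam : ∀ t : K, t ≠ 0 →
        MvPolynomial.eval (fun p : Fin n × Fin d => t * A p.1 p.2) f = 0 := by
      intro t ht
      set s : K := (t ^ (d - 1))⁻¹ with hs
      set G : Matrix (Fin d) (Fin d) K := t • (1 : Matrix (Fin d) (Fin d) K) +
        (s - t) • Matrix.vecMulVec v w with hG
      have hGdet : G.det = 1 := by
        have h1 : G = t • ((1 : Matrix (Fin d) (Fin d) K) +
            Matrix.replicateCol Unit (((s - t) / t) • v) * Matrix.replicateRow Unit w) := by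
          rw [hG, ← Matrix.vecMulVec_eq, Matrix.smul_vecMulVec, smul_add, smul_smul,
            mul_div_cancel₀ _ ht]
        rw [h1, Matrix.det_smul, Matrix.det_one_add_replicateCol_mul_replicateRow,
          dotProduct_smul, hwv, Fintype.card_fin, smul_eq_mul, mul_one]
        have hd' : d = (d - 1) + 1 := by omega
        have htd : t ^ d = t ^ (d - 1) * t := by
          conv_lhs => rw [hd']
          rw [pow_succ]
        have htd1 : t ^ (d - 1) ≠ 0 := pow_ne_zero _ ht
        rw [htd, hs]
        field_simp
        ring
      have hAG : A * G = t • A := by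
        rw [hG, Matrix.mul_add, Matrix.mul_smul, Matrix.mul_one, Matrix.mul_smul,
          Matrix.mul_vecMulVec, hAv, Matrix.zero_vecMulVec, smul_zero, add_zero]
      have := hf ⟨G, hGdet⟩
      have hco : ((⟨G, hGdet⟩ : Matrix.SpecialLinearGroup (Fin d) K) :
          Matrix (Fin d) (Fin d) K) = G := rfl
      rw [hco, hAG] at this
      exact this
    -- a one-variable polynomial
    set P : Polynomial K := MvPolynomial.aeval
      (fun p : Fin n × Fin d => Polynomial.C (A p.1 p.2) * Polynomial.X) f with hP
    have hPeval : ∀ t : K, Polynomial.eval t P =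
        MvPolynomial.eval (fun p : Fin n × Fin d => t * A p.1 p.2) f := by
      intro t
      have h1 : Polynomial.eval t P = Polynomial.aeval t P := rfl
      rw [h1, hP, MvPolynomial.comp_aeval_apply]
      have : (fun i : Fin n × Fin d =>
          (Polynomial.aeval t) (Polynomial.C (A i.1 i.2) * Polynomial.X)) =
          fun p : Fin n × Fin d => t * A p.1 p.2 := by
        funext p
        rw [map_mul, Polynomial.aeval_C, Polynomial.aeval_X, Algebra.algebraMap_self_apply,
          _root_.mul_comm]
      rw [this]
      rfl
    have hP0 : P = 0 := by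
      apply Polynomial.eq_zero_of_infinite_isRoot
      have hinf : ({t : K | t ≠ 0}).Infinite := by
        have : ({t : K | t ≠ 0}) = Set.univ \ {0} := by
          ext t; simp
        rw [this]
        exact Set.Infinite.sdiff Set.infinite_univ (Set.finite_singleton 0)
      apply hinf.mono
      intro t ht
      change Polynomial.IsRoot P t
      rw [Polynomial.IsRoot, hPeval, hfam t ht]
    apply hf0
    have h0 := hPeval 0
    rw [hP0, Polynomial.eval_zero] at h0
    have hfun : (fun p : Fin n × Fin d => (0 : K) * A p.1 p.2) = fun _ => (0 : K) := by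
      funext p
      rw [zero_mul]
    rw [hfun] at h0
    exact h0.symm


end Groth.Agent.S11271
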