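import Groth.Statements.S11275
import Groth.Agent.S11249
import Mathlib.LinearAlgebra.Matrix.Determinant.Basic
import Mathlib.LinearAlgebra.Matrix.Block
-- import your own Groth.Agent.* helpers here

set_option autoImplicit false
universe u
open W4bk4grassmannian

namespace Groth.Agent.S11275

section General

variable {R : Type u} [CommRing R]

/-- If a square matrix has `t` distinct rows all of whose `t × t` minors lie in an ideal, then its
determinant lies in that ideal (Laplace expansion along the other rows). -/
theorem det_mem_of_rows (J : Ideal R) (t : ℕ) :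
    ∀ (n : ℕ) (M : Matrix (Fin n) (Fin n) R) (k : Fin t → Fin n), Function.Injective k →
      (∀ g : Fin t → Fin n, (M.submatrix k g).det ∈ J) → M.det ∈ J
  | 0, M, k, _, hJ => by
      have ht0 : t = 0 := by
        by_contra h
        obtain ⟨t', rfl⟩ := Nat.exists_eq_succ_of_ne_zero h
        exact (k 0).elim0
      subst ht0
      have h1 := hJ Fin.elim0
      rw [Matrix.det_isEmpty] at h1 ⊢
      exact h1
  | n + 1, M, k, hk, hJ => by
      by_cases hsurj : Function.Surjective k
      · have hcard : t = n + 1 := by
          have := Fintype.card_of_bijective (⟨hk, hsurj⟩ : Function.Bijective k)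
          simpa using this
        subst hcard
        let σ : Equiv.Perm (Fin (n + 1)) := Equiv.ofBijective k ⟨hk, hsurj⟩
        have h1 := hJ id
        have h2 : (M.submatrix k id).det = (Equiv.Perm.sign σ : ℤ) * M.det :=
          Matrix.det_permute σ M
        rw [h2] at h1
        have h3 : M.det = (Equiv.Perm.sign σ : ℤ) * ((Equiv.Perm.sign σ : ℤ) * M.det) := by
          rw [← mul_assoc, ← Int.cast_mul, ← Units.val_mul, Int.units_mul_self]
          simp
        rw [h3]
        exact Ideal.mul_mem_left _ _ h1
      · have hex : ∃ i, ∀ l, k l ≠ i := by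
          by_contra hcon
          push Not at hcon
          exact hsurj (fun i => hcon i)
        obtain ⟨i, hi⟩ := hex
        rw [Matrix.det_succ_row M i]
        apply Ideal.sum_mem
        intro j _
        apply Ideal.mul_mem_left
        choose k' hk' using fun l => Fin.exists_succAbove_eq (hi l)
        apply det_mem_of_rows J t n _ k'
        · intro l l' hll
          apply hk
          rw [← hk' l, ← hk' l', hll]
        · intro g
          have h4 : (M.submatrix i.succAbove j.succAbove).submatrix k' g =
              M.submatrix k (j.succAbove ∘ g) := by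
            ext a b
            simp only [Matrix.submatrix_apply, Function.comp_apply, hk']
          rw [h4]
          exact hJ _

end General


section Cell

open W4bk4grassmannian

variable (K : Type u) [CommRing K] (d r : ℕ)

lemma cellMatrix_of_lt (i : Fin (d + r)) (j : Fin d) (h : i.val < d) :
    cellMatrix K d r i j = if i.val = j.val then 1 else 0 := by
  simp only [cellMatrix, Matrix.of_apply, dif_pos h]

lemma cellMatrix_of_ge (i : Fin (d + r)) (j : Fin d) (h : ¬ i.val < d) :
    cellMatrix K d r i j =
      MvPolynomial.X (⟨i.val - d, by have := i.isLt; omega⟩, j) := by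
  simp only [cellMatrix, Matrix.of_apply, dif_neg h]

/-- `(⊆)`: a cell minor with at least `t` rows in the `Z` block lies in the ideal of `t`-minors. -/
lemma cellMinor_mem (t : ℕ) (hd : 0 < d) (ht : 0 < t) (htd : t ≤ d) (θ : Idx d (d + r))
    (hθ : d ≤ (θ.1 ⟨d - t, Nat.sub_lt hd ht⟩).val) :
    cellMinor K d r θ ∈ CAlgX.minorIdeal (genMatrix K r d) t := by
  unfold cellMinor
  let k : Fin t → Fin d := fun l => ⟨d - t + l.val, by have := l.isLt; omega⟩
  have hkinj : Function.Injective k := by
    intro l l' h
    have := congrArg Fin.val h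
    simp only [k] at this
    exact Fin.ext (by omega)
  have hge : ∀ l : Fin t, d ≤ (θ.1 (k l)).val := by
    intro l
    have hle : (⟨d - t, Nat.sub_lt hd ht⟩ : Fin d) ≤ k l := by
      rw [Fin.le_def]
      simp only [k]
      omega
    have := θ.2.monotone hle
    exact hθ.trans (Fin.le_def.mp this)
  apply det_mem_of_rows _ t d _ k hkinj
  intro g
  let f : Fin t → Fin r := fun l => ⟨(θ.1 (k l)).val - d, by
    have := (θ.1 (k l)).isLt
    have := hge l
    omega⟩
  have h1 : ((cellMatrix K d r).submatrix θ.1 id).submatrix k g =
      (genMatrix K r d).submatrix f g := by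
    ext a b
    simp only [Matrix.submatrix_apply, id_eq]
    rw [cellMatrix_of_ge K d r _ _ (by have := hge a; omega)]
    rfl
  rw [h1]
  exact Ideal.subset_span ⟨(f, g), rfl⟩

/-- `(⊇)`: every `t × t` minor of `Z` is, up to sign, a cell minor with `t` rows in the `Z` block. -/
lemma minor_mem (t : ℕ) (hd : 0 < d) (ht : 0 < t) (htd : t ≤ d) (f : Fin t → Fin r)
    (g : Fin t → Fin d) :
    ((genMatrix K r d).submatrix f g).det ∈ Ideal.span {p : CellRing K d r | ∃ θ : Idx d (d + r),
        d ≤ (θ.1 ⟨d - t, Nat.sub_lt hd ht⟩).val ∧ p = cellMinor K d r θ} := by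
  classical
  by_cases hf : Function.Injective f
  swap
  · rw [Function.Injective] at hf
    push Not at hf
    obtain ⟨l, l', hll, hne⟩ := hf
    rw [Matrix.det_zero_of_row_eq hne (by funext b; simp [Matrix.submatrix_apply, hll])]
    exact Ideal.zero_mem _
  by_cases hg : Function.Injective g
  swap
  · rw [Function.Injective] at hg
    push Not at hg
    obtain ⟨l, l', hll, hne⟩ := hg
    rw [Matrix.det_zero_of_column_eq hne (by intro b; simp [Matrix.submatrix_apply, hll])]
    exact Ideal.zero_mem _
  let s : Finset (Fin d) := (Finset.univ.image g)ᶜ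
  have hs : s.card = d - t := by
    rw [Finset.card_compl, Finset.card_image_of_injective _ hg, Finset.card_univ, Fintype.card_fin,
      Fintype.card_fin]
  let c := s.orderEmbOfFin hs
  have hcg : ∀ a b, c a ≠ g b := by
    intro a b h
    have h1 : c a ∈ s := Finset.orderEmbOfFin_mem s hs a
    rw [h] at h1
    exact (Finset.mem_compl.mp h1) (Finset.mem_image_of_mem g (Finset.mem_univ b))
  have hinj : Function.Injective (Sum.elim c g) :=
    Function.Injective.sumElim c.injective hg hcg
  have hbij : Function.Bijective (Sum.elim c g) := by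
    rw [Fintype.bijective_iff_injective_and_card]
    refine ⟨hinj, ?_⟩
    simp only [Fintype.card_sum, Fintype.card_fin]
    omega
  let e : Fin (d - t) ⊕ Fin t ≃ Fin d := Equiv.ofBijective _ hbij
  let ρ' : Fin (d - t) ⊕ Fin t → Fin (d + r) :=
    Sum.elim (fun a => Fin.castAdd r (c a)) (fun l => Fin.natAdd d (f l))
  let M' := (cellMatrix K d r).submatrix ρ' e
  have hM' : M' = Matrix.fromBlocks 1 0 (fun l a => M' (Sum.inr l) (Sum.inl a))
      ((genMatrix K r d).submatrix f g) := by
    ext (a | l) (a' | l')
    · simp only [M', Matrix.submatrix_apply, Matrix.fromBlocks_apply₁₁, ρ', Sum.elim_inl, e,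
        Equiv.ofBijective_apply]
      rw [cellMatrix_of_lt K d r _ _ (by simp), Matrix.one_apply]
      simp only [Fin.val_castAdd, Fin.val_inj, c.injective.eq_iff]
    · simp only [M', Matrix.submatrix_apply, Matrix.fromBlocks_apply₁₂, ρ', Sum.elim_inl,
        Sum.elim_inr, e, Equiv.ofBijective_apply, Matrix.zero_apply]
      rw [cellMatrix_of_lt K d r _ _ (by simp), if_neg]
      intro h
      exact hcg a l' (Fin.ext h)
    · rfl
    · simp only [M', Matrix.submatrix_apply, Matrix.fromBlocks_apply₂₂, ρ', Sum.elim_inr, e,
        Equiv.ofBijective_apply]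
      rw [cellMatrix_of_ge K d r _ _ (by simp)]
      simp [genMatrix]
  have hdet : M'.det = ((genMatrix K r d).submatrix f g).det := by
    rw [hM', Matrix.det_fromBlocks_zero₁₂, Matrix.det_one, one_mul]
  let ρ : Fin d → Fin (d + r) := ρ' ∘ e.symm
  have hρ : ((cellMatrix K d r).submatrix ρ id).det = M'.det := by
    have h0 : (M'.submatrix e.symm e.symm).det = M'.det :=
      Matrix.det_submatrix_equiv_self e.symm M'
    rw [← h0]
    congr 1
    ext a b
    simp [M', ρ]
  have hρ'inj : Function.Injective ρ' := by
    apply Function.Injective.sumElim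
    · intro a a' h
      exact c.injective (Fin.castAdd_injective _ _ h)
    · intro l l' h
      exact hf (Fin.natAdd_injective _ _ h)
    · intro a l h
      have := congrArg Fin.val h
      simp only [Fin.val_castAdd, Fin.val_natAdd] at this
      have := (c a).isLt
      omega
  have hρinj : Function.Injective ρ := hρ'inj.comp e.symm.injective
  obtain ⟨θ, σ, hθσ⟩ := Groth.Agent.S11249.exists_sort ρ hρinj
  have h5 : ((cellMatrix K d r).submatrix ρ id).det =
      (Equiv.Perm.sign σ : ℤ) * cellMinor K d r θ := by
    rw [hθσ]
    exact Matrix.det_permute σ ((cellMatrix K d r).submatrix θ.1 id)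
  rw [← hdet, ← hρ, h5]
  apply Ideal.mul_mem_left
  apply Ideal.subset_span
  refine ⟨θ, ?_, rfl⟩
  by_contra hlt
  push Not at hlt
  have hpos : ∀ l : Fin t, d - t < (σ (e (Sum.inr l))).val := by
    intro l
    by_contra hle
    push Not at hle
    have h1 : σ (e (Sum.inr l)) ≤ (⟨d - t, Nat.sub_lt hd ht⟩ : Fin d) := by
      rw [Fin.le_def]
      exact hle
    have h2 := θ.2.monotone h1
    have h3 : ρ (e (Sum.inr l)) = θ.1 (σ (e (Sum.inr l))) := by
      rw [hθσ]
      rfl
    have h4 : ρ (e (Sum.inr l)) = Fin.natAdd d (f l) := by
      simp [ρ, ρ']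
    have h6 : d ≤ (θ.1 (σ (e (Sum.inr l)))).val := by
      rw [← h3, h4, Fin.val_natAdd]
      omega
    have := Fin.le_def.mp h2
    omega
  let q : Fin t → Fin (t - 1) := fun l => ⟨(σ (e (Sum.inr l))).val - (d - t + 1), by
    have := hpos l
    have := (σ (e (Sum.inr l))).isLt
    omega⟩
  have hq : Function.Injective q := by
    intro l l' h
    have h1 := congrArg Fin.val h
    simp only [q] at h1
    have h2 := hpos l
    have h3 := hpos l'
    have h4 : σ (e (Sum.inr l)) = σ (e (Sum.inr l')) := Fin.ext (by omega)
    exact Sum.inr_injective (e.injective (σ.injective h4))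
  have := Fintype.card_le_of_injective q hq
  simp only [Fintype.card_fin] at this
  omega

end Cell

open W4bk4grassmannian in
/-- Ideal-theoretic form; determinantal ideals as ideals of opposite cells of Schubert varieties: let K
be a commutative ring, d, r ≥ 1, 1 ≤ t ≤ min(d, r), Z the generic r × d matrix over K[z_{ij}] and
[I_d ; Z] the (d + r) × d matrix with the identity block on top. For θ ∈ I(d, d + r) let q_θ be the
d × d minor of [I_d ; Z] on the rows θ (the Plücker coordinate p_θ on the opposite big cell). Then
the ideal generated by the q_θ with θ_{d-t} ≥ d (0-indexed; these are the θ not below the index φ =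
(t-1, …, d-1, d+r+1-t, …, d+r-1) of the Schubert variety whose opposite cell is D_t) equals the
ideal generated by the t × t minors of Z. (The published statement is over an algebraically closed
field and identifies the determinantal variety D_t with the opposite cell of the Schubert variety
X(φ); this row states the equality of ideals behind that identification, over any commutative ring
K.) -/
theorem result (K : Type u) [CommRing K] (d r t : ℕ) (hd : 0 < d)
    (ht : 0 < t) (htd : t ≤ d) (htr : t ≤ r) :
    Ideal.span {f : CellRing K d r | ∃ θ : Idx d (d + r),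
        d ≤ (θ.1 ⟨d - t, Nat.sub_lt hd ht⟩).val ∧ f = cellMinor K d r θ} =
      CAlgX.minorIdeal (genMatrix K r d) t := by
  apply le_antisymm
  · rw [Ideal.span_le]
    rintro p ⟨θ, hθ, rfl⟩
    exact cellMinor_mem K d r t hd ht htd θ hθ
  · unfold CAlgX.minorIdeal
    rw [Ideal.span_le]
    rintro p ⟨⟨f, g⟩, rfl⟩
    exact minor_mem K d r t hd ht htd f g

end Groth.Agent.S11275
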