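import Groth.Statements.S11277
import Mathlib.Tactic.Linarith
-- import your own Groth.Agent.* helpers here

set_option autoImplicit false
universe u v
open W4bk4grassmannian

namespace Groth.Agent.S11277

/-- Let K be a field, R = ⊕_{i ≥ 0} R_i an ℕ-graded commutative K-algebra which is an integral domain,
and s ∈ R_e a homogeneous element of degree e > 0. Let R_(s) ⊆ R[1/s] be the homogeneous
localization (fractions f / s^k with f homogeneous of degree k e). Then the image of s in R[1/s] is
transcendental over R_(s). -/
theorem result (K : Type u) [Field K] (R : Type v) [CommRing R]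
    [IsDomain R] [Algebra K R] (𝒜 : ℕ → Submodule K R) [GradedAlgebra 𝒜] (e : ℕ) (he : 0 < e) (s : R)
    (hs : s ∈ 𝒜 e) :
    Transcendental (HomogeneousLocalization.Away 𝒜 s) (algebraMap R (Localization.Away s) s) := by
  classical
  rintro ⟨p, hp0, hp⟩
  have hrep : ∀ z : HomogeneousLocalization.Away 𝒜 s, ∃ n a, ∃ ha : a ∈ 𝒜 (n • e),
      HomogeneousLocalization.Away.mk 𝒜 hs n a ha = z :=
    fun z => HomogeneousLocalization.Away.mk_surjective 𝒜 hs z
  choose nn aa haa hmk using hrep
  have hne : ∃ i, p.coeff i ≠ 0 := by
    by_contra h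
    apply hp0
    ext i
    by_contra hi
    exact h ⟨i, fun h0 => hi (by rw [h0, Polynomial.coeff_zero])⟩
  have hs0 : s ≠ 0 := by
    rintro rfl
    obtain ⟨i, hi⟩ := hne
    apply hi
    have : Subsingleton (Localization.Away (0 : R)) :=
      IsLocalization.subsingleton (M := Submonoid.powers (0 : R)) ⟨1, pow_one 0⟩
    exact HomogeneousLocalization.val_injective _ (Subsingleton.elim _ _)
  have hinj : Function.Injective (algebraMap R (Localization.Away s)) :=
    IsLocalization.injective _ (powers_le_nonZeroDivisors_of_noZeroDivisors hs0)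
  set N := p.support.sup (fun i => nn (p.coeff i)) with hN
  have hle : ∀ i ∈ p.support, nn (p.coeff i) ≤ N := fun i hi =>
    Finset.le_sup (f := fun i => nn (p.coeff i)) hi
  have hval : ∀ z : HomogeneousLocalization.Away 𝒜 s,
      z.val * (algebraMap R (Localization.Away s) s) ^ (nn z) =
      algebraMap R (Localization.Away s) (aa z) := by
    intro z
    have h := congrArg HomogeneousLocalization.val (hmk z)
    rw [HomogeneousLocalization.Away.val_mk] at h
    rw [← h, ← map_pow, Localization.mk_eq_mk']
    exact IsLocalization.mk'_spec _ _ _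
  have hsum : ∑ i ∈ p.support, aa (p.coeff i) * s ^ (N - nn (p.coeff i) + i) = 0 := by
    apply hinj
    rw [map_zero, map_sum]
    have h1 : (Polynomial.aeval (algebraMap R (Localization.Away s) s)) p *
        (algebraMap R (Localization.Away s) s) ^ N = 0 := by rw [hp, zero_mul]
    rw [Polynomial.aeval_def, Polynomial.eval₂_eq_sum, Polynomial.sum, Finset.sum_mul] at h1
    rw [← h1]
    apply Finset.sum_congr rfl
    intro i hi
    rw [map_mul, map_pow, ← hval, HomogeneousLocalization.algebraMap_apply]
    have hNi : nn (p.coeff i) + (N - nn (p.coeff i) + i) = i + N := by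
      have := hle i hi
      omega
    rw [mul_assoc, ← pow_add, hNi, mul_assoc, ← pow_add]
  have hmem : ∀ i ∈ p.support, aa (p.coeff i) * s ^ (N - nn (p.coeff i) + i) ∈ 𝒜 ((N + i) • e) := by
    intro i hi
    have h1 : s ^ (N - nn (p.coeff i) + i) ∈ 𝒜 ((N - nn (p.coeff i) + i) • e) :=
      SetLike.pow_mem_graded _ hs
    have h2 := SetLike.mul_mem_graded (haa (p.coeff i)) h1
    have hNi : nn (p.coeff i) • e + (N - nn (p.coeff i) + i) • e = (N + i) • e := by
      have := hle i hi
      simp only [smul_eq_mul]
      rw [← add_mul]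
      congr 1
      omega
    rwa [hNi] at h2
  obtain ⟨i₀, hi₀⟩ := hne
  have hi₀s : i₀ ∈ p.support := Polynomial.mem_support_iff.mpr hi₀
  have hproj := congrArg (fun r => (DirectSum.decompose 𝒜 r ((N + i₀) • e) : R)) hsum
  simp only [DirectSum.decompose_sum, DirectSum.decompose_zero] at hproj
  rw [DFinsupp.finsetSum_apply, AddSubmonoidClass.coe_finsetSum] at hproj
  rw [Finset.sum_eq_single i₀] at hproj
  · rw [DirectSum.decompose_of_mem_same 𝒜 (hmem i₀ hi₀s)] at hproj
    simp only [DirectSum.zero_apply, ZeroMemClass.coe_zero] at hproj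
    have ha0 : aa (p.coeff i₀) = 0 := by
      rcases mul_eq_zero.mp hproj with h | h
      · exact h
      · exact absurd h (pow_ne_zero _ hs0)
    apply hi₀
    apply HomogeneousLocalization.val_injective
    rw [← hmk (p.coeff i₀), HomogeneousLocalization.Away.val_mk, ha0]
    simp [Localization.mk_zero]
  · intro i hi hne'
    rw [DirectSum.decompose_of_mem_ne 𝒜 (hmem i hi)]
    intro h
    apply hne'
    simp only [smul_eq_mul] at h
    have := Nat.eq_of_mul_eq_mul_right he h
    omega
  · intro h
    exact absurd hi₀s h

end Groth.Agent.S11277
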