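import Groth.Statements.S11278
import Mathlib.RingTheory.Ideal.UFD
import Mathlib.RingTheory.Polynomial.UniqueFactorization
import Mathlib.RingTheory.Localization.Away.Basic
-- import your own Groth.Agent.* helpers here

set_option autoImplicit false
universe u v
open W4bk4grassmannian

namespace Groth.Agent.S11278

open Polynomial HomogeneousLocalization

section Graded

lemma eq_zero_of_sum_eq_zero_of_mem {ι κ M σ : Type*} [DecidableEq ι] [AddCommMonoid M]
    [SetLike σ M] [AddSubmonoidClass σ M] (ℳ : ι → σ) [DirectSum.Decomposition ℳ]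
    (S : Finset κ) (f : κ → ι) (hf : Set.InjOn f S) (t : κ → M) (ht : ∀ i ∈ S, t i ∈ ℳ (f i))
    (h0 : ∑ i ∈ S, t i = 0) : ∀ j ∈ S, t j = 0 := by
  classical
  intro j hj
  have h1 := congrArg (fun x => ((DirectSum.decompose ℳ x) (f j) : M)) h0
  simp only [DirectSum.decompose_sum, DirectSum.decompose_zero, DirectSum.zero_apply,
    ZeroMemClass.coe_zero] at h1
  rw [DFinsupp.finsetSum_apply, AddSubmonoidClass.coe_finsetSum] at h1
  rw [Finset.sum_eq_single_of_mem j hj] at h1
  · rwa [DirectSum.decompose_of_mem_same ℳ (ht j hj)] at h1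
  · intro i hi hij
    exact DirectSum.decompose_of_mem_ne ℳ (ht i hi) (fun h => hij (hf hi hj h))

end Graded

section Main

variable {K : Type u} [Field K] {R : Type v} [CommRing R] [IsDomain R] [Algebra K R]
  (𝒜 : ℕ → Submodule K R) [GradedAlgebra 𝒜] {s : R} (hs : s ∈ 𝒜 1)

/-- `R_(s)[T] → R_s`, `T ↦ s` -/
noncomputable def phi (s : R) : Polynomial (HomogeneousLocalization.Away 𝒜 s) →+* Localization.Away s :=
  Polynomial.eval₂RingHom (algebraMap (HomogeneousLocalization.Away 𝒜 s) (Localization.Away s))
    (algebraMap R (Localization.Away s) s)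

lemma phi_apply (p : Polynomial (HomogeneousLocalization.Away 𝒜 s)) :
    phi 𝒜 s p = ∑ i ∈ p.support, (p.coeff i).val * (algebraMap R (Localization.Away s) s) ^ i := by
  rw [phi, Polynomial.coe_eval₂RingHom, Polynomial.eval₂_eq_sum, Polynomial.sum_def]
  rfl

lemma mem_one_smul {i : ℕ} {a : R} (ha : a ∈ 𝒜 i) : a ∈ 𝒜 (i • 1) := by
  rwa [smul_eq_mul, mul_one]

include hs in
lemma val_mk_mul_pow {i : ℕ} {a : R} (ha : a ∈ 𝒜 (i • 1)) :
    (Away.mk 𝒜 hs i a ha).val * (algebraMap R (Localization.Away s) s) ^ i
      = algebraMap R (Localization.Away s) a := by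
  rw [Away.val_mk, Localization.mk_eq_mk', ← map_pow]
  exact IsLocalization.mk'_spec (M := Submonoid.powers s) _ a ⟨s ^ i, ⟨i, rfl⟩⟩

include hs in
lemma phi_C_mul_X_pow {i : ℕ} {a : R} (ha : a ∈ 𝒜 (i • 1)) :
    phi 𝒜 s (C (Away.mk 𝒜 hs i a ha) * X ^ i) = algebraMap R (Localization.Away s) a := by
  rw [phi, Polynomial.coe_eval₂RingHom, Polynomial.eval₂_mul, Polynomial.eval₂_C,
    Polynomial.eval₂_pow, Polynomial.eval₂_X, HomogeneousLocalization.algebraMap_apply]
  exact val_mk_mul_pow 𝒜 hs ha

include hs in
lemma exists_phi_eq (z : Localization.Away s) :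
    ∃ (p : Polynomial (HomogeneousLocalization.Away 𝒜 s)) (m : ℕ),
      z * phi 𝒜 s (X ^ m) = phi 𝒜 s p := by
  classical
  obtain ⟨⟨a, b⟩, rfl⟩ := IsLocalization.mk'_surjective (Submonoid.powers s) z
  obtain ⟨b, m, rfl⟩ := b
  refine ⟨∑ i ∈ (DirectSum.decompose 𝒜 a).support,
    C (Away.mk 𝒜 hs i ((DirectSum.decompose 𝒜 a i : R))
      (mem_one_smul 𝒜 (SetLike.coe_mem _))) * X ^ i, m, ?_⟩
  rw [map_sum]
  simp only [phi_C_mul_X_pow 𝒜 hs]
  rw [← map_sum, DirectSum.sum_support_decompose]
  have : phi 𝒜 s (X ^ m) = algebraMap R (Localization.Away s) (s ^ m) := by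
    rw [phi, Polynomial.coe_eval₂RingHom, Polynomial.eval₂_pow, Polynomial.eval₂_X, map_pow]
  rw [this]
  exact IsLocalization.mk'_spec (M := Submonoid.powers s) _ a ⟨s ^ m, ⟨m, rfl⟩⟩

include hs in
lemma phi_injective (hs0 : s ≠ 0) : Function.Injective (phi 𝒜 s) := by
  classical
  rw [injective_iff_map_eq_zero]
  intro p hp
  choose n a ha hc using fun i => Away.mk_surjective 𝒜 hs (p.coeff i)
  set N := p.support.sup n with hN
  have hnN : ∀ i ∈ p.support, n i ≤ N := fun i hi => Finset.le_sup hi
  have hinj : Function.Injective (algebraMap R (Localization.Away s)) :=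
    IsLocalization.injective (Localization.Away s)
      (powers_le_nonZeroDivisors_of_noZeroDivisors hs0)
  have key : ∑ i ∈ p.support, a i * s ^ (N - n i + i) = 0 := by
    apply hinj
    rw [map_sum, map_zero]
    have h1 : ∀ i ∈ p.support, algebraMap R (Localization.Away s) (a i * s ^ (N - n i + i))
        = (algebraMap R (Localization.Away s) s) ^ N
          * ((p.coeff i).val * (algebraMap R (Localization.Away s) s) ^ i) := by
      intro i hi
      have h2 := val_mk_mul_pow 𝒜 hs (ha i)
      rw [hc i] at h2
      have h3 : (algebraMap R (Localization.Away s) s) ^ N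
          = (algebraMap R (Localization.Away s) s) ^ (n i)
            * (algebraMap R (Localization.Away s) s) ^ (N - n i) := by
        rw [← pow_add, Nat.add_sub_cancel' (hnN i hi)]
      rw [map_mul, map_pow, pow_add, ← h2, h3]
      ring
    rw [Finset.sum_congr rfl h1, ← Finset.mul_sum, ← phi_apply, hp, mul_zero]
  have hmem : ∀ i ∈ p.support, a i * s ^ (N - n i + i) ∈ 𝒜 (N + i) := by
    intro i hi
    have h1 : a i ∈ 𝒜 (n i) := by
      have := ha i
      rwa [smul_eq_mul, mul_one] at this
    have h2 : s ^ (N - n i + i) ∈ 𝒜 ((N - n i + i) • 1) := SetLike.pow_mem_graded _ hs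
    rw [smul_eq_mul, mul_one] at h2
    have h3 := SetLike.mul_mem_graded h1 h2
    have h4 : n i + (N - n i + i) = N + i := by
      have := hnN i hi
      omega
    rwa [h4] at h3
  have hzero := eq_zero_of_sum_eq_zero_of_mem 𝒜 p.support (fun i => N + i)
    (fun i _ j _ h => Nat.add_left_cancel h) (fun i => a i * s ^ (N - n i + i)) hmem key
  apply Polynomial.ext
  intro j
  rw [Polynomial.coeff_zero]
  by_cases hj : j ∈ p.support
  · have h1 := hzero j hj
    have h2 : a j = 0 := by
      rcases mul_eq_zero.mp h1 with h | h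
      · exact h
      · exact absurd h (pow_ne_zero _ hs0)
    rw [← hc j]
    apply HomogeneousLocalization.val_injective
    rw [Away.val_mk, HomogeneousLocalization.val_zero, h2, Localization.mk_zero]
  · exact Polynomial.notMem_support_iff.mp hj

end Main

/-- Unique factorization lifts from the homogeneous localization at a prime element of degree one, in
the generality of the published argument: let K be a field, R = ⊕_{i ≥ 0} R_i a Noetherian ℕ-graded
commutative K-algebra which is an integral domain, and s ∈ R_1 a homogeneous element of degree one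
which is a prime element of R. If the homogeneous localization R_(s) (degree-zero part of R[1/s])
has unique factorization, then R is a unique factorization domain. (The published statement is the
case where R is the homogeneous coordinate ring of a Schubert variety, s the Plücker coordinate of
the least index, which is a prime element there, and R_(s) the coordinate ring of the opposite
cell.) -/
theorem result (K : Type u) [Field K] (R : Type v)
    [CommRing R] [IsDomain R] [IsNoetherianRing R] [Algebra K R] (𝒜 : ℕ → Submodule K R) [GradedAlgebra 𝒜]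
    (s : R) (hs : s ∈ 𝒜 1) (hp : Prime s)
    (h : UniqueFactorizationMonoid (HomogeneousLocalization.Away 𝒜 s)) :
    UniqueFactorizationMonoid R := by
  have hs0 : s ≠ 0 := hp.ne_zero
  rw [UniqueFactorizationMonoid.iff_localizationAway_of_prime hp]
  have hdomL : IsDomain (Localization.Away s) :=
    IsLocalization.isDomain_localization (powers_le_nonZeroDivisors_of_noZeroDivisors hs0)
  have hdom : IsDomain (HomogeneousLocalization.Away 𝒜 s) :=
    Function.Injective.isDomain
      (algebraMap (HomogeneousLocalization.Away 𝒜 s) (Localization.Away s))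
      (fun x y hxy => HomogeneousLocalization.val_injective _ hxy)
  let _ : Algebra (Polynomial (HomogeneousLocalization.Away 𝒜 s)) (Localization.Away s) :=
    (phi 𝒜 s).toAlgebra
  have hloc : IsLocalization
      (Submonoid.powers (Polynomial.X : Polynomial (HomogeneousLocalization.Away 𝒜 s)))
      (Localization.Away s) := by
    rw [isLocalization_iff]
    refine ⟨?_, ?_, ?_⟩
    · rintro ⟨_, m, rfl⟩
      show IsUnit (phi 𝒜 s (Polynomial.X ^ m))
      rw [phi, Polynomial.coe_eval₂RingHom, Polynomial.eval₂_pow, Polynomial.eval₂_X]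
      exact (IsLocalization.map_units (Localization.Away s)
        (⟨s, Submonoid.mem_powers s⟩ : Submonoid.powers s)).pow m
    · intro z
      obtain ⟨p, m, h⟩ := exists_phi_eq 𝒜 hs z
      exact ⟨(p, ⟨Polynomial.X ^ m, m, rfl⟩), h⟩
    · intro p q hpq
      exact ⟨1, by rw [phi_injective 𝒜 hs hs0 hpq]⟩
  exact UniqueFactorizationMonoid.of_isLocalization
    (Submonoid.powers (Polynomial.X : Polynomial (HomogeneousLocalization.Away 𝒜 s)))
    (Localization.Away s)

end Groth.Agent.S11278
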