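import Groth.Statements.S11280
import Groth.Agent.H23.AdicOfFlat

set_option autoImplicit false
universe u
open Deform

namespace Groth.Agent.S11280

open IsLocalRing

set_option linter.style.haveILetI false

theorem isNilpotent_ker_of_mul_eq_zero {T R : Type*} [CommRing T] [CommRing R] (ρ : T →+* R)
    (h : ∀ x y, ρ x = 0 → ρ y = 0 → x * y = 0) : IsNilpotent (RingHom.ker ρ) := by
  refine ⟨2, ?_⟩
  rw [Ideal.zero_eq_bot, eq_bot_iff, pow_two, Ideal.mul_le]
  intro x hx y hy
  rw [h x y hx hy]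
  exact zero_mem _

theorem exists_section_of_formallySmooth {k T R : Type u} [CommRing k] [CommRing T] [CommRing R]
    [Algebra k T] [Algebra k R] [Algebra.FormallySmooth k R] (ρ : T →ₐ[k] R)
    (hρ : Function.Surjective ρ) (h : ∀ x y, ρ x = 0 → ρ y = 0 → x * y = 0) :
    ∃ s : R →ₐ[k] T, ∀ y, ρ (s y) = y :=
  ⟨Algebra.FormallySmooth.liftOfSurjective (AlgHom.id k R) ρ hρ
      (isNilpotent_ker_of_mul_eq_zero _ h),
    fun y => Algebra.FormallySmooth.liftOfSurjective_apply (AlgHom.id k R) ρ hρ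
      (isNilpotent_ker_of_mul_eq_zero _ h) y⟩

/-- Lifting an `A`-algebra map `B → B/tB` to an endomorphism of `B`. -/
theorem lift_endo {k : Type u} [Field k] {A : Type u} [CommRing A] [Algebra k A] [IsLocalRing A]
    (hres : ∀ a : A, ∃ c : k, a - algebraMap k A c ∈ maximalIdeal A)
    (t : A) (ht : t ∈ maximalIdeal A) (htm : ∀ a ∈ maximalIdeal A, a * t = 0)
    {B : Type u} [CommRing B] [Algebra A B] [Module.Flat A B] [Algebra k B] [IsScalarTower k A B]
    (hsm : Algebra.FormallySmooth k (B ⧸ (maximalIdeal A).map (algebraMap A B)))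
    (ψ : B →ₐ[A] (B ⧸ Ideal.span {algebraMap A B t})) :
    ∃ τ : B →ₐ[A] B, ∀ b, Ideal.Quotient.mk (Ideal.span {algebraMap A B t}) (τ b) = ψ b := by
  -- elements of `I = tB`
  have hI : ∀ y : B, Ideal.Quotient.mk (Ideal.span {algebraMap A B t}) y = 0 →
      ∃ b', y = b' * algebraMap A B t := by
    intro y hy
    rw [Ideal.Quotient.eq_zero_iff_mem, Ideal.mem_span_singleton'] at hy
    obtain ⟨b', hb'⟩ := hy
    exact ⟨b', hb'.symm⟩
  have hmI : ∀ a ∈ maximalIdeal A, ∀ y : B,
      Ideal.Quotient.mk (Ideal.span {algebraMap A B t}) y = 0 → algebraMap A B a * y = 0 := by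
    intro a ha y hy
    obtain ⟨b', rfl⟩ := hI y hy
    rw [mul_comm b', ← mul_assoc, ← map_mul, htm a ha, map_zero, zero_mul]
  have hII : ∀ y y' : B, Ideal.Quotient.mk (Ideal.span {algebraMap A B t}) y = 0 →
      Ideal.Quotient.mk (Ideal.span {algebraMap A B t}) y' = 0 → y * y' = 0 := by
    intro y y' hy hy'
    obtain ⟨b', rfl⟩ := hI y hy
    rw [mul_assoc, hmI t ht y' hy', mul_zero]
  -- the pullback
  let π : B →ₐ[A] (B ⧸ Ideal.span {algebraMap A B t}) := Ideal.Quotient.mkₐ A _
  have hπ : Function.Surjective π := Ideal.Quotient.mkₐ_surjective A _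
  let E' : Subalgebra A (B × B) :=
    AlgHom.equalizer (ψ.comp (AlgHom.fst A B B)) (π.comp (AlgHom.snd A B B))
  let pr₁ : E' →ₐ[A] B := (AlgHom.fst A B B).comp E'.val
  let pr₂ : E' →ₐ[A] B := (AlgHom.snd A B B).comp E'.val
  have hcomm : ∀ z : E', ψ (pr₁ z) = π (pr₂ z) := fun z => z.2
  have hext : ∀ z : E', pr₁ z = 0 → pr₂ z = 0 → z = 0 := fun z h1 h2 =>
    Subtype.ext (Prod.ext h1 h2)
  have hpr₁ : Function.Surjective pr₁ := fun b => by
    obtain ⟨e, he⟩ := hπ (ψ b)
    exact ⟨⟨(b, e), he.symm⟩, rfl⟩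
  have hQI : (Ideal.map (algebraMap A E') (maximalIdeal A)).map (pr₁ : E' →+* B) =
      Ideal.map (algebraMap A B) (maximalIdeal A) := by
    rw [Ideal.map_map]
    congr 1
  have hker2 : ∀ z : E', pr₁ z = 0 → π (pr₂ z) = 0 := fun z hz => by
    rw [← hcomm, hz, map_zero]
  -- flatness
  have hstar : RingHom.ker pr₁ ⊓ Ideal.map (algebraMap A E') (maximalIdeal A) = ⊥ := by
    rw [eq_bot_iff]
    rintro z ⟨hz1, hz2⟩
    have hz1' : pr₁.toLinearMap z = 0 := hz1
    have hz2' : z ∈ (maximalIdeal A • ⊤ : Submodule A E') := by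
      rw [Ideal.smul_top_eq_map]
      exact hz2
    have h1 := Groth.Agent.S4515.mem_smul_ker_of_flat pr₁.toLinearMap hpr₁ (maximalIdeal A) z
      hz1' hz2'
    have h2 : maximalIdeal A • LinearMap.ker pr₁.toLinearMap = ⊥ := by
      rw [eq_bot_iff]
      intro w hw
      refine Submodule.smul_induction_on hw ?_ ?_
      · intro a ha y hy
        have hy' : pr₁ y = 0 := hy
        rw [Submodule.mem_bot]
        apply hext
        · rw [map_smul, hy', smul_zero]
        · rw [map_smul, Algebra.smul_def]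
          exact hmI a ha _ (hker2 y hy')
      · intro x y hx hy
        exact add_mem hx hy
    rw [h2] at h1
    exact h1
  -- `k`-algebra structures
  letI algkE : Algebra k E' := ((algebraMap A E').comp (algebraMap k A)).toAlgebra
  haveI : IsScalarTower k A E' := IsScalarTower.of_algebraMap_eq' rfl
  let ρ₀ : (E' ⧸ Ideal.map (algebraMap A E') (maximalIdeal A)) →+*
      (B ⧸ Ideal.map (algebraMap A B) (maximalIdeal A)) :=
    Ideal.quotientMap (Ideal.map (algebraMap A B) (maximalIdeal A)) (pr₁ : E' →+* B)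
      (by rw [← Ideal.map_le_iff_le_comap, hQI])
  have hρ₀mk : ∀ z : E', ρ₀ (Ideal.Quotient.mk _ z) = Ideal.Quotient.mk _ (pr₁ z) := fun z => rfl
  let ρ : (E' ⧸ Ideal.map (algebraMap A E') (maximalIdeal A)) →ₐ[k]
      (B ⧸ Ideal.map (algebraMap A B) (maximalIdeal A)) :=
    { ρ₀ with
      commutes' := fun c => by
        show ρ₀ (Ideal.Quotient.mk _ (algebraMap A E' (algebraMap k A c))) =
          Ideal.Quotient.mk _ (algebraMap k B c)
        rw [hρ₀mk, AlgHom.commutes, ← IsScalarTower.algebraMap_apply] }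
  have hρmk : ∀ z : E', ρ (Ideal.Quotient.mk _ z) = Ideal.Quotient.mk _ (pr₁ z) := fun z => rfl
  have hρ : Function.Surjective ρ := by
    intro y
    obtain ⟨b, rfl⟩ := Ideal.Quotient.mk_surjective y
    obtain ⟨z, rfl⟩ := hpr₁ b
    exact ⟨Ideal.Quotient.mk _ z, rfl⟩
  have hmul : ∀ v w : E' ⧸ Ideal.map (algebraMap A E') (maximalIdeal A),
      ρ v = 0 → ρ w = 0 → v * w = 0 := by
    intro v w hv hw
    obtain ⟨v, rfl⟩ := Ideal.Quotient.mk_surjective v
    obtain ⟨w, rfl⟩ := Ideal.Quotient.mk_surjective w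
    have key : ∀ v : E', Ideal.Quotient.mk (Ideal.map (algebraMap A B) (maximalIdeal A))
        (pr₁ v) = 0 → ∃ v₀ : E', pr₁ v₀ = 0 ∧
        Ideal.Quotient.mk (Ideal.map (algebraMap A E') (maximalIdeal A)) v =
          Ideal.Quotient.mk (Ideal.map (algebraMap A E') (maximalIdeal A)) v₀ := by
      intro v hv
      have hv1 := Ideal.Quotient.eq_zero_iff_mem.1 hv
      rw [← hQI] at hv1
      obtain ⟨q, hq, hq2⟩ := (Ideal.mem_map_iff_of_surjective (pr₁ : E' →+* B) hpr₁).1 hv1
      have hq2' : pr₁ q = pr₁ v := hq2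
      refine ⟨v - q, by rw [map_sub, hq2', sub_self], ?_⟩
      rw [map_sub, Ideal.Quotient.eq_zero_iff_mem.2 hq, sub_zero]
    obtain ⟨v₀, hv₀, hv₀'⟩ := key v hv
    obtain ⟨w₀, hw₀, hw₀'⟩ := key w hw
    rw [hv₀', hw₀', ← map_mul]
    have : v₀ * w₀ = 0 := by
      apply hext
      · rw [map_mul, hv₀, zero_mul]
      · rw [map_mul]
        exact hII _ _ (hker2 v₀ hv₀) (hker2 w₀ hw₀)
    rw [this, map_zero]
  haveI := hsm
  have key := exists_section_of_formallySmooth (k := k)
    (T := E' ⧸ Ideal.map (algebraMap A E') (maximalIdeal A))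
    (R := B ⧸ Ideal.map (algebraMap A B) (maximalIdeal A))
  obtain ⟨s₀, hs₀⟩ := key ρ hρ hmul
  -- `s₀ ∘ mk` is `A`-linear
  have hmT : ∀ a ∈ maximalIdeal A,
      algebraMap A (E' ⧸ Ideal.map (algebraMap A E') (maximalIdeal A)) a = 0 := by
    intro a ha
    show Ideal.Quotient.mk _ (algebraMap A E' a) = 0
    exact Ideal.Quotient.eq_zero_iff_mem.2 (Ideal.mem_map_of_mem _ ha)
  let σ' : B →ₐ[A] (E' ⧸ Ideal.map (algebraMap A E') (maximalIdeal A)) :=
    { toRingHom := (s₀ : (B ⧸ Ideal.map (algebraMap A B) (maximalIdeal A)) →+*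
        (E' ⧸ Ideal.map (algebraMap A E') (maximalIdeal A))).comp
        (Ideal.Quotient.mk (Ideal.map (algebraMap A B) (maximalIdeal A)))
      commutes' := fun a => by
        obtain ⟨c, hc⟩ := hres a
        show s₀ (Ideal.Quotient.mk _ (algebraMap A B a)) = algebraMap A _ a
        have h1 : a = algebraMap k A c + (a - algebraMap k A c) := by ring
        have h2 : Ideal.Quotient.mk (Ideal.map (algebraMap A B) (maximalIdeal A))
            (algebraMap A B a) =
            algebraMap k (B ⧸ Ideal.map (algebraMap A B) (maximalIdeal A)) c := by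
          rw [h1, map_add, map_add,
            Ideal.Quotient.eq_zero_iff_mem.2 (Ideal.mem_map_of_mem _ hc), add_zero,
            ← IsScalarTower.algebraMap_apply k A B]
          rfl
        rw [h2, s₀.commutes]
        conv_rhs => rw [h1, map_add, hmT _ hc, add_zero]
        rfl }
  have hσ' : ∀ b : B, σ' b = s₀ (Ideal.Quotient.mk _ b) := fun b => rfl
  -- glue
  obtain ⟨s, hs, -⟩ := Groth.Agent.H23.AdicOfFlat.exists_section_of_inf_eq_bot pr₁ hpr₁
    (Ideal.map (algebraMap A E') (maximalIdeal A)) hstar σ'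
    (fun b => by
      obtain ⟨z, hz⟩ := Ideal.Quotient.mk_surjective
        (s₀ (Ideal.Quotient.mk (Ideal.map (algebraMap A B) (maximalIdeal A)) b))
      refine ⟨z, hz, ?_⟩
      have h1 := hs₀ (Ideal.Quotient.mk (Ideal.map (algebraMap A B) (maximalIdeal A)) b)
      rw [← hz, hρmk] at h1
      have h2 := Ideal.Quotient.eq.1 h1
      rw [← hQI] at h2
      exact h2)
  refine ⟨pr₂.comp s, fun b => ?_⟩
  have h1 : pr₁ (s b) = b := by
    rw [← AlgHom.comp_apply, hs]; rfl
  show π (pr₂ (s b)) = ψ b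
  rw [← hcomm, h1]


/-- Let k be an algebraically closed field, A a local Artinian k-algebra with residue field k and t an
element of the maximal ideal of A annihilated by the maximal ideal, so that A is a small extension
of A/tA. Let B be a flat A-algebra whose closed fibre B/m_A B is a formally smooth k-algebra (an
infinitesimal deformation over A of a formally smooth k-algebra). Then every A-algebra automorphism
of B/tB is induced by an A-algebra automorphism of B. (The published statement asks the automorphism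
of B/tB to induce the identity on B/m_A B; this row does not. The published statement takes the
closed fibre smooth, that is formally smooth and essentially of finite type; this row asks the
closed fibre to be formally smooth over k in the sense of lifting along all square-zero surjections
of commutative k-algebras, with no finiteness condition.) -/
theorem result
    {k : Type u} [Field k] [IsAlgClosed k]
    {A : Type u} [CommRing A] [Algebra k A] [IsLocalRing A] [IsArtinianRing A]
    (hres : ∀ a : A, ∃ c : k, a - algebraMap k A c ∈ IsLocalRing.maximalIdeal A)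
    (t : A) (ht : t ∈ IsLocalRing.maximalIdeal A)
    (htm : ∀ a ∈ IsLocalRing.maximalIdeal A, a * t = 0)
    {B : Type u} [CommRing B] [Algebra A B] [Module.Flat A B] [Algebra k B] [IsScalarTower k A B]
    (hsm : Algebra.FormallySmooth k (B ⧸ (IsLocalRing.maximalIdeal A).map (algebraMap A B)))
    (σ : (B ⧸ Ideal.span {algebraMap A B t}) ≃ₐ[A] (B ⧸ Ideal.span {algebraMap A B t})) :
    ∃ τ : B ≃ₐ[A] B, ∀ b : B,
      Ideal.Quotient.mk (Ideal.span {algebraMap A B t}) (τ b) =
        σ (Ideal.Quotient.mk (Ideal.span {algebraMap A B t}) b) := by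
  have htt : algebraMap A B t * algebraMap A B t = 0 := by
    rw [← map_mul, htm t ht, map_zero]
  obtain ⟨τ₀, hτ₀⟩ := lift_endo hres t ht htm hsm
    ((σ : _ →ₐ[A] _).comp (Ideal.Quotient.mkₐ A (Ideal.span {algebraMap A B t})))
  obtain ⟨τ₁, hτ₁⟩ := lift_endo hres t ht htm hsm
    ((σ.symm : _ →ₐ[A] _).comp (Ideal.Quotient.mkₐ A (Ideal.span {algebraMap A B t})))
  have hτ₀' : ∀ b, Ideal.Quotient.mk (Ideal.span {algebraMap A B t}) (τ₀ b) =
      σ (Ideal.Quotient.mk (Ideal.span {algebraMap A B t}) b) := hτ₀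
  have hτ₁' : ∀ b, Ideal.Quotient.mk (Ideal.span {algebraMap A B t}) (τ₁ b) =
      σ.symm (Ideal.Quotient.mk (Ideal.span {algebraMap A B t}) b) := hτ₁
  have hinj_of : ∀ θ : B →ₐ[A] B,
      (∀ b, Ideal.Quotient.mk (Ideal.span {algebraMap A B t}) (θ b) =
        Ideal.Quotient.mk (Ideal.span {algebraMap A B t}) b) → Function.Injective θ := by
    intro θ hθ
    rw [injective_iff_map_eq_zero]
    intro b hb
    have h1 : Ideal.Quotient.mk (Ideal.span {algebraMap A B t}) b = 0 := by
      rw [← hθ, hb, map_zero]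
    rw [Ideal.Quotient.eq_zero_iff_mem, Ideal.mem_span_singleton'] at h1
    obtain ⟨b', rfl⟩ := h1
    have h2 : θ (b' * algebraMap A B t) = θ b' * algebraMap A B t := by
      rw [map_mul, θ.commutes]
    have h3 : Ideal.Quotient.mk (Ideal.span {algebraMap A B t}) (θ b' - b') = 0 := by
      rw [map_sub, hθ, sub_self]
    rw [Ideal.Quotient.eq_zero_iff_mem, Ideal.mem_span_singleton'] at h3
    obtain ⟨b'', hb''⟩ := h3
    have h4 : b' * algebraMap A B t =
        θ b' * algebraMap A B t - (θ b' - b') * algebraMap A B t := by ring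
    rw [h4, ← h2, hb, ← hb'', mul_assoc, htt, mul_zero, sub_zero]
  have hinj : Function.Injective τ₀ := by
    have h := hinj_of (τ₁.comp τ₀) (fun b => by
      rw [AlgHom.comp_apply, hτ₁', hτ₀']
      exact σ.symm_apply_apply _)
    exact Function.Injective.of_comp h
  have hsurj : Function.Surjective τ₀ := by
    have step : ∀ b : B, ∃ b₁ b₂ : B, b = τ₀ b₁ + b₂ * algebraMap A B t := by
      intro b
      obtain ⟨y, hy⟩ := σ.surjective (Ideal.Quotient.mk (Ideal.span {algebraMap A B t}) b)
      obtain ⟨b₁, rfl⟩ := Ideal.Quotient.mk_surjective y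
      have h5 : Ideal.Quotient.mk (Ideal.span {algebraMap A B t}) (b - τ₀ b₁) = 0 := by
        rw [map_sub, hτ₀', hy, sub_self]
      rw [Ideal.Quotient.eq_zero_iff_mem, Ideal.mem_span_singleton'] at h5
      obtain ⟨b₂, hb₂⟩ := h5
      exact ⟨b₁, b₂, by rw [hb₂]; ring⟩
    intro b
    obtain ⟨b₁, b₂, rfl⟩ := step b
    obtain ⟨b₃, b₄, rfl⟩ := step b₂
    refine ⟨b₁ + b₃ * algebraMap A B t, ?_⟩
    rw [map_add, map_mul, τ₀.commutes]
    have h6 : (τ₀ b₃ + b₄ * algebraMap A B t) * algebraMap A B t =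
        τ₀ b₃ * algebraMap A B t + b₄ * (algebraMap A B t * algebraMap A B t) := by ring
    rw [h6, htt, mul_zero, add_zero]
  exact ⟨AlgEquiv.ofBijective τ₀ ⟨hinj, hsurj⟩, fun b => hτ₀' b⟩

end Groth.Agent.S11280
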