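import Groth.Statements.S11282
import Mathlib.RingTheory.Filtration
import Mathlib.RingTheory.Ideal.Maps
import Mathlib.LinearAlgebra.Finsupp.LinearCombination
-- import your own Groth.Agent.* helpers here

set_option autoImplicit false
universe u
open Deform

namespace Groth.Agent.S11282

section General
open IsLocalRing

variable {Λ : Type u} [CommRing Λ] {R : Type u} [CommRing R] [Algebra Λ R] [IsLocalRing R]

lemma smul_residueField_eq_zero {a : R} (ha : a ∈ maximalIdeal R) (z : ResidueField R) :
    a • z = 0 := by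
  rw [Algebra.smul_def, ResidueField.algebraMap_eq, (IsLocalRing.residue_eq_zero_iff _).mpr ha,
    zero_mul]

variable (X : Exal.Ext Λ R (ResidueField R))

/-- the maximal ideal of the middle ring -/
noncomputable def mE : Ideal X.E := Ideal.comap X.proj (maximalIdeal R)

lemma mul_eq_zero_of_mem {m w : X.E} (hm : m ∈ mE X) (hw : X.proj w = 0) : m * w = 0 := by
  obtain ⟨z, rfl⟩ := (X.isExtension.exact w).mp hw
  rw [X.isExtension.mul_incl, smul_residueField_eq_zero hm, map_zero]

lemma theta_congr {d : ℕ} (y : Fin d → X.E) (hy : ∀ i, y i ∈ mE X) (a a' : Fin d → X.E)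
    (h : ∀ i, X.proj (a i) = X.proj (a' i)) : ∑ i, a i * y i = ∑ i, a' i * y i := by
  refine Finset.sum_congr rfl (fun i _ => ?_)
  have : (a i - a' i) * y i = 0 := by
    rw [mul_comm]
    exact mul_eq_zero_of_mem X (hy i) (by rw [map_sub, h i, sub_self])
  linear_combination this

lemma exists_rep {d : ℕ} (x : Fin d → R) (hx : Ideal.span (Set.range x) = maximalIdeal R)
    (y : Fin d → X.E) (hy : ∀ i, X.proj (y i) = x i) (n : ℕ) (hn : 1 ≤ n) (e : X.E)
    (he : e ∈ mE X ^ (n + 1)) :
    ∃ a : Fin d → X.E, (∀ i, a i ∈ mE X ^ n) ∧ e = ∑ i, a i * y i := by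
  rw [pow_succ] at he
  refine Submodule.mul_induction_on he ?_ ?_
  · intro p hp q hq
    have hq' : X.proj q ∈ Ideal.span (Set.range x) := by rw [hx]; exact hq
    obtain ⟨c, hc⟩ := Ideal.mem_span_range_iff_exists_fun.mp hq'
    choose c' hc' using fun i => X.isExtension.proj_surjective (c i)
    have hp1 : p ∈ mE X := Ideal.pow_le_self (by omega) hp
    have h0 : p * (q - ∑ i, c' i * y i) = 0 := by
      refine mul_eq_zero_of_mem X hp1 ?_
      rw [map_sub, map_sum, ← hc, sub_eq_zero]
      refine Finset.sum_congr rfl (fun i _ => ?_)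
      rw [map_mul, hc', hy]
    refine ⟨fun i => p * c' i, fun i => Ideal.mul_mem_right _ _ hp, ?_⟩
    have : p * q = p * (q - ∑ i, c' i * y i) + ∑ i, p * c' i * y i := by
      rw [mul_sub, Finset.mul_sum]
      simp only [mul_assoc]
      ring
    rw [this, h0, zero_add]
  · rintro e₁ e₂ ⟨a₁, ha₁, rfl⟩ ⟨a₂, ha₂, rfl⟩
    refine ⟨fun i => a₁ i + a₂ i, fun i => add_mem (ha₁ i) (ha₂ i), ?_⟩
    rw [← Finset.sum_add_distrib]
    refine Finset.sum_congr rfl (fun i _ => ?_)
    ring

lemma theta_eq_zero_of_mem_smul_ker {d : ℕ} (x : Fin d → R)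
    (y : Fin d → X.E) (hy : ∀ i, X.proj (y i) = x i) (r : Fin d → R)
    (hr : r ∈ maximalIdeal R • LinearMap.ker (Fintype.linearCombination R x)) :
    ∃ a : Fin d → X.E, (∀ i, X.proj (a i) = r i) ∧ ∑ i, a i * y i = 0 := by
  refine Submodule.smul_induction_on hr ?_ ?_
  · intro m hm κ hκ
    obtain ⟨m', hm'⟩ := X.isExtension.proj_surjective m
    choose u hu using fun i => X.isExtension.proj_surjective (κ i)
    refine ⟨fun i => m' * u i, fun i => ?_, ?_⟩
    · rw [map_mul, hm', hu]
      rfl
    · have h1 : X.proj (∑ i, u i * y i) = 0 := by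
        rw [LinearMap.mem_ker, Fintype.linearCombination_apply] at hκ
        rw [map_sum, ← hκ]
        refine Finset.sum_congr rfl (fun i _ => ?_)
        rw [map_mul, hu, hy, smul_eq_mul]
      have h2 : m' * ∑ i, u i * y i = 0 :=
        mul_eq_zero_of_mem X (by show X.proj m' ∈ maximalIdeal R; rw [hm']; exact hm) h1
      rw [← h2, Finset.mul_sum]
      refine Finset.sum_congr rfl (fun i _ => ?_)
      ring
  · rintro r₁ r₂ ⟨a₁, ha₁, h₁⟩ ⟨a₂, ha₂, h₂⟩
    refine ⟨fun i => a₁ i + a₂ i, fun i => by rw [map_add, ha₁, ha₂]; rfl, ?_⟩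
    have : ∑ i, (a₁ i + a₂ i) * y i = ∑ i, a₁ i * y i + ∑ i, a₂ i * y i := by
      rw [← Finset.sum_add_distrib]
      refine Finset.sum_congr rfl (fun i _ => ?_)
      ring
    rw [this, h₁, h₂, add_zero]

theorem exists_pow_mE_inf_ker [IsNoetherianRing R] :
    ∃ n : ℕ, ∀ X : Exal.Ext Λ R (ResidueField R),
      ∀ x ∈ mE X ^ (n + 1), X.proj x = 0 → x = 0 := by
  obtain ⟨d, x, hx⟩ := Submodule.fg_iff_exists_fin_generating_family.mp
    (IsNoetherian.noetherian (maximalIdeal R))
  obtain ⟨c, hc⟩ := Ideal.exists_pow_inf_eq_pow_smul (maximalIdeal R)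
    (LinearMap.ker (Fintype.linearCombination R x))
  refine ⟨c + 1, fun X => ?_⟩
  intro e he hpe
  choose y hy using fun i => X.isExtension.proj_surjective (x i)
  have hym : ∀ i, y i ∈ mE X := fun i => by
    show X.proj (y i) ∈ maximalIdeal R
    rw [hy, ← hx]
    exact Ideal.subset_span ⟨i, rfl⟩
  obtain ⟨a, ha, rfl⟩ := exists_rep X x hx y hy (c + 1) (by omega) e he
  have hmap : ∀ i, X.proj (a i) ∈ maximalIdeal R ^ (c + 1) := fun i => by
    have := Ideal.mem_map_of_mem X.proj (ha i)
    rwa [Ideal.map_pow, mE, Ideal.map_comap_of_surjective _ X.isExtension.proj_surjective]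
      at this
  set r : Fin d → R := fun i => X.proj (a i) with hrdef
  have hr1 : r ∈ (maximalIdeal R) ^ (c + 1) • (⊤ : Submodule R (Fin d → R)) := by
    rw [pi_eq_sum_univ r]
    refine Submodule.sum_mem _ (fun i _ => Submodule.smul_mem_smul (hmap i) trivial)
  have hr2 : r ∈ LinearMap.ker (Fintype.linearCombination R x) := by
    rw [LinearMap.mem_ker, Fintype.linearCombination_apply, ← hpe, map_sum]
    refine Finset.sum_congr rfl (fun i _ => ?_)
    rw [map_mul, hy, smul_eq_mul]
  have hr3 : r ∈ maximalIdeal R • LinearMap.ker (Fintype.linearCombination R x) := by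
    have h3 := hc (c + 1) (by omega)
    have h4 : r ∈ (maximalIdeal R) ^ (c + 1) • (⊤ : Submodule R (Fin d → R))
        ⊓ LinearMap.ker (Fintype.linearCombination R x) := ⟨hr1, hr2⟩
    rw [h3, Nat.add_sub_cancel_left, pow_one] at h4
    have hle : maximalIdeal R • ((maximalIdeal R) ^ c • (⊤ : Submodule R (Fin d → R))
        ⊓ LinearMap.ker (Fintype.linearCombination R x))
        ≤ maximalIdeal R • LinearMap.ker (Fintype.linearCombination R x) :=
      smul_mono_right _ inf_le_right
    exact hle h4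
  obtain ⟨a', ha', h0⟩ := theta_eq_zero_of_mem_smul_ker X x y hy r hr3
  rw [← h0]
  exact theta_congr X y hym a a' (fun i => (ha' i).symm)

theorem main [IsNoetherianRing R] :
    ∃ n : ℕ, ∀ X : Exal.Ext Λ R (ResidueField R),
      ∃ I : Ideal X.E, (∀ x ∈ I, X.proj x = 0 → x = 0) ∧
        Ideal.map X.proj I = maximalIdeal R ^ (n + 1) := by
  obtain ⟨n, hn⟩ := exists_pow_mE_inf_ker (Λ := Λ) (R := R)
  refine ⟨n, fun X => ⟨mE X ^ (n + 1), hn X, ?_⟩⟩
  rw [Ideal.map_pow, mE, Ideal.map_comap_of_surjective _ X.isExtension.proj_surjective]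

end General

/-- Let k be an algebraically closed field, Λ a complete local Noetherian k-algebra with residue field
k, and R a local Noetherian Λ-algebra with local structure map, residue field k and maximal ideal m.
Then for some n the pull-back map o((R/m^(n+1))/Λ) → o(R/Λ) on obstruction spaces is onto: every
Λ-extension 0 → k → E → R → 0 of R by its residue field is the inverse image of a Λ-extension of
R/m^(n+1) by k. Concretely, the middle ring E of every such extension contains an ideal I which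
meets the kernel k only in 0 and whose image in R is exactly m^(n+1) (then E/I is an extension of
R/m^(n+1) by k whose inverse image along R → R/m^(n+1) is E). -/
theorem result
    {k : Type u} [Field k] [IsAlgClosed k]
    {Λ : Type u} [CommRing Λ] [Algebra k Λ] [IsLocalRing Λ] [IsNoetherianRing Λ]
    [IsAdicComplete (IsLocalRing.maximalIdeal Λ) Λ]
    (hΛ : ∀ a : Λ, ∃ c : k, a - algebraMap k Λ c ∈ IsLocalRing.maximalIdeal Λ)
    {R : Type u} [CommRing R] [Algebra Λ R] [IsLocalRing R] [IsNoetherianRing R]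
    [IsLocalHom (algebraMap Λ R)]
    (hR : ∀ r : R, ∃ c : k, r - algebraMap Λ R (algebraMap k Λ c) ∈ IsLocalRing.maximalIdeal R) :
    ∃ n : ℕ, ∀ X : Exal.Ext Λ R (IsLocalRing.ResidueField R),
      ∃ I : Ideal X.E, (∀ x ∈ I, X.proj x = 0 → x = 0) ∧
        Ideal.map X.proj I = IsLocalRing.maximalIdeal R ^ (n + 1) := main

end Groth.Agent.S11282
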