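import Groth.Statements.S11281
import Groth.Agent.S11282
import Groth.Agent.H29.Exal
import Mathlib.RingTheory.HopkinsLevitzki
import Mathlib.RingTheory.Finiteness.Ideal
import Mathlib.RingTheory.LocalRing.RingHom.Basic
-- import your own Groth.Agent.* helpers here

set_option autoImplicit false
universe u
open Deform

namespace Groth.Agent.S11281

open IsLocalRing
open Groth.Agent.S11282 (mE mul_eq_zero_of_mem smul_residueField_eq_zero exists_pow_mE_inf_ker)
open Groth.Agent.H29.ExalL (proj_incl)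

section BA

variable {Λ : Type u} [CommRing Λ] {R : Type u} [CommRing R] [Algebra Λ R] [IsLocalRing R]
variable (X : Exal.Ext Λ R (ResidueField R))

lemma exists_lift (z : ResidueField R) : ∃ e : X.E, residue R (X.proj e) = z := by
  obtain ⟨r, rfl⟩ := IsLocalRing.residue_surjective z
  obtain ⟨e, rfl⟩ := X.isExtension.proj_surjective r
  exact ⟨e, rfl⟩

lemma incl_eq_mul (z : ResidueField R) (e : X.E) (he : residue R (X.proj e) = z) :
    X.incl z = e * X.incl 1 := by
  rw [X.isExtension.mul_incl, Algebra.smul_def, mul_one, ResidueField.algebraMap_eq, he]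

lemma isUnit_of_isUnit_proj (a : X.E) (h : IsUnit (X.proj a)) : IsUnit a := by
  obtain ⟨u, hu⟩ := h
  obtain ⟨a', ha'⟩ := X.isExtension.proj_surjective (↑u⁻¹)
  have h1 : X.proj (a * a' - 1) = 0 := by
    rw [map_sub, map_mul, ha', ← hu, map_one, Units.mul_inv, sub_self]
  obtain ⟨z, hz⟩ := (X.isExtension.exact _).mp h1
  have h2 : X.incl z * X.incl z = 0 := Groth.Agent.H29.ExalL.incl_mul_incl X z z
  have h3 : a * a' = 1 + X.incl z := by rw [hz]; ring
  refine IsUnit.of_mul_eq_one (a' * (1 - X.incl z)) ?_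
  calc a * (a' * (1 - X.incl z)) = (a * a') * (1 - X.incl z) := by ring
    _ = (1 + X.incl z) * (1 - X.incl z) := by rw [h3]
    _ = 1 - X.incl z * X.incl z := by ring
    _ = 1 := by rw [h2, sub_zero]

lemma isNoetherianRing_E [IsNoetherianRing R] : IsNoetherianRing X.E := by
  rw [isNoetherianRing_iff_ideal_fg]
  intro J
  refine Ideal.fg_of_fg_map_of_fg_inf_ker_of_surjective (f := (X.proj : X.E →+* R))
    (IsNoetherian.noetherian _) ?_ X.isExtension.proj_surjective
  by_cases h : J ⊓ RingHom.ker (X.proj : X.E →+* R) = ⊥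
  · rw [h]
    exact Submodule.fg_bot
  · have : J ⊓ RingHom.ker (X.proj : X.E →+* R) = Ideal.span {X.incl 1} := by
      apply le_antisymm
      · rintro w ⟨-, hw⟩
        obtain ⟨z, rfl⟩ := (X.isExtension.exact w).mp hw
        obtain ⟨e, he⟩ := exists_lift X z
        rw [incl_eq_mul X z e he]
        exact Ideal.mul_mem_left _ _ (Ideal.subset_span rfl)
      · rw [Ideal.span_singleton_le_iff_mem]
        obtain ⟨w, hw, hw0⟩ := Submodule.exists_mem_ne_zero_of_ne_bot h
        obtain ⟨z, rfl⟩ := (X.isExtension.exact w).mp hw.2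
        have hz : z ≠ 0 := by
          rintro rfl
          exact hw0 (map_zero _)
        obtain ⟨e, he⟩ := exists_lift X z⁻¹
        have : X.incl 1 = e * X.incl z := by
          rw [X.isExtension.mul_incl, Algebra.smul_def, ResidueField.algebraMap_eq, he,
            inv_mul_cancel₀ hz]
        rw [this]
        exact Ideal.mul_mem_left _ _ hw
    rw [this]
    exact ⟨{X.incl 1}, by simp⟩

theorem isTrivial_of_lifting [IsNoetherianRing R] {k : Type u} [Field k] [Algebra k Λ]
    (hR : ∀ r : R, ∃ c : k, r - algebraMap Λ R (algebraMap k Λ c) ∈ maximalIdeal R)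
    (X : Exal.Ext Λ R (ResidueField R)) (n : ℕ)
    (hn : ∀ x ∈ mE X ^ (n + 1), X.proj x = 0 → x = 0)
    (hb : ∀ (B : Type u) [CommRing B] [Algebra Λ B] [IsLocalRing B] [IsArtinianRing B],
      (∀ b : B, ∃ c : k, b - algebraMap Λ B (algebraMap k Λ c) ∈ maximalIdeal B) →
      ∀ t : B, t ∈ maximalIdeal B → (∀ b ∈ maximalIdeal B, b * t = 0) →
      ∀ φ : R →ₐ[Λ] B ⧸ Ideal.span {t},
        ∃ φ' : R →ₐ[Λ] B, (Ideal.Quotient.mkₐ Λ (Ideal.span {t})).comp φ' = φ) :
    X.IsTrivial := by
  have : IsLocalHom (X.proj : X.E →+* R) := ⟨fun a h => isUnit_of_isUnit_proj X a h⟩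
  have : IsLocalRing X.E := RingHom.domain_isLocalRing (X.proj : X.E →+* R)
  have hmax : maximalIdeal X.E = mE X :=
    (IsLocalRing.maximalIdeal_comap (X.proj : X.E →+* R)).symm
  have : IsNoetherianRing X.E := isNoetherianRing_E X
  set I : Ideal X.E := mE X ^ (n + 1) with hI
  have hIle : I ≤ maximalIdeal X.E := by
    rw [hmax]
    exact Ideal.pow_le_self (by omega)
  have : Nontrivial (X.E ⧸ I) := Ideal.Quotient.nontrivial_iff.mpr
    (ne_top_of_le_ne_top (maximalIdeal.isMaximal _).ne_top hIle)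
  have : IsLocalRing (X.E ⧸ I) :=
    IsLocalRing.of_surjective' (Ideal.Quotient.mk I) Ideal.Quotient.mk_surjective
  have : IsLocalHom (Ideal.Quotient.mk I) :=
    IsLocalHom.of_surjective _ Ideal.Quotient.mk_surjective
  have hmaxB : maximalIdeal (X.E ⧸ I) = Ideal.map (Ideal.Quotient.mk I) (mE X) := by
    rw [← hmax, ← IsLocalRing.maximalIdeal_comap (Ideal.Quotient.mk I),
      Ideal.map_comap_of_surjective _ Ideal.Quotient.mk_surjective]
  have : IsArtinianRing (X.E ⧸ I) := by
    rw [isArtinianRing_iff_isNilpotent_maximalIdeal]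
    refine ⟨n + 1, ?_⟩
    rw [hmaxB, ← Ideal.map_pow, Ideal.zero_eq_bot]
    exact Ideal.map_quotient_self I
  set t : X.E ⧸ I := Ideal.Quotient.mk I (X.incl 1) with ht
  have hεm : X.incl 1 ∈ mE X := by
    show X.proj _ ∈ maximalIdeal R
    rw [proj_incl]
    exact zero_mem _
  have htm : t ∈ maximalIdeal (X.E ⧸ I) := by
    rw [hmaxB]
    exact Ideal.mem_map_of_mem _ hεm
  have htann : ∀ b ∈ maximalIdeal (X.E ⧸ I), b * t = 0 := by
    intro b hb'
    rw [hmaxB] at hb'
    obtain ⟨e, he, rfl⟩ := (Ideal.mem_map_iff_of_surjective _ Ideal.Quotient.mk_surjective).mp hb'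
    rw [ht, ← map_mul, mul_eq_zero_of_mem X he (proj_incl X 1), map_zero]
  have hBres : ∀ b : X.E ⧸ I, ∃ c : k,
      b - algebraMap Λ (X.E ⧸ I) (algebraMap k Λ c) ∈ maximalIdeal (X.E ⧸ I) := by
    intro b
    obtain ⟨e, rfl⟩ := Ideal.Quotient.mk_surjective b
    obtain ⟨c, hc⟩ := hR (X.proj e)
    refine ⟨c, ?_⟩
    rw [hmaxB]
    have : Ideal.Quotient.mk I e - algebraMap Λ (X.E ⧸ I) (algebraMap k Λ c)
        = Ideal.Quotient.mk I (e - algebraMap Λ X.E (algebraMap k Λ c)) := by
      rw [map_sub]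
      rfl
    rw [this]
    refine Ideal.mem_map_of_mem _ ?_
    show X.proj _ ∈ maximalIdeal R
    rw [map_sub, AlgHom.commutes]
    exact hc
  let qI : X.E →ₐ[Λ] X.E ⧸ I := Ideal.Quotient.mkₐ Λ I
  let qt : (X.E ⧸ I) →ₐ[Λ] (X.E ⧸ I) ⧸ Ideal.span {t} := Ideal.Quotient.mkₐ Λ (Ideal.span {t})
  let π : X.E →ₐ[Λ] (X.E ⧸ I) ⧸ Ideal.span {t} := qt.comp qI
  have hker : RingHom.ker (X.proj : X.E →+* R)
      ≤ RingHom.ker (π : X.E →+* (X.E ⧸ I) ⧸ Ideal.span {t}) := by
    intro w hw
    obtain ⟨z, rfl⟩ := (X.isExtension.exact w).mp hw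
    obtain ⟨e, he⟩ := exists_lift X z
    rw [RingHom.mem_ker, incl_eq_mul X z e he]
    show qt (qI (e * X.incl 1)) = 0
    rw [map_mul, map_mul]
    have : qt (qI (X.incl 1)) = 0 :=
      Ideal.Quotient.eq_zero_iff_mem.mpr (Ideal.subset_span rfl)
    rw [this, mul_zero]
  let φ₀ : R →+* (X.E ⧸ I) ⧸ Ideal.span {t} :=
    RingHom.liftOfSurjective (X.proj : X.E →+* R) X.isExtension.proj_surjective
      ⟨(π : X.E →+* (X.E ⧸ I) ⧸ Ideal.span {t}), hker⟩
  have hφ₀ : ∀ e, φ₀ (X.proj e) = π e := fun e => RingHom.liftOfSurjective_comp_apply _ _ _ e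
  let φ : R →ₐ[Λ] (X.E ⧸ I) ⧸ Ideal.span {t} :=
    { φ₀ with
      commutes' := fun a => by
        have : algebraMap Λ R a = X.proj (algebraMap Λ X.E a) := (X.proj.commutes a).symm
        show φ₀ (algebraMap Λ R a) = _
        rw [this, hφ₀, AlgHom.commutes] }
  obtain ⟨φ', hφ'⟩ := hb (X.E ⧸ I) hBres t htm htann φ
  have hφ'' : ∀ r, qt (φ' r) = φ r := fun r => by
    rw [← hφ']
    rfl
  let Γ : Subalgebra Λ X.E := AlgHom.equalizer qI (φ'.comp X.proj)
  have hΓ : ∀ e, e ∈ Γ ↔ qI e = φ' (X.proj e) := fun e => Iff.rfl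
  let p : Γ →ₐ[Λ] R := X.proj.comp Γ.val
  have hp : Function.Bijective p := by
    constructor
    · intro γ γ' h
      have h1 : X.proj (γ : X.E) = X.proj (γ' : X.E) := h
      have h2 : qI (γ : X.E) = qI (γ' : X.E) := by
        rw [(hΓ _).mp γ.2, (hΓ _).mp γ'.2, h1]
      have h3 : (γ : X.E) - γ' ∈ I := Ideal.Quotient.eq.mp h2
      have := hn _ h3 (by rw [map_sub, h1, sub_self])
      exact Subtype.ext (sub_eq_zero.mp this)
    · intro r
      obtain ⟨e₀, he₀⟩ := X.isExtension.proj_surjective r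
      have h1 : qt (qI e₀ - φ' r) = 0 := by
        rw [map_sub, hφ'', ← he₀]
        show π e₀ - φ₀ (X.proj e₀) = 0
        rw [hφ₀, sub_self]
      have h2 : qI e₀ - φ' r ∈ Ideal.span {t} := Ideal.Quotient.eq_zero_iff_mem.mp h1
      obtain ⟨b, hb'⟩ := Ideal.mem_span_singleton'.mp h2
      obtain ⟨e₁, rfl⟩ := Ideal.Quotient.mk_surjective b
      have h3 : qI (e₁ * X.incl 1) = qI e₀ - φ' r := by
        rw [← hb']
        rfl
      refine ⟨⟨e₀ - e₁ * X.incl 1, ?_⟩, ?_⟩
      · rw [hΓ, map_sub, map_sub, map_mul X.proj, proj_incl, mul_zero, sub_zero, he₀, h3]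
        ring
      · show X.proj (e₀ - e₁ * X.incl 1) = r
        rw [map_sub, map_mul, proj_incl, mul_zero, sub_zero, he₀]
  refine ⟨Γ.val.comp ((AlgEquiv.ofBijective p hp).symm : R →ₐ[Λ] Γ), fun r => ?_⟩
  exact (AlgEquiv.ofBijective p hp).apply_symm_apply r

end BA

section AB

variable {k : Type u} [Field k] {Λ : Type u} [CommRing Λ] [Algebra k Λ]
  {R : Type u} [CommRing R] [Algebra Λ R] [IsLocalRing R]

/-- `k → Λ → R` -/
noncomputable def iota (k : Type u) [Field k] (Λ : Type u) [CommRing Λ] [Algebra k Λ]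
    (R : Type u) [CommRing R] [Algebra Λ R] : k →+* R :=
  (algebraMap Λ R).comp (algebraMap k Λ)

lemma iota_apply (c : k) : iota k Λ R c = algebraMap Λ R (algebraMap k Λ c) := rfl

lemma isUnit_iota {c : k} (hc : c ≠ 0) : IsUnit (iota k Λ R c) :=
  (IsUnit.mk0 c hc).map (iota k Λ R)

variable (hR : ∀ r : R, ∃ c : k, r - algebraMap Λ R (algebraMap k Λ c) ∈ maximalIdeal R)
include hR

lemma residue_iota_bijective :
    Function.Bijective ((residue R).comp (iota k Λ R)) := by
  refine ⟨RingHom.injective _, fun z => ?_⟩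
  obtain ⟨r, rfl⟩ := IsLocalRing.residue_surjective z
  obtain ⟨c, hc⟩ := hR r
  refine ⟨c, ?_⟩
  have := (IsLocalRing.residue_eq_zero_iff _).mpr hc
  rw [map_sub, sub_eq_zero] at this
  exact this.symm

/-- `k ≃ κ(R)` -/
noncomputable def eR : k ≃+* ResidueField R :=
  RingEquiv.ofBijective ((residue R).comp (iota k Λ R)) (residue_iota_bijective hR)

lemma eR_apply (c : k) : eR hR c = residue R (iota k Λ R c) := rfl

lemma residue_eq_eR {r : R} {c : k} (hc : r - iota k Λ R c ∈ maximalIdeal R) :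
    residue R r = eR hR c := by
  have := (IsLocalRing.residue_eq_zero_iff _).mpr hc
  rw [map_sub, sub_eq_zero] at this
  exact this

omit hR in
lemma mem_maximalIdeal_of_phi_eq {B : Type u} [CommRing B] [Algebra Λ B] [IsLocalRing B]
    [IsArtinianRing B]
    (hB : ∀ b : B, ∃ c : k, b - algebraMap Λ B (algebraMap k Λ c) ∈ maximalIdeal B)
    (t : B) (htm : t ∈ maximalIdeal B) (φ : R →ₐ[Λ] B ⧸ Ideal.span {t})
    (m : R) (hm : m ∈ maximalIdeal R) (b : B) (h : φ m = Ideal.Quotient.mk _ b) :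
    b ∈ maximalIdeal B := by
  by_contra hb
  obtain ⟨c, hc⟩ := hB b
  have hc0 : c ≠ 0 := by
    rintro rfl
    rw [map_zero, map_zero, sub_zero] at hc
    exact hb hc
  -- `u = m - ι c` is a unit of `R`
  have hu : IsUnit (m - iota k Λ R c) := by
    by_contra hnu
    have h1 : m - iota k Λ R c ∈ maximalIdeal R := hnu
    have h2 : iota k Λ R c ∈ maximalIdeal R := by
      have := sub_mem hm h1
      rwa [sub_sub_cancel] at this
    exact h2 (isUnit_iota hc0)
  have h3 : φ (m - iota k Λ R c)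
      = Ideal.Quotient.mk (Ideal.span {t}) (b - algebraMap Λ B (algebraMap k Λ c)) := by
    rw [map_sub, h, iota_apply, AlgHom.commutes, map_sub]
    rfl
  have h4 : IsUnit (Ideal.Quotient.mk (Ideal.span {t}) (b - algebraMap Λ B (algebraMap k Λ c))) := by
    rw [← h3]
    exact hu.map φ
  obtain ⟨N, hN⟩ : ∃ N, maximalIdeal B ^ N = ⊥ := by
    have := IsArtinianRing.isNilpotent_jacobson_bot (R := B)
    rw [IsLocalRing.jacobson_eq_maximalIdeal _ bot_ne_top] at this
    exact this
  have h5 : (b - algebraMap Λ B (algebraMap k Λ c)) ^ N = 0 := by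
    have := Ideal.pow_mem_pow hc N
    rwa [hN] at this
  have h6 : IsUnit ((Ideal.Quotient.mk (Ideal.span {t}) (b - algebraMap Λ B (algebraMap k Λ c))) ^ N) :=
    h4.pow N
  rw [← map_pow, h5, map_zero, isUnit_zero_iff] at h6
  have h7 : (1 : B) ∈ Ideal.span {t} := by
    have : Ideal.Quotient.mk (Ideal.span {t}) (1 : B) = 0 := by rw [map_one]; exact h6.symm
    exact Ideal.Quotient.eq_zero_iff_mem.mp this
  have h8 : Ideal.span {t} ≤ maximalIdeal B := (Ideal.span_singleton_le_iff_mem _).mpr htm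
  exact (maximalIdeal.isMaximal B).ne_top ((Ideal.eq_top_iff_one _).mpr (h8 h7))

end AB

section ABext

variable {k : Type u} [Field k] {Λ : Type u} [CommRing Λ] [Algebra k Λ]
  {R : Type u} [CommRing R] [Algebra Λ R] [IsLocalRing R]
  (hR : ∀ r : R, ∃ c : k, r - algebraMap Λ R (algebraMap k Λ c) ∈ maximalIdeal R)
  {B : Type u} [CommRing B] [Algebra Λ B] [IsLocalRing B] [IsArtinianRing B]
  (hB : ∀ b : B, ∃ c : k, b - algebraMap Λ B (algebraMap k Λ c) ∈ maximalIdeal B)
  (t : B) (htm : t ∈ maximalIdeal B) (htann : ∀ b ∈ maximalIdeal B, b * t = 0) (ht0 : t ≠ 0)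
  (φ : R →ₐ[Λ] B ⧸ Ideal.span {t})

/-- the fibre product `R ×_{B/tB} B` -/
def fibE : Subalgebra Λ (R × B) :=
  AlgHom.equalizer (φ.comp (AlgHom.fst Λ R B))
    ((Ideal.Quotient.mkₐ Λ (Ideal.span {t})).comp (AlgHom.snd Λ R B))

lemma mem_fibE (x : R × B) : x ∈ fibE t φ ↔ φ x.1 = Ideal.Quotient.mk _ x.2 := Iff.rfl

/-- first projection -/
noncomputable def fibProj : fibE t φ →ₐ[Λ] R := (AlgHom.fst Λ R B).comp (fibE t φ).val

lemma fibProj_apply (x : fibE t φ) : fibProj t φ x = (x : R × B).1 := rfl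

lemma zero_mul_mem_fibE (b : B) : ((0 : R), b * t) ∈ fibE t φ := by
  have h0 : Ideal.Quotient.mk (Ideal.span {t}) (b * t) = 0 :=
    Ideal.Quotient.eq_zero_iff_mem.mpr
      (Ideal.mul_mem_left (Ideal.span {t}) b (Ideal.mem_span_singleton_self t))
  have h : φ 0 = Ideal.Quotient.mk (Ideal.span {t}) (b * t) := by
    rw [map_zero, h0]
  exact (mem_fibE t φ ((0 : R), b * t)).mpr h

/-- `z ↦ (0, c_z t)` -/
noncomputable def fibIncl : ResidueField R →+ fibE t φ where
  toFun z := ⟨((0 : R), iota k Λ B ((eR hR).symm z) * t), zero_mul_mem_fibE t φ _⟩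
  map_zero' := Subtype.ext (Prod.ext rfl (by
    show iota k Λ B ((eR hR).symm 0) * t = 0
    rw [map_zero, map_zero, zero_mul]))
  map_add' z w := Subtype.ext (Prod.ext (by
    show (0 : R) = 0 + 0
    rw [add_zero]) (by
    show iota k Λ B ((eR hR).symm (z + w)) * t
      = iota k Λ B ((eR hR).symm z) * t + iota k Λ B ((eR hR).symm w) * t
    rw [map_add, map_add, add_mul]))

lemma coe_fibIncl (z : ResidueField R) :
    (fibIncl hR t φ z : R × B) = (0, iota k Λ B ((eR hR).symm z) * t) := rfl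

include hB htm htann ht0 in
lemma isExtension_fib : Exal.IsExtension (fibProj t φ) (fibIncl hR t φ) := by
  refine ⟨?_, ?_, ?_, ?_⟩
  · intro r
    obtain ⟨b, hb⟩ := Ideal.Quotient.mk_surjective (φ r)
    exact ⟨⟨(r, b), (mem_fibE t φ _).mpr hb.symm⟩, rfl⟩
  · rw [injective_iff_map_eq_zero]
    intro z hz
    have h1 : iota k Λ B ((eR hR).symm z) * t = 0 := by
      have := congrArg (fun x : fibE t φ => (x : R × B).2) hz
      exact this
    by_contra hz0
    have hc : (eR hR).symm z ≠ 0 := fun h => hz0 ((eR hR).symm.map_eq_zero_iff.mp h)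
    exact ht0 ((isUnit_iota hc).mul_right_eq_zero.mp h1)
  · intro x
    constructor
    · intro hx
      have hx1 : (x : R × B).1 = 0 := hx
      have hx2 : Ideal.Quotient.mk (Ideal.span {t}) (x : R × B).2 = 0 := by
        rw [← (mem_fibE t φ _).mp x.2, hx1, map_zero]
      obtain ⟨b', hb'⟩ := Ideal.mem_span_singleton'.mp (Ideal.Quotient.eq_zero_iff_mem.mp hx2)
      obtain ⟨c, hc⟩ := hB b'
      refine ⟨eR hR c, ?_⟩
      apply Subtype.ext
      rw [coe_fibIncl, RingEquiv.symm_apply_apply]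
      refine Prod.ext hx1.symm ?_
      show iota k Λ B c * t = (x : R × B).2
      have := htann _ hc
      rw [← hb', iota_apply]
      linear_combination -this
    · rintro ⟨z, rfl⟩
      rfl
  · intro x z
    obtain ⟨c, hc⟩ := hR (x : R × B).1
    have h1 : (x : R × B).2 - iota k Λ B c ∈ maximalIdeal B := by
      refine mem_maximalIdeal_of_phi_eq hB t htm φ ((x : R × B).1 - iota k Λ R c) hc _ ?_
      rw [map_sub, map_sub, (mem_fibE t φ _).mp x.2, iota_apply, AlgHom.commutes]
      rfl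
    have h2 := htann _ h1
    have h3 : fibProj t φ x • z = eR hR (c * (eR hR).symm z) := by
      rw [Algebra.smul_def, ResidueField.algebraMap_eq, fibProj_apply,
        residue_eq_eR hR (c := c) hc, map_mul, RingEquiv.apply_symm_apply]
    apply Subtype.ext
    rw [h3, coe_fibIncl, RingEquiv.symm_apply_apply, Subalgebra.coe_mul, coe_fibIncl]
    refine Prod.ext ?_ ?_
    · show (x : R × B).1 * 0 = 0
      rw [mul_zero]
    · show (x : R × B).2 * (iota k Λ B ((eR hR).symm z) * t)
        = iota k Λ B (c * (eR hR).symm z) * t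
      rw [map_mul]
      linear_combination (iota k Λ B ((eR hR).symm z)) * h2

include hR hB htm htann in
theorem lifting_of_trivial
    (ha : ∀ X : Exal.Ext Λ R (ResidueField R), X.IsTrivial) :
    ∃ φ' : R →ₐ[Λ] B, (Ideal.Quotient.mkₐ Λ (Ideal.span {t})).comp φ' = φ := by
  by_cases ht0 : t = 0
  · have hbij : Function.Bijective (Ideal.Quotient.mkₐ Λ (Ideal.span {t})) := by
      refine ⟨?_, Ideal.Quotient.mk_surjective⟩
      rw [injective_iff_map_eq_zero]
      intro b hb
      have : b ∈ Ideal.span {t} := Ideal.Quotient.eq_zero_iff_mem.mp hb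
      rw [ht0, Ideal.span_singleton_eq_bot.mpr rfl] at this
      exact this
    refine ⟨((AlgEquiv.ofBijective _ hbij).symm : _ →ₐ[Λ] B).comp φ, ?_⟩
    ext r
    exact (AlgEquiv.ofBijective _ hbij).apply_symm_apply (φ r)
  · obtain ⟨s, hs⟩ := ha ⟨fibE t φ, fibProj t φ, fibIncl hR t φ,
      isExtension_fib hR hB t htm htann ht0 φ⟩
    refine ⟨(AlgHom.snd Λ R B).comp ((fibE t φ).val.comp s), ?_⟩
    ext r
    have h1 : ((s r : fibE t φ) : R × B).1 = r := hs r
    have h2 := (mem_fibE t φ _).mp (s r).2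
    rw [h1] at h2
    exact h2.symm

end ABext

/-- Let k be an algebraically closed field, Λ a local Noetherian k-algebra with residue field k, and R a
local Noetherian Λ-algebra, with local structure map and residue field k. The following are
equivalent: (a) every Λ-extension of R by its residue field k is trivial, i.e. the relative
obstruction space o(R/Λ) = Ex_Λ(R, k) vanishes; (b) for every local Artinian Λ-algebra B with
residue field k and every t in the maximal ideal of B annihilated by the maximal ideal, every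
Λ-algebra map R → B/tB lifts to a Λ-algebra map R → B (formal smoothness of R over Λ tested on small
extensions of Artinian rings). The test algebras B range over the universe of R. -/
theorem result
    {k : Type u} [Field k] [IsAlgClosed k]
    {Λ : Type u} [CommRing Λ] [Algebra k Λ] [IsLocalRing Λ] [IsNoetherianRing Λ]
    (hΛ : ∀ a : Λ, ∃ c : k, a - algebraMap k Λ c ∈ IsLocalRing.maximalIdeal Λ)
    {R : Type u} [CommRing R] [Algebra Λ R] [IsLocalRing R] [IsNoetherianRing R]
    [IsLocalHom (algebraMap Λ R)]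
    (hR : ∀ r : R, ∃ c : k, r - algebraMap Λ R (algebraMap k Λ c) ∈ IsLocalRing.maximalIdeal R) :
    (∀ X : Exal.Ext Λ R (IsLocalRing.ResidueField R), X.IsTrivial) ↔
    (∀ (B : Type u) [CommRing B] [Algebra Λ B] [IsLocalRing B] [IsArtinianRing B],
      (∀ b : B, ∃ c : k, b - algebraMap Λ B (algebraMap k Λ c) ∈ IsLocalRing.maximalIdeal B) →
      ∀ t : B, t ∈ IsLocalRing.maximalIdeal B → (∀ b ∈ IsLocalRing.maximalIdeal B, b * t = 0) →
      ∀ φ : R →ₐ[Λ] B ⧸ Ideal.span {t},
        ∃ φ' : R →ₐ[Λ] B, (Ideal.Quotient.mkₐ Λ (Ideal.span {t})).comp φ' = φ) := by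
  constructor
  · intro ha B _ _ _ _ hB t htm htann φ
    exact lifting_of_trivial hR hB t htm htann φ ha
  · intro hb X
    obtain ⟨n, hn⟩ := exists_pow_mE_inf_ker (Λ := Λ) (R := R)
    exact isTrivial_of_lifting hR X n (hn X) hb

end Groth.Agent.S11281
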