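import Groth.Statements.S11283
import Groth.Agent.H56.ExalAR
import Groth.Agent.H56.ExalBaer
import Groth.Agent.H20.ComplNoeth2
-- import your own Groth.Agent.* helpers here

set_option autoImplicit false
universe u
open Deform

namespace Groth.Agent.S11283

open Exal Groth.Agent.H29.ExalL Groth.Agent.H56.ExalAR Groth.Agent.H56.ExalBaer

section Simple

/-- an element `x` with all `1 - r x` invertible kills every simple module -/
lemma smul_eq_zero_of_forall_isUnit {R : Type*} [CommRing R] {L : Type*} [AddCommGroup L]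
    [Module R L] [IsSimpleModule R L] (x : R) (hx : ∀ r : R, IsUnit (1 - r * x)) (z : L) :
    x • z = 0 := by
  by_contra h
  obtain ⟨r, hr⟩ := IsSimpleModule.toSpanSingleton_surjective R h z
  rw [LinearMap.toSpanSingleton_apply, ← mul_smul] at hr
  have h2 : (1 - r * x) • z = 0 := by rw [sub_smul, one_smul, hr, sub_self]
  have hz : z = 0 := (hx r).smul_left_cancel.mp (h2.trans (smul_zero _).symm)
  exact h (by rw [hz, smul_zero])

lemma maximalIdeal_smul_eq_zero {R : Type*} [CommRing R] [IsLocalRing R] {L : Type*}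
    [AddCommGroup L] [Module R L] [IsSimpleModule R L] (m : R)
    (hm : m ∈ IsLocalRing.maximalIdeal R) (z : L) : m • z = 0 := by
  refine smul_eq_zero_of_forall_isUnit m (fun r => ?_) z
  by_contra hnu
  have h1 : 1 - r * m ∈ IsLocalRing.maximalIdeal R := hnu
  have h2 : r * m ∈ IsLocalRing.maximalIdeal R := Ideal.mul_mem_left _ _ hm
  have h3 : (1 : R) ∈ IsLocalRing.maximalIdeal R := by
    have := add_mem h1 h2
    rwa [sub_add_cancel] at this
  exact (IsLocalRing.maximalIdeal.isMaximal R).ne_top ((Ideal.eq_top_iff_one _).mpr h3)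

end Simple

section Completion

variable {R : Type u} [CommRing R] (I : Ideal R) {L : Type u} [AddCommGroup L]
  [Module (AdicCompletion I R) L] [Module R L] [IsScalarTower R (AdicCompletion I R) L]

lemma map_smul_eq_zero (hL : ∀ m ∈ I, ∀ z : L, m • z = 0) (a : AdicCompletion I R)
    (ha : a ∈ Ideal.map (algebraMap R (AdicCompletion I R)) I) (z : L) : a • z = 0 := by
  have hle : Ideal.map (algebraMap R (AdicCompletion I R)) I
      ≤ Module.annihilator (AdicCompletion I R) L := by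
    rw [Ideal.map_le_iff_le_comap]
    intro m hm
    rw [Ideal.mem_comap, Module.mem_annihilator]
    intro z
    rw [algebraMap_smul]
    exact hL m hm z
  exact Module.mem_annihilator.mp (hle ha) z

omit [Module (AdicCompletion I R) L] [Module R L] [IsScalarTower R (AdicCompletion I R) L] in
lemma mem_map_pow_of_evalₐ_eq_zero (hfg : I.FG) (N : ℕ) (x : AdicCompletion I R)
    (hx : AdicCompletion.evalₐ I N x = 0) :
    x ∈ Ideal.map (algebraMap R (AdicCompletion I R)) I ^ N := by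
  rw [← Ideal.map_pow, ← Submodule.restrictScalars_mem R, ← Ideal.smul_top_eq_map,
    AdicCompletion.pow_smul_top_eq_ker_eval hfg, LinearMap.mem_ker,
    ← AdicCompletion.factor_evalₐ_eq_eval I x (Ideal.mul_top _).ge, hx, map_zero]

/-- every `R`-extension of the completion by a module killed by `I` is trivial -/
theorem completion_isTrivial [IsNoetherianRing R] (hL : ∀ m ∈ I, ∀ z : L, m • z = 0)
    (Z : Exal.Ext R (AdicCompletion I R) L) : Z.IsTrivial := by
  obtain ⟨n, hn⟩ := exists_pow_inf_ker (A := R) (map_smul_eq_zero I hL)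
  set J : Ideal (AdicCompletion I R) := Ideal.map (algebraMap R (AdicCompletion I R)) I with hJ
  have hmap : Ideal.map (algebraMap R Z.E) I ≤ nE J Z := by
    rw [Ideal.map_le_iff_le_comap]
    intro m hm
    show Z.proj (algebraMap R Z.E m) ∈ J
    rw [AlgHom.commutes]
    exact Ideal.mem_map_of_mem _ hm
  have h0 : ∀ a ∈ I ^ (n + 1), (Algebra.ofId R (Z.E ⧸ nE J Z ^ (n + 1))) a = 0 := by
    intro a ha
    show Ideal.Quotient.mk _ (algebraMap R Z.E a) = 0
    rw [Ideal.Quotient.eq_zero_iff_mem]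
    have h1 := Ideal.mem_map_of_mem (algebraMap R Z.E) ha
    rw [Ideal.map_pow] at h1
    exact Ideal.pow_right_mono hmap (n + 1) h1
  let ψ₁ : (R ⧸ I ^ (n + 1)) →ₐ[R] Z.E ⧸ nE J Z ^ (n + 1) :=
    Ideal.Quotient.liftₐ (I ^ (n + 1)) (Algebra.ofId R (Z.E ⧸ nE J Z ^ (n + 1))) h0
  refine isTrivial_of_quotient_lift Z (nE J Z ^ (n + 1)) (hn Z)
    (ψ₁.comp (AdicCompletion.evalₐ I (n + 1))) ?_
  intro b
  obtain ⟨r, hr⟩ := Ideal.Quotient.mk_surjective (AdicCompletion.evalₐ I (n + 1) b)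
  have h1 : b - algebraMap R (AdicCompletion I R) r ∈ J ^ (n + 1) := by
    refine mem_map_pow_of_evalₐ_eq_zero I (IsNoetherian.noetherian I) (n + 1) _ ?_
    rw [map_sub, AlgHom.commutes, ← hr, sub_eq_zero]
    rfl
  rw [← map_nE_pow J Z (n + 1)] at h1
  obtain ⟨e₁, he₁, he₁'⟩ :=
    (Ideal.mem_map_iff_of_surjective Z.proj Z.isExtension.proj_surjective).mp h1
  refine ⟨algebraMap R Z.E r + e₁, ?_, ?_⟩
  · rw [map_add, AlgHom.commutes, he₁']
    ring
  · rw [map_add, Ideal.Quotient.eq_zero_iff_mem.mpr he₁, add_zero, AlgHom.comp_apply, ← hr]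
    rfl

end Completion

section Descend

variable {Λ : Type u} [CommRing Λ] {R : Type u} [CommRing R] [Algebra Λ R] (I : Ideal R)
  {L : Type u} [AddCommGroup L]
  [Module (AdicCompletion I R) L] [Module R L] [IsScalarTower R (AdicCompletion I R) L]
  (Y : Exal.Ext Λ R L) (N : ℕ)

/-- `E/I_Y → R/I^N` -/
noncomputable def qbar : (Y.E ⧸ nE I Y ^ N) →ₐ[Λ] R ⧸ I ^ N :=
  Ideal.quotientMapₐ (I ^ N) Y.proj (by
    rw [← Ideal.map_le_iff_le_comap, map_nE_pow])

lemma qbar_mk (y : Y.E) : qbar I Y N (Ideal.Quotient.mk _ y) = Ideal.Quotient.mk _ (Y.proj y) :=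
  Ideal.quotient_map_mkₐ _ _ _

/-- `R^ → R/I^N` over `Λ` -/
noncomputable def ev : AdicCompletion I R →ₐ[Λ] R ⧸ I ^ N :=
  (AdicCompletion.evalₐ I N).restrictScalars Λ

lemma ev_apply (b : AdicCompletion I R) : ev (Λ := Λ) I N b = AdicCompletion.evalₐ I N b := rfl

lemma ev_algebraMap (r : R) :
    ev (Λ := Λ) I N (algebraMap R (AdicCompletion I R) r) = Ideal.Quotient.mk _ r := by
  rw [ev_apply, AlgHom.commutes]
  rfl

/-- the middle ring `(E/I_Y) ×_{R/I^N} R^` -/
noncomputable def XE : Subalgebra Λ ((Y.E ⧸ nE I Y ^ N) × AdicCompletion I R) :=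
  AlgHom.equalizer ((qbar I Y N).comp (AlgHom.fst Λ _ _)) ((ev I N).comp (AlgHom.snd Λ _ _))

lemma mem_XE (x : (Y.E ⧸ nE I Y ^ N) × AdicCompletion I R) :
    x ∈ XE I Y N ↔ qbar I Y N x.1 = ev (Λ := Λ) I N x.2 := Iff.rfl

/-- projection to the completion -/
noncomputable def projX : XE I Y N →ₐ[Λ] AdicCompletion I R :=
  (AlgHom.snd Λ _ _).comp (XE I Y N).val

lemma projX_apply (x : XE I Y N) :
    projX I Y N x = (x : (Y.E ⧸ nE I Y ^ N) × AdicCompletion I R).2 := rfl

lemma incl_mem_XE (z : L) :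
    ((Ideal.Quotient.mk (nE I Y ^ N) (Y.incl z), (0 : AdicCompletion I R))) ∈ XE I Y N := by
  rw [mem_XE, qbar_mk, proj_incl, map_zero, map_zero]

/-- inclusion of `L` -/
noncomputable def inclX : L →+ XE I Y N where
  toFun z := ⟨(Ideal.Quotient.mk (nE I Y ^ N) (Y.incl z), 0), incl_mem_XE I Y N z⟩
  map_zero' := Subtype.ext (Prod.ext (by
    show Ideal.Quotient.mk (nE I Y ^ N) (Y.incl 0) = 0
    rw [map_zero, map_zero]) rfl)
  map_add' z w := Subtype.ext (Prod.ext (by
    show Ideal.Quotient.mk (nE I Y ^ N) (Y.incl (z + w))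
      = Ideal.Quotient.mk (nE I Y ^ N) (Y.incl z) + Ideal.Quotient.mk (nE I Y ^ N) (Y.incl w)
    rw [map_add, map_add]) (by
    show (0 : AdicCompletion I R) = 0 + 0
    rw [add_zero]))

lemma coe_inclX (z : L) :
    (inclX I Y N z : (Y.E ⧸ nE I Y ^ N) × AdicCompletion I R)
      = (Ideal.Quotient.mk (nE I Y ^ N) (Y.incl z), 0) := rfl

/-- elements of `R^` and `R` with the same image in `R/I^N` act in the same way on `L` -/
lemma smul_eq_of_ev_eq (hfg : I.FG) (hL : ∀ m ∈ I, ∀ z : L, m • z = 0) (hN : 1 ≤ N)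
    (b : AdicCompletion I R) (r : R)
    (h : Ideal.Quotient.mk (I ^ N) r = AdicCompletion.evalₐ I N b) (z : L) : b • z = r • z := by
  have h1 : b - algebraMap R (AdicCompletion I R) r
      ∈ Ideal.map (algebraMap R (AdicCompletion I R)) I ^ N := by
    refine mem_map_pow_of_evalₐ_eq_zero I hfg N _ ?_
    rw [map_sub, AlgHom.commutes, ← h, sub_eq_zero]
    rfl
  have h2 := map_smul_eq_zero I hL _ (Ideal.pow_le_self (by omega) h1) z
  rw [sub_smul, algebraMap_smul, sub_eq_zero] at h2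
  exact h2

lemma exists_sub_mem (y : Y.E) (r : R)
    (h : Ideal.Quotient.mk (I ^ N) (Y.proj y) = Ideal.Quotient.mk (I ^ N) r) :
    ∃ y₁ ∈ nE I Y ^ N, Y.proj (y - y₁) = r := by
  have h1 : Y.proj y - r ∈ I ^ N := Ideal.Quotient.eq.mp h
  rw [← map_nE_pow I Y N] at h1
  obtain ⟨y₁, hy₁, hy₁'⟩ :=
    (Ideal.mem_map_iff_of_surjective Y.proj Y.isExtension.proj_surjective).mp h1
  refine ⟨y₁, hy₁, ?_⟩
  rw [map_sub, hy₁']
  ring

theorem isExtension_X (hfg : I.FG) (hL : ∀ m ∈ I, ∀ z : L, m • z = 0) (hN : 1 ≤ N)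
    (hn : ∀ e ∈ nE I Y ^ N, Y.proj e = 0 → e = 0) :
    Exal.IsExtension (projX I Y N) (inclX I Y N) := by
  refine ⟨?_, ?_, ?_, ?_⟩
  · intro b
    obtain ⟨r, hr⟩ := Ideal.Quotient.mk_surjective (AdicCompletion.evalₐ I N b)
    obtain ⟨y, hy⟩ := Y.isExtension.proj_surjective r
    refine ⟨⟨(Ideal.Quotient.mk _ y, b), ?_⟩, rfl⟩
    rw [mem_XE, qbar_mk, hy, hr]
    rfl
  · rw [injective_iff_map_eq_zero]
    intro z hz
    have h1 : Ideal.Quotient.mk (nE I Y ^ N) (Y.incl z) = 0 := by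
      have := congrArg (fun x : XE I Y N =>
        (x : (Y.E ⧸ nE I Y ^ N) × AdicCompletion I R).1) hz
      exact this
    have h2 := hn _ (Ideal.Quotient.eq_zero_iff_mem.mp h1) (proj_incl Y z)
    exact Y.isExtension.incl_injective (by rw [h2, map_zero])
  · intro x
    constructor
    · intro hx
      have hx2 : (x : (Y.E ⧸ nE I Y ^ N) × AdicCompletion I R).2 = 0 := hx
      obtain ⟨y, hy⟩ := Ideal.Quotient.mk_surjective
        (x : (Y.E ⧸ nE I Y ^ N) × AdicCompletion I R).1
      have h1 : Ideal.Quotient.mk (I ^ N) (Y.proj y) = Ideal.Quotient.mk (I ^ N) 0 := by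
        rw [← qbar_mk, hy, (mem_XE I Y N _).mp x.2, hx2, map_zero, map_zero]
      obtain ⟨y₁, hy₁, hy₁'⟩ := exists_sub_mem I Y N y 0 h1
      obtain ⟨z, hz⟩ := (Y.isExtension.exact _).mp hy₁'
      refine ⟨z, ?_⟩
      apply Subtype.ext
      rw [coe_inclX]
      refine Prod.ext ?_ hx2.symm
      show Ideal.Quotient.mk (nE I Y ^ N) (Y.incl z) = _
      rw [hz, ← hy, map_sub, Ideal.Quotient.eq_zero_iff_mem.mpr hy₁, sub_zero]
    · rintro ⟨z, rfl⟩
      rfl
  · intro x z
    obtain ⟨y, hy⟩ := Ideal.Quotient.mk_surjective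
      (x : (Y.E ⧸ nE I Y ^ N) × AdicCompletion I R).1
    have h1 : Ideal.Quotient.mk (I ^ N) (Y.proj y)
        = AdicCompletion.evalₐ I N (x : (Y.E ⧸ nE I Y ^ N) × AdicCompletion I R).2 := by
      rw [← qbar_mk, hy, (mem_XE I Y N _).mp x.2]
      rfl
    have h2 : projX I Y N x • z = Y.proj y • z :=
      smul_eq_of_ev_eq I N hfg hL hN _ _ h1 z
    apply Subtype.ext
    rw [h2, coe_inclX, Subalgebra.coe_mul, coe_inclX]
    refine Prod.ext ?_ ?_
    · show (x : (Y.E ⧸ nE I Y ^ N) × AdicCompletion I R).1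
        * Ideal.Quotient.mk (nE I Y ^ N) (Y.incl z) = Ideal.Quotient.mk _ (Y.incl (Y.proj y • z))
      rw [← hy, ← map_mul, Y.isExtension.mul_incl]
    · show (x : (Y.E ⧸ nE I Y ^ N) × AdicCompletion I R).2 * 0 = 0
      rw [mul_zero]

end Descend

section Compare

variable {Λ : Type u} [CommRing Λ] {R : Type u} [CommRing R] [Algebra Λ R] (I : Ideal R)
  {L : Type u} [AddCommGroup L]
  [Module (AdicCompletion I R) L] [Module R L] [IsScalarTower R (AdicCompletion I R) L]
  (Y : Exal.Ext Λ R L) (N : ℕ)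
  (hX : Exal.IsExtension (projX I Y N) (inclX I Y N))

/-- the extension of the completion built from `Y` -/
noncomputable def extX : Exal.Ext Λ (AdicCompletion I R) L :=
  ⟨XE I Y N, projX I Y N, inclX I Y N, hX⟩

/-- `Y.E → X.E`, `y ↦ (ȳ, p y)` -/
noncomputable def g₁ : Y.E →ₐ[Λ] XE I Y N :=
  AlgHom.codRestrict (AlgHom.prod (Ideal.Quotient.mkₐ Λ (nE I Y ^ N))
    ((IsScalarTower.toAlgHom Λ R (AdicCompletion I R)).comp Y.proj)) (XE I Y N) (fun y => by
      rw [mem_XE]
      show qbar I Y N (Ideal.Quotient.mk _ y)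
        = ev (Λ := Λ) I N (algebraMap R (AdicCompletion I R) (Y.proj y))
      rw [qbar_mk, ev_algebraMap])

lemma coe_g₁ (y : Y.E) : (g₁ I Y N y : (Y.E ⧸ nE I Y ^ N) × AdicCompletion I R)
    = (Ideal.Quotient.mk _ y, algebraMap R (AdicCompletion I R) (Y.proj y)) := rfl

/-- `g₁` with values in the middle ring of `extX` -/
noncomputable def g₁' : Y.E →ₐ[Λ] (extX I Y N hX).E := g₁ I Y N

/-- `Y.E → (X.pullback R).E` -/
noncomputable def gg : Y.E →ₐ[Λ] ((extX I Y N hX).pullback R).E :=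
  AlgHom.codRestrict (AlgHom.prod (g₁' I Y N hX) Y.proj) ((extX I Y N hX).fiberProd R)
    (fun y => by
      rw [mem_fiberProd]
      rfl)

lemma pbVal_gg (y : Y.E) : pbVal (extX I Y N hX) (gg I Y N hX y) = (g₁ I Y N y, Y.proj y) := rfl

lemma gg_bijective (hn : ∀ e ∈ nE I Y ^ N, Y.proj e = 0 → e = 0) :
    Function.Bijective (gg I Y N hX) := by
  constructor
  · rw [injective_iff_map_eq_zero]
    intro y hy
    have h1 := congrArg (pbVal (extX I Y N hX)) hy
    rw [pbVal_gg, map_zero] at h1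
    have h2 : Y.proj y = 0 := congrArg Prod.snd h1
    have h3 : g₁ I Y N y = 0 := congrArg Prod.fst h1
    have h4 : Ideal.Quotient.mk (nE I Y ^ N) y = 0 := by
      have := congrArg (fun x : XE I Y N =>
        (x : (Y.E ⧸ nE I Y ^ N) × AdicCompletion I R).1) h3
      exact this
    exact hn y (Ideal.Quotient.eq_zero_iff_mem.mp h4) h2
  · intro w
    have hw := pbVal_mem (extX I Y N hX) w
    set x : XE I Y N := (pbVal (extX I Y N hX) w).1 with hx
    set r : R := (pbVal (extX I Y N hX) w).2 with hr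
    have hw' : (x : (Y.E ⧸ nE I Y ^ N) × AdicCompletion I R).2
        = algebraMap R (AdicCompletion I R) r := hw
    obtain ⟨y₀, hy₀⟩ := Ideal.Quotient.mk_surjective
      (x : (Y.E ⧸ nE I Y ^ N) × AdicCompletion I R).1
    have h1 : Ideal.Quotient.mk (I ^ N) (Y.proj y₀) = Ideal.Quotient.mk (I ^ N) r := by
      rw [← qbar_mk, hy₀, (mem_XE I Y N _).mp x.2, hw', ev_algebraMap]
    obtain ⟨y₁, hy₁, hy₁'⟩ := exists_sub_mem I Y N y₀ r h1
    refine ⟨y₀ - y₁, ?_⟩
    apply Subtype.ext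
    show (g₁ I Y N (y₀ - y₁), Y.proj (y₀ - y₁)) = pbVal (extX I Y N hX) w
    refine Prod.ext ?_ ?_
    · apply Subtype.ext
      show (g₁ I Y N (y₀ - y₁) : (Y.E ⧸ nE I Y ^ N) × AdicCompletion I R)
        = (x : (Y.E ⧸ nE I Y ^ N) × AdicCompletion I R)
      rw [coe_g₁]
      refine Prod.ext ?_ ?_
      · show Ideal.Quotient.mk (nE I Y ^ N) (y₀ - y₁) = _
        rw [map_sub, Ideal.Quotient.eq_zero_iff_mem.mpr hy₁, sub_zero, hy₀]
      · show algebraMap R (AdicCompletion I R) (Y.proj (y₀ - y₁)) = _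
        rw [hy₁', hw']
    · exact hy₁'

/-- the equivalence `Y ≃ X.pullback R` -/
noncomputable def equivPullback (hn : ∀ e ∈ nE I Y ^ N, Y.proj e = 0 → e = 0) :
    Y.Equiv ((extX I Y N hX).pullback R) where
  toAlgEquiv := AlgEquiv.ofBijective (gg I Y N hX) (gg_bijective I Y N hX hn)
  proj_apply y := rfl
  apply_incl z := by
    show gg I Y N hX (Y.incl z) = _
    apply Subtype.ext
    show (g₁ I Y N (Y.incl z), Y.proj (Y.incl z)) = ((extX I Y N hX).incl z, (0 : R))
    refine Prod.ext ?_ (proj_incl Y z)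
    apply Subtype.ext
    show (g₁ I Y N (Y.incl z) : (Y.E ⧸ nE I Y ^ N) × AdicCompletion I R)
      = (inclX I Y N z : (Y.E ⧸ nE I Y ^ N) × AdicCompletion I R)
    rw [coe_g₁, coe_inclX, proj_incl, map_zero]

end Compare

/-- Let k be an algebraically closed field, Λ a complete local Noetherian k-algebra with residue field
k, R a local Noetherian Λ-algebra with local structure map and residue field k, and R̂ the
completion of R at its maximal ideal. Let L be a simple R-module (a one-dimensional k-vector space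
on which R acts through its residue field) carrying a compatible R̂-module structure. Then inverse
image of Λ-extensions along R → R̂ induces a bijection o(R̂/Λ) → o(R/Λ) on classes of Λ-extensions
by L: two Λ-extensions of R̂ by L whose inverse images over R are equivalent are equivalent, and
every Λ-extension of R by L is equivalent to the inverse image of one of R̂. -/
theorem result
    {k : Type u} [Field k] [IsAlgClosed k]
    {Λ : Type u} [CommRing Λ] [Algebra k Λ] [IsLocalRing Λ] [IsNoetherianRing Λ]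
    [IsAdicComplete (IsLocalRing.maximalIdeal Λ) Λ]
    (hΛ : ∀ a : Λ, ∃ c : k, a - algebraMap k Λ c ∈ IsLocalRing.maximalIdeal Λ)
    {R : Type u} [CommRing R] [Algebra Λ R] [IsLocalRing R] [IsNoetherianRing R]
    [IsLocalHom (algebraMap Λ R)]
    (hR : ∀ r : R, ∃ c : k, r - algebraMap Λ R (algebraMap k Λ c) ∈ IsLocalRing.maximalIdeal R)
    (L : Type u) [AddCommGroup L] [Module (AdicCompletion (IsLocalRing.maximalIdeal R) R) L] [Module R L]
    [IsScalarTower R (AdicCompletion (IsLocalRing.maximalIdeal R) R) L] [IsSimpleModule R L] :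
    (∀ X X' : Exal.Ext Λ (AdicCompletion (IsLocalRing.maximalIdeal R) R) L,
        Nonempty ((X.pullback R).Equiv (X'.pullback R)) → Nonempty (X.Equiv X')) ∧
    (∀ Y : Exal.Ext Λ R L, ∃ X : Exal.Ext Λ (AdicCompletion (IsLocalRing.maximalIdeal R) R) L,
        Nonempty ((X.pullback R).Equiv Y)) := by
  have hL : ∀ m ∈ IsLocalRing.maximalIdeal R, ∀ z : L, m • z = 0 :=
    fun m hm z => maximalIdeal_smul_eq_zero m hm z
  have hfg : (IsLocalRing.maximalIdeal R).FG := IsNoetherian.noetherian _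
  refine ⟨fun X X' h => ?_, fun Y => ?_⟩
  · exact equiv_of_pullback_equiv X X' h.some (fun Z => completion_isTrivial _ hL Z)
  · obtain ⟨n, hn⟩ := exists_pow_inf_ker (A := Λ) (B := R) (I := IsLocalRing.maximalIdeal R) hL
    have hX := isExtension_X (IsLocalRing.maximalIdeal R) Y (n + 1) hfg hL (by omega) (hn Y)
    exact ⟨extX _ Y (n + 1) hX, ⟨(equivPullback _ Y (n + 1) hX (hn Y)).symm⟩⟩

end Groth.Agent.S11283
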