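import Groth.Statements.S11284
import Mathlib.RingTheory.Kaehler.JacobiZariski
import Mathlib.RingTheory.Smooth.Locus
-- import your own Groth.Agent.* helpers here

set_option autoImplicit false
universe u
open Deform

namespace Groth.Agent.S11284

open Algebra in
/-- An element of a projective module over a reduced ring which is killed, for every minimal
prime `p`, by some element outside `p`, is zero. -/
theorem eq_zero_of_projective_of_isReduced {B N : Type*} [CommRing B] [IsReduced B]
    [AddCommGroup N] [Module B N] [Module.Projective B N] (c : N)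
    (h : ∀ p : Ideal B, p ∈ minimalPrimes B → ∃ s : B, s ∉ p ∧ s • c = 0) : c = 0 := by
  obtain ⟨σ, hσ⟩ := (Module.projective_def' (R := B) (P := N)).mp inferInstance
  have h0 : σ c = 0 := by
    ext n
    have hmem : (σ c) n ∈ sInf (minimalPrimes B) := by
      rw [Ideal.mem_sInf]
      intro p hp
      obtain ⟨s, hs, hsc⟩ := h p hp
      have hprime : p.IsPrime := hp.1.1
      have h1 : s * (σ c) n = 0 := by
        have := congrArg (fun f => f n) (congrArg σ hsc)
        simpa using this
      have h2 : s * (σ c) n ∈ p := by rw [h1]; exact p.zero_mem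
      exact (hprime.mem_or_mem h2).resolve_left hs
    have hrad : sInf (minimalPrimes B) = (⊥ : Ideal B) := by
      rw [minimalPrimes, Ideal.sInf_minimalPrimes]
      exact (nilradical_eq_zero B)
    rw [hrad] at hmem
    simpa using hmem
  have := congrArg (fun f => f c) hσ
  simpa [h0] using this.symm

/-- Let k be an algebraically closed field and A → B a map of finitely generated k-algebras with B
reduced and smooth over A at every minimal prime of B (the morphism Spec B → Spec A is smooth on a
dense open subset). Let E → B be a surjection of A-algebras whose kernel I has square zero and is,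
as a B-module, finitely generated and projective (an extension of B over A by a locally free
module). Then the conormal map I = I/I^2 → B ⊗_E Ω_{E/A} is injective, so that the relative conormal
sequence 0 → I → B ⊗_E Ω_{E/A} → Ω_{B/A} → 0 of the extension is exact also on the left. This is the
affine case of the statement for a morphism of finite type of algebraic schemes and a coherent
locally free kernel. -/
theorem result
    {k : Type u} [Field k] [IsAlgClosed k]
    {A B : Type u} [CommRing A] [CommRing B] [Algebra k A] [Algebra k B] [Algebra A B]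
    [IsScalarTower k A B] [Algebra.FiniteType k A] [Algebra.FiniteType k B] [IsReduced B]
    (hsm : ∀ p : PrimeSpectrum B, p.asIdeal ∈ minimalPrimes B → Algebra.IsSmoothAt A p.asIdeal)
    (P : Algebra.Extension.{u} A B) (hsq : P.ker ^ 2 = ⊥)
    [Module.Finite B P.Cotangent] [Module.Projective B P.Cotangent] :
    Function.Injective P.cotangentComplex := by
  classical
  rw [injective_iff_map_eq_zero]
  intro c hc
  obtain ⟨x, rfl⟩ := Algebra.Extension.Cotangent.mk_surjective c
  apply eq_zero_of_projective_of_isReduced (B := B)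
  intro p hp
  have hpprime : p.IsPrime := hp.1.1
  have hx : (1 : B) ⊗ₜ[P.Ring] KaehlerDifferential.D A P.Ring x.1 = 0 := by
    simpa using hc
  let Q := Algebra.Generators.self P.Ring B
  have hCx : MvPolynomial.C x.1 ∈ Q.ker := by
    rw [Algebra.Generators.ker_eq_ker_aeval_val, RingHom.mem_ker, MvPolynomial.aeval_C]
    exact x.2
  let h : Algebra.H1Cotangent P.Ring B :=
    ⟨Algebra.Extension.Cotangent.mk ⟨MvPolynomial.C x.1, hCx⟩,
      Algebra.Extension.Cotangent.mk_C_mem_ker_cotangentComplex Q hCx⟩
  have hδ : Algebra.H1Cotangent.δ A P.Ring B h = 0 := by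
    rw [Algebra.H1Cotangent.δ]
    rw [Algebra.Generators.H1Cotangent.δ_C]
    exact hx
  obtain ⟨y, hy⟩ := (Algebra.H1Cotangent.exact_map_δ A P.Ring B h).mp hδ
  have hft : Algebra.FiniteType A B := Algebra.FiniteType.of_restrictScalars_finiteType k A B
  have hp' : (⟨p, hpprime⟩ : PrimeSpectrum B) ∉ Module.support B (Algebra.H1Cotangent A B) := by
    have h2 : (⟨p, hpprime⟩ : PrimeSpectrum B) ∈ Algebra.smoothLocus A B := hsm ⟨p, hpprime⟩ hp
    rw [Algebra.smoothLocus_eq_compl_support_inter] at h2
    exact h2.1
  rw [Module.notMem_support_iff'] at hp'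
  obtain ⟨s, hs, hsy⟩ := hp' y
  refine ⟨s, hs, ?_⟩
  have hsh : s • h = 0 := by rw [← hy, ← map_smul, hsy, map_zero]
  have h3 : s • (Algebra.Extension.Cotangent.mk ⟨MvPolynomial.C x.1, hCx⟩ :
      Q.toExtension.Cotangent) = 0 := congrArg Subtype.val hsh
  have h4 : (Q.σ s * MvPolynomial.C x.1 : MvPolynomial B P.Ring) ∈ Q.ker ^ 2 := by
    have h30 : s • (Algebra.Extension.Cotangent.mk ⟨MvPolynomial.C x.1, hCx⟩ :
        Q.toExtension.Cotangent)
        = Algebra.Extension.Cotangent.mk (Q.toExtension.σ s • ⟨MvPolynomial.C x.1, hCx⟩) := by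
      apply Algebra.Extension.Cotangent.ext
      rw [Algebra.Extension.Cotangent.val_smul, map_smul, Algebra.Extension.Cotangent.val_smul']
    rw [h30, Algebra.Extension.Cotangent.mk_eq_zero_iff] at h3
    exact h3
  let ψ : MvPolynomial B P.Ring →ₐ[P.Ring] P.Ring := MvPolynomial.aeval P.σ
  have hψ : ∀ f, algebraMap P.Ring B (ψ f) = MvPolynomial.aeval Q.val f := by
    intro f
    have h40 : (IsScalarTower.toAlgHom P.Ring P.Ring B).comp ψ = MvPolynomial.aeval Q.val := by
      apply MvPolynomial.algHom_ext
      intro b
      simp [ψ, Q]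
    exact DFunLike.congr_fun h40 f
  have hker : Q.ker ≤ P.ker.comap ψ := by
    intro f hf
    rw [Algebra.Generators.ker_eq_ker_aeval_val, RingHom.mem_ker] at hf
    rw [Ideal.mem_comap, Algebra.Extension.ker, RingHom.mem_ker, hψ, hf]
  have hker2 : Q.ker ^ 2 ≤ (P.ker ^ 2).comap ψ :=
    (Ideal.pow_right_mono hker 2).trans (Ideal.le_comap_pow _ 2)
  have h5 := hker2 h4
  rw [Ideal.mem_comap, map_mul] at h5
  have h6 : ψ (MvPolynomial.C x.1) = x.1 := by simp [ψ]
  rw [h6] at h5
  have h7 : ψ (Q.σ s) - P.σ s ∈ P.ker := by
    rw [Algebra.Extension.ker, RingHom.mem_ker, map_sub, hψ, P.algebraMap_σ, sub_eq_zero]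
    exact Q.aeval_val_σ s
  have h8 : P.σ s * x.1 ∈ P.ker ^ 2 := by
    have h80 : P.σ s * x.1 =
        ψ (Q.σ s) * x.1 - (ψ (Q.σ s) - P.σ s) * x.1 := by ring
    rw [h80]
    refine Ideal.sub_mem _ h5 ?_
    rw [pow_two]
    exact Ideal.mul_mem_mul h7 x.2
  have h9 : s • (Algebra.Extension.Cotangent.mk x : P.Cotangent) =
      Algebra.Extension.Cotangent.mk (P.σ s • x) := by
    apply Algebra.Extension.Cotangent.ext
    rw [Algebra.Extension.Cotangent.val_smul, map_smul, Algebra.Extension.Cotangent.val_smul']
  rw [h9, Algebra.Extension.Cotangent.mk_eq_zero_iff]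
  exact h8

end Groth.Agent.S11284
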