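import Groth.Statements.S11285
import Groth.Prelude.Def_Exal
import Mathlib.Algebra.TrivSqZeroExt.Basic
-- import your own Groth.Agent.* helpers here

set_option autoImplicit false
universe u
open Deform

namespace Groth.Agent.S11285

open KaehlerDifferential TensorProduct

section Construction

attribute [local instance] Exal.opModule Exal.isCentralScalar_opModule

variable {A B : Type u} [CommRing A] [CommRing B] [Algebra A B]
variable {N : Type u} [AddCommGroup N] [Module B N] (q : N →ₗ[B] Ω[B⁄A])

/-- The subring `{(b, n) | q n = d b}` of the trivial square-zero extension `B ⊕ N`. -/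
def ESub : Subring (TrivSqZeroExt B N) where
  carrier := {x | q x.snd = D A B x.fst}
  mul_mem' := by
    intro x y hx hy
    simp only [Set.mem_ofPred_eq] at hx hy ⊢
    rw [TrivSqZeroExt.snd_mul, TrivSqZeroExt.fst_mul, map_add, Derivation.leibniz]
    have h1 : MulOpposite.op y.fst • x.snd = y.fst • x.snd := rfl
    rw [h1, map_smul, map_smul, hx, hy]
  one_mem' := by
    simp only [Set.mem_ofPred_eq, TrivSqZeroExt.snd_one, TrivSqZeroExt.fst_one, map_zero,
      Derivation.map_one_eq_zero]
  add_mem' := by
    intro x y hx hy
    simp only [Set.mem_ofPred_eq] at hx hy ⊢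
    rw [TrivSqZeroExt.snd_add, TrivSqZeroExt.fst_add, map_add, map_add, hx, hy]
  zero_mem' := by
    simp only [Set.mem_ofPred_eq, TrivSqZeroExt.snd_zero, TrivSqZeroExt.fst_zero, map_zero]
  neg_mem' := by
    intro x hx
    simp only [Set.mem_ofPred_eq] at hx ⊢
    rw [TrivSqZeroExt.snd_neg, TrivSqZeroExt.fst_neg, map_neg, map_neg, hx]

lemma mem_ESub (x : TrivSqZeroExt B N) : x ∈ ESub q ↔ q x.snd = D A B x.fst := Iff.rfl

/-- The structure map `A → E`. -/
def algMapE : A →+* ESub q :=
  ((TrivSqZeroExt.inlHom B N).comp (algebraMap A B)).codRestrict (ESub q) (by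
    intro a
    rw [mem_ESub]
    simp only [RingHom.coe_comp, Function.comp_apply, TrivSqZeroExt.inlHom_apply,
      TrivSqZeroExt.snd_inl, TrivSqZeroExt.fst_inl, map_zero, Derivation.map_algebraMap])

noncomputable instance instAlgebraE : Algebra A (ESub q) := (algMapE q).toAlgebra

lemma algebraMap_E_val (a : A) :
    ((algebraMap A (ESub q) a : ESub q) : TrivSqZeroExt B N) = TrivSqZeroExt.inl (algebraMap A B a) :=
  rfl

/-- The projection `E → B`. -/
def projE : ESub q →ₐ[A] B where
  toFun x := x.1.fst
  map_one' := rfl
  map_mul' _ _ := rfl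
  map_zero' := rfl
  map_add' _ _ := rfl
  commutes' _ := rfl

lemma projE_apply (x : ESub q) : projE q x = x.1.fst := rfl

end Construction

section Ext

attribute [local instance] Exal.opModule Exal.isCentralScalar_opModule

variable {A B : Type u} [CommRing A] [CommRing B] [Algebra A B]
variable {N : Type u} [AddCommGroup N] [Module B N] (q : N →ₗ[B] Ω[B⁄A])
variable (hq : Function.Surjective q)

include hq in
lemma projE_surjective : Function.Surjective (projE q) := by
  intro b
  obtain ⟨n, hn⟩ := hq (D A B b)
  refine ⟨⟨TrivSqZeroExt.inl b + TrivSqZeroExt.inr n, ?_⟩, ?_⟩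
  · rw [mem_ESub]
    simp only [TrivSqZeroExt.snd_add, TrivSqZeroExt.snd_inl, TrivSqZeroExt.snd_inr, zero_add,
      TrivSqZeroExt.fst_add, TrivSqZeroExt.fst_inl, TrivSqZeroExt.fst_inr, add_zero, hn]
  · simp only [projE_apply, TrivSqZeroExt.fst_add, TrivSqZeroExt.fst_inl, TrivSqZeroExt.fst_inr,
      add_zero]

/-- The extension `E → B`. -/
noncomputable def extP : Algebra.Extension.{u} A B :=
  Algebra.Extension.ofSurjective (projE q) (projE_surjective q hq)

lemma extP_algebraMap (x : (extP q hq).Ring) :
    algebraMap (extP q hq).Ring B x = (x : ESub q).1.fst := rfl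

lemma mem_ker_extP (x : (extP q hq).Ring) : x ∈ (extP q hq).ker ↔ (x : ESub q).1.fst = 0 :=
  Iff.rfl

lemma ker_sq_extP : (extP q hq).ker ^ 2 = ⊥ := by
  rw [eq_bot_iff, pow_two, Ideal.mul_le]
  intro x hx y hy
  rw [mem_ker_extP] at hx hy
  rw [Ideal.mem_bot]
  apply Subtype.ext
  apply TrivSqZeroExt.ext
  · change (x : ESub q).1.fst * (y : ESub q).1.fst = 0
    rw [hx, zero_mul]
  · change (x : ESub q).1.fst • (y : ESub q).1.snd +
      MulOpposite.op (y : ESub q).1.fst • (x : ESub q).1.snd = 0
    rw [hx, hy, zero_smul, MulOpposite.op_zero, zero_smul, add_zero]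

end Ext

section Theta

attribute [local instance] Exal.opModule Exal.isCentralScalar_opModule

variable {A B : Type u} [CommRing A] [CommRing B] [Algebra A B]
variable {N : Type u} [AddCommGroup N] [Module B N] (q : N →ₗ[B] Ω[B⁄A])
variable (hq : Function.Surjective q)
variable {M : Type u} [AddCommGroup M] [Module B M] (i : M →ₗ[B] N)
variable (hex : Function.Exact i q)

lemma smul_mk (P : Algebra.Extension.{u} A B) (b : B) (z : P.ker) :
    b • (Algebra.Extension.Cotangent.mk z : P.Cotangent) =
      Algebra.Extension.Cotangent.mk (P.σ b • z) := by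
  apply Algebra.Extension.Cotangent.ext
  rw [Algebra.Extension.Cotangent.val_smul, map_smul, Algebra.Extension.Cotangent.val_smul']

/-- The element `(0, i m)` of the kernel of `E → B`. -/
def kerElt (m : M) : (extP q hq).ker :=
  ⟨⟨TrivSqZeroExt.inr (i m), by
      rw [mem_ESub]
      simp only [TrivSqZeroExt.snd_inr, TrivSqZeroExt.fst_inr, map_zero, hex.apply_apply_eq_zero]⟩,
    by
      rw [mem_ker_extP]
      simp only [TrivSqZeroExt.fst_inr]⟩

lemma kerElt_val (m : M) :
    (((kerElt q hq i hex m : (extP q hq).ker) : (extP q hq).Ring) : ESub q).1 =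
      TrivSqZeroExt.inr (i m) := rfl

lemma kerElt_add (m m' : M) :
    kerElt q hq i hex (m + m') = kerElt q hq i hex m + kerElt q hq i hex m' := by
  apply Subtype.ext
  apply Subtype.ext
  change TrivSqZeroExt.inr (i (m + m')) = TrivSqZeroExt.inr (i m) + TrivSqZeroExt.inr (i m')
  rw [map_add, TrivSqZeroExt.inr_add]

lemma sigma_smul_kerElt (b : B) (m : M) :
    (extP q hq).σ b • kerElt q hq i hex m = kerElt q hq i hex (b • m) := by
  apply Subtype.ext
  apply Subtype.ext
  have hb : (((extP q hq).σ b : (extP q hq).Ring) : ESub q).1.fst = b := (extP q hq).algebraMap_σ b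
  change (((extP q hq).σ b : (extP q hq).Ring) : ESub q).1 * TrivSqZeroExt.inr (i m) =
    TrivSqZeroExt.inr (i (b • m))
  apply TrivSqZeroExt.ext
  · rw [TrivSqZeroExt.fst_mul, TrivSqZeroExt.fst_inr, mul_zero, TrivSqZeroExt.fst_inr]
  · rw [TrivSqZeroExt.snd_mul, TrivSqZeroExt.fst_inr, TrivSqZeroExt.snd_inr, TrivSqZeroExt.snd_inr,
      MulOpposite.op_zero, zero_smul, add_zero, hb, map_smul]

/-- The `B`-linear map `M → I/I²`. -/
noncomputable def theta : M →ₗ[B] (extP q hq).Cotangent where
  toFun m := Algebra.Extension.Cotangent.mk (kerElt q hq i hex m)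
  map_add' m m' := by rw [kerElt_add, map_add]
  map_smul' b m := by
    rw [RingHom.id_apply, smul_mk, sigma_smul_kerElt]

lemma theta_apply (m : M) :
    theta q hq i hex m = Algebra.Extension.Cotangent.mk (kerElt q hq i hex m) := rfl

lemma theta_injective (hi : Function.Injective i) : Function.Injective (theta q hq i hex) := by
  rw [injective_iff_map_eq_zero]
  intro m hm
  rw [theta_apply, Algebra.Extension.Cotangent.mk_eq_zero_iff, ker_sq_extP, Ideal.mem_bot] at hm
  have h1 : (TrivSqZeroExt.inr (i m) : TrivSqZeroExt B N) = 0 :=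
    congrArg (fun x : ESub q => x.1) hm
  have h2 : i m = 0 := by
    have := congrArg TrivSqZeroExt.snd h1
    simpa using this
  exact hi (h2.trans (map_zero i).symm)

lemma theta_surjective : Function.Surjective (theta q hq i hex) := by
  intro c
  obtain ⟨z, rfl⟩ := Algebra.Extension.Cotangent.mk_surjective c
  have hz : ((z : (extP q hq).Ring) : ESub q).1.fst = 0 := z.2
  have hz2 : q ((z : (extP q hq).Ring) : ESub q).1.snd = 0 := by
    have := ((z : (extP q hq).Ring) : ESub q).2
    rw [mem_ESub, hz, map_zero] at this
    exact this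
  obtain ⟨m, hm⟩ := (hex _).mp hz2
  refine ⟨m, ?_⟩
  rw [theta_apply]
  congr 1
  apply Subtype.ext
  apply Subtype.ext
  rw [kerElt_val]
  apply TrivSqZeroExt.ext
  · rw [TrivSqZeroExt.fst_inr, hz]
  · rw [TrivSqZeroExt.snd_inr, hm]

end Theta

section Deriv

attribute [local instance] Exal.opModule Exal.isCentralScalar_opModule

variable {A B : Type u} [CommRing A] [CommRing B] [Algebra A B]
variable {N : Type u} [AddCommGroup N] [Module B N] (q : N →ₗ[B] Ω[B⁄A])
variable (hq : Function.Surjective q)

variable [Module A N] [IsScalarTower A B N]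

/-- `N` as an `E`-module through `E → B`. -/
noncomputable abbrev modEN : Module (extP q hq).Ring N :=
  Module.compHom N (algebraMap (extP q hq).Ring B)

attribute [local instance] modEN

lemma smulA_def (a : A) (n : N) : a • n = algebraMap A B a • n := (algebraMap_smul B a n).symm

omit [Module A N] [IsScalarTower A B N] in
lemma smulE_def (e : (extP q hq).Ring) (n : N) : e • n = (e : ESub q).1.fst • n := rfl

instance towerAEN : IsScalarTower A (extP q hq).Ring N :=
  IsScalarTower.of_algebraMap_smul (fun a n => by
    rw [smulE_def]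
    exact algebraMap_smul B a n)

instance towerEBN : IsScalarTower (extP q hq).Ring B N :=
  IsScalarTower.of_algebraMap_smul (fun _ _ => rfl)

/-- The second projection `E → N`, as an `A`-linear map. -/
noncomputable def deltaLin : (extP q hq).Ring →ₗ[A] N where
  toFun x := (x : ESub q).1.snd
  map_add' _ _ := rfl
  map_smul' a x := by
    rw [RingHom.id_apply, Algebra.smul_def, smulA_def (A := A) (B := B)]
    change ((algebraMap A (ESub q) a : ESub q).1 * (x : ESub q).1).snd = _
    rw [algebraMap_E_val, TrivSqZeroExt.snd_mul, TrivSqZeroExt.fst_inl, TrivSqZeroExt.snd_inl,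
      smul_zero, add_zero]

/-- The second projection `E → N`, as an `A`-derivation. -/
noncomputable def delta : Derivation A (extP q hq).Ring N where
  toLinearMap := deltaLin q hq
  map_one_eq_zero' := rfl
  leibniz' x y := by
    change ((x : ESub q).1 * (y : ESub q).1).snd =
      (x : ESub q).1.fst • (y : ESub q).1.snd + (y : ESub q).1.fst • (x : ESub q).1.snd
    rw [TrivSqZeroExt.snd_mul]
    rfl

lemma delta_apply (x : (extP q hq).Ring) : delta q hq x = (x : ESub q).1.snd := rfl

/-- The comparison map `B ⊗_E Ω_{E/A} → N`. -/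
noncomputable def e2map : (extP q hq).CotangentSpace →ₗ[B] N :=
  LinearMap.liftBaseChange B (delta q hq).liftKaehlerDifferential

lemma e2map_tmul_D (b : B) (e : (extP q hq).Ring) :
    e2map q hq (b ⊗ₜ[(extP q hq).Ring] D A (extP q hq).Ring e) = b • (e : ESub q).1.snd := by
  rw [e2map, LinearMap.liftBaseChange_tmul, Derivation.liftKaehlerDifferential_comp_D, delta_apply]

lemma q_e2map (y : (extP q hq).CotangentSpace) : q (e2map q hq y) = (extP q hq).toKaehler y := by
  induction y using TensorProduct.induction_on with
  | zero => rw [map_zero, map_zero, map_zero]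
  | add x y hx hy => rw [map_add, map_add, map_add, hx, hy]
  | tmul b w =>
    have hw : w ∈ Submodule.span (extP q hq).Ring (Set.range (D A (extP q hq).Ring)) := by
      rw [KaehlerDifferential.span_range_derivation]
      exact Submodule.mem_top
    revert b
    induction hw using Submodule.span_induction with
    | mem w hw =>
      obtain ⟨e, rfl⟩ := hw
      intro b
      rw [e2map_tmul_D, map_smul, Algebra.Extension.toKaehler,
        KaehlerDifferential.mapBaseChange_tmul, KaehlerDifferential.map_D]
      have := (e : ESub q).2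
      rw [mem_ESub] at this
      rw [this]
      rfl
    | zero =>
      intro b
      rw [tmul_zero, map_zero, map_zero, map_zero]
    | add x y _ _ hx hy =>
      intro b
      rw [tmul_add, map_add, map_add, map_add, hx, hy]
    | smul e w _ hw =>
      intro b
      rw [← TensorProduct.smul_tmul]
      exact hw _

end Deriv

/-- Let k be an algebraically closed field and A → B a map of finitely generated k-algebras with B
reduced and smooth over A at every minimal prime of B (the morphism Spec B → Spec A is smooth on a
dense open subset). Let M be a finitely generated projective B-module and 0 → M → N → Ω_{B/A} → 0 an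
exact sequence of B-modules (i injective, q surjective, image of i = kernel of q). Then there is an
A-algebra extension E → B with square-zero kernel, together with a B-linear identification of its
kernel with M and a B-linear isomorphism of B ⊗_E Ω_{E/A} with N, carrying the conormal map of the
extension to i and q to the canonical map B ⊗_E Ω_{E/A} → Ω_{B/A}. Together with the injectivity
statement for such conormal sequences this is the surjectivity half of the identification of Ex_A(B,
M) with Ext^1_B(Ω_{B/A}, M); affine case of the statement for algebraic schemes. The module N ranges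
over the universe of B. -/
theorem result
    {k : Type u} [Field k] [IsAlgClosed k]
    {A B : Type u} [CommRing A] [CommRing B] [Algebra k A] [Algebra k B] [Algebra A B]
    [IsScalarTower k A B] [Algebra.FiniteType k A] [Algebra.FiniteType k B] [IsReduced B]
    (hsm : ∀ p : PrimeSpectrum B, p.asIdeal ∈ minimalPrimes B → Algebra.IsSmoothAt A p.asIdeal)
    (M N : Type u) [AddCommGroup M] [Module B M] [Module.Finite B M] [Module.Projective B M]
    [AddCommGroup N] [Module B N]
    (i : M →ₗ[B] N) (q : N →ₗ[B] Ω[B⁄A]) (hi : Function.Injective i) (hq : Function.Surjective q)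
    (hex : Function.Exact i q) :
    ∃ P : Algebra.Extension.{u} A B, P.ker ^ 2 = ⊥ ∧
      ∃ (e₁ : P.Cotangent ≃ₗ[B] M) (e₂ : P.CotangentSpace ≃ₗ[B] N),
        (∀ x, e₂ (P.cotangentComplex x) = i (e₁ x)) ∧ (∀ y, q (e₂ y) = P.toKaehler y) := by
  classical
  let modAN : Module A N := Module.compHom N (algebraMap A B)
  have towerABN : IsScalarTower A B N := IsScalarTower.of_algebraMap_smul (fun _ _ => rfl)
  let P := extP q hq
  have hθi := theta_injective q hq i hex hi
  have hθs := theta_surjective q hq i hex
  let Θ : M ≃ₗ[B] P.Cotangent := LinearEquiv.ofBijective (theta q hq i hex) ⟨hθi, hθs⟩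
  have ha : ∀ m, e2map q hq (P.cotangentComplex (theta q hq i hex m)) = i m := by
    intro m
    rw [theta_apply, Algebra.Extension.cotangentComplex_mk, e2map_tmul_D, one_smul]
    rfl
  have hinj : Function.Injective (e2map q hq) := by
    rw [injective_iff_map_eq_zero]
    intro z hz
    have h1 : P.toKaehler z = 0 := by rw [← q_e2map, hz, map_zero]
    obtain ⟨c, rfl⟩ := (P.exact_cotangentComplex_toKaehler z).mp h1
    obtain ⟨m, rfl⟩ := hθs c
    rw [ha] at hz
    have hm0 : m = 0 := hi (hz.trans (map_zero i).symm)
    rw [hm0, map_zero, map_zero]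
  have hsurj : Function.Surjective (e2map q hq) := by
    intro n
    obtain ⟨z, hz⟩ := P.toKaehler_surjective (q n)
    have h1 : q (n - e2map q hq z) = 0 := by rw [map_sub, q_e2map, hz, sub_self]
    obtain ⟨m, hm⟩ := (hex _).mp h1
    refine ⟨z + P.cotangentComplex (theta q hq i hex m), ?_⟩
    rw [map_add, ha, hm]
    abel
  refine ⟨P, ker_sq_extP q hq, Θ.symm, LinearEquiv.ofBijective (e2map q hq) ⟨hinj, hsurj⟩, ?_, ?_⟩
  · intro x
    obtain ⟨m, rfl⟩ := hθs x
    rw [LinearEquiv.ofBijective_apply, ha]
    congr 1
    exact (Θ.symm_apply_apply m).symm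
  · intro y
    rw [LinearEquiv.ofBijective_apply, q_e2map]

end Groth.Agent.S11285
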