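import Groth.Statements.S11286
import Groth.Agent.S11284
-- import your own Groth.Agent.* helpers here

set_option autoImplicit false
universe u
open Deform

namespace Groth.Agent.S11286

open KaehlerDifferential TensorProduct

section Helpers

variable {A B : Type u} [CommRing A] [CommRing B] [Algebra A B]

/-- The map `e ↦ 1 ⊗ d e` from the ring of an extension to its cotangent space. -/
noncomputable def dT (P : Algebra.Extension.{u} A B) (e : P.Ring) : P.CotangentSpace :=
  (1 : B) ⊗ₜ[P.Ring] D A P.Ring e

variable (P : Algebra.Extension.{u} A B)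

lemma dT_add (x y : P.Ring) : dT P (x + y) = dT P x + dT P y := by
  simp only [dT, map_add, tmul_add]

lemma dT_sub (x y : P.Ring) : dT P (x - y) = dT P x - dT P y := by
  simp only [dT, map_sub, tmul_sub]

lemma dT_zero : dT P 0 = 0 := by
  simp only [dT, map_zero, tmul_zero]

lemma dT_one : dT P 1 = 0 := by
  simp only [dT, Derivation.map_one_eq_zero, tmul_zero]

lemma dT_algebraMap (a : A) : dT P (algebraMap A P.Ring a) = 0 := by
  simp only [dT, Derivation.map_algebraMap, tmul_zero]

lemma smul_one_tmul (x : P.Ring) (w : Ω[P.Ring⁄A]) :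
    (1 : B) ⊗ₜ[P.Ring] (x • w) = algebraMap P.Ring B x • ((1 : B) ⊗ₜ[P.Ring] w) := by
  rw [TensorProduct.smul_tmul', ← TensorProduct.smul_tmul, Algebra.smul_def, smul_eq_mul]

lemma dT_mul (x y : P.Ring) :
    dT P (x * y) = algebraMap P.Ring B x • dT P y + algebraMap P.Ring B y • dT P x := by
  simp only [dT, Derivation.leibniz, tmul_add, smul_one_tmul]

lemma toKaehler_dT (e : P.Ring) : P.toKaehler (dT P e) = D A B (algebraMap P.Ring B e) := by
  simp only [dT, Algebra.Extension.toKaehler, KaehlerDifferential.mapBaseChange_tmul,
    KaehlerDifferential.map_D, one_smul]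

lemma cotangentComplex_mk' (z : P.ker) :
    P.cotangentComplex (Algebra.Extension.Cotangent.mk z) = dT P z.1 := rfl

lemma exists_of_toKaehler_eq (b : B) (n : P.CotangentSpace) (h : P.toKaehler n = D A B b) :
    ∃ e : P.Ring, algebraMap P.Ring B e = b ∧ dT P e = n := by
  have h0 : P.toKaehler (n - dT P (P.σ b)) = 0 := by
    rw [map_sub, h, toKaehler_dT, P.algebraMap_σ, sub_self]
  obtain ⟨c, hc⟩ := (P.exact_cotangentComplex_toKaehler _).mp h0
  obtain ⟨z, rfl⟩ := Algebra.Extension.Cotangent.mk_surjective c
  refine ⟨P.σ b + z.1, ?_, ?_⟩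
  · have hz : algebraMap P.Ring B z.1 = 0 := z.2
    rw [map_add, P.algebraMap_σ, hz, add_zero]
  · rw [dT_add, ← cotangentComplex_mk', hc]
    abel

lemma eq_zero_of_dT_eq_zero (hsq : P.ker ^ 2 = ⊥) (hinj : Function.Injective P.cotangentComplex)
    (e : P.Ring) (h1 : algebraMap P.Ring B e = 0) (h2 : dT P e = 0) : e = 0 := by
  have he : e ∈ P.ker := h1
  have h3 : P.cotangentComplex (Algebra.Extension.Cotangent.mk ⟨e, he⟩) = 0 := by
    rw [cotangentComplex_mk']
    exact h2
  have h4 := hinj (h3.trans (map_zero _).symm)
  rw [Algebra.Extension.Cotangent.mk_eq_zero_iff, hsq] at h4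
  exact h4

lemma eq_of_dT_eq (hsq : P.ker ^ 2 = ⊥) (hinj : Function.Injective P.cotangentComplex)
    (x y : P.Ring) (h1 : algebraMap P.Ring B x = algebraMap P.Ring B y) (h2 : dT P x = dT P y) :
    x = y := by
  rw [← sub_eq_zero]
  apply eq_zero_of_dT_eq_zero P hsq hinj
  · rw [map_sub, h1, sub_self]
  · rw [dT_sub, h2, sub_self]

end Helpers

/-- Let k be an algebraically closed field and A → B a map of finitely generated k-algebras with B
reduced and smooth over A at every minimal prime of B (the morphism Spec B → Spec A is smooth on a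
dense open subset). Let E → B and E' → B be two A-algebra extensions with square-zero kernels I, I',
where I is a finitely generated projective B-module, and suppose their relative conormal sequences
are isomorphic as extensions of Ω_{B/A}: there are B-linear isomorphisms I ≅ I' and B ⊗_E Ω_{E/A} ≅
B ⊗_{E'} Ω_{E'/A} commuting with the conormal maps and with the canonical maps to Ω_{B/A}. Then
there is a homomorphism of extensions E → E' (a ring map over A and over B) which is bijective and
induces the given isomorphism I ≅ I'. This is the injectivity half of the identification of Ex_A(B,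
M) with Ext^1_B(Ω_{B/A}, M); affine case of the statement for algebraic schemes. -/
theorem result
    {k : Type u} [Field k] [IsAlgClosed k]
    {A B : Type u} [CommRing A] [CommRing B] [Algebra k A] [Algebra k B] [Algebra A B]
    [IsScalarTower k A B] [Algebra.FiniteType k A] [Algebra.FiniteType k B] [IsReduced B]
    (hsm : ∀ p : PrimeSpectrum B, p.asIdeal ∈ minimalPrimes B → Algebra.IsSmoothAt A p.asIdeal)
    (P P' : Algebra.Extension.{u} A B) (hsq : P.ker ^ 2 = ⊥) (hsq' : P'.ker ^ 2 = ⊥)
    [Module.Finite B P.Cotangent] [Module.Projective B P.Cotangent]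
    (e₁ : P.Cotangent ≃ₗ[B] P'.Cotangent) (e₂ : P.CotangentSpace ≃ₗ[B] P'.CotangentSpace)
    (h₁ : ∀ x, e₂ (P.cotangentComplex x) = P'.cotangentComplex (e₁ x))
    (h₂ : ∀ y, P'.toKaehler (e₂ y) = P.toKaehler y) :
    ∃ f : P.Hom P', Function.Bijective f.toRingHom ∧
      Algebra.Extension.Cotangent.map f = e₁.toLinearMap := by
  classical
  have hinj : Function.Injective P.cotangentComplex := Groth.Agent.S11284.result (k := k) hsm P hsq
  have hfin' : Module.Finite B P'.Cotangent := Module.Finite.equiv e₁
  have hproj' : Module.Projective B P'.Cotangent := Module.Projective.of_equiv e₁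
  have hinj' : Function.Injective P'.cotangentComplex := Groth.Agent.S11284.result (k := k) hsm P' hsq'
  have hex : ∀ e : P.Ring, ∃ e' : P'.Ring,
      algebraMap P'.Ring B e' = algebraMap P.Ring B e ∧ dT P' e' = e₂ (dT P e) := by
    intro e
    apply exists_of_toKaehler_eq
    rw [h₂, toKaehler_dT]
  choose f hf1 hf2 using hex
  have huniq : ∀ (e : P.Ring) (e' : P'.Ring), algebraMap P'.Ring B e' = algebraMap P.Ring B e →
      dT P' e' = e₂ (dT P e) → f e = e' := by
    intro e e' h1 h2
    apply eq_of_dT_eq P' hsq' hinj'
    · rw [hf1, h1]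
    · rw [hf2, h2]
  let fr : P.Ring →+* P'.Ring :=
    { toFun := f
      map_one' := by
        apply huniq
        · rw [map_one, map_one]
        · rw [dT_one, dT_one, map_zero]
      map_mul' := by
        intro x y
        apply huniq
        · rw [map_mul, map_mul, hf1, hf1]
        · rw [dT_mul, dT_mul, hf1, hf1, hf2, hf2, map_add, map_smul, map_smul]
      map_zero' := by
        apply huniq
        · rw [map_zero, map_zero]
        · rw [dT_zero, dT_zero, map_zero]
      map_add' := by
        intro x y
        apply huniq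
        · rw [map_add, map_add, hf1, hf1]
        · rw [dT_add, dT_add, hf2, hf2, map_add] }
  have hfr : ∀ x, fr x = f x := fun _ => rfl
  let F : P.Hom P' :=
    { toRingHom := fr
      toRingHom_algebraMap := by
        intro a
        rw [hfr]
        apply huniq
        · rw [Algebra.algebraMap_self, RingHom.id_apply, ← IsScalarTower.algebraMap_apply,
            ← IsScalarTower.algebraMap_apply]
        · rw [Algebra.algebraMap_self, RingHom.id_apply, dT_algebraMap, dT_algebraMap, map_zero]
      algebraMap_toRingHom := by
        intro x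
        rw [hfr, hf1, Algebra.algebraMap_self, RingHom.id_apply] }
  refine ⟨F, ⟨?_, ?_⟩, ?_⟩
  · -- injective
    intro x y hxy
    change f x = f y at hxy
    apply eq_of_dT_eq P hsq hinj
    · rw [← hf1, ← hf1, hxy]
    · apply e₂.injective
      rw [← hf2, ← hf2, hxy]
  · -- surjective
    intro e'
    obtain ⟨e, he1, he2⟩ := exists_of_toKaehler_eq P (algebraMap P'.Ring B e') (e₂.symm (dT P' e'))
      (by rw [← h₂, LinearEquiv.apply_symm_apply, toKaehler_dT])
    refine ⟨e, ?_⟩
    change f e = e'
    apply huniq
    · rw [he1]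
    · rw [he2, LinearEquiv.apply_symm_apply]
  · -- the induced map on cotangent modules
    apply LinearMap.ext
    intro c
    obtain ⟨x, rfl⟩ := Algebra.Extension.Cotangent.mk_surjective c
    apply hinj'
    rw [Algebra.Extension.Cotangent.map_mk, cotangentComplex_mk', LinearEquiv.coe_coe, ← h₁,
      cotangentComplex_mk']
    change dT P' (f x.1) = _
    rw [hf2]

end Groth.Agent.S11286
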