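import Groth.Statements.S5814
import Groth.Agent.H29.Exal2

set_option autoImplicit false
universe u
open EGA41

namespace Groth.Agent.S5814

open Groth.Agent.H29.ExalL
attribute [local instance] Exal.opModule Exal.isCentralScalar_opModule

variable {B : Type u} [CommRing B] (J : Ideal B)
    {M : Type u} [AddCommGroup M] [Module (B ⧸ J) M] [Module B M] [IsScalarTower B (B ⧸ J) M]

omit [Module (B ⧸ J) M] [IsScalarTower B (B ⧸ J) M] in
theorem smul_eq_zero_of_mem [Module (B ⧸ J) M] [IsScalarTower B (B ⧸ J) M]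
    {j : B} (hj : j ∈ J) (m : M) : j • m = 0 := by
  rw [← algebraMap_smul (B ⧸ J) j m, Ideal.Quotient.algebraMap_eq,
    Ideal.Quotient.eq_zero_iff_mem.mpr hj, zero_smul]

/-- the generator `(j, - w j)` -/
def gen (w : J →ₗ[B] M) (j : J) : TrivSqZeroExt B M :=
  TrivSqZeroExt.inl (j : B) - TrivSqZeroExt.inr (w j)

omit [Module (B ⧸ J) M] [IsScalarTower B (B ⧸ J) M] in
theorem fst_gen (w : J →ₗ[B] M) (j : J) : (gen J w j).fst = j := by
  simp [gen]

omit [Module (B ⧸ J) M] [IsScalarTower B (B ⧸ J) M] in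
theorem snd_gen (w : J →ₗ[B] M) (j : J) : (gen J w j).snd = - w j := by
  simp [gen]

/-- the ideal `{(j, - w j)}` of `B ⊕ M` -/
def kerIdeal (w : J →ₗ[B] M) : Ideal (TrivSqZeroExt B M) where
  carrier := Set.range (gen J w)
  zero_mem' := ⟨0, by simp [gen]⟩
  add_mem' := by
    rintro _ _ ⟨j, rfl⟩ ⟨j', rfl⟩
    refine ⟨j + j', ?_⟩
    refine TrivSqZeroExt.ext ?_ ?_
    · rw [TrivSqZeroExt.fst_add, fst_gen, fst_gen, fst_gen]; rfl
    · rw [TrivSqZeroExt.snd_add, snd_gen, snd_gen, snd_gen, map_add, neg_add]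
  smul_mem' := by
    rintro c _ ⟨j, rfl⟩
    refine ⟨c.fst • j, ?_⟩
    refine TrivSqZeroExt.ext ?_ ?_
    · rw [fst_gen, smul_eq_mul, TrivSqZeroExt.fst_mul, fst_gen]; rfl
    · rw [snd_gen, smul_eq_mul, TrivSqZeroExt.snd_mul, fst_gen, snd_gen, op_smul_eq_smul,
        smul_eq_zero_of_mem J j.2, add_zero, map_smul, smul_neg]

theorem mem_kerIdeal (w : J →ₗ[B] M) (t : TrivSqZeroExt B M) :
    t ∈ kerIdeal J w ↔ ∃ j : J, gen J w j = t := Iff.rfl

theorem kerIdeal_le (w : J →ₗ[B] M) :
    kerIdeal J w ≤ RingHom.ker ((Ideal.Quotient.mkₐ B J).comp (TrivSqZeroExt.fstHom B B M)) := by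
  rintro _ ⟨j, rfl⟩
  rw [RingHom.mem_ker]
  change Ideal.Quotient.mk J (gen J w j).fst = 0
  rw [fst_gen]
  exact Ideal.Quotient.eq_zero_iff_mem.mpr j.2

/-- the extension attached to `w : J → M` -/
noncomputable def extOf (w : J →ₗ[B] M) : Exal.Ext B (B ⧸ J) M where
  E := TrivSqZeroExt B M ⧸ kerIdeal J w
  proj := Ideal.Quotient.liftₐ (kerIdeal J w)
    ((Ideal.Quotient.mkₐ B J).comp (TrivSqZeroExt.fstHom B B M)) (kerIdeal_le J w)
  incl := (Ideal.Quotient.mk (kerIdeal J w) : TrivSqZeroExt B M →+* _).toAddMonoidHom.comp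
    (TrivSqZeroExt.inrHom B M).toAddMonoidHom
  isExtension :=
    { proj_surjective := fun c => by
        obtain ⟨b, rfl⟩ := Ideal.Quotient.mk_surjective c
        exact ⟨Ideal.Quotient.mk _ (TrivSqZeroExt.inl b), rfl⟩
      incl_injective := by
        rw [injective_iff_map_eq_zero]
        intro z hz
        have h1 : (TrivSqZeroExt.inr z : TrivSqZeroExt B M) ∈ kerIdeal J w :=
          Ideal.Quotient.eq_zero_iff_mem.mp hz
        obtain ⟨j, hj⟩ := h1
        have hj0 : j = 0 := by
          apply Subtype.ext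
          have := congrArg TrivSqZeroExt.fst hj
          rw [fst_gen, TrivSqZeroExt.fst_inr] at this
          exact this
        have := congrArg TrivSqZeroExt.snd hj
        rw [snd_gen, TrivSqZeroExt.snd_inr, hj0, map_zero, neg_zero] at this
        exact this.symm
      exact := fun x => by
        obtain ⟨t, rfl⟩ := Ideal.Quotient.mk_surjective x
        constructor
        · intro h
          have h1 : t.fst ∈ J := Ideal.Quotient.eq_zero_iff_mem.mp h
          refine ⟨t.snd + w ⟨t.fst, h1⟩, ?_⟩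
          change Ideal.Quotient.mk (kerIdeal J w) (TrivSqZeroExt.inr (t.snd + w ⟨t.fst, h1⟩)) =
            Ideal.Quotient.mk (kerIdeal J w) t
          rw [eq_comm, Ideal.Quotient.mk_eq_mk_iff_sub_mem]
          refine ⟨⟨t.fst, h1⟩, ?_⟩
          refine TrivSqZeroExt.ext ?_ ?_
          · rw [fst_gen, TrivSqZeroExt.fst_sub, TrivSqZeroExt.fst_inr, sub_zero]
          · rw [snd_gen, TrivSqZeroExt.snd_sub, TrivSqZeroExt.snd_inr]
            abel
        · rintro ⟨z, hz⟩
          rw [← hz]
          change Ideal.Quotient.mk J (TrivSqZeroExt.inr z : TrivSqZeroExt B M).fst = 0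
          rw [TrivSqZeroExt.fst_inr, map_zero]
      mul_incl := fun x z => by
        obtain ⟨t, rfl⟩ := Ideal.Quotient.mk_surjective x
        change Ideal.Quotient.mk (kerIdeal J w) t * Ideal.Quotient.mk (kerIdeal J w) (TrivSqZeroExt.inr z) =
          Ideal.Quotient.mk (kerIdeal J w) (TrivSqZeroExt.inr (Ideal.Quotient.mk J t.fst • z))
        rw [← map_mul]
        congr 1
        refine TrivSqZeroExt.ext ?_ ?_
        · simp
        · rw [TrivSqZeroExt.snd_mul, TrivSqZeroExt.snd_inr, TrivSqZeroExt.fst_inr, MulOpposite.op_zero,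
            zero_smul, add_zero, TrivSqZeroExt.snd_inr, ← Ideal.Quotient.algebraMap_eq, algebraMap_smul] }

theorem algebraMap_extOf (w : J →ₗ[B] M) (j : J) :
    algebraMap B (extOf J w).E j = (extOf J w).incl (w j) := by
  change Ideal.Quotient.mk (kerIdeal J w) (algebraMap B (TrivSqZeroExt B M) j) =
    Ideal.Quotient.mk (kerIdeal J w) (TrivSqZeroExt.inr (w j))
  rw [Ideal.Quotient.mk_eq_mk_iff_sub_mem, TrivSqZeroExt.algebraMap_eq_inl]
  exact ⟨j, rfl⟩

theorem idealToKer_extOf (w : J →ₗ[B] M) : (extOf J w).idealToKer J = w := by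
  ext j
  apply (extOf J w).isExtension.incl_injective
  rw [incl_idealToKer, algebraMap_extOf]

omit [Module B M] [IsScalarTower B (B ⧸ J) M] in
theorem conormalMap_toCotangent [Module B M] [IsScalarTower B (B ⧸ J) M]
    (X : Exal.Ext B (B ⧸ J) M) (j : J) :
    X.conormalMap J (J.toCotangent j) = X.idealToKer J j := rfl


/-- Surjectivity, commutative form. Let J be an ideal of the commutative ring B, C = B ⧸ J, M a
C-module. Every linear map w : J/J² → M arises from a B-extension of C by M: there is an extension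
whose induced map J/J² → M is w. Together with the injectivity statement this is the canonical
bijection between Hom_C(J/J², M) and the classes of B-extensions of C by M. -/
theorem result {B : Type u} [CommRing B] (J : Ideal B)
    {M : Type u} [AddCommGroup M] [Module (B ⧸ J) M] [Module B M] [IsScalarTower B (B ⧸ J) M]
    (w : J.Cotangent →ₗ[B] M) :
    ∃ X : Exal.Ext B (B ⧸ J) M, X.conormalMap J = w := by
  refine ⟨extOf J (w.comp J.toCotangent), ?_⟩
  apply LinearMap.ext
  intro x
  obtain ⟨j, rfl⟩ := J.toCotangent_surjective x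
  rw [conormalMap_toCotangent, idealToKer_extOf]
  rfl

end Groth.Agent.S5814
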