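import Groth.Statements.S11287
import Groth.Agent.H56.ExalAR
import Groth.Agent.H56.ExalBaer
import Groth.Agent.S5814
-- import your own Groth.Agent.* helpers here

set_option autoImplicit false
universe u
open Deform

namespace Groth.Agent.S11287

open Exal Groth.Agent.H29.ExalL Groth.Agent.H56.ExalAR Groth.Agent.H56.ExalBaer

section Aux

variable {Λ : Type u} [CommRing Λ] {d : ℕ} (J : Ideal (MvPowerSeries (Fin d) Λ))
  {L : Type u} [AddCommGroup L] [Module (MvPowerSeries (Fin d) Λ ⧸ J) L]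
  [Module (MvPowerSeries (Fin d) Λ) L]
  [IsScalarTower (MvPowerSeries (Fin d) Λ) (MvPowerSeries (Fin d) Λ ⧸ J) L]

lemma mk_smul (p : MvPowerSeries (Fin d) Λ) (z : L) : Ideal.Quotient.mk J p • z = p • z := by
  rw [← Ideal.Quotient.algebraMap_eq, algebraMap_smul]

/-- a variable kills a simple module over a quotient of the power series ring -/
lemma X_smul [IsSimpleModule (MvPowerSeries (Fin d) Λ ⧸ J) L] (i : Fin d) (z : L) :
    (MvPowerSeries.X i : MvPowerSeries (Fin d) Λ) • z = 0 := by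
  by_contra h
  obtain ⟨r, hr⟩ := IsSimpleModule.toSpanSingleton_surjective (MvPowerSeries (Fin d) Λ ⧸ J) h z
  obtain ⟨p, rfl⟩ := Ideal.Quotient.mk_surjective r
  rw [LinearMap.toSpanSingleton_apply, mk_smul, ← mul_smul] at hr
  have h2 : (1 - p * MvPowerSeries.X i) • z = 0 := by rw [sub_smul, one_smul, hr, sub_self]
  have hu : IsUnit (1 - p * MvPowerSeries.X i) := by
    rw [MvPowerSeries.isUnit_iff_constantCoeff]
    simp
  have hz : z = 0 := hu.smul_left_cancel.mp (h2.trans (smul_zero _).symm)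
  exact h (by rw [hz, smul_zero])

lemma smul_eq_zero_of_mem_span_X [IsSimpleModule (MvPowerSeries (Fin d) Λ ⧸ J) L]
    (a : MvPowerSeries (Fin d) Λ)
    (ha : a ∈ Ideal.span (Set.range (MvPowerSeries.X : Fin d → MvPowerSeries (Fin d) Λ)))
    (z : L) : a • z = 0 := by
  have hle : Ideal.span (Set.range (MvPowerSeries.X : Fin d → MvPowerSeries (Fin d) Λ))
      ≤ Module.annihilator (MvPowerSeries (Fin d) Λ) L := by
    rw [Ideal.span_le]
    rintro _ ⟨i, rfl⟩
    exact Module.mem_annihilator.mpr (X_smul J i)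
  exact Module.mem_annihilator.mp (hle ha) z

/-- (a) existence of a lift -/
theorem part_a [IsNoetherianRing Λ] [IsSimpleModule (MvPowerSeries (Fin d) Λ ⧸ J) L]
    (X : Exal.Ext Λ (MvPowerSeries (Fin d) Λ ⧸ J) L) :
    ∃ u : MvPowerSeries (Fin d) Λ →ₐ[Λ] X.E, ∀ p, X.proj (u p) = Ideal.Quotient.mk J p := by
  obtain ⟨s, hs⟩ := powerSeries_isTrivial (smul_eq_zero_of_mem_span_X J)
    (X.pullback (MvPowerSeries (Fin d) Λ))
  refine ⟨(AlgHom.fst Λ X.E (MvPowerSeries (Fin d) Λ)).comp ((pbVal X).comp s), fun p => ?_⟩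
  have h1 := pbVal_mem X (s p)
  have h2 : (pbVal X (s p)).2 = p := hs p
  show X.proj (pbVal X (s p)).1 = _
  rw [h1, h2]
  rfl

/-- (c) every linear map `J → L` comes from an extension with a lift -/
theorem part_c (δ : J →ₗ[MvPowerSeries (Fin d) Λ] L) :
    ∃ (X : Exal.Ext Λ (MvPowerSeries (Fin d) Λ ⧸ J) L)
      (u : MvPowerSeries (Fin d) Λ →ₐ[Λ] X.E),
      (∀ p, X.proj (u p) = Ideal.Quotient.mk J p) ∧ ∀ j : J, X.incl (δ j) = u j := by
  refine ⟨(Groth.Agent.S5814.extOf J δ).restrictBase Λ,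
    { toFun := fun p => algebraMap (MvPowerSeries (Fin d) Λ) (Groth.Agent.S5814.extOf J δ).E p
      map_one' := map_one _
      map_mul' := map_mul _
      map_zero' := map_zero _
      map_add' := map_add _
      commutes' := fun a => rfl }, fun p => ?_, fun j => ?_⟩
  · show (Groth.Agent.S5814.extOf J δ).proj
      (algebraMap (MvPowerSeries (Fin d) Λ) (Groth.Agent.S5814.extOf J δ).E p) = _
    rw [AlgHom.commutes]
    rfl
  · exact (Groth.Agent.S5814.algebraMap_extOf J δ j).symm

lemma ker_liftHom_le (X X' : Exal.Ext Λ (MvPowerSeries (Fin d) Λ ⧸ J) L)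
    (u : MvPowerSeries (Fin d) Λ →ₐ[Λ] X.E) (u' : MvPowerSeries (Fin d) Λ →ₐ[Λ] X'.E)
    (hu : ∀ p, X.proj (u p)
      = algebraMap (MvPowerSeries (Fin d) Λ) (MvPowerSeries (Fin d) Λ ⧸ J) p)
    (hu' : ∀ p, X'.proj (u' p)
      = algebraMap (MvPowerSeries (Fin d) Λ) (MvPowerSeries (Fin d) Λ ⧸ J) p)
    (h : ∀ j ∈ J, ∃ z : L, X.incl z = u j ∧ X'.incl z = u' j) :
    RingHom.ker (liftHom X u hu) ≤ RingHom.ker (liftHom X' u' hu') := by
  intro w hw
  rw [RingHom.mem_ker] at hw ⊢
  have h1 : (Ext.trivial Λ (MvPowerSeries (Fin d) Λ) L).proj w ∈ J := by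
    have := congrArg X.proj hw
    rw [proj_liftHom, map_zero] at this
    exact Ideal.Quotient.eq_zero_iff_mem.mp this
  obtain ⟨z, hz, hz'⟩ := h _ h1
  rw [liftHom_apply] at hw ⊢
  rw [← hz, ← map_add] at hw
  have h2 : z + TrivSqZeroExt.snd (R := MvPowerSeries (Fin d) Λ) (M := L) w = 0 :=
    X.isExtension.incl_injective (by rw [hw, map_zero])
  rw [← hz', ← map_add, h2, map_zero]

/-- (b) two extensions with lifts are equivalent iff the lifts restrict to the same map `J → L` -/
theorem part_b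
    (hJ : J ≤ Ideal.span (Set.range
      (MvPowerSeries.X : Fin d → MvPowerSeries (Fin d) Λ)) ^ 2)
    (hL : ∀ a ∈ Ideal.span (Set.range
      (MvPowerSeries.X : Fin d → MvPowerSeries (Fin d) Λ)), ∀ z : L, a • z = 0)
    (X X' : Exal.Ext Λ (MvPowerSeries (Fin d) Λ ⧸ J) L)
    (u : MvPowerSeries (Fin d) Λ →ₐ[Λ] X.E) (u' : MvPowerSeries (Fin d) Λ →ₐ[Λ] X'.E)
    (hu : ∀ p, X.proj (u p) = Ideal.Quotient.mk J p)
    (hu' : ∀ p, X'.proj (u' p) = Ideal.Quotient.mk J p) :
    Nonempty (X.Equiv X') ↔ ∀ j ∈ J, ∃ z : L, X.incl z = u j ∧ X'.incl z = u' j := by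
  constructor
  · rintro ⟨θ⟩ j hj
    have key : ∀ a ∈ Ideal.span (Set.range
        (MvPowerSeries.X : Fin d → MvPowerSeries (Fin d) Λ)), ∀ (e w : X'.E),
        X'.proj e = Ideal.Quotient.mk J a → X'.proj w = 0 → e * w = 0 := by
      intro a ha e w he hw
      obtain ⟨z, rfl⟩ := (X'.isExtension.exact w).mp hw
      rw [X'.isExtension.mul_incl, he, mk_smul, hL a ha, map_zero]
    have hv : ∀ p, X'.proj (θ.toAlgEquiv (u p)) = Ideal.Quotient.mk J p := fun p => by
      rw [θ.proj_apply, hu]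
    have hΔ : ∀ a ∈ Ideal.span (Set.range
        (MvPowerSeries.X : Fin d → MvPowerSeries (Fin d) Λ)),
        ∀ b ∈ Ideal.span (Set.range
        (MvPowerSeries.X : Fin d → MvPowerSeries (Fin d) Λ)),
        u' (a * b) = θ.toAlgEquiv (u (a * b)) := by
      intro a ha b hb
      have h1 := key a ha (u' a) (u' b - θ.toAlgEquiv (u b)) (hu' a)
        (by rw [map_sub, hu', hv, sub_self])
      have h2 := key b hb (θ.toAlgEquiv (u b)) (u' a - θ.toAlgEquiv (u a)) (hv b)
        (by rw [map_sub, hu', hv, sub_self])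
      rw [map_mul, map_mul, map_mul]
      linear_combination h1 + h2
    have h2 : ∀ q ∈ Ideal.span (Set.range
        (MvPowerSeries.X : Fin d → MvPowerSeries (Fin d) Λ)) ^ 2,
        u' q = θ.toAlgEquiv (u q) := by
      intro q hq
      rw [pow_two] at hq
      refine Submodule.mul_induction_on hq (fun a ha b hb => hΔ a ha b hb) ?_
      intro x y hx hy
      rw [map_add, map_add, map_add, hx, hy]
    obtain ⟨z, hz⟩ := (X.isExtension.exact (u j)).mp
      (by rw [hu]; exact Ideal.Quotient.eq_zero_iff_mem.mpr hj)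
    refine ⟨z, hz, ?_⟩
    rw [h2 j (hJ hj), ← hz, θ.apply_incl]
  · intro h
    have hsurj : Function.Surjective
        (algebraMap (MvPowerSeries (Fin d) Λ) (MvPowerSeries (Fin d) Λ ⧸ J)) :=
      Ideal.Quotient.mk_surjective
    have hker : RingHom.ker (liftHom X u hu) = RingHom.ker (liftHom X' u' hu') :=
      le_antisymm (ker_liftHom_le J X X' u u' hu hu' h)
        (ker_liftHom_le J X' X u' u hu' hu (fun j hj => by
          obtain ⟨z, h1, h2⟩ := h j hj
          exact ⟨z, h2, h1⟩))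
    refine ⟨{ toAlgEquiv := Groth.Agent.H56.ExalAR.algEquivOfKerEq (liftHom X u hu) (liftHom X' u' hu')
                (liftHom_surjective X u hu hsurj) (liftHom_surjective X' u' hu' hsurj) hker
              proj_apply := fun x => ?_
              apply_incl := fun z => ?_ }⟩
    · obtain ⟨w, rfl⟩ := liftHom_surjective X u hu hsurj x
      rw [Groth.Agent.H56.ExalAR.algEquivOfKerEq_apply, proj_liftHom, proj_liftHom]
    · rw [← liftHom_incl X u hu z, Groth.Agent.H56.ExalAR.algEquivOfKerEq_apply, liftHom_incl]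

end Aux

/-- Let k be an algebraically closed field, Λ a complete local Noetherian k-algebra with residue field
k, P = Λ[[X_1, …, X_d]] the power series ring, J an ideal of P contained in (X_1, …, X_d)^2, R =
P/J, and L a simple R-module (a copy of the residue field k). Then: (a) for every Λ-extension 0 → L
→ E → R → 0 the quotient map P → R lifts to a Λ-algebra map u : P → E; (b) for two such extensions
E, E' with lifts u, u', the extensions are equivalent if and only if u and u' send every element of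
J to the images of the same element of L (the restrictions J → L of the lifts agree); (c) every
P-linear map J → L is the restriction of a lift for some extension. Thus the classes of Λ-extensions
of R by L correspond bijectively to Hom_P(J, L), the dual of J/m_P J; this is the identification of
the obstruction space o(R/Λ) for a complete R (the general case reduces to it by passing to the
completion). -/
theorem result
    {k : Type u} [Field k] [IsAlgClosed k]
    {Λ : Type u} [CommRing Λ] [Algebra k Λ] [IsLocalRing Λ] [IsNoetherianRing Λ]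
    [IsAdicComplete (IsLocalRing.maximalIdeal Λ) Λ]
    (hΛ : ∀ a : Λ, ∃ c : k, a - algebraMap k Λ c ∈ IsLocalRing.maximalIdeal Λ)
    (d : ℕ) (J : Ideal (MvPowerSeries (Fin d) Λ))
    (hJ : J ≤ Ideal.span (Set.range (MvPowerSeries.X : Fin d → MvPowerSeries (Fin d) Λ)) ^ 2)
    (L : Type u) [AddCommGroup L] [Module (MvPowerSeries (Fin d) Λ ⧸ J) L] [Module (MvPowerSeries (Fin d) Λ) L]
    [IsScalarTower (MvPowerSeries (Fin d) Λ) (MvPowerSeries (Fin d) Λ ⧸ J) L] [IsSimpleModule (MvPowerSeries (Fin d) Λ ⧸ J) L] :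
    (∀ X : Exal.Ext Λ (MvPowerSeries (Fin d) Λ ⧸ J) L,
        ∃ u : MvPowerSeries (Fin d) Λ →ₐ[Λ] X.E, ∀ p, X.proj (u p) = Ideal.Quotient.mk J p) ∧
    (∀ (X X' : Exal.Ext Λ (MvPowerSeries (Fin d) Λ ⧸ J) L) (u : MvPowerSeries (Fin d) Λ →ₐ[Λ] X.E) (u' : MvPowerSeries (Fin d) Λ →ₐ[Λ] X'.E),
        (∀ p, X.proj (u p) = Ideal.Quotient.mk J p) → (∀ p, X'.proj (u' p) = Ideal.Quotient.mk J p) →
        (Nonempty (X.Equiv X') ↔ ∀ j ∈ J, ∃ z : L, X.incl z = u j ∧ X'.incl z = u' j)) ∧
    (∀ δ : J →ₗ[MvPowerSeries (Fin d) Λ] L, ∃ (X : Exal.Ext Λ (MvPowerSeries (Fin d) Λ ⧸ J) L) (u : MvPowerSeries (Fin d) Λ →ₐ[Λ] X.E),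
        (∀ p, X.proj (u p) = Ideal.Quotient.mk J p) ∧ ∀ j : J, X.incl (δ j) = u j) := by
  refine ⟨fun X => part_a J X, fun X X' u u' hu hu' => ?_, fun δ => part_c J δ⟩
  exact part_b J hJ (smul_eq_zero_of_mem_span_X J) X X' u u' hu hu' 

end Groth.Agent.S11287
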