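import Groth.Statements.S11288
import Mathlib.LinearAlgebra.Basis.VectorSpace
-- import your own Groth.Agent.* helpers here

set_option autoImplicit false
universe u
open Deform

namespace Groth.Agent.S11288

/-- Let K be a field, R' a local Artinian K-algebra with residue field K, and t a nonzero element of the
maximal ideal m' of R' with m' t = 0, so that R' → R = R'/(t) is a small extension of R. Then the
extension is trivial, i.e. the projection admits a section which is a K-algebra map, if and only if
t is not in m'^2; equivalently, iff the surjection m'/m'^2 → m_R/m_R^2 induced on cotangent spaces,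
whose kernel is spanned by the class of t, is not bijective. For instance K[t]/(t^(n+1)) →
K[t]/(t^n) is a non-trivial small extension for n ≥ 2. (The published example allows any local
K-algebra with residue field K; the row takes R' Artinian, the case in which the subalgebra
generated by lifts of a basis of the cotangent space maps onto R.) -/
theorem result
    {K : Type u} [Field K]
    {R' : Type u} [CommRing R'] [Algebra K R'] [IsLocalRing R'] [IsArtinianRing R']
    (hres : ∀ a : R', ∃ c : K, a - algebraMap K R' c ∈ IsLocalRing.maximalIdeal R')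
    (t : R') (ht : t ∈ IsLocalRing.maximalIdeal R') (ht0 : t ≠ 0)
    (htm : ∀ a ∈ IsLocalRing.maximalIdeal R', a * t = 0) :
    (∃ s : (R' ⧸ Ideal.span {t}) →ₐ[K] R', ∀ x, Ideal.Quotient.mk (Ideal.span {t}) (s x) = x) ↔
      t ∉ IsLocalRing.maximalIdeal R' ^ 2 := by
  classical
  set 𝔪 := IsLocalRing.maximalIdeal R' with h𝔪
  have htt : t * t = 0 := htm t ht
  constructor
  · rintro ⟨s, hs⟩ htsq
    set π := Ideal.Quotient.mk (Ideal.span {t}) with hπ
    -- s (π x) - x is a multiple of t
    have hdiff : ∀ x : R', ∃ c : R', s (π x) = x + c * t := by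
      intro x
      have h1 : π (s (π x) - x) = 0 := by rw [map_sub, hs, sub_self]
      rw [hπ, Ideal.Quotient.eq_zero_iff_mem, Ideal.mem_span_singleton'] at h1
      obtain ⟨c, hc⟩ := h1
      exact ⟨c, by rw [hc]; ring⟩
    have hP : ∀ x ∈ 𝔪 ^ 2, s (π x) = x := by
      intro x hx
      rw [pow_two] at hx
      refine Submodule.mul_induction_on hx ?_ ?_
      · intro a ha b hb
        obtain ⟨c, hc⟩ := hdiff a
        obtain ⟨d, hd⟩ := hdiff b
        rw [map_mul, map_mul, hc, hd]
        have e1 : a * t = 0 := htm a ha
        have e2 : b * t = 0 := htm b hb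
        calc (a + c * t) * (b + d * t)
            = a * b + d * (a * t) + c * (b * t) + c * d * (t * t) := by ring
          _ = a * b := by rw [e1, e2, htt]; ring
      · intro x y hx hy
        rw [map_add, map_add, hx, hy]
    have h2 := hP t htsq
    have h3 : π t = 0 := by
      rw [hπ, Ideal.Quotient.eq_zero_iff_mem]
      exact Ideal.mem_span_singleton_self t
    rw [h3, map_zero] at h2
    exact ht0 h2.symm
  · intro htsq
    -- a functional vanishing on K·1 + 𝔪² with value 1 at t
    set W : Submodule K R' := Submodule.span K {(1 : R')} ⊔ (𝔪 ^ 2).restrictScalars K with hW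
    have htW : t ∉ W := by
      intro hmem
      rw [hW, Submodule.mem_sup] at hmem
      obtain ⟨y, hy, z, hz, hyz⟩ := hmem
      rw [Submodule.mem_span_singleton] at hy
      obtain ⟨c, rfl⟩ := hy
      have hz' : z ∈ 𝔪 ^ 2 := hz
      have hzm : z ∈ 𝔪 := Ideal.pow_le_self two_ne_zero hz'
      have hc : c • (1 : R') ∈ 𝔪 := by
        have : c • (1 : R') = t - z := by rw [← hyz]; ring
        rw [this]
        exact 𝔪.sub_mem ht hzm
      have hc0 : c = 0 := by
        by_contra hne
        have hu : IsUnit (c • (1 : R')) := by
          rw [Algebra.smul_def, mul_one]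
          exact (IsUnit.mk0 c hne).map (algebraMap K R')
        exact (IsLocalRing.mem_maximalIdeal _).mp hc hu
      rw [hc0, zero_smul, zero_add] at hyz
      exact htsq (hyz ▸ hz')
    obtain ⟨f, hft, hWf⟩ := Submodule.exists_le_ker_of_notMem htW
    set φ : R' →ₗ[K] K := (f t)⁻¹ • f with hφ
    have hφt : φ t = 1 := by
      rw [hφ, LinearMap.smul_apply, smul_eq_mul, inv_mul_cancel₀ hft]
    have hφW : ∀ x ∈ W, φ x = 0 := by
      intro x hx
      have : f x = 0 := hWf hx
      rw [hφ, LinearMap.smul_apply, this, smul_zero]
    have hφ1 : φ 1 = 0 := hφW 1 (Submodule.mem_sup_left (Submodule.subset_span rfl))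
    have hφalg : ∀ c : K, φ (algebraMap K R' c) = 0 := by
      intro c
      rw [Algebra.algebraMap_eq_smul_one, map_smul, hφ1, smul_zero]
    have hφmm : ∀ x ∈ 𝔪, ∀ y ∈ 𝔪, φ (x * y) = 0 := by
      intro x hx y hy
      apply hφW
      apply Submodule.mem_sup_right
      change x * y ∈ 𝔪 ^ 2
      rw [pow_two]
      exact Ideal.mul_mem_mul hx hy
    -- the retraction σ x = x - φ x • t
    have hmul : ∀ x y : R', (x * y) - φ (x * y) • t = (x - φ x • t) * (y - φ y • t) := by
      intro x y
      obtain ⟨a, ha⟩ := hres x
      obtain ⟨b, hb⟩ := hres y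
      set x' := x - algebraMap K R' a with hx'
      set y' := y - algebraMap K R' b with hy'
      have hx : x = algebraMap K R' a + x' := by rw [hx']; ring
      have hy : y = algebraMap K R' b + y' := by rw [hy']; ring
      have e1 : x' * t = 0 := htm x' ha
      have e2 : y' * t = 0 := htm y' hb
      have hφx : φ x = φ x' := by rw [hx, map_add, hφalg, zero_add]
      have hφy : φ y = φ y' := by rw [hy, map_add, hφalg, zero_add]
      have hφxy : φ (x * y) = a * φ y' + b * φ x' := by
        have : x * y = algebraMap K R' (a * b) + a • y' + b • x' + x' * y' := by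
          rw [hx, hy, Algebra.smul_def, Algebra.smul_def, map_mul]; ring
        rw [this, map_add, map_add, map_add, hφalg, map_smul, map_smul, hφmm x' ha y' hb,
          smul_eq_mul, smul_eq_mul]
        ring
      rw [hφxy, hφx, hφy]
      simp only [Algebra.smul_def, map_add, map_mul]
      rw [hx, hy]
      have e3 : algebraMap K R' (φ x') * t * (algebraMap K R' (φ y') * t) = 0 := by
        calc algebraMap K R' (φ x') * t * (algebraMap K R' (φ y') * t)
            = algebraMap K R' (φ x') * algebraMap K R' (φ y') * (t * t) := by ring
          _ = 0 := by rw [htt, mul_zero]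
      calc (algebraMap K R' a + x') * (algebraMap K R' b + y') -
            (algebraMap K R' a * algebraMap K R' (φ y') + algebraMap K R' b * algebraMap K R' (φ x')) * t
          = (algebraMap K R' a + x') * (algebraMap K R' b + y')
            - algebraMap K R' (φ y') * algebraMap K R' a * t
            - algebraMap K R' (φ x') * algebraMap K R' b * t
            - algebraMap K R' (φ y') * (x' * t) - algebraMap K R' (φ x') * (y' * t)
            + algebraMap K R' (φ x') * t * (algebraMap K R' (φ y') * t) := by
              rw [e1, e2, e3]; ring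
        _ = (algebraMap K R' a + x' - algebraMap K R' (φ x') * t) *
            (algebraMap K R' b + y' - algebraMap K R' (φ y') * t) := by ring
    let σ : R' →ₐ[K] R' :=
      { toFun := fun x => x - φ x • t
        map_one' := by rw [hφ1, zero_smul, sub_zero]
        map_mul' := hmul
        map_zero' := by rw [map_zero, zero_smul, sub_zero]
        map_add' := fun x y => by rw [map_add, add_smul]; abel
        commutes' := fun c => by rw [hφalg, zero_smul, sub_zero] }
    have hσ : ∀ x : R', σ x = x - φ x • t := fun x => rfl
    have hσt : ∀ x ∈ Ideal.span {t}, σ x = 0 := by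
      intro x hx
      rw [Ideal.mem_span_singleton'] at hx
      obtain ⟨r, rfl⟩ := hx
      obtain ⟨a, ha⟩ := hres r
      have e1 : (r - algebraMap K R' a) * t = 0 := htm _ ha
      have hr : r * t = a • t := by
        rw [Algebra.smul_def]
        have : r * t = (r - algebraMap K R' a) * t + algebraMap K R' a * t := by ring
        rw [this, e1, zero_add]
      rw [hσ, hr, map_smul, hφt, smul_eq_mul, mul_one, sub_self]
    refine ⟨Ideal.Quotient.liftₐ (Ideal.span {t}) σ hσt, ?_⟩
    intro x
    obtain ⟨y, rfl⟩ := Ideal.Quotient.mk_surjective x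
    have : (Ideal.Quotient.liftₐ (Ideal.span {t}) σ hσt) (Ideal.Quotient.mk (Ideal.span {t}) y) = σ y :=
      Ideal.Quotient.liftₐ_apply _ _ _ _
    rw [this, hσ, map_sub, sub_eq_self, Ideal.Quotient.eq_zero_iff_mem, Algebra.smul_def]
    exact Ideal.mul_mem_left _ _ (Ideal.mem_span_singleton_self t)


end Groth.Agent.S11288
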