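import Groth.Statements.S11291
import Mathlib.RingTheory.Ideal.Cotangent
import Mathlib.RingTheory.MvPolynomial.Ideal
import Mathlib.RingTheory.Polynomial.Basic
import Mathlib.RingTheory.Nakayama
import Mathlib.RingTheory.HopkinsLevitzki
import Mathlib.LinearAlgebra.Dual.Lemmas
-- import your own Groth.Agent.* helpers here

set_option autoImplicit false
universe u
open Deform

namespace Groth.Agent.S11291


open IsLocalRing MvPolynomial

section Setup

variable (k : Type u) [Field k] (A : Type u) [CommRing A] [Algebra k A] [IsLocalRing A]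
  [IsArtinianRing A]

/-- index set of a basis of the cotangent space -/
abbrev Idx : Type u := Module.Free.ChooseBasisIndex (ResidueField A) (CotangentSpace A)

noncomputable def bas : Module.Basis (Idx A) (ResidueField A) (CotangentSpace A) :=
  Module.Free.chooseBasis _ _

noncomputable def gen (i : Idx A) : maximalIdeal A :=
  ((maximalIdeal A).toCotangent_surjective (bas A i)).choose

omit [IsArtinianRing A] in
lemma toCotangent_gen (i : Idx A) : (maximalIdeal A).toCotangent (gen A i) = bas A i :=
  ((maximalIdeal A).toCotangent_surjective (bas A i)).choose_spec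

lemma span_gen : Ideal.span (Set.range (fun i : Idx A => (gen A i : A))) = maximalIdeal A := by
  have h : Submodule.span A (Set.range (gen A)) = ⊤ := by
    rw [← CotangentSpace.span_image_eq_top_iff, ← Set.range_comp]
    have : ((maximalIdeal A).toCotangent ∘ gen A) = bas A := funext (toCotangent_gen A)
    rw [this]
    exact (bas A).span_eq
  have h2 : Ideal.span (Set.range (fun i : Idx A => (gen A i : A)))
      = (Submodule.span A (Set.range (gen A))).map (Submodule.subtype _) := by
    rw [Submodule.map_span, ← Set.range_comp]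
    rfl
  rw [h2, h, Submodule.map_top, Submodule.range_subtype]

/-- the presentation map -/
noncomputable def phi : MvPolynomial (Idx A) k →ₐ[k] A := aeval (fun i => (gen A i : A))

end Setup

section Facts

variable {k : Type u} [Field k] {A : Type u} [CommRing A] [Algebra k A] [IsLocalRing A]
  [IsArtinianRing A]

omit [IsArtinianRing A] in
lemma phi_X (i : Idx A) : phi k A (X i) = gen A i := aeval_X _ _

lemma map_phi_M : Ideal.map (phi k A) (idealOfVars (Idx A) k) = maximalIdeal A := by
  rw [idealOfVars, Ideal.map_span, ← Set.range_comp]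
  have : (⇑(phi k A) ∘ X) = fun i => (gen A i : A) := funext (fun i => phi_X i)
  rw [this, span_gen]

lemma phi_mem_of_mem_M {p : MvPolynomial (Idx A) k} (hp : p ∈ idealOfVars (Idx A) k) :
    phi k A p ∈ maximalIdeal A := by
  rw [← map_phi_M (k := k)]
  exact Ideal.mem_map_of_mem _ hp

lemma exists_sub_mem_pow_succ
    (hres : ∀ a : A, ∃ c : k, a - algebraMap k A c ∈ maximalIdeal A) (n : ℕ) (a : A)
    (ha : a ∈ maximalIdeal A ^ n) :
    ∃ p ∈ idealOfVars (Idx A) k ^ n, a - phi k A p ∈ maximalIdeal A ^ (n + 1) := by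
  have h1 : maximalIdeal A ^ n = Ideal.map (phi k A) (idealOfVars (Idx A) k ^ n) := by
    rw [Ideal.map_pow, map_phi_M]
  rw [h1, Ideal.map] at ha
  induction ha using Submodule.span_induction with
  | mem x hx =>
    obtain ⟨p, hp, rfl⟩ := hx
    exact ⟨p, hp, by simp⟩
  | zero => exact ⟨0, zero_mem _, by simp⟩
  | add x y _ _ hx hy =>
    obtain ⟨p, hp, hpx⟩ := hx
    obtain ⟨q, hq, hqy⟩ := hy
    refine ⟨p + q, add_mem hp hq, ?_⟩
    rw [map_add]
    convert add_mem hpx hqy using 1
    ring
  | smul b x _ hx =>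
    obtain ⟨p, hp, hpx⟩ := hx
    obtain ⟨c, hc⟩ := hres b
    refine ⟨C c * p, Ideal.mul_mem_left _ _ hp, ?_⟩
    have : b • x - phi k A (C c * p)
        = b * (x - phi k A p) + (b - algebraMap k A c) * phi k A p := by
      rw [map_mul, smul_eq_mul]
      have : phi k A (C c) = algebraMap k A c := by simp [phi]
      rw [this]
      ring
    rw [this]
    refine add_mem (Ideal.mul_mem_left _ _ hpx) ?_
    rw [pow_succ']
    exact Ideal.mul_mem_mul hc (by rw [h1]; exact Ideal.mem_map_of_mem _ hp)

lemma phi_surjective (hres : ∀ a : A, ∃ c : k, a - algebraMap k A c ∈ maximalIdeal A) :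
    Function.Surjective (phi k A) := by
  obtain ⟨N, hN⟩ : ∃ N, maximalIdeal A ^ N = ⊥ := by
    have := IsArtinianRing.isNilpotent_jacobson_bot (R := A)
    rw [IsLocalRing.jacobson_eq_maximalIdeal _ bot_ne_top] at this
    exact this
  have key : ∀ n, ∀ a : A, ∃ p, a - phi k A p ∈ maximalIdeal A ^ n := by
    intro n
    induction n with
    | zero => intro a; exact ⟨0, by simp⟩
    | succ n ih =>
      intro a
      obtain ⟨p, hp⟩ := ih a
      obtain ⟨q, -, hq⟩ := exists_sub_mem_pow_succ hres n _ hp
      refine ⟨p + q, ?_⟩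
      rw [map_add]
      convert hq using 1
      ring
  intro a
  obtain ⟨p, hp⟩ := key N a
  rw [hN] at hp
  exact ⟨p, (sub_eq_zero.mp hp).symm⟩

lemma exists_decomp (σ : Type*) (p : MvPolynomial σ k) :
    ∃ (a : k) (v : σ →₀ k),
      p - C a - Finsupp.linearCombination k (X : σ → MvPolynomial σ k) v
        ∈ idealOfVars σ k ^ 2 := by
  induction p using MvPolynomial.induction_on with
  | C a => exact ⟨a, 0, by simp⟩
  | add p q hp hq =>
    obtain ⟨a, v, h⟩ := hp
    obtain ⟨b, w, h'⟩ := hq
    refine ⟨a + b, v + w, ?_⟩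
    rw [map_add, map_add]
    convert add_mem h h' using 1
    ring
  | mul_X p i hp =>
    obtain ⟨a, v, h⟩ := hp
    refine ⟨0, Finsupp.single i a, ?_⟩
    have : p * X i - C 0 - Finsupp.linearCombination k X (Finsupp.single i a)
        = (p - C a - Finsupp.linearCombination k (X : σ → MvPolynomial σ k) v) * X i
          + Finsupp.linearCombination k (X : σ → MvPolynomial σ k) v * X i := by
      rw [Finsupp.linearCombination_single, smul_eq_C_mul, map_zero]
      ring
    rw [this]
    refine add_mem (Ideal.mul_mem_right _ _ h) ?_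
    rw [pow_two]
    refine Ideal.mul_mem_mul ?_ (Ideal.subset_span ⟨i, rfl⟩)
    rw [Finsupp.linearCombination_apply]
    refine Submodule.sum_mem _ (fun j _ => ?_)
    show v j • X j ∈ _
    rw [smul_eq_C_mul]
    exact Ideal.mul_mem_left _ _ (Ideal.subset_span ⟨j, rfl⟩)

lemma exists_pow_maximalIdeal_eq_bot : ∃ N, maximalIdeal A ^ N = ⊥ := by
  have := IsArtinianRing.isNilpotent_jacobson_bot (R := A)
  rw [IsLocalRing.jacobson_eq_maximalIdeal _ bot_ne_top] at this
  exact this

omit [IsArtinianRing A] in
lemma phi_C (a : k) : phi k A (C a) = algebraMap k A a := by simp [phi]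

lemma ker_le_sq : RingHom.ker (phi k A) ≤ idealOfVars (Idx A) k ^ 2 := by
  intro p hp
  have hp0 : phi k A p = 0 := hp
  obtain ⟨a, v, h⟩ := exists_decomp (k := k) (Idx A) p
  set r := p - C a - Finsupp.linearCombination k (X : Idx A → MvPolynomial (Idx A) k) v with hr
  have hφr : phi k A r ∈ maximalIdeal A ^ 2 := by
    rw [← map_phi_M (k := k), ← Ideal.map_pow]
    exact Ideal.mem_map_of_mem _ h
  let y : maximalIdeal A := ∑ i ∈ v.support, algebraMap k A (v i) • gen A i
  have hy : phi k A (Finsupp.linearCombination k X v) = (y : A) := by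
    rw [Finsupp.linearCombination_apply, Finsupp.sum, map_sum]
    simp only [y, Submodule.coe_sum, Submodule.coe_smul, smul_eq_mul]
    refine Finset.sum_congr rfl (fun i _ => ?_)
    rw [smul_eq_C_mul, map_mul, phi_X, phi_C]
  have e1 : algebraMap k A a + y + phi k A r = 0 := by
    rw [← hy, hr, map_sub, map_sub, hp0, phi_C]
    ring
  have ha : a = 0 := by
    by_contra hne
    have hu : IsUnit (algebraMap k A a) := (IsUnit.mk0 a hne).map _
    have hmem : algebraMap k A a ∈ maximalIdeal A := by
      have : algebraMap k A a = -(y + phi k A r) := by linear_combination e1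
      rw [this]
      exact neg_mem (add_mem y.2 (Ideal.pow_le_self two_ne_zero hφr))
    exact (IsLocalRing.mem_maximalIdeal _).mp hmem hu
  have hy2 : (y : A) ∈ maximalIdeal A ^ 2 := by
    have : (y : A) = - phi k A r := by
      rw [ha, map_zero] at e1
      linear_combination e1
    rw [this]
    exact neg_mem hφr
  have hy0 : (maximalIdeal A).toCotangent y = 0 := (Ideal.toCotangent_eq_zero _ _).mpr hy2
  have hsum : ∑ i ∈ v.support, (algebraMap k (ResidueField A) (v i)) • bas A i = 0 := by
    rw [← hy0]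
    simp only [y, map_sum, map_smul, toCotangent_gen]
    refine Finset.sum_congr rfl (fun i _ => ?_)
    rw [IsScalarTower.algebraMap_apply k A (ResidueField A), algebraMap_smul]
  have hv : v = 0 := by
    have := linearIndependent_iff'.mp (bas A).linearIndependent v.support
      (fun i => algebraMap k (ResidueField A) (v i)) hsum
    ext i
    by_cases hi : i ∈ v.support
    · exact (map_eq_zero _).mp (this i hi)
    · simpa using hi
  have : p = r := by
    rw [hr, ha, hv]
    simp
  rw [this]
  exact h

lemma ker_not_le (hA : maximalIdeal A ≠ ⊥) :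
    ¬ RingHom.ker (phi k A) ≤ idealOfVars (Idx A) k * RingHom.ker (phi k A) := by
  intro hle
  have hne : Nonempty (Idx A) := by
    by_contra h
    rw [not_nonempty_iff] at h
    apply hA
    rw [← span_gen A]
    simp
  obtain ⟨i⟩ := hne
  obtain ⟨N, hN⟩ := exists_pow_maximalIdeal_eq_bot (A := A)
  have hXN : (X i : MvPolynomial (Idx A) k) ^ N ∈ RingHom.ker (phi k A) := by
    rw [RingHom.mem_ker, map_pow, phi_X]
    have : (gen A i : A) ^ N ∈ maximalIdeal A ^ N := Ideal.pow_mem_pow (gen A i).2 N
    rw [hN] at this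
    exact this
  have hfg : (RingHom.ker (phi k A)).FG := IsNoetherian.noetherian _
  obtain ⟨r, hr1, hr2⟩ := Submodule.exists_sub_one_mem_and_smul_eq_zero_of_fg_of_le_smul
    (idealOfVars (Idx A) k) (RingHom.ker (phi k A)) hfg (by rw [smul_eq_mul]; exact hle)
  have := hr2 _ hXN
  rw [smul_eq_mul, mul_eq_zero] at this
  rcases this with h | h
  · rw [h, zero_sub] at hr1
    have h1 : (1 : MvPolynomial (Idx A) k) ∈ idealOfVars (Idx A) k := by
      simpa using neg_mem hr1
    have := phi_mem_of_mem_M h1
    rw [map_one] at this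
    exact (IsLocalRing.mem_maximalIdeal _).mp this isUnit_one
  · exact pow_ne_zero N (X_ne_zero i) h

end Facts




section General

variable {k : Type u} [Field k] {A : Type u} [CommRing A] [Algebra k A] [IsLocalRing A]

lemma algebraMap_residueField_bijective
    (hres : ∀ a : A, ∃ c : k, a - algebraMap k A c ∈ maximalIdeal A) :
    Function.Bijective (algebraMap k (ResidueField A)) := by
  refine ⟨(algebraMap k (ResidueField A)).injective, fun z => ?_⟩
  obtain ⟨a, rfl⟩ := IsLocalRing.residue_surjective z
  obtain ⟨c, hc⟩ := hres a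
  refine ⟨c, ?_⟩
  rw [IsScalarTower.algebraMap_apply k A (ResidueField A), ResidueField.algebraMap_eq]
  have := (IsLocalRing.residue_eq_zero_iff _).mpr hc
  rw [map_sub, sub_eq_zero] at this
  exact this.symm

/-- the inverse of `k ≃ κ(A)` -/
noncomputable def ek (hres : ∀ a : A, ∃ c : k, a - algebraMap k A c ∈ maximalIdeal A) :
    k ≃+* ResidueField A :=
  RingEquiv.ofBijective (algebraMap k (ResidueField A)) (algebraMap_residueField_bijective hres)

variable {P : Type u} [CommRing P] [Algebra k P]

/-- the ideal `J'' = {j ∈ J | ℓ j = 0}` -/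
def subIdeal (φ : P →ₐ[k] A) (M : Ideal P) (hM : ∀ p : P, ∃ c : k, p - algebraMap k P c ∈ M)
    (l : P →ₗ[k] k)
    (hl : ∀ w ∈ M * RingHom.ker φ, l w = 0) : Ideal P where
  carrier := {j | j ∈ RingHom.ker φ ∧ l j = 0}
  add_mem' := by
    rintro a b ⟨ha, ha'⟩ ⟨hb, hb'⟩
    exact ⟨add_mem ha hb, by rw [map_add, ha', hb', add_zero]⟩
  zero_mem' := ⟨zero_mem _, map_zero _⟩
  smul_mem' := by
    rintro p j ⟨hj, hj'⟩
    refine ⟨Ideal.mul_mem_left _ _ hj, ?_⟩
    obtain ⟨c, hc⟩ := hM p
    have : p • j = (p - algebraMap k P c) * j + c • j := by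
      rw [smul_eq_mul, Algebra.smul_def c j]; ring
    rw [this, map_add, map_smul, hj', smul_zero, add_zero]
    exact hl _ (Ideal.mul_mem_mul hc hj)

lemma smul_residueField_eq_zero {a : A} (ha : a ∈ maximalIdeal A) (z : ResidueField A) :
    a • z = 0 := by
  rw [Algebra.smul_def, ResidueField.algebraMap_eq, (IsLocalRing.residue_eq_zero_iff _).mpr ha,
    zero_mul]

theorem exists_nontrivial_of_presentation
    (hres : ∀ a : A, ∃ c : k, a - algebraMap k A c ∈ maximalIdeal A)
    (φ : P →ₐ[k] A) (hφ : Function.Surjective φ)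
    (M : Ideal P) (hM : ∀ p : P, ∃ c : k, p - algebraMap k P c ∈ M)
    (hMm : ∀ p ∈ M, φ p ∈ maximalIdeal A)
    (hJ2 : RingHom.ker φ ≤ M ^ 2) (hJ : ¬ RingHom.ker φ ≤ M * RingHom.ker φ) :
    ∃ X : Exal.Ext k A (ResidueField A), ¬ X.IsTrivial := by
  obtain ⟨j₀, hj₀, hj₀'⟩ := SetLike.not_le_iff_exists.mp hJ
  obtain ⟨l, hl0, hl1⟩ := LinearMap.exists_extend_of_notMem (K := k)
    (p := (M * RingHom.ker φ).restrictScalars k) (0 : _ →ₗ[k] k) (v := j₀)
    (fun h => hj₀' h) 1
  have hl : ∀ w ∈ M * RingHom.ker φ, l w = 0 := fun w hw => by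
    have := LinearMap.congr_fun hl0 ⟨w, hw⟩
    exact this
  set J2 := subIdeal φ M hM l hl with hJ2def
  have hMJ : M * RingHom.ker φ ≤ J2 := fun w hw => ⟨Ideal.mul_le_right hw, hl w hw⟩
  let e := ek hres
  let proj : P ⧸ J2 →ₐ[k] A := Ideal.Quotient.liftₐ J2 φ (fun a ha => ha.1)
  let incl : ResidueField A →+ P ⧸ J2 :=
    AddMonoidHom.mk' (fun z => Ideal.Quotient.mk J2 (algebraMap k P (e.symm z) * j₀))
      (fun a b => by simp [map_add, add_mul])
  have hφj₀ : φ j₀ = 0 := hj₀
  have key : ∀ j ∈ RingHom.ker φ, j - algebraMap k P (l j) * j₀ ∈ J2 := by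
    intro j hj
    refine ⟨sub_mem hj (Ideal.mul_mem_left _ _ hj₀), ?_⟩
    rw [map_sub, ← Algebra.smul_def, map_smul, hl1, smul_eq_mul, mul_one, sub_self]
  have hext : Exal.IsExtension proj incl := by
    refine ⟨?_, ?_, ?_, ?_⟩
    · intro a
      obtain ⟨p, rfl⟩ := hφ a
      exact ⟨Ideal.Quotient.mk J2 p, rfl⟩
    · rw [injective_iff_map_eq_zero]
      intro z hz
      have : algebraMap k P (e.symm z) * j₀ ∈ J2 := Ideal.Quotient.eq_zero_iff_mem.mp hz
      have h2 := this.2
      rw [← Algebra.smul_def, map_smul, hl1, smul_eq_mul, mul_one] at h2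
      exact (e.symm.map_eq_zero_iff).mp h2
    · intro x
      obtain ⟨p, rfl⟩ := Ideal.Quotient.mk_surjective x
      constructor
      · intro h
        have hp : p ∈ RingHom.ker φ := h
        refine ⟨e (l p), ?_⟩
        show Ideal.Quotient.mk J2 (algebraMap k P (e.symm (e (l p))) * j₀) = _
        rw [e.symm_apply_apply]
        exact (Ideal.Quotient.eq.mpr (key p hp)).symm
      · rintro ⟨z, hz⟩
        rw [← hz]
        show φ (algebraMap k P (e.symm z) * j₀) = 0
        rw [map_mul, hφj₀, mul_zero]
    · intro x z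
      obtain ⟨p, rfl⟩ := Ideal.Quotient.mk_surjective x
      obtain ⟨c, hc⟩ := hM p
      have h1 : proj (Ideal.Quotient.mk J2 p) • z = e (c * e.symm z) := by
        show φ p • z = _
        have : φ p = φ (p - algebraMap k P c) + algebraMap k A c := by
          rw [map_sub, AlgHom.commutes]; ring
        rw [this, add_smul, smul_residueField_eq_zero (hMm _ hc), zero_add, map_mul,
          e.apply_symm_apply, algebraMap_smul, Algebra.smul_def]
        rfl
      rw [h1]
      show Ideal.Quotient.mk J2 p * Ideal.Quotient.mk J2 (algebraMap k P (e.symm z) * j₀)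
        = Ideal.Quotient.mk J2 (algebraMap k P (e.symm (e (c * e.symm z))) * j₀)
      rw [e.symm_apply_apply, ← map_mul, Ideal.Quotient.eq]
      have : p * (algebraMap k P (e.symm z) * j₀) - algebraMap k P (c * e.symm z) * j₀
          = (p - algebraMap k P c) * (algebraMap k P (e.symm z) * j₀) := by
        rw [map_mul]; ring
      rw [this]
      exact hMJ (Ideal.mul_mem_mul hc (Ideal.mul_mem_left _ _ hj₀))
  refine ⟨⟨P ⧸ J2, proj, incl, hext⟩, ?_⟩
  rintro ⟨s, hs⟩
  change ∀ b : A, proj (s b) = b at hs
  have hM1 : ∀ p ∈ M, ∃ z, Ideal.Quotient.mk J2 p = s (φ p) + incl z := by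
    intro p _
    have : proj (Ideal.Quotient.mk J2 p - s (φ p)) = 0 := by
      rw [map_sub, hs]
      exact sub_self _
    obtain ⟨z, hz⟩ := (hext.exact _).mp this
    exact ⟨z, by rw [hz]; ring⟩
  have hM2 : ∀ p ∈ M, ∀ q ∈ M, Ideal.Quotient.mk J2 (p * q) = s (φ (p * q)) := by
    intro p hp q hq
    obtain ⟨z, hz⟩ := hM1 p hp
    obtain ⟨w, hw⟩ := hM1 q hq
    have h1 : s (φ p) * incl w = 0 := by
      rw [hext.mul_incl, hs, smul_residueField_eq_zero (hMm p hp), map_zero]
    have h2 : s (φ q) * incl z = 0 := by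
      rw [hext.mul_incl, hs, smul_residueField_eq_zero (hMm q hq), map_zero]
    have h3 : incl z * incl w = 0 := by
      rw [hext.mul_incl, (hext.exact _).mpr ⟨z, rfl⟩, zero_smul, map_zero]
    rw [map_mul, map_mul, map_mul, hz, hw]
    linear_combination h1 + h2 + h3
  have hM3 : ∀ j ∈ M ^ 2, Ideal.Quotient.mk J2 j = s (φ j) := by
    intro j hj
    rw [pow_two] at hj
    refine Submodule.mul_induction_on hj (fun p hp q hq => hM2 p hp q hq) (fun x y hx hy => ?_)
    rw [map_add, map_add, map_add, hx, hy]
  have h0 : Ideal.Quotient.mk J2 j₀ = 0 := by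
    rw [hM3 j₀ (hJ2 hj₀), hφj₀, map_zero]
  have : j₀ ∈ J2 := Ideal.Quotient.eq_zero_iff_mem.mp h0
  have h2 := this.2
  rw [hl1] at h2
  exact one_ne_zero h2

end General



/-- Let k be an algebraically closed field and A a local Artinian k-algebra with residue field k and
non-zero maximal ideal, i.e. A is not k. Then the obstruction space o(A) = Ex_k(A, k) is not zero:
there is a k-extension 0 → k → E → A → 0 of A by its residue field which is not trivial (admits no
k-algebra section). Equivalently, k is the only formally smooth object among local Artinian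
k-algebras with residue field k. -/
theorem result
    {k : Type u} [Field k] [IsAlgClosed k]
    {A : Type u} [CommRing A] [Algebra k A] [IsLocalRing A] [IsArtinianRing A]
    (hres : ∀ a : A, ∃ c : k, a - algebraMap k A c ∈ IsLocalRing.maximalIdeal A)
    (hA : IsLocalRing.maximalIdeal A ≠ ⊥) :
    ∃ X : Exal.Ext k A (IsLocalRing.ResidueField A), ¬ X.IsTrivial := by
  classical
  refine exists_nontrivial_of_presentation hres (phi k A) (phi_surjective hres)
    (MvPolynomial.idealOfVars (Idx A) k) ?_ (fun p hp => phi_mem_of_mem_M hp) ker_le_sq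
    (ker_not_le hA)
  intro p
  obtain ⟨a, v, h⟩ := exists_decomp (k := k) (Idx A) p
  refine ⟨a, ?_⟩
  have : p - algebraMap k (MvPolynomial (Idx A) k) a
      = (p - MvPolynomial.C a - Finsupp.linearCombination k
          (MvPolynomial.X : Idx A → MvPolynomial (Idx A) k) v)
        + Finsupp.linearCombination k (MvPolynomial.X : Idx A → MvPolynomial (Idx A) k) v := by
    rw [MvPolynomial.algebraMap_eq]
    ring
  rw [this]
  refine add_mem (Ideal.pow_le_self two_ne_zero h) ?_
  rw [Finsupp.linearCombination_apply]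
  refine Submodule.sum_mem _ (fun j _ => ?_)
  show v j • MvPolynomial.X j ∈ _
  rw [MvPolynomial.smul_eq_C_mul]
  exact Ideal.mul_mem_left _ _ (Ideal.subset_span ⟨j, rfl⟩)

end Groth.Agent.S11291
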