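import Groth.Statements.S5817
import Groth.Agent.H29.Exal

set_option autoImplicit false
universe u v
open EGA41

namespace Groth.Agent.S5817

attribute [local instance] Exal.opModule Exal.isCentralScalar_opModule

variable {A : Type u} {B C L : Type v} [CommRing A] [CommRing B] [CommRing C]
    [Algebra A B] [Algebra B C] [Algebra A C] [IsScalarTower A B C]
    [AddCommGroup L] [Module C L] [Module B L] [IsScalarTower B C L] [Module A L] [IsScalarTower A B L]
    [IsScalarTower A C L]

/-- the identity, as a ring isomorphism onto Mathlib's `TrivSqZeroExt` -/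
noncomputable def toT (D : Derivation A B L) :
    (Exal.Ext.ofDerivation (C := C) D).E ≃+* TrivSqZeroExt C L := RingEquiv.refl _

theorem toT_algebraMap (D : Derivation A B L) (b : B) :
    toT (C := C) D (algebraMap B _ b) =
      TrivSqZeroExt.inl (algebraMap B C b) + TrivSqZeroExt.inr (D b) := rfl

theorem fst_toT (D : Derivation A B L) (x : (Exal.Ext.ofDerivation (C := C) D).E) :
    TrivSqZeroExt.fst (toT D x) = (Exal.Ext.ofDerivation (C := C) D).proj x := rfl

/-- the section attached to a derivation of `C` extending `D` -/
noncomputable def secOf (D : Derivation A B L) (D' : Derivation A C L)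
    (h : D'.compAlgebraMap B = D) : C →ₐ[B] (Exal.Ext.ofDerivation (C := C) D).E :=
  { ((toT (C := C) D).symm.toRingHom.comp
      (Exal.Ext.derivationHom (A := A) (B := C) (C := C) D' : C →+* TrivSqZeroExt C L)) with
    commutes' := fun b => by
      apply (toT (C := C) D).injective
      change (toT (C := C) D) ((toT (C := C) D).symm
        (TrivSqZeroExt.inl (algebraMap C C (algebraMap B C b)) +
        TrivSqZeroExt.inr (D' (algebraMap B C b)))) = _
      rw [RingEquiv.apply_symm_apply, toT_algebraMap, ← h]
      rfl }

theorem fst_secOf (D : Derivation A B L) (D' : Derivation A C L)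
    (h : D'.compAlgebraMap B = D) (c : C) :
    (Exal.Ext.ofDerivation (C := C) D).proj (secOf D D' h c) = c := by
  rw [← fst_toT]
  change TrivSqZeroExt.fst ((toT (C := C) D) ((toT (C := C) D).symm
    (TrivSqZeroExt.inl (algebraMap C C c) + TrivSqZeroExt.inr (D' c)))) = c
  rw [RingEquiv.apply_symm_apply]
  simp


/-- Commutative rings, exactness at Der_A(B, L). For ring maps A → B → C and a C-module L, the
B-extension of C by L attached to an A-derivation D : B → L (middle ring C ⊕ L, made a B-algebra
through x ↦ (x, D x)) is trivial if and only if D is the composite of B → C with an A-derivation C →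
L. -/
theorem result {A : Type u} {B C L : Type v} [CommRing A] [CommRing B] [CommRing C]
    [Algebra A B] [Algebra B C] [Algebra A C] [IsScalarTower A B C]
    [AddCommGroup L] [Module C L] [Module B L] [IsScalarTower B C L] [Module A L] [IsScalarTower A B L]
    [IsScalarTower A C L]
    (D : Derivation A B L) :
    (Exal.Ext.ofDerivation (C := C) D).IsTrivial ↔
      ∃ D' : Derivation A C L, D'.compAlgebraMap B = D := by
  constructor
  · rintro ⟨s, hs⟩
    have hfst : ∀ c : C, TrivSqZeroExt.fst (toT D (s c)) = c := fun c => by rw [fst_toT, hs]
    have hsalg : ∀ b : B, toT D (s (algebraMap B C b)) =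
        TrivSqZeroExt.inl (algebraMap B C b) + TrivSqZeroExt.inr (D b) := fun b => by
      rw [s.commutes b, toT_algebraMap]
    let D' : Derivation A C L :=
      { toFun := fun c => TrivSqZeroExt.snd (toT D (s c))
        map_add' := fun c c' => by
          rw [map_add, map_add]; exact TrivSqZeroExt.snd_add _ _
        map_smul' := fun a c => by
          have h1 : a • c = algebraMap B C (algebraMap A B a) * c := by
            rw [← IsScalarTower.algebraMap_apply, Algebra.smul_def]
          rw [h1, map_mul, map_mul, hsalg, Derivation.map_algebraMap, TrivSqZeroExt.inr_zero, add_zero,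
              TrivSqZeroExt.snd_mul, TrivSqZeroExt.fst_inl, TrivSqZeroExt.snd_inl, smul_zero, add_zero,
              ← IsScalarTower.algebraMap_apply, algebraMap_smul, RingHom.id_apply]
        map_one_eq_zero' := by
          change TrivSqZeroExt.snd (toT D (s 1)) = 0
          rw [map_one, map_one]; exact TrivSqZeroExt.snd_one
        leibniz' := fun c c' => by
          change TrivSqZeroExt.snd (toT D (s (c * c'))) =
            c • TrivSqZeroExt.snd (toT D (s c')) + c' • TrivSqZeroExt.snd (toT D (s c))
          rw [map_mul, map_mul, TrivSqZeroExt.snd_mul, hfst, hfst, op_smul_eq_smul] }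
    refine ⟨D', ?_⟩
    ext b
    change TrivSqZeroExt.snd (toT D (s (algebraMap B C b))) = D b
    rw [hsalg]
    simp
  · rintro ⟨D', hD'⟩
    exact ⟨secOf D D' hD', fst_secOf D D' hD'⟩

end Groth.Agent.S5817
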