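import Groth.Statements.S5818
import Groth.Agent.H29.Exal
import Mathlib.Tactic.LinearCombination
import Mathlib.Tactic.Ring

set_option autoImplicit false
universe u v
open EGA41

namespace Groth.Agent.S5818

open Groth.Agent.H29.ExalL
attribute [local instance] Exal.opModule Exal.isCentralScalar_opModule

variable {A : Type u} {B C L : Type v} [CommRing A] [CommRing B] [CommRing C]
    [Algebra A B] [Algebra B C] [Algebra A C] [IsScalarTower A B C]
    [AddCommGroup L] [Module C L] [Module B L] [IsScalarTower B C L] [Module A L] [IsScalarTower A B L]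
    [IsScalarTower A C L]

section Fwd
variable (X : Exal.Ext B C L) (s : C →ₐ[A] (X.restrictBase A).E)

/-- `s` as a ring hom into `X.E` -/
def sec : C →+* X.E := s.toRingHom

omit [Module A L] [IsScalarTower A B L] [IsScalarTower A C L] in
theorem proj_sec (hs : ∀ c : C, (X.restrictBase A).proj (s c) = c) (c : C) :
    X.proj (sec X s c) = c := hs c

omit [Module A L] [IsScalarTower A B L] [IsScalarTower A C L] in
theorem sec_algebraMap (a : A) :
    sec X s (algebraMap A C a) = algebraMap B X.E (algebraMap A B a) := s.commutes a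

omit [Module A L] [IsScalarTower A B L] [IsScalarTower A C L] in
theorem proj_diff (hs : ∀ c : C, (X.restrictBase A).proj (s c) = c) (b : B) :
    X.proj (algebraMap B X.E b - sec X s (algebraMap B C b)) = 0 := by
  rw [map_sub, proj_sec X s hs, AlgHom.commutes, sub_self]

noncomputable def dFun (hs : ∀ c : C, (X.restrictBase A).proj (s c) = c) (b : B) : L :=
  X.kerLift _ (proj_diff X s hs b)

omit [Module A L] [IsScalarTower A B L] [IsScalarTower A C L] in
theorem incl_dFun (hs : ∀ c : C, (X.restrictBase A).proj (s c) = c) (b : B) :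
    X.incl (dFun X s hs b) = algebraMap B X.E b - sec X s (algebraMap B C b) :=
  X.incl_kerLift _ _

theorem incl_smul_A (a : A) (z : L) : X.incl (a • z) = algebraMap B X.E (algebraMap A B a) * X.incl z := by
  rw [X.isExtension.mul_incl, AlgHom.commutes, algebraMap_smul, algebraMap_smul]

noncomputable def dOf (hs : ∀ c : C, (X.restrictBase A).proj (s c) = c) : Derivation A B L where
  toFun := dFun X s hs
  map_add' b b' := by
    apply X.isExtension.incl_injective
    rw [map_add X.incl, incl_dFun, incl_dFun, incl_dFun, map_add, map_add, map_add]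
    abel
  map_smul' a b := by
    apply X.isExtension.incl_injective
    rw [RingHom.id_apply, incl_smul_A, incl_dFun, incl_dFun, Algebra.smul_def, map_mul, map_mul, map_mul,
      ← IsScalarTower.algebraMap_apply A B C, sec_algebraMap]
    ring
  map_one_eq_zero' := by
    apply X.isExtension.incl_injective
    change X.incl (dFun X s hs 1) = X.incl 0
    rw [incl_dFun, map_one, map_one, map_one, sub_self, map_zero]
  leibniz' b b' := by
    apply X.isExtension.incl_injective
    change X.incl (dFun X s hs (b * b')) = X.incl (b • dFun X s hs b' + b' • dFun X s hs b)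
    rw [map_add X.incl, ← algebraMap_smul C b, ← algebraMap_smul C b',
      incl_smul_of_proj X (sec X s (algebraMap B C b)) _ (proj_sec X s hs _),
      incl_smul_of_proj X (sec X s (algebraMap B C b')) _ (proj_sec X s hs _),
      incl_dFun, incl_dFun, incl_dFun, map_mul, map_mul, map_mul]
    have h3 : (algebraMap B X.E b - sec X s (algebraMap B C b)) *
        (algebraMap B X.E b' - sec X s (algebraMap B C b')) = 0 := by
      rw [← incl_dFun X s hs, ← incl_dFun X s hs, incl_mul_incl]
    linear_combination h3

theorem dOf_apply (hs : ∀ c : C, (X.restrictBase A).proj (s c) = c) (b : B) :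
    dOf X s hs b = dFun X s hs b := rfl

/-- the comparison map `C ⊕ L → E`, `(c, z) ↦ s c + i z` -/
noncomputable def cmp (hs : ∀ c : C, (X.restrictBase A).proj (s c) = c) :
    (Exal.Ext.ofDerivation (C := C) (dOf X s hs)).E →ₐ[B] X.E where
  toFun x := sec X s (TrivSqZeroExt.fst (toT _ x)) + X.incl (TrivSqZeroExt.snd (toT _ x))
  map_one' := by
    rw [map_one, TrivSqZeroExt.fst_one, TrivSqZeroExt.snd_one, map_one, map_zero, add_zero]
  map_mul' x y := by
    rw [map_mul, TrivSqZeroExt.fst_mul, TrivSqZeroExt.snd_mul, map_mul, map_add X.incl, op_smul_eq_smul,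
      incl_smul_of_proj X (sec X s (TrivSqZeroExt.fst (toT _ x))) _ (proj_sec X s hs _),
      incl_smul_of_proj X (sec X s (TrivSqZeroExt.fst (toT _ y))) _ (proj_sec X s hs _)]
    have h3 := incl_mul_incl X (TrivSqZeroExt.snd (toT _ x)) (TrivSqZeroExt.snd (toT _ y))
    linear_combination (-1 : X.E) * h3
  map_zero' := by
    rw [map_zero, TrivSqZeroExt.fst_zero, TrivSqZeroExt.snd_zero, map_zero, map_zero, add_zero]
  map_add' x y := by
    rw [map_add, TrivSqZeroExt.fst_add, TrivSqZeroExt.snd_add, map_add, map_add X.incl]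
    abel
  commutes' b := by
    rw [toT_algebraMap]
    simp only [TrivSqZeroExt.fst_add, TrivSqZeroExt.fst_inl, TrivSqZeroExt.fst_inr, add_zero,
      TrivSqZeroExt.snd_add, TrivSqZeroExt.snd_inl, TrivSqZeroExt.snd_inr, zero_add]
    rw [dOf_apply, incl_dFun]
    abel

theorem cmp_apply (hs : ∀ c : C, (X.restrictBase A).proj (s c) = c)
    (x : (Exal.Ext.ofDerivation (C := C) (dOf X s hs)).E) :
    cmp X s hs x = sec X s (TrivSqZeroExt.fst (toT _ x)) + X.incl (TrivSqZeroExt.snd (toT _ x)) := rfl

theorem proj_cmp (hs : ∀ c : C, (X.restrictBase A).proj (s c) = c)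
    (x : (Exal.Ext.ofDerivation (C := C) (dOf X s hs)).E) :
    X.proj (cmp X s hs x) = (Exal.Ext.ofDerivation (C := C) (dOf X s hs)).proj x := by
  rw [cmp_apply, map_add, proj_sec X s hs, proj_incl, add_zero, fst_toT]

theorem cmp_bijective (hs : ∀ c : C, (X.restrictBase A).proj (s c) = c) :
    Function.Bijective (cmp X s hs) := by
  constructor
  · rw [injective_iff_map_eq_zero]
    intro x hx
    have h1 : TrivSqZeroExt.fst (toT _ x) = 0 := by
      have := congrArg X.proj hx
      rw [proj_cmp, map_zero, ← fst_toT] at this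
      exact this
    have h2 : TrivSqZeroExt.snd (toT _ x) = 0 := by
      rw [cmp_apply, h1, map_zero, zero_add] at hx
      exact X.isExtension.incl_injective (by rw [hx, map_zero])
    apply (toT _).injective
    rw [map_zero]
    exact TrivSqZeroExt.ext h1 h2
  · intro y
    have hy : X.proj (y - sec X s (X.proj y)) = 0 := by
      rw [map_sub, proj_sec X s hs, sub_self]
    refine ⟨(toT _).symm (TrivSqZeroExt.inl (X.proj y) + TrivSqZeroExt.inr (X.kerLift _ hy)), ?_⟩
    rw [cmp_apply, RingEquiv.apply_symm_apply]
    simp only [TrivSqZeroExt.fst_add, TrivSqZeroExt.fst_inl, TrivSqZeroExt.fst_inr, add_zero,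
      TrivSqZeroExt.snd_add, TrivSqZeroExt.snd_inl, TrivSqZeroExt.snd_inr, zero_add]
    rw [X.incl_kerLift]
    abel

end Fwd


/-- Commutative rings, exactness at Exalcom_B(C, L) on underlying pointed sets. For ring maps A → B → C
and a C-module L, a B-extension of C by L is A-trivial if and only if it is equivalent to the
extension attached to some A-derivation B → L. -/
theorem result {A : Type u} {B C L : Type v} [CommRing A] [CommRing B] [CommRing C]
    [Algebra A B] [Algebra B C] [Algebra A C] [IsScalarTower A B C]
    [AddCommGroup L] [Module C L] [Module B L] [IsScalarTower B C L] [Module A L] [IsScalarTower A B L]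
    [IsScalarTower A C L]
    (X : Exal.Ext B C L) :
    X.IsTrivialOver A ↔
      ∃ D : Derivation A B L, Nonempty (X.Equiv (Exal.Ext.ofDerivation (C := C) D)) := by
  constructor
  · rintro ⟨s, hs⟩
    refine ⟨dOf X s hs, ⟨Exal.Ext.Equiv.symm
      ⟨AlgEquiv.ofBijective (cmp X s hs) (cmp_bijective X s hs), fun x => proj_cmp X s hs x, fun z => ?_⟩⟩⟩
    change cmp X s hs _ = X.incl z
    rw [cmp_apply, toT_incl]
    simp
  · rintro ⟨D, ⟨e⟩⟩
    refine isTrivialOver_of_equiv A e ?_
    refine ⟨{ ((toT (C₀ := C) D).symm.toRingHom.comp (TrivSqZeroExt.inlHom C L)) with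
              commutes' := fun a => ?_ }, fun c => ?_⟩
    · apply (toT (C₀ := C) D).injective
      change (toT (C₀ := C) D) ((toT (C₀ := C) D).symm (TrivSqZeroExt.inl (algebraMap A C a))) =
        (toT (C₀ := C) D) (algebraMap B _ (algebraMap A B a))
      rw [RingEquiv.apply_symm_apply, toT_algebraMap, Derivation.map_algebraMap,
        TrivSqZeroExt.inr_zero, add_zero, ← IsScalarTower.algebraMap_apply]
    · change TrivSqZeroExt.fst ((toT (C₀ := C) D) ((toT (C₀ := C) D).symm (TrivSqZeroExt.inl c))) = c
      rw [RingEquiv.apply_symm_apply, TrivSqZeroExt.fst_inl]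

end Groth.Agent.S5818
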