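import Groth.Statements.S11294
-- import your own Groth.Agent.* helpers here

set_option autoImplicit false
universe u
open Deform

namespace Groth.Agent.S11294

open TrivSqZeroExt in
/-- Let P be a commutative ring, J an ideal, and P[ε] the ring of dual numbers over P. First-order
embedded deformations of Spec(P/J) in Spec P, namely ideals J' of P[ε] lifting J (the image of J'
under ε ↦ 0 is J) with P[ε]/J' flat over the dual numbers — flatness being replaced by the condition
that every element of P[ε]/J' annihilated by ε is a multiple of ε (equivalent to flatness over k[ε]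
when P is an algebra over a field k) — are in canonical bijection with Hom_P(J, P/J) =
Hom_{P/J}(J/J^2, P/J), the normal module: to φ corresponds the ideal of all a + εb with a in J and b
reducing to φ(a) modulo J. The first clause says this rule defines exactly one ideal for each φ; the
second says an ideal J' is a flat lift of J precisely when its membership is given by this rule for
some φ. (The published statement is the global one, identifying first-order deformations of a closed
subscheme X of an algebraic scheme Y with H^0(X, N_{X/Y}); this row is the affine computation in its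
proof, valid for every commutative ring P.) -/
theorem result (P : Type u) [CommRing P] (J : Ideal P) :
    (∀ φ : J →ₗ[P] (P ⧸ J), ∃! J' : Ideal (DualNumber P),
        ∀ a b : P, (inl a + inr b : DualNumber P) ∈ J' ↔ ∃ h : a ∈ J, Ideal.Quotient.mk J b = φ ⟨a, h⟩) ∧
    (∀ J' : Ideal (DualNumber P),
      (J'.map (TrivSqZeroExt.fstHom P P P) = J ∧
        ∀ m : DualNumber P ⧸ J', Ideal.Quotient.mk J' DualNumber.eps * m = 0 →
          ∃ m' : DualNumber P ⧸ J', m = Ideal.Quotient.mk J' DualNumber.eps * m') ↔
      ∃ φ : J →ₗ[P] (P ⧸ J), ∀ a b : P,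
        (inl a + inr b : DualNumber P) ∈ J' ↔ ∃ h : a ∈ J, Ideal.Quotient.mk J b = φ ⟨a, h⟩) := by
  classical
  -- congruence for φ on subtype elements
  have hcongr : ∀ (φ : J →ₗ[P] (P ⧸ J)) (a b : P) (ha : a ∈ J) (hb : b ∈ J), a = b →
      φ ⟨a, ha⟩ = φ ⟨b, hb⟩ := by
    intro φ a b ha hb hab
    subst hab
    rfl
  have hdecomp : ∀ x : DualNumber P, (inl x.fst + inr x.snd : DualNumber P) = x :=
    fun x => TrivSqZeroExt.inl_fst_add_inr_snd_eq x
  have hsmulq : ∀ (c : P) (q : P ⧸ J), c • q = Ideal.Quotient.mk J c * q := by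
    intro c q
    obtain ⟨q', rfl⟩ := Ideal.Quotient.mk_surjective q
    rw [← map_mul]
    rfl
  -- the ideal attached to φ
  have ideal_of : ∀ φ : J →ₗ[P] (P ⧸ J), ∃ J' : Ideal (DualNumber P), ∀ x : DualNumber P,
      x ∈ J' ↔ ∃ h : x.fst ∈ J, Ideal.Quotient.mk J x.snd = φ ⟨x.fst, h⟩ := by
    intro φ
    refine ⟨{ carrier := {x | ∃ h : x.fst ∈ J, Ideal.Quotient.mk J x.snd = φ ⟨x.fst, h⟩}
              add_mem' := ?_
              zero_mem' := ?_
              smul_mem' := ?_ }, fun x => Iff.rfl⟩
    · rintro x y ⟨hx, hx'⟩ ⟨hy, hy'⟩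
      refine ⟨by rw [TrivSqZeroExt.fst_add]; exact J.add_mem hx hy, ?_⟩
      have : φ ⟨(x + y).fst, by rw [TrivSqZeroExt.fst_add]; exact J.add_mem hx hy⟩ =
          φ (⟨x.fst, hx⟩ + ⟨y.fst, hy⟩) := hcongr φ _ _ _ _ (TrivSqZeroExt.fst_add x y)
      rw [this, map_add, ← hx', ← hy', TrivSqZeroExt.snd_add, map_add]
    · refine ⟨by rw [TrivSqZeroExt.fst_zero]; exact J.zero_mem, ?_⟩
      have : φ ⟨(0 : DualNumber P).fst, by rw [TrivSqZeroExt.fst_zero]; exact J.zero_mem⟩ =
          φ 0 := hcongr φ _ _ _ _ TrivSqZeroExt.fst_zero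
      rw [this, map_zero, TrivSqZeroExt.snd_zero, map_zero]
    · rintro c x ⟨hx, hx'⟩
      have hfst : (c • x).fst = c.fst * x.fst := by
        rw [smul_eq_mul, TrivSqZeroExt.fst_mul]
      have hmem : (c • x).fst ∈ J := by rw [hfst]; exact J.mul_mem_left _ hx
      refine ⟨hmem, ?_⟩
      have : φ ⟨(c • x).fst, hmem⟩ = φ (c.fst • ⟨x.fst, hx⟩) := hcongr φ _ _ _ _ hfst
      rw [this, map_smul, ← hx', hsmulq, smul_eq_mul, DualNumber.snd_mul, map_add, map_mul, map_mul]
      have : Ideal.Quotient.mk J x.fst = 0 := Ideal.Quotient.eq_zero_iff_mem.mpr hx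
      rw [this, mul_zero, add_zero]
  have hfst_io : ∀ a b : P, (inl a + inr b : DualNumber P).fst = a := by
    intro a b; simp
  have hsnd_io : ∀ a b : P, (inl a + inr b : DualNumber P).snd = b := by
    intro a b; simp
  have hfstsurj : Function.Surjective (TrivSqZeroExt.fstHom P P P) := fun a => ⟨inl a, rfl⟩
  have heps_mul : ∀ x : DualNumber P, DualNumber.eps * x = inr x.fst := by
    intro x
    apply TrivSqZeroExt.ext
    · rw [TrivSqZeroExt.fst_mul, DualNumber.fst_eps, zero_mul, TrivSqZeroExt.fst_inr]
    · rw [DualNumber.snd_mul, DualNumber.fst_eps, DualNumber.snd_eps, zero_mul, zero_add, one_mul,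
        TrivSqZeroExt.snd_inr]
  constructor
  · intro φ
    obtain ⟨J', hJ'⟩ := ideal_of φ
    refine ⟨J', ?_, ?_⟩
    · intro a b
      rw [hJ']
      constructor
      · rintro ⟨h, h'⟩
        have ha : a ∈ J := by rw [← hfst_io a b]; exact h
        refine ⟨ha, ?_⟩
        rw [hsnd_io] at h'
        rw [h']
        exact hcongr φ _ _ _ _ (hfst_io a b)
      · rintro ⟨h, h'⟩
        have ha : (inl a + inr b : DualNumber P).fst ∈ J := by rw [hfst_io]; exact h
        refine ⟨ha, ?_⟩
        rw [hsnd_io, h']
        exact hcongr φ _ _ _ _ (hfst_io a b).symm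
    · intro J'' hJ''
      ext x
      rw [← hdecomp x, hJ'' x.fst x.snd, hJ', hfst_io, hsnd_io]
  · intro J'
    constructor
    · rintro ⟨hmap, hflat⟩
      -- Claim A
      have hA : ∀ x ∈ J', x.fst ∈ J := by
        intro x hx
        rw [← hmap]
        exact Ideal.mem_map_of_mem (TrivSqZeroExt.fstHom P P P) hx
      -- lifting
      have hlift : ∀ a ∈ J, ∃ x ∈ J', x.fst = a := by
        intro a ha
        rw [← hmap, Ideal.mem_map_iff_of_surjective _ hfstsurj] at ha
        exact ha
      -- Claim B
      have hB : ∀ j ∈ J, (inr j : DualNumber P) ∈ J' := by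
        intro j hj
        obtain ⟨x, hx, rfl⟩ := hlift j hj
        rw [← heps_mul]
        exact J'.mul_mem_left _ hx
      -- Claim C
      have hC : ∀ c : P, (inr c : DualNumber P) ∈ J' → c ∈ J := by
        intro c hc
        have h0 : Ideal.Quotient.mk J' DualNumber.eps * Ideal.Quotient.mk J' (inl c) = 0 := by
          rw [← map_mul, heps_mul, TrivSqZeroExt.fst_inl, Ideal.Quotient.eq_zero_iff_mem]
          exact hc
        obtain ⟨m', hm'⟩ := hflat _ h0
        obtain ⟨y, rfl⟩ := Ideal.Quotient.mk_surjective m'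
        rw [← map_mul, Ideal.Quotient.eq] at hm'
        have := hA _ hm'
        rw [TrivSqZeroExt.fst_sub, heps_mul, TrivSqZeroExt.fst_inl, TrivSqZeroExt.fst_inr, sub_zero] at this
        exact this
      -- well-definedness
      have hWD : ∀ a b₁ b₂ : P, (inl a + inr b₁ : DualNumber P) ∈ J' →
          (inl a + inr b₂ : DualNumber P) ∈ J' → Ideal.Quotient.mk J b₁ = Ideal.Quotient.mk J b₂ := by
        intro a b₁ b₂ h₁ h₂
        rw [Ideal.Quotient.eq]
        apply hC
        have : (inr (b₁ - b₂) : DualNumber P) = (inl a + inr b₁) - (inl a + inr b₂) := by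
          apply TrivSqZeroExt.ext <;> simp
        rw [this]
        exact J'.sub_mem h₁ h₂
      -- choice of second component
      have hex : ∀ a : J, ∃ b : P, (inl (a : P) + inr b : DualNumber P) ∈ J' := by
        intro a
        obtain ⟨x, hx, hxa⟩ := hlift a a.2
        refine ⟨x.snd, ?_⟩
        rw [← hxa, hdecomp]
        exact hx
      choose β hβ using hex
      let φ : J →ₗ[P] (P ⧸ J) :=
        { toFun := fun a => Ideal.Quotient.mk J (β a)
          map_add' := by
            intro a₁ a₂
            rw [← map_add]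
            apply hWD ((a₁ + a₂ : J) : P) _ _ (hβ (a₁ + a₂))
            have : (inl ((a₁ + a₂ : J) : P) + inr (β a₁ + β a₂) : DualNumber P) =
                (inl (a₁ : P) + inr (β a₁)) + (inl (a₂ : P) + inr (β a₂)) := by
              apply TrivSqZeroExt.ext <;> simp
            rw [this]
            exact J'.add_mem (hβ a₁) (hβ a₂)
          map_smul' := by
            intro c a
            rw [RingHom.id_apply, hsmulq, ← map_mul]
            apply hWD ((c • a : J) : P) _ _ (hβ (c • a))
            have : (inl ((c • a : J) : P) + inr (c * β a) : DualNumber P) =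
                inl c * (inl (a : P) + inr (β a)) := by
              apply TrivSqZeroExt.ext
              · simp
              · simp
            rw [this]
            exact J'.mul_mem_left _ (hβ a) }
      have hφ : ∀ a : J, φ a = Ideal.Quotient.mk J (β a) := fun a => rfl
      refine ⟨φ, ?_⟩
      intro a b
      constructor
      · intro hx
        have ha : a ∈ J := by
          have := hA _ hx
          rwa [hfst_io] at this
        refine ⟨ha, ?_⟩
        rw [hφ]
        exact hWD a _ _ hx (hβ ⟨a, ha⟩)
      · rintro ⟨ha, hb⟩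
        rw [hφ, Ideal.Quotient.eq] at hb
        have : (inl a + inr b : DualNumber P) =
            (inl a + inr (β ⟨a, ha⟩)) + inr (b - β ⟨a, ha⟩) := by
          apply TrivSqZeroExt.ext <;> simp
        rw [this]
        exact J'.add_mem (hβ ⟨a, ha⟩) (hB _ hb)
    · rintro ⟨φ, hφ⟩
      have hrule : ∀ x : DualNumber P, x ∈ J' ↔
          ∃ h : x.fst ∈ J, Ideal.Quotient.mk J x.snd = φ ⟨x.fst, h⟩ := by
        intro x
        conv_lhs => rw [← hdecomp x]
        exact hφ x.fst x.snd
      constructor
      · ext a
        rw [Ideal.mem_map_iff_of_surjective _ hfstsurj]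
        constructor
        · rintro ⟨x, hx, rfl⟩
          exact ((hrule x).mp hx).1
        · intro ha
          obtain ⟨b, hb⟩ := Ideal.Quotient.mk_surjective (φ ⟨a, ha⟩)
          refine ⟨inl a + inr b, (hφ a b).mpr ⟨ha, hb⟩, ?_⟩
          exact hfst_io a b
      · intro m hm
        obtain ⟨x, rfl⟩ := Ideal.Quotient.mk_surjective m
        rw [← map_mul, heps_mul, Ideal.Quotient.eq_zero_iff_mem] at hm
        have hm' : (inl 0 + inr x.fst : DualNumber P) ∈ J' := by
          rw [TrivSqZeroExt.inl_zero, zero_add]; exact hm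
        obtain ⟨h0, h0'⟩ := (hφ 0 x.fst).mp hm'
        have hφ0 : φ ⟨0, h0⟩ = 0 := by
          have : φ ⟨0, h0⟩ = φ 0 := rfl
          rw [this, map_zero]
        rw [hφ0, Ideal.Quotient.eq_zero_iff_mem] at h0'
        obtain ⟨q, hq⟩ := Ideal.Quotient.mk_surjective (φ ⟨x.fst, h0'⟩)
        refine ⟨Ideal.Quotient.mk J' (inl (x.snd - q)), ?_⟩
        rw [← map_mul, heps_mul, TrivSqZeroExt.fst_inl, Ideal.Quotient.eq]
        have : x - inr (x.snd - q) = (inl x.fst + inr q : DualNumber P) := by
          apply TrivSqZeroExt.ext <;> simp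
        rw [this]
        exact (hφ x.fst q).mpr ⟨h0', hq⟩


end Groth.Agent.S11294
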