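import Groth.Statements.S11298
-- import your own Groth.Agent.* helpers here

set_option autoImplicit false
universe u v
open LocCoh

namespace Groth.Agent.S11298

/-- Let X = Spec B be an affine Noetherian scheme, Z = V(I) a closed subscheme and G a coherent sheaf,
i.e. a finitely generated B-module M, with dual G^v = Hom_B(M, B). If depth_Z(O_X) ≥ 2 then
depth_Z(G^v) ≥ 2. Here the depth along I of a module N is the supremum of the lengths of N-regular
sequences contained in I (and is infinite when I N = N). (The published statement adds that sections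
of the dual over X and over X minus Z agree; this row omits that clause.) -/
theorem result (B : Type u) [CommRing B] [IsNoetherianRing B]
    (I : Ideal B) (M : Type v) [AddCommGroup M] [Module B M] [Module.Finite B M]
    (h : 2 ≤ LocCoh.idealDepth I B) : 2 ≤ LocCoh.idealDepth I (M →ₗ[B] B) := by
  classical
  unfold LocCoh.idealDepth at h ⊢
  split_ifs with hN
  · exact le_top
  by_cases hB : I • (⊤ : Submodule B B) = ⊤
  · exfalso
    apply hN
    have hI : I = ⊤ := by simpa using hB
    rw [hI, Submodule.top_smul]
  rw [if_neg hB] at h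
  obtain ⟨rs, ⟨hreg, hmem⟩, hlen⟩ : ∃ rs : List B,
      (RingTheory.Sequence.IsWeaklyRegular B rs ∧ ∀ r ∈ rs, r ∈ I) ∧ 2 ≤ rs.length := by
    by_contra hcon
    have hle : (⨆ (rs : List B)
        (_ : RingTheory.Sequence.IsWeaklyRegular B rs ∧ ∀ r ∈ rs, r ∈ I),
        (rs.length : ℕ∞)) ≤ 1 := by
      refine iSup₂_le fun rs hrs => ?_
      have hlt : ¬ 2 ≤ rs.length := fun h2 => hcon ⟨rs, hrs, h2⟩
      have : rs.length ≤ 1 := by omega
      exact_mod_cast this
    have h21 : (2 : ℕ∞) ≤ 1 := h.trans hle
    exact absurd h21 (by norm_num)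
  match rs, hreg, hmem, hlen with
  | x :: y :: rest, hreg, hmem, _ =>
    obtain ⟨hx, hrest⟩ := (RingTheory.Sequence.isWeaklyRegular_cons_iff B x _).mp hreg
    obtain ⟨hy, -⟩ := (RingTheory.Sequence.isWeaklyRegular_cons_iff _ y _).mp hrest
    have hxy : RingTheory.Sequence.IsWeaklyRegular (M →ₗ[B] B) [x, y] := by
      rw [RingTheory.Sequence.isWeaklyRegular_cons_iff,
        RingTheory.Sequence.isWeaklyRegular_cons_iff]
      refine ⟨?_, ?_, RingTheory.Sequence.IsWeaklyRegular.nil _ _⟩
      · intro φ ψ hφψ
        ext m
        have := LinearMap.congr_fun hφψ m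
        exact hx this
      · rw [isSMulRegular_iff_right_eq_zero_of_smul]
        intro q hq
        obtain ⟨φ, rfl⟩ := Submodule.Quotient.mk_surjective _ q
        rw [← Submodule.Quotient.mk_smul, Submodule.Quotient.mk_eq_zero,
          Submodule.mem_smul_pointwise_iff_exists] at hq
        obtain ⟨ψ, -, hψ⟩ := hq
        rw [Submodule.Quotient.mk_eq_zero, Submodule.mem_smul_pointwise_iff_exists]
        have hex : ∀ m, ∃ b : B, x • b = φ m := by
          intro m
          have h1 : y • (Submodule.Quotient.mk (φ m) : QuotSMulTop x B) = 0 := by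
            rw [← Submodule.Quotient.mk_smul, Submodule.Quotient.mk_eq_zero,
              Submodule.mem_smul_pointwise_iff_exists]
            refine ⟨ψ m, Submodule.mem_top, ?_⟩
            have := LinearMap.congr_fun hψ m
            simpa using this
          have h2 := (isSMulRegular_iff_right_eq_zero_of_smul.mp hy) _ h1
          rw [Submodule.Quotient.mk_eq_zero, Submodule.mem_smul_pointwise_iff_exists] at h2
          obtain ⟨b, -, hb⟩ := h2
          exact ⟨b, hb⟩
        choose θ hθ using hex
        refine ⟨{ toFun := θ
                  map_add' := fun m m' => hx (show x • θ (m + m') = x • (θ m + θ m') by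
                    rw [smul_add, hθ, hθ, hθ, map_add])
                  map_smul' := fun c m => hx (show x • θ (c • m) = x • (c • θ m) by
                    rw [smul_comm, hθ, hθ, map_smul]) }, Submodule.mem_top, ?_⟩
        ext m
        exact hθ m
    refine le_trans ?_ (le_iSup₂ (f := fun (rs : List B)
      (_ : RingTheory.Sequence.IsWeaklyRegular (M →ₗ[B] B) rs ∧ ∀ r ∈ rs, r ∈ I) =>
      (rs.length : ℕ∞)) [x, y] ⟨hxy, ?_⟩)
    · simp
    · intro r hr
      simp only [List.mem_cons, List.not_mem_nil, or_false] at hr
      rcases hr with rfl | rfl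
      · exact hmem _ (by simp)
      · exact hmem _ (by simp)

end Groth.Agent.S11298
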