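import Groth.Statements.S11299
import Mathlib.Algebra.Module.Projective
-- import your own Groth.Agent.* helpers here

set_option autoImplicit false
universe u
open CAlg

namespace Groth.Agent.S11299

section Aux

variable {P : Type u} [CommRing P] (J : Ideal P)

section Defs

variable {F : Type u} [AddCommGroup F] [Module P F] (j : F →ₗ[P] P)

/-- The trivial (Koszul) relations. -/
abbrev trivRel : Submodule P F :=
  Submodule.span P {y : F | ∃ u v : F, y = j u • v - j v • u}

/-- Restrictions to the relation module of linear maps on the free module. -/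
abbrev Res : Submodule P (↥(LinearMap.ker j) →ₗ[P] P ⧸ J) :=
  LinearMap.range (LinearMap.lcomp P (P ⧸ J) (LinearMap.ker j).subtype)

/-- Linear maps on the relation module vanishing on the trivial relations. -/
abbrev Kt : Submodule P (↥(LinearMap.ker j) →ₗ[P] P ⧸ J) :=
  LinearMap.ker (LinearMap.lcomp P (P ⧸ J)
    (Submodule.comap (LinearMap.ker j).subtype (trivRel j)).subtype)

/-- The second cotangent module of a presentation. -/
abbrev T2 : Submodule P ((↥(LinearMap.ker j) →ₗ[P] P ⧸ J) ⧸ Res J j) :=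
  Submodule.map (Res J j).mkQ (Kt J j)

end Defs

variable {F : Type u} [AddCommGroup F] [Module P F] {j : F →ₗ[P] P}
  {F' : Type u} [AddCommGroup F'] [Module P F'] {j' : F' →ₗ[P] P}

/-- A comparison of presentations restricted to relation modules. -/
def relMap (α : F →ₗ[P] F') (hα : j' ∘ₗ α = j) : ↥(LinearMap.ker j) →ₗ[P] ↥(LinearMap.ker j') :=
  α.restrict (fun x hx => by
    rw [LinearMap.mem_ker] at hx ⊢
    rw [← hx, ← hα]
    rfl)

theorem relMap_coe (α : F →ₗ[P] F') (hα : j' ∘ₗ α = j) (x : ↥(LinearMap.ker j)) :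
    ((relMap α hα x : ↥(LinearMap.ker j')) : F') = α x := rfl

theorem map_trivRel (α : F →ₗ[P] F') (hα : j' ∘ₗ α = j) (x : F) (hx : x ∈ trivRel j) :
    α x ∈ trivRel j' := by
  have hj : ∀ u, j u = j' (α u) := fun u => by rw [← hα]; rfl
  induction hx using Submodule.span_induction with
  | mem y hy =>
    obtain ⟨u, v, rfl⟩ := hy
    refine Submodule.subset_span ⟨α u, α v, ?_⟩
    rw [map_sub, map_smul, map_smul, hj u, hj v]
  | zero => rw [map_zero]; exact Submodule.zero_mem _
  | add a b _ _ ha hb => rw [map_add]; exact Submodule.add_mem _ ha hb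
  | smul c a _ ha => rw [map_smul]; exact Submodule.smul_mem _ _ ha

theorem res_le (α : F →ₗ[P] F') (hα : j' ∘ₗ α = j) :
    Res J j' ≤ Submodule.comap (LinearMap.lcomp P (P ⧸ J) (relMap α hα)) (Res J j) := by
  rintro _ ⟨ψ, rfl⟩
  refine ⟨ψ ∘ₗ α, ?_⟩
  ext x
  rfl

/-- Pull-back on the quotients. -/
def pullQ (α : F →ₗ[P] F') (hα : j' ∘ₗ α = j) :
    ((↥(LinearMap.ker j') →ₗ[P] P ⧸ J) ⧸ Res J j') →ₗ[P]
      ((↥(LinearMap.ker j) →ₗ[P] P ⧸ J) ⧸ Res J j) :=
  Submodule.mapQ (Res J j') (Res J j) (LinearMap.lcomp P (P ⧸ J) (relMap α hα)) (res_le J α hα)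

theorem pullQ_mk (α : F →ₗ[P] F') (hα : j' ∘ₗ α = j) (φ : ↥(LinearMap.ker j') →ₗ[P] P ⧸ J) :
    pullQ J α hα ((Res J j').mkQ φ) = (Res J j).mkQ (φ ∘ₗ relMap α hα) := rfl

theorem pullQ_mem (α : F →ₗ[P] F') (hα : j' ∘ₗ α = j) :
    ∀ x ∈ T2 J j', pullQ J α hα x ∈ T2 J j := by
  rintro _ ⟨φ, hφ, rfl⟩
  refine ⟨φ ∘ₗ relMap α hα, ?_, rfl⟩
  rw [SetLike.mem_coe, LinearMap.mem_ker] at hφ ⊢
  ext x
  have hx : relMap α hα x.1 ∈
      Submodule.comap (LinearMap.ker j').subtype (trivRel j') := by
    rw [Submodule.mem_comap]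
    exact map_trivRel α hα _ x.2
  exact LinearMap.congr_fun hφ ⟨relMap α hα x.1, hx⟩

/-- Pull-back of `T2` along a comparison of presentations. -/
def pull (α : F →ₗ[P] F') (hα : j' ∘ₗ α = j) : ↥(T2 J j') →ₗ[P] ↥(T2 J j) :=
  LinearMap.restrict (pullQ J α hα) (pullQ_mem J α hα)

theorem pull_mk (α : F →ₗ[P] F') (hα : j' ∘ₗ α = j) (x : ↥(T2 J j'))
    (φ : ↥(LinearMap.ker j') →ₗ[P] P ⧸ J) (hφ : (Res J j').mkQ φ = x.1) :
    (pull J α hα x).1 = (Res J j).mkQ (φ ∘ₗ relMap α hα) := by
  change pullQ J α hα x.1 = _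
  rw [← hφ, pullQ_mk]

theorem pull_pull (α : F →ₗ[P] F') (hα : j' ∘ₗ α = j) (β : F' →ₗ[P] F) (hβ : j ∘ₗ β = j')
    (t : ↥(T2 J j)) : pull J α hα (pull J β hβ t) = t := by
  obtain ⟨φ, -, hφ⟩ := t.2
  apply Subtype.ext
  have h1 := pull_mk J β hβ t φ hφ
  rw [pull_mk J α hα _ _ h1.symm, ← hφ]
  rw [Submodule.mkQ_apply, Submodule.mkQ_apply, Submodule.Quotient.eq]
  have hγ : ∀ x : F, β (α x) - x ∈ LinearMap.ker j := by
    intro x
    rw [LinearMap.mem_ker, map_sub, sub_eq_zero]
    have h2 : j (β (α x)) = j' (α x) := by rw [← hβ]; rfl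
    have h3 : j' (α x) = j x := by rw [← hα]; rfl
    rw [h2, h3]
  let δ : F →ₗ[P] ↥(LinearMap.ker j) :=
    LinearMap.codRestrict (LinearMap.ker j) (β ∘ₗ α - LinearMap.id) (fun x => hγ x)
  refine ⟨φ ∘ₗ δ, ?_⟩
  ext x
  change φ (δ x.1) = φ (relMap β hβ (relMap α hα x)) - φ x
  rw [← map_sub]
  congr 1

end Aux


/-- The second cotangent module does not depend on the presentation: let P be a commutative ring, J an
ideal and B = P/J. For a presentation of J, i.e. a finitely generated free P-module F with a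
P-linear map j : F → P with image J, let R = ker j be the relation module and R^tr ⊆ R the span of
the trivial relations j(u) • v - j(v) • u; the module T^2 of the presentation is the quotient of
Hom_B(R/R^tr, B), realised as the P-linear maps R → P/J vanishing on R^tr, by the restrictions to R
of the P-linear maps F → P/J (here: the image of that submodule in the quotient of Hom_P(R, P/J) by
the restrictions). Then for two presentations (F, j) and (F', j') of the same ideal J the two
modules T^2 are isomorphic as P-modules (existence of an isomorphism; the comparison maps depend on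
expressing one system of generators through the other). (The published statement takes B essentially
of finite type over a field and P smooth; this row allows any commutative ring P and ideal J.) -/
theorem result (P : Type u) [CommRing P] (J : Ideal P)
    (F : Type u) [AddCommGroup F] [Module P F] [Module.Free P F] [Module.Finite P F]
    (F' : Type u) [AddCommGroup F'] [Module P F'] [Module.Free P F'] [Module.Finite P F']
    (j : F →ₗ[P] P) (j' : F' →ₗ[P] P) (hj : LinearMap.range j = J) (hj' : LinearMap.range j' = J) :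
    Nonempty (↥(Submodule.map
          (LinearMap.range (LinearMap.lcomp P (P ⧸ J) (LinearMap.ker j).subtype)).mkQ
          (LinearMap.ker (LinearMap.lcomp P (P ⧸ J)
            (Submodule.comap (LinearMap.ker j).subtype
              (Submodule.span P {y : F | ∃ u v : F, y = j u • v - j v • u})).subtype))) ≃ₗ[P]
      ↥(Submodule.map
          (LinearMap.range (LinearMap.lcomp P (P ⧸ J) (LinearMap.ker j').subtype)).mkQ
          (LinearMap.ker (LinearMap.lcomp P (P ⧸ J)
            (Submodule.comap (LinearMap.ker j').subtype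
              (Submodule.span P {y : F' | ∃ u v : F', y = j' u • v - j' v • u})).subtype)))) := by
  classical
  have hlift : ∀ {G G' : Type u} [AddCommGroup G] [Module P G] [Module.Free P G]
      [AddCommGroup G'] [Module P G'] (g : G →ₗ[P] P) (g' : G' →ₗ[P] P),
      LinearMap.range g = J → LinearMap.range g' = J → ∃ α : G →ₗ[P] G', g' ∘ₗ α = g := by
    intro G G' _ _ _ _ _ g g' hg hg'
    let gJ : G →ₗ[P] J := LinearMap.codRestrict J g (fun x => by rw [← hg]; exact ⟨x, rfl⟩)
    let gJ' : G' →ₗ[P] J := LinearMap.codRestrict J g' (fun x => by rw [← hg']; exact ⟨x, rfl⟩)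
    have hsurj : Function.Surjective gJ' := by
      rintro ⟨y, hy⟩
      rw [← hg'] at hy
      obtain ⟨x, rfl⟩ := hy
      exact ⟨x, rfl⟩
    obtain ⟨α, hα⟩ := Module.projective_lifting_property gJ' gJ hsurj
    refine ⟨α, ?_⟩
    ext x
    have := congrArg Subtype.val (LinearMap.congr_fun hα x)
    exact this
  obtain ⟨α, hα⟩ := hlift j j' hj hj'
  obtain ⟨β, hβ⟩ := hlift j' j hj' hj
  exact ⟨LinearEquiv.ofLinearMap (pull J β hβ) (pull J α hα)
    (LinearMap.ext fun t => pull_pull J β hβ α hα t)
    (LinearMap.ext fun t => pull_pull J α hα β hβ t)⟩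

end Groth.Agent.S11299
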