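import Groth.Statements.S11302
import Mathlib.RingTheory.Regular.IsSMulRegular
import Mathlib.Algebra.MvPolynomial.Derivation
import Mathlib.Tactic.Ring
import Mathlib.LinearAlgebra.Isomorphisms
-- import your own Groth.Agent.* helpers here

set_option autoImplicit false
universe u
open Deform

namespace Groth.Agent.S11302

/-- Relations among the terms of a regular sequence have coefficients in the ideal they generate. -/
theorem coeff_mem_of_sum_eq_zero {R : Type u} [CommRing R] :
    ∀ (n : ℕ) (f : Fin n → R), RingTheory.Sequence.IsWeaklyRegular R (List.ofFn f) →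
      ∀ a : Fin n → R, ∑ i, a i * f i = 0 → ∀ i, a i ∈ Ideal.span (Set.range f) := by
  intro n
  induction n with
  | zero => intro f _ a _ i; exact i.elim0
  | succ n ih =>
    intro f hreg a ha
    set f' : Fin n → R := fun i => f i.castSucc with hf'
    have hsplit : List.ofFn f = List.ofFn f' ++ [f (Fin.last n)] := by
      rw [List.ofFn_succ', List.concat_eq_append]
    rw [hsplit, RingTheory.Sequence.isWeaklyRegular_append_iff,
      RingTheory.Sequence.isWeaklyRegular_singleton_iff] at hreg
    obtain ⟨hreg', hlast⟩ := hreg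
    have hof : (Ideal.ofList (List.ofFn f') • (⊤ : Submodule R R)) = Ideal.span (Set.range f') := by
      rw [smul_eq_mul, Ideal.mul_top]
      have hset : {r | r ∈ List.ofFn f'} = Set.range f' := by
        ext r
        exact List.mem_ofFn
      show Ideal.span {r | r ∈ List.ofFn f'} = Ideal.span (Set.range f')
      rw [hset]
    rw [isSMulRegular_quotient_iff_mem_of_smul_mem, hof] at hlast
    rw [Fin.sum_univ_castSucc] at ha
    have hmem : f (Fin.last n) • a (Fin.last n) ∈ Ideal.span (Set.range f') := by
      have : f (Fin.last n) • a (Fin.last n) = -∑ i : Fin n, a i.castSucc * f' i := by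
        rw [smul_eq_mul, mul_comm]
        exact eq_neg_of_add_eq_zero_right ha
      rw [this]
      refine Ideal.neg_mem_iff _ |>.mpr (Ideal.sum_mem _ fun i _ => ?_)
      exact Ideal.mul_mem_left _ _ (Ideal.subset_span ⟨i, rfl⟩)
    have hlastmem := hlast _ hmem
    obtain ⟨c, hc⟩ := Ideal.mem_span_range_iff_exists_fun.mp hlastmem
    have hle : Ideal.span (Set.range f') ≤ Ideal.span (Set.range f) := by
      apply Ideal.span_mono
      rintro _ ⟨i, rfl⟩
      exact ⟨i.castSucc, rfl⟩
    have hrel : ∑ i : Fin n, (a i.castSucc + c i * f (Fin.last n)) * f' i = 0 := by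
      have h1 : ∑ i : Fin n, (a i.castSucc + c i * f (Fin.last n)) * f' i =
          ∑ i : Fin n, a i.castSucc * f' i + (∑ i : Fin n, c i * f' i) * f (Fin.last n) := by
        rw [Finset.sum_mul, ← Finset.sum_add_distrib]
        apply Finset.sum_congr rfl
        intro i _
        ring
      rw [h1, hc]
      exact ha
    have hih := ih f' hreg' _ hrel
    intro i
    refine Fin.lastCases ?_ (fun i => ?_) i
    · exact hle hlastmem
    · have h2 := hle (hih i)
      have h3 : c i * f (Fin.last n) ∈ Ideal.span (Set.range f) :=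
        Ideal.mul_mem_left _ _ (Ideal.subset_span ⟨Fin.last n, rfl⟩)
      have := Ideal.sub_mem _ h2 h3
      rwa [add_sub_cancel_right] at this


theorem derivation_eq_sum {k : Type u} [CommRing k] {σ : Type} [Fintype σ] [DecidableEq σ]
    {B : Type u} [AddCommGroup B] [Module k B] [Module (MvPolynomial σ k) B]
    [IsScalarTower k (MvPolynomial σ k) B]
    (D : Derivation k (MvPolynomial σ k) B) (p : MvPolynomial σ k) :
    D p = ∑ j, MvPolynomial.pderiv j p • D (MvPolynomial.X j) := by
  induction p using MvPolynomial.induction_on with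
  | C a => simp [MvPolynomial.derivation_C]
  | add p q hp hq =>
    rw [map_add, hp, hq, ← Finset.sum_add_distrib]
    apply Finset.sum_congr rfl
    intro j _
    rw [map_add, add_smul]
  | mul_X p i hp =>
    rw [Derivation.leibniz, hp]
    have : ∀ j : σ, MvPolynomial.pderiv j (p * (MvPolynomial.X i : MvPolynomial σ k)) •
          D (MvPolynomial.X j : MvPolynomial σ k) =
        (MvPolynomial.X i : MvPolynomial σ k) •
          (MvPolynomial.pderiv j p • D (MvPolynomial.X j : MvPolynomial σ k)) +
          (if j = i then p • D (MvPolynomial.X j : MvPolynomial σ k) else 0) := by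
      intro j
      rw [Derivation.leibniz, MvPolynomial.pderiv_X, add_smul, smul_eq_mul, smul_eq_mul,
        add_comm]
      congr 1
      · rw [mul_smul]
      · by_cases h : j = i
        · subst h
          simp
        · have h' : i ≠ j := fun h' => h h'.symm
          simp [h, h']
    simp_rw [this]
    rw [Finset.sum_add_distrib, Finset.sum_ite_eq' Finset.univ i, if_pos (Finset.mem_univ i),
      Finset.smul_sum, add_comm]



open MvPolynomial in
/-- T^1 of a complete intersection; the hypersurface case P/(f, ∂f/∂X_1, ..., ∂f/∂X_d) is n = 1: let k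
be an algebraically closed field, P = k[X_1, ..., X_d], f_1, ..., f_n a regular sequence in P (each
f_i a non-zero-divisor modulo the preceding ones), J the ideal they generate and B = P/J. The first
cotangent module T^1_B — the cokernel of Der_k(P, B) → Hom_P(J, B), a derivation being restricted to
J — is isomorphic, as a P-module, to B^n modulo the B-submodule generated by the d columns
(∂f_1/∂X_j, ..., ∂f_n/∂X_j), j = 1, ..., d, of the Jacobian matrix reduced modulo J, through the map
sending the class of φ : J → B to the class of (φ(f_1), ..., φ(f_n)). (The published formula allows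
P to be a localisation of the polynomial ring; this row takes the polynomial ring.) -/
theorem result (k : Type u) [Field k] [IsAlgClosed k] (d n : ℕ)
    (f : Fin n → MvPolynomial (Fin d) k) (hreg : RingTheory.Sequence.IsWeaklyRegular (MvPolynomial (Fin d) k) (List.ofFn f)) :
    ∃ e : ((↥(Ideal.span (Set.range f)) →ₗ[MvPolynomial (Fin d) k] (MvPolynomial (Fin d) k ⧸ Ideal.span (Set.range f))) ⧸
            Submodule.span (MvPolynomial (Fin d) k)
              {ψ : ↥(Ideal.span (Set.range f)) →ₗ[MvPolynomial (Fin d) k] (MvPolynomial (Fin d) k ⧸ Ideal.span (Set.range f)) |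
                ∃ D : Derivation k (MvPolynomial (Fin d) k) (MvPolynomial (Fin d) k ⧸ Ideal.span (Set.range f)), ∀ a : ↥(Ideal.span (Set.range f)), ψ a = D (a : MvPolynomial (Fin d) k)}) ≃ₗ[MvPolynomial (Fin d) k]
          ((Fin n → MvPolynomial (Fin d) k ⧸ Ideal.span (Set.range f)) ⧸
            Submodule.span (MvPolynomial (Fin d) k ⧸ Ideal.span (Set.range f))
              (Set.range fun j : Fin d => fun i : Fin n => Ideal.Quotient.mk (Ideal.span (Set.range f)) (pderiv j (f i)))),
      ∀ φ : ↥(Ideal.span (Set.range f)) →ₗ[MvPolynomial (Fin d) k] (MvPolynomial (Fin d) k ⧸ Ideal.span (Set.range f)),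
        e (Submodule.Quotient.mk φ) =
          Submodule.Quotient.mk (fun i : Fin n => φ ⟨f i, Ideal.subset_span (Set.mem_range_self i)⟩) := by
  classical
  have hregP : RingTheory.Sequence.IsWeaklyRegular (MvPolynomial (Fin d) k) (List.ofFn f) := hreg
  -- elements of `J` kill the quotient
  have hkill : ∀ (x : MvPolynomial (Fin d) k), x ∈ Ideal.span (Set.range f) →
      ∀ b : MvPolynomial (Fin d) k ⧸ Ideal.span (Set.range f), x • b = 0 := by
    intro x hx b
    obtain ⟨y, rfl⟩ := Ideal.Quotient.mk_surjective b
    have h1 : x • (Ideal.Quotient.mk (Ideal.span (Set.range f)) y) =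
        Ideal.Quotient.mk (Ideal.span (Set.range f)) (x * y) := rfl
    rw [h1, Ideal.Quotient.eq_zero_iff_mem]
    exact Ideal.mul_mem_right _ _ hx
  -- independence of the representation
  have hindep : ∀ (b : Fin n → MvPolynomial (Fin d) k ⧸ Ideal.span (Set.range f))
      (a a' : Fin n → MvPolynomial (Fin d) k), ∑ i, a i * f i = ∑ i, a' i * f i →
      ∑ i, a i • b i = ∑ i, a' i • b i := by
    intro b a a' haa
    have hrel : ∑ i, (a i - a' i) * f i = 0 := by
      simp_rw [sub_mul]
      rw [Finset.sum_sub_distrib, haa, sub_self]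
    have hmem := coeff_mem_of_sum_eq_zero n f hregP _ hrel
    rw [← sub_eq_zero, ← Finset.sum_sub_distrib]
    apply Finset.sum_eq_zero
    intro i _
    rw [← sub_smul]
    exact hkill _ (hmem i) _
  have hfmem : ∀ i, f i ∈ Ideal.span (Set.range f) := fun i => Ideal.subset_span ⟨i, rfl⟩
  -- representations of elements of J
  have hrep : ∀ x : ↥(Ideal.span (Set.range f)), ∃ a : Fin n → MvPolynomial (Fin d) k,
      ∑ i, a i * f i = x.1 := fun x => Ideal.mem_span_range_iff_exists_fun.mp x.2
  choose c hc using hrep
  -- the linear map attached to a vector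
  let mkφ : (Fin n → MvPolynomial (Fin d) k ⧸ Ideal.span (Set.range f)) →
      (↥(Ideal.span (Set.range f)) →ₗ[MvPolynomial (Fin d) k]
        (MvPolynomial (Fin d) k ⧸ Ideal.span (Set.range f))) := fun b =>
    { toFun := fun x => ∑ i, c x i • b i
      map_add' := fun x y => by
        have h1 : ∑ i, c x i • b i + ∑ i, c y i • b i = ∑ i, (c x + c y) i • b i := by
          rw [← Finset.sum_add_distrib]
          apply Finset.sum_congr rfl
          intro i _
          rw [Pi.add_apply, add_smul]
        rw [h1]
        apply hindep b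
        rw [hc]
        simp_rw [Pi.add_apply, add_mul]
        rw [Finset.sum_add_distrib, hc, hc]
        rfl
      map_smul' := fun r x => by
        have h1 : (RingHom.id _ r) • ∑ i, c x i • b i = ∑ i, (r • c x) i • b i := by
          rw [RingHom.id_apply, Finset.smul_sum]
          apply Finset.sum_congr rfl
          intro i _
          rw [Pi.smul_apply, smul_eq_mul, mul_smul]
        rw [h1]
        apply hindep b
        rw [hc]
        simp_rw [Pi.smul_apply, smul_eq_mul, mul_assoc]
        rw [← Finset.mul_sum, hc]
        rfl }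
  have hmkφ : ∀ b i, mkφ b ⟨f i, hfmem i⟩ = b i := by
    intro b i
    change ∑ l, c ⟨f i, hfmem i⟩ l • b l = b i
    rw [hindep b _ (Pi.single i 1) (by
      rw [hc]
      simp [Pi.single_apply])]
    simp [Pi.single_apply]
  -- evaluation at the generators
  let ev : (↥(Ideal.span (Set.range f)) →ₗ[MvPolynomial (Fin d) k]
        (MvPolynomial (Fin d) k ⧸ Ideal.span (Set.range f))) →ₗ[MvPolynomial (Fin d) k]
      (Fin n → MvPolynomial (Fin d) k ⧸ Ideal.span (Set.range f)) :=
    { toFun := fun φ i => φ ⟨f i, hfmem i⟩
      map_add' := fun φ ψ => rfl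
      map_smul' := fun r φ => rfl }
  have hφx : ∀ (φ : ↥(Ideal.span (Set.range f)) →ₗ[MvPolynomial (Fin d) k]
        (MvPolynomial (Fin d) k ⧸ Ideal.span (Set.range f))) (x : ↥(Ideal.span (Set.range f))),
      φ x = ∑ i, c x i • ev φ i := by
    intro φ x
    have hx : x = ∑ i, c x i • (⟨f i, hfmem i⟩ : ↥(Ideal.span (Set.range f))) := by
      apply Subtype.ext
      rw [← hc x]
      simp
    conv_lhs => rw [hx]
    rw [map_sum]
    simp_rw [map_smul]
    rfl
  have hev_inj : Function.Injective ev := by
    rw [injective_iff_map_eq_zero]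
    intro φ hφ
    ext x
    rw [hφx φ x, hφ]
    simp
  have hev_mk : ∀ b, ev (mkφ b) = b := fun b => funext fun i => hmkφ b i
  have hsm : ∀ (r : MvPolynomial (Fin d) k)
      (b : MvPolynomial (Fin d) k ⧸ Ideal.span (Set.range f)),
      r • b = Ideal.Quotient.mk (Ideal.span (Set.range f)) r * b := by
    intro r b
    obtain ⟨y, rfl⟩ := Ideal.Quotient.mk_surjective b
    rfl
  -- the derivation part
  have hDf : ∀ (D : Derivation k (MvPolynomial (Fin d) k)
      (MvPolynomial (Fin d) k ⧸ Ideal.span (Set.range f))) (i : Fin n),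
      D (f i) = (∑ j : Fin d, D (MvPolynomial.X j) • (fun i : Fin n =>
        Ideal.Quotient.mk (Ideal.span (Set.range f)) (MvPolynomial.pderiv j (f i)))) i := by
    intro D i
    rw [derivation_eq_sum D (f i), Finset.sum_apply]
    apply Finset.sum_congr rfl
    intro j _
    rw [Pi.smul_apply, smul_eq_mul, hsm, mul_comm]
  have hker : ∀ φ : ↥(Ideal.span (Set.range f)) →ₗ[MvPolynomial (Fin d) k]
      (MvPolynomial (Fin d) k ⧸ Ideal.span (Set.range f)),
      φ ∈ Submodule.span (MvPolynomial (Fin d) k)
        {ψ : ↥(Ideal.span (Set.range f)) →ₗ[MvPolynomial (Fin d) k]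
          (MvPolynomial (Fin d) k ⧸ Ideal.span (Set.range f)) |
          ∃ D : Derivation k (MvPolynomial (Fin d) k)
            (MvPolynomial (Fin d) k ⧸ Ideal.span (Set.range f)),
            ∀ a : ↥(Ideal.span (Set.range f)), ψ a = D (a : MvPolynomial (Fin d) k)} ↔
      ev φ ∈ Submodule.span (MvPolynomial (Fin d) k ⧸ Ideal.span (Set.range f))
        (Set.range fun j : Fin d => fun i : Fin n =>
          Ideal.Quotient.mk (Ideal.span (Set.range f)) (MvPolynomial.pderiv j (f i))) := by
    intro φ
    constructor
    · intro hφ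
      induction hφ using Submodule.span_induction with
      | mem ψ hψ =>
        obtain ⟨D, hD⟩ := hψ
        have : ev ψ = ∑ j : Fin d, D (MvPolynomial.X j) • (fun i : Fin n =>
            Ideal.Quotient.mk (Ideal.span (Set.range f)) (MvPolynomial.pderiv j (f i))) := by
          funext i
          rw [← hDf D i]
          exact hD ⟨f i, hfmem i⟩
        rw [this]
        exact Submodule.sum_mem _ fun j _ =>
          Submodule.smul_mem _ _ (Submodule.subset_span ⟨j, rfl⟩)
      | zero => rw [map_zero]; exact Submodule.zero_mem _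
      | add x y _ _ hx hy => rw [map_add]; exact Submodule.add_mem _ hx hy
      | smul r x _ hx =>
        rw [map_smul]
        have : r • ev x = (Ideal.Quotient.mk (Ideal.span (Set.range f)) r) • ev x := by
          funext i
          rw [Pi.smul_apply, Pi.smul_apply, hsm, smul_eq_mul]
        rw [this]
        exact Submodule.smul_mem _ _ hx
    · intro hφ
      obtain ⟨bb, hbb⟩ := (Submodule.mem_span_range_iff_exists_fun _).mp hφ
      apply Submodule.subset_span
      refine ⟨MvPolynomial.mkDerivation k bb, fun a => ?_⟩
      rw [hφx φ a]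
      have ha : (a : MvPolynomial (Fin d) k) = ∑ i, c a i * f i := (hc a).symm
      rw [ha, map_sum]
      apply Finset.sum_congr rfl
      intro i _
      rw [Derivation.leibniz, hkill (f i) (hfmem i), add_zero, hDf, ← hbb]
      simp only [MvPolynomial.mkDerivation_X]
  -- assemble
  let Φ : (↥(Ideal.span (Set.range f)) →ₗ[MvPolynomial (Fin d) k]
        (MvPolynomial (Fin d) k ⧸ Ideal.span (Set.range f))) →ₗ[MvPolynomial (Fin d) k]
      ((Fin n → MvPolynomial (Fin d) k ⧸ Ideal.span (Set.range f)) ⧸
        Submodule.span (MvPolynomial (Fin d) k ⧸ Ideal.span (Set.range f))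
          (Set.range fun j : Fin d => fun i : Fin n =>
            Ideal.Quotient.mk (Ideal.span (Set.range f)) (MvPolynomial.pderiv j (f i)))) :=
    ((Submodule.span (MvPolynomial (Fin d) k ⧸ Ideal.span (Set.range f))
          (Set.range fun j : Fin d => fun i : Fin n =>
            Ideal.Quotient.mk (Ideal.span (Set.range f))
              (MvPolynomial.pderiv j (f i)))).mkQ.restrictScalars
        (MvPolynomial (Fin d) k)).comp ev
  have hΦ : ∀ φ, Φ φ = Submodule.Quotient.mk (ev φ) := fun φ => rfl
  have hkerΦ : Submodule.span (MvPolynomial (Fin d) k)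
        {ψ : ↥(Ideal.span (Set.range f)) →ₗ[MvPolynomial (Fin d) k]
          (MvPolynomial (Fin d) k ⧸ Ideal.span (Set.range f)) |
          ∃ D : Derivation k (MvPolynomial (Fin d) k)
            (MvPolynomial (Fin d) k ⧸ Ideal.span (Set.range f)),
            ∀ a : ↥(Ideal.span (Set.range f)), ψ a = D (a : MvPolynomial (Fin d) k)} =
      LinearMap.ker Φ := by
    ext φ
    rw [LinearMap.mem_ker, hΦ, Submodule.Quotient.mk_eq_zero]
    exact hker φ
  have hsurjΦ : Function.Surjective Φ := by
    intro y
    obtain ⟨v, rfl⟩ := Submodule.Quotient.mk_surjective _ y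
    exact ⟨mkφ v, by rw [hΦ, hev_mk]⟩
  refine ⟨(Submodule.quotEquivOfEq _ _ hkerΦ) ≪≫ₗ (Φ.quotKerEquivOfSurjective hsurjΦ), ?_⟩
  intro φ
  rfl

end Groth.Agent.S11302
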