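import Groth.Statements.S11306
import Mathlib.RingTheory.LocalRing.Module
import Mathlib.LinearAlgebra.Dimension.OrzechProperty
import Mathlib.LinearAlgebra.Dimension.Free
import Mathlib.RingTheory.TensorProduct.Finite
import Mathlib.LinearAlgebra.FiniteDimensional.Defs
-- import your own Groth.Agent.* helpers here

set_option autoImplicit false
universe u
open TensorProduct
open CAlg

namespace Groth.Agent.S11306

/-- Take a Noetherian local domain A, with residue field k and fraction field K, and let M be a finitely
generated A-module. If k ⊗_A M and K ⊗_A M have the same dimension r (over k and over K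
respectively), then M is a free A-module of rank r. -/
theorem result (A : Type u) [CommRing A] [IsDomain A]
    [IsNoetherianRing A] [IsLocalRing A] (M : Type u) [AddCommGroup M] [Module A M] [Module.Finite A M] (r : ℕ)
    (hk : Module.finrank (IsLocalRing.ResidueField A) (IsLocalRing.ResidueField A ⊗[A] M) = r)
    (hK : Module.finrank (FractionRing A) (FractionRing A ⊗[A] M) = r) :
    Module.Free A M ∧ Module.finrank A M = r := by
  classical
  set k := IsLocalRing.ResidueField A with hkdef
  set K := FractionRing A with hKdef
  -- a basis of k ⊗ M of cardinality r
  have hfin : Module.Finite k (k ⊗[A] M) := inferInstance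
  let b : Module.Basis (Fin r) k (k ⊗[A] M) := Module.finBasisOfFinrankEq k (k ⊗[A] M) hk
  have hsurj : Function.Surjective (TensorProduct.mk A k M 1) :=
    TensorProduct.mk_surjective A M k IsLocalRing.residue_surjective
  choose v hv using fun i : Fin r => hsurj (b i)
  have hspan : Submodule.span A (Set.range v) = ⊤ :=
    IsLocalRing.span_eq_top_of_tmul_eq_basis (R := A) v b (fun i => hv i)
  -- the images in K ⊗ M span
  have hspanK : ⊤ ≤ Submodule.span K (Set.range (TensorProduct.mk A K M 1 ∘ v)) := by
    rw [Set.range_comp, ← Submodule.baseChange_span, hspan, Submodule.baseChange_top]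
  have hcard : Fintype.card (Fin r) = Module.finrank K (K ⊗[A] M) := by
    rw [hK, Fintype.card_fin]
  have hliK : LinearIndependent K (TensorProduct.mk A K M 1 ∘ v) :=
    linearIndependent_of_top_le_span_of_card_eq_finrank hspanK hcard
  have hliA' : LinearIndependent A (TensorProduct.mk A K M 1 ∘ v) := by
    apply LinearIndependent.restrict_scalars (K := K) _ hliK
    intro x y hxy
    simp only [Algebra.smul_def, mul_one] at hxy
    exact IsFractionRing.injective A K hxy
  have hliA : LinearIndependent A v := LinearIndependent.of_comp _ hliA'
  let B : Module.Basis (Fin r) A M := Module.Basis.mk hliA (by rw [hspan])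
  refine ⟨Module.Free.of_basis B, ?_⟩
  rw [Module.finrank_eq_card_basis B, Fintype.card_fin]


end Groth.Agent.S11306
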