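import Groth.Statements.S1131
import Mathlib.AlgebraicGeometry.Sites.Fpqc

set_option autoImplicit false
open CategoryTheory CategoryTheory.Limits AlgebraicGeometry Opposite
universe u
open Desc

namespace Groth.Agent.S1131

/-- If p : X ⟶ S is surjective, flat and quasi-compact, then the functor sending a scheme over S to its
canonical descent datum relative to p is full. (Faithfulness, which needs no quasi-compactness, is a
companion statement.) (Descent data are taken in functor-of-points form, equivalent by the Yoneda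
lemma to the usual form of an isomorphism over X ×_S X satisfying the cocycle condition.) -/
theorem result {X S : Scheme.{u}} (p : X ⟶ S) [Surjective p] [Flat p] [QuasiCompact p] :
    (Desc.toDD p).Full := by
  constructor
  intro U U' h
  -- the fpqc cover `X ×_S U ⟶ U`
  have hE : EffectiveEpi (pullback.snd p U.hom) := inferInstance
  obtain ⟨hl, hhl⟩ : ∃ hl : pullback p U.hom ⟶ pullback p U'.hom, hl = h.hom.left := ⟨_, rfl⟩
  have hw : hl ≫ pullback.fst p U'.hom = pullback.fst p U.hom := by
    rw [hhl]; exact Over.w h.hom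
  have hcompat : ∀ {Z : Scheme.{u}} (g₁ g₂ : Z ⟶ pullback p U.hom),
      g₁ ≫ pullback.snd p U.hom = g₂ ≫ pullback.snd p U.hom →
      g₁ ≫ (hl ≫ pullback.snd p U'.hom) = g₂ ≫ (hl ≫ pullback.snd p U'.hom) := by
    intro Z g₁ g₂ e
    have hx : (g₁ ≫ pullback.fst p U.hom) ≫ p = (g₂ ≫ pullback.fst p U.hom) ≫ p := by
      rw [Category.assoc, Category.assoc, pullback.condition, ← Category.assoc, e, Category.assoc]
    let v : Desc.Lifts ((Desc.toDD p).obj U).obj (g₁ ≫ pullback.fst p U.hom) := ⟨g₁, rfl⟩
    let w : Desc.Lifts ((Desc.toDD p).obj U').obj (g₁ ≫ pullback.fst p U.hom) :=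
      ⟨g₁ ≫ hl, by
        change (g₁ ≫ hl) ≫ pullback.fst p U'.hom = _
        rw [Category.assoc, hw]⟩
    have hc := h.comm (g₁ ≫ pullback.fst p U.hom) (g₂ ≫ pullback.fst p U.hom) hx v w
      (by change g₁ ≫ hl = g₁ ≫ h.hom.left; rw [hhl]; rfl)
    have hv : (((Desc.toDD p).obj U).φ (g₁ ≫ pullback.fst p U.hom) (g₂ ≫ pullback.fst p U.hom) hx v).1
        = g₂ := by
      change (Desc.canMap p U _ _ hx v).1 = g₂
      rw [Desc.canMap_val]
      apply pullback.hom_ext
      · rw [pullback.lift_fst]
      · rw [pullback.lift_snd]; exact e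
    rw [hv] at hc
    have hc' : (Desc.canMap p U' _ _ hx w).1 = g₂ ≫ hl := by rw [hhl]; exact hc
    have h3 : (Desc.canMap p U' _ _ hx w).1 ≫ pullback.snd p U'.hom =
        (g₁ ≫ hl) ≫ pullback.snd p U'.hom := by
      rw [Desc.canMap_val, pullback.lift_snd]
      rfl
    calc g₁ ≫ hl ≫ pullback.snd p U'.hom = (g₁ ≫ hl) ≫ pullback.snd p U'.hom :=
          (Category.assoc _ _ _).symm
      _ = (Desc.canMap p U' _ _ hx w).1 ≫ pullback.snd p U'.hom := h3.symm
      _ = (g₂ ≫ hl) ≫ pullback.snd p U'.hom := congrArg (· ≫ pullback.snd p U'.hom) hc'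
      _ = g₂ ≫ hl ≫ pullback.snd p U'.hom := Category.assoc _ _ _
  let g : U.left ⟶ U'.left := EffectiveEpi.desc (pullback.snd p U.hom)
    (hl ≫ pullback.snd p U'.hom) (fun g₁ g₂ e => hcompat g₁ g₂ e)
  have hg : pullback.snd p U.hom ≫ g = hl ≫ pullback.snd p U'.hom :=
    EffectiveEpi.fac _ _ _
  have : Epi (pullback.snd p U.hom) := Flat.epi_of_flat_of_surjective _
  have hgS : g ≫ U'.hom = U.hom := by
    rw [← cancel_epi (pullback.snd p U.hom), ← Category.assoc, hg, Category.assoc,
      ← pullback.condition, ← Category.assoc, hw, pullback.condition]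
  refine ⟨Over.homMk g hgS, ?_⟩
  apply Desc.SchDD.hom_ext
  ext
  change ((Desc.toDD p).map (Over.homMk g hgS : U ⟶ U')).hom.left = h.hom.left
  rw [← hhl]
  apply pullback.hom_ext
  · have e1 : ((Desc.toDD p).map (Over.homMk g hgS : U ⟶ U')).hom.left ≫ pullback.fst p U'.hom =
        pullback.fst p U.hom := by
      simp only [Desc.toDD, Over.homMk_left]
      exact (pullback.lift_fst _ _ _).trans (Category.comp_id _)
    exact e1.trans hw.symm
  · have e2 : ((Desc.toDD p).map (Over.homMk g hgS : U ⟶ U')).hom.left ≫ pullback.snd p U'.hom =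
        pullback.snd p U.hom ≫ g := by
      simp only [Desc.toDD, Over.homMk_left]
      exact pullback.lift_snd _ _ _
    exact e2.trans hg

end Groth.Agent.S1131
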