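import Groth.Statements.S11311
import Groth.Agent.H39.KaehlerRegular
import Groth.Agent.H14.DimTrdeg
import Groth.Agent.H80.SepDiff
import Groth.Agent.Lead.RegularLocal

set_option autoImplicit false
universe u
open CAlg

namespace Groth.Agent.S11311

open IsLocalRing KaehlerDifferential TensorProduct

section helpers

variable (k B : Type u) [Field k] [CommRing B] [Algebra k B] [IsLocalRing B]
  [Algebra.EssFiniteType k B]

include k in
theorem isNoetherianRing_of_essFiniteType : IsNoetherianRing B := by
  have : IsNoetherianRing (Algebra.EssFiniteType.subalgebra k B) :=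
    Algebra.FiniteType.isNoetherianRing k _
  exact IsLocalization.isNoetherianRing (Algebra.EssFiniteType.submonoid k B) B inferInstance

theorem part1 (hres : Function.Surjective (algebraMap k (ResidueField B))) (d : ℕ)
    (hd : ringKrullDim B = (d : WithBot ℕ∞)) [Module.Free B Ω[B⁄k]]
    (hrank : Module.finrank B Ω[B⁄k] = d) : IsRegularLocalRing B := by
  classical
  have := isNoetherianRing_of_essFiniteType k B
  let e : Ω[B⁄k] ≃ₗ[B] (Fin d → B) := (Module.finBasisOfFinrankEq B _ hrank).equivFun
  obtain ⟨x, dd, hxm, hdx, hm⟩ := Groth.Agent.H39.exists_dual_derivations hres e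
  have hle : (maximalIdeal B).spanFinrank ≤ d := by
    rw [hm]
    have : Set.range x = ((Finset.univ.image x : Finset B) : Set B) := by simp
    rw [this]
    refine (Submodule.spanFinrank_span_le_ncard_of_finite (Finset.finite_toSet _)).trans ?_
    rw [Set.ncard_coe_finset]
    refine Finset.card_image_le.trans ?_
    simp
  have hle' : ((maximalIdeal B).spanFinrank : WithBot ℕ∞) ≤ (d : WithBot ℕ∞) := by
    exact_mod_cast hle
  exact IsRegularLocalRing.of_spanFinrank_maximalIdeal_le _ (hle'.trans hd.ge)

theorem span_D_eq_top (hres : Function.Surjective (algebraMap k (ResidueField B)))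
    {ι : Type*} (x : ι → B) (hm : maximalIdeal B = Ideal.span (Set.range x)) :
    Submodule.span B (Set.range fun i => D k B (x i)) = ⊤ := by
  have := isNoetherianRing_of_essFiniteType k B
  set N := Submodule.span B (Set.range fun i => D k B (x i)) with hN
  have hfg : (⊤ : Submodule B Ω[B⁄k]).FG := Module.finite_def.mp inferInstance
  have key : (⊤ : Submodule B Ω[B⁄k]) ≤ N ⊔ maximalIdeal B • ⊤ := by
    have h1 : Submodule.span B (Set.range (D k B)) ≤
        N ⊔ maximalIdeal B • (⊤ : Submodule B Ω[B⁄k]) := ?_
    · rwa [KaehlerDifferential.span_range_derivation] at h1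
    rw [Submodule.span_le]
    rintro _ ⟨b, rfl⟩
    obtain ⟨c, hc⟩ := hres (residue B b)
    have hy : b - algebraMap k B c ∈ maximalIdeal B := by
      rw [← IsLocalRing.residue_eq_zero_iff, map_sub, sub_eq_zero, ← hc]
      rfl
    have hD : D k B b = D k B (b - algebraMap k B c) := by simp
    rw [hD]
    rw [hm] at hy
    have hmem : ∀ y (hy : y ∈ Ideal.span (Set.range x)),
        D k B y ∈ N ⊔ maximalIdeal B • (⊤ : Submodule B Ω[B⁄k]) := by
      intro y hy
      induction hy using Submodule.span_induction with
      | mem y h =>
        obtain ⟨i, rfl⟩ := h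
        exact Submodule.mem_sup_left (Submodule.subset_span ⟨i, rfl⟩)
      | zero => simp
      | add a b _ _ ha hb => rw [map_add]; exact add_mem ha hb
      | smul a y hy ih =>
        rw [smul_eq_mul, Derivation.leibniz]
        refine add_mem (Submodule.smul_mem _ _ ih) (Submodule.mem_sup_right ?_)
        refine Submodule.smul_mem_smul ?_ trivial
        rw [hm]; exact hy
    exact hmem _ hy
  refine top_le_iff.mp (Submodule.le_of_le_smul_of_le_jacobson_bot hfg ?_ key)
  exact IsLocalRing.maximalIdeal_le_jacobson ⊥

theorem trdeg_fractionRing [IsDomain B]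
    (hres : Function.Surjective (algebraMap k (ResidueField B))) (d : ℕ)
    (hd : ringKrullDim B = (d : WithBot ℕ∞)) :
    Algebra.trdeg k (FractionRing B) = d := by
  classical
  let S := Algebra.EssFiniteType.subalgebra k B
  let M := Algebra.EssFiniteType.submonoid k B
  have hloc0 : IsLocalization M B := inferInstance
  let p : Ideal S := (maximalIdeal B).comap (algebraMap S B)
  have hp : p.IsPrime := Ideal.comap_isPrime _ _
  have hMp : M = p.primeCompl := by
    ext y
    change IsUnit (algebraMap S B y) ↔ y ∉ p
    rw [Ideal.mem_comap, IsLocalRing.notMem_maximalIdeal]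
  have hAt : IsLocalization.AtPrime B p := by
    change IsLocalization p.primeCompl B
    rw [← hMp]; exact hloc0
  have hpmax : p.IsMaximal := by
    rw [Ideal.isMaximal_iff]
    refine ⟨fun h => ?_, fun J y hJ hy hyJ => ?_⟩
    · have h1 : algebraMap S B 1 ∈ maximalIdeal B := h
      rw [map_one] at h1
      exact (Ideal.ne_top_iff_one _).mp (IsLocalRing.maximalIdeal.isMaximal B).ne_top h1
    · obtain ⟨c, hc⟩ := hres (residue B (y : B))
      have h1 : y - algebraMap k S c ∈ p := by
        change algebraMap S B (y - algebraMap k S c) ∈ maximalIdeal B
        rw [← IsLocalRing.residue_eq_zero_iff, map_sub, map_sub, sub_eq_zero]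
        exact hc.symm
      have hc0 : c ≠ 0 := by
        rintro rfl
        apply hy
        simpa using h1
      have h2 : algebraMap k S c ∈ J := by
        have := J.sub_mem hyJ (hJ h1)
        simpa using this
      have h3 : (1 : S) = algebraMap k S c⁻¹ * algebraMap k S c := by
        rw [← map_mul, inv_mul_cancel₀ hc0, map_one]
      rw [h3]; exact J.mul_mem_left _ h2
  obtain ⟨n, htr, hdimS, hloc⟩ :=
    Groth.Agent.H14.ringKrullDim_eq_trdeg_of_finiteType_domain k S
  have hn : ringKrullDim B = n := by
    rw [← hloc p]
    exact (ringKrullDim_eq_of_ringEquiv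
      (IsLocalization.algEquiv p.primeCompl (Localization.AtPrime p) B).toRingEquiv).symm
  have hnd : n = d := by
    rw [hd] at hn; exact_mod_cast hn.symm
  have hinj : Function.Injective (algebraMap S (FractionRing B)) := by
    rw [IsScalarTower.algebraMap_eq S B (FractionRing B)]
    exact (IsFractionRing.injective B (FractionRing B)).comp Subtype.val_injective
  have hfaith : FaithfulSMul S (FractionRing B) :=
    (faithfulSMul_iff_algebraMap_injective _ _).mpr hinj
  have hfrac : IsFractionRing S (FractionRing B) := by
    refine IsFractionRing.of_field S (FractionRing B) fun z => ?_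
    obtain ⟨b1, b2, hb2, rfl⟩ := IsFractionRing.div_surjective (A := B) z
    obtain ⟨s1, t1, rfl⟩ := IsLocalization.exists_mk'_eq M b1
    obtain ⟨s2, t2, rfl⟩ := IsLocalization.exists_mk'_eq M b2
    refine ⟨s1 * t2, s2 * t1, ?_⟩
    have e1 := IsLocalization.mk'_spec B s1 t1
    have e2 := IsLocalization.mk'_spec B s2 t2
    have ht1 : algebraMap B (FractionRing B) (algebraMap S B t1) ≠ 0 := by
      rw [← IsScalarTower.algebraMap_apply]
      intro h
      have := hinj (h.trans (map_zero _).symm)
      have hu : IsUnit (algebraMap S B t1) := IsLocalization.map_units B t1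
      rw [this, map_zero] at hu
      exact not_isUnit_zero hu
    have ht2 : algebraMap B (FractionRing B) (algebraMap S B t2) ≠ 0 := by
      rw [← IsScalarTower.algebraMap_apply]
      intro h
      have := hinj (h.trans (map_zero _).symm)
      have hu : IsUnit (algebraMap S B t2) := IsLocalization.map_units B t2
      rw [this, map_zero] at hu
      exact not_isUnit_zero hu
    have hb2' : algebraMap B (FractionRing B) (IsLocalization.mk' B s2 t2) ≠ 0 := by
      intro h
      have := IsFractionRing.injective B (FractionRing B) (h.trans (map_zero _).symm)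
      rw [this] at hb2
      exact zero_notMem_nonZeroDivisors hb2
    have hx : algebraMap S (FractionRing B) (s1 * t2) =
        algebraMap B (FractionRing B) (IsLocalization.mk' B s1 t1) *
          algebraMap B (FractionRing B) (algebraMap S B t1) *
          algebraMap B (FractionRing B) (algebraMap S B t2) := by
      rw [IsScalarTower.algebraMap_apply S B (FractionRing B), map_mul (algebraMap S B), ← e1,
        map_mul, map_mul]
    have hy : algebraMap S (FractionRing B) (s2 * t1) =
        algebraMap B (FractionRing B) (IsLocalization.mk' B s2 t2) *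
          algebraMap B (FractionRing B) (algebraMap S B t2) *
          algebraMap B (FractionRing B) (algebraMap S B t1) := by
      rw [IsScalarTower.algebraMap_apply S B (FractionRing B), map_mul (algebraMap S B), ← e2,
        map_mul, map_mul]
    rw [hx, hy]
    field_simp
  let e : FractionRing S ≃ₐ[k] FractionRing B :=
    (IsLocalization.algEquiv (nonZeroDivisors S) (FractionRing S)
      (FractionRing B)).restrictScalars k
  rw [← e.trdeg_eq, htr, hnd]

theorem part2 [PerfectField k] [IsRegularLocalRing B]
    (hres : Function.Surjective (algebraMap k (ResidueField B))) (d : ℕ)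
    (hd : ringKrullDim B = (d : WithBot ℕ∞)) :
    Module.Free B Ω[B⁄k] ∧ Module.finrank B Ω[B⁄k] = d := by
  classical
  have hdom : IsDomain B := Groth.Agent.Lead.RLR.isDomain B
  -- generators of the maximal ideal
  have hsf : (maximalIdeal B).spanFinrank = d := by
    have h1 := (isRegularLocalRing_iff B).mp inferInstance
    rw [hd] at h1
    exact_mod_cast h1
  have hfg : (maximalIdeal B).FG := IsNoetherian.noetherian _
  obtain ⟨s, hscard, hsspan⟩ := Submodule.FG.exists_span_finset_card_eq_spanFinrank hfg
  let x : {y : B // y ∈ s} → B := Subtype.val
  have hx : maximalIdeal B = Ideal.span (Set.range x) := by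
    have : Set.range x = (s : Set B) := Subtype.range_coe
    rw [this]; exact hsspan.symm
  have hcards : Fintype.card {y : B // y ∈ s} = d := by
    rw [← hsf, ← hscard]; exact Fintype.card_coe s
  have hspan := span_D_eq_top k B hres x hx
  -- dimension over the fraction field
  have htr := trdeg_fractionRing k B hres d hd
  have hE1 : Algebra.EssFiniteType B (FractionRing B) :=
    Algebra.EssFiniteType.of_isLocalization (FractionRing B) (nonZeroDivisors B)
  have hE2 : Algebra.EssFiniteType k (FractionRing B) := Algebra.EssFiniteType.comp k B _
  obtain ⟨t, ht⟩ := exists_isTranscendenceBasis k (FractionRing B)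
  have hcard : Cardinal.mk t = d := by rw [ht.cardinalMk_eq_trdeg, htr]
  have hfin : Finite t := by
    rw [← Cardinal.lt_aleph0_iff_finite, hcard]
    exact Cardinal.natCast_lt_aleph0
  let _ : Fintype t := Fintype.ofFinite t
  have hcard' : Fintype.card t = d := by
    rw [Cardinal.mk_fintype] at hcard
    exact_mod_cast hcard
  have hfr : Module.finrank (FractionRing B) Ω[FractionRing B⁄k] = d := by
    rw [Groth.Agent.H80.finrank_kaehler_eq_card ht, hcard']
  have hEt : Algebra.FormallyEtale B (FractionRing B) :=
    Algebra.FormallyEtale.of_isLocalization (nonZeroDivisors B)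
  have hfr' : Module.finrank (FractionRing B) (FractionRing B ⊗[B] Ω[B⁄k]) = d := by
    rw [(KaehlerDifferential.tensorKaehlerEquivOfFormallyEtale k B (FractionRing B)).finrank_eq,
      hfr]
  -- the family `1 ⊗ D x_i`
  let v : {y : B // y ∈ s} → Ω[B⁄k] := fun i => D k B (x i)
  let w : {y : B // y ∈ s} → FractionRing B ⊗[B] Ω[B⁄k] := fun i => 1 ⊗ₜ v i
  have hwspan : ⊤ ≤ Submodule.span (FractionRing B) (Set.range w) := by
    have h1 := Submodule.baseChange_span (R := B) (A := FractionRing B) (Set.range v)
    rw [hspan, Submodule.baseChange_top, ← Set.range_comp] at h1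
    rw [h1]
    rfl
  have hwli : LinearIndependent (FractionRing B) w :=
    linearIndependent_of_top_le_span_of_card_eq_finrank hwspan (by rw [hfr', hcards])
  have hvli : LinearIndependent B v := by
    have h1 : LinearIndependent B w := hwli.restrict_scalars' B
    exact LinearIndependent.of_comp (TensorProduct.mk B (FractionRing B) Ω[B⁄k] 1) h1
  let b : Module.Basis {y : B // y ∈ s} B Ω[B⁄k] := Module.Basis.mk hvli (by rw [hspan])
  exact ⟨Module.Free.of_basis b, by rw [Module.finrank_eq_card_basis b, hcards]⟩

end helpers

/-- Let k be a field and B a local ring containing k whose residue field is k (the composite k → B → B/m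
is bijective), and which is a localization of a finitely generated k-algebra (essentially of finite
type over k); let d = dim B. If the module of differentials Ω_{B/k} is free of rank d then B is a
regular local ring. Conversely, if k is perfect and B is a regular local ring, then Ω_{B/k} is free
of rank d. (The published statement assumes k perfect as one of its hypotheses and asserts the
equivalence; its proof of the first implication does not use perfectness, so that hypothesis is
placed on the converse only.) -/
theorem result (k B : Type u) [Field k] [CommRing B] [Algebra k B]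
    [IsLocalRing B] [Algebra.EssFiniteType k B]
    (hres : Function.Bijective (algebraMap k (IsLocalRing.ResidueField B)))
    (d : ℕ) (hd : ringKrullDim B = (d : WithBot ℕ∞)) :
    ((Module.Free B (KaehlerDifferential k B) ∧ Module.finrank B (KaehlerDifferential k B) = d) →
        IsRegularLocalRing B) ∧
      (PerfectField k → IsRegularLocalRing B →
        Module.Free B (KaehlerDifferential k B) ∧ Module.finrank B (KaehlerDifferential k B) = d) := by
  refine ⟨fun h => ?_, fun hk hreg => ?_⟩
  · have _ : Module.Free B (KaehlerDifferential k B) := h.1
    exact part1 k B hres.surjective d hd h.2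
  · exact part2 k B hres.surjective d hd

end Groth.Agent.S11311
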