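import Groth.Statements.S11318
-- import your own Groth.Agent.* helpers here

set_option autoImplicit false
universe u
open CategoryTheory AlgebraicGeometry
open ProjDual

namespace Groth.Agent.S11318

/-- Let k be a field, X a proper k-scheme of dimension n, and (ω, t), (ω', t') two dualizing sheaves for
X: each is a coherent O_X-module with a k-linear map on its n-th cohomology to k such that for every
coherent F and every k-linear form ψ on H^n(X, F) there is exactly one morphism from F into it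
through which ψ factors. Then there is exactly one morphism φ : ω → ω' with t = t' ∘ H^n(φ), and
this φ is an isomorphism. -/
theorem result (k : Type u) [Field k] (X : Scheme.{u}) [X.Over (Spec (CommRingCat.of k))]
    [IsProper (X ↘ Spec (CommRingCat.of k))] (n : ℕ) (hn : topologicalKrullDim ↥X = n)
    (ω ω' : X.Modules) (hω : Coh.IsCoh ω) (hω' : Coh.IsCoh ω')
    (t : Coh.HH X ω n →ₗ[k] k) (t' : Coh.HH X ω' n →ₗ[k] k)
    (hd : ∀ F : X.Modules, Coh.IsCoh F → ∀ ψ : Coh.HH X F n →ₗ[k] k,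
        ∃! φ : F ⟶ ω, ∀ x : Coh.HH X F n,
          ψ x = t (Sheaf.H.map ((SheafOfModules.toSheaf X.ringCatSheaf).map φ) n x))
    (hd' : ∀ F : X.Modules, Coh.IsCoh F → ∀ ψ : Coh.HH X F n →ₗ[k] k,
        ∃! φ : F ⟶ ω', ∀ x : Coh.HH X F n,
          ψ x = t' (Sheaf.H.map ((SheafOfModules.toSheaf X.ringCatSheaf).map φ) n x)) :
    ∃ φ : ω ⟶ ω', IsIso φ ∧
      (∀ x : Coh.HH X ω n, t x = t' (Sheaf.H.map ((SheafOfModules.toSheaf X.ringCatSheaf).map φ) n x)) ∧
      ∀ ψ : ω ⟶ ω', (∀ x : Coh.HH X ω n, t x = t' (Sheaf.H.map ((SheafOfModules.toSheaf X.ringCatSheaf).map ψ) n x)) → ψ = φ := by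
  have hcomp : ∀ {A B C : X.Modules} (f : A ⟶ B) (g : B ⟶ C) (x : Coh.HH X A n),
      Sheaf.H.map ((SheafOfModules.toSheaf X.ringCatSheaf).map (f ≫ g)) n x =
        Sheaf.H.map ((SheafOfModules.toSheaf X.ringCatSheaf).map g) n
          (Sheaf.H.map ((SheafOfModules.toSheaf X.ringCatSheaf).map f) n x) := by
    intro A B C f g x
    have h := (SheafOfModules.toSheaf X.ringCatSheaf).map_comp f g
    exact (congrArg (fun m => Sheaf.H.map m n x) h).trans (Sheaf.H.map_comp_apply _ _ _)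
  have hid : ∀ (A : X.Modules) (x : Coh.HH X A n),
      Sheaf.H.map ((SheafOfModules.toSheaf X.ringCatSheaf).map (𝟙 A)) n x = x := by
    intro A x
    have h := (SheafOfModules.toSheaf X.ringCatSheaf).map_id A
    exact (congrArg (fun m => Sheaf.H.map m n x) h).trans (Sheaf.H.map_id_apply _)
  obtain ⟨φ, hφ, hφu⟩ := hd' ω hω t
  obtain ⟨φ', hφ', _⟩ := hd ω' hω' t'
  have h1 : φ ≫ φ' = 𝟙 ω := by
    obtain ⟨χ, _, hχu⟩ := hd ω hω t
    have e1 : φ ≫ φ' = χ := by
      apply hχu
      intro x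
      exact (hφ x).trans ((hφ' _).trans (congrArg t (hcomp φ φ' x).symm))
    have e2 : 𝟙 ω = χ := by
      apply hχu
      intro x
      exact congrArg t (hid ω x).symm
    rw [e1, e2]
  have h2 : φ' ≫ φ = 𝟙 ω' := by
    obtain ⟨χ, _, hχu⟩ := hd' ω' hω' t'
    have e1 : φ' ≫ φ = χ := by
      apply hχu
      intro x
      exact (hφ' x).trans ((hφ _).trans (congrArg t' (hcomp φ' φ x).symm))
    have e2 : 𝟙 ω' = χ := by
      apply hχu
      intro x
      exact congrArg t' (hid ω' x).symm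
    rw [e1, e2]
  exact ⟨φ, ⟨⟨φ', h1, h2⟩⟩, hφ, fun ψ hψ => hφu ψ hψ⟩

end Groth.Agent.S11318
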