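import Groth.Statements.S11329
import Groth.Agent.S0988

set_option autoImplicit false
universe u
open CategoryTheory AlgebraicGeometry Opposite
open Coherent

namespace Groth.Agent.S11329

set_option linter.style.haveILetI false

open CategoryTheory.Limits Groth.Agent.H18

/-- the tilde of an injective module has the lifting property with respect to monomorphisms of
quasi-coherent modules -/
theorem lifting (A : CommRingCat.{u}) (I : ModuleCat.{u} A) [Injective I]
    (A' B' : (Spec A).Modules) [A'.IsQuasicoherent] [B'.IsQuasicoherent]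
    (m : A' ⟶ B') [Mono m] (g : A' ⟶ (tilde.functor A).obj I) :
    ∃ g' : B' ⟶ (tilde.functor A).obj I, m ≫ g' = g := by
  let adj := tilde.adjunction (R := A)
  let T := tilde.functor A
  let Γf := moduleSpecΓFunctor (R := A)
  haveI : PreservesLimitsOfSize.{0, 0} Γf := adj.rightAdjoint_preservesLimits
  haveI : Mono (Γf.map m) := inferInstance
  haveI hA : IsIso (adj.counit.app A') :=
    (inferInstance : IsIso (Scheme.Modules.fromTildeΓ A'))
  haveI hB : IsIso (adj.counit.app B') :=
    (inferInstance : IsIso (Scheme.Modules.fromTildeΓ B'))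
  haveI : IsIso (adj.unit.app I) := inferInstance
  let h : Γf.obj A' ⟶ I := Γf.map g ≫ inv (adj.unit.app I)
  let h' : Γf.obj B' ⟶ I := Injective.factorThru h (Γf.map m)
  have hh' : Γf.map m ≫ h' = h := Injective.comp_factorThru h (Γf.map m)
  refine ⟨inv (adj.counit.app B') ≫ T.map h', ?_⟩
  rw [← cancel_epi (adj.counit.app A')]
  have n1 : adj.counit.app A' ≫ m = T.map (Γf.map m) ≫ adj.counit.app B' :=
    (adj.counit.naturality m).symm
  have n2 : adj.counit.app A' ≫ g = T.map (Γf.map g) ≫ adj.counit.app (T.obj I) :=
    (adj.counit.naturality g).symm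
  have tri : T.map (adj.unit.app I) ≫ adj.counit.app (T.obj I) = 𝟙 _ :=
    adj.left_triangle_components I
  have tri' : adj.counit.app (T.obj I) = T.map (inv (adj.unit.app I)) := by
    rw [← cancel_epi (T.map (adj.unit.app I)), tri, ← T.map_comp, IsIso.hom_inv_id, T.map_id]
  rw [← Category.assoc, n1, Category.assoc, IsIso.hom_inv_id_assoc, ← T.map_comp, hh', n2, tri',
    ← T.map_comp]

/-- Let A be a Noetherian ring and I an injective A-module. Then the quasi-coherent sheaf I~ on Spec A
associated with I is flasque: for all opens U ⊆ V of Spec A the restriction map I~(V) → I~(U) is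
surjective. -/
theorem result (A : Type u) [CommRing A] [IsNoetherianRing A]
    (I : Type u) [AddCommGroup I] [Module A I] [Module.Injective A I]
    (U V : (Spec (CommRingCat.of A)).Opens) (hUV : U ≤ V) :
    Function.Surjective ((tilde (ModuleCat.of A I)).val.map (homOfLE hUV).op).hom := by
  intro s
  haveI : Injective (ModuleCat.of A I) := Module.injective_object_of_injective_module A I
  let M : (Spec (CommRingCat.of A)).Modules := tilde (ModuleCat.of A I)
  have hM : Coh.IsQCoh M := (inferInstance : (tilde (R := CommRingCat.of A) (ModuleCat.of A I)).IsQuasicoherent)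
  haveI : IsNoetherian (Spec (CommRingCat.of A)) := inferInstance
  obtain ⟨t, ht⟩ := Groth.Agent.S0988.exists_extension (Spec (CommRingCat.of A)) M hM
    (fun A' B' hA' hB' m _ g => by
      haveI : A'.IsQuasicoherent := hA'
      haveI : B'.IsQuasicoherent := hB'
      exact lifting (CommRingCat.of A) (ModuleCat.of A I) A' B' m g) U s
  refine ⟨mres M (le_top : V ≤ ⊤) t, ?_⟩
  have h1 : ∀ y : Γ(M, V), (M.val.map (homOfLE hUV).op).hom y = mres M hUV y := fun _ => rfl
  exact (h1 _).trans ((mres_mres M _ _ t).trans ht)

end Groth.Agent.S11329
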