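import Groth.Statements.S11360
import Groth.Agent.H28.DualLocGlob
import Groth.Agent.H28.CoextModel

set_option autoImplicit false
universe u
open CategoryTheory
attribute [local instance] HasDerivedCategory.standard
open Dual

namespace Groth.Agent.S11360

/-- Let A be a Noetherian ring and R an object of D(A) with finite cohomology modules and of finite
injective dimension (isomorphic to a bounded complex of injective modules). If for every prime p of
A the derived base change of R to A_p (the total left derived functor of extension of scalars,
assumed to exist) is a dualizing complex for A_p, then R is a dualizing complex for A. (The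
published statement is for a locally Noetherian scheme and the stalks at all points; this row is the
affine case. Without the global finite injective dimension hypothesis the conclusion fails, e.g. for
a regular Noetherian ring of infinite Krull dimension.) -/
theorem result (A : Type u) [CommRing A] [IsNoetherianRing A] (R : Dual.D A) (hfin : ∀ i : ℤ, Module.Finite A (Dual.HD A R i)) (hfid : DRing.HasFiniteInjDim A R) [∀ p : PrimeSpectrum A, DRing.HasLBaseChange (algebraMap A (Localization.AtPrime p.asIdeal))] (h : ∀ p : PrimeSpectrum A, Dual.IsDualizing (Localization.AtPrime p.asIdeal) ((DRing.LBaseChange (algebraMap A (Localization.AtPrime p.asIdeal))).obj R)) : Dual.IsDualizing A R := by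
  obtain ⟨a, b, J, hJ, hinjJ, ⟨e⟩⟩ := hfid
  have hJge : J.IsStrictlyGE a := by
    rw [CochainComplex.isStrictlyGE_iff]
    exact fun j hj => hJ j (Or.inl hj)
  have hJle : J.IsStrictlyLE b := by
    rw [CochainComplex.isStrictlyLE_iff]
    exact fun j hj => hJ j (Or.inr hj)
  have hGE : R.IsGE a := DerivedCategory.TStructure.t.isGE_of_iso e a
  have hLE : R.IsLE b := DerivedCategory.TStructure.t.isLE_of_iso e b
  refine Groth.Agent.H28.DualLocGlob.isDualizing_of_maximal R a b hGE hLE hfin ⟨a, b, ?_⟩ ?_
  · intro M _ _ i hi
    rcases hi with hi | hi
    · exact Groth.Agent.H26.FlatBCDual.subsingleton_T_of_isGE R a hGE M i hi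
    · have h1 : Subsingleton (Dual.inD A M ⟶ (DerivedCategory.Q.obj J)⟦i⟧) :=
        Groth.Agent.H28.ExtFinite.subsingleton_hom_shift_of_injAmp J a b hJ hinjJ
          (Dual.inD A M) 0 i (by omega)
      exact Groth.Agent.H28.CoextModel.subsingleton_hom_of_iso (Iso.refl _)
        ((shiftFunctor (Dual.D A) i).mapIso e) h1
  · intro m hm
    let p : PrimeSpectrum A := ⟨m, hm.isPrime⟩
    have hp : DRing.HasLBaseChange (algebraMap A (Localization.AtPrime p.asIdeal)) := inferInstance
    exact Groth.Agent.H26.FlatBCDual.isDualizing_of_iso
      ((Groth.Agent.H26.FlatBCDual.lbcIso (A := A) (B := Localization.AtPrime p.asIdeal)).app R)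
      (h p)

end Groth.Agent.S11360
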