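import Groth.Statements.S11411
import Mathlib

set_option autoImplicit false
universe u
open CategoryTheory MonoidalCategory CartesianMonoidalCategory MonObj GrpObj AlgebraicGeometry CategoryTheory.Limits
open AlgGrp

namespace Groth.Agent.S11411

/-- Over an algebraically closed field k, let G be an algebraic group (a smooth k-group scheme of finite
type) and N the kernel of the canonical morphism ρ : G → Spec O(G), i.e. the fibre of ρ over the
image of the unit. Then N is the smallest normal subgroup scheme of G with affine quotient: for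
every closed normal subgroup scheme H of G with a flat surjective homomorphism G → Q of k-group
schemes of finite type with kernel H and Q affine, the inclusion of N factors through H. And N is
the largest anti-affine subgroup scheme: every homomorphism and closed immersion into G from a
k-group scheme whose only global functions are the constants factors through N. (The published
statement also asserts O(N) = k, that N is a connected algebraic group central in G⁰, and O(G/N) =
O(G) finitely generated; those parts are not restated here.) -/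
theorem result (k : Type u) [Field k] [IsAlgClosed k]
    (G : Over (Spec (CommRingCat.of k))) [GrpObj G] [Smooth G.hom] [QuasiCompact G.hom] :
    (∀ (H Q : Over (Spec (CommRingCat.of k))) [GrpObj H] [GrpObj Q] (h : H ⟶ G) [IsMonHom h] [IsClosedImmersion h.left]
        [LocallyOfFiniteType Q.hom] [QuasiCompact Q.hom] (q : G ⟶ Q) [IsMonHom q] [Surjective q.left] [Flat q.left],
        AlgGrp.IsKernel h q → IsAffine Q.left →
        ∃ f : pullback G.left.toSpecΓ (η[G].left ≫ G.left.toSpecΓ) ⟶ H.left, f ≫ h.left = pullback.fst G.left.toSpecΓ (η[G].left ≫ G.left.toSpecΓ)) ∧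
    (∀ (M : Over (Spec (CommRingCat.of k))) [GrpObj M] (j : M ⟶ G) [IsMonHom j] [IsClosedImmersion j.left],
        Function.Bijective ((Scheme.ΓSpecIso (CommRingCat.of k)).inv ≫ M.hom.appTop).hom →
        ∃ f : M.left ⟶ pullback G.left.toSpecΓ (η[G].left ≫ G.left.toSpecΓ), f ≫ pullback.fst G.left.toSpecΓ (η[G].left ≫ G.left.toSpecΓ) = j.left) := by
  set ρ := G.left.toSpecΓ with hρ
  set e : Spec (CommRingCat.of k) ⟶ G.left := η[G].left with he
  have heG : e ≫ G.hom = 𝟙 _ := Over.w η[G]
  refine ⟨?_, ?_⟩
  · intro H Q _ _ h _ _ _ _ q _ _ _ hker hQ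
    -- `fst ≫ G.hom = snd`
    have hcond : pullback.fst ρ (e ≫ ρ) ≫ ρ = pullback.snd ρ (e ≫ ρ) ≫ e ≫ ρ := pullback.condition
    have hnatG : G.hom ≫ (Spec (CommRingCat.of k)).toSpecΓ = ρ ≫ Spec.map G.hom.appTop :=
      Scheme.toSpecΓ_naturality G.hom
    have h1 : pullback.fst ρ (e ≫ ρ) ≫ G.hom = pullback.snd ρ (e ≫ ρ) := by
      rw [← cancel_mono (Spec (CommRingCat.of k)).toSpecΓ, Category.assoc, hnatG,
        reassoc_of% hcond, ← hnatG, reassoc_of% heG]
    have hnatq : q.left ≫ Q.left.toSpecΓ = ρ ≫ Spec.map q.left.appTop :=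
      Scheme.toSpecΓ_naturality q.left
    have h2 : pullback.fst ρ (e ≫ ρ) ≫ q.left = pullback.snd ρ (e ≫ ρ) ≫ e ≫ q.left := by
      rw [← cancel_mono Q.left.toSpecΓ, Category.assoc, hnatq, reassoc_of% hcond,
        Category.assoc, Category.assoc, hnatq]
    have heq : e ≫ q.left = η[Q].left := congrArg (fun m => m.left) (IsMonHom.one_hom (f := q))
    let P' : Over (Spec (CommRingCat.of k)) := Over.mk (pullback.fst ρ (e ≫ ρ) ≫ G.hom)
    let φ : P' ⟶ G := Over.homMk (pullback.fst ρ (e ≫ ρ)) rfl
    have hφ : φ ≫ q = toUnit P' ≫ η[Q] := by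
      apply Over.OverMorphism.ext
      change pullback.fst ρ (e ≫ ρ) ≫ q.left = (toUnit P').left ≫ η[Q].left
      rw [Over.toUnit_left, h2, heq]
      change _ = (pullback.fst ρ (e ≫ ρ) ≫ G.hom) ≫ _
      rw [h1]
    refine ⟨(hker.lift φ (toUnit P') hφ).left, ?_⟩
    exact congrArg (fun m => m.left) (hker.lift_fst φ (toUnit P') hφ)
  · intro M _ j _ _ hM
    set ηM : Spec (CommRingCat.of k) ⟶ M.left := η[M].left with hηM
    have hηMM : ηM ≫ M.hom = 𝟙 _ := Over.w η[M]
    have hiso : IsIso ((Scheme.ΓSpecIso (CommRingCat.of k)).inv ≫ M.hom.appTop) := by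
      rw [ConcreteCategory.isIso_iff_bijective]
      exact hM
    have hiso2 : IsIso M.hom.appTop := by
      have := IsIso.of_isIso_comp_left (Scheme.ΓSpecIso (CommRingCat.of k)).inv M.hom.appTop
      exact this
    have h3 : M.hom.appTop ≫ ηM.appTop = 𝟙 _ := by
      rw [← Scheme.Hom.comp_appTop, hηMM, Scheme.Hom.id_appTop]
    have h4 : ηM.appTop ≫ M.hom.appTop = 𝟙 _ := by
      rw [← cancel_epi M.hom.appTop, reassoc_of% h3, Category.comp_id]
    have h5 : (M.hom ≫ ηM) ≫ M.left.toSpecΓ = M.left.toSpecΓ := by
      rw [Scheme.toSpecΓ_naturality, Scheme.Hom.comp_appTop, h4, Spec.map_id, Category.comp_id]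
    have hηj : ηM ≫ j.left = e := congrArg (fun m => m.left) (IsMonHom.one_hom (f := j))
    have hnatj : j.left ≫ ρ = M.left.toSpecΓ ≫ Spec.map j.left.appTop :=
      Scheme.toSpecΓ_naturality j.left
    have hcond : j.left ≫ ρ = M.hom ≫ e ≫ ρ := by
      rw [← hηj, Category.assoc, hnatj, ← Category.assoc, ← Category.assoc, h5]
    exact ⟨pullback.lift j.left M.hom hcond, pullback.lift_fst _ _ _⟩

end Groth.Agent.S11411
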