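import Groth.Statements.S11438
import Groth.Agent.H15.Rigid8

set_option autoImplicit false
universe u
open CategoryTheory MonoidalCategory CartesianMonoidalCategory MonObj GrpObj AlgebraicGeometry Topology
open GIT

namespace Groth.Agent.S11438

/-- Let S be connected and locally Noetherian, G a locally Noetherian group scheme separated over S, X →
S proper and flat with κ(s) → H⁰(X_s, O_{X_s}) bijective for every s, and f, g : X → G morphisms
over S which agree on one fibre X_s. Then there is a section t of G over S with f = (t ∘ p) · g, the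
product taken in the group of X-valued points of G. -/
theorem result (S : Scheme.{u}) [IsLocallyNoetherian S] [ConnectedSpace S]
    (X G : Over S) [GrpObj G] [IsLocallyNoetherian G.left] [IsSeparated G.hom] [IsProper X.hom] [Flat X.hom]
    (h0 : ∀ s : S, Function.Bijective (Limits.pullback.snd X.hom (S.fromSpecResidueField s)).appTop)
    (f g : X ⟶ G) (s : S)
    (hs : Limits.pullback.fst X.hom (S.fromSpecResidueField s) ≫ f.left =
      Limits.pullback.fst X.hom (S.fromSpecResidueField s) ≫ g.left) :
    ∃ t : 𝟙_ (Over S) ⟶ G, f = (toUnit X ≫ t) * g := by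
  classical
  let φ : X ⟶ G := f * g⁻¹
  have hφ : φ.left ≫ G.hom = X.hom ≫ 𝟙 S := by rw [Over.w, Category.comp_id]
  let j := Limits.pullback.fst X.hom (S.fromSpecResidueField s)
  let Xs : Over S := Over.mk (j ≫ X.hom)
  let ιo : Xs ⟶ X := Over.homMk j rfl
  have hfg : ιo ≫ f = ιo ≫ g := Over.OverMorphism.ext hs
  have h1 : ιo ≫ φ = 1 := by
    change ιo ≫ (f * g⁻¹) = 1
    rw [MonObj.comp_mul, GrpObj.comp_inv, hfg, mul_inv_cancel]
  have h1' : j ≫ φ.left = j ≫ X.hom ≫ η[G].left := by
    have h2 : (ιo ≫ φ).left = (toUnit Xs ≫ η[G]).left := congrArg (fun k => k.left) h1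
    exact (show j ≫ φ.left = (j ≫ X.hom) ≫ η[G].left from h2).trans (Category.assoc _ _ _)
  have hsurj : Function.Surjective X.hom :=
    Groth.Agent.H15.Rigid.surjective_of_bijective_appTop X.hom h0
  have hcoll : s ∈ Groth.Agent.H15.Rigid.collapsed X.hom φ.left := by
    refine ⟨η[G].left s, fun x hx => ?_⟩
    obtain ⟨pt⟩ : Nonempty ↥(Spec (S.residueField s)) := inferInstance
    obtain ⟨z, hz1, hz2⟩ := Scheme.Pullback.exists_preimage_pullback
      (f := X.hom) (g := S.fromSpecResidueField s) x pt
      (by rw [hx, Scheme.fromSpecResidueField_apply])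
    have h3 := congrArg (fun k : Limits.pullback X.hom (S.fromSpecResidueField s) ⟶ G.left => k z) h1'
    simp only [Scheme.Hom.comp_apply] at h3
    change φ.left (Limits.pullback.fst X.hom (S.fromSpecResidueField s) z) =
      η[G].left (X.hom (Limits.pullback.fst X.hom (S.fromSpecResidueField s) z)) at h3
    rw [hz1, hx] at h3
    exact h3
  haveI : IsLocallyNoetherian X.left := LocallyOfFiniteType.isLocallyNoetherian X.hom
  obtain ⟨t₀, ht₀⟩ := Groth.Agent.H15.Rigid.rigidity X.hom G.hom (𝟙 S) φ.left hφ h0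
    (Or.inl inferInstance) s hcoll
  haveI : Surjective X.hom := ⟨hsurj⟩
  haveI : Epi X.hom := Flat.epi_of_flat_of_surjective X.hom
  have ht₀' : t₀ ≫ G.hom = 𝟙 S := by
    rw [← cancel_epi X.hom, ← Category.assoc, ← ht₀, Over.w, Category.comp_id]
  let t : 𝟙_ (Over S) ⟶ G := Over.homMk (U := 𝟙_ (Over S)) (V := G) t₀ ht₀'
  have hφt : φ = toUnit X ≫ t := Over.OverMorphism.ext ht₀
  refine ⟨t, ?_⟩
  rw [← hφt]
  change f = f * g⁻¹ * g
  rw [inv_mul_cancel_right]

end Groth.Agent.S11438
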