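import Groth.Statements.S11439
import Groth.Agent.H15.Rigid8

set_option autoImplicit false
universe u
open CategoryTheory MonoidalCategory CartesianMonoidalCategory MonObj GrpObj AlgebraicGeometry Topology
open GIT

namespace Groth.Agent.S11439

/-- Let S be locally Noetherian, G a locally Noetherian group scheme separated over S, X → S proper and
flat with κ(s) → H⁰(X_s, O_{X_s}) bijective for every s, and Y connected, locally Noetherian,
separated over S with a section over S. Then every morphism f : X ×_S Y → G over S factors as f = (g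
∘ p₁) · (h ∘ p₂) with g : X → G and h : Y → G. -/
theorem result (S : Scheme.{u}) [IsLocallyNoetherian S]
    (X Y G : Over S) [GrpObj G] [IsLocallyNoetherian G.left] [IsSeparated G.hom] [IsProper X.hom] [Flat X.hom]
    (h0 : ∀ s : S, Function.Bijective (Limits.pullback.snd X.hom (S.fromSpecResidueField s)).appTop)
    [IsLocallyNoetherian Y.left] [IsSeparated Y.hom] [ConnectedSpace Y.left] (e : 𝟙_ (Over S) ⟶ Y)
    (f : X ⊗ Y ⟶ G) :
    ∃ (g : X ⟶ G) (h : Y ⟶ G), f = (fst X Y ≫ g) * (snd X Y ≫ h) := by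
  classical
  let ko : X ⟶ X ⊗ Y := lift (𝟙 X) (toUnit X ≫ e)
  let g : X ⟶ G := ko ≫ f
  let φ : X ⊗ Y ⟶ G := (fst X Y ≫ g)⁻¹ * f
  have hko : ko ≫ fst X Y = 𝟙 X := lift_fst _ _
  have h1 : ko ≫ φ = 1 := by
    change ko ≫ ((fst X Y ≫ g)⁻¹ * f) = 1
    rw [MonObj.comp_mul, GrpObj.comp_inv, ← Category.assoc, hko, Category.id_comp]
    exact inv_mul_cancel g
  let p' : Limits.pullback X.hom Y.hom ⟶ Y.left := Limits.pullback.snd X.hom Y.hom
  let k : X.left ⟶ Limits.pullback X.hom Y.hom := ko.left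
  let σ : S ⟶ Y.left := e.left
  have hσ : σ ≫ Y.hom = 𝟙 S := Over.w e
  have hk1 : k ≫ Limits.pullback.fst X.hom Y.hom = 𝟙 X.left :=
    congrArg (fun m => m.left) hko
  have hk2 : k ≫ p' = X.hom ≫ σ := by
    have h2 : ko ≫ snd X Y = toUnit X ≫ e := lift_snd _ _
    exact congrArg (fun m => m.left) h2
  have hφk : k ≫ φ.left = X.hom ≫ η[G].left := by
    have h2 : (ko ≫ φ).left = (toUnit X ≫ η[G]).left := congrArg (fun m => m.left) h1
    exact h2
  have sq : IsPullback k X.hom p' σ := by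
    refine IsPullback.of_right ?_ hk2 (IsPullback.of_hasPullback X.hom Y.hom)
    rw [hk1, hσ]
    exact IsPullback.of_horiz_isIso ⟨by simp⟩
  have hφq : φ.left ≫ G.hom = p' ≫ Y.hom := by
    rw [Over.w φ]
    exact (Over.w (snd X Y)).symm
  haveI : IsLocallyNoetherian (Limits.pullback X.hom Y.hom) :=
    LocallyOfFiniteType.isLocallyNoetherian p'
  have h0' : ∀ y : Y.left,
      Function.Bijective (Limits.pullback.snd p' (Y.left.fromSpecResidueField y)).appTop :=
    fun y => Groth.Agent.H15.Rigid.bijective_appTop_fibre_baseChange X.hom Y.hom y (h0 (Y.hom y))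
  obtain ⟨y⟩ : Nonempty Y.left := inferInstance
  have hcoll : σ (Y.hom y) ∈ Groth.Agent.H15.Rigid.collapsed p' φ.left := by
    refine ⟨η[G].left (Y.hom y), fun z hz => ?_⟩
    obtain ⟨x, hx1, hx2⟩ := Scheme.exists_preimage_of_isPullback sq z (Y.hom y) hz
    have h3 := congrArg (fun m : X.left ⟶ G.left => m x) hφk
    simp only [Scheme.Hom.comp_apply] at h3
    rw [← hx1]
    refine h3.trans ?_
    exact congrArg _ hx2
  obtain ⟨t₀, ht₀⟩ := Groth.Agent.H15.Rigid.rigidity p' G.hom Y.hom φ.left hφq h0'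
    (Or.inl inferInstance) (σ (Y.hom y)) hcoll
  have hsurj : Function.Surjective p' :=
    Groth.Agent.H15.Rigid.surjective_of_bijective_appTop p' h0'
  haveI : Surjective p' := ⟨hsurj⟩
  haveI : Epi p' := Flat.epi_of_flat_of_surjective p'
  have ht₀' : t₀ ≫ G.hom = Y.hom := by
    rw [← cancel_epi p', ← Category.assoc, ← ht₀, hφq]
  let h : Y ⟶ G := Over.homMk t₀ ht₀'
  have hφh : φ = snd X Y ≫ h := Over.OverMorphism.ext ht₀
  refine ⟨g, h, ?_⟩
  rw [← hφh]
  change f = (fst X Y ≫ g) * ((fst X Y ≫ g)⁻¹ * f)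
  rw [mul_inv_cancel_left]

end Groth.Agent.S11439
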