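import Groth.Statements.S11450
import Mathlib
import Groth.Agent.H9.TorOneKernel
import Groth.Agent.H9.TorFlip
import Groth.Agent.H9.TorNull

set_option autoImplicit false
universe u
open CategoryTheory
open DefT

namespace Groth.Agent.S11450

/-- A module M over a Noetherian commutative ring A is flat if and only if Tor_1^A(M, A/p) vanishes for
every prime ideal p of A. -/
theorem result (A : Type u) [CommRing A]
    [IsNoetherianRing A] (M : Type u) [AddCommGroup M] [Module A M] :
    Module.Flat A M ↔ ∀ p : Ideal A, p.IsPrime →
      Limits.IsZero (((CategoryTheory.Tor (ModuleCat.{u} A) 1).obj (ModuleCat.of A M)).obj (ModuleCat.of A (A ⧸ p))) := by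
  classical
  constructor
  · intro hM p _
    haveI : Module.Flat A (ModuleCat.of A M) := hM
    exact Groth.Agent.H9.isZero_tor_succ_of_flat_left (ModuleCat.of A M) (ModuleCat.of A (A ⧸ p)) 0
  · intro h
    -- Tor_1(M, N) = 0 for all finitely generated N
    have key : ∀ (N : Type u) [AddCommGroup N] [Module A N] [Module.Finite A N],
        Limits.IsZero (((CategoryTheory.Tor (ModuleCat.{u} A) 1).obj (ModuleCat.of A M)).obj
          (ModuleCat.of A N)) := by
      intro N _ _ hN
      exact IsNoetherianRing.induction_on_isQuotientEquivQuotientPrime A hN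
        (motive := fun N _ _ _ => Limits.IsZero
          (((CategoryTheory.Tor (ModuleCat.{u} A) 1).obj (ModuleCat.of A M)).obj (ModuleCat.of A N)))
        (fun N _ _ _ _ => by
          haveI : Module.Flat A (ModuleCat.of A N) :=
            inferInstanceAs (Module.Flat A N)
          exact Groth.Agent.H9.isZero_tor_flip
            (Groth.Agent.H9.isZero_tor_succ_of_flat_left (ModuleCat.of A N) (ModuleCat.of A M) 0))
        (fun N _ _ _ p e => Limits.IsZero.of_iso (h p.1 p.2)
          ((((CategoryTheory.Tor (ModuleCat.{u} A) 1).obj (ModuleCat.of A M))).mapIso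
            e.toModuleIso))
        (fun N₁ _ _ _ N₂ _ _ _ N₃ _ _ _ f g hf hg hfg h1 h3 => by
          have h0 : g.comp f = 0 := hfg.linearMap_comp_eq_zero
          have hS := ModuleCat.shortComplex_shortExact
            (ModuleCat.shortComplexOfCompEqZero f g h0) hfg hf hg
          exact Groth.Agent.H9.isZero_tor_of_shortExact_right hS (ModuleCat.of A M) 1 h1 h3)
    rw [Module.Flat.iff_lTensor_injective']
    intro I
    have h0 : (Submodule.mkQ I).comp (Submodule.subtype I) = 0 := by
      ext x
      exact Ideal.Quotient.eq_zero_iff_mem.2 x.2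
    have hS := ModuleCat.shortComplex_shortExact
      (ModuleCat.shortComplexOfCompEqZero (Submodule.subtype I) (Submodule.mkQ I) h0)
      (LinearMap.exact_subtype_mkQ I) (Submodule.injective_subtype I) (Submodule.mkQ_surjective I)
    haveI : Projective (ModuleCat.shortComplexOfCompEqZero (Submodule.subtype I)
        (Submodule.mkQ I) h0).X₂ := by
      change Projective (ModuleCat.of A A)
      exact (IsProjective.iff_projective _).1 inferInstance
    exact (Groth.Agent.H9.isZero_tor_one_iff_injective hS (ModuleCat.of A M)).1 (key (A ⧸ I))

end Groth.Agent.S11450
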