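import Groth.Statements.S11453
import Mathlib
import Groth.Agent.H57.PullApart

set_option autoImplicit false
universe u
open scoped Polynomial
open DefT

namespace Groth.Agent.S11453

/-- Let k be an algebraically closed field, A = k[x, y], and 𝔞 ⊆ A an ideal of finite colength n ≥ 2
with radical (x, y), i.e. Spec(A/𝔞) is supported at the origin. Then there is an ideal 𝔞' ⊆ A[t]
defining a family finite and flat over k[t] (A[t]/𝔞' is a finitely generated flat k[t]-module, hence
locally free of rank n) whose fibre at t = 0 is 𝔞 and whose fibre ideal 𝔞_c at every c ≠ 0 is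
contained in the maximal ideal of the origin and in the maximal ideal of some other k-point p ≠ (0,
0); so for t ≠ 0 the fibre is supported at two or more distinct points. (The published statement
allows colength 1 and puts the second point at (0, t); for colength 1 every finite flat family has
one-point fibres, and the family constructed in the published proof has its second piece at the
roots of f(x, t) on the line y = t after a linear change of the coordinates x, y, which need not lie
at x = 0; this row states what that construction yields. The published statement asks the family to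
be flat over k[t]; this row asks it to be finite and flat, as the constructed family is — f is monic
in x and (y − t)·y^N lies in the ideal for some N — and as the published proof's count of the
constant fibre length n presupposes; with flatness alone the fibre conditions here could be met by
adjoining a component that never meets t = 0.) -/
theorem result (k : Type u) [Field k] [IsAlgClosed k]
    (𝔞 : Ideal (MvPolynomial (Fin 2) k)) [Module.Finite k (MvPolynomial (Fin 2) k ⧸ 𝔞)]
    (hn : 2 ≤ Module.finrank k (MvPolynomial (Fin 2) k ⧸ 𝔞))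
    (hsupp : 𝔞.radical = Ideal.span {MvPolynomial.X 0, MvPolynomial.X 1}) :
    ∃ 𝔞' : Ideal (MvPolynomial (Fin 2) k)[X],
      RingHom.Flat (R := k[X]) (S := (MvPolynomial (Fin 2) k)[X] ⧸ 𝔞')
        ((Ideal.Quotient.mk 𝔞').comp (Polynomial.mapRingHom (algebraMap k (MvPolynomial (Fin 2) k)))) ∧
      RingHom.Finite (A := k[X]) (B := (MvPolynomial (Fin 2) k)[X] ⧸ 𝔞')
        ((Ideal.Quotient.mk 𝔞').comp (Polynomial.mapRingHom (algebraMap k (MvPolynomial (Fin 2) k)))) ∧
      Ideal.map (Polynomial.evalRingHom (0 : MvPolynomial (Fin 2) k)) 𝔞' = 𝔞 ∧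
      ∀ c : k, c ≠ 0 →
        Ideal.map (Polynomial.evalRingHom (MvPolynomial.C c)) 𝔞' ≤ Ideal.span {MvPolynomial.X 0, MvPolynomial.X 1} ∧
        ∃ p : Fin 2 → k, p ≠ 0 ∧
          Ideal.map (Polynomial.evalRingHom (MvPolynomial.C c)) 𝔞' ≤
            Ideal.span (Set.range (fun i : Fin 2 => MvPolynomial.X i - MvPolynomial.C (p i))) := by
  classical
  -- basic facts about `𝔞`
  have h𝔞ne : 𝔞 ≠ ⊤ := by
    rintro rfl
    haveI : Subsingleton (MvPolynomial (Fin 2) k ⧸ (⊤ : Ideal (MvPolynomial (Fin 2) k))) :=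
      Ideal.Quotient.subsingleton_iff.2 rfl
    rw [Module.finrank_zero_of_subsingleton] at hn
    omega
  have hmne : Ideal.span {(MvPolynomial.X 0 : MvPolynomial (Fin 2) k), MvPolynomial.X 1} ≠ ⊤ := by
    rw [← hsupp]
    exact fun h => h𝔞ne (Ideal.radical_eq_top.1 h)
  have h𝔞m : 𝔞 ≤ Ideal.span {(MvPolynomial.X 0 : MvPolynomial (Fin 2) k), MvPolynomial.X 1} := by
    rw [← hsupp]; exact Ideal.le_radical
  have hXm : ∀ l : Fin 2, (MvPolynomial.X l : MvPolynomial (Fin 2) k) ∈
      Ideal.span {(MvPolynomial.X 0 : MvPolynomial (Fin 2) k), MvPolynomial.X 1} := by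
    intro l
    fin_cases l
    · exact Ideal.subset_span (by simp)
    · exact Ideal.subset_span (by simp)
  have hXpow : ∀ l : Fin 2, ∃ N : ℕ, (MvPolynomial.X l : MvPolynomial (Fin 2) k) ^ N ∈ 𝔞 := by
    intro l
    have := hXm l
    rw [← hsupp] at this
    exact this
  have hm0 : ∀ g : MvPolynomial (Fin 2) k, MvPolynomial.eval (0 : Fin 2 → k) g = 0 →
      g ∈ Ideal.span {(MvPolynomial.X 0 : MvPolynomial (Fin 2) k), MvPolynomial.X 1} := by
    intro g hg
    have h1 := Groth.Agent.H57.PullApart.mem_span_X_sub_C_of_eval_eq_zero (0 : Fin 2 → k) g hg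
    refine (Ideal.span_le.2 ?_) h1
    rintro _ ⟨l, rfl⟩
    simp only [Pi.zero_apply, map_zero, sub_zero]
    exact hXm l
  -- one of the coordinates is not in `𝔞`
  have hex : ∃ i j : Fin 2, i ≠ j ∧ (MvPolynomial.X j : MvPolynomial (Fin 2) k) ∉ 𝔞 := by
    by_cases h1 : (MvPolynomial.X 1 : MvPolynomial (Fin 2) k) ∈ 𝔞
    · by_cases h0 : (MvPolynomial.X 0 : MvPolynomial (Fin 2) k) ∈ 𝔞
      · exfalso
        have hle : Module.finrank k (MvPolynomial (Fin 2) k ⧸ 𝔞) ≤ 1 := by
          apply finrank_le_one (1 : MvPolynomial (Fin 2) k ⧸ 𝔞)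
          intro w
          obtain ⟨g, rfl⟩ := Ideal.Quotient.mk_surjective w
          refine ⟨MvPolynomial.eval (0 : Fin 2 → k) g, ?_⟩
          have hmem : g - MvPolynomial.C (MvPolynomial.eval (0 : Fin 2 → k) g) ∈ 𝔞 := by
            have h2 := hm0 (g - MvPolynomial.C (MvPolynomial.eval (0 : Fin 2 → k) g)) (by simp)
            refine (Ideal.span_le.2 ?_) h2
            rintro _ (rfl | rfl)
            · exact h0
            · exact h1
          rw [← Ideal.Quotient.eq_zero_iff_mem, map_sub, sub_eq_zero] at hmem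
          rw [hmem]
          show _ = Ideal.Quotient.mk 𝔞 (algebraMap k _ _)
          rw [Algebra.algebraMap_eq_smul_one]
          rfl
        omega
      · exact ⟨1, 0, by decide, h0⟩
    · exact ⟨0, 1, by decide, h1⟩
  obtain ⟨i, j, hij, hyj⟩ := hex
  have hne : 𝔞 ⊔ Ideal.span {(MvPolynomial.X j : MvPolynomial (Fin 2) k)} ≠ ⊤ := by
    intro h
    apply hmne
    rw [eq_top_iff, ← h]
    exact sup_le h𝔞m ((Ideal.span_singleton_le_iff_mem _).2 (hXm j))
  obtain ⟨H, hHmonic, hHpos, hHmem, hHle⟩ :=
    Groth.Agent.H57.PullApart.exists_monic hij 𝔞 hne (hXpow i) (hXpow j)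
  obtain ⟨N, hyN⟩ := hXpow j
  have h𝔟ne : Groth.Agent.H57.PullApart.colonY 𝔞 (MvPolynomial.X j) ≠ ⊤ := by
    intro h
    apply hyj
    have : (1 : MvPolynomial (Fin 2) k) ∈
        Groth.Agent.H57.PullApart.colonY 𝔞 (MvPolynomial.X j) := by rw [h]; trivial
    rw [Groth.Agent.H57.PullApart.mem_colonY, mul_one] at this
    exact this
  have h𝔟m : Groth.Agent.H57.PullApart.colonY 𝔞 (MvPolynomial.X j) ≤
      Ideal.span {(MvPolynomial.X 0 : MvPolynomial (Fin 2) k), MvPolynomial.X 1} := by
    intro v hv
    by_contra hvm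
    apply h𝔟ne
    set c := MvPolynomial.eval (0 : Fin 2 → k) v with hc
    have hc0 : c ≠ 0 := by
      intro h0
      exact hvm (hm0 v h0)
    have h2 := hm0 (MvPolynomial.C c - v) (by simp [hc])
    rw [← hsupp] at h2
    obtain ⟨n, hn2⟩ := h2
    have h3 : (MvPolynomial.C c - v) ^ n ∈
        Groth.Agent.H57.PullApart.colonY 𝔞 (MvPolynomial.X j) :=
      Groth.Agent.H57.PullApart.le_colonY 𝔞 _ hn2
    rw [← Ideal.Quotient.eq_zero_iff_mem, map_pow, map_sub,
      Ideal.Quotient.eq_zero_iff_mem.2 hv, sub_zero, ← map_pow,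
      ← MvPolynomial.C_pow] at h3
    have h4 : Ideal.Quotient.mk (Groth.Agent.H57.PullApart.colonY 𝔞 (MvPolynomial.X j))
        (MvPolynomial.C (c ^ n)) = 0 := h3
    rw [Ideal.Quotient.eq_zero_iff_mem] at h4
    exact Ideal.eq_top_of_isUnit_mem _ h4
      ((isUnit_iff_ne_zero.2 (pow_ne_zero n hc0)).map MvPolynomial.C)
  refine ⟨Groth.Agent.H57.PullApart.fam 𝔞 (Groth.Agent.H57.PullApart.Psi i j H)
    (MvPolynomial.X j), ?_, ?_, ?_, ?_⟩
  · unfold RingHom.Flat
    exact @Groth.Agent.H57.PullApart.flat_fam k _ 𝔞 i j hij H hHmonic h𝔟ne _ _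
      (RingHom.toAlgebra _) (Ideal.Quotient.mk _)
      Ideal.Quotient.mk_surjective (fun G => Ideal.Quotient.eq_zero_iff_mem) (fun r => rfl)
  · unfold RingHom.Finite
    exact @Groth.Agent.H57.PullApart.finite_fam k _ 𝔞 i j hij H hHmonic hHmem N hyN _ _
      (RingHom.toAlgebra _) (Ideal.Quotient.mk _)
      Ideal.Quotient.mk_surjective (fun G => Ideal.Quotient.eq_zero_iff_mem) (fun r => rfl)
  · exact Groth.Agent.H57.PullApart.map_eval_zero hHmem hHle
  · intro c hc
    exact ⟨Groth.Agent.H57.PullApart.map_eval_C_le h𝔟m c,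
      Groth.Agent.H57.PullApart.exists_point hij hHmonic hHpos hc⟩

end Groth.Agent.S11453
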