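import Groth.Statements.S11454
import Mathlib
import Groth.Agent.H57.FlatLift
import Groth.Agent.H57.RegLift
import Groth.Agent.H57.RegDescend

set_option autoImplicit false
universe u
open DefT

namespace Groth.Agent.S11454

/-- Let C' be a local Artin ring, J ⊊ C' a proper ideal annihilated by the maximal ideal, C = C'/J, A' a
flat C'-algebra whose reduction modulo the maximal ideal of C' is a Cohen–Macaulay local ring, and A
= A'/JA'. If a'_1, …, a'_r ∈ A' have images in A forming a regular sequence with A/(a_1, …, a_r)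
flat over C, then a'_1, …, a'_r is a regular sequence on A' and A'/(a'_1, …, a'_r) is flat over C'.
(Regular sequences stand in for the exactness of the Koszul complexes in the published statement;
over a Noetherian local ring with the elements in the maximal ideal the two are equivalent.) -/
theorem result (C' : Type u) [CommRing C'] [IsLocalRing C'] [IsArtinianRing C'] (J : Ideal C')
    (hJ : IsLocalRing.maximalIdeal C' * J = ⊥) (hJne : J ≠ ⊤) (A' : Type u) [CommRing A'] [Algebra C' A'] [Module.Flat C' A']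
    [LocCoh.IsCohenMacaulayLocalRing (A' ⧸ (IsLocalRing.maximalIdeal C').map (algebraMap C' A'))]
    (r : ℕ) (a' : Fin r → A')
    (hreg : RingTheory.Sequence.IsRegular (A' ⧸ J.map (algebraMap C' A'))
      (List.ofFn (fun i => Ideal.Quotient.mk (J.map (algebraMap C' A')) (a' i))))
    [Module.Flat (C' ⧸ J) ((A' ⧸ J.map (algebraMap C' A')) ⧸
      Ideal.span (Set.range (fun i => Ideal.Quotient.mk (J.map (algebraMap C' A')) (a' i))))] :
    RingTheory.Sequence.IsRegular A' (List.ofFn a') ∧ Module.Flat C' (A' ⧸ Ideal.span (Set.range a')) := by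
  classical
  have hJm : J ≤ IsLocalRing.maximalIdeal C' := IsLocalRing.le_maximalIdeal hJne
  -- the base `C = C'/J`
  haveI : Nontrivial (C' ⧸ J) := Ideal.Quotient.nontrivial_iff.2 hJne
  haveI : IsLocalRing (C' ⧸ J) :=
    IsLocalRing.of_surjective' (Ideal.Quotient.mk J) Ideal.Quotient.mk_surjective
  -- `A'` is Noetherian and local
  obtain ⟨n, hn⟩ := Groth.Agent.H57.RegLift.exists_pow_maximalIdeal_eq_bot (R := C')
  have hnil : IsNilpotent ((IsLocalRing.maximalIdeal C').map (algebraMap C' A')) :=
    ⟨n, by rw [← Ideal.map_pow, hn, Ideal.map_bot]; rfl⟩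
  have hfg : ((IsLocalRing.maximalIdeal C').map (algebraMap C' A')).FG :=
    Ideal.FG.map (IsNoetherian.noetherian _) _
  haveI : IsNoetherianRing (A' ⧸ (IsLocalRing.maximalIdeal C').map (algebraMap C' A')) :=
    inferInstance
  haveI : IsLocalRing (A' ⧸ (IsLocalRing.maximalIdeal C').map (algebraMap C' A')) :=
    inferInstance
  haveI hA'noeth : IsNoetherianRing A' :=
    Groth.Agent.H57.RegDescend.isNoetherianRing_of_isNilpotent _ hfg hnil
  haveI hA'loc : IsLocalRing A' := Groth.Agent.H57.RegDescend.isLocalRing_of_isNilpotent _ hnil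
  -- `A = A'/JA'` is local
  haveI : Nontrivial (A' ⧸ J.map (algebraMap C' A')) := hreg.nontrivial
  haveI : IsLocalRing (A' ⧸ J.map (algebraMap C' A')) :=
    IsLocalRing.of_surjective' (Ideal.Quotient.mk (J.map (algebraMap C' A')))
      Ideal.Quotient.mk_surjective
  -- the list in `A`
  have hlist : (List.ofFn (fun i => Ideal.Quotient.mk (J.map (algebraMap C' A')) (a' i))) =
      (List.ofFn a').map (algebraMap A' (A' ⧸ J.map (algebraMap C' A'))) := by
    rw [List.map_ofFn]; rfl
  have hofList : ∀ {R : Type u} [CommRing R] {m : ℕ} (f : Fin m → R),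
      Ideal.ofList (List.ofFn f) = Ideal.span (Set.range f) := by
    intro R _ m f
    unfold Ideal.ofList
    congr 1
    ext x
    simp [List.mem_ofFn]
  -- the elements are in the Jacobson radical of `A`
  have hrad : ∀ x ∈ List.ofFn (fun i => Ideal.Quotient.mk (J.map (algebraMap C' A')) (a' i)),
      x ∈ Ideal.jacobson (⊥ : Ideal (A' ⧸ J.map (algebraMap C' A'))) := by
    intro x hx
    rw [IsLocalRing.jacobson_eq_maximalIdeal ⊥ bot_ne_top, IsLocalRing.mem_maximalIdeal,
      mem_nonunits_iff]
    intro hu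
    apply hreg.top_ne_smul
    rw [smul_eq_mul, Ideal.mul_top]
    symm
    exact Ideal.eq_top_of_isUnit_mem _ (Ideal.subset_span hx) hu
  -- flatness hypothesis in the `ofList` form
  have hflat0 : Module.Flat (C' ⧸ J) ((A' ⧸ J.map (algebraMap C' A')) ⧸
      (Ideal.ofList (List.ofFn (fun i => Ideal.Quotient.mk (J.map (algebraMap C' A')) (a' i))) •
        (⊤ : Submodule (A' ⧸ J.map (algebraMap C' A')) (A' ⧸ J.map (algebraMap C' A'))))) := by
    have heq : (Ideal.ofList (List.ofFn (fun i =>
          Ideal.Quotient.mk (J.map (algebraMap C' A')) (a' i))) •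
        (⊤ : Submodule (A' ⧸ J.map (algebraMap C' A')) (A' ⧸ J.map (algebraMap C' A')))) =
        Ideal.span (Set.range (fun i => Ideal.Quotient.mk (J.map (algebraMap C' A')) (a' i))) := by
      rw [smul_eq_mul, Ideal.mul_top, hofList]
    exact Module.Flat.of_linearEquiv ((Submodule.quotEquivOfEq _ _ heq).restrictScalars (C' ⧸ J))
  obtain ⟨-, hres⟩ := Groth.Agent.H57.RegDescend.flat_and_isWeaklyRegular_residue (C := C' ⧸ J)
    _ hrad (A' ⧸ J.map (algebraMap C' A')) hreg.toIsWeaklyRegular hflat0
  -- transfer to `A'/m'A'`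
  have hmax : IsLocalRing.maximalIdeal (C' ⧸ J) =
      (IsLocalRing.maximalIdeal C').map (Ideal.Quotient.mk J) := by
    symm
    apply IsLocalRing.eq_maximalIdeal
    rcases Ideal.map_eq_top_or_isMaximal_of_surjective (Ideal.Quotient.mk J)
      Ideal.Quotient.mk_surjective (IsLocalRing.maximalIdeal.isMaximal C') with h | h
    · exfalso
      have h1 : (1 : C' ⧸ J) ∈ (IsLocalRing.maximalIdeal C').map (Ideal.Quotient.mk J) := by
        rw [h]; trivial
      rw [← map_one (Ideal.Quotient.mk J), Ideal.mem_quotient_iff_mem hJm] at h1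
      exact (IsLocalRing.maximalIdeal.isMaximal C').ne_top ((Ideal.eq_top_iff_one _).2 h1)
    · exact h
  have hmA : (IsLocalRing.maximalIdeal (C' ⧸ J)).map
      (algebraMap (C' ⧸ J) (A' ⧸ J.map (algebraMap C' A'))) =
      ((IsLocalRing.maximalIdeal C').map (algebraMap C' A')).map
        (Ideal.Quotient.mk (J.map (algebraMap C' A'))) := by
    rw [hmax, Ideal.map_map, Ideal.map_map]
    rfl
  have hjm : J.map (algebraMap C' A') ≤ (IsLocalRing.maximalIdeal C').map (algebraMap C' A') :=
    Ideal.map_mono hJm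
  let f : A' →ₗ[A'] ((A' ⧸ J.map (algebraMap C' A')) ⧸
      ((IsLocalRing.maximalIdeal (C' ⧸ J)).map
        (algebraMap (C' ⧸ J) (A' ⧸ J.map (algebraMap C' A'))) •
        (⊤ : Submodule (A' ⧸ J.map (algebraMap C' A')) (A' ⧸ J.map (algebraMap C' A'))))) :=
    ((Submodule.mkQ _).restrictScalars A') ∘ₗ
      (Algebra.linearMap A' (A' ⧸ J.map (algebraMap C' A')))
  have hfsurj : Function.Surjective f := by
    intro y
    obtain ⟨y, rfl⟩ := Submodule.Quotient.mk_surjective _ y
    obtain ⟨y, rfl⟩ := Ideal.Quotient.mk_surjective y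
    exact ⟨y, rfl⟩
  have hfker : LinearMap.ker f = (IsLocalRing.maximalIdeal C').map (algebraMap C' A') •
      (⊤ : Submodule A' A') := by
    ext y
    rw [LinearMap.mem_ker]
    change Submodule.Quotient.mk (Ideal.Quotient.mk (J.map (algebraMap C' A')) y) = 0 ↔ _
    rw [Submodule.Quotient.mk_eq_zero, smul_eq_mul, Ideal.mul_top, smul_eq_mul, Ideal.mul_top,
      hmA, Ideal.mem_quotient_iff_mem hjm]
  let E := (Submodule.quotEquivOfEq _ _ hfker.symm).trans
    (LinearMap.quotKerEquivOfSurjective f hfsurj)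
  have hres' : RingTheory.Sequence.IsWeaklyRegular
      (A' ⧸ ((IsLocalRing.maximalIdeal C').map (algebraMap C' A') • (⊤ : Submodule A' A')))
      (List.ofFn a') := by
    rw [E.isWeaklyRegular_congr]
    rw [hlist] at hres
    exact (RingTheory.Sequence.isWeaklyRegular_map_algebraMap_iff
      (A' ⧸ J.map (algebraMap C' A')) _ (List.ofFn a')).1 hres
  obtain ⟨hw, hfl⟩ := Groth.Agent.H57.RegLift.isWeaklyRegular_and_flat (C := C') (List.ofFn a') A'
    hres'
  refine ⟨⟨hw, ?_⟩, ?_⟩
  · intro htop
    apply hreg.top_ne_smul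
    rw [smul_eq_mul, Ideal.mul_top] at htop ⊢
    rw [hlist, ← Ideal.map_ofList, ← htop]
    exact (Ideal.map_top _).symm
  · have heq : Ideal.span (Set.range a') =
        (Ideal.ofList (List.ofFn a') • (⊤ : Submodule A' A')) := by
      rw [smul_eq_mul, Ideal.mul_top, hofList]
    exact Module.Flat.of_linearEquiv ((Submodule.quotEquivOfEq _ _ heq).restrictScalars C')

end Groth.Agent.S11454
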