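import Groth.Statements.S11455
import Mathlib
import Groth.Agent.H57.FlatLift

set_option autoImplicit false
universe u
open DefT
open Groth.Agent.H57.FlatLift

namespace Groth.Agent.S11455

/-- Let C' be a local Artin ring, J ⊊ C' a proper ideal annihilated by the maximal ideal, C = C'/J, A' a
flat C'-algebra whose reduction modulo the maximal ideal of C' is a Cohen–Macaulay local ring, A =
A'/JA', and a_1, …, a_r a regular sequence on A with A/(a_1, …, a_r) flat over C. Then every ideal
I' of A' with A'/I' flat over C' and with image (a_1, …, a_r) in A is generated by some lifts a'_1,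
…, a'_r of the a_i. -/
theorem result (C' : Type u) [CommRing C'] [IsLocalRing C'] [IsArtinianRing C'] (J : Ideal C')
    (hJ : IsLocalRing.maximalIdeal C' * J = ⊥) (hJne : J ≠ ⊤) (A' : Type u) [CommRing A'] [Algebra C' A'] [Module.Flat C' A']
    [LocCoh.IsCohenMacaulayLocalRing (A' ⧸ (IsLocalRing.maximalIdeal C').map (algebraMap C' A'))]
    (r : ℕ) (a : Fin r → A' ⧸ J.map (algebraMap C' A'))
    (hreg : RingTheory.Sequence.IsRegular (A' ⧸ J.map (algebraMap C' A')) (List.ofFn a))
    [Module.Flat (C' ⧸ J) ((A' ⧸ J.map (algebraMap C' A')) ⧸ Ideal.span (Set.range a))]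
    (I' : Ideal A') [Module.Flat C' (A' ⧸ I')]
    (hI' : I'.map (Ideal.Quotient.mk (J.map (algebraMap C' A'))) = Ideal.span (Set.range a)) :
    ∃ a' : Fin r → A', (∀ i, Ideal.Quotient.mk (J.map (algebraMap C' A')) (a' i) = a i) ∧
      I' = Ideal.span (Set.range a') := by
  classical
  have hJm : J ≤ IsLocalRing.maximalIdeal C' := IsLocalRing.le_maximalIdeal hJne
  have hJJ : J * J = ⊥ := by
    rw [eq_bot_iff, ← hJ]
    exact Ideal.mul_mono_left hJm
  have hjj : J.map (algebraMap C' A') * J.map (algebraMap C' A') = ⊥ := by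
    rw [← Ideal.map_mul, hJJ, Ideal.map_bot]
  -- choose lifts
  have hlift : ∀ i, ∃ x ∈ I', Ideal.Quotient.mk (J.map (algebraMap C' A')) x = a i := by
    intro i
    have : a i ∈ I'.map (Ideal.Quotient.mk (J.map (algebraMap C' A'))) := by
      rw [hI']; exact Ideal.subset_span ⟨i, rfl⟩
    exact (Ideal.mem_map_iff_of_surjective _ Ideal.Quotient.mk_surjective).1 this
  choose a' ha' ha using hlift
  refine ⟨a', ha, ?_⟩
  have h0 : Ideal.span (Set.range a') ≤ I' := by
    rw [Ideal.span_le]; rintro _ ⟨i, rfl⟩; exact ha' i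
  have h1 : I' ≤ Ideal.span (Set.range a') ⊔ J.map (algebraMap C' A') * I' := by
    intro x hx
    have hx1 : Ideal.Quotient.mk (J.map (algebraMap C' A')) x ∈ Ideal.span (Set.range a) := by
      rw [← hI']; exact Ideal.mem_map_of_mem _ hx
    obtain ⟨c, hc⟩ := (Ideal.mem_span_range_iff_exists_fun).1 hx1
    choose c' hc' using fun i => Ideal.Quotient.mk_surjective (c i)
    have hy0 : ∑ i, c' i * a' i ∈ Ideal.span (Set.range a') :=
      Ideal.sum_mem _ fun i _ => Ideal.mul_mem_left _ _ (Ideal.subset_span ⟨i, rfl⟩)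
    have hy : x - ∑ i, c' i * a' i ∈ J.map (algebraMap C' A') := by
      rw [← Ideal.Quotient.eq_zero_iff_mem, map_sub, map_sum, ← hc, sub_eq_zero]
      refine Finset.sum_congr rfl fun i _ => ?_
      rw [map_mul, hc', ha]
    have hy' : x - ∑ i, c' i * a' i ∈ I' := Ideal.sub_mem _ hx (h0 hy0)
    have := mem_mul_of_mem_of_mem_map (J := J) I' hy hy'
    have hx2 : x = ∑ i, c' i * a' i + (x - ∑ i, c' i * a' i) := by ring
    rw [hx2]
    exact Ideal.add_mem _ (Ideal.mem_sup_left hy0) (Ideal.mem_sup_right this)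
  apply le_antisymm _ h0
  calc I' ≤ Ideal.span (Set.range a') ⊔ J.map (algebraMap C' A') * I' := h1
    _ ≤ Ideal.span (Set.range a') ⊔ J.map (algebraMap C' A') *
          (Ideal.span (Set.range a') ⊔ J.map (algebraMap C' A') * I') :=
        sup_le_sup_left (Ideal.mul_mono_right h1) _
    _ ≤ Ideal.span (Set.range a') := by
        rw [Ideal.mul_sup, ← mul_assoc, hjj, Ideal.bot_mul, sup_bot_eq]
        exact sup_le le_rfl Ideal.mul_le_right

end Groth.Agent.S11455
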