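import Groth.Statements.S11456
import Mathlib
import Groth.Agent.H57.FlatLift
import Groth.Agent.H57.RegLift

set_option autoImplicit false
universe u
open DefT
open Groth.Agent.H57.FlatLift

namespace Groth.Agent.S11456

/-- Let C be a local Artin ring with maximal ideal m, A a flat C-algebra such that A₀ = A/mA is a
Cohen–Macaulay local ring, and I ⊆ A an ideal with A/I flat over C whose image in A₀ is generated by
a regular sequence b_1, …, b_r on A₀. Then I is generated by r elements a_1, …, a_r forming a
regular sequence on A (so the Koszul complex on the a_i resolves A/I). -/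
theorem result (C : Type u) [CommRing C]
    [IsLocalRing C] [IsArtinianRing C] (A : Type u) [CommRing A] [Algebra C A] [Module.Flat C A]
    [LocCoh.IsCohenMacaulayLocalRing (A ⧸ (IsLocalRing.maximalIdeal C).map (algebraMap C A))]
    (I : Ideal A) [Module.Flat C (A ⧸ I)] (r : ℕ)
    (b : Fin r → A ⧸ (IsLocalRing.maximalIdeal C).map (algebraMap C A))
    (hb : RingTheory.Sequence.IsRegular (A ⧸ (IsLocalRing.maximalIdeal C).map (algebraMap C A)) (List.ofFn b))
    (hI : I.map (Ideal.Quotient.mk ((IsLocalRing.maximalIdeal C).map (algebraMap C A))) = Ideal.span (Set.range b)) :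
    ∃ a : Fin r → A, RingTheory.Sequence.IsRegular A (List.ofFn a) ∧ I = Ideal.span (Set.range a) := by
  classical
  -- lifts
  have hlift : ∀ i, ∃ x ∈ I,
      Ideal.Quotient.mk ((IsLocalRing.maximalIdeal C).map (algebraMap C A)) x = b i := by
    intro i
    have : b i ∈ I.map (Ideal.Quotient.mk ((IsLocalRing.maximalIdeal C).map (algebraMap C A))) := by
      rw [hI]; exact Ideal.subset_span ⟨i, rfl⟩
    exact (Ideal.mem_map_iff_of_surjective _ Ideal.Quotient.mk_surjective).1 this
  choose a ha' ha using hlift
  have hlist : List.ofFn b = (List.ofFn a).map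
      (algebraMap A (A ⧸ (IsLocalRing.maximalIdeal C).map (algebraMap C A))) := by
    rw [List.map_ofFn]
    congr 1
    funext i
    exact (ha i).symm
  refine ⟨a, ?_, ?_⟩
  · -- regularity
    have hw0 : RingTheory.Sequence.IsWeaklyRegular
        (A ⧸ (IsLocalRing.maximalIdeal C).map (algebraMap C A)) (List.ofFn a) := by
      have := hb.toIsWeaklyRegular
      rw [hlist] at this
      exact (RingTheory.Sequence.isWeaklyRegular_map_algebraMap_iff
        (A ⧸ (IsLocalRing.maximalIdeal C).map (algebraMap C A))
        (A ⧸ (IsLocalRing.maximalIdeal C).map (algebraMap C A)) (List.ofFn a)).1 this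
    have e : (A ⧸ (IsLocalRing.maximalIdeal C).map (algebraMap C A)) ≃ₗ[A]
        (A ⧸ ((IsLocalRing.maximalIdeal C).map (algebraMap C A) • (⊤ : Submodule A A))) :=
      Submodule.quotEquivOfEq _ _ (by rw [smul_eq_mul, Ideal.mul_top])
    have hw1 := (e.isWeaklyRegular_congr (List.ofFn a)).1 hw0
    have hw := (Groth.Agent.H57.RegLift.isWeaklyRegular_and_flat (C := C) (List.ofFn a) A hw1).1
    refine ⟨hw, ?_⟩
    intro htop
    apply hb.top_ne_smul
    rw [smul_eq_mul, Ideal.mul_top] at htop ⊢
    rw [hlist, ← Ideal.map_ofList, ← htop]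
    exact (Ideal.map_top _).symm
  · -- generation
    have h0 : Ideal.span (Set.range a) ≤ I := by
      rw [Ideal.span_le]; rintro _ ⟨i, rfl⟩; exact ha' i
    have h1 : I ≤ Ideal.span (Set.range a) ⊔
        (IsLocalRing.maximalIdeal C).map (algebraMap C A) * I := by
      intro x hx
      have hx1 : Ideal.Quotient.mk ((IsLocalRing.maximalIdeal C).map (algebraMap C A)) x ∈
          Ideal.span (Set.range b) := by
        rw [← hI]; exact Ideal.mem_map_of_mem _ hx
      obtain ⟨c, hc⟩ := (Ideal.mem_span_range_iff_exists_fun).1 hx1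
      choose c' hc' using fun i => Ideal.Quotient.mk_surjective (c i)
      have hy0 : ∑ i, c' i * a i ∈ Ideal.span (Set.range a) :=
        Ideal.sum_mem _ fun i _ => Ideal.mul_mem_left _ _ (Ideal.subset_span ⟨i, rfl⟩)
      have hy : x - ∑ i, c' i * a i ∈ (IsLocalRing.maximalIdeal C).map (algebraMap C A) := by
        rw [← Ideal.Quotient.eq_zero_iff_mem, map_sub, map_sum, ← hc, sub_eq_zero]
        refine Finset.sum_congr rfl fun i _ => ?_
        rw [map_mul, hc', ha]
      have hy' : x - ∑ i, c' i * a i ∈ I := Ideal.sub_mem _ hx (h0 hy0)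
      have := mem_mul_of_mem_of_mem_map (J := IsLocalRing.maximalIdeal C) I hy hy'
      have hx2 : x = ∑ i, c' i * a i + (x - ∑ i, c' i * a i) := by ring
      rw [hx2]
      exact Ideal.add_mem _ (Ideal.mem_sup_left hy0) (Ideal.mem_sup_right this)
    have hn : ∀ n : ℕ, I ≤ Ideal.span (Set.range a) ⊔
        ((IsLocalRing.maximalIdeal C).map (algebraMap C A)) ^ n * I := by
      intro n
      induction n with
      | zero => rw [pow_zero, one_mul]; exact le_sup_right
      | succ n ih =>
        calc I ≤ Ideal.span (Set.range a) ⊔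
              ((IsLocalRing.maximalIdeal C).map (algebraMap C A)) ^ n * I := ih
          _ ≤ Ideal.span (Set.range a) ⊔ ((IsLocalRing.maximalIdeal C).map (algebraMap C A)) ^ n *
                (Ideal.span (Set.range a) ⊔
                  (IsLocalRing.maximalIdeal C).map (algebraMap C A) * I) :=
              sup_le_sup_left (Ideal.mul_mono_right h1) _
          _ ≤ Ideal.span (Set.range a) ⊔
                ((IsLocalRing.maximalIdeal C).map (algebraMap C A)) ^ (n + 1) * I := by
              rw [Ideal.mul_sup, ← mul_assoc, ← pow_succ]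
              exact sup_le le_sup_left (sup_le (le_sup_of_le_left Ideal.mul_le_right) le_sup_right)
    obtain ⟨n, hn0⟩ := Groth.Agent.H57.RegLift.exists_pow_maximalIdeal_eq_bot (R := C)
    apply le_antisymm _ h0
    have := hn n
    rwa [← Ideal.map_pow, hn0, Ideal.map_bot, Ideal.bot_mul, sup_bot_eq] at this

end Groth.Agent.S11456
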