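import Groth.Statements.S11461
import Mathlib

set_option autoImplicit false
universe u
open CategoryTheory
open DefT

namespace Groth.Agent.S11461

/-- Let B be a Noetherian ring and F an additive, B-linear endofunctor of B-modules which preserves
finite generation and is semi-exact on short exact sequences of finitely generated modules (the
image sequence is exact in the middle). If F kills B/m for every maximal ideal m, then F kills every
finitely generated B-module. (The published statement assumes F only additive; this row assumes F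
B-linear, and takes the functor on all B-modules with the hypotheses and the conclusion on the
finitely generated ones.) -/
theorem result (B : Type u) [CommRing B]
    [IsNoetherianRing B] (F : ModuleCat.{u} B ⥤ ModuleCat.{u} B) [F.Additive] [F.Linear B]
    (hfg : ∀ M : ModuleCat.{u} B, Module.Finite B M → Module.Finite B (F.obj M))
    (hex : ∀ S : ShortComplex (ModuleCat.{u} B), S.ShortExact → Module.Finite B S.X₂ → (S.map F).Exact)
    (h0 : ∀ m : Ideal B, m.IsMaximal → Limits.IsZero (F.obj (ModuleCat.of B (B ⧸ m))))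
    (M : ModuleCat.{u} B) (hM : Module.Finite B M) : Limits.IsZero (F.obj M) := by
  classical
  -- (a) subsingleton modules are killed
  have hzero : ∀ (N : Type u) [AddCommGroup N] [Module B N] [Subsingleton N],
      Limits.IsZero (F.obj (ModuleCat.of B N)) := by
    intro N _ _ _
    exact F.map_isZero (ModuleCat.isZero_of_subsingleton _)
  -- (HE) half exactness in elementwise form
  have HE : ∀ (N₁ N₂ N₃ : Type u) [AddCommGroup N₁] [Module B N₁] [AddCommGroup N₂] [Module B N₂]
      [AddCommGroup N₃] [Module B N₃] [Module.Finite B N₂] (f : N₁ →ₗ[B] N₂) (g : N₂ →ₗ[B] N₃),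
      Function.Injective f → Function.Surjective g → Function.Exact f g →
      ∀ x₂ : F.obj (ModuleCat.of B N₂), (F.map (ModuleCat.ofHom g)) x₂ = 0 →
        ∃ x₁ : F.obj (ModuleCat.of B N₁), (F.map (ModuleCat.ofHom f)) x₁ = x₂ := by
    intro N₁ N₂ N₃ _ _ _ _ _ _ hN₂ f g hf hg hfg
    have h0 : g.comp f = 0 := hfg.linearMap_comp_eq_zero
    have hS := ModuleCat.shortComplex_shortExact (ModuleCat.shortComplexOfCompEqZero f g h0)
      hfg hf hg
    have h1 := hex _ hS hN₂
    exact (ShortComplex.moduleCat_exact_iff _).1 h1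
  -- (b1) two out of three
  have ext3 : ∀ (N₁ N₂ N₃ : Type u) [AddCommGroup N₁] [Module B N₁] [AddCommGroup N₂] [Module B N₂]
      [AddCommGroup N₃] [Module B N₃] [Module.Finite B N₂] (f : N₁ →ₗ[B] N₂) (g : N₂ →ₗ[B] N₃),
      Function.Injective f → Function.Surjective g → Function.Exact f g →
      Limits.IsZero (F.obj (ModuleCat.of B N₁)) → Limits.IsZero (F.obj (ModuleCat.of B N₃)) →
      Limits.IsZero (F.obj (ModuleCat.of B N₂)) := by
    intro N₁ N₂ N₃ _ _ _ _ _ _ hN₂ f g hf hg hfg h1 h3
    rw [ModuleCat.isZero_iff_subsingleton] at h1 h3 ⊢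
    refine ⟨fun x y => ?_⟩
    obtain ⟨x₁, hx₁⟩ := HE N₁ N₂ N₃ f g hf hg hfg x (Subsingleton.elim _ _)
    obtain ⟨y₁, hy₁⟩ := HE N₁ N₂ N₃ f g hf hg hfg y (Subsingleton.elim _ _)
    rw [← hx₁, ← hy₁, Subsingleton.elim x₁ y₁]
  -- (c) cyclic modules
  have hcyc : ∀ 𝔞 : Ideal B, Limits.IsZero (F.obj (ModuleCat.of B (B ⧸ 𝔞))) := by
    intro 𝔞
    induction 𝔞 using IsNoetherian.induction with
    | hgt 𝔞 ih =>
    by_cases htop : 𝔞 = ⊤
    · subst htop
      exact hzero _
    by_cases hprime : Ideal.IsPrime 𝔞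
    · by_cases hmax : Ideal.IsMaximal 𝔞
      · exact h0 𝔞 hmax
      -- the prime, non-maximal case
      rw [ModuleCat.isZero_iff_subsingleton]
      by_contra hns
      have hfin : Module.Finite B (F.obj (ModuleCat.of B (B ⧸ 𝔞))) := hfg _ inferInstance
      -- `𝔞` kills `F (B/𝔞)`
      have hann : ∀ a ∈ 𝔞, ∀ n : F.obj (ModuleCat.of B (B ⧸ 𝔞)), a • n = 0 := by
        intro a ha n
        have h1 : a • 𝟙 (ModuleCat.of B (B ⧸ 𝔞)) = 0 := by
          refine ModuleCat.hom_ext (LinearMap.ext fun y => ?_)
          obtain ⟨y, rfl⟩ := Ideal.Quotient.mk_surjective y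
          change a • Ideal.Quotient.mk 𝔞 y = 0
          rw [Algebra.smul_def, Ideal.Quotient.algebraMap_eq, ← map_mul,
            Ideal.Quotient.eq_zero_iff_mem]
          exact Ideal.mul_mem_right _ _ ha
        have h2 : F.map (a • 𝟙 (ModuleCat.of B (B ⧸ 𝔞))) = a • 𝟙 _ := by
          rw [Functor.map_smul, CategoryTheory.Functor.map_id]
        rw [h1, Functor.map_zero] at h2
        have h3 := congrArg (fun φ => (ModuleCat.Hom.hom φ) n) h2
        exact h3.symm
      -- every `x ∉ 𝔞` acts surjectively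
      have hsurj : ∀ x : B, x ∉ 𝔞 → ∀ n : F.obj (ModuleCat.of B (B ⧸ 𝔞)), ∃ n', x • n' = n := by
        intro x hx n
        let f : (B ⧸ 𝔞) →ₗ[B] (B ⧸ 𝔞) := x • LinearMap.id
        let g : (B ⧸ 𝔞) →ₗ[B] (B ⧸ (𝔞 ⊔ Ideal.span {x})) :=
          Submodule.mapQ 𝔞 (𝔞 ⊔ Ideal.span {x}) LinearMap.id le_sup_left
        have hf : Function.Injective f := by
          rw [← LinearMap.ker_eq_bot, LinearMap.ker_eq_bot']
          intro y hy
          obtain ⟨y, rfl⟩ := Ideal.Quotient.mk_surjective y
          change x • Ideal.Quotient.mk 𝔞 y = 0 at hy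
          rw [Algebra.smul_def, Ideal.Quotient.algebraMap_eq, ← map_mul,
            Ideal.Quotient.eq_zero_iff_mem] at hy
          rw [Ideal.Quotient.eq_zero_iff_mem]
          exact (hprime.mem_or_mem hy).resolve_left hx
        have hg : Function.Surjective g := by
          intro y
          obtain ⟨y, rfl⟩ := Ideal.Quotient.mk_surjective y
          exact ⟨Ideal.Quotient.mk 𝔞 y, rfl⟩
        have hfg' : Function.Exact f g := by
          intro y
          obtain ⟨y, rfl⟩ := Ideal.Quotient.mk_surjective y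
          change Ideal.Quotient.mk (𝔞 ⊔ Ideal.span {x}) y = 0 ↔ _
          rw [Ideal.Quotient.eq_zero_iff_mem, Submodule.mem_sup]
          constructor
          · rintro ⟨a, ha, c, hc, rfl⟩
            obtain ⟨c, rfl⟩ := Ideal.mem_span_singleton'.1 hc
            refine ⟨Ideal.Quotient.mk 𝔞 c, ?_⟩
            change x • Ideal.Quotient.mk 𝔞 c = _
            rw [Algebra.smul_def, Ideal.Quotient.algebraMap_eq, ← map_mul, eq_comm,
              Ideal.Quotient.eq]
            have : a + c * x - x * c = a := by ring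
            rw [this]; exact ha
          · rintro ⟨c, hc⟩
            obtain ⟨c, rfl⟩ := Ideal.Quotient.mk_surjective c
            change x • Ideal.Quotient.mk 𝔞 c = _ at hc
            rw [Algebra.smul_def, Ideal.Quotient.algebraMap_eq, ← map_mul, Ideal.Quotient.eq] at hc
            refine ⟨y - x * c, ?_, x * c, Ideal.mul_mem_right _ _ (Ideal.mem_span_singleton_self x),
              by ring⟩
            rw [← neg_sub]
            exact Ideal.neg_mem_iff _ |>.2 hc
        have hlt : 𝔞 < 𝔞 ⊔ Ideal.span {x} := by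
          refine lt_of_le_of_ne le_sup_left fun h => hx ?_
          rw [h]
          exact Ideal.mem_sup_right (Ideal.mem_span_singleton_self x)
        have hz : Limits.IsZero (F.obj (ModuleCat.of B (B ⧸ (𝔞 ⊔ Ideal.span {x})))) := ih _ hlt
        rw [ModuleCat.isZero_iff_subsingleton] at hz
        obtain ⟨n', hn'⟩ := HE _ _ _ f g hf hg hfg' n (Subsingleton.elim _ _)
        refine ⟨n', ?_⟩
        have h2 : F.map (ModuleCat.ofHom f) = x • 𝟙 _ := by
          have : ModuleCat.ofHom f = x • 𝟙 (ModuleCat.of B (B ⧸ 𝔞)) := rfl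
          rw [this, Functor.map_smul, CategoryTheory.Functor.map_id]
        rw [h2] at hn'
        exact hn'
      -- Nakayama
      have hne : Module.annihilator B (F.obj (ModuleCat.of B (B ⧸ 𝔞))) ≠ ⊤ := by
        intro h
        apply hns
        refine ⟨fun a b => ?_⟩
        have h1 : (1 : B) ∈ Module.annihilator B (F.obj (ModuleCat.of B (B ⧸ 𝔞))) := by
          rw [h]; trivial
        rw [Module.mem_annihilator] at h1
        have ha := h1 a
        have hb := h1 b
        rw [one_smul] at ha hb
        rw [ha, hb]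
      obtain ⟨m, hm, hle⟩ := Ideal.exists_le_maximal _ hne
      have hpm : 𝔞 ≤ m := by
        intro a ha
        apply hle
        rw [Module.mem_annihilator]
        exact hann a ha
      have hlt : 𝔞 < m := lt_of_le_of_ne hpm (fun h => hmax (h ▸ hm))
      obtain ⟨x, hxm, hx⟩ := SetLike.exists_of_lt hlt
      obtain ⟨r, hr1, hr2⟩ := Submodule.exists_sub_one_mem_and_smul_eq_zero_of_fg_of_le_smul
        (Ideal.span {x}) (⊤ : Submodule B (F.obj (ModuleCat.of B (B ⧸ 𝔞)))) hfin.fg_top (by
          intro n _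
          obtain ⟨n', rfl⟩ := hsurj x hx n
          exact Submodule.smul_mem_smul (Ideal.mem_span_singleton_self x) trivial)
      have hrm : r ∈ m := by
        apply hle
        rw [Module.mem_annihilator]
        exact fun n => hr2 n trivial
      have hr1m : r - 1 ∈ m := by
        obtain ⟨c, hc⟩ := Ideal.mem_span_singleton'.1 hr1
        rw [← hc]
        exact Ideal.mul_mem_left _ _ hxm
      apply hm.ne_top
      rw [Ideal.eq_top_iff_one]
      have : (1 : B) = r - (r - 1) := by ring
      rw [this]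
      exact Ideal.sub_mem _ hrm hr1m
    · -- the non-prime case
      obtain ⟨a, ha, b, hb, hab⟩ := (Ideal.not_isPrime_iff.1 hprime).resolve_left htop
      let 𝔠 : Ideal B := 𝔞.comap (LinearMap.lsmul B B a)
      have h𝔠 : ∀ y, y ∈ 𝔠 ↔ a * y ∈ 𝔞 := fun y => Iff.rfl
      let f : (B ⧸ 𝔠) →ₗ[B] (B ⧸ 𝔞) := Submodule.mapQ 𝔠 𝔞 (LinearMap.lsmul B B a) le_rfl
      let g : (B ⧸ 𝔞) →ₗ[B] (B ⧸ (𝔞 ⊔ Ideal.span {a})) :=
        Submodule.mapQ 𝔞 (𝔞 ⊔ Ideal.span {a}) LinearMap.id le_sup_left
      have hfmk : ∀ y, f (Ideal.Quotient.mk 𝔠 y) = Ideal.Quotient.mk 𝔞 (a * y) := fun y => rfl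
      have hf : Function.Injective f := by
        rw [← LinearMap.ker_eq_bot, LinearMap.ker_eq_bot']
        intro y hy
        obtain ⟨y, rfl⟩ := Ideal.Quotient.mk_surjective y
        rw [hfmk, Ideal.Quotient.eq_zero_iff_mem] at hy
        rw [Ideal.Quotient.eq_zero_iff_mem]
        exact (h𝔠 y).2 hy
      have hg : Function.Surjective g := by
        intro y
        obtain ⟨y, rfl⟩ := Ideal.Quotient.mk_surjective y
        exact ⟨Ideal.Quotient.mk 𝔞 y, rfl⟩
      have hfg' : Function.Exact f g := by
        intro y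
        obtain ⟨y, rfl⟩ := Ideal.Quotient.mk_surjective y
        change Ideal.Quotient.mk (𝔞 ⊔ Ideal.span {a}) y = 0 ↔ _
        rw [Ideal.Quotient.eq_zero_iff_mem, Submodule.mem_sup]
        constructor
        · rintro ⟨a', ha', c, hc, rfl⟩
          obtain ⟨c, rfl⟩ := Ideal.mem_span_singleton'.1 hc
          refine ⟨Ideal.Quotient.mk 𝔠 c, ?_⟩
          rw [hfmk, eq_comm, Ideal.Quotient.eq]
          have : a' + c * a - a * c = a' := by ring
          rw [this]; exact ha'
        · rintro ⟨c, hc⟩
          obtain ⟨c, rfl⟩ := Ideal.Quotient.mk_surjective c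
          rw [hfmk, Ideal.Quotient.eq] at hc
          refine ⟨y - a * c, ?_, a * c, Ideal.mul_mem_right _ _ (Ideal.mem_span_singleton_self a),
            by ring⟩
          rw [← neg_sub]
          exact Ideal.neg_mem_iff _ |>.2 hc
      have hlt1 : 𝔞 < 𝔠 := by
        refine lt_of_le_of_ne (fun y hy => (h𝔠 y).2 (Ideal.mul_mem_left _ _ hy)) fun h => hb ?_
        rw [h]
        exact (h𝔠 b).2 hab
      have hlt2 : 𝔞 < 𝔞 ⊔ Ideal.span {a} := by
        refine lt_of_le_of_ne le_sup_left fun h => ha ?_
        rw [h]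
        exact Ideal.mem_sup_right (Ideal.mem_span_singleton_self a)
      exact ext3 _ _ _ f g hf hg hfg' (ih _ hlt1) (ih _ hlt2)
  -- (d) all finitely generated modules
  exact IsNoetherianRing.induction_on_isQuotientEquivQuotientPrime B hM
    (motive := fun N _ _ _ => Limits.IsZero (F.obj (ModuleCat.of B N)))
    (fun N _ _ _ _ => hzero N)
    (fun N _ _ _ p e => Limits.IsZero.of_iso (hcyc p.1) (F.mapIso e.toModuleIso))
    (fun N₁ _ _ _ N₂ _ _ _ N₃ _ _ _ f g hf hg hfg h1 h3 => ext3 N₁ N₂ N₃ f g hf hg hfg h1 h3)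

end Groth.Agent.S11461
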