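import Groth.Statements.S11464
import Mathlib
import Groth.Agent.H57.FlatLift

set_option autoImplicit false
universe u
open scoped TensorProduct
open DefT
open Groth.Agent.H57.FlatLift

namespace Groth.Agent.S11464

/-- Let C' be a local Artin ring, J ⊊ C' a proper ideal annihilated by the maximal ideal, C = C'/J, A' a
flat C'-algebra, A = A'/JA', I ⊆ A an ideal with B = A/I flat over C, and I', I'' ⊆ A' two ideals
with C'-flat quotients both reducing to I. Then there is a unique A'-linear φ : I → B ⊗_{C'} J (=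
Hom_A(I, J ⊗_C B)) such that for all x ∈ I, all lifts x' ∈ I' and x'' ∈ I'' of x, and every z ∈ A'
⊗_{C'} J mapping to x'' − x' under multiplication, the image of z in B ⊗_{C'} J is φ(x). With the
existence half this makes the set of such ideals a pseudotorsor under Hom_A(I, J ⊗_C B). -/
theorem result (C' : Type u) [CommRing C'] [IsLocalRing C'] [IsArtinianRing C'] (J : Ideal C')
    (hJ : IsLocalRing.maximalIdeal C' * J = ⊥) (hJne : J ≠ ⊤) (A' : Type u) [CommRing A'] [Algebra C' A'] [Module.Flat C' A']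
    (I : Ideal (A' ⧸ J.map (algebraMap C' A')))
    [Module.Flat (C' ⧸ J) ((A' ⧸ J.map (algebraMap C' A')) ⧸ I)]
    (I' I'' : Ideal A') [Module.Flat C' (A' ⧸ I')] [Module.Flat C' (A' ⧸ I'')]
    (hI' : I'.map (Ideal.Quotient.mk (J.map (algebraMap C' A'))) = I)
    (hI'' : I''.map (Ideal.Quotient.mk (J.map (algebraMap C' A'))) = I) :
    ∃! φ : ↥I →ₗ[A'] (((A' ⧸ J.map (algebraMap C' A')) ⧸ I) ⊗[C'] ↥J),
      (∀ (x : (A' ⧸ J.map (algebraMap C' A'))) (hx : x ∈ I) (x' x'' : A'), x' ∈ I' → x'' ∈ I'' →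
          Ideal.Quotient.mk (J.map (algebraMap C' A')) x' = x → Ideal.Quotient.mk (J.map (algebraMap C' A')) x'' = x →
          ∀ z : A' ⊗[C'] ↥J, TensorProduct.rid C' A' (LinearMap.lTensor A' (Submodule.subtype J) z) = x'' - x' →
            LinearMap.rTensor ↥J (IsScalarTower.toAlgHom C' A' ((A' ⧸ J.map (algebraMap C' A')) ⧸ I)).toLinearMap z = φ ⟨x, hx⟩) := by
  classical
  have hπ' : ∀ x ∈ I', algebraMap A' ((A' ⧸ J.map (algebraMap C' A')) ⧸ I) x = 0 := by
    intro x hx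
    change Ideal.Quotient.mk I (Ideal.Quotient.mk (J.map (algebraMap C' A')) x) = 0
    rw [Ideal.Quotient.eq_zero_iff_mem, ← hI']
    exact Ideal.mem_map_of_mem _ hx
  have hπ'' : ∀ x ∈ I'', algebraMap A' ((A' ⧸ J.map (algebraMap C' A')) ⧸ I) x = 0 := by
    intro x hx
    change Ideal.Quotient.mk I (Ideal.Quotient.mk (J.map (algebraMap C' A')) x) = 0
    rw [Ideal.Quotient.eq_zero_iff_mem, ← hI'']
    exact Ideal.mem_map_of_mem _ hx
  have L' := fun z hz => rTensor_eq_zero_of_mu_mem (J := J)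
    (B := (A' ⧸ J.map (algebraMap C' A')) ⧸ I) I' hπ' z hz
  have L'' := fun z hz => rTensor_eq_zero_of_mu_mem (J := J)
    (B := (A' ⧸ J.map (algebraMap C' A')) ⧸ I) I'' hπ'' z hz
  -- existence of data
  have hex : ∀ x ∈ I, ∃ x' ∈ I', ∃ x'' ∈ I'', ∃ z : A' ⊗[C'] ↥J,
      Ideal.Quotient.mk (J.map (algebraMap C' A')) x' = x ∧
      Ideal.Quotient.mk (J.map (algebraMap C' A')) x'' = x ∧ mu J A' z = x'' - x' := by
    intro x hx
    have hx1 : x ∈ I'.map (Ideal.Quotient.mk (J.map (algebraMap C' A'))) := hI'.symm ▸ hx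
    have hx2 : x ∈ I''.map (Ideal.Quotient.mk (J.map (algebraMap C' A'))) := hI''.symm ▸ hx
    obtain ⟨x', hx', h1⟩ :=
      (Ideal.mem_map_iff_of_surjective _ Ideal.Quotient.mk_surjective).1 hx1
    obtain ⟨x'', hx'', h2⟩ :=
      (Ideal.mem_map_iff_of_surjective _ Ideal.Quotient.mk_surjective).1 hx2
    obtain ⟨z, hz⟩ := exists_mu_eq_of_mem_map (J := J) (y := x'' - x')
      (by rw [← Ideal.Quotient.eq_zero_iff_mem, map_sub, h1, h2, sub_self])
    exact ⟨x', hx', x'', hx'', z, h1, h2, hz⟩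
  -- well-definedness
  have wd : ∀ x' ∈ I', ∀ x'' ∈ I'', ∀ y' ∈ I', ∀ y'' ∈ I'', ∀ z w : A' ⊗[C'] ↥J,
      Ideal.Quotient.mk (J.map (algebraMap C' A')) x' =
        Ideal.Quotient.mk (J.map (algebraMap C' A')) y' →
      Ideal.Quotient.mk (J.map (algebraMap C' A')) x'' =
        Ideal.Quotient.mk (J.map (algebraMap C' A')) y'' →
      mu J A' z = x'' - x' → mu J A' w = y'' - y' →
      LinearMap.rTensor ↥J
        (IsScalarTower.toAlgHom C' A' ((A' ⧸ J.map (algebraMap C' A')) ⧸ I)).toLinearMap z =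
      LinearMap.rTensor ↥J
        (IsScalarTower.toAlgHom C' A' ((A' ⧸ J.map (algebraMap C' A')) ⧸ I)).toLinearMap w := by
    intro x' hx' x'' hx'' y' hy' y'' hy'' z w h1 h2 hz hw
    obtain ⟨z₁, hz₁⟩ := exists_mu_eq_of_mem_map (J := J) (y := x' - y')
      (by rw [← Ideal.Quotient.eq_zero_iff_mem, map_sub, h1, sub_self])
    obtain ⟨z₂, hz₂⟩ := exists_mu_eq_of_mem_map (J := J) (y := x'' - y'')
      (by rw [← Ideal.Quotient.eq_zero_iff_mem, map_sub, h2, sub_self])
    have e1 := L' z₁ (by rw [hz₁]; exact Ideal.sub_mem _ hx' hy')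
    have e2 := L'' z₂ (by rw [hz₂]; exact Ideal.sub_mem _ hx'' hy'')
    have e3 := L' (z - w - z₂ + z₁) (by
      rw [map_add, map_sub, map_sub, hz, hw, hz₁, hz₂]
      have : x'' - x' - (y'' - y') - (x'' - y'') + (x' - y') = 0 := by ring
      rw [this]; exact Ideal.zero_mem _)
    rw [map_add, map_sub, map_sub, e1, e2, sub_zero, add_zero, sub_eq_zero] at e3
    exact e3
  choose! fx' hfx' fx'' hfx'' fz hf1 hf2 hfz using hex
  -- the key property for the chosen data
  have key : ∀ (x : (A' ⧸ J.map (algebraMap C' A'))) (hx : x ∈ I) (x' x'' : A'), x' ∈ I' →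
      x'' ∈ I'' → Ideal.Quotient.mk (J.map (algebraMap C' A')) x' = x →
      Ideal.Quotient.mk (J.map (algebraMap C' A')) x'' = x →
      ∀ z : A' ⊗[C'] ↥J, mu J A' z = x'' - x' →
      LinearMap.rTensor ↥J
        (IsScalarTower.toAlgHom C' A' ((A' ⧸ J.map (algebraMap C' A')) ⧸ I)).toLinearMap z =
      LinearMap.rTensor ↥J
        (IsScalarTower.toAlgHom C' A' ((A' ⧸ J.map (algebraMap C' A')) ⧸ I)).toLinearMap (fz x) := by
    intro x hx x' x'' hx' hx'' h1 h2 z hz
    exact wd x' hx' x'' hx'' (fx' x) (hfx' x hx) (fx'' x) (hfx'' x hx) z (fz x)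
      (by rw [h1, hf1 x hx]) (by rw [h2, hf2 x hx]) hz (hfz x hx)
  let φ : ↥I →ₗ[A'] (((A' ⧸ J.map (algebraMap C' A')) ⧸ I) ⊗[C'] ↥J) :=
    { toFun := fun x => LinearMap.rTensor ↥J
        (IsScalarTower.toAlgHom C' A' ((A' ⧸ J.map (algebraMap C' A')) ⧸ I)).toLinearMap
        (fz (x : A' ⧸ J.map (algebraMap C' A')))
      map_add' := by
        intro x y
        rw [← map_add]
        symm
        refine key _ (x + y).2 (fx' x + fx' y) (fx'' x + fx'' y)
          (Ideal.add_mem _ (hfx' _ x.2) (hfx' _ y.2)) (Ideal.add_mem _ (hfx'' _ x.2) (hfx'' _ y.2))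
          ?_ ?_ _ ?_
        · rw [map_add, hf1 _ x.2, hf1 _ y.2]; rfl
        · rw [map_add, hf2 _ x.2, hf2 _ y.2]; rfl
        · rw [map_add, hfz _ x.2, hfz _ y.2]; ring
      map_smul' := by
        intro a x
        rw [RingHom.id_apply, ← rTensor_toLinearMap_smul]
        symm
        refine key _ (a • x).2 (a * fx' x) (a * fx'' x)
          (Ideal.mul_mem_left _ _ (hfx' _ x.2)) (Ideal.mul_mem_left _ _ (hfx'' _ x.2))
          ?_ ?_ _ ?_
        · rw [map_mul, hf1 _ x.2]; rfl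
        · rw [map_mul, hf2 _ x.2]; rfl
        · rw [mu_smul, hfz _ x.2]; ring }
  refine ⟨φ, ?_, ?_⟩
  · intro x hx x' x'' hx' hx'' h1 h2 z hz
    exact key x hx x' x'' hx' hx'' h1 h2 z hz
  · intro ψ hψ
    ext x
    obtain ⟨x, hx⟩ := x
    have := hψ x hx (fx' x) (fx'' x) (hfx' x hx) (hfx'' x hx) (hf1 x hx) (hf2 x hx) (fz x)
      (hfz x hx)
    exact this.symm

end Groth.Agent.S11464
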