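import Groth.Statements.S11465
import Mathlib
import Groth.Agent.H57.FlatLift

set_option autoImplicit false
universe u
open scoped TensorProduct
open DefT
open Groth.Agent.H57.FlatLift

namespace Groth.Agent.S11465

/-- Let C' be a local Artin ring, J ⊊ C' a proper ideal annihilated by the maximal ideal, C = C'/J, A' a
flat C'-algebra, A = A'/JA', I ⊆ A an ideal with B = A/I flat over C, I' ⊆ A' an ideal with C'-flat
quotient reducing to I, and φ : I → B ⊗_{C'} J an A'-linear map. Then there is exactly one ideal I''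
⊆ A' with C'-flat quotient reducing to I whose difference from I' is φ: for all x ∈ I, all lifts x'
∈ I', x'' ∈ I'' of x and all z ∈ A' ⊗_{C'} J mapping to x'' − x', the image of z in B ⊗_{C'} J is
φ(x). -/
theorem result (C' : Type u) [CommRing C'] [IsLocalRing C'] [IsArtinianRing C'] (J : Ideal C')
    (hJ : IsLocalRing.maximalIdeal C' * J = ⊥) (hJne : J ≠ ⊤) (A' : Type u) [CommRing A'] [Algebra C' A'] [Module.Flat C' A']
    (I : Ideal (A' ⧸ J.map (algebraMap C' A')))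
    [Module.Flat (C' ⧸ J) ((A' ⧸ J.map (algebraMap C' A')) ⧸ I)]
    (I' : Ideal A') [Module.Flat C' (A' ⧸ I')]
    (hI' : I'.map (Ideal.Quotient.mk (J.map (algebraMap C' A'))) = I)
    (φ : ↥I →ₗ[A'] (((A' ⧸ J.map (algebraMap C' A')) ⧸ I) ⊗[C'] ↥J)) :
    ∃! I'' : Ideal A', Module.Flat C' (A' ⧸ I'') ∧
      I''.map (Ideal.Quotient.mk (J.map (algebraMap C' A'))) = I ∧
      (∀ (x : (A' ⧸ J.map (algebraMap C' A'))) (hx : x ∈ I) (x' x'' : A'), x' ∈ I' → x'' ∈ I'' →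
          Ideal.Quotient.mk (J.map (algebraMap C' A')) x' = x → Ideal.Quotient.mk (J.map (algebraMap C' A')) x'' = x →
          ∀ z : A' ⊗[C'] ↥J, TensorProduct.rid C' A' (LinearMap.lTensor A' (Submodule.subtype J) z) = x'' - x' →
            LinearMap.rTensor ↥J (IsScalarTower.toAlgHom C' A' ((A' ⧸ J.map (algebraMap C' A')) ⧸ I)).toLinearMap z = φ ⟨x, hx⟩) := by
  classical
  have hJm : J ≤ IsLocalRing.maximalIdeal C' := IsLocalRing.le_maximalIdeal hJne
  have hJJ : J * J = ⊥ := by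
    rw [eq_bot_iff, ← hJ]
    exact Ideal.mul_mono_left hJm
  have hmkI' : ∀ x ∈ I', Ideal.Quotient.mk (J.map (algebraMap C' A')) x ∈ I := by
    intro x hx
    rw [← hI']
    exact Ideal.mem_map_of_mem _ hx
  have hπ' : ∀ x ∈ I', algebraMap A' ((A' ⧸ J.map (algebraMap C' A')) ⧸ I) x = 0 := by
    intro x hx
    change Ideal.Quotient.mk I (Ideal.Quotient.mk (J.map (algebraMap C' A')) x) = 0
    rw [Ideal.Quotient.eq_zero_iff_mem]
    exact hmkI' x hx
  have L' := fun z hz => rTensor_eq_zero_of_mu_mem (J := J)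
    (B := (A' ⧸ J.map (algebraMap C' A')) ⧸ I) I' hπ' z hz
  have hsurj : Function.Surjective
      (IsScalarTower.toAlgHom C' A' ((A' ⧸ J.map (algebraMap C' A')) ⧸ I)).toLinearMap := by
    intro b
    obtain ⟨a, rfl⟩ := Ideal.Quotient.mk_surjective b
    obtain ⟨a, rfl⟩ := Ideal.Quotient.mk_surjective a
    exact ⟨a, rfl⟩
  have hTsurj := LinearMap.rTensor_surjective ↥J hsurj
  have hlift : ∀ x ∈ I, ∃ x' ∈ I', Ideal.Quotient.mk (J.map (algebraMap C' A')) x' = x := by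
    intro x hx
    have hx1 : x ∈ I'.map (Ideal.Quotient.mk (J.map (algebraMap C' A'))) := hI'.symm ▸ hx
    exact (Ideal.mem_map_iff_of_surjective _ Ideal.Quotient.mk_surjective).1 hx1
  -- the extension of φ by zero
  let Φ : (A' ⧸ J.map (algebraMap C' A')) → (((A' ⧸ J.map (algebraMap C' A')) ⧸ I) ⊗[C'] ↥J) :=
    fun x => if h : x ∈ I then φ ⟨x, h⟩ else 0
  have Φmem : ∀ x (h : x ∈ I), Φ x = φ ⟨x, h⟩ := fun x h => dif_pos h
  have Φzero : Φ 0 = 0 := by
    rw [Φmem 0 (Ideal.zero_mem _)]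
    exact map_zero φ
  have Φadd : ∀ x y, x ∈ I → y ∈ I → Φ (x + y) = Φ x + Φ y := by
    intro x y hx hy
    rw [Φmem _ (Ideal.add_mem _ hx hy), Φmem _ hx, Φmem _ hy, ← map_add]
    rfl
  have Φsmul : ∀ (a : A') x, x ∈ I →
      Φ (Ideal.Quotient.mk (J.map (algebraMap C' A')) a * x) = a • Φ x := by
    intro a x hx
    rw [Φmem _ (Ideal.mul_mem_left _ _ hx), Φmem _ hx, ← map_smul]
    rfl
  let I'' : Ideal A' :=
    { carrier := {y | ∃ x' ∈ I', ∃ z : A' ⊗[C'] ↥J,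
        LinearMap.rTensor ↥J (IsScalarTower.toAlgHom C' A'
          ((A' ⧸ J.map (algebraMap C' A')) ⧸ I)).toLinearMap z =
          Φ (Ideal.Quotient.mk (J.map (algebraMap C' A')) x') ∧ y = x' + mu J A' z}
      zero_mem' := ⟨0, Ideal.zero_mem _, 0, by rw [map_zero, map_zero, Φzero], by simp⟩
      add_mem' := by
        rintro _ _ ⟨x₁, hx₁, z₁, hz₁, rfl⟩ ⟨x₂, hx₂, z₂, hz₂, rfl⟩
        refine ⟨x₁ + x₂, Ideal.add_mem _ hx₁ hx₂, z₁ + z₂, ?_, ?_⟩
        · rw [map_add, map_add, Φadd _ _ (hmkI' _ hx₁) (hmkI' _ hx₂), hz₁, hz₂]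
        · rw [map_add]; ring
      smul_mem' := by
        rintro a _ ⟨x₁, hx₁, z₁, hz₁, rfl⟩
        refine ⟨a * x₁, Ideal.mul_mem_left _ _ hx₁, a • z₁, ?_, ?_⟩
        · rw [rTensor_toLinearMap_smul, map_mul, Φsmul _ _ (hmkI' _ hx₁), hz₁]
        · rw [mu_smul, smul_eq_mul]; ring }
  have memI'' : ∀ y, y ∈ I'' ↔ ∃ x' ∈ I', ∃ z : A' ⊗[C'] ↥J,
        LinearMap.rTensor ↥J (IsScalarTower.toAlgHom C' A'
          ((A' ⧸ J.map (algebraMap C' A')) ⧸ I)).toLinearMap z =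
          Φ (Ideal.Quotient.mk (J.map (algebraMap C' A')) x') ∧ y = x' + mu J A' z :=
    fun y => Iff.rfl
  have hmk_mu : ∀ z : A' ⊗[C'] ↥J,
      Ideal.Quotient.mk (J.map (algebraMap C' A')) (mu J A' z) = 0 := fun z =>
    Ideal.Quotient.eq_zero_iff_mem.2 (mu_mem_map z)
  have hmap : I''.map (Ideal.Quotient.mk (J.map (algebraMap C' A'))) = I := by
    apply le_antisymm
    · rw [Ideal.map_le_iff_le_comap]
      intro y hy
      obtain ⟨x', hx', z, hz, rfl⟩ := (memI'' y).1 hy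
      rw [Ideal.mem_comap, map_add, hmk_mu, add_zero]
      exact hmkI' _ hx'
    · intro x hx
      obtain ⟨x', hx', rfl⟩ := hlift x hx
      obtain ⟨z, hz⟩ := hTsurj (Φ (Ideal.Quotient.mk (J.map (algebraMap C' A')) x'))
      have : x' + mu J A' z ∈ I'' := (memI'' _).2 ⟨x', hx', z, hz, rfl⟩
      have h2 := Ideal.mem_map_of_mem (Ideal.Quotient.mk (J.map (algebraMap C' A'))) this
      rwa [map_add, hmk_mu, add_zero] at h2
  have hdiff : ∀ (x : (A' ⧸ J.map (algebraMap C' A'))) (hx : x ∈ I) (x' x'' : A'), x' ∈ I' →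
      x'' ∈ I'' → Ideal.Quotient.mk (J.map (algebraMap C' A')) x' = x →
      Ideal.Quotient.mk (J.map (algebraMap C' A')) x'' = x →
      ∀ z : A' ⊗[C'] ↥J,
        TensorProduct.rid C' A' (LinearMap.lTensor A' (Submodule.subtype J) z) = x'' - x' →
        LinearMap.rTensor ↥J (IsScalarTower.toAlgHom C' A'
          ((A' ⧸ J.map (algebraMap C' A')) ⧸ I)).toLinearMap z = φ ⟨x, hx⟩ := by
    intro x hx x' x'' hx' hx'' h1 h2 z hz
    change mu J A' z = x'' - x' at hz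
    obtain ⟨x₁, hx₁, z₁, hz₁, rfl⟩ := (memI'' x'').1 hx''
    rw [map_add, hmk_mu, add_zero] at h2
    have e1 : LinearMap.rTensor ↥J (IsScalarTower.toAlgHom C' A'
          ((A' ⧸ J.map (algebraMap C' A')) ⧸ I)).toLinearMap (z - z₁) = 0 := by
      apply L'
      rw [map_sub, hz]
      have : x₁ + mu J A' z₁ - x' - mu J A' z₁ = x₁ - x' := by ring
      rw [this]
      exact Ideal.sub_mem _ hx₁ hx'
    rw [map_sub, sub_eq_zero] at e1
    rw [e1, hz₁, ← Φmem x hx, h2]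
  have hinj : Function.Injective (mu J (A' ⧸ I'')) := by
    rw [injective_iff_map_eq_zero]
    intro t ht
    obtain ⟨z, rfl⟩ := LinearMap.rTensor_surjective ↥J
      (g := (Submodule.mkQ I'').restrictScalars C') (Submodule.mkQ_surjective I'') t
    rw [mu_natural] at ht
    have hz : mu J A' z ∈ I'' := by
      rw [← Submodule.Quotient.mk_eq_zero I'']
      exact ht
    obtain ⟨x', hx', z₀, hz₀, heq⟩ := (memI'' _).1 hz
    have hx'eq : x' = mu J A' (z - z₀) := by rw [map_sub, heq]; ring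
    have hmk0 : Ideal.Quotient.mk (J.map (algebraMap C' A')) x' = 0 := by
      rw [hx'eq]; exact hmk_mu _
    rw [hmk0, Φzero] at hz₀
    have e1 := L' (z - z₀) (by rw [← hx'eq]; exact hx')
    rw [map_sub, hz₀, sub_zero] at e1
    exact rTensor_mkQ_eq_zero_of_rTensor_eq_zero I hJJ I'' hmap.ge z e1
  have hflat : Module.Flat C' (A' ⧸ I'') := flat_quot_of_mu_injective I hJJ I'' hmap hinj
  -- uniqueness: a symmetric comparison
  have hcomp : ∀ K₁ K₂ : Ideal A',
      K₁.map (Ideal.Quotient.mk (J.map (algebraMap C' A'))) = I →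
      K₂.map (Ideal.Quotient.mk (J.map (algebraMap C' A'))) = I →
      (∀ (x : (A' ⧸ J.map (algebraMap C' A'))) (hx : x ∈ I) (x' x'' : A'), x' ∈ I' → x'' ∈ K₁ →
          Ideal.Quotient.mk (J.map (algebraMap C' A')) x' = x →
          Ideal.Quotient.mk (J.map (algebraMap C' A')) x'' = x →
          ∀ z : A' ⊗[C'] ↥J,
            TensorProduct.rid C' A' (LinearMap.lTensor A' (Submodule.subtype J) z) = x'' - x' →
            LinearMap.rTensor ↥J (IsScalarTower.toAlgHom C' A'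
              ((A' ⧸ J.map (algebraMap C' A')) ⧸ I)).toLinearMap z = φ ⟨x, hx⟩) →
      (∀ (x : (A' ⧸ J.map (algebraMap C' A'))) (hx : x ∈ I) (x' x'' : A'), x' ∈ I' → x'' ∈ K₂ →
          Ideal.Quotient.mk (J.map (algebraMap C' A')) x' = x →
          Ideal.Quotient.mk (J.map (algebraMap C' A')) x'' = x →
          ∀ z : A' ⊗[C'] ↥J,
            TensorProduct.rid C' A' (LinearMap.lTensor A' (Submodule.subtype J) z) = x'' - x' →
            LinearMap.rTensor ↥J (IsScalarTower.toAlgHom C' A'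
              ((A' ⧸ J.map (algebraMap C' A')) ⧸ I)).toLinearMap z = φ ⟨x, hx⟩) →
      K₁ ≤ K₂ := by
    intro K₁ K₂ hK₁ hK₂ d₁ d₂ y₁ hy₁
    have hxI : Ideal.Quotient.mk (J.map (algebraMap C' A')) y₁ ∈ I := by
      rw [← hK₁]; exact Ideal.mem_map_of_mem _ hy₁
    obtain ⟨x', hx', hx'eq⟩ := hlift _ hxI
    have hx2 : Ideal.Quotient.mk (J.map (algebraMap C' A')) y₁ ∈
        K₂.map (Ideal.Quotient.mk (J.map (algebraMap C' A'))) := hK₂.symm ▸ hxI
    obtain ⟨y₂, hy₂, hy₂eq⟩ :=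
      (Ideal.mem_map_iff_of_surjective _ Ideal.Quotient.mk_surjective).1 hx2
    obtain ⟨z₁, hz₁⟩ := exists_mu_eq_of_mem_map (J := J) (y := y₁ - x')
      (by rw [← Ideal.Quotient.eq_zero_iff_mem, map_sub, hx'eq, sub_self])
    obtain ⟨z₂, hz₂⟩ := exists_mu_eq_of_mem_map (J := J) (y := y₂ - x')
      (by rw [← Ideal.Quotient.eq_zero_iff_mem, map_sub, hx'eq, hy₂eq, sub_self])
    have e1 := d₁ _ hxI x' y₁ hx' hy₁ hx'eq rfl z₁ hz₁
    have e2 := d₂ _ hxI x' y₂ hx' hy₂ hx'eq hy₂eq z₂ hz₂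
    have e3 : LinearMap.rTensor ↥J (IsScalarTower.toAlgHom C' A'
        ((A' ⧸ J.map (algebraMap C' A')) ⧸ I)).toLinearMap (z₁ - z₂) = 0 := by
      rw [map_sub, e1, e2, sub_self]
    have e4 := rTensor_mkQ_eq_zero_of_rTensor_eq_zero I hJJ K₂ hK₂.ge _ e3
    have e5 := congrArg (mu J (A' ⧸ K₂)) e4
    rw [mu_natural, map_zero, map_sub, hz₁, hz₂] at e5
    have e6 : y₁ - x' - (y₂ - x') ∈ K₂ := by
      rw [← Submodule.Quotient.mk_eq_zero K₂]
      exact e5
    have : y₁ = (y₁ - x' - (y₂ - x')) + y₂ := by ring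
    rw [this]
    exact Ideal.add_mem _ e6 hy₂
  refine ⟨I'', ⟨hflat, hmap, hdiff⟩, ?_⟩
  rintro K ⟨_, hKmap, hKdiff⟩
  exact le_antisymm (hcomp K I'' hKmap hmap hKdiff hdiff) (hcomp I'' K hmap hKmap hdiff hKdiff)

end Groth.Agent.S11465
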