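import Groth.Statements.S11466
import Mathlib
import Groth.Agent.H57.ObsAux

set_option autoImplicit false
universe u
open DefT

namespace Groth.Agent.S11466

/-- Let P be a regular local k-algebra with residue field k, I ⊆ m_P² an ideal, and A = P/I. If A has an
obstruction theory whose obstruction space is a finite-dimensional k-vector space V (obstructions in
V ⊗ J attached to k-algebra maps A → C'/J for small extensions 0 → J → C' → C'/J → 0 of local
Artinian k-algebras with residue field k, vanishing exactly when the map lifts to C', and compatible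
with passing to C'/K for ideals K ≤ J), then I is generated by at most dim_k V elements. (The
published statement gives a natural injection of the dual of I/m_P·I into V; this row asserts the
resulting bound on the number of generators.) -/
theorem result (k : Type u) [Field k] (P : Type u) [CommRing P]
    [IsRegularLocalRing P] [Algebra k P]
    (hres : Function.Surjective (algebraMap k (IsLocalRing.ResidueField P)))
    (I : Ideal P) (hI : I ≤ IsLocalRing.maximalIdeal P ^ 2)
    (V : Type u) [AddCommGroup V] [Module k V] [Module.Finite k V]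
    (T : W4bk4hartshdef114.ObsTheory k (P ⧸ I) V) :
    I.spanFinrank ≤ Module.finrank k V := by
  classical
  obtain ⟨k₀, hk₀⟩ := Ideal.exists_pow_inf_eq_pow_smul (IsLocalRing.maximalIdeal P)
    (I : Submodule P P)
  have hAR : IsLocalRing.maximalIdeal P ^ (k₀ + 1) ⊓ I ≤ IsLocalRing.maximalIdeal P * I := by
    have h1 := hk₀ (k₀ + 1) (Nat.le_succ k₀)
    rw [Nat.add_sub_cancel_left, pow_one, smul_eq_mul, Ideal.mul_top] at h1
    rw [h1]
    exact Ideal.mul_mono_right inf_le_right
  obtain ⟨g, hgI, hle⟩ := Groth.Agent.H57.exists_generators_of_obs k P hres I hI V T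
    (IsLocalRing.maximalIdeal P * I ⊔ IsLocalRing.maximalIdeal P ^ (k₀ + 1)) (k₀ + 1)
    le_sup_right
    (sup_le Ideal.mul_le_left (Ideal.pow_le_self (Nat.succ_ne_zero k₀))) le_sup_left
  have h1 : I ≤ Ideal.span (Set.range g) ⊔ IsLocalRing.maximalIdeal P • I := by
    intro x hx
    obtain ⟨a, ha, b, hb, rfl⟩ := Submodule.mem_sup.1 (hle hx)
    obtain ⟨b₁, hb₁, b₂, hb₂, rfl⟩ := Submodule.mem_sup.1 hb
    have haI : a ∈ I := (Ideal.span_le.2 (by rintro _ ⟨i, rfl⟩; exact hgI i)) ha
    have hb₁I : b₁ ∈ I := Ideal.mul_le_right hb₁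
    have hb₂I : b₂ ∈ I := by
      have := I.sub_mem (I.sub_mem hx haI) hb₁I
      rwa [add_sub_cancel_left, add_sub_cancel_left] at this
    have hb₂' : b₂ ∈ IsLocalRing.maximalIdeal P * I := hAR ⟨hb₂, hb₂I⟩
    exact Submodule.add_mem_sup ha (Ideal.add_mem _ hb₁ hb₂')
  have h2 : I ≤ Ideal.span (Set.range g) :=
    Submodule.le_of_le_smul_of_le_jacobson_bot (IsNoetherian.noetherian I)
      (IsLocalRing.maximalIdeal_le_jacobson ⊥) h1
  have h3 : I = Ideal.span (Set.range g) :=
    le_antisymm h2 (Ideal.span_le.2 (by rintro _ ⟨i, rfl⟩; exact hgI i))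
  rw [h3]
  calc (Ideal.span (Set.range g)).spanFinrank ≤ (Set.range g).ncard :=
        Submodule.spanFinrank_span_le_ncard_of_finite (Set.finite_range g)
    _ ≤ Module.finrank k V := by
        rw [← Set.image_univ]
        refine (Set.ncard_image_le (Set.finite_univ)).trans ?_
        rw [Set.ncard_univ, Nat.card_eq_fintype_card, Fintype.card_fin]

end Groth.Agent.S11466
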