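import Groth.Statements.S11469
import Mathlib
import Groth.Agent.H2.InjModMax
import Groth.Agent.H57.FlatLift

set_option autoImplicit false
universe u
open scoped TensorProduct
open DefT
open Groth.Agent.H57.FlatLift

namespace Groth.Agent.S11469

/-- Let C' be a local Artin ring with maximal ideal m, J ⊊ C' a proper ideal with mJ = 0, A' a
C'-algebra, M' an A'-module flat over C', and M₀ = M'/mM'. Then (1) every A'-linear endomorphism σ
of M' that is the identity modulo JM' is bijective, and there is exactly one A'-linear τ : M₀ → M₀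
⊗_{C'} J such that, for all x ∈ M' and all z ∈ M' ⊗_{C'} J mapping to σ(x) − x in M', the image of z
in M₀ ⊗_{C'} J is τ applied to the class of x; and (2) every A'-linear τ : M₀ → M₀ ⊗_{C'} J comes in
this way from some such σ. Thus the automorphisms of the extension M' inducing the identity on
M'/JM' correspond to Hom(M₀, M₀ ⊗ J). -/
theorem result (C' : Type u) [CommRing C'] [IsLocalRing C']
    [IsArtinianRing C'] (J : Ideal C') (hJ : IsLocalRing.maximalIdeal C' * J = ⊥) (hJne : J ≠ ⊤)
    (A' : Type u) [CommRing A'] [Algebra C' A'] (M' : Type u) [AddCommGroup M'] [Module A' M'] [Module C' M']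
    [IsScalarTower C' A' M'] [Module.Flat C' M'] :
    (∀ σ : M' →ₗ[A'] M', (∀ x : M', σ x - x ∈ (J.map (algebraMap C' A')) • (⊤ : Submodule A' M')) →
      Function.Bijective σ ∧
        ∃! τ : (M' ⧸ ((IsLocalRing.maximalIdeal C').map (algebraMap C' A')) • (⊤ : Submodule A' M')) →ₗ[A'] ((M' ⧸ ((IsLocalRing.maximalIdeal C').map (algebraMap C' A')) • (⊤ : Submodule A' M')) ⊗[C'] ↥J),
          (∀ (x : M') (z : M' ⊗[C'] ↥J), TensorProduct.rid C' M' (LinearMap.lTensor M' (Submodule.subtype J) z) = σ x - x →
            LinearMap.rTensor ↥J ((Submodule.mkQ (((IsLocalRing.maximalIdeal C').map (algebraMap C' A')) • (⊤ : Submodule A' M'))).restrictScalars C') z =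
              τ (Submodule.mkQ _ x))) ∧
    (∀ τ : (M' ⧸ ((IsLocalRing.maximalIdeal C').map (algebraMap C' A')) • (⊤ : Submodule A' M')) →ₗ[A'] ((M' ⧸ ((IsLocalRing.maximalIdeal C').map (algebraMap C' A')) • (⊤ : Submodule A' M')) ⊗[C'] ↥J),
      ∃ σ : M' →ₗ[A'] M', (∀ x : M', σ x - x ∈ (J.map (algebraMap C' A')) • (⊤ : Submodule A' M')) ∧
          (∀ (x : M') (z : M' ⊗[C'] ↥J), TensorProduct.rid C' M' (LinearMap.lTensor M' (Submodule.subtype J) z) = σ x - x →
            LinearMap.rTensor ↥J ((Submodule.mkQ (((IsLocalRing.maximalIdeal C').map (algebraMap C' A')) • (⊤ : Submodule A' M'))).restrictScalars C') z =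
              τ (Submodule.mkQ _ x))) := by
  classical
  have memJ : ∀ x : M', x ∈ (J.map (algebraMap C' A')) • (⊤ : Submodule A' M') ↔
      x ∈ J • (⊤ : Submodule C' M') := fun x => Groth.Agent.H2.mem_map_smul_top_iff J x
  have memm : ∀ x : M', x ∈ ((IsLocalRing.maximalIdeal C').map (algebraMap C' A')) •
      (⊤ : Submodule A' M') ↔ x ∈ IsLocalRing.maximalIdeal C' • (⊤ : Submodule C' M') :=
    fun x => Groth.Agent.H2.mem_map_smul_top_iff _ x
  have hmJ : ∀ c ∈ IsLocalRing.maximalIdeal C', ∀ j ∈ J, c * j = 0 := by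
    intro c hc j hj
    have : c * j ∈ IsLocalRing.maximalIdeal C' * J := Ideal.mul_mem_mul hc hj
    rw [hJ] at this
    exact (Submodule.mem_bot C').1 this
  have hJm : J ≤ IsLocalRing.maximalIdeal C' := IsLocalRing.le_maximalIdeal hJne
  -- (G1)
  have G1 : ∀ c ∈ IsLocalRing.maximalIdeal C', ∀ w ∈ J • (⊤ : Submodule C' M'), c • w = 0 := by
    intro c hc w hw
    refine Submodule.smul_induction_on hw ?_ ?_
    · intro j hj y _
      rw [← mul_smul, hmJ c hc j hj, zero_smul]
    · intro a b ha hb
      rw [smul_add, ha, hb, add_zero]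
  -- (F2)
  have rangeμ : ∀ x : M', x ∈ J • (⊤ : Submodule C' M') ↔ ∃ z, mu J M' z = x := by
    intro x
    constructor
    · intro hx
      refine Submodule.smul_induction_on hx ?_ ?_
      · intro j hj y _
        exact ⟨y ⊗ₜ ⟨j, hj⟩, by simp⟩
      · rintro _ _ ⟨z, rfl⟩ ⟨w, rfl⟩
        exact ⟨z + w, map_add _ _ _⟩
    · rintro ⟨z, rfl⟩
      induction z using TensorProduct.induction_on with
      | zero => simp
      | tmul y j => rw [mu_tmul]; exact Submodule.smul_mem_smul j.2 trivial
      | add a b ha hb => rw [map_add]; exact Submodule.add_mem _ ha hb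
  -- A'-linear versions of the maps
  let μA : M' ⊗[C'] ↥J →ₗ[A'] M' :=
    (TensorProduct.AlgebraTensorModule.rid C' A' M').toLinearMap ∘ₗ
      TensorProduct.AlgebraTensorModule.lTensor A' M' (Submodule.subtype J)
  have hμA : ∀ z, μA z = mu J M' z := fun z => rfl
  have hμinj : Function.Injective μA := fun a b h =>
    mu_injective_of_flat (J := J) (N := M') (by rw [← hμA, ← hμA]; exact h)
  let TA : M' ⊗[C'] ↥J →ₗ[A']
      (M' ⧸ ((IsLocalRing.maximalIdeal C').map (algebraMap C' A')) • (⊤ : Submodule A' M'))
        ⊗[C'] ↥J :=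
    TensorProduct.AlgebraTensorModule.map (Submodule.mkQ _) LinearMap.id
  have hTA : ∀ z, TA z = LinearMap.rTensor ↥J ((Submodule.mkQ
      (((IsLocalRing.maximalIdeal C').map (algebraMap C' A')) •
        (⊤ : Submodule A' M'))).restrictScalars C') z := by
    intro z
    induction z using TensorProduct.induction_on with
    | zero => simp
    | tmul y j => rfl
    | add a b ha hb => rw [map_add, map_add, ha, hb]
  -- (F3)
  have hkill : ∀ x ∈ ((IsLocalRing.maximalIdeal C').map (algebraMap C' A')) •
      (⊤ : Submodule A' M'), ∀ j : ↥J, x ⊗ₜ[C'] j = (0 : M' ⊗[C'] ↥J) := by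
    intro x hx j
    rw [memm] at hx
    refine Submodule.smul_induction_on hx ?_ ?_
    · intro c hc y _
      rw [TensorProduct.smul_tmul]
      have : c • j = 0 := by
        ext
        simpa using hmJ c hc j j.2
      rw [this, TensorProduct.tmul_zero]
    · intro a b ha hb
      rw [TensorProduct.add_tmul, ha, hb, add_zero]
  have hTinj : Function.Injective TA := by
    rw [← LinearMap.ker_eq_bot, LinearMap.ker_eq_bot']
    intro z hz
    rw [hTA] at hz
    have hex : Function.Exact
        ((Submodule.subtype (((IsLocalRing.maximalIdeal C').map (algebraMap C' A')) •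
          (⊤ : Submodule A' M'))).restrictScalars C')
        ((Submodule.mkQ (((IsLocalRing.maximalIdeal C').map (algebraMap C' A')) •
          (⊤ : Submodule A' M'))).restrictScalars C') := by
      intro y
      simp only [LinearMap.coe_restrictScalars, Submodule.mkQ_apply,
        Submodule.Quotient.mk_eq_zero, Submodule.coe_subtype, Set.mem_range, Subtype.exists,
        exists_prop, exists_eq_right]
    obtain ⟨w, rfl⟩ := (rTensor_exact ↥J hex (Submodule.mkQ_surjective _) z).1 hz
    clear hz
    induction w using TensorProduct.induction_on with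
    | zero => simp
    | tmul x j =>
      rw [LinearMap.rTensor_tmul]
      exact hkill x.1 x.2 j
    | add a b ha hb => rw [map_add, ha, hb, add_zero]
  have hTsurj : Function.Surjective TA := by
    intro t
    obtain ⟨z, hz⟩ := LinearMap.rTensor_surjective ↥J
      (g := (Submodule.mkQ (((IsLocalRing.maximalIdeal C').map (algebraMap C' A')) •
        (⊤ : Submodule A' M'))).restrictScalars C') (Submodule.mkQ_surjective _) t
    exact ⟨z, by rw [hTA, hz]⟩
  let E := LinearEquiv.ofBijective TA ⟨hTinj, hTsurj⟩
  have hE : ∀ z, E z = TA z := fun z => rfl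
  refine ⟨?_, ?_⟩
  · intro σ hσ
    let δ : M' →ₗ[A'] M' := σ - LinearMap.id
    have hδ : ∀ x, δ x = σ x - x := fun x => rfl
    have hδmem : ∀ x, δ x ∈ J • (⊤ : Submodule C' M') := fun x => (memJ _).1 (hσ x)
    have hδC : ∀ (c : C') (y : M'), δ (c • y) = c • δ y := fun c y =>
      LinearMap.map_smul_of_tower δ c y
    have hδδ : ∀ x, δ (δ x) = 0 := by
      intro x
      have hx := hδmem x
      generalize δ x = w at hx
      refine Submodule.smul_induction_on hx ?_ ?_
      · intro j hj y _
        rw [hδC]
        exact G1 j (hJm hj) _ (hδmem y)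
      · intro a b ha hb
        rw [map_add, ha, hb, add_zero]
    have hδm : ∀ x ∈ ((IsLocalRing.maximalIdeal C').map (algebraMap C' A')) •
        (⊤ : Submodule A' M'), δ x = 0 := by
      intro x hx
      rw [memm] at hx
      refine Submodule.smul_induction_on hx ?_ ?_
      · intro c hc y _
        rw [hδC]
        exact G1 c hc _ (hδmem y)
      · intro a b ha hb
        rw [map_add, ha, hb, add_zero]
    have hσδ : ∀ x, σ x = x + δ x := fun x => by rw [hδ]; abel
    refine ⟨⟨?_, ?_⟩, ?_⟩
    · rw [← LinearMap.ker_eq_bot, LinearMap.ker_eq_bot']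
      intro x hx
      rw [hσδ] at hx
      have h1 : x = - δ x := eq_neg_of_add_eq_zero_left hx
      have h2 : δ x = 0 := by
        have := congrArg δ h1
        rw [map_neg, hδδ, neg_zero] at this
        exact this
      rw [h1, h2, neg_zero]
    · intro y
      refine ⟨y - δ y, ?_⟩
      rw [hσδ, map_sub, hδδ]
      abel
    · -- the map `ζ = μ⁻¹ ∘ δ`
      have hδrange : ∀ x, δ x ∈ LinearMap.range μA := by
        intro x
        obtain ⟨z, hz⟩ := (rangeμ _).1 (hδmem x)
        exact ⟨z, hz⟩
      let ζ : M' →ₗ[A'] M' ⊗[C'] ↥J :=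
        (LinearEquiv.ofInjective μA hμinj).symm.toLinearMap ∘ₗ
          (δ.codRestrict (LinearMap.range μA) hδrange)
      have hζ : ∀ x, mu J M' (ζ x) = δ x := by
        intro x
        have h1 : (LinearEquiv.ofInjective μA hμinj) (ζ x) =
            (δ.codRestrict (LinearMap.range μA) hδrange) x :=
          LinearEquiv.apply_symm_apply _ _
        have h2 := congrArg Subtype.val h1
        exact h2
      have hζm : ((IsLocalRing.maximalIdeal C').map (algebraMap C' A')) •
          (⊤ : Submodule A' M') ≤ LinearMap.ker (TA ∘ₗ ζ) := by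
        intro x hx
        rw [LinearMap.mem_ker, LinearMap.comp_apply]
        have : ζ x = 0 := by
          apply hμinj
          rw [hμA, hζ, hδm x hx, map_zero]
        rw [this, map_zero]
      refine ⟨Submodule.liftQ _ (TA ∘ₗ ζ) hζm, ?_, ?_⟩
      · intro x z hz
        change mu J M' z = σ x - x at hz
        rw [Submodule.mkQ_apply, Submodule.liftQ_apply, LinearMap.comp_apply, ← hTA]
        congr 1
        apply hμinj
        rw [hμA, hμA, hζ, hz, hδ]
      · intro τ' hτ'
        apply LinearMap.ext
        intro y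
        obtain ⟨x, rfl⟩ := Submodule.mkQ_surjective _ y
        rw [Submodule.mkQ_apply, Submodule.liftQ_apply, LinearMap.comp_apply]
        have := hτ' x (ζ x) (by
          change mu J M' (ζ x) = σ x - x
          rw [hζ, hδ])
        rw [hTA]
        exact this.symm
  · intro τ
    let σ : M' →ₗ[A'] M' := LinearMap.id + μA ∘ₗ E.symm.toLinearMap ∘ₗ τ ∘ₗ (Submodule.mkQ _)
    have hσ : ∀ x, σ x - x = mu J M' (E.symm (τ (Submodule.mkQ _ x))) := by
      intro x
      change x + μA (E.symm (τ (Submodule.mkQ _ x))) - x = _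
      rw [hμA]; abel
    refine ⟨σ, ?_, ?_⟩
    · intro x
      rw [memJ, hσ, rangeμ]
      exact ⟨_, rfl⟩
    · intro x z hz
      change mu J M' z = σ x - x at hz
      rw [hσ] at hz
      have hz' : z = E.symm (τ (Submodule.mkQ _ x)) := by
        apply hμinj
        rw [hμA, hμA, hz]
      rw [← hTA, hz', ← hE, LinearEquiv.apply_symm_apply]

end Groth.Agent.S11469
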