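import Groth.Statements.S1147
import Groth.Agent.H3.JacobsonDescent
import Groth.Agent.H47.QF.MainFlat
import Mathlib.RingTheory.Flat.FaithfullyFlat.Algebra

set_option autoImplicit false
universe u
open Desc

namespace Groth.Agent.S1147

/-- Let A → B be a faithfully flat ring map of finite presentation. If B is a Jacobson ring then so is
A. (This is the affine descent direction of the statement that the Jacobson property is fppf local.) -/
theorem result (A B : Type u) [CommRing A] [CommRing B] [Algebra A B]
    [Module.FaithfullyFlat A B] [Algebra.FinitePresentation A B] [IsJacobsonRing B] : IsJacobsonRing A := by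
  obtain ⟨B₁, _, _, hqf, hfl, hfp, ⟨φ⟩, hrange⟩ := Groth.Agent.H47.QF.main_flat A B
  let _ : Algebra B B₁ := φ.toRingHom.toAlgebra
  have htow : IsScalarTower A B B₁ := IsScalarTower.of_algebraMap_eq fun a => (φ.commutes a).symm
  have hft : Algebra.FiniteType B B₁ := Algebra.FiniteType.of_restrictScalars_finiteType A B B₁
  have hjac : IsJacobsonRing B₁ := isJacobsonRing_of_finiteType (A := B) (B := B₁)
  have hsurj : Function.Surjective (PrimeSpectrum.comap (algebraMap A B₁)) := by
    intro p
    exact hrange (PrimeSpectrum.comap_surjective_of_faithfullyFlat p)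
  exact Groth.Agent.H3.JacDesc.isJacobsonRing_of_quasiFinite_flat hsurj

end Groth.Agent.S1147
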