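import Groth.Statements.S11493
import Mathlib
import Groth.Agent.H57.SerreAux

set_option autoImplicit false
universe u
open CategoryTheory
open VBPn

namespace Groth.Agent.S11493

/-- Let A be a Noetherian local ring and I an ideal with a free resolution of length 1, 0 → A^p → A^q →
I → 0 (equivalently: a surjection A^q → I with free kernel). Let 0 → A → M → I → 0 be an extension
with class e ∈ Ext^1(I, A). Then M is free if and only if e generates the A-module Ext^1(I, A); the
A-module structure being through End(A) = A, this says every element of Ext^1(I, A) is the composite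
of e with an endomorphism of A. -/
theorem result (A : Type u) [CommRing A] [IsNoetherianRing A] [IsLocalRing A]
    (I : Ideal A)
    (hres : ∃ (q : ℕ) (φ : (Fin q → A) →ₗ[A] ↥I), Function.Surjective φ ∧ Module.Free A ↥(LinearMap.ker φ))
    (S : ShortComplex (ModuleCat.{u} A)) (hS : S.ShortExact)
    (h₁ : Nonempty (S.X₁ ≅ ModuleCat.of A A)) (h₃ : Nonempty (S.X₃ ≅ ModuleCat.of A ↥I)) :
    Module.Free A S.X₂ ↔
      ∀ x : Abelian.Ext S.X₃ S.X₁ 1, ∃ f : S.X₁ ⟶ S.X₁, hS.extClass.comp (Abelian.Ext.mk₀ f) (add_zero 1) = x := by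
  classical
  obtain ⟨e₁⟩ := h₁
  obtain ⟨e₃⟩ := h₃
  have hprojA : Projective (ModuleCat.of A A) :=
    (IsProjective.iff_projective A).1 inferInstance
  have hproj₁ : Projective S.X₁ := Projective.of_iso e₁.symm hprojA
  constructor
  · intro hfree
    have hproj₂ : Projective S.X₂ := ModuleCat.projective_of_free (Module.Free.chooseBasis A S.X₂)
    intro x
    obtain ⟨x₁, hx₁⟩ := Abelian.Ext.contravariant_sequence_exact₃ hS S.X₁ x
      (Abelian.Ext.eq_zero_of_projective _) (n₀ := 0) (by lia)
    obtain ⟨f, rfl⟩ := (Abelian.Ext.mk₀_bijective S.X₁ S.X₁).2 x₁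
    exact ⟨f, hx₁⟩
  · intro hgen
    -- Ext¹(X₂, X₁) = 0
    have hext : Subsingleton (Abelian.Ext S.X₂ S.X₁ 1) := by
      have key : ∀ y : Abelian.Ext S.X₂ S.X₁ 1, y = 0 := by
        intro y
        obtain ⟨x₁, hx₁⟩ := Abelian.Ext.contravariant_sequence_exact₂ hS S.X₁ y
          (Abelian.Ext.eq_zero_of_projective _)
        obtain ⟨f, hf⟩ := hgen x₁
        rw [← hx₁, ← hf, ← Abelian.Ext.comp_assoc_of_third_deg_zero, hS.comp_extClass,
          Abelian.Ext.zero_comp]
      exact ⟨fun a b => by rw [key a, key b]⟩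
    -- projective dimension of I
    obtain ⟨q, φ, hφ, hfreeK⟩ := hres
    let S'' : ShortComplex (ModuleCat.{u} A) :=
      ShortComplex.mk (ModuleCat.ofHom (LinearMap.ker φ).subtype) (ModuleCat.ofHom φ) (by
        ext x
        exact congrArg Subtype.val (LinearMap.mem_ker.1 x.2))
    have hS'' : S''.ShortExact :=
      ShortComplex.ShortExact.mk'
        ((ShortComplex.ShortExact.moduleCat_exact_iff_function_exact S'').2
          (LinearMap.exact_subtype_ker_map φ))
        ((ModuleCat.mono_iff_injective _).2 Subtype.val_injective)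
        ((ModuleCat.epi_iff_surjective _).2 hφ)
    have hK : Projective S''.X₁ :=
      ModuleCat.projective_of_free (Module.Free.chooseBasis A (LinearMap.ker φ))
    have hF : Projective S''.X₂ := ModuleCat.projective_of_free (Pi.basisFun A (Fin q))
    have hpdI : HasProjectiveDimensionLT (ModuleCat.of A I) 2 :=
      hS''.hasProjectiveDimensionLT_X₃ 1 inferInstance
        (hasProjectiveDimensionLT_of_ge S''.X₂ 1 2 (by lia))
    have hpd₃ : HasProjectiveDimensionLT S.X₃ 2 := hasProjectiveDimensionLT_of_iso e₃.symm 2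
    have hpd₁ : HasProjectiveDimensionLT S.X₁ 2 := hasProjectiveDimensionLT_of_ge S.X₁ 1 2 (by lia)
    have hpd₂ : HasProjectiveDimensionLT S.X₂ 2 := hS.hasProjectiveDimensionLT_X₂ 2 hpd₁ hpd₃
    -- finiteness
    have hN₁ : IsNoetherian A S.X₁ := isNoetherian_of_linearEquiv e₁.symm.toLinearEquiv
    have hN₃ : IsNoetherian A S.X₃ := isNoetherian_of_linearEquiv e₃.symm.toLinearEquiv
    have hN₂ : IsNoetherian A S.X₂ := isNoetherian_of_range_eq_ker S.f.hom S.g.hom
      ((ShortComplex.ShortExact.moduleCat_exact_iff_function_exact S).1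
        hS.exact).linearMap_ker_eq.symm
    exact Groth.Agent.H57.free_of_ext_one_eq_zero A S.X₂ hpd₂ S.X₁ e₁ hext

end Groth.Agent.S11493
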