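import Groth.Statements.S11496
import Mathlib
import Groth.Agent.Lead.RegularGlDim
import Groth.Agent.Lead.RegularLocalization

set_option autoImplicit false
universe u
open CategoryTheory
open VBPn

namespace Groth.Agent.S11496

/-- Let A be a regular local ring, M a finitely generated A-module and i ≥ 0. The support of Ext^i_A(M,
A) has dimension at most dim A − i: for every prime ideal p of A such that Ext^i over the
localization A_p of M_p into A_p is nonzero (this Ext group is the localization at p of Ext^i_A(M,
A)), one has dim(A/p) + i ≤ dim A. The published statement is for coherent analytic sheaves on an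
n-dimensional complex manifold; this row is stated for any regular local ring. -/
theorem result (A : Type u) [CommRing A] [IsRegularLocalRing A]
    (M : Type u) [AddCommGroup M] [Module A M] [Module.Finite A M] (i : ℕ) (p : Ideal A) [p.IsPrime]
    (h : Nontrivial (Abelian.Ext
      (ModuleCat.of (Localization.AtPrime p) (LocalizedModule p.primeCompl M))
      (ModuleCat.of (Localization.AtPrime p) (Localization.AtPrime p)) i)) :
    ringKrullDim (A ⧸ p) + (i : WithBot ℕ∞) ≤ ringKrullDim A := by
  classical
  haveI : IsRegularLocalRing (Localization.AtPrime p) :=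
    Groth.Agent.Lead.RLR.isRegularLocalRing_localization A p
  have hdim : ringKrullDim (Localization.AtPrime p) = p.height :=
    IsLocalization.AtPrime.ringKrullDim_eq_height p _
  obtain ⟨d, hd, -⟩ := Groth.Agent.Lead.RLR.exists_ringKrullDim_eq (Localization.AtPrime p)
  have hpd := Groth.Agent.Lead.RLR.hasProjectiveDimensionLT (Localization.AtPrime p) d hd
    (ModuleCat.of (Localization.AtPrime p) (LocalizedModule p.primeCompl M))
  have hid : i ≤ d := by
    by_contra hlt
    rw [not_le] at hlt
    have hs := HasProjectiveDimensionLT.subsingleton
      (ModuleCat.of (Localization.AtPrime p) (LocalizedModule p.primeCompl M)) (d + 1) i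
      (by omega) (ModuleCat.of (Localization.AtPrime p) (Localization.AtPrime p))
    exact (not_subsingleton_iff_nontrivial.2 h) hs
  have hht : (p.height : WithBot ℕ∞) = (d : WithBot ℕ∞) := by rw [← hdim, hd]
  have hsum : ringKrullDim (A ⧸ p) + (p.height : WithBot ℕ∞) ≤ ringKrullDim A := by
    let P : PrimeSpectrum A := ⟨p, inferInstance⟩
    have h1 : ringKrullDim (A ⧸ p) = (Order.coheight P : WithBot ℕ∞) := by
      rw [ringKrullDim_quotient, Order.coheight_eq_krullDim_Ici]
      have : PrimeSpectrum.zeroLocus (p : Set A) = Set.Ici P := by
        ext q
        rw [PrimeSpectrum.mem_zeroLocus, Set.mem_Ici]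
        exact Iff.rfl
      rw [this]
    have h2 : p.height = Order.height P := PrimeSpectrum.height_eq_orderHeight P
    rw [h1, h2, ringKrullDim, Order.krullDim_eq_iSup_height_add_coheight_of_nonempty, add_comm]
    exact_mod_cast le_iSup (fun a : PrimeSpectrum A => Order.height a + Order.coheight a) P
  calc ringKrullDim (A ⧸ p) + (i : WithBot ℕ∞)
      ≤ ringKrullDim (A ⧸ p) + (p.height : WithBot ℕ∞) := by
        rw [hht]
        gcongr
    _ ≤ ringKrullDim A := hsum

end Groth.Agent.S11496
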