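import Groth.Statements.S11497
import Mathlib
import Groth.Agent.H57.MonadAux

set_option autoImplicit false
universe w v u
open CategoryTheory
open VBPn

namespace Groth.Agent.S11497

/-- In an abelian category, let M : A → B → C and M' : A' → B' → C' be monads, i.e. short complexes
whose first map is a monomorphism and whose second map is an epimorphism, with cohomology (homology)
objects E and E'. Suppose Hom(B, A') = 0, Hom(C, B') = 0 and Ext^1(C, A') = Ext^1(B, A') = Ext^1(C,
B') = Ext^2(C, A') = 0. Then the map sending a morphism of monads M → M' to the induced morphism E →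
E' is bijective. The published statement is for monads of vector bundles on a complex manifold X,
with Ext^i(C, A') written H^i(X, C^* ⊗ A'); this row is stated in any abelian category. -/
theorem result {C : Type u} [Category.{v} C] [Abelian C] [HasExt.{w} C]
    (M M' : ShortComplex C) [Mono M.f] [Epi M.g] [Mono M'.f] [Epi M'.g]
    (hBA : ∀ f : M.X₂ ⟶ M'.X₁, f = 0) (hCB : ∀ f : M.X₃ ⟶ M'.X₂, f = 0)
    (hCA₁ : Subsingleton (Abelian.Ext M.X₃ M'.X₁ 1)) (hBA₁ : Subsingleton (Abelian.Ext M.X₂ M'.X₁ 1))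
    (hCB₁ : Subsingleton (Abelian.Ext M.X₃ M'.X₂ 1)) (hCA₂ : Subsingleton (Abelian.Ext M.X₃ M'.X₁ 2)) :
    Function.Bijective (fun φ : M ⟶ M' => ShortComplex.homologyMap φ) := by
  have hS₁ := Groth.Agent.H57.cycles_shortExact M
  have hS₂ := Groth.Agent.H57.homology_shortExact M
  have hS₁' := Groth.Agent.H57.cycles_shortExact M'
  have hS₂' := Groth.Agent.H57.homology_shortExact M'
  -- vanishing of Hom(K, A') and Ext¹(K, A')
  have hKA : ∀ a : M.cycles ⟶ M'.X₁, a = 0 := fun a =>
    Groth.Agent.H57.hom_left_eq_zero hS₁ hBA hCA₁ a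
  have hKA₁ : Subsingleton (Abelian.Ext M.cycles M'.X₁ 1) :=
    Groth.Agent.H57.subsingleton_ext_one_left hS₁ hBA₁ hCA₂
  have hmono' : Mono M'.toCycles := mono_of_mono_fac M'.toCycles_i
  constructor
  · -- injectivity
    intro φ₁ φ₂ h
    have key : ∀ φ : M ⟶ M', ShortComplex.homologyMap φ = 0 → φ = 0 := by
      intro φ hφ
      have h1 : ShortComplex.cyclesMap φ ≫ M'.homologyπ = 0 := by
        rw [← ShortComplex.homologyπ_naturality, hφ, Limits.comp_zero]
      -- cyclesMap φ factors through A'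
      have h2 : ShortComplex.cyclesMap φ = 0 := by
        have hlim := hS₂'.fIsKernel
        obtain ⟨l, hl⟩ := Limits.KernelFork.IsLimit.lift' hlim (ShortComplex.cyclesMap φ) h1
        have hl' : l ≫ M'.toCycles = ShortComplex.cyclesMap φ := hl
        rw [← hl', hKA l, Limits.zero_comp]
      have h3 : M.iCycles ≫ φ.τ₂ = 0 := by
        rw [← ShortComplex.cyclesMap_i, h2, Limits.zero_comp]
      have h4 : φ.τ₂ = 0 := by
        have hcolim := hS₁.gIsCokernel
        obtain ⟨l, hl⟩ := Limits.CokernelCofork.IsColimit.desc' hcolim φ.τ₂ h3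
        have hl' : M.g ≫ l = φ.τ₂ := hl
        rw [← hl', hCB l, Limits.comp_zero]
      have h5 : φ.τ₁ = 0 := by
        rw [← cancel_mono M'.f, Limits.zero_comp, φ.comm₁₂, h4, Limits.comp_zero]
      have h6 : φ.τ₃ = 0 := by
        rw [← cancel_epi M.g, Limits.comp_zero, ← φ.comm₂₃, h4, Limits.zero_comp]
      exact ShortComplex.Hom.ext h5 h4 h6
    have h0 : φ₁ - φ₂ = 0 := key _ (by
      rw [ShortComplex.homologyMap_sub]
      exact sub_eq_zero.2 h)
    exact sub_eq_zero.1 h0
  · -- surjectivity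
    intro ψ
    obtain ⟨κ, hκ⟩ := Groth.Agent.H57.exists_lifting hS₂' hKA₁ (M.homologyπ ≫ ψ)
    have hκ' : κ ≫ M'.homologyπ = M.homologyπ ≫ ψ := hκ
    obtain ⟨β, hβ⟩ := Groth.Agent.H57.exists_extension hS₁ hCB₁ (κ ≫ M'.iCycles)
    have hβ' : M.iCycles ≫ β = κ ≫ M'.iCycles := hβ
    -- γ
    have hcolim := hS₁.gIsCokernel
    obtain ⟨γ, hγ⟩ := Limits.CokernelCofork.IsColimit.desc' hcolim (β ≫ M'.g) (by
      change M.iCycles ≫ β ≫ M'.g = 0
      rw [← Category.assoc, hβ', Category.assoc, M'.iCycles_g, Limits.comp_zero])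
    have hγ' : M.g ≫ γ = β ≫ M'.g := hγ
    -- α
    have hlim := hS₂'.fIsKernel
    obtain ⟨α, hα⟩ := Limits.KernelFork.IsLimit.lift' hlim (M.toCycles ≫ κ) (by
      change (M.toCycles ≫ κ) ≫ M'.homologyπ = 0
      rw [Category.assoc, hκ', ← Category.assoc, M.toCycles_comp_homologyπ, Limits.zero_comp])
    have hα' : α ≫ M'.toCycles = M.toCycles ≫ κ := hα
    have hcomm : α ≫ M'.f = M.f ≫ β := by
      rw [← M'.toCycles_i, ← Category.assoc, hα', Category.assoc, ← hβ', ← Category.assoc,
        M.toCycles_i]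
    refine ⟨ShortComplex.homMk α β γ hcomm hγ'.symm, ?_⟩
    change ShortComplex.homologyMap (ShortComplex.homMk α β γ hcomm hγ'.symm) = ψ
    rw [← cancel_epi M.homologyπ, ShortComplex.homologyπ_naturality, ← hκ']
    congr 1
    rw [← cancel_mono M'.iCycles, ShortComplex.cyclesMap_i]
    exact hβ'

end Groth.Agent.S11497
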