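import Groth.Statements.S11499
import Mathlib

set_option autoImplicit false
universe u
open TensorProduct
open VBPn

namespace Groth.Agent.S11499

/-- Let A be an integral domain with fraction field K and M a finitely generated torsion-free A-module
of rank r (K ⊗_A M is r-dimensional over K). Then there is an injective A-linear map M → A^r. The
published statement is for torsion-free coherent sheaves on a complex manifold, locally near a
point; this row is its statement for one stalk, over any domain. -/
theorem result (A : Type u) [CommRing A] [IsDomain A]
    (M : Type u) [AddCommGroup M] [Module A M] [Module.Finite A M] [NoZeroSMulDivisors A M] (r : ℕ)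
    (hr : Module.finrank (FractionRing A) (FractionRing A ⊗[A] M) = r) :
    ∃ f : M →ₗ[A] (Fin r → A), Function.Injective f := by
  classical
  set K := FractionRing A with hK
  -- the localization map
  let ι : M →ₗ[A] K ⊗[A] M := TensorProduct.mk A K M 1
  have hι : Function.Injective ι := by
    rw [← LinearMap.ker_eq_bot, LinearMap.ker_eq_bot']
    intro m hm
    obtain ⟨s, hs⟩ := (IsLocalizedModule.eq_zero_iff (nonZeroDivisors A) ι).1 hm
    rcases smul_eq_zero.1 hs with h | h
    · exact absurd h (nonZeroDivisors.coe_ne_zero s)
    · exact h
  have : Module.Finite K (K ⊗[A] M) := Module.Finite.base_change A K M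
  -- basis
  let b : Module.Basis (Fin r) K (K ⊗[A] M) := (Module.finBasis K (K ⊗[A] M)).reindex (finCongr hr)
  let e : (K ⊗[A] M) ≃ₗ[K] (Fin r → K) := b.equivFun
  let g : M →ₗ[A] (Fin r → K) := (e.toLinearMap.restrictScalars A).comp ι
  have hg : Function.Injective g := e.injective.comp hι
  -- the inclusion A^r → K^r
  let j : (Fin r → A) →ₗ[A] (Fin r → K) := (Algebra.linearMap A K).compLeft (Fin r)
  have hj : Function.Injective j := by
    intro x y hxy
    funext i
    have := congrFun hxy i
    exact IsFractionRing.injective A K this
  -- generators
  obtain ⟨S, hS⟩ := (Module.Finite.fg_top : (⊤ : Submodule A M).FG)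
  -- common denominator
  obtain ⟨d, hd⟩ := IsLocalization.exist_integer_multiples_of_finset (nonZeroDivisors A) (S := K)
    (S.biUnion fun m => Finset.univ.image fun i => g m i)
  have hmem : ∀ m : M, (d : A) • g m ∈ LinearMap.range j := by
    intro m
    have hm : m ∈ Submodule.span A (S : Set M) := by rw [hS]; trivial
    induction hm using Submodule.span_induction with
    | mem x hx =>
      have : ∀ i, ∃ a : A, algebraMap A K a = (d : A) • g x i := by
        intro i
        have := hd (g x i) (by
          simp only [Finset.mem_biUnion, Finset.mem_image, Finset.mem_univ, true_and]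
          exact ⟨x, hx, i, rfl⟩)
        exact this
      choose a ha using this
      refine ⟨a, ?_⟩
      funext i
      simp [j, ha]
    | zero => simp
    | add x y _ _ hx hy =>
      rw [map_add, smul_add]
      exact Submodule.add_mem _ hx hy
    | smul c x _ hx =>
      rw [map_smul, smul_comm]
      exact Submodule.smul_mem _ c hx
  let g' : M →ₗ[A] (Fin r → K) := (d : A) • g
  have hg' : Function.Injective g' := by
    intro x y hxy
    apply hg
    have : (d : A) • g x = (d : A) • g y := hxy
    funext i
    have h2 := congrFun this i
    simp only [Pi.smul_apply, Algebra.smul_def] at h2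
    exact mul_left_cancel₀ (by
      simpa using (IsFractionRing.injective A K).ne (nonZeroDivisors.coe_ne_zero d)) h2
  let g'' : M →ₗ[A] LinearMap.range j := g'.codRestrict (LinearMap.range j) hmem
  refine ⟨(LinearEquiv.ofInjective j hj).symm.toLinearMap.comp g'', ?_⟩
  intro x y hxy
  apply hg'
  have := (LinearEquiv.ofInjective j hj).symm.injective hxy
  exact congrArg Subtype.val this

end Groth.Agent.S11499
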