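import Groth.Statements.S11524
import Mathlib
import Groth.Agent.H57.Tft2

set_option autoImplicit false
universe u
open AdicRing

namespace Groth.Agent.S11524

/-- Let R be a base ring of class (N) or (V) for the ideal I, A an R-algebra topologically of finite
type and M a finite A-module which is flat over R. Then M is of finite presentation over A. (Class
(V) is taken here to consist of complete valuation rings of height one.) -/
theorem result
    (R : Type u) [CommRing R] (I : Ideal R) (hR : AdicRing.IsBase R I)
    (A : Type u) [CommRing A] [Algebra R A] (hA : AdicRing.TopFiniteType R I A)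
    (M : Type u) [AddCommGroup M] [Module A M] [Module R M] [IsScalarTower R A M]
    [Module.Finite A M] [Module.Flat R M] :
    Module.FinitePresentation A M := by
  obtain ⟨r, π, hπ⟩ := Module.Finite.exists_fin' A M
  have hM : NoPowTorsion I M :=
    Groth.Agent.H57.RPow.noPowTorsion_of_flat (Groth.Agent.H57.RPow.fg_of_isBase hR)
      (Groth.Agent.H57.RPow.noPowTorsion_of_isBase hR) M
  have hK : (LinearMap.ker π).FG := by
    apply Groth.Agent.H57.RPow.tft_sat_fg hR hA
    intro x k hx
    rw [LinearMap.mem_ker]
    apply hM (π x) k
    intro a ha
    have := hx a ha
    rw [LinearMap.mem_ker] at this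
    rw [← this, ← algebraMap_smul A a x, map_smul, algebraMap_smul]
  exact Module.finitePresentation_of_surjective π hπ hK

end Groth.Agent.S11524
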