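import Groth.Statements.S11526
import Mathlib
import Groth.Agent.H57.Tft2

set_option autoImplicit false
universe u
open AdicRing

namespace Groth.Agent.S11526

/-- Let R be a base ring of class (N) or (V) for the ideal I and A an R-algebra topologically of finite
presentation. Then A is a coherent ring: every finitely generated ideal of A is finitely presented
as an A-module. -/
theorem result
    (R : Type u) [CommRing R] (I : Ideal R) (hR : AdicRing.IsBase R I)
    (A : Type u) [CommRing A] [Algebra R A] (hA : AdicRing.TopFinitePresentation R I A)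
    (J : Ideal A) (hJ : J.FG) :
    Module.FinitePresentation A J := by
  classical
  obtain ⟨n, φ, hφ, hker⟩ := hA
  let _ : Algebra (RPow R I n) A := φ.toRingHom.toAlgebra
  have halg : ∀ p : RPow R I n, algebraMap (RPow R I n) A p = φ p := fun p => rfl
  obtain ⟨r, a, ha⟩ := Submodule.fg_iff_exists_fin_generating_family.mp hJ
  obtain ⟨s, α, hα⟩ := Submodule.fg_iff_exists_fin_generating_family.mp hker
  subst ha
  -- lifts of the generators
  have hlift : ∀ i, ∃ p : RPow R I n, φ p = a i := fun i => hφ (a i)
  choose p hp using hlift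
  let π₀ : (Fin r → A) →ₗ[A] A := Fintype.linearCombination A a
  have hrange : LinearMap.range π₀ = Submodule.span A (Set.range a) :=
    Fintype.range_linearCombination A a
  rw [← hrange]
  -- the key linear map over `R⟨ζ⟩`
  let Ψ : ((Fin r → RPow R I n) × (Fin s → RPow R I n)) →ₗ[RPow R I n] RPow R I n :=
    (Fintype.linearCombination (RPow R I n) p).coprod (Fintype.linearCombination (RPow R I n) α)
  have hΨ : (LinearMap.ker Ψ).FG := by
    apply Groth.Agent.H57.RPow.sat_fg hR
    intro x k hx
    rw [LinearMap.mem_ker]
    apply Groth.Agent.H57.RPow.noPowTorsion_rpow hR (Ψ x) k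
    intro c hc
    have := hx c hc
    rw [LinearMap.mem_ker] at this
    rw [← this, ← algebraMap_smul (RPow R I n) c x, map_smul, algebraMap_smul]
  let ρ : (Fin r → RPow R I n) →ₗ[RPow R I n] (Fin r → A) :=
    (Algebra.linearMap (RPow R I n) A).compLeft (Fin r)
  have hρ : Function.Surjective ρ := by
    intro y
    choose x hx using fun i => hφ (y i)
    exact ⟨x, funext hx⟩
  let Θ : (Fin r → RPow R I n) →ₗ[RPow R I n] A := (π₀.restrictScalars (RPow R I n)) ∘ₗ ρ
  have hΘ : ∀ x, Θ x = φ (∑ i, x i * p i) := by
    intro x
    change π₀ (ρ x) = _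
    rw [Fintype.linearCombination_apply, map_sum]
    refine Finset.sum_congr rfl fun i _ => ?_
    rw [map_mul, hp, smul_eq_mul]
    rfl
  have hkerΘ : LinearMap.ker Θ = (LinearMap.ker Ψ).map (LinearMap.fst _ _ _) := by
    ext x
    rw [LinearMap.mem_ker, hΘ, Submodule.mem_map]
    constructor
    · intro hx
      have h1 : ∑ i, x i * p i ∈ RingHom.ker φ.toRingHom := hx
      rw [← hα] at h1
      obtain ⟨y, hy⟩ := (Submodule.mem_span_range_iff_exists_fun _).mp h1
      refine ⟨(x, -y), ?_, rfl⟩
      rw [LinearMap.mem_ker, LinearMap.coprod_apply, Fintype.linearCombination_apply,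
        Fintype.linearCombination_apply]
      simp only [smul_eq_mul, Pi.neg_apply, neg_mul, Finset.sum_neg_distrib]
      simp only [smul_eq_mul] at hy
      rw [hy, add_neg_cancel]
    · rintro ⟨z, hz, rfl⟩
      rw [LinearMap.mem_ker, LinearMap.coprod_apply, Fintype.linearCombination_apply,
        Fintype.linearCombination_apply] at hz
      simp only [smul_eq_mul] at hz
      have h2 : ∑ i, z.1 i * p i = -∑ j, z.2 j * α j := eq_neg_of_add_eq_zero_left hz
      change φ (∑ i, z.1 i * p i) = 0
      rw [h2, map_neg, neg_eq_zero]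
      have h3 : ∑ j, z.2 j * α j ∈ RingHom.ker φ.toRingHom := by
        rw [← hα]
        exact Submodule.sum_mem _ fun j _ =>
          Submodule.smul_mem _ _ (Submodule.subset_span ⟨j, rfl⟩)
      exact h3
  have hkerΘfg : (LinearMap.ker Θ).FG := by
    rw [hkerΘ]
    exact hΨ.map _
  have hkerπ : (LinearMap.ker π₀).FG := by
    apply Submodule.FG.of_restrictScalars (RPow R I n)
    have h1 : (LinearMap.ker π₀).restrictScalars (RPow R I n) =
        (LinearMap.ker Θ).map ρ := by
      have : LinearMap.ker Θ = (LinearMap.ker (π₀.restrictScalars (RPow R I n))).comap ρ :=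
        LinearMap.ker_comp _ _
      rw [this, Submodule.map_comap_eq_of_surjective hρ]
      rfl
    rw [h1]
    exact hkerΘfg.map _
  have hkerπ' : (LinearMap.ker π₀.rangeRestrict).FG := by
    rwa [LinearMap.ker_rangeRestrict]
  exact Module.finitePresentation_of_surjective π₀.rangeRestrict π₀.surjective_rangeRestrict hkerπ'

end Groth.Agent.S11526
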