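import Groth.Statements.S1153
-- import your own Groth.Agent.* helpers here
import Groth.Agent.H4.ProperOver2
import Groth.Agent.H1.Descent

set_option autoImplicit false
open CategoryTheory CategoryTheory.Limits AlgebraicGeometry Opposite
universe u
open Desc

namespace Groth.Agent.S1153

/-- Let f : X ⟶ Y be locally of finite type, Z a closed subset of X and g : Y' ⟶ Y quasi-compact, flat
and surjective. If the preimage of Z in X ×_Y Y' is proper over Y', then Z is proper over Y. -/
theorem result {X Y Y' : Scheme.{u}} (f : X ⟶ Y) [LocallyOfFiniteType f] (Z : Set X) (hZ : IsClosed Z)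
    (g : Y' ⟶ Y) [QuasiCompact g] [Flat g] [Surjective g]
    (h : ClSub.IsProperOver (pullback.snd f g) ((pullback.fst f g).base ⁻¹' Z)) :
    ClSub.IsProperOver f Z := by
  open Scheme.IdealSheafData MorphismProperty in
  classical
  let i : (vanishingIdeal ⟨Z, hZ⟩).subscheme ⟶ X := (vanishingIdeal ⟨Z, hZ⟩).subschemeι
  have hri : Set.range i = Z := Groth.Agent.H4.range_vanishingIdeal_subschemeι Z hZ
  let j : pullback (i ≫ f) g ⟶ pullback f g :=
    pullback.map (i ≫ f) g f g i (𝟙 _) (𝟙 _) (by simp) (by simp)
  have hjfst : j ≫ pullback.fst f g = pullback.fst (i ≫ f) g ≫ i := pullback.lift_fst _ _ _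
  have hjsnd : j ≫ pullback.snd f g = pullback.snd (i ≫ f) g := by
    exact (pullback.lift_snd _ _ _).trans (Category.comp_id _)
  have sq : IsPullback j (pullback.fst (i ≫ f) g) (pullback.fst f g) i := by
    refine IsPullback.of_right ?_ hjfst (IsPullback.of_hasPullback f g).flip
    rw [hjsnd]
    exact (IsPullback.of_hasPullback (i ≫ f) g).flip
  have hci : IsClosedImmersion i := inferInstance
  have hcj : IsClosedImmersion j := MorphismProperty.of_isPullback sq.flip hci
  have hrj : Set.range j = (pullback.fst f g).base ⁻¹' Z := by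
    have h1 : j = sq.isoPullback.hom ≫ pullback.fst (pullback.fst f g) i :=
      (sq.isoPullback_hom_fst).symm
    have hs : Function.Surjective sq.isoPullback.hom :=
      sq.isoPullback.hom.homeomorph.surjective
    rw [h1, Scheme.Hom.comp_base, TopCat.coe_comp, Set.range_comp, hs.range_eq, Set.image_univ,
      Scheme.Pullback.range_fst, hri]
  have hp : IsProper (j ≫ pullback.snd f g) :=
    Groth.Agent.H4.isProper_of_isProperOver (pullback.snd f g) j (hrj ▸ h)
  rw [hjsnd] at hp
  have hQ : (@Surjective ⊓ @Flat ⊓ @QuasiCompact : MorphismProperty Scheme.{u}) g :=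
    ⟨⟨inferInstance, inferInstance⟩, inferInstance⟩
  have := Groth.Agent.H1.isProper_descendsAlong_fpqc.{u}
  have hpf : IsProper (i ≫ f) :=
    MorphismProperty.of_pullback_snd_of_descendsAlong (P := @IsProper)
      (Q := (@Surjective ⊓ @Flat ⊓ @QuasiCompact : MorphismProperty Scheme.{u})) hQ hp
  exact Groth.Agent.H4.isProperOver_of_closedImmersion' f i Z hri

end Groth.Agent.S1153
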