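import Groth.Statements.S11530
import Mathlib
import Groth.Agent.H57.Tft3

set_option autoImplicit false
universe u
open AdicRing

namespace Groth.Agent.S11530

/-- Let R be a base ring of class (N) or (V) for the ideal I and A an R-algebra which is complete and
separated for the I-adic topology. Then A is topologically of finite presentation over R if and only
if, for every n, the truncation A/I^(n+1)A is an algebra of finite presentation over R/I^(n+1). -/
theorem result
    (R : Type u) [CommRing R] (I : Ideal R) (hR : AdicRing.IsBase R I)
    (A : Type u) [CommRing A] [Algebra R A] [IsAdicComplete (I.map (algebraMap R A)) A] :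
    AdicRing.TopFinitePresentation R I A ↔
      ∀ n : ℕ, (Ideal.quotientMap ((I ^ (n + 1)).map (algebraMap R A)) (algebraMap R A)
        Ideal.le_comap_map).FinitePresentation := by
  have hI := Groth.Agent.H57.RPow.fg_of_isBase hR
  constructor
  · intro hA n
    exact Groth.Agent.H57.RPow.trunc_fp_of_tfp hI hA (n + 1)
  · intro h
    have hft : Algebra.FiniteType R (A ⧸ I.map (algebraMap R A)) := by
      have h0 := RingHom.FiniteType.of_finitePresentation (h 0)
      have h1 : (Ideal.Quotient.mk (I ^ (0 + 1))).FiniteType :=
        RingHom.FiniteType.of_surjective _ Ideal.Quotient.mk_surjective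
      have h2 := h0.comp h1
      rw [Ideal.quotientMap_comp_mk] at h2
      have h3 : Algebra.FiniteType R (A ⧸ (I ^ (0 + 1)).map (algebraMap R A)) :=
        RingHom.finiteType_algebraMap.mp h2
      have h4 : (I ^ (0 + 1)).map (algebraMap R A) = I.map (algebraMap R A) := by
        rw [zero_add, pow_one]
      rwa [h4] at h3
    obtain ⟨m, Φ, hΦ⟩ := Groth.Agent.H57.RPow.tft_of_finiteType_quotient hI hft
    exact ⟨m, Φ, hΦ, Groth.Agent.H57.RPow.ker_fg_of_trunc_fp hR Φ hΦ h⟩

end Groth.Agent.S11530
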