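import Groth.Statements.S11531
import Mathlib
import Groth.Agent.H57.Tft2
import Groth.Agent.H57.FlatCrit

set_option autoImplicit false
universe u
open scoped TensorProduct
open AdicRing

namespace Groth.Agent.S11531

/-- Let R be a base ring of class (N) or (V) for the ideal I, A → B a morphism of R-algebras
topologically of finite type and M a finite B-module. Then M is flat over A if and only if, for
every n, writing A_n = A/I^(n+1)A, the module A_n ⊗_A M is flat over A_n. -/
theorem result
    (R : Type u) [CommRing R] (I : Ideal R) (hR : AdicRing.IsBase R I)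
    (A : Type u) [CommRing A] [Algebra R A] (hA : AdicRing.TopFiniteType R I A)
    (B : Type u) [CommRing B] [Algebra R B] [Algebra A B] [IsScalarTower R A B]
    (hB : AdicRing.TopFiniteType R I B)
    (M : Type u) [AddCommGroup M] [Module B M] [Module A M] [IsScalarTower A B M]
    [Module.Finite B M] :
    Module.Flat A M ↔
      ∀ n : ℕ, Module.Flat (AdicRing.trunc A I n) ((AdicRing.trunc A I n) ⊗[A] M) := by
  constructor
  · intro hflat n
    infer_instance
  · intro h
    apply Groth.Agent.H57.FlatCrit.flat_of_artinRees (S := B) (I.map (algebraMap R A))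
    · -- Artin–Rees
      intro J _ n
      obtain ⟨n₀, hn₀⟩ := Groth.Agent.H57.RPow.tft_artinRees hR hA (M := A) J
      refine ⟨n + n₀ + 1, Nat.succ_pos _, ?_⟩
      intro x hx
      have hx1 : x ∈ (I.map (algebraMap R A)) ^ (n + n₀) :=
        Ideal.pow_le_pow_right (Nat.le_succ _) hx.1
      have hx2 : x ∈ (I ^ (n + n₀) • (⊤ : Submodule R A)) ⊓ J.restrictScalars R := by
        refine ⟨?_, hx.2⟩
        rw [Ideal.smul_top_eq_map, Ideal.map_pow]
        exact hx1
      have hx3 := hn₀ n hx2
      rw [← Ideal.smul_restrictScalars, Ideal.map_pow] at hx3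
      exact hx3
    · -- separatedness
      intro J hJ x hx
      have hJfin : Module.Finite A J := Module.Finite.iff_fg.mpr hJ
      have hfin : Module.Finite B (M ⊗[A] J) :=
        Groth.Agent.H70.FC.FP.finite_tensorProduct_of_finite
      let _ : Module R (M ⊗[A] J) := Module.compHom (M ⊗[A] J) (algebraMap R B)
      have htower : IsScalarTower R B (M ⊗[A] J) :=
        IsScalarTower.of_algebraMap_smul fun r x => rfl
      have hc : IsAdicComplete I (M ⊗[A] J) := Groth.Agent.H57.RPow.tft_isAdicComplete hR hB
      have hh : IsHausdorff (I.map (algebraMap R B)) (M ⊗[A] J) :=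
        IsHausdorff.map_algebraMap_iff.mpr hc.toIsHausdorff
      have hmap : (I.map (algebraMap R A)).map (algebraMap A B) = I.map (algebraMap R B) := by
        rw [Ideal.map_map, ← IsScalarTower.algebraMap_eq]
      apply hh.haus'
      intro n
      rw [SModEq.zero, ← hmap]
      exact hx n
    · -- flatness of the truncations
      intro n hn
      obtain ⟨n', rfl⟩ : ∃ n', n = n' + 1 := ⟨n - 1, by omega⟩
      exact Groth.Agent.H57.FlatCrit.flat_quot_of_eq (Ideal.map_pow _ _ _) (h n')

end Groth.Agent.S11531
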