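import Groth.Statements.S11532
import Mathlib
import Groth.Agent.H57.Tft2
import Groth.Agent.S11531

set_option autoImplicit false
universe u
open scoped TensorProduct
open AdicRing

namespace Groth.Agent.S11532

/-- Let R be a base ring of class (N) or (V) for the ideal I, A → B a morphism of R-algebras
topologically of finite type and M a finite B-module. Then M is a faithfully flat A-module exactly
when, for every n, writing A_n = A/I^(n+1)A, the module A_n ⊗_A M is faithfully flat over A_n. -/
theorem result
    (R : Type u) [CommRing R] (I : Ideal R) (hR : AdicRing.IsBase R I)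
    (A : Type u) [CommRing A] [Algebra R A] (hA : AdicRing.TopFiniteType R I A)
    (B : Type u) [CommRing B] [Algebra R B] [Algebra A B] [IsScalarTower R A B]
    (hB : AdicRing.TopFiniteType R I B)
    (M : Type u) [AddCommGroup M] [Module B M] [Module A M] [IsScalarTower A B M]
    [Module.Finite B M] :
    Module.FaithfullyFlat A M ↔
      ∀ n : ℕ, Module.FaithfullyFlat (AdicRing.trunc A I n) ((AdicRing.trunc A I n) ⊗[A] M) := by
  constructor
  · intro hff n
    infer_instance
  · intro h
    have hflat : Module.Flat A M :=
      (Groth.Agent.S11531.result R I hR A hA B hB M).mpr (fun n => (h n).toFlat)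
    refine { toFlat := hflat, submodule_ne_top := fun 𝔪 h𝔪 htop => ?_ }
    -- `A` is complete, so `IA` lies in every maximal ideal
    have hc : IsAdicComplete I A := Groth.Agent.H57.RPow.tft_isAdicComplete hR hA
    have hc' : IsAdicComplete (I.map (algebraMap R A)) A :=
      (IsAdicComplete.map_algebraMap_iff (S := A) I A).mpr hc
    have hjac : I.map (algebraMap R A) ≤ 𝔪 :=
      (IsAdicComplete.le_jacobson_bot _).trans (sInf_le ⟨bot_le, h𝔪⟩)
    have hK : (I ^ (0 + 1)).map (algebraMap R A) ≤ 𝔪 := by
      rw [zero_add, pow_one]
      exact hjac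
    have h1 : 𝔪.map (Ideal.Quotient.mk ((I ^ (0 + 1)).map (algebraMap R A))) ≠ ⊤ := by
      intro htop'
      have h1' : (1 : AdicRing.trunc A I 0) ∈
          𝔪.map (Ideal.Quotient.mk ((I ^ (0 + 1)).map (algebraMap R A))) := by
        rw [htop']; trivial
      obtain ⟨x, hx, hx1⟩ := (Ideal.mem_map_iff_of_surjective _
        Ideal.Quotient.mk_surjective).mp h1'
      have h2 : x - 1 ∈ (I ^ (0 + 1)).map (algebraMap R A) := by
        rw [← Ideal.Quotient.eq_zero_iff_mem, map_sub, hx1, map_one, sub_self]
      have h3 : (1 : A) ∈ 𝔪 := by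
        have := 𝔪.sub_mem hx (hK h2)
        rwa [sub_sub_cancel] at this
      exact h𝔪.ne_top ((Ideal.eq_top_iff_one _).mpr h3)
    have h2 : 𝔪.map (Ideal.Quotient.mk ((I ^ (0 + 1)).map (algebraMap R A))) •
        (⊤ : Submodule (AdicRing.trunc A I 0) ((AdicRing.trunc A I 0) ⊗[A] M)) = ⊤ := by
      rw [eq_top_iff]
      rintro z -
      induction z using TensorProduct.induction_on with
      | zero => exact Submodule.zero_mem _
      | add x y hx hy => exact Submodule.add_mem _ hx hy
      | tmul a m =>
        have key : ∀ m : M, (1 : AdicRing.trunc A I 0) ⊗ₜ[A] m ∈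
            𝔪.map (Ideal.Quotient.mk ((I ^ (0 + 1)).map (algebraMap R A))) •
              (⊤ : Submodule (AdicRing.trunc A I 0) ((AdicRing.trunc A I 0) ⊗[A] M)) := by
          intro m
          have hm : m ∈ 𝔪 • (⊤ : Submodule A M) := by rw [htop]; trivial
          refine Submodule.smul_induction_on hm ?_ ?_
          · intro r hr m' _
            have : (1 : AdicRing.trunc A I 0) ⊗ₜ[A] (r • m') =
                (Ideal.Quotient.mk ((I ^ (0 + 1)).map (algebraMap R A)) r) •
                  ((1 : AdicRing.trunc A I 0) ⊗ₜ[A] m') := by
              rw [TensorProduct.tmul_smul, TensorProduct.smul_tmul', TensorProduct.smul_tmul',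
                smul_eq_mul, mul_one, Algebra.smul_def, mul_one]
              rfl
            rw [this]
            exact Submodule.smul_mem_smul (Ideal.mem_map_of_mem _ hr) Submodule.mem_top
          · intro x y hx hy
            rw [TensorProduct.tmul_add]
            exact Submodule.add_mem _ hx hy
        have : a ⊗ₜ[A] m = a • ((1 : AdicRing.trunc A I 0) ⊗ₜ[A] m) := by
          rw [TensorProduct.smul_tmul', smul_eq_mul, mul_one]
        rw [this]
        exact Submodule.smul_mem _ _ (key m)
    exact ((Module.FaithfullyFlat.iff_flat_and_proper_ideal (AdicRing.trunc A I 0) _).mp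
      (h 0)).2 _ h1 h2

end Groth.Agent.S11532
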