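import Groth.Statements.S11533
import Mathlib
import Groth.Agent.H57.CLoc
import Groth.Agent.S11531

set_option autoImplicit false
universe u
open AdicRing

namespace Groth.Agent.S11533

/-- Let R be a base ring of class (N) or (V) for the ideal I, A an R-algebra topologically of finite
type and f_1, ..., f_r elements of A generating the unit ideal. Then every complete localization
A⟨f_i⁻¹⟩ is flat over A, and the product of the A⟨f_i⁻¹⟩ is faithfully flat over A. -/
theorem result
    (R : Type u) [CommRing R] (I : Ideal R) (hR : AdicRing.IsBase R I)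
    (A : Type u) [CommRing A] [Algebra R A] (hA : AdicRing.TopFiniteType R I A)
    (r : ℕ) (f : Fin r → A) (hf : Ideal.span (Set.range f) = ⊤) :
    (∀ i, Module.Flat A (AdicRing.CLoc I (f i))) ∧
      Module.FaithfullyFlat A (∀ i, AdicRing.CLoc I (f i)) := by
  classical
  have hI := Groth.Agent.H57.RPow.fg_of_isBase hR
  have hflat : ∀ i, Module.Flat A (AdicRing.CLoc I (f i)) := by
    intro i
    have hB := Groth.Agent.H57.CLoc.tft_cloc hI hA (f i)
    rw [Groth.Agent.S11531.result R I hR A hA (AdicRing.CLoc I (f i)) hB (AdicRing.CLoc I (f i))]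
    intro n
    exact Groth.Agent.H57.CLoc.flat_trunc_cloc hI (f i) (n + 1)
  refine ⟨hflat, ?_⟩
  have hflatpi : Module.Flat A (∀ i, AdicRing.CLoc I (f i)) :=
    Module.Flat.of_linearEquiv
      (DFinsupp.linearEquivFunOnFintype (R := A) (M := fun i => AdicRing.CLoc I (f i))).symm
  refine { toFlat := hflatpi, submodule_ne_top := fun 𝔪 h𝔪 htop => ?_ }
  -- some `f i` lies outside `𝔪`
  obtain ⟨i, hi⟩ : ∃ i, f i ∉ 𝔪 := by
    by_contra hcon
    push Not at hcon
    have : Ideal.span (Set.range f) ≤ 𝔪 :=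
      Ideal.span_le.mpr (by rintro _ ⟨i, rfl⟩; exact hcon i)
    rw [hf] at this
    exact h𝔪.ne_top (top_le_iff.mp this)
  -- `IA ≤ 𝔪`
  have hc : IsAdicComplete I A := Groth.Agent.H57.RPow.tft_isAdicComplete hR hA
  have hc' : IsAdicComplete (I.map (algebraMap R A)) A :=
    (IsAdicComplete.map_algebraMap_iff (S := A) I A).mpr hc
  have hjac : I.map (algebraMap R A) ≤ 𝔪 :=
    (IsAdicComplete.le_jacobson_bot _).trans (sInf_le ⟨bot_le, h𝔪⟩)
  have hK : (I ^ (0 + 1)).map (algebraMap R A) ≤ 𝔪 := by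
    rw [zero_add, pow_one]
    exact hjac
  -- projection to the `i`-th factor
  have htop_i : 𝔪 • (⊤ : Submodule A (AdicRing.CLoc I (f i))) = ⊤ := by
    have := congrArg (Submodule.map (LinearMap.proj i :
      (∀ i, AdicRing.CLoc I (f i)) →ₗ[A] AdicRing.CLoc I (f i))) htop
    rw [Submodule.map_smul'', Submodule.map_top,
      LinearMap.range_eq_top.mpr (LinearMap.proj_surjective i)] at this
    exact this
  -- the character `A⟨f⁻¹⟩ → A/𝔪`
  have hloc := Groth.Agent.H57.CLoc.isLocalization_trunc hI (f i) (0 + 1)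
  have : Nontrivial (A ⧸ 𝔪) := Ideal.Quotient.nontrivial_iff.mpr h𝔪.ne_top
  have hfield : IsField (A ⧸ 𝔪) := (Ideal.Quotient.maximal_ideal_iff_isField_quotient 𝔪).mp h𝔪
  have hunit : IsUnit (Ideal.Quotient.factor hK
      (Ideal.Quotient.mk ((I ^ (0 + 1)).map (algebraMap R A)) (f i))) := by
    rw [Ideal.Quotient.factor_mk]
    have hne : Ideal.Quotient.mk 𝔪 (f i) ≠ 0 := by
      rwa [Ne, Ideal.Quotient.eq_zero_iff_mem]
    obtain ⟨b, hb⟩ := hfield.mul_inv_cancel hne
    exact IsUnit.of_mul_eq_one _ hb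
  let χ₀ : (AdicRing.CLoc I (f i) ⧸ ((I ^ (0 + 1)).map (algebraMap R A)).map
      (algebraMap A (AdicRing.CLoc I (f i)))) →+* A ⧸ 𝔪 :=
    IsLocalization.Away.lift (Ideal.Quotient.mk ((I ^ (0 + 1)).map (algebraMap R A)) (f i)) hunit
  let χ : AdicRing.CLoc I (f i) →+* A ⧸ 𝔪 := χ₀.comp (Ideal.Quotient.mk _)
  have hχ : ∀ a : A, χ (algebraMap A (AdicRing.CLoc I (f i)) a) = Ideal.Quotient.mk 𝔪 a := by
    intro a
    change χ₀ (Ideal.Quotient.mk _ (algebraMap A (AdicRing.CLoc I (f i)) a)) = _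
    have : Ideal.Quotient.mk (((I ^ (0 + 1)).map (algebraMap R A)).map
        (algebraMap A (AdicRing.CLoc I (f i)))) (algebraMap A (AdicRing.CLoc I (f i)) a) =
        algebraMap (A ⧸ (I ^ (0 + 1)).map (algebraMap R A)) _
          (Ideal.Quotient.mk ((I ^ (0 + 1)).map (algebraMap R A)) a) := rfl
    rw [this, IsLocalization.Away.lift_eq, Ideal.Quotient.factor_mk]
  have hzero : ∀ c ∈ 𝔪 • (⊤ : Submodule A (AdicRing.CLoc I (f i))), χ c = 0 := by
    intro c hc
    refine Submodule.smul_induction_on hc ?_ ?_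
    · intro a ha c _
      rw [Algebra.smul_def, map_mul, hχ, Ideal.Quotient.eq_zero_iff_mem.mpr ha, zero_mul]
    · intro x y hx hy
      rw [map_add, hx, hy, add_zero]
  have h1 : χ 1 = 0 := hzero 1 (by rw [htop_i]; trivial)
  rw [map_one] at h1
  exact one_ne_zero h1

end Groth.Agent.S11533
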