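import Groth.Statements.S11536
import Mathlib
import Groth.Agent.H57.CLoc
import Groth.Agent.S11535
import Groth.Agent.S11533

set_option autoImplicit false
universe u
open AdicRing

namespace Groth.Agent.S11536

/-- Let R be a base ring of class (N) or (V) for the ideal I, A an R-algebra which is complete and
separated for the I-adic topology, and f_1, ..., f_r elements generating the unit ideal of A. Then A
is admissible over R if and only if each complete localization A⟨f_i⁻¹⟩ is. -/
theorem result
    (R : Type u) [CommRing R] (I : Ideal R) (hR : AdicRing.IsBase R I)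
    (A : Type u) [CommRing A] [Algebra R A] [IsAdicComplete (I.map (algebraMap R A)) A]
    (r : ℕ) (f : Fin r → A) (hf : Ideal.span (Set.range f) = ⊤) :
    AdicRing.Admissible R I A ↔ ∀ i, AdicRing.Admissible R I (AdicRing.CLoc I (f i)) := by
  classical
  have hI := Groth.Agent.H57.RPow.fg_of_isBase hR
  -- torsion conversion between `I` and `IA`
  have conv : ∀ (M : Type u) [AddCommGroup M] [Module A M] [Module R M] [IsScalarTower R A M],
      AdicRing.NoPowTorsion (I.map (algebraMap R A)) M ↔ AdicRing.NoPowTorsion I M := by
    intro M _ _ _ _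
    constructor
    · intro h x n hx
      apply h x n
      intro b hb
      rw [← Ideal.map_pow] at hb
      refine Submodule.span_induction ?_ ?_ ?_ ?_ hb
      · rintro _ ⟨a, ha, rfl⟩
        rw [algebraMap_smul]
        exact hx a ha
      · rw [zero_smul]
      · intro b c _ _ hb hc
        rw [add_smul, hb, hc, add_zero]
      · intro c b _ hb
        rw [smul_eq_mul, mul_smul, hb, smul_zero]
    · intro h x n hx
      apply h x n
      intro a ha
      rw [← algebraMap_smul A a x]
      apply hx
      rw [← Ideal.map_pow]
      exact Ideal.mem_map_of_mem _ ha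
  constructor
  · rintro ⟨htfp, htors⟩ i
    have htft : AdicRing.TopFiniteType R I A := by
      obtain ⟨n, φ, hφ, -⟩ := htfp
      exact ⟨n, φ, hφ⟩
    refine ⟨(Groth.Agent.S11535.result R I hR A r f hf).mp htfp i, ?_⟩
    have hflat := (Groth.Agent.S11533.result R I hR A htft r f hf).1 i
    rw [← conv]
    exact Groth.Agent.H57.RPow.noPowTorsion_of_flat (hI.map _) ((conv A).mpr htors) _
  · intro h
    have htfp : AdicRing.TopFinitePresentation R I A :=
      (Groth.Agent.S11535.result R I hR A r f hf).mpr (fun i => (h i).1)
    refine ⟨htfp, ?_⟩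
    have htft : AdicRing.TopFiniteType R I A := by
      obtain ⟨n, φ, hφ, -⟩ := htfp
      exact ⟨n, φ, hφ⟩
    have hff := (Groth.Agent.S11533.result R I hR A htft r f hf).2
    intro x n hx
    -- the image of `x` in every `A⟨f_i⁻¹⟩` vanishes
    have hxi : ∀ i, algebraMap A (AdicRing.CLoc I (f i)) x = 0 := by
      intro i
      apply (h i).2 _ n
      intro a ha
      rw [Algebra.smul_def, IsScalarTower.algebraMap_apply R A (AdicRing.CLoc I (f i)),
        ← map_mul, ← Algebra.smul_def, hx a ha, map_zero]
    -- multiplication by `x` is zero after tensoring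
    let μ : A →ₗ[A] A := LinearMap.mulLeft A x
    have hsm : ∀ c : (∀ i, AdicRing.CLoc I (f i)), x • c = 0 := by
      intro c
      funext i
      rw [Pi.smul_apply, Algebra.smul_def, hxi i, zero_mul]
      rfl
    have hμ : μ.lTensor (∀ i, AdicRing.CLoc I (f i)) = 0 := by
      apply LinearMap.ext
      intro z
      induction z using TensorProduct.induction_on with
      | zero => simp
      | add y z hy hz =>
        rw [LinearMap.zero_apply] at hy hz ⊢
        rw [map_add, hy, hz, add_zero]
      | tmul c a =>
        rw [LinearMap.lTensor_tmul, LinearMap.zero_apply]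
        have h1 : μ a = x • a := rfl
        rw [h1, TensorProduct.tmul_smul, TensorProduct.smul_tmul', hsm c, TensorProduct.zero_tmul]
    have hμ0 : μ = 0 := (Module.FaithfullyFlat.zero_iff_lTensor_zero A _ μ).mpr hμ
    have h2 : μ 1 = 0 := by rw [hμ0]; rfl
    have h3 : μ 1 = x * 1 := rfl
    rw [h3, mul_one] at h2
    exact h2

end Groth.Agent.S11536
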