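import Groth.Statements.S11537
import Mathlib
import Groth.Agent.H57.ComplFT

set_option autoImplicit false
universe u
open AdicRing

namespace Groth.Agent.S11537

/-- Let R be a base ring of class (N) or (V) for the ideal I, A an R-algebra topologically of finite
type, B a finitely generated A-algebra and M a finite B-module. The canonical map from B̂ ⊗_B M to
M̂, the hats denoting IB-adic completions, is bijective. -/
theorem result
    (R : Type u) [CommRing R] (I : Ideal R) (hR : AdicRing.IsBase R I)
    (A : Type u) [CommRing A] [Algebra R A] (hA : AdicRing.TopFiniteType R I A)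
    (B : Type u) [CommRing B] [Algebra R B] [Algebra A B] [IsScalarTower R A B]
    [Algebra.FiniteType A B]
    (M : Type u) [AddCommGroup M] [Module B M] [Module.Finite B M] :
    Function.Bijective
      (AdicCompletion.ofTensorProduct (I.map (algebraMap R B)) M) := by
  have hI := Groth.Agent.H57.RPow.fg_of_isBase hR
  constructor
  · rw [injective_iff_map_eq_zero]
    intro z hz
    have htft := Groth.Agent.H57.ComplFT.tft_adicCompletion hI B hA
    have hfin : Module.Finite (AdicCompletion (I.map (algebraMap R B)) B)
        (TensorProduct B (AdicCompletion (I.map (algebraMap R B)) B) M) := inferInstance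
    have hc : IsAdicComplete I (TensorProduct B (AdicCompletion (I.map (algebraMap R B)) B) M) :=
      Groth.Agent.H57.RPow.tft_isAdicComplete hR htft
    have hh : IsHausdorff (I.map (algebraMap R (AdicCompletion (I.map (algebraMap R B)) B)))
        (TensorProduct B (AdicCompletion (I.map (algebraMap R B)) B) M) :=
      IsHausdorff.map_algebraMap_iff.mpr hc.toIsHausdorff
    apply hh.haus'
    intro k
    rw [SModEq.zero, ← Groth.Agent.H57.ComplFT.map_map_adicCompletion]
    exact Groth.Agent.H57.ComplFT.mem_of_ofTensorProduct_eq_zero _ M (hI.map _) z hz k
  · exact AdicCompletion.ofTensorProduct_surjective_of_finite _ M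

end Groth.Agent.S11537
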