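import Groth.Statements.S11538
import Mathlib
import Groth.Agent.H57.FlatGlue

set_option autoImplicit false
universe u v
open scoped TensorProduct
open AdicRing

namespace Groth.Agent.S11538

/-- Let A be a commutative ring, π an element of A which is not a zero divisor and M an A-module. Then M
is flat over A if and only if the π-power torsion of M vanishes, (A/πA) ⊗_A M is flat over A/πA, and
A[π⁻¹] ⊗_A M is flat over A[π⁻¹]. -/
theorem result
    (A : Type u) [CommRing A] (π : A) (hπ : π ∈ nonZeroDivisors A)
    (M : Type v) [AddCommGroup M] [Module A M] :
    Module.Flat A M ↔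
      (∀ (x : M) (n : ℕ), π ^ n • x = 0 → x = 0) ∧
        Module.Flat (A ⧸ Ideal.span {π}) ((A ⧸ Ideal.span {π}) ⊗[A] M) ∧
        Module.Flat (Localization.Away π) ((Localization.Away π) ⊗[A] M) := by
  constructor
  · intro h
    refine ⟨fun x n hx => ?_, inferInstance, inferInstance⟩
    have hreg := Module.Flat.isSMulRegular_of_nonZeroDivisors (M := M) (pow_mem hπ n)
    exact hreg (hx.trans (smul_zero _).symm)
  · rintro ⟨htors, hflatB, hflatL⟩
    have hM1 : ∀ x : M, π • x = 0 → x = 0 := fun x hx => htors x 1 (by simpa using hx)
    rw [Module.Flat.iff_rTensor_injective']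
    intro I
    rw [injective_iff_map_eq_zero]
    intro z hz
    -- Step 1: z is killed by a power of π
    have hstep1 : ∃ n : ℕ, π ^ n • z = 0 := by
      have hfl : Module.Flat A ((Localization.Away π) ⊗[A] M) :=
        Module.Flat.trans A (Localization.Away π) _
      have hψ : (LinearMap.lTensor I (TensorProduct.mk A (Localization.Away π) M 1)) z = 0 := by
        apply Module.Flat.rTensor_preserves_injective_linearMap (M := (Localization.Away π) ⊗[A] M)
          I.subtype Subtype.val_injective
        have h1 := LinearMap.congr_fun (LinearMap.rTensor_comp_lTensor (R := A) I I.subtype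
          (TensorProduct.mk A (Localization.Away π) M 1)) z
        have h2 := LinearMap.congr_fun (LinearMap.lTensor_comp_rTensor (R := A) I I.subtype
          (TensorProduct.mk A (Localization.Away π) M 1)) z
        simp only [LinearMap.comp_apply] at h1 h2
        rw [h1, ← h2, hz, map_zero, map_zero]
      have hcomm : ∀ t : I ⊗[A] M,
          TensorProduct.leftComm A (Localization.Away π) I M
            (TensorProduct.mk A (Localization.Away π) (I ⊗[A] M) 1 t) =
          (LinearMap.lTensor I (TensorProduct.mk A (Localization.Away π) M 1)) t := by
        intro t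
        induction t using TensorProduct.induction_on with
        | zero => simp
        | tmul i m => simp
        | add t1 t2 h1 h2 => simp only [map_add, h1, h2]
      have h0 : TensorProduct.mk A (Localization.Away π) (I ⊗[A] M) 1 z = 0 := by
        apply (TensorProduct.leftComm A (Localization.Away π) I M).injective
        rw [hcomm, hψ, map_zero]
      obtain ⟨⟨s, n, rfl⟩, hs⟩ := (IsLocalizedModule.eq_zero_iff (Submonoid.powers π)
        (TensorProduct.mk A (Localization.Away π) (I ⊗[A] M) 1)).1 h0
      exact ⟨n, hs⟩
    -- Step 2: I ⊗ M has no π-torsion
    have hI : ∀ x : I, π • x = 0 → x = 0 := by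
      intro x hx
      apply Subtype.ext
      have : π * (x : A) = 0 := by simpa using congrArg Subtype.val hx
      simpa using (mul_left_mem_nonZeroDivisors_eq_zero_iff hπ).1 this
    obtain ⟨n, hn⟩ := hstep1
    induction n with
    | zero => simpa using hn
    | succ n ih =>
      apply ih
      apply Groth.Agent.H57.smul_regular_tensor π hM1 hI
      rw [smul_smul, ← pow_succ']
      exact hn

end Groth.Agent.S11538
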