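import Groth.Statements.S11540
import Mathlib
import Groth.Agent.H57.ChartTorsion
import Groth.Agent.S11539
import Groth.Agent.H57.Tft

set_option autoImplicit false
universe u
open AdicRing

namespace Groth.Agent.S11540

/-- Let R be a base ring of class (N) or (V) for the ideal I, A an admissible R-algebra and f_0, ...,
f_r elements of A generating an open ideal, i.e. one containing I^k A for some k. Fix i and let C_i
be the I-adic completion of the chart algebra A[ζ_j ; j ≠ i]/(f_i ζ_j − f_j ; j ≠ i). Then the
I-power torsion of C_i coincides with its f_i-power torsion. (That f_i-power torsion is I-power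
torsion is elementary; the content is the converse.) -/
theorem result
    (R : Type u) [CommRing R] (I : Ideal R) (hR : AdicRing.IsBase R I)
    (A : Type u) [CommRing A] [Algebra R A] (hA : AdicRing.Admissible R I A)
    (r : ℕ) (f : Fin (r + 1) → A) (k : ℕ)
    (hopen : (I ^ k).map (algebraMap R A) ≤ Ideal.span (Set.range f)) (i : Fin (r + 1))
    (x : AdicRing.chartCompl I f i) :
    (∃ n : ℕ, ∀ a ∈ I ^ n, a • x = 0) ↔
      ∃ n : ℕ, algebraMap A (AdicRing.chartCompl I f i) (f i) ^ n * x = 0 := by
  classical
  have hI : I.FG := Groth.Agent.H57.RPow.fg_of_isBase hR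
  have htft : TopFiniteType R I A := by
    obtain ⟨n, φ, hφ, -⟩ := hA.1
    exact ⟨n, φ, hφ⟩
  have hflat : Module.Flat (chartAlg f i) (chartCompl I f i) :=
    Groth.Agent.S11539.result R I hR A htft (chartAlg f i)
  constructor
  · rintro ⟨n, hn⟩
    obtain ⟨G, hG⟩ := (hI.pow (n := n) : (I ^ n).FG)
    obtain ⟨k', u, y, hxy, hαu⟩ := Groth.Agent.H57.ChartTorsion.exists_decomposition
      (C := chartAlg f i) (M := chartCompl I f i)
      (fun b : (G : Set R) => algebraMap R (chartAlg f i) b.1) x (fun b => by
        rw [algebraMap_smul]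
        exact hn b.1 (hG ▸ Ideal.subset_span b.2))
    have hu : ∀ j, ∀ b ∈ I ^ n, b • u j = 0 := by
      intro j
      apply Groth.Agent.H57.ChartTorsion.smul_eq_zero_of_span hG
      intro b hb
      exact (Algebra.smul_def b (u j)).trans (hαu ⟨b, hb⟩ j)
    choose N hN using fun j =>
      Groth.Agent.H57.ChartTorsion.exists_pow_mul_eq_zero_of_torsion f i hI hA.2 (u j) n (hu j)
    refine ⟨Finset.univ.sup N, ?_⟩
    rw [hxy, Finset.mul_sum]
    apply Finset.sum_eq_zero
    intro j _
    obtain ⟨e, he⟩ := Nat.exists_eq_add_of_le
      (Finset.le_sup (Finset.mem_univ j) : N j ≤ Finset.univ.sup N)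
    rw [IsScalarTower.algebraMap_apply A (chartAlg f i) (chartCompl I f i), ← map_pow,
      ← Algebra.smul_def, smul_smul, he, pow_add, mul_comm (_ ^ N j), mul_assoc, hN j, mul_zero]
    exact zero_smul (chartAlg f i) (y j)
  · rintro ⟨n, hn⟩
    have hdiv : ∀ a ∈ I ^ k, ∃ c : chartAlg f i,
        algebraMap R (chartAlg f i) a = algebraMap A (chartAlg f i) (f i) * c := by
      intro a ha
      have h1 : algebraMap R A a ∈ Ideal.span (Set.range f) :=
        hopen (Ideal.mem_map_of_mem _ ha)
      have h2 : algebraMap A (chartAlg f i) (algebraMap R A a) ∈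
          (Ideal.span (Set.range f)).map (algebraMap A (chartAlg f i)) :=
        Ideal.mem_map_of_mem _ h1
      have h3 : (Ideal.span (Set.range f)).map (algebraMap A (chartAlg f i)) ≤
          Ideal.span {algebraMap A (chartAlg f i) (f i)} := by
        rw [Ideal.map_span, Ideal.span_le]
        rintro _ ⟨_, ⟨j, rfl⟩, rfl⟩
        exact Groth.Agent.H57.ChartTorsion.algebraMap_mem_span f i j
      obtain ⟨c, hc⟩ := Ideal.mem_span_singleton'.mp (h3 h2)
      exact ⟨c, by rw [IsScalarTower.algebraMap_apply R A, ← hc, mul_comm]⟩
    have key : ∀ (n : ℕ) (y : chartCompl I f i),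
        algebraMap A (chartCompl I f i) (f i) ^ n * y = 0 → ∀ a ∈ (I ^ k) ^ n, a • y = 0 := by
      intro n
      induction n with
      | zero =>
        intro y hy a _
        rw [pow_zero, one_mul] at hy
        rw [hy, smul_zero]
      | succ n ih =>
        intro y hy a ha
        rw [pow_succ'] at ha
        refine Submodule.mul_induction_on ha ?_ ?_
        · intro b hb b' hb'
          rw [mul_comm, mul_smul]
          apply ih _ _ b' hb'
          obtain ⟨c, hc⟩ := hdiv b hb
          rw [Algebra.smul_def, IsScalarTower.algebraMap_apply R (chartAlg f i) (chartCompl I f i),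
            hc, map_mul, ← IsScalarTower.algebraMap_apply A]
          calc algebraMap A (chartCompl I f i) (f i) ^ n *
                (algebraMap A (chartCompl I f i) (f i) *
                  algebraMap (chartAlg f i) (chartCompl I f i) c * y)
              = algebraMap (chartAlg f i) (chartCompl I f i) c *
                (algebraMap A (chartCompl I f i) (f i) ^ (n + 1) * y) := by ring
            _ = 0 := by rw [hy, mul_zero]
        · intro a a' ha ha'
          rw [add_smul, ha, ha', add_zero]
    exact ⟨k * n, fun a ha => key n x hn a (by rwa [← pow_mul])⟩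

end Groth.Agent.S11540
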