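import Groth.Statements.S11541
import Mathlib
import Groth.Agent.H57.RigPoint
import Groth.Agent.H80.ValNorm

set_option autoImplicit false
universe u
open AdicRing

namespace Groth.Agent.S11541

/-- Let R be a complete valuation ring of height one with t a nonzero element generating an ideal of
definition, and B an admissible R-algebra which is a local integral domain of Krull dimension one.
Then B is a finite R-module whose integral closure inside its fraction field is a valuation ring. -/
theorem result
    (R : Type u) [CommRing R] [IsDomain R] [ValuationRing R] [Ring.KrullDimLE 1 R]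
    (t : R) (ht : t ≠ 0) [IsAdicComplete (Ideal.span {t}) R]
    (B : Type u) [CommRing B] [Algebra R B] [IsDomain B] [IsLocalRing B]
    (hB : AdicRing.Admissible R (Ideal.span {t}) B) (hdim : ringKrullDim B = 1) :
    Module.Finite R B ∧ ValuationRing (integralClosure B (FractionRing B)) := by
  have hfin : Module.Finite R B := Groth.Agent.H57.RigPoint.finite_of_rigPoint t ht hB hdim.le
  refine ⟨hfin, ?_⟩
  have : HenselianLocalRing R := Groth.Agent.H80.ValNorm.henselianLocalRing_of_complete R t ht
  have hinjB : Function.Injective (algebraMap R B) :=
    Groth.Agent.H57.RigPoint.algebraMap_injective t ht hB.2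
  have hinjL : Function.Injective (algebraMap R (FractionRing B)) := by
    rw [IsScalarTower.algebraMap_eq R B (FractionRing B)]
    exact (IsFractionRing.injective B (FractionRing B)).comp hinjB
  have : FaithfulSMul R (FractionRing B) := (faithfulSMul_iff_algebraMap_injective R _).mpr hinjL
  let _ : Algebra (FractionRing R) (FractionRing B) := FractionRing.liftAlgebra R (FractionRing B)
  have : Algebra.IsIntegral R B := Algebra.IsIntegral.of_finite R B
  have : Algebra.IsAlgebraic (FractionRing R) (FractionRing B) :=
    isAlgebraic_of_isFractionRing R B (FractionRing R) (FractionRing B)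
  -- the integral closure is integral over `R`
  have hint : Algebra.IsIntegral R (integralClosure B (FractionRing B)) := by
    refine ⟨fun x => ?_⟩
    have h1 : IsIntegral R (x : FractionRing B) := isIntegral_trans _ x.2
    exact (isIntegral_algHom_iff ((integralClosure B (FractionRing B)).val.restrictScalars R)
      Subtype.val_injective).mp h1
  obtain ⟨hH, -, -⟩ := Groth.Agent.S1964.result R (integralClosure B (FractionRing B))
  have : IsLocalRing (integralClosure B (FractionRing B)) := hH.toIsLocalRing
  have hBcl : ∀ x : FractionRing B, IsIntegral (integralClosure B (FractionRing B)) x →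
      x ∈ (algebraMap (integralClosure B (FractionRing B)) (FractionRing B)).range := by
    intro x hx
    have : IsIntegral B x := isIntegral_trans x hx
    exact ⟨⟨x, this⟩, rfl⟩
  have key : ∀ α : FractionRing B,
      α ∈ (algebraMap (integralClosure B (FractionRing B)) (FractionRing B)).range ∨
      α⁻¹ ∈ (algebraMap (integralClosure B (FractionRing B)) (FractionRing B)).range := by
    intro α
    obtain ⟨p, hpu, hp0⟩ := Groth.Agent.H80.ValNorm.exists_poly_unit_coeff R (FractionRing R) α
      (Algebra.IsAlgebraic.isAlgebraic α)
    exact Groth.Agent.H80.UInv.mem_or_inv_mem hBcl α p.natDegree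
      (p.map (algebraMap R (integralClosure B (FractionRing B)))) Polynomial.natDegree_map_le
      (hpu.imp fun i hi => by rw [Polynomial.coeff_map]; exact hi.map _)
      (by rw [Polynomial.aeval_map_algebraMap]; exact hp0)
  suffices h : PreValuationRing (integralClosure B (FractionRing B)) from
    { toPreValuationRing := h }
  refine ⟨fun a b => ?_⟩
  by_cases ha : a = 0
  · exact ⟨0, Or.inr (by rw [ha, mul_zero])⟩
  rcases key ((b : FractionRing B) / (a : FractionRing B)) with ⟨c, hc⟩ | ⟨c, hc⟩
  · refine ⟨c, Or.inl ?_⟩
    apply Subtype.ext
    have ha' : (a : FractionRing B) ≠ 0 := fun h => ha (Subtype.ext h)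
    change (a : FractionRing B) * (algebraMap _ (FractionRing B) c) = b
    rw [hc]
    field_simp
  · by_cases hb : b = 0
    · exact ⟨0, Or.inl (by rw [hb, mul_zero])⟩
    refine ⟨c, Or.inr ?_⟩
    apply Subtype.ext
    have ha' : (a : FractionRing B) ≠ 0 := fun h => ha (Subtype.ext h)
    have hb' : (b : FractionRing B) ≠ 0 := fun h => hb (Subtype.ext h)
    change (b : FractionRing B) * (algebraMap _ (FractionRing B) c) = a
    rw [hc]
    field_simp

end Groth.Agent.S11541
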