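import Groth.Statements.S11545
import Mathlib
import Groth.Agent.H57.ChartLift

set_option autoImplicit false
universe u
open AdicRing

namespace Groth.Agent.S11545

/-- Let R be a base ring of class (N) or (V) for the ideal I, A an admissible R-algebra, f_0, ..., f_r
elements generating an open ideal 𝔞 of A, and A_i = C_i/(f_i-power torsion) the i-th chart algebra
of the formal blowing-up of 𝔞. Let B be an R-algebra complete and separated for the I-adic topology
and φ : A → B an R-algebra homomorphism such that the ideal 𝔞B is generated by φ(f_i), a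
non-zero-divisor of B. Then there is exactly one R-algebra homomorphism A_i → B whose composite with
A → A_i is φ. -/
theorem result
    (R : Type u) [CommRing R] (I : Ideal R) (hR : AdicRing.IsBase R I)
    (A : Type u) [CommRing A] [Algebra R A] (hA : AdicRing.Admissible R I A)
    (r : ℕ) (f : Fin (r + 1) → A) (k : ℕ)
    (hopen : (I ^ k).map (algebraMap R A) ≤ Ideal.span (Set.range f)) (i : Fin (r + 1))
    (B : Type u) [CommRing B] [Algebra R B] [IsAdicComplete (I.map (algebraMap R B)) B]
    (φ : A →ₐ[R] B) (hnzd : φ (f i) ∈ nonZeroDivisors B)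
    (hgen : (Ideal.span (Set.range f)).map φ = Ideal.span {φ (f i)}) :
    ∃! ψ : AdicRing.chartAdm I f i →ₐ[R] B,
      ψ.comp (IsScalarTower.toAlgHom R A (AdicRing.chartAdm I f i)) = φ := by
  classical
  have hIfg : I.FG := by
    rcases hR with ⟨_, ⟨hN, _⟩ | ⟨_, _, _, t, _, rfl⟩⟩
    · exact IsNoetherian.noetherian I
    · exact ⟨{t}, by simp⟩
  -- the elements `b j` with `φ (f j) = b j * φ (f i)`
  have hmem : ∀ j, φ (f j) ∈ Ideal.span {φ (f i)} := by
    intro j
    rw [← hgen]
    exact Ideal.mem_map_of_mem _ (Ideal.subset_span ⟨j, rfl⟩)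
  choose b hb using fun j => Ideal.mem_span_singleton'.1 (hmem j)
  have hcancel : ∀ x y : B, φ (f i) * x = φ (f i) * y → x = y := by
    intro x y hxy
    have h0 : (x - y) * φ (f i) = 0 := by rw [sub_mul, mul_comm x, mul_comm y, hxy, sub_self]
    exact sub_eq_zero.1 (hnzd.2 _ h0)
  -- the map on the chart algebra
  let e₀ : MvPolynomial {j : Fin (r + 1) // j ≠ i} A →+* B :=
    MvPolynomial.eval₂Hom φ.toRingHom (fun j => b j.1)
  have he₀ : ∀ x ∈ Ideal.span (Set.range fun j : {j : Fin (r + 1) // j ≠ i} =>
      MvPolynomial.C (f i) * MvPolynomial.X j - MvPolynomial.C (f j.1)), e₀ x = 0 := by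
    intro x hx
    have hle : Ideal.span (Set.range fun j : {j : Fin (r + 1) // j ≠ i} =>
        MvPolynomial.C (f i) * MvPolynomial.X j - MvPolynomial.C (f j.1)) ≤ RingHom.ker e₀ := by
      rw [Ideal.span_le]
      rintro _ ⟨j, rfl⟩
      change e₀ _ = 0
      simp only [e₀, map_sub, map_mul, MvPolynomial.coe_eval₂Hom, MvPolynomial.eval₂_C,
        MvPolynomial.eval₂_X]
      change φ (f i) * b j.1 - φ (f j.1) = 0
      rw [← hb j.1, mul_comm, sub_self]
    exact hle hx
  let ψ₀ : chartAlg f i →ₐ[R] B :=
    { Ideal.Quotient.lift _ e₀ he₀ with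
      commutes' := by
        intro c
        change Ideal.Quotient.lift _ e₀ he₀ (Ideal.Quotient.mk _ (MvPolynomial.C (algebraMap R A c)))
          = _
        rw [Ideal.Quotient.lift_mk]
        simp only [e₀, MvPolynomial.coe_eval₂Hom, MvPolynomial.eval₂_C]
        exact φ.commutes c }
  have hψ₀mk : ∀ p, ψ₀ (Ideal.Quotient.mk _ p) = e₀ p := fun p => rfl
  have hLof : ∀ s, Groth.Agent.H57.ChartLift.liftCompl I ψ₀ (AdicCompletion.of _ _ s) = ψ₀ s :=
    Groth.Agent.H57.ChartLift.liftCompl_of I ψ₀
  have hLA : ∀ a : A, Groth.Agent.H57.ChartLift.liftCompl I ψ₀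
      (algebraMap A (chartCompl I f i) a) = φ a := by
    intro a
    rw [AdicCompletion.algebraMap_apply, hLof]
    change ψ₀ (Ideal.Quotient.mk _ (MvPolynomial.C a)) = _
    rw [hψ₀mk]
    simp [e₀]
  have hkill : ∀ x ∈ (⨆ n : ℕ, Submodule.torsionBy (chartCompl I f i) (chartCompl I f i)
      (algebraMap A (chartCompl I f i) (f i) ^ n) : Ideal (chartCompl I f i)),
      Groth.Agent.H57.ChartLift.liftCompl I ψ₀ x = 0 := by
    intro x hx
    have hle : (⨆ n : ℕ, Submodule.torsionBy (chartCompl I f i) (chartCompl I f i)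
        (algebraMap A (chartCompl I f i) (f i) ^ n) : Ideal (chartCompl I f i)) ≤
        RingHom.ker (Groth.Agent.H57.ChartLift.liftCompl I ψ₀).toRingHom := by
      refine iSup_le fun n => ?_
      intro y hy
      rw [Submodule.mem_torsionBy_iff, smul_eq_mul] at hy
      have h1 := congrArg (Groth.Agent.H57.ChartLift.liftCompl I ψ₀) hy
      rw [map_mul, map_pow, hLA, map_zero] at h1
      rw [RingHom.mem_ker]
      have h2 : Groth.Agent.H57.ChartLift.liftCompl I ψ₀ y * φ (f i) ^ n = 0 := by
        rw [mul_comm]; exact h1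
      exact (pow_mem hnzd n).2 _ h2
    exact hle hx
  let ψ : chartAdm I f i →ₐ[R] B :=
    Ideal.Quotient.liftₐ _ (Groth.Agent.H57.ChartLift.liftCompl I ψ₀) hkill
  refine ⟨ψ, ?_, ?_⟩
  · ext a
    exact hLA a
  · intro ψ' hψ'
    have hψ'A : ∀ a : A, ψ' (Ideal.Quotient.mk _ (algebraMap A (chartCompl I f i) a)) = φ a :=
      fun a => congr($hψ' a)
    have hcomp : ψ'.comp (Ideal.Quotient.mkₐ R _) = Groth.Agent.H57.ChartLift.liftCompl I ψ₀ := by
      apply Groth.Agent.H57.ChartLift.algHom_ext_of_comp_of I hIfg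
      intro s
      rw [hLof]
      obtain ⟨p, rfl⟩ := Ideal.Quotient.mk_surjective s
      rw [hψ₀mk]
      -- both sides are ring homs in `p`
      let χ : MvPolynomial {j : Fin (r + 1) // j ≠ i} A →+* B :=
        ((ψ'.comp (Ideal.Quotient.mkₐ R _)).toRingHom.comp
          (algebraMap (chartAlg f i) (chartCompl I f i))).comp (Ideal.Quotient.mk _)
      have hχC : ∀ a : A, χ (MvPolynomial.C a) = φ a := fun a => hψ'A a
      have hχ : χ = e₀ := by
        apply MvPolynomial.ringHom_ext
        · intro a
          rw [hχC]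
          simp [e₀]
        · intro j
          apply hcancel
          have h1 : χ (MvPolynomial.C (f i) * MvPolynomial.X j) = χ (MvPolynomial.C (f j.1)) := by
            have : Ideal.Quotient.mk (Ideal.span (Set.range fun j : {j : Fin (r + 1) // j ≠ i} =>
                MvPolynomial.C (f i) * MvPolynomial.X j - MvPolynomial.C (f j.1)))
                (MvPolynomial.C (f i) * MvPolynomial.X j) =
                Ideal.Quotient.mk _ (MvPolynomial.C (f j.1)) := by
              rw [Ideal.Quotient.eq]
              exact Ideal.subset_span ⟨j, rfl⟩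
            change ((ψ'.comp (Ideal.Quotient.mkₐ R _)).toRingHom.comp
              (algebraMap (chartAlg f i) (chartCompl I f i))) (Ideal.Quotient.mk _ _) =
              ((ψ'.comp (Ideal.Quotient.mkₐ R _)).toRingHom.comp
              (algebraMap (chartAlg f i) (chartCompl I f i))) (Ideal.Quotient.mk _ _)
            rw [this]
          rw [map_mul, hχC, hχC] at h1
          rw [h1]
          simp only [e₀, MvPolynomial.coe_eval₂Hom, MvPolynomial.eval₂_X]
          rw [← hb j.1, mul_comm]
      exact congr($hχ p)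
    ext x
    obtain ⟨x, rfl⟩ := Ideal.Quotient.mk_surjective x
    exact congr($hcomp x)

end Groth.Agent.S11545
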