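import Groth.Statements.S11546
import Mathlib
import Groth.Agent.H57.AdicAux

set_option autoImplicit false
universe u
open AdicRing

namespace Groth.Agent.S11546

/-- Let R be a base ring of class (N) or (V) for the ideal I. Then the restricted power series ring
R⟨ζ_1, ..., ζ_n⟩ is flat over R. -/
theorem result
    (R : Type u) [CommRing R] (I : Ideal R) (hR : AdicRing.IsBase R I) (n : ℕ) :
    Module.Flat R (AdicRing.RPow R I n) := by
  obtain ⟨hcompl, hN | hV⟩ := hR
  · -- class (N)
    obtain ⟨hnoeth, -⟩ := hN
    exact Module.Flat.trans R (MvPolynomial (Fin n) R) _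
  · -- class (V)
    obtain ⟨hdom, hval, -, t, ht, rfl⟩ := hV
    have hvr : ValuationRing R := { toPreValuationRing := hval }
    rw [Module.Flat.flat_iff_torsion_eq_bot_of_isBezout]
    rw [Submodule.eq_bot_iff]
    intro x hx
    rw [Submodule.mem_torsion_iff] at hx
    obtain ⟨⟨r, hr⟩, hrx⟩ := hx
    have hr0 : r ≠ 0 := nonZeroDivisors.ne_zero hr
    obtain ⟨m, s, hs⟩ := Groth.Agent.H57.dvd_pow_of_prevaluation R t inferInstance r hr0
    have hrx' : r • x = 0 := hrx
    have htm : t ^ m • x = 0 := by
      rw [hs, mul_comm, mul_smul, hrx', smul_zero]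
    have hCt : (MvPolynomial.C t : MvPolynomial (Fin n) R) ≠ 0 := by
      intro h
      exact ht (MvPolynomial.C_injective (Fin n) R (by simpa using h))
    have hJ : (Ideal.span {t}).map (MvPolynomial.C : R →+* MvPolynomial (Fin n) R) =
        Ideal.span {MvPolynomial.C t} := by
      rw [Ideal.map_span, Set.image_singleton]
    have key : ∀ (J : Ideal (MvPolynomial (Fin n) R)) (hJ : J = Ideal.span {MvPolynomial.C t})
        (y : AdicCompletion J (MvPolynomial (Fin n) R)), t ^ m • y = 0 → y = 0 := by
      intro J hJ
      subst hJ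
      intro y hy
      apply Groth.Agent.H57.adic_torsionfree _ (MvPolynomial.C t) hCt y m
      have h3 : (MvPolynomial.C t : MvPolynomial (Fin n) R) ^ m • y = t ^ m • y := by
        rw [← map_pow]
        exact algebraMap_smul (MvPolynomial (Fin n) R) (t ^ m) y
      rw [h3]
      exact hy
    exact key _ hJ x htm

end Groth.Agent.S11546
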