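import Groth.Statements.S11547
import Mathlib
import Groth.Agent.H57.RigPoint
import Groth.Agent.S11525
import Groth.Agent.H54.Dim

set_option autoImplicit false
universe u
open AdicRing

namespace Groth.Agent.S11547

/-- Let R be a complete valuation ring of height one with t a nonzero element generating an ideal of
definition, φ : A → A' a homomorphism of admissible R-algebras, and u' : A' → B' a surjective
R-algebra homomorphism onto an admissible R-algebra B' which is a local integral domain of Krull
dimension one. Then the image of A in B' is an admissible R-algebra and a local integral domain of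
Krull dimension one. -/
theorem result
    (R : Type u) [CommRing R] [IsDomain R] [ValuationRing R] [Ring.KrullDimLE 1 R]
    (t : R) (ht : t ≠ 0) [IsAdicComplete (Ideal.span {t}) R]
    (A : Type u) [CommRing A] [Algebra R A] (hA : AdicRing.Admissible R (Ideal.span {t}) A)
    (A' : Type u) [CommRing A'] [Algebra R A'] (hA' : AdicRing.Admissible R (Ideal.span {t}) A')
    (φ : A →ₐ[R] A')
    (B' : Type u) [CommRing B'] [Algebra R B'] [IsDomain B'] [IsLocalRing B']
    (hB' : AdicRing.Admissible R (Ideal.span {t}) B') (hdim : ringKrullDim B' = 1)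
    (u' : A' →ₐ[R] B') (hu' : Function.Surjective u') :
    AdicRing.Admissible R (Ideal.span {t}) ((u'.comp φ).range) ∧
      IsLocalRing ((u'.comp φ).range) ∧ ringKrullDim ((u'.comp φ).range) = 1 := by
  have hfin : Module.Finite R B' := Groth.Agent.H57.RigPoint.finite_of_rigPoint t ht hB' hdim.le
  have hint : Algebra.IsIntegral R B' := Algebra.IsIntegral.of_finite R B'
  have hnt : NoPowTorsion (Ideal.span {t}) (u'.comp φ).range := by
    intro x n hx
    apply Subtype.ext
    apply hB'.2 (x : B') n
    intro a ha
    have := congrArg Subtype.val (hx a ha)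
    simpa using this
  have htft : TopFiniteType R (Ideal.span {t}) (u'.comp φ).range := by
    obtain ⟨n, Φ, hΦ, -⟩ := hA.1
    exact ⟨n, (u'.comp φ).rangeRestrict.comp Φ, ((u'.comp φ).rangeRestrict_surjective).comp hΦ⟩
  refine ⟨⟨Groth.Agent.S11525.result R _ (Groth.Agent.H57.RigPoint.isBase t ht) _ htft hnt, hnt⟩,
    ?_, ?_⟩
  · have hunit : ∀ x : (u'.comp φ).range, IsUnit (x : B') → IsUnit x := by
      intro x hx
      obtain ⟨v, hv⟩ := hx
      have hw : (↑v⁻¹ : B') ∈ (u'.comp φ).range :=
        Groth.Agent.H57.RigPoint.mem_of_mul_eq_one_of_isIntegral (u'.comp φ).range x.2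
          (by rw [← hv, Units.mul_inv]) (Algebra.IsIntegral.isIntegral _)
      refine IsUnit.of_mul_eq_one ⟨_, hw⟩ (Subtype.ext ?_)
      change (x : B') * (↑v⁻¹ : B') = 1
      rw [← hv, Units.mul_inv]
    apply IsLocalRing.of_nonunits_add
    intro a b ha hb
    have ha' : (a : B') ∈ nonunits B' := fun h => ha (hunit a h)
    have hb' : (b : B') ∈ nonunits B' := fun h => hb (hunit b h)
    have hab := IsLocalRing.nonunits_add ha' hb'
    intro h
    exact hab (h.map (u'.comp φ).range.val)
  · have hint' : Algebra.IsIntegral (u'.comp φ).range B' := Algebra.IsIntegral.tower_top R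
    rw [← hdim]
    exact Groth.Agent.H54.ringKrullDim_eq_of_isIntegral_of_injective
      (R := (u'.comp φ).range) (S := B') Subtype.val_injective

end Groth.Agent.S11547
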