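import Groth.Statements.S1156
-- import your own Groth.Agent.* helpers here
import Mathlib.LinearAlgebra.TensorProduct.Associator

set_option autoImplicit false
universe u
open scoped TensorProduct
open Desc

namespace Groth.Agent.S1156

/-- Exactness of the extended Amitsur complex in degree 0 (injectivity in degree −1 being standard). Let
R → A be faithfully flat and M an R-module. An element x of A ⊗_R M with 1 ⊗ x = (a ⊗ m ↦ a ⊗ 1 ⊗
m)(x) in A ⊗_R A ⊗_R M lies in the image of m ↦ 1 ⊗ m. -/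
theorem result (R A : Type u) [CommRing R] [CommRing A] [Algebra R A] [Module.FaithfullyFlat R A]
    (M : Type u) [AddCommGroup M] [Module R M] (x : A ⊗[R] M)
    (hx : TensorProduct.mk R A (A ⊗[R] M) 1 x = LinearMap.lTensor A (TensorProduct.mk R A M 1) x) :
    x ∈ LinearMap.range (TensorProduct.mk R A M 1) := by
  let ι : M →ₗ[R] A ⊗[R] M := TensorProduct.mk R A M 1
  let d₀ : A ⊗[R] M →ₗ[R] A ⊗[R] (A ⊗[R] M) := TensorProduct.mk R A (A ⊗[R] M) 1
  let d₁ : A ⊗[R] M →ₗ[R] A ⊗[R] (A ⊗[R] M) := LinearMap.lTensor A ι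
  suffices h : Function.Exact ι (d₀ - d₁) by
    have : (d₀ - d₁) x = 0 := by simp [d₀, d₁, ι, hx]
    exact (h x).mp this
  apply Module.FaithfullyFlat.lTensor_reflects_exact R A
  -- contractions
  let s : A ⊗[R] (A ⊗[R] M) →ₗ[R] A ⊗[R] M :=
    (LinearMap.rTensor M (LinearMap.mul' R A)).comp (TensorProduct.assoc R A A M).symm.toLinearMap
  let s' : A ⊗[R] (A ⊗[R] (A ⊗[R] M)) →ₗ[R] A ⊗[R] (A ⊗[R] M) :=
    (LinearMap.rTensor (A ⊗[R] M) (LinearMap.mul' R A)).comp
      (TensorProduct.assoc R A A (A ⊗[R] M)).symm.toLinearMap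
  have h0 : s' ∘ₗ (LinearMap.lTensor A d₀) = LinearMap.id := by
    ext a z
    simp [s', d₀]
  have h1 : s' ∘ₗ (LinearMap.lTensor A d₁) = (LinearMap.lTensor A ι) ∘ₗ s := by
    ext a b m
    simp [s', s, d₁, ι]
  have hz : (d₀ - d₁) ∘ₗ ι = 0 := by
    ext m
    simp [d₀, d₁, ι]
  intro y
  constructor
  · intro hy
    have hy' : LinearMap.lTensor A d₀ y = LinearMap.lTensor A d₁ y := by
      rw [LinearMap.lTensor_sub, LinearMap.sub_apply, sub_eq_zero] at hy
      exact hy
    refine ⟨s y, ?_⟩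
    have e1 : (s' ∘ₗ (LinearMap.lTensor A d₀)) y = y := by rw [h0]; rfl
    have e2 : (s' ∘ₗ (LinearMap.lTensor A d₁)) y = LinearMap.lTensor A ι (s y) := by rw [h1]; rfl
    rw [← e2, LinearMap.comp_apply, ← hy', ← LinearMap.comp_apply, e1]
  · rintro ⟨z, rfl⟩
    rw [← LinearMap.comp_apply, ← LinearMap.lTensor_comp, hz, LinearMap.lTensor_zero]
    rfl

end Groth.Agent.S1156
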