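import Groth.Statements.S1162
import Groth.Agent.H22.UnivInjGeneric

set_option autoImplicit false
open CategoryTheory CategoryTheory.Limits AlgebraicGeometry Opposite
universe u
open Desc

namespace Groth.Agent.S1162

/-- Let f : X ⟶ Y be flat and separated. Write X⁰ for the generic points of the irreducible components
of X. If for every ξ in X⁰ the residue field extension κ(f ξ) ⊆ κ(ξ) is trivial and f is injective
on X⁰, then f is universally injective. -/
theorem result {X Y : Scheme.{u}} (f : X ⟶ Y) [Flat f] [IsSeparated f]
    (h2 : ∀ ξ : X, closure ({ξ} : Set X) ∈ irreducibleComponents (X : Type u) →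
      Function.Surjective (f.residueFieldMap ξ).hom)
    (h3 : Set.InjOn f.base {ξ : X | closure ({ξ} : Set X) ∈ irreducibleComponents (X : Type u)}) :
    UniversallyInjective f := by
  refine Groth.Agent.H22.UnivInjGeneric.universallyInjective_of_flat_of_isSeparated f ?_ ?_
  · intro ξ hξ
    exact h2 ξ (Groth.Agent.H22.InjGeneric.closure_mem_irreducibleComponents_of_isMaxPt hξ)
  · intro ξ ξ' hξ hξ' h
    exact h3 (Groth.Agent.H22.InjGeneric.closure_mem_irreducibleComponents_of_isMaxPt hξ)
      (Groth.Agent.H22.InjGeneric.closure_mem_irreducibleComponents_of_isMaxPt hξ') h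

end Groth.Agent.S1162
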