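import Groth.Statements.S1164
-- import your own Groth.Agent.* helpers here
import Mathlib.RingTheory.Unramified.Finite
import Mathlib.RingTheory.Smooth.Flat
import Groth.Agent.H6.FlatDescent

set_option autoImplicit false
universe u
open Desc

namespace Groth.Agent.S1164

/-- Let R → S be a local homomorphism of local rings. Let R' be a local ring which is a localization at
a prime of an etale R-algebra, with R → R' local, and similarly S' for S, and suppose S' is an
R'-algebra compatibly with the given maps. Then R → S is flat if and only if R' → S' is flat. (This
is the statement that flatness of a morphism of germs is etale local on source and target together.) -/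
theorem result (R S R' S' : Type u) [CommRing R] [CommRing S] [CommRing R'] [CommRing S']
    [IsLocalRing R] [IsLocalRing S] [IsLocalRing R'] [IsLocalRing S']
    [Algebra R S] [IsLocalHom (algebraMap R S)] [Algebra R R'] [IsLocalHom (algebraMap R R')]
    [Algebra S S'] [IsLocalHom (algebraMap S S')] [Algebra R' S'] [Algebra R S']
    [IsScalarTower R R' S'] [IsScalarTower R S S']
    (E : Type u) [CommRing E] [Algebra R E] [Algebra.Etale R E] (P : Ideal E) [P.IsPrime]
    [Algebra E R'] [IsScalarTower R E R'] [IsLocalization.AtPrime R' P]
    (F : Type u) [CommRing F] [Algebra S F] [Algebra.Etale S F] (Q : Ideal F) [Q.IsPrime]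
    [Algebra F S'] [IsScalarTower S F S'] [IsLocalization.AtPrime S' Q] :
    Module.Flat R S ↔ Module.Flat R' S' := by
  have hFS' : Module.Flat F S' := IsLocalization.flat S' Q.primeCompl
  have hSF : Module.Flat S F := inferInstance
  have hSS' : Module.Flat S S' := Module.Flat.trans S F S'
  have hER' : Module.Flat E R' := IsLocalization.flat R' P.primeCompl
  have hRE : Module.Flat R E := inferInstance
  have hRR' : Module.Flat R R' := Module.Flat.trans R E R'
  constructor
  · intro h
    have hRS' : Module.Flat R S' := Module.Flat.trans R S S'
    have : Algebra.FormallyUnramified E R' := Algebra.FormallyUnramified.of_isLocalization P.primeCompl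
    have : Algebra.FormallyUnramified R R' := Algebra.FormallyUnramified.comp R E R'
    have : Algebra.EssFiniteType E R' := Algebra.EssFiniteType.of_isLocalization R' P.primeCompl
    have : Algebra.EssFiniteType R R' := Algebra.EssFiniteType.comp R E R'
    exact Algebra.FormallyUnramified.flat_of_restrictScalars (R := R) (S := R') S'
  · intro h
    have hRS' : Module.Flat R S' := Module.Flat.trans R R' S'
    have hff : Module.FaithfullyFlat S S' := Module.FaithfullyFlat.of_flat_of_isLocalHom
    rw [← RingHom.flat_algebraMap_iff]
    refine Groth.Agent.H6.ringHom_flat_of_comp_of_faithfullyFlat_comp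
      (algebraMap R S) (algebraMap S S') (RingHom.id S') ?_ ?_
    · rw [← IsScalarTower.algebraMap_eq, RingHom.flat_algebraMap_iff]
      exact hRS'
    · rw [RingHom.id_comp, RingHom.faithfullyFlat_algebraMap_iff]
      exact hff

end Groth.Agent.S1164
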