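import Groth.Statements.S1178
import Groth.Agent.H71.QCoh.PushFP

set_option autoImplicit false
open CategoryTheory CategoryTheory.Limits AlgebraicGeometry Opposite
universe u
open Desc

namespace Groth.Agent.S1178

/-- Let f : X ⟶ Y be finite and locally of finite presentation and F a quasi-coherent O_X-module. Then F
is finitely presented exactly when its pushforward f_*F is a finitely presented O_Y-module. -/
theorem result {X Y : Scheme.{u}} (f : X ⟶ Y) [IsFinite f] [LocallyOfFinitePresentation f]
    (F : X.Modules) [F.IsQuasicoherent] :
    CohB1.IsFP F ↔ CohB1.IsFP ((Scheme.Modules.pushforward f).obj F) := by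
  haveI : ((Scheme.Modules.pushforward f).obj F).IsQuasicoherent :=
    Groth.Agent.H8.isQuasicoherent_pushforward_of_isAffineHom f F
  have hfp : ∀ V : Y.affineOpens, (f.app V.1).hom.FinitePresentation := fun V => by
    rw [Scheme.Hom.app_eq_appLE]
    exact f.finitePresentation_appLE V.2 (V.2.preimage f) le_rfl
  constructor
  · intro hF
    haveI : SheafOfModules.IsFinitePresentation (R := X.ringCatSheaf) F := hF
    refine Groth.Agent.H71.QCoh.isFinitePresentation_of_finitePresentation_sections
      ((Scheme.Modules.pushforward f).obj F) (fun V : Y.affineOpens => V.1)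
      (iSup_affineOpens_eq_top Y) (fun V => V.2) (fun V => ?_)
    rw [Groth.Agent.H71.QCoh.finitePresentation_sections_pushforward_iff f F V.1
      (IsFinite.finite_app f V.1 V.2) (hfp V)]
    exact Groth.Agent.H44.finitePresentation_sections_of_isFinitePresentation F (V.2.preimage f)
  · intro hG
    haveI : SheafOfModules.IsFinitePresentation (R := Y.ringCatSheaf)
      ((Scheme.Modules.pushforward f).obj F) := hG
    refine Groth.Agent.H71.QCoh.isFinitePresentation_of_finitePresentation_sections F
      (fun V : Y.affineOpens => f ⁻¹ᵁ V.1)
      (TopologicalSpace.IsOpenCover.comap (iSup_affineOpens_eq_top Y) f.base.hom)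
      (fun V => V.2.preimage f) (fun V => ?_)
    exact (Groth.Agent.H71.QCoh.finitePresentation_sections_pushforward_iff f F V.1
      (IsFinite.finite_app f V.1 V.2) (hfp V)).1
      (Groth.Agent.H44.finitePresentation_sections_of_isFinitePresentation
        ((Scheme.Modules.pushforward f).obj F) V.2)

end Groth.Agent.S1178
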