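import Groth.Statements.S1194
import Groth.Agent.S2107
import Groth.Agent.H32.NzdUnivInj

set_option autoImplicit false
universe u
open FlatMor

namespace Groth.Agent.S1194

open IsLocalRing in
/-- Let R → S be a local homomorphism of local rings which is essentially of finite presentation, and N
a finitely presented S-module flat over R. Then multiplication by any element of S acting
injectively on N/𝔪_R N is a universally injective map of R-modules on N, and the localization map
from N to its localization at all such elements is universally injective over R. -/
theorem result {R S : Type u} [CommRing R] [IsLocalRing R] [CommRing S] [IsLocalRing S] [Algebra R S]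
    [IsLocalHom (algebraMap R S)] (hS : FlatCA.EssFinitePresentation R S)
    (N : Type u) [AddCommGroup N] [Module S N] [Module R N] [IsScalarTower R S N] [Module.FinitePresentation S N] [Module.Flat R N] :
    (∀ s ∈ FlatCA.nzdFiber R S N, FlatCA.UnivInj R ((LinearMap.lsmul S N s).restrictScalars R)) ∧
    FlatCA.UnivInj R ((LocalizedModule.mkLinearMap (FlatCA.nzdFiber R S N) N).restrictScalars R) := by
  have key : ∀ s ∈ FlatCA.nzdFiber R S N,
      FlatCA.UnivInj R ((LinearMap.lsmul S N s).restrictScalars R) := by
    intro s hs
    have hu : ∀ x : N, (LinearMap.lsmul S N s) x ∈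
        (maximalIdeal R).map (algebraMap R S) • (⊤ : Submodule S N) →
        x ∈ (maximalIdeal R).map (algebraMap R S) • (⊤ : Submodule S N) := by
      intro x hx
      exact Groth.Agent.H32.NzdUnivInj.mem_smul_top_of_smul_mem_of_mem_nzdFiber N hs x hx
    obtain ⟨hinj, hfl⟩ := Groth.Agent.S2107.result (M := N) (N := N) hS (LinearMap.lsmul S N s) hu
    exact Groth.Agent.H32.NzdUnivInj.univInj_of_injective_of_flat_coker
      ((LinearMap.lsmul S N s).restrictScalars R) hinj hfl
  exact ⟨key, Groth.Agent.H32.NzdUnivInj.univInj_mkLinearMap N _ key⟩

end Groth.Agent.S1194
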