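import Groth.Statements.S1203
import Groth.Agent.S1200
import Groth.Agent.S1198
import Groth.Agent.S6338
import Groth.Agent.S0584

set_option autoImplicit false
universe u
open FlatMor
open Pointwise

namespace Groth.Agent.S1203

theorem isInternal_top (R N : Type u) [CommRing R] [AddCommGroup N] [Module R N]
    [DecidableEq PUnit.{u + 1}] :
    DirectSum.IsInternal (fun _ : PUnit.{u + 1} => (⊤ : Submodule R N)) := by
  refine (DirectSum.isInternal_submodule_iff_iSupIndep_and_iSup_eq_top _).mpr ⟨?_, ?_⟩
  · exact iSupIndep_subsingleton _
  · simp

/-- Let R be a Noetherian ring complete with respect to an ideal I, S a finite type R-algebra and N a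
finite S-module which is flat over R, such that N/IN is a projective R/I-module and such that for
every prime q of S, over p in R, whose extension to the fibre ring over p is an associated prime of
the fibre module of N, the ideal IS + q is proper. Then N is a projective R-module. -/
theorem result {R S : Type u} [CommRing R] [CommRing S] [Algebra R S] [IsNoetherianRing R] (I : Ideal R) [IsAdicComplete I R]
    [Algebra.FiniteType R S]
    (N : Type u) [AddCommGroup N] [Module S N] [Module R N] [IsScalarTower R S N] [Module.Finite S N] [Module.Flat R N]
    [Module.Projective (R ⧸ I) (N ⧸ (I • ⊤ : Submodule R N))]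
    (h : ∀ (p : Ideal R) (q : Ideal S) [p.IsPrime] [q.IsPrime] [q.LiesOver p],
      FlatCA.fiberIdeal p q ∈ associatedPrimes (p.Fiber S) (FlatCA.fiberMod p S N) → I.map (algebraMap R S) ⊔ q ≠ ⊤) :
    Module.Projective R N := by
  classical
  haveI : IsNoetherianRing S := Algebra.FiniteType.isNoetherianRing R S
  have h1 : FlatCA.UnivInj R (AdicCompletion.of I N) := Groth.Agent.S1200.result I N h
  obtain ⟨hflat, hML⟩ := Groth.Agent.S1198.result R I N
  have h2 : CAlgX.UniversallyInjective R (AdicCompletion.of I N) := by
    intro Q _ _
    have h3 := h1 Q
    have hcomm : (AdicCompletion.of I N).rTensor Q =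
        (TensorProduct.comm R Q (AdicCompletion I N)).toLinearMap ∘ₗ
          (AdicCompletion.of I N).lTensor Q ∘ₗ (TensorProduct.comm R N Q).toLinearMap := by
      ext x q
      simp
    rw [hcomm]
    exact (TensorProduct.comm R Q (AdicCompletion I N)).injective.comp
      (h3.comp (TensorProduct.comm R N Q).injective)
  have hN : CAlg.IsMittagLeffler R N := Groth.Agent.S6338.result R _ h2 hML
  rw [Groth.Agent.S0584.result]
  refine ⟨inferInstance, hN, PUnit, fun _ => ⊤, ?_, ?_⟩
  · exact @isInternal_top R N _ _ _ (fun a b => Classical.propDecidable (a = b))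
  · intro _
    -- countably generated
    obtain ⟨n, f, hf⟩ := Algebra.FiniteType.iff_quotient_mvPolynomial''.mp
      (inferInstance : Algebra.FiniteType R S)
    obtain ⟨G, hG⟩ := (Module.Finite.fg_top : (⊤ : Submodule S N).FG)
    let T : Set S := Set.range fun d : Fin n →₀ ℕ => f (MvPolynomial.monomial d 1)
    have hT : Submodule.span R T = ⊤ := by
      rw [eq_top_iff]
      rintro s -
      obtain ⟨p, rfl⟩ := hf s
      induction p using MvPolynomial.induction_on' with
      | monomial d a =>
        have : (MvPolynomial.monomial d a : MvPolynomial (Fin n) R) =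
            a • MvPolynomial.monomial d 1 := by
          rw [MvPolynomial.smul_monomial, smul_eq_mul, mul_one]
        rw [this, map_smul]
        exact Submodule.smul_mem _ _ (Submodule.subset_span ⟨d, rfl⟩)
      | add p q hp hq =>
        rw [map_add]
        exact add_mem hp hq
    have hspan : Submodule.span R (T • (G : Set N)) = ⊤ := by
      rw [Submodule.span_smul_of_span_eq_top hT, hG]
      rfl
    have hcount : (T • (G : Set N)).Countable := by
      have hTc : T.Countable := Set.countable_range _
      exact Set.Countable.image2 hTc G.countable_toSet _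
    -- transport to the submodule ⊤
    refine ⟨(⊤ : Submodule R N).subtype ⁻¹' (T • (G : Set N)), ?_, ?_⟩
    · exact hcount.preimage_of_injOn (Subtype.val_injective.injOn)
    · rw [eq_top_iff]
      rintro ⟨x, hx⟩ -
      have hx' : x ∈ Submodule.span R (T • (G : Set N)) := by rw [hspan]; trivial
      have : Submodule.span R (T • (G : Set N)) ≤
          (Submodule.span R ((⊤ : Submodule R N).subtype ⁻¹' (T • (G : Set N)))).map
            (⊤ : Submodule R N).subtype := by
        rw [Submodule.span_le]
        intro y hy
        exact ⟨⟨y, trivial⟩, Submodule.subset_span hy, rfl⟩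
      obtain ⟨z, hz, hzx⟩ := this hx'
      have : z = ⟨x, hx⟩ := Subtype.ext hzx
      rw [← this]
      exact hz

end Groth.Agent.S1203
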