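import Groth.Statements.S1204
import Groth.Agent.H32.RGLocalE

set_option autoImplicit false
universe u
open FlatMor

namespace Groth.Agent.S1204

open TensorProduct IsLocalRing in
/-- Let R be a local ring and S a finitely presented flat R-algebra with geometrically integral fibres,
so that 𝔭 = 𝔪_R S is a prime of S; let q be a prime of S over 𝔪_R and N a finite S-module. Then
there is an S-linear map α from a finite free module S^r to N inducing a bijection after base change
to κ(𝔭); and for any such α the following are equivalent: N_q is flat over R; α is universally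
injective over R and the cokernel of α is flat over R at q; α is injective and the cokernel is flat
at q; α localized at 𝔭 is bijective and the cokernel is flat at q; α localized at q is injective and
the cokernel is flat at q. -/
theorem result {R S : Type u} [CommRing R] [IsLocalRing R] [CommRing S] [Algebra R S] [Algebra.FinitePresentation R S] [Module.Flat R S]
    (hgi : FlatCA.GeomIntegralFibres R S) [((maximalIdeal R).map (algebraMap R S)).IsPrime]
    (q : Ideal S) [q.IsPrime] [q.LiesOver (maximalIdeal R)]
    (N : Type u) [AddCommGroup N] [Module S N] [Module R N] [IsScalarTower R S N] [Module.Finite S N] :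
    (∃ (r : ℕ) (α : (Fin r → S) →ₗ[S] N), Function.Bijective (α.baseChange ((maximalIdeal R).map (algebraMap R S)).ResidueField)) ∧
    ∀ (r : ℕ) (α : (Fin r → S) →ₗ[S] N), Function.Bijective (α.baseChange ((maximalIdeal R).map (algebraMap R S)).ResidueField) →
      [FlatCA.FlatAt R q N,
       FlatCA.UnivInj R (α.restrictScalars R) ∧ FlatCA.FlatAt R q (N ⧸ LinearMap.range α),
       Function.Injective α ∧ FlatCA.FlatAt R q (N ⧸ LinearMap.range α),
       Function.Bijective (LocalizedModule.map ((maximalIdeal R).map (algebraMap R S)).primeCompl α) ∧ FlatCA.FlatAt R q (N ⧸ LinearMap.range α),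
       Function.Injective (LocalizedModule.map q.primeCompl α) ∧ FlatCA.FlatAt R q (N ⧸ LinearMap.range α)].TFAE := by
  classical
  have hpq : (maximalIdeal R).map (algebraMap R S) ≤ q := by
    rw [Ideal.map_le_iff_le_comap]
    exact (Ideal.LiesOver.over (P := q) (p := maximalIdeal R)).le
  refine ⟨Groth.Agent.H32.RGLocalE.exists_fiber_basis _ N, ?_⟩
  intro r α hβ
  have hnzd : ∀ s : S, s ∉ (maximalIdeal R).map (algebraMap R S) → ∀ x : S, s * x = 0 → x = 0 :=
    fun s hs x hsx => Groth.Agent.H32.RGLocalA.eq_zero_of_mul_eq_zero_of_notMem hgi hs hsx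
  tfae_have 1 → 2 := fun h =>
    ⟨Groth.Agent.H32.RGLocalC.univInj_of_flatAt hgi _ q N α rfl hpq h hβ.1,
      Groth.Agent.H32.RGLocalC.flat_coker_of_flatAt hgi _ q N α rfl hpq h hβ.1⟩
  tfae_have 2 → 3 := fun h =>
    ⟨Groth.Agent.H32.RGLocalA.injective_of_univInj (α.restrictScalars R) h.1, h.2⟩
  tfae_have 3 → 4 := fun h =>
    ⟨⟨LocalizedModule.map_injective _ _ h.1,
      Groth.Agent.H32.RGLocalD.surjective_map_of_surjective_baseChange _ N α hβ.2⟩, h.2⟩
  tfae_have 4 → 5 := fun h =>
    ⟨Groth.Agent.H32.RGLocalD.injective_map_of_injective_map _ q N α hpq hnzd h.1.1, h.2⟩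
  tfae_have 5 → 1 := fun h =>
    Groth.Agent.H32.RGLocalD.flatAt_of_injective_map q N α h.1 h.2
  tfae_finish

end Groth.Agent.S1204
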