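import Groth.Statements.S1205
import Groth.Agent.H32.RGGlobD
import Groth.Agent.S0387
import Groth.Agent.H32.ElemDevB
import Groth.Agent.H1.FlatLocusLoc

set_option autoImplicit false
universe u
open FlatMor

namespace Groth.Agent.S1205

open TensorProduct in
/-- Let S be a finitely presented flat R-algebra with geometrically integral fibres, q a prime of S over
the prime 𝔯 of R, so that 𝔭 = 𝔯S is a prime of S, and N a finitely presented S-module. Then there is
an S-linear map α from a finite free module S^r to N inducing a bijection after base change to κ(𝔭);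
and for any such α the following are equivalent: N_q is flat over R; for some f ∈ R outside 𝔯 the
localization α_f is universally injective over R and for some g ∈ S outside q the localization of
the cokernel at g is flat over R; α localized at (the image of) 𝔯 is universally injective over R
and the cokernel is flat over R at q; α localized at 𝔯 is injective and the cokernel is flat at q; α
localized at 𝔭 is bijective and the cokernel is flat at q; α localized at q is injective and the
cokernel is flat at q. (Universal injectivity over R_f or R_𝔯 of a map of modules over these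
localizations is the same as over R, which is how it is written.) -/
theorem result {R S : Type u} [CommRing R] [CommRing S] [Algebra R S] [Algebra.FinitePresentation R S] [Module.Flat R S]
    (hgi : FlatCA.GeomIntegralFibres R S) (rr : Ideal R) [rr.IsPrime] [(rr.map (algebraMap R S)).IsPrime]
    (q : Ideal S) [q.IsPrime] [q.LiesOver rr]
    (N : Type u) [AddCommGroup N] [Module S N] [Module R N] [IsScalarTower R S N] [Module.FinitePresentation S N] :
    (∃ (r : ℕ) (α : (Fin r → S) →ₗ[S] N), Function.Bijective (α.baseChange (rr.map (algebraMap R S)).ResidueField)) ∧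
    ∀ (r : ℕ) (α : (Fin r → S) →ₗ[S] N), Function.Bijective (α.baseChange (rr.map (algebraMap R S)).ResidueField) →
      [FlatCA.FlatAt R q N,
       (∃ f : R, f ∉ rr ∧ FlatCA.UnivInj R ((LocalizedModule.map (Submonoid.powers (algebraMap R S f)) α).restrictScalars R)) ∧
         (∃ g : S, g ∉ q ∧ Module.Flat R (LocalizedModule (Submonoid.powers g) (N ⧸ LinearMap.range α))),
       FlatCA.UnivInj R ((LocalizedModule.map (Algebra.algebraMapSubmonoid S rr.primeCompl) α).restrictScalars R) ∧ FlatCA.FlatAt R q (N ⧸ LinearMap.range α),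
       Function.Injective (LocalizedModule.map (Algebra.algebraMapSubmonoid S rr.primeCompl) α) ∧ FlatCA.FlatAt R q (N ⧸ LinearMap.range α),
       Function.Bijective (LocalizedModule.map (rr.map (algebraMap R S)).primeCompl α) ∧ FlatCA.FlatAt R q (N ⧸ LinearMap.range α),
       Function.Injective (LocalizedModule.map q.primeCompl α) ∧ FlatCA.FlatAt R q (N ⧸ LinearMap.range α)].TFAE := by
  classical
  set P : Ideal S := rr.map (algebraMap R S) with hPdef
  have hPq : P ≤ q := by
    rw [hPdef, Ideal.map_le_iff_le_comap]
    exact (Ideal.LiesOver.over (P := q) (p := rr)).le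
  have hPcomap : P.comap (algebraMap R S) = rr := by
    apply le_antisymm
    · have h1 : P.comap (algebraMap R S) ≤ q.comap (algebraMap R S) := Ideal.comap_mono hPq
      exact h1.trans (Ideal.LiesOver.over (P := q) (p := rr)).ge
    · exact Ideal.le_comap_map
  haveI : P.LiesOver rr := ⟨hPcomap.symm⟩
  have hdom : ∀ (p : Ideal R) [p.IsPrime], IsDomain (p.Fiber S) := fun p _ =>
    Groth.Agent.H6.GeomIntFibres.isDomain_fiber hgi p
  refine ⟨Groth.Agent.H32.RGLocalE.exists_fiber_basis P N, ?_⟩
  intro r α hβ
  tfae_have 1 → 3 := fun h => by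
    have hχ := Groth.Agent.H32.RGGlobB.univInj_chi hgi rr P q N α rfl hPq h hβ.1
    exact ⟨Groth.Agent.H32.RGGlobC.univInj_map_of_univInj_chi rr q N α hχ,
      Groth.Agent.H32.RGGlobC.flat_coker_of_univInj_chi rr q N α h hχ⟩
  tfae_have 3 → 4 := fun h =>
    ⟨Groth.Agent.H32.RGLocalA.injective_of_univInj
      ((LocalizedModule.map (Algebra.algebraMapSubmonoid S rr.primeCompl) α).restrictScalars R)
      h.1, h.2⟩
  tfae_have 4 → 5 := fun h =>
    ⟨⟨Groth.Agent.H32.RGGlobD.injective_map_of_le
        (Groth.Agent.H32.RGGlobC.algebraMapSubmonoid_le_primeCompl rr P) α h.1,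
      Groth.Agent.H32.RGLocalD.surjective_map_of_surjective_baseChange P N α hβ.2⟩, h.2⟩
  tfae_have 4 → 6 := fun h =>
    ⟨Groth.Agent.H32.RGGlobD.injective_map_of_le
      (Groth.Agent.H32.RGGlobC.algebraMapSubmonoid_le_primeCompl rr q) α h.1, h.2⟩
  tfae_have 6 → 1 := fun h =>
    Groth.Agent.H32.RGLocalD.flatAt_of_injective_map q N α h.1 h.2
  tfae_have 5 → 2 := fun h => by
    obtain ⟨hh, hhP, hbij⟩ := Module.FinitePresentation.exists_notMem_bijective α P
      (LocalizedModule.mkLinearMap P.primeCompl (Fin r → S))
      (LocalizedModule.mkLinearMap P.primeCompl N) h.1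
    obtain ⟨f, hfrr, Hf⟩ :=
      Groth.Agent.H32.RGGlobD.exists_notMem_forall_notMem_map rr P hPcomap hh hhP
    refine ⟨⟨f, hfrr, Groth.Agent.H32.RGGlobD.univInj_map_powers hdom f hh Hf N α hbij⟩, ?_⟩
    have : Module.FinitePresentation S (N ⧸ LinearMap.range α) :=
      Module.finitePresentation_of_surjective (LinearMap.range α).mkQ
        (Submodule.mkQ_surjective _) (by
          rw [Submodule.ker_mkQ, LinearMap.range_eq_map]
          exact Submodule.FG.map _ Module.Finite.fg_top)
    have hopen := Groth.Agent.S0387.result (R := R) (S := S) (M := N ⧸ LinearMap.range α)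
    have hmem : (⟨q, inferInstance⟩ : PrimeSpectrum S) ∈
        {q' : PrimeSpectrum S | Module.Flat R
          (LocalizedModule q'.asIdeal.primeCompl (N ⧸ LinearMap.range α))} := h.2
    obtain ⟨_, ⟨g, rfl⟩, hg1, hg2⟩ :=
      PrimeSpectrum.isTopologicalBasis_basic_opens.exists_subset_of_mem_open hmem hopen
    refine ⟨g, hg1, ?_⟩
    apply Groth.Agent.H32.ElemDevB.flat_powers_of_forall_prime
    intro Q _ hgQ
    exact hg2 (show (⟨Q, inferInstance⟩ : PrimeSpectrum S) ∈
      (PrimeSpectrum.basicOpen g : Set (PrimeSpectrum S)) from hgQ)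
  tfae_have 2 → 6 := fun h => by
    obtain ⟨⟨f, hfrr, hU⟩, ⟨g, hgq, hflat⟩⟩ := h
    have hle1 : Submonoid.powers (algebraMap R S f) ≤ q.primeCompl := by
      rintro _ ⟨n, rfl⟩
      intro hn
      have h1 : algebraMap R S f ∈ q := Ideal.IsPrime.mem_of_pow_mem inferInstance n hn
      exact Groth.Agent.H32.RGGlobB.algebraMap_notMem_of_liesOver rr q ⟨f, hfrr⟩ h1
    have hle2 : Submonoid.powers g ≤ q.primeCompl := by
      rintro _ ⟨n, rfl⟩
      intro hn
      exact hgq (Ideal.IsPrime.mem_of_pow_mem inferInstance n hn)
    refine ⟨Groth.Agent.H32.RGGlobD.injective_map_of_le hle1 α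
      (Groth.Agent.H32.RGLocalA.injective_of_univInj
        ((LocalizedModule.map (Submonoid.powers (algebraMap R S f)) α).restrictScalars R) hU), ?_⟩
    have := hflat
    exact Groth.Agent.H1.FlatLocus.flat_localizedModule_of_le (R := R) hle2
  tfae_finish

end Groth.Agent.S1205
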