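import Groth.Statements.S12056
-- import your own Groth.Agent.* helpers here

set_option autoImplicit false
open Red

namespace Groth.Agent.S12056

/-- In formal-power-series form, let R be a commutative ring and F ∈ R⟦X⟧ with constant term 1 whose
linear coefficient a is a unit of R. Suppose that in R⟦X₀, X₁⟧ one has F(X₀ + X₁ · F(X₀)) = F(X₀) ·
F(X₁) (the functional equation F(x + y F(x)) = F(x) F(y)). Then F = 1 + a X. (The published
statement concerns a morphism to the multiplicative group from an open neighbourhood of the zero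
section in the additive group over a base scheme, the identity holding on an open neighbourhood of
the origin of the plane on which all terms are defined, with a the derivative at 0; this row states
it for formal power series over a ring.) -/
theorem result (R : Type) [CommRing R] (F : PowerSeries R)
    (h0 : PowerSeries.constantCoeff F = 1) (ha : IsUnit (PowerSeries.coeff 1 F))
    (hFE : PowerSeries.subst
        (MvPowerSeries.X (0 : Fin 2) + MvPowerSeries.X 1 * PowerSeries.subst (MvPowerSeries.X (0 : Fin 2)) F :
          MvPowerSeries (Fin 2) R) F =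
      PowerSeries.subst (MvPowerSeries.X (0 : Fin 2)) F * PowerSeries.subst (MvPowerSeries.X (1 : Fin 2)) F) :
    F = 1 + PowerSeries.C (PowerSeries.coeff 1 F) * PowerSeries.X := by
  classical
  set P : PowerSeries R := F - 1 with hP
  have hP0 : PowerSeries.constantCoeff P = 0 := by simp [hP, h0]
  have hP1 : PowerSeries.coeff 1 P = PowerSeries.coeff 1 F := by
    simp [hP, PowerSeries.coeff_one]
  have hP1u : IsUnit (PowerSeries.coeff 1 P) := hP1 ▸ ha
  set Q := P.substInvOfIsUnit hP1u with hQ
  have hQP : PowerSeries.subst P Q = PowerSeries.X :=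
    PowerSeries.subst_substInvOfIsUnit_left P hP0 hP1u
  have hPsubst : PowerSeries.HasSubst P := PowerSeries.HasSubst.of_constantCoeff_zero' hP0
  -- injectivity of substitution into F
  have hinj : ∀ u w : MvPowerSeries (Fin 2) R, PowerSeries.HasSubst u → PowerSeries.HasSubst w →
      PowerSeries.subst u F = PowerSeries.subst w F → u = w := by
    intro u w hu hw huw
    have h1 : PowerSeries.subst u P = PowerSeries.subst w P := by
      rw [hP, PowerSeries.subst_sub hu, PowerSeries.subst_sub hw, huw]
      congr 1
      rw [← map_one (PowerSeries.C (R := R)), PowerSeries.subst_C, PowerSeries.subst_C]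
    have h2 : ∀ z : MvPowerSeries (Fin 2) R, PowerSeries.HasSubst z →
        PowerSeries.subst (PowerSeries.subst z P) Q = z := by
      intro z hz
      rw [← PowerSeries.subst_comp_subst_apply hPsubst hz, hQP, PowerSeries.subst_X hz]
    rw [← h2 u hu, ← h2 w hw, h1]
  -- the swap
  set X0 : MvPowerSeries (Fin 2) R := MvPowerSeries.X 0 with hX0
  set X1 : MvPowerSeries (Fin 2) R := MvPowerSeries.X 1 with hX1
  have hsw : MvPowerSeries.HasSubst (S := R) ![X1, X0] := MvPowerSeries.HasSubst.X_X
  have hsw0 : MvPowerSeries.subst ![X1, X0] X0 = X1 := by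
    rw [hX0, MvPowerSeries.subst_X hsw]; rfl
  have hsw1 : MvPowerSeries.subst ![X1, X0] X1 = X0 := by
    rw [hX1, MvPowerSeries.subst_X hsw]; rfl
  have hswP : ∀ (a : MvPowerSeries (Fin 2) R), PowerSeries.HasSubst a →
      MvPowerSeries.subst ![X1, X0] (PowerSeries.subst a F) =
        PowerSeries.subst (MvPowerSeries.subst ![X1, X0] a) F := by
    intro a ha'
    rw [PowerSeries.subst_def, MvPowerSeries.subst_comp_subst_apply ha'.const hsw]
    rfl
  have hX0s : PowerSeries.HasSubst X0 := PowerSeries.HasSubst.X 0
  have hX1s : PowerSeries.HasSubst X1 := PowerSeries.HasSubst.X 1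
  have hA : PowerSeries.HasSubst (X0 + X1 * PowerSeries.subst X0 F) :=
    hX0s.add hX1s.mul_left
  have hA' : PowerSeries.HasSubst (X1 + X0 * PowerSeries.subst X1 F) :=
    hX1s.add hX0s.mul_left
  have hFE' := congrArg (MvPowerSeries.subst ![X1, X0]) hFE
  rw [hswP _ hA, ← MvPowerSeries.coe_substAlgHom hsw, map_add, map_mul, map_mul,
    MvPowerSeries.coe_substAlgHom hsw, hsw0, hsw1, hswP _ hX0s, hswP _ hX1s, hsw0, hsw1] at hFE'
  have hAA : X0 + X1 * PowerSeries.subst X0 F = X1 + X0 * PowerSeries.subst X1 F := by
    apply hinj _ _ hA hA'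
    rw [hFE, hFE', mul_comm]
  -- coefficient comparison
  have hcoef : ∀ k : ℕ, PowerSeries.coeff (k + 2) F = 0 := by
    intro k
    have h1 := congrArg (MvPowerSeries.coeff (Finsupp.single (1 : Fin 2) 1 + Finsupp.single (0 : Fin 2) (k + 2))) hAA
    have e1 : MvPowerSeries.coeff (Finsupp.single (1 : Fin 2) 1 + Finsupp.single (0 : Fin 2) (k + 2))
        (X1 * PowerSeries.subst X0 F) = PowerSeries.coeff (k + 2) F := by
      rw [hX1, MvPowerSeries.X, MvPowerSeries.coeff_add_monomial_mul, one_mul,
        PowerSeries.coeff_subst_single]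
      simp
    have e2 : MvPowerSeries.coeff (Finsupp.single (1 : Fin 2) 1 + Finsupp.single (0 : Fin 2) (k + 2))
        (X0 * PowerSeries.subst X1 F) = 0 := by
      have : Finsupp.single (1 : Fin 2) 1 + Finsupp.single (0 : Fin 2) (k + 2) =
          Finsupp.single (0 : Fin 2) 1 + (Finsupp.single (1 : Fin 2) 1 + Finsupp.single (0 : Fin 2) (k + 1)) := by
        ext i; fin_cases i <;> simp <;> omega
      rw [this, hX0, MvPowerSeries.X, MvPowerSeries.coeff_add_monomial_mul, one_mul,
        PowerSeries.coeff_subst_single, if_neg]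
      intro h
      have := DFunLike.congr_fun h (0 : Fin 2)
      simp at this
    have e3 : MvPowerSeries.coeff (Finsupp.single (1 : Fin 2) 1 + Finsupp.single (0 : Fin 2) (k + 2)) X0 = 0 := by
      rw [hX0, MvPowerSeries.coeff_X, if_neg]
      intro h
      have := DFunLike.congr_fun h (1 : Fin 2)
      simp at this
    have e4 : MvPowerSeries.coeff (Finsupp.single (1 : Fin 2) 1 + Finsupp.single (0 : Fin 2) (k + 2)) X1 = 0 := by
      rw [hX1, MvPowerSeries.coeff_X, if_neg]
      intro h
      have := DFunLike.congr_fun h (0 : Fin 2)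
      simp at this
    rw [map_add, map_add, e1, e2, e3, e4, zero_add, add_zero] at h1
    exact h1
  ext n
  rcases n with _ | _ | k
  · simp [h0]
  · simp [PowerSeries.coeff_one]
  · rw [hcoef k]
    simp [PowerSeries.coeff_one, PowerSeries.coeff_C_mul, PowerSeries.coeff_X]

end Groth.Agent.S12056
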