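import Groth.Statements.S12058
import Mathlib.Algebra.Homology.DerivedCategory.Ext.ExactSequences
import Mathlib.CategoryTheory.Abelian.CommSq
import Mathlib.CategoryTheory.Abelian.Refinements
-- import your own Groth.Agent.* helpers here

set_option autoImplicit false
universe w v u
open CategoryTheory CategoryTheory.Limits CategoryTheory.Abelian
open SGA3

namespace Groth.Agent.S12058

/-- In an abelian category, let 0 → A' → A → A'' → 0 be a short exact sequence, φ : A' ⟶ Q a morphism
and π : A'' ⟶ P an epimorphism with kernel C. Consider the quadruples (B, f, g, h) with 0 → Q → B →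
P → 0 short exact (maps f, g) and h : A ⟶ B such that the squares commute: (A' → A → B) = (A' → Q →
B) and (A → B → P) = (A → A'' → P). Such a quadruple exists if and only if the image in Ext¹(C, Q)
of the class of the given extension in Ext¹(A'', A') (push forward along φ, pull back along the
inclusion C → A'') is zero. -/
theorem result {C : Type u} [Category.{v} C] [Abelian C]
    [HasExt.{w} C] {S : ShortComplex C} (hS : S.ShortExact) {Q P : C} (φ : S.X₁ ⟶ Q) (π : S.X₃ ⟶ P) [Epi π] :
    (∃ (B : C) (f : Q ⟶ B) (g : B ⟶ P) (h : S.X₂ ⟶ B) (w : f ≫ g = 0),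
        (ShortComplex.mk f g w).ShortExact ∧ S.f ≫ h = φ ≫ f ∧ h ≫ g = S.g ≫ π) ↔
      (Ext.mk₀ (kernel.ι π)).comp (hS.extClass.comp (Ext.mk₀ φ) (add_zero 1)) (zero_add 1) = 0 := by
  constructor
  · rintro ⟨B, f, g, h, w, hB, c1, c2⟩
    let Ψ : S ⟶ ShortComplex.mk f g w :=
      { τ₁ := φ, τ₂ := h, τ₃ := π, comm₁₂ := c1.symm, comm₂₃ := c2 }
    have hnat := ShortComplex.ShortExact.extClass_naturality hS hB Ψ
    change hS.extClass.comp (Ext.mk₀ φ) (add_zero 1) = (Ext.mk₀ π).comp hB.extClass (zero_add 1) at hnat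
    rw [hnat, Ext.mk₀_comp_mk₀_assoc, kernel.condition, Ext.mk₀_zero, Ext.zero_comp]
  · intro hyp
    have hmonoSf : Mono S.f := hS.mono_f
    have hepiSg : Epi S.g := hS.epi_g
    -- the pushout
    have sq : IsPushout S.f φ (pushout.inl S.f φ) (pushout.inr S.f φ) := IsPushout.of_hasPushout S.f φ
    let E := pushout S.f φ
    let inl : S.X₂ ⟶ E := pushout.inl S.f φ
    let inr : Q ⟶ E := pushout.inr S.f φ
    let gE : E ⟶ S.X₃ := pushout.desc S.g 0 (by rw [S.zero, comp_zero])
    have hinl : inl ≫ gE = S.g := pushout.inl_desc _ _ _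
    have hinr : inr ≫ gE = 0 := pushout.inr_desc _ _ _
    have hcond : S.f ≫ inl = φ ≫ inr := pushout.condition
    let SE : ShortComplex C := ShortComplex.mk inr gE hinr
    have hmono_inr : Mono inr := Abelian.mono_pushout_of_mono_f S.f φ
    have hepi_gE : Epi gE := epi_of_epi_fac hinl
    have hSE_exact : SE.Exact := by
      rw [ShortComplex.exact_iff_exact_up_to_refinements]
      intro T x₂ hx₂
      obtain ⟨T', p, hp, a, b, hab⟩ := sq.hom_eq_add_up_to_refinements x₂
      have ha : a ≫ S.g = 0 := by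
        have h1 : (p ≫ x₂) ≫ gE = 0 := by
          rw [Category.assoc]
          change p ≫ x₂ ≫ SE.g = 0
          rw [hx₂, comp_zero]
        rw [hab, Preadditive.add_comp, Category.assoc, Category.assoc] at h1
        change a ≫ inl ≫ gE + b ≫ inr ≫ gE = 0 at h1
        rw [hinl, hinr, comp_zero, add_zero] at h1
        exact h1
      obtain ⟨T'', p', hp', c, hc⟩ := hS.exact.exact_up_to_refinements a ha
      refine ⟨T'', p' ≫ p, epi_comp p' p, c ≫ φ + p' ≫ b, ?_⟩
      change (p' ≫ p) ≫ x₂ = (c ≫ φ + p' ≫ b) ≫ inr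
      rw [Category.assoc, hab, Preadditive.comp_add, ← Category.assoc p' a, hc,
        Preadditive.add_comp]
      change (c ≫ S.f) ≫ inl + p' ≫ b ≫ inr = _
      rw [Category.assoc, hcond]
      simp only [Category.assoc]
    have hSE : SE.ShortExact := ShortComplex.ShortExact.mk' hSE_exact hmono_inr hepi_gE
    let Ψ : S ⟶ SE :=
      { τ₁ := φ, τ₂ := inl, τ₃ := 𝟙 _, comm₁₂ := hcond.symm,
        comm₂₃ := by change inl ≫ gE = S.g ≫ 𝟙 _; rw [hinl, Category.comp_id] }
    have hnat := ShortComplex.ShortExact.extClass_naturality hS hSE Ψ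
    change hS.extClass.comp (Ext.mk₀ φ) (add_zero 1) =
      (Ext.mk₀ (𝟙 S.X₃)).comp hSE.extClass (zero_add 1) at hnat
    rw [Ext.mk₀_id_comp] at hnat
    rw [hnat] at hyp
    -- a section over the kernel
    obtain ⟨x₂, hx₂⟩ := Ext.covariant_sequence_exact₃ (kernel π) hSE (Ext.mk₀ (kernel.ι π))
      (zero_add 1) hyp
    obtain ⟨s, rfl⟩ := (Ext.mk₀_bijective (kernel π) E).2 x₂
    change (Ext.mk₀ s).comp (Ext.mk₀ gE) (add_zero 0) = _ at hx₂
    rw [Ext.mk₀_comp_mk₀] at hx₂
    have hs : s ≫ gE = kernel.ι π := (Ext.mk₀_bijective _ _).1 hx₂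
    -- the quotient
    let q : E ⟶ cokernel s := cokernel.π s
    have hsq : s ≫ q = 0 := cokernel.condition s
    have hsqex : (ShortComplex.mk s q hsq).Exact :=
      ShortComplex.exact_of_g_is_cokernel _ (cokernelIsCokernel s)
    let g : cokernel s ⟶ P := cokernel.desc s (gE ≫ π) (by
      rw [← Category.assoc, hs, kernel.condition])
    have hqg : q ≫ g = gE ≫ π := cokernel.π_desc _ _ _
    have w : (inr ≫ q) ≫ g = 0 := by
      rw [Category.assoc, hqg, ← Category.assoc, hinr, zero_comp]
    refine ⟨cokernel s, inr ≫ q, g, inl ≫ q, w, ?_, ?_, ?_⟩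
    · -- short exactness
      have hepi_g : Epi g := by
        have : Epi (gE ≫ π) := epi_comp gE π
        exact epi_of_epi_fac hqg
      have hmono_f : Mono (inr ≫ q) := by
        apply Preadditive.mono_of_cancel_zero
        intro T t ht
        have ht' : (t ≫ inr) ≫ q = 0 := by rw [Category.assoc]; exact ht
        obtain ⟨T', p', hp', k, hk⟩ := hsqex.exact_up_to_refinements (t ≫ inr) ht'
        change p' ≫ t ≫ inr = k ≫ s at hk
        have hk0 : k = 0 := by
          have h1 : k ≫ kernel.ι π = 0 := by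
            rw [← hs, ← Category.assoc, ← hk]
            simp only [Category.assoc, hinr, comp_zero]
          exact zero_of_comp_mono _ h1
        rw [hk0, zero_comp] at hk
        have h2 : t ≫ inr = 0 := by
          rw [← cancel_epi p', hk, comp_zero]
        exact zero_of_comp_mono _ h2
      have hex : (ShortComplex.mk (inr ≫ q) g w).Exact := by
        rw [ShortComplex.exact_iff_exact_up_to_refinements]
        intro T b hb
        change b ≫ g = 0 at hb
        obtain ⟨T₁, p₁, hp₁, e, he⟩ := surjective_up_to_refinements_of_epi q b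
        have h1 : (e ≫ gE) ≫ π = 0 := by
          rw [Category.assoc, ← hqg, ← Category.assoc, ← he, Category.assoc, hb, comp_zero]
        let k : T₁ ⟶ kernel π := kernel.lift π (e ≫ gE) h1
        have hk : k ≫ kernel.ι π = e ≫ gE := kernel.lift_ι _ _ _
        have h2 : (e - k ≫ s) ≫ SE.g = 0 := by
          change (e - k ≫ s) ≫ gE = 0
          rw [Preadditive.sub_comp, Category.assoc, hs, hk, sub_self]
        obtain ⟨T₂, p₂, hp₂, x, hx⟩ := hSE_exact.exact_up_to_refinements _ h2
        change p₂ ≫ (e - k ≫ s) = x ≫ inr at hx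
        refine ⟨T₂, p₂ ≫ p₁, epi_comp p₂ p₁, x, ?_⟩
        change (p₂ ≫ p₁) ≫ b = x ≫ inr ≫ q
        rw [Category.assoc, he, ← Category.assoc x, ← hx]
        simp only [Preadditive.comp_sub, Preadditive.sub_comp, Category.assoc, hsq, comp_zero,
          sub_zero]
      exact ShortComplex.ShortExact.mk' hex hmono_f hepi_g
    · rw [← Category.assoc, hcond, Category.assoc]
    · rw [Category.assoc, hqg, ← Category.assoc, hinl]

end Groth.Agent.S12058
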