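import Groth.Statements.S12067
import Mathlib
import Groth.Agent.H40.Unip
-- import your own Groth.Agent.* helpers here

set_option autoImplicit false
universe u
open TensorProduct
open SGA3t2b

namespace Groth.Agent.S12067

open HopfRep Groth.Agent.H40

lemma finrank_comap_mkQ {k : Type u} [Field k] {V : Type u} [AddCommGroup V] [Module k V]
    [Module.Finite k V] (W : Submodule k V) (P : Submodule k (V ⧸ W)) :
    Module.finrank k ↥(P.comap W.mkQ) = Module.finrank k ↥P + Module.finrank k ↥W := by
  have hWQ : W ≤ P.comap W.mkQ := by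
    intro w hw
    rw [Submodule.mem_comap, Submodule.mkQ_apply, (Submodule.Quotient.mk_eq_zero W).2 hw]
    exact zero_mem _
  let g : ↥(P.comap W.mkQ) →ₗ[k] ↥P := W.mkQ.restrict (fun x hx => hx)
  have hsurj : Function.Surjective g := by
    rintro ⟨p, hp⟩
    obtain ⟨v, rfl⟩ := W.mkQ_surjective p
    exact ⟨⟨v, hp⟩, rfl⟩
  have hker : LinearMap.ker g = W.comap (P.comap W.mkQ).subtype := by
    ext x
    rw [LinearMap.mem_ker, Submodule.mem_comap, Submodule.subtype_apply]
    constructor
    · intro h
      have : W.mkQ x.1 = 0 := congrArg Subtype.val h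
      rwa [Submodule.mkQ_apply, Submodule.Quotient.mk_eq_zero] at this
    · intro h
      apply Subtype.ext
      change W.mkQ x.1 = 0
      rwa [Submodule.mkQ_apply, Submodule.Quotient.mk_eq_zero]
  have h1 := LinearMap.finrank_range_add_finrank_ker g
  rw [LinearMap.range_eq_top.2 hsurj, finrank_top, hker,
    (Submodule.comapSubtypeEquivOfLe hWQ).finrank_eq] at h1
  exact h1.symm

theorem fullFlag {k : Type u} [Field k] {A : Type u} [CommRing A] [HopfAlgebra k A]
    (hU : HopfRep.IsUnipotent k A) :
    ∀ (n : ℕ) (V : Type u) [AddCommGroup V] [Module k V] [HopfRep.Comod k A V] [Module.Finite k V],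
      Module.finrank k V = n →
      ∃ F : Fin (n + 1) → Submodule k V,
        F 0 = ⊥ ∧ F (Fin.last _) = ⊤ ∧
        (∀ i : Fin (n + 1), HopfRep.IsSubcomod (k := k) (A := A) (F i)) ∧
        ∀ i : Fin n, F i.castSucc ≤ F i.succ ∧
          Module.finrank k ↥(F i.succ) = Module.finrank k ↥(F i.castSucc) + 1 ∧
          ∀ v ∈ F i.succ, HopfRep.Comod.coact (k := k) (A := A) v - v ⊗ₜ[k] (1 : A) ∈
            LinearMap.range ((F i.castSucc).subtype.rTensor A) := by
  intro n
  induction n with
  | zero =>
    intro V _ _ _ _ hn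
    have hss : Subsingleton V := Module.finrank_zero_iff.1 hn
    refine ⟨fun _ => ⊥, rfl, Subsingleton.elim _ _, fun _ => isSubcomod_bot, fun i => i.elim0⟩
  | succ n ih =>
    intro V _ _ _ _ hn
    have hnt : Nontrivial V := Module.nontrivial_of_finrank_pos (R := k) (by omega)
    have hfix : fixedPts k A V ≠ ⊥ := hU V inferInstance hnt
    obtain ⟨v₀, hv₀, hv₀0⟩ := Submodule.exists_mem_ne_zero_of_ne_bot hfix
    have hv₀' : Comod.coact (k := k) (A := A) v₀ = v₀ ⊗ₜ[k] (1 : A) := hv₀
    let W : Submodule k V := Submodule.span k {v₀}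
    have hv₀W : v₀ ∈ W := Submodule.mem_span_singleton_self v₀
    have hWfix : ∀ w ∈ W, Comod.coact (k := k) (A := A) w = w ⊗ₜ[k] (1 : A) := by
      intro w hw
      obtain ⟨c, rfl⟩ := Submodule.mem_span_singleton.1 hw
      rw [map_smul, hv₀', TensorProduct.smul_tmul']
    have hWsub : IsSubcomod (k := k) (A := A) W := by
      intro w hw
      rw [hWfix w hw]
      exact ⟨(⟨w, hw⟩ : W) ⊗ₜ[k] (1 : A), by simp⟩
    have hWrank : Module.finrank k ↥W = 1 := finrank_span_singleton hv₀0
    letI : Comod k A (V ⧸ W) := quotComod W hWsub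
    have hq : Module.finrank k (V ⧸ W) = n := by
      have h1 := Submodule.finrank_quotient_add_finrank W
      omega
    obtain ⟨F', h0, hlast, hsubF, hgr⟩ := ih (V ⧸ W) hq
    have hπ : Hoch.IsComodHom A W.mkQ := isComodHom_mkQ W hWsub
    refine ⟨Fin.cons ⊥ (fun i => (F' i).comap W.mkQ), rfl, ?_, ?_, ?_⟩
    · rw [← Fin.succ_last, Fin.cons_succ, hlast, Submodule.comap_top]
    · intro i
      refine Fin.cases ?_ (fun j => ?_) i
      · exact isSubcomod_bot
      · rw [Fin.cons_succ]
        exact isSubcomod_comap hπ (hsubF j)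
    · intro i
      refine Fin.cases ?_ (fun j => ?_) i
      · -- first step: ⊥ ⊂ W
        have e0 : (Fin.cons ⊥ (fun i => (F' i).comap W.mkQ) : Fin (n + 2) → Submodule k V)
            (Fin.castSucc (0 : Fin (n + 1))) = ⊥ := rfl
        have e1 : (Fin.cons ⊥ (fun i => (F' i).comap W.mkQ) : Fin (n + 2) → Submodule k V)
            (Fin.succ (0 : Fin (n + 1))) = W := by
          rw [Fin.cons_succ, h0, Submodule.comap_bot, Submodule.ker_mkQ]
        rw [e0, e1]
        refine ⟨bot_le, ?_, ?_⟩
        · rw [hWrank, finrank_bot]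
        · intro v hv
          rw [hWfix v hv, sub_self]
          exact zero_mem _
      · have e0 : (Fin.cons ⊥ (fun i => (F' i).comap W.mkQ) : Fin (n + 2) → Submodule k V)
            (Fin.castSucc j.succ) = (F' j.castSucc).comap W.mkQ := by
          rw [← Fin.succ_castSucc, Fin.cons_succ]
        have e1 : (Fin.cons ⊥ (fun i => (F' i).comap W.mkQ) : Fin (n + 2) → Submodule k V)
            (Fin.succ j.succ) = (F' j.succ).comap W.mkQ := by
          rw [Fin.cons_succ]
        rw [e0, e1]
        obtain ⟨hle, hrk, htriv⟩ := hgr j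
        refine ⟨Submodule.comap_mono hle, ?_, ?_⟩
        · rw [finrank_comap_mkQ, finrank_comap_mkQ, hrk]
          omega
        · intro v hv
          rw [mem_range_rTensor_subtype_iff]
          intro ψ
          rw [Submodule.mem_comap, ← slice_rTensor]
          have h1 := htriv (W.mkQ v) hv
          rw [mem_range_rTensor_subtype_iff] at h1
          have h2 : W.mkQ.rTensor A (Comod.coact (k := k) (A := A) v - v ⊗ₜ[k] (1 : A)) =
              Comod.coact (k := k) (A := A) (W.mkQ v) - (W.mkQ v) ⊗ₜ[k] (1 : A) := by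
            rw [map_sub, LinearMap.rTensor_tmul, ← isComodHom_apply hπ v]
          rw [h2]
          exact h1 ψ

/-- In Hopf-algebra form, let k be a field and A a finitely generated commutative Hopf algebra over k
(an affine algebraic group G) which is unipotent: every nonzero finite-dimensional comodule has a
nonzero fixed vector. Then every finite-dimensional comodule V (a finite-dimensional representation
of G), of dimension n, has a flag of subcomodules 0 = V_0 ⊂ V_1 ⊂ ⋯ ⊂ V_n = V with one-dimensional
successive quotients on which G acts trivially: for v ∈ V_(i+1) the coaction of v is congruent to v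
⊗ 1 modulo V_i ⊗ A. -/
theorem result (k : Type u) [Field k] (A : Type u) [CommRing A]
    [HopfAlgebra k A] [Algebra.FiniteType k A] (hU : HopfRep.IsUnipotent k A)
    (V : Type u) [AddCommGroup V] [Module k V] [HopfRep.Comod k A V] [Module.Finite k V] :
    ∃ F : Fin (Module.finrank k V + 1) → Submodule k V,
      F 0 = ⊥ ∧ F (Fin.last _) = ⊤ ∧
      (∀ i : Fin (Module.finrank k V + 1), HopfRep.IsSubcomod (k := k) (A := A) (F i)) ∧
      ∀ i : Fin (Module.finrank k V), F i.castSucc ≤ F i.succ ∧
        Module.finrank k ↥(F i.succ) = Module.finrank k ↥(F i.castSucc) + 1 ∧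
        ∀ v ∈ F i.succ, HopfRep.Comod.coact (k := k) (A := A) v - v ⊗ₜ[k] (1 : A) ∈
          LinearMap.range ((F i.castSucc).subtype.rTensor A) := by
  exact fullFlag hU (Module.finrank k V) V rfl

end Groth.Agent.S12067
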