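import Groth.Statements.S1207
-- import your own Groth.Agent.* helpers here
import Groth.Agent.H6.IdealZorn
import Mathlib.RingTheory.Ideal.Quotient.Operations
import Mathlib.RingTheory.Ideal.Maps

set_option autoImplicit false
universe u
open FlatMor

namespace Groth.Agent.S1207

/-- Let A be a local ring and I, J ideals of A with J finitely generated, J ≠ A, and I ⊆ J^n for all n ≥
1. Then every prime p not containing J which is maximal among the primes not containing J (a closed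
point of Spec A ∖ V(J)) contains I. (The published statement leaves the hypothesis J ≠ A implicit;
for J = A the assertion fails.) -/
theorem result (A : Type u) [CommRing A] [IsLocalRing A] (I J : Ideal A) (hJ : J.FG) (hJ1 : J ≠ ⊤)
    (hI : ∀ n : ℕ, 1 ≤ n → I ≤ J ^ n) (p : Ideal A) [p.IsPrime] (hp : ¬ J ≤ p)
    (hmax : ∀ (p' : Ideal A), p'.IsPrime → p ≤ p' → ¬ J ≤ p' → p' = p) : I ≤ p := by
  classical
  have hJm : J ≤ IsLocalRing.maximalIdeal A := IsLocalRing.le_maximalIdeal hJ1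
  have hpm : ¬ p.IsMaximal := by
    intro hmaxp
    have : p = IsLocalRing.maximalIdeal A := IsLocalRing.eq_maximalIdeal hmaxp
    exact hp (this ▸ hJm)
  let B := A ⧸ p
  let π : A →+* B := Ideal.Quotient.mk p
  have hπ : Function.Surjective π := Ideal.Quotient.mk_surjective
  have : IsLocalRing B := IsLocalRing.of_surjective' π hπ
  have hB : ¬ IsField B := fun h => hpm (Ideal.Quotient.maximal_of_isField p h)
  let J' : Ideal B := J.map π
  let 𝒮 : Set (Ideal B) := {K | ∃ n : ℕ, 1 ≤ n ∧ K = J' ^ n}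
  have hfg : ∀ K ∈ 𝒮, K.FG := by
    rintro K ⟨n, -, rfl⟩
    exact (hJ.map π).pow
  have hmul : ∀ K ∈ 𝒮, ∀ L ∈ 𝒮, K * L ∈ 𝒮 := by
    rintro K ⟨n, hn, rfl⟩ L ⟨m, hm, rfl⟩
    exact ⟨n + m, by omega, (pow_add _ _ _).symm⟩
  have hcov : ∀ (P : Ideal B), P.IsPrime → P ≠ ⊥ → ∃ K ∈ 𝒮, K ≤ P := by
    intro P hP hP0
    refine ⟨J', ⟨1, le_rfl, (pow_one _).symm⟩, ?_⟩
    rw [Ideal.map_le_iff_le_comap]
    by_contra hcon
    have hle : p ≤ P.comap π := by
      intro x hx
      rw [Ideal.mem_comap]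
      have : π x = 0 := Ideal.Quotient.eq_zero_iff_mem.mpr hx
      rw [this]
      exact P.zero_mem
    have heq := hmax (P.comap π) (Ideal.IsPrime.comap π) hle hcon
    apply hP0
    rw [eq_bot_iff]
    intro y hy
    obtain ⟨x, rfl⟩ := hπ y
    have hx : x ∈ P.comap π := hy
    rw [heq] at hx
    exact (Ideal.mem_bot).mpr (Ideal.Quotient.eq_zero_iff_mem.mpr hx)
  have hS := Groth.Agent.H6.sInf_eq_bot_of_fg_mul_closed_cover B hB 𝒮 hfg hmul hcov
  intro x hx
  have hmem : π x ∈ sInf 𝒮 := by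
    rw [Ideal.mem_sInf]
    rintro K ⟨n, hn, rfl⟩
    have h1 : π x ∈ (J ^ n).map π := Ideal.mem_map_of_mem π (hI n hn hx)
    rwa [Ideal.map_pow] at h1
  rw [hS, Ideal.mem_bot] at hmem
  exact Ideal.Quotient.eq_zero_iff_mem.mp hmem

end Groth.Agent.S1207
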