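import Groth.Statements.S12071
import Mathlib.GroupTheory.Archimedean
-- import your own Groth.Agent.* helpers here

set_option autoImplicit false
open RootD

namespace Groth.Agent.S12071

/-- Let G be the group generated by two elements x, y subject to x² = y² = 1 (the infinite dihedral
group; here Mathlib's DihedralGroup 0 with x = sr 0 and y = sr 1, so that x y = r 1). Then every
normal subgroup of G containing neither x nor y is generated by an element (x y)^n with n > 0; such
a subgroup is cyclic, generated by r n. (The published statement does not exclude the trivial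
subgroup, for which no n > 0 works; this row assumes the subgroup nontrivial.) -/
theorem result (N : Subgroup (DihedralGroup 0)) [N.Normal]
    (hN : N ≠ ⊥) (hx : DihedralGroup.sr (0 : ZMod 0) ∉ N) (hy : DihedralGroup.sr (1 : ZMod 0) ∉ N) :
    ∃ n : ℕ, 0 < n ∧ N = Subgroup.zpowers (DihedralGroup.r (n : ZMod 0)) := by
  -- no reflections in N
  have hsr : ∀ i : ℤ, (DihedralGroup.sr (show ZMod 0 from i) : DihedralGroup 0) ∉ N := by
    intro i hi
    have hconj : ∀ k : ℤ, (DihedralGroup.sr (show ZMod 0 from (i - k - k)) : DihedralGroup 0) ∈ N := by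
      intro k
      have h1 := ‹N.Normal›.conj_mem _ hi (DihedralGroup.r (show ZMod 0 from k))
      have h2 : DihedralGroup.r (show ZMod 0 from k) * DihedralGroup.sr (show ZMod 0 from i) *
          (DihedralGroup.r (show ZMod 0 from k))⁻¹
          = DihedralGroup.sr (show ZMod 0 from (i - k - k)) := by
        rw [DihedralGroup.inv_r, DihedralGroup.r_mul_sr, DihedralGroup.sr_mul_r]
        congr 1
      rwa [h2] at h1
    rcases Int.even_or_odd' i with ⟨k, hk | hk⟩
    · apply hx
      have := hconj k
      have h3 : (i - k - k : ℤ) = 0 := by omega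
      rw [h3] at this
      exact this
    · apply hy
      have := hconj k
      have h3 : (i - k - k : ℤ) = 1 := by omega
      rw [h3] at this
      exact this
  -- the subgroup of rotations in N
  let H : AddSubgroup ℤ :=
    { carrier := {i : ℤ | (DihedralGroup.r (show ZMod 0 from i) : DihedralGroup 0) ∈ N}
      zero_mem' := N.one_mem
      add_mem' := by
        intro a b ha hb
        have := N.mul_mem ha hb
        rwa [DihedralGroup.r_mul_r] at this
      neg_mem' := by
        intro a ha
        have := N.inv_mem ha
        rwa [DihedralGroup.inv_r] at this }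
  have hH : ∀ i : ℤ, i ∈ H ↔ (DihedralGroup.r (show ZMod 0 from i) : DihedralGroup 0) ∈ N :=
    fun i => Iff.rfl
  obtain ⟨a, ha⟩ := Int.subgroup_cyclic H
  have hmem : ∀ i : ℤ, (DihedralGroup.r (show ZMod 0 from i) : DihedralGroup 0) ∈ N ↔ a ∣ i := by
    intro i
    rw [← hH, ha, ← AddSubgroup.zmultiples_eq_closure, Int.mem_zmultiples_iff]
  have ha0 : a ≠ 0 := by
    rintro rfl
    apply hN
    rw [Subgroup.eq_bot_iff_forall]
    intro g hg
    cases g with
    | r i =>
      have := (hmem i).1 hg
      have h0 : (i : ℤ) = 0 := zero_dvd_iff.1 this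
      change ZMod 0 at i
      show DihedralGroup.r i = DihedralGroup.r 0
      congr 1
    | sr i => exact absurd hg (hsr i)
  refine ⟨a.natAbs, Int.natAbs_pos.2 ha0, ?_⟩
  have hcast : ((a.natAbs : ℕ) : ZMod 0) = (show ZMod 0 from (a.natAbs : ℤ)) := rfl
  ext g
  rw [Subgroup.mem_zpowers_iff]
  cases g with
  | r i =>
    rw [hmem i]
    constructor
    · intro hdvd
      obtain ⟨c, hc⟩ := (Int.natAbs_dvd.2 hdvd)
      refine ⟨c, ?_⟩
      rw [DihedralGroup.r_zpow]
      congr 1
      rw [hcast]
      exact hc.symm
    · rintro ⟨c, hc⟩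
      rw [DihedralGroup.r_zpow] at hc
      have h1 := DihedralGroup.r.inj hc
      rw [hcast] at h1
      have h2 : ((a.natAbs : ℤ) * c : ℤ) = i := h1
      rw [← h2]
      exact (Int.dvd_natAbs.2 (dvd_refl a)).mul_right c
  | sr i =>
    constructor
    · intro h; exact absurd h (hsr i)
    · rintro ⟨c, hc⟩
      rw [DihedralGroup.r_zpow] at hc
      exact absurd hc (by simp)


end Groth.Agent.S12071
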