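import Groth.Statements.S12073
import Groth.Agent.S0591
import Groth.Agent.S9187
import Groth.Agent.S9192
import Groth.Agent.S9219
import Groth.Agent.H24.FEt.Stage

set_option autoImplicit false
universe u
open CategoryTheory CategoryTheory.Limits AlgebraicGeometry
open Pi1

namespace Groth.Agent.S12073

/-- Let X = lim X_i be the limit of a cofiltered system of quasi-compact quasi-separated schemes with
affine transition morphisms, given by a limit cone. Then: (1) every finite étale cover of X is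
isomorphic, over X, to the base change of a finite étale cover of some X_i; (2) if two morphisms
between finite étale covers of some X_i have the same base change to X, then they have the same base
change to some X_j with j → i. (Fullness — every morphism over X between base changes comes from
some stage — is part of the published statement and is not stated here; nor is the consequence on
fundamental groups.) -/
theorem result {I : Type u} [SmallCategory I] [IsCofiltered I]
    (D : I ⥤ Scheme.{u}) (c : Limits.Cone D) (hc : Limits.IsLimit c)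
    [∀ (i j : I) (f : i ⟶ j), IsAffineHom (D.map f)] [∀ i, CompactSpace (D.obj i)]
    [∀ i, QuasiSeparatedSpace (D.obj i)] :
    (∀ V : FEt.Cat c.pt, ∃ (i : I) (Vi : FEt.Cat (D.obj i)), Nonempty ((FEt.restrict (c.π.app i)).obj Vi ≅ V)) ∧
    (∀ (i : I) (Vi Wi : FEt.Cat (D.obj i)) (φ ψ : Vi ⟶ Wi),
      (FEt.restrict (c.π.app i)).map φ = (FEt.restrict (c.π.app i)).map ψ →
      ∃ (j : I) (a : j ⟶ i), (FEt.restrict (D.map a)).map φ = (FEt.restrict (D.map a)).map ψ) := by
  refine ⟨?_, ?_⟩
  · intro V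
    haveI hVfin : IsFinite V.hom := V.prop.1
    haveI hVet : Etale V.hom := V.prop.2
    obtain ⟨i, Xi, fi, g, h1, h2, h3, hpb⟩ := Groth.Agent.S0591.result D c hc V.left V.hom
    haveI := h1; haveI := h2; haveI := h3
    haveI : CompactSpace Xi := QuasiCompact.compactSpace_of_compactSpace fi
    haveI : QuasiSeparatedSpace Xi := quasiSeparatedSpace_of_quasiSeparated fi
    have hY : IsPullback (c.π.app i) (𝟙 c.pt) (𝟙 (D.obj i)) (c.π.app i) := IsPullback.id_vert _
    obtain ⟨i₁, φ₁, X₁, Y₁, f₁, g₁, pY₁, pX₁, hY₁, hX₁, hfin₁⟩ :=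
      Groth.Agent.S9187.result D c hc i fi (𝟙 (D.obj i)) V.hom (𝟙 c.pt) (c.π.app i) g hY hpb
    obtain ⟨i₂, φ₂, X₂, Y₂, f₂, g₂, pY₂, pX₂, hY₂, hX₂, het₂⟩ :=
      Groth.Agent.S9192.result D c hc i fi (𝟙 (D.obj i)) V.hom (𝟙 c.pt) (c.π.app i) g hY hpb
    let k₀ := IsCofiltered.min i₁ i₂
    let m₁ : k₀ ⟶ i₁ := IsCofiltered.minToLeft i₁ i₂
    let m₂ : k₀ ⟶ i₂ := IsCofiltered.minToRight i₁ i₂
    let k := IsCofiltered.eq (m₁ ≫ φ₁) (m₂ ≫ φ₂)
    let e : k ⟶ k₀ := IsCofiltered.eqHom (m₁ ≫ φ₁) (m₂ ≫ φ₂)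
    have he : e ≫ m₁ ≫ φ₁ = e ≫ m₂ ≫ φ₂ := IsCofiltered.eq_condition _ _
    let a : k ⟶ i := (e ≫ m₁) ≫ φ₁
    have hfin : IsFinite (pullback.snd fi (D.map a)) :=
      Groth.Agent.H24.FEtLim.prop_snd_of_row D @IsFinite φ₁ fi f₁ g₁ pY₁ pX₁ hY₁ hX₁ hfin₁ (e ≫ m₁)
    have het : Etale (pullback.snd fi (D.map a)) := by
      have ha : a = (e ≫ m₂) ≫ φ₂ := by simp only [a, Category.assoc, he]
      rw [ha]
      exact Groth.Agent.H24.FEtLim.prop_snd_of_row D @Etale φ₂ fi f₂ g₂ pY₂ pX₂ hY₂ hX₂ het₂
        (e ≫ m₂)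
    let Vk : FEt.Cat (D.obj k) := MorphismProperty.Over.mk ⊤ (pullback.snd fi (D.map a)) ⟨hfin, het⟩
    refine ⟨k, Vk, ⟨?_⟩⟩
    have hbig : IsPullback (pullback.fst (pullback.snd fi (D.map a)) (c.π.app k) ≫
        pullback.fst fi (D.map a)) (pullback.snd (pullback.snd fi (D.map a)) (c.π.app k)) fi
        (c.π.app i) := by
      have := (IsPullback.of_hasPullback (pullback.snd fi (D.map a)) (c.π.app k)).paste_horiz
        (IsPullback.of_hasPullback fi (D.map a))
      rwa [c.w a] at this
    refine MorphismProperty.Over.isoMk (hbig.isoIsPullback _ _ hpb) ?_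
    exact IsPullback.isoIsPullback_hom_snd _ _ hbig hpb
  · intro i Vi Wi φ ψ h
    let v : Vi.left ⟶ D.obj i := Vi.hom
    let w : Wi.left ⟶ D.obj i := Wi.hom
    haveI : IsFinite v := Vi.prop.1
    haveI : Etale v := Vi.prop.2
    haveI : IsFinite w := Wi.prop.1
    haveI : Etale w := Wi.prop.2
    haveI : CompactSpace ↥Vi.left := QuasiCompact.compactSpace_of_compactSpace v
    haveI : QuasiSeparatedSpace ↥Vi.left := quasiSeparatedSpace_of_quasiSeparated v
    haveI : CompactSpace ↥Wi.left := QuasiCompact.compactSpace_of_compactSpace w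
    haveI : QuasiSeparatedSpace ↥Wi.left := quasiSeparatedSpace_of_quasiSeparated w
    have hφ : ((FEt.restrict (c.π.app i)).map φ).left ≫ pullback.fst w (c.π.app i) =
        pullback.fst v (c.π.app i) ≫ φ.left := pullback.lift_fst _ _ _
    have hψ : ((FEt.restrict (c.π.app i)).map ψ).left ≫ pullback.fst w (c.π.app i) =
        pullback.fst v (c.π.app i) ≫ ψ.left := pullback.lift_fst _ _ _
    have hl : pullback.fst v (c.π.app i) ≫ φ.left = pullback.fst v (c.π.app i) ≫ ψ.left := by
      rw [← hφ, ← hψ, h]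
    obtain ⟨j, a, hj⟩ := Groth.Agent.S9219.result D c hc i (Xi := Vi.left) (Yi := Wi.left) v w
      (pullback.fst v (c.π.app i)) (pullback.snd v (c.π.app i))
      (IsPullback.of_hasPullback _ _) φ.left ψ.left (Over.w φ.hom) (Over.w ψ.hom) hl
    refine ⟨j, a, ?_⟩
    apply MorphismProperty.Over.Hom.ext
    have hφ' : ((FEt.restrict (D.map a)).map φ).left ≫ pullback.fst w (D.map a) =
        pullback.fst v (D.map a) ≫ φ.left := pullback.lift_fst _ _ _
    have hψ' : ((FEt.restrict (D.map a)).map ψ).left ≫ pullback.fst w (D.map a) =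
        pullback.fst v (D.map a) ≫ ψ.left := pullback.lift_fst _ _ _
    have hφ'' : ((FEt.restrict (D.map a)).map φ).left ≫ pullback.snd w (D.map a) =
        pullback.snd v (D.map a) := pullback.lift_snd _ _ _
    have hψ'' : ((FEt.restrict (D.map a)).map ψ).left ≫ pullback.snd w (D.map a) =
        pullback.snd v (D.map a) := pullback.lift_snd _ _ _
    apply pullback.hom_ext (f := w) (g := D.map a)
    · exact hφ'.trans (hj.trans hψ'.symm)
    · exact hφ''.trans hψ''.symm

end Groth.Agent.S12073
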