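import Groth.Statements.S12076
import Mathlib
-- import your own Groth.Agent.* helpers here

set_option autoImplicit false
open RootD

namespace Groth.Agent.S12076

/-- a lexicographically positive integer vector has nonnegative first coordinate -/
theorem lex_first_nonneg {r : ℕ} (v : Fin (r + 1) → ℤ) (h : (0 : Lex (Fin (r + 1) → ℤ)) < toLex v) :
    0 ≤ v 0 := by
  obtain ⟨i, hi1, hi2⟩ := h
  by_cases h0 : i = 0
  · subst h0
    exact le_of_lt hi2
  · have : (0 : Fin (r + 1)) < i := Fin.pos_iff_ne_zero.2 h0
    have := hi1 0 this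
    exact le_of_eq this

theorem lex_pos_of_first_pos {r : ℕ} (v : Fin (r + 1) → ℤ) (h : 0 < v 0) :
    (0 : Lex (Fin (r + 1) → ℤ)) < toLex v :=
  ⟨0, fun j hj => absurd hj (Fin.not_lt_zero j), h⟩

/-- Let Δ be a system of simple roots (a base b of a root pairing P over ℤ) and Γ₀ the subgroup
generated by the roots. Then Γ₀ has a structure of totally ordered group for which the roots > 0 are
exactly the positive roots defined by Δ and for which the height (the additive function with value 1
on each simple root) is monotone. The order is given here by its positive cone C ⊆ Γ₀: 0 ∉ C, C + C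
⊆ C, and for every x ≠ 0 exactly one of x, −x lies in C (x < y meaning y − x ∈ C). -/
theorem result {ι M N : Type*} [AddCommGroup M] [AddCommGroup N]
    (P : RootPairing ι ℤ M N) [Finite ι] (b : P.Base) :
    ∃ C : Set ↥(Submodule.span ℤ (Set.range P.root)),
      0 ∉ C ∧ (∀ x ∈ C, ∀ y ∈ C, x + y ∈ C) ∧ (∀ x, x ≠ 0 → (x ∈ C ∨ -x ∈ C)) ∧ (∀ x ∈ C, -x ∉ C) ∧
      (∀ i : ι, (⟨P.root i, Submodule.subset_span (Set.mem_range_self i)⟩ : ↥(Submodule.span ℤ (Set.range P.root))) ∈ C ↔
        b.IsPos i) ∧
      ∀ φ : ↥(Submodule.span ℤ (Set.range P.root)) →+ ℤ,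
        (∀ j ∈ b.support, φ ⟨P.root j, Submodule.subset_span (Set.mem_range_self j)⟩ = 1) →
        ∀ x y : ↥(Submodule.span ℤ (Set.range P.root)), y - x ∈ C → φ x ≤ φ y := by
  classical
  set B := b.toWeightBasisInt with hB
  set r := b.support.card with hr
  let e : b.support ≃ Fin r := b.support.equivFin
  -- height functional
  let ht : ↥(P.rootSpan ℤ) →ₗ[ℤ] ℤ := B.constr ℤ (fun _ => (1 : ℤ))
  have hhtB : ∀ j : b.support, ht (B j) = 1 := by
    intro j
    simp [ht, Module.Basis.constr_basis]
  have hBj : ∀ j : b.support, B j = P.rootSpanMem ℤ j := by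
    intro j
    apply Subtype.ext
    simp [hB]
  -- height of roots
  have hhtroot : ∀ i : ι, ht (P.rootSpanMem ℤ i) = b.height i := by
    intro i
    obtain ⟨f, hf1, hf2, hf3⟩ := b.exists_root_eq_sum_int i
    rw [b.height_eq_sum hf3]
    have h1 : P.rootSpanMem ℤ i = ∑ j : b.support, f j • B j := by
      apply Subtype.ext
      rw [Submodule.coe_sum]
      simp only [Submodule.coe_smul, hBj]
      rw [hf3, ← Finset.sum_coe_sort b.support (fun j => f j • P.root j)]
    rw [h1, map_sum]
    simp only [map_smul, hhtB, smul_eq_mul, mul_one]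
    exact Finset.sum_coe_sort b.support f
  -- the lexicographic embedding
  let L : ↥(P.rootSpan ℤ) →ₗ[ℤ] (Fin (r + 1) → ℤ) :=
    LinearMap.pi (fun k => Fin.cases ht (fun k' => B.coord (e.symm k')) k)
  have hL0 : ∀ x, L x 0 = ht x := fun x => rfl
  have hLs : ∀ x (k : Fin r), L x k.succ = B.repr x (e.symm k) := fun x k => rfl
  have hLinj : ∀ x, L x = 0 → x = 0 := by
    intro x hx
    apply B.repr.injective
    rw [map_zero]
    ext j
    have := congrFun hx (e j).succ
    rw [hLs, e.symm_apply_apply] at this
    simpa using this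
  refine ⟨{x | (0 : Lex (Fin (r + 1) → ℤ)) < toLex (L x)}, ?_, ?_, ?_, ?_, ?_, ?_⟩
  · simp only [Set.mem_ofPred_eq, map_zero, toLex_zero]
    exact lt_irrefl _
  · intro x hx y hy
    simp only [Set.mem_ofPred_eq] at hx hy ⊢
    rw [map_add, toLex_add]
    exact add_pos hx hy
  · intro x hx
    simp only [Set.mem_ofPred_eq]
    have hne : toLex (L x) ≠ 0 := by
      intro h0
      exact hx (hLinj x (by simpa using h0))
    rcases lt_or_gt_of_ne hne with h | h
    · right
      rw [map_neg, toLex_neg]
      exact neg_pos.2 h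
    · left; exact h
  · intro x hx
    simp only [Set.mem_ofPred_eq] at hx ⊢
    rw [map_neg, toLex_neg]
    exact not_lt.2 (le_of_lt (neg_neg_of_pos hx))
  · intro i
    simp only [Set.mem_ofPred_eq]
    constructor
    · intro h
      have h1 := lex_first_nonneg _ h
      rw [hL0] at h1
      have h2 : ht (P.rootSpanMem ℤ i) = b.height i := hhtroot i
      rw [b.isPos_iff']
      rw [← h2]
      exact h1
    · intro h
      apply lex_pos_of_first_pos
      rw [hL0]
      have h2 : ht (P.rootSpanMem ℤ i) = b.height i := hhtroot i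
      rw [b.isPos_iff] at h
      rw [← h2] at h
      exact h
  · intro φ hφ x y hxy
    simp only [Set.mem_ofPred_eq] at hxy
    have h1 := lex_first_nonneg _ hxy
    rw [hL0] at h1
    have hφht : φ.toIntLinearMap = ht := by
      apply B.ext
      intro j
      rw [hhtB j, hBj j]
      exact hφ j j.2
    have h2 : φ (y - x) = ht (y - x) := by
      rw [← hφht]; rfl
    rw [← h2, map_sub] at h1
    linarith

end Groth.Agent.S12076
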