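import Groth.Statements.S12079
import Mathlib.LinearAlgebra.Contraction
import Mathlib.LinearAlgebra.LeftExact
import Mathlib.Algebra.Module.FinitePresentation
-- import your own Groth.Agent.* helpers here

set_option autoImplicit false
universe u
open TensorProduct
open CAlg

namespace Groth.Agent.S12079

/-- For a finitely presented `R`-module `M`, any `R`-module `N` and a flat `R`-module `L`, the canonical
map `Hom_R(M, N) ⊗_R L → Hom_R(M, N ⊗_R L)` sending `f ⊗ l` to `m ↦ f m ⊗ l` is bijective. -/
theorem result (R : Type u) [CommRing R]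
    (M N L : Type u) [AddCommGroup M] [Module R M] [AddCommGroup N] [Module R N] [AddCommGroup L] [Module R L]
    [Module.FinitePresentation R M] [Module.Flat R L] :
    Function.Bijective (TensorProduct.rTensorHomToHomRTensor (RingHom.id R) M N L) := by
  obtain ⟨n, m, f, g, hf, hfg⟩ := Module.FinitePresentation.exists_fin' R M
  -- notation
  let T : ∀ (X : Type u) [AddCommGroup X] [Module R X], (X →ₗ[R] N) ⊗[R] L →ₗ[R] X →ₗ[R] N ⊗[R] L :=
    fun X _ _ => TensorProduct.rTensorHomToHomRTensor (RingHom.id R) X N L
  -- naturality
  have nat : ∀ (X Y : Type u) [AddCommGroup X] [Module R X] [AddCommGroup Y] [Module R Y]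
      (φ : X →ₗ[R] Y) (x : (Y →ₗ[R] N) ⊗[R] L),
      T X ((LinearMap.lcomp R N φ).rTensor L x) = LinearMap.lcomp R (N ⊗[R] L) φ (T Y x) := by
    intro X Y _ _ _ _ φ x
    induction x using TensorProduct.induction_on with
    | zero => simp
    | tmul a l =>
      ext p
      simp [T, TensorProduct.rTensorHomToHomRTensor_apply]
    | add a b ha hb => simp only [map_add, ha, hb]
  have bijn : Function.Bijective (T (Fin n → R)) := by
    have := (rTensorHomEquivHomRTensor R (Fin n → R) N L).bijective
    convert this using 1
    ext x
    simp [T]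
  have bijm : Function.Bijective (T (Fin m → R)) := by
    have := (rTensorHomEquivHomRTensor R (Fin m → R) N L).bijective
    convert this using 1
    ext x
    simp [T]
  have finj : Function.Injective ((LinearMap.lcomp R N f).rTensor L) :=
    Module.Flat.rTensor_preserves_injective_linearMap _ (LinearMap.lcomp_injective_of_surjective f hf)
  have fex : Function.Exact ((LinearMap.lcomp R N f).rTensor L) ((LinearMap.lcomp R N g).rTensor L) :=
    Module.Flat.rTensor_exact L (LinearMap.exact_lcomp_of_exact_of_surjective N hfg hf)
  constructor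
  · -- injective
    rw [injective_iff_map_eq_zero]
    intro x hx
    apply finj
    apply bijn.1
    rw [nat, map_zero, map_zero]
    change LinearMap.lcomp R (N ⊗[R] L) f (T M x) = 0
    have : T M x = 0 := hx
    rw [this, map_zero]
  · intro ψ
    obtain ⟨y, hy⟩ := bijn.2 (LinearMap.lcomp R (N ⊗[R] L) f ψ)
    have hy0 : (LinearMap.lcomp R N g).rTensor L y = 0 := by
      apply bijm.1
      rw [nat, hy, map_zero]
      show (ψ ∘ₗ f) ∘ₗ g = 0
      rw [LinearMap.comp_assoc, hfg.linearMap_comp_eq_zero, LinearMap.comp_zero]
    obtain ⟨x, hx⟩ := (fex y).1 hy0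
    refine ⟨x, ?_⟩
    apply LinearMap.lcomp_injective_of_surjective (S := R) (N := N ⊗[R] L) f hf
    have := nat (Fin n → R) M f x
    rw [hx, hy] at this
    exact this.symm

end Groth.Agent.S12079
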