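import Groth.Statements.S12080
import Mathlib
-- import your own Groth.Agent.* helpers here

set_option autoImplicit false
universe u
open TensorProduct
open CAlg

namespace Groth.Agent.S12080

theorem local_data (R : Type u) [CommRing R] (M : Type u) [AddCommGroup M] [Module R M]
    [Module.FinitePresentation R M] (f : R)
    (e : LocalizedModule.Away f M ≃ₗ[Localization.Away f] Localization.Away f) :
    ∃ (c a : ℕ) (φ : M →ₗ[R] R) (m : M), (∀ x, f ^ c • x = φ x • m) ∧ φ m = f ^ a := by
  set S := Submonoid.powers f with hS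
  set mk := LocalizedModule.mkLinearMap S M with hmk
  let eR : LocalizedModule.Away f M →ₗ[R] Localization.Away f := e.toLinearMap.restrictScalars R
  have heR : ∀ y, eR y = e y := fun y => rfl
  let g : M →ₗ[R] Localization.Away f := eR.comp mk
  obtain ⟨φ, ⟨_, n, rfl⟩, hφ⟩ := Module.FinitePresentation.exists_lift_of_isLocalizedModule S
    (Algebra.linearMap R (Localization.Away f)) g
  have hφ' : ∀ x, algebraMap R (Localization.Away f) (φ x) = f ^ n • e (mk x) := by
    intro x
    have := LinearMap.congr_fun hφ x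
    simpa [g, Submonoid.smul_def, heR] using this
  obtain ⟨⟨m₀, ⟨_, k, rfl⟩⟩, hm₀⟩ := IsLocalizedModule.surj S mk (e.symm 1)
  have hm₀' : e (mk m₀) = algebraMap R (Localization.Away f) (f ^ k) := by
    have h1 : mk m₀ = f ^ k • e.symm 1 := by
      rw [← hm₀]; rfl
    rw [h1, ← heR, map_smul, heR, e.apply_symm_apply, Algebra.smul_def, mul_one]
  -- φ m₀ vs f^(n+k)
  have h2 : algebraMap R (Localization.Away f) (φ m₀) = algebraMap R (Localization.Away f) (f ^ (n + k)) := by
    rw [hφ' m₀, hm₀', Algebra.smul_def, ← map_mul, pow_add]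
  obtain ⟨⟨_, j, rfl⟩, hj⟩ := (IsLocalization.eq_iff_exists S (Localization.Away f)).1 h2
  simp only at hj
  -- adjusted functional
  set φ' : M →ₗ[R] R := f ^ j • φ with hφ'def
  set a := j + (n + k) with ha
  have hφ'm₀ : φ' m₀ = f ^ a := by
    simp only [hφ'def, LinearMap.smul_apply, smul_eq_mul, ha]
    rw [hj, ← pow_add]
  -- the two endomorphisms
  let g₁ : M →ₗ[R] M := f ^ a • LinearMap.id
  let g₂ : M →ₗ[R] M := LinearMap.smulRight φ' m₀
  have hcomp : mk.comp g₁ = mk.comp g₂ := by
    ext x
    apply e.injective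
    have hx : eR (mk (f ^ a • x)) = eR (mk (φ' x • m₀)) := by
      rw [map_smul, map_smul, map_smul, map_smul, heR, heR, hm₀', Algebra.smul_def,
        Algebra.smul_def]
      simp only [hφ'def, LinearMap.smul_apply, smul_eq_mul, map_mul, hφ' x, ha]
      rw [Algebra.smul_def, pow_add, pow_add]
      simp only [map_mul, map_pow]
      ring
    exact hx
  obtain ⟨⟨_, d, rfl⟩, hd⟩ := Module.Finite.exists_smul_of_comp_eq_of_isLocalizedModule S mk g₁ g₂ hcomp
  refine ⟨d + a, d + a, φ', f ^ d • m₀, ?_, ?_⟩
  · intro x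
    have := LinearMap.congr_fun hd x
    simp only [Submonoid.smul_def, LinearMap.smul_apply, g₁, g₂, LinearMap.id_coe, id_eq,
      LinearMap.smulRight_apply] at this
    rw [pow_add, mul_smul, this, smul_comm]
  · rw [map_smul, hφ'm₀, smul_eq_mul, ← pow_add]

/-- (1) ⇒ (2): let `M` be a finite locally free `R`-module of rank `1`, i.e. there is a set `s ⊆ R`
generating the unit ideal with `M_f ≅ R_f` as `R_f`-modules for every `f ∈ s`. Then the evaluation
map `Hom_R(M, R) ⊗_R M → R` is bijective, so `M` is invertible with inverse its dual. -/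
theorem result (R : Type u) [CommRing R] (M : Type u) [AddCommGroup M]
    [Module R M] (s : Set R) (hs : Ideal.span s = ⊤)
    (hfree : ∀ f ∈ s, Nonempty (LocalizedModule.Away f M ≃ₗ[Localization.Away f] Localization.Away f)) :
    Module.Invertible R M := by
  have hfp : Module.FinitePresentation R M := by
    refine Module.FinitePresentation.of_localizationSpan s hs (fun g => ?_)
    obtain ⟨e⟩ := hfree g.1 g.2
    exact Module.FinitePresentation.of_equiv e.symm
  have hdata : ∀ f ∈ s, ∃ (c a : ℕ) (φ : M →ₗ[R] R) (m : M),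
      (∀ x, f ^ c • x = φ x • m) ∧ φ m = f ^ a := by
    intro f hf
    obtain ⟨e⟩ := hfree f hf
    exact local_data R M f e
  have htop : ∀ I : Ideal R, (∀ f ∈ s, ∃ n : ℕ, f ^ n ∈ I) → I = ⊤ := by
    intro I hI
    rw [← Ideal.radical_eq_top, eq_top_iff, ← hs, Ideal.span_le]
    intro f hf
    exact hI f hf
  refine ⟨⟨?_, ?_⟩⟩
  · -- injective
    rw [injective_iff_map_eq_zero]
    intro t ht
    have hJ : LinearMap.ker (LinearMap.toSpanSingleton R _ t) = ⊤ := by
      apply htop
      intro f hf
      obtain ⟨c, a, φ, m, h1, h2⟩ := hdata f hf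
      refine ⟨2 * c, ?_⟩
      rw [LinearMap.mem_ker, LinearMap.toSpanSingleton_apply]
      have key : (f ^ (2 * c) • LinearMap.id : Module.Dual R M ⊗[R] M →ₗ[R] Module.Dual R M ⊗[R] M) =
          LinearMap.smulRight (f ^ c • contractLeft R M) (φ ⊗ₜ[R] m) := by
        apply TensorProduct.ext'
        intro ψ x
        simp only [LinearMap.smul_apply, LinearMap.id_coe, id_eq, LinearMap.smulRight_apply,
          contractLeft_apply, smul_eq_mul]
        have e1 : f ^ c • ψ = ψ m • φ := by
          ext y
          simp only [LinearMap.smul_apply, smul_eq_mul]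
          rw [← smul_eq_mul, ← map_smul, h1 y, map_smul, smul_eq_mul, mul_comm]
        have e2 : f ^ c * ψ x = φ x * ψ m := by
          rw [← smul_eq_mul, ← map_smul, h1 x, map_smul, smul_eq_mul]
        rw [two_mul, pow_add, mul_smul, TensorProduct.smul_tmul', ← TensorProduct.tmul_smul,
          TensorProduct.smul_tmul', e1, h1 x, TensorProduct.smul_tmul_smul, e2, mul_comm,
          TensorProduct.smul_tmul']
      have := LinearMap.congr_fun key t
      simp only [LinearMap.smul_apply, LinearMap.id_coe, id_eq, LinearMap.smulRight_apply, ht,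
        smul_zero, zero_smul] at this
      exact this
    have h1 : (1 : R) ∈ LinearMap.ker (LinearMap.toSpanSingleton R _ t) := by
      rw [hJ]; trivial
    rw [LinearMap.mem_ker, LinearMap.toSpanSingleton_apply, one_smul] at h1
    exact h1
  · -- surjective
    rw [← LinearMap.range_eq_top]
    apply htop
    intro f hf
    obtain ⟨c, a, φ, m, h1, h2⟩ := hdata f hf
    exact ⟨a, ⟨φ ⊗ₜ[R] m, by rw [contractLeft_apply, h2]⟩⟩

end Groth.Agent.S12080
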