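import Groth.Statements.S12081
import Mathlib
-- import your own Groth.Agent.* helpers here

set_option autoImplicit false
universe u
open TensorProduct
open EtAlg

namespace Groth.Agent.S12081

/-- Let `B' = B ×_A A'` be a fibre square of rings with `A' → A` surjective with kernel `I`, let `J =
Ker(B' → B)`, let `D'` be a `B'`-algebra and `C' = D' ⊗_{B'} A'`. Then the ideal `I C'` is, as a
subset of `C'`, the image of the ideal `J D'` under `D' → C'`; that is, the map `J D' → I C'` is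
surjective. -/
theorem result (B' B A' A : Type u) [CommRing B'] [CommRing B] [CommRing A'] [CommRing A]
    [Algebra B' B] [Algebra B' A'] [Algebra B A] [Algebra A' A] [Algebra B' A] [IsScalarTower B' B A] [IsScalarTower B' A' A]
    (hsq : EtMil.IsFibreSquare B' B A' A)
    (D' C' : Type u) [CommRing D'] [CommRing C'] [Algebra B' D'] [Algebra A' C']
    [Algebra D' C'] [Algebra B' C'] [IsScalarTower B' A' C'] [IsScalarTower B' D' C'] [Algebra.IsPushout B' A' D' C'] :
    (algebraMap D' C') '' ((RingHom.ker (algebraMap B' B)).map (algebraMap B' D') : Set D') =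
      ((RingHom.ker (algebraMap A' A)).map (algebraMap A' C') : Set C') := by
  set J := RingHom.ker (algebraMap B' B) with hJ
  set I := RingHom.ker (algebraMap A' A) with hI
  set φ := algebraMap D' C' with hφ
  set ι := algebraMap A' C' with hι
  set 𝔞 := J.map (algebraMap B' D') with h𝔞
  -- compatibility of the two routes B' → C'
  have hcomm : ∀ b : B', φ (algebraMap B' D' b) = ι (algebraMap B' A' b) := by
    intro b
    rw [hφ, hι, ← IsScalarTower.algebraMap_apply, ← IsScalarTower.algebraMap_apply]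
  -- J maps into I
  have hJI : ∀ j ∈ J, algebraMap B' A' j ∈ I := by
    intro j hj
    rw [hI, RingHom.mem_ker, ← IsScalarTower.algebraMap_apply, IsScalarTower.algebraMap_apply B' B A,
      (RingHom.mem_ker).1 hj, map_zero]
  -- every element of I comes from J
  have hIJ : ∀ i ∈ I, ∃ j ∈ J, algebraMap B' A' j = i := by
    intro i hi
    obtain ⟨b', ⟨hb1, hb2⟩, _⟩ := hsq.2 0 i (by rw [map_zero, (RingHom.mem_ker).1 hi])
    exact ⟨b', (RingHom.mem_ker).2 hb1, hb2⟩
  -- base claim
  have hB : ∀ (a' : A') (x : D'), x ∈ 𝔞 → ι a' * φ x ∈ φ '' (𝔞 : Set D') := by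
    intro a' x hx
    rw [h𝔞, Ideal.map] at hx
    induction hx using Submodule.span_induction with
    | mem x hx =>
      obtain ⟨j, hj, rfl⟩ := hx
      obtain ⟨j', hj', hj'e⟩ := hIJ (a' * algebraMap B' A' j) (I.mul_mem_left a' (hJI j hj))
      refine ⟨algebraMap B' D' j', Ideal.mem_map_of_mem _ hj', ?_⟩
      rw [hcomm, hj'e, hcomm, map_mul]
    | zero => exact ⟨0, 𝔞.zero_mem, by simp⟩
    | add x y _ _ hx hy =>
      obtain ⟨x', hx', hx'e⟩ := hx
      obtain ⟨y', hy', hy'e⟩ := hy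
      refine ⟨x' + y', 𝔞.add_mem hx' hy', ?_⟩
      rw [map_add, map_add, mul_add, hx'e, hy'e]
    | smul d x _ hx =>
      obtain ⟨x', hx', hx'e⟩ := hx
      refine ⟨d * x', 𝔞.mul_mem_left d hx', ?_⟩
      rw [smul_eq_mul, map_mul, map_mul, hx'e]
      ring
  -- the image is stable under multiplication by C'
  have hmul : ∀ (c : C') (x : D'), x ∈ 𝔞 → c * φ x ∈ φ '' (𝔞 : Set D') := by
    intro c
    have hbc : IsBaseChange A' (IsScalarTower.toAlgHom B' D' C').toLinearMap :=
      (Algebra.IsPushout.out : IsBaseChange A' (IsScalarTower.toAlgHom B' D' C').toLinearMap)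
    refine hbc.inductionOn c (fun c => ∀ x : D', x ∈ 𝔞 → c * φ x ∈ φ '' (𝔞 : Set D')) ?_ ?_ ?_ ?_
    · intro x _
      exact ⟨0, 𝔞.zero_mem, by simp⟩
    · intro d x hx
      refine ⟨d * x, 𝔞.mul_mem_left d hx, ?_⟩
      rw [map_mul]
      rfl
    · intro a' c ih x hx
      obtain ⟨x', hx', hx'e⟩ := ih x hx
      obtain ⟨x'', hx'', hx''e⟩ := hB a' x' hx'
      refine ⟨x'', hx'', ?_⟩
      rw [hx''e, hx'e, Algebra.smul_def, mul_assoc]
    · intro c₁ c₂ h₁ h₂ x hx
      obtain ⟨x₁, hx₁, hx₁e⟩ := h₁ x hx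
      obtain ⟨x₂, hx₂, hx₂e⟩ := h₂ x hx
      refine ⟨x₁ + x₂, 𝔞.add_mem hx₁ hx₂, ?_⟩
      rw [map_add, hx₁e, hx₂e, add_mul]
  ext y
  constructor
  · rintro ⟨x, hx, rfl⟩
    -- φ x ∈ I.map ι
    have h1 : 𝔞.map φ ≤ I.map ι := by
      rw [h𝔞, Ideal.map_map, Ideal.map_le_iff_le_comap]
      intro j hj
      rw [Ideal.mem_comap, RingHom.comp_apply, hcomm]
      exact Ideal.mem_map_of_mem _ (hJI j hj)
    exact h1 (Ideal.mem_map_of_mem _ hx)
  · intro hy
    rw [SetLike.mem_coe, Ideal.map] at hy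
    induction hy using Submodule.span_induction with
    | mem y hy =>
      obtain ⟨i, hi, rfl⟩ := hy
      obtain ⟨j, hj, rfl⟩ := hIJ i hi
      exact ⟨algebraMap B' D' j, Ideal.mem_map_of_mem _ hj, hcomm j⟩
    | zero => exact ⟨0, 𝔞.zero_mem, by simp⟩
    | add x y _ _ hx hy =>
      obtain ⟨x', hx', hx'e⟩ := hx
      obtain ⟨y', hy', hy'e⟩ := hy
      exact ⟨x' + y', 𝔞.add_mem hx' hy', by rw [map_add, hx'e, hy'e]⟩
    | smul c x _ hx =>
      obtain ⟨x', hx', hx'e⟩ := hx
      rw [smul_eq_mul, ← hx'e]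
      exact hmul c x' hx'

end Groth.Agent.S12081
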