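import Groth.Statements.S12082
import Groth.Agent.H39.RegSeqCM

set_option autoImplicit false
universe u
open Synt

namespace Groth.Agent.S12082

/-- Let `S = k[x_1, …, x_n]/I` over a field `k`, `q` a prime of `S` with preimage `q'` in the polynomial
ring, `c` the natural number with `c + ht(q) = ht(q')`, and `J` the extension of `I` to the local
ring `R = k[x_1, …, x_n]_{q'}`. Any `c` elements of `J` whose images generate `J / q' J` form a
regular sequence in `R`. -/
theorem result (k : Type u) [Field k] (n : ℕ)
    (I : Ideal (MvPolynomial (Fin n) k)) (q : Ideal (MvPolynomial (Fin n) k ⧸ I)) [q.IsPrime] (c : ℕ)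
    (hc : (c : ℕ∞) + q.height = (q.comap (Ideal.Quotient.mk I)).height)
    (f : Fin c → Localization.AtPrime (q.comap (Ideal.Quotient.mk I)))
    (hf : ∀ i, f i ∈ I.map (algebraMap _ (Localization.AtPrime (q.comap (Ideal.Quotient.mk I)))))
    (hgen : Ideal.span (Set.range f) ⊔
        IsLocalRing.maximalIdeal (Localization.AtPrime (q.comap (Ideal.Quotient.mk I))) *
          I.map (algebraMap _ (Localization.AtPrime (q.comap (Ideal.Quotient.mk I)))) =
      I.map (algebraMap _ (Localization.AtPrime (q.comap (Ideal.Quotient.mk I))))) :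
    RingTheory.Sequence.IsRegular (Localization.AtPrime (q.comap (Ideal.Quotient.mk I))) (List.ofFn f) := by
  set q' := q.comap (Ideal.Quotient.mk I) with hq'
  set J := I.map (algebraMap (MvPolynomial (Fin n) k) (Localization.AtPrime q')) with hJ
  have hle : Ideal.span (Set.range f) ≤ J :=
    Ideal.span_le.mpr (by rintro _ ⟨i, rfl⟩; exact hf i)
  have hspan : Ideal.span (Set.range f) = J := by
    refine le_antisymm hle ?_
    apply Submodule.le_of_le_smul_of_le_jacobson_bot
      (I := IsLocalRing.maximalIdeal (Localization.AtPrime q')) (N' := J) (N := Ideal.span (Set.range f))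
    · exact (isNoetherian_def.mp inferInstance) J
    · exact (IsLocalRing.jacobson_eq_maximalIdeal ⊥ bot_ne_top).ge
    · rw [smul_eq_mul]
      exact hgen.ge
  have hIq : I ≤ q' := fun x hx => by
    rw [hq', Ideal.mem_comap, Ideal.Quotient.eq_zero_iff_mem.mpr hx]
    exact zero_mem _
  have hJle : J ≤ IsLocalRing.maximalIdeal (Localization.AtPrime q') := by
    rw [hJ, Ideal.map_le_iff_le_comap]
    have := IsLocalization.AtPrime.under_maximalIdeal (Localization.AtPrime q') q'
    rw [Ideal.under] at this
    rw [this]
    exact hIq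
  have hJtop : J ≠ ⊤ := fun h =>
    (IsLocalRing.maximalIdeal.isMaximal _).ne_top (top_le_iff.mp (h ▸ hJle))
  have h1 : ringKrullDim (Localization.AtPrime q') = q'.height :=
    IsLocalization.AtPrime.ringKrullDim_eq_height q' _
  have hmon : Algebra.algebraMapSubmonoid (MvPolynomial (Fin n) k ⧸ I) q'.primeCompl =
      q.primeCompl := by
    ext y
    constructor
    · rintro ⟨x, hx, rfl⟩
      exact hx
    · intro hy
      obtain ⟨x, rfl⟩ := Ideal.Quotient.mk_surjective y
      exact ⟨x, hy, rfl⟩
  have h2 : ringKrullDim (Localization.AtPrime q' ⧸ J) = q.height := by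
    haveI : IsLocalization.AtPrime (Localization.AtPrime q' ⧸ J) q := by
      have h0 : IsLocalization
          (Algebra.algebraMapSubmonoid (MvPolynomial (Fin n) k ⧸ I) q'.primeCompl)
          (Localization.AtPrime q' ⧸ J) := inferInstance
      rw [hmon] at h0
      exact h0
    exact IsLocalization.AtPrime.ringKrullDim_eq_height q (Localization.AtPrime q' ⧸ J)
  refine Groth.Agent.H39.RegSeqCM.isRegular_ofFn_of_ringKrullDim_quotient
    (Groth.Agent.H39.RegSeqCM.isCohenMacaulayModule_self _) J hJtop f hspan ?_
  rw [h1, h2, ← hc]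
  push_cast
  rw [add_comm]

end Groth.Agent.S12082
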