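import Groth.Statements.S12085
import Groth.Agent.H27.UnramModel

set_option autoImplicit false
universe u
open TensorProduct
open CAlg

namespace Groth.Agent.S12085

/-- If `R → S` is G-unramified (of finite presentation and formally unramified), then there are a finite
type `ℤ`-algebra `R₀`, a ring map `R₀ → R` and a G-unramified ring map `R₀ → S₀` such that `S ≅ R
⊗_{R₀} S₀` as `R`-algebras (existence of an isomorphism). -/
theorem result (R : Type u) [CommRing R] (S : Type u) [CommRing S]
    [Algebra R S] [Algebra.FinitePresentation R S] [Algebra.FormallyUnramified R S] :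
    ∃ (R₀ : Type u) (_ : CommRing R₀) (_ : Algebra.FiniteType ℤ R₀) (S₀ : Type u) (_ : CommRing S₀)
      (_ : Algebra R₀ S₀) (_ : Algebra.FinitePresentation R₀ S₀) (_ : Algebra.FormallyUnramified R₀ S₀)
      (_ : Algebra R₀ R), Nonempty (R ⊗[R₀] S₀ ≃ₐ[R] S) := by
  classical
  let P := Algebra.Presentation.ofFinitePresentation R S
  obtain ⟨R₁, hc, hft, hunr⟩ := Groth.Agent.H27.UnramModel.exists_model_of_presentation P
  exact ⟨R₁, inferInstance, hft, P.ModelOfHasCoeffs R₁, inferInstance, inferInstance,
    inferInstance, hunr, inferInstance, ⟨P.tensorModelOfHasCoeffsEquiv R₁⟩⟩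

end Groth.Agent.S12085
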