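import Groth.Statements.S12091
import Mathlib
-- import your own Groth.Agent.* helpers here

set_option autoImplicit false
universe u
open TensorProduct MvPolynomial
open FlatMor

namespace Groth.Agent.S12091

open TensorProduct MvPolynomial

section
variable {A : Type u} [CommRing A] {M : Type u} [AddCommGroup M] [Module A M] {m : ℕ}
  (x : Fin m → M)

/-- the linear form attached to a vector of coefficients -/
noncomputable def lin : (Fin m → A) →ₗ[A] MvPolynomial (Fin m) A :=
  Fintype.linearCombination A (fun j => (X j : MvPolynomial (Fin m) A))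

lemma lin_apply (k : Fin m → A) :
    lin k = ∑ j, C (k j) * (X j : MvPolynomial (Fin m) A) := by
  simp [lin, Fintype.linearCombination_apply, MvPolynomial.smul_eq_C_mul]

lemma lin_single (j : Fin m) : lin (Pi.single j (1 : A)) = (X j : MvPolynomial (Fin m) A) := by
  simp [lin, Fintype.linearCombination_apply_single]

variable (G : Algebra.Generators A (SymmetricAlgebra A M) (Fin m))
  (hG : ∀ j, G.val j = SymmetricAlgebra.ι A M (x j))

include hG in
lemma aeval_lin (k : Fin m → A) :
    aeval G.val (lin k) = SymmetricAlgebra.ι A M (Fintype.linearCombination A x k) := by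
  simp [lin, Fintype.linearCombination_apply, hG, map_sum]

include hG in
lemma lin_mem_ker (k : LinearMap.ker (Fintype.linearCombination A x)) :
    lin (k : Fin m → A) ∈ G.toExtension.ker := by
  refine (RingHom.mem_ker (f := algebraMap G.toExtension.Ring (SymmetricAlgebra A M))).mpr ?_
  rw [show algebraMap G.toExtension.Ring (SymmetricAlgebra A M) (lin (k : Fin m → A)) =
    aeval G.val (lin (k : Fin m → A)) from Algebra.Generators.algebraMap_apply G _]
  rw [aeval_lin x G hG]
  have := k.2
  rw [LinearMap.mem_ker] at this
  rw [this, map_zero]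

include hG in
lemma ker_eq_span (hx : Function.Surjective (Fintype.linearCombination A x)) :
    Ideal.span (Set.range fun k : LinearMap.ker (Fintype.linearCombination A x) =>
      lin (k : Fin m → A)) = G.toExtension.ker := by
  classical
  set K := LinearMap.ker (Fintype.linearCombination A x) with hK
  set I : Ideal (MvPolynomial (Fin m) A) := Ideal.span (Set.range fun k : K =>
      lin (k : Fin m → A)) with hI
  apply le_antisymm
  · rw [hI, Ideal.span_le]
    rintro _ ⟨k, rfl⟩
    exact lin_mem_ker x G hG k
  · -- construct the inverse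
    let q : MvPolynomial (Fin m) A →ₐ[A] (MvPolynomial (Fin m) A ⧸ I) := Ideal.Quotient.mkₐ A I
    let eqv := LinearMap.quotKerEquivOfSurjective (Fintype.linearCombination A x) hx
    let φ₀ : ((Fin m → A) ⧸ K) →ₗ[A] (MvPolynomial (Fin m) A ⧸ I) :=
      K.liftQ (q.toLinearMap ∘ₗ lin) (by
        intro k hk
        rw [LinearMap.mem_ker, LinearMap.comp_apply]
        change q (lin k) = 0
        exact Ideal.Quotient.eq_zero_iff_mem.mpr (Ideal.subset_span ⟨⟨k, hk⟩, rfl⟩))
    let φ : M →ₗ[A] (MvPolynomial (Fin m) A ⧸ I) := φ₀ ∘ₗ eqv.symm.toLinearMap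
    let g : SymmetricAlgebra A M →ₐ[A] (MvPolynomial (Fin m) A ⧸ I) := SymmetricAlgebra.lift φ
    have hcomp : g.comp (aeval G.val) = q := by
      apply MvPolynomial.algHom_ext
      intro j
      rw [AlgHom.comp_apply, aeval_X, hG j]
      change SymmetricAlgebra.lift φ (SymmetricAlgebra.ι A M (x j)) = _
      rw [SymmetricAlgebra.lift_ι_apply]
      have h1 : eqv.symm (x j) = K.mkQ (Pi.single j (1 : A)) := by
        rw [LinearEquiv.symm_apply_eq]
        change _ = (Fintype.linearCombination A x) (Pi.single j 1)
        simp [Fintype.linearCombination_apply_single]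
      change φ₀ (eqv.symm (x j)) = _
      rw [h1]
      change q (lin (Pi.single j (1:A))) = _
      rw [lin_single]
    intro p hp
    replace hp := (RingHom.mem_ker (f := algebraMap G.toExtension.Ring (SymmetricAlgebra A M))).mp hp
    rw [show algebraMap G.toExtension.Ring (SymmetricAlgebra A M) p =
      aeval G.val p from Algebra.Generators.algebraMap_apply G _] at hp
    have : q p = 0 := by
      rw [← hcomp, AlgHom.comp_apply, hp, map_zero]
    exact Ideal.Quotient.eq_zero_iff_mem.mp this

end

/-- Let `x_1, …, x_m` generate the `A`-module `M`, let `K ⊆ A^m` be the module of relations, `C =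
Sym_A(M)` and `α : A[y_1, …, y_m] → C` the presentation with `y_j ↦ x_j`, with kernel `J`. Then the
`C`-linear map `C ⊗_A K → J/J²` sending `1 ⊗ k` to the class of `Σ_j k_j y_j` is surjective, and it
is bijective when `M` is a projective `A`-module (so that then `J/J² ≅ K ⊗_A C` and the naive
cotangent complex of `α` is `K ⊗_A C → ⊕_j C dy_j`). (The published statement asserts `J/J² ≅ K ⊗_A
C` for every `M`. For `A = ℤ`, `M = (ℤ/2)²`, `m = 2` and the two unit vectors, `K = 2ℤ²` and the
element `y_2 ⊗ (2, 0) - y_1 ⊗ (0, 2)` of `C ⊗_A K` is non-zero but maps to the class of `y_2 · 2y_1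
- y_1 · 2y_2 = 0`; in degree `2` the graded piece of `J/J²` has `8` elements and that of `K ⊗_A C`
has `16`. The published degree-by-degree computation does show that `J` is generated by the linear
forms coming from `K`, which is the surjectivity, and it is valid as written when `0 → K → A^m → M →
0` splits, which is the projective case.) -/
theorem result (A : Type u) [CommRing A] (M : Type u)
    [AddCommGroup M] [Module A M] (m : ℕ) (x : Fin m → M)
    (hx : Function.Surjective (Fintype.linearCombination A x))
    (G : Algebra.Generators A (SymmetricAlgebra A M) (Fin m))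
    (hG : ∀ j, G.val j = SymmetricAlgebra.ι A M (x j)) :
    ∃ e : SymmetricAlgebra A M ⊗[A] (LinearMap.ker (Fintype.linearCombination A x)) →ₗ[SymmetricAlgebra A M]
        G.toExtension.Cotangent,
      (∀ (k : LinearMap.ker (Fintype.linearCombination A x))
        (hk : (∑ j, C ((k : Fin m → A) j) * X j : MvPolynomial (Fin m) A) ∈ G.toExtension.ker),
        e (1 ⊗ₜ k) = Algebra.Extension.Cotangent.mk ⟨_, hk⟩) ∧
      Function.Surjective e ∧ (Module.Projective A M → Function.Bijective e) := by
  classical
  set K := LinearMap.ker (Fintype.linearCombination A x) with hK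
  let P := G.toExtension
  -- the A-linear map K → J/J²
  let f₀ : K →ₗ[A] P.Cotangent :=
    { toFun := fun k => Algebra.Extension.Cotangent.mk ⟨lin (k : Fin m → A), lin_mem_ker x G hG k⟩
      map_add' := by
        intro a b
        have h : (⟨lin ((a + b : K) : Fin m → A), lin_mem_ker x G hG (a + b)⟩ : P.ker) =
            ⟨lin (a : Fin m → A), lin_mem_ker x G hG a⟩ +
              ⟨lin (b : Fin m → A), lin_mem_ker x G hG b⟩ :=
          Subtype.ext (by
            change lin ((a + b : K) : Fin m → A) = lin (a : Fin m → A) + lin (b : Fin m → A)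
            rw [Submodule.coe_add, map_add])
        rw [h, map_add]
      map_smul' := by
        intro r a
        have h : (⟨lin ((r • a : K) : Fin m → A), lin_mem_ker x G hG (r • a)⟩ : P.ker) =
            (algebraMap A P.Ring r) • ⟨lin (a : Fin m → A), lin_mem_ker x G hG a⟩ :=
          Subtype.ext (by
            change lin ((r • a : K) : Fin m → A) =
              algebraMap A (MvPolynomial (Fin m) A) r * lin (a : Fin m → A)
            rw [Submodule.coe_smul, map_smul, Algebra.smul_def])
        rw [h, map_smul, algebraMap_smul]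
        rfl }
  let e : SymmetricAlgebra A M ⊗[A] K →ₗ[SymmetricAlgebra A M] P.Cotangent :=
    LinearMap.liftBaseChange _ f₀
  have he1 : ∀ k : K, e (1 ⊗ₜ k) =
      Algebra.Extension.Cotangent.mk ⟨lin (k : Fin m → A), lin_mem_ker x G hG k⟩ := by
    intro k
    simp [e, f₀]
  have hsurj : Function.Surjective e := by
    rw [← LinearMap.range_eq_top, eq_top_iff]
    have := Algebra.Extension.Cotangent.span_eq_top_of_span_eq_ker (P := P)
      (fun k : K => lin (k : Fin m → A)) (ker_eq_span x G hG hx)
    rw [← this, Submodule.span_le]
    rintro _ ⟨k, rfl⟩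
    exact ⟨1 ⊗ₜ k, he1 k⟩
  refine ⟨e, ?_, hsurj, ?_⟩
  · intro k hk
    rw [he1 k]
    congr 1
    ext1
    exact lin_apply _
  · intro hproj
    refine ⟨?_, hsurj⟩
    -- a section
    obtain ⟨σ, hσ⟩ := Module.projective_lifting_property (Fintype.linearCombination A x)
      (LinearMap.id : M →ₗ[A] M) hx
    let p := Fintype.linearCombination A x
    let π : (Fin m → A) →ₗ[A] K := (LinearMap.id - σ ∘ₗ p).codRestrict K (by
      intro v
      rw [LinearMap.mem_ker]
      have := LinearMap.congr_fun hσ (p v)
      simp only [LinearMap.comp_apply, LinearMap.id_apply] at this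
      simp [p, this])
    have hπ : ∀ k : K, π k = k := by
      intro k
      apply Subtype.ext
      have hk : p (k : Fin m → A) = 0 := k.2
      simp [π, hk]
    let ψ : P.CotangentSpace →ₗ[SymmetricAlgebra A M] SymmetricAlgebra A M ⊗[A] K :=
      G.cotangentSpaceBasis.constr (SymmetricAlgebra A M)
        (fun j => (1 : SymmetricAlgebra A M) ⊗ₜ[A] π (Pi.single j 1))
    let Φ : P.Cotangent →ₗ[SymmetricAlgebra A M] SymmetricAlgebra A M ⊗[A] K :=
      ψ ∘ₗ P.cotangentComplex
    have hΦ : ∀ k : K, Φ (e (1 ⊗ₜ k)) = 1 ⊗ₜ k := by
      intro k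
      rw [he1 k]
      change ψ (P.cotangentComplex _) = _
      rw [Algebra.Extension.cotangentComplex_mk]
      rw [Module.Basis.constr_apply_fintype]
      have h2 : ∀ j, G.cotangentSpaceBasis.equivFun
          ((1 : SymmetricAlgebra A M) ⊗ₜ[P.Ring] KaehlerDifferential.D A P.Ring
            (lin (k : Fin m → A))) j = algebraMap A _ ((k : Fin m → A) j) := by
        intro j
        rw [Module.Basis.equivFun_apply]
        erw [Algebra.Generators.cotangentSpaceBasis_repr_one_tmul]
        rw [lin_apply]
        simp [Pi.single_apply, MvPolynomial.pderiv_X]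
      have h3 : (∑ j, ((k : Fin m → A) j) • (Pi.single j (1:A) : Fin m → A)) =
          (k : Fin m → A) := by
        ext i
        simp [Finset.sum_apply, Pi.single_apply]
      simp only [h2]
      simp only [algebraMap_smul]
      simp only [← TensorProduct.tmul_smul, ← map_smul, ← TensorProduct.tmul_sum, ← map_sum]
      rw [h3, hπ]
    have hcomp : Φ ∘ₗ e = LinearMap.id := by
      apply TensorProduct.AlgebraTensorModule.ext
      intro c k
      have : c ⊗ₜ[A] k = c • ((1 : SymmetricAlgebra A M) ⊗ₜ[A] k) := by
        rw [TensorProduct.smul_tmul', smul_eq_mul, mul_one]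
      rw [this, map_smul, LinearMap.comp_apply, hΦ k, LinearMap.id_apply]
    exact Function.LeftInverse.injective (g := Φ) (fun t => LinearMap.congr_fun hcomp t)

end Groth.Agent.S12091
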