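import Groth.Statements.S12094
import Groth.Agent.H16.TwoTermA

set_option autoImplicit false
universe u
open CategoryTheory
attribute [local instance] HasDerivedCategory.standard
open DRing

namespace Groth.Agent.S12094

/-- (1) ⇔ (2): let `I ⊆ R` be an ideal and `K ∈ D(R)` with `H^i(K) = 0` for `i ∉ {-1, 0}`. Then some
power `I^c` annihilates `Ext¹_R(K, N) = Hom_{D(R)}(K, N[1])` for every `R`-module `N` if and only
if, for some `c`, (a) `I^c` annihilates `H^{-1}(K)` and (b) `H^0(K)` is `I^c`-projective, i.e. `I^c`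
annihilates `Ext¹_R(H^0(K), N)` for every `R`-module `N`. -/
theorem result {R : Type u} [CommRing R] (I : Ideal R) (K : Dual.D R)
    (hK : ∀ i : ℤ, i ≠ -1 → i ≠ 0 → Subsingleton (Dual.HD R K i)) :
    (∃ c : ℕ, ∀ (N : Type u) [AddCommGroup N] [Module R N] (a : R), a ∈ I ^ c →
        ∀ ξ : K ⟶ (Dual.inD R N)⟦(1 : ℤ)⟧, a • ξ = 0) ↔
      ∃ c : ℕ, (∀ a : R, a ∈ I ^ c → ∀ x : Dual.HD R K (-1), a • x = 0) ∧
        ∀ (N : Type u) [AddCommGroup N] [Module R N] (a : R), a ∈ I ^ c →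
          ∀ ξ : Dual.inD R (Dual.HD R K 0) ⟶ (Dual.inD R N)⟦(1 : ℤ)⟧, a • ξ = 0 := by
  have hK' : ∀ i : ℤ, i ≠ -1 → i ≠ 0 →
      Limits.IsZero ((DerivedCategory.homologyFunctor (ModuleCat.{u} R) i).obj K) :=
    fun i h1 h2 => by
      haveI := hK i h1 h2
      exact ModuleCat.isZero_of_subsingleton _
  obtain ⟨T, G, f, g, h, hT, ⟨eT⟩, ⟨eG⟩⟩ := Groth.Agent.H16.TwoTerm.exists_data K hK'
  have key := Groth.Agent.H16.TwoTerm.thmA f g h hT eT eG I
  constructor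
  · rintro ⟨c, hc⟩
    obtain ⟨c', h1, h2⟩ := key.1 ⟨c, fun N a ha ξ => hc N a ha ξ⟩
    refine ⟨c', fun a ha x => ?_, fun N _ _ a ha ξ => h2 (ModuleCat.of R N) a ha ξ⟩
    have h3 := h1 a ha
    have h4 := congrArg (fun φ => φ.hom x) h3
    simpa using h4
  · rintro ⟨c, h1, h2⟩
    obtain ⟨c', h3⟩ := key.2 ⟨c, fun a ha => by
      ext x
      simpa using h1 a ha x, fun N a ha ξ => h2 N a ha ξ⟩
    exact ⟨c', fun N _ _ a ha ξ => h3 (ModuleCat.of R N) a ha ξ⟩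

end Groth.Agent.S12094
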