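import Groth.Statements.S12097
import Groth.Agent.H60.BlowUpAlg
-- import your own Groth.Agent.* helpers here

set_option autoImplicit false
universe u
open BlowUp

namespace Groth.Agent.S12097

open Groth.Agent.H60.BlowUpAlg

/-- Néron's blowup is compatible with closed immersions. For a surjective ring map `B → A` with kernel
`J`, an ideal `I ⊆ B` containing `π`, and the affine blowup algebras `B' = B[I/π] ⊆ B_π`, `A' =
A[IA/π] ⊆ A_π`, the canonical map `B' → A'` (the restriction of `B_π → A_π`, given as a datum with
that compatibility) is surjective with kernel the elements `x` such that `π^n x ∈ J B'` for some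
`n`: `A'` is the quotient of `B'/JB'` by its `π`-power torsion. In Néron's situation (`I` the
inverse image of the maximal ideal of `Λ`, `π` a uniformizer) this is the printed functoriality; the
identity holds for any surjection. -/
theorem result (B A : Type u) [CommRing B] [CommRing A] [Algebra B A]
    (hq : Function.Surjective (algebraMap B A)) (I : Ideal B) (π : B) (hπ : π ∈ I)
    (ψ : BlowUp.affineAlgebra B I π →+* BlowUp.affineAlgebra A (I.map (algebraMap B A)) (algebraMap B A π))
    (hψ : ∀ x : BlowUp.affineAlgebra B I π,
      ((ψ x : BlowUp.affineAlgebra A (I.map (algebraMap B A)) (algebraMap B A π)) : Localization.Away (algebraMap B A π)) =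
        Localization.awayMap (algebraMap B A) π (x : Localization.Away π)) :
    Function.Surjective ψ ∧
      ∀ x : BlowUp.affineAlgebra B I π, x ∈ RingHom.ker ψ ↔
        ∃ n : ℕ, algebraMap B (BlowUp.affineAlgebra B I π) π ^ n * x ∈
          (RingHom.ker (algebraMap B A)).map (algebraMap B (BlowUp.affineAlgebra B I π)) := by
  have hMi : ∀ b : B, (Localization.awayMap (algebraMap B A) π) ((algebraMap B (Localization.Away π)) b) = (algebraMap A (Localization.Away (algebraMap B A π))) ((algebraMap B A) b) := by
    intro b
    exact IsLocalization.map_eq _ b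
  have hpI : (algebraMap B A π) ∈ I.map (algebraMap B A) := Ideal.mem_map_of_mem _ hπ
  have hunit : ∀ n : ℕ, IsUnit ((algebraMap A (Localization.Away (algebraMap B A π))) ((algebraMap B A π) ^ n)) := fun n =>
    IsLocalization.map_units (Localization.Away (algebraMap B A π)) (⟨(algebraMap B A π) ^ n, n, rfl⟩ : Submonoid.powers (algebraMap B A π))
  refine ⟨?_, ?_⟩
  · -- surjective
    intro y
    obtain ⟨n, c, hc, hcy⟩ := (mem_affineAlgebra_iff (I.map (algebraMap B A)) (algebraMap B A π) hpI y.1).1 y.2
    rw [← Ideal.map_pow, Ideal.mem_map_iff_of_surjective (algebraMap B A) hq] at hc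
    obtain ⟨b, hb, rfl⟩ := hc
    refine ⟨⟨(algebraMap B (Localization.Away π)) b * u π ^ n, algebraMap_mul_u_pow_mem I π n b hb⟩, ?_⟩
    apply Subtype.ext
    rw [hψ]
    apply (hunit n).mul_left_cancel
    rw [hcy]
    simp only
    have h1 : (algebraMap A (Localization.Away (algebraMap B A π))) ((algebraMap B A π) ^ n) = (Localization.awayMap (algebraMap B A) π) ((algebraMap B (Localization.Away π)) (π ^ n)) := by rw [hMi, map_pow (algebraMap B A)]
    rw [h1, ← map_mul, ← hMi]
    congr 1
    rw [map_pow]
    calc (algebraMap B (Localization.Away π)) π ^ n * ((algebraMap B (Localization.Away π)) b * u π ^ n) = (algebraMap B (Localization.Away π)) b * ((algebraMap B (Localization.Away π)) π * u π) ^ n := by rw [mul_pow]; ring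
      _ = (algebraMap B (Localization.Away π)) b := by rw [a_mul_u, one_pow, mul_one]
  · intro x
    constructor
    · intro hx
      rw [RingHom.mem_ker] at hx
      obtain ⟨n, b, hb, hbx⟩ := (mem_affineAlgebra_iff I π hπ x.1).1 x.2
      have h1 : (algebraMap A (Localization.Away (algebraMap B A π))) ((algebraMap B A) b) = 0 := by
        have h2 := congrArg (Localization.awayMap (algebraMap B A) π) hbx
        rw [map_mul, ← hψ x, hx, hMi, hMi] at h2
        rw [← h2]
        simp
      obtain ⟨⟨_, k, rfl⟩, hk⟩ := (IsLocalization.map_eq_zero_iff (Submonoid.powers (algebraMap B A π))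
        (Localization.Away (algebraMap B A π)) ((algebraMap B A) b)).1 h1
      simp only at hk
      refine ⟨n + k, ?_⟩
      have h3 : algebraMap B (BlowUp.affineAlgebra B I π) π ^ (n + k) * x =
          algebraMap B (BlowUp.affineAlgebra B I π) (π ^ k * b) := by
        apply Subtype.ext
        simp only [Subalgebra.coe_mul, Subalgebra.coe_pow, Subalgebra.coe_algebraMap]
        rw [map_mul, ← hbx, map_pow, map_pow, pow_add]
        ring
      rw [h3]
      apply Ideal.mem_map_of_mem
      rw [RingHom.mem_ker, map_mul, map_pow]
      exact hk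
    · rintro ⟨n, hn⟩
      have hle : (RingHom.ker (algebraMap B A)).map (algebraMap B (BlowUp.affineAlgebra B I π)) ≤ RingHom.ker ψ := by
        rw [Ideal.map_le_iff_le_comap]
        intro j hj
        rw [Ideal.mem_comap, RingHom.mem_ker]
        apply Subtype.ext
        rw [hψ]
        simp only [Subalgebra.coe_algebraMap, ZeroMemClass.coe_zero]
        rw [hMi, (RingHom.mem_ker).1 hj, map_zero]
      have h1 := hle hn
      rw [RingHom.mem_ker, map_mul, map_pow] at h1
      have h2 := congrArg Subtype.val h1
      simp only [Subalgebra.coe_mul, Subalgebra.coe_pow, ZeroMemClass.coe_zero] at h2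
      rw [hψ, hψ] at h2
      simp only [Subalgebra.coe_algebraMap] at h2
      rw [hMi, ← map_pow] at h2
      rw [RingHom.mem_ker]
      apply Subtype.ext
      rw [hψ]
      simp only [ZeroMemClass.coe_zero]
      exact (hunit n).mul_left_cancel (by rw [h2, mul_zero])

end Groth.Agent.S12097
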