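import Groth.Statements.S12098
import Mathlib
import Groth.Agent.H89.CxStableD
import Groth.Agent.H89.CxLocFree
import Groth.Agent.H89.CxConeTerms

set_option autoImplicit false
universe u
open CategoryTheory CategoryTheory.Limits
attribute [local instance] HasDerivedCategory.standard
open DRing

namespace Groth.Agent.S12098

/-- Let `p ⊆ R` be a prime and `M•`, `N•` bounded complexes whose terms are finite projective
`R`-modules and which are isomorphic in `D(R)`. Then for some `f ∉ p` the localized complexes `M•_f`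
and `N•_f` become isomorphic once a finite direct sum of trivial complexes is added to each: `M•_f ⊕
P•` and `N•_f ⊕ Q•` are isomorphic as complexes, with `P•`, `Q•` finite direct sums of copies of `0
→ R_f = R_f → 0` (placed in arbitrary degrees), expressed here as: bounded, with finite free terms
and free boundary modules, and with null-homotopic identity. -/
theorem result (R : Type u) [CommRing R] (p : Ideal R) [p.IsPrime]
    (M N : DRing.Cx R) (a b : ℤ) (hM : DRing.VanishesOutside M a b) (hN : DRing.VanishesOutside N a b)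
    (hMp : DRing.TermwiseFiniteProjective M) (hNp : DRing.TermwiseFiniteProjective N)
    (h : Nonempty (DRing.toD M ≅ DRing.toD N)) :
    ∃ f : R, f ∉ p ∧ ∃ P Q : DRing.Cx (Localization.Away f),
      ((∃ a' b' : ℤ, DRing.VanishesOutside P a' b') ∧ DRing.TermwiseFiniteFree P ∧
          (∀ i : ℤ, Module.Free (Localization.Away f) (LinearMap.range (P.d i (i + 1)).hom)) ∧ Nonempty (Homotopy (𝟙 P) 0)) ∧
      ((∃ a' b' : ℤ, DRing.VanishesOutside Q a' b') ∧ DRing.TermwiseFiniteFree Q ∧
          (∀ i : ℤ, Module.Free (Localization.Away f) (LinearMap.range (Q.d i (i + 1)).hom)) ∧ Nonempty (Homotopy (𝟙 Q) 0)) ∧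
      Nonempty ((((ModuleCat.extendScalars (algebraMap R (Localization.Away f))).mapHomologicalComplex (ComplexShape.up ℤ)).obj M) ⊞ P ≅ (((ModuleCat.extendScalars (algebraMap R (Localization.Away f))).mapHomologicalComplex (ComplexShape.up ℤ)).obj N) ⊞ Q) := by
  obtain ⟨e⟩ := h
  have hMb : ∀ i : ℤ, b < i → IsZero (M.X i) := fun i hi => hM i (Or.inr hi)
  have hNb : ∀ i : ℤ, b < i → IsZero (N.X i) := fun i hi => hN i (Or.inr hi)
  have hMproj : ∀ i : ℤ, Projective (M.X i) := fun i =>
    Groth.Agent.H89.CxConeTerms.projective_of_module_projective _ (hMp i).2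
  have hNproj : ∀ i : ℤ, Projective (N.X i) := fun i =>
    Groth.Agent.H89.CxConeTerms.projective_of_module_projective _ (hNp i).2
  obtain ⟨φ, ⟨hC⟩, ⟨iso⟩⟩ :=
    Groth.Agent.H89.CxStableD.exists_stable_iso M N b hMb hNb hMproj hNproj e
  have hT := CochainComplex.mappingCone.homotopyToZeroOfId M
  obtain ⟨r₁, hr₁, g₁⟩ := Groth.Agent.H89.CxLocFree.good_bc p (CochainComplex.mappingCone φ)
    (a - 1) b (Groth.Agent.H89.CxConeTerms.vanishesOutside_mappingCone φ a b hM hN)
    (Groth.Agent.H89.CxConeTerms.termwiseFiniteProjective_mappingCone φ hMp hNp) hC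
  obtain ⟨r₂, hr₂, g₂⟩ := Groth.Agent.H89.CxLocFree.good_bc p (CochainComplex.mappingCone (𝟙 M))
    (a - 1) b (Groth.Agent.H89.CxConeTerms.vanishesOutside_mappingCone (𝟙 M) a b hM hM)
    (Groth.Agent.H89.CxConeTerms.termwiseFiniteProjective_mappingCone (𝟙 M) hMp hMp) hT
  refine ⟨r₁ * r₂, fun hr => ?_, _, _, g₁ _ (dvd_mul_right r₁ r₂), g₂ _ (dvd_mul_left r₂ r₁), ⟨?_⟩⟩
  · rcases Ideal.IsPrime.mem_or_mem inferInstance hr with h' | h'
    · exact hr₁ h'
    · exact hr₂ h'
  · have : (ModuleCat.extendScalars.{u, u, u}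
        (algebraMap R (Localization.Away (r₁ * r₂)))).Additive :=
      (ModuleCat.extendRestrictScalarsAdj.{u, u, u}
        (algebraMap R (Localization.Away (r₁ * r₂)))).left_adjoint_additive
    have : PreservesBinaryBiproducts (Groth.Agent.H89.CxLocFree.bc (r₁ * r₂)) :=
      preservesBinaryBiproducts_of_preservesBiproducts _
    exact ((Groth.Agent.H89.CxLocFree.bc (r₁ * r₂)).mapBiprod M (CochainComplex.mappingCone φ)).symm
      ≪≫ (Groth.Agent.H89.CxLocFree.bc (r₁ * r₂)).mapIso iso.symm
      ≪≫ (Groth.Agent.H89.CxLocFree.bc (r₁ * r₂)).mapBiprod (CochainComplex.mappingCone (𝟙 M)) N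
      ≪≫ biprod.braiding _ _

end Groth.Agent.S12098
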