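import Groth.Statements.S12099
import Mathlib
-- import your own Groth.Agent.* helpers here

set_option autoImplicit false
universe v u
open CategoryTheory CategoryTheory.Limits
open PCoh

namespace Groth.Agent.S12099

/-- Punctual site: let C be an abelian category and C₀ a strictly full additive subcategory,
quasi-liftable in C. For an exact sequence F → G → H → 0 with F of C₀-finite type and G precoherent
relative to C₀ (every morphism from a C₀-object into G has kernel of C₀-finite type), H is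
precoherent relative to C₀. -/
theorem result {C : Type u} [Category.{v} C] [Abelian C]
    (P : ObjectProperty C) [P.IsClosedUnderIsomorphisms] [P.ContainsZero] (hsum : ∀ X Y : C, P X → P Y → P (X ⨯ Y))
    (hql : PCoh.IsQuasiLiftable P)
    (S : ShortComplex C) (hS : S.Exact) (hg : Epi S.g)
    (hF : PCoh.IsOfFiniteType P S.X₁) (hG : ∀ (E : C) (u : E ⟶ S.X₂), P E → PCoh.IsOfFiniteType P (kernel u)) :
    ∀ (E : C) (u : E ⟶ S.X₃), P E → PCoh.IsOfFiniteType P (kernel u) := by
  intro E u hE
  -- lift through the pullback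
  have hsnd : Epi (pullback.snd S.g u) := inferInstance
  obtain ⟨E', v, hE', hvepi⟩ := hql (pullback S.g u) E (pullback.snd S.g u) hsnd hE
  set w : E' ⟶ E := v ≫ pullback.snd S.g u with hw
  set u' : E' ⟶ S.X₂ := v ≫ pullback.fst S.g u with hu'
  have hcomm : u' ≫ S.g = w ≫ u := by
    rw [hu', hw, Category.assoc, Category.assoc, pullback.condition]
  obtain ⟨EF, π, hEF, hπ⟩ := hF
  set ut : E' ⨯ EF ⟶ S.X₂ := prod.fst ≫ u' + prod.snd ≫ π ≫ S.f with hut
  obtain ⟨E3, ρ, hE3, hρ⟩ := hG (E' ⨯ EF) ut (hsum _ _ hE' hEF)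
  have hκ0 : (kernel.ι ut ≫ prod.fst ≫ w) ≫ u = 0 := by
    have h1 : kernel.ι ut ≫ ut = 0 := kernel.condition ut
    rw [hut, Preadditive.comp_add] at h1
    have h2 : kernel.ι ut ≫ prod.fst ≫ u' = - (kernel.ι ut ≫ prod.snd ≫ π ≫ S.f) :=
      eq_neg_of_add_eq_zero_left h1
    calc (kernel.ι ut ≫ prod.fst ≫ w) ≫ u = (kernel.ι ut ≫ prod.fst ≫ u') ≫ S.g := by
          simp only [Category.assoc, hcomm]
      _ = 0 := by
          rw [h2, Preadditive.neg_comp]
          simp only [Category.assoc, S.zero, comp_zero, neg_zero]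
  set κ : kernel ut ⟶ kernel u := kernel.lift u (kernel.ι ut ≫ prod.fst ≫ w) hκ0 with hκ
  have hκepi : Epi κ := by
    rw [epi_iff_surjective_up_to_refinements]
    intro A y
    set e := y ≫ kernel.ι u with he
    have he0 : e ≫ u = 0 := by rw [he, Category.assoc, kernel.condition, comp_zero]
    obtain ⟨A₁, π₁, hπ₁, e', he'⟩ := surjective_up_to_refinements_of_epi w e
    have hx₂ : (e' ≫ u') ≫ S.g = 0 := by
      rw [Category.assoc, hcomm, ← Category.assoc, ← he', Category.assoc, he0, comp_zero]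
    obtain ⟨A₂, π₂, hπ₂, x₁, hx₁⟩ := hS.exact_up_to_refinements (e' ≫ u') hx₂
    obtain ⟨A₃, π₃, hπ₃, z, hz⟩ := surjective_up_to_refinements_of_epi π x₁
    set t : A₃ ⟶ E' ⨯ EF := prod.lift (π₃ ≫ π₂ ≫ e') (-z) with ht
    have ht0 : t ≫ ut = 0 := by
      rw [hut, Preadditive.comp_add, ht]
      simp only [← Category.assoc, prod.lift_fst, prod.lift_snd]
      simp only [Category.assoc, Preadditive.neg_comp]
      rw [hx₁, ← Category.assoc z, ← hz]
      simp
    refine ⟨A₃, π₃ ≫ π₂ ≫ π₁, inferInstance, kernel.lift ut t ht0, ?_⟩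
    rw [← cancel_mono (kernel.ι u)]
    simp only [Category.assoc, hκ, kernel.lift_ι]
    rw [← Category.assoc (kernel.lift ut t ht0), kernel.lift_ι, ht, prod.lift_fst_assoc]
    simp only [Category.assoc]
    rw [← he', he]
  exact ⟨E3, ρ ≫ κ, hE3, epi_comp _ _⟩

end Groth.Agent.S12099
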