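import Groth.Statements.S12105
import Groth.Agent.H43.PresheafSS

set_option autoImplicit false
universe u
open CategoryTheory
open CohSite

namespace Groth.Agent.S12105

open CategoryTheory.Limits in
/-- On a small site (C, J), for a presheaf of sets R on C and an abelian sheaf M there is a bounded E_2
spectral sequence of abelian groups with E_2^{p,q} isomorphic to H^p(R, H^q(M)) — the cohomology, in
the topos of presheaves (sheaves for the trivial topology), of the presheaf V ↦ H^q(V, M) with
respect to R, i.e. the p-th Ext out of the free abelian presheaf on R — for p, q ≥ 0 and zero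
otherwise, with abutment data whose filtrations are finite on H^n(aR, M), the cohomology of M with
respect to the sheaf of sets associated to R (n ≥ 0; zero for n < 0). The E_2 identifications and
abutment isomorphisms are asserted to exist only, not pinned to the canonical maps, so edge maps and
functoriality in R and M are not part of this statement. -/
theorem result {C : Type u} [SmallCategory C]
    (J : GrothendieckTopology C) (R : Cᵒᵖ ⥤ Type u) (M : Sheaf J AddCommGrpCat.{u}) :
    ∃ (E : E₂CohomologicalSpectralSequence AddCommGrpCat.{u})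
      (a : SpSeq.Abutment E (fun n : ℤ =>
        if 0 ≤ n then AddCommGrpCat.of (CohCx.HK ((presheafToSheaf J (Type u)).obj R) M n.toNat)
        else AddCommGrpCat.of PUnit.{u + 1})),
      (∀ n, a.IsFinite n) ∧ SpSeq.IsBounded E ∧
      ∀ p q : ℤ, Nonempty ((E.page 2 le_rfl).X (p, q) ≅
        (if 0 ≤ p ∧ 0 ≤ q then
          AddCommGrpCat.of (CohCx.HK (J := (⊥ : GrothendieckTopology C)) ⟨R, Presheaf.isSheaf_bot _⟩
            ⟨M.cohomologyPresheaf q.toNat, Presheaf.isSheaf_bot _⟩ p.toNat)
         else AddCommGrpCat.of PUnit.{u + 1})) := by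
  open Groth.Agent.H43.CohPresheafRD Groth.Agent.H43.PresheafSS Groth.Agent.H30 in
  let _ : HasDerivedCategory.{u + 1} (Sheaf J AddCommGrpCat.{u}) := HasDerivedCategory.standard _
  let _ : HasDerivedCategory.{u + 1} (Sheaf (⊥ : GrothendieckTopology C) AddCommGrpCat.{u}) :=
    HasDerivedCategory.standard _
  let _ : HasDerivedCategory.{u + 1} AddCommGrpCat.{u} := HasDerivedCategory.standard _
  refine GrothSSExt.grothendieck_spectralSequence' (T J) (ExtDerived.homF (P0 R))
    (fun Q' _ q hq => ?_) M
    (fun n => AddCommGrpCat.of (CohCx.HK ((presheafToSheaf J (Type u)).obj R) M n))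
    (fun p q => AddCommGrpCat.of (CohCx.HK (J := (⊥ : GrothendieckTopology C))
      ⟨R, Presheaf.isSheaf_bot _⟩ ⟨M.cohomologyPresheaf q, Presheaf.isSheaf_bot _⟩ p))
    (AddCommGrpCat.of PUnit.{u + 1})
    (AddCommGrpCat.isZero_of_subsingleton _) (fun n => ?_)
    (fun p q => ?_)
  · obtain ⟨j, rfl⟩ : ∃ j, q = j + 1 := ⟨q - 1, by lia⟩
    exact Functor.isZero_rightDerived_obj_injective_succ _ j _
  · obtain ⟨e⟩ := ExtDerived.nonempty_iso_rightDerived (Q J R) n M
    exact ⟨(GrothSSExt.rightDerivedIsoOfIso (compIso J R) n).app M ≪≫ e.symm⟩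
  · obtain ⟨e₁⟩ := nonempty_rightDerived_iso J M q
    obtain ⟨e₂⟩ := ExtDerived.nonempty_iso_rightDerived (P0 R) p
      (⟨M.cohomologyPresheaf q, Presheaf.isSheaf_bot _⟩ :
        Sheaf (⊥ : GrothendieckTopology C) AddCommGrpCat.{u})
    exact ⟨((ExtDerived.homF (P0 R)).rightDerived p).mapIso e₁ ≪≫ e₂.symm⟩

end Groth.Agent.S12105
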