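import Groth.Statements.S12107
import Mathlib
-- import your own Groth.Agent.* helpers here

set_option autoImplicit false
universe u
open CategoryTheory
open SGA4

namespace Groth.Agent.S12107

open CategoryTheory.Limits

section
variable {E : Type (u+1)} [Category.{u} E] [HasTerminal E] [HasBinaryProducts E]

lemma mono_prod_snd (U X : E) (hU : Mono (terminal.from U)) : Mono (prod.snd : U ⨯ X ⟶ X) := by
  constructor
  intro T a b hab
  apply Limits.prod.hom_ext
  · rw [← cancel_mono (terminal.from U)]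
    exact terminal.hom_ext _ _
  · exact hab

lemma isPullback_prod_map (U : E) {X X' : E} (m : X ⟶ X') :
    IsPullback (prod.snd : U ⨯ X ⟶ X) (prod.map (𝟙 U) m) m (prod.snd : U ⨯ X' ⟶ X') := by
  refine ⟨⟨by rw [prod.map_snd]⟩, ⟨PullbackCone.IsLimit.mk _
    (fun s => prod.lift (s.snd ≫ prod.fst) s.fst) ?_ ?_ ?_⟩⟩
  · intro s
    exact prod.lift_snd _ _
  · intro s
    apply Limits.prod.hom_ext
    · rw [Category.assoc, prod.map_fst, Category.comp_id, prod.lift_fst]
    · rw [Category.assoc, prod.map_snd, prod.lift_snd_assoc, s.condition]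
  · intro s l h₁ h₂
    apply Limits.prod.hom_ext
    · rw [prod.lift_fst, ← h₂, Category.assoc, prod.map_fst, Category.comp_id]
    · rw [prod.lift_snd]
      exact h₁

end

open CategoryTheory.Limits in
/-- In the topos of sheaves of sets on a small site, let U be an open (a subobject of the final object)
and, for an object X, let X_CU be the pushout of U ← U × X → X along the two projections. For a
morphism m : X ⟶ X' let k : X_CU ⟶ X'_CU be the induced morphism (compatible with the maps from U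
and with m). Then the square with sides m, k and the canonical maps X ⟶ X_CU, X' ⟶ X'_CU is
cartesian if and only if id_U × m : U × X ⟶ U × X' is an isomorphism (that is, m restricts to an
isomorphism over U). -/
theorem result {C : Type u} [SmallCategory C] (J : GrothendieckTopology C)
    (U : Sheaf J (Type u)) (hU : SGA4.IsOpen U) {X X' : Sheaf J (Type u)} (m : X ⟶ X')
    (k : pushout (prod.fst : U ⨯ X ⟶ U) (prod.snd : U ⨯ X ⟶ X) ⟶
      pushout (prod.fst : U ⨯ X' ⟶ U) (prod.snd : U ⨯ X' ⟶ X'))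
    (hk₁ : pushout.inl (prod.fst : U ⨯ X ⟶ U) (prod.snd : U ⨯ X ⟶ X) ≫ k =
      pushout.inl (prod.fst : U ⨯ X' ⟶ U) (prod.snd : U ⨯ X' ⟶ X'))
    (hk₂ : pushout.inr (prod.fst : U ⨯ X ⟶ U) (prod.snd : U ⨯ X ⟶ X) ≫ k =
      m ≫ pushout.inr (prod.fst : U ⨯ X' ⟶ U) (prod.snd : U ⨯ X' ⟶ X')) :
    IsPullback m (pushout.inr (prod.fst : U ⨯ X ⟶ U) (prod.snd : U ⨯ X ⟶ X))
        (pushout.inr (prod.fst : U ⨯ X' ⟶ U) (prod.snd : U ⨯ X' ⟶ X')) k ↔
      IsIso (prod.map (𝟙 U) m) := by
  haveI hmono : Mono (prod.snd : U ⨯ X ⟶ X) := mono_prod_snd U X hU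
  haveI hmono' : Mono (prod.snd : U ⨯ X' ⟶ X') := mono_prod_snd U X' hU
  have H : IsPushout (prod.fst : U ⨯ X ⟶ U) (prod.snd : U ⨯ X ⟶ X)
      (pushout.inl _ _) (pushout.inr _ _) := IsPushout.of_hasPushout _ _
  have H' : IsPushout (prod.fst : U ⨯ X' ⟶ U) (prod.snd : U ⨯ X' ⟶ X')
      (pushout.inl _ _) (pushout.inr _ _) := IsPushout.of_hasPushout _ _
  have HP := Adhesive.isPullback_of_isPushout_of_mono_right H
  have HP' := Adhesive.isPullback_of_isPushout_of_mono_right H'
  constructor
  · intro hm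
    have h1 := HP.flip.paste_horiz hm
    rw [hk₁] at h1
    have h2 := HP'.flip
    let e := h1.isoIsPullback _ _ h2
    have he : e.hom = prod.map (𝟙 U) m := by
      apply Limits.prod.hom_ext
      · rw [prod.map_fst, Category.comp_id]
        exact h1.isoIsPullback_hom_snd _ _ h2
      · rw [prod.map_snd]
        exact h1.isoIsPullback_hom_fst _ _ h2
    rw [← he]
    infer_instance
  · intro hiso
    have VK := Adhesive.van_kampen' H'
    have hb1 : IsPullback (prod.fst : U ⨯ X ⟶ U) (prod.map (𝟙 U) m) (𝟙 U)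
        (prod.fst : U ⨯ X' ⟶ U) :=
      IsPullback.of_vert_isIso ⟨by simp⟩
    have hb2 := isPullback_prod_map U m
    have := (VK (prod.fst : U ⨯ X ⟶ U) (prod.snd : U ⨯ X ⟶ X) (pushout.inl _ _) (pushout.inr _ _)
      (prod.map (𝟙 U) m) (𝟙 U) m k hb1 hb2 ⟨by rw [hk₁, Category.id_comp]⟩ ⟨hk₂⟩ H.toCommSq).1 H
    exact this.2.flip

end Groth.Agent.S12107
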