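import Groth.Statements.S12108
import Mathlib
-- import your own Groth.Agent.* helpers here

set_option autoImplicit false
open CategoryTheory CategoryTheory.Limits
universe u
open SGA4

open CategoryTheory CategoryTheory.Limits Opposite

namespace Groth.Agent.S12108

open Opposite

variable {C : Type u} [SmallCategory C] (J : GrothendieckTopology C)

lemma isIso_iff {P Q : Cᵒᵖ ⥤ Type u} (f : P ⟶ Q) :
    IsIso ((presheafToSheaf J (Type u)).map f) ↔
      Presheaf.IsLocallyInjective J f ∧ Presheaf.IsLocallySurjective J f := by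
  rw [← J.W_iff, J.W_iff_isLocallyBijective]

variable {X : C} {ι : Type u} (Y : ι → C) (s : ∀ i, Y i ⟶ X)

/-- concrete coproduct of representables -/
def Sig : Cᵒᵖ ⥤ Type u where
  obj U := Σ i, (unop U ⟶ Y i)
  map g := ↾fun t => ⟨t.1, g.unop ≫ t.2⟩
  map_id U := by
    refine ConcreteCategory.hom_ext _ _ (fun t => ?_)
    obtain ⟨i, f⟩ := t
    change (⟨i, 𝟙 _ ≫ f⟩ : Σ i, (unop U ⟶ Y i)) = ⟨i, f⟩
    rw [Category.id_comp]
  map_comp {U V W} g h := by
    refine ConcreteCategory.hom_ext _ _ (fun t => ?_)
    obtain ⟨i, f⟩ := t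
    change (⟨i, (h.unop ≫ g.unop) ≫ f⟩ : Σ i, (unop W ⟶ Y i)) = ⟨i, h.unop ≫ g.unop ≫ f⟩
    rw [Category.assoc]

@[simp] lemma Sig_map_apply {U V : Cᵒᵖ} (g : U ⟶ V) (i : ι) (f : unop U ⟶ Y i) :
    (Sig Y).map g ⟨i, f⟩ = ⟨i, g.unop ≫ f⟩ := rfl

def inj (i : ι) : yoneda.obj (Y i) ⟶ Sig Y where
  app U := ↾fun f => ⟨i, f⟩
  naturality U V g := by
    refine ConcreteCategory.hom_ext _ _ (fun f => ?_)
    rfl

@[simp] lemma inj_app_apply (i : ι) (U : Cᵒᵖ) (f : unop U ⟶ Y i) :
    (inj Y i).app U f = ⟨i, f⟩ := rfl

def sigDesc : Sig Y ⟶ yoneda.obj X where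
  app U := ↾fun t => t.2 ≫ s t.1
  naturality U V g := by
    refine ConcreteCategory.hom_ext _ _ (fun t => ?_)
    obtain ⟨i, f⟩ := t
    change (g.unop ≫ f) ≫ s i = g.unop ≫ (f ≫ s i)
    rw [Category.assoc]

@[simp] lemma sigDesc_app_apply (U : Cᵒᵖ) (i : ι) (f : unop U ⟶ Y i) :
    (sigDesc Y s).app U ⟨i, f⟩ = f ≫ s i := rfl

lemma inj_sigDesc (i : ι) : inj Y i ≫ sigDesc Y s = yoneda.map (s i) := by
  ext U f
  rfl

def isColimitSig : IsColimit (Cofan.mk (Sig Y) (inj Y)) :=
  Cofan.IsColimit.mk _
    (fun t => { app := fun U => ↾fun x => (t.inj x.1).app U x.2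
                naturality := by
                  intro U V g
                  refine ConcreteCategory.hom_ext _ _ (fun x => ?_)
                  obtain ⟨i, f⟩ := x
                  exact ConcreteCategory.congr_hom ((t.inj i).naturality g) f })
    (by
      intro t i
      ext U f
      rfl)
    (by
      intro t m hm
      ext U x
      obtain ⟨i, f⟩ := x
      have := ConcreteCategory.congr_hom (NatTrans.congr_app (hm i) U) f
      exact this)


section
variable {C : Type u} [SmallCategory C] (J : GrothendieckTopology C)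
variable {X : C} {ι : Type u} (Y : ι → C) (s : ∀ i, Y i ⟶ X)

/-- the colimit cofan after sheafification -/
noncomputable def isColimitSheafSig :
    IsColimit (Cofan.mk ((presheafToSheaf J (Type u)).obj (Sig Y))
      (fun i => (presheafToSheaf J (Type u)).map (inj Y i))) :=
  (isColimitMapCoconeCofanMkEquiv (presheafToSheaf J (Type u)) _ _)
    (isColimitOfPreserves (presheafToSheaf J (Type u)) (isColimitSig Y))

lemma colimit_iff_isIso :
    Nonempty (IsColimit (Cofan.mk ((presheafToSheaf J (Type u)).obj (yoneda.obj X))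
      (fun i => (presheafToSheaf J (Type u)).map (yoneda.map (s i))))) ↔
    IsIso ((presheafToSheaf J (Type u)).map (sigDesc Y s)) := by
  have hfac : ∀ i, (presheafToSheaf J (Type u)).map (inj Y i) ≫
      (presheafToSheaf J (Type u)).map (sigDesc Y s) =
      (presheafToSheaf J (Type u)).map (yoneda.map (s i)) := by
    intro i
    rw [← Functor.map_comp, inj_sigDesc]
  constructor
  · rintro ⟨h⟩
    have hdesc : (isColimitSheafSig J Y).desc (Cofan.mk _
        (fun i => (presheafToSheaf J (Type u)).map (yoneda.map (s i)))) =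
        (presheafToSheaf J (Type u)).map (sigDesc Y s) := by
      apply (isColimitSheafSig J Y).hom_ext
      rintro ⟨i⟩
      rw [IsColimit.fac]
      exact (hfac i).symm
    rw [← hdesc]
    exact ⟨⟨h.desc (Cofan.mk ((presheafToSheaf J (Type u)).obj (Sig Y))
      (fun i => (presheafToSheaf J (Type u)).map (inj Y i))), (isColimitSheafSig J Y).hom_ext (fun j => by
        rw [IsColimit.fac_assoc, IsColimit.fac]
        exact (Category.comp_id _).symm),
      h.hom_ext (fun j => by
        rw [IsColimit.fac_assoc, IsColimit.fac]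
        exact (Category.comp_id _).symm)⟩⟩
  · intro hiso
    refine ⟨IsColimit.ofIsoColimit (isColimitSheafSig J Y)
      (Cocone.ext (asIso ((presheafToSheaf J (Type u)).map (sigDesc Y s))) ?_)⟩
    rintro ⟨i⟩
    exact hfac i

end

section pb
variable {C : Type u} [SmallCategory C] (J : GrothendieckTopology C)
variable {P Q R : Cᵒᵖ ⥤ Type u} (f : P ⟶ R) (g : Q ⟶ R)

lemma isPullback_app (U : Cᵒᵖ) :
    IsPullback ((pullback.fst f g).app U) ((pullback.snd f g).app U) (f.app U) (g.app U) :=
  (IsPullback.of_hasPullback f g).map ((evaluation Cᵒᵖ (Type u)).obj U)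

lemma diag_fst_apply (U : Cᵒᵖ) (t : P.obj U) :
    (pullback.fst f f).app U ((pullback.diagonal f).app U t) = t :=
  ConcreteCategory.congr_hom (NatTrans.congr_app (pullback.diagonal_fst f) U) t

lemma diag_snd_apply (U : Cᵒᵖ) (t : P.obj U) :
    (pullback.snd f f).app U ((pullback.diagonal f).app U t) = t :=
  ConcreteCategory.congr_hom (NatTrans.congr_app (pullback.diagonal_snd f) U) t

lemma diag_iso_iff :
    IsIso ((presheafToSheaf J (Type u)).map (pullback.diagonal f)) ↔
      Presheaf.IsLocallyInjective J f := by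
  rw [isIso_iff]
  constructor
  · rintro ⟨-, hs⟩
    constructor
    intro U x y hxy
    obtain ⟨z, hz1, hz2⟩ := Types.exists_of_isPullback (isPullback_app f f U) x y hxy
    have := hs.imageSieve_mem (U := U.unop) z
    refine J.superset_covering ?_ this
    rintro V k ⟨t, ht⟩
    have h1 : t = P.map k.op x := by
      have := congrArg ((pullback.fst f f).app (op V)) ht
      rw [diag_fst_apply, NatTrans.naturality_apply, hz1] at this
      exact this
    have h2 : t = P.map k.op y := by
      have := congrArg ((pullback.snd f f).app (op V)) ht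
      rw [diag_snd_apply, NatTrans.naturality_apply, hz2] at this
      exact this
    change P.map k.op x = P.map k.op y
    rw [← h1, ← h2]
  · intro hf
    refine ⟨Presheaf.isLocallyInjective_of_injective J _ (fun U a b hab => ?_), ⟨?_⟩⟩
    · have := congrArg ((pullback.fst f f).app U) hab
      rwa [diag_fst_apply, diag_fst_apply] at this
    · intro U z
      have hc : f.app _ ((pullback.fst f f).app _ z) = f.app _ ((pullback.snd f f).app _ z) :=
        ConcreteCategory.congr_hom (NatTrans.congr_app (pullback.condition (f := f) (g := f)) (op U)) z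
      have := hf.equalizerSieve_mem _ _ hc
      refine J.superset_covering ?_ this
      intro V k hk
      change P.map k.op _ = P.map k.op _ at hk
      refine ⟨P.map k.op ((pullback.fst f f).app _ z), ?_⟩
      apply Types.ext_of_isPullback (isPullback_app f f (op V))
      · rw [diag_fst_apply, NatTrans.naturality_apply]
      · rw [diag_snd_apply, NatTrans.naturality_apply, hk]

end pb

section init
variable {C : Type u} [SmallCategory C] (J : GrothendieckTopology C)

def emptyPsh : Cᵒᵖ ⥤ Type u := (Functor.const _).obj PEmpty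

def emptyInitial : IsInitial (emptyPsh (C := C)) :=
  IsInitial.ofUniqueHom
    (fun F => { app := fun U => ↾fun (x : PEmpty) => x.elim
                naturality := by
                  intro U V k
                  refine ConcreteCategory.hom_ext _ _ (fun x => ?_)
                  exact (x : PEmpty).elim })
    (fun F m => by
      ext U x
      exact (x : PEmpty).elim)

lemma initial_iff (P : Cᵒᵖ ⥤ Type u) :
    Nonempty (IsInitial ((presheafToSheaf J (Type u)).obj P)) ↔
      ∀ (U : C), P.obj (op U) → ⊥ ∈ J U := by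
  have hE : IsInitial ((presheafToSheaf J (Type u)).obj (emptyPsh (C := C))) :=
    IsInitial.isInitialObj (presheafToSheaf J (Type u)) _ emptyInitial
  let φ : emptyPsh ⟶ P := emptyInitial.to P
  have h1 : Nonempty (IsInitial ((presheafToSheaf J (Type u)).obj P)) ↔
      IsIso ((presheafToSheaf J (Type u)).map φ) := by
    constructor
    · rintro ⟨h⟩
      have : (presheafToSheaf J (Type u)).map φ = (hE.uniqueUpToIso h).hom := hE.hom_ext _ _
      rw [this]
      infer_instance
    · intro h
      exact ⟨IsInitial.ofIso hE (asIso ((presheafToSheaf J (Type u)).map φ))⟩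
  rw [h1, isIso_iff]
  have hinj : Presheaf.IsLocallyInjective J φ :=
    Presheaf.isLocallyInjective_of_injective J _ (fun U a => (a : PEmpty).elim)
  constructor
  · rintro ⟨-, hs⟩ U z
    refine J.superset_covering ?_ (hs.imageSieve_mem z)
    rintro V k ⟨t, -⟩
    exact (t : PEmpty).elim
  · intro h
    refine ⟨hinj, ⟨fun {U} z => ?_⟩⟩
    exact J.superset_covering bot_le (h U z)

end init

section main
variable {C : Type u} [SmallCategory C] (J : GrothendieckTopology C)
variable {X : C} {ι : Type u} (Y : ι → C) (s : ∀ i, Y i ⟶ X)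

lemma locSurj_sigDesc_iff :
    Presheaf.IsLocallySurjective J (sigDesc Y s) ↔ Sieve.ofArrows Y s ∈ J X := by
  constructor
  · intro h
    have := h.imageSieve_mem (U := X) (𝟙 X : X ⟶ X)
    refine J.superset_covering ?_ this
    rintro V g ⟨⟨i, f⟩, hf⟩
    have hf' : f ≫ s i = g ≫ 𝟙 X := hf
    rw [Category.comp_id] at hf'
    rw [← hf']
    exact Sieve.downward_closed _ (Sieve.ofArrows_mk _ _ i) f
  · intro h
    constructor
    intro U f
    refine J.superset_covering ?_ (J.pullback_stable (f : U ⟶ X) h)
    rintro V g hg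
    obtain ⟨W, a, b, hb, hab⟩ := hg
    cases hb with
    | mk i => exact ⟨⟨i, a⟩, hab⟩

lemma locInj_sigDesc_iff :
    Presheaf.IsLocallyInjective J (sigDesc Y s) ↔
      (∀ i, Presheaf.IsLocallyInjective J (yoneda.map (s i))) ∧
      (∀ i j, i ≠ j → ∀ (U : C),
        (pullback (yoneda.map (s i)) (yoneda.map (s j))).obj (op U) → ⊥ ∈ J U) := by
  constructor
  · intro h
    refine ⟨fun i => ⟨fun {U} f f' hff' => ?_⟩, fun i j hij U z => ?_⟩
    · have := h.equalizerSieve_mem (X := U) (⟨i, f⟩ : (Sig Y).obj U) ⟨i, f'⟩ hff'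
      refine J.superset_covering ?_ this
      intro V g hg
      have hg' : (⟨i, g ≫ f⟩ : Σ i, (V ⟶ Y i)) = ⟨i, g ≫ f'⟩ := hg
      exact eq_of_heq (Sigma.mk.inj hg').2
    · have hc := ConcreteCategory.congr_hom (NatTrans.congr_app
        (pullback.condition (f := yoneda.map (s i)) (g := yoneda.map (s j))) (op U)) z
      have := h.equalizerSieve_mem (X := op U)
        (⟨i, (pullback.fst (yoneda.map (s i)) (yoneda.map (s j))).app _ z⟩ : (Sig Y).obj (op U))
        ⟨j, (pullback.snd (yoneda.map (s i)) (yoneda.map (s j))).app _ z⟩ hc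
      refine J.superset_covering ?_ this
      intro V g hg
      have hg' : (⟨i, g ≫ _⟩ : Σ i, (V ⟶ Y i)) = ⟨j, g ≫ _⟩ := hg
      exact (hij (Sigma.mk.inj hg').1).elim
  · rintro ⟨h1, h2⟩
    constructor
    rintro U ⟨i, f⟩ ⟨j, f'⟩ hff'
    by_cases hij : i = j
    · subst hij
      have := (h1 i).equalizerSieve_mem (X := U) f f' hff'
      refine J.superset_covering ?_ this
      intro V g hg
      have hg' : g ≫ f = g ≫ f' := hg
      change (⟨i, g ≫ f⟩ : Σ i, (V ⟶ Y i)) = ⟨i, g ≫ f'⟩
      rw [hg']
    · obtain ⟨z, -, -⟩ := Types.exists_of_isPullback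
        (isPullback_app (yoneda.map (s i)) (yoneda.map (s j)) U) f f' hff'
      exact J.superset_covering bot_le (h2 i j hij U.unop z)

end main

/-- Let `(C, J)` be a small site, `X` an object and `s i : Y i ⟶ X` a family of morphisms indexed by a
small type. The following are equivalent: (i) the family is covering, for every `i` the diagonal of
presheaves `h_{Y i} ⟶ h_{Y i} ×_{h_X} h_{Y i}` becomes an isomorphism under the associated-sheaf
functor, and for all `i ≠ j` the sheaf associated to the presheaf `h_{Y i} ×_{h_X} h_{Y j}` is an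
initial object; (ii) the associated sheaf of `X`, with the maps induced by the `s i`, is a coproduct
of the associated sheaves of the `Y i` in sheaves of sets. -/
theorem result
    {C : Type u} [SmallCategory C] (J : GrothendieckTopology C) {X : C} {ι : Type u}
    (Y : ι → C) (s : ∀ i, Y i ⟶ X) :
    (Sieve.ofArrows Y s ∈ J X ∧
      (∀ i, IsIso ((presheafToSheaf J (Type u)).map (pullback.diagonal (yoneda.map (s i))))) ∧
      (∀ i j, i ≠ j → Nonempty (IsInitial ((presheafToSheaf J (Type u)).obj
        (pullback (yoneda.map (s i)) (yoneda.map (s j))))))) ↔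
    Nonempty (IsColimit (Cofan.mk ((presheafToSheaf J (Type u)).obj (yoneda.obj X))
      (fun i => (presheafToSheaf J (Type u)).map (yoneda.map (s i))))) := by
  rw [colimit_iff_isIso J Y s, isIso_iff, locSurj_sigDesc_iff, locInj_sigDesc_iff]
  simp only [diag_iso_iff, initial_iff]
  tauto

end Groth.Agent.S12108
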