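import Groth.Statements.S12109
import Mathlib
-- import your own Groth.Agent.* helpers here

set_option autoImplicit false
open CategoryTheory CategoryTheory.Limits
universe u
open SGA4

open CategoryTheory CategoryTheory.Limits Opposite

namespace Groth.Agent.S12109

open Opposite

variable {C : Type u} [SmallCategory C] {C' : Type u} [SmallCategory C'] (u : C ⥤ C')

/-- restriction functor -/
noncomputable abbrev res : (C'ᵒᵖ ⥤ Type u) ⥤ (Cᵒᵖ ⥤ Type u) :=
  (Functor.whiskeringLeft Cᵒᵖ C'ᵒᵖ (Type u)).obj u.op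

noncomputable abbrev lanF : (Cᵒᵖ ⥤ Type u) ⥤ (C'ᵒᵖ ⥤ Type u) := u.op.lan

noncomputable abbrev adj : lanF u ⊣ res u := u.op.lanAdjunction (Type u)

/-- the map `h_Y → u^* h_{uY}` -/
def mY (Y : C) : yoneda.obj Y ⟶ (res u).obj (yoneda.obj (u.obj Y)) where
  app Z := ↾fun (f : Z.unop ⟶ Y) => u.map f
  naturality Z W g := by
    refine ConcreteCategory.hom_ext _ _ (fun f => ?_)
    change u.map (g.unop ≫ f) = u.map g.unop ≫ u.map f
    rw [CategoryTheory.Functor.map_comp]

@[simp] lemma mY_app_apply (Y : C) (Z : Cᵒᵖ) (f : Z.unop ⟶ Y) : (mY u Y).app Z f = u.map f := rfl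

noncomputable def β (Y : C) : (lanF u).obj (yoneda.obj Y) ⟶ yoneda.obj (u.obj Y) :=
  ((adj u).homEquiv _ _).symm (mY u Y)

lemma unit_β (Y : C) : (adj u).unit.app (yoneda.obj Y) ≫ (res u).map (β u Y) = mY u Y := by
  have := (adj u).homEquiv_unit (f := β u Y)
  rw [← this, β, Equiv.apply_symm_apply]

noncomputable def α (Y : C) : yoneda.obj (u.obj Y) ⟶ (lanF u).obj (yoneda.obj Y) :=
  yonedaEquiv.symm (((adj u).unit.app (yoneda.obj Y)).app (op Y) (𝟙 Y))

lemma α_β (Y : C) : α u Y ≫ β u Y = 𝟙 _ := by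
  apply yonedaEquiv.injective
  rw [yonedaEquiv_comp, α, Equiv.apply_symm_apply]
  have := ConcreteCategory.congr_hom (NatTrans.congr_app (unit_β u Y) (op Y)) (𝟙 Y)
  change (β u Y).app (op (u.obj Y)) (((adj u).unit.app (yoneda.obj Y)).app (op Y) (𝟙 Y)) = _ at this
  rw [this, mY_app_apply, CategoryTheory.Functor.map_id]
  rfl

lemma β_α (Y : C) : β u Y ≫ α u Y = 𝟙 _ := by
  apply ((adj u).homEquiv _ _).injective
  rw [(adj u).homEquiv_unit, (adj u).homEquiv_unit, CategoryTheory.Functor.map_comp,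
    ← Category.assoc, unit_β, CategoryTheory.Functor.map_id]
  refine Eq.trans ?_ (Category.comp_id _).symm
  apply yonedaEquiv.injective
  rw [yonedaEquiv_comp]
  change (α u Y).app (op (u.obj Y)) ((mY u Y).app (op Y) (𝟙 Y)) = _
  rw [mY_app_apply, CategoryTheory.Functor.map_id]
  change yonedaEquiv (α u Y) = _
  rw [α, Equiv.apply_symm_apply]
  rfl

noncomputable def βIso (Y : C) : (lanF u).obj (yoneda.obj Y) ≅ yoneda.obj (u.obj Y) where
  hom := β u Y
  inv := α u Y
  hom_inv_id := β_α u Y
  inv_hom_id := α_β u Y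

lemma β_natural {X Y : C} (f : X ⟶ Y) :
    (lanF u).map (yoneda.map f) ≫ β u Y = β u X ≫ yoneda.map (u.map f) := by
  apply ((adj u).homEquiv _ _).injective
  rw [(adj u).homEquiv_unit, (adj u).homEquiv_unit, CategoryTheory.Functor.map_comp,
    CategoryTheory.Functor.map_comp, ← Category.assoc, ← Category.assoc, unit_β]
  have := (adj u).unit.naturality (yoneda.map f)
  simp only [Functor.id_map, Functor.comp_map] at this
  rw [← this, Category.assoc, unit_β]
  ext Z g
  change u.map (g ≫ f) = u.map g ≫ u.map f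
  rw [CategoryTheory.Functor.map_comp]


section forward
variable {C : Type u} [SmallCategory C] {C' : Type u} [SmallCategory C'] (u : C ⥤ C')

variable (H1 : ∀ (F G : Cᵒᵖ ⥤ Type u), IsIndObject F → IsIndObject G →
        Function.Bijective (fun φ : F ⟶ G => (u.op.lan : (Cᵒᵖ ⥤ Type u) ⥤ (C'ᵒᵖ ⥤ Type u)).map φ))

include H1 in
lemma faithful_of : u.Faithful := by
  constructor
  intro X Y f g hfg
  have h1 : (lanF u).map (yoneda.map f) = (lanF u).map (yoneda.map g) := by
    have e1 := β_natural u f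
    have e2 := β_natural u g
    rw [hfg] at e1
    have e3 := e1.trans e2.symm
    haveI : IsIso (β u Y) := (βIso u Y).isIso_hom
    exact (cancel_mono (β u Y)).mp e3
  have := (H1 _ _ (isIndObject_yoneda X) (isIndObject_yoneda Y)).1 h1
  exact yoneda.map_injective this

include H1 in
lemma full_of : u.Full := by
  constructor
  intro X Y g'
  obtain ⟨φ, hφ⟩ := (H1 _ _ (isIndObject_yoneda X) (isIndObject_yoneda Y)).2
    (β u X ≫ yoneda.map g' ≫ α u Y)
  change (lanF u).map φ = _ at hφ
  obtain ⟨f, rfl⟩ := yoneda.map_surjective φ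
  refine ⟨f, ?_⟩
  have e1 := β_natural u f
  rw [hφ, Category.assoc, Category.assoc, α_β, Category.comp_id] at e1
  haveI : IsIso (β u X) := (βIso u X).isIso_hom
  exact (yoneda.map_injective ((cancel_epi (β u X)).mp e1)).symm

lemma retract_of
    (H2 : ∀ G' : C'ᵒᵖ ⥤ Type u, IsIndObject G' →
        ∃ F : Cᵒᵖ ⥤ Type u, IsIndObject F ∧
          Nonempty ((u.op.lan : (Cᵒᵖ ⥤ Type u) ⥤ (C'ᵒᵖ ⥤ Type u)).obj F ≅ G'))
    (X' : C') : ∃ (X : C) (i : X' ⟶ u.obj X) (r : u.obj X ⟶ X'), i ≫ r = 𝟙 X' := by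
  obtain ⟨F, hF, ⟨θ⟩⟩ := H2 (yoneda.obj X') (isIndObject_yoneda X')
  let P := hF.presentation
  haveI : PreservesColimitsOfSize.{u, u} (lanF u) := (adj u).leftAdjoint_preservesColimits
  have hc : IsColimit ((lanF u).mapCocone P.cocone) :=
    isColimitOfPreserves (lanF u) P.coconeIsColimit
  have hc' := isColimitOfPreserves ((evaluation C'ᵒᵖ (Type u)).obj (op X')) hc
  let t : ((lanF u).obj F).obj (op X') := θ.inv.app (op X') (𝟙 X')
  obtain ⟨j, tj, htj⟩ := Types.jointly_surjective_of_isColimit hc' t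
  -- tj : ((lanF u).obj (yoneda.obj (P.F.obj j))).obj (op X')
  let X := P.F.obj j
  change (((lanF u).map (P.cocone.ι.app j)).app (op X')) tj = t at htj
  let i : X' ⟶ u.obj X := (β u X).app (op X') tj
  let ρ : yoneda.obj (u.obj X) ⟶ yoneda.obj X' :=
    α u X ≫ (lanF u).map (P.cocone.ι.app j) ≫ θ.hom
  refine ⟨X, i, yonedaEquiv ρ, ?_⟩
  have h1 : ρ.app (op X') i = i ≫ yonedaEquiv ρ := by
    have := map_yonedaEquiv ρ i
    rw [← this]
    rfl
  rw [← h1]
  change θ.hom.app (op X') (((lanF u).map (P.cocone.ι.app j)).app (op X')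
    ((α u X).app (op X') ((β u X).app (op X') tj))) = _
  have h2 : (α u X).app (op X') ((β u X).app (op X') tj) = tj :=
    ConcreteCategory.congr_hom (NatTrans.congr_app (β_α u X) (op X')) tj
  rw [h2, htj]
  exact ConcreteCategory.congr_hom (NatTrans.congr_app θ.inv_hom_id (op X')) (𝟙 X')

end forward

section backward
variable {C : Type u} [SmallCategory C] {C' : Type u} [SmallCategory C'] (u : C ⥤ C')

lemma res_reflects_iso
    (hret : ∀ X' : C', ∃ (X : C) (i : X' ⟶ u.obj X) (r : u.obj X ⟶ X'), i ≫ r = 𝟙 X')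
    {G₁ G₂ : C'ᵒᵖ ⥤ Type u} (f : G₁ ⟶ G₂) (h : IsIso ((res u).map f)) : IsIso f := by
  have hbij : ∀ X : C, Function.Bijective (f.app (op (u.obj X))) := by
    intro X
    have : IsIso (((res u).map f).app (op X)) := inferInstance
    exact (isIso_iff_bijective _).mp this
  haveI : ∀ X', IsIso (f.app X') := by
    intro X'
    obtain ⟨X, i, r, hir⟩ := hret X'.unop
    rw [isIso_iff_bijective]
    have hG₁ : ∀ a : G₁.obj X', G₁.map i.op (G₁.map r.op a) = a := by
      intro a
      rw [← Functor.map_comp_apply, ← op_comp, hir, op_id, Functor.map_id_apply]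
    have hG₂ : ∀ a : G₂.obj X', G₂.map i.op (G₂.map r.op a) = a := by
      intro a
      rw [← Functor.map_comp_apply, ← op_comp, hir, op_id, Functor.map_id_apply]
    constructor
    · intro a b hab
      have h1 : f.app (op (u.obj X)) (G₁.map r.op a) = f.app (op (u.obj X)) (G₁.map r.op b) := by
        rw [NatTrans.naturality_apply, NatTrans.naturality_apply, hab]
      have h2 := (hbij X).1 h1
      rw [← hG₁ a, ← hG₁ b, h2]
    · intro b
      obtain ⟨c, hc⟩ := (hbij X).2 (G₂.map r.op b)
      refine ⟨G₁.map i.op c, ?_⟩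
      rw [NatTrans.naturality_apply, hc, hG₂]
  exact NatIso.isIso_of_isIso_app f

variable [u.Full] [u.Faithful]

lemma counit_iso
    (hret : ∀ X' : C', ∃ (X : C) (i : X' ⟶ u.obj X) (r : u.obj X ⟶ X'), i ≫ r = 𝟙 X')
    (G' : C'ᵒᵖ ⥤ Type u) : IsIso ((adj u).counit.app G') := by
  apply res_reflects_iso u hret
  have h := (adj u).right_triangle_components G'
  haveI : IsIso ((adj u).unit.app ((res u).obj G')) := inferInstance
  have : (res u).map ((adj u).counit.app G') = inv ((adj u).unit.app ((res u).obj G')) := by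
    rw [← cancel_epi ((adj u).unit.app ((res u).obj G')), h, IsIso.hom_inv_id]
    rfl
  rw [this]
  infer_instance

omit [u.Full] [u.Faithful] in
/-- the element of `G'(u X)` attached to an object of the category of elements of `u^* G'` -/
noncomputable def elt {G' : C'ᵒᵖ ⥤ Type u} (c : CostructuredArrow yoneda ((res u).obj G')) :
    G'.obj (op (u.obj c.left)) :=
  yonedaEquiv (X := c.left) (F := (res u).obj G') c.hom

omit [u.Full] [u.Faithful] in
lemma elt_map {G' : C'ᵒᵖ ⥤ Type u} {c d : CostructuredArrow yoneda ((res u).obj G')} (g : c ⟶ d) :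
    G'.map (u.map g.left).op (elt u d) = elt u c := by
  have := CostructuredArrow.w g
  unfold elt
  rw [← this]
  exact yonedaEquiv_naturality (F := (res u).obj G') d.hom g.left

omit [u.Full] [u.Faithful] in
/-- the comparison functor on categories of elements -/
noncomputable def Φ (G' : C'ᵒᵖ ⥤ Type u) :
    CostructuredArrow yoneda ((res u).obj G') ⥤ CostructuredArrow yoneda G' where
  obj c := CostructuredArrow.mk (Y := u.obj c.left) (yonedaEquiv.symm (elt u c))
  map {c d} g := CostructuredArrow.homMk (u.map g.left) (by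
    apply yonedaEquiv.injective
    change yonedaEquiv (yoneda.map (u.map g.left) ≫ yonedaEquiv.symm (elt u d)) =
      yonedaEquiv (yonedaEquiv.symm (elt u c))
    rw [← yonedaEquiv_naturality, Equiv.apply_symm_apply, Equiv.apply_symm_apply, elt_map])
  map_id c := by
    apply CostructuredArrow.hom_ext
    simp
  map_comp f g := by
    apply CostructuredArrow.hom_ext
    simp

end backward

section backward2
variable {C : Type u} [SmallCategory C] {C' : Type u} [SmallCategory C'] (u : C ⥤ C')

@[simp] lemma Φ_map_left (G' : C'ᵒᵖ ⥤ Type u)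
    {c d : CostructuredArrow yoneda ((res u).obj G')} (g : c ⟶ d) :
    ((Φ u G').map g).left = u.map g.left := rfl

@[simp] lemma Φ_obj_left (G' : C'ᵒᵖ ⥤ Type u)
    (c : CostructuredArrow yoneda ((res u).obj G')) :
    ((Φ u G').obj c).left = u.obj c.left := rfl

lemma Φ_obj_hom (G' : C'ᵒᵖ ⥤ Type u)
    (c : CostructuredArrow yoneda ((res u).obj G')) :
    ((Φ u G').obj c).hom = yonedaEquiv.symm (elt u c) := rfl

instance Φ_faithful [u.Faithful] (G' : C'ᵒᵖ ⥤ Type u) : (Φ u G').Faithful := by
  constructor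
  intro c d f g hfg
  apply CostructuredArrow.hom_ext
  have := congrArg CommaMorphism.left hfg
  rw [Φ_map_left, Φ_map_left] at this
  exact u.map_injective this

instance Φ_full [u.Full] [u.Faithful] (G' : C'ᵒᵖ ⥤ Type u) : (Φ u G').Full := by
  constructor
  intro c d h
  have hw := CostructuredArrow.w h
  rw [Φ_obj_hom, Φ_obj_hom] at hw
  have hw' : G'.map h.left.op (elt u d) = elt u c := by
    have e1 := congrArg yonedaEquiv hw
    rw [← yonedaEquiv_naturality] at e1
    have e2 : yonedaEquiv (yonedaEquiv.symm (elt u d)) = elt u d := Equiv.apply_symm_apply _ _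
    have e3 : yonedaEquiv (yonedaEquiv.symm (elt u c)) = elt u c := Equiv.apply_symm_apply _ _
    exact (congrArg (G'.map h.left.op) e2.symm).trans (e1.trans e3)
  refine ⟨CostructuredArrow.homMk (u.preimage h.left) ?_, ?_⟩
  · apply (yonedaEquiv (F := (res u).obj G')).injective
    rw [← yonedaEquiv_naturality (F := (res u).obj G')]
    change G'.map (u.map (u.preimage h.left)).op (elt u d) = elt u c
    rw [Functor.map_preimage]
    exact hw'
  · apply CostructuredArrow.hom_ext
    rw [Φ_map_left]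
    exact Functor.map_preimage u h.left

lemma Φ_cofinal
    (hret : ∀ X' : C', ∃ (X : C) (i : X' ⟶ u.obj X) (r : u.obj X ⟶ X'), i ≫ r = 𝟙 X')
    (G' : C'ᵒᵖ ⥤ Type u) (d : CostructuredArrow yoneda G') :
    ∃ c, Nonempty (d ⟶ (Φ u G').obj c) := by
  obtain ⟨X, i, r, hir⟩ := hret d.left
  let a : G'.obj (op (u.obj X)) := G'.map r.op (yonedaEquiv d.hom)
  let c : CostructuredArrow yoneda ((res u).obj G') :=
    CostructuredArrow.mk (Y := X) (yonedaEquiv (F := (res u).obj G').symm a)
  have hc : elt u c = a := by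
    unfold elt
    exact Equiv.apply_symm_apply _ _
  refine ⟨c, ⟨CostructuredArrow.homMk i ?_⟩⟩
  apply yonedaEquiv.injective
  rw [Φ_obj_hom]
  have e1 := yonedaEquiv_naturality (yonedaEquiv.symm (elt u c)) i
  have e2 : yonedaEquiv (yonedaEquiv.symm (elt u c)) = elt u c := Equiv.apply_symm_apply _ _
  have e3 : G'.map i.op (G'.map r.op (yonedaEquiv d.hom)) = yonedaEquiv d.hom := by
    rw [← Functor.map_comp_apply, ← op_comp, hir, op_id, Functor.map_id_apply]
  refine e1.symm.trans ?_
  refine (congrArg (G'.map i.op) (e2.trans hc)).trans e3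

lemma isIndObject_res [u.Full] [u.Faithful]
    (hret : ∀ X' : C', ∃ (X : C) (i : X' ⟶ u.obj X) (r : u.obj X ⟶ X'), i ≫ r = 𝟙 X')
    (G' : C'ᵒᵖ ⥤ Type u) (hG' : IsIndObject G') : IsIndObject ((res u).obj G') := by
  haveI := hG'.isFiltered
  haveI : IsFiltered (CostructuredArrow yoneda ((res u).obj G')) :=
    IsFiltered.of_exists_of_isFiltered_of_fullyFaithful (Φ u G') (Φ_cofinal u hret G')
  haveI : FinallySmall.{u} (CostructuredArrow yoneda ((res u).obj G')) :=
    finallySmall_of_essentiallySmall _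
  exact isIndObject_of_isFiltered_of_finallySmall _

end backward2

/-- Let `u : C ⥤ C'` be a functor between small categories and `u_!` the left Kan extension functor on
presheaves of sets, whose restriction to ind-representable presheaves is the induced functor `Ind C
⥤ Ind C'`. Then `Ind(u)` is an equivalence — `u_!` is bijective on morphisms between
ind-representable presheaves on `C` and every ind-representable presheaf on `C'` is isomorphic to
`u_! F` for some ind-representable `F` — if and only if `u` is full and faithful and every object of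
`C'` is a retract (direct factor) of an object `u X`. -/
theorem result
    {C : Type u} [SmallCategory C] {C' : Type u} [SmallCategory C'] (u : C ⥤ C') :
    ((∀ (F G : Cᵒᵖ ⥤ Type u), IsIndObject F → IsIndObject G →
        Function.Bijective (fun φ : F ⟶ G => (u.op.lan : (Cᵒᵖ ⥤ Type u) ⥤ (C'ᵒᵖ ⥤ Type u)).map φ)) ∧
      (∀ G' : C'ᵒᵖ ⥤ Type u, IsIndObject G' →
        ∃ F : Cᵒᵖ ⥤ Type u, IsIndObject F ∧
          Nonempty ((u.op.lan : (Cᵒᵖ ⥤ Type u) ⥤ (C'ᵒᵖ ⥤ Type u)).obj F ≅ G'))) ↔
    ((u.Full ∧ u.Faithful) ∧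
      ∀ X' : C', ∃ (X : C) (i : X' ⟶ u.obj X) (r : u.obj X ⟶ X'), i ≫ r = 𝟙 X') := by
  constructor
  · rintro ⟨H1, H2⟩
    exact ⟨⟨full_of u H1, faithful_of u H1⟩, retract_of u H2⟩
  · rintro ⟨⟨hfull, hfaith⟩, hret⟩
    refine ⟨fun F G _ _ => ?_, fun G' hG' => ?_⟩
    · haveI : IsIso (adj u).unit := inferInstance
      exact ((adj u).fullyFaithfulLOfIsIsoUnit).map_bijective F G
    · haveI := counit_iso u hret G'
      exact ⟨(res u).obj G', isIndObject_res u hret G' hG', ⟨asIso ((adj u).counit.app G')⟩⟩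

end Groth.Agent.S12109
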