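import Groth.Statements.S12126
import Groth.Agent.H29.DimFormula

set_option autoImplicit false
universe u
open CAlg

namespace Groth.Agent.S12126

open Groth.Agent.H62 Groth.Agent.H29.DimFormula in
theorem catHyp_of_hcat (R : Type u) [CommRing R] [IsDomain R]
    [IsNoetherianRing R] [IsLocalRing R] (S : Type u) [CommRing S] [IsDomain S] [Algebra R S]
    (hcat : ∀ A' : Subalgebra R (Polynomial S), A'.FG →
      ∀ (m' : Ideal A') [m'.IsMaximal], m'.LiesOver (IsLocalRing.maximalIdeal R) →
        CAlg.IsCatenary (Localization.AtPrime m')) :
    CatHyp R S (IsLocalRing.maximalIdeal R) := by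
  intro A' _ _ f hf hft P hP hPl a b hab hb
  let A'' : Subalgebra R (Polynomial S) := f.range
  have hfg : A''.FG := by
    have := hft.out.map f
    rwa [Algebra.map_top] at this
  let e : A' ≃ₐ[R] A'' := AlgEquiv.ofInjective f hf
  obtain ⟨M, hM, hPM⟩ := Ideal.exists_le_maximal P hP.ne_top
  let M'' : Ideal A'' := M.comap (e.symm : A'' ≃+* A')
  haveI : M''.IsMaximal := Ideal.comap_isMaximal_of_equiv (e.symm : A'' ≃+* A')
  have hMunder : M.under R = IsLocalRing.maximalIdeal R := by
    have hle : IsLocalRing.maximalIdeal R ≤ M.under R := by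
      rw [hPl.over]
      exact Ideal.comap_mono hPM
    have hne : M.under R ≠ ⊤ := by
      intro h
      apply hM.ne_top
      rw [Ideal.eq_top_iff_one] at h ⊢
      have : algebraMap R A' 1 ∈ M := h
      simpa using this
    exact ((IsLocalRing.maximalIdeal.isMaximal R).eq_of_le hne hle).symm
  have hM''l : M''.LiesOver (IsLocalRing.maximalIdeal R) := by
    constructor
    rw [← hMunder]
    ext r
    simp only [Ideal.under_def, Ideal.mem_comap, M'']
    have : (e.symm : A'' ≃+* A') (algebraMap R A'' r) = algebraMap R A' r := e.symm.commutes r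
    rw [this]
  have hB := hcat A'' hfg M'' hM''l
  let F : PrimeSpectrum A' ↪o PrimeSpectrum A'' :=
    (PrimeSpectrum.comapEquiv (e : A' ≃+* A'')).toOrderEmbedding
  have hconv : ∀ q, F a ≤ q → q ≤ F b → q ∈ Set.range F := fun q _ _ =>
    (PrimeSpectrum.comapEquiv (e : A' ≃+* A'')).surjective q
  rw [← catPair_iff_catPair', ← catPair_map_iff F hconv, catPair_iff_catPair']
  refine catPair'_of_isLocalization (M := M''.primeCompl) (B := Localization.AtPrime M'') hB
    (F a) (F b) (F.le_iff_le.2 hab) ?_
  rw [Set.disjoint_left]
  intro z hz hzb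
  apply hz
  exact hPM (hb hzb)


/-- Let A be a Noetherian local domain with maximal ideal m and residue field k, B a domain containing A
which is an A-algebra of finite type, q a prime ideal of B over m and k' the residue field of B_q.
If for every sub-A-algebra A' of finite type of the polynomial ring B[T] and every maximal ideal m'
of A' lying over m the local ring A'_{m'} is catenary, then ht(q) + trdeg_k k' = dim(A) + trdeg_A B,
stated with heights and transcendence degrees as cardinals (the transcendence degree of B over A is
that of the fraction fields, and that of k' over k is that of B/q over A/m). -/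
theorem result (R : Type u) [CommRing R] [IsDomain R]
    [IsNoetherianRing R] [IsLocalRing R] (S : Type u) [CommRing S] [IsDomain S] [Algebra R S]
    [FaithfulSMul R S] [Algebra.FiniteType R S] (q : Ideal S) [q.IsPrime]
    [q.LiesOver (IsLocalRing.maximalIdeal R)]
    (hcat : ∀ A' : Subalgebra R (Polynomial S), A'.FG →
      ∀ (m' : Ideal A') [m'.IsMaximal], m'.LiesOver (IsLocalRing.maximalIdeal R) →
        CAlg.IsCatenary (Localization.AtPrime m')) :
    (q.height : Cardinal.{u}) + Algebra.trdeg (R ⧸ IsLocalRing.maximalIdeal R) (S ⧸ q) =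
      ((IsLocalRing.maximalIdeal R).height : Cardinal.{u}) + Algebra.trdeg R S := by
  exact Groth.Agent.H29.DimFormula.dimension_formula_eq R S (IsLocalRing.maximalIdeal R) q
    (catHyp_of_hcat R S hcat)

end Groth.Agent.S12126
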