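import Groth.Statements.S12127
import Mathlib
-- import your own Groth.Agent.* helpers here

set_option autoImplicit false
universe u
open EGA43

namespace Groth.Agent.S12127

open Set

/-- quasi-constructible: finite union of locally closed sets. -/
def QC {W : Type u} [TopologicalSpace W] (Z : Set W) : Prop :=
  ∃ T : Set (Set W), T.Finite ∧ (∀ t ∈ T, IsLocallyClosed t) ∧ Z = ⋃₀ T

lemma QC.inter_lc {W : Type u} [TopologicalSpace W] {Z : Set W} (hZ : QC Z) {V : Set W}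
    (hV : IsLocallyClosed V) : QC (Z ∩ V) := by
  obtain ⟨T, hT, hlc, rfl⟩ := hZ
  refine ⟨(fun t => t ∩ V) '' T, hT.image _, ?_, ?_⟩
  · rintro _ ⟨t, ht, rfl⟩
    exact (hlc t ht).inter hV
  · ext w
    simp only [mem_inter_iff, mem_sUnion, mem_image, exists_exists_and_eq_and]
    constructor
    · rintro ⟨⟨t, ht, hw⟩, hwV⟩
      exact ⟨t, ht, hw, hwV⟩
    · rintro ⟨t, ht, hw, hwV⟩
      exact ⟨⟨t, ht, hw⟩, hwV⟩

lemma QC.preimage {W W' : Type u} [TopologicalSpace W] [TopologicalSpace W'] {Z : Set W}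
    (hZ : QC Z) {g : W' → W} (hg : Continuous g) : QC (g ⁻¹' Z) := by
  obtain ⟨T, hT, hlc, rfl⟩ := hZ
  refine ⟨(fun t => g ⁻¹' t) '' T, hT.image _, ?_, ?_⟩
  · rintro _ ⟨t, ht, rfl⟩
    exact (hlc t ht).preimage hg
  · ext w
    simp only [mem_preimage, mem_sUnion, mem_image, exists_exists_and_eq_and]

/-- The subtype formulation is equivalent to the absolute one. -/
lemma qc_subtype_iff {W : Type u} [TopologicalSpace W] {V : Set W} (hV : IsOpen V) (Z : Set W) :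
    (∃ T : Set (Set V), T.Finite ∧ (∀ t ∈ T, IsLocallyClosed t) ∧
      (Subtype.val ⁻¹' Z : Set V) = ⋃₀ T) ↔ QC (Z ∩ V) := by
  constructor
  · rintro ⟨T, hT, hlc, hZ⟩
    refine ⟨(fun t => Subtype.val '' t) '' T, hT.image _, ?_, ?_⟩
    · rintro _ ⟨t, ht, rfl⟩
      refine (hlc t ht).image Topology.IsInducing.subtypeVal ?_
      rw [Subtype.range_val]
      exact hV.isLocallyClosed
    · have h1 : Z ∩ V = Subtype.val '' (Subtype.val ⁻¹' Z : Set V) := by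
        rw [Subtype.image_preimage_coe, inter_comm]
      rw [h1, hZ]
      ext w
      simp only [mem_image, mem_sUnion, exists_exists_and_eq_and]
      constructor
      · rintro ⟨v, ⟨t, ht, hv⟩, rfl⟩
        exact ⟨t, ht, v, hv, rfl⟩
      · rintro ⟨t, ht, v, hv, rfl⟩
        exact ⟨v, ⟨t, ht, hv⟩, rfl⟩
  · rintro ⟨T, hT, hlc, hZ⟩
    refine ⟨(fun t => (Subtype.val ⁻¹' t : Set V)) '' T, hT.image _, ?_, ?_⟩
    · rintro _ ⟨t, ht, rfl⟩
      exact (hlc t ht).preimage continuous_subtype_val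
    · have h1 : (Subtype.val ⁻¹' Z : Set V) = Subtype.val ⁻¹' (Z ∩ V) := by
        ext v
        simp [v.2]
      rw [h1, hZ]
      ext v
      simp only [mem_preimage, mem_sUnion, mem_image, exists_exists_and_eq_and]

/-- absolute local quasi-constructibility -/
def LQC {W : Type u} [TopologicalSpace W] (Z : Set W) : Prop :=
  ∀ y : W, ∃ V : Set W, IsOpen V ∧ y ∈ V ∧ QC (Z ∩ V)

lemma lqc_iff {W : Type u} [TopologicalSpace W] (Z : Set W) :
    (∀ y : W, ∃ V : Set W, IsOpen V ∧ y ∈ V ∧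
      ∃ T : Set (Set V), T.Finite ∧ (∀ t ∈ T, IsLocallyClosed t) ∧
        (Subtype.val ⁻¹' Z : Set V) = ⋃₀ T) ↔ LQC Z := by
  constructor
  · intro h y
    obtain ⟨V, hV, hy, hT⟩ := h y
    exact ⟨V, hV, hy, (qc_subtype_iff hV Z).1 hT⟩
  · intro h y
    obtain ⟨V, hV, hy, hT⟩ := h y
    exact ⟨V, hV, hy, (qc_subtype_iff hV Z).2 hT⟩

lemma QC.lqc {W : Type u} [TopologicalSpace W] {Z : Set W} (hZ : QC Z) : LQC Z := by
  intro y
  exact ⟨univ, isOpen_univ, mem_univ _, by simpa using hZ⟩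

/-- a point outside a finite union of locally closed sets has a locally closed neighbourhood
disjoint from it. -/
lemma exists_lc_disjoint {W : Type u} [TopologicalSpace W] (y : W) (T : Set (Set W))
    (hT : T.Finite) (hlc : ∀ t ∈ T, IsLocallyClosed t) (hy : y ∉ ⋃₀ T) :
    ∃ N : Set W, IsLocallyClosed N ∧ y ∈ N ∧ N ∩ ⋃₀ T = ∅ := by
  induction T, hT using Set.Finite.induction_on with
  | empty => exact ⟨univ, isOpen_univ.isLocallyClosed, mem_univ _, by simp⟩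
  | @insert t T _ _ ih =>
    have hy' : y ∉ ⋃₀ T := fun h => hy (by
      rw [sUnion_insert]; exact Or.inr h)
    have hyt : y ∉ t := fun h => hy (by
      rw [sUnion_insert]; exact Or.inl h)
    obtain ⟨N, hN, hyN, hNT⟩ := ih (fun s hs => hlc s (mem_insert_of_mem _ hs)) hy'
    obtain ⟨U, F, hU, hF, rfl⟩ := hlc t (mem_insert _ _)
    by_cases hyU : y ∈ U
    · have hyF : y ∉ F := fun h => hyt ⟨hyU, h⟩
      refine ⟨N ∩ Fᶜ, hN.inter hF.isOpen_compl.isLocallyClosed, ⟨hyN, hyF⟩, ?_⟩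
      rw [sUnion_insert, inter_union_distrib_left]
      have h1 : N ∩ Fᶜ ∩ (U ∩ F) = ∅ := by
        ext w; simp only [mem_inter_iff, mem_compl_iff, mem_empty_iff_false, iff_false]; tauto
      have h2 : N ∩ Fᶜ ∩ ⋃₀ T = ∅ := by
        apply subset_empty_iff.1
        rw [← hNT]
        exact fun w hw => ⟨hw.1.1, hw.2⟩
      rw [h1, h2, union_empty]
    · refine ⟨N ∩ Uᶜ, hN.inter hU.isClosed_compl.isLocallyClosed, ⟨hyN, hyU⟩, ?_⟩
      rw [sUnion_insert, inter_union_distrib_left]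
      have h1 : N ∩ Uᶜ ∩ (U ∩ F) = ∅ := by
        ext w; simp only [mem_inter_iff, mem_compl_iff, mem_empty_iff_false, iff_false]; tauto
      have h2 : N ∩ Uᶜ ∩ ⋃₀ T = ∅ := by
        apply subset_empty_iff.1
        rw [← hNT]
        exact fun w hw => ⟨hw.1.1, hw.2⟩
      rw [h1, h2, union_empty]

section main

variable {X Y : Type u} [TopologicalSpace X] [TopologicalSpace Y] (f : X → Y) (hf : Continuous f)
  (hq : Function.Bijective (fun U : TopologicalSpace.Opens Y =>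
      (⟨f ⁻¹' (U : Set Y), U.isOpen.preimage hf⟩ : TopologicalSpace.Opens X)))

include hq

lemma open_inj {U₁ U₂ : Set Y} (h₁ : IsOpen U₁) (h₂ : IsOpen U₂) (h : f ⁻¹' U₁ = f ⁻¹' U₂) :
    U₁ = U₂ := by
  have := @hq.1 ⟨U₁, h₁⟩ ⟨U₂, h₂⟩ (by ext1; exact h)
  exact congrArg (fun U : TopologicalSpace.Opens Y => (U : Set Y)) this

lemma open_surj {W : Set X} (hW : IsOpen W) : ∃ U : Set Y, IsOpen U ∧ f ⁻¹' U = W := by
  obtain ⟨U, hU⟩ := hq.2 ⟨W, hW⟩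
  exact ⟨U, U.isOpen, congrArg (fun U : TopologicalSpace.Opens X => (U : Set X)) hU⟩

lemma open_mono {U₁ U₂ : Set Y} (h₁ : IsOpen U₁) (h₂ : IsOpen U₂) (h : f ⁻¹' U₁ ⊆ f ⁻¹' U₂) :
    U₁ ⊆ U₂ := by
  have : U₁ ∪ U₂ = U₂ := by
    apply open_inj f hf hq (h₁.union h₂) h₂
    rw [preimage_union]
    exact union_eq_self_of_subset_left h
  rw [← this]
  exact subset_union_left

lemma closed_surj {C : Set X} (hC : IsClosed C) : ∃ F : Set Y, IsClosed F ∧ f ⁻¹' F = C := by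
  obtain ⟨U, hU, hUC⟩ := open_surj f hf hq hC.isOpen_compl
  refine ⟨Uᶜ, hU.isClosed_compl, ?_⟩
  rw [preimage_compl, hUC, compl_compl]

lemma lc_surj {s : Set X} (hs : IsLocallyClosed s) :
    ∃ t : Set Y, IsLocallyClosed t ∧ f ⁻¹' t = s := by
  obtain ⟨W, C, hW, hC, rfl⟩ := hs
  obtain ⟨U, hU, rfl⟩ := open_surj f hf hq hW
  obtain ⟨F, hF, rfl⟩ := closed_surj f hf hq hC
  exact ⟨U ∩ F, ⟨U, F, hU, hF, rfl⟩, preimage_inter⟩

lemma lc_empty {L : Set Y} (hL : IsLocallyClosed L) (h : f ⁻¹' L = ∅) : L = ∅ := by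
  obtain ⟨U, F, hU, hF, rfl⟩ := hL
  have h1 : f ⁻¹' U ⊆ f ⁻¹' Fᶜ := by
    intro x hxU hxF
    have : x ∈ f ⁻¹' (U ∩ F) := ⟨hxU, hxF⟩
    rw [h] at this
    exact this
  have h2 := open_mono f hf hq hU hF.isOpen_compl h1
  ext w
  simp only [mem_inter_iff, mem_empty_iff_false, iff_false, not_and]
  exact fun hwU hwF => h2 hwU hwF

lemma lqc_mono {Z₁ Z₂ : Set Y} (h₁ : LQC Z₁) (h₂ : LQC Z₂) (h : f ⁻¹' Z₁ ⊆ f ⁻¹' Z₂) :
    Z₁ ⊆ Z₂ := by
  intro y hy₁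
  by_contra hy₂
  obtain ⟨V₁, hV₁, hyV₁, T₁, hT₁, hlc₁, hZ₁⟩ := h₁ y
  obtain ⟨V₂, hV₂, hyV₂, T₂, hT₂, hlc₂, hZ₂⟩ := h₂ y
  have hyA : y ∈ ⋃₀ T₁ := by rw [← hZ₁]; exact ⟨hy₁, hyV₁⟩
  obtain ⟨A, hA, hyA⟩ := hyA
  have hyT₂ : y ∉ ⋃₀ T₂ := by
    rw [← hZ₂]; exact fun h => hy₂ h.1
  obtain ⟨N, hN, hyN, hNT⟩ := exists_lc_disjoint y T₂ hT₂ hlc₂ hyT₂
  have hL : IsLocallyClosed (A ∩ V₂ ∩ N) :=
    ((hlc₁ A hA).inter hV₂.isLocallyClosed).inter hN
  have hLZ₁ : A ∩ V₂ ∩ N ⊆ Z₁ := by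
    intro w hw
    have : w ∈ Z₁ ∩ V₁ := by rw [hZ₁]; exact ⟨A, hA, hw.1.1⟩
    exact this.1
  have hLZ₂ : ∀ w ∈ A ∩ V₂ ∩ N, w ∉ Z₂ := by
    intro w hw hw₂
    have h3 : w ∈ Z₂ ∩ V₂ := ⟨hw₂, hw.1.2⟩
    rw [hZ₂] at h3
    have : w ∈ N ∩ ⋃₀ T₂ := ⟨hw.2, h3⟩
    rw [hNT] at this
    exact this
  have hempty : f ⁻¹' (A ∩ V₂ ∩ N) = ∅ := by
    ext x
    simp only [mem_empty_iff_false, iff_false]
    intro hx
    exact hLZ₂ (f x) hx (h (hLZ₁ hx))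
  have := lc_empty f hf hq hL hempty
  have hy : y ∈ A ∩ V₂ ∩ N := ⟨⟨hyA, hyV₂⟩, hyN⟩
  rw [this] at hy
  exact hy

lemma lqc_inj {Z₁ Z₂ : Set Y} (h₁ : LQC Z₁) (h₂ : LQC Z₂) (h : f ⁻¹' Z₁ = f ⁻¹' Z₂) :
    Z₁ = Z₂ :=
  Subset.antisymm (lqc_mono f hf hq h₁ h₂ h.subset) (lqc_mono f hf hq h₂ h₁ h.symm.subset)

lemma qc_surj {Z' : Set X} (hZ' : QC Z') : ∃ Z : Set Y, QC Z ∧ f ⁻¹' Z = Z' := by
  obtain ⟨T', hT', hlc', rfl⟩ := hZ'
  have hex : ∀ t' : Set X, ∃ t : Set Y, t' ∈ T' → (IsLocallyClosed t ∧ f ⁻¹' t = t') := by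
    intro t'
    by_cases ht' : t' ∈ T'
    · obtain ⟨t, ht, htt'⟩ := lc_surj f hf hq (hlc' t' ht')
      exact ⟨t, fun _ => ⟨ht, htt'⟩⟩
    · exact ⟨∅, fun h => absurd h ht'⟩
  choose g hg using hex
  refine ⟨⋃₀ (g '' T'), ⟨g '' T', hT'.image _, ?_, rfl⟩, ?_⟩
  · rintro _ ⟨t', ht', rfl⟩
    exact (hg t' ht').1
  · ext x
    simp only [mem_preimage, mem_sUnion, mem_image, exists_exists_and_eq_and]
    constructor
    · rintro ⟨t', ht', hx⟩
      refine ⟨t', ht', ?_⟩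
      rw [← (hg t' ht').2]
      exact hx
    · rintro ⟨t', ht', hx⟩
      refine ⟨t', ht', ?_⟩
      rw [← (hg t' ht').2] at hx
      exact hx

lemma lqc_surj {Z' : Set X} (hZ' : LQC Z') : ∃ Z : Set Y, LQC Z ∧ f ⁻¹' Z = Z' := by
  -- choose data for each x
  have hex : ∀ x : X, ∃ V : Set Y, ∃ Zx : Set Y, IsOpen V ∧ x ∈ f ⁻¹' V ∧ QC Zx ∧ Zx ⊆ V ∧
      f ⁻¹' Zx = Z' ∩ f ⁻¹' V := by
    intro x
    obtain ⟨V', hV', hxV', hqc⟩ := hZ' x
    obtain ⟨V, hV, rfl⟩ := open_surj f hf hq hV'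
    obtain ⟨Z0, hZ0, hZ0'⟩ := qc_surj f hf hq hqc
    refine ⟨V, Z0 ∩ V, hV, hxV', hZ0.inter_lc hV.isLocallyClosed, inter_subset_right, ?_⟩
    rw [preimage_inter, hZ0', inter_assoc, inter_self]
  choose V Zx hV hxV hQC hsub hpre using hex
  have hcompat : ∀ x x₀ : X, Zx x ∩ V x₀ = Zx x₀ ∩ V x := by
    intro x x₀
    apply lqc_inj f hf hq ((hQC x).inter_lc (hV x₀).isLocallyClosed).lqc
      ((hQC x₀).inter_lc (hV x).isLocallyClosed).lqc
    rw [preimage_inter, preimage_inter, hpre, hpre]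
    ext w
    simp only [mem_inter_iff, mem_preimage]
    tauto
  have hcover : ⋃ x, V x = univ := by
    apply open_inj f hf hq (isOpen_iUnion hV) isOpen_univ
    rw [preimage_univ, preimage_iUnion]
    exact eq_univ_of_forall fun x => mem_iUnion.2 ⟨x, hxV x⟩
  have hZV : ∀ x₀ : X, (⋃ x, Zx x) ∩ V x₀ = Zx x₀ := by
    intro x₀
    apply Subset.antisymm
    · rintro w ⟨hw, hwV⟩
      obtain ⟨x, hx⟩ := mem_iUnion.1 hw
      have : w ∈ Zx x ∩ V x₀ := ⟨hx, hwV⟩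
      rw [hcompat] at this
      exact this.1
    · intro w hw
      exact ⟨mem_iUnion.2 ⟨x₀, hw⟩, hsub x₀ hw⟩
  refine ⟨⋃ x, Zx x, ?_, ?_⟩
  · intro y
    have hy : y ∈ ⋃ x, V x := by rw [hcover]; exact mem_univ _
    obtain ⟨x₀, hx₀⟩ := mem_iUnion.1 hy
    refine ⟨V x₀, hV x₀, hx₀, ?_⟩
    rw [hZV]
    exact hQC x₀
  · rw [preimage_iUnion]
    ext w
    simp only [mem_iUnion, hpre, mem_inter_iff]
    constructor
    · rintro ⟨x, hx, _⟩
      exact hx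
    · intro hw
      exact ⟨w, hw, hxV w⟩

end main

/-- Let f : X → Y be a quasi-homeomorphism, i.e. a continuous map such that U ↦ f⁻¹(U) is a bijection
from the open subsets of Y onto the open subsets of X. Call a subset quasi-constructible when it is
a finite union of locally closed subsets, and locally quasi-constructible when every point of the
space has an open neighbourhood V whose intersection with it is quasi-constructible in V. Then Z ↦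
f⁻¹(Z) induces a bijection from the quasi-constructible subsets of Y onto those of X, and from the
locally quasi-constructible subsets of Y onto those of X. -/
theorem result {X Y : Type u}
    [TopologicalSpace X] [TopologicalSpace Y] (f : X → Y) (hf : Continuous f)
    (hq : Function.Bijective (fun U : TopologicalSpace.Opens Y =>
      (⟨f ⁻¹' (U : Set Y), U.isOpen.preimage hf⟩ : TopologicalSpace.Opens X))) :
    Set.BijOn (fun Z : Set Y => f ⁻¹' Z)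
        {Z : Set Y | ∃ T : Set (Set Y), T.Finite ∧ (∀ t ∈ T, IsLocallyClosed t) ∧ Z = ⋃₀ T}
        {Z : Set X | ∃ T : Set (Set X), T.Finite ∧ (∀ t ∈ T, IsLocallyClosed t) ∧ Z = ⋃₀ T} ∧
      Set.BijOn (fun Z : Set Y => f ⁻¹' Z)
        {Z : Set Y | ∀ y : Y, ∃ V : Set Y, IsOpen V ∧ y ∈ V ∧
          ∃ T : Set (Set V), T.Finite ∧ (∀ t ∈ T, IsLocallyClosed t) ∧ (Subtype.val ⁻¹' Z : Set V) = ⋃₀ T}
        {Z : Set X | ∀ x : X, ∃ V : Set X, IsOpen V ∧ x ∈ V ∧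
          ∃ T : Set (Set V), T.Finite ∧ (∀ t ∈ T, IsLocallyClosed t) ∧ (Subtype.val ⁻¹' Z : Set V) = ⋃₀ T} := by
  refine ⟨⟨?_, ?_, ?_⟩, ⟨?_, ?_, ?_⟩⟩
  · intro Z hZ
    exact QC.preimage hZ hf
  · intro Z₁ h₁ Z₂ h₂ h
    exact lqc_inj f hf hq (QC.lqc h₁) (QC.lqc h₂) h
  · intro Z' hZ'
    obtain ⟨Z, hZ, hZZ'⟩ := qc_surj f hf hq hZ'
    exact ⟨Z, hZ, hZZ'⟩
  · intro Z hZ
    rw [mem_setOf_eq, lqc_iff] at hZ ⊢
    intro x
    obtain ⟨V, hV, hxV, hqc⟩ := hZ (f x)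
    refine ⟨f ⁻¹' V, hV.preimage hf, hxV, ?_⟩
    rw [← preimage_inter]
    exact hqc.preimage hf
  · intro Z₁ h₁ Z₂ h₂ h
    rw [mem_setOf_eq, lqc_iff] at h₁ h₂
    exact lqc_inj f hf hq h₁ h₂ h
  · intro Z' hZ'
    rw [mem_setOf_eq, lqc_iff] at hZ'
    obtain ⟨Z, hZ, hZZ'⟩ := lqc_surj f hf hq hZ'
    refine ⟨Z, ?_, hZZ'⟩
    rw [mem_setOf_eq, lqc_iff]
    exact hZ

end Groth.Agent.S12127
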