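import Groth.Statements.S12146
import Groth.Agent.H41.RelPMap6

set_option autoImplicit false
universe u
open CategoryTheory CategoryTheory.Limits AlgebraicGeometry TopologicalSpace Opposite
open scoped HomogeneousIdeal
noncomputable section
open EGA2

namespace Groth.Agent.S12146

/-- Let q : X → Y be a morphism with Y affine, L an invertible O_X-module, 𝒮L = ⊕_{n≥0} L^{⊗n} its
graded symmetric algebra (whose Proj, presented with its charts, is identified with X by its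
structure morphism pL), 𝒮 a quasi-coherent positively graded O_Y-algebra with S = Γ(Y, 𝒮), ψ : q^*𝒮
→ 𝒮L a graded homomorphism given as a graded q-morphism u = ψ♭ : 𝒮 → q_*𝒮L, P = Proj(𝒮), and r =
r_{L,ψ} : G(ψ) → P the associated morphism on its open of definition G(ψ) ⊆ Proj(𝒮L). Then r is
dominant if and only if for every n > 0, every s ∈ S_n such that ψ♭(s) ∈ Γ(X, L^{⊗n}) is locally
nilpotent (as a section of the algebra 𝒮L: each point of X has an affine neighbourhood V with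
ψ♭(s)|V nilpotent in 𝒮L(V)) is nilpotent. -/
theorem result {Y X P PL : Scheme.{u}} (q : X ⟶ Y)
    (L : X.Modules) (hL : PicF.IsInvertible L) (hLq : Coh.IsQCoh L)
    (𝒮 : RelProj.QCGrAlg Y) (𝒮L : RelProj.QCGrAlg X) (j : L ⟶ 𝒮L.toModule) (hj : RelProj.IsGrSymAlg L 𝒮L j)
    (u : RelProj.QGrHom q 𝒮 𝒮L)
    (p : P ⟶ Y) (chart : ∀ (U : Y.Opens) (hU : IsAffineOpen U), (((p ⁻¹ᵁ U : P.Opens) : Scheme.{u}) ≅ Proj (𝒮.deg U hU)))
    (hP : RelProj.IsRelProj 𝒮 p chart)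
    (pL : PL ⟶ X) (chartL : ∀ (U : X.Opens) (hU : IsAffineOpen U), (((pL ⁻¹ᵁ U : PL.Opens) : Scheme.{u}) ≅ Proj (𝒮L.deg U hU)))
    (hPL : RelProj.IsRelProj 𝒮L pL chartL)
    (r : ((RelProj.domQ u pL chartL : PL.Opens) : Scheme.{u}) ⟶ P)
    (hr : RelProj.IsProjQMapOn u p chart pL chartL (RelProj.domQ u pL chartL) r)
    (hY : IsAffineOpen (⊤ : Y.Opens)) :
    IsDominant r ↔
      ∀ (n : ℕ), 0 < n → ∀ s ∈ 𝒮.deg ⊤ hY n,
        (∀ x : X, ∃ (V : X.Opens) (_ : IsAffineOpen V), x ∈ V ∧ IsNilpotent ((u.appLE ⊤ V (le_top.trans (Scheme.Hom.preimage_top q).ge)).hom s)) →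
          IsNilpotent s := by
  have hleV : ∀ V : X.Opens, V ≤ q ⁻¹ᵁ (⊤ : Y.Opens) :=
    fun V => le_top.trans (Scheme.Hom.preimage_top q).ge
  constructor
  · intro hdom n hn s hs hloc
    by_contra hnil
    obtain ⟨y, hy⟩ := Groth.Agent.H41.RelPMap4.exists_mem_basicOpen_of_not_isNilpotent hn hs hnil
    obtain ⟨x, hx⟩ : ∃ x, r x ∈ (RelProj.emb p chart ⊤ hY) ''ᵁ
        Proj.basicOpen (𝒮.deg ⊤ hY) s := by
      have := (dense_iff_inter_open.mp hdom.denseRange) _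
        ((RelProj.emb p chart ⊤ hY) ''ᵁ Proj.basicOpen (𝒮.deg ⊤ hY) s).2 ⟨_, _, hy, rfl⟩
      obtain ⟨_, hw, ⟨x, rfl⟩⟩ := this
      exact ⟨x, hw⟩
    obtain ⟨V, hV, hxV, hnilV⟩ := hloc (pL ((RelProj.domQ u pL chartL).ι x))
    have hxV' : (RelProj.domQ u pL chartL).ι x ∈ pL ⁻¹ᵁ V := hxV
    have h1 := (Groth.Agent.H41.RelPMap4.apply_mem_emb_basicOpen_iff u p chart pL chartL hPL r hr
      ⊤ hY V hV (hleV V) hn s hs x hxV').mp hx
    rw [Proj.mem_basicOpen] at h1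
    apply h1
    obtain ⟨m, hm⟩ := hnilV
    have hm' : (u.gradedAt ⊤ hY V hV (hleV V) s) ^ m = 0 := hm
    apply ((chartL V hV).hom ⟨(RelProj.domQ u pL chartL).ι x, hxV'⟩).isPrime.mem_of_pow_mem m
    rw [hm']
    exact zero_mem _
  · intro hcond
    refine ⟨?_⟩
    rw [DenseRange, dense_iff_inter_open]
    rintro V hV ⟨z, hz⟩
    obtain ⟨d, s, hd, hs, hzs, hsV⟩ := Groth.Agent.H41.RelPMap6.exists_emb_basicOpen_le p chart
      ⊤ hY ⟨V, hV⟩ z hz (by trivial)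
    obtain ⟨y₀, hy₀, -⟩ := hzs
    have hnil : ¬ IsNilpotent s := by
      rintro ⟨m, hm⟩
      have h3 : s ^ m ∈ y₀.asHomogeneousIdeal := by
        rw [hm]
        exact zero_mem _
      exact (Proj.mem_basicOpen _ _ _).mp hy₀ (y₀.isPrime.mem_of_pow_mem _ h3)
    have hex : ∃ x₀ : X, ∀ (W : X.Opens) (hW : IsAffineOpen W), x₀ ∈ W →
        ¬ IsNilpotent ((u.appLE ⊤ W (hleV W)).hom s) := by
      by_contra hcon
      push Not at hcon
      apply hnil
      apply hcond d hd s hs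
      intro x
      obtain ⟨W, hW, hxW, hnW⟩ := hcon x
      exact ⟨W, hW, hxW, hnW⟩
    obtain ⟨x₀, hx₀⟩ := hex
    obtain ⟨W, hW, hx₀W, -⟩ := (Opens.isBasis_iff_nbhd.mp X.isBasis_affineOpens)
      (Opens.mem_top x₀)
    have hnW : ¬ IsNilpotent (u.gradedAt ⊤ hY W hW (hleV W) s) := hx₀ W hW hx₀W
    have hfW : u.gradedAt ⊤ hY W hW (hleV W) s ∈ 𝒮L.deg W hW d :=
      (u.gradedAt ⊤ hY W hW (hleV W)).map_mem hs
    obtain ⟨y', hy'⟩ :=
      Groth.Agent.H41.RelPMap4.exists_mem_basicOpen_of_not_isNilpotent hd hfW hnW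
    have hdom' : y' ∈ RelCone.domOpen (u.gradedAt ⊤ hY W hW (hleV W)) :=
      Groth.Agent.H41.PMap.basicOpen_le _ hs hd hy'
    have hQ : (RelProj.emb pL chartL W hW) y' ∈ RelProj.domQ u pL chartL :=
      Groth.Agent.H41.RelPMap2.W_le_domQ u pL chartL ⊤ hY W hW (hleV W) ⟨y', hdom', rfl⟩
    have hxW : (RelProj.domQ u pL chartL).ι ⟨(RelProj.emb pL chartL W hW) y', hQ⟩ ∈ pL ⁻¹ᵁ W :=
      Groth.Agent.H41.RelPMap2.emb_mem pL chartL W hW y'
    have h1 := (Groth.Agent.H41.RelPMap4.apply_mem_emb_basicOpen_iff u p chart pL chartL hPL r hr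
      ⊤ hY W hW (hleV W) hd s hs ⟨(RelProj.emb pL chartL W hW) y', hQ⟩ hxW).mpr (by
        have := Groth.Agent.H41.RelPMap2.chart_emb_apply pL chartL W hW y'
        change (chartL W hW).hom ⟨(RelProj.emb pL chartL W hW) y', _⟩ ∈ _
        rw [this]
        exact hy')
    exact ⟨_, hsV h1, _, rfl⟩

end Groth.Agent.S12146
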