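import Groth.Statements.S12148
import Groth.Agent.H41.RelPMap5

set_option autoImplicit false
universe u
open CategoryTheory CategoryTheory.Limits AlgebraicGeometry TopologicalSpace Opposite
open scoped HomogeneousIdeal
noncomputable section
open EGA2

namespace Groth.Agent.S12148

/-- Let q : X → Y be a morphism, L an invertible O_X-module with 𝒮L = ⊕ L^{⊗n} (whose Proj, with its
charts, is X), v : 𝒯 → 𝒮 a graded homomorphism of quasi-coherent positively graded O_Y-algebras, ψ♭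
= u : 𝒮 → q_*𝒮L a graded q-morphism and ψ'♭ = u' its composite with v; let r = r_{L,ψ} : G(ψ) →
Proj(𝒮) and r' = r_{L,ψ'} : G(ψ') → Proj(𝒯) be the associated morphisms. If v is (TN)-surjective
(there is n with v : 𝒯_k → 𝒮_k surjective for every k ≥ n, on sections over affine opens) and r' is
dominant, then r is dominant. -/
theorem result {Y X P PL P' : Scheme.{u}} (q : X ⟶ Y)
    (L : X.Modules) (hL : PicF.IsInvertible L) (hLq : Coh.IsQCoh L)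
    (𝒮 : RelProj.QCGrAlg Y) (𝒮L : RelProj.QCGrAlg X) (j : L ⟶ 𝒮L.toModule) (hj : RelProj.IsGrSymAlg L 𝒮L j)
    (u : RelProj.QGrHom q 𝒮 𝒮L)
    (p : P ⟶ Y) (chart : ∀ (U : Y.Opens) (hU : IsAffineOpen U), (((p ⁻¹ᵁ U : P.Opens) : Scheme.{u}) ≅ Proj (𝒮.deg U hU)))
    (hP : RelProj.IsRelProj 𝒮 p chart)
    (pL : PL ⟶ X) (chartL : ∀ (U : X.Opens) (hU : IsAffineOpen U), (((pL ⁻¹ᵁ U : PL.Opens) : Scheme.{u}) ≅ Proj (𝒮L.deg U hU)))
    (hPL : RelProj.IsRelProj 𝒮L pL chartL)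
    (r : ((RelProj.domQ u pL chartL : PL.Opens) : Scheme.{u}) ⟶ P)
    (hr : RelProj.IsProjQMapOn u p chart pL chartL (RelProj.domQ u pL chartL) r)
    (𝒯 : RelProj.QCGrAlg Y) (v : 𝒯.toQCAlg ⟶ 𝒮.toQCAlg) (hv : RelProj.IsGradedHom v)
    (u' : RelProj.QGrHom q 𝒯 𝒮L) (hu' : ∀ U : Y.Opens, u'.app U = v.hom.app (op U) ≫ u.app U)
    (p' : P' ⟶ Y) (chart' : ∀ (U : Y.Opens) (hU : IsAffineOpen U), (((p' ⁻¹ᵁ U : P'.Opens) : Scheme.{u}) ≅ Proj (𝒯.deg U hU)))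
    (hP' : RelProj.IsRelProj 𝒯 p' chart')
    (r' : ((RelProj.domQ u' pL chartL : PL.Opens) : Scheme.{u}) ⟶ P')
    (hr' : RelProj.IsProjQMapOn u' p' chart' pL chartL (RelProj.domQ u' pL chartL) r')
    (hTN : ∃ n : ℕ, ∀ k, n ≤ k → ∀ (U : Y.Opens) (hU : IsAffineOpen U), ∀ y ∈ 𝒮.deg U hU k,
      ∃ x ∈ 𝒯.deg U hU k, (v.hom.app (op U)).hom x = y) (hdom : IsDominant r') :
    IsDominant r := by
  obtain ⟨n₀, hn₀⟩ := hTN
  refine ⟨?_⟩
  rw [DenseRange, dense_iff_inter_open]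
  rintro V hV ⟨z, hz⟩
  obtain ⟨U, hU, d, f, hd, hf, hzf, hfV⟩ :=
    Groth.Agent.H41.RelPMap4.exists_emb_basicOpen_le p chart ⟨V, hV⟩ z hz
  have hn : 0 < n₀ + 1 := by omega
  have hfn : f ^ (n₀ + 1) ∈ 𝒮.deg U hU ((n₀ + 1) • d) := SetLike.pow_mem_graded _ hf
  have hge : n₀ ≤ (n₀ + 1) • d := by
    have : (n₀ + 1) * 1 ≤ (n₀ + 1) * d := Nat.mul_le_mul le_rfl hd
    simp only [smul_eq_mul]
    omega
  have hpos : 0 < (n₀ + 1) • d := by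
    simp only [smul_eq_mul]
    exact Nat.mul_pos hn hd
  obtain ⟨t, ht, htf⟩ := hn₀ _ hge U hU _ hfn
  have htf' : RelProj.gradedHomAt v hv U hU t = f ^ (n₀ + 1) := htf
  obtain ⟨y₀, hy₀, -⟩ := hzf
  have hy₀' : y₀ ∈ Proj.basicOpen (𝒮.deg U hU) (RelProj.gradedHomAt v hv U hU t) := by
    rw [htf', Proj.basicOpen_pow _ _ _ hn]
    exact hy₀
  have hdomv : y₀ ∈ RelCone.domOpen (RelProj.gradedHomAt v hv U hU) :=
    Groth.Agent.H41.PMap.basicOpen_le _ ht hpos hy₀'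
  have hz' : (Groth.Agent.H41.PMap.map (RelProj.gradedHomAt v hv U hU)) ⟨y₀, hdomv⟩ ∈
      Proj.basicOpen (𝒯.deg U hU) t :=
    (SetLike.ext_iff.mp (Groth.Agent.H41.PMap.map_preimage_basicOpen
      (RelProj.gradedHomAt v hv U hU) ht hpos) ⟨y₀, hdomv⟩).mpr hy₀'
  obtain ⟨x', hx'⟩ : ∃ x', r' x' ∈
      (RelProj.emb p' chart' U hU) ''ᵁ Proj.basicOpen (𝒯.deg U hU) t := by
    have := (dense_iff_inter_open.mp hdom.denseRange) _
      ((RelProj.emb p' chart' U hU) ''ᵁ Proj.basicOpen (𝒯.deg U hU) t).2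
      ⟨_, _, hz', rfl⟩
    obtain ⟨_, hw, ⟨x', rfl⟩⟩ := this
    exact ⟨x', hw⟩
  have hff : ∀ (U' : X.Opens) (hU' : IsAffineOpen U') (hle : U' ≤ q ⁻¹ᵁ U),
      Proj.basicOpen (𝒮L.deg U' hU') (u'.gradedAt U hU U' hU' hle t) =
        Proj.basicOpen (𝒮L.deg U' hU') (u.gradedAt U hU U' hU' hle f) := by
    intro U' hU' hle
    rw [Groth.Agent.H41.RelPMap5.gradedAt_apply q 𝒮 𝒮L u 𝒯 v hv u' hu' U hU U' hU' hle t, htf',
      map_pow, Proj.basicOpen_pow _ _ _ hn]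
  obtain ⟨x, hx⟩ := Groth.Agent.H41.RelPMap5.transfer q 𝒯 𝒮 𝒮L u' u p' chart' hP' p chart pL chartL
    hPL r' hr' r hr U hU hpos t ht hd f hf hff x' hx'
  exact ⟨r x, hfV hx, x, rfl⟩

end Groth.Agent.S12148
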