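import Groth.Statements.S12149
import Groth.Agent.H41.RelPMap5

set_option autoImplicit false
universe u
open CategoryTheory CategoryTheory.Limits AlgebraicGeometry TopologicalSpace Opposite
open scoped HomogeneousIdeal
noncomputable section
open EGA2

namespace Groth.Agent.S12149

/-- Let q : X → Y be a morphism, L an invertible O_X-module with 𝒮L = ⊕ L^{⊗n} (whose Proj, with its
charts, is X), v : 𝒯 → 𝒮 a graded homomorphism of quasi-coherent positively graded O_Y-algebras, ψ♭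
= u : 𝒮 → q_*𝒮L a graded q-morphism and ψ'♭ = u' its composite with v; let r = r_{L,ψ} : G(ψ) →
Proj(𝒮) and r' = r_{L,ψ'} : G(ψ') → Proj(𝒯) be the associated morphisms. If v is (TN)-injective
(there is n with v injective on 𝒯_k for every k ≥ n, on sections over affine opens) and r is
dominant, then r' is dominant. -/
theorem result {Y X P PL P' : Scheme.{u}} (q : X ⟶ Y)
    (L : X.Modules) (hL : PicF.IsInvertible L) (hLq : Coh.IsQCoh L)
    (𝒮 : RelProj.QCGrAlg Y) (𝒮L : RelProj.QCGrAlg X) (j : L ⟶ 𝒮L.toModule) (hj : RelProj.IsGrSymAlg L 𝒮L j)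
    (u : RelProj.QGrHom q 𝒮 𝒮L)
    (p : P ⟶ Y) (chart : ∀ (U : Y.Opens) (hU : IsAffineOpen U), (((p ⁻¹ᵁ U : P.Opens) : Scheme.{u}) ≅ Proj (𝒮.deg U hU)))
    (hP : RelProj.IsRelProj 𝒮 p chart)
    (pL : PL ⟶ X) (chartL : ∀ (U : X.Opens) (hU : IsAffineOpen U), (((pL ⁻¹ᵁ U : PL.Opens) : Scheme.{u}) ≅ Proj (𝒮L.deg U hU)))
    (hPL : RelProj.IsRelProj 𝒮L pL chartL)
    (r : ((RelProj.domQ u pL chartL : PL.Opens) : Scheme.{u}) ⟶ P)
    (hr : RelProj.IsProjQMapOn u p chart pL chartL (RelProj.domQ u pL chartL) r)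
    (𝒯 : RelProj.QCGrAlg Y) (v : 𝒯.toQCAlg ⟶ 𝒮.toQCAlg) (hv : RelProj.IsGradedHom v)
    (u' : RelProj.QGrHom q 𝒯 𝒮L) (hu' : ∀ U : Y.Opens, u'.app U = v.hom.app (op U) ≫ u.app U)
    (p' : P' ⟶ Y) (chart' : ∀ (U : Y.Opens) (hU : IsAffineOpen U), (((p' ⁻¹ᵁ U : P'.Opens) : Scheme.{u}) ≅ Proj (𝒯.deg U hU)))
    (hP' : RelProj.IsRelProj 𝒯 p' chart')
    (r' : ((RelProj.domQ u' pL chartL : PL.Opens) : Scheme.{u}) ⟶ P')
    (hr' : RelProj.IsProjQMapOn u' p' chart' pL chartL (RelProj.domQ u' pL chartL) r')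
    (hTN : ∃ n : ℕ, ∀ k, n ≤ k → ∀ (U : Y.Opens) (hU : IsAffineOpen U), ∀ x ∈ 𝒯.deg U hU k,
      (v.hom.app (op U)).hom x = 0 → x = 0) (hdom : IsDominant r) :
    IsDominant r' := by
  obtain ⟨n₀, hn₀⟩ := hTN
  refine ⟨?_⟩
  rw [DenseRange, dense_iff_inter_open]
  rintro V hV ⟨z, hz⟩
  obtain ⟨U, hU, d, t, hd, ht, hzt, htV⟩ :=
    Groth.Agent.H41.RelPMap4.exists_emb_basicOpen_le p' chart' ⟨V, hV⟩ z hz
  have hf : RelProj.gradedHomAt v hv U hU t ∈ 𝒮.deg U hU d :=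
    (RelProj.gradedHomAt v hv U hU).map_mem ht
  have hnil : ¬ IsNilpotent (RelProj.gradedHomAt v hv U hU t) := by
    rintro ⟨m, hm⟩
    have h1 : (v.hom.app (op U)).hom (t ^ (m + n₀)) = 0 := by
      rw [map_pow]
      change (RelProj.gradedHomAt v hv U hU t) ^ (m + n₀) = 0
      rw [pow_add, hm, zero_mul]
    have hge : n₀ ≤ (m + n₀) • d := by
      have : (m + n₀) * 1 ≤ (m + n₀) * d := Nat.mul_le_mul le_rfl hd
      simp only [smul_eq_mul]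
      omega
    have h2 : t ^ (m + n₀) = 0 :=
      hn₀ ((m + n₀) • d) hge U hU _ (SetLike.pow_mem_graded _ ht) h1
    obtain ⟨y₀, hy₀, -⟩ := hzt
    have h3 : t ^ (m + n₀) ∈ y₀.asHomogeneousIdeal := by
      rw [h2]
      exact zero_mem _
    exact (Proj.mem_basicOpen _ _ _).mp hy₀ (y₀.isPrime.mem_of_pow_mem _ h3)
  obtain ⟨y, hy⟩ := Groth.Agent.H41.RelPMap4.exists_mem_basicOpen_of_not_isNilpotent hd hf hnil
  obtain ⟨x, hx⟩ : ∃ x, r x ∈ (RelProj.emb p chart U hU) ''ᵁ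
      Proj.basicOpen (𝒮.deg U hU) (RelProj.gradedHomAt v hv U hU t) := by
    have := (dense_iff_inter_open.mp hdom.denseRange) _
      ((RelProj.emb p chart U hU) ''ᵁ
        Proj.basicOpen (𝒮.deg U hU) (RelProj.gradedHomAt v hv U hU t)).2 ⟨_, _, hy, rfl⟩
    obtain ⟨_, hw, ⟨x, rfl⟩⟩ := this
    exact ⟨x, hw⟩
  have hff : ∀ (U' : X.Opens) (hU' : IsAffineOpen U') (hle : U' ≤ q ⁻¹ᵁ U),
      Proj.basicOpen (𝒮L.deg U' hU')
          (u.gradedAt U hU U' hU' hle (RelProj.gradedHomAt v hv U hU t)) =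
        Proj.basicOpen (𝒮L.deg U' hU') (u'.gradedAt U hU U' hU' hle t) := by
    intro U' hU' hle
    rw [Groth.Agent.H41.RelPMap5.gradedAt_apply q 𝒮 𝒮L u 𝒯 v hv u' hu' U hU U' hU' hle t]
  obtain ⟨x', hx'⟩ := Groth.Agent.H41.RelPMap5.transfer q 𝒮 𝒯 𝒮L u u' p chart hP p' chart' pL chartL
    hPL r hr r' hr' U hU hd _ hf hd t ht hff x hx
  exact ⟨r' x', htV hx', x', rfl⟩

end Groth.Agent.S12149
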