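import Groth.Statements.S12154
import Groth.Agent.H41.RelPMap7
import Groth.Agent.H41.RelPMap3
import Groth.Agent.H41.OpenOfComp

set_option autoImplicit false
universe u
open CategoryTheory CategoryTheory.Limits AlgebraicGeometry TopologicalSpace Opposite
open scoped HomogeneousIdeal
noncomputable section
open EGA2

namespace Groth.Agent.S12154

/-- Let q : X → Y be a morphism, L an invertible O_X-module with 𝒮L = ⊕ L^{⊗n} (whose Proj, with its
charts, is X), v : 𝒯 → 𝒮 a graded homomorphism of quasi-coherent positively graded O_Y-algebras, ψ♭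
= u : 𝒮 → q_*𝒮L a graded q-morphism and ψ'♭ = u' its composite with v; let r = r_{L,ψ} : G(ψ) →
Proj(𝒮) and r' = r_{L,ψ'} : G(ψ') → Proj(𝒯), with r' everywhere defined and v (TN)-surjective (v :
𝒯_k → 𝒮_k surjective for all large k, on sections over affine opens). If r' is an open immersion, so
is r; if r' is a closed immersion, so is r. -/
theorem result {Y X P PL P' : Scheme.{u}} (q : X ⟶ Y)
    (L : X.Modules) (hL : PicF.IsInvertible L) (hLq : Coh.IsQCoh L)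
    (𝒮 : RelProj.QCGrAlg Y) (𝒮L : RelProj.QCGrAlg X) (j : L ⟶ 𝒮L.toModule) (hj : RelProj.IsGrSymAlg L 𝒮L j)
    (u : RelProj.QGrHom q 𝒮 𝒮L)
    (p : P ⟶ Y) (chart : ∀ (U : Y.Opens) (hU : IsAffineOpen U), (((p ⁻¹ᵁ U : P.Opens) : Scheme.{u}) ≅ Proj (𝒮.deg U hU)))
    (hP : RelProj.IsRelProj 𝒮 p chart)
    (pL : PL ⟶ X) (chartL : ∀ (U : X.Opens) (hU : IsAffineOpen U), (((pL ⁻¹ᵁ U : PL.Opens) : Scheme.{u}) ≅ Proj (𝒮L.deg U hU)))
    (hPL : RelProj.IsRelProj 𝒮L pL chartL)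
    (r : ((RelProj.domQ u pL chartL : PL.Opens) : Scheme.{u}) ⟶ P)
    (hr : RelProj.IsProjQMapOn u p chart pL chartL (RelProj.domQ u pL chartL) r)
    (𝒯 : RelProj.QCGrAlg Y) (v : 𝒯.toQCAlg ⟶ 𝒮.toQCAlg) (hv : RelProj.IsGradedHom v)
    (u' : RelProj.QGrHom q 𝒯 𝒮L) (hu' : ∀ U : Y.Opens, u'.app U = v.hom.app (op U) ≫ u.app U)
    (p' : P' ⟶ Y) (chart' : ∀ (U : Y.Opens) (hU : IsAffineOpen U), (((p' ⁻¹ᵁ U : P'.Opens) : Scheme.{u}) ≅ Proj (𝒯.deg U hU)))
    (hP' : RelProj.IsRelProj 𝒯 p' chart')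
    (r' : ((RelProj.domQ u' pL chartL : PL.Opens) : Scheme.{u}) ⟶ P')
    (hr' : RelProj.IsProjQMapOn u' p' chart' pL chartL (RelProj.domQ u' pL chartL) r')
    (hTN : ∃ n : ℕ, ∀ k, n ≤ k → ∀ (U : Y.Opens) (hU : IsAffineOpen U), ∀ y ∈ 𝒮.deg U hU k,
      ∃ x ∈ 𝒯.deg U hU k, (v.hom.app (op U)).hom x = y)
    (hdef : RelProj.domQ u' pL chartL = ⊤) :
    (IsOpenImmersion r' → IsOpenImmersion r) ∧ (IsClosedImmersion r' → IsClosedImmersion r) := by
  obtain ⟨n₀, hn₀⟩ := hTN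
  have hsurj : ∀ (U : Y.Opens) (hU : IsAffineOpen U) (n : ℕ), n₀ ≤ n → ∀ b ∈ 𝒮.deg U hU n,
      ∃ a ∈ 𝒯.deg U hU n, RelProj.gradedHomAt v hv U hU a = b :=
    fun U hU n hn b hb => hn₀ n hn U hU b hb
  have hG : ∀ (U : Y.Opens) (hU : IsAffineOpen U),
      RelCone.domOpen (RelProj.gradedHomAt v hv U hU) = ⊤ :=
    fun U hU => Groth.Agent.H41.PMap.domOpen_eq_top_of_surjOn_ge _ n₀ (hsurj U hU)
  have hGv : RelProj.domQ (RelProj.QGrHom.ofHom v hv) p chart = ⊤ :=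
    Groth.Agent.H41.RelPMap.domQ_eq_top v hv hG chart
  have hle := Groth.Agent.H41.RelPMap7.domQ_le q 𝒮 𝒮L u pL chartL 𝒯 v hv u' hu'
  have htop : RelProj.domQ u pL chartL = ⊤ := top_le_iff.mp (hdef ▸ hle)
  obtain ⟨rv, hrv, -⟩ := Groth.Agent.H41.RelPMap2.existsUnique_isProjQMapOn
    (RelProj.QGrHom.ofHom v hv) p' chart' hP' p chart hP
  have hrv' : RelProj.IsProjQMapOn (RelProj.QGrHom.ofHom v hv) p' chart' p chart
    (RelProj.domQ (RelProj.QGrHom.ofHom v hv) p chart) rv := hrv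
  have hrvcl : IsClosedImmersion rv := by
    rw [Groth.Agent.H41.RelPMap3.iff_forall v hv chart' chart hP' hP rv hrv' @IsClosedImmersion]
    intro U hU
    exact Groth.Agent.H41.PMap.isClosedImmersion_map_of_surjOn_ge _ n₀ (hsurj U hU)
  have hm := Groth.Agent.H41.RelPMap7.m_rv q 𝒮 𝒮L u p chart hP pL chartL hPL r hr 𝒯 v hv u' hu'
    p' chart' hP' r' hr' rv hrv'
  have hmι := Groth.Agent.H41.RelPMap7.m_ι q 𝒮 𝒮L u p chart pL chartL hPL r hr 𝒯 v hv u' hu'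
  have heq : RelProj.domQ u' pL chartL = RelProj.domQ u pL chartL := hdef.trans htop.symm
  have hk : Groth.Agent.H41.RelPMap7.k q 𝒮 𝒮L u pL chartL 𝒯 v hv u' hu' =
      (PL.isoOfEq heq).hom := rfl
  have hιiso : IsIso (RelProj.domQ (RelProj.QGrHom.ofHom v hv) p chart).ι := by
    have : (RelProj.domQ (RelProj.QGrHom.ofHom v hv) p chart).ι =
        (P.isoOfEq hGv).hom ≫ (⊤ : P.Opens).ι := (P.isoOfEq_hom_ι hGv).symm
    rw [this]
    have : IsIso (⊤ : P.Opens).ι := P.topIso.isIso_hom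
    infer_instance
  have hr_eq : r = (PL.isoOfEq heq).inv ≫
      Groth.Agent.H41.RelPMap7.m q 𝒮 𝒮L u p chart pL chartL hPL r hr 𝒯 v hv u' hu' ≫
        (RelProj.domQ (RelProj.QGrHom.ofHom v hv) p chart).ι := by
    rw [hmι, hk, Iso.inv_hom_id_assoc]
  constructor
  · intro hopen
    have h1 : IsOpenImmersion (Groth.Agent.H41.RelPMap7.m q 𝒮 𝒮L u p chart pL chartL hPL r hr 𝒯 v
        hv u' hu' ≫ rv) := by
      rw [hm]
      exact hopen
    have h2 : IsOpenImmersion (Groth.Agent.H41.RelPMap7.m q 𝒮 𝒮L u p chart pL chartL hPL r hr 𝒯 v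
        hv u' hu') := Groth.Agent.H41.OpenOfComp.isOpenImmersion_of_comp _ rv
    rw [hr_eq]
    infer_instance
  · intro hclosed
    have h1 : IsClosedImmersion (Groth.Agent.H41.RelPMap7.m q 𝒮 𝒮L u p chart pL chartL hPL r hr 𝒯
        v hv u' hu' ≫ rv) := by
      rw [hm]
      exact hclosed
    have h2 : IsClosedImmersion (Groth.Agent.H41.RelPMap7.m q 𝒮 𝒮L u p chart pL chartL hPL r hr 𝒯
        v hv u' hu') := IsClosedImmersion.of_comp_isClosedImmersion _ rv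
    rw [hr_eq]
    infer_instance

end Groth.Agent.S12154
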