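import Groth.Statements.S12155
import Groth.Agent.H41.RelConeSquare

set_option autoImplicit false
universe u
open CategoryTheory CategoryTheory.Limits AlgebraicGeometry TopologicalSpace Opposite
open scoped HomogeneousIdeal
noncomputable section
open EGA2

namespace Groth.Agent.S12155

/-- Let q : Y' → Y be a morphism, φ : 𝒮 → q_*𝒮' a graded q-morphism of quasi-coherent positively graded
algebras with 𝒮_0 = O_Y, 𝒮'_0 = O_{Y'}, φ̂ : 𝒮[z] → q_*𝒮'[z] its extension with φ̂(z) = z, Ĉ =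
Proj(𝒮[z]), Ĉ' = Proj(𝒮'[z]) the projective cones with pointed cones Ê, Ê', and Φ̂ = Proj(φ̂) :
G(φ̂) → Ĉ. Then Φ̂⁻¹(Ê) ⊆ Ê'; moreover if Proj(φ) is everywhere defined on Proj(𝒮'), then Φ̂ is
everywhere defined on Ĉ' and Φ̂⁻¹(Ê) = Ê'. -/
theorem result {Y Y' PC PC' : Scheme.{u}} (q : Y' ⟶ Y)
    (𝒮 : RelProj.QCGrAlg Y) (𝒮' : RelProj.QCGrAlg Y') (h0 : RelCone.StrZeroBij 𝒮) (h0' : RelCone.StrZeroBij 𝒮')
    (u : RelProj.QGrHom q 𝒮 𝒮')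
    (𝒮h : RelProj.QCGrAlg Y) (ι : 𝒮.toQCAlg ⟶ 𝒮h.toQCAlg) (z : 𝒮h.presheaf.obj (op ⊤))
    (hz : RelCone.IsPolyOver 𝒮 𝒮h ι z)
    (pC : PC ⟶ Y) (chartC : ∀ (U : Y.Opens) (hU : IsAffineOpen U), (((pC ⁻¹ᵁ U : PC.Opens) : Scheme.{u}) ≅ Proj (𝒮h.deg U hU)))
    (hC : RelProj.IsRelProj 𝒮h pC chartC)
    (𝒮h' : RelProj.QCGrAlg Y') (ι' : 𝒮'.toQCAlg ⟶ 𝒮h'.toQCAlg) (z' : 𝒮h'.presheaf.obj (op ⊤))
    (hz' : RelCone.IsPolyOver 𝒮' 𝒮h' ι' z')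
    (pC' : PC' ⟶ Y') (chartC' : ∀ (U : Y'.Opens) (hU : IsAffineOpen U), (((pC' ⁻¹ᵁ U : PC'.Opens) : Scheme.{u}) ≅ Proj (𝒮h'.deg U hU)))
    (hC' : RelProj.IsRelProj 𝒮h' pC' chartC')
    (uh : RelProj.QGrHom q 𝒮h 𝒮h')
    (huh : ∀ U : Y.Opens, ι.hom.app (op U) ≫ uh.app U = u.app U ≫ ι'.hom.app (op (q ⁻¹ᵁ U)))
    (huhz : (uh.app ⊤).hom z = RelCone.restrictTop 𝒮h' z' (q ⁻¹ᵁ ⊤))
    (Φh : ((RelProj.domQ uh pC' chartC' : PC'.Opens) : Scheme.{u}) ⟶ PC)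
    (hΦh : RelProj.IsProjQMapOn uh pC chartC pC' chartC' (RelProj.domQ uh pC' chartC') Φh)
    {P' : Scheme.{u}} (p' : P' ⟶ Y') (chart' : ∀ (U : Y'.Opens) (hU : IsAffineOpen U), (((p' ⁻¹ᵁ U : P'.Opens) : Scheme.{u}) ≅ Proj (𝒮'.deg U hU)))
    (hP' : RelProj.IsRelProj 𝒮' p' chart') :
    (RelProj.domQ uh pC' chartC').ι ''ᵁ (Φh ⁻¹ᵁ RelCone.pointedProjCone 𝒮 hz pC chartC) ≤ RelCone.pointedProjCone 𝒮' hz' pC' chartC' ∧
      (RelProj.domQ u p' chart' = ⊤ →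
        RelProj.domQ uh pC' chartC' = ⊤ ∧
          (RelProj.domQ uh pC' chartC').ι ''ᵁ (Φh ⁻¹ᵁ RelCone.pointedProjCone 𝒮 hz pC chartC) = RelCone.pointedProjCone 𝒮' hz' pC' chartC') := by
  have hW : RelCone.pointedProjCone 𝒮 hz pC chartC =
      RelProj.domQ (RelProj.QGrHom.ofHom ι hz.graded) pC chartC :=
    Groth.Agent.H41.RelConeLib.pointedProjCone_eq_domQ hz pC chartC hC
  have hW' : RelCone.pointedProjCone 𝒮' hz' pC' chartC' =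
      RelProj.domQ (RelProj.QGrHom.ofHom ι' hz'.graded) pC' chartC' :=
    Groth.Agent.H41.RelConeLib.pointedProjCone_eq_domQ hz' pC' chartC' hC'
  have hsq := Groth.Agent.H41.RelConeSquare.hsq u hz hz' uh huh
  have part1 : (RelProj.domQ uh pC' chartC').ι ''ᵁ
      (Φh ⁻¹ᵁ RelCone.pointedProjCone 𝒮 hz pC chartC) ≤
      RelCone.pointedProjCone 𝒮' hz' pC' chartC' := by
    rintro _ ⟨x₀, hx₀, rfl⟩
    exact Groth.Agent.H41.RelSquare.mem_of_apply_mem ι hz.graded ι' hz'.graded u uh hsq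
      pC chartC hC pC' chartC' hC' _ hW _ hW' Φh hΦh x₀ hx₀
  refine ⟨part1, fun hu => ?_⟩
  have key : ∀ x : PC', x ∈ RelCone.pointedProjCone 𝒮' hz' pC' chartC' →
      ∃ hx : x ∈ RelProj.domQ uh pC' chartC',
        Φh ⟨x, hx⟩ ∈ RelCone.pointedProjCone 𝒮 hz pC chartC := fun x hx' =>
    Groth.Agent.H41.RelSquare.mem_of_domQ_eq_top ι hz.graded ι' hz'.graded u uh hsq
      pC chartC hC p' chart' hP' pC' chartC' hC' _ hW _ hW' Φh hΦh hu x hx'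
  refine ⟨?_, le_antisymm part1 ?_⟩
  · rw [eq_top_iff]
    rintro x -
    obtain ⟨V, hV⟩ := Groth.Agent.H41.PairGlue.exists_pair q (pC' x)
    obtain ⟨⟨⟨U, hU⟩, ⟨U', hU'⟩⟩, hle⟩ := V
    have hxU : x ∈ pC' ⁻¹ᵁ U' := hV
    set y := (chartC' U' hU').hom ⟨x, hxU⟩ with hydef
    have h3 : RelProj.emb pC' chartC' U' hU' y = x :=
      Groth.Agent.H41.RelPMap2.emb_chart_apply pC' chartC' U' hU' _ hxU
    by_cases hy : y ∈ Proj.basicOpen (𝒮h'.deg U' hU') (RelCone.restrictTop 𝒮h' z' U')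
    · rw [← Groth.Agent.H41.RelConeSquare.uh_z uh huhz U hU U' hU' hle] at hy
      have h4 : y ∈ RelCone.domOpen (uh.gradedAt U hU U' hU' hle) :=
        Groth.Agent.H41.PMap.basicOpen_le _ (hz.deg_z U hU) one_pos hy
      apply Groth.Agent.H41.RelPMap2.W_le_domQ uh pC' chartC' U hU U' hU' hle
      exact ⟨y, h4, h3⟩
    · have h4 : y ∈ RelCone.domOpen (RelProj.gradedHomAt ι' hz'.graded U' hU') :=
        Groth.Agent.H41.PolyCone.mem_domOpen_of_notMem_basicOpen _ _ (hz'.deg_z U' hU')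
          (hz'.bij U' hU').2 y hy
      have h5 : x ∈ RelCone.pointedProjCone 𝒮' hz' pC' chartC' := by
        rw [← h3]
        exact Opens.mem_iSup.mpr ⟨⟨U', hU'⟩, y, h4, rfl⟩
      exact (key x h5).1
  · intro x hx'
    obtain ⟨hx, hΦ⟩ := key x hx'
    exact ⟨⟨x, hx⟩, hΦ, rfl⟩

end Groth.Agent.S12155
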