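import Groth.Statements.S12158
import Groth.Agent.H41.RelConeSquare2

set_option autoImplicit false
universe u
open CategoryTheory CategoryTheory.Limits AlgebraicGeometry TopologicalSpace Opposite
open scoped HomogeneousIdeal
noncomputable section
open EGA2

namespace Groth.Agent.S12158

/-- Let q : Y' → Y be a morphism, φ : 𝒮 → q_*𝒮' a graded q-morphism of quasi-coherent positively graded
algebras with 𝒮_0 = O_Y, 𝒮'_0 = O_{Y'}, φ̂ : 𝒮[z] → q_*𝒮'[z] its extension with φ̂(z) = z, Ĉ =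
Proj(𝒮[z]), Ĉ' = Proj(𝒮'[z]) the projective cones with pointed cones Ê, Ê', and Φ̂ = Proj(φ̂) :
G(φ̂) → Ĉ; let Proj(φ) : G(φ) → X = Proj(𝒮) be the morphism induced by φ on G(φ) ⊆ X' = Proj(𝒮'),
and j : X → Ĉ, j' : X' → Ĉ' the canonical closed immersions at infinity (Proj of the graded
retractions 𝒮[z] → 𝒮, 𝒮'[z] → 𝒮' killing z). Then j'(G(φ)) ⊆ G(φ̂) and the square formed by Proj(φ),
j', j and Φ̂ commutes. -/
theorem result {Y Y' PC PC' : Scheme.{u}} (q : Y' ⟶ Y)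
    (𝒮 : RelProj.QCGrAlg Y) (𝒮' : RelProj.QCGrAlg Y') (h0 : RelCone.StrZeroBij 𝒮) (h0' : RelCone.StrZeroBij 𝒮')
    (u : RelProj.QGrHom q 𝒮 𝒮')
    (𝒮h : RelProj.QCGrAlg Y) (ι : 𝒮.toQCAlg ⟶ 𝒮h.toQCAlg) (z : 𝒮h.presheaf.obj (op ⊤))
    (hz : RelCone.IsPolyOver 𝒮 𝒮h ι z)
    (pC : PC ⟶ Y) (chartC : ∀ (U : Y.Opens) (hU : IsAffineOpen U), (((pC ⁻¹ᵁ U : PC.Opens) : Scheme.{u}) ≅ Proj (𝒮h.deg U hU)))
    (hC : RelProj.IsRelProj 𝒮h pC chartC)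
    (𝒮h' : RelProj.QCGrAlg Y') (ι' : 𝒮'.toQCAlg ⟶ 𝒮h'.toQCAlg) (z' : 𝒮h'.presheaf.obj (op ⊤))
    (hz' : RelCone.IsPolyOver 𝒮' 𝒮h' ι' z')
    (pC' : PC' ⟶ Y') (chartC' : ∀ (U : Y'.Opens) (hU : IsAffineOpen U), (((pC' ⁻¹ᵁ U : PC'.Opens) : Scheme.{u}) ≅ Proj (𝒮h'.deg U hU)))
    (hC' : RelProj.IsRelProj 𝒮h' pC' chartC')
    (uh : RelProj.QGrHom q 𝒮h 𝒮h')
    (huh : ∀ U : Y.Opens, ι.hom.app (op U) ≫ uh.app U = u.app U ≫ ι'.hom.app (op (q ⁻¹ᵁ U)))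
    (huhz : (uh.app ⊤).hom z = RelCone.restrictTop 𝒮h' z' (q ⁻¹ᵁ ⊤))
    (Φh : ((RelProj.domQ uh pC' chartC' : PC'.Opens) : Scheme.{u}) ⟶ PC)
    (hΦh : RelProj.IsProjQMapOn uh pC chartC pC' chartC' (RelProj.domQ uh pC' chartC') Φh)
    {P P' : Scheme.{u}} (p : P ⟶ Y) (chart : ∀ (U : Y.Opens) (hU : IsAffineOpen U), (((p ⁻¹ᵁ U : P.Opens) : Scheme.{u}) ≅ Proj (𝒮.deg U hU)))
    (hP : RelProj.IsRelProj 𝒮 p chart)
    (p' : P' ⟶ Y') (chart' : ∀ (U : Y'.Opens) (hU : IsAffineOpen U), (((p' ⁻¹ᵁ U : P'.Opens) : Scheme.{u}) ≅ Proj (𝒮'.deg U hU)))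
    (hP' : RelProj.IsRelProj 𝒮' p' chart')
    (Φ : ((RelProj.domQ u p' chart' : P'.Opens) : Scheme.{u}) ⟶ P)
    (hΦ : RelProj.IsProjQMapOn u p chart p' chart' (RelProj.domQ u p' chart') Φ)
    (θ : 𝒮h.toQCAlg ⟶ 𝒮.toQCAlg) (hθ : RelProj.IsGradedHom θ) (hθι : ι ≫ θ = 𝟙 _)
    (hθz : (θ.hom.app (op ⊤)).hom z = 0)
    (jX : P ⟶ PC) (hjX : RelProj.IsProjQMap (RelProj.QGrHom.ofHom θ hθ) pC chartC p chart jX)
    (θ' : 𝒮h'.toQCAlg ⟶ 𝒮'.toQCAlg) (hθ' : RelProj.IsGradedHom θ') (hθι' : ι' ≫ θ' = 𝟙 _)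
    (hθz' : (θ'.hom.app (op ⊤)).hom z' = 0)
    (jX' : P' ⟶ PC') (hjX' : RelProj.IsProjQMap (RelProj.QGrHom.ofHom θ' hθ') pC' chartC' p' chart' jX')
    (T : Scheme.{u}) (d : T ⟶ ((RelProj.domQ u p' chart' : P'.Opens) : Scheme.{u}))
    (e : T ⟶ ((RelProj.domQ uh pC' chartC' : PC'.Opens) : Scheme.{u}))
    (hde : d ≫ (RelProj.domQ u p' chart').ι ≫ jX' = e ≫ (RelProj.domQ uh pC' chartC').ι) :
    jX'.base '' ((RelProj.domQ u p' chart' : P'.Opens) : Set P') ⊆ ((RelProj.domQ uh pC' chartC' : PC'.Opens) : Set PC') ∧ e ≫ Φh = d ≫ Φ ≫ jX := by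
  have hsq := Groth.Agent.H41.RelConeSquare.hsqθ u hz hz' uh huh huhz θ hθ hθι hθz θ' hθ' hθι' hθz'
  -- the immersions at infinity as partial maps on `G(θ) = ⊤`, `G(θ') = ⊤`
  set Wθ := RelProj.domQ (RelProj.QGrHom.ofHom θ hθ) p chart with hWθ
  set Wθ' := RelProj.domQ (RelProj.QGrHom.ofHom θ' hθ') p' chart' with hWθ'
  have hWθtop : Wθ = ⊤ := hjX.1
  have hWθ'top : Wθ' = ⊤ := hjX'.1
  have hR := Groth.Agent.H41.RelPMap9.chartwise_of_isProjQMapOn θ hθ chartC chart Wθ rfl _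
    (Groth.Agent.H41.RelConeSquare.isProjQMapOn_of_isProjQMap _ pC chartC p chart jX hjX Wθ)
  have hR' := Groth.Agent.H41.RelPMap9.chartwise_of_isProjQMapOn θ' hθ' chartC' chart' Wθ' rfl _
    (Groth.Agent.H41.RelConeSquare.isProjQMapOn_of_isProjQMap _ pC' chartC' p' chart' jX' hjX' Wθ')
  constructor
  · rintro _ ⟨x, hx, rfl⟩
    have hxW' : x ∈ Wθ' := by rw [hWθ'top]; trivial
    have h0 : Φ ⟨x, hx⟩ ∈ Wθ := by rw [hWθtop]; trivial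
    have := Groth.Agent.H41.RelSquare.apply_mem_domQ θ hθ θ' hθ' uh u hsq
      p chart hP pC' chartC' hC' p' chart' hP' Wθ rfl Wθ' rfl (Wθ'.ι ≫ jX') hR' Φ hΦ
      ⟨x, hx⟩ h0 ⟨x, hxW'⟩ rfl
    rw [Scheme.Hom.comp_apply] at this
    exact this
  · have hra : Set.range (d ≫ (RelProj.domQ u p' chart').ι).base ⊆ Set.range Wθ'.ι.base := by
      rw [Scheme.Opens.range_ι, hWθ'top]
      exact fun _ _ => trivial
    have hrc : Set.range (d ≫ Φ).base ⊆ Set.range Wθ.ι.base := by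
      rw [Scheme.Opens.range_ι, hWθtop]
      exact fun _ _ => trivial
    let a := IsOpenImmersion.lift Wθ'.ι (d ≫ (RelProj.domQ u p' chart').ι) hra
    have ha : a ≫ Wθ'.ι = d ≫ (RelProj.domQ u p' chart').ι := IsOpenImmersion.lift_fac _ _ _
    let c := IsOpenImmersion.lift Wθ.ι (d ≫ Φ) hrc
    have hc : c ≫ Wθ.ι = d ≫ Φ := IsOpenImmersion.lift_fac _ _ _
    have := Groth.Agent.H41.RelSquare.comm θ hθ θ' hθ' uh u hsq
      pC chartC p chart hP pC' chartC' p' chart' hP' Wθ rfl Wθ' rfl (Wθ.ι ≫ jX) hR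
      (Wθ'.ι ≫ jX') hR' Φ hΦ Φh hΦh a d c ha hc.symm e
      (by rw [reassoc_of% ha, ← hde])
    rw [← this, reassoc_of% hc]

end Groth.Agent.S12158
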