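import Groth.Statements.S12160
import Groth.Agent.H41.RelPMap5
import Groth.Agent.S12149

set_option autoImplicit false
universe u
open CategoryTheory CategoryTheory.Limits AlgebraicGeometry TopologicalSpace Opposite
open scoped HomogeneousIdeal
noncomputable section
open EGA2

namespace Groth.Agent.S12160

/-- Let Y be a quasi-compact scheme, q : X → Y a quasi-compact morphism, L an invertible O_X-module with
𝒮L = ⊕ L^{⊗n} (whose Proj is X), 𝒮 = colim 𝒮^i a filtered colimit of quasi-coherent positively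
graded O_Y-algebras along graded homomorphisms φ_i : 𝒮^i → 𝒮 (colimit taken on sections over affine
opens), ψ♭ = u : 𝒮 → q_*𝒮L a graded q-morphism and ψ_i♭ = u ∘ φ_i; let r = r_{L,ψ} : G(ψ) → Proj(𝒮)
and r_i = r_{L,ψ_i} : G(ψ_i) → Proj(𝒮^i). If all the r_i are dominant then r is dominant; the
converse holds when the φ_i are injective. -/
theorem result {Y X P PL : Scheme.{u}} (q : X ⟶ Y)
    (L : X.Modules) (hL : PicF.IsInvertible L) (hLq : Coh.IsQCoh L)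
    (𝒮 : RelProj.QCGrAlg Y) (𝒮L : RelProj.QCGrAlg X) (j : L ⟶ 𝒮L.toModule) (hj : RelProj.IsGrSymAlg L 𝒮L j)
    (u : RelProj.QGrHom q 𝒮 𝒮L)
    (p : P ⟶ Y) (chart : ∀ (U : Y.Opens) (hU : IsAffineOpen U), (((p ⁻¹ᵁ U : P.Opens) : Scheme.{u}) ≅ Proj (𝒮.deg U hU)))
    (hP : RelProj.IsRelProj 𝒮 p chart)
    (pL : PL ⟶ X) (chartL : ∀ (U : X.Opens) (hU : IsAffineOpen U), (((pL ⁻¹ᵁ U : PL.Opens) : Scheme.{u}) ≅ Proj (𝒮L.deg U hU)))
    (hPL : RelProj.IsRelProj 𝒮L pL chartL)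
    [CompactSpace Y] [QuasiCompact q]
    (r : ((RelProj.domQ u pL chartL : PL.Opens) : Scheme.{u}) ⟶ P)
    (hr : RelProj.IsProjQMapOn u p chart pL chartL (RelProj.domQ u pL chartL) r)
    (Λ : Type u) [Preorder Λ] [IsDirected Λ (· ≤ ·)] [Nonempty Λ]
    (𝒮i : Λ → RelProj.QCGrAlg Y) (φ : ∀ i, (𝒮i i).toQCAlg ⟶ 𝒮.toQCAlg) (hφ : ∀ i, RelProj.IsGradedHom (φ i))
    (t : ∀ i j, i ≤ j → ((𝒮i i).toQCAlg ⟶ (𝒮i j).toQCAlg)) (ht : ∀ i j (h : i ≤ j), RelProj.IsGradedHom (t i j h))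
    (hφt : ∀ i j (h : i ≤ j), t i j h ≫ φ j = φ i)
    (hsurj : ∀ (U : Y.Opens), IsAffineOpen U → ∀ x : 𝒮.presheaf.obj (op U),
      ∃ (i : Λ) (y : (𝒮i i).presheaf.obj (op U)), ((φ i).hom.app (op U)).hom y = x)
    (hker : ∀ (U : Y.Opens), IsAffineOpen U → ∀ (i : Λ) (y : (𝒮i i).presheaf.obj (op U)),
      ((φ i).hom.app (op U)).hom y = 0 → ∃ (j : Λ) (h : i ≤ j), ((t i j h).hom.app (op U)).hom y = 0)
    (ui : ∀ i, RelProj.QGrHom q (𝒮i i) 𝒮L) (hui : ∀ i (U : Y.Opens), (ui i).app U = (φ i).hom.app (op U) ≫ u.app U)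
    (Pi : Λ → Scheme.{u}) (pi : ∀ i, Pi i ⟶ Y)
    (charti : ∀ i (U : Y.Opens) (hU : IsAffineOpen U), ((((pi i) ⁻¹ᵁ U : (Pi i).Opens) : Scheme.{u}) ≅ Proj ((𝒮i i).deg U hU)))
    (hPi : ∀ i, RelProj.IsRelProj (𝒮i i) (pi i) (charti i))
    (ri : ∀ i, ((RelProj.domQ (ui i) pL chartL : PL.Opens) : Scheme.{u}) ⟶ Pi i)
    (hri : ∀ i, RelProj.IsProjQMapOn (ui i) (pi i) (charti i) pL chartL (RelProj.domQ (ui i) pL chartL) (ri i)) :
    ((∀ i, IsDominant (ri i)) → IsDominant r) ∧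
      ((∀ i (U : Y.Opens), IsAffineOpen U → Function.Injective ((φ i).hom.app (op U)).hom) →
        IsDominant r → ∀ i, IsDominant (ri i)) := by
  classical
  constructor
  · intro hdom
    refine ⟨?_⟩
    rw [DenseRange, dense_iff_inter_open]
    rintro V hV ⟨z, hz⟩
    obtain ⟨U, hU, d, f, hd, hf, hzf, hfV⟩ :=
      Groth.Agent.H41.RelPMap4.exists_emb_basicOpen_le p chart ⟨V, hV⟩ z hz
    obtain ⟨i, y₀, hy₀⟩ := hsurj U hU f
    set y : (𝒮i i).presheaf.obj (op U) :=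
      ((DirectSum.decompose ((𝒮i i).deg U hU) y₀ d : (𝒮i i).deg U hU d) :
        (𝒮i i).presheaf.obj (op U)) with hy
    have hyd : y ∈ (𝒮i i).deg U hU d := SetLike.coe_mem _
    have hyf : RelProj.gradedHomAt (φ i) (hφ i) U hU y = f := by
      rw [hy, GradedRingHom.map_directSumDecompose]
      have : RelProj.gradedHomAt (φ i) (hφ i) U hU y₀ = f := hy₀
      rw [this, DirectSum.decompose_of_mem_same _ hf]
    obtain ⟨w₀, hw₀, -⟩ := hzf
    have hnil : ¬ IsNilpotent y := by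
      rintro ⟨m, hm⟩
      have h3 : f ^ m ∈ w₀.asHomogeneousIdeal := by
        rw [← hyf, ← map_pow, hm, map_zero]
        exact zero_mem _
      exact (Proj.mem_basicOpen _ _ _).mp hw₀ (w₀.isPrime.mem_of_pow_mem _ h3)
    obtain ⟨w, hw⟩ := Groth.Agent.H41.RelPMap4.exists_mem_basicOpen_of_not_isNilpotent hd hyd hnil
    obtain ⟨x, hx⟩ : ∃ x, (ri i) x ∈ (RelProj.emb (pi i) (charti i) U hU) ''ᵁ
        Proj.basicOpen ((𝒮i i).deg U hU) y := by
      have := (dense_iff_inter_open.mp (hdom i).denseRange) _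
        ((RelProj.emb (pi i) (charti i) U hU) ''ᵁ Proj.basicOpen ((𝒮i i).deg U hU) y).2
        ⟨_, _, hw, rfl⟩
      obtain ⟨_, hw', ⟨x, rfl⟩⟩ := this
      exact ⟨x, hw'⟩
    have hff : ∀ (U' : X.Opens) (hU' : IsAffineOpen U') (hle : U' ≤ q ⁻¹ᵁ U),
        Proj.basicOpen (𝒮L.deg U' hU') ((ui i).gradedAt U hU U' hU' hle y) =
          Proj.basicOpen (𝒮L.deg U' hU') (u.gradedAt U hU U' hU' hle f) := by
      intro U' hU' hle
      rw [Groth.Agent.H41.RelPMap5.gradedAt_apply q 𝒮 𝒮L u (𝒮i i) (φ i) (hφ i) (ui i) (hui i)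
        U hU U' hU' hle y, hyf]
    obtain ⟨x', hx'⟩ := Groth.Agent.H41.RelPMap5.transfer q (𝒮i i) 𝒮 𝒮L (ui i) u (pi i) (charti i)
      (hPi i) p chart pL chartL hPL (ri i) (hri i) r hr U hU hd y hyd hd f hf hff x hx
    exact ⟨r x', hfV hx', x', rfl⟩
  · intro hinj hdom i
    exact Groth.Agent.S12149.result q L hL hLq 𝒮 𝒮L j hj u p chart hP pL chartL hPL r hr (𝒮i i)
      (φ i) (hφ i) (ui i) (hui i) (pi i) (charti i) (hPi i) (ri i) (hri i)
      ⟨0, fun k _ U hU x _ hx0 => (injective_iff_map_eq_zero _).mp (hinj i U hU) x hx0⟩ hdom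

end Groth.Agent.S12160
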