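import Groth.Statements.S12163
import Groth.Agent.H41.RelProjQMap

set_option autoImplicit false
universe u
open CategoryTheory CategoryTheory.Limits AlgebraicGeometry TopologicalSpace Opposite
open scoped HomogeneousIdeal
noncomputable section
open EGA2

namespace Groth.Agent.S12163

/-- Let φ : 𝒜 → ℬ be a graded homomorphism of quasi-coherent positively graded O_Y-algebras and PB =
Proj(ℬ) with its charts. If every point of Y has an affine neighbourhood U over which the irrelevant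
ideal of ℬ(U) is contained in the ideal generated by φ(𝒜(U)_+), then the open of definition G(φ) of
Proj(φ) is all of PB. (The published condition asks 𝒮_+ to be generated by the image as a module
over the functions on U; generation as an ideal, used here, is implied by it.) -/
theorem result {Y PB : Scheme.{u}} (𝒜 ℬ : RelProj.QCGrAlg Y)
    (φ : 𝒜.toQCAlg ⟶ ℬ.toQCAlg) (hφ : RelProj.IsGradedHom φ)
    (pB : PB ⟶ Y) (chartB : ∀ (U : Y.Opens) (hU : IsAffineOpen U), (((pB ⁻¹ᵁ U : PB.Opens) : Scheme.{u}) ≅ Proj (ℬ.deg U hU)))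
    (hB : RelProj.IsRelProj ℬ pB chartB)
    (hcov : ∀ y : Y, ∃ (U : Y.Opens) (hU : IsAffineOpen U), y ∈ U ∧
      (ℬ.deg U hU)₊ ≤ ((𝒜.deg U hU)₊).map (RelProj.gradedHomAt φ hφ U hU)) :
    RelProj.domQ (RelProj.QGrHom.ofHom φ hφ) pB chartB = ⊤ := by
  rw [eq_top_iff]
  intro x _
  obtain ⟨U, hU, hyU, hle⟩ := hcov (pB x)
  have hx : x ∈ (pB ⁻¹ᵁ U : PB.Opens) := hyU
  have hUU : U ≤ (𝟙 Y : Y ⟶ Y) ⁻¹ᵁ U := le_refl _
  refine Opens.mem_iSup.mpr ⟨⟨(⟨U, hU⟩, ⟨U, hU⟩), hUU⟩, ?_⟩
  refine ⟨(chartB U hU).hom ⟨x, hx⟩, ?_, ?_⟩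
  · have heq : ∀ a, (RelProj.QGrHom.ofHom φ hφ).gradedAt U hU U hU hUU a =
        RelProj.gradedHomAt φ hφ U hU a := by
      intro a
      change (ℬ.presheaf.map (homOfLE hUU).op).hom ((φ.hom.app (op U)).hom a) = _
      have : ℬ.presheaf.map (homOfLE hUU).op = 𝟙 _ := ℬ.presheaf.map_id (op U)
      rw [this]
      rfl
    change (chartB U hU).hom ⟨x, hx⟩ ∈
      RelCone.domOpen ((RelProj.QGrHom.ofHom φ hφ).gradedAt U hU U hU hUU)
    rw [RelCone.mem_domOpen]
    by_contra hcon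
    push Not at hcon
    apply ((chartB U hU).hom ⟨x, hx⟩).not_irrelevant_le
    refine hle.trans ?_
    change Ideal.map (RelProj.gradedHomAt φ hφ U hU) ((𝒜.deg U hU)₊).toIdeal ≤ _
    rw [Ideal.map_le_iff_le_comap]
    intro f hf
    have := hcon f hf
    rw [heq] at this
    exact this
  · change (RelProj.emb pB chartB U hU) ((chartB U hU).hom ⟨x, hx⟩) = x
    rw [RelProj.emb, ← Scheme.Hom.comp_apply, Iso.hom_inv_id_assoc]
    rfl

end Groth.Agent.S12163
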