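import Groth.Statements.S12166
import Groth.Agent.H41.RelPMap

set_option autoImplicit false
universe u
open CategoryTheory CategoryTheory.Limits AlgebraicGeometry TopologicalSpace Opposite
open scoped HomogeneousIdeal
noncomputable section
open EGA2

namespace Groth.Agent.S12166

/-- Let φ : 𝒜 → ℬ be a graded homomorphism of quasi-coherent positively graded O_Y-algebras which is a
(TN)-isomorphism (φ : 𝒜_k → ℬ_k bijective for all large k, on sections over affine opens), PA =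
Proj(𝒜), PB = Proj(ℬ) with their charts. Then Proj(φ) is defined on all of PB and is an isomorphism
PB → PA. -/
theorem result {Y PA PB : Scheme.{u}} (𝒜 ℬ : RelProj.QCGrAlg Y)
    (φ : 𝒜.toQCAlg ⟶ ℬ.toQCAlg) (hφ : RelProj.IsGradedHom φ)
    (hTN : ∃ n : ℕ, ∀ k, n ≤ k → ∀ (U : Y.Opens) (hU : IsAffineOpen U),
      (∀ x ∈ 𝒜.deg U hU k, (φ.hom.app (op U)).hom x = 0 → x = 0) ∧
        ∀ y ∈ ℬ.deg U hU k, ∃ x ∈ 𝒜.deg U hU k, (φ.hom.app (op U)).hom x = y)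
    (pA : PA ⟶ Y) (chartA : ∀ (U : Y.Opens) (hU : IsAffineOpen U), (((pA ⁻¹ᵁ U : PA.Opens) : Scheme.{u}) ≅ Proj (𝒜.deg U hU)))
    (hA : RelProj.IsRelProj 𝒜 pA chartA)
    (pB : PB ⟶ Y) (chartB : ∀ (U : Y.Opens) (hU : IsAffineOpen U), (((pB ⁻¹ᵁ U : PB.Opens) : Scheme.{u}) ≅ Proj (ℬ.deg U hU)))
    (hB : RelProj.IsRelProj ℬ pB chartB) :
    RelProj.domQ (RelProj.QGrHom.ofHom φ hφ) pB chartB = ⊤ ∧
      ∀ h : PB ⟶ PA, RelProj.IsProjQMap (RelProj.QGrHom.ofHom φ hφ) pA chartA pB chartB h → IsIso h := by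
  obtain ⟨n₀, hn₀⟩ := hTN
  have hsurj : ∀ (U : Y.Opens) (hU : IsAffineOpen U) (n : ℕ), n₀ ≤ n → ∀ b ∈ ℬ.deg U hU n,
      ∃ a ∈ 𝒜.deg U hU n, RelProj.gradedHomAt φ hφ U hU a = b :=
    fun U hU n hn b hb => (hn₀ n hn U hU).2 b hb
  have hbij : ∀ (U : Y.Opens) (hU : IsAffineOpen U) (n : ℕ), n₀ ≤ n →
      Set.BijOn (RelProj.gradedHomAt φ hφ U hU) (𝒜.deg U hU n) (ℬ.deg U hU n) := by
    intro U hU n hn
    refine ⟨fun a ha => (RelProj.gradedHomAt φ hφ U hU).map_mem ha, ?_, ?_⟩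
    · intro a ha a' ha' haa'
      have h0 : (φ.hom.app (op U)).hom (a - a') = 0 := by
        rw [map_sub, sub_eq_zero]
        exact haa'
      have := (hn₀ n hn U hU).1 (a - a') (sub_mem ha ha') h0
      exact sub_eq_zero.mp this
    · intro b hb
      obtain ⟨a, ha, hab⟩ := hsurj U hU n hn b hb
      exact ⟨a, ha, hab⟩
  have hG : ∀ (U : Y.Opens) (hU : IsAffineOpen U),
      RelCone.domOpen (RelProj.gradedHomAt φ hφ U hU) = ⊤ :=
    fun U hU => Groth.Agent.H41.PMap.domOpen_eq_top_of_surjOn_ge _ n₀ (hsurj U hU)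
  refine ⟨Groth.Agent.H41.RelPMap.domQ_eq_top φ hφ hG chartB, fun h hh => ?_⟩
  change MorphismProperty.isomorphisms Scheme.{u} h
  rw [Groth.Agent.H41.RelPMap.iff_forall φ hφ hG chartA chartB hA hB h hh
    (MorphismProperty.isomorphisms Scheme.{u})]
  intro U hU
  exact Groth.Agent.H41.PMap.isIso_map_of_bijOn_ge _ n₀ (hbij U hU)

end Groth.Agent.S12166
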