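import Groth.Statements.S12193
import Groth.Agent.H50.SchImageRed
import Groth.Agent.H53.LocalST
import Groth.Agent.H51.SpEtReduced
import Groth.Agent.H51.SpBasic

set_option autoImplicit false
universe u
open CategoryTheory CategoryTheory.Limits AlgebraicGeometry
open AlgSp

namespace Groth.Agent.S12193

/-- Let X be a reduced algebraic space over S, f : X → Y a morphism of algebraic spaces over S, and Z →
Y the scheme theoretic image of f. Then forming the scheme theoretic image commutes with etale base
change: for every etale morphism V → Y of algebraic spaces and cartesian squares X ×_Y V, Z ×_Y V,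
the closed subspace Z ×_Y V → V is the scheme theoretic image of X ×_Y V → V. -/
theorem result {S : Scheme.{u}} {X Y Z V XV ZV : AlgSp.Space S} (f : X ⟶ Y)
    (i : Z ⟶ Y) (hX : AlgSp.IsReducedSp X.obj) (hZ : AlgSp.IsSchImage f.hom i.hom) (b : V ⟶ Y)
    (hb : AlgSp.IsEtaleMor b.hom) (f₁ : XV ⟶ X) (fV : XV ⟶ V) (i₁ : ZV ⟶ Z) (iV : ZV ⟶ V)
    (sqX : IsPullback f₁.hom fV.hom f.hom b.hom) (sqZ : IsPullback i₁.hom iV.hom i.hom b.hom) :
    AlgSp.IsSchImage fV.hom iV.hom := by
  -- étale maps
  have hf₁E : IsEtaleMor f₁.hom :=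
    Groth.Agent.H53.isEtaleMor_of_isPullback V.property Y.property X.property sqX.flip hb
  have hi₁E : IsEtaleMor i₁.hom :=
    Groth.Agent.H53.isEtaleMor_of_isPullback V.property Y.property Z.property sqZ.flip hb
  -- reducedness ascends along étale morphisms
  have hredUp : ∀ {A B : AlgSp.Space S} (e : A ⟶ B), IsEtaleMor e.hom → IsReducedSp B.obj →
      IsReducedSp A.obj := by
    intro A B e he hB
    obtain ⟨U, a, haE, haS⟩ := A.property.atlas
    exact ⟨U, a, haE, haS,
      Groth.Agent.H51.isReduced_of_isReducedSp hB (EtOver.mk (a ≫ e.hom) (he a haE))⟩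
  have hXV : IsReducedSp XV.obj := hredUp f₁ hf₁E hX
  have hZred : IsRedInduced (closure (Set.range (Points.map f.hom))) i.hom :=
    Groth.Agent.H50.isRedInduced_of_isSchImage_of_reduced Y.property Z.property f.hom hX i.hom hZ
  have hZV : IsReducedSp ZV.obj := hredUp i₁ hi₁E hZred.2.2
  refine Groth.Agent.H50.isSchImage_of_isRedInduced_closure V.property fV.hom hXV iV.hom
    ⟨MorphismProperty.of_isPullback sqZ hZ.1, ?_, hZV⟩
  -- the point sets
  have hopen : IsOpenMap (Points.map b.hom) :=
    Groth.Agent.H51.isOpenMap_map_of_isEtaleMor b.hom V.property hb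
  have hpre : ∀ {P F : Sp S} {p₁ : P ⟶ F} {p₂ : P ⟶ V.obj} {φ : F ⟶ Y.obj},
      IsPullback p₁ p₂ φ b.hom →
      Set.range (Points.map p₂) = Points.map b.hom ⁻¹' Set.range (Points.map φ) := by
    intro P F p₁ p₂ φ sq
    ext v
    constructor
    · rintro ⟨z, rfl⟩
      exact ⟨Points.map p₁ z, by rw [← Points.map_comp, sq.w, Points.map_comp]⟩
    · rintro ⟨x, hx⟩
      obtain ⟨z, -, hz⟩ := Groth.Agent.H50.points_exists_of_isPullback sq x v hx
      exact ⟨z, hz⟩
  rw [hpre sqZ, hpre sqX, hZred.2.1,
    hopen.preimage_closure_eq_closure_preimage (Points.continuous_map b.hom)]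

end Groth.Agent.S12193
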