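import Groth.Statements.S12195
import Groth.Agent.H53.EtaleLift
import Groth.Agent.H53.Thick
import Groth.Agent.H53.SqZero

set_option autoImplicit false
universe u
open CategoryTheory CategoryTheory.Limits AlgebraicGeometry
open AlgSp

namespace Groth.Agent.S12195

/-- Let a : F ⟶ G be a representable, surjective and etale morphism of fppf sheaves on (Sch/S) and b : G
⟶ H a morphism such that a ≫ b is formally smooth. Consider a solid infinitesimal lifting square for
b: a square-zero thickening T = Spec (A/I) ⊂ T' = Spec A of affine schemes over S, a morphism T ⟶ G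
and a morphism T' ⟶ H making the square commute. Then for every point t of T' there exist an affine
scheme U', an etale morphism U' ⟶ T' whose image contains t, and a morphism U' ⟶ G lying over T' ⟶ H
whose restriction to T ×_{T'} U' agrees with the given T ⟶ G (stated for every scheme V mapping
compatibly to T and U'). (The published statement is for transformations of arbitrary presheaves of
sets on (Sch/S)_fppf; this row takes fppf sheaves, the case of algebraic spaces.) -/
theorem result {S : Scheme.{u}} {F G H : AlgSp.Sp S} (a : F ⟶ G)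
    (b : G ⟶ H) (ha : AlgSp.RepWith @Etale a) (ha' : AlgSp.RepWith @Surjective a)
    (hab : AlgSp.IsFormallySmoothMor (a ≫ b)) (sq : AlgSp.InfSq b) (t : ↥sq.ptT'.left) :
    ∃ (U' : Over S) (g : U' ⟶ sq.ptT') (l : (AlgSp.yon S).obj U' ⟶ G),
      IsAffine U'.left ∧ Etale g.left ∧ (∃ u : ↥U'.left, g.left u = t) ∧
        l ≫ b = (AlgSp.yon S).map g ≫ sq.bot ∧
          ∀ (V : Over S) (p : V ⟶ sq.ptT) (q : V ⟶ U'), p ≫ sq.j = q ≫ g →
            (AlgSp.yon S).map q ≫ l = (AlgSp.yon S).map p ≫ sq.top := by
  have hj1 : AlgSp.thick sq.j.left :=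
    ⟨IsClosedImmersion.spec_of_surjective _ Ideal.Quotient.mk_surjective,
      ⟨Groth.Agent.H8.specMap_quotientMk_surjective sq.I sq.sq_zero⟩⟩
  have hj2 : AlgSp.sqZero sq.j.left := Groth.Agent.H53.sqZero_specMap_quotientMk sq.I sq.sq_zero
  have hT' : IsAffine sq.ptT'.left := by dsimp; infer_instance
  obtain ⟨ι, P', P, π, i, ρ, s, hP', hπ, hcov, -, hpb, hs⟩ :=
    Groth.Agent.H53.exists_local_lift_of_thick a ha ha' sq.j hT' hj1 hj2 sq.top
  obtain ⟨k, u, hu⟩ := hcov t
  have hci : IsClosedImmersion sq.j.left := hj1.1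
  have sqS := (hpb k).map (Over.forget S)
  have hik : IsClosedImmersion (i k).left :=
    MorphismProperty.of_isPullback (P := @IsClosedImmersion) sqS.flip hci
  have := hP' k
  have hik2 : (i k).left.ker * (i k).left.ker = ⊥ :=
    Groth.Agent.H53.sqZero_of_isPullback_of_isAffine sq.j.left hj2 (π k).left (ρ k).left (i k).left
      sqS.flip
  obtain ⟨l₀, hl1, hl2⟩ := Groth.Agent.H53.lift_exists_of_formallySmooth (a ≫ b) hab (i k) (hP' k)
    hik hik2 (s k) ((AlgSp.yon S).map (π k) ≫ sq.bot) (by
      rw [← Category.assoc, hs k, Category.assoc, sq.comm, ← Category.assoc, ← Category.assoc,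
        ← Functor.map_comp, ← Functor.map_comp, (hpb k).w])
  refine ⟨P' k, π k, l₀ ≫ a, hP' k, hπ k, ⟨u, hu⟩, ?_, ?_⟩
  · rw [Category.assoc, hl2]
  · intro V p q hpq
    have e1 : (hpb k).lift q p hpq.symm ≫ i k = q := (hpb k).lift_fst _ _ _
    have e2 : (hpb k).lift q p hpq.symm ≫ ρ k = p := (hpb k).lift_snd _ _ _
    rw [← e1, Functor.map_comp, Category.assoc, ← Category.assoc _ l₀ a, hl1, hs k,
      ← Category.assoc, ← Functor.map_comp, e2]

end Groth.Agent.S12195
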