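import Groth.Statements.S12204
import Groth.Agent.H52.BCChart2
import Groth.Agent.S2521
import Groth.Agent.H51.GeomRedField

set_option autoImplicit false
universe u
open CategoryTheory CategoryTheory.Limits AlgebraicGeometry Topology TopologicalSpace
open AlgSp

namespace Groth.Agent.S12204

/-- (5) ⇒ (2): let k be a field of characteristic p > 0, k' a perfect closure of k (a perfect field
which is a purely inseparable extension of k) and X an algebraic space over k. If X_{k'} is reduced,
then X_K is reduced for every field extension K of k. -/
theorem result (k : Type u) [Field k] (p : ℕ) [Fact p.Prime] [CharP k p]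
    (X : AlgSp.Space (Spec (CommRingCat.of k))) (k' : Type u) [Field k'] [Algebra k k'] [PerfectField k']
    [IsPurelyInseparable k k']
    (h : AlgSp.EtaleLocally (fun U => IsReduced U) (X.obj ⨯ (AlgSp.yon (Spec (CommRingCat.of k))).obj (Over.mk (Spec.map (CommRingCat.ofHom (algebraMap k k'))))))
    (K : Type u) [Field K] [Algebra k K] : AlgSp.EtaleLocally (fun U => IsReduced U) (X.obj ⨯ (AlgSp.yon (Spec (CommRingCat.of k))).obj (Over.mk (Spec.map (CommRingCat.ofHom (algebraMap k K))))) := by
  refine Groth.Agent.H52.BCChart.reduced_of_geomRedAt X.property (fun x => ?_) K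
  obtain ⟨U, a, ha, has⟩ := X.property.atlas
  obtain ⟨u, hu⟩ := Groth.Agent.H52.ofPt_surjective_of_repWith_surjective a has x
  refine ⟨U, a, u, ha, hu, ?_⟩
  have hred : IsReduced (Groth.Agent.H52.BCChart.bcOver U k').left :=
    Groth.Agent.H52.BCChart.isReduced_bcOver_of_reduced k' h a ha
  have hsurj : Surjective (FBase.bcπ U.hom k') := by
    have : Surjective (Spec.map (CommRingCat.ofHom (algebraMap k k'))) :=
      Groth.Agent.H51.surjective_specMap_field _
    exact (inferInstance : Surjective
      (Limits.pullback.fst U.hom (Spec.map (CommRingCat.ofHom (algebraMap k k')))))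
  obtain ⟨x', hx'⟩ := hsurj.surj u
  refine Groth.Agent.S2521.result U.hom u x' hx' ?_
  exact (inferInstance : _root_.IsReduced
    ((Groth.Agent.H52.BCChart.bcOver U k').left.presheaf.stalk x'))

end Groth.Agent.S12204
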