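import Groth.Statements.S12211
import Groth.Agent.H17.HS.Mult

set_option autoImplicit false
universe u
open IntMult

namespace Groth.Agent.S12211

/-- Suppose A is a local Noetherian ring and I ⊆ A is an ideal of definition. Given a short exact
sequence 0 → M' → M → M'' → 0 of finite A-modules and a number d with dim Supp(M) ≤ d, we have
e_I(M, d) = e_I(M', d) + e_I(M'', d), where e_I(N, d) denotes the limit as t → ∞ of d! ·
length_A(N/I^t N)/t^d. Concretely: whenever these limits for M' and M'' exist and equal e' and e'',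
the corresponding limit for M exists and equals e' + e''. -/
theorem result (A : Type u) [CommRing A] [IsNoetherianRing A] [IsLocalRing A]
    (I : Ideal A) (hI : I ≤ IsLocalRing.maximalIdeal A ∧ ∃ n : ℕ, IsLocalRing.maximalIdeal A ^ n ≤ I)
    {M' M M'' : Type u} [AddCommGroup M'] [Module A M'] [AddCommGroup M] [Module A M]
    [AddCommGroup M''] [Module A M''] [Module.Finite A M'] [Module.Finite A M] [Module.Finite A M'']
    (f : M' →ₗ[A] M) (g : M →ₗ[A] M'') (hf : Function.Injective f) (hg : Function.Surjective g)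
    (hfg : LinearMap.range f = LinearMap.ker g)
    (d : ℕ) (hd : Module.supportDim A M ≤ d) (e' e'' : ℝ)
    (h' : Filter.Tendsto (fun t : ℕ => (d.factorial : ℝ) * ((Module.length A (M' ⧸ (I ^ t • (⊤ : Submodule A M')))).toNat : ℝ) / (t : ℝ) ^ d) Filter.atTop (nhds e'))
    (h'' : Filter.Tendsto (fun t : ℕ => (d.factorial : ℝ) * ((Module.length A (M'' ⧸ (I ^ t • (⊤ : Submodule A M'')))).toNat : ℝ) / (t : ℝ) ^ d) Filter.atTop (nhds e'')) :
    Filter.Tendsto (fun t : ℕ => (d.factorial : ℝ) * ((Module.length A (M ⧸ (I ^ t • (⊤ : Submodule A M)))).toNat : ℝ) / (t : ℝ) ^ d) Filter.atTop (nhds (e' + e'')) := by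
  open Groth.Agent.H17.HS Filter Topology in
  classical
  have hfin : ∀ (X : Type u) [AddCommGroup X] [Module A X] [Module.Finite A X] (t : ℕ),
      chi I X t ≠ ⊤ := fun X _ _ _ t => chi_ne_top I hI.2 X t
  obtain ⟨k, hk⟩ := chi_exact f g hf hg hfg I
  choose! c hc using hk
  -- real sequences
  set C : ℝ := (d.factorial : ℝ) with hC
  have hC0 : 0 ≤ C := by positivity
  have hcfin : ∀ t, k ≤ t → c t ≠ ⊤ := fun t ht =>
    ne_top_of_le_ne_top (hfin M' t) (hc t ht).2.2
  have h1 := tendsto_of_shift_sandwich (fun t => ((chi I M' t).toNat : ℝ))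
    (fun t => ((c t).toNat : ℝ)) k d C e' hC0 h' (by
      intro t ht
      obtain ⟨-, h2, h3⟩ := hc t ht
      constructor
      · have := ENat.toNat_le_toNat h2 (hcfin t ht)
        exact_mod_cast this
      · have := ENat.toNat_le_toNat h3 (hfin M' t)
        exact_mod_cast this)
  have h2 := h''.add h1
  rw [add_comm e'' e'] at h2
  refine h2.congr' ?_
  filter_upwards [eventually_ge_atTop k] with t ht
  obtain ⟨h3, -, -⟩ := hc t ht
  have h4 : (chi I M t).toNat = (chi I M'' t).toNat + (c t).toNat := by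
    rw [h3, ENat.toNat_add (hfin M'' t) (hcfin t ht)]
  change C * ((chi I M'' t).toNat : ℝ) / (t : ℝ) ^ d + C * ((c t).toNat : ℝ) / (t : ℝ) ^ d =
    C * ((chi I M t).toNat : ℝ) / (t : ℝ) ^ d
  rw [h4]
  push_cast
  ring

end Groth.Agent.S12211
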