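import Groth.Statements.S12215
import Groth.Agent.H8.WeakAssLoc

set_option autoImplicit false
universe u
open CategoryTheory CategoryTheory.Limits AlgebraicGeometry
open Divisors

namespace Groth.Agent.S12215

set_option backward.isDefEq.respectTransparency false in
/-- Let M be a module over a ring A, M~ the associated quasi-coherent module on Spec A and p a prime of
A. Then p is weakly associated to M — p is minimal among the prime ideals containing the annihilator
of some element of M — if and only if the point p of Spec A is weakly associated to M~, i.e. some
element of the stalk of M~ at p has annihilator whose radical is the maximal ideal of the local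
ring. -/
theorem result (A : CommRingCat.{u}) (M : ModuleCat.{u} A) (p : Spec A) :
    p.asIdeal ∈ FlatCA.weakAss A M ↔ Curv2.IsWeakAssPoint (tilde M) p := by
  let R' := (Spec A).presheaf.stalk p
  let M' := (tilde M).presheaf.stalk p
  let i1 : Algebra A R' := StructureSheaf.stalkAlgebra A p
  let i2 : Module A M' := inferInstanceAs (Module A ((tilde M).presheaf.stalk p))
  let i3 : Module R' M' := inferInstance
  have i5 : IsLocalization.AtPrime R' p.asIdeal := StructureSheaf.IsLocalization.to_stalk A p
  have i6 : IsLocalizedModule p.asIdeal.primeCompl (tilde.toStalk M p).hom := inferInstance
  have i4 : IsScalarTower A R' M' := by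
    refine .of_algebraMap_smul fun r m => ?_
    rfl
  exact (Groth.Agent.H8.exists_radical_ann_eq_maximalIdeal_iff p.asIdeal
    (tilde.toStalk M p).hom).symm

end Groth.Agent.S12215
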