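import Groth.Statements.S12227
import Groth.Agent.H61.DerivedRoofs

set_option autoImplicit false
universe w v u
open CategoryTheory CategoryTheory.Limits
open CohDer

namespace Groth.Agent.S12227

/-- Full faithfulness of K⁻(A)[Qis⁻¹] → D⁻(A), written in terms of roofs. Let A be an abelian category
and K, L complexes which are zero above some degree, viewed in the homotopy category. Then every
morphism Qh(K) → Qh(L) in the derived category is Qh(s)⁻¹ ≫ Qh(f) for some quasi-isomorphism s : K'
→ K and map f : K' → L of K(A) with K' again zero above some degree; and two maps f₁, f₂ : K → L of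
K(A) become equal in D(A) only if s ≫ f₁ = s ≫ f₂ for some quasi-isomorphism s : K' → K with K' zero
above some degree. (That the kernel of K⁻(A) → D(A) consists of the acyclic complexes and that the
essential image is D⁻(A) are separate statements.) -/
theorem result {A : Type u} [Category.{v} A] [Abelian A] [HasDerivedCategory.{w} A]
    (K L : HomotopyCategory A (ComplexShape.up ℤ)) (a b : ℤ) [CochainComplex.IsStrictlyLE K.as a] [CochainComplex.IsStrictlyLE L.as b] :
    (∀ φ : DerivedCategory.Qh.obj K ⟶ DerivedCategory.Qh.obj L,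
      ∃ (K' : HomotopyCategory A (ComplexShape.up ℤ)) (n : ℤ) (_ : CochainComplex.IsStrictlyLE K'.as n) (s : K' ⟶ K) (f : K' ⟶ L),
        HomotopyCategory.quasiIso A (ComplexShape.up ℤ) s ∧ DerivedCategory.Qh.map s ≫ φ = DerivedCategory.Qh.map f) ∧
    (∀ f₁ f₂ : K ⟶ L, DerivedCategory.Qh.map f₁ = DerivedCategory.Qh.map f₂ →
      ∃ (K' : HomotopyCategory A (ComplexShape.up ℤ)) (n : ℤ) (_ : CochainComplex.IsStrictlyLE K'.as n) (s : K' ⟶ K),
        HomotopyCategory.quasiIso A (ComplexShape.up ℤ) s ∧ s ≫ f₁ = s ≫ f₂) := by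
  obtain ⟨X, rfl⟩ : ∃ X : CochainComplex A ℤ, (HomotopyCategory.quotient A (.up ℤ)).obj X = K :=
    HomotopyCategory.quotient_obj_surjective K
  obtain ⟨Y, rfl⟩ : ∃ Y : CochainComplex A ℤ, (HomotopyCategory.quotient A (.up ℤ)).obj Y = L :=
    HomotopyCategory.quotient_obj_surjective L
  have hX : CochainComplex.IsStrictlyLE X a := ‹_›
  constructor
  · intro φ
    obtain ⟨X', h1, s, g, hs, fac⟩ := Groth.Agent.H61.exists_right_fac X Y a φ
    refine ⟨(HomotopyCategory.quotient A (.up ℤ)).obj X', a, h1,
      (HomotopyCategory.quotient A (.up ℤ)).map s, (HomotopyCategory.quotient A (.up ℤ)).map g,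
      ?_, fac⟩
    rw [HomotopyCategory.quotient_map_mem_quasiIso_iff, HomologicalComplex.mem_quasiIso_iff]
    exact hs
  · intro f₁ f₂ h
    obtain ⟨Z, s₀, hs₀, h12⟩ := (MorphismProperty.map_eq_iff_precomp DerivedCategory.Qh
      (HomotopyCategory.quasiIso A (.up ℤ)) f₁ f₂).1 h
    obtain ⟨Z, rfl⟩ : ∃ Z' : CochainComplex A ℤ, (HomotopyCategory.quotient A (.up ℤ)).obj Z' = Z :=
      HomotopyCategory.quotient_obj_surjective Z
    obtain ⟨σ, rfl⟩ := (HomotopyCategory.quotient A (.up ℤ)).map_surjective s₀
    have hσ : QuasiIso σ := by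
      rw [HomotopyCategory.quotient_map_mem_quasiIso_iff, HomologicalComplex.mem_quasiIso_iff] at hs₀
      exact hs₀
    have hZ : CochainComplex.IsLE Z a :=
      (HomologicalComplex.isSupported_iff_of_quasiIso σ _).2 inferInstance
    have hι : QuasiIso (CochainComplex.ιTruncLE Z a) := inferInstance
    refine ⟨(HomotopyCategory.quotient A (.up ℤ)).obj (CochainComplex.truncLE Z a), a,
      (inferInstance : CochainComplex.IsStrictlyLE (CochainComplex.truncLE Z a) a),
      (HomotopyCategory.quotient A (.up ℤ)).map (CochainComplex.ιTruncLE Z a) ≫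
        (HomotopyCategory.quotient A (.up ℤ)).map σ, ?_, ?_⟩
    · refine MorphismProperty.comp_mem _ _ _ ?_ hs₀
      rw [HomotopyCategory.quotient_map_mem_quasiIso_iff, HomologicalComplex.mem_quasiIso_iff]
      exact hι
    · rw [Category.assoc, Category.assoc, h12]

end Groth.Agent.S12227
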