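import Groth.Statements.S12228
import Groth.Agent.H61.DerivedRoofs

set_option autoImplicit false
universe w v u
open CategoryTheory CategoryTheory.Limits
open CohDer

namespace Groth.Agent.S12228

/-- Full faithfulness of Kᵇ(A)[Qis⁻¹] → Dᵇ(A), written in terms of roofs. Let A be an abelian category
and K, L bounded complexes (zero outside a finite range of degrees), viewed in the homotopy
category. Then every morphism Qh(K) → Qh(L) in the derived category is Qh(f) ≫ Qh(t)⁻¹ for some map
f : K → L' and quasi-isomorphism t : L → L' of K(A) with L' again bounded; and two maps f₁, f₂ : K →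
L of K(A) become equal in D(A) only if f₁ ≫ t = f₂ ≫ t for some quasi-isomorphism t : L → L' with L'
bounded. -/
theorem result {A : Type u} [Category.{v} A] [Abelian A] [HasDerivedCategory.{w} A]
    (K L : HomotopyCategory A (ComplexShape.up ℤ)) (a b a' b' : ℤ) [CochainComplex.IsStrictlyGE K.as a] [CochainComplex.IsStrictlyLE K.as b]
    [CochainComplex.IsStrictlyGE L.as a'] [CochainComplex.IsStrictlyLE L.as b'] :
    (∀ φ : DerivedCategory.Qh.obj K ⟶ DerivedCategory.Qh.obj L,
      ∃ (L' : HomotopyCategory A (ComplexShape.up ℤ)) (m n : ℤ) (_ : CochainComplex.IsStrictlyGE L'.as m) (_ : CochainComplex.IsStrictlyLE L'.as n) (f : K ⟶ L') (t : L ⟶ L'),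
        HomotopyCategory.quasiIso A (ComplexShape.up ℤ) t ∧ φ ≫ DerivedCategory.Qh.map t = DerivedCategory.Qh.map f) ∧
    (∀ f₁ f₂ : K ⟶ L, DerivedCategory.Qh.map f₁ = DerivedCategory.Qh.map f₂ →
      ∃ (L' : HomotopyCategory A (ComplexShape.up ℤ)) (m n : ℤ) (_ : CochainComplex.IsStrictlyGE L'.as m) (_ : CochainComplex.IsStrictlyLE L'.as n) (t : L ⟶ L'),
        HomotopyCategory.quasiIso A (ComplexShape.up ℤ) t ∧ f₁ ≫ t = f₂ ≫ t) := by
  obtain ⟨X, rfl⟩ : ∃ X : CochainComplex A ℤ, (HomotopyCategory.quotient A (.up ℤ)).obj X = K :=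
    HomotopyCategory.quotient_obj_surjective K
  obtain ⟨Y, rfl⟩ : ∃ Y : CochainComplex A ℤ, (HomotopyCategory.quotient A (.up ℤ)).obj Y = L :=
    HomotopyCategory.quotient_obj_surjective L
  have hXb : CochainComplex.IsStrictlyLE X b := ‹_›
  have hYa : CochainComplex.IsStrictlyGE Y a' := ‹_›
  have hYb : CochainComplex.IsStrictlyLE Y b' := ‹_›
  have hXB : CochainComplex.IsStrictlyLE X (max b b') :=
    CochainComplex.isStrictlyLE_of_le X b _ (le_max_left _ _)
  have hYB : CochainComplex.IsStrictlyLE Y (max b b') :=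
    CochainComplex.isStrictlyLE_of_le Y b' _ (le_max_right _ _)
  constructor
  · intro φ
    obtain ⟨Y', h1, h2, g, s, hs, fac⟩ := Groth.Agent.H61.exists_left_fac X Y a' (max b b') φ
    refine ⟨(HomotopyCategory.quotient A (.up ℤ)).obj Y', a', max b b', h1, h2,
      (HomotopyCategory.quotient A (.up ℤ)).map g, (HomotopyCategory.quotient A (.up ℤ)).map s,
      ?_, fac⟩
    rw [HomotopyCategory.quotient_map_mem_quasiIso_iff, HomologicalComplex.mem_quasiIso_iff]
    exact hs
  · intro f₁ f₂ h
    obtain ⟨φ₁, rfl⟩ := (HomotopyCategory.quotient A (.up ℤ)).map_surjective f₁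
    obtain ⟨φ₂, rfl⟩ := (HomotopyCategory.quotient A (.up ℤ)).map_surjective f₂
    obtain ⟨Y', h1, h2, t, ht, h12⟩ :=
      Groth.Agent.H61.exists_postcomp_eq X Y a' (max b b') φ₁ φ₂ h
    refine ⟨(HomotopyCategory.quotient A (.up ℤ)).obj Y', a', max b b', h1, h2,
      (HomotopyCategory.quotient A (.up ℤ)).map t, ?_, h12⟩
    rw [HomotopyCategory.quotient_map_mem_quasiIso_iff, HomologicalComplex.mem_quasiIso_iff]
    exact ht

end Groth.Agent.S12228
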