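import Groth.Statements.S12229
import Groth.Agent.H61.RDFTriangle

set_option autoImplicit false
universe w w' v v' u u'
open CategoryTheory CategoryTheory.Limits
open CohDer

namespace Groth.Agent.S12229

/-- Let F : C → D be a left exact functor between abelian categories with C having enough injectives,
and let 0 → X₁ → X₂ → X₃ → 0 be a short exact sequence of bounded below complexes of C (maps f, g
with f a monomorphism, g an epimorphism and ker g = im f, degreewise). Then there is a long exact
cohomology sequence … → H^i(RF X₁) → H^i(RF X₂) → H^i(RF X₃) → H^{i+1}(RF X₁) → …: for every i the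
induced sequence is exact at H^i(RF X₂), and there is a connecting morphism H^i(RF X₃) → H^{i+1}(RF
X₁) with exactness at H^i(RF X₃) and at H^{i+1}(RF X₁). Here RF is the right derived functor on the
bounded below derived category and H^i is computed in D(D); exactness is expressed as equality of
kernel and image subobjects. Existence of such a connecting morphism only; the canonical one coming
from the distinguished triangle of the short exact sequence is not named. -/
theorem result {C : Type u} [Category.{v} C] [Abelian C] [HasDerivedCategory.{w} C]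
    [EnoughInjectives C] {D : Type u'} [Category.{v'} D] [Abelian D] [HasDerivedCategory.{w'} D]
    (F : C ⥤ D) [F.Additive] [PreservesFiniteLimits F]
    {X₁ X₂ X₃ : CochainComplex.Plus C} (f : X₁ ⟶ X₂) (g : X₂ ⟶ X₃)
    (hf : Mono ((CochainComplex.Plus.ι C).map f)) (hg : Epi ((CochainComplex.Plus.ι C).map g))
    (hex : kernelSubobject ((CochainComplex.Plus.ι C).map g) = imageSubobject ((CochainComplex.Plus.ι C).map f))
    (i : ℤ) :
    let Φ := HomotopyCategory.Plus.quotient C ⋙ DerivedCategory.Plus.Qh ⋙ F.rightDerivedFunctorPlus ⋙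
      DerivedCategory.Plus.ι ⋙ DerivedCategory.homologyFunctor D i
    let Ψ := HomotopyCategory.Plus.quotient C ⋙ DerivedCategory.Plus.Qh ⋙ F.rightDerivedFunctorPlus ⋙
      DerivedCategory.Plus.ι ⋙ DerivedCategory.homologyFunctor D (i + 1)
    kernelSubobject (Φ.map g) = imageSubobject (Φ.map f) ∧
      ∃ δ : Φ.obj X₃ ⟶ Ψ.obj X₁,
        kernelSubobject δ = imageSubobject (Φ.map g) ∧ kernelSubobject (Ψ.map f) = imageSubobject δ := by
  intro Φ Ψ
  have := hf
  have := hg
  obtain ⟨h, hS⟩ := Groth.Agent.H61.shortExact_of_subobject_eq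
    ((CochainComplex.Plus.ι C).map f) ((CochainComplex.Plus.ι C).map g) hex
  obtain ⟨w, hT⟩ := Groth.Agent.H61.exists_distTriang_of_shortExact f g h hS
  obtain ⟨T', hT', e₁, e₂, e₃, c₁, c₂⟩ :=
    Groth.Agent.H61.exists_distTriang_rightDerivedFunctorPlus F _ _ w hT
  have hT'' := DerivedCategory.Plus.ι.map_distinguished _ hT'
  let E : ∀ (n : ℤ) {A B : DerivedCategory.Plus D} (e : A ≅ B),
      (DerivedCategory.homologyFunctor D n).obj (DerivedCategory.Plus.ι.obj A) ≅
        (DerivedCategory.homologyFunctor D n).obj (DerivedCategory.Plus.ι.obj B) :=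
    fun n _ _ e => (DerivedCategory.homologyFunctor D n).mapIso (DerivedCategory.Plus.ι.mapIso e)
  have hE : ∀ (n : ℤ) {A B A' B' : DerivedCategory.Plus D} (a : A ≅ A') (b : B ≅ B')
      (x : A ⟶ B) (y : A' ⟶ B') (_ : x ≫ b.hom = a.hom ≫ y),
      (DerivedCategory.homologyFunctor D n).map (DerivedCategory.Plus.ι.map x) ≫ (E n b).hom =
        (E n a).hom ≫ (DerivedCategory.homologyFunctor D n).map (DerivedCategory.Plus.ι.map y) := by
    intro n A B A' B' a b x y hxy
    dsimp only [E, Functor.mapIso_hom]
    rw [← Functor.map_comp, ← Functor.map_comp, ← Functor.map_comp, ← Functor.map_comp, hxy]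
  have ex₂ := DerivedCategory.HomologySequence.exact₂ _ hT'' i
  have ex₃ := DerivedCategory.HomologySequence.exact₃ _ hT'' i (i + 1) rfl
  have ex₁ := DerivedCategory.HomologySequence.exact₁ _ hT'' i (i + 1) rfl
  refine ⟨?_, (E i e₃).hom ≫ DerivedCategory.HomologySequence.δ
    (DerivedCategory.Plus.ι.mapTriangle.obj T') i (i + 1) rfl ≫ (E (i + 1) e₁).inv, ?_, ?_⟩
  · exact Groth.Agent.H61.kernelSubobject_eq_imageSubobject_of_iso _ ex₂
      (E i e₁) (E i e₂) (E i e₃) (hE i e₁ e₂ _ _ c₁) (hE i e₂ e₃ _ _ c₂)
  · refine Groth.Agent.H61.kernelSubobject_eq_imageSubobject_of_iso _ ex₃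
      (E i e₂) (E i e₃) (E (i + 1) e₁) (hE i e₂ e₃ _ _ c₂) ?_
    rw [Category.assoc, Category.assoc, Iso.inv_hom_id, Category.comp_id]
    rfl
  · refine Groth.Agent.H61.kernelSubobject_eq_imageSubobject_of_iso _ ex₁
      (E i e₃) (E (i + 1) e₁) (E (i + 1) e₂) ?_ (hE (i + 1) e₁ e₂ _ _ c₁)
    rw [Category.assoc, Category.assoc, Iso.inv_hom_id, Category.comp_id]
    rfl

end Groth.Agent.S12229
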