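import Groth.Statements.S12235
import Groth.Agent.H38.NormSmoothH0

set_option autoImplicit false
universe u
open CategoryTheory CategoryTheory.Limits AlgebraicGeometry
open Curves

namespace Groth.Agent.S12235

/-- Let k be a field, X a proper geometrically irreducible curve over k (proper over k, integral, of
dimension one), K/k a field extension and Y_K the normalization of the reduction of X_K (that
reduction is integral). If Y_K is smooth over K then H^0(Y_K, O) = K: the global functions of Y_K
form a one-dimensional K-vector space. (Stated for proper X; the instance hypotheses on (X_K)_red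
always hold.) -/
theorem result (k : Type u) [Field k] (X : Scheme.{u})
    [X.Over (Spec (CommRingCat.of k))] [IsIntegral X] [IsProper (X ↘ (Spec (CommRingCat.of k)))]
    [GeometricallyIrreducible (X ↘ (Spec (CommRingCat.of k)))] (hdim : topologicalKrullDim X = 1)
    (K : Type u) [Field K] [Algebra k K] [IsIntegral ((Curv2.bc k X K).nilradical).subscheme]
    [QuasiCompact ((((Curv2.bc k X K).nilradical).subscheme).fromSpecStalk (genericPoint ((Curv2.bc k X K).nilradical).subscheme))]
    [QuasiSeparated ((((Curv2.bc k X K).nilradical).subscheme).fromSpecStalk (genericPoint ((Curv2.bc k X K).nilradical).subscheme))]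
    (hsm : Smooth (Curv2.normalizationι ((Curv2.bc k X K).nilradical).subscheme ≫ ((Curv2.bc k X K).nilradical).subschemeι ≫ Curv2.bcSnd k X K)) :
    letI : (Curv2.normalization ((Curv2.bc k X K).nilradical).subscheme).Over (Spec (CommRingCat.of K)) := ⟨(Curv2.normalizationι ((Curv2.bc k X K).nilradical).subscheme ≫ ((Curv2.bc k X K).nilradical).subschemeι ≫ Curv2.bcSnd k X K)⟩
    Module.finrank K (Coh.HH (Curv2.normalization ((Curv2.bc k X K).nilradical).subscheme) (Coh.structureModule (Curv2.normalization ((Curv2.bc k X K).nilradical).subscheme)) 0) = 1 := by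
  letI : (((Curv2.bc k X K).nilradical).subscheme).Over (Spec (CommRingCat.of K)) :=
    ⟨((Curv2.bc k X K).nilradical).subschemeι ≫ Curv2.bcSnd k X K⟩
  have hsurj : Surjective ((Curv2.bc k X K).nilradical).subschemeι := by
    constructor
    intro x
    have h : x ∈ Set.range ((Curv2.bc k X K).nilradical).subschemeι := by
      rw [Scheme.IdealSheafData.range_subschemeι, Scheme.support_nilradical]
      trivial
    exact h
  have hgi : GeometricallyIrreducible
      (((Curv2.bc k X K).nilradical).subschemeι ≫ Curv2.bcSnd k X K) :=
    Groth.Agent.H38.NormSmoothH0.geometricallyIrreducible_comp_of_surjective_closedImmersion _ _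
  have hgi' : GeometricallyIrreducible
      ((((Curv2.bc k X K).nilradical).subscheme) ↘ Spec (CommRingCat.of K)) := hgi
  have huc : UniversallyClosed
      ((((Curv2.bc k X K).nilradical).subscheme) ↘ Spec (CommRingCat.of K)) :=
    inferInstanceAs (UniversallyClosed
      (((Curv2.bc k X K).nilradical).subschemeι ≫ Curv2.bcSnd k X K))
  have hqc : QuasiCompact
      ((((Curv2.bc k X K).nilradical).subscheme) ↘ Spec (CommRingCat.of K)) :=
    inferInstanceAs (QuasiCompact
      (((Curv2.bc k X K).nilradical).subschemeι ≫ Curv2.bcSnd k X K))
  have hqs : QuasiSeparated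
      ((((Curv2.bc k X K).nilradical).subscheme) ↘ Spec (CommRingCat.of K)) :=
    inferInstanceAs (QuasiSeparated
      (((Curv2.bc k X K).nilradical).subschemeι ≫ Curv2.bcSnd k X K))
  have key := Groth.Agent.H38.NormSmoothH0.finrank_sections_normalization K
    (((Curv2.bc k X K).nilradical).subscheme) hsm
  have h0 := @Groth.Agent.H38.NormSmoothH0.finrank_HH_zero_structureModule K _
    (Curv2.normalization ((Curv2.bc k X K).nilradical).subscheme)
    ⟨(Curv2.normalizationι ((Curv2.bc k X K).nilradical).subscheme ≫ ((Curv2.bc k X K).nilradical).subschemeι ≫ Curv2.bcSnd k X K)⟩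
  rw [h0]
  exact key

end Groth.Agent.S12235
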