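import Groth.Statements.S12249
import Groth.Agent.H61.HullTrivial

set_option autoImplicit false
universe u v
open CategoryTheory
open Deform

namespace Groth.Agent.S12249

/-- Let k be an algebraically closed field and F a set-valued functor on local Artinian k-algebras with
residue field k such that F(k) is a single point. If F has a semiuniversal formal element and its
tangent space F(k[ε]) is reduced to one element, then F(A) consists of exactly one element for every
A: F is the constant one-point functor h_k. -/
theorem result
    {k : Type u} [Field k] [IsAlgClosed k]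
    (F : ArtFun.Art k k ⥤ Type v) (h0 : ArtFun.H0 F) (hF : ArtFun.HasHull F)
    (ht : Subsingleton (ArtFun.TangentSpace F)) (A : ArtFun.Art k k) :
    Nonempty (F.obj A) ∧ Subsingleton (F.obj A) := by
  obtain ⟨H⟩ := hF
  have hsub : Subsingleton (ArtFun.HomSet H.ring.carrier H.ring.res (ArtFun.Art.dual k k)) := by
    constructor
    intro φ ψ
    apply H.miniversal.2.1
    exact ht.elim _ _
  have hm := Groth.Agent.H61.maximalIdeal_eq_bot_of_tangent_subsingleton H.ring hsub
  have hA := Groth.Agent.H61.homSet_subsingleton_of_maximalIdeal_eq_bot H.ring hm A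
  have hs := Groth.Agent.H61.surjective_of_isVersal H.family H.miniversal.1 h0 A
  refine ⟨⟨H.family.app A (Groth.Agent.H61.homSetTriv H.ring.res A)⟩, ⟨fun a b => ?_⟩⟩
  obtain ⟨φ, rfl⟩ := hs a
  obtain ⟨ψ, rfl⟩ := hs b
  rw [hA.elim φ ψ]

end Groth.Agent.S12249
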