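import Groth.Statements.S12254
import Mathlib
import Groth.Agent.H61.Aut.Rigid
import Groth.Agent.H61.Aut.OfDer
import Groth.Agent.H22.FibreRank

set_option autoImplicit false
universe u
open CategoryTheory CategoryTheory.Limits AlgebraicGeometry
open Deform

namespace Groth.Agent.S12254

/-- Let k be an algebraically closed field and X a projective k-scheme, given with a closed immersion
into some P^n_k over k. Then the space of infinitesimal automorphisms H^0(X, T_X) =
Hom_{O_X}(Ω_{X/k}, O_X) vanishes if and only if, for every local Artinian k-algebra A with residue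
field k and every deformation of X over A (a scheme flat over Spec A together with a morphism from X
identifying X with the closed fibre), the only automorphism of the total space over Spec A
compatible with the inclusion of X is the identity. -/
theorem result
    {k : Type u} [Field k] [IsAlgClosed k] (X : Scheme.{u}) (x : X ⟶ Spec (CommRingCat.of k))
    [LocallyOfFiniteType x] [IsSeparated x] [QuasiCompact x]
    (hproj : ∃ (n : ℕ) (c : X ⟶ CohB1.ProjSpaceOver n (Spec (CommRingCat.of k))),
      IsClosedImmersion c ∧ c ≫ CohB1.ProjSpaceOver.toBase n (Spec (CommRingCat.of k)) = x) :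
    Subsingleton (Omega.sheaf x ⟶ Coh.structureModule X) ↔
      ∀ (A : ArtFun.Art k k) (ξ : ArtFun.DefSch X x A) (e : ξ.Iso ξ), e.iso.hom = 𝟙 ξ.total := by
  haveI : QuasiSeparated x := inferInstance
  constructor
  · intro H0 A ξ e
    exact Groth.Agent.H61.Aut.eq_id_of_subsingleton ξ e.iso.hom e.hom_f e.i_hom H0
  · intro H
    have hx : Flat x := Groth.Agent.H22.FibreRank.flat_of_field x
    let ξ₀ : ArtFun.DefSch X x (ArtFun.Art.dual k k) :=
      ArtFun.DefSch.trivial X x hx (ArtFun.Art.dual k k)
    let p : ξ₀.total ⟶ X :=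
      pullback.fst (ArtFun.DefSch.self X x hx).f
        (ArtFun.Art.specMap (ArtFun.Art.ofBase (ArtFun.Art.dual k k)))
    have hp : IsPullback p ξ₀.f x
        (ArtFun.Art.specMap (ArtFun.Art.ofBase (ArtFun.Art.dual k k))) :=
      IsPullback.of_hasPullback (ArtFun.DefSch.self X x hx).f
        (ArtFun.Art.specMap (ArtFun.Art.ofBase (ArtFun.Art.dual k k)))
    have hip : ξ₀.i ≫ p = 𝟙 X := ArtFun.DefSch.baseChange_i_fst _ _
    have key : ∀ (D : OmegaSh.Der x (Coh.structureModule X)) (V : X.Opens), IsAffineOpen V →
        ∀ s : Γ(X, V), D.app V s = 0 := by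
      intro D V hV s
      have hδ : ∀ r : Γ(ArtFun.Art.specPt k, ⊤),
          (Groth.Agent.H61.Aut.selfDer D).D ⊤ (x.appTop.hom r) = 0 := by
        intro r
        rw [Groth.Agent.H61.Aut.selfDer_D]
        have := Groth.Agent.H44.Der_app_app D ⊤ r
        change D.app ⊤ (x.appTop.hom r) = 0 at this
        rw [this, map_zero]
      have h1 := H _ ξ₀ (Groth.Agent.H61.Aut.endoIso ξ₀ p hp (Groth.Agent.H61.Hull.epsD k k)
        Groth.Agent.H61.Hull.epsD_mul_self Groth.Agent.H61.Hull.res_epsD
        (Groth.Agent.H61.Aut.selfDer D) hδ)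
      exact Groth.Agent.H61.Aut.D_eq_zero_of_endo_eq_id ξ₀ p hp hip (Groth.Agent.H61.Hull.epsD k k)
        Groth.Agent.H61.Hull.epsD_mul_self (Groth.Agent.H61.Aut.selfDer D) hδ
        Groth.Agent.H61.Hull.epsD_ne_zero h1 hV s
    have hzero : ∀ (α : Omega.sheaf x ⟶ Coh.structureModule X) (c : Groth.Agent.H44.OmegaChart x)
        (m : Γ(Omega.sheaf x, c.U)), α.app c.U m = 0 := by
      intro α c m
      have hm : m ∈ Submodule.span Γ(X, c.U) (Set.range (OmegaSh.dSect x c.U)) := by
        rw [Groth.Agent.H44.span_range_dSect x c]; trivial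
      induction hm using Submodule.span_induction with
      | mem y hy =>
        obtain ⟨s, rfl⟩ := hy
        have := key ((OmegaSh.dOmega x).postcomp α.val) c.U c.hU s
        rw [Groth.Agent.H44.postcomp_app, Groth.Agent.H44.dOmega_app] at this
        exact this
      | zero => simp
      | add y z _ _ hy hz => rw [map_add, hy, hz, add_zero]
      | smul a y _ hy => rw [Scheme.Modules.Hom.app_smul, hy, smul_zero]
    constructor
    intro α β
    apply Groth.Agent.H44.hom_ext_of_isBasis (fun c : Groth.Agent.H44.OmegaChart x => c.U)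
      (Groth.Agent.H44.isBasis_omegaChart x)
    intro c m
    rw [hzero α c m, hzero β c m]

end Groth.Agent.S12254
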