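import Groth.Statements.S12257
import Groth.Agent.H61.FunctorPts

set_option autoImplicit false
universe u v
open CategoryTheory CategoryTheory.Limits
open Deform

namespace Groth.Agent.S12257

/-- Let k be an algebraically closed field, Λ a complete local Noetherian k-algebra with residue field
k, and F, G, H set-valued functors on local Artinian Λ-algebras with residue field k, each with
one-point value at k. If F → G is a smooth morphism of functors and H → G is any morphism, then the
second projection F ×_G H → H of the fibre product of functors is smooth. -/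
theorem result
    {k Λ : Type u} [Field k] [IsAlgClosed k] [CommRing Λ] [IsLocalRing Λ] [IsNoetherianRing Λ]
    [IsAdicComplete (IsLocalRing.maximalIdeal Λ) Λ] [Algebra k Λ] [Algebra Λ k] [IsScalarTower k Λ k]
    {F G H : ArtFun.Art Λ k ⥤ Type v} (η : F ⟶ G) (θ : H ⟶ G)
    (hF : ArtFun.H0 F) (hG : ArtFun.H0 G) (hH : ArtFun.H0 H) (hη : ArtFun.IsSmooth η) :
    ArtFun.IsSmooth (pullback.snd η θ) := by
  intro B A μ hμ w
  obtain ⟨⟨p, h⟩, hw⟩ := w
  change (pullback.snd η θ).app A p = H.map μ h at hw
  have hx : η.app A ((pullback.fst η θ).app A p) = G.map μ (θ.app B h) := by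
    have h1 : η.app A ((pullback.fst η θ).app A p) = θ.app A ((pullback.snd η θ).app A p) :=
      congrFun (congrArg (fun (t : pullback η θ ⟶ G) => (t.app A : (pullback η θ).obj A → G.obj A))
        (pullback.condition (f := η) (g := θ))) p
    rw [h1, hw]
    exact NatTrans.naturality_apply θ μ h
  obtain ⟨z, hz⟩ := hη μ hμ ⟨((pullback.fst η θ).app A p, θ.app B h), hx⟩
  have hz1 : F.map μ z = (pullback.fst η θ).app A p := congrArg (fun t => t.1.1) hz
  have hz2 : η.app B z = θ.app B h := congrArg (fun t => t.1.2) hz
  obtain ⟨q, hq1, hq2⟩ := Groth.Agent.H61.pullback_app_exists η θ B z h hz2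
  refine ⟨q, ?_⟩
  apply Subtype.ext
  apply Prod.ext
  · change (pullback η θ).map μ q = p
    apply Groth.Agent.H61.pullback_app_ext η θ A
    · rw [NatTrans.naturality_apply, hq1, hz1]
    · rw [NatTrans.naturality_apply, hq2, hw]
  · exact hq2

end Groth.Agent.S12257
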