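import Groth.Statements.S12258
import Groth.Agent.H61.FunctorPts

set_option autoImplicit false
universe u v
open CategoryTheory CategoryTheory.Limits
open Deform

namespace Groth.Agent.S12258

/-- Let k be an algebraically closed field, Λ a complete local Noetherian k-algebra with residue field
k, and F, G set-valued functors on local Artinian Λ-algebras with residue field k, each with
one-point value at k. If F and G are smooth functors, i.e. F(B) → F(A) and G(B) → G(A) are
surjective for every surjection B → A, then the product functor F × G is smooth. -/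
theorem result
    {k Λ : Type u} [Field k] [IsAlgClosed k] [CommRing Λ] [IsLocalRing Λ] [IsNoetherianRing Λ]
    [IsAdicComplete (IsLocalRing.maximalIdeal Λ) Λ] [Algebra k Λ] [Algebra Λ k] [IsScalarTower k Λ k]
    {F G : ArtFun.Art Λ k ⥤ Type v}
    (hF : ArtFun.H0 F) (hG : ArtFun.H0 G) (sF : ArtFun.IsSmoothFunctor F) (sG : ArtFun.IsSmoothFunctor G) :
    ArtFun.IsSmoothFunctor (F ⨯ G) := by
  intro B A μ hμ w
  obtain ⟨x', hx'⟩ := sF μ hμ ((prod.fst (X := F) (Y := G)).app A w)
  obtain ⟨y', hy'⟩ := sG μ hμ ((prod.snd (X := F) (Y := G)).app A w)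
  obtain ⟨w', hw'⟩ := (Groth.Agent.H61.prod_app_bijective F G B).2 (x', y')
  have h1 : (prod.fst (X := F) (Y := G)).app B w' = x' := congrArg Prod.fst hw'
  have h2 : (prod.snd (X := F) (Y := G)).app B w' = y' := congrArg Prod.snd hw'
  refine ⟨w', ?_⟩
  apply (Groth.Agent.H61.prod_app_bijective F G A).1
  apply Prod.ext
  · change (prod.fst (X := F) (Y := G)).app A ((F ⨯ G).map μ w') = _
    rw [NatTrans.naturality_apply, h1, hx']
  · change (prod.snd (X := F) (Y := G)).app A ((F ⨯ G).map μ w') = _
    rw [NatTrans.naturality_apply, h2, hy']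

end Groth.Agent.S12258
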