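import Groth.Statements.S12262
import Mathlib
import Groth.Agent.H61.Lift.RegIdeal
import Groth.Agent.H61.Hilb.Inj
import Groth.Agent.H63.ArtBasic

set_option autoImplicit false
universe u
open CategoryTheory CategoryTheory.Limits AlgebraicGeometry
open Deform

namespace Groth.Agent.S12262

/-- Let k be an algebraically closed field, Y a separated k-scheme of finite type and X ⊆ Y the closed
subscheme of a quasi-coherent ideal sheaf I, such that the inclusion X → Y is a regular closed
immersion (I is locally generated by a regular sequence) and X is projective over k. Let N =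
Hom_{O_X}(I/I², O_X) be the normal sheaf and suppose H^1(X, N) = 0, written here as Ext¹_{O_X}(I/I²,
O_X) = 0 for the conormal sheaf I/I² (the same group, since I/I² is locally free). Then every
deformation of X in Y over a local Artinian k-algebra A with residue field k (a closed subscheme of
Y ×_k Spec A, flat over Spec A, restricting to X on the closed fibre) lifts along every small
extension A' → A: the map of the local Hilbert functor from A' to A is surjective. (The published
statement says that H^1(X, N) is an obstruction space: each deformation over A has an obstruction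
class in H^1(X, N) attached to each small extension of A, vanishing exactly when a lifting exists;
this row states the consequence for H^1(X, N) = 0.) -/
theorem result
    {k : Type u} [Field k] [IsAlgClosed k] (Y : Scheme.{u}) (y : Y ⟶ Spec (CommRingCat.of k))
    [LocallyOfFiniteType y] [IsSeparated y] [QuasiCompact y] (I₀ : Y.IdealSheafData)
    (hreg : Mor2.IsRegularClosedImmersion I₀.subschemeι)
    (hproj : ∃ (n : ℕ) (c : I₀.subscheme ⟶ CohB1.ProjSpaceOver n (Spec (CommRingCat.of k))),
      IsClosedImmersion c ∧ c ≫ CohB1.ProjSpaceOver.toBase n (Spec (CommRingCat.of k)) = I₀.subschemeι ≫ y)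
    [HasExt.{u} I₀.subscheme.Modules]
    (h1 : Subsingleton (Abelian.Ext.{u} (Omega.conormal I₀.subschemeι) (Coh.structureModule I₀.subscheme) 1))
    {A' A : ArtFun.Art k k} (p : A' ⟶ A) (hp : ArtFun.Art.IsSmallExt p) :
    Function.Surjective ((ArtFun.localHilb Y y I₀).map p) := by
  intro I
  obtain ⟨hsurj, hne, hprin, hann⟩ := hp
  obtain ⟨t, ht⟩ := hprin.principal
  have hker : RingHom.ker p.toAlgHom.toRingHom = Ideal.span {t} := ht
  have htker : t ∈ RingHom.ker p.toAlgHom := by
    rw [ht]
    exact Ideal.subset_span rfl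
  have htm : t ∈ IsLocalRing.maximalIdeal A' := Groth.Agent.H63.ker_le_maximalIdeal p htker
  have htne : t ≠ 0 := by
    intro h0
    apply hne
    rw [ht, h0]
    exact Ideal.span_singleton_eq_bot.2 rfl
  have htann : ∀ m ∈ IsLocalRing.maximalIdeal A', m * t = 0 := by
    intro m hm
    have h1 : m * t ∈ IsLocalRing.maximalIdeal A' * RingHom.ker p.toAlgHom :=
      Ideal.mul_mem_mul hm htker
    rw [hann] at h1
    exact h1
  have hnil : IsNilpotent (IsLocalRing.maximalIdeal A') := by
    obtain ⟨n, hn⟩ := Groth.Agent.H63.maximalIdeal_nilpotent A'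
    exact ⟨n, hn⟩
  have hExt : Groth.Agent.H61.Lift.ExtProp
      ((Scheme.Modules.pullback I₀.subschemeι).obj (ClSub.idealMod I₀))
      (Coh.structureModule I₀.subscheme) := by
    have h1' := h1
    unfold Omega.conormal at h1'
    rw [I₀.ker_subschemeι] at h1'
    exact Groth.Agent.H61.Lift.extProp_of_subsingleton _ _ h1'
  have hreg' : ∀ z : I₀.subscheme, ∃ (U : Y.Opens) (hU : IsAffineOpen U),
      I₀.subschemeι z ∈ U ∧ ∃ rs : List Γ(Y, U),
        RingTheory.Sequence.IsWeaklyRegular Γ(Y, U) rs ∧ I₀.ideal ⟨U, hU⟩ = Ideal.ofList rs := by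
    intro z
    obtain ⟨U, hU, hz, rs, hrs, hI⟩ := hreg.2 z
    rw [I₀.ker_subschemeι] at hI
    exact ⟨U, hU, hz, rs, hrs.toIsWeaklyRegular, hI⟩
  obtain ⟨I', hfl, hco⟩ := Groth.Agent.H61.Lift.exists_lift_reg (Groth.Agent.H61.Hilb.xi y A') p
    (Groth.Agent.H61.Hilb.xi y A) (ArtFun.Art.XAmap y p) (ArtFun.Art.isPullback_XAmap y p)
    (ArtFun.Art.XAincl_XAmap y p) I.1 I₀ I.2.1 t hsurj hker htann htne htm hExt hreg' hnil I.2.2
  refine ⟨⟨I', hfl, ?_⟩, Subtype.ext hco⟩
  rw [← ArtFun.Art.XAincl_XAmap y p, Scheme.IdealSheafData.comap_comp]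
  exact (congrArg (fun K => Scheme.IdealSheafData.comap K (ArtFun.Art.XAincl y A)) hco).trans
    I.2.2

end Groth.Agent.S12262
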