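import Groth.Statements.S12723
import Groth.Agent.H63.AdicSmooth

set_option autoImplicit false
universe u v
open CategoryTheory
open ArtFun

namespace Groth.Agent.S12723

/-- (1) ⇔ (2): for functors, let F be a functor on Artinian local Λ-algebras with residue field k with
F(k) a point, and let ξ be a versal family of F over a complete local Noetherian R with residue
field k. Then F is smooth (unobstructed) if and only if Λ → R is formally smooth for the m_R-adic
topology. -/
theorem result {Λ : Type u} {k : Type u} [CommRing Λ] [Field k] [Algebra Λ k]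
    [IsNoetherianRing Λ] [Module.Finite Λ k]
    {F : ArtFun.Art Λ k ⥤ Type v} (h0 : ArtFun.H0 F)
    (R : ArtFun.CRing Λ k) (ξ : ArtFun.Family R.carrier R.res F) (hξ : ArtFun.IsVersal ξ) :
    ArtFun.IsSmoothFunctor F ↔
      CAlgX.IsAdicFormallySmooth Λ R.carrier (IsLocalRing.maximalIdeal R.carrier) := by
  have key : ArtFun.IsSmoothFunctor F ↔ ArtFun.IsSmoothFunctor (ArtFun.hR R.carrier R.res) := by
    rw [Groth.Agent.H63.isSmoothFunctor_hR_iff]
    constructor
    · intro hF B A μ hμ φ
      obtain ⟨y, hy⟩ := hF μ hμ (ξ.app A φ)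
      obtain ⟨ψ, hψ, -⟩ := hξ μ hμ φ y hy
      exact ⟨ψ, hψ⟩
    · intro hR B A μ hμ x
      obtain ⟨φ, rfl⟩ := Groth.Agent.H63.IsVersal.app_surjective h0 ξ hξ A x
      obtain ⟨ψ, rfl⟩ := hR μ hμ φ
      exact ⟨ξ.app B ψ, (ξ.natural μ ψ).symm⟩
  rw [key]
  exact ⟨Groth.Agent.H63.isAdicFormallySmooth_of_isSmoothFunctor R,
    Groth.Agent.H63.isSmoothFunctor_of_isAdicFormallySmooth R⟩

end Groth.Agent.S12723
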