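import Groth.Statements.S12268
import Mathlib
import Groth.Agent.H61.Hull.T1Dim
import Groth.Agent.H61.Hull.RegularPS
import Groth.Agent.H61.ObsR.Theory
import Groth.Agent.S12327
import Groth.Agent.S12721
import Groth.Agent.S12722
import Groth.Agent.S12723

set_option autoImplicit false
universe u
open CategoryTheory CategoryTheory.Limits AlgebraicGeometry
open Deform

namespace Groth.Agent.S12268

/-- Let k be an algebraically closed field and B₀ a k-algebra with a finite presentation P =
k[X_i]/(f_s); let T¹ = T¹(B₀/k, B₀) and T² = T²(B₀/k, B₀) be the first and second cotangent modules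
computed from P, and assume T¹ is finite-dimensional over k. Then for every semiuniversal formal
deformation of Spec B₀ — a complete local Noetherian k-algebra R̄ with residue field k carrying a
miniversal family for the functor Def_{B₀} of isomorphism classes of deformations — one has dim R̄ ≤
dim_k T¹; if T² is finite-dimensional as well, dim_k T¹ ≤ dim R̄ + dim_k T²; and dim R̄ = dim_k T¹
holds exactly when Spec B₀ is unobstructed, i.e. Def_{B₀}(B) → Def_{B₀}(A) is surjective for every
surjection B → A of local Artinian k-algebras with residue field k. (The published statement writes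
the lower bound as dim_k T¹ − dim_k T² ≤ dim R̄, empty when T² is infinite-dimensional, and allows a
localisation of the polynomial ring as ambient algebra.) -/
theorem result
    {k : Type u} [Field k] [IsAlgClosed k] (B₀ : Type u) [CommRing B₀] [Algebra k B₀] {ι σ : Type u} [Finite ι] [Finite σ]
    (P : Algebra.Presentation k B₀ ι σ)
    [Module.Finite k (CotT.T1 P B₀)] (H : ArtFun.Hull (ArtFun.defFunctor (Λ := k) (Spec (CommRingCat.of B₀)) (Spec.map (CommRingCat.ofHom (algebraMap k B₀))))) :
    ringKrullDim H.ring.carrier ≤ ((Module.finrank k (CotT.T1 P B₀) : ℕ∞) : WithBot ℕ∞) ∧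
      (Module.Finite k (CotT.T2 P B₀) →
        ((Module.finrank k (CotT.T1 P B₀) : ℕ∞) : WithBot ℕ∞) ≤
          ringKrullDim H.ring.carrier + ((Module.finrank k (CotT.T2 P B₀) : ℕ∞) : WithBot ℕ∞)) ∧
      (ringKrullDim H.ring.carrier = ((Module.finrank k (CotT.T1 P B₀) : ℕ∞) : WithBot ℕ∞) ↔
        ArtFun.IsSmoothFunctor (ArtFun.defFunctor (Λ := k) (Spec (CommRingCat.of B₀)) (Spec.map (CommRingCat.ofHom (algebraMap k B₀))))) := by
  classical
  have hemb : (IsLocalRing.maximalIdeal H.ring.carrier).spanFinrank =
      Module.finrank k (CotT.T1 P B₀) := Groth.Agent.H61.Hull.spanFinrank_hull_eq P H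
  have hcast : ∀ n : ℕ, ((n : ℕ∞) : WithBot ℕ∞) = (n : WithBot ℕ∞) := fun n => rfl
  have hdimle : ringKrullDim H.ring.carrier ≤
      ((IsLocalRing.maximalIdeal H.ring.carrier).spanFinrank : WithBot ℕ∞) :=
    ringKrullDim_le_spanFinrank_maximalIdeal H.ring.carrier
  -- smoothness of the functor in terms of the hull
  haveI : IsAdicComplete (IsLocalRing.maximalIdeal k) k := by
    rw [IsLocalRing.maximalIdeal_eq_bot]; infer_instance
  have hsm : ArtFun.IsSmoothFunctor (ArtFun.defFunctor (Λ := k) (Spec (CommRingCat.of B₀))
      (Spec.map (CommRingCat.ofHom (algebraMap k B₀)))) ↔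
      ∃ n : ℕ, Nonempty (H.ring.carrier ≃ₐ[k] MvPowerSeries (Fin n) k) := by
    rw [Groth.Agent.S12723.result Groth.Agent.H61.Hull.h0 H.ring H.family H.miniversal.1,
      ← Groth.Agent.S12721.result H.ring]
    exact Groth.Agent.S12722.result (fun c => ⟨c, rfl⟩) H.ring
  refine ⟨?_, ?_, ?_⟩
  · rw [hcast, ← hemb]
    exact hdimle
  · intro hfin
    have h := (Groth.Agent.S12327.result (CotT.T2 P B₀) (Groth.Agent.H61.ObsR.obsTheory P) H).2.1
    rw [← IsLocalRing.spanFinrank_maximalIdeal_eq_finrank_cotangentSpace, hemb] at h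
    rw [hcast, hcast]
    exact h
  · rw [hcast, ← hemb, hsm]
    constructor
    · intro h
      have hreg : IsRegularLocalRing H.ring.carrier :=
        IsRegularLocalRing.of_spanFinrank_maximalIdeal_le _ (le_of_eq h.symm)
      exact Groth.Agent.H61.Hull.exists_equiv_ps_of_regular H.ring hreg
    · rintro ⟨n, ⟨e⟩⟩
      have hreg : IsRegularLocalRing H.ring.carrier :=
        IsRegularLocalRing.of_ringEquiv e.symm.toRingEquiv
      exact hreg.spanFinrank_maximalIdeal.symm

end Groth.Agent.S12268
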