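import Groth.Statements.S1227
-- import your own Groth.Agent.* helpers here

set_option autoImplicit false
universe u
open FlatMor

namespace Groth.Agent.S1227

open TensorProduct in
/-- Let u be a surjective linear map from a projective A-module M to an A-module N. Then there is an
ideal I of A such that for every A-algebra B, the base change u ⊗ 1 from B ⊗ M to B ⊗ N is bijective
if and only if the image of I in B is zero. -/
theorem result {A : Type u} [CommRing A] {M N : Type u} [AddCommGroup M] [Module A M] [Module.Projective A M]
    [AddCommGroup N] [Module A N] (u : M →ₗ[A] N) (hu : Function.Surjective u) :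
    ∃ I : Ideal A, ∀ (B : Type u) [CommRing B] [Algebra A B],
      Function.Bijective (u.baseChange B) ↔ I.map (algebraMap A B) = ⊥ := by
  classical
  obtain ⟨s, hs⟩ := Module.projective_def'.mp (inferInstance : Module.Projective A M)
  have hs' : ∀ m : M, Finsupp.linearCombination A id (s m) = m := fun m => by
    have := congrArg (fun f => f m) hs
    simpa using this
  refine ⟨Ideal.span {a | ∃ k ∈ LinearMap.ker u, ∃ m : M, a = s k m}, fun B _ _ => ?_⟩
  have hsurj : Function.Surjective (u.baseChange B) := by
    rw [LinearMap.baseChange_eq_ltensor]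
    exact LinearMap.lTensor_surjective B hu
  rw [Ideal.map_span, Ideal.span_eq_bot]
  constructor
  · rintro ⟨hinj, -⟩ b ⟨a, ⟨k, hk, m, rfl⟩, rfl⟩
    have h1 : (1 : B) ⊗ₜ[A] k = 0 := by
      apply hinj
      rw [LinearMap.baseChange_tmul, map_zero, LinearMap.mem_ker.mp hk, TensorProduct.tmul_zero]
    have h2 := congrArg (fun z => TensorProduct.rid A B
      (LinearMap.lTensor B ((Finsupp.lapply m).comp s) z)) h1
    simp only [LinearMap.lTensor_tmul, LinearMap.coe_comp, Function.comp_apply,
      Finsupp.lapply_apply, TensorProduct.rid_tmul, map_zero] at h2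
    rw [Algebra.algebraMap_eq_smul_one]
    exact h2
  · intro h
    refine ⟨?_, hsurj⟩
    have hk0 : ∀ k ∈ LinearMap.ker u, (1 : B) ⊗ₜ[A] k = 0 := by
      intro k hk
      conv_lhs => rw [← hs' k]
      rw [Finsupp.linearCombination_apply, Finsupp.sum, TensorProduct.tmul_sum]
      refine Finset.sum_eq_zero fun m _ => ?_
      rw [TensorProduct.tmul_smul, TensorProduct.smul_tmul', ← Algebra.algebraMap_eq_smul_one,
        h _ ⟨_, ⟨k, hk, m, rfl⟩, rfl⟩, TensorProduct.zero_tmul]
    have hex : Function.Exact ((LinearMap.ker u).subtype.lTensor B) (u.lTensor B) :=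
      lTensor_exact B (LinearMap.exact_subtype_ker_map u) hu
    have hzero : ∀ w, ((LinearMap.ker u).subtype.lTensor B) w = 0 := by
      intro w
      induction w using TensorProduct.induction_on with
      | zero => simp
      | tmul b k =>
        rw [LinearMap.lTensor_tmul, Submodule.subtype_apply]
        have : b ⊗ₜ[A] (k : M) = b • ((1 : B) ⊗ₜ[A] (k : M)) := by
          rw [TensorProduct.smul_tmul', smul_eq_mul, mul_one]
        rw [this, hk0 k k.2, smul_zero]
      | add x y hx hy => rw [map_add, hx, hy, add_zero]
    rw [injective_iff_map_eq_zero]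
    intro z hz
    rw [LinearMap.baseChange_eq_ltensor] at hz
    obtain ⟨w, rfl⟩ := (hex z).mp hz
    exact hzero w

end Groth.Agent.S1227
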