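import Groth.Statements.S12272
import Mathlib
import Groth.Agent.H61.Hilb.Translate
import Groth.Agent.H61.Hilb.NormalHom
import Groth.Agent.H61.Hilb.Inj
import Groth.Agent.H61.Hilb.LeftExact

set_option autoImplicit false
universe u
open CategoryTheory CategoryTheory.Limits AlgebraicGeometry
attribute [local instance] HasDerivedCategory.standard
open Deform

namespace Groth.Agent.S12272

/-- Let k be an algebraically closed field, Y a separated k-scheme of finite type and i : X → Y a
regular closed immersion over k with X projective over k; let N = Hom_{O_X}(I/I², O_X) be the normal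
sheaf (sheaf Hom of the conormal sheaf of i, as a right adjoint, assumed to exist). Then X is rigid
in Y, meaning that for every local Artinian k-algebra A with residue field k there is at most one
closed subscheme of Y ×_k Spec A flat over Spec A restricting to X on the closed fibre (necessarily
X ×_k Spec A), if and only if H⁰(X, N) = 0. -/
theorem result
    {k : Type u} [Field k] [IsAlgClosed k] (Y : Scheme.{u}) (y : Y ⟶ Spec (CommRingCat.of k))
    [LocallyOfFiniteType y] [IsSeparated y] [QuasiCompact y]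
    (X : Scheme.{u}) [X.Over (Spec (CommRingCat.of k))] (i : X ⟶ Y) [IsClosedImmersion i] (hi : i ≫ y = X ↘ (Spec (CommRingCat.of k)))
    (hreg : Mor2.IsRegularClosedImmersion i)
    (hproj : ∃ (n : ℕ) (c : X ⟶ CohB1.ProjSpaceOver n (Spec (CommRingCat.of k))),
      IsClosedImmersion c ∧ c ≫ CohB1.ProjSpaceOver.toBase n (Spec (CommRingCat.of k)) = X ↘ (Spec (CommRingCat.of k)))
    [DCoh.HasSheafHom (Omega.conormal i)] :
    (∀ A : ArtFun.Art k k, Subsingleton ((ArtFun.localHilb Y y i.ker).obj A)) ↔
      Subsingleton (Coh.HH X ((DCoh.sheafHom (Omega.conormal i)).obj (Coh.structureModule X)) 0) := by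
  have hE := Groth.Agent.H61.Hilb.NormalHom.normalEquiv i
  constructor
  · intro hall
    suffices hS : Subsingleton (ClSub.idealMod i.ker ⟶ ClSub.quotMod i.ker) from
      hE.subsingleton
    constructor
    intro φ₁ φ₂
    by_contra hne
    have hφ : φ₁ - φ₂ ≠ 0 := sub_ne_zero.mpr hne
    obtain ⟨pt₀⟩ := (Groth.Agent.H61.Hilb.h0 y i.ker).1
    let pt := (ArtFun.localHilb Y y i.ker).map (ArtFun.Art.ofBase (ArtFun.Art.dual k k)) pt₀
    let ξ := Groth.Agent.H61.Hilb.xi y (ArtFun.Art.dual k k)
    let I₂ : (ArtFun.localHilb Y y i.ker).obj (ArtFun.Art.dual k k) :=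
      ⟨Groth.Agent.H61.Hilb.translate ξ pt.1 i.ker (φ₁ - φ₂) Groth.Agent.H61.Hilb.epsD pt.2.2,
        Groth.Agent.H61.Hilb.flat_translate ξ pt.1 i.ker (φ₁ - φ₂) pt.2.2 pt.2.1,
        Groth.Agent.H61.Hilb.comap_translate ξ pt.1 i.ker (φ₁ - φ₂) Groth.Agent.H61.Hilb.epsD
          pt.2.2 Groth.Agent.H61.Hilb.epsD_mem⟩
    have heq : I₂ = pt := (hall (ArtFun.Art.dual k k)).elim _ _
    exact Groth.Agent.H61.Hilb.translate_ne ξ pt.1 i.ker (φ₁ - φ₂) pt.2.2 pt.2.1 hφ
      (congrArg Subtype.val heq)
  · intro hH A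
    haveI hS : Subsingleton (ClSub.idealMod i.ker ⟶ ClSub.quotMod i.ker) :=
      hE.symm.subsingleton
    have hinj := Groth.Agent.H61.Hilb.localHilb_map_injective y i.ker hS (ArtFun.Art.toBase A)
      A.res_surjective
    haveI := (Groth.Agent.H61.Hilb.h0 y i.ker).2
    exact hinj.subsingleton

end Groth.Agent.S12272
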