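import Groth.Statements.S12286
import Groth.Agent.H61.CotTBasic

set_option autoImplicit false
universe u w m
open scoped TensorProduct
open DefT

namespace Groth.Agent.S12286

/-- Let A → B be a ring homomorphism, P a presentation of B over A and M a B-module. The canonical
B-linear map from the A-derivations Der_A(B, M) = Hom_B(Ω_{B/A}, M) to T^0(B/A, M) (the kernel of
Hom_B(L₀, M) → Hom_B(L₁, M), L₀ = B ⊗_R Ω_{R/A}), sending a derivation D to b ⊗ dr ↦ b·D(r̄), is
bijective. -/
theorem result
    (A B : Type u) [CommRing A] [CommRing B] [Algebra A B] (ι σ : Type w) (P : Algebra.Presentation A B ι σ)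
    (M : Type m) [AddCommGroup M] [Module B M] [Module A M] [IsScalarTower A B M] :
    Function.Bijective (CotT.derToT0 P M) := by
  have hadj : Algebra.adjoin A (Set.range P.val) = ⊤ := by
    rw [Algebra.adjoin_range_eq_range_aeval, AlgHom.range_eq_top]
    intro b
    obtain ⟨r, hr⟩ := P.toExtension.algebraMap_surjective b
    refine ⟨r, ?_⟩
    rw [← hr]
    exact (CotT.algebraMap_toExtension P r).symm
  constructor
  · rw [← LinearMap.ker_eq_bot, LinearMap.ker_eq_bot']
    intro D hD
    have h0 : CotT.derLift P M D = 0 := by
      have := congrArg Subtype.val hD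
      exact this
    refine Derivation.ext_of_adjoin_eq_top _ hadj ?_
    rintro _ ⟨i, rfl⟩
    rw [← CotT.derLift_basis P M D i, h0]
    simp
  · rintro ⟨φ, hφ⟩
    have hφ' : φ ∘ₗ P.toExtension.cotangentComplex = 0 := by
      have h1 : φ ∘ₗ CotT.d1 P = 0 := hφ
      rw [CotT.d1, ← LinearMap.comp_assoc] at h1
      ext y
      obtain ⟨x, rfl⟩ := Groth.Agent.H61.toCot_surjective P y
      exact LinearMap.congr_fun h1 x
    have hker : LinearMap.ker P.toExtension.toKaehler ≤ LinearMap.ker φ := by
      rw [LinearMap.exact_iff.mp P.toExtension.exact_cotangentComplex_toKaehler,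
        LinearMap.range_le_ker_iff]
      exact hφ'
    let φ' : Ω[B⁄A] →ₗ[B] M :=
      ((LinearMap.ker P.toExtension.toKaehler).liftQ φ hker) ∘ₗ
        (P.toExtension.toKaehler.quotKerEquivOfSurjective
          P.toExtension.toKaehler_surjective).symm.toLinearMap
    have hφ'' : ∀ x, φ' (P.toExtension.toKaehler x) = φ x := by
      intro x
      simp only [φ', LinearMap.coe_comp, LinearEquiv.coe_coe, Function.comp_apply]
      have : (P.toExtension.toKaehler.quotKerEquivOfSurjective
          P.toExtension.toKaehler_surjective).symm (P.toExtension.toKaehler x) =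
          Submodule.Quotient.mk x := by
        rw [LinearEquiv.symm_apply_eq]
        rfl
      rw [this, Submodule.liftQ_apply]
    refine ⟨φ'.compDer (KaehlerDifferential.D A B), ?_⟩
    apply Subtype.ext
    change CotT.derLift P M _ = φ
    refine (P.cotangentSpaceBasis).ext fun i => ?_
    rw [CotT.derLift_basis, ← hφ'', Algebra.Generators.toKaehler_cotangentSpaceBasis]
    rfl

end Groth.Agent.S12286
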