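import Groth.Statements.S12287
import Mathlib
import Groth.Agent.H61.LS.NoRel

set_option autoImplicit false
universe u w m
open scoped TensorProduct
open DefT

namespace Groth.Agent.S12287

/-- Let B be an A-algebra that is isomorphic over A to a polynomial ring A[x_j] in some set of
variables. Then for every B-module M the modules T^1(B/A, M) and T^2(B/A, M), computed from the
choice-free presentation of B over A (every element of B a variable, every element of the kernel a
relation), are zero. -/
theorem result
    (A B : Type u) [CommRing A] [CommRing B] [Algebra A B] (κ : Type u) (e : MvPolynomial κ A ≃ₐ[A] B)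
    (M : Type u) [AddCommGroup M] [Module B M] :
    Subsingleton (CotT.T1 (CotT.canon A B) M) ∧ Subsingleton (CotT.T2 (CotT.canon A B) M) := by
  classical
  -- the presentation of the polynomial ring without relations, transported to `B`
  let P₁ : Algebra.Presentation A (MvPolynomial κ A) κ PEmpty.{u + 1} :=
    { toGenerators := Algebra.Generators.mvPolynomial A κ
      relation := PEmpty.elim
      span_range_relation_eq_ker := by
        simp only [Set.range_eq_empty, Ideal.span_empty]
        exact Algebra.Generators.ker_mvPolynomial.symm }
  let P₀ : Algebra.Presentation A B κ PEmpty.{u + 1} := P₁.ofAlgEquiv e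
  let h : CotT.PresHom (CotT.canon A B) P₀ := Groth.Agent.H61.LS.defaultPresHom _ _
  have b1 := Groth.Agent.H61.LS.T1pull_bijective M h
  have b2 := Groth.Agent.H61.LS.T2pull_bijective M h
  have := Groth.Agent.H61.LS.subsingleton_T1_of_isEmpty P₀ M
  have := Groth.Agent.H61.LS.subsingleton_T2_of_isEmpty P₀ M
  refine ⟨⟨fun a b => ?_⟩, ⟨fun a b => ?_⟩⟩
  · obtain ⟨a', rfl⟩ := b1.2 a
    obtain ⟨b', rfl⟩ := b1.2 b
    rw [Subsingleton.elim a' b']
  · obtain ⟨a', rfl⟩ := b2.2 a
    obtain ⟨b', rfl⟩ := b2.2 b
    rw [Subsingleton.elim a' b']

end Groth.Agent.S12287
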