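import Groth.Statements.S12288
import Mathlib
import Groth.Agent.H61.LS.RegSeq

set_option autoImplicit false
universe u w m
open scoped TensorProduct
open DefT

namespace Groth.Agent.S12288

/-- Let A be a local ring and A → B a surjective ring homomorphism whose kernel is generated by a
regular sequence a_1, …, a_r on A (each a_i is a non-zero-divisor on A/(a_1, …, a_{i-1}) and the
ideal is proper). Then T^2(B/A, M) = 0 for every B-module M, the module being computed from the
choice-free presentation of B over A. -/
theorem result
    (A B : Type u) [CommRing A] [IsLocalRing A] [CommRing B] [Algebra A B]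
    (hs : Function.Surjective (algebraMap A B)) (rs : List A) (hreg : RingTheory.Sequence.IsRegular A rs)
    (hI : RingHom.ker (algebraMap A B) = Ideal.ofList rs) (M : Type u) [AddCommGroup M] [Module B M] :
    Subsingleton (CotT.T2 (CotT.canon A B) M) := by
  classical
  have hI' : RingHom.ker (algebraMap A B) = Ideal.span (Set.range fun i : Fin rs.length => rs.get i) := by
    rw [hI]
    unfold Ideal.ofList
    congr 1
    ext r
    simp only [Set.mem_setOf_eq, Set.mem_range]
    constructor
    · intro hr
      obtain ⟨i, hi⟩ := List.mem_iff_get.1 hr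
      exact ⟨i, hi⟩
    · rintro ⟨i, rfl⟩
      exact List.get_mem rs i
  let P₀ := Groth.Agent.H61.LS.quotPres.{u, u, u} hs (fun i : Fin rs.length => rs.get i) hI'
  let h : CotT.PresHom (CotT.canon A B) P₀ := Groth.Agent.H61.LS.defaultPresHom _ _
  have b2 := Groth.Agent.H61.LS.T2pull_bijective M h
  have := Groth.Agent.H61.LS.subsingleton_T2_quotPres.{u, u, u} hs rs hreg.toIsWeaklyRegular hI' M
  refine ⟨fun a b => ?_⟩
  obtain ⟨a', rfl⟩ := b2.2 a
  obtain ⟨b', rfl⟩ := b2.2 b
  rw [Subsingleton.elim a' b']

end Groth.Agent.S12288
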