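import Groth.Statements.S12291
import Mathlib
import Groth.Agent.H61.LS.CIT2
import Groth.Agent.H61.LS.CIReg

set_option autoImplicit false
universe u w m
open scoped TensorProduct
open DefT

namespace Groth.Agent.S12291

/-- Let k be an algebraically closed field and A a regular local k-algebra with residue field k such
that T^1(A/k, N) = 0 and T^2(A/k, N) = 0 for all A-modules N; let I be a proper ideal of A and B =
A/I. Then B is cut out of A as a local complete intersection — meaning I is generated by some list
of r elements with r + dim B = dim A, i.e. by dim A − dim B elements — exactly when T^2(B/k, M)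
vanishes for each B-module M. The T^i are computed from the choice-free presentations. (The
published statement assumes only that A is a regular local k-algebra with residue field k; its proof
uses the vanishing of T^1(A/k, −) and T^2(A/k, −), which holds when A is essentially of finite type
over k and which this row carries as a hypothesis.) -/
theorem result
    (k A : Type u) [Field k] [IsAlgClosed k] [CommRing A] [IsRegularLocalRing A] [Algebra k A]
    (hres : Function.Surjective (algebraMap k (IsLocalRing.ResidueField A)))
    (hT : ∀ (N : Type u) [AddCommGroup N] [Module A N],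
      Subsingleton (CotT.T1 (CotT.canon k A) N) ∧ Subsingleton (CotT.T2 (CotT.canon k A) N))
    (I : Ideal A) (hI : I ≠ ⊤) :
    (∃ rs : List A, Ideal.ofList rs = I ∧ (rs.length : WithBot ℕ∞) + ringKrullDim (A ⧸ I) = ringKrullDim A) ↔
      ∀ (M : Type u) [AddCommGroup M] [Module (A ⧸ I) M], Subsingleton (CotT.T2 (CotT.canon k (A ⧸ I)) M) := by
  have hs : Function.Surjective (algebraMap A (A ⧸ I)) := Ideal.Quotient.mk_surjective
  have hker : RingHom.ker (algebraMap A (A ⧸ I)) = I := Ideal.mk_ker
  constructor
  · rintro ⟨rs, hrs, hdim⟩ M _ _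
    subst hrs
    have hreg := Groth.Agent.H61.LS.isWeaklyRegular_of_dim A rs hI hdim
    letI : Module A M := Module.compHom M (algebraMap A (A ⧸ Ideal.ofList rs))
    haveI : IsScalarTower A (A ⧸ Ideal.ofList rs) M := IsScalarTower.of_compHom _ _ _
    rw [← Groth.Agent.H61.LS.subsingleton_T2_iff_of_base_vanishing k A (A ⧸ Ideal.ofList rs)
      (CotT.canon A (A ⧸ Ideal.ofList rs)) M (hT M).1 (hT M).2]
    exact Groth.Agent.H61.LS.subsingleton_T2_of_regular hs rs hreg hker _ M
  · intro h
    obtain ⟨n, f, hf, hmin⟩ := Groth.Agent.H61.LS.exists_minimal_generators I (IsNoetherian.noetherian I)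
    have hfm : ∀ i, f i ∈ IsLocalRing.maximalIdeal A := fun i =>
      IsLocalRing.le_maximalIdeal hI (hf ▸ Ideal.subset_span ⟨i, rfl⟩)
    have hI' : RingHom.ker (algebraMap A (A ⧸ I)) = Ideal.span (Set.range f) := hker.trans hf.symm
    have key : ∀ (M : Type u) [AddCommGroup M] [Module (A ⧸ I) M],
        Subsingleton (CotT.T2 (Groth.Agent.H61.LS.quotPresGen.{u, u, 0, 0} hs f hI') M) := by
      intro M _ _
      letI : Module A M := Module.compHom M (algebraMap A (A ⧸ I))
      haveI : IsScalarTower A (A ⧸ I) M := IsScalarTower.of_compHom _ _ _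
      rw [Groth.Agent.H61.LS.subsingleton_T2_iff_of_base_vanishing k A (A ⧸ I) _ M (hT M).1 (hT M).2]
      exact h M
    have hT2 : Subsingleton (CotT.T2 (Groth.Agent.H61.LS.quotPresGen.{u, u, 0, 0} hs f hI')
        (CotT.L2 (Groth.Agent.H61.LS.quotPresGen.{u, u, 0, 0} hs f hI'))) := key _
    have hreg := Groth.Agent.H61.LS.isWeaklyRegular_of_subsingleton_T2.{u, u, 0} hs f hfm hI' hmin hT2
    have hrs : Ideal.ofList (List.ofFn f) = I := (Groth.Agent.H15.ofList_ofFn f).trans hf
    refine ⟨List.ofFn f, hrs, ?_⟩
    subst hrs
    have hreg' : RingTheory.Sequence.IsRegular A (List.ofFn f) := by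
      refine ⟨hreg, ?_⟩
      rw [smul_eq_mul, Ideal.mul_top]
      exact fun h => hI h.symm
    rw [add_comm]
    exact ringKrullDim_add_length_eq_ringKrullDim_of_isRegular _ hreg'

end Groth.Agent.S12291
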