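import Groth.Statements.S12295
import Mathlib
import Groth.Agent.H61.LS.NineGeneral
import Groth.Agent.H61.LS.NoRel

set_option autoImplicit false
universe u w m
open scoped TensorProduct
open DefT

namespace Groth.Agent.S12295

/-- Let k be a commutative ring, B a k-algebra and P a presentation of B over k with polynomial ring R =
k[x_i] (any set of variables), so that B = R/I; let P' be a presentation of B over R with no
polynomial variables (R itself mapping onto B, with chosen generators of I), and M a B-module. Then
T^2(B/R, M), computed from P', and T^2(B/k, M), computed from P, are isomorphic B-modules.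
(Existence of a B-linear isomorphism only; the published statement has finitely many variables over
a field and notes that any base ring works.) -/
theorem result
    (k B : Type u) [CommRing k] [CommRing B] [Algebra k B] (ι σ ι' σ' : Type w)
    (P : Algebra.Presentation k B ι σ) [IsEmpty ι']
    (P' : Algebra.Presentation P.toExtension.Ring B ι' σ')
    (M : Type m) [AddCommGroup M] [Module B M] :
    Nonempty (CotT.T2 P' M ≃ₗ[B] CotT.T2 P M) := by
  classical
  -- the presentation of the polynomial ring `R` over `k` without relations
  let P₁ : Algebra.Presentation k P.toExtension.Ring ι PEmpty.{w + 1} :=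
    { toGenerators := Algebra.Generators.mvPolynomial k ι
      relation := PEmpty.elim
      span_range_relation_eq_ker := by
        simp only [Set.range_eq_empty, Ideal.span_empty]
        exact Algebra.Generators.ker_mvPolynomial.symm }
  letI : Module P.toExtension.Ring M := Module.compHom M (algebraMap P.toExtension.Ring B)
  haveI : IsScalarTower P.toExtension.Ring B M := IsScalarTower.of_compHom P.toExtension.Ring B M
  obtain ⟨-, -, -, x2, -, δ₁, -, -, -, y3⟩ := Groth.Agent.H61.LS.nine_term_comp P₁ P' M
  haveI := Groth.Agent.H61.LS.subsingleton_T1_of_isEmpty P₁ M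
  haveI := Groth.Agent.H61.LS.subsingleton_T2_of_isEmpty P₁ M
  have hinj : Function.Injective ((Groth.Agent.H61.LS.beta P₁ P').T2pull M) := by
    rw [injective_iff_map_eq_zero]
    intro x hx
    obtain ⟨y, rfl⟩ := (y3 x).1 hx
    rw [Subsingleton.elim y 0, map_zero]
  have hsurj : Function.Surjective ((Groth.Agent.H61.LS.beta P₁ P').T2pull M) := by
    intro y
    exact (x2 y).1 (Subsingleton.elim _ _)
  let h : CotT.PresHom P (P'.comp P₁) := Groth.Agent.H61.LS.defaultPresHom _ _
  have b2 := Groth.Agent.H61.LS.T2pull_bijective M h
  exact ⟨LinearEquiv.ofBijective ((h.T2pull M).comp ((Groth.Agent.H61.LS.beta P₁ P').T2pull M))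
    (b2.comp ⟨hinj, hsurj⟩)⟩

end Groth.Agent.S12295
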