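import Groth.Statements.S12302
import Groth.Agent.H61.ArtBasic

set_option autoImplicit false
universe u v
open CategoryTheory
open ArtFun

namespace Groth.Agent.S12302

/-- Let k be an algebraically closed field, F a set-valued functor on local Artinian k-algebras with
residue field k, and ξ : h_R → F a versal family in the strong sense, over an augmented k-algebra R:
ξ is surjective on every object and has the lifting property along surjections. Then F(k) has
exactly one element, and for every fibre-product square B = A' ×_A A'' in which A'' → A is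
surjective, the comparison map F(B) → F(A') ×_{F(A)} F(A'') is surjective. (The published form of
the second assertion allows arbitrary maps A' → A, A'' → A; for the functor of principal ideals
inside the maximal ideal, which has such a versal family over k[[x]], surjectivity fails for the two
maps k[s]/(s⁴) → k[x,y]/(x,y)³ ← k[t]/(t⁴) sending s to x and t to x + xy, and the published
argument lifts along one of the two maps, so that map is taken surjective here. The published
statement also takes R complete local, which the argument does not use.) -/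
theorem result
    {k : Type u} [Field k] [IsAlgClosed k] {F : ArtFun.Art k k ⥤ Type v}
    {R : Type u} [CommRing R] [Algebra k R] {resR : R →ₐ[k] k}
    (ξ : ArtFun.Family R resR F) (hξ : ArtFun.IsVersal ξ)
    (hsurj : ∀ A : ArtFun.Art k k, Function.Surjective (ξ.app A)) :
    ArtFun.H0 F ∧ ArtFun.S1 F := by
  constructor
  · -- H0
    have hsub : Subsingleton (ArtFun.HomSet R resR (ArtFun.Art.base k k)) := by
      constructor
      intro φ ψ
      apply Subtype.ext
      have h1 := φ.2
      have h2 := ψ.2
      change (AlgHom.id k k).comp φ.1 = resR at h1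
      change (AlgHom.id k k).comp ψ.1 = resR at h2
      rw [AlgHom.id_comp] at h1 h2
      rw [h1, h2]
    let φ0 : ArtFun.HomSet R resR (ArtFun.Art.base k k) := ⟨resR, AlgHom.id_comp _⟩
    refine ⟨⟨ξ.app _ φ0⟩, ⟨fun a b => ?_⟩⟩
    obtain ⟨φ, rfl⟩ := hsurj _ a
    obtain ⟨ψ, rfl⟩ := hsurj _ b
    rw [Subsingleton.elim φ ψ]
  · -- S1
    intro B A A' A'' p' p'' f' f'' h hf'' x
    obtain ⟨⟨x', x''⟩, hx⟩ := x
    change F.map f' x' = F.map f'' x'' at hx
    obtain ⟨φ', rfl⟩ := hsurj A' x'
    have h1 : F.map f'' x'' = ξ.app A (ArtFun.HomSet.map f' φ') := by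
      rw [ξ.natural, hx]
    obtain ⟨ψ, hψ1, hψ2⟩ := hξ f'' hf'' (ArtFun.HomSet.map f' φ') x'' h1
    obtain ⟨χ, hχ1, hχ2⟩ := Groth.Agent.H61.homSet_fibreProd_exists h φ' ψ hψ1.symm
    refine ⟨ξ.app B χ, ?_⟩
    apply Subtype.ext
    apply Prod.ext
    · change F.map p' (ξ.app B χ) = ξ.app A' φ'
      rw [← ξ.natural, hχ1]
    · change F.map p'' (ξ.app B χ) = x''
      rw [← ξ.natural, hχ2, hψ2]

end Groth.Agent.S12302
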