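import Groth.Statements.S12306
import Mathlib
import Groth.Agent.H61.Rigid.Trivial
import Groth.Agent.H61.Rigid.TauSmooth
import Groth.Agent.H61.Rigid.TauBase
import Groth.Agent.H61.Rigid.TauDescend

set_option autoImplicit false
universe u
open CotT

namespace Groth.Agent.S12306

/-- Let k be an algebraically closed field and B₀ a finitely generated k-algebra which is not smooth
over k and is rigid, in the sense that the cotangent module T¹(B₀/k, B₀) (from the choice-free
presentation) vanishes. Let A be a finitely generated k-algebra which is a domain, smooth over k of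
Krull dimension one, t ∈ A an element generating a maximal ideal, and B a finitely generated flat
A-algebra, a k-algebra compatibly with A, whose fibre B/tB is k-isomorphic to B₀. Then this family
does not smooth Spec B₀: there is a prime of B not containing t at which B is not smooth over A.
(The published statement asserts that a singular rigid scheme admits no smoothing by any flat
family; this row states it for flat families with affine total space over an affine nonsingular
curve whose point is cut out by one equation.) -/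
theorem result
    {k : Type u} [Field k] [IsAlgClosed k] (B₀ : Type u) [CommRing B₀] [Algebra k B₀] [Algebra.FiniteType k B₀]
    (hsing : ¬ Algebra.Smooth k B₀) (hrigid : Subsingleton (CotT.T1 (CotT.canon k B₀) B₀))
    (A B : Type u) [CommRing A] [CommRing B] [IsDomain A] [Algebra k A] [Algebra.FiniteType k A]
    [Algebra.Smooth k A] (hdim : ringKrullDim A = 1) (t : A) (ht : (Ideal.span {t}).IsMaximal)
    [Algebra A B] [Algebra.FiniteType A B] [Module.Flat A B] [Algebra k B] [IsScalarTower k A B]
    (e : (B ⧸ Ideal.span {algebraMap A B t}) ≃ₐ[k] B₀) :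
    ∃ q : PrimeSpectrum B, algebraMap A B t ∉ q.asIdeal ∧ q ∉ Algebra.smoothLocus A B := by
  classical
  by_contra hcon
  push Not at hcon
  haveI : IsNoetherianRing A := Algebra.FiniteType.isNoetherianRing k A
  haveI : Algebra.FinitePresentation A B := Algebra.FinitePresentation.of_finiteType.1 inferInstance
  have hfs : Algebra.FormallySmooth A (Localization.Away (algebraMap A B t)) := by
    rw [← Algebra.basicOpen_subset_smoothLocus_iff]
    intro q hq
    exact hcon q hq
  obtain ⟨n, hn⟩ := Groth.Agent.H61.Rigid.exists_tauSplit_of_formallySmooth_away A B _ hfs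
  -- `t` is a nonzero nonunit
  have ht0 : t ≠ 0 := by
    rintro rfl
    have h1 : (⊥ : Ideal A).IsMaximal := by
      have := ht
      rwa [Ideal.span_singleton_eq_bot.2 rfl] at this
    have h2 : IsField A := Ring.isField_iff_maximal_bot.2 h1
    rw [ringKrullDim_eq_zero_of_isField h2] at hdim
    exact zero_ne_one hdim
  have htu : ¬ IsUnit t := by
    intro hu
    exact ht.ne_top (Ideal.span_singleton_eq_top.2 hu)
  have hτ : algebraMap A B t ∈ nonZeroDivisors B := by
    have hreg : IsSMulRegular B t :=
      Module.Flat.isSMulRegular_of_nonZeroDivisors (mem_nonZeroDivisors_of_ne_zero ht0)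
    rw [mem_nonZeroDivisors_iff_right]
    intro x hx
    apply hreg
    change t • x = t • 0
    rw [smul_zero, Algebra.smul_def, mul_comm, hx]
  -- the residue field of `t` is `k`
  have hres : ∀ a : A, ∃ c : k, a - algebraMap k A c ∈ Ideal.span {t} := by
    intro a
    letI : Field (A ⧸ Ideal.span {t}) := Ideal.Quotient.field _
    haveI : Module.Finite k (A ⧸ Ideal.span {t}) := finite_of_finite_type_of_isJacobsonRing k _
    haveI : Algebra.IsIntegral k (A ⧸ Ideal.span {t}) := Algebra.IsIntegral.of_finite k _
    obtain ⟨c, hc⟩ := (IsAlgClosed.algebraMap_bijective_of_isIntegral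
      (k := k) (K := A ⧸ Ideal.span {t})).2 (Ideal.Quotient.mk _ a)
    refine ⟨c, ?_⟩
    rw [← Ideal.Quotient.eq_zero_iff_mem, map_sub, ← hc, sub_eq_zero]
    rfl
  -- formal triviality
  obtain ⟨s, hs⟩ := Groth.Agent.H61.Rigid.exists_section hτ e hrigid (n + 1) (by omega)
  obtain ⟨Θ, hΘsurj, hΘA, hΘker⟩ := Groth.Agent.H61.Rigid.exists_trivialization t (n + 1) (by omega)
    hres (algebraMap A B t) rfl e s hs
  -- base change of the splitting
  letI : Algebra B (TensorProduct k (A ⧸ Ideal.span {t ^ (n + 1)}) B₀) := Θ.toAlgebra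
  haveI : IsScalarTower A B (TensorProduct k (A ⧸ Ideal.span {t ^ (n + 1)}) B₀) :=
    IsScalarTower.of_algebraMap_eq fun a => (hΘA a).symm
  have hR : Function.Surjective (algebraMap A (A ⧸ Ideal.span {t ^ (n + 1)})) :=
    Ideal.Quotient.mk_surjective
  have hkerΘ : RingHom.ker (algebraMap B (TensorProduct k (A ⧸ Ideal.span {t ^ (n + 1)}) B₀)) ≤
      (RingHom.ker (algebraMap A (A ⧸ Ideal.span {t ^ (n + 1)}))).map (algebraMap A B) := by
    intro b hb
    have h1 := hΘker b hb
    have h2 : RingHom.ker (algebraMap A (A ⧸ Ideal.span {t ^ (n + 1)})) = Ideal.span {t ^ (n + 1)} :=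
      Ideal.mk_ker
    rw [h2, Ideal.map_span, Set.image_singleton, map_pow]
    exact h1
  obtain ⟨G', hG'⟩ := Groth.Agent.H61.Rigid.TauSplit.exists_baseChange
    (R' := A ⧸ Ideal.span {t ^ (n + 1)}) (S' := TensorProduct k (A ⧸ Ideal.span {t ^ (n + 1)}) B₀)
    (Algebra.Presentation.ofFinitePresentation A B).toGenerators hR hΘsurj hkerΘ hn
  have hτ' : algebraMap B (TensorProduct k (A ⧸ Ideal.span {t ^ (n + 1)}) B₀) (algebraMap A B t ^ n) =
      TensorProduct.tmul k (Ideal.Quotient.mk (Ideal.span {t ^ (n + 1)}) (t ^ n)) (1 : B₀) := by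
    rw [← map_pow]
    exact hΘA (t ^ n)
  rw [hτ'] at hG'
  -- a functional with `λ(t^n) = 1`
  have hne : Ideal.Quotient.mk (Ideal.span {t ^ (n + 1)}) (t ^ n) ≠ 0 := by
    intro h0
    rw [Ideal.Quotient.eq_zero_iff_mem, Ideal.mem_span_singleton] at h0
    obtain ⟨c, hc⟩ := h0
    have h1 : t ^ n * (1 - t * c) = 0 := by
      rw [mul_sub, mul_one, ← mul_assoc, ← pow_succ, ← hc, sub_self]
    have h2 : 1 - t * c = 0 := by
      rcases mul_eq_zero.1 h1 with h | h
      · exact absurd h (pow_ne_zero n ht0)
      · exact h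
    exact htu (IsUnit.of_mul_eq_one c (sub_eq_zero.1 h2).symm)
  obtain ⟨lam, hlam⟩ : ∃ lam : (A ⧸ Ideal.span {t ^ (n + 1)}) →ₗ[k] k,
      lam (Ideal.Quotient.mk (Ideal.span {t ^ (n + 1)}) (t ^ n)) = 1 := by
    let f : k →ₗ[k] (A ⧸ Ideal.span {t ^ (n + 1)}) :=
      LinearMap.toSpanSingleton k _ (Ideal.Quotient.mk (Ideal.span {t ^ (n + 1)}) (t ^ n))
    have hf : LinearMap.ker f = ⊥ := LinearMap.ker_toSpanSingleton k hne
    obtain ⟨g, hg⟩ := LinearMap.exists_leftInverse_of_injective f hf
    refine ⟨g, ?_⟩
    have := LinearMap.congr_fun hg 1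
    rw [LinearMap.comp_apply, LinearMap.toSpanSingleton_apply, one_smul] at this
    exact this
  have hfs0 : Algebra.FormallySmooth k B₀ :=
    Groth.Agent.H61.Rigid.formallySmooth_of_tauSplit_baseChange B₀ (A ⧸ Ideal.span {t ^ (n + 1)}) G'
      _ lam hlam hG'
  haveI : Algebra.FinitePresentation k B₀ := Algebra.FinitePresentation.of_finiteType.1 inferInstance
  exact hsing ⟨hfs0, inferInstance⟩

end Groth.Agent.S12306
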