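import Groth.Statements.S12316
import Groth.Agent.H63.ArtDefFun
import Groth.Agent.S12755
import Groth.Agent.S12756
import Groth.Agent.S12719

set_option autoImplicit false
universe u v
open CategoryTheory
open SGA7

namespace Groth.Agent.S12316

/-- Suppose Λ is a Noetherian local ring, complete for its maximal ideal, whose residue field is k (so Λ
→ k is surjective), and work with functors defined on the category of local Artinian Λ-algebras
having residue field k. Take morphisms φ : F → G and ψ : G → H of such functors. Assume that each of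
F(k), G(k), H(k) consists of a single point; that for G the comparison map on fibre products A₁ ×_A
A₂ is surjective as soon as A₂ → A is surjective, and is bijective for products of the form A' ×_k
k[ε]; that for H the comparison map is bijective on every fibre product A₁ ×_A A₂ with A₂ → A
surjective; and that the induced map on tangent spaces G(k[ε]) → H(k[ε]) coming from ψ is injective.
Under these assumptions, φ ≫ ψ is smooth if and only if both φ and ψ are smooth. (The published
statement is for functors of cofibred groupoids with G semi-homogeneous and H homogeneous; this row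
is the case of set-valued functors.) -/
theorem result (Λ k : Type u) [CommRing Λ] [IsLocalRing Λ] [IsNoetherianRing Λ]
    [IsAdicComplete (IsLocalRing.maximalIdeal Λ) Λ] [Field k] [Algebra Λ k]
    (hk : Function.Surjective (algebraMap Λ k))
    {F G H : ArtFun.Art Λ k ⥤ Type v} (φ : F ⟶ G) (ψ : G ⟶ H)
    (hF : ArtFun.H0 F) (hG : ArtFun.H0 G ∧ ArtFun.S1 G ∧ ArtFun.Heps G) (hH0 : ArtFun.H0 H)
    (hH : ∀ ⦃B A A' A'' : ArtFun.Art Λ k⦄ (p' : B ⟶ A') (p'' : B ⟶ A'') (f' : A' ⟶ A) (f'' : A'' ⟶ A)
      (h : ArtFun.Art.IsFibreProd p' p'' f' f''), Function.Surjective f'' → Function.Bijective (ArtFun.cmp H h))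
    (hψ : Function.Injective (ArtFun.TangentSpace.map ψ)) :
    ArtFun.IsSmooth (φ ≫ ψ) ↔ (ArtFun.IsSmooth φ ∧ ArtFun.IsSmooth ψ) := by
  haveI : Module.Finite Λ k := Module.Finite.of_surjective (Algebra.linearMap Λ k) hk
  constructor
  · intro hs
    have hφ : ArtFun.IsSmooth φ := by
      apply Groth.Agent.H63.isSmooth_of_smallExt
      intro B A μ hμ
      rw [Groth.Agent.H63.relCmp_surjective_iff]
      intro x y hxy
      -- lift along φ ≫ ψ
      have hc : (φ ≫ ψ).app A x = H.map μ (ψ.app B y) := by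
        change ψ.app A (φ.app A x) = H.map μ (ψ.app B y)
        rw [hxy, NatTrans.naturality_apply ψ μ y]
      obtain ⟨w, hw₁, hw₂⟩ := (Groth.Agent.H63.relCmp_surjective_iff (φ ≫ ψ) μ).1 (hs μ hμ.1) x (ψ.app B y) hc
      have hw₂' : ψ.app B (φ.app B w) = ψ.app B y := hw₂
      refine ⟨w, hw₁, ?_⟩
      obtain ⟨C, π₁, π₂, δ, Δ, h₁, h₂, hΔ₁, hΔ₂, hΔδ⟩ := Groth.Agent.H63.exists_smallData μ hμ
      set y' := φ.app B w with hy'
      have hcompat : G.map μ y' = G.map μ y := by
        rw [hy', ← NatTrans.naturality_apply φ μ w, hw₁, hxy]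
      obtain ⟨z, hz₁, hz₂⟩ := (Groth.Agent.H63.cmp_surjective_iff G h₁).1 (hG.2.1 _ _ _ _ h₁ hμ.1) y' y hcompat
      let z₀ := G.map Δ y'
      have hz₀₁ : G.map π₁ z₀ = y' := by
        change G.map π₁ (G.map Δ y') = y'
        rw [← Groth.Agent.H63.map_comp_apply, hΔ₁, Groth.Agent.H63.map_id_apply]
      have hz₀₂ : G.map π₂ z₀ = y' := by
        change G.map π₂ (G.map Δ y') = y'
        rw [← Groth.Agent.H63.map_comp_apply, hΔ₂, Groth.Agent.H63.map_id_apply]
      have hψz : ψ.app C z = ψ.app C z₀ := by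
        apply (Groth.Agent.H63.cmp_injective_iff H h₁).1 (hH _ _ _ _ h₁ hμ.1).1
        · rw [← NatTrans.naturality_apply ψ π₁ z, ← NatTrans.naturality_apply ψ π₁ z₀, hz₁, hz₀₁]
        · rw [← NatTrans.naturality_apply ψ π₂ z, ← NatTrans.naturality_apply ψ π₂ z₀, hz₂, hz₀₂, hw₂']
      have hδ : G.map δ z = G.map δ z₀ := by
        apply hψ
        change ψ.app _ (G.map δ z) = ψ.app _ (G.map δ z₀)
        rw [NatTrans.naturality_apply ψ δ z, NatTrans.naturality_apply ψ δ z₀, hψz]
      have hzz₀ : z = z₀ := by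
        apply (Groth.Agent.H63.cmp_injective_iff G h₂).1 (hG.2.2 _ _ h₂).1
        · rw [hz₁, hz₀₁]
        · exact hδ
      rw [← hz₂, hzz₀, hz₀₂]
    refine ⟨hφ, ?_⟩
    apply Groth.Agent.S12756.result φ ψ ?_ hs
    intro A
    apply Groth.Agent.S12719.result φ hφ ?_ A
    intro y
    obtain ⟨x⟩ := hF.1
    haveI := hG.1.2
    exact ⟨x, Subsingleton.elim _ _⟩
  · rintro ⟨hφ, hψ'⟩
    exact Groth.Agent.S12755.result φ ψ hφ hψ'

end Groth.Agent.S12316
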