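import Groth.Statements.S12321
import Groth.Agent.H61.PSPresent
import Groth.Agent.H61.Step

set_option autoImplicit false
universe u v
open CategoryTheory
open SGA7

namespace Groth.Agent.S12321

/-- Suppose Λ is a Noetherian local ring that is complete, and k is its residue field, so the map Λ → k
is surjective. We look at functors on the category of local Artinian Λ-algebras whose residue field
is k. Take such a functor F for which F(k) is a single point, the comparison map F(A₁ ×_A A₂) →
F(A₁) ×_{F(A)} F(A₂) is surjective whenever A₂ → A is surjective, and this map is bijective for A'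
×_k k[ε]. Call an element a ∈ F(R) versal for small prolongations of the base point when, for each
object R₀ whose augmentation R₀ → k is a small extension and each b ∈ F(R₀), some morphism R → R₀
sends a to b. Assume a ∈ F(R) has this property. Then one can find an object R', a morphism q : R' →
R and an element a' ∈ F(R') whose image is a, satisfying the following. First, q is surjective and
the maximal ideal annihilates its kernel. Second, q induces an isomorphism m_{R'}/(m_{R'}² + m_Λ R')
→ m_R/(m_R² + m_Λ R) between relative cotangent spaces (only injectivity is stated; surjectivity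
comes for free). Third, a' is versal for small prolongations of a: given any small extension π₁ : R₁
→ R and any a₁ ∈ F(R₁) with image a, there is f : R' → R₁ satisfying f ≫ π₁ = q and sending a' to
a₁. (The published statement concerns semi-homogeneous cofibred groupoids; this row treats the case
of set-valued functors.) -/
theorem result (Λ k : Type u) [CommRing Λ] [IsLocalRing Λ] [IsNoetherianRing Λ]
    [IsAdicComplete (IsLocalRing.maximalIdeal Λ) Λ] [Field k] [Algebra Λ k]
    (hk : Function.Surjective (algebraMap Λ k))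
    (F : ArtFun.Art Λ k ⥤ Type v) (hF : ArtFun.H0 F ∧ ArtFun.S1 F ∧ ArtFun.Heps F)
    (R : ArtFun.Art Λ k) (a : F.obj R)
    (hvers : ∀ (R₀ : ArtFun.Art Λ k), ArtFun.Art.IsSmallExt (ArtFun.Art.toBase R₀) →
      ∀ b : F.obj R₀, ∃ φ : R ⟶ R₀, F.map φ a = b) :
    ∃ (R' : ArtFun.Art Λ k) (q : R' ⟶ R) (a' : F.obj R'), F.map q a' = a ∧
      ArtFun.Art.IsSemismallExt q ∧
      (∀ x' : R', x' ∈ IsLocalRing.maximalIdeal (R' : Type u) →
        q x' ∈ (IsLocalRing.maximalIdeal (R : Type u)) ^ 2 ⊔ (IsLocalRing.maximalIdeal Λ).map (algebraMap Λ R) →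
        x' ∈ (IsLocalRing.maximalIdeal (R' : Type u)) ^ 2 ⊔ (IsLocalRing.maximalIdeal Λ).map (algebraMap Λ R')) ∧
      ∀ (R₁ : ArtFun.Art Λ k) (π₁ : R₁ ⟶ R), ArtFun.Art.IsSmallExt π₁ →
        ∀ a₁ : F.obj R₁, F.map π₁ a₁ = a → ∃ f : R' ⟶ R₁, f ≫ π₁ = q ∧ F.map f a' = a₁ := by
  haveI : Module.Finite Λ k := Module.Finite.of_surjective (Algebra.linearMap Λ k) hk
  obtain ⟨r, p, hp, hker⟩ := Groth.Agent.H61.exists_presentation hk R
  have hres := Groth.Agent.H61.psRes_surjective (Λ := Λ) (k := k) hk r
  obtain ⟨R', p', q, a', hp', hqp, hqa, hss, -, hvers'⟩ :=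
    Groth.Agent.H61.step hres (Groth.Agent.H61.ps_lifts r) hF.2.1 hF.2.2 p hp a
      (fun b => hvers (ArtFun.Art.dual Λ k) Groth.Agent.H61.isSmallExt_toBase_dual b)
  refine ⟨R', q, a', hqa, hss, ?_, hvers'⟩
  intro x' _ hqx'
  obtain ⟨f, rfl⟩ := hp' x'
  have hqp' : ∀ x, q (p'.1 x) = p.1 x := fun x =>
    congrArg (fun t : ArtFun.HomSet (MvPowerSeries (Fin r) Λ) (Groth.Agent.H61.psRes Λ k r) R => t.1 x) hqp
  rw [hqp', ← Groth.Agent.H61.map_relCotangentIdeal_homSet hres p hp] at hqx'
  obtain ⟨f₁, hf₁, hf₁'⟩ := (Ideal.mem_map_iff_of_surjective p.1 hp).1 hqx'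
  have hsub : f - f₁ ∈ RingHom.ker p.1 := by
    rw [RingHom.mem_ker, map_sub, hf₁', sub_self]
  have hfW : f ∈ IsLocalRing.maximalIdeal (MvPowerSeries (Fin r) Λ) ^ 2 ⊔
      Ideal.map (algebraMap Λ (MvPowerSeries (Fin r) Λ)) (IsLocalRing.maximalIdeal Λ) := by
    have h1 := hker hsub
    have h2 : f = (f - f₁) + f₁ := by ring
    rw [h2]
    exact Ideal.add_mem _ h1 hf₁
  rw [← Groth.Agent.H61.map_relCotangentIdeal_homSet hres p' hp']
  exact Ideal.mem_map_of_mem _ hfW

end Groth.Agent.S12321
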