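import Groth.Statements.S12417
import Mathlib.AlgebraicGeometry.Morphisms.QuasiCompact
import Mathlib.Data.Set.Finite.Lemmas

set_option autoImplicit false
universe u
open CategoryTheory AlgebraicGeometry
open Props

namespace Groth.Agent.S12417

theorem step1 (X : Scheme.{u})
    (P : X.Opens → Prop) (ha : ∀ U : X.Opens, IsAffineOpen U → P U)
    (hb : ∀ (U : X.Opens) (n : ℕ) (V : Fin n → X.Opens), IsCompact (U : Set X) →
      (∀ i, IsAffineOpen (V i)) → ⨆ i, V i = U → (∀ i j, P (V i ⊓ V j)) → P U)
    (V : X.Opens) (hV : IsAffineOpen V) (W : X.Opens) (hW : IsCompact (W : Set X)) (hWV : W ≤ V) :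
    P W := by
  choose f hf₁ hf₂ using fun x : W => hV.exists_basicOpen_le x (hWV x.2)
  obtain ⟨t, ht⟩ := hW.elim_finite_subcover (fun x : W => (X.basicOpen (f x) : Set X))
    (fun x => (X.basicOpen (f x)).isOpen)
    (fun x hx => Set.mem_iUnion.mpr ⟨⟨x, hx⟩, hf₂ ⟨x, hx⟩⟩)
  refine hb W t.card (fun i => X.basicOpen (f (t.equivFin.symm i))) hW
    (fun i => hV.basicOpen _) ?_ ?_
  · apply le_antisymm
    · exact iSup_le fun i => hf₁ _
    · intro x hx
      obtain ⟨y, hy, hxy⟩ : ∃ y ∈ t, x ∈ (X.basicOpen (f y) : Set X) := by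
        simpa using ht hx
      rw [TopologicalSpace.Opens.mem_iSup]
      refine ⟨t.equivFin ⟨y, hy⟩, ?_⟩
      simpa using hxy
  · intro i j
    apply ha
    rw [← Scheme.basicOpen_mul]
    exact hV.basicOpen _

/-- Let X be a quasi-compact quasi-separated scheme and P a property of opens of X such that (a) P holds
for every affine open, and (b) whenever a quasi-compact open U has a finite affine open covering U =
V_1 ∪ … ∪ V_n with P holding for every intersection V_i ∩ V_j, P holds for U. Then P holds for every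
quasi-compact open of X. -/
theorem result (X : Scheme.{u}) [CompactSpace X] [QuasiSeparatedSpace X]
    (P : X.Opens → Prop) (ha : ∀ U : X.Opens, IsAffineOpen U → P U)
    (hb : ∀ (U : X.Opens) (n : ℕ) (V : Fin n → X.Opens), IsCompact (U : Set X) →
      (∀ i, IsAffineOpen (V i)) → ⨆ i, V i = U → (∀ i j, P (V i ⊓ V j)) → P U)
    (U : X.Opens) (hU : IsCompact (U : Set X)) : P U := by
  obtain ⟨s, hs, hsU⟩ := isCompact_iff_finite_and_eq_biUnion_affineOpens.mp hU
  obtain ⟨n, g, -, hg⟩ := hs.fin_param
  refine hb U n (fun i => (g i : X.Opens)) hU (fun i => (g i).2) ?_ ?_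
  · rw [hsU]
    apply le_antisymm
    · refine iSup_le fun i => ?_
      exact le_iSup₂_of_le (g i) (hg ▸ Set.mem_range_self i) le_rfl
    · refine iSup₂_le fun V hV => ?_
      rw [← hg] at hV
      obtain ⟨i, rfl⟩ := hV
      exact le_iSup (fun i => (g i : X.Opens)) i
  · intro i j
    apply step1 X P ha hb (g i) (g i).2 _ _ inf_le_left
    exact QuasiSeparatedSpace.inter_isCompact _ _ (g i).1.isOpen (g i).2.isCompact
      (g j).1.isOpen (g j).2.isCompact

end Groth.Agent.S12417
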