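import Groth.Statements.S12421

set_option autoImplicit false
universe u
open TensorProduct
open Desc

namespace Groth.Agent.S12421

section
variable (R R' : Type u) [CommRing R] [CommRing R'] [Algebra R R']
  (M : Type u) [AddCommGroup M] [Module R M] (P : Type u) [AddCommGroup P] [Module R P]

/-- contraction: `s ⊗ (m ⊗ (r ⊗ p)) ↦ (s * r) ⊗ (m ⊗ p)` -/
noncomputable def hom : R' ⊗[R] (M ⊗[R] (R' ⊗[R] P)) →ₗ[R] R' ⊗[R] (M ⊗[R] P) :=
  (LinearMap.rTensor (M ⊗[R] P) (LinearMap.mul' R R')) ∘ₗ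
    (TensorProduct.assoc R R' R' (M ⊗[R] P)).symm.toLinearMap ∘ₗ
      (LinearMap.lTensor R' (TensorProduct.leftComm R M R' P).toLinearMap)

@[simp]
lemma hom_tmul (s : R') (m : M) (r : R') (p : P) :
    hom R R' M P (s ⊗ₜ (m ⊗ₜ (r ⊗ₜ p))) = (s * r) ⊗ₜ (m ⊗ₜ p) := by
  simp [hom]

end

section
variable (R R' : Type u) [CommRing R] [CommRing R'] [Algebra R R']
  (M : Type u) [AddCommGroup M] [Module R M]

noncomputable abbrev d1 : M ⊗[R] R' →ₗ[R] M ⊗[R] (R' ⊗[R] R') :=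
  (LinearMap.lTensor M (Algebra.TensorProduct.includeRight : R' →ₐ[R] R' ⊗[R] R').toLinearMap -
        LinearMap.lTensor M
          (Algebra.TensorProduct.includeLeft : R' →ₐ[R] R' ⊗[R] R').toLinearMap)

noncomputable abbrev d2 : M ⊗[R] (R' ⊗[R] R') →ₗ[R] M ⊗[R] (R' ⊗[R] (R' ⊗[R] R')) :=
  (LinearMap.lTensor M
          (Algebra.TensorProduct.includeRight : R' ⊗[R] R' →ₐ[R] R' ⊗[R] (R' ⊗[R] R')).toLinearMap -
        LinearMap.lTensor M
          (Algebra.TensorProduct.map (AlgHom.id R R')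
            (Algebra.TensorProduct.includeRight : R' →ₐ[R] R' ⊗[R] R')).toLinearMap +
        LinearMap.lTensor M
          (Algebra.TensorProduct.map (AlgHom.id R R')
            (Algebra.TensorProduct.includeLeft : R' →ₐ[R] R' ⊗[R] R')).toLinearMap)

lemma d2_comp_d1 : d2 R R' M ∘ₗ d1 R R' M = 0 := by
  ext m r
  simp [d1, d2]

lemma homotopy :
    (LinearMap.lTensor R' (d1 R R' M)) ∘ₗ hom R R' M R' +
      hom R R' M (R' ⊗[R] R') ∘ₗ (LinearMap.lTensor R' (d2 R R' M)) = LinearMap.id := by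
  ext s m r₁ r₂
  simp [d1, d2]

end

/-- Let R → R' be faithfully flat and M an R-module. With δ¹ : M ⊗ R' → M ⊗ (R' ⊗ R'), m ⊗ r ↦ m ⊗ (1 ⊗
r) − m ⊗ (r ⊗ 1), and δ² : M ⊗ (R' ⊗ R') → M ⊗ (R' ⊗ (R' ⊗ R')), m ⊗ x ↦ m ⊗ (1 ⊗ x) − m ⊗ (ins₁ x)
+ m ⊗ (ins₂ x), where ins₁ (r₁ ⊗ r₂) = r₁ ⊗ (1 ⊗ r₂) and ins₂ (r₁ ⊗ r₂) = r₁ ⊗ (r₂ ⊗ 1), the
sequence M ⊗ R' → M ⊗ R'^{⊗2} → M ⊗ R'^{⊗3} is exact: the kernel of δ² is the image of δ¹. (The
published statement asserts exactness of the whole complex; this row states exactness at M ⊗ R′ ⊗ R′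
only.) -/
theorem result (R R' : Type u) [CommRing R] [CommRing R'] [Algebra R R']
    [Module.FaithfullyFlat R R'] (M : Type u) [AddCommGroup M] [Module R M] :
    Function.Exact
      (LinearMap.lTensor M (Algebra.TensorProduct.includeRight : R' →ₐ[R] R' ⊗[R] R').toLinearMap -
        LinearMap.lTensor M
          (Algebra.TensorProduct.includeLeft : R' →ₐ[R] R' ⊗[R] R').toLinearMap)
      (LinearMap.lTensor M
          (Algebra.TensorProduct.includeRight : R' ⊗[R] R' →ₐ[R] R' ⊗[R] (R' ⊗[R] R')).toLinearMap -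
        LinearMap.lTensor M
          (Algebra.TensorProduct.map (AlgHom.id R R')
            (Algebra.TensorProduct.includeRight : R' →ₐ[R] R' ⊗[R] R')).toLinearMap +
        LinearMap.lTensor M
          (Algebra.TensorProduct.map (AlgHom.id R R')
            (Algebra.TensorProduct.includeLeft : R' →ₐ[R] R' ⊗[R] R')).toLinearMap) := by
  change Function.Exact (d1 R R' M) (d2 R R' M)
  rw [← Module.FaithfullyFlat.lTensor_exact_iff_exact R R']
  intro y
  constructor
  · intro hy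
    refine ⟨hom R R' M R' y, ?_⟩
    have h := LinearMap.congr_fun (homotopy R R' M) y
    simp only [LinearMap.add_apply, LinearMap.comp_apply, LinearMap.id_apply] at h
    rw [hy, map_zero, add_zero] at h
    exact h
  · rintro ⟨x, rfl⟩
    rw [← LinearMap.comp_apply, ← LinearMap.lTensor_comp, d2_comp_d1, LinearMap.lTensor_zero,
      LinearMap.zero_apply]

end Groth.Agent.S12421
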