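import Groth.Statements.S12424
import Groth.Agent.H62.Cubic
-- import your own Groth.Agent.* helpers here

set_option autoImplicit false
universe u
open Cubic

open Groth.Agent.H62.Cubic

namespace Groth.Agent.S12424

/-- Let k be an algebraically closed field of characteristic zero and S = V_+(f) ⊂ P^3_k a smooth cubic
surface, f a nonzero homogeneous cubic in four variables with the Jacobian condition at every
nonzero zero. For every hyperplane H of P^3_k the scheme-theoretic intersection S ∩ H is reduced;
concretely, for every 4 × 3 matrix A of rank 3 over k (a linear parametrisation of H), the ternary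
cubic obtained from f by substituting X_i ↦ Σ_j A_{ij} Y_j is squarefree. -/
theorem result (k : Type u) [Field k] [IsAlgClosed k] [CharZero k]
    (f : MvPolynomial (Fin 4) k) (hf : f.IsHomogeneous 3) (hf0 : f ≠ 0)
    (hsm : ∀ v : Fin 4 → k, v ≠ 0 → MvPolynomial.eval v f = 0 →
      ∃ i : Fin 4, MvPolynomial.eval v (MvPolynomial.pderiv i f) ≠ 0)
    (A : Matrix (Fin 4) (Fin 3) k) (hA : A.rank = 3) :
    Squarefree (MvPolynomial.aeval (fun i : Fin 4 => ∑ j : Fin 3, MvPolynomial.C (A i j) * MvPolynomial.X j) f) := by
  classical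
  set L : Fin 4 → MvPolynomial (Fin 3) k :=
    fun i => ∑ j : Fin 3, MvPolynomial.C (A i j) * MvPolynomial.X j with hL
  set g := MvPolynomial.aeval L f with hg
  have hLhom : ∀ i, (L i).IsHomogeneous 1 := fun i =>
    MvPolynomial.IsHomogeneous.sum _ _ _ (fun j _ => MvPolynomial.isHomogeneous_C_mul_X _ _)
  have hghom : g.IsHomogeneous 3 := by
    have := hf.aeval L hLhom
    simpa only [one_mul, mul_one] using this
  obtain ⟨hinj, i₀, hi₀⟩ := rank_three_facts A hA
  intro p hp
  by_contra hunit
  have key : ∃ a : Fin 3 → k, ∀ y : Fin 3 → k, ∑ j, a j * y j = 0 →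
      MvPolynomial.eval y g = 0 ∧ ∀ j, MvPolynomial.eval y (MvPolynomial.pderiv j g) = 0 := by
    by_cases hg0 : g = 0
    · exact ⟨0, fun y _ => by rw [hg0]; simp⟩
    · obtain ⟨m, hm⟩ := hp
      have hpm : g = p * (p * m) := by rw [hm]; ring
      have hp0 : p ≠ 0 := by
        rintro rfl; apply hg0; rw [hpm]; simp
      have hm0 : m ≠ 0 := by
        rintro rfl; apply hg0; rw [hpm]; simp
      have hph : p.IsHomogeneous p.totalDegree :=
        isHomogeneous_of_mul (n := 3) (ψ := p * m) (hpm ▸ hghom) (hpm ▸ hg0)
      have hdeg : p.totalDegree + p.totalDegree + m.totalDegree = 3 := by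
        rw [← MvPolynomial.totalDegree_mul_of_isDomain hp0 hp0,
          ← MvPolynomial.totalDegree_mul_of_isDomain (mul_ne_zero hp0 hp0) hm0, ← hm]
        exact hghom.totalDegree hg0
      have hpd : p.totalDegree ≠ 0 := by
        intro h
        rw [MvPolynomial.totalDegree_eq_zero_iff_eq_C] at h
        apply hunit
        rw [h]
        have hc : MvPolynomial.coeff 0 p ≠ 0 := by
          intro hc; apply hp0; rw [h, hc]; simp
        exact (IsUnit.mk0 _ hc).map MvPolynomial.C
      have hp1 : p.totalDegree = 1 := by omega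
      rw [hp1] at hph
      refine ⟨fun j => MvPolynomial.coeff 0 (MvPolynomial.pderiv j p), fun y hy => ?_⟩
      have hpy : MvPolynomial.eval y p = 0 := by
        rw [eval_of_isHomogeneous_one hph, ← hy]
        exact Finset.sum_congr rfl fun j _ => mul_comm _ _
      constructor
      · rw [hpm, map_mul, hpy, zero_mul]
      · intro j
        have hd : MvPolynomial.pderiv j (p * (p * m)) =
            p * MvPolynomial.pderiv j (p * m) + (p * m) * MvPolynomial.pderiv j p := by
          rw [Derivation.leibniz]; simp only [smul_eq_mul]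
        rw [hpm, hd]
        simp only [RingHom.map_add, RingHom.map_mul, hpy]
        ring
  obtain ⟨a, ha⟩ := key
  have hlam : (MvPolynomial.aeval L (MvPolynomial.pderiv i₀ f)).IsHomogeneous 2 := by
    have := (hf.pderiv (i := i₀)).aeval L hLhom
    simpa only [one_mul, mul_one] using this
  obtain ⟨y, hy0, hya, hylam⟩ := exists_common_zero a hlam
  obtain ⟨hgy, hdgy⟩ := ha y hya
  set v : Fin 4 → k := fun i => MvPolynomial.eval y (L i) with hv
  have hvA : v = A.mulVec y := by
    funext i
    simp [hv, hL, Matrix.mulVec, dotProduct]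
  have hv0 : v ≠ 0 := fun h => hy0 (hinj y (hvA ▸ h))
  have hfv : MvPolynomial.eval v f = 0 := by rw [hv, ← eval_aeval]; exact hgy
  obtain ⟨i, hi⟩ := hsm v hv0 hfv
  apply hi
  have hdL : ∀ (i : Fin 4) (j : Fin 3), MvPolynomial.pderiv j (L i) = MvPolynomial.C (A i j) := by
    intro i j
    simp [hL, MvPolynomial.pderiv_X, Pi.single_apply]
  have hu : (fun i => MvPolynomial.eval v (MvPolynomial.pderiv i f)) = 0 := by
    apply hi₀
    · intro j
      have := hdgy j
      rw [hg, pderiv_aeval, map_sum] at this
      rw [← this]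
      refine Finset.sum_congr rfl fun i _ => ?_
      rw [map_mul, eval_aeval, hdL, MvPolynomial.eval_C]
    · show MvPolynomial.eval v (MvPolynomial.pderiv i₀ f) = 0
      rw [hv, ← eval_aeval]; exact hylam
  exact congrFun hu i

end Groth.Agent.S12424
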