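import Groth.Statements.S12443

set_option autoImplicit false
universe u
open CategoryTheory TopologicalSpace
open ShSp

namespace Groth.Agent.S12443

/-- Let j : U → X be the inclusion of an open subset (an open embedding) and F a sheaf of sets on U.
Then the counit j⁻¹ j_* F → F is an isomorphism, i.e. j⁻¹ j_* is the identity on sheaves on U. -/
theorem result {U X : TopCat.{u}} (j : U ⟶ X) (hj : Topology.IsOpenEmbedding j)
    (F : U.Sheaf (Type u)) :
    IsIso ((TopCat.Sheaf.pullbackPushforwardAdjunction (Type u) j).counit.app F) := by
  have : Mono j := (TopCat.mono_iff_injective j).mpr hj.injective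
  have : (hj.isOpenMap.functor).IsContinuous (Opens.grothendieckTopology U)
      (Opens.grothendieckTopology X) := hj.functor_isContinuous
  let adj' := hj.isOpenMap.adjunction.sheafPushforwardContinuous (E := Type u)
    (Opens.grothendieckTopology U) (Opens.grothendieckTopology X)
  have hunit : IsIso hj.isOpenMap.adjunction.unit := inferInstance
  have : IsIso adj'.counit := by
    rw [NatTrans.isIso_iff_isIso_app]
    intro P
    have h1 : IsIso ((sheafToPresheaf _ _).map (adj'.counit.app P)) := by
      change IsIso ((hj.isOpenMap.adjunction.op.whiskerLeft _).counit.app P.obj)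
      have h2 : IsIso hj.isOpenMap.adjunction.op.counit := by
        change IsIso (NatTrans.op hj.isOpenMap.adjunction.unit)
        infer_instance
      simp only [Adjunction.whiskerLeft]
      infer_instance
    exact isIso_of_reflects_iso _ (sheafToPresheaf _ _)
  let ff := adj'.fullyFaithfulROfIsIsoCounit
  have : (TopCat.Sheaf.pushforward (Type u) j).Full := ff.full
  have : (TopCat.Sheaf.pushforward (Type u) j).Faithful := ff.faithful
  infer_instance

end Groth.Agent.S12443
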