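import Groth.Statements.S12444
import Groth.Agent.H62.Caten
-- import your own Groth.Agent.* helpers here

set_option autoImplicit false
universe u
open PtTop Groth.Agent.H62

namespace Groth.Agent.S12444

/-- A topological space X is catenary if and only if it has an open covering by catenary subspaces
(here: every point has a catenary open neighbourhood); and if X is catenary then so is every locally
closed subspace of X. -/
theorem result (X : Type u) [TopologicalSpace X] :
    (PtTop.IsCatenarySpace X ↔
      ∀ x : X, ∃ U : TopologicalSpace.Opens X, x ∈ U ∧ PtTop.IsCatenarySpace U) ∧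
    (PtTop.IsCatenarySpace X → ∀ S : Set X, IsLocallyClosed S → PtTop.IsCatenarySpace S) := by
  refine ⟨⟨fun hX x => ⟨⊤, trivial, ?_⟩, isCatenarySpace_of_open_cover⟩,
    fun hX S hS => isCatenarySpace_of_isLocallyClosed hX hS⟩
  exact isCatenarySpace_of_isLocallyClosed hX (S := ((⊤ : TopologicalSpace.Opens X) : Set X))
    (TopologicalSpace.Opens.isOpen _).isLocallyClosed

end Groth.Agent.S12444
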