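import Groth.Statements.S12450
-- import your own Groth.Agent.* helpers here

set_option autoImplicit false
universe u
open CategoryTheory CategoryTheory.Limits
open ModSite

namespace Groth.Agent.S12450


open CategoryTheory CategoryTheory.Limits in
lemma preservesColimit_of_reflective {A : Type*} {B : Type*} {D : Type*} [Category A] [Category B]
    [Category D] (L : B ⥤ A) (i : A ⥤ B) (adj : L ⊣ i) [IsIso adj.counit] (T : A ⥤ D)
    {K : Type*} [Category K] (F : K ⥤ A) [HasColimit (F ⋙ i)]
    [PreservesColimit (F ⋙ i) (L ⋙ T)] : PreservesColimit F T := by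
  have : PreservesColimit (F ⋙ i) L := by
    have := adj.leftAdjoint_preservesColimits
    infer_instance
  let c₀ := colimit.cocone (F ⋙ i)
  have h₀ : IsColimit c₀ := colimit.isColimit _
  have h₁ : IsColimit (L.mapCocone c₀) := isColimitOfPreserves L h₀
  let e : (F ⋙ i) ⋙ L ≅ F :=
    Functor.associator _ _ _ ≪≫ Functor.isoWhiskerLeft F (asIso adj.counit) ≪≫ Functor.rightUnitor F
  let c : Cocone F := (Cocone.precompose e.inv).obj (L.mapCocone c₀)
  have hc : IsColimit c := (IsColimit.precomposeInvEquiv e _).symm h₁
  refine preservesColimit_of_preserves_colimit_cocone hc ?_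
  have h₂ : IsColimit ((L ⋙ T).mapCocone c₀) := isColimitOfPreserves (L ⋙ T) h₀
  have h₃ : IsColimit (T.mapCocone (L.mapCocone c₀)) := h₂
  refine IsColimit.ofIsoColimit ?_ (Functor.mapCoconePrecompose (H := T) (α := e.inv)
    (c := L.mapCocone c₀)).symm
  exact (IsColimit.precomposeInvEquiv (Functor.isoWhiskerRight e T) _).symm h₃

/-- For a small ringed site (C, O) the forgetful functor Mod(O) → Ab(C) commutes with colimits, i.e.
preserves all small colimits. (Existence of limits and colimits in Mod(O) and commutation of the
forgetful functor with limits hold by construction; exactness of filtered colimits is a separate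
statement.) -/
theorem result {C : Type u} [SmallCategory C] {J : GrothendieckTopology C}
    (O : Sheaf J CommRingCat.{u}) :
    PreservesColimitsOfSize.{u, u} (SheafOfModules.toSheaf.{u} (ModSite.ringSh O) : ModSite.Mod O ⥤ Sheaf J AddCommGrpCat.{u}) := by
  constructor
  intro K _
  constructor
  intro F
  let R := ModSite.ringSh O
  have h1 : PreservesColimit (F ⋙ SheafOfModules.forget R)
      (PresheafOfModules.toPresheaf R.obj ⋙ presheafToSheaf J AddCommGrpCat.{u}) := by
    have : PreservesColimit (F ⋙ SheafOfModules.forget R) (PresheafOfModules.toPresheaf R.obj) :=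
      inferInstance
    have : PreservesColimitsOfSize.{u, u} (presheafToSheaf J AddCommGrpCat.{u}) :=
      (sheafificationAdjunction J AddCommGrpCat.{u}).leftAdjoint_preservesColimits
    infer_instance
  have h2 : PreservesColimit (F ⋙ SheafOfModules.forget R)
      (PresheafOfModules.sheafification (𝟙 R.obj) ⋙ SheafOfModules.toSheaf R) :=
    preservesColimit_of_natIso _ (PresheafOfModules.sheafificationCompToSheaf (𝟙 R.obj)).symm
  exact preservesColimit_of_reflective (PresheafOfModules.sheafification (𝟙 R.obj))
    (SheafOfModules.forget R) (PresheafOfModules.sheafificationAdjunction (𝟙 R.obj))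
    (SheafOfModules.toSheaf R) F

end Groth.Agent.S12450
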