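import Groth.Statements.S12451
import Groth.Agent.H44.AffineFree
import Groth.Agent.H62.LocFree
-- import your own Groth.Agent.* helpers here

set_option autoImplicit false
universe u
open CategoryTheory AlgebraicGeometry
open Props

namespace Groth.Agent.S12451aux

/-- The localization map `M → Γ(M~, D(f))`, typed with the sections notation. -/
noncomputable def toOpenL {R : CommRingCat.{u}} (M : ModuleCat.{u} R) (f : R) :
    M →ₗ[R] Γ(tilde M, PrimeSpectrum.basicOpen f) :=
  (tilde.toOpen M (PrimeSpectrum.basicOpen f)).hom

instance {R : CommRingCat.{u}} (M : ModuleCat.{u} R) (f : R) :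
    IsLocalizedModule.Away f (toOpenL M f) :=
  inferInstanceAs (IsLocalizedModule.Away f (tilde.toOpen M (PrimeSpectrum.basicOpen f)).hom)

end Groth.Agent.S12451aux

open Groth.Agent.S12451aux

namespace Groth.Agent.S12451

/-- For a commutative ring R and an R-module M, the associated quasi-coherent module M~ on Spec R is a
finite locally free O-module exactly when M is finitely generated and projective over R
(equivalently, a finite locally free R-module). -/
theorem result {R : CommRingCat.{u}} (M : ModuleCat.{u} R) :
    FlatMod.IsFinLocFree (tilde M) ↔ Module.Finite R M ∧ Module.Projective R M := by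
  constructor
  · intro h
    have key : ∀ x : PrimeSpectrum R, ∃ f : R, x ∈ PrimeSpectrum.basicOpen f ∧ ∃ n : ℕ,
        Nonempty (Module.Basis (Fin n) Γ(Spec R, PrimeSpectrum.basicOpen f)
          Γ(tilde M, PrimeSpectrum.basicOpen f)) := by
      intro x
      obtain ⟨U, n, hxU, ⟨e⟩⟩ := h x
      obtain ⟨_, ⟨_, ⟨f, rfl⟩, rfl⟩, hxf, hfU⟩ :=
        PrimeSpectrum.isBasis_basic_opens.exists_subset_of_mem_open hxU U.2
      exact ⟨f, hxf, n, Groth.Agent.H44.nonempty_basis_of_iso_freeMod (tilde M)
        (IsAffineOpen.Spec_basicOpen f) hfU e⟩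
    choose f hf n hb using key
    let s : Set R := Set.range f
    have hs : Ideal.span s = ⊤ := by
      by_contra hne
      obtain ⟨m, hm, hle⟩ := Ideal.exists_le_maximal _ hne
      exact hf ⟨m, hm.isPrime⟩ (hle (Ideal.subset_span ⟨_, rfl⟩))
    have hbs : ∀ g : s, ∃ n : ℕ,
        Nonempty (Module.Basis (Fin n) Γ(Spec R, PrimeSpectrum.basicOpen g.1)
          Γ(tilde M, PrimeSpectrum.basicOpen g.1)) := by
      rintro ⟨_, x, rfl⟩
      exact ⟨n x, hb x⟩
    have hfree : ∀ g : s, Module.Free Γ(Spec R, PrimeSpectrum.basicOpen g.1)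
        Γ(tilde M, PrimeSpectrum.basicOpen g.1) := fun g => by
      obtain ⟨n, ⟨b⟩⟩ := hbs g
      exact Module.Free.of_basis b
    have hfin : ∀ g : s, Module.Finite Γ(Spec R, PrimeSpectrum.basicOpen g.1)
        Γ(tilde M, PrimeSpectrum.basicOpen g.1) := fun g => by
      obtain ⟨n, ⟨b⟩⟩ := hbs g
      exact Module.Finite.of_basis b
    have hfp : Module.FinitePresentation R M :=
      Module.FinitePresentation.of_localizationSpan' s hs
        (Rₚ := fun g => Γ(Spec R, PrimeSpectrum.basicOpen g.1))
        (Mₚ := fun g => Γ(tilde M, PrimeSpectrum.basicOpen g.1))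
        (fun g => toOpenL M g.1)
        (fun g => by
          have := hfree g
          have := hfin g
          exact Module.finitePresentation_of_projective _ _)
    have hflat : Module.Flat R M := by
      refine Module.flat_of_isLocalized_span R M s hs
        (fun g => Γ(tilde M, PrimeSpectrum.basicOpen g.1))
        (fun g => toOpenL M g.1) (fun g => ?_)
      have := hfree g
      have : Module.Flat R Γ(Spec R, PrimeSpectrum.basicOpen g.1) :=
        IsLocalization.flat _ (Submonoid.powers g.1)
      exact Module.Flat.trans R Γ(Spec R, PrimeSpectrum.basicOpen g.1) _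
    exact ⟨inferInstance, Module.Flat.projective_of_finitePresentation⟩
  · rintro ⟨hfin, hproj⟩ x
    have hfp : Module.FinitePresentation R M := Module.finitePresentation_of_projective _ _
    have hfree : Module.Free (Localization.AtPrime (x : PrimeSpectrum R).asIdeal)
        (LocalizedModule (x : PrimeSpectrum R).asIdeal.primeCompl M) :=
      Module.free_of_flat_of_isLocalRing
    obtain ⟨r, hr, hr', -⟩ := Module.FinitePresentation.exists_free_localizedModule_powers
      (x : PrimeSpectrum R).asIdeal.primeCompl
      (LocalizedModule.mkLinearMap (x : PrimeSpectrum R).asIdeal.primeCompl M)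
      (Localization.AtPrime (x : PrimeSpectrum R).asIdeal)
    have hF : Module.Free Γ(Spec R, PrimeSpectrum.basicOpen r)
        Γ(tilde M, PrimeSpectrum.basicOpen r) :=
      Groth.Agent.H62.free_of_isLocalizedModule_transfer (Submonoid.powers r)
        (Localization (Submonoid.powers r))
        (LocalizedModule.mkLinearMap (Submonoid.powers r) M)
        Γ(Spec R, PrimeSpectrum.basicOpen r)
        (toOpenL M r)
    have hFin : Module.Finite Γ(Spec R, PrimeSpectrum.basicOpen r)
        Γ(tilde M, PrimeSpectrum.basicOpen r) :=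
      Module.Finite.of_isLocalizedModule (Submonoid.powers r) (toOpenL M r)
    obtain ⟨n, ⟨b⟩⟩ := Groth.Agent.H62.exists_fin_basis_of_free_of_finite
      Γ(Spec R, PrimeSpectrum.basicOpen r) Γ(tilde M, PrimeSpectrum.basicOpen r)
    obtain ⟨e⟩ := Groth.Agent.H44.nonempty_iso_freeMod_of_basis (tilde M)
      (IsAffineOpen.Spec_basicOpen r) b
    exact ⟨PrimeSpectrum.basicOpen r, n, hr, ⟨e⟩⟩

end Groth.Agent.S12451
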