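import Groth.Statements.S12452
import Mathlib.Topology.Sheaves.SheafCondition.UniqueGluing
-- import your own Groth.Agent.* helpers here

set_option autoImplicit false
universe u
open CategoryTheory TopologicalSpace Opposite
open ShSp

namespace Groth.Agent.S12452

/-- For sheaves of sets, let f : X → Y be a continuous map, F a sheaf of sets on X, G a sheaf of sets on
Y, and B_X, B_Y bases for the topologies of X and Y. Suppose given, for every V in B_Y and U in B_X
with U ⊆ f⁻¹V, a map φ_V^U : G(V) → F(U), compatibly with restrictions. Then there is exactly one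
morphism of sheaves ψ : G → f_*F (an f-map G → F) such that G(V) → F(f⁻¹V) → F(U) equals φ_V^U for
every such pair. -/
theorem result {X Y : TopCat.{u}} (f : X ⟶ Y) (F : X.Sheaf (Type u)) (G : Y.Sheaf (Type u))
    {BX : Set (Opens X)} (hBX : Opens.IsBasis BX) {BY : Set (Opens Y)} (hBY : Opens.IsBasis BY)
    (φ : ∀ (V : BY) (U : BX), (U : Opens X) ≤ (Opens.map f).obj V →
      (G.presheaf.obj (op (V : Opens Y)) → F.presheaf.obj (op (U : Opens X))))
    (hφ : ∀ (V V' : BY) (U U' : BX) (hUV : (U : Opens X) ≤ (Opens.map f).obj V)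
      (hU'V' : (U' : Opens X) ≤ (Opens.map f).obj V') (hV : (V' : Opens Y) ≤ V) (hU : (U' : Opens X) ≤ U)
      (s : G.presheaf.obj (op (V : Opens Y))),
      F.presheaf.map (homOfLE hU).op (φ V U hUV s) = φ V' U' hU'V' (G.presheaf.map (homOfLE hV).op s)) :
    ∃! ψ : G ⟶ (TopCat.Sheaf.pushforward (Type u) f).obj F,
      ∀ (V : BY) (U : BX) (hUV : (U : Opens X) ≤ (Opens.map f).obj V) (s : G.presheaf.obj (op (V : Opens Y))),
        F.presheaf.map (homOfLE hUV).op (ψ.1.app (op (V : Opens Y)) s) = φ V U hUV s := by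
  classical
  -- restriction shorthand
  have hFcomp : ∀ {A B C : Opens X} (h1 : A ≤ B) (h2 : B ≤ C) (t : F.presheaf.obj (op C)),
      F.presheaf.map (homOfLE h1).op (F.presheaf.map (homOfLE h2).op t) =
        F.presheaf.map (homOfLE (h1.trans h2)).op t := by
    intro A B C h1 h2 t
    rw [← ConcreteCategory.comp_apply, ← F.presheaf.map_comp]
    rfl
  have hGcomp : ∀ {A B C : Opens Y} (h1 : A ≤ B) (h2 : B ≤ C) (s : G.presheaf.obj (op C)),
      G.presheaf.map (homOfLE h1).op (G.presheaf.map (homOfLE h2).op s) =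
        G.presheaf.map (homOfLE (h1.trans h2)).op s := by
    intro A B C h1 h2 s
    rw [← ConcreteCategory.comp_apply, ← G.presheaf.map_comp]
    rfl
  have hmono : ∀ {A B : Opens Y}, A ≤ B → (Opens.map f).obj A ≤ (Opens.map f).obj B :=
    fun h => ((Opens.map f).map (homOfLE h)).le
  -- the local realisation property
  let Real : ∀ (V' : Opens Y), G.presheaf.obj (op V') →
      F.presheaf.obj (op ((Opens.map f).obj V')) → Prop := fun V' s t =>
    ∀ (U : BX) (V : BY) (hV : (V : Opens Y) ≤ V') (hUV : (U : Opens X) ≤ (Opens.map f).obj V),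
      F.presheaf.map (homOfLE (hUV.trans (hmono hV))).op t =
        φ V U hUV (G.presheaf.map (homOfLE hV).op s)
  have hreal : ∀ (V' : Opens Y) (s : G.presheaf.obj (op V')), ∃! t, Real V' s t := by
    intro V' s
    let ι := {p : BX × BY // (p.2 : Opens Y) ≤ V' ∧ (p.1 : Opens X) ≤ (Opens.map f).obj p.2}
    let Ucov : ι → Opens X := fun p => (p.1.1 : Opens X)
    have hUle : ∀ p : ι, Ucov p ≤ (Opens.map f).obj V' := fun p => p.2.2.trans (hmono p.2.1)
    let sf : ∀ p : ι, F.presheaf.obj (op (Ucov p)) := fun p =>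
      φ p.1.2 p.1.1 p.2.2 (G.presheaf.map (homOfLE p.2.1).op s)
    have hcover : (Opens.map f).obj V' ≤ iSup Ucov := by
      intro x hx
      have hfx : f x ∈ V' := hx
      obtain ⟨V, hVB, hfxV, hVV'⟩ := Opens.isBasis_iff_nbhd.1 hBY hfx
      have hx2 : x ∈ (Opens.map f).obj V := hfxV
      obtain ⟨U, hUB, hxU, hUV⟩ := Opens.isBasis_iff_nbhd.1 hBX hx2
      exact Opens.mem_iSup.2 ⟨⟨(⟨U, hUB⟩, ⟨V, hVB⟩), hVV', hUV⟩, hxU⟩
    have hcompat : TopCat.Presheaf.IsCompatible F.presheaf Ucov sf := by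
      intro p q
      -- cover the intersection
      let J := {r : BX × BY // (r.1 : Opens X) ≤ Ucov p ⊓ Ucov q ∧
        (r.2 : Opens Y) ≤ (p.1.2 : Opens Y) ⊓ (q.1.2 : Opens Y) ∧
        (r.1 : Opens X) ≤ (Opens.map f).obj r.2}
      refine TopCat.Sheaf.eq_of_locally_eq' F (fun r : J => (r.1.1 : Opens X)) (Ucov p ⊓ Ucov q)
        (fun r => homOfLE r.2.1) ?_ _ _ ?_
      · intro x hx
        have hxp : x ∈ (Opens.map f).obj (p.1.2 : Opens Y) := p.2.2 hx.1
        have hxq : x ∈ (Opens.map f).obj (q.1.2 : Opens Y) := q.2.2 hx.2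
        have hfx : f x ∈ (p.1.2 : Opens Y) ⊓ (q.1.2 : Opens Y) := ⟨hxp, hxq⟩
        obtain ⟨V, hVB, hfxV, hVle⟩ := Opens.isBasis_iff_nbhd.1 hBY hfx
        have hx2 : x ∈ (Ucov p ⊓ Ucov q) ⊓ (Opens.map f).obj V := ⟨hx, hfxV⟩
        obtain ⟨U, hUB, hxU, hUle⟩ := Opens.isBasis_iff_nbhd.1 hBX hx2
        exact Opens.mem_iSup.2 ⟨⟨(⟨U, hUB⟩, ⟨V, hVB⟩), hUle.trans inf_le_left, hVle,
          hUle.trans inf_le_right⟩, hxU⟩
      · intro r
        have e1 := hφ p.1.2 r.1.2 p.1.1 r.1.1 p.2.2 r.2.2.2 (r.2.2.1.trans inf_le_left)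
          (r.2.1.trans inf_le_left) (G.presheaf.map (homOfLE p.2.1).op s)
        have e2 := hφ q.1.2 r.1.2 q.1.1 r.1.1 q.2.2 r.2.2.2 (r.2.2.1.trans inf_le_right)
          (r.2.1.trans inf_le_right) (G.presheaf.map (homOfLE q.2.1).op s)
        rw [hGcomp] at e1 e2
        have e3 : F.presheaf.map (homOfLE r.2.1).op
            (F.presheaf.map (Opens.infLELeft (Ucov p) (Ucov q)).op (sf p)) =
            F.presheaf.map (homOfLE (r.2.1.trans inf_le_left)).op (sf p) :=
          hFcomp r.2.1 inf_le_left (sf p)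
        have e4 : F.presheaf.map (homOfLE r.2.1).op
            (F.presheaf.map (Opens.infLERight (Ucov p) (Ucov q)).op (sf q)) =
            F.presheaf.map (homOfLE (r.2.1.trans inf_le_right)).op (sf q) :=
          hFcomp r.2.1 inf_le_right (sf q)
        rw [e3, e4]
        exact e1.trans e2.symm
    obtain ⟨t, ht, htu⟩ := TopCat.Sheaf.existsUnique_gluing' F Ucov ((Opens.map f).obj V')
      (fun p => homOfLE (hUle p)) hcover sf hcompat
    refine ⟨t, ?_, ?_⟩
    · intro U V hV hUV
      exact ht ⟨(U, V), hV, hUV⟩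
    · intro t' ht'
      exact htu t' (fun p => ht' p.1.1 p.1.2 p.2.1 p.2.2)
  choose ψf hψf hψu using hreal
  -- naturality
  have hnat : ∀ (V' V'' : Opens Y) (h : V'' ≤ V') (s : G.presheaf.obj (op V')),
      F.presheaf.map (homOfLE (hmono h)).op (ψf V' s) =
        ψf V'' (G.presheaf.map (homOfLE h).op s) := by
    intro V' V'' h s
    apply hψu V'' (G.presheaf.map (homOfLE h).op s)
    intro U V hV hUV
    rw [hFcomp, hGcomp]
    exact hψf V' s U V (hV.trans h) hUV
  let ψ : G ⟶ (TopCat.Sheaf.pushforward (Type u) f).obj F :=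
    ⟨{ app := fun V' => TypeCat.ofHom (ψf V'.unop)
       naturality := by
        intro V' V'' g
        ext s
        exact (hnat V'.unop V''.unop (leOfHom g.unop) s).symm }⟩
  refine ⟨ψ, ?_, ?_⟩
  · intro V U hUV s
    have := hψf (V : Opens Y) s U V le_rfl hUV
    have hid : G.presheaf.map (homOfLE (le_refl (V : Opens Y))).op s = s := by
      have : (homOfLE (le_refl (V : Opens Y))).op = 𝟙 (op (V : Opens Y)) := rfl
      rw [this, G.presheaf.map_id]; rfl
    rw [hid] at this
    exact this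
  · intro ψ' hψ'
    apply ObjectProperty.hom_ext
    apply NatTrans.ext
    funext V'
    ext s
    apply hψu V'.unop s
    intro U V hV hUV
    have h1 := hψ' V U hUV (G.presheaf.map (homOfLE hV).op s)
    rw [← h1]
    have h2 := ConcreteCategory.congr_hom (ψ'.1.naturality (homOfLE hV).op) s
    simp only [ConcreteCategory.comp_apply] at h2
    rw [h2]
    exact (hFcomp hUV (hmono hV) _).symm

end Groth.Agent.S12452
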