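import Groth.Statements.S12453
import Groth.Agent.H18.TwistPow

set_option autoImplicit false
universe u
open CategoryTheory CategoryTheory.Limits AlgebraicGeometry
open Constr

namespace Groth.Agent.S12453

/-- Let S be a graded ring such that X = Proj S is covered by the standard opens D_+(f) with f
homogeneous of degree one (for instance S generated by S_1 over S_0). Then every O_X(n) is
invertible, O_X(m) ⊗ O_X(n) ≅ O_X(m+n), and O_X(n) ≅ O_X(1)^{⊗n} for n ≥ 0. (Existence of
isomorphisms only; the published isomorphisms are the multiplication maps.) -/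
theorem result {R A : Type u} [CommRing R] [CommRing A] [Algebra R A] (𝒜 : ℕ → Submodule R A) [GradedAlgebra 𝒜]
    (hcov : (⨆ f : 𝒜 1, Proj.basicOpen 𝒜 (f : A)) = ⊤) :
    (∀ n : ℤ, PicF.IsInvertible (Twist.twist 𝒜 n)) ∧
      (∀ m n : ℤ, Nonempty (CohB1.tensorMod (Twist.twist 𝒜 m) (Twist.twist 𝒜 n) ≅ Twist.twist 𝒜 (m + n))) ∧
      ∀ n : ℕ, Nonempty (Twist.twist 𝒜 (n : ℤ) ≅ CohB1.tensorPow (Twist.twist 𝒜 1) n) := by
  have hcov' := Groth.Agent.H18.TwMul.hcov_of_iSup_eq_top 𝒜 hcov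
  refine ⟨fun n => Groth.Agent.H18.isInvertible_twist 𝒜 hcov' n, fun m n => ?_,
    fun n => Groth.Agent.H18.nonempty_twist_iso_tensorPow 𝒜 hcov' n⟩
  exact Groth.Agent.H18.TwMul.nonempty_tensorMod_tilde_twist_iso 𝒜 𝒜 hcov' m n (m + n) rfl

end Groth.Agent.S12453
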