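import Groth.Statements.S12459
import Groth.Agent.H62.CatenRing
import Groth.Agent.S9126
import Groth.Agent.S12446
-- import your own Groth.Agent.* helpers here

set_option autoImplicit false
universe u
open CategoryTheory AlgebraicGeometry
open Props

open Groth.Agent.H62

namespace Groth.Agent.S12459

/-- For a locally Noetherian scheme S, the scheme S is universally catenary — every scheme X locally of
finite type over S has catenary underlying topological space — if and only if all local rings
O_{S,s} are universally catenary rings. (Schemes X over S are taken in the universe of S.) -/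
theorem result (S : Scheme.{u}) [IsLocallyNoetherian S] :
    (∀ (X : Scheme.{u}) (f : X ⟶ S), LocallyOfFiniteType f → PtTop.IsCatenarySpace X) ↔
      ∀ s : S, CAlg.IsUniversallyCatenary (S.presheaf.stalk s) := by
  constructor
  · intro H s
    refine ⟨inferInstance, ?_⟩
    intro A _ _ hA
    obtain ⟨_, ⟨U, hU, rfl⟩, hsU, -⟩ := S.isBasis_affineOpens.exists_subset_of_mem_open
      (Set.mem_univ s) isOpen_univ
    have hUa : IsAffineOpen U := hU
    let _ : Algebra Γ(S, U) (S.presheaf.stalk s) :=
      TopCat.Presheaf.algebra_section_stalk S.presheaf (⟨s, hsU⟩ : U)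
    have hloc : IsLocalization.AtPrime (S.presheaf.stalk s)
        (hUa.primeIdealOf ⟨s, hsU⟩).asIdeal := hUa.isLocalization_stalk ⟨s, hsU⟩
    let _ : Algebra Γ(S, U) A :=
      ((algebraMap (S.presheaf.stalk s) A).comp (algebraMap Γ(S, U) (S.presheaf.stalk s))).toAlgebra
    have : IsScalarTower Γ(S, U) (S.presheaf.stalk s) A :=
      IsScalarTower.of_algebraMap_eq fun _ => rfl
    have : Algebra.EssFiniteType Γ(S, U) (S.presheaf.stalk s) :=
      Algebra.EssFiniteType.of_isLocalization (S.presheaf.stalk s)
        (hUa.primeIdealOf ⟨s, hsU⟩).asIdeal.primeCompl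
    have : Algebra.EssFiniteType Γ(S, U) A :=
      Algebra.EssFiniteType.comp Γ(S, U) (S.presheaf.stalk s) A
    have hA₀ : CAlg.IsCatenary (Algebra.EssFiniteType.subalgebra Γ(S, U) A) := by
      rw [← isCatenarySpace_primeSpectrum_iff]
      let φ : Γ(S, U) ⟶ CommRingCat.of (Algebra.EssFiniteType.subalgebra Γ(S, U) A) :=
        CommRingCat.ofHom (algebraMap Γ(S, U) (Algebra.EssFiniteType.subalgebra Γ(S, U) A))
      have hφ : LocallyOfFiniteType (Spec.map φ) := by
        rw [HasRingHomProperty.Spec_iff (P := @LocallyOfFiniteType)]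
        exact RingHom.finiteType_algebraMap.2 inferInstance
      have hcomp : LocallyOfFiniteType (Spec.map φ ≫ hUa.fromSpec) := inferInstance
      exact H (Spec (CommRingCat.of (Algebra.EssFiniteType.subalgebra Γ(S, U) A)))
        (Spec.map φ ≫ hUa.fromSpec) hcomp
    exact isCatenary_of_isLocalization (Algebra.EssFiniteType.submonoid Γ(S, U) A) hA₀
  · intro H X f hf
    rw [Groth.Agent.S12446.result]
    intro x
    have hs := H (f x)
    let _ : Algebra (S.presheaf.stalk (f x)) (X.presheaf.stalk x) := (f.stalkMap x).hom.toAlgebra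
    have : Algebra.EssFiniteType (S.presheaf.stalk (f x)) (X.presheaf.stalk x) :=
      LocallyOfFiniteType.stalkMap f x
    have h2 := Groth.Agent.S9126.result _ (X.presheaf.stalk x) hs
    exact h2.2 _ inferInstance

end Groth.Agent.S12459
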