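import Groth.Statements.S12460
import Groth.Agent.H62.RegLocus
-- import your own Groth.Agent.* helpers here

set_option autoImplicit false
universe u
open CategoryTheory AlgebraicGeometry
open Props

open Groth.Agent.H62

namespace Groth.Agent.S12460

/-- (1) ⇔ (3) ⇔ (4): let X be a locally Noetherian scheme. Then X is J-2 — for every morphism Y → X
locally of finite type the set of points y with O_{Y,y} a regular local ring is open in Y — if and
only if for every affine open U of X the ring Γ(X, U) is J-2 (every finite type algebra over it has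
open regular locus), if and only if every point of X lies in such an affine open. (Schemes Y over X
are taken in the universe of X.) -/
theorem result (X : Scheme.{u}) [IsLocallyNoetherian X] :
    ((∀ (Y : Scheme.{u}) (g : Y ⟶ X), LocallyOfFiniteType g →
        IsOpen {y : Y | IsRegularLocalRing (Y.presheaf.stalk y)}) ↔
      ∀ U : X.affineOpens, EGA4.IsJ2 Γ(X, U)) ∧
    ((∀ (Y : Scheme.{u}) (g : Y ⟶ X), LocallyOfFiniteType g →
        IsOpen {y : Y | IsRegularLocalRing (Y.presheaf.stalk y)}) ↔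
      ∀ x : X, ∃ U : X.affineOpens, x ∈ (U : X.Opens) ∧ EGA4.IsJ2 Γ(X, U)) := by
  have h13 : (∀ (Y : Scheme.{u}) (g : Y ⟶ X), LocallyOfFiniteType g →
        IsOpen {y : Y | IsRegularLocalRing (Y.presheaf.stalk y)}) →
      ∀ U : X.affineOpens, EGA4.IsJ2 Γ(X, U) := by
    intro H U S _ _ hS
    have hUa : IsAffineOpen (U : X.Opens) := U.2
    let φ : Γ(X, U) ⟶ CommRingCat.of S := CommRingCat.ofHom (algebraMap Γ(X, U) S)
    have hφ : LocallyOfFiniteType (Spec.map φ) := by
      rw [HasRingHomProperty.Spec_iff (P := @LocallyOfFiniteType)]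
      exact RingHom.finiteType_algebraMap.2 hS
    have hcomp : LocallyOfFiniteType (Spec.map φ ≫ hUa.fromSpec) := inferInstance
    have ho := H (Spec (CommRingCat.of S)) (Spec.map φ ≫ hUa.fromSpec) hcomp
    have hset : {y : ↥(Spec (CommRingCat.of S)) |
        IsRegularLocalRing ((Spec (CommRingCat.of S)).presheaf.stalk y)} =
        EGA4.regLocus S := by
      ext p
      exact isRegularLocalRing_spec_stalk_iff (CommRingCat.of S) p
    rw [hset] at ho
    exact ho
  have h34 : (∀ U : X.affineOpens, EGA4.IsJ2 Γ(X, U)) →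
      ∀ x : X, ∃ U : X.affineOpens, x ∈ (U : X.Opens) ∧ EGA4.IsJ2 Γ(X, U) := by
    intro H x
    obtain ⟨_, ⟨U, hU, rfl⟩, hxU, -⟩ := X.isBasis_affineOpens.exists_subset_of_mem_open
      (Set.mem_univ x) isOpen_univ
    exact ⟨⟨U, hU⟩, hxU, H ⟨U, hU⟩⟩
  have h41 : (∀ x : X, ∃ U : X.affineOpens, x ∈ (U : X.Opens) ∧ EGA4.IsJ2 Γ(X, U)) →
      ∀ (Y : Scheme.{u}) (g : Y ⟶ X), LocallyOfFiniteType g →
        IsOpen {y : Y | IsRegularLocalRing (Y.presheaf.stalk y)} := by
    intro H Y g hg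
    rw [isOpen_iff_forall_mem_open]
    intro y hy
    obtain ⟨U, hxU, hJ⟩ := H (g y)
    have hyU : y ∈ g ⁻¹ᵁ (U : X.Opens) := hxU
    obtain ⟨_, ⟨W, hW, rfl⟩, hyW, hWU⟩ := Y.isBasis_affineOpens.exists_subset_of_mem_open
      hyU (g ⁻¹ᵁ (U : X.Opens)).isOpen
    have hWa : IsAffineOpen W := hW
    have hWU' : W ≤ g ⁻¹ᵁ (U : X.Opens) := hWU
    have hft : (g.appLE U W hWU').hom.FiniteType :=
      HasRingHomProperty.appLE (P := @LocallyOfFiniteType) g hg U ⟨W, hW⟩ hWU'
    let _ : Algebra Γ(X, U) Γ(Y, W) := (g.appLE U W hWU').hom.toAlgebra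
    have hft' : Algebra.FiniteType Γ(X, U) Γ(Y, W) := hft
    have hopen : IsOpen (EGA4.regLocus Γ(Y, W)) := hJ Γ(Y, W) hft'
    have he : ∀ x : W, hWa.fromSpec (hWa.primeIdealOf x) = x.1 := hWa.fromSpec_primeIdealOf
    have hinj : Function.Injective hWa.fromSpec := hWa.fromSpec.isOpenEmbedding.injective
    refine ⟨hWa.fromSpec '' (EGA4.regLocus Γ(Y, W)), ?_, ?_, ?_⟩
    · rintro _ ⟨p, hp, rfl⟩
      have hzW : hWa.fromSpec p ∈ W := by
        have hr : Set.range hWa.fromSpec.base = (W : Y.Opens) := hWa.range_fromSpec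
        have : hWa.fromSpec.base p ∈ Set.range hWa.fromSpec.base := Set.mem_range_self _
        rw [hr] at this
        exact this
      have hez : hWa.primeIdealOf ⟨hWa.fromSpec p, hzW⟩ = p := hinj (he _)
      show IsRegularLocalRing (Y.presheaf.stalk (hWa.fromSpec p))
      refine (isRegularLocalRing_stalk_iff hWa ⟨hWa.fromSpec p, hzW⟩).2 ?_
      rw [hez]
      exact hp
    · exact hWa.fromSpec.isOpenEmbedding.isOpenMap _ hopen
    · refine ⟨hWa.primeIdealOf ⟨y, hyW⟩, ?_, he ⟨y, hyW⟩⟩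
      exact (isRegularLocalRing_stalk_iff hWa ⟨y, hyW⟩).1 hy
  exact ⟨⟨h13, fun h => h41 (h34 h)⟩, ⟨fun h => h34 (h13 h), h41⟩⟩

end Groth.Agent.S12460
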