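import Groth.Statements.S12474
import Groth.Agent.H41.VABaseChange

set_option autoImplicit false
universe u
open CategoryTheory CategoryTheory.Limits AlgebraicGeometry TopologicalSpace Opposite
open scoped HomogeneousIdeal
open EGA2

namespace Groth.Agent.S12474

/-- Let f : X → Y and g : Y' → Y be morphisms of schemes and let X', with g' : X' → X and f' : X' → Y',
be a fibre product of X and Y' over Y (the square is cartesian). If L is an invertible O_X-module
which is very ample relative to f (isomorphic to the inverse image of O(1) along a Y-immersion of X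
into the projective bundle P(E) of a quasi-coherent O_Y-module E), then the inverse image g'^*L is
very ample relative to f'. -/
theorem result {X Y X' Y' : Scheme.{u}} (f : X ⟶ Y) (g : Y' ⟶ Y) (g' : X' ⟶ X) (f' : X' ⟶ Y')
    (hsq : IsPullback g' f' f g) (L : X.Modules) (hL : PicF.IsInvertible L) (hva : RelProj.IsRelVeryAmple f L) :
    RelProj.IsRelVeryAmple f' ((Scheme.Modules.pullback g').obj L) := by
  obtain ⟨E, hE, 𝒮, j, hj, P, p, chart, hP, O1, lam, hO1, i, hi, hip, ⟨e⟩⟩ := hva
  obtain ⟨E', hE', 𝒮', j', hj', P', p', chart', hP', O1', lam', hO1', h, hpb, ⟨κ⟩⟩ :=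
    Groth.Agent.H41.VABaseChange.exists_baseChange g E hE 𝒮 j hj p chart hP O1 lam hO1
  have hw : (g' ≫ i) ≫ p = f' ≫ g := by rw [Category.assoc, hip, hsq.w]
  have hi'h : hpb.lift (g' ≫ i) f' hw ≫ h = g' ≫ i := hpb.lift_fst _ _ _
  have hi'p : hpb.lift (g' ≫ i) f' hw ≫ p' = f' := hpb.lift_snd _ _ _
  have hsq' : IsPullback (hpb.lift (g' ≫ i) f' hw) g' h i := by
    refine IsPullback.of_right ?_ hi'h hpb.flip
    rw [hi'p, hip]
    exact hsq.flip
  have himm : IsImmersion (hpb.lift (g' ≫ i) f' hw) :=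
    MorphismProperty.of_isPullback (P := @IsImmersion) hsq'.flip hi
  refine ⟨E', hE', 𝒮', j', hj', P', p', chart', hP', O1', lam', hO1', hpb.lift (g' ≫ i) f' hw,
    himm, hi'p, ⟨?_⟩⟩
  exact (Scheme.Modules.pullback g').mapIso e ≪≫
    (Scheme.Modules.pullbackComp g' i).app O1 ≪≫
    (Scheme.Modules.pullbackCongr hi'h).symm.app O1 ≪≫
    (Scheme.Modules.pullbackComp (hpb.lift (g' ≫ i) f' hw) h).symm.app O1 ≪≫
    (Scheme.Modules.pullback (hpb.lift (g' ≫ i) f' hw)).mapIso κ

end Groth.Agent.S12474
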