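import Groth.Statements.S12477
import Groth.Agent.H41.VACoprod

set_option autoImplicit false
universe u
open CategoryTheory CategoryTheory.Limits AlgebraicGeometry TopologicalSpace Opposite
open scoped HomogeneousIdeal
open EGA2

namespace Groth.Agent.S12477

/-- Let X and X' be schemes with disjoint union X ⨿ X', let f'' : X ⨿ X' → Y be a morphism (given by a
morphism f on X and a morphism f' on X') and L'' an invertible module on X ⨿ X' (given by an
invertible O_X-module L and an invertible O_{X'}-module L'). Then L'' is very ample relative to f''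
(isomorphic to the inverse image of O(1) along a Y-immersion of X into the projective bundle P(E) of
a quasi-coherent O_Y-module E) if and only if L, the inverse image of L'' on X, is very ample
relative to f and L', the inverse image of L'' on X', is very ample relative to f'. -/
theorem result {X X' Y : Scheme.{u}} (f'' : X ⨿ X' ⟶ Y) (L'' : (X ⨿ X').Modules)
    (hL'' : PicF.IsInvertible L'') :
    RelProj.IsRelVeryAmple f'' L'' ↔
      RelProj.IsRelVeryAmple (coprod.inl ≫ f'') ((Scheme.Modules.pullback (coprod.inl : X ⟶ X ⨿ X')).obj L'') ∧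
        RelProj.IsRelVeryAmple (coprod.inr ≫ f'') ((Scheme.Modules.pullback (coprod.inr : X' ⟶ X ⨿ X')).obj L'') := by
  constructor
  · intro h
    exact ⟨Groth.Agent.H41.VACoprod.isRelVeryAmple_comp_immersion f'' L'' h coprod.inl,
      Groth.Agent.H41.VACoprod.isRelVeryAmple_comp_immersion f'' L'' h coprod.inr⟩
  · rintro ⟨hva, hva'⟩
    obtain ⟨E, hE, 𝒮, j, hj, P, p, chart, hP, O1, lam, hO1, i, hi, hip, ⟨e⟩⟩ := hva
    obtain ⟨E', hE', 𝒮', j', hj', P', p', chart', hP', O1', lam', hO1', i', hi', hip', ⟨e'⟩⟩ := hva'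
    obtain ⟨F, hF, 𝒯, jT, hjT, PT, pT, chartT, hPT, O1T, lamT, hO1T, k, k', hk, hk', hcl, ⟨τ⟩, ⟨τ'⟩⟩ :=
      Groth.Agent.H41.VACoprod.exists_biprod_embedding E E' hE hE' 𝒮 j hj 𝒮' j' hj' p p' chart chart'
        hP hP' O1 lam hO1 O1' lam' hO1'
    haveI := hcl
    haveI : IsImmersion (coprod.map i i') :=
      IsZariskiLocalAtTarget.coprodMap (P := @IsImmersion) i i' hi hi'
    have hfac : coprod.desc (i ≫ k) (i' ≫ k') = coprod.map i i' ≫ coprod.desc k k' := by
      rw [coprod.map_desc]
    have himm : IsImmersion (coprod.desc (i ≫ k) (i' ≫ k')) := by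
      rw [hfac]
      infer_instance
    have hl : coprod.inl ≫ coprod.desc (i ≫ k) (i' ≫ k') = i ≫ k := coprod.inl_desc _ _
    have hr : coprod.inr ≫ coprod.desc (i ≫ k) (i' ≫ k') = i' ≫ k' := coprod.inr_desc _ _
    refine ⟨F, hF, 𝒯, jT, hjT, PT, pT, chartT, hPT, O1T, lamT, hO1T,
      coprod.desc (i ≫ k) (i' ≫ k'), himm, ?_, ?_⟩
    · apply coprod.hom_ext
      · rw [← Category.assoc, hl, Category.assoc, hk, hip]
      · rw [← Category.assoc, hr, Category.assoc, hk', hip']
    · refine Groth.Agent.H41.CoprodModIso.nonempty_iso_coprod ?_ ?_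
      · exact e ≪≫ (Scheme.Modules.pullback i).mapIso τ.symm ≪≫
          (Scheme.Modules.pullbackComp i k).app O1T ≪≫
          (Scheme.Modules.pullbackCongr hl).symm.app O1T ≪≫
          (Scheme.Modules.pullbackComp coprod.inl (coprod.desc (i ≫ k) (i' ≫ k'))).symm.app O1T
      · exact e' ≪≫ (Scheme.Modules.pullback i').mapIso τ'.symm ≪≫
          (Scheme.Modules.pullbackComp i' k').app O1T ≪≫
          (Scheme.Modules.pullbackCongr hr).symm.app O1T ≪≫
          (Scheme.Modules.pullbackComp coprod.inr (coprod.desc (i ≫ k) (i' ≫ k'))).symm.app O1T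

end Groth.Agent.S12477
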