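import Groth.Statements.S12480
import Groth.Agent.H41.QuasiAffVA
import Groth.Agent.H41.VAOfImm
import Groth.Agent.H41.GrSymSheaf
import Groth.Agent.H41.RelProjExists
import Groth.Agent.H18.STL.QuasiAffine

set_option autoImplicit false
universe u
open CategoryTheory CategoryTheory.Limits AlgebraicGeometry TopologicalSpace Opposite
open scoped HomogeneousIdeal
open EGA2

namespace Groth.Agent.S12480

/-- Let X be a quasi-affine scheme and L an invertible O_X-module. Then L is very ample relative to the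
canonical morphism u : X → Spec Γ(X, O_X): there are a quasi-coherent module E on that spectrum and
an immersion i of X into the projective bundle P(E), compatible with u, with L isomorphic to
i^*O_{P(E)}(1). (The published statement adds that L is then ample; that assertion is stated
separately.) -/
theorem result (X : Scheme.{u}) [X.IsQuasiAffine] (L : X.Modules)
    (hL : PicF.IsInvertible L) : RelProj.IsRelVeryAmple X.toSpecΓ L := by
  have : L.IsQuasicoherent := Groth.Agent.H18.STL.isQuasicoherent_of_isInvertible hL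
  have hLq : Coh.IsQCoh L := ‹L.IsQuasicoherent›
  have : CompactSpace X := inferInstance
  have hE : ((Scheme.Modules.pushforward X.toSpecΓ).obj L).IsQuasicoherent :=
    Groth.Agent.H8.isQuasicoherent_pushforward_of_qcqs X.toSpecΓ L
  obtain ⟨𝒮L, jL, hjL⟩ := Groth.Agent.H41.GrSymSheaf.exists_isGrSymAlg L hLq
  obtain ⟨𝒜, jE, h𝒜⟩ := Groth.Agent.H41.GrSymSheaf.exists_isGrSymAlg
    ((Scheme.Modules.pushforward X.toSpecΓ).obj L) hE
  obtain ⟨u, hu⟩ := Groth.Agent.H41.CanonU.exists_canon X.toSpecΓ L 𝒮L jL 𝒜 jE hjL.2 h𝒜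
  have hPL := Groth.Agent.H41.RelProjExists.isRelProj 𝒮L
  have hP := Groth.Agent.H41.RelProjExists.isRelProj 𝒜
  obtain ⟨r, hr, -⟩ := Groth.Agent.H41.RelPMap2.existsUnique_isProjQMapOn u
    (Groth.Agent.H41.RelProjExists.π 𝒜) (Groth.Agent.H41.RelProjExists.chart 𝒜) hP
    (Groth.Agent.H41.RelProjExists.π 𝒮L) (Groth.Agent.H41.RelProjExists.chart 𝒮L) hPL
  have hY : IsAffineOpen (⊤ : (Spec Γ(X, ⊤)).Opens) := isAffineOpen_top _
  have htop : X.toSpecΓ ⁻¹ᵁ (⊤ : (Spec Γ(X, ⊤)).Opens) = ⊤ := Scheme.Hom.preimage_top _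
  have hcpt : IsCompact ((X.toSpecΓ ⁻¹ᵁ (⊤ : (Spec Γ(X, ⊤)).Opens) : X.Opens) : Set X) := by
    rw [htop]
    exact isCompact_univ
  have hqs : IsQuasiSeparated ((X.toSpecΓ ⁻¹ᵁ (⊤ : (Spec Γ(X, ⊤)).Opens) : X.Opens) : Set X) := by
    rw [htop]
    exact isQuasiSeparated_univ
  have hbasis : ∀ (x : X) (U₀ : X.Opens), x ∈ U₀ →
      ∃ f : Γ(X, X.toSpecΓ ⁻¹ᵁ (⊤ : (Spec Γ(X, ⊤)).Opens)),
        IsAffineOpen (X.basicOpen f) ∧ x ∈ X.basicOpen f ∧ X.basicOpen f ≤ U₀ := by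
    intro x U₀ hx
    obtain ⟨_, ⟨_, ⟨r₀, hr₀, rfl⟩, rfl⟩, hxr, hrU⟩ :=
      (Scheme.IsQuasiAffine.isBasis_basicOpen X).exists_subset_of_mem_open hx U₀.isOpen
    have hle : X.toSpecΓ ⁻¹ᵁ (⊤ : (Spec Γ(X, ⊤)).Opens) ≤ ⊤ := le_top
    have hb : X.basicOpen (X.presheaf.map (homOfLE hle).op r₀) = X.basicOpen r₀ := by
      rw [Scheme.basicOpen_res, htop, top_inf_eq]
    refine ⟨X.presheaf.map (homOfLE hle).op r₀, ?_, ?_, ?_⟩
    · rw [hb]; exact hr₀
    · rw [hb]; exact hxr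
    · rw [hb]; exact hrU
  have himm := Groth.Agent.H41.QuasiAffVA.immersion_of_basis X.toSpecΓ L 𝒮L jL hjL 𝒜 jE u hu hY
    (Groth.Agent.H41.RelProjExists.π 𝒜) (Groth.Agent.H41.RelProjExists.chart 𝒜)
    (Groth.Agent.H41.RelProjExists.π 𝒮L) (Groth.Agent.H41.RelProjExists.chart 𝒮L) hPL r hr hL h𝒜
    hcpt hqs hbasis
  exact Groth.Agent.H41.VAOfImm.isRelVeryAmple_of_immersion X.toSpecΓ L hL hLq 𝒮L jL hjL
    (Groth.Agent.H41.RelProjExists.π 𝒮L) (Groth.Agent.H41.RelProjExists.chart 𝒮L) hPL 𝒜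
    (Groth.Agent.H41.VABaseChange.isGenDegOne_of_isGrSymAlg _ 𝒜 jE h𝒜) u
    (Groth.Agent.H41.QuasiAffVA.hsurj_of_basis X.toSpecΓ L 𝒮L jL hjL 𝒜 jE u hu hY hL h𝒜 hcpt hqs hbasis)
    (Groth.Agent.H41.RelProjExists.π 𝒜) (Groth.Agent.H41.RelProjExists.chart 𝒜) hP r hr himm.2

end Groth.Agent.S12480
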