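import Groth.Statements.S12491
import Groth.Agent.Lead.RegularLocalization
import Groth.Agent.Lead.RegularGlDim
import Groth.Agent.H29.GlDim

set_option autoImplicit false
universe u
open VBPn

namespace Groth.Agent.S12491

open CategoryTheory

section syz

variable (R : Type u) [CommRing R] (N : ℕ → Type u) [∀ i, AddCommGroup (N i)]
  [∀ i, Module R (N i)] (d : ∀ i, N i →ₗ[R] N (i + 1))

/-- the `j`-th cokernel -/
abbrev Q (j : ℕ) : Type u := N (j + 1) ⧸ LinearMap.range (d j)

/-- one step of dimension shifting -/
theorem step (i n : ℕ) (hn : 1 ≤ n) (hproj : Module.Projective R (N (i + 2)))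
    (hex : LinearMap.range (d i) = LinearMap.ker (d (i + 1)))
    (h : HasProjectiveDimensionLT (ModuleCat.of R (Q R N d (i + 1))) (n + 1)) :
    HasProjectiveDimensionLT (ModuleCat.of R (Q R N d i)) n := by
  let f : Q R N d i →ₗ[R] N (i + 2) := (LinearMap.range (d i)).liftQ (d (i + 1)) hex.le
  let g : N (i + 2) →ₗ[R] Q R N d (i + 1) := (LinearMap.range (d (i + 1))).mkQ
  have hf : Function.Injective f := by
    rw [injective_iff_map_eq_zero]
    intro x hx
    obtain ⟨y, rfl⟩ := Submodule.mkQ_surjective _ x
    have h0 : d (i + 1) y = 0 := hx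
    have hy : y ∈ LinearMap.range (d i) := by rw [hex]; exact h0
    exact (Submodule.Quotient.mk_eq_zero _).mpr hy
  have hg : Function.Surjective g := Submodule.mkQ_surjective _
  have hfg : Function.Exact f g := by
    rw [LinearMap.exact_iff, Submodule.ker_mkQ, Submodule.range_liftQ]
  have hS := Groth.Agent.H29.GlDimL.shortExact_of_exact f g hf hg hfg
  haveI : Projective (ModuleCat.of R (N (i + 2))) := (IsProjective.iff_projective _).mp hproj
  have h2 : HasProjectiveDimensionLT (ModuleCat.of R (N (i + 2))) n :=
    hasProjectiveDimensionLT_of_ge _ 1 n hn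
  exact hS.hasProjectiveDimensionLT_X₁ n h2 h

theorem step0 (hinj : Function.Injective (d 0)) (hproj : Module.Projective R (N 1))
    (h : HasProjectiveDimensionLT (ModuleCat.of R (Q R N d 0)) 2) :
    Module.Projective R (N 0) := by
  let g : N 1 →ₗ[R] Q R N d 0 := (LinearMap.range (d 0)).mkQ
  have hg : Function.Surjective g := Submodule.mkQ_surjective _
  have hfg : Function.Exact (d 0) g := by
    rw [LinearMap.exact_iff, Submodule.ker_mkQ]
  have hS := Groth.Agent.H29.GlDimL.shortExact_of_exact (d 0) g hinj hg hfg
  haveI : Projective (ModuleCat.of R (N 1)) := (IsProjective.iff_projective _).mp hproj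
  have h2 : HasProjectiveDimensionLT (ModuleCat.of R (N 1)) 1 := inferInstance
  have h3 : HasProjectiveDimensionLT (ModuleCat.of R (N 0)) 1 :=
    hS.hasProjectiveDimensionLT_X₁ 1 h2 h
  exact (IsProjective.iff_projective _).mpr
    (projective_iff_hasProjectiveDimensionLT_one.mpr h3)

theorem syz (k : ℕ)
    (hproj : ∀ i, 1 ≤ i → i ≤ k → Module.Projective R (N i))
    (hinj : Function.Injective (d 0))
    (hex : ∀ i, i + 1 < k → LinearMap.range (d i) = LinearMap.ker (d (i + 1)))
    (hgl : ∀ M : ModuleCat.{u} R, HasProjectiveDimensionLT M (k + 1)) :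
    Module.Projective R (N 0) := by
  rcases Nat.eq_zero_or_pos k with hk | hk
  · subst hk
    exact (IsProjective.iff_projective _).mpr
      (projective_iff_hasProjectiveDimensionLT_one.mpr (hgl _))
  · have key : ∀ j i, i + j + 1 = k →
        HasProjectiveDimensionLT (ModuleCat.of R (Q R N d i)) (i + 2) := by
      intro j
      induction j with
      | zero =>
        intro i hi
        have : i + 2 = k + 1 := by omega
        rw [this]
        exact hgl _
      | succ j ih =>
        intro i hi
        have h1 := ih (i + 1) (by omega)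
        exact step R N d i (i + 2) (by omega) (hproj (i + 2) (by omega) (by omega))
          (hex i (by omega)) h1
    exact step0 R N d hinj (hproj 1 le_rfl hk) (key (k - 1) 0 (by omega))

end syz

theorem result (A : Type u) [CommRing A] [IsRegularLocalRing A]
    (k : ℕ) (N : ℕ → Type u) [∀ i, AddCommGroup (N i)] [∀ i, Module A (N i)] [Module.Finite A (N 0)]
    (hfree : ∀ i, 1 ≤ i → i ≤ k → Module.Free A (N i) ∧ Module.Finite A (N i))
    (d : ∀ i, N i →ₗ[A] N (i + 1)) (hinj : Function.Injective (d 0))
    (hex : ∀ i, i + 1 < k → LinearMap.range (d i) = LinearMap.ker (d (i + 1)))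
    (p : Ideal A) [p.IsPrime] (hp : p.height ≤ k) :
    Module.Free (Localization.AtPrime p) (LocalizedModule p.primeCompl (N 0)) := by
  haveI : IsRegularLocalRing (Localization.AtPrime p) :=
    Groth.Agent.Lead.RLR.isRegularLocalRing_localization A p
  -- dimension bound
  have hdim : ringKrullDim (Localization.AtPrime p) = p.height :=
    IsLocalization.AtPrime.ringKrullDim_eq_height p _
  obtain ⟨g, hg⟩ : ∃ g : ℕ, p.height = g := by
    have : p.height ≠ ⊤ := ne_top_of_le_ne_top (by simp) hp
    exact ⟨p.height.toNat, (ENat.natCast_toNat this).symm⟩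
  have hgk : g ≤ k := by
    rw [hg] at hp
    exact_mod_cast hp
  have hgl : ∀ M : ModuleCat.{u} (Localization.AtPrime p), HasProjectiveDimensionLT M (k + 1) := by
    intro M
    have := Groth.Agent.Lead.RLR.hasProjectiveDimensionLT (Localization.AtPrime p) g
      (by rw [hdim, hg]; rfl) M
    exact hasProjectiveDimensionLT_of_ge M (g + 1) (k + 1) (by omega)
  -- localized sequence
  let N' : ℕ → Type u := fun i => LocalizedModule p.primeCompl (N i)
  let d' : ∀ i, N' i →ₗ[Localization.AtPrime p] N' (i + 1) := fun i =>
    IsLocalizedModule.mapExtendScalars p.primeCompl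
      (LocalizedModule.mkLinearMap p.primeCompl (N i))
      (LocalizedModule.mkLinearMap p.primeCompl (N (i + 1))) (Localization.AtPrime p) (d i)
  have hd' : ∀ i, (d' i : N' i → N' (i + 1)) =
      IsLocalizedModule.map p.primeCompl
      (LocalizedModule.mkLinearMap p.primeCompl (N i))
      (LocalizedModule.mkLinearMap p.primeCompl (N (i + 1))) (d i) := fun i => rfl
  have hproj : Module.Projective (Localization.AtPrime p) (N' 0) := by
    refine syz (Localization.AtPrime p) N' d' k ?_ ?_ ?_ hgl
    · intro i hi hik
      haveI := (hfree i hi hik).1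
      exact inferInstanceAs (Module.Projective (Localization p.primeCompl)
        (LocalizedModule p.primeCompl (N i)))
    · rw [hd']
      exact IsLocalizedModule.map_injective p.primeCompl _ _ _ hinj
    · intro i hi
      have hexact : Function.Exact (d i) (d (i + 1)) := by
        rw [LinearMap.exact_iff]
        exact (hex i hi).symm
      have := IsLocalizedModule.map_exact p.primeCompl
        (LocalizedModule.mkLinearMap p.primeCompl (N i))
        (LocalizedModule.mkLinearMap p.primeCompl (N (i + 1)))
        (LocalizedModule.mkLinearMap p.primeCompl (N (i + 1 + 1))) (d i) (d (i + 1)) hexact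
      have h2 : Function.Exact (d' i) (d' (i + 1)) := this
      rw [LinearMap.exact_iff] at h2
      exact h2.symm
  haveI : Module.Finite (Localization.AtPrime p) (N' 0) :=
    Module.Finite.of_isLocalizedModule p.primeCompl
      (LocalizedModule.mkLinearMap p.primeCompl (N 0))
  haveI := hproj
  exact Module.free_of_flat_of_isLocalRing

end Groth.Agent.S12491
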