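import Groth.Statements.S12498
import Mathlib

set_option autoImplicit false
universe u
open Deform

namespace Groth.Agent.S12498

section aux

variable {A : Type u} [CommRing A] [IsLocalRing A]
  {B : Type u} [CommRing B] [Algebra A B]

theorem I_induction {p : B → Prop} (h1 : ∀ a ∈ IsLocalRing.maximalIdeal A, ∀ b : B, p (a • b))
    (h2 : ∀ x y, p x → p y → p (x + y)) {x : B}
    (hx : x ∈ (IsLocalRing.maximalIdeal A).map (algebraMap A B)) : p x := by
  have hx' : x ∈ (IsLocalRing.maximalIdeal A) • (⊤ : Submodule A B) := by
    rw [Ideal.smul_top_eq_map]; exact hx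
  refine Submodule.smul_induction_on hx' (fun a ha b _ => h1 a ha b) h2

theorem t_mul_eq_zero (t : A) (htm : ∀ a ∈ IsLocalRing.maximalIdeal A, a * t = 0) {x : B}
    (hx : x ∈ (IsLocalRing.maximalIdeal A).map (algebraMap A B)) : algebraMap A B t * x = 0 := by
  refine I_induction (p := fun x => algebraMap A B t * x = 0) ?_ ?_ hx
  · intro a ha b
    rw [Algebra.smul_def, ← mul_assoc, ← map_mul, mul_comm t a, htm a ha, map_zero, zero_mul]
  · intro x y hx hy
    rw [mul_add, hx, hy, add_zero]

theorem mem_I_of_t_mul_eq_zero [Module.Flat A B] (t : A) (ht0 : t ≠ 0) {b : B}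
    (h : algebraMap A B t * b = 0) : b ∈ (IsLocalRing.maximalIdeal A).map (algebraMap A B) := by
  obtain ⟨n, a, y, hxy, hfa⟩ := Module.Flat.isTrivialRelation_of_sum_smul_eq_zero
    (R := A) (M := B) (f := fun _ : Fin 1 => t) (x := fun _ => b)
    (by simp [Algebra.smul_def, h])
  have hb := hxy 0
  simp only at hb
  rw [hb]
  refine Ideal.sum_mem _ fun j _ => ?_
  have hj := hfa j
  simp only [Fin.sum_univ_one] at hj
  have hm : a 0 j ∈ IsLocalRing.maximalIdeal A := by
    by_contra hcon
    have hu : IsUnit (a 0 j) := by
      by_contra hnu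
      exact hcon ((IsLocalRing.mem_maximalIdeal _).2 hnu)
    exact ht0 (by simpa using (hu.mul_left_eq_zero).1 hj)
  rw [Algebra.smul_def]
  exact Ideal.mul_mem_right _ _ (Ideal.mem_map_of_mem _ hm)

end aux


/-- Let k be an algebraically closed field, A a local Artinian k-algebra with residue field k, and t a
nonzero element of the maximal ideal m_A annihilated by m_A, so that A → A/tA is a small extension.
Let B be a flat A-algebra (a deformation over A of its closed fibre B_0 = B/m_A B), and σ an
A-algebra automorphism of B/tB inducing the identity on B_0. Fix an A-algebra automorphism τ of B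
inducing σ (so τ induces the identity on B_0). Then the A-algebra automorphisms η of B inducing σ
correspond bijectively to the k-derivations d of B_0 through the rule η = τ + t·d, meaning η(b) =
τ(b) + t b′ for all b ∈ B and all b′ ∈ B lifting d applied to the image of b in B_0: every such η
determines a unique d, and every d comes from some such η. (The published statement phrases the
conclusion as a free and transitive action of Der_k(B_0, B_0) on the nonempty set of lifts of σ; the
condition that σ induces the identity on B_0 is expressed here through the chosen lift τ.) -/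
theorem result
    {k : Type u} [Field k] [IsAlgClosed k]
    {A : Type u} [CommRing A] [Algebra k A] [IsLocalRing A] [IsArtinianRing A]
    (hres : ∀ a : A, ∃ c : k, a - algebraMap k A c ∈ IsLocalRing.maximalIdeal A)
    (t : A) (ht : t ∈ IsLocalRing.maximalIdeal A) (ht0 : t ≠ 0)
    (htm : ∀ a ∈ IsLocalRing.maximalIdeal A, a * t = 0)
    {B : Type u} [CommRing B] [Algebra A B] [Module.Flat A B] [Algebra k B] [IsScalarTower k A B]
    (σ : (B ⧸ Ideal.span {algebraMap A B t}) ≃ₐ[A] (B ⧸ Ideal.span {algebraMap A B t}))
    (τ : B ≃ₐ[A] B)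
    (hτ : ∀ b : B, Ideal.Quotient.mk (Ideal.span {algebraMap A B t}) (τ b) =
      σ (Ideal.Quotient.mk (Ideal.span {algebraMap A B t}) b))
    (hτ0 : ∀ b : B, τ b - b ∈ (IsLocalRing.maximalIdeal A).map (algebraMap A B)) :
    (∀ η : B ≃ₐ[A] B, (∀ b : B, Ideal.Quotient.mk (Ideal.span {algebraMap A B t}) (η b) =
        σ (Ideal.Quotient.mk (Ideal.span {algebraMap A B t}) b)) →
      ∃! d : Derivation k (B ⧸ (IsLocalRing.maximalIdeal A).map (algebraMap A B))
          (B ⧸ (IsLocalRing.maximalIdeal A).map (algebraMap A B)),
        ∀ b b' : B, Ideal.Quotient.mk ((IsLocalRing.maximalIdeal A).map (algebraMap A B)) b' =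
            d (Ideal.Quotient.mk ((IsLocalRing.maximalIdeal A).map (algebraMap A B)) b) →
          η b = τ b + algebraMap A B t * b') ∧
    (∀ d : Derivation k (B ⧸ (IsLocalRing.maximalIdeal A).map (algebraMap A B))
        (B ⧸ (IsLocalRing.maximalIdeal A).map (algebraMap A B)),
      ∃ η : B ≃ₐ[A] B, (∀ b : B, Ideal.Quotient.mk (Ideal.span {algebraMap A B t}) (η b) =
          σ (Ideal.Quotient.mk (Ideal.span {algebraMap A B t}) b)) ∧
        ∀ b b' : B, Ideal.Quotient.mk ((IsLocalRing.maximalIdeal A).map (algebraMap A B)) b' =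
            d (Ideal.Quotient.mk ((IsLocalRing.maximalIdeal A).map (algebraMap A B)) b) →
          η b = τ b + algebraMap A B t * b') := by
  set tB := algebraMap A B t with htB
  set I := (IsLocalRing.maximalIdeal A).map (algebraMap A B) with hI
  have hkey1 : ∀ {x : B}, x ∈ I → tB * x = 0 := fun hx => t_mul_eq_zero t htm hx
  have hkey2 : ∀ {x : B}, tB * x = 0 → x ∈ I := fun hx => mem_I_of_t_mul_eq_zero t ht0 hx
  have htt : tB * tB = 0 := by rw [htB, ← map_mul, htm t ht, map_zero]
  have htI : ∀ x, tB * x ∈ I := fun x => Ideal.mul_mem_right _ _ (Ideal.mem_map_of_mem _ ht)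
  have hτmk : ∀ b, Ideal.Quotient.mk I (τ b) = Ideal.Quotient.mk I b :=
    fun b => Ideal.Quotient.eq.2 (hτ0 b)
  have hmk_eq : ∀ {x y : B}, Ideal.Quotient.mk I x = Ideal.Quotient.mk I y → tB * x = tB * y := by
    intro x y h
    have := hkey1 (Ideal.Quotient.eq.1 h)
    rw [mul_sub, sub_eq_zero] at this; exact this
  have hksmul : ∀ (φ : B ≃ₐ[A] B) (c : k) (x : B), φ (c • x) = c • φ x := by
    intro φ c x
    rw [← algebraMap_smul A c x, map_smul, algebraMap_smul]
  have hmksmul : ∀ (c : k) (x : B), c • Ideal.Quotient.mk I x = Ideal.Quotient.mk I (c • x) :=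
    fun c x => rfl
  refine ⟨?_, ?_⟩
  · intro η hη
    have hex : ∀ b, ∃ b', η b - τ b = tB * b' := by
      intro b
      have h1 : Ideal.Quotient.mk (Ideal.span {tB}) (η b) =
          Ideal.Quotient.mk (Ideal.span {tB}) (τ b) := by
        rw [hη, hτ]
      obtain ⟨c, hc⟩ := Ideal.mem_span_singleton'.1 (Ideal.Quotient.eq.1 h1)
      exact ⟨c, by rw [← hc, mul_comm]⟩
    choose e he using hex
    have hD : ∀ {b b' : B}, η b - τ b = tB * b' →
        Ideal.Quotient.mk I (e b) = Ideal.Quotient.mk I b' := by
      intro b b' h
      refine Ideal.Quotient.eq.2 (hkey2 ?_)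
      rw [mul_sub, ← he b, ← h, sub_self]
    have hηI : ∀ {x}, x ∈ I → η x = τ x := by
      intro x hx
      refine I_induction (p := fun x => η x = τ x) ?_ ?_ hx
      · intro a ha b
        have : η (a • b) - τ (a • b) = 0 := by
          rw [map_smul, map_smul, ← smul_sub, he b, Algebra.smul_def, ← mul_assoc, ← map_mul,
            htm a ha, map_zero, zero_mul]
        exact sub_eq_zero.1 this
      · intro x y hx hy; rw [map_add, map_add, hx, hy]
    have hDI : ∀ {x y : B}, Ideal.Quotient.mk I x = Ideal.Quotient.mk I y →
        Ideal.Quotient.mk I (e x) = Ideal.Quotient.mk I (e y) := by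
      intro x y h
      apply hD
      have hxy := hηI (Ideal.Quotient.eq.1 h)
      rw [map_sub, map_sub] at hxy
      rw [← he y]; linear_combination hxy
    have hDadd : ∀ x y, Ideal.Quotient.mk I (e (x + y)) =
        Ideal.Quotient.mk I (e x) + Ideal.Quotient.mk I (e y) := by
      intro x y
      rw [← map_add]
      apply hD
      rw [map_add, map_add, mul_add, ← he x, ← he y]; ring
    have hDsmul : ∀ (c : k) x, Ideal.Quotient.mk I (e (c • x)) = c • Ideal.Quotient.mk I (e x) := by
      intro c x
      rw [hmksmul]
      apply hD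
      rw [hksmul, hksmul, ← smul_sub, he x, mul_smul_comm]
    have hDmul : ∀ x y, Ideal.Quotient.mk I (e (x * y)) =
        Ideal.Quotient.mk I x * Ideal.Quotient.mk I (e y) +
          Ideal.Quotient.mk I y * Ideal.Quotient.mk I (e x) := by
      intro x y
      rw [← hτmk x, ← hτmk y, ← map_mul, ← map_mul, ← map_add]
      apply hD
      have hx' : η x = τ x + tB * e x := by rw [← he x]; ring
      have hy' : η y = τ y + tB * e y := by rw [← he y]; ring
      rw [map_mul, map_mul, hx', hy']
      linear_combination (e x * e y) * htt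
    let D : B ⧸ I → B ⧸ I := fun q => Ideal.Quotient.mk I (e (Quotient.out q))
    have hDmk : ∀ b, D (Ideal.Quotient.mk I b) = Ideal.Quotient.mk I (e b) := by
      intro b
      apply hDI
      exact Ideal.Quotient.mk_out _
    let d : Derivation k (B ⧸ I) (B ⧸ I) :=
      { toFun := D
        map_add' := by
          intro p q
          obtain ⟨x, rfl⟩ := Ideal.Quotient.mk_surjective p
          obtain ⟨y, rfl⟩ := Ideal.Quotient.mk_surjective q
          rw [← map_add, hDmk, hDmk, hDmk, hDadd]
        map_smul' := by
          intro c p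
          obtain ⟨x, rfl⟩ := Ideal.Quotient.mk_surjective p
          simp only [RingHom.id_apply]
          rw [hmksmul, hDmk, hDmk, hDsmul]
        map_one_eq_zero' := by
          show D 1 = 0
          rw [← map_one (Ideal.Quotient.mk I), hDmk]
          rw [hD (b' := 0) (by simp), map_zero]
        leibniz' := by
          intro p q
          obtain ⟨x, rfl⟩ := Ideal.Quotient.mk_surjective p
          obtain ⟨y, rfl⟩ := Ideal.Quotient.mk_surjective q
          show D (Ideal.Quotient.mk I x * Ideal.Quotient.mk I y) =
            Ideal.Quotient.mk I x • D (Ideal.Quotient.mk I y) +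
              Ideal.Quotient.mk I y • D (Ideal.Quotient.mk I x)
          rw [← map_mul, hDmk, hDmk, hDmk, hDmul, smul_eq_mul, smul_eq_mul] }
    have hdmk : ∀ b, d (Ideal.Quotient.mk I b) = Ideal.Quotient.mk I (e b) := hDmk
    refine ⟨d, ?_, ?_⟩
    · intro b b' hb
      rw [hdmk] at hb
      rw [hmk_eq hb, ← he b]; ring
    · intro d' hd'
      refine Derivation.ext fun q => ?_
      obtain ⟨b, rfl⟩ := Ideal.Quotient.mk_surjective q
      obtain ⟨b', hb'⟩ := Ideal.Quotient.mk_surjective (d' (Ideal.Quotient.mk I b))
      have h1 := hd' b b' hb'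
      have h2 : Ideal.Quotient.mk I (e b) = Ideal.Quotient.mk I b' := hD (by rw [h1]; ring)
      rw [← hb', ← h2]; exact (hdmk b).symm
  · intro d
    let e : B → B := fun b => Quotient.out (d (Ideal.Quotient.mk I b))
    have he : ∀ b, Ideal.Quotient.mk I (e b) = d (Ideal.Quotient.mk I b) :=
      fun b => Ideal.Quotient.mk_out _
    let η₀ : B → B := fun b => τ b + tB * e b
    have key2 : ∀ {b b' : B}, Ideal.Quotient.mk I b' = d (Ideal.Quotient.mk I b) →
        η₀ b = τ b + tB * b' := by
      intro b b' h
      show τ b + tB * e b = _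
      rw [hmk_eq ((he b).trans h.symm)]
    have hτt : ∀ x y, tB * (τ x * y) = tB * (x * y) := by
      intro x y
      have := hkey1 (hτ0 x)
      linear_combination y * this
    have hadd : ∀ x y, η₀ (x + y) = η₀ x + η₀ y := by
      intro x y
      rw [key2 (b' := e x + e y) (by rw [map_add, map_add, he, he, map_add])]
      show _ = (τ x + tB * e x) + (τ y + tB * e y)
      rw [map_add]; ring
    have hmul : ∀ x y, η₀ (x * y) = η₀ x * η₀ y := by
      intro x y
      rw [key2 (b' := x * e y + y * e x) (by
        rw [map_add, map_mul, map_mul, he, he, map_mul, Derivation.leibniz, smul_eq_mul,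
          smul_eq_mul])]
      show _ = (τ x + tB * e x) * (τ y + tB * e y)
      rw [map_mul]
      linear_combination (-(e x * e y)) * htt - hτt x (e y) - hτt y (e x)
    have hone : η₀ 1 = 1 := by
      rw [key2 (b' := 0) (by rw [map_zero, map_one, Derivation.map_one_eq_zero])]
      rw [map_one, mul_zero, add_zero]
    have hcomm : ∀ a : A, η₀ (algebraMap A B a) = algebraMap A B a := by
      intro a
      obtain ⟨c, hc⟩ := hres a
      have hmk : Ideal.Quotient.mk I (algebraMap A B a) = algebraMap k (B ⧸ I) c := by
        have : algebraMap k (B ⧸ I) c =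
            Ideal.Quotient.mk I (algebraMap A B (algebraMap k A c)) := by
          rw [← IsScalarTower.algebraMap_apply k A B]; rfl
        rw [this]
        refine Ideal.Quotient.eq.2 ?_
        rw [← map_sub]
        exact Ideal.mem_map_of_mem _ hc
      rw [key2 (b' := 0) (by rw [map_zero, hmk, Derivation.map_algebraMap])]
      rw [AlgEquiv.commutes, mul_zero, add_zero]
    let ηh : B →ₐ[A] B :=
      { toFun := η₀
        map_one' := hone
        map_mul' := hmul
        map_zero' := by simpa using hcomm 0
        map_add' := hadd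
        commutes' := hcomm }
    have hmkη : ∀ x y, Ideal.Quotient.mk I x = Ideal.Quotient.mk I y → e x = e y := by
      intro x y h
      show Quotient.out (d (Ideal.Quotient.mk I x)) = Quotient.out (d (Ideal.Quotient.mk I y))
      rw [h]
    have hsymm_t : ∀ x, τ.symm (tB * x) = tB * τ.symm x := by
      intro x; rw [map_mul, AlgEquiv.commutes]
    have hinj : Function.Injective ηh := by
      intro x y hxy
      have h1 : τ x + tB * e x = τ y + tB * e y := hxy
      have h2 : τ (x - y) = tB * (e y - e x) := by rw [map_sub]; linear_combination h1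
      have h3 : x - y = tB * τ.symm (e y - e x) := by
        rw [← hsymm_t, ← h2, AlgEquiv.symm_apply_apply]
      have h4 : Ideal.Quotient.mk I x = Ideal.Quotient.mk I y :=
        Ideal.Quotient.eq.2 (h3 ▸ htI _)
      have h5 := hmkη x y h4
      rw [h5] at h1
      exact τ.injective (add_right_cancel h1)
    have hsurj : Function.Surjective ηh := by
      intro y
      refine ⟨τ.symm y - tB * τ.symm (e (τ.symm y)), ?_⟩
      show η₀ _ = y
      have hm : Ideal.Quotient.mk I (τ.symm y - tB * τ.symm (e (τ.symm y))) =
          Ideal.Quotient.mk I (τ.symm y) :=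
        Ideal.Quotient.eq.2 (by simpa using I.neg_mem (htI (τ.symm (e (τ.symm y)))))
      rw [key2 (b' := e (τ.symm y)) (by rw [hm, he])]
      rw [map_sub, map_mul, AlgEquiv.commutes, AlgEquiv.apply_symm_apply,
        AlgEquiv.apply_symm_apply]
      ring
    refine ⟨AlgEquiv.ofBijective ηh ⟨hinj, hsurj⟩, ?_, ?_⟩
    · intro b
      show Ideal.Quotient.mk (Ideal.span {tB}) (η₀ b) = _
      rw [← hτ b]
      refine Ideal.Quotient.eq.2 ?_
      show τ b + tB * e b - τ b ∈ _
      rw [add_sub_cancel_left]
      exact Ideal.mul_mem_right _ _ (Ideal.mem_span_singleton_self _)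
    · intro b b' h
      exact key2 h

end Groth.Agent.S12498
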