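import Groth.Statements.S1250
import Groth.Agent.H32.ElemDevC
import Groth.Agent.S1231

set_option autoImplicit false
universe u
open FlatMor

namespace Groth.Agent.S1250

/-- Given an elementary dévissage E of N at q over p in dimension n, the following are equivalent: N_q
is flat over R; G_z is flat over R'; G_y (G viewed as a D-module) is flat over R'. Also equivalent
to each other: N becomes flat over R on some basic open D(g) ∋ q of Spec S; G becomes flat over R'
on some basic open of Spec C containing z; G as a D-module becomes flat over R' on some basic open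
of Spec D containing y. -/
theorem result {R S : Type u} [CommRing R] [CommRing S] [Algebra R S] [Algebra.FiniteType R S]
    (N : Type u) [AddCommGroup N] [Module S N] [Module R N] [IsScalarTower R S N] [Module.Finite S N]
    (p : Ideal R) [p.IsPrime] (q : Ideal S) [q.IsPrime] [q.LiesOver p] (n : ℕ) (E : FlatCA.ElemDevissage R S N p q n) :
    [FlatCA.FlatAt R q N, FlatCA.FlatAt E.R' E.z E.G, FlatCA.FlatAt E.R' E.y E.G].TFAE ∧
    [∃ g : S, g ∉ q ∧ Module.Flat R (LocalizedModule (Submonoid.powers g) N),
     ∃ g : E.C, g ∉ E.z ∧ Module.Flat E.R' (LocalizedModule (Submonoid.powers g) E.G),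
     ∃ g : E.D, g ∉ E.y ∧ Module.Flat E.R' (LocalizedModule (Submonoid.powers g) E.G)].TFAE := by
  classical
  obtain ⟨hetR, hpOver, -⟩ := E.etaleR
  obtain ⟨hetS, hqOver, -⟩ := E.etaleS
  haveI := hetR
  haveI := hetS
  haveI := hpOver
  haveI := hqOver
  haveI := E.finiteDC
  -- module structures on `N'`
  letI mR'N' : Module E.R' E.N' := Module.compHom E.N' (algebraMap E.R' E.S')
  haveI tR'S'N' : IsScalarTower E.R' E.S' E.N' := ⟨fun r s n => by
    show (r • s) • n = algebraMap E.R' E.S' r • (s • n)
    rw [Algebra.smul_def, mul_smul]⟩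
  letI mRN' : Module R E.N' := Module.compHom E.N' (algebraMap R E.S')
  haveI tRS'N' : IsScalarTower R E.S' E.N' := ⟨fun r s n => by
    show (r • s) • n = algebraMap R E.S' r • (s • n)
    rw [Algebra.smul_def, mul_smul]⟩
  haveI tRR'N' : IsScalarTower R E.R' E.N' := ⟨fun r r' n => by
    show algebraMap E.R' E.S' (r • r') • n = algebraMap R E.S' r • (algebraMap E.R' E.S' r' • n)
    rw [Algebra.smul_def, map_mul, mul_smul, ← IsScalarTower.algebraMap_apply R E.R' E.S']⟩
  haveI tRSN' : IsScalarTower R S E.N' := ⟨fun r s n => by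
    show (r • s) • n = algebraMap R E.S' r • (s • n)
    rw [Algebra.smul_def, mul_smul, IsScalarTower.algebraMap_apply R S E.S',
      algebraMap_smul E.S' (algebraMap R S r) (s • n)]⟩
  haveI tR'S'G : IsScalarTower E.R' E.S' E.G := IsScalarTower.of_algebraMap_smul fun r g => by
    rw [← algebraMap_smul E.C (algebraMap E.R' E.S' r) g,
      ← IsScalarTower.algebraMap_apply E.R' E.S' E.C, algebraMap_smul]
  haveI : Module.Flat S (Localization.AtPrime E.q') := Module.Flat.trans S E.S' _
  have hq'q : E.q'.comap (algebraMap S E.S') = q := hqOver.over.symm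
  have hzq' : E.z.comap (algebraMap E.S' E.C) = E.q' := E.zOver.over.symm
  have hzy : E.z.comap (algebraMap E.D E.C) = E.y := E.zOverY.over.symm
  have huniq : ∀ (Q : Ideal E.C) [Q.IsPrime], Q.comap (algebraMap E.D E.C) = E.y → Q = E.z :=
    fun Q _ hQ => E.uniq Q ⟨hQ.symm⟩
  -- pointwise statements
  have P1 : FlatCA.FlatAt R q N ↔ Module.Flat R (LocalizedModule E.q'.primeCompl E.N') :=
    Groth.Agent.H32.ElemDevA.flat_localizedModule_baseChange_iff (R := R) E.f E.isBaseChange q E.q'
  have P2 : Module.Flat R (LocalizedModule E.q'.primeCompl E.N') ↔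
      Module.Flat E.R' (LocalizedModule E.q'.primeCompl E.N') :=
    (Groth.Agent.S1231.result (R := R) (T := E.R') (C := E.S') E.N' E.q').1
  have P3a : Module.Flat E.R' (LocalizedModule E.q'.primeCompl E.N') ↔
      Module.Flat E.R' (LocalizedModule E.q'.primeCompl E.G) :=
    ⟨Groth.Agent.H32.DevE.flat_localizedModule_of_linearEquiv _ _ _ E.iso,
      Groth.Agent.H32.DevE.flat_localizedModule_of_linearEquiv _ _ _ E.iso.symm⟩
  have P3b : Module.Flat E.R' (LocalizedModule E.q'.primeCompl E.G) ↔
      FlatCA.FlatAt E.R' E.z E.G :=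
    Groth.Agent.H32.DevD.flat_localizedModule_iff_of_surjective (R := E.R') (B := E.S')
      (A := E.C) E.G E.q' E.z E.surjC hzq'
  have P4 : FlatCA.FlatAt E.R' E.y E.G ↔ FlatCA.FlatAt E.R' E.z E.G :=
    Groth.Agent.H32.DevD.flat_localizedModule_iff_of_isIntegral (R := E.R') (B := E.D)
      (A := E.C) E.G E.y E.z hzy huniq
  refine ⟨?_, ?_⟩
  · tfae_have 1 ↔ 2 := P1.trans (P2.trans (P3a.trans P3b))
    tfae_have 3 ↔ 2 := P4
    tfae_finish
  · -- the versions on basic opens
    have hN'G : ∀ g' : E.S', Module.Flat E.R' (LocalizedModule (Submonoid.powers g') E.N') ↔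
        Module.Flat E.R' (LocalizedModule (Submonoid.powers (algebraMap E.S' E.C g')) E.G) :=
      fun g' =>
        (Iff.intro (Groth.Agent.H32.DevE.flat_localizedModule_of_linearEquiv _ _ _ E.iso)
          (Groth.Agent.H32.DevE.flat_localizedModule_of_linearEquiv _ _ _ E.iso.symm)).trans
        (Groth.Agent.H32.ElemDevA.flat_powers_iff_algebraMap (R := E.R') (B := E.S') (A := E.C)
          E.G g')
    have hRR' : ∀ g' : E.S', Module.Flat R (LocalizedModule (Submonoid.powers g') E.N') ↔
        Module.Flat E.R' (LocalizedModule (Submonoid.powers g') E.N') := fun g' =>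
      (Groth.Agent.S1231.result (R := R) (T := E.R') (C := E.S')
        (LocalizedModule (Submonoid.powers g') E.N') E.q').2
    tfae_have 3 → 2 := by
      rintro ⟨g, hg, hfl⟩
      refine ⟨algebraMap E.D E.C g, ?_, ?_⟩
      · intro hgz
        apply hg
        rw [← hzy]
        exact hgz
      · exact (Groth.Agent.H32.ElemDevA.flat_powers_iff_algebraMap (R := E.R') (B := E.D)
          (A := E.C) E.G g).mp hfl
    tfae_have 2 → 3 := by
      rintro ⟨g₁, hg₁, hfl⟩
      obtain ⟨m, b, hb, hmb⟩ := Groth.Agent.H32.ElemDevC.exists_mul_eq_algebraMap E.y E.z huniq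
        g₁ hg₁
      refine ⟨b, hb, ?_⟩
      have h1 := Groth.Agent.H32.ElemDevA.flat_powers_of_dvd (R := E.R') E.G g₁ m hfl
      rw [hmb] at h1
      exact (Groth.Agent.H32.ElemDevA.flat_powers_iff_algebraMap (R := E.R') (B := E.D)
        (A := E.C) E.G b).mpr h1
    tfae_have 1 → 2 := by
      rintro ⟨g, hg, hfl⟩
      have hg' : algebraMap S E.S' g ∉ E.q' := by
        intro h
        apply hg
        rw [← hq'q]
        exact h
      refine ⟨algebraMap E.S' E.C (algebraMap S E.S' g), ?_, ?_⟩
      · intro h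
        apply hg'
        rw [← hzq']
        exact h
      · rw [← hN'G, ← hRR']
        apply Groth.Agent.H32.ElemDevB.flat_powers_of_forall_prime
        intro Q' _ hQ'
        haveI : Q'.LiesOver (Q'.comap (algebraMap S E.S')) := ⟨rfl⟩
        have hgQ : g ∉ Q'.comap (algebraMap S E.S') := hQ'
        have h1 := Groth.Agent.H32.ElemDevA.flat_atPrime_of_flat_powers (R := R) N g
          (Q'.comap (algebraMap S E.S')) hgQ hfl
        haveI : Module.Flat S (Localization.AtPrime Q') := Module.Flat.trans S E.S' _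
        exact Groth.Agent.H32.ElemDevA.flat_localizedModule_baseChange E.f E.isBaseChange
          (Q'.comap (algebraMap S E.S')) Q' h1
    tfae_have 2 → 1 := by
      rintro ⟨g₁, hg₁, hfl⟩
      obtain ⟨g', rfl⟩ := E.surjC g₁
      have hg' : g' ∉ E.q' := by
        intro h
        apply hg₁
        rw [← hzq'] at h
        exact h
      have hflN' : Module.Flat R (LocalizedModule (Submonoid.powers g') E.N') := by
        rw [hRR', hN'G]
        exact hfl
      have hopen : IsOpen (PrimeSpectrum.comap (algebraMap S E.S') ''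
          (PrimeSpectrum.basicOpen g' : Set (PrimeSpectrum E.S'))) :=
        PrimeSpectrum.isOpenMap_comap_of_hasGoingDown_of_finitePresentation (R := S) (S := E.S')
          _ (PrimeSpectrum.basicOpen g').isOpen
      have hqU : (⟨q, inferInstance⟩ : PrimeSpectrum S) ∈
          PrimeSpectrum.comap (algebraMap S E.S') ''
            (PrimeSpectrum.basicOpen g' : Set (PrimeSpectrum E.S')) :=
        ⟨⟨E.q', inferInstance⟩, hg', PrimeSpectrum.ext hq'q⟩
      obtain ⟨V, ⟨g, rfl⟩, hqV, hVU⟩ :=
        PrimeSpectrum.isTopologicalBasis_basic_opens.exists_subset_of_mem_open hqU hopen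
      refine ⟨g, hqV, ?_⟩
      apply Groth.Agent.H32.ElemDevB.flat_powers_of_forall_prime
      intro Q _ hQ
      obtain ⟨Q'', hQ''mem, hQ''eq⟩ := hVU (show (⟨Q, inferInstance⟩ : PrimeSpectrum S) ∈
        (PrimeSpectrum.basicOpen g : Set (PrimeSpectrum S)) from hQ)
      have hQeq : Q''.asIdeal.comap (algebraMap S E.S') = Q :=
        congrArg PrimeSpectrum.asIdeal hQ''eq
      haveI : Q''.asIdeal.LiesOver Q := ⟨hQeq.symm⟩
      have h1 := Groth.Agent.H32.ElemDevA.flat_atPrime_of_flat_powers (R := R) E.N' g'
        Q''.asIdeal hQ''mem hflN'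
      haveI : Module.Flat S (Localization.AtPrime Q''.asIdeal) := Module.Flat.trans S E.S' _
      exact Groth.Agent.H32.FlatAtDescent.flat_localizedModule_of_baseChange E.f E.isBaseChange
        Q Q''.asIdeal h1
    tfae_finish

end Groth.Agent.S1250
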