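import Groth.Statements.S12505
import Groth.Agent.H45.SheafTensor.Sheafify

set_option autoImplicit false
universe u
open CategoryTheory
open ModSite

namespace Groth.Agent.S12505

open CategoryTheory.MonoidalCategory in
/-- Let (C, J) be a small site and O a sheaf of commutative rings on it; for presheaves of O-modules M
and N, with u_M : M → aM and u_N : N → aN the unit maps of the sheafification adjunction (aM, aN
regarded as presheaves), the morphism a(u_M ⊗ u_N) from the sheafification of the presheaf tensor
product M ⊗_p N to the sheafification of aM ⊗_p aN is an isomorphism. -/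
theorem result {C : Type u} [SmallCategory C] {J : GrothendieckTopology C}
    (O : Sheaf J CommRingCat.{u})
    (M N : PresheafOfModules.{u} (O.obj ⋙ forget₂ CommRingCat.{u} RingCat.{u})) :
    IsIso ((ModSite.sheafify O).map
      (MonoidalCategoryStruct.tensorHom (C := PresheafOfModules.{u} (O.obj ⋙ forget₂ CommRingCat.{u} RingCat.{u}))
        ((PresheafOfModules.sheafificationAdjunction (𝟙 (ModSite.ringSh O).obj)).unit.app M)
        ((PresheafOfModules.sheafificationAdjunction (𝟙 (ModSite.ringSh O).obj)).unit.app N))) := by
  have h1 : IsIso ((Groth.Agent.H45.shf O).map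
      (MonoidalCategoryStruct.whiskerRight ((Groth.Agent.H45.shfAdj O).unit.app M) N)) :=
    Groth.Agent.H45.isIso_shf_map_whiskerRight _ _
  have h2 : IsIso ((Groth.Agent.H45.shf O).map
      (MonoidalCategoryStruct.whiskerLeft
        ((Groth.Agent.H45.forg O).obj ((Groth.Agent.H45.shf O).obj M))
        ((Groth.Agent.H45.shfAdj O).unit.app N))) :=
    Groth.Agent.H45.isIso_shf_map_whiskerLeft _ _
  have e : MonoidalCategoryStruct.tensorHom
      (C := PresheafOfModules.{u} (O.obj ⋙ forget₂ CommRingCat.{u} RingCat.{u}))
      ((PresheafOfModules.sheafificationAdjunction (𝟙 (ModSite.ringSh O).obj)).unit.app M)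
      ((PresheafOfModules.sheafificationAdjunction (𝟙 (ModSite.ringSh O).obj)).unit.app N) =
      MonoidalCategoryStruct.whiskerRight ((Groth.Agent.H45.shfAdj O).unit.app M) N ≫
        MonoidalCategoryStruct.whiskerLeft
          ((Groth.Agent.H45.forg O).obj ((Groth.Agent.H45.shf O).obj M))
          ((Groth.Agent.H45.shfAdj O).unit.app N) :=
    MonoidalCategory.tensorHom_def _ _
  rw [e]
  have h3 := (Groth.Agent.H45.shf O).map_comp
    (MonoidalCategoryStruct.whiskerRight ((Groth.Agent.H45.shfAdj O).unit.app M) N)
    (MonoidalCategoryStruct.whiskerLeft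
        ((Groth.Agent.H45.forg O).obj ((Groth.Agent.H45.shf O).obj M))
        ((Groth.Agent.H45.shfAdj O).unit.app N))
  exact h3 ▸ (inferInstance : IsIso ((Groth.Agent.H45.shf O).map
      (MonoidalCategoryStruct.whiskerRight ((Groth.Agent.H45.shfAdj O).unit.app M) N) ≫
      (Groth.Agent.H45.shf O).map (MonoidalCategoryStruct.whiskerLeft
        ((Groth.Agent.H45.forg O).obj ((Groth.Agent.H45.shf O).obj M))
        ((Groth.Agent.H45.shfAdj O).unit.app N))))

end Groth.Agent.S12505
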