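import Groth.Statements.S1251
import Groth.Agent.H32.ElemFPD
import Groth.Agent.H32.ElemDevC

set_option autoImplicit false
universe u
open FlatMor

namespace Groth.Agent.S1251

/-- Given an elementary dévissage E of N at q over p in dimension n, with S of finite presentation over
R: the finite map D → C is of finite presentation; the following are equivalent: N_q is a finitely
presented S_q-module; G_z is a finitely presented C_z-module; G_y is a finitely presented
D_y-module. Also equivalent to each other: N is finitely presented on some basic open of Spec S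
containing q; G is finitely presented on some basic open of Spec C containing z; G as a D-module is
finitely presented on some basic open of Spec D containing y. -/
theorem result {R S : Type u} [CommRing R] [CommRing S] [Algebra R S] [Algebra.FinitePresentation R S]
    (N : Type u) [AddCommGroup N] [Module S N] [Module R N] [IsScalarTower R S N] [Module.Finite S N]
    (p : Ideal R) [p.IsPrime] (q : Ideal S) [q.IsPrime] [q.LiesOver p] (n : ℕ) (E : FlatCA.ElemDevissage R S N p q n) :
    Algebra.FinitePresentation E.D E.C ∧
    [Module.FinitePresentation (Localization.AtPrime q) (LocalizedModule q.primeCompl N),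
     Module.FinitePresentation (Localization.AtPrime E.z) (LocalizedModule E.z.primeCompl E.G),
     Module.FinitePresentation (Localization.AtPrime E.y) (LocalizedModule E.y.primeCompl E.G)].TFAE ∧
    [∃ g : S, g ∉ q ∧ Module.FinitePresentation (Localization.Away g) (LocalizedModule (Submonoid.powers g) N),
     ∃ g : E.C, g ∉ E.z ∧ Module.FinitePresentation (Localization.Away g) (LocalizedModule (Submonoid.powers g) E.G),
     ∃ g : E.D, g ∉ E.y ∧ Module.FinitePresentation (Localization.Away g) (LocalizedModule (Submonoid.powers g) E.G)].TFAE := by
  classical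
  obtain ⟨hetR, hpOver, -⟩ := E.etaleR
  obtain ⟨hetS, hqOver, -⟩ := E.etaleS
  haveI := hetR
  haveI := hetS
  haveI := hpOver
  haveI := hqOver
  haveI := E.finiteDC
  haveI := E.fpC
  have hq'q : E.q'.comap (algebraMap S E.S') = q := hqOver.over.symm
  have hzq' : E.z.comap (algebraMap E.S' E.C) = E.q' := E.zOver.over.symm
  have hzy : E.z.comap (algebraMap E.D E.C) = E.y := E.zOverY.over.symm
  have huniq : ∀ (Q : Ideal E.C) [Q.IsPrime], Q.comap (algebraMap E.D E.C) = E.y → Q = E.z :=
    fun Q _ hQ => E.uniq Q ⟨hQ.symm⟩
  -- finite presentation of the algebras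
  haveI hfpRS' : Algebra.FinitePresentation R E.S' := Algebra.FinitePresentation.trans R S E.S'
  haveI hfpR'S' : Algebra.FinitePresentation E.R' E.S' :=
    Algebra.FinitePresentation.of_restrict_scalars_finitePresentation R E.R' E.S'
  haveI hfpR'C : Algebra.FinitePresentation E.R' E.C :=
    Algebra.FinitePresentation.trans E.R' E.S' E.C
  haveI hfpR'D : Algebra.FinitePresentation E.R' E.D :=
    Groth.Agent.H32.ElemFPD.finitePresentation_of_smoothRelDim n E.R' E.D E.smooth
  haveI hfpDC : Algebra.FinitePresentation E.D E.C :=
    Algebra.FinitePresentation.of_restrict_scalars_finitePresentation E.R' E.D E.C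
  -- finite presentation as modules
  haveI hmodS'C : Module.FinitePresentation E.S' E.C :=
    Groth.Agent.H32.ElemFPD.finitePresentation_module_of_surjective E.C E.surjC
  haveI hfinS'C : Module.Finite E.S' E.C := inferInstance
  haveI hmodDC : Module.FinitePresentation E.D E.C :=
    Module.FinitePresentation.of_finite_of_finitePresentation E.D E.C
  refine ⟨hfpDC, ?_, ?_⟩
  · -- pointwise statements
    have hunits1 : ∀ t : q.primeCompl,
        IsUnit (algebraMap S (Localization E.q'.primeCompl) (t : S)) := by
      intro t
      rw [IsScalarTower.algebraMap_apply S E.S' (Localization E.q'.primeCompl)]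
      refine IsLocalization.map_units (Localization E.q'.primeCompl)
        (⟨algebraMap S E.S' t, ?_⟩ : E.q'.primeCompl)
      intro ht
      have ht' : (t : S) ∈ E.q'.comap (algebraMap S E.S') := ht
      rw [hq'q] at ht'
      exact t.2 ht'
    have P1 : Module.FinitePresentation (Localization.AtPrime q)
        (LocalizedModule q.primeCompl N) ↔
        Module.FinitePresentation (Localization E.q'.primeCompl)
          (LocalizedModule E.q'.primeCompl E.N') := by
      constructor
      · exact Groth.Agent.H32.ElemFPC.finitePresentation_loc q.primeCompl E.q'.primeCompl E.f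
          E.isBaseChange hunits1
      · refine Groth.Agent.H32.ElemFPC.finitePresentation_loc_desc q.primeCompl E.q'.primeCompl
          E.f E.isBaseChange hunits1 ?_
        intro P _ hP
        have hPq : P ≤ q := by
          intro x hx
          by_contra hxq
          exact Set.disjoint_left.mp hP hxq hx
        obtain ⟨P', hP'le, hP'prime, hP'over⟩ :=
          Ideal.exists_ideal_le_liesOver_of_le (p := P) (q := q) E.q' hPq
        refine ⟨P', hP'prime, ?_, hP'over.over.symm⟩
        rw [Set.disjoint_left]
        intro x hx hxP'
        exact hx (hP'le hxP')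
    have P2 : Module.FinitePresentation (Localization E.q'.primeCompl)
        (LocalizedModule E.q'.primeCompl E.N') ↔
        Module.FinitePresentation (Localization E.q'.primeCompl)
          (LocalizedModule E.q'.primeCompl E.G) :=
      ⟨Groth.Agent.H32.ElemFPD.finitePresentation_of_linearEquiv _ E.iso,
        Groth.Agent.H32.ElemFPD.finitePresentation_of_linearEquiv _ E.iso.symm⟩
    have P3 : Module.FinitePresentation (Localization E.q'.primeCompl)
        (LocalizedModule E.q'.primeCompl E.G) ↔
        Module.FinitePresentation (Localization.AtPrime E.z)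
          (LocalizedModule E.z.primeCompl E.G) := by
      apply Groth.Agent.H32.ElemFPB.finitePresentation_localizedModule_iff
      · intro b hb hbz
        apply hb
        rw [← hzq']
        exact hbz
      · intro x hx
        obtain ⟨b, rfl⟩ := E.surjC x
        refine ⟨1, b, ?_, one_mul _⟩
        intro hb
        rw [← hzq'] at hb
        exact hx hb
    have P4 : Module.FinitePresentation (Localization.AtPrime E.y)
        (LocalizedModule E.y.primeCompl E.G) ↔
        Module.FinitePresentation (Localization.AtPrime E.z)
          (LocalizedModule E.z.primeCompl E.G) := by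
      apply Groth.Agent.H32.ElemFPB.finitePresentation_localizedModule_iff
      · intro b hb hbz
        apply hb
        rw [← hzy]
        exact hbz
      · intro x hx
        obtain ⟨m, b, hb, hmb⟩ :=
          Groth.Agent.H32.ElemDevC.exists_mul_eq_algebraMap E.y E.z huniq x hx
        exact ⟨m, b, hb, hmb⟩
    tfae_have 1 ↔ 2 := P1.trans (P2.trans P3)
    tfae_have 3 ↔ 2 := P4
    tfae_finish
  · -- the versions on basic opens
    -- `D`-`C` comparison on matching basic opens
    have hDC : ∀ b : E.D, Module.FinitePresentation (Localization.Away b)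
        (LocalizedModule (Submonoid.powers b) E.G) ↔
        Module.FinitePresentation (Localization.Away (algebraMap E.D E.C b))
          (LocalizedModule (Submonoid.powers (algebraMap E.D E.C b)) E.G) := by
      intro b
      apply Groth.Agent.H32.ElemFPB.finitePresentation_localizedModule_iff
      · rintro _ ⟨k, rfl⟩
        exact ⟨k, by rw [map_pow]⟩
      · rintro _ ⟨k, rfl⟩
        exact ⟨1, b ^ k, ⟨k, rfl⟩, by rw [one_mul, map_pow]⟩
    have hS'C : ∀ g' : E.S', Module.FinitePresentation (Localization.Away g')
        (LocalizedModule (Submonoid.powers g') E.G) ↔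
        Module.FinitePresentation (Localization.Away (algebraMap E.S' E.C g'))
          (LocalizedModule (Submonoid.powers (algebraMap E.S' E.C g')) E.G) := by
      intro g'
      apply Groth.Agent.H32.ElemFPB.finitePresentation_localizedModule_iff
      · rintro _ ⟨k, rfl⟩
        exact ⟨k, by rw [map_pow]⟩
      · rintro _ ⟨k, rfl⟩
        exact ⟨1, g' ^ k, ⟨k, rfl⟩, by rw [one_mul, map_pow]⟩
    have hN'G : ∀ g' : E.S', Module.FinitePresentation (Localization.Away g')
        (LocalizedModule (Submonoid.powers g') E.N') ↔
        Module.FinitePresentation (Localization.Away g')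
          (LocalizedModule (Submonoid.powers g') E.G) := fun g' =>
      ⟨Groth.Agent.H32.ElemFPD.finitePresentation_of_linearEquiv _ E.iso,
        Groth.Agent.H32.ElemFPD.finitePresentation_of_linearEquiv _ E.iso.symm⟩
    tfae_have 3 → 2 := by
      rintro ⟨g, hg, hfp⟩
      refine ⟨algebraMap E.D E.C g, ?_, (hDC g).mp hfp⟩
      intro hgz
      have : g ∈ E.z.comap (algebraMap E.D E.C) := hgz
      rw [hzy] at this
      exact hg this
    tfae_have 2 → 3 := by
      rintro ⟨g₁, hg₁, hfp⟩
      obtain ⟨m, b, hb, hmb⟩ :=
        Groth.Agent.H32.ElemDevC.exists_mul_eq_algebraMap E.y E.z huniq g₁ hg₁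
      refine ⟨b, hb, ?_⟩
      have h1 := Groth.Agent.H32.ElemFPD.finitePresentation_powers_of_dvd g₁ m hfp
      rw [hmb] at h1
      exact (hDC b).mpr h1
    tfae_have 1 → 2 := by
      rintro ⟨g, hg, hfp⟩
      have hg' : algebraMap S E.S' g ∉ E.q' := by
        intro h
        have : g ∈ E.q'.comap (algebraMap S E.S') := h
        rw [hq'q] at this
        exact hg this
      refine ⟨algebraMap E.S' E.C (algebraMap S E.S' g), ?_, ?_⟩
      · intro h
        have : algebraMap S E.S' g ∈ E.z.comap (algebraMap E.S' E.C) := h
        rw [hzq'] at this
        exact hg' this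
      · rw [← hS'C, ← hN'G]
        refine Groth.Agent.H32.ElemFPC.finitePresentation_loc (Submonoid.powers g)
          (Submonoid.powers (algebraMap S E.S' g)) E.f E.isBaseChange ?_ hfp
        rintro ⟨_, k, rfl⟩
        rw [IsScalarTower.algebraMap_apply S E.S' (Localization _), map_pow]
        exact IsLocalization.map_units _
          (⟨algebraMap S E.S' g ^ k, ⟨k, rfl⟩⟩ : Submonoid.powers (algebraMap S E.S' g))
    tfae_have 2 → 1 := by
      rintro ⟨g₁, hg₁, hfp⟩
      obtain ⟨g', rfl⟩ := E.surjC g₁
      have hg' : g' ∉ E.q' := by
        intro h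
        rw [← hzq'] at h
        exact hg₁ h
      have hfpN' : Module.FinitePresentation (Localization.Away g')
          (LocalizedModule (Submonoid.powers g') E.N') := by
        rw [hN'G, hS'C]
        exact hfp
      have hopen : IsOpen (PrimeSpectrum.comap (algebraMap S E.S') ''
          (PrimeSpectrum.basicOpen g' : Set (PrimeSpectrum E.S'))) :=
        PrimeSpectrum.isOpenMap_comap_of_hasGoingDown_of_finitePresentation (R := S) (S := E.S')
          _ (PrimeSpectrum.basicOpen g').isOpen
      have hqU : (⟨q, inferInstance⟩ : PrimeSpectrum S) ∈
          PrimeSpectrum.comap (algebraMap S E.S') ''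
            (PrimeSpectrum.basicOpen g' : Set (PrimeSpectrum E.S')) :=
        ⟨⟨E.q', inferInstance⟩, hg', PrimeSpectrum.ext hq'q⟩
      obtain ⟨V, ⟨g, rfl⟩, hqV, hVU⟩ :=
        PrimeSpectrum.isTopologicalBasis_basic_opens.exists_subset_of_mem_open hqU hopen
      refine ⟨g, hqV, ?_⟩
      -- pass to the smaller basic open `D(g g')` of `Spec S'`
      have h1 := Groth.Agent.H32.ElemFPD.finitePresentation_powers_of_dvd g'
        (algebraMap S E.S' g) hfpN'
      refine Groth.Agent.H32.ElemFPC.finitePresentation_loc_desc (Submonoid.powers g)
        (Submonoid.powers (algebraMap S E.S' g * g')) E.f E.isBaseChange ?_ ?_ h1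
      · rintro ⟨_, k, rfl⟩
        rw [IsScalarTower.algebraMap_apply S E.S' (Localization _), map_pow, map_pow]
        apply IsUnit.pow
        have hu : IsUnit (algebraMap E.S' (Localization (Submonoid.powers
            (algebraMap S E.S' g * g'))) (algebraMap S E.S' g * g')) :=
          IsLocalization.map_units _ (⟨algebraMap S E.S' g * g', Submonoid.mem_powers _⟩ :
            Submonoid.powers (algebraMap S E.S' g * g'))
        rw [map_mul] at hu
        exact isUnit_of_mul_isUnit_left hu
      · intro P _ hP
        have hgP : g ∉ P := Groth.Agent.H32.ElemFPD.notMem_of_disjoint_powers g P hP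
        obtain ⟨Q', hQ'mem, hQ'eq⟩ := hVU (show (⟨P, inferInstance⟩ : PrimeSpectrum S) ∈
          (PrimeSpectrum.basicOpen g : Set (PrimeSpectrum S)) from hgP)
        have hPeq : Q'.asIdeal.comap (algebraMap S E.S') = P :=
          congrArg PrimeSpectrum.asIdeal hQ'eq
        refine ⟨Q'.asIdeal, Q'.2, ?_, hPeq⟩
        apply Groth.Agent.H32.ElemFPD.disjoint_powers_of_notMem
        intro hmul
        rcases Ideal.IsPrime.mem_or_mem Q'.2 hmul with h | h
        · apply hgP
          rw [← hPeq]
          exact h
        · exact hQ'mem h
    tfae_finish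

end Groth.Agent.S1251
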