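import Groth.Statements.S12515
import Groth.Agent.H62.Quad
-- import your own Groth.Agent.* helpers here

set_option autoImplicit false
open FunFld

namespace Groth.Agent.S12515

/-- If `char k ≠ 2` and `K` has degree `2` over the rational function field `k(x)`, then `K = k(x)(y)`
for some `y` with `y² = f(x)`, `f` a squarefree polynomial over `k`. -/
theorem result (k K : Type*) [Field k] [Field K] (h2 : ringChar k ≠ 2)
    [Algebra (RatFunc k) K] (hdeg : Module.finrank (RatFunc k) K = 2) :
    ∃ (y : K) (f : Polynomial k), Squarefree f ∧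
      y ^ 2 = algebraMap (RatFunc k) K (algebraMap (Polynomial k) (RatFunc k) f) ∧
      IntermediateField.adjoin (RatFunc k) ({y} : Set K) = ⊤ := by
  obtain ⟨α, b, c, hα, hrel, -⟩ := Groth.Agent.H62.exists_quadratic hdeg
  have h2k : (2 : k) ≠ 0 := Ring.two_ne_zero h2
  have h2F : (2 : RatFunc k) ≠ 0 := by
    have : algebraMap k (RatFunc k) 2 ≠ 0 := by
      rwa [Ne, map_eq_zero]
    rwa [map_ofNat] at this
  have h2K : (2 : K) ≠ 0 := by
    have : algebraMap (RatFunc k) K 2 ≠ 0 := by
      rwa [Ne, map_eq_zero]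
    rwa [map_ofNat] at this
  set B := algebraMap (RatFunc k) K b with hB
  set Cc := algebraMap (RatFunc k) K c with hC
  let y₀ : K := α + B / 2
  let g : RatFunc k := (b / 2) ^ 2 - c
  have hB2 : 2 * (B / 2) = B := by field_simp
  have hy₀ : y₀ ^ 2 = algebraMap (RatFunc k) K g := by
    simp only [y₀, g, map_sub, map_div₀, map_pow, map_ofNat, ← hB, ← hC]
    linear_combination hrel + α * hB2
  have hy₀range : y₀ ∉ Set.range (algebraMap (RatFunc k) K) := by
    rintro ⟨r, hr⟩
    apply hα
    refine ⟨r - b / 2, ?_⟩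
    rw [map_sub, hr, map_div₀, map_ofNat]
    change α + B / 2 - B / 2 = α
    ring
  have hy₀0 : y₀ ≠ 0 := by
    intro h0
    exact hy₀range ⟨0, by rw [map_zero, h0]⟩
  have hg0 : g ≠ 0 := by
    intro h0
    rw [h0, map_zero] at hy₀
    exact hy₀0 (pow_eq_zero_iff (two_ne_zero) |>.mp hy₀)
  have hnum : g.num ≠ 0 := RatFunc.num_ne_zero hg0
  have hden : g.denom ≠ 0 := RatFunc.denom_ne_zero g
  obtain ⟨s, f, hs, hf, hsf⟩ := Groth.Agent.H62.exists_sq_mul_squarefree (g.num * g.denom)
    (mul_ne_zero hnum hden)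
  set φ : Polynomial k →+* K :=
    (algebraMap (RatFunc k) K).comp (algebraMap (Polynomial k) (RatFunc k)) with hφ
  have hφinj : Function.Injective φ :=
    (algebraMap (RatFunc k) K).injective.comp (IsFractionRing.injective (Polynomial k) (RatFunc k))
  have hS : φ s ≠ 0 := by rwa [Ne, map_eq_zero_iff φ hφinj]
  have hD : φ g.denom ≠ 0 := by rwa [Ne, map_eq_zero_iff φ hφinj]
  have hG : algebraMap (RatFunc k) K g = φ g.num / φ g.denom := by
    conv_lhs => rw [← RatFunc.num_div_denom g]
    rw [map_div₀]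
    rfl
  refine ⟨φ g.denom / φ s * y₀, f, hf, ?_, ?_⟩
  · change _ = φ f
    have h1 : φ g.num * φ g.denom = φ s ^ 2 * φ f := by
      rw [← map_mul, hsf, map_mul, map_pow]
    calc (φ g.denom / φ s * y₀) ^ 2 = φ g.denom ^ 2 / φ s ^ 2 * y₀ ^ 2 := by ring
      _ = φ g.denom ^ 2 / φ s ^ 2 * (φ g.num / φ g.denom) := by rw [hy₀, hG]
      _ = (φ g.num * φ g.denom) / φ s ^ 2 := by field_simp
      _ = φ f := by rw [h1]; field_simp
  · apply Groth.Agent.H62.adjoin_eq_top_of_finrank_two hdeg
    rintro ⟨r, hr⟩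
    apply hy₀range
    refine ⟨algebraMap (Polynomial k) (RatFunc k) s / algebraMap (Polynomial k) (RatFunc k) g.denom
      * r, ?_⟩
    rw [map_mul, hr, map_div₀]
    change φ s / φ g.denom * (φ g.denom / φ s * y₀) = y₀
    field_simp

end Groth.Agent.S12515
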