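import Groth.Statements.S12516
import Groth.Agent.H62.FFHyper2
-- import your own Groth.Agent.* helpers here

set_option autoImplicit false
open FunFld

open FunFld WithZero Module Groth.Agent.H55 Groth.Agent.H62.FFTower Groth.Agent.H62.FFExtDeg
  Groth.Agent.H62.FFRat Groth.Agent.H62.FFHyper Groth.Agent.H62.FFHyper2 Groth.Agent.H62.FFParity

namespace Groth.Agent.S12516

/-- Let `char k ≠ 2`, `K` of degree `2` over `k(x)`, `y ∈ K` with `y² = f(x)` for a squarefree
polynomial `f` of degree `≥ 1`, and `P∞` the place of `k(x)` at which `x` has a pole. If `deg f` is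
odd there is a unique place of `K` above `P∞`; it has ramification index `2` and degree `1`. If `deg
f` is even, every place of `K` above `P∞` is unramified and the conorm of `P∞` has degree `2` (so it
is one place of degree `2` or the sum of two places of degree `1`). -/
theorem result (k K : Type*) [Field k] [Field K] (h2 : ringChar k ≠ 2) [Algebra k K]
    [Algebra (RatFunc k) K] [IsScalarTower k (RatFunc k) K]
    (hdeg : Module.finrank (RatFunc k) K = 2) (y : K) (f : Polynomial k) (hf : Squarefree f)
    (hd : 1 ≤ f.natDegree)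
    (heq : y ^ 2 = algebraMap (RatFunc k) K (algebraMap (Polynomial k) (RatFunc k) f))
    (Pinf : FunFld.Place k (RatFunc k)) (hinf : Pinf.ord (RatFunc.X : RatFunc k) < 0) :
    (Odd f.natDegree → (∃! P : FunFld.Place k K, FunFld.IsOver P Pinf) ∧
      ∀ P : FunFld.Place k K, FunFld.IsOver P Pinf → FunFld.IsOverWith P Pinf 2 ∧ P.deg = 1) ∧
    (Even f.natDegree → (FunFld.conorm K (Finsupp.single Pinf 1)).deg = 2 ∧
      ∀ P : FunFld.Place k K, FunFld.IsOver P Pinf → FunFld.IsOverWith P Pinf 1) := by
  have hK₀ : IsFunctionField k (RatFunc k) := isFunctionField_ratFunc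
  have hfd : FiniteDimensional (RatFunc k) K := finiteDimensional_of_finrank_two hdeg
  have hf0 : f ≠ 0 := hf.ne_zero
  have hinj : Function.Injective (algebraMap (Polynomial k) (RatFunc k)) :=
    IsFractionRing.injective (Polynomial k) (RatFunc k)
  have hF0 : algebraMap (Polynomial k) (RatFunc k) f ≠ 0 := (map_ne_zero_iff _ hinj).mpr hf0
  have hX0 : (RatFunc.X : RatFunc k) ≠ 0 := RatFunc.X_ne_zero
  have hinf' : 1 < Pinf.1 (RatFunc.X : RatFunc k) := (Place.ord_neg_iff Pinf hX0).mp hinf
  obtain ⟨hordX, hdeginf, -⟩ := infinite_place Pinf hinf'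
  have hordF : Pinf.ord (algebraMap (Polynomial k) (RatFunc k) f) = -(f.natDegree : ℤ) :=
    ord_poly_infinite Pinf hinf' hf0
  have hynot : y ∉ Set.range (algebraMap (RatFunc k) K) := not_mem_range_of_sq_eq hf hd heq
  constructor
  · -- odd degree
    intro hodd
    have hram : ∀ P : FunFld.Place k K, FunFld.IsOver P Pinf → FunFld.IsOverWith P Pinf 2 := by
      rintro P ⟨e, he⟩
      have h1 := two_mul_ord heq he
      rw [hordF] at h1
      rcases ramIdx_eq_one_or_two hK₀ hdeg he with rfl | rfl
      · exfalso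
        obtain ⟨j, hj⟩ := hodd
        rw [hj] at h1
        push_cast at h1
        omega
      · exact he
    have huniq : ∀ P : FunFld.Place k K, FunFld.IsOver P Pinf →
        P.deg = Pinf.deg ∧ ∀ Q' : FunFld.Place k K, FunFld.IsOver Q' Pinf → Q' = P := by
      intro P hP
      exact unique_of_ramIdx_eq_finrank hK₀ hP (by rw [ramIdx_eq (hram P hP), hdeg])
    obtain ⟨Q, hQ⟩ := exists_isOver (K' := K) hK₀ Pinf
    refine ⟨⟨Q, hQ, fun Q' hQ' => (huniq Q hQ).2 Q' hQ'⟩, fun P hP => ⟨hram P hP, ?_⟩⟩
    rw [(huniq P hP).1, hdeginf]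
  · -- even degree
    intro heven
    refine ⟨?_, ?_⟩
    · rw [deg_conorm_single hK₀, hdeg, hdeginf]
      norm_num
    · rintro P ⟨e, he⟩
      rcases ramIdx_eq_one_or_two hK₀ hdeg he with rfl | rfl
      · exact he
      · exfalso
        obtain ⟨m, hm⟩ := heven
        set x : K := algebraMap (RatFunc k) K RatFunc.X with hx
        have hx0 : x ≠ 0 := by
          rw [hx, Ne, map_eq_zero_iff _ (algebraMap (RatFunc k) K).injective]
          exact hX0
        set z : K := y * (x ^ m)⁻¹ with hz
        have hxm0 : x ^ m ≠ 0 := pow_ne_zero _ hx0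
        have hzsq : z ^ 2 = algebraMap (RatFunc k) K
            (algebraMap (Polynomial k) (RatFunc k) f * ((RatFunc.X : RatFunc k) ^ (2 * m))⁻¹) := by
          rw [hz, mul_pow, heq, map_mul, map_inv₀, map_pow, ← hx, inv_pow, ← pow_mul, mul_comm m 2]
        have hy0 : y ≠ 0 := fun h => hynot ⟨0, by rw [map_zero, h]⟩
        have hz0 : z ≠ 0 := mul_ne_zero hy0 (inv_ne_zero hxm0)
        have hordz : P.ord z = 0 := by
          have h1 := two_mul_ord hzsq he
          rw [Place.ord_mul Pinf hF0 (inv_ne_zero (pow_ne_zero _ hX0)), Place.ord_inv,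
            Place.ord_pow, hordF, hordX, hm] at h1
          push_cast at h1
          have : (2 : ℤ) * P.ord z = 0 := by rw [h1]; ring
          omega
        have hvz : P.1 z = 1 := by
          rw [Place.val_eq_exp_neg_ord P hz0, hordz, neg_zero, exp_zero]
        have h2k : (2 : k) ≠ 0 := Ring.two_ne_zero h2
        apply not_isOverWith_two hdeg he z (-z)
        · rintro ⟨r, hr⟩
          apply hynot
          refine ⟨r * (RatFunc.X : RatFunc k) ^ m, ?_⟩
          rw [map_mul, map_pow, ← hx, hr, hz, mul_assoc, inv_mul_cancel₀ hxm0, mul_one]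
        · exact ⟨0, by rw [map_zero, add_neg_cancel]⟩
        · refine ⟨-(algebraMap (Polynomial k) (RatFunc k) f *
            ((RatFunc.X : RatFunc k) ^ (2 * m))⁻¹), ?_⟩
          rw [map_neg, ← hzsq]
          ring
        · exact hvz.le
        · have : z - -z = algebraMap k K 2 * z := by
            rw [map_ofNat]
            ring
          rw [this, map_mul, Place.val_algebraMap_eq_one P h2k, hvz, one_mul]

end Groth.Agent.S12516
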