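import Groth.Statements.S12517
import Groth.Agent.H62.Quad
-- import your own Groth.Agent.* helpers here

set_option autoImplicit false
open FunFld

namespace Groth.Agent.S12517

/-- If `k` is perfect of characteristic `2` and `K` is a separable extension of degree `2` of the
rational function field `k(x)`, then `K = k(x)(y)` for some `y` with `y² + y = f(x)`, `f ∈ k(x)`.
The correspondence between such extensions and cosets of `{a² + a}` in `k(x)` is not stated. -/
theorem result (k K : Type*) [Field k] [Field K] [PerfectField k]
    (h2 : ringChar k = 2) [Algebra (RatFunc k) K] (hdeg : Module.finrank (RatFunc k) K = 2)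
    [Algebra.IsSeparable (RatFunc k) K] :
    ∃ (y : K) (f : RatFunc k), y ^ 2 + y = algebraMap (RatFunc k) K f ∧
      IntermediateField.adjoin (RatFunc k) ({y} : Set K) = ⊤ := by
  obtain ⟨α, b, c, hα, hrel, hmin⟩ := Groth.Agent.H62.exists_quadratic hdeg
  have hchar : CharP k 2 := h2 ▸ ringChar.charP k
  have h2F : (2 : RatFunc k) = 0 := by
    have h2k : (2 : k) = 0 := by
      have := CharP.cast_eq_zero k 2
      exact_mod_cast this
    have : algebraMap k (RatFunc k) 2 = 0 := by rw [h2k, map_zero]
    rwa [map_ofNat] at this
  have hsep : (minpoly (RatFunc k) α).Separable := Algebra.IsSeparable.isSeparable (RatFunc k) α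
  have hb : b ≠ 0 := by
    rintro rfl
    rw [hmin] at hsep
    have hder : Polynomial.derivative
        (Polynomial.X ^ 2 + Polynomial.C (0 : RatFunc k) * Polynomial.X + Polynomial.C c) = 0 := by
      simp only [map_zero, zero_mul, add_zero, Polynomial.derivative_add,
        Polynomial.derivative_X_pow, Polynomial.derivative_C]
      have : (Polynomial.C ((2 : ℕ) : RatFunc k)) = 0 := by
        rw [Nat.cast_ofNat, h2F, map_zero]
      rw [this, zero_mul]
    rw [Polynomial.separable_def, hder, isCoprime_zero_right] at hsep
    have := Polynomial.natDegree_eq_zero_of_isUnit hsep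
    rw [← hmin] at this
    have hint : IsIntegral (RatFunc k) α := by
      have hfin : FiniteDimensional (RatFunc k) K := FiniteDimensional.of_finrank_pos (by omega)
      exact Algebra.IsIntegral.isIntegral α
    have := minpoly.natDegree_pos hint
    omega
  have hB : algebraMap (RatFunc k) K b ≠ 0 := by
    rwa [Ne, map_eq_zero]
  refine ⟨α / algebraMap (RatFunc k) K b, -c / b ^ 2, ?_, ?_⟩
  · rw [map_div₀, map_neg, map_pow]
    field_simp
    linear_combination hrel
  · apply Groth.Agent.H62.adjoin_eq_top_of_finrank_two hdeg
    rintro ⟨r, hr⟩
    apply hα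
    refine ⟨b * r, ?_⟩
    rw [map_mul, hr]
    field_simp

end Groth.Agent.S12517
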