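import Groth.Statements.S12518
import Groth.Agent.H62.FFAS
import Groth.Agent.S12517
-- import your own Groth.Agent.* helpers here

set_option autoImplicit false
open FunFld

open FunFld WithZero Module Groth.Agent.H55 Groth.Agent.H62.FFRat Groth.Agent.H62.FFAS

namespace Groth.Agent.S12518

/-- If `k` is perfect of characteristic `2` and `K` is a separable extension of degree `2` of `k(x)`,
then `K = k(x)(y)` for some `y` with `y² + y = f(x)` such that every pole of `f`, at any place of
`k(x)/k` including the infinite one, has odd order. -/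
theorem result (k K : Type*) [Field k] [Field K] [PerfectField k] (h2 : ringChar k = 2)
    [Algebra k K] [Algebra (RatFunc k) K] [IsScalarTower k (RatFunc k) K]
    (hdeg : Module.finrank (RatFunc k) K = 2) [Algebra.IsSeparable (RatFunc k) K] :
    ∃ (y : K) (f : RatFunc k), y ^ 2 + y = algebraMap (RatFunc k) K f ∧
      IntermediateField.adjoin (RatFunc k) ({y} : Set K) = ⊤ ∧
      ∀ P : FunFld.Place k (RatFunc k), P.ord f < 0 → Odd (P.ord f) := by
  obtain ⟨y₀, f₀, h₀, hadj⟩ := Groth.Agent.S12517.result k K h2 hdeg
  have hK₀ : IsFunctionField k (RatFunc k) := isFunctionField_ratFunc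
  have hgenus : genus k (RatFunc k) = 0 := genus_eq_zero_of_adjoin_eq_top hK₀ RatFunc.adjoin_X
  have h2k : (2 : k) = 0 := by
    have := ringChar.Nat.cast_ringChar (R := k)
    rw [h2] at this
    exact_mod_cast this
  have h2K : (2 : K) = 0 := by
    have : (2 : K) = algebraMap k K 2 := by rw [map_ofNat]
    rw [this, h2k, map_zero]
  obtain ⟨g, hg⟩ := exists_odd_poles hK₀ hgenus h2k f₀
  refine ⟨y₀ + algebraMap (RatFunc k) K g, f₀ + g ^ 2 + g, ?_, ?_, hg⟩
  · rw [map_add, map_add, map_pow, ← h₀]
    have : (y₀ + algebraMap (RatFunc k) K g) ^ 2 + (y₀ + algebraMap (RatFunc k) K g) =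
        y₀ ^ 2 + y₀ + algebraMap (RatFunc k) K g ^ 2 + algebraMap (RatFunc k) K g +
          2 * (y₀ * algebraMap (RatFunc k) K g) := by ring
    rw [this, h2K, zero_mul, add_zero]
  · rw [eq_top_iff, ← hadj, IntermediateField.adjoin_simple_le_iff]
    have h1 : y₀ + algebraMap (RatFunc k) K g ∈
        IntermediateField.adjoin (RatFunc k) ({y₀ + algebraMap (RatFunc k) K g} : Set K) :=
      IntermediateField.mem_adjoin_simple_self _ _
    have h3 : algebraMap (RatFunc k) K g ∈
        IntermediateField.adjoin (RatFunc k) ({y₀ + algebraMap (RatFunc k) K g} : Set K) :=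
      IntermediateField.algebraMap_mem _ g
    have := sub_mem h1 h3
    rwa [add_sub_cancel_right] at this

end Groth.Agent.S12518
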