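import Groth.Statements.S12520
import Groth.Agent.H55.Sep3
-- import your own Groth.Agent.* helpers here

set_option autoImplicit false
universe u v
open FunFld

namespace Groth.Agent.S12520

/-- For a geometric function field of one variable `K/k` of characteristic `p > 0` and a geometric
function field `K₀/k₀` with `K₀ ⊆ K` of finite index (and `k₀ ⊆ k` compatibly), the map `Ω_{K₀/k₀} →
Ω_{K/k}` induced by the inclusion vanishes when `K₀ ⊆ kK^p` and is injective otherwise. -/
theorem result (k₀ k : Type u) (K₀ K : Type v) [Field k₀] [Field k] [Field K₀] [Field K]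
    [Algebra k₀ k] [Algebra k₀ K₀] [Algebra k₀ K] [Algebra k K] [Algebra K₀ K]
    [IsScalarTower k₀ k K] [IsScalarTower k₀ K₀ K] [FiniteDimensional K₀ K]
    (p : ℕ) [Fact p.Prime] [CharP K p]
    (hK : FunFld.IsFunctionField k K) (hg : FunFld.IsGeometric k K)
    (hK₀ : FunFld.IsFunctionField k₀ K₀) (hg₀ : FunFld.IsGeometric k₀ K₀) :
    (Set.range (algebraMap K₀ K) ⊆ ↑(IntermediateField.adjoin k (Set.range fun y : K => y ^ p)) →
      KaehlerDifferential.map k₀ k K₀ K = 0) ∧
    (¬ Set.range (algebraMap K₀ K) ⊆ ↑(IntermediateField.adjoin k (Set.range fun y : K => y ^ p)) →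
      Function.Injective (KaehlerDifferential.map k₀ k K₀ K)) := by
  have hFp : (IntermediateField.adjoin k (Set.range fun y : K => y ^ p)) = H55.Fp k K p := rfl
  refine ⟨fun hsub => ?_, fun hnot => ?_⟩
  · -- the map kills every `D x`, which span
    apply LinearMap.ext_on_range (KaehlerDifferential.span_range_derivation k₀ K₀)
    intro x
    rw [KaehlerDifferential.map_D, LinearMap.zero_apply]
    have hx : algebraMap K₀ K x ∈ H55.Fp k K p := hsub ⟨x, rfl⟩
    exact (H55.Fp_le_kerD (k := k) (K := K) p) hx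
  · rw [Set.not_subset] at hnot
    obtain ⟨_, ⟨x₀, rfl⟩, hx₀⟩ := hnot
    have hx₀' : algebraMap K₀ K x₀ ∉ H55.Fp k K p := hx₀
    have hD : KaehlerDifferential.D k K (algebraMap K₀ K x₀) ≠ 0 := by
      intro h0
      exact hx₀' (((H55.mem_Fp_iff hK hg p (algebraMap K₀ K x₀)).1).2 h0)
    have hD₀ : KaehlerDifferential.D k₀ K₀ x₀ ≠ 0 := by
      intro h0
      apply hD
      rw [← KaehlerDifferential.map_D k₀ k K₀ K, h0, map_zero]
    have h1 := H55.finrank_kaehler_eq_one hK₀ hg₀
    have hfin : Module.Finite K₀ (KaehlerDifferential k₀ K₀) :=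
      Module.finite_of_finrank_eq_succ h1
    have hspan : ∀ ω : KaehlerDifferential k₀ K₀, ∃ c : K₀, c • KaehlerDifferential.D k₀ K₀ x₀ = ω :=
      (finrank_eq_one_iff_of_nonzero' _ hD₀).mp h1
    rw [injective_iff_map_eq_zero]
    intro ω hω
    obtain ⟨c, rfl⟩ := hspan ω
    rw [map_smul, KaehlerDifferential.map_D, ← algebraMap_smul K c,
      smul_eq_zero] at hω
    rcases hω with hc | hd
    · have : c = 0 := by
        have hinj := (algebraMap K₀ K).injective
        apply hinj
        rw [hc, map_zero]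
      rw [this, zero_smul]
    · exact absurd hd hD

end Groth.Agent.S12520
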