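import Groth.Statements.S12524
import Groth.Agent.H62.PSeriesLift
-- import your own Groth.Agent.* helpers here

set_option autoImplicit false
universe u v
open CAlg

open Groth.Agent.H62.PSeriesLift

namespace Groth.Agent.S12524

open IsLocalRing in
/-- Let `A` be a complete discrete valuation ring with maximal ideal `m`, containing a field `K` such
that `K → A → A/m` is bijective (a coefficient field), and let `x` be any generator of `m`. Then the
`K`-algebra map `K[X] → A`, `X ↦ x`, extends to a bijective `K`-algebra map `φ : K⟦X⟧ → A`,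
characterised by `φ(∑ aᵢ Xⁱ) ≡ ∑_{i<n} aᵢ xⁱ (mod mⁿ)` for every `n`. -/
theorem result (K : Type u) (A : Type v) [Field K]
    [CommRing A] [IsDomain A] [IsDiscreteValuationRing A] [Algebra K A]
    [IsAdicComplete (maximalIdeal A) A]
    (hK : Function.Bijective ((residue A).comp (algebraMap K A)))
    (x : A) (hx : maximalIdeal A = Ideal.span {x}) :
    ∃ φ : PowerSeries K →ₐ[K] A, φ PowerSeries.X = x ∧ Function.Bijective φ ∧
      ∀ (f : PowerSeries K) (n : ℕ),
        φ f - (Finset.range n).sum (fun i => algebraMap K A (PowerSeries.coeff i f) * x ^ i) ∈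
          maximalIdeal A ^ n := by
  classical
  have hxm : x ∈ maximalIdeal A := by rw [hx]; exact Ideal.subset_span rfl
  let φ : PowerSeries K →ₐ[K] A := ev (K := K) (maximalIdeal A) hxm
  have hφ : ∀ (f : PowerSeries K) (n : ℕ),
      φ f - (Finset.range n).sum (fun i => algebraMap K A (PowerSeries.coeff i f) * x ^ i) ∈
        maximalIdeal A ^ n := ev_sub_mem (K := K) (maximalIdeal A) hxm
  have hhaus : ∀ y : A, (∀ n, y ∈ maximalIdeal A ^ n) → y = 0 := by
    intro y hy
    apply IsHausdorff.haus (inferInstance : IsHausdorff (maximalIdeal A) A) y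
    intro n
    rw [SModEq.zero]
    simpa [smul_eq_mul, Ideal.mul_top] using hy n
  have hx0 : x ≠ 0 := by
    rintro rfl
    apply IsDiscreteValuationRing.not_a_field A
    rw [hx, Ideal.span_singleton_eq_bot]
  have hunit : ∀ c : K, c ≠ 0 → IsUnit (algebraMap K A c) := by
    intro c hc
    rw [← IsLocalRing.notMem_maximalIdeal, ← IsLocalRing.residue_eq_zero_iff]
    intro h0
    apply hc
    apply hK.1
    simp only [RingHom.coe_comp, Function.comp_apply, map_zero]
    exact h0
  refine ⟨φ, ?_, ⟨?_, ?_⟩, hφ⟩
  · apply sub_eq_zero.1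
    apply hhaus
    intro n
    have h1 := hφ PowerSeries.X (n + 2)
    have h2 : (Finset.range (n + 2)).sum
        (fun i => algebraMap K A (PowerSeries.coeff i (PowerSeries.X : PowerSeries K)) * x ^ i) = x := by
      rw [Finset.sum_eq_single 1]
      · simp
      · intro b _ hb
        rw [PowerSeries.coeff_X, if_neg hb, map_zero, zero_mul]
      · intro h
        exact absurd (Finset.mem_range.2 (by omega)) h
    rw [h2] at h1
    exact Ideal.pow_le_pow_right (by omega) h1
  · rw [injective_iff_map_eq_zero]
    intro f hf
    by_contra hne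
    have hex : ∃ i, PowerSeries.coeff i f ≠ 0 := PowerSeries.exists_coeff_ne_zero_iff_ne_zero.2 hne
    set i := Nat.find hex with hi
    have hci : PowerSeries.coeff i f ≠ 0 := Nat.find_spec hex
    have hlt : ∀ j, j < i → PowerSeries.coeff j f = 0 := fun j hj => by
      have := Nat.find_min hex hj
      simpa using this
    have h1 := hφ f (i + 1)
    rw [hf, zero_sub, Finset.sum_range_succ, Finset.sum_eq_zero
      (fun j hj => by rw [hlt j (Finset.mem_range.1 hj), map_zero, zero_mul]), zero_add] at h1
    have h2 : algebraMap K A (PowerSeries.coeff i f) * x ^ i ∈ maximalIdeal A ^ (i + 1) := by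
      have := neg_mem h1
      rwa [neg_neg] at this
    rw [hx, Ideal.span_singleton_pow, Ideal.mem_span_singleton'] at h2
    obtain ⟨u, hu⟩ := h2
    have h3 : x ^ i * (algebraMap K A (PowerSeries.coeff i f) - u * x) = 0 := by
      rw [mul_sub, mul_comm (x ^ i) (algebraMap K A _), ← hu, pow_succ]; ring
    rcases mul_eq_zero.1 h3 with h4 | h4
    · exact pow_ne_zero i hx0 h4
    · have h5 : algebraMap K A (PowerSeries.coeff i f) ∈ maximalIdeal A := by
        rw [sub_eq_zero.1 h4]; exact Ideal.mul_mem_left _ _ hxm
      exact (IsLocalRing.notMem_maximalIdeal.2 (hunit _ hci)) h5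
  · intro a
    have hstep : ∀ r : A, ∃ c : K, ∃ r' : A, r = algebraMap K A c + x * r' := by
      intro r
      obtain ⟨c, hc⟩ := hK.2 (residue A r)
      have hmem : r - algebraMap K A c ∈ maximalIdeal A := by
        rw [← IsLocalRing.residue_eq_zero_iff, map_sub, sub_eq_zero]; exact hc.symm
      rw [hx, Ideal.mem_span_singleton'] at hmem
      obtain ⟨r', hr'⟩ := hmem
      exact ⟨c, r', by rw [mul_comm, hr']; ring⟩
    choose c r' hcr using hstep
    let seq : ℕ → A := fun n => Nat.rec a (fun _ r => r' r) n
    have hseq0 : seq 0 = a := rfl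
    have hseqS : ∀ n, seq (n + 1) = r' (seq n) := fun n => rfl
    have hseq : ∀ n, a = (Finset.range n).sum (fun i => algebraMap K A (c (seq i)) * x ^ i)
        + x ^ n * seq n := by
      intro n
      induction n with
      | zero => simp [hseq0]
      | succ n ih =>
        rw [Finset.sum_range_succ, hseqS]
        conv_lhs => rw [ih, hcr (seq n)]
        ring
    refine ⟨PowerSeries.mk (fun i => c (seq i)), ?_⟩
    apply sub_eq_zero.1
    apply hhaus
    intro n
    have h1 := hφ (PowerSeries.mk (fun i => c (seq i))) n
    simp only [PowerSeries.coeff_mk] at h1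
    have h2 : φ (PowerSeries.mk (fun i => c (seq i))) - a =
        (φ (PowerSeries.mk (fun i => c (seq i))) -
          (Finset.range n).sum (fun i => algebraMap K A (c (seq i)) * x ^ i)) - x ^ n * seq n := by
      conv_lhs => rw [hseq n]
      ring
    rw [h2]
    exact sub_mem h1 (Ideal.mul_mem_right _ _ (Ideal.pow_mem_pow hxm n))

end Groth.Agent.S12524
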