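import Groth.Statements.S1253
import Groth.Agent.H32.DevF

set_option autoImplicit false
universe u
open FlatMor

namespace Groth.Agent.S1253

attribute [local instance] FlatCA.CompleteDevissageAt.hqB FlatCA.CompleteDevissageAt.hqA
  FlatCA.CompleteDevissageAt.overB FlatCA.CompleteDevissageAt.overA

section Towers

open IsLocalRing

variable {R S : Type u} [CommRing R] [IsLocalRing R] [CommRing S] [Algebra R S]
  {N : Type u} [AddCommGroup N] [Module S N]
  (D : FlatCA.CompleteDevissage R S N (maximalIdeal R))

theorem towerRAM (i : ℕ) : IsScalarTower R (D.A i) (D.M i) :=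
  IsScalarTower.of_algebraMap_smul fun r m => by
    rw [IsScalarTower.algebraMap_apply R (D.B i) (D.A i), algebraMap_smul, algebraMap_smul]

theorem towerRBM' (i : ℕ) : IsScalarTower R (D.B i) (D.M (i + 1)) :=
  haveI := towerRAM D (i + 1)
  IsScalarTower.of_algebraMap_smul fun r m => by
    rw [← algebraMap_smul (D.A (i + 1)) (algebraMap R (D.B i) r) m,
      ← IsScalarTower.algebraMap_apply R (D.B i) (D.A (i + 1)), algebraMap_smul]

theorem towerRSM0 : IsScalarTower R S (D.M 0) :=
  haveI := towerRAM D 0
  IsScalarTower.of_algebraMap_smul fun r m => by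
    rw [← algebraMap_smul (D.A 0) (algebraMap R S r) m,
      ← IsScalarTower.algebraMap_apply R S (D.A 0), algebraMap_smul]

end Towers

section Main

open IsLocalRing Groth.Agent.H32.DevD Groth.Agent.H32.DevE Groth.Agent.H32.DevF

variable {R S : Type u} [CommRing R] [IsLocalRing R] [CommRing S] [Algebra R S]
  {N : Type u} [AddCommGroup N] [Module S N]
  (D : FlatCA.CompleteDevissage R S N (maximalIdeal R))
  {q : Ideal S} [q.IsPrime] (E : FlatCA.CompleteDevissageAt R S N (maximalIdeal R) q D)

theorem main : ∀ k, 1 ≤ k → ∀ s, s + k = D.n →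
    Module.Flat R (LocalizedModule (E.qB s).primeCompl (D.M s)) →
    Module.FinitePresentation (D.B s) (D.M s) ∧
      Nonempty (D.M s ≃ₗ[R] ∀ j : Fin k, Fin (D.r (s + j)) → D.B (s + j)) := by
  intro k hk
  induction k, hk using Nat.le_induction with
  | base =>
    intro s hs hflat
    have hsn : s < D.n := by omega
    haveI := D.smooth s hsn
    haveI := D.finiteM s hsn
    haveI := D.finiteBA s hsn
    haveI : Module.Finite (D.B s) (D.M s) := Module.Finite.trans (D.A s) (D.M s)
    obtain ⟨hinj, -⟩ := core (D.geomIrred s hsn) (E.qB s) (D.M s) (D.α s) (D.fibreIso s hsn) hflat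
    have hsurj : Function.Surjective (D.α s) := by
      obtain rfl : s = D.n - 1 := by omega
      exact D.cokerLast
    let e : (Fin (D.r s) → D.B s) ≃ₗ[D.B s] D.M s :=
      LinearEquiv.ofBijective (D.α s) ⟨hinj, hsurj⟩
    refine ⟨Module.FinitePresentation.of_equiv e, ⟨?_⟩⟩
    exact (e.symm.restrictScalars R).trans (singleShift R (fun i => Fin (D.r i) → D.B i) s)
  | succ k hk ih =>
    intro s hs hflat
    have hsn : s < D.n := by omega
    have hs1 : s + 1 < D.n := by omega
    have hs1' : s + 1 + k = D.n := by omega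
    haveI := D.smooth s hsn
    haveI := D.finiteM s hsn
    haveI := D.finiteBA s hsn
    haveI : Module.Finite (D.B s) (D.M s) := Module.Finite.trans (D.A s) (D.M s)
    obtain ⟨hinj, hC⟩ := core (D.geomIrred s hsn) (E.qB s) (D.M s) (D.α s) (D.fibreIso s hsn) hflat
    haveI := towerRBM' D s
    have h1 : Module.Flat R (LocalizedModule (E.qB s).primeCompl (D.M (s + 1))) :=
      flat_localizedModule_of_linearEquiv (E.qB s).primeCompl _ _ (D.isoCoker s hs1) hC
    haveI := towerRAM D (s + 1)
    have h2 : Module.Flat R (LocalizedModule (E.qA (s + 1)).primeCompl (D.M (s + 1))) :=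
      (flat_localizedModule_iff_of_surjective (D.M (s + 1)) (E.qB s) (E.qA (s + 1))
        (D.surjBA' s hs1) (E.qStep s hs1)).mp h1
    haveI := D.finiteBA (s + 1) hs1
    have hover : (E.qA (s + 1)).comap (algebraMap (D.B (s + 1)) (D.A (s + 1))) = E.qB (s + 1) :=
      (E.overA (s + 1)).over.symm
    have h3 : Module.Flat R (LocalizedModule (E.qB (s + 1)).primeCompl (D.M (s + 1))) :=
      (flat_localizedModule_iff_of_isIntegral (D.M (s + 1)) (E.qB (s + 1)) (E.qA (s + 1)) hover
        (fun Q _ hQ => E.uniq (s + 1) hs1 Q ⟨hQ.symm⟩)).mpr h2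
    obtain ⟨hfp, ⟨e'⟩⟩ := ih (s + 1) hs1' h3
    haveI := hfp
    haveI := D.fpBA' s hs1
    haveI : Module.FinitePresentation (D.B s) (D.M (s + 1)) :=
      finitePresentation_transfer (B := D.B s) (B' := D.B (s + 1)) (A := D.A (s + 1))
        (D.M (s + 1)) (D.surjBA' s hs1)
    haveI : Module.FinitePresentation (D.B s) (D.M s ⧸ LinearMap.range (D.α s)) :=
      Module.FinitePresentation.of_equiv (D.isoCoker s hs1).symm
    refine ⟨finitePresentation_of_coker (D.M s) (D.α s) hinj, ?_⟩
    haveI : Module.Free R (∀ j : Fin k, Fin (D.r (s + 1 + j)) → D.B (s + 1 + j)) := by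
      haveI : ∀ j : Fin k, Module.Free R (Fin (D.r (s + 1 + j)) → D.B (s + 1 + j)) := fun j => by
        haveI := D.smooth (s + 1 + j) (by omega)
        exact free_pi (D.geomIrred (s + 1 + j) (by omega)) _
      infer_instance
    haveI : Module.Projective R (D.M (s + 1)) := Module.Projective.of_equiv e'.symm
    let ec : (D.M s ⧸ LinearMap.range (D.α s)) ≃ₗ[R] D.M (s + 1) :=
      (D.isoCoker s hs1).restrictScalars R
    haveI : Module.Projective R (D.M s ⧸ LinearMap.range (D.α s)) :=
      Module.Projective.of_equiv ec.symm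
    obtain ⟨e0⟩ := nonempty_splitEquiv ((D.α s).restrictScalars R)
      ((LinearMap.range (D.α s)).mkQ.restrictScalars R) hinj
      (LinearMap.exact_map_mkQ_range (D.α s)) (Submodule.mkQ_surjective _)
    exact ⟨(e0.trans (LinearEquiv.prodCongr (LinearEquiv.refl R _) (ec.trans e'))).trans
      (consShift R (fun i => Fin (D.r i) → D.B i) s k)⟩

end Main


open IsLocalRing in
/-- Let R be a local ring, S a finitely presented R-algebra, N a finite S-module and q a prime of S over
𝔪_R with N_q flat over R. If N/S/R admits a complete dévissage at q, then N is of finite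
presentation over S and free over R; more precisely N is R-isomorphic to the product over the steps
of the dévissage of the free modules B_i^{r_i}, with B_i and r_i the dévissage's own smooth algebras
and ranks. -/
theorem result {R S : Type u} [CommRing R] [IsLocalRing R] [CommRing S] [Algebra R S] [Algebra.FinitePresentation R S]
    (N : Type u) [AddCommGroup N] [Module S N] [Module R N] [IsScalarTower R S N] [Module.Finite S N]
    (q : Ideal S) [q.IsPrime] [q.LiesOver (maximalIdeal R)] (hflat : FlatCA.FlatAt R q N)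
    (D : FlatCA.CompleteDevissage R S N (maximalIdeal R)) (hD : Nonempty (FlatCA.CompleteDevissageAt R S N (maximalIdeal R) q D)) :
    Module.FinitePresentation S N ∧ Module.Free R N ∧
      Nonempty (N ≃ₗ[R] (∀ i : Fin D.n, Fin (D.r i) → D.B i)) := by
  obtain ⟨E⟩ := hD
  haveI := towerRSM0 D
  haveI := towerRAM D 0
  have hn := D.pos
  have h0 : Module.Flat R (LocalizedModule q.primeCompl (D.M 0)) :=
    Groth.Agent.H32.DevE.flat_localizedModule_of_linearEquiv q.primeCompl N (D.M 0) D.isoN hflat
  have h1 : Module.Flat R (LocalizedModule (E.qA 0).primeCompl (D.M 0)) :=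
    (Groth.Agent.H32.DevD.flat_localizedModule_iff_of_surjective (D.M 0) q (E.qA 0)
      D.surjSA E.q0).mp h0
  haveI := D.finiteBA 0 hn
  have hover : (E.qA 0).comap (algebraMap (D.B 0) (D.A 0)) = E.qB 0 := (E.overA 0).over.symm
  have h2 : Module.Flat R (LocalizedModule (E.qB 0).primeCompl (D.M 0)) :=
    (Groth.Agent.H32.DevD.flat_localizedModule_iff_of_isIntegral (D.M 0) (E.qB 0) (E.qA 0) hover
      (fun Q _ hQ => E.uniq 0 hn Q ⟨hQ.symm⟩)).mpr h1
  obtain ⟨hfp, ⟨e⟩⟩ := main D E D.n D.pos 0 (Nat.zero_add _) h2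
  haveI := hfp
  haveI := D.fpSA
  haveI : Module.FinitePresentation S (D.M 0) :=
    Groth.Agent.H32.DevF.finitePresentation_transfer (B := S) (B' := D.B 0) (A := D.A 0)
      (D.M 0) D.surjSA
  have hfpN : Module.FinitePresentation S N := Module.FinitePresentation.of_equiv D.isoN.symm
  let eN : N ≃ₗ[R] (∀ i : Fin D.n, Fin (D.r i) → D.B i) :=
    ((D.isoN.restrictScalars R).trans e).trans
      (Groth.Agent.H32.DevE.zeroShift R (fun i => Fin (D.r i) → D.B i) D.n)
  haveI : Module.Free R (∀ i : Fin D.n, Fin (D.r i) → D.B i) := by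
    haveI : ∀ i : Fin D.n, Module.Free R (Fin (D.r i) → D.B i) := fun i => by
      haveI := D.smooth i i.2
      exact Groth.Agent.H32.DevF.free_pi (D.geomIrred i i.2) _
    infer_instance
  exact ⟨hfpN, Module.Free.of_equiv eN.symm, ⟨eN⟩⟩

end Groth.Agent.S1253
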