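import Groth.Statements.S12547
import Groth.Agent.H83.HM.Binary

set_option autoImplicit false
universe u
open TensorProduct LaurentPolynomial
open GIT

namespace Groth.Agent.S12547

/-- Let k be an algebraically closed field of characteristic zero and let SL_2 act by substitution on
binary forms of degree d, a form being the point a = (a_0, …, a_d) with F = Σ_i (d choose i) a_i
x^(d−i) y^i. For a ≠ 0: a is semistable (some invariant homogeneous polynomial of positive degree in
the coefficients is non-zero at a) if and only if every non-zero linear form ℓ and every m with ℓ^m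
dividing F satisfy 2m ≤ d, i.e. F has no root on the projective line of multiplicity more than d/2. -/
theorem result (k : Type u) [Field k] [IsAlgClosed k] [CharZero k]
    (d : ℕ) (a : Fin (d + 1) → k) (ha : a ≠ 0) :
    @GLin.IsSemistableVec k _ (CoordGrp.SLn 2 k) _ _ (CoordGrp.FormIdx 2 d) (GLin.comodAlong ((CoordGrp.SLn.mkHom 2 k).comp (CoordGrp.Mat.toGLn 2 k)) (CoordGrp.formsCoact k 2 d))
      (GLin.isCoactAlg_comodAlong ((CoordGrp.SLn.mkHom 2 k).comp (CoordGrp.Mat.toGLn 2 k)) (CoordGrp.formsCoact k 2 d)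
        (CoordGrp.formsCoact_isCoactAlg k 2 d))
      (CoordGrp.binVec d a) ↔
      ∀ ℓ : MvPolynomial (Fin 2) k, ℓ.IsHomogeneous 1 → ℓ ≠ 0 →
        ∀ m : ℕ, ℓ ^ m ∣ CoordGrp.formPoly (CoordGrp.binVec d a) → 2 * m ≤ d := by
  have hb : CoordGrp.binVec d a ≠ 0 := by
    intro h
    apply ha
    funext i
    have := congrArg (fun f => f (CoordGrp.binIdx d i)) h
    simpa using this
  have key := Groth.Agent.H83.HM.binary_nullform_iff (CoordGrp.binVec d a) hb
  change ¬ _ ↔ _
  rw [key]
  constructor
  · intro h ℓ hℓ hℓ0 m hdvd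
    by_contra hlt
    exact h ⟨ℓ, hℓ, hℓ0, m, hdvd, by omega⟩
  · rintro h ⟨ℓ, hℓ, hℓ0, m, hdvd, hm⟩
    have := h ℓ hℓ hℓ0 m hdvd
    omega

end Groth.Agent.S12547
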