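import Groth.Statements.S12550
import Mathlib.LinearAlgebra.FiniteDimensional.Lemmas
import Mathlib.LinearAlgebra.Dimension.Finite

set_option autoImplicit false
universe u
open GIT

namespace Groth.Agent.S12550

/-- Let V be a finite-dimensional vector space over a field K and x_0, …, x_m non-zero vectors, a
configuration of m + 1 points of the projective space P(V). If for every subspace L with 0 ≠ L ≠ V
the number of indices i with x_i ∈ L, multiplied by dim V, is less than dim L · (m + 1) (the
configuration is stable), then no two proper subspaces L', L'' with L' ∩ L'' = 0 contain between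
them all the x_i. -/
theorem result (K : Type u) [Field K]
    (V : Type u) [AddCommGroup V] [Module K V] [FiniteDimensional K V]
    (m : ℕ) (x : Fin (m + 1) → V) (hx : ∀ i, x i ≠ 0)
    (hst : ∀ L : Submodule K V, L ≠ ⊥ → L ≠ ⊤ →
      Set.ncard {i : Fin (m + 1) | x i ∈ L} * Module.finrank K V < Module.finrank K L * (m + 1)) :
    ¬ ∃ L' L'' : Submodule K V, L' ≠ ⊤ ∧ L'' ≠ ⊤ ∧ Disjoint L' L'' ∧ ∀ i, x i ∈ L' ∨ x i ∈ L'' := by
  rintro ⟨L', L'', hL', hL'', hdisj, hcov⟩
  have hab : m + 1 ≤ Set.ncard {i : Fin (m + 1) | x i ∈ L'} + Set.ncard {i : Fin (m + 1) | x i ∈ L''} := by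
    have hsub : (Set.univ : Set (Fin (m + 1))) ⊆ {i | x i ∈ L'} ∪ {i | x i ∈ L''} := fun i _ => hcov i
    calc m + 1 = Set.ncard (Set.univ : Set (Fin (m + 1))) := by
          rw [Set.ncard_univ, Nat.card_eq_fintype_card, Fintype.card_fin]
      _ ≤ Set.ncard ({i | x i ∈ L'} ∪ {i | x i ∈ L''}) := Set.ncard_le_ncard hsub (Set.toFinite _)
      _ ≤ _ := Set.ncard_union_le _ _
  have hdim : Module.finrank K L' + Module.finrank K L'' ≤ Module.finrank K V := by
    have h1 := Submodule.finrank_sup_add_finrank_inf_eq L' L''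
    rw [hdisj.eq_bot, finrank_bot, add_zero] at h1
    rw [← h1]
    exact Submodule.finrank_le _
  have hn : 0 < Module.finrank K V := Module.finrank_pos_iff_exists_ne_zero.mpr ⟨x 0, hx 0⟩
  have hle : ∀ L : Submodule K V, L ≠ ⊤ →
      Set.ncard {i : Fin (m + 1) | x i ∈ L} * Module.finrank K V ≤ Module.finrank K L * (m + 1) := by
    intro L hL
    by_cases h : L = ⊥
    · have h0 : {i : Fin (m + 1) | x i ∈ L} = ∅ := by
        ext i
        simp [h, hx i]
      rw [h0, Set.ncard_empty, zero_mul]
      exact Nat.zero_le _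
    · exact (hst L h hL).le
  have hstrict : (Set.ncard {i : Fin (m + 1) | x i ∈ L'} + Set.ncard {i : Fin (m + 1) | x i ∈ L''}) *
      Module.finrank K V < (Module.finrank K L' + Module.finrank K L'') * (m + 1) := by
    rw [add_mul, add_mul]
    by_cases h' : L' = ⊥
    · by_cases h'' : L'' = ⊥
      · exfalso
        rcases hcov 0 with h | h
        · rw [h'] at h; exact hx 0 ((Submodule.mem_bot K).mp h)
        · rw [h''] at h; exact hx 0 ((Submodule.mem_bot K).mp h)
      · exact add_lt_add_of_le_of_lt (hle L' hL') (hst L'' h'' hL'')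
    · exact add_lt_add_of_lt_of_le (hst L' h' hL') (hle L'' hL'')
  have h2 : (Module.finrank K L' + Module.finrank K L'') * (m + 1) ≤ Module.finrank K V * (m + 1) :=
    Nat.mul_le_mul_right _ hdim
  have h3 : (m + 1) * Module.finrank K V ≤
      (Set.ncard {i : Fin (m + 1) | x i ∈ L'} + Set.ncard {i : Fin (m + 1) | x i ∈ L''}) *
      Module.finrank K V := Nat.mul_le_mul_right _ hab
  have h4 := lt_of_le_of_lt h3 (lt_of_lt_of_le hstrict h2)
  rw [mul_comm] at h4
  exact lt_irrefl _ h4

end Groth.Agent.S12550
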