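import Groth.Statements.S12553
import Groth.Agent.H62.Mu
import Mathlib.LinearAlgebra.Basis.Basic
-- import your own Groth.Agent.* helpers here

set_option autoImplicit false
universe u
open TensorProduct LaurentPolynomial
open GIT

namespace Groth.Agent.S12553

/-- Let k be a field and T = Spec A a diagonalizable affine group (A a commutative Hopf algebra spanned
by its group-like elements, e.g. a torus) acting linearly on affine ι-space. Then there are finitely
many characters χ_1, …, χ_N of T (group-like elements of A) such that every vector v ≠ 0 has a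
non-empty set I of indices for which, for every one-parameter subgroup λ of T with λ(χ_j) = t^(e_j),
the numerical function μ(v, λ) (the m for which t^m · (v moved by λ(t)) tends to a non-zero vector)
equals the maximum of −e_j over j ∈ I: μ is the maximum of finitely many linear functionals on
one-parameter subgroups. (The published proposition concerns a maximal torus of a reductive group
acting on a proper scheme with an ample linearised invertible sheaf; this row is the case of
projective space with the hyperplane bundle, for any diagonalizable group acting linearly, stated on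
the affine cone.) -/
theorem result (k : Type u) [Field k]
    (A : Type u) [CommRing A] [HopfAlgebra k A] (hdiag : HopfRep.IsDiagonalizable k A)
    (ι : Type u) [Fintype ι] [HopfRep.Comod k A (MvPolynomial ι k)] [GLin.IsCoactAlg k A (MvPolynomial ι k)]
    (hlin : GLin.IsLinear k A ι) :
    ∃ (N : ℕ) (χ : Fin N → A), (∀ j, IsGroupLikeElem k (χ j)) ∧
      ∀ v : ι → k, v ≠ 0 → ∃ I : Finset (Fin N), I.Nonempty ∧
        ∀ (lam : A →ₐc[k] k[T;T⁻¹]) (e : Fin N → ℤ), (∀ j, lam (χ j) = LaurentPolynomial.T (e j)) →
          ∀ m : ℤ, GLin.IsMu k A lam v m ↔ ((∀ j ∈ I, -e j ≤ m) ∧ ∃ j ∈ I, m = -e j) := by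
  classical
  -- the basis of group-like elements
  have hli : LinearIndependent k (fun g : {a : A | IsGroupLikeElem k a} => (g : A)) :=
    linearIndepOn_isGroupLikeElem
  have hsp : ⊤ ≤ Submodule.span k (Set.range (fun g : {a : A | IsGroupLikeElem k a} => (g : A))) := by
    rw [Subtype.range_coe]
    exact hdiag.ge
  let b : Module.Basis {a : A | IsGroupLikeElem k a} k A := Module.Basis.mk hli hsp
  have hb : ∀ g, b g = (g : A) := fun g => Module.Basis.mk_apply hli hsp g
  choose mm hmm using hlin
  let Φ : Finset {a : A | IsGroupLikeElem k a} :=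
    Finset.univ.biUnion fun i => Finset.univ.biUnion fun j => (b.repr (mm i j)).support
  have hΦ : ∀ g, g ∉ Φ → ∀ i j, b.repr (mm i j) g = 0 := by
    intro g hg i j
    by_contra hne
    apply hg
    simp only [Φ, Finset.mem_biUnion, Finset.mem_univ, true_and, Finsupp.mem_support_iff]
    exact ⟨i, j, hne⟩
  let χ' : Fin Φ.card ≃ Φ := Φ.equivFin.symm
  refine ⟨Φ.card, fun l => ((χ' l : {a : A | IsGroupLikeElem k a}) : A), fun l => (χ' l).1.2, ?_⟩
  intro v hv
  let a : ι → A := fun i => GLin.orbitHom k A (GLin.vecPt k ι v) (MvPolynomial.X i)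
  have ha : ∀ i, a i = ∑ j, v j • mm i j := by
    intro i
    have := Groth.Agent.H62.orbitHom_X_of_linear mm hmm (GLin.vecPt k ι v) i
    simpa using this
  have hΦa : ∀ g, g ∉ Φ → ∀ i, b.repr (a i) g = 0 := by
    intro g hg i
    rw [ha i, map_sum, Finsupp.finsetSum_apply]
    refine Finset.sum_eq_zero fun j _ => ?_
    rw [map_smul, Finsupp.smul_apply, hΦ g hg i j, smul_zero]
  -- expansion of `a i` along the characters
  have hexp : ∀ x : A, (∀ g, g ∉ Φ → b.repr x g = 0) →
      x = ∑ l : Fin Φ.card, b.repr x (χ' l) • ((χ' l : {a : A | IsGroupLikeElem k a}) : A) := by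
    intro x hx
    have h1 : x = ∑ g ∈ Φ, b.repr x g • (g : A) := by
      conv_lhs => rw [← b.linearCombination_repr x, Finsupp.linearCombination_apply]
      rw [Finsupp.sum_of_support_subset (s := Φ)]
      · refine Finset.sum_congr rfl fun g _ => ?_
        rw [hb]
      · intro g hg
        by_contra hne
        exact (Finsupp.mem_support_iff.mp hg) (hx g hne)
      · intro g _
        simp
    refine h1.trans ?_
    rw [← Finset.sum_coe_sort Φ, ← Equiv.sum_comp χ']
  -- the eigenvector identity
  have hstar : ∀ (g₀ : {a : A | IsGroupLikeElem k a}) (i : ι),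
      b.repr (a i) g₀ • (g₀ : A) = ∑ j, b.repr (a j) g₀ • mm i j := by
    intro g₀ i
    let φ : A →ₗ[k] k := b.coord g₀
    have hL : ∀ x : A, (TensorProduct.lid k A) (φ.rTensor A (Coalgebra.comul (R := k) x)) =
        φ x • (g₀ : A) := by
      intro x
      have : (TensorProduct.lid k A).toLinearMap ∘ₗ φ.rTensor A ∘ₗ Coalgebra.comul (R := k) =
          φ.smulRight (g₀ : A) := by
        apply b.ext
        intro g
        simp only [LinearMap.comp_apply, LinearEquiv.coe_coe, LinearMap.smulRight_apply]
        rw [hb, g.2.comul_eq_tmul_self, LinearMap.rTensor_tmul, TensorProduct.lid_tmul]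
        have hφ : φ (g : A) = if g = g₀ then 1 else 0 := by
          rw [← hb g]
          simp only [φ, Module.Basis.coord_apply, Module.Basis.repr_self]
          rw [Finsupp.single_apply]
        rw [hφ]
        by_cases hg : g = g₀
        · simp [hg]
        · simp [hg]
      exact LinearMap.congr_fun this x
    have h2 := congrArg (fun t => (TensorProduct.lid k A) (φ.rTensor A t))
      (Groth.Agent.H62.comul_orbitHom_X_of_linear mm hmm (GLin.vecPt k ι v) i)
    simp only [hL, map_sum, LinearMap.rTensor_tmul, TensorProduct.lid_tmul] at h2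
    exact h2
  have hcoeff : ∀ (lam : A →ₐc[k] k[T;T⁻¹]) (e : Fin Φ.card → ℤ),
      (∀ j, lam ((χ' j : {a : A | IsGroupLikeElem k a}) : A) = LaurentPolynomial.T (e j)) →
      ∀ (i : ι) (n : ℤ), (Groth.Agent.H62.orb lam v i).coeff n =
        ∑ l : Fin Φ.card, if e l = n then b.repr (a i) (χ' l) else 0 := by
    intro lam e he i n
    change (lam (a i)).coeff n = _
    conv_lhs => rw [hexp (a i) (fun g hg => hΦa g hg i)]
    rw [map_sum, AddMonoidAlgebra.coeff_sum, Finsupp.finsetSum_apply]
    refine Finset.sum_congr rfl fun l _ => ?_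
    rw [map_smul, he l, AddMonoidAlgebra.coeff_smul, Finsupp.smul_apply, LaurentPolynomial.T,
      AddMonoidAlgebra.coeff_single, Finsupp.single_apply]
    split_ifs <;> simp
  have hliχ : LinearIndependent k
      (fun l : Fin Φ.card => ((χ' l : {a : A | IsGroupLikeElem k a}) : A)) := by
    refine hli.comp (fun l : Fin Φ.card => (χ' l : {a : A | IsGroupLikeElem k a})) ?_
    intro l l' h
    exact χ'.injective (Subtype.ext h)
  let I : Finset (Fin Φ.card) := Finset.univ.filter fun l => ∃ i, b.repr (a i) (χ' l) ≠ 0
  have hI : ∀ l, l ∈ I ↔ ∃ i, b.repr (a i) (χ' l) ≠ 0 := by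
    intro l
    simp [I]
  refine ⟨I, ?_, ?_⟩
  · -- nonempty
    obtain ⟨i, hi⟩ : ∃ i, v i ≠ 0 := by
      by_contra h
      push Not at h
      exact hv (funext h)
    have hai : a i ≠ 0 := by
      intro h0
      apply hi
      have := Groth.Agent.H62.counit_orbitHom (A := A) (GLin.vecPt k ι v) (MvPolynomial.X i)
      change Coalgebra.counit (R := k) (a i) = _ at this
      rw [h0, map_zero] at this
      simpa using this.symm
    by_contra hemp
    rw [Finset.not_nonempty_iff_eq_empty] at hemp
    apply hai
    rw [hexp (a i) (fun g hg => hΦa g hg i)]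
    refine Finset.sum_eq_zero fun l _ => ?_
    have hl : l ∉ I := by rw [hemp]; exact Finset.notMem_empty l
    rw [hI] at hl
    push Not at hl
    rw [hl i, zero_smul]
  · intro lam e he m
    rw [Groth.Agent.H62.isMu_iff_isLeast]
    have key : Groth.Agent.H62.orbSupp lam v = e '' (I : Set (Fin Φ.card)) := by
      ext n
      constructor
      · rintro ⟨i, hi⟩
        rw [hcoeff lam e he i n] at hi
        obtain ⟨l, -, hl⟩ := Finset.exists_ne_zero_of_sum_ne_zero hi
        split_ifs at hl with hel
        · exact ⟨l, (hI l).mpr ⟨i, hl⟩, hel⟩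
        · exact absurd rfl hl
      · rintro ⟨l₀, hl₀, rfl⟩
        by_contra hcon
        have hzero : ∀ i, (∑ l : Fin Φ.card, if e l = e l₀ then b.repr (a i) (χ' l) else 0) = 0 := by
          intro i
          rw [← hcoeff lam e he i (e l₀)]
          by_contra hne
          exact hcon ⟨i, hne⟩
        obtain ⟨i, hi⟩ := (hI l₀).mp hl₀
        have hsum : ∑ l : Fin Φ.card, (if e l = e l₀ then b.repr (a i) (χ' l) else 0) •
            ((χ' l : {a : A | IsGroupLikeElem k a}) : A) = 0 := by
          have h1 : ∀ l : Fin Φ.card, (if e l = e l₀ then b.repr (a i) (χ' l) else 0) •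
              ((χ' l : {a : A | IsGroupLikeElem k a}) : A) =
              ∑ j, (if e l = e l₀ then b.repr (a j) (χ' l) else 0) • mm i j := by
            intro l
            split_ifs
            · exact hstar (χ' l) i
            · simp
          rw [Finset.sum_congr rfl fun l _ => h1 l, Finset.sum_comm]
          refine Finset.sum_eq_zero fun j _ => ?_
          rw [← Finset.sum_smul, hzero j, zero_smul]
        have := (Fintype.linearIndependent_iff.mp hliχ) _ hsum l₀
        rw [if_pos rfl] at this
        exact hi this
    rw [key]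
    constructor
    · rintro ⟨⟨j, hj, hjm⟩, hlb⟩
      refine ⟨fun j' hj' => ?_, j, hj, by omega⟩
      have := hlb ⟨j', hj', rfl⟩
      omega
    · rintro ⟨hall, j, hj, hjm⟩
      refine ⟨⟨j, hj, by omega⟩, ?_⟩
      rintro _ ⟨j', hj', rfl⟩
      have := hall j' hj'
      omega

end Groth.Agent.S12553
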