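import Groth.Statements.S12556
import Groth.Agent.H62.Comod

set_option autoImplicit false
universe u
open TensorProduct
open GIT

namespace Groth.Agent.S12556

open Groth.Agent.H62 in
/-- Let k be a field, G = Spec A a linearly reductive affine group (A a commutative Hopf algebra whose
finite-dimensional comodules are all semisimple) acting on the affine scheme Spec R (a
multiplicative coaction of A on the commutative k-algebra R), and E : R → R a linear map commuting
with the coaction, idempotent, and fixing exactly the invariant elements. Then E(x · y) = E(x) · y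
for all x in R and all invariant y. -/
theorem result (k : Type u) [Field k] (A : Type u) [CommRing A] [HopfAlgebra k A]
    (hG : HopfRep.IsLinearlyReductive k A)
    (R : Type u) [CommRing R] [Algebra k R] [HopfRep.Comod k A R] [GLin.IsCoactAlg k A R]
    (E : R →ₗ[k] R) (h₁ : Hoch.IsComodHom A E) (h₂ : E ∘ₗ E = E)
    (h₃ : ∀ x : R, E x = x ↔ x ∈ GLin.invariants k A R)
    (x y : R) (hy : y ∈ GLin.invariants k A R) : E (x * y) = E x * y := by
  have hEE : ∀ u : R, E (E u) = E u := fun u => LinearMap.congr_fun h₂ u
  have hEinv : ∀ u : R, E u ∈ GLin.invariants k A R := fun u => (h₃ _).mp (hEE u)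
  -- multiplication by `y` is a comodule map
  have hmul : Hoch.IsComodHom A (LinearMap.mulRight k y) := by
    change _ ∘ₗ _ = _ ∘ₗ _
    ext z
    simp only [LinearMap.comp_apply, LinearMap.mulRight_apply]
    rw [GLin.IsCoactAlg.coact_mul, (GLin.mem_invariants_iff k A R y).mp hy]
    generalize HopfRep.Comod.coact (k := k) (A := A) z = t
    induction t with
    | zero => simp
    | tmul r a => simp [Algebra.TensorProduct.tmul_mul_tmul]
    | add t₁ t₂ h₁ h₂ => rw [add_mul, map_add, h₁, h₂]
  have hψ : Hoch.IsComodHom A (E ∘ₗ LinearMap.mulRight k y) := isComodHom_comp hmul h₁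
  have hzero : E ((x - E x) * y) = 0 :=
    hom_ker_eq_zero hG R E h₁ h₂ (fun u => h₃ u) R (E ∘ₗ LinearMap.mulRight k y) hψ
      (fun v => hEinv _) (x - E x) (by rw [map_sub, hEE, sub_self])
  have h4 : E (E x * y) = E x * y := (h₃ _).mpr (Subalgebra.mul_mem _ (hEinv x) hy)
  have h5 : x * y = E x * y + (x - E x) * y := by ring
  rw [h5, map_add, h4, hzero, add_zero]

end Groth.Agent.S12556
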