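import Groth.Statements.S12557
import Groth.Agent.H93.ReynoldsAlg

set_option autoImplicit false
universe u
open TensorProduct
open GIT

namespace Groth.Agent.S12557

/-- Let k be a field, G = Spec A a linearly reductive affine group (A a commutative Hopf algebra whose
finite-dimensional comodules are all semisimple) acting on the affine scheme Spec R, R_0 ⊆ R the
ring of invariants, and (𝔄_i) a family of ideals of R each stable under the coaction. Then the sum
of the 𝔄_i meets R_0 in the sum of the intersections 𝔄_i ∩ R_0. -/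
theorem result (k : Type u) [Field k] (A : Type u) [CommRing A] [HopfAlgebra k A]
    (hG : HopfRep.IsLinearlyReductive k A)
    (R : Type u) [CommRing R] [Algebra k R] [HopfRep.Comod k A R] [GLin.IsCoactAlg k A R]
    (ι : Type u) (𝔄 : ι → Ideal R) (h𝔄 : ∀ i, HopfRep.IsSubcomod (k := k) (A := A) ((𝔄 i).restrictScalars k)) :
    (⨆ i, (𝔄 i).restrictScalars k) ⊓ Subalgebra.toSubmodule (GLin.invariants k A R) =
      ⨆ i, ((𝔄 i).restrictScalars k ⊓ Subalgebra.toSubmodule (GLin.invariants k A R)) := by
  obtain ⟨E, hE1, hE2, -, hE4⟩ := Groth.Agent.H93.exists_reynolds (R := R) hG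
  apply le_antisymm
  · rintro x ⟨hx1, hx2⟩
    have hmap : Submodule.map E (⨆ i, (𝔄 i).restrictScalars k) ≤
        ⨆ i, ((𝔄 i).restrictScalars k ⊓ Subalgebra.toSubmodule (GLin.invariants k A R)) := by
      rw [Submodule.map_iSup]
      apply iSup_mono
      intro i
      rintro _ ⟨a, ha, rfl⟩
      exact ⟨hE4 _ (h𝔄 i) a ha, hE1 a⟩
    have hx3 : E x = x := hE2 x hx2
    rw [← hx3]
    exact hmap ⟨x, hx1, rfl⟩
  · exact le_inf (iSup_mono fun i => inf_le_left) (iSup_le fun i => inf_le_right)

end Groth.Agent.S12557
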