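import Groth.Statements.S12574
import Groth.Agent.H63.TraceDual3

set_option autoImplicit false
universe u v w
open FunFld

namespace Groth.Agent.S12574

/-- Let `Q` be a place of a finite separable extension `K'` of a geometric function field of one
variable `K/k`, over `P` with ramification index `e` and residue degree `1`, both with Laurent
expansions over `k` in local parameters, and let `R^*` be the dual, under the trace form of `K'/K`,
of the integral closure of `O_P` in `K'`. Then `min_{y ∈ R^*} v_Q(y) = -d(Q|P)`: in multiplicative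
notation every `y ∈ R^*` has `v_Q(y) ≤ exp d(Q|P)` and equality is attained. -/
theorem result (k : Type u) (K K' : Type v) [Field k] [Field K] [Field K'] [Algebra k K] [Algebra K K'] [Algebra k K']
    [IsScalarTower k K K'] [FiniteDimensional K K'] [Algebra.IsSeparable K K']
    (hK : FunFld.IsFunctionField k K) (hg : FunFld.IsGeometric k K)
    (F F' : Type w) [Field F] [Algebra k F] [Field F'] [Algebra k F']
    (P : FunFld.Place k K) (Q : FunFld.Place k K') (e : ℕ) (he : FunFld.IsOverWith Q P e)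
    (φ : K →ₐ[k] LaurentSeries F) (hφ : LocRes.IsExpansionAt P.1 φ)
    (ψ : K' →ₐ[k] LaurentSeries F') (hψ : LocRes.IsExpansionAt Q.1 ψ)
    (x : K) (hx : LocRes.vDiff φ 1 x ≠ 0) (hx' : LocRes.vDiff ψ 1 (algebraMap K K' x) ≠ 0)
    [P.1.HasExtension Q.1]
    (hf : Function.Surjective (algebraMap (IsLocalRing.ResidueField P.O) (IsLocalRing.ResidueField Q.O)))
    [Algebra P.O K'] [IsScalarTower P.O K K'] :
    (∀ y : K', (∀ z : K', IsIntegral P.O z → P.1 (Algebra.trace K K' (y * z)) ≤ 1) →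
      Q.1 y ≤ WithZero.exp (LocRes.diffExp φ ψ e x)) ∧
    ∃ y : K', (∀ z : K', IsIntegral P.O z → P.1 (Algebra.trace K K' (y * z)) ≤ 1) ∧
      Q.1 y = WithZero.exp (LocRes.diffExp φ ψ e x) := by
  have hK' : Groth.Agent.H55.W.IsWeakFF k K' := Groth.Agent.H55.W.weak_of_finite hK.weak
  haveI : FiniteDimensional k F := Groth.Agent.H63.TraceDual.finiteDimensional_coeff hK.weak P φ hφ
  haveI : FiniteDimensional k F' := Groth.Agent.H63.TraceDual.finiteDimensional_coeff hK' Q ψ hψ
  haveI : Algebra.IsSeparable k F' :=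
    Groth.Agent.H63.TraceDual.isSeparable_above hK hg P Q e he φ hφ ψ hψ hf
  obtain ⟨t, ht⟩ := hφ.2.2
  have ht1 : P.1 t ≤ 1 := by
    rw [ht, ← WithZero.exp_zero, WithZero.exp_le_exp]
    omega
  have hDt : LocRes.vDiff φ 1 t = 1 := by
    rw [Groth.Agent.H63.DiffExp.vDiff_one]
    exact Groth.Agent.H63.MinpolyDiff.v_D_unif _ (by rw [hφ.1, ht])
  have hdx : KaehlerDifferential.D k K x ≠ 0 := by
    intro h0
    apply hx
    rw [Groth.Agent.H63.DiffExp.vDiff_one]
    have := Groth.Agent.H63.KaehlerFF.D_map_eq_of_D_eq φ (x := x) (z := x) (a := 0)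
      (by rw [h0, zero_smul])
    rw [this, map_zero, zero_mul, map_zero]
  obtain ⟨a, ha⟩ := Groth.Agent.H63.SepGen.exists_smul_D_eq hK hg hdx (KaehlerDifferential.D k K t)
  have hx2 : LocRes.vDiff φ 1 t ≠ 0 := by
    rw [hDt]
    exact one_ne_zero
  have ha0 : a ≠ 0 := by
    rintro rfl
    rw [zero_smul] at ha
    have := Groth.Agent.H63.KaehlerFF.D_map_eq_of_D_eq φ (x := t) (z := t) (a := 0)
      (by rw [ha, zero_smul])
    rw [Groth.Agent.H63.DiffExp.vDiff_one, this, map_zero, zero_mul, map_zero] at hx2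
    exact hx2 rfl
  have hx2' : LocRes.vDiff ψ 1 (algebraMap K K' t) ≠ 0 := by
    rw [Groth.Agent.H63.DiffExp.vDiff_one,
      Groth.Agent.H63.KaehlerFF.D_map_eq_of_D_eq ψ (Groth.Agent.H63.DiffExp.D_algebraMap_eq ha),
      map_mul]
    refine mul_ne_zero ?_ ?_
    · rw [hψ.1, Valuation.ne_zero_iff]
      exact (map_ne_zero (algebraMap K K')).2 ha0
    · rw [← Groth.Agent.H63.DiffExp.vDiff_one]
      exact hx'
  have hd : LocRes.diffExp φ ψ e x = LocRes.diffExp φ ψ e t :=
    Groth.Agent.H63.DiffExp.diffExp_eq_of_D_eq P Q e he φ hφ ψ hψ ha hx hx' hx2 hx2'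
  have hd' : LocRes.diffExp φ ψ e t = LocRes.ordDiff ψ 1 (algebraMap K K' t) := by
    unfold LocRes.diffExp
    have : LocRes.ordDiff φ 1 t = 0 := by
      unfold LocRes.ordDiff
      rw [hDt, WithZero.log_one, neg_zero]
    rw [this, mul_zero, sub_zero]
  rw [hd, hd']
  have hm : LocRes.vDiff ψ 1 (algebraMap K K' t) =
      WithZero.exp (-(LocRes.ordDiff ψ 1 (algebraMap K K' t))) := by
    unfold LocRes.ordDiff
    rw [neg_neg, WithZero.exp_log hx2']
  exact ⟨fun y hy => Groth.Agent.H63.TraceDual.dual_le hK hK' P Q ⟨e, he⟩ φ hφ ψ hψ t ht1 hDt hm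
      y hy,
    Groth.Agent.H63.TraceDual.dual_exists hK hg hK' P Q ⟨e, he⟩ φ hφ ψ hψ t ht1 hDt hm⟩

end Groth.Agent.S12574
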