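import Groth.Statements.S12578
import Groth.Agent.H63.SemiFree2
import Groth.Agent.H63.TateTrace
import Groth.Agent.H86.TT12

set_option autoImplicit false
universe u v w
open FunFld

namespace Groth.Agent.S12578

/-- For a geometric function field of one variable `K/k`, a finite separable extension `K'` with the
same constant field, a place `P` of `K` and `ω = y dx` with `y ∈ K'`, `x ∈ K`: `Res_P(tr_{K'/K}(y)
dx) = ∑_{Q | P} Res_Q(y dx)`; residues are read through Laurent expansions over `k` at `P` and at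
every `Q` over `P` (so these places are separable). -/
theorem result (k : Type u) (K K' : Type v) [Field k] [Field K] [Field K'] [Algebra k K] [Algebra K K'] [Algebra k K']
    [IsScalarTower k K K'] [FiniteDimensional K K'] [Algebra.IsSeparable K K']
    (hK : FunFld.IsFunctionField k K) (hg : FunFld.IsGeometric k K)
    (hK' : FunFld.IsFunctionField k K') (P : FunFld.Place k K)
    (F : Type w) [Field F] [Algebra k F] [FiniteDimensional k F]
    (φ : K →ₐ[k] LaurentSeries F) (hφ : LocRes.IsExpansionAt P.1 φ)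
    (Qs : Finset (FunFld.Place k K')) (hQs : ∀ Q, Q ∈ Qs ↔ FunFld.IsOver Q P)
    (F' : FunFld.Place k K' → Type w) [∀ Q, Field (F' Q)] [∀ Q, Algebra k (F' Q)] [∀ Q, FiniteDimensional k (F' Q)]
    (ψ : ∀ Q, K' →ₐ[k] LaurentSeries (F' Q)) (hψ : ∀ Q ∈ Qs, LocRes.IsExpansionAt Q.1 (ψ Q))
    (y : K') (x : K) :
    LocRes.locRes φ (Algebra.trace K K' y) x = ∑ Q ∈ Qs, LocRes.locRes (ψ Q) y (algebraMap K K' x) := by
  classical
  have hne : Nonempty Qs := by
    by_contra hcon
    rw [not_nonempty_iff] at hcon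
    have h0 := (Groth.Agent.H55.sum_ramIdx_mul_deg (K' := K') hK P).2 Qs hQs
    have hQs0 : Qs = ∅ := by
      ext Q
      simp only [Finset.notMem_empty, iff_false]
      intro hQ
      exact hcon.false ⟨Q, hQ⟩
    rw [hQs0, Finset.sum_empty] at h0
    have h1 : 0 < Module.finrank K K' := Module.finrank_pos
    have h2 := Groth.Agent.H55.Place.deg_pos hK P
    have := Nat.mul_pos h1 h2
    omega
  obtain ⟨G, bs, hB⟩ := Groth.Agent.H63.SemiFree2.exists_basis hK hK' P Qs hQs
  obtain ⟨π, hπ⟩ := Groth.Agent.H86.Tate.exists_isProj (Groth.Agent.H86.Tate.ballP P 0)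
  obtain ⟨πB, hπB⟩ := Groth.Agent.H86.Tate.exists_isProj
    (Groth.Agent.H63.TateSemi.semiB Qs (0 : Qs → ℤ))
  have hπQ' : ∀ Q : Qs, ∃ πQ : K' →ₗ[k] K',
      LinearMap.IsProj (Groth.Agent.H63.TateSemi.AQ Qs (0 : Qs → ℤ) Q) πQ :=
    fun Q => Groth.Agent.H86.Tate.exists_isProj _
  choose πQ hπQ using hπQ'
  have h1 := Groth.Agent.H63.TateTrace.tate_trace bs (A := Groth.Agent.H86.Tate.ballP P 0)
    (B := Groth.Agent.H63.TateSemi.semiB Qs (0 : Qs → ℤ))
    (by
      intro z
      rw [hB]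
      refine forall_congr' fun g => ?_
      change _ ↔ P.1 _ ≤ WithZero.exp (-(0 : ℤ))
      rw [neg_zero, WithZero.exp_zero])
    (fun u => Groth.Agent.H86.Tate.nearStable_ballP hK P 0 u)
    (fun y => Groth.Agent.H63.TateSemi.nearStable_semiB Qs hK' 0 y) hπ hπB y x
  have h2 := Groth.Agent.H63.TateSemi.tate_semiB_eq_sum Qs hK' 0 hπB hπQ y (algebraMap K K' x)
  rw [← Groth.Agent.H86.Tate.tate_ball_eq_locRes P.2.1 hφ 0 hπ, ← h1, h2,
    ← Finset.sum_coe_sort Qs]
  refine Finset.sum_congr rfl fun Q _ => ?_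
  exact Groth.Agent.H86.Tate.tate_ball_eq_locRes Q.1.2.1 (hψ Q.1 Q.2) 0 (hπQ Q) y _

end Groth.Agent.S12578
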