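import Groth.Statements.S12580
import Groth.Agent.H55.FFZeros

set_option autoImplicit false
universe u v w
open FunFld

namespace Groth.Agent.S12580

/-- In a function field of one variable `K/k`, `Res_P(u dv) = 0` when `u, v ∈ O_P` (already before the
trace), and for a repartition `α` and `v ∈ K`, `Res_P(α_P dv) = 0` for almost all `P`; residues read
through Laurent expansions over `k` at every place. -/
theorem result (k : Type u) (K : Type v) [Field k] [Field K] [Algebra k K] (hK : FunFld.IsFunctionField k K)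
    (F : FunFld.Place k K → Type w) [∀ P, Field (F P)] [∀ P, Algebra k (F P)] [∀ P, FiniteDimensional k (F P)]
    (φ : ∀ P, K →ₐ[k] LaurentSeries (F P)) (hφ : ∀ P, LocRes.IsExpansionAt P.1 (φ P)) :
    (∀ (P : FunFld.Place k K) (u v : K), P.1 u ≤ 1 → P.1 v ≤ 1 → LocRes.resExp (φ P) u v = 0) ∧
    ∀ (a : FunFld.Place k K → K), a ∈ FunFld.adele k K → ∀ v : K,
      {P : FunFld.Place k K | LocRes.resExp (φ P) (a P) v ≠ 0}.Finite := by
  have hres : ∀ (P : FunFld.Place k K) (u v : K), P.1 u ≤ 1 → P.1 v ≤ 1 →
      LocRes.resExp (φ P) u v = 0 := by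
    intro P u v hu hv
    unfold LocRes.resExp
    rw [LocRes.res_apply]
    have h1 : Valued.v (φ P u) ≤ 1 := by rw [(hφ P).1]; exact hu
    have h2 : Valued.v (φ P v) ≤ WithZero.exp (-(0 : ℤ)) := by
      rw [(hφ P).1]; simpa using hv
    have hcoef := (LaurentSeries.valuation_le_iff_coeff_lt_eq_zero (F P)).mp h2
    have h3 : Valued.v (LocRes.D (F P) (φ P v)) ≤ WithZero.exp (-(0 : ℤ)) := by
      rw [LaurentSeries.valuation_le_iff_coeff_lt_eq_zero]
      intro m hm
      rw [LocRes.D_coeff]
      by_cases h : m + 1 < 0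
      · rw [hcoef (m + 1) h, smul_zero]
      · have h0 : m + 1 = 0 := by omega
        rw [h0, zero_smul]
    have h4 : Valued.v (φ P u * LocRes.D (F P) (φ P v)) ≤ WithZero.exp (-(0 : ℤ)) := by
      rw [map_mul]
      have := mul_le_mul' h1 h3
      rwa [one_mul] at this
    exact (LaurentSeries.valuation_le_iff_coeff_lt_eq_zero (F P)).mp h4 (-1) (by omega)
  refine ⟨hres, ?_⟩
  intro a ha v
  have ha' : {P : FunFld.Place k K | ¬ P.1 (a P) ≤ 1}.Finite := ha
  have hv' : {P : FunFld.Place k K | 1 < P.1 v}.Finite := by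
    by_cases hv0 : v = 0
    · have : {P : FunFld.Place k K | 1 < P.1 v} = ∅ := by
        ext P
        simp only [Set.mem_ofPred_eq, Set.mem_empty_iff_false, iff_false, not_lt]
        rw [hv0, map_zero]
        exact zero_le_one
      rw [this]
      exact Set.finite_empty
    · exact Groth.Agent.H55.Place.finite_poles hK hv0
  refine (ha'.union hv').subset ?_
  intro P hP
  by_contra hnot
  rw [Set.mem_union, not_or] at hnot
  apply hP
  exact hres P (a P) v (not_not.1 hnot.1) (not_lt.1 hnot.2)

end Groth.Agent.S12580
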