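import Groth.Statements.S12602
import Groth.Agent.H63.Jumps
import Groth.Agent.S12595

set_option autoImplicit false
open FunFld

namespace Groth.Agent.S12602

/-- Over an algebraically closed constant field, for a birational projective map `φ = (φ₀, …, φₙ)`, `n ≥
1`, with orders `j₁ < ⋯ < jₙ`, and `τ ≠ 1`, the `τ`-orders of `φ` are `(0, j₁, …, j_{m-1}, j_{m+1},
…, jₙ)` for some `m`: the jump indices of `[τ(φ) | D^(0) φ | D^(1) φ | ⋯]` after the leading column
are `0` and the `jₗ` with `l ≠ m`. -/
theorem result
    (k K : Type*) [Field k] [IsAlgClosed k] [Field K] [Algebra k K]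
    (hK : FunFld.IsFunctionField k K) {n : ℕ} (hn : 0 < n) (φ : Fin (n + 1) → K) (hφ : LinearIndependent k φ)
    (h0 : φ 0 ≠ 0) (hbir : IntermediateField.adjoin k (Set.range fun i => φ i / φ 0) = ⊤)
    (τ : K →ₐ[k] K) (hτ : τ ≠ AlgHom.id k K) (s : K) (H : K →ₐ[k] PowerSeries K) (hH : LocRes.IsHasseFamily s H)
    (J : Fin n → ℕ) (hJ : FunFld.IsOrders K (FunFld.hcol (AlgHom.id k K) H φ) J) :
    ∃ m : Fin n, ∀ j : ℕ,
      FunFld.IsJump K (FunFld.hcol τ H φ) (j + 1) ↔ (j = 0 ∨ ∃ l, l ≠ m ∧ J l = j) := by
  classical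
  set e := FunFld.hcol (AlgHom.id k K) H φ with he
  set c := FunFld.hcol τ H φ with hc
  have hce : ∀ j, c (j + 1) = e (j + 1) := fun j => rfl
  have he0 : e 0 = φ := rfl
  have he1 : e 1 = φ := by
    funext i
    change LocRes.hasseD H 0 (φ i) = φ i
    rw [LocRes.hasseD_apply, PowerSeries.coeff_zero_eq_constantCoeff_apply]
    exact hH.2 (φ i)
  have hφ0 : φ ≠ 0 := fun h => h0 (congrFun h 0)
  -- jumps of e
  have hej0 : FunFld.IsJump K e 0 := by
    unfold FunFld.IsJump
    have : e '' Set.Iio 0 = ∅ := by ext x; simp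
    rw [this, Submodule.span_empty, Submodule.mem_bot, he0]
    exact hφ0
  have hej1 : ¬ FunFld.IsJump K e 1 := by
    unfold FunFld.IsJump
    rw [not_not, he1]
    apply Submodule.subset_span
    exact ⟨0, by simp, he0⟩
  have h0J : ∀ l, J l ≠ 0 := by
    intro l hl
    apply hej1
    have := (hJ.2 0).1 ⟨l, hl⟩
    exact this
  -- jumps of c
  have hcj0 : FunFld.IsJump K c 0 := by
    unfold FunFld.IsJump
    have : c '' Set.Iio 0 = ∅ := by ext x; simp
    rw [this, Submodule.span_empty, Submodule.mem_bot]
    intro h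
    apply h0
    have h1 : τ (φ 0) = 0 := congrFun h 0
    exact (map_eq_zero τ).1 h1
  have hcj1 : FunFld.IsJump K c 1 := by
    by_contra h
    exact hτ ((Groth.Agent.S12595.result k K hK φ h0 hbir τ s H hH).1 h)
  -- e-images lie in c-images above index 2
  have hsub : ∀ N, 2 ≤ N → e '' Set.Iio N ⊆ c '' Set.Iio N := by
    rintro N hN _ ⟨j, hj, rfl⟩
    cases j with
    | zero => exact ⟨1, hN, by rw [he0]; exact (he1).trans rfl |>.symm ▸ rfl⟩
    | succ j => exact ⟨j + 1, hj, rfl⟩
  have hcjump_sub : ∀ j, 1 ≤ j → FunFld.IsJump K c (j + 1) → FunFld.IsJump K e (j + 1) := by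
    intro j hj hjc hje
    apply hjc
    rw [hce]
    exact Submodule.span_mono (hsub (j + 1) (by omega)) hje
  -- the bound N
  set N := J ⟨n - 1, by omega⟩ + 2 with hN
  have hJN : ∀ l, J l + 1 < N := by
    intro l
    have : l ≤ ⟨n - 1, by omega⟩ := by
      rw [Fin.le_def]
      have := l.2
      change l.val ≤ n - 1
      omega
    have := hJ.1.monotone this
    omega
  -- count of e-jumps below N
  have hecount : ((Finset.range N).filter (FunFld.IsJump K e)).card = n + 1 := by
    have hfil : (Finset.range N).filter (FunFld.IsJump K e) =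
        insert 0 (Finset.univ.image (fun l : Fin n => J l + 1)) := by
      ext j
      simp only [Finset.mem_filter, Finset.mem_range, Finset.mem_insert, Finset.mem_image,
        Finset.mem_univ, true_and]
      constructor
      · rintro ⟨_, hj⟩
        cases j with
        | zero => exact Or.inl rfl
        | succ j' =>
          obtain ⟨l, hl⟩ := (hJ.2 j').2 hj
          exact Or.inr ⟨l, by rw [hl]⟩
      · rintro (rfl | ⟨l, rfl⟩)
        · exact ⟨by omega, hej0⟩
        · exact ⟨hJN l, (hJ.2 (J l)).1 ⟨l, rfl⟩⟩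
    rw [hfil, Finset.card_insert_of_notMem, Finset.card_image_of_injective, Finset.card_univ,
      Fintype.card_fin]
    · intro a b hab
      exact hJ.1.injective (Nat.succ_injective hab)
    · simp
  have hetop : Submodule.span K (e '' Set.Iio N) = ⊤ := by
    apply Submodule.eq_top_of_finrank_eq
    rw [Groth.Agent.H63.finrank_span_Iio e N, hecount, Module.finrank_fin_fun]
  have hctop : Submodule.span K (c '' Set.Iio N) = ⊤ := by
    rw [eq_top_iff, ← hetop]
    exact Submodule.span_mono (hsub N (by omega))
  have hccount : ((Finset.range N).filter (FunFld.IsJump K c)).card = n + 1 := by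
    rw [← Groth.Agent.H63.finrank_span_Iio c N, hctop, finrank_top, Module.finrank_fin_fun]
  -- the set T
  set T : Finset (Fin n) := Finset.univ.filter (fun l => FunFld.IsJump K c (J l + 1)) with hT
  have hfilc : (Finset.range N).filter (FunFld.IsJump K c) =
      insert 0 (insert 1 (T.image (fun l : Fin n => J l + 1))) := by
    ext j
    simp only [Finset.mem_filter, Finset.mem_range, Finset.mem_insert, Finset.mem_image, hT,
      Finset.mem_univ, true_and]
    constructor
    · rintro ⟨_, hj⟩
      cases j with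
      | zero => exact Or.inl rfl
      | succ j' =>
        rcases Nat.eq_zero_or_pos j' with h0' | hpos
        · subst h0'
          exact Or.inr (Or.inl rfl)
        · obtain ⟨l, hl⟩ := (hJ.2 j').2 (hcjump_sub j' hpos hj)
          refine Or.inr (Or.inr ⟨l, ?_, by rw [hl]⟩)
          rw [hl]
          exact hj
    · rintro (rfl | rfl | ⟨l, hl, rfl⟩)
      · exact ⟨by omega, hcj0⟩
      · exact ⟨by omega, hcj1⟩
      · exact ⟨hJN l, hl⟩
  have hTcard : T.card + 2 = n + 1 := by
    rw [← hccount, hfilc, Finset.card_insert_of_notMem, Finset.card_insert_of_notMem,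
      Finset.card_image_of_injective]
    · intro a b hab
      exact hJ.1.injective (Nat.succ_injective hab)
    · simp only [Finset.mem_image, not_exists, not_and]
      intro l _ hl
      exact h0J l (by omega)
    · simp only [Finset.mem_insert, Finset.mem_image, not_or, not_exists, not_and]
      refine ⟨by omega, fun l _ hl => by omega⟩
  have hcompl : (Finset.univ \ T).card = 1 := by
    rw [Finset.card_sdiff_of_subset (Finset.subset_univ T), Finset.card_univ, Fintype.card_fin]
    omega
  obtain ⟨m, hm⟩ := Finset.card_eq_one.1 hcompl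
  have hmT : ∀ l, l ∈ T ↔ l ≠ m := by
    intro l
    have : l ∈ Finset.univ \ T ↔ l = m := by rw [hm, Finset.mem_singleton]
    rw [Finset.mem_sdiff] at this
    constructor
    · intro hl hlm
      exact (this.2 hlm).2 hl
    · intro hl
      by_contra hnot
      exact hl (this.1 ⟨Finset.mem_univ l, hnot⟩)
  refine ⟨m, fun j => ?_⟩
  constructor
  · intro hj
    rcases Nat.eq_zero_or_pos j with h0' | hpos
    · exact Or.inl h0'
    · obtain ⟨l, hl⟩ := (hJ.2 j).2 (hcjump_sub j hpos hj)
      refine Or.inr ⟨l, (hmT l).1 ?_, hl⟩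
      rw [hT, Finset.mem_filter]
      refine ⟨Finset.mem_univ l, ?_⟩
      rw [hl]
      exact hj
  · rintro (rfl | ⟨l, hlm, rfl⟩)
    · exact hcj1
    · have := (hmT l).2 hlm
      rw [hT, Finset.mem_filter] at this
      exact this.2

end Groth.Agent.S12602
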