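import Groth.Statements.S12608
import Groth.Agent.H86.HS14
import Groth.Agent.S12605
import Groth.Agent.S12601
import Groth.Agent.S12615

set_option autoImplicit false
open FunFld Groth.Agent.H86

namespace Groth.Agent.S12608

/-- Over an algebraically closed constant field, let `φ = (φ₀, …, φₙ)` be an effective projective map
normalized at the place `P`, `t` a local parameter at `P`, `j₁, …, jₙ` the orders of `φ` and `j'₁,
…, j'ₙ` the orders of `φ` at `P`. Then `jₗ ≤ j'ₗ` for all `l`, and the following are equivalent: all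
`j'ₗ = jₗ`; the Wronskian `w_t(φ)` does not vanish at `P`; the Weierstrass divisor `W(φ)` has
coefficient `0` at `P` (the divisor of `dt` in it read through a family of Laurent expansions). -/
theorem result
    (k K : Type*) [Field k] [IsAlgClosed k] [Field K] [Algebra k K]
    (hK : FunFld.IsFunctionField k K) (P : FunFld.Place k K) {n : ℕ} (φ : Fin (n + 1) → K) (hφ : LinearIndependent k φ)
    (heff : (1 : K) ∈ Submodule.span k (Set.range φ)) (hnorm : ∀ i, P.1 (φ i) ≤ 1)
    (t : K) (ht : P.1 t = WithZero.exp (-1))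
    (Ht : K →ₐ[k] PowerSeries K) (hHt : LocRes.IsHasseFamily t Ht)
    (J : Fin n → ℕ) (hJ : FunFld.IsOrders K (FunFld.hcol (AlgHom.id k K) Ht φ) J)
    (J' : Fin n → ℕ) (hJ' : FunFld.IsOrders (IsLocalRing.ResidueField P.O) (FunFld.hcolAt P Ht φ) J')
    (Φ : FunFld.Place k K → (K →ₐ[k] LaurentSeries k))
    (hΦ : ∀ P : FunFld.Place k K, LocRes.IsExpansionAt P.1 (Φ P)) :
    (∀ l, J l ≤ J' l) ∧
    ((∀ l, J' l = J l) ↔ FunFld.evalP P (FunFld.wrMat (AlgHom.id k K) Ht φ J).det ≠ 0) ∧
    ((∀ l, J' l = J l) ↔ FunFld.wDiv (AlgHom.id k K) Ht Φ t φ J P = 0) := by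
  have hidfix : FunFld.IsFixedPt (AlgHom.id k K) P := fun z hz => hz
  have hJ'pos : ∀ l, 0 < J' l := fun l => FF.orders_pos P hHt φ hJ' l
  -- part 1
  have h1 : ∀ l, J l ≤ J' l := by
    have h5 := Groth.Agent.S12605.result k K hK (AlgHom.id k K) P hidfix φ hφ heff hnorm t ht Ht hHt
      J' hJ' J' hJ'.1
    have hval := (h5.2 (Or.inl hJ'pos)).mpr (by
      rw [FF.det_binomMat_self k J' hJ'.1]; exact one_ne_zero)
    have hdet : (FunFld.wrMat (AlgHom.id k K) Ht φ J').det ≠ 0 := by
      intro h0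
      rw [h0, map_zero] at hval
      exact WithZero.exp_ne_zero hval.symm
    exact Groth.Agent.S12601.result k K hK φ hφ (AlgHom.id k K) t Ht hHt J hJ J' hJ'.1 hdet
  have h15 := Groth.Agent.S12615.result k K hK (AlgHom.id k K) P hidfix φ hφ heff hnorm t ht Ht hHt
    J hJ J' hJ' Φ hΦ
  have hsum_nonneg : ∀ l ∈ (Finset.univ : Finset (Fin n)), (0 : ℤ) ≤ (J' l : ℤ) - J l := by
    intro l _
    have := h1 l
    omega
  -- part 3
  have h3 : (∀ l, J' l = J l) ↔ FunFld.wDiv (AlgHom.id k K) Ht Φ t φ J P = 0 := by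
    constructor
    · intro heq
      have hJJ : J' = J := funext heq
      have hs : ∑ l, ((J' l : ℤ) - J l) = 0 := by
        apply Finset.sum_eq_zero
        intro l _
        rw [heq l, sub_self]
      rw [(h15.2 (Or.inl rfl)).mpr (by
        rw [hJJ, FF.det_binomMat_self k J hJ.1]; exact one_ne_zero), hs]
    · intro hw
      have hle := h15.1
      rw [hw] at hle
      have hs : ∑ l, ((J' l : ℤ) - J l) = 0 :=
        le_antisymm hle (Finset.sum_nonneg hsum_nonneg)
      intro l
      have := (Finset.sum_eq_zero_iff_of_nonneg hsum_nonneg).mp hs l (Finset.mem_univ l)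
      omega
  refine ⟨h1, ?_, h3⟩
  rw [h3]
  have h0 : ∃ i, φ i ≠ 0 := ⟨0, hφ.ne_zero 0⟩
  have hdet0 : (FunFld.wrMat (AlgHom.id k K) Ht φ J).det ≠ 0 :=
    FF.det_wrMat_ne_zero_of_isOrders _ Ht φ h0 J hJ
  have hw := FF.wDiv_apply hK P (AlgHom.id k K) hidfix φ heff hnorm t ht Ht Φ (hΦ P) J
  have hv := Groth.Agent.H55.Place.val_eq_exp_neg_ord P hdet0
  have hle1 : P.1 (FunFld.wrMat (AlgHom.id k K) Ht φ J).det ≤ 1 := by
    have h5 := Groth.Agent.S12605.result k K hK (AlgHom.id k K) P hidfix φ hφ heff hnorm t ht Ht hHt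
      J' hJ' J hJ.1
    refine h5.1.trans ?_
    rw [← WithZero.exp_zero, WithZero.exp_le_exp]
    have := Finset.sum_nonneg hsum_nonneg
    omega
  rw [hw, Ne, FF.evalP_eq_zero_iff P hle1, hv]
  constructor
  · intro h
    rw [h, neg_zero, WithZero.exp_zero]
    exact lt_irrefl _
  · intro h
    rw [← WithZero.exp_zero, WithZero.exp_lt_exp] at h
    rw [hv, ← WithZero.exp_zero, WithZero.exp_le_exp] at hle1
    omega

end Groth.Agent.S12608
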