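import Groth.Statements.S12609
import Groth.Agent.H86.HS11

set_option autoImplicit false
open FunFld Groth.Agent.H86 Groth.Agent.H55 Module

namespace Groth.Agent.S12609

/-- Over an algebraically closed constant field, let `φ` be the canonical map (a basis of `L(C)`, `C`
canonical), normalized at the place `P` after multiplication by `y ≠ 0`, and `t` a local parameter
at `P`. For `j ≥ 1`: the canonical orders at `P` include `j` exactly when `j + 1` is a gap number at
`P`, i.e. `L((j+1)P) = L(jP)`. -/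
theorem result
    (k K : Type*) [Field k] [IsAlgClosed k] [Field K] [Algebra k K]
    (hK : FunFld.IsFunctionField k K) (C : FunFld.Divisor k K) (hC : FunFld.IsCanonical k K C)
    {n : ℕ} (φ : Fin (n + 1) → K) (hφ : LinearIndependent k φ)
    (hspan : Submodule.span k (Set.range φ) = FunFld.L C)
    (P : FunFld.Place k K) (y : K) (hy : y ≠ 0)
    (heff : (1 : K) ∈ Submodule.span k (Set.range (y • φ))) (hnorm : ∀ i, P.1 (y * φ i) ≤ 1)
    (t : K) (ht : P.1 t = WithZero.exp (-1))
    (Ht : K →ₐ[k] PowerSeries K) (hHt : LocRes.IsHasseFamily t Ht) (j : ℕ) (hj : 1 ≤ j) :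
    FunFld.IsJump (IsLocalRing.ResidueField P.O) (FunFld.hcolAt P Ht (y • φ)) (j + 1) ↔
      FunFld.L (Finsupp.single P ((j : ℤ) + 1)) = FunFld.L (Finsupp.single P (j : ℤ)) := by
  classical
  have hfinL := L_finite hK C
  -- genus ≥ 1
  have hg : 1 ≤ FunFld.genus k K := by
    have h1 := (canonical_ell_deg hK hC).1
    unfold FunFld.ell at h1
    rw [← h1, ← hspan, finrank_span_eq_card hφ, Fintype.card_fin]
    omega
  have hnorm' : ∀ i, P.1 ((y • φ) i) ≤ 1 := hnorm
  -- elements of `L C` times `y` are integral at `P`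
  have hcomb : ∀ γ : Fin (n + 1) → k, ∑ i, γ i • (y • φ) i = y * ∑ i, γ i • φ i := by
    intro γ
    rw [Finset.mul_sum]
    apply Finset.sum_congr rfl
    intro i _
    rw [Pi.smul_apply, smul_eq_mul, Algebra.smul_def, Algebra.smul_def]
    ring
  have hLint : ∀ f ∈ FunFld.L C, P.1 (y * f) ≤ 1 := by
    intro f hf
    rw [← hspan] at hf
    obtain ⟨γ, rfl⟩ := (Submodule.mem_span_range_iff_exists_fun k).mp hf
    rw [← hcomb]
    exact FF.comb_int hK P hHt ht (y • φ) hnorm' γ
  -- the function `1 / y` lies in `L C`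
  obtain ⟨γ₀, hγ₀⟩ := (Submodule.mem_span_range_iff_exists_fun k).mp heff
  rw [hcomb] at hγ₀
  have hf₀ : ∑ i, γ₀ i • φ i ∈ FunFld.L C := by
    rw [← hspan]
    exact Submodule.sum_mem _ fun i _ =>
      Submodule.smul_mem _ _ (Submodule.subset_span ⟨i, rfl⟩)
  have hvy : P.1 y ≠ 0 := (map_ne_zero P.1).mpr hy
  have hv₀ : P.1 (∑ i, γ₀ i • φ i) = (P.1 y)⁻¹ := by
    have := congrArg P.1 hγ₀
    rw [map_mul, map_one] at this
    exact eq_inv_of_mul_eq_one_right this
  obtain ⟨f₁, hf₁, hv₁⟩ := FF.canonical_bpf hK hC P hg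
  have hyval : P.1 y = WithZero.exp (-(C P)) := by
    have h1 : WithZero.exp (C P) ≤ (P.1 y)⁻¹ := by
      have := hLint f₁ hf₁
      rw [map_mul, hv₁] at this
      rw [← one_div, le_div_iff₀ (zero_lt_iff.mpr hvy), mul_comm]
      exact this
    have h2 : (P.1 y)⁻¹ ≤ WithZero.exp (C P) := by
      rw [← hv₀]
      exact hf₀ P
    have h3 : (P.1 y)⁻¹ = WithZero.exp (C P) := le_antisymm h2 h1
    rw [WithZero.exp_neg, ← h3, inv_inv]
  rw [FF.isJump_hcolAt_iff hK P hHt ht (y • φ) hnorm' j hj, FF.gap_iff hK hC P j]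
  constructor
  · rintro ⟨γ, hγ⟩
    rw [hcomb, map_mul, hyval] at hγ
    refine ⟨∑ i, γ i • φ i, ?_, ?_⟩
    · rw [← hspan]
      exact Submodule.sum_mem _ fun i _ =>
        Submodule.smul_mem _ _ (Submodule.subset_span ⟨i, rfl⟩)
    · have h4 : WithZero.exp (C P) * (WithZero.exp (-(C P)) * P.1 (∑ i, γ i • φ i)) =
          WithZero.exp (C P) * WithZero.exp (-(j : ℤ)) := by rw [hγ]
      rw [← mul_assoc, ← WithZero.exp_add, add_neg_cancel, WithZero.exp_zero, one_mul,
        ← WithZero.exp_add] at h4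
      rw [h4]
      congr 1
  · rintro ⟨f, hf, hv⟩
    rw [← hspan] at hf
    obtain ⟨γ, rfl⟩ := (Submodule.mem_span_range_iff_exists_fun k).mp hf
    refine ⟨γ, ?_⟩
    rw [hcomb, map_mul, hyval, hv, ← WithZero.exp_add]
    congr 1
    ring

end Groth.Agent.S12609
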