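import Groth.Statements.S12611
import Groth.Agent.H86.HS21
import Groth.Agent.H55.FFAdele

set_option autoImplicit false
open FunFld Groth.Agent.H86

namespace Groth.Agent.S12611

/-- Over an algebraically closed constant field of characteristic `0` or greater than `deg φ`, a
birational projective map `φ = (φ₀, …, φₙ)` is classical: its orders are `(1, 2, …, n)`, and for a
`k`-endomorphism `τ ≠ 1` its `τ`-orders are `(0, 1, …, n-1)`. (The published statement has no
fixed-point hypothesis for `τ ≠ 1` and is false without one: on a smooth plane cubic in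
characteristic `0`, pulling back along multiplication by `-2` gives `τ`-orders `(0, 2)`. This row
assumes `τ` has a strong fixed point — a place whose maximal ideal `τ` maps into its square — which
is what the proof uses, through the equality criterion for Wronskian orders at such a point.) -/
theorem result
    (k K : Type*) [Field k] [IsAlgClosed k] [Field K] [Algebra k K]
    (hK : FunFld.IsFunctionField k K) {n : ℕ} (φ : Fin (n + 1) → K) (hφ : LinearIndependent k φ)
    (h0 : φ 0 ≠ 0) (hbir : IntermediateField.adjoin k (Set.range fun i => φ i / φ 0) = ⊤)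
    (hchar : ringChar k = 0 ∨ (FunFld.mapDiv k φ).deg < ringChar k)
    (τ : K →ₐ[k] K) (s : K) (H : K →ₐ[k] PowerSeries K) (hH : LocRes.IsHasseFamily s H) :
    (τ = AlgHom.id k K → FunFld.IsOrders K (FunFld.hcol τ H φ) (fun l : Fin n => (l : ℕ) + 1)) ∧
    (τ ≠ AlgHom.id k K → (∃ P : FunFld.Place k K, FunFld.IsStrongFixedPt τ P) →
      FunFld.IsOrders K (FunFld.hcol τ H φ) (fun l : Fin n => (l : ℕ))) := by
  classical
  -- casts of natural numbers are injective below the degree
  have hinjN : ∀ x y : ℕ, (x : ℤ) ≤ (FunFld.mapDiv k φ).deg → (y : ℤ) ≤ (FunFld.mapDiv k φ).deg →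
      ((x : ℕ) : k) = ((y : ℕ) : k) → x = y := by
    intro x y hx hy hxy
    rcases hchar with h0 | hlt
    · haveI : CharP k 0 := by
        rw [← h0]
        exact ringChar.charP k
      haveI : CharZero k := CharP.charP_to_charZero k
      exact Nat.cast_injective hxy
    · haveI : CharP k (ringChar k) := ringChar.charP k
      have hx' : x < ringChar k := by
        have : (x : ℤ) < (ringChar k : ℤ) := lt_of_le_of_lt hx hlt
        exact_mod_cast this
      have hy' : y < ringChar k := by
        have : (y : ℤ) < (ringChar k : ℤ) := lt_of_le_of_lt hy hlt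
        exact_mod_cast this
      exact CharP.natCast_injOn_Iio k (ringChar k) hx' hy' hxy
  refine ⟨fun hτ => ?_, fun hτ hex => ?_⟩
  · obtain ⟨P⟩ := Groth.Agent.H55.exists_place hK
    have hP : FunFld.IsFixedPt τ P := by
      rw [hτ]
      intro z hz
      exact hz
    apply FF.isOrders_of_binom hK φ hφ τ P hP hH (fun l : Fin n => (l : ℕ) + 1)
      (fun a b h => Nat.succ_lt_succ h) (Or.inl fun l => Nat.succ_pos _)
    · intro J' hJ'mono hJ'pos hJ'deg
      apply FF.det_binomMat_succ_ne_zero k J' hJ'pos
      · intro r r' h
        exact hJ'mono.injective (hinjN _ _ (hJ'deg r) (hJ'deg r') h)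
      · intro r h0
        have hd0 : (0 : ℤ) ≤ (FunFld.mapDiv k φ).deg := le_trans (by positivity) (hJ'deg r)
        have h1 := hinjN (J' r) 0 (hJ'deg r) (by simpa using hd0) (by simpa using h0)
        have h2 := hJ'pos r
        omega
    · intro J hJ l
      rw [hτ] at hJ
      exact FF.add_le_of_strictMono J hJ.1 1 (fun l => FF.orders_id_pos hH φ J hJ l) l
  · obtain ⟨P, hPs⟩ := hex
    apply FF.isOrders_of_binom hK φ hφ τ P (FF.isFixedPt_of_strong P τ hPs) hH (fun l : Fin n => (l : ℕ))
      (fun a b h => h) (Or.inr hPs)
    · intro J' hJ'mono hJ'pos hJ'deg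
      exact FF.det_binomMat_id_ne_zero k J'
        (fun r r' h => hJ'mono.injective (hinjN _ _ (hJ'deg r) (hJ'deg r') h))
    · intro J hJ l
      have := FF.add_le_of_strictMono J hJ.1 0 (fun _ => Nat.zero_le _) l
      simpa using this

end Groth.Agent.S12611
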