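import Groth.Statements.S12616
import Groth.Agent.H63.OrdDiff2
import Groth.Agent.H63.MapDiv2
import Groth.Agent.H63.CoordChange

set_option autoImplicit false
open FunFld

namespace Groth.Agent.S12616

/-- Over an algebraically closed constant field, the adjoint divisor `Δ(φ) = (e - 3)[φ] - [dx/f̂_y]` of
an effective plane map `φ = (1 : x : y)` of degree `e`, with a homogeneous relation `f` of the same
degree `e` satisfying `f(1, x, y) = 0`, depends only on the equivalence class of `φ`: it is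
unchanged under a change of projective coordinates `X = AX'`, with `x' = u₁/u₀`, `y' = u₂/u₀`, `u =
A⁻¹(1, x, y)ᵗ`, `f'(X') = f(AX')`. Here `dx ≠ 0`, both `f̂_y` and `f̂'_{y'}` are nonzero, and
divisors of differentials are read through a family of Laurent expansions. (The published statement
takes `f` to be the minimal relation of `x` and `y` for a plane model `K = k(x, y)`, where the
degree of the map equals the degree of `f`; this row assumes only that `f` is homogeneous of degree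
equal to the degree of the map, which is all the change-of-coordinates computation uses — when the
two degrees differ the two sides differ by a multiple of the divisor of `u₀`.) -/
theorem result
    (k K : Type*) [Field k] [IsAlgClosed k] [Field K] [Algebra k K]
    (hK : FunFld.IsFunctionField k K) (f : MvPolynomial (Fin 3) k) (e : ℕ) (hf : f.IsHomogeneous e)
    (x y : K) (hfxy : MvPolynomial.aeval ![(1 : K), x, y] f = 0)
    (hdx : KaehlerDifferential.D k K x ≠ 0)
    (he : (FunFld.mapDiv k ![(1 : K), x, y]).deg = e)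
    (A : Matrix (Fin 3) (Fin 3) k) (hA : A.det ≠ 0)
    (u : Fin 3 → K) (hu : ∀ i, ∑ j, algebraMap k K (A i j) * u j = ![(1 : K), x, y] i)
    (hu0 : u 0 ≠ 0)
    (hfy : (MvPolynomial.aeval ![(1 : K), x, y] (MvPolynomial.pderiv 2 f)) ≠ 0)
    (hfy' : (MvPolynomial.aeval ![(1 : K), u 1 / u 0, u 2 / u 0] (MvPolynomial.pderiv 2 (MvPolynomial.aeval (fun i : Fin 3 => ∑ j, MvPolynomial.C (A i j) * MvPolynomial.X j) f))) ≠ 0)
    (Φ : FunFld.Place k K → (K →ₐ[k] LaurentSeries k))
    (hΦ : ∀ P : FunFld.Place k K, LocRes.IsExpansionAt P.1 (Φ P)) :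
    ((FunFld.mapDiv k ![(1 : K), x, y]).deg - 3) • FunFld.mapDiv k ![(1 : K), x, y] -
        FunFld.divDiff Φ (MvPolynomial.aeval ![(1 : K), x, y] (MvPolynomial.pderiv 2 f))⁻¹ x =
      ((FunFld.mapDiv k ![(1 : K), u 1 / u 0, u 2 / u 0]).deg - 3) •
          FunFld.mapDiv k ![(1 : K), u 1 / u 0, u 2 / u 0] -
        FunFld.divDiff Φ (MvPolynomial.aeval ![(1 : K), u 1 / u 0, u 2 / u 0] (MvPolynomial.pderiv 2 (MvPolynomial.aeval (fun i : Fin 3 => ∑ j, MvPolynomial.C (A i j) * MvPolynomial.X j) f)))⁻¹ (u 1 / u 0) := by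
  classical
  open Groth.Agent.H55 Groth.Agent.H63.MapDiv2 Groth.Agent.H63.OrdDiff2 in
  set φ : Fin 3 → K := ![(1 : K), x, y] with hφdef
  set φ' : Fin 3 → K := ![(1 : K), u 1 / u 0, u 2 / u 0] with hφ'def
  set fy := MvPolynomial.aeval φ (MvPolynomial.pderiv 2 f) with hfydef
  set fy' := MvPolynomial.aeval φ' (MvPolynomial.pderiv 2
    (MvPolynomial.aeval (fun i : Fin 3 => ∑ j, MvPolynomial.C (A i j) * MvPolynomial.X j) f)) with hfy'def
  have hmain := Groth.Agent.H63.CoordChange.main k K f e hf x y hfxy A hA u hu hu0 hfy hfy'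
  rw [← hφdef, ← hφ'def, ← hfydef, ← hfy'def] at hmain
  set c : K := algebraMap k K A.det * (u 0)⁻¹ ^ ((e : ℤ) - 3) with hcdef
  have hz0 : (u 0)⁻¹ ^ ((e : ℤ) - 3) ≠ 0 := zpow_ne_zero _ (inv_ne_zero hu0)
  have hdA0 : algebraMap k K A.det ≠ 0 := (map_ne_zero _).2 hA
  have hc0 : c ≠ 0 := mul_ne_zero hdA0 hz0
  have hfyi : fy⁻¹ ≠ 0 := inv_ne_zero hfy
  have hfy'i : fy'⁻¹ ≠ 0 := inv_ne_zero hfy'
  -- dx' ≠ 0
  have hdx' : KaehlerDifferential.D k K (u 1 / u 0) ≠ 0 := by
    intro h0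
    rw [h0, smul_zero] at hmain
    exact (smul_ne_zero hfyi hdx) hmain
  -- tuples
  have hφ'eq : φ' = fun i => (u 0)⁻¹ * u i := by
    funext i
    fin_cases i
    · change (1 : K) = (u 0)⁻¹ * u 0
      rw [inv_mul_cancel₀ hu0]
    · change u 1 / u 0 = (u 0)⁻¹ * u 1
      rw [div_eq_inv_mul]
    · change u 2 / u 0 = (u 0)⁻¹ * u 2
      rw [div_eq_inv_mul]
  have hφeq : φ = fun i => ∑ j, algebraMap k K (A i j) * u j := by
    funext i
    exact (hu i).symm
  have hmap : ∀ P : FunFld.Place k K, FunFld.mapDiv k φ' P = P.ord (u 0) + FunFld.mapDiv k φ P := by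
    intro P
    rw [mapDiv_apply_of_one hK P φ' ⟨0, rfl⟩, mapDiv_apply_of_one hK P φ ⟨0, rfl⟩, hφ'eq, M_mul,
      hφeq, M_comb P u A hA, map_inv₀,
      WithZero.log_mul (inv_ne_zero ((Valuation.ne_zero_iff _).2 hu0)) (M_ne_zero P u hu0),
      WithZero.log_inv]
    rfl
  have hmapD : FunFld.mapDiv k φ' = FunFld.mapDiv k φ + FunFld.div k (u 0) := by
    ext P
    rw [Finsupp.add_apply, Place.div_apply hK, hmap P, add_comm]
  have hdeg : (FunFld.mapDiv k φ').deg = (FunFld.mapDiv k φ).deg := by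
    rw [hmapD, Divisor.deg_add, deg_div hK, add_zero]
  -- orders of the differentials
  have hord : ∀ P : FunFld.Place k K, LocRes.ordDiff (Φ P) fy⁻¹ x =
      -(((e : ℤ) - 3) * P.ord (u 0)) + LocRes.ordDiff (Φ P) fy'⁻¹ (u 1 / u 0) := by
    intro P
    have h1 : LocRes.ordDiff (Φ P) fy⁻¹ x = LocRes.ordDiff (Φ P) (c * fy'⁻¹) (u 1 / u 0) := by
      unfold LocRes.ordDiff LocRes.vDiff
      rw [Groth.Agent.H63.KaehlerFF.lift_smul_eq (Φ P) hmain]
    rw [h1, ordDiff_smul hK hdx' P (Φ P) (hΦ P) _ (mul_ne_zero hc0 hfy'i),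
      ordDiff_smul hK hdx' P (Φ P) (hΦ P) _ hfy'i, Place.ord_mul P hc0 hfy'i, hcdef,
      Place.ord_mul P hdA0 hz0, Place.ord_algebraMap, zero_add]
    have hzp : P.ord ((u 0)⁻¹ ^ ((e : ℤ) - 3)) = -(((e : ℤ) - 3) * P.ord (u 0)) := by
      unfold Place.ord
      rw [map_zpow₀, map_inv₀, WithZero.log_zpow, WithZero.log_inv]
      ring
    rw [hzp]
    ring
  ext P
  simp only [Finsupp.sub_apply, Finsupp.smul_apply, smul_eq_mul]
  rw [divDiff_apply hK hdx _ hfyi Φ hΦ, divDiff_apply hK hdx' _ hfy'i Φ hΦ, hdeg, hord P, hmap P, he]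
  ring

end Groth.Agent.S12616
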