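import Groth.Statements.S12630
import Mathlib

set_option autoImplicit false
universe u v
open CAlg

namespace Groth.Agent.S12630
open PowerSeries

section
variable {K : Type u} {A : Type v} [Field K] [CommRing A] [Algebra K A]

/-- a polynomial and its truncation have the same value at `x` modulo `I^n` when `x ∈ I`. -/
theorem aeval_sub_aeval_trunc_mem (I : Ideal A) (x : A) (hx : x ∈ I) (n : ℕ) (r : Polynomial K) :
    Polynomial.aeval x r - Polynomial.aeval x (trunc n (r : K⟦X⟧)) ∈ I ^ n := by
  have hdvd : (Polynomial.X : Polynomial K) ^ n ∣ r - trunc n (r : K⟦X⟧) := by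
    rw [Polynomial.X_pow_dvd_iff]
    intro d hd
    rw [Polynomial.coeff_sub, coeff_trunc, if_pos hd, Polynomial.coeff_coe, sub_self]
  obtain ⟨q, hq⟩ := hdvd
  rw [← map_sub, hq, map_mul, map_pow, Polynomial.aeval_X]
  exact Ideal.mul_mem_right _ _ (Ideal.pow_mem_pow hx n)

end


/-- Let `A` be a complete discrete valuation ring containing a field `K` that maps bijectively onto the
residue field (a coefficient field). Then for every generator `x` of the maximal ideal there is a
`K`-algebra isomorphism from the formal power series ring `K[[t]]` onto `A` sending `t` to `x`; it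
extends the evaluation map `K[t] → A`, `t ↦ x`, and is the only `K`-algebra map `K[[t]] → A` with `t
↦ x` since `A` is separated. (The first assertion, the mere existence of an isomorphism with a power
series ring, is the one-variable case of the structure of complete regular local rings with a
coefficient field and is not restated.) -/
theorem result (K : Type u) (A : Type v) [Field K]
    [CommRing A] [IsDomain A] [IsDiscreteValuationRing A] [IsAdicComplete (IsLocalRing.maximalIdeal A) A]
    [Algebra K A] (hK : Function.Bijective (algebraMap K (IsLocalRing.ResidueField A)))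
    (x : A) (hx : IsLocalRing.maximalIdeal A = Ideal.span {x}) :
    ∃ e : PowerSeries K ≃ₐ[K] A, e PowerSeries.X = x := by
  classical
  set m := IsLocalRing.maximalIdeal A with hm
  have hxm : x ∈ m := by rw [hx]; exact Ideal.mem_span_singleton_self x
  -- the maps at finite level
  let g : ∀ n : ℕ, K⟦X⟧ →ₗ[K] A ⧸ m ^ n := fun n =>
    (Ideal.Quotient.mkₐ K (m ^ n)).toLinearMap ∘ₗ (Polynomial.aeval x).toLinearMap ∘ₗ trunc n
  have hg : ∀ n p, g n p = Ideal.Quotient.mk (m ^ n) (Polynomial.aeval x (trunc n p)) := fun n p => rfl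
  have hg_one : ∀ n, g n 1 = 1 := by
    intro n
    cases n with
    | zero =>
      have : Subsingleton (A ⧸ m ^ 0) := by
        rw [pow_zero, Ideal.one_eq_top]
        exact Ideal.Quotient.subsingleton_iff.2 rfl
      exact Subsingleton.elim _ _
    | succ n => rw [hg, trunc_one, map_one, map_one]
  have hg_mul : ∀ n p q, g n (p * q) = g n p * g n q := by
    intro n p q
    rw [hg, hg, hg, ← map_mul, ← map_mul, ← trunc_trunc_mul_trunc, ← Polynomial.coe_mul]
    rw [Ideal.Quotient.eq, ← Ideal.neg_mem_iff, neg_sub]
    exact aeval_sub_aeval_trunc_mem m x hxm n _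
  let f : ∀ n : ℕ, K⟦X⟧ →ₐ[K] A ⧸ m ^ n := fun n =>
    AlgHom.ofLinearMap (g n) (hg_one n) (hg_mul n)
  have hf : ∀ {a b : ℕ} (hle : a ≤ b),
      (Ideal.Quotient.factorₐ K (Ideal.pow_le_pow_right hle)).comp (f b) = f a := by
    intro a b hle
    apply AlgHom.ext
    intro p
    change Ideal.Quotient.factor (Ideal.pow_le_pow_right hle) (g b p) = g a p
    rw [hg, hg, Ideal.Quotient.factor_mk, ← trunc_trunc_of_le p hle, Ideal.Quotient.eq]
    exact aeval_sub_aeval_trunc_mem m x hxm a _
  let φ : K⟦X⟧ →ₐ[K] A := IsAdicComplete.liftAlgHom m f hf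
  have hφ : ∀ n p, Ideal.Quotient.mk (m ^ n) (φ p) = Ideal.Quotient.mk (m ^ n) (Polynomial.aeval x (trunc n p)) :=
    fun n p => IsAdicComplete.mk_liftAlgHom m f hf n p
  have hhaus : ∀ a b : A, (∀ n, a - b ∈ m ^ n) → a = b := by
    intro a b h
    have hH : IsHausdorff m A := inferInstance
    rw [← sub_eq_zero]
    apply hH.haus'
    intro n
    rw [SModEq.zero, smul_eq_mul, Ideal.mul_top]
    exact h n
  have hφX : φ X = x := by
    apply hhaus
    intro n
    have h2 := hφ (n + 2) X
    rw [trunc_X, Polynomial.aeval_X, Ideal.Quotient.eq] at h2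
    exact Ideal.pow_le_pow_right (by omega) h2
  have hx0 : x ≠ 0 := by
    intro h0
    apply IsDiscreteValuationRing.not_a_field A
    rw [← hm, hx, h0, Ideal.span_singleton_eq_bot]
  -- injectivity
  have hinj : Function.Injective φ := by
    rw [injective_iff_map_eq_zero]
    intro p hp
    by_contra hp0
    have h1 : p = X ^ p.order.toNat * divXPowOrder p := X_pow_order_mul_divXPowOrder.symm
    have hunit : IsUnit (divXPowOrder p) := by
      rw [isUnit_iff_constantCoeff, isUnit_iff_ne_zero]
      intro h
      exact hp0 (constantCoeff_divXPowOrder_eq_zero_iff.1 h)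
    rw [h1, map_mul, map_pow, hφX] at hp
    rcases mul_eq_zero.1 hp with h | h
    · exact pow_ne_zero _ hx0 h
    · exact (hunit.map φ).ne_zero h
  -- surjectivity
  have hstep : ∀ a : A, ∃ (c : K) (a' : A), a = algebraMap K A c + x * a' := by
    intro a
    obtain ⟨c, hc⟩ := hK.2 (IsLocalRing.residue A a)
    have h1 : a - algebraMap K A c ∈ m := by
      rw [hm, ← IsLocalRing.residue_eq_zero_iff, map_sub, ← hc, sub_eq_zero]
      rfl
    rw [hx, Ideal.mem_span_singleton] at h1
    obtain ⟨a', ha'⟩ := h1
    exact ⟨c, a', by rw [← ha']; ring⟩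
  choose cf nf hcn using hstep
  have hsurj : Function.Surjective φ := by
    intro a
    let seq : ℕ → A := fun i => Nat.rec a (fun _ b => nf b) i
    have hseq : ∀ i, seq (i + 1) = nf (seq i) := fun i => rfl
    let p : K⟦X⟧ := PowerSeries.mk fun i => cf (seq i)
    have hsum : ∀ n, a = (∑ i ∈ Finset.range n, algebraMap K A (cf (seq i)) * x ^ i) + x ^ n * seq n := by
      intro n
      induction n with
      | zero => simp [seq]
      | succ n ih =>
        rw [Finset.sum_range_succ, hseq]
        nth_rw 1 [ih]
        nth_rw 1 [hcn (seq n)]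
        ring
    refine ⟨p, ?_⟩
    apply hhaus
    intro n
    have h2 := hφ n p
    rw [Ideal.Quotient.eq] at h2
    have h3 : Polynomial.aeval x (trunc n p) - a ∈ m ^ n := by
      have h4 : Polynomial.aeval x (trunc n p) =
          ∑ i ∈ Finset.range n, algebraMap K A (cf (seq i)) * x ^ i := by
        rw [Polynomial.aeval_def, eval₂_trunc_eq_sum_range]
        apply Finset.sum_congr rfl
        intro i _
        rw [coeff_mk]
      rw [h4]
      have h5 : (∑ i ∈ Finset.range n, algebraMap K A (cf (seq i)) * x ^ i) - a = -(x ^ n * seq n) := by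
        linear_combination (-1 : A) * hsum n
      rw [h5, neg_mem_iff]
      exact Ideal.mul_mem_right _ _ (Ideal.pow_mem_pow hxm n)
    have : φ p - a = (φ p - Polynomial.aeval x (trunc n p)) + (Polynomial.aeval x (trunc n p) - a) := by ring
    rw [this]
    exact Ideal.add_mem _ h2 h3
  exact ⟨AlgEquiv.ofBijective φ ⟨hinj, hsurj⟩, hφX⟩

end Groth.Agent.S12630
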