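import Groth.Statements.S1267
-- import your own Groth.Agent.* helpers here
import Groth.Agent.H70.FlatAss.FibreDepth
import Mathlib.LinearAlgebra.TensorProduct.Pi

set_option autoImplicit false
universe u
open FlatMor
open scoped TensorProduct

namespace Groth.Agent.S1267

/-- Let A be a local ring, I an ideal, U a quasi-compact open subset of Spec A and M an A-module such
that M/IM is flat over A/I and M_p is flat over A for all p in U. Let I₂ be the kernel of I → Γ(U,
I/I²), that is the set of x ∈ I such that for every p ∈ U some s outside p has s·x ∈ I². Then M/I₂M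
is flat over A/I₂. -/
theorem result {A : Type u} [CommRing A] [IsLocalRing A] (I : Ideal A)
    (U : Set (PrimeSpectrum A)) (hU : IsOpen U) (hUc : IsCompact U)
    (M : Type u) [AddCommGroup M] [Module A M]
    [Module.Flat (A ⧸ I) (M ⧸ (I • ⊤ : Submodule A M))]
    (hflat : ∀ p ∈ U, Module.Flat A (LocalizedModule p.asIdeal.primeCompl M))
    (I₂ : Ideal A) (hI₂ : ∀ x : A, x ∈ I₂ ↔ x ∈ I ∧ ∀ p ∈ U, ∃ s : A, s ∉ p.asIdeal ∧ s * x ∈ I ^ 2) :
    Module.Flat (A ⧸ I₂) (M ⧸ (I₂ • ⊤ : Submodule A M)) := by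
  classical
  -- conversions between `M ⧸ I • ⊤` and `(A ⧸ I) ⊗ M`
  have e1 : (A ⧸ I) ⊗[A] M ≃ₗ[A ⧸ I] (M ⧸ (I • ⊤ : Submodule A M)) :=
    (TensorProduct.quotTensorEquivQuotSMul M I).extendScalarsOfSurjective
      Ideal.Quotient.mk_surjective
  have e2 : (A ⧸ I₂) ⊗[A] M ≃ₗ[A ⧸ I₂] (M ⧸ (I₂ • ⊤ : Submodule A M)) :=
    (TensorProduct.quotTensorEquivQuotSMul M I₂).extendScalarsOfSurjective
      Ideal.Quotient.mk_surjective
  haveI hflatI : Module.Flat (A ⧸ I) ((A ⧸ I) ⊗[A] M) := Module.Flat.of_linearEquiv e1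
  suffices h : Module.Flat (A ⧸ I₂) ((A ⧸ I₂) ⊗[A] M) from Module.Flat.of_linearEquiv e2.symm
  obtain ⟨t, ht⟩ := (PrimeSpectrum.isCompact_isOpen_iff).mp ⟨hUc, hU⟩
  have hmemU : ∀ p : PrimeSpectrum A, p ∈ U ↔ ∃ f ∈ t, f ∉ p.asIdeal := by
    intro p
    rw [← ht, Set.mem_compl_iff, PrimeSpectrum.mem_zeroLocus, Set.not_subset]
    rfl
  have hI2le : I ^ 2 ≤ I₂ := fun x hx => (hI₂ x).mpr
    ⟨Ideal.pow_le_self two_ne_zero hx, fun p _ =>
      ⟨1, (Ideal.ne_top_iff_one _).mp p.2.ne_top, by rwa [one_mul]⟩⟩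
  set K : Ideal (A ⧸ I₂) := I.map (Ideal.Quotient.mk I₂) with hKdef
  have hK2 : K ^ 2 = ⊥ := by
    rw [hKdef, ← Ideal.map_pow, Ideal.map_eq_bot_iff_le_ker, Ideal.mk_ker]
    exact hI2le
  have hflatK : Module.Flat ((A ⧸ I₂) ⧸ K) (((A ⧸ I₂) ⧸ K) ⊗[A] M) := by
    apply Groth.Agent.H70.FlatAss.flat_of_map_eq_bot I ((A ⧸ I₂) ⧸ K)
    rw [IsScalarTower.algebraMap_eq A (A ⧸ I₂) ((A ⧸ I₂) ⧸ K), ← Ideal.map_map,
      Ideal.Quotient.algebraMap_eq, Ideal.Quotient.algebraMap_eq, Ideal.map_quotient_self]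
  refine Groth.Agent.H70.FlatAss.flat_of_rTensor_ker M (A ⧸ I₂) K ⟨2, hK2⟩ ?_
  intro y hy
  let ι : K →ₗ[A] (A ⧸ I₂) := K.subtype.restrictScalars A
  have hι : Function.Injective ι := Submodule.injective_subtype K
  set z := TensorProduct.comm A K M y with hz
  have hzι : ι.lTensor M z = 0 := by
    rw [hz, Groth.Agent.H70.FlatAss.lTensor_comm_apply, hy, map_zero]
  -- `z` is locally zero on `U`
  have hloc : ∀ p ∈ U, ∃ s : A, s ∉ p.asIdeal ∧ s • z = 0 := by
    intro p hp
    haveI := hflat p hp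
    exact Groth.Agent.H70.FlatAss.exists_smul_eq_zero_of_flat_localizedModule p.asIdeal M ι hι z hzι
  -- hence killed by powers of the elements of `t`
  let ann : Ideal A := LinearMap.ker (LinearMap.toSpanSingleton A (M ⊗[A] K) z)
  have hmem : ∀ b : A, b ∈ ann ↔ b • z = 0 := by
    intro b
    rw [LinearMap.mem_ker, LinearMap.toSpanSingleton_apply]
  have hpow : ∀ f ∈ t, ∃ N : ℕ, f ^ N • z = 0 := by
    intro f hf
    have hrad : f ∈ ann.radical := by
      rw [Ideal.radical_eq_sInf, Submodule.mem_sInf]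
      rintro q ⟨hle, hq⟩
      by_contra hfq
      have hqU : (⟨q, hq⟩ : PrimeSpectrum A) ∈ U := (hmemU _).mpr ⟨f, hf, hfq⟩
      obtain ⟨s, hsq, hsz⟩ := hloc _ hqU
      exact hsq (hle ((hmem s).mpr hsz))
    obtain ⟨N, hN⟩ := hrad
    exact ⟨N, (hmem _).mp hN⟩
  choose! Nf hNf using hpow
  set N := t.sup Nf with hNdef
  have hN : ∀ f ∈ t, f ^ N • z = 0 := by
    intro f hf
    have hle : Nf f ≤ N := Finset.le_sup hf
    rw [← Nat.sub_add_cancel hle, pow_add, mul_smul, hNf f hf, smul_zero]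
  -- the `A ⧸ I`-module structure on `K`
  have hTor : Module.IsTorsionBySet A K I := by
    rintro ⟨k, hk⟩ ⟨a, ha⟩
    obtain ⟨b, hb, rfl⟩ :=
      (Ideal.mem_map_iff_of_surjective _ Ideal.Quotient.mk_surjective).mp hk
    apply Subtype.ext
    change a • (Ideal.Quotient.mk I₂ b) = 0
    have h1 : a • (Ideal.Quotient.mk I₂ b) = Ideal.Quotient.mk I₂ (a * b) := rfl
    rw [h1, Ideal.Quotient.eq_zero_iff_mem]
    apply hI2le
    rw [pow_two]
    exact Ideal.mul_mem_mul ha hb
  letI : Module (A ⧸ I) K := hTor.module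
  haveI : IsScalarTower A (A ⧸ I) K := hTor.isScalarTower
  -- the map `K → ∏_{f ∈ t} K`, `x ↦ (f ^ N • x)`
  let gA : K →ₗ[A] (t → K) := LinearMap.pi (fun f => (f.1 ^ N) • LinearMap.id)
  let g : K →ₗ[A ⧸ I] (t → K) := gA.extendScalarsOfSurjective Ideal.Quotient.mk_surjective
  have hg : Function.Injective g := by
    rw [injective_iff_map_eq_zero]
    rintro ⟨k, hk⟩ hgk
    obtain ⟨a, ha, rfl⟩ :=
      (Ideal.mem_map_iff_of_surjective _ Ideal.Quotient.mk_surjective).mp hk
    have hfa : ∀ f ∈ t, f ^ N * a ∈ I₂ := by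
      intro f hf
      have h1 := congrFun hgk ⟨f, hf⟩
      have h2 : (f ^ N) • (Ideal.Quotient.mk I₂ a) = 0 := congrArg Subtype.val h1
      have h3 : (f ^ N) • (Ideal.Quotient.mk I₂ a) = Ideal.Quotient.mk I₂ (f ^ N * a) := rfl
      rw [h3, Ideal.Quotient.eq_zero_iff_mem] at h2
      exact h2
    have haI₂ : a ∈ I₂ := by
      rw [hI₂]
      refine ⟨ha, fun p hp => ?_⟩
      obtain ⟨f, hf, hfp⟩ := (hmemU p).mp hp
      obtain ⟨s, hs, hsa⟩ := ((hI₂ _).mp (hfa f hf)).2 p hp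
      refine ⟨s * f ^ N, ?_, by rwa [mul_assoc]⟩
      exact fun h => (p.2.mem_or_mem h).elim hs (fun h' => hfp (p.2.mem_of_pow_mem N h'))
    apply Subtype.ext
    exact Ideal.Quotient.eq_zero_iff_mem.mpr haI₂
  have hginj : Function.Injective ((g.restrictScalars A).lTensor M) :=
    Groth.Agent.H70.FC.FP.lTensor_injective_of_algebra_flat (A ⧸ I) g hg
  have hgz : (g.restrictScalars A).lTensor M z = 0 := by
    apply (TensorProduct.piRight A A M (fun _ : t => K)).injective
    rw [map_zero]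
    have key : ∀ w : M ⊗[A] K, TensorProduct.piRight A A M (fun _ : t => K)
        ((g.restrictScalars A).lTensor M w) = fun f => (f.1 ^ N) • w := by
      intro w
      induction w using TensorProduct.induction_on with
      | zero =>
        funext f
        simp
      | tmul m k =>
        funext f
        rw [LinearMap.lTensor_tmul, TensorProduct.piRight_apply, TensorProduct.piRightHom_tmul]
        change m ⊗ₜ[A] ((f.1 ^ N) • k) = (f.1 ^ N) • (m ⊗ₜ[A] k)
        rw [TensorProduct.tmul_smul]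
      | add a b ha hb =>
        rw [map_add, map_add, ha, hb]
        funext f
        simp only [Pi.add_apply, smul_add]
    rw [key]
    funext f
    exact hN f.1 f.2
  have hz0 : z = 0 := hginj (by rw [hgz, map_zero])
  exact (TensorProduct.comm A K M).injective (by rw [← hz, hz0, map_zero])

end Groth.Agent.S1267
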