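import Groth.Statements.S12683
import Groth.Agent.H41.SymSecBridge
import Groth.Agent.H41.SymAmpleDom
import Groth.Agent.H18.STL.AmpleBasis

set_option autoImplicit false
universe u
open CategoryTheory CategoryTheory.Limits AlgebraicGeometry TopologicalSpace Opposite
open scoped HomogeneousIdeal
noncomputable section
open Variety

namespace Groth.Agent.S12683

/-- Let X be a quasi-compact scheme, L an ample invertible O_X-module with graded symmetric algebra 𝒮L =
⊕_{d≥0} L^{⊗d} (whose relative Proj PL, given with its charts, is identified with X by its structure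
morphism), f : X → Y a quasi-compact morphism to an AFFINE scheme Y, 𝒜 a quasi-coherent graded
O_Y-algebra given with a graded f-morphism u : 𝒜 → f_*𝒮L which is bijective on global sections — so
that Γ(Y, 𝒜) is the graded ring Γ(X, 𝒮L) = ⊕_d Γ(X, L^{⊗d}) and P = Proj(𝒜) (given with its charts)
is its homogeneous spectrum — and r : G(σ) → P the canonical morphism on its open of definition G(σ)
⊆ PL. Then r is everywhere defined (G(σ) is all of PL) and is a quasi-compact, scheme-theoretically
dominant open immersion. (The published statement forms the homogeneous spectrum of the graded ring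
⊕_d Γ(X, L^{⊗d}) itself, over the spectrum of Γ(X, O_X); any affine Y under X gives the same graded
ring, the same homogeneous spectrum and the same morphism. It also assumes X quasi-separated, which
already follows from ampleness, since the opens X_s are affine with affine pairwise intersections;
only quasi-compactness is assumed here.) -/
theorem result {X Y P PL : Scheme.{u}} [CompactSpace X]
    (f : X ⟶ Y) [QuasiCompact f] (hY : IsAffineOpen (⊤ : Y.Opens))
    (L : X.Modules) (hL : PicF.IsInvertible L) (hLq : Coh.IsQCoh L)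
    (𝒮L : RelProj.QCGrAlg X) (jL : L ⟶ 𝒮L.toModule) (hjL : RelProj.IsGrSymAlg L 𝒮L jL)
    (pL : PL ⟶ X) (chartL : ∀ (U : X.Opens) (hU : IsAffineOpen U), (((pL ⁻¹ᵁ U : PL.Opens) : Scheme.{u}) ≅ Proj (𝒮L.deg U hU)))
    (hPL : RelProj.IsRelProj 𝒮L pL chartL)
    (hLa : CohB1.IsAmple L)
    (𝒜 : RelProj.QCGrAlg Y) (u : RelProj.QGrHom f 𝒜 𝒮L)
    (p : P ⟶ Y) (chart : ∀ (U : Y.Opens) (hU : IsAffineOpen U), (((p ⁻¹ᵁ U : P.Opens) : Scheme.{u}) ≅ Proj (𝒜.deg U hU)))
    (hP : RelProj.IsRelProj 𝒜 p chart)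
    (r : ((RelProj.domQ u pL chartL : PL.Opens) : Scheme.{u}) ⟶ P)
    (hr : RelProj.IsProjQMapOn u p chart pL chartL (RelProj.domQ u pL chartL) r)
    (hu : Function.Bijective (u.app ⊤).hom) :
    RelProj.domQ u pL chartL = ⊤ ∧ IsOpenImmersion r ∧ QuasiCompact r ∧ IsSchemeTheoreticallyDominant r := by
  haveI : L.IsQuasicoherent := hLq
  haveI : QuasiSeparatedSpace X := Groth.Agent.H18.STL.quasiSeparatedSpace_of_cover hL hLa.2.2
  have htop : f ⁻¹ᵁ (⊤ : Y.Opens) = ⊤ := Scheme.Hom.preimage_top _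
  have hcpt : IsCompact ((f ⁻¹ᵁ (⊤ : Y.Opens) : X.Opens) : Set X) := by
    rw [htop]
    exact isCompact_univ
  have hqs : IsQuasiSeparated ((f ⁻¹ᵁ (⊤ : Y.Opens) : X.Opens) : Set X) := by
    rw [htop]
    exact isQuasiSeparated_univ
  have h12 : RelProj.domQ u pL chartL = ⊤ ∧ IsOpenImmersion r := by
    refine Groth.Agent.H41.SymAmpleOpen.openImmersion_of_cover f L hL 𝒜 𝒮L jL hjL u p chart pL chartL
      hPL r hr hY hu hcpt hqs ?_
    intro x
    obtain ⟨n, s, hxs, haff⟩ := hLa.2.2 x
    obtain ⟨τ, hτh, hτ⟩ := Groth.Agent.H41.SymSec.exists_of_tensorPow L 𝒮L jL hjL hL (n + 1) s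
    have hres : Groth.Agent.H41.SymSec.XT 𝒮L (f ⁻¹ᵁ (⊤ : Y.Opens))
        (Groth.Agent.H41.SymSec.sres 𝒮L le_top τ) (n + 1) = CohB1.genLocus _ s := by
      rw [Groth.Agent.H41.SymSec.XT_res L 𝒮L jL hjL hL ⊤ (f ⁻¹ᵁ (⊤ : Y.Opens)) le_top τ (n + 1) hτh, hτ,
        htop, inf_top_eq]
    refine ⟨n + 1, Nat.succ_pos n, Groth.Agent.H41.SymSec.sres 𝒮L le_top τ, hτh.res le_top, ?_, ?_⟩
    · rw [hres]; exact hxs
    · rw [hres]; exact haff
  obtain ⟨hdom, hopen⟩ := h12
  haveI : IsIso pL := Groth.Agent.H41.SymInvIso.isIso_of_isInvertible L 𝒮L jL hjL hL pL chartL hPL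
  haveI : CompactSpace PL := (Scheme.Hom.homeomorph pL).symm.compactSpace
  haveI : CompactSpace ((RelProj.domQ u pL chartL : PL.Opens) : Scheme.{u}) :=
    (isCompact_iff_compactSpace (s := ((RelProj.domQ u pL chartL : PL.Opens) : Set PL))).mp (by
      rw [hdom]
      exact isCompact_univ)
  -- `P` is quasi-separated
  haveI : IsIso (RelProj.emb p chart ⊤ hY) := by
    apply isIso_of_isOpenImmersion_of_opensRange_eq_top
    unfold RelProj.emb
    rw [Scheme.Hom.opensRange_comp_of_isIso, Scheme.Opens.opensRange_ι]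
    exact Scheme.Hom.preimage_top _
  haveI : QuasiSeparatedSpace P :=
    (Scheme.Hom.homeomorph (inv (RelProj.emb p chart ⊤ hY))).isOpenEmbedding.quasiSeparatedSpace
  haveI : QuasiCompact r := inferInstance
  exact ⟨hdom, hopen, inferInstance,
    Groth.Agent.H41.SymAmpleDom.isSchemeTheoreticallyDominant f 𝒜 𝒮L u p chart pL chartL r hr hY hu.1 hcpt⟩

end Groth.Agent.S12683
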