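import Groth.Statements.S12691
import Groth.Agent.H41.IrrLocal
import Groth.Agent.H41.SymInvO1
import Groth.Agent.H41.VABaseChange
import Groth.Agent.H41.VAGenDegOne
import Groth.Agent.H41.RelPMap2
import Groth.Agent.S12143

set_option autoImplicit false
universe u
open CategoryTheory CategoryTheory.Limits AlgebraicGeometry TopologicalSpace Opposite
open scoped HomogeneousIdeal
noncomputable section
open Mor

namespace Groth.Agent.S12691

/-- Let f : X → Y be a quasi-compact morphism, L an invertible O_X-module with graded symmetric algebra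
𝒮L = ⊕_{n≥0} L^{⊗n} (whose relative Proj PL, given with its charts, is identified with X by its
structure morphism), 𝒜 a quasi-coherent graded O_Y-algebra generated in degree one over O_Y (its
degree-zero part is the image of O_Y and degrees zero and one generate it), u : 𝒜 → f_*𝒮L a graded
f-morphism (adjoint to a homomorphism of graded algebras ψ : f^*𝒜 → ⊕ L^{⊗n}) whose degree-one part
f^*𝒜_1 → L is surjective — every point of X has an affine neighbourhood V over which the image of a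
single degree-one section of 𝒜 generates L — P = Proj(𝒜) → Y with its charts, and r = r_{L,ψ} : U(ψ)
→ P the induced morphism on its open of definition U(ψ) ⊆ PL. If r is an immersion, then L is very
ample relative to f (isomorphic to the inverse image of O(1) along a Y-immersion into the projective
bundle of a quasi-coherent O_Y-module). -/
theorem result {X Y P PL : Scheme.{u}} (f : X ⟶ Y) [QuasiCompact f]
    (L : X.Modules) (hL : PicF.IsInvertible L) (hLq : Coh.IsQCoh L)
    (𝒮L : RelProj.QCGrAlg X) (jL : L ⟶ 𝒮L.toModule) (hjL : RelProj.IsGrSymAlg L 𝒮L jL)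
    (pL : PL ⟶ X) (chartL : ∀ (U : X.Opens) (hU : IsAffineOpen U), (((pL ⁻¹ᵁ U : PL.Opens) : Scheme.{u}) ≅ Proj (𝒮L.deg U hU)))
    (hPL : RelProj.IsRelProj 𝒮L pL chartL)
    (𝒜 : RelProj.QCGrAlg Y) (h1 : 𝒜.IsGenDegOne)
    (h0 : ∀ (U : Y.Opens) (hU : IsAffineOpen U),
      ((𝒜.deg U hU 0 : AddSubgroup (𝒜.presheaf.obj (op U))) : Set (𝒜.presheaf.obj (op U))) = Set.range (𝒜.str.app (op U)).hom)
    (u : RelProj.QGrHom f 𝒜 𝒮L)
    (hsurj : ∀ x : X, ∃ (U : Y.Opens) (hU : IsAffineOpen U) (e : 𝒜.presheaf.obj (op U)) (_ : e ∈ 𝒜.deg U hU 1)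
        (V : X.Opens) (hV : IsAffineOpen V) (hVU : V ≤ f ⁻¹ᵁ U), x ∈ V ∧
          ((𝒮L.deg V hV 1 : AddSubgroup (𝒮L.presheaf.obj (op V))) : Set (𝒮L.presheaf.obj (op V))) ⊆
            (Ideal.span {(u.appLE U V hVU).hom e} : Set (𝒮L.presheaf.obj (op V))))
    (p : P ⟶ Y) (chart : ∀ (U : Y.Opens) (hU : IsAffineOpen U), (((p ⁻¹ᵁ U : P.Opens) : Scheme.{u}) ≅ Proj (𝒜.deg U hU)))
    (hP : RelProj.IsRelProj 𝒜 p chart)
    (r : ((RelProj.domQ u pL chartL : PL.Opens) : Scheme.{u}) ⟶ P)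
    (hr : RelProj.IsProjQMapOn u p chart pL chartL (RelProj.domQ u pL chartL) r)
    (himm : IsImmersion r) :
    RelProj.IsRelVeryAmple f L := by
  haveI : L.IsQuasicoherent := hLq
  have hgenL : 𝒮L.IsGenDegOne :=
    Groth.Agent.H41.VABaseChange.isGenDegOne_of_isGrSymAlg L 𝒮L jL hjL
  have hirr := Groth.Agent.H41.IrrLocal.irr_of_local f 𝒜 𝒮L u hsurj hgenL
  have hdom : RelProj.domQ u pL chartL = ⊤ :=
    Groth.Agent.H41.RelProjQMap.domQ_eq_top f 𝒜 𝒮L u hirr pL chartL
  haveI : IsIso pL := Groth.Agent.S12143.result L hL hLq 𝒮L jL hjL pL chartL hPL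
  haveI hι : IsIso (RelProj.domQ u pL chartL).ι :=
    isIso_of_isOpenImmersion_of_opensRange_eq_top _ (by rw [Scheme.Opens.opensRange_ι, hdom])
  obtain ⟨h, hh_def⟩ : ∃ h : PL ⟶ P, h = inv (RelProj.domQ u pL chartL).ι ≫ r := ⟨_, rfl⟩
  have hproj : RelProj.IsProjQMap u p chart pL chartL h := by
    refine ⟨hdom, ?_⟩
    intro U hU U' hU' hle d hd a ha
    have hW := RelProj.range_awayEmb_subset_domQ u pL chartL U hU U' hU' hle hd a ha
    have := hr U hU U' hU' hle d hd a ha hW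
    rw [← this, hh_def, ← Category.assoc]
    congr 1
    rw [IsIso.comp_inv_eq, IsOpenImmersion.lift_fac]
  have hchart := Groth.Agent.H41.RelProjQMap.isChartMap_of_isProjQMap f 𝒜 𝒮L u hirr p chart
    pL chartL h hproj
  obtain ⟨τ⟩ := Groth.Agent.H41.TwistBC2.nonempty_pullback_iso 𝒮L u hirr p chart hP pL chartL hPL
    h hchart h1 1
    (Groth.Agent.H41.RelTwistExists.L 𝒜 p chart hP 1)
    (Groth.Agent.H41.RelTwistExists.lam 𝒜 p chart hP 1)
    (Groth.Agent.H41.RelTwistExists.isRelTwist 𝒜 p chart hP 1)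
    (Groth.Agent.H41.RelTwistExists.L 𝒮L pL chartL hPL 1)
    (Groth.Agent.H41.RelTwistExists.lam 𝒮L pL chartL hPL 1)
    (Groth.Agent.H41.RelTwistExists.isRelTwist 𝒮L pL chartL hPL 1)
  obtain ⟨κ⟩ := Groth.Agent.H41.SymInvO1.nonempty_iso L 𝒮L jL hjL pL chartL hPL
    (Groth.Agent.H41.RelTwistExists.L 𝒮L pL chartL hPL 1)
    (Groth.Agent.H41.RelTwistExists.lam 𝒮L pL chartL hPL 1)
    (Groth.Agent.H41.RelTwistExists.isRelTwist 𝒮L pL chartL hPL 1) hL
  haveI : IsImmersion h := by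
    rw [hh_def]
    infer_instance
  have hi : (inv pL ≫ h) ≫ p = f := by
    have := Groth.Agent.H41.RelPMap2.comp_p u p chart hP pL chartL hPL r hr
    rw [hh_def, Category.assoc, Category.assoc, this, IsIso.inv_hom_id_assoc,
      IsIso.inv_hom_id_assoc]
  refine Groth.Agent.H41.VAGenDegOne.isRelVeryAmple 𝒜 f L h1 p chart hP
    (Groth.Agent.H41.RelTwistExists.L 𝒜 p chart hP 1)
    (Groth.Agent.H41.RelTwistExists.lam 𝒜 p chart hP 1)
    (Groth.Agent.H41.RelTwistExists.isRelTwist 𝒜 p chart hP 1) (inv pL ≫ h) hi ?_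
  exact (Scheme.Modules.pullbackId X).symm.app L ≪≫
    (Scheme.Modules.pullbackCongr (IsIso.inv_hom_id pL)).symm.app L ≪≫
    (Scheme.Modules.pullbackComp (inv pL) pL).symm.app L ≪≫
    (Scheme.Modules.pullback (inv pL)).mapIso (κ ≪≫ τ.symm) ≪≫
    (Scheme.Modules.pullbackComp (inv pL) h).app _

end Groth.Agent.S12691
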