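import Groth.Statements.S12692
import Groth.Agent.H41.RelPMap8
import Groth.Agent.S12146

set_option autoImplicit false
universe u
open CategoryTheory CategoryTheory.Limits AlgebraicGeometry TopologicalSpace Opposite
open scoped HomogeneousIdeal
noncomputable section
open Coh

namespace Groth.Agent.S12692

/-- Let X be a quasi-compact scheme, L an invertible O_X-module with graded symmetric algebra 𝒮L =
⊕_{d≥0} L^{⊗d} (whose relative Proj PL, given with its charts, is identified with X by its structure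
morphism), f : X → Y a quasi-compact morphism to an AFFINE scheme Y, 𝒜 a quasi-coherent graded
O_Y-algebra given with a graded f-morphism u : 𝒜 → f_*𝒮L which is bijective on global sections — so
that Γ(Y, 𝒜) is the graded ring S = ⊕_d Γ(X, L^{⊗d}) and P = Proj(𝒜) (given with its charts) is
Proj(S) — and r : G(u) → P the canonical morphism on its open of definition G(u) ⊆ PL. If G(u) is
all of PL (that is, every point of X lies in an open X_s for some homogeneous s ∈ S_+), then r is
quasi-compact and has dense image. (The published statement forms the homogeneous spectrum of the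
graded ring S itself, with no base scheme; any affine Y under X gives the same graded ring, the same
homogeneous spectrum and the same morphism.) -/
theorem result {X Y P PL : Scheme.{u}} [CompactSpace X]
    (f : X ⟶ Y) [QuasiCompact f] (hY : IsAffineOpen (⊤ : Y.Opens))
    (L : X.Modules) (hL : PicF.IsInvertible L) (hLq : Coh.IsQCoh L)
    (𝒮L : RelProj.QCGrAlg X) (jL : L ⟶ 𝒮L.toModule) (hjL : RelProj.IsGrSymAlg L 𝒮L jL)
    (pL : PL ⟶ X) (chartL : ∀ (U : X.Opens) (hU : IsAffineOpen U), (((pL ⁻¹ᵁ U : PL.Opens) : Scheme.{u}) ≅ Proj (𝒮L.deg U hU)))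
    (hPL : RelProj.IsRelProj 𝒮L pL chartL)
    (𝒜 : RelProj.QCGrAlg Y) (u : RelProj.QGrHom f 𝒜 𝒮L)
    (p : P ⟶ Y) (chart : ∀ (U : Y.Opens) (hU : IsAffineOpen U), (((p ⁻¹ᵁ U : P.Opens) : Scheme.{u}) ≅ Proj (𝒜.deg U hU)))
    (hP : RelProj.IsRelProj 𝒜 p chart)
    (r : ((RelProj.domQ u pL chartL : PL.Opens) : Scheme.{u}) ⟶ P)
    (hr : RelProj.IsProjQMapOn u p chart pL chartL (RelProj.domQ u pL chartL) r)
    (hu : Function.Bijective (u.app ⊤).hom)
    (htop : RelProj.domQ u pL chartL = ⊤) :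
    QuasiCompact r ∧ IsDominant r := by
  refine ⟨Groth.Agent.H41.RelPMap8.quasiCompact f 𝒜 𝒮L u p chart pL chartL hPL r hr hY, ?_⟩
  rw [Groth.Agent.S12146.result f L hL hLq 𝒜 𝒮L jL hjL u p chart hP pL chartL hPL r hr hY]
  intro n hn s hs hloc
  choose V hV hxV hnil using hloc
  choose m hm using hnil
  obtain ⟨t, ht⟩ := CompactSpace.elim_nhds_subcover (fun x => (V x : Set X))
    (fun x => (V x).2.mem_nhds (hxV x))
  have hleV : ∀ W : X.Opens, W ≤ f ⁻¹ᵁ (⊤ : Y.Opens) :=
    fun W => le_top.trans (Scheme.Hom.preimage_top f).ge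
  set σ := (u.app ⊤).hom s with hσ
  have hres : ∀ x ∈ t, (𝒮L.presheaf.map (homOfLE (hleV (V x))).op).hom (σ ^ (t.sup m)) = 0 := by
    intro x hx
    rw [map_pow]
    have h1 : m x ≤ t.sup m := Finset.le_sup hx
    have h2 : (𝒮L.presheaf.map (homOfLE (hleV (V x))).op).hom σ ^ (m x) = 0 := hm x
    rw [← Nat.sub_add_cancel h1, pow_add, h2, mul_zero]
  have hcover : f ⁻¹ᵁ (⊤ : Y.Opens) ≤ ⨆ x : t, V x := by
    intro w _
    have hw : w ∈ ⋃ x ∈ t, (V x : Set X) := by
      rw [ht]
      trivial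
    simp only [Set.mem_iUnion, exists_prop] at hw
    obtain ⟨x, hxt, hwx⟩ := hw
    exact Opens.mem_iSup.mpr ⟨⟨x, hxt⟩, hwx⟩
  have hzero : σ ^ (t.sup m) = 0 := by
    refine TopCat.Sheaf.eq_of_locally_eq' (⟨𝒮L.presheaf, 𝒮L.isSheaf⟩ : TopCat.Sheaf CommRingCat X)
      (fun x : t => V x) (f ⁻¹ᵁ (⊤ : Y.Opens)) (fun x => homOfLE (hleV (V x))) hcover
      (σ ^ (t.sup m)) 0 (fun x => ?_)
    rw [map_zero]
    exact hres x x.2
  refine ⟨t.sup m, ?_⟩
  apply hu.injective
  rw [map_zero, map_pow]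
  exact hzero

end Groth.Agent.S12692
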