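import Groth.Statements.S12716
import Groth.Agent.H63.CRingSurj
import Groth.Agent.H63.DerSection

set_option autoImplicit false
universe u v
open CategoryTheory
open ArtFun

namespace Groth.Agent.S12716

/-- Let f : R → S be a morphism of complete local Noetherian Λ-algebras with residue field k (Λ
Noetherian, Λ → k finite). If the restriction map Der_Λ(S, k) → Der_Λ(R, k) is injective — two
Λ-derivations S → k that agree after composing with f are equal — then f is surjective. -/
theorem result {Λ : Type u} {k : Type u} [CommRing Λ] [Field k] [Algebra Λ k]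
    [IsNoetherianRing Λ] [Module.Finite Λ k]
    (R : ArtFun.CRing Λ k)
    (S : Type u) [CommRing S] [Algebra Λ S] [IsLocalRing S] [IsNoetherianRing S]
    [IsAdicComplete (IsLocalRing.maximalIdeal S) S] [Algebra S k] [IsScalarTower Λ S k]
    (hres : Function.Surjective (algebraMap S k))
    (f : R.carrier →ₐ[Λ] S) (hf : (IsScalarTower.toAlgHom Λ S k).comp f = R.res)
    (hinj : ∀ D₁ D₂ : Derivation Λ S k, (∀ r : R.carrier, D₁ (f r) = D₂ (f r)) → D₁ = D₂) :
    Function.Surjective f := by
  let S' : ArtFun.CRing Λ k :=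
    { carrier := S
      res := IsScalarTower.toAlgHom Λ S k
      res_surjective := hres
      isAdicComplete := inferInstance }
  have hmem : ∀ x : S, x ∈ IsLocalRing.maximalIdeal S ↔ algebraMap S k x = 0 :=
    fun x => Groth.Agent.H63.CR.mem_maximalIdeal_iff S' x
  have hfr : ∀ r : R.carrier, algebraMap S k (f r) = R.res r := fun r => by
    rw [← hf]; rfl
  apply Groth.Agent.H63.CR.surjective_of_cotangent R S' f hf
  by_contra hne
  have hle : Ideal.map f (IsLocalRing.maximalIdeal R.carrier) ⊔ IsLocalRing.maximalIdeal S ^ 2 ≤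
      IsLocalRing.maximalIdeal S :=
    sup_le (Groth.Agent.H63.CR.map_maximalIdeal_le R S' f hf) (Ideal.pow_le_self two_ne_zero)
  have hlt := lt_of_le_of_ne hle hne
  obtain ⟨v, hv, hvJ⟩ := SetLike.exists_of_lt hlt
  obtain ⟨D, hD0, hDv⟩ := Groth.Agent.H63.exists_derivation_of_not_mem f
    (fun a => by
      obtain ⟨r, hr⟩ := R.res_surjective a
      exact ⟨r, by simp only [hfr, hr]⟩)
    (Ideal.map f (IsLocalRing.maximalIdeal R.carrier) ⊔ IsLocalRing.maximalIdeal S ^ 2)
    (fun x y hx hy => by
      apply Ideal.mem_sup_right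
      rw [sq]
      exact Ideal.mul_mem_mul ((hmem x).2 hx) ((hmem y).2 hy))
    (fun r hr => by
      apply Ideal.mem_sup_left
      apply Ideal.mem_map_of_mem
      rw [Groth.Agent.H63.CR.mem_maximalIdeal_iff, ← hfr]
      exact hr)
    v ((hmem v).1 hv) hvJ
  have h0 := hinj D 0 (fun r => by rw [hD0]; rfl)
  rw [h0] at hDv
  exact zero_ne_one hDv

end Groth.Agent.S12716
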