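import Groth.Statements.S12729
import Groth.Agent.H63.ArtLeast

set_option autoImplicit false
universe u v
open CategoryTheory
open ArtFun

namespace Groth.Agent.S12729

/-- For functors, let F satisfy (S1), let p : B → A be a surjection in the category of Artinian local
Λ-algebras with residue field k whose kernel I is annihilated by m_B, and let x ∈ F(A). Then the set
of ideals J ⊆ I for which x lifts to F(B/J) along B/J → A has a least element. -/
theorem result {Λ : Type u} {k : Type u} [CommRing Λ] [Field k] [Algebra Λ k]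
    [IsNoetherianRing Λ] [Module.Finite Λ k]
    {F : ArtFun.Art Λ k ⥤ Type v} (h1 : ArtFun.S1 F)
    {B A : ArtFun.Art Λ k} (p : B ⟶ A) (hp : ArtFun.Art.IsSemismallExt p) (x : F.obj A) :
    ∃ (J₀ : Ideal B) (hJ₀ : J₀ ≤ RingHom.ker p.toAlgHom) (hJ₀' : J₀ ≤ IsLocalRing.maximalIdeal B),
      (∃ y : F.obj (ArtFun.Art.quot B J₀ hJ₀'), F.map (ArtFun.Art.quotFactor hJ₀' p hJ₀) y = x) ∧
      ∀ (J : Ideal B) (hJ : J ≤ RingHom.ker p.toAlgHom) (hJ' : J ≤ IsLocalRing.maximalIdeal B),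
        (∃ y : F.obj (ArtFun.Art.quot B J hJ'), F.map (ArtFun.Art.quotFactor hJ' p hJ) y = x) → J₀ ≤ J := by
  have hker : ∀ (J : Ideal B) (hJ' : J ≤ IsLocalRing.maximalIdeal B),
      RingHom.ker (ArtFun.Art.quotMk B J hJ').toAlgHom = J := by
    intro J hJ'
    ext b
    rw [RingHom.mem_ker]
    exact Ideal.Quotient.eq_zero_iff_mem
  obtain ⟨J₀, hJ₀, hmin⟩ := Groth.Agent.H63.exists_least_lifts h1 hp x
  have hJ₀k := Groth.Agent.H63.Lifts.le_ker hJ₀
  have hJ₀m := hJ₀k.trans (Groth.Agent.H63.ker_le_maximalIdeal p)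
  refine ⟨J₀, hJ₀k, hJ₀m, ?_, ?_⟩
  · exact Groth.Agent.H63.Lifts.model (fun h => Groth.Agent.H63.Lifts.le_ker h) hJ₀
      (ArtFun.Art.quotMk B J₀ hJ₀m) (ArtFun.Art.quotFactor hJ₀m p hJ₀k)
      (ArtFun.Art.quotMk_surjective B J₀ hJ₀m) (by rw [hker]) (ArtFun.Art.quotMk_quotFactor hJ₀m p hJ₀k)
  · intro J hJ hJ' ⟨y, hy⟩
    apply hmin
    exact ⟨ArtFun.Art.quot B J hJ', ArtFun.Art.quotMk B J hJ', ArtFun.Art.quotFactor hJ' p hJ,
      ArtFun.Art.quotMk_surjective B J hJ', hker J hJ', ArtFun.Art.quotMk_quotFactor hJ' p hJ, y, hy⟩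

end Groth.Agent.S12729
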