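import Groth.Statements.S12748
import Groth.Agent.H63.CRingSurj
import Mathlib.RingTheory.AdicCompletion.Noetherian
import Mathlib.RingTheory.AdicCompletion.Functoriality
import Mathlib.RingTheory.AdicCompletion.Completeness
import Mathlib.RingTheory.MvPowerSeries.Equiv
import Mathlib.RingTheory.Filtration

set_option autoImplicit false
universe u v
open CategoryTheory
open ArtFun ArtFun.CRing

namespace Groth.Agent.S12748

/-- Let R' → R be a morphism of complete local Noetherian Λ-algebras with residue field k with an
R'-algebra retraction ρ : R → R', so that R = R' ⊕ I for the ideal I = ker ρ; let x₁, …, x_r ∈ I map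
to a basis of I/m_R I and let φ : R'[[X₁, …, X_r]] → R be an R'-algebra map sending X_i to x_i. If
for all large n the induced map R'[[X]]/m^n → R/m_R^n has a left inverse — a Λ-algebra map g_n : R →
R'[[X]]/m^n with g_n ∘ φ equal to the quotient map — then φ is an isomorphism. -/
theorem result {Λ : Type u} {k : Type u} [CommRing Λ] [Field k] [Algebra Λ k]
    [IsNoetherianRing Λ] [Module.Finite Λ k]
    (R' R : ArtFun.CRing Λ k) [Algebra R'.carrier R.carrier] [IsScalarTower Λ R'.carrier R.carrier]
    (hc : R.res.comp (IsScalarTower.toAlgHom Λ R'.carrier R.carrier) = R'.res)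
    (ρ : R.carrier →ₐ[R'.carrier] R'.carrier)
    (r : ℕ) (x : Fin r → R.carrier) (hxI : ∀ i, ρ (x i) = 0)
    (hspan : Ideal.span (Set.range x) ⊔ IsLocalRing.maximalIdeal R.carrier * RingHom.ker ρ = RingHom.ker ρ)
    (hli : ∀ c : Fin r → R.carrier, (∑ i, c i * x i) ∈ IsLocalRing.maximalIdeal R.carrier * RingHom.ker ρ →
      ∀ i, c i ∈ IsLocalRing.maximalIdeal R.carrier)
    (φ : MvPowerSeries (Fin r) R'.carrier →ₐ[R'.carrier] R.carrier) (hφ : ∀ i, φ (MvPowerSeries.X i) = x i)
    (hinv : ∃ N : ℕ, ∀ n, N ≤ n →
      ∃ g : R.carrier →ₐ[Λ] (MvPowerSeries (Fin r) R'.carrier ⧸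
          IsLocalRing.maximalIdeal (MvPowerSeries (Fin r) R'.carrier) ^ n),
        ∀ s, g (φ s) = Ideal.Quotient.mk _ s) :
    Function.Bijective φ := by
  classical
  obtain ⟨N, hN⟩ := hinv
  set P := MvPowerSeries (Fin r) R'.carrier with hP
  constructor
  · -- injectivity: from the left inverses and Krull's intersection theorem
    rw [injective_iff_map_eq_zero]
    intro s hs
    have hmem : ∀ n, s ∈ IsLocalRing.maximalIdeal P ^ n := by
      intro n
      have hle : IsLocalRing.maximalIdeal P ^ (n + N) ≤ IsLocalRing.maximalIdeal P ^ n :=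
        Ideal.pow_le_pow_right (Nat.le_add_right n N)
      apply hle
      obtain ⟨g, hg⟩ := hN (n + N) (Nat.le_add_left N n)
      have h1 := hg s
      rw [hs, map_zero] at h1
      exact Ideal.Quotient.eq_zero_iff_mem.1 h1.symm
    have hbot : (⨅ i : ℕ, IsLocalRing.maximalIdeal P ^ i) = ⊥ :=
      Ideal.iInf_pow_eq_bot_of_isLocalRing _ (IsLocalRing.maximalIdeal.isMaximal P).ne_top
    have : s ∈ (⨅ i : ℕ, IsLocalRing.maximalIdeal P ^ i) := by
      rw [Ideal.mem_iInf]
      exact hmem
    rw [hbot] at this
    exact this
  · -- surjectivity: completeness of the power series ring for the ideal of the variables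
    set I : Ideal R.carrier := RingHom.ker ρ with hI
    have hIm : I ≤ IsLocalRing.maximalIdeal R.carrier := by
      intro y hy
      by_contra hyu
      have hu : IsUnit y := by
        by_contra h
        exact hyu ((IsLocalRing.mem_maximalIdeal y).2 h)
      have : IsUnit (ρ y) := hu.map ρ
      rw [(RingHom.mem_ker).1 hy] at this
      exact not_isUnit_zero this
    have hxI : Ideal.span (Set.range x) = I := by
      apply le_antisymm
      · rw [Ideal.span_le]
        rintro _ ⟨i, rfl⟩
        exact (RingHom.mem_ker).2 (hxI i)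
      · apply Submodule.le_of_le_smul_of_le_jacobson_bot (I := IsLocalRing.maximalIdeal R.carrier)
        · exact (isNoetherianRing_iff_ideal_fg R.carrier).1 inferInstance _
        · exact IsLocalRing.maximalIdeal_le_jacobson _
        · rw [smul_eq_mul, hspan]
    set J : Ideal P := Ideal.span (Set.range (MvPowerSeries.X : Fin r → P)) with hJ
    have hJmap : J.map (φ : P →+* R.carrier) = I := by
      rw [hJ, Ideal.map_span, ← Set.range_comp, ← hxI]
      congr 2
      funext i
      exact hφ i
    haveI : IsPrecomplete J P := by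
      rw [hJ]
      exact (inferInstance : IsAdicComplete (Ideal.span (Set.range (MvPowerSeries.X : Fin r → P))) P).toIsPrecomplete
    haveI : IsHausdorff (J.map (φ : P →+* R.carrier)) R.carrier := by
      rw [hJmap]
      exact IsHausdorff.of_le_jacobson I R.carrier (hIm.trans (IsLocalRing.maximalIdeal_le_jacobson _))
    apply surjective_of_mk_map_comp_surjective (φ : P →+* R.carrier) (I := J)
    intro y
    obtain ⟨t, rfl⟩ := Ideal.Quotient.mk_surjective y
    refine ⟨MvPowerSeries.C (ρ t), ?_⟩
    rw [RingHom.comp_apply, Ideal.Quotient.eq, hJmap, hI, RingHom.mem_ker]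
    have h1 : (φ : P →+* R.carrier) (MvPowerSeries.C (ρ t)) = algebraMap R'.carrier R.carrier (ρ t) := by
      change φ (MvPowerSeries.C (ρ t)) = _
      rw [MvPowerSeries.c_eq_algebraMap, AlgHom.commutes]
    rw [h1, map_sub, AlgHom.commutes, Algebra.algebraMap_self, RingHom.id_apply, sub_self]

end Groth.Agent.S12748
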