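import Groth.Statements.S12757
import Groth.Agent.H63.CRingHom

set_option autoImplicit false
universe u v
open CategoryTheory
open ArtFun

namespace Groth.Agent.S12757

/-- For functors, let F be a functor on Artinian local Λ-algebras with residue field k with F(k) a
point. A versal family of F over a complete local Noetherian R with residue field k which is
bijective on tangent spaces (a hull; bijectivity implies bijectivity on orbits of the derivations of
k) is minimal: every morphism of coefficient rings R' → R along which some formal element over R'
pushes forward to the formal element of the family is surjective. -/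
theorem result {Λ : Type u} {k : Type u} [CommRing Λ] [Field k] [Algebra Λ k]
    [IsNoetherianRing Λ] [Module.Finite Λ k]
    {F : ArtFun.Art Λ k ⥤ Type v} (h0 : ArtFun.H0 F) (P : ArtFun.Hull F) :
    P.family.IsMinimalVersal := by
  refine ⟨P.miniversal.1, ?_⟩
  intro R' u f hf hu
  apply Groth.Agent.H63.CR.surjective_of_dual_injective R' P.ring f hf
  intro φ₁ φ₂ h
  apply P.miniversal.2.1
  exact Groth.Agent.H63.CR.app_eq_of_comp_eq P.family u f hf hu 1 (Art.dual Λ k)
    Groth.Agent.H63.CR.sq_maximalIdeal_dual φ₁ φ₂ h

end Groth.Agent.S12757
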