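import Groth.Statements.S12758
import Groth.Agent.H63.CRingHom
import Groth.Agent.H63.NoethEndo

set_option autoImplicit false
universe u v
open CategoryTheory
open ArtFun

namespace Groth.Agent.S12758

/-- For functors, two minimal versal families of a functor F on Artinian local Λ-algebras with residue
field k with F(k) a point — over complete local Noetherian coefficient rings R₁, R₂ with residue
field k — are isomorphic: there is an isomorphism R₁ ≅ R₂ over Λ, compatible with the augmentations,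
along which the formal element of the first family pushes forward to that of the second. -/
theorem result {Λ : Type u} {k : Type u} [CommRing Λ] [Field k] [Algebra Λ k]
    [IsNoetherianRing Λ] [Module.Finite Λ k]
    {F : ArtFun.Art Λ k ⥤ Type v} (h0 : ArtFun.H0 F) {R₁ R₂ : ArtFun.CRing Λ k}
    (ξ₁ : ArtFun.Family R₁.carrier R₁.res F) (ξ₂ : ArtFun.Family R₂.carrier R₂.res F)
    (h₁ : ξ₁.IsMinimalVersal) (h₂ : ξ₂.IsMinimalVersal) :
    ∃ (e : R₁.carrier ≃ₐ[Λ] R₂.carrier) (he : R₂.res.comp (e : R₁.carrier →ₐ[Λ] R₂.carrier) = R₁.res),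
      (ξ₁.along (e : R₁.carrier →ₐ[Λ] R₂.carrier) he).toFormalElt = ξ₂.toFormalElt := by
  obtain ⟨g, hg, hgξ⟩ := Groth.Agent.H63.exists_along_of_isVersal h0 R₁ ξ₁ h₁.1 R₂ ξ₂.toFormalElt
  obtain ⟨g', hg', hgξ'⟩ := Groth.Agent.H63.exists_along_of_isVersal h0 R₂ ξ₂ h₂.1 R₁ ξ₁.toFormalElt
  have hs : Function.Surjective g := h₂.2 R₁ ξ₁.toFormalElt g hg
    (by rw [← Groth.Agent.H63.CR.toFormalElt_along]; exact hgξ)
  have hs' : Function.Surjective g' := h₁.2 R₂ ξ₂.toFormalElt g' hg'
    (by rw [← Groth.Agent.H63.CR.toFormalElt_along]; exact hgξ')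
  have hinj : Function.Injective g := by
    have h := Groth.Agent.H63.injective_of_surjective_ringEnd ((g'.comp g).toRingHom) (hs'.comp hs)
    exact Function.Injective.of_comp (f := g') h
  let e : R₁.carrier ≃ₐ[Λ] R₂.carrier := AlgEquiv.ofBijective g ⟨hinj, hs⟩
  have hcoe : (e : R₁.carrier →ₐ[Λ] R₂.carrier) = g := AlgHom.ext fun _ => rfl
  have key : ∀ (g₁ : R₁.carrier →ₐ[Λ] R₂.carrier) (_ : g₁ = g) (hg₁ : R₂.res.comp g₁ = R₁.res),
      (ξ₁.along g₁ hg₁).toFormalElt = ξ₂.toFormalElt := by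
    intro g₁ h hg₁
    subst h
    exact hgξ
  exact ⟨e, by rw [hcoe]; exact hg, key _ hcoe _⟩

end Groth.Agent.S12758
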