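import Groth.Statements.S1276
import Groth.Agent.H7.SupportBaseChange

set_option autoImplicit false
universe u
open FlatMor

namespace Groth.Agent.S1276

/-- Let B be a finite type A-algebra, N a finite B-module and p a prime of A. Then there is a finitely
generated ideal J of B annihilating N (so N is a module on the finitely presented closed subscheme
V(J) of Spec B) such that a point of the fibre Spec(κ(p) ⊗ B) lies in V(J) if and only if it lies in
the support of the fibre module of N. -/
theorem result {A B : Type u} [CommRing A] [CommRing B] [Algebra A B] [Algebra.FiniteType A B]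
    (N : Type u) [AddCommGroup N] [Module B N] [Module A N] [IsScalarTower A B N] [Module.Finite B N] (p : Ideal A) [p.IsPrime] :
    ∃ J : Ideal B, J.FG ∧ J ≤ Module.annihilator B N ∧
      ∀ x : PrimeSpectrum (p.Fiber B), FlatCA.fiberIdeal p J ≤ x.asIdeal ↔ x ∈ Module.support (p.Fiber B) (FlatCA.fiberMod p B N) := by
  classical
  let _ : Algebra B (p.Fiber B) := Algebra.TensorProduct.rightAlgebra
  let φ : B →+* p.Fiber B :=
    (Algebra.TensorProduct.includeRight (R := A) (A := p.ResidueField) (B := B)).toRingHom
  have hφ : algebraMap B (p.Fiber B) = φ := rfl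
  have hft : Algebra.FiniteType p.ResidueField (p.Fiber B) := inferInstance
  have hnoeth : IsNoetherianRing (p.Fiber B) := Algebra.FiniteType.isNoetherianRing p.ResidueField _
  set 𝔞 : Ideal B := Module.annihilator B N with h𝔞
  have hfg : (Ideal.map φ 𝔞).FG := (isNoetherianRing_iff_ideal_fg _).mp hnoeth _
  obtain ⟨s', hs'sub, hs'⟩ := (Submodule.fg_span_iff_fg_span_finset_subset
    (R := p.Fiber B) (s := φ '' (𝔞 : Set B))).mp hfg
  obtain ⟨t, ht, hts'⟩ := Finset.subset_set_image_iff.mp hs'sub
  refine ⟨Ideal.span (t : Set B), ⟨t, rfl⟩, Ideal.span_le.mpr ht, fun x => ?_⟩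
  have hmap : FlatCA.fiberIdeal p (Ideal.span (t : Set B)) = Ideal.map φ 𝔞 := by
    unfold FlatCA.fiberIdeal
    change Ideal.map φ (Ideal.span (t : Set B)) = Ideal.map φ 𝔞
    rw [Ideal.map_span]
    change Submodule.span (p.Fiber B) (φ '' (t : Set B)) = Submodule.span (p.Fiber B) (φ '' (𝔞 : Set B))
    rw [hs', ← hts', Finset.coe_image]
  rw [hmap]
  change _ ↔ x ∈ Module.support (p.Fiber B) (TensorProduct B (p.Fiber B) N)
  rw [Groth.Agent.H7.mem_support_baseChange_iff, Module.support_eq_zeroLocus,
    PrimeSpectrum.mem_zeroLocus, PrimeSpectrum.comap_asIdeal, hφ, ← h𝔞, SetLike.coe_subset_coe,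
    Ideal.map_le_iff_le_comap]

end Groth.Agent.S1276
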