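import Groth.Statements.S12776
import Groth.Agent.H64.Stk.FaithfulRep

set_option autoImplicit false
open CategoryTheory AlgebraicGeometry
universe u
open AlgSt

namespace Groth.Agent.S12776

/-- For categories `𝒳`, `𝒴` fibred in groupoids over `(Sch/S)`, any 1-morphism `f : 𝒳 ⟶ 𝒴` that is
representable by algebraic spaces is faithful on fibre categories; for categories fibred in
groupoids this is the same as `f` being faithful, which is how it is stated here. -/
theorem result {S : Scheme.{u}} {𝒳 𝒴 : AlgSt.Cat S}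
    (h𝒳 : FibCat.IsFibGrpd 𝒳.p) (h𝒴 : FibCat.IsFibGrpd 𝒴.p) (f : 𝒳 ⥤ᵇ 𝒴) (hf : AlgSt.RepByAlgSp1 f) :
    f.toFunctor.Faithful := by
  apply Groth.Agent.H64.faithful_of_thin_fp_slices f h𝒳 h𝒴
  intro U y V
  obtain ⟨F, e, he⟩ := hf U y
  exact ((Groth.Agent.H64.isFibSetoid_iff_of_isEquivOver he).mp
    (Groth.Agent.H64.isFibSetoid_ofPsh F.obj.obj)).2 V

end Groth.Agent.S12776
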