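import Groth.Statements.S1279
import Groth.Agent.H96.SupBlowUp
-- import your own Groth.Agent.* helpers here

set_option autoImplicit false
universe u
open FlatMor

namespace Groth.Agent.S1279

open AlgebraicGeometry CategoryTheory Limits Topology in
/-- Let X be a quasi-compact and quasi-separated scheme, U ⊆ X a quasi-compact open, and T₁, T₂ ⊆ U
disjoint subsets which are closed and constructible in U. Then there is a U-admissible blow-up b :
X' → X such that the closures in X' of the preimages of T₁ and T₂ are disjoint. (Part (1), about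
strict transforms of closed subschemes, is not stated.) -/
theorem result {X : Scheme.{u}} [CompactSpace X] [QuasiSeparatedSpace X]
    (U : X.Opens) (hU : IsCompact (U : Set X)) (T₁ T₂ : Set U)
    (h₁ : IsClosed T₁) (h₂ : IsClosed T₂) (c₁ : IsConstructible T₁) (c₂ : IsConstructible T₂) (hd : Disjoint T₁ T₂) :
    ∃ (𝓘 : X.IdealSheafData) (X' : Scheme.{u}) (b : X' ⟶ X), BlowUp.IsBlowUp b 𝓘 ∧ BlowUp.IsAdmissibleFor U 𝓘 ∧
      Disjoint (closure (b.base ⁻¹' (Subtype.val '' T₁))) (closure (b.base ⁻¹' (Subtype.val '' T₂))) := by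
  classical
  have hUcs : CompactSpace (U : Scheme.{u}) := isCompact_iff_compactSpace.mp hU
  have hUqs : QuasiSeparatedSpace (U : Scheme.{u}) :=
    QuasiSeparatedSpace.of_isOpenEmbedding U.2.isOpenEmbedding_subtypeVal
  let T : Bool → Set U := fun c => cond c T₁ T₂
  have hTcl : ∀ c, IsClosed (T c) := fun c => by cases c <;> assumption
  have hTcons : ∀ c, IsConstructible (T c) := fun c => by cases c <;> assumption
  have hTc : ∀ c, IsCompact ((T c)ᶜ : Set U) := fun c =>
    Groth.Agent.H96.SupBlowUp.isCompact_of_isConstructible (U : Scheme.{u}) (hTcons c).compl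
  let V : Bool → X.Opens := fun c =>
    ⟨Subtype.val '' (T c)ᶜ, U.2.isOpenMap_subtype_val _ (hTcl c).isOpen_compl⟩
  have hVc : ∀ c, IsCompact (V c : Set X) := fun c => (hTc c).image continuous_subtype_val
  have hex : ∀ c, ∃ F : X.IdealSheafData, (∀ A : X.affineOpens, (F.ideal A).FG) ∧
      (F.support : Set X) = (V c : Set X)ᶜ := fun c =>
    Groth.Agent.H96.FiniteTypeExt.exists_finiteType_support_eq (V c) (hVc c)
  choose J hJfg hJsupp using hex
  let 𝓘 : X.IdealSheafData := ⨆ c, J c
  have h𝓘fg : ∀ A : X.affineOpens, (𝓘.ideal A).FG := by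
    intro A
    rw [Groth.Agent.H96.SupBlowUp.ideal_iSup_apply]
    exact Submodule.fg_iSup _ fun c => hJfg c A
  have h𝓘supp : ∀ x, x ∈ 𝓘.support ↔ ∀ c, x ∉ V c := by
    intro x
    change x ∈ (⨆ c, J c).support ↔ _
    rw [Scheme.IdealSheafData.support_iSup]
    simp only [TopologicalSpace.Closeds.mem_iInf]
    refine forall_congr' fun c => ?_
    change x ∈ ((J c).support : Set X) ↔ _
    rw [hJsupp c]
    rfl
  have hVmem : ∀ (c : Bool) (u : U), (u : X) ∈ V c ↔ u ∉ T c := by
    intro c u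
    change (u : X) ∈ Subtype.val '' (T c)ᶜ ↔ _
    rw [Subtype.val_injective.mem_set_image]
    rfl
  have h𝓘disj : Disjoint (𝓘.support : Set X) (U : Set X) := by
    rw [Set.disjoint_left]
    intro x hx𝓘 hxU
    have h1 := (h𝓘supp x).mp hx𝓘
    have h2 : (⟨x, hxU⟩ : U) ∈ T₁ := by
      by_contra h
      exact h1 true ((hVmem true ⟨x, hxU⟩).mpr h)
    have h3 : (⟨x, hxU⟩ : U) ∈ T₂ := by
      by_contra h
      exact h1 false ((hVmem false ⟨x, hxU⟩).mpr h)
    exact Set.disjoint_left.mp hd h2 h3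
  obtain ⟨X', b, hb⟩ := Groth.Agent.H8.exists_isBlowUp X 𝓘
  refine ⟨𝓘, X', b, hb, ⟨h𝓘fg, h𝓘disj⟩, ?_⟩
  have hcm : 𝓘.comap b = ⨆ c, (J c).comap b := Groth.Agent.H96.SupBlowUp.comap_iSup b J
  have hE : BlowUp.IsEffCartierIdeal (⨆ c, (J c).comap b) := hcm ▸ hb.1
  have key : ∀ y : X', ∃ (O : X'.Opens) (c : Bool), y ∈ O ∧
      ∀ z ∈ O, b.base z ∉ Subtype.val '' T c := by
    intro y
    obtain ⟨O, c, hyO, hO⟩ :=
      Groth.Agent.H96.SupBlowUp.exists_affine_ideal_eq (fun c => (J c).comap b) hE y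
    refine ⟨O.1, c, hyO, ?_⟩
    rintro z hzO ⟨u, hu, huz⟩
    have hzV : b z ∉ V c := by
      have : b z = (u : X) := huz.symm
      rw [this, hVmem c u]
      exact fun h => h hu
    have h1 : b z ∈ (J c).support := by
      change b z ∈ ((J c).support : Set X)
      rw [hJsupp c]
      exact hzV
    have h2 : z ∈ ((J c).comap b).support := by
      rw [Scheme.IdealSheafData.support_comap]
      exact h1
    rw [Scheme.IdealSheafData.mem_support_iff_of_mem (U := O) hzO, hO, ← hcm,
      ← Scheme.IdealSheafData.mem_support_iff_of_mem (U := O) hzO,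
      Scheme.IdealSheafData.support_comap] at h2
    have h3 : b z ∈ (U : Set X) := by
      have : b z = (u : X) := huz.symm
      rw [this]
      exact u.2
    exact Set.disjoint_left.mp h𝓘disj h2 h3
  rw [Set.disjoint_left]
  intro y hy1 hy2
  obtain ⟨O, c, hyO, hO⟩ := key y
  cases c with
  | true =>
    obtain ⟨z, hzO, hz⟩ := mem_closure_iff.mp hy1 O.1 O.2 hyO
    exact hO z hzO hz
  | false =>
    obtain ⟨z, hzO, hz⟩ := mem_closure_iff.mp hy2 O.1 O.2 hyO
    exact hO z hzO hz

end Groth.Agent.S1279
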