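import Groth.Statements.S12791
import Groth.Agent.H64.Boot.Inertia
import Groth.Agent.S10104

set_option autoImplicit false
open CategoryTheory AlgebraicGeometry
universe u
open AlgSt

namespace Groth.Agent.S12791

/-- (2) ⇔ (3): for an algebraic stack `𝒳` over `S`, the canonical 1-morphism `I_𝒳 ⟶ 𝒳` from the inertia
is an equivalence over `(Sch/S)` if and only if `𝒳` is representable by an algebraic space. -/
theorem result {S : Scheme.{u}} {𝒳 : AlgSt.Cat S}
    (h𝒳 : AlgSt.IsAlgStack Scheme.fppfPrecoverage 𝒳) :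
    FibCat.IsEquivOver (FibCat.inertiaToBase (FibCat.toSelf 𝒳)) ↔ AlgSt.RepByAlgSp 𝒳 := by
  exact Groth.Agent.H64.Boot.isEquivOver_inertiaToBase_iff_repByAlgSp
    (fun F U p hp => Groth.Agent.S10104.result S F U p hp) h𝒳

end Groth.Agent.S12791
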