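import Groth.Statements.S12831
import Groth.Agent.H64.UnivInj

set_option autoImplicit false
universe u
open CategoryTheory AlgebraicGeometry
open AlgSt

namespace Groth.Agent.S12831

/-- (1) ⇔ (2): a morphism `f : 𝒳 ⟶ 𝒴` of algebraic stacks over `S` is universally injective (every base
change to an algebraic stack is injective on points) if and only if its diagonal `𝒳 ⟶ 𝒳 ×_𝒴 𝒳` is
surjective on points. -/
theorem result {S : Scheme.{u}} {𝒳 𝒴 : AlgSt.Cat S}
    (h𝒳 : AlgSt.IsAlgStack Scheme.fppfPrecoverage 𝒳) (h𝒴 : AlgSt.IsAlgStack Scheme.fppfPrecoverage 𝒴) (f : 𝒳 ⥤ᵇ 𝒴) :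
    AlgSt.IsUnivInjective Scheme.fppfPrecoverage f ↔ AlgSt.IsSurjective (FibCat.diag f) := by
  constructor
  · intro h
    exact Groth.Agent.H64.surjective_diag_of_injective_fpFst f (h 𝒳 h𝒳 f)
  · intro h 𝒵 h𝒵 g
    exact Groth.Agent.H64.injective_points_fpFst_of_surjective_diag h𝒳.isStack.1 h𝒴.isStack.1
      h𝒵.isStack.1 f g h

end Groth.Agent.S12831
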