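import Groth.Statements.S1285
import Groth.Agent.H32.OneStepDimB
import Groth.Agent.H32.OneStepDimC
import Groth.Agent.H32.OneStepDimD

set_option autoImplicit false
universe u
open FlatMor

namespace Groth.Agent.S1285

attribute [local instance] Algebra.TensorProduct.rightAlgebra
open TensorProduct

/-- Let (C, D, G) be a one-step dévissage of N/S/R over the prime p (see FlatCA.IsOneStepDevissage), and
suppose pD is prime (the generic point of the fibre of Spec D). Then there are r > 0 and a D-linear
map α from D^r to G which becomes bijective after base change to the residue field of pD; moreover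
for every such α the support of the fibre module over p of the cokernel of α has dimension strictly
less than that of the fibre module of N. -/
theorem result {R S : Type u} [CommRing R] [CommRing S] [Algebra R S] [Algebra.FiniteType R S]
    (N : Type u) [AddCommGroup N] [Module S N] [Module R N] [IsScalarTower R S N] [Module.Finite S N] (p : Ideal R) [p.IsPrime]
    (C D G : Type u) [CommRing C] [CommRing D] [Algebra S C] [Algebra R C] [IsScalarTower R S C]
    [Algebra R D] [Algebra D C] [IsScalarTower R D C] [AddCommGroup G] [Module C G] [Module S G] [IsScalarTower S C G]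
    [Module D G] [IsScalarTower D C G] [Module R G] [IsScalarTower R D G]
    (n : ℕ) (h : FlatCA.IsOneStepDevissage R S N p C D G n) [(p.map (algebraMap R D)).IsPrime] :
    (∃ (r : ℕ) (α : (Fin r → D) →ₗ[D] G), 0 < r ∧ Function.Bijective (α.baseChange (p.map (algebraMap R D)).ResidueField)) ∧
    ∀ (r : ℕ) (α : (Fin r → D) →ₗ[D] G), Function.Bijective (α.baseChange (p.map (algebraMap R D)).ResidueField) →
      Module.supportDim (p.Fiber D) (FlatCA.fiberMod p D (G ⧸ LinearMap.range α)) < (n : WithBot ℕ∞) := by
  obtain ⟨⟨e⟩, hsurj, hfp, hfinDC, hfinCG, hsm, hgi, hdim⟩ := h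
  haveI := hfinDC
  haveI := hfinCG
  haveI : Module.Finite S C := Module.Finite.of_surjective (Algebra.linearMap S C) hsurj
  haveI : Module.Finite S G := Module.Finite.trans C G
  haveI : Module.Finite D G := Module.Finite.trans C G
  -- the chain of support dimensions
  have h1 : Module.supportDim (p.Fiber S) (FlatCA.fiberMod p S N) =
      Module.supportDim (p.Fiber S) (FlatCA.fiberMod p S G) :=
    Module.supportDim_eq_of_equiv
      (TensorProduct.AlgebraTensorModule.congr (LinearEquiv.refl (p.Fiber S) (p.Fiber S)) e)
  have h2 := Groth.Agent.H32.OneStepDimC.supportDim_fiberMod_eq_of_tower R S C p G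
  have h3 := Groth.Agent.H32.OneStepDimC.supportDim_fiberMod_eq_of_tower R D C p G
  have hD : Module.supportDim (p.Fiber D) (FlatCA.fiberMod p D G) = (n : WithBot ℕ∞) := by
    rw [h3, ← h2, ← h1, hdim]
  haveI hnt : Nontrivial (p.Fiber D) := by
    by_contra hne
    rw [not_nontrivial_iff_subsingleton] at hne
    haveI : Subsingleton (FlatCA.fiberMod p D G) := Module.subsingleton (p.Fiber D) _
    rw [Module.supportDim_eq_bot_of_subsingleton] at hD
    exact absurd hD (by simp)
  obtain ⟨hb, hbc⟩ := Groth.Agent.H32.OneStepDimC.bot_isPrime_and_comap R D p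
  haveI := hb
  haveI : IsDomain (p.Fiber D) := IsDomain.of_bot_isPrime (p.Fiber D)
  have hdimF : ringKrullDim (p.Fiber D) ≤ (n : WithBot ℕ∞) :=
    Groth.Agent.H32.OneStepDimD.ringKrullDim_fiber_le n R D hsm p
  have hfinFib : ∀ (X : Type u) [AddCommGroup X] [Module D X] [Module.Finite D X],
      Module.Finite (p.Fiber D) (FlatCA.fiberMod p D X) := fun X _ _ _ =>
    inferInstanceAs (Module.Finite (p.Fiber D) ((p.Fiber D) ⊗[D] X))
  have hb' : (⟨⊥, hb⟩ : PrimeSpectrum (p.Fiber D)) = ⟨⊥, Ideal.isPrime_bot⟩ := rfl
  constructor
  · -- existence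
    haveI : Nontrivial ((p.map (algebraMap R D)).ResidueField ⊗[D] G) := by
      rw [← Groth.Agent.H32.OneStepDimC.bot_mem_support_fiberMod_iff R D p G hb]
      by_contra hnot
      haveI := hfinFib G
      have := Groth.Agent.H32.OneStepDimA.supportDim_lt_of_bot_notMem_support (p.Fiber D) n hdimF
        (FlatCA.fiberMod p D G) hnot
      rw [hD] at this
      exact lt_irrefl _ this
    exact Groth.Agent.H32.OneStepDimB.exists_bijective_baseChange D
      (p.map (algebraMap R D)).ResidueField G
  · intro r α hα
    haveI := Groth.Agent.H32.OneStepDimB.subsingleton_tensor_coker D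
      (p.map (algebraMap R D)).ResidueField G α hα.2
    haveI := hfinFib (G ⧸ LinearMap.range α)
    apply Groth.Agent.H32.OneStepDimA.supportDim_lt_of_bot_notMem_support (p.Fiber D) n hdimF
    rw [← hb', Groth.Agent.H32.OneStepDimC.bot_mem_support_fiberMod_iff R D p _ hb,
      not_nontrivial_iff_subsingleton]
    infer_instance

end Groth.Agent.S1285
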