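import Groth.Statements.S12864
import Groth.Agent.H64.OpenCov.Main
import Groth.Agent.H51.SpGlue2
import Groth.Agent.H64.Psh.OverCatRep
import Groth.Agent.H64.Psh.RepSch

set_option autoImplicit false
open CategoryTheory AlgebraicGeometry
universe u w
open AlgSt

namespace Groth.Agent.S12864

/-- Let `𝒳` be an algebraic stack over `S` and `𝒳_i ⊂ 𝒳` a family of open substacks with `𝒳 = ⋃ 𝒳_i`
(their points exhaust `|𝒳|`). If every `𝒳_i` is a scheme (equivalent over `(Sch/S)` to some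
`(Sch/U)`), then `𝒳` is a scheme. -/
theorem result {S : Scheme.{u}} {𝒳 : AlgSt.Cat S}
    (h𝒳 : AlgSt.IsAlgStack Scheme.fppfPrecoverage 𝒳) {ι : Type w} (Q : ι → 𝒳.obj → Prop)
    (hQ : ∀ i, AlgSt.IsOpenSubstack 𝒳 (Q i) Scheme.fppfPrecoverage)
    (hcov : ⋃ i, Set.range (AlgSt.Points.map (AlgSt.subIncl 𝒳 (Q i))) = Set.univ)
    (hsch : ∀ i, FibCat.IsRepresentable (AlgSt.fullSub 𝒳 (Q i))) : FibCat.IsRepresentable 𝒳 := by
  choose V E hE using hsch
  have hd : ∀ i, Nonempty (Groth.Agent.H32.EquivOverData (E i)) := fun i =>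
    Groth.Agent.H32.IsEquivOver.nonempty_data (hE i)
  have d : ∀ i, Groth.Agent.H32.EquivOverData (E i) := fun i => (hd i).some
  obtain ⟨F, e₀, he₀, hpts⟩ :=
    Groth.Agent.H64.OpenCov.exists_space_of_open_cover h𝒳 Q hQ hcov
      (fun i => Groth.Agent.H64.FpRep.yonSpace (V i))
      (fun i => BasedFunctor.comp (AlgSt.toOverCat (V i)) (d i).inv)
      (fun i => Groth.Agent.H64.isEquivOver_comp (Groth.Agent.H64.FpRep.isEquivOver_toOverCat (V i))
        (Groth.Agent.H64.isEquivOver_inv (d i)))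
  obtain ⟨U, a, -, has⟩ := F.property.atlas
  obtain ⟨G₀, ⟨φ⟩⟩ := Groth.Agent.H51.exists_iso_yon_of_forall_point a has (fun u => by
    obtain ⟨i, f, hf, hx⟩ := hpts (AlgSp.Points.ofPt a u)
    exact ⟨V i, f, hf, hx⟩)
  obtain ⟨d₀⟩ := Groth.Agent.H32.IsEquivOver.nonempty_data he₀
  refine ⟨G₀, BasedFunctor.comp d₀.inv (BasedFunctor.comp (AlgSt.ofSpMap φ.inv)
    (AlgSt.toOverCat G₀)), ?_⟩
  exact Groth.Agent.H64.isEquivOver_comp (Groth.Agent.H64.isEquivOver_inv d₀)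
    (Groth.Agent.H64.isEquivOver_comp (Groth.Agent.H64.PTh.isEquivOver_ofSpMap_of_isIso φ.inv)
      (Groth.Agent.H64.FpRep.isEquivOver_toOverCat G₀))

end Groth.Agent.S12864
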