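import Groth.Statements.S12906
-- import your own Groth.Agent.* helpers here

set_option autoImplicit false
universe u
open CAlgX

namespace Groth.Agent.S12906

/-- Let R be a commutative ring, t a natural number and Φ a (t+1) × t matrix over R. For each row index
i let Δ_i be (-1)^i times the determinant of the t × t matrix obtained from Φ by deleting row i.
Then for every column j one has Σ_i Δ_i Φ_{ij} = 0; that is, the row (Δ_0, …, Δ_t) followed by Φ is
the zero map. (The published statement multiplies every Δ_i by one fixed ring element, which changes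
nothing.) -/
theorem result {R : Type u} [CommRing R] (t : ℕ)
    (Φ : Matrix (Fin (t + 1)) (Fin t) R) (j : Fin t) :
    ∑ i : Fin (t + 1), (-1 : R) ^ (i : ℕ) * (Φ.submatrix i.succAbove id).det * Φ i j = 0 := by
  have hdet : (Matrix.of (fun (i : Fin (t + 1)) (k : Fin (t + 1)) =>
      (Fin.cons (Φ i j) (Φ i) : Fin (t + 1) → R) k)).det = 0 := by
    apply Matrix.det_zero_of_column_eq (i := 0) (j := j.succ) (Fin.succ_ne_zero j).symm
    intro i
    simp
  rw [Matrix.det_succ_column_zero] at hdet
  rw [← hdet]
  apply Finset.sum_congr rfl
  intro i _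
  have hsub : (Matrix.of (fun (i : Fin (t + 1)) (k : Fin (t + 1)) =>
      (Fin.cons (Φ i j) (Φ i) : Fin (t + 1) → R) k)).submatrix i.succAbove Fin.succ =
      Φ.submatrix i.succAbove id := by
    ext a b
    simp
  rw [hsub]
  simp
  ring

end Groth.Agent.S12906
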