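import Groth.Statements.S12907
import Groth.Agent.H59.HBurch

set_option autoImplicit false
universe u
open CAlgX

namespace Groth.Agent.S12907

open Groth.Agent.H59.HBConv Groth.Agent.H59.HBurch

/-- Let R be a Noetherian ring and I a nonzero ideal admitting a free resolution 0 → R^m → R^n → I → 0:
an injective matrix Ψ with n rows and m columns, and a linear map π : R^n → R with image I whose
kernel is the image of Ψ. Then n = m + 1; there is a non-zero-divisor a with I = a · I_m(Ψ), where
I_m(Ψ) is the ideal generated by the m × m minors of Ψ; and the I_m(Ψ)-depth of R is at least 2.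
(The published statement also asserts that this depth is exactly 2; only the lower bound is stated
here. The hypothesis that I is nonzero is implicit in the published statement.) -/
theorem result {R : Type u} [CommRing R] [IsNoetherianRing R] (m n : ℕ)
    (Ψ : Matrix (Fin n) (Fin m) R) (π : (Fin n → R) →ₗ[R] R)
    (hΨ : LinearMap.ker Ψ.mulVecLin = ⊥) (hex : LinearMap.ker π = LinearMap.range Ψ.mulVecLin)
    (hI : LinearMap.range π ≠ ⊥) :
    n = m + 1 ∧
      (∃ a : R, a ∈ nonZeroDivisors R ∧ LinearMap.range π = Ideal.span {a} * CAlgX.minorIdeal Ψ m) ∧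
      2 ≤ LocCoh.idealDepth (CAlgX.minorIdeal Ψ m) R := by
  classical
  -- a nonzerodivisor in the image
  obtain ⟨s, hs, hs'⟩ : ∃ x : R, x ∈ LinearMap.range π ∧ x ∈ nonZeroDivisors R := by
    let n' : ℕ → ℕ := fun i => match i with
      | 0 => n
      | 1 => m
      | _ => 0
    let A : (i : ℕ) → Matrix (Fin (n' i)) (Fin (n' (i + 1))) R := fun i => match i with
      | 0 => Ψ
      | (_ + 1) => 0
    exact Groth.Agent.H15.FFR.exists_mem_nonZeroDivisors_of_matrices 1 le_rfl n' A π hI hex
      (fun i hi => by omega) hΨ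
  have hs0 : ∀ z, s * z = 0 → z = 0 := fun z hz => (mem_nonZeroDivisors_iff.mp hs').1 z hz
  haveI : Nontrivial R := by
    by_contra h
    rw [not_nontrivial_iff_subsingleton] at h
    exact hI (Subsingleton.elim _ _)
  obtain rfl : n = m + 1 := rank_eq Ψ π hΨ hex s hs hs0
  obtain ⟨x, y, hxy⟩ := exists_isPair Ψ π hΨ hex s hs hs0
  refine ⟨rfl, ?_, two_le_idealDepth _ hxy⟩
  obtain ⟨a, ha⟩ := exists_mul_minors Ψ π hxy hex
  have hπ : ∀ w : Fin (m + 1) → R,
      π w = a * ∑ i, w i * ((-1 : R) ^ (i : ℕ) * mnr Ψ i) := by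
    intro w
    rw [LinearMap.pi_apply_eq_sum_univ π w, Finset.mul_sum]
    refine Finset.sum_congr rfl fun i _ => ?_
    rw [smul_eq_mul, ha i]
    ring
  refine ⟨a, ?_, ?_⟩
  · obtain ⟨w, hw⟩ := hs
    rw [hπ] at hw
    rw [mem_nonZeroDivisors_iff]
    have key : ∀ z, a * z = 0 → z = 0 := by
      intro z hz
      apply hs0
      rw [← hw, mul_right_comm, hz, zero_mul]
    exact ⟨key, fun z hz => key z (by rw [mul_comm]; exact hz)⟩
  · rw [minorIdeal_eq]
    apply le_antisymm
    · rintro _ ⟨w, rfl⟩
      rw [hπ]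
      refine Ideal.mul_mem_mul (Ideal.mem_span_singleton_self a) ?_
      refine Ideal.sum_mem _ fun i _ => ?_
      exact Ideal.mul_mem_left _ _ (Ideal.mul_mem_left _ _ (Ideal.subset_span ⟨i, rfl⟩))
    · rw [Ideal.mul_le]
      intro r hr q hq
      obtain ⟨r', rfl⟩ := Ideal.mem_span_singleton'.mp hr
      induction hq using Submodule.span_induction with
      | mem z hz =>
        obtain ⟨i, rfl⟩ := hz
        refine ⟨(r' * (-1 : R) ^ (i : ℕ)) • (fun j => if i = j then 1 else 0), ?_⟩
        rw [map_smul, ha i, smul_eq_mul]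
        have hsq : ((-1 : R) ^ (i : ℕ)) * ((-1 : R) ^ (i : ℕ)) = 1 := by
          rw [← pow_add, ← two_mul, pow_mul]; simp
        linear_combination (r' * a * mnr Ψ i) * hsq
      | zero => rw [mul_zero]; exact Submodule.zero_mem _
      | add p q _ _ hp hq => rw [mul_add]; exact Submodule.add_mem _ hp hq
      | smul c p _ hp =>
        rw [smul_eq_mul, mul_left_comm]
        exact Submodule.smul_mem _ c hp

end Groth.Agent.S12907
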