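import Groth.Statements.S12908
import Groth.Agent.H59.HBConv

set_option autoImplicit false
universe u
open CAlgX

namespace Groth.Agent.S12908

open Groth.Agent.H59.HBConv

/-- Let R be a Noetherian ring, t a natural number, Ψ a (t+1) × t matrix over R such that the
I_t(Ψ)-depth of R is at least 2, where I_t(Ψ) is the ideal generated by the t × t minors of Ψ, and a
a non-zero-divisor of R. Put Δ_i = a · (-1)^i det Ψ_i, where Ψ_i is Ψ with row i deleted. Then 0 →
R^t → R^{t+1} → R, with first map Ψ and second map v ↦ Σ_i Δ_i v_i, is exact: Ψ is injective and the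
kernel of the second map equals the image of Ψ; moreover the image of the second map is the ideal a
· I_t(Ψ). (The published statement adds that this ideal has depth 2 exactly when a is a unit; that
clause is not stated here.) -/
theorem result {R : Type u} [CommRing R] [IsNoetherianRing R] (t : ℕ)
    (Ψ : Matrix (Fin (t + 1)) (Fin t) R) (hdepth : 2 ≤ LocCoh.idealDepth (CAlgX.minorIdeal Ψ t) R)
    (a : R) (ha : a ∈ nonZeroDivisors R) :
    LinearMap.ker Ψ.mulVecLin = ⊥ ∧
      LinearMap.ker (Fintype.linearCombination R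
          (fun i : Fin (t + 1) => a * ((-1 : R) ^ (i : ℕ) * (Ψ.submatrix i.succAbove id).det))) =
        LinearMap.range Ψ.mulVecLin ∧
      LinearMap.range (Fintype.linearCombination R
          (fun i : Fin (t + 1) => a * ((-1 : R) ^ (i : ℕ) * (Ψ.submatrix i.succAbove id).det))) =
        Ideal.span {a} * CAlgX.minorIdeal Ψ t := by
  obtain ⟨x, y, hxy⟩ := exists_pair _ hdepth
  have hc : ∀ i : Fin (t + 1), a * ((-1 : R) ^ (i : ℕ) * (Ψ.submatrix i.succAbove id).det)
      = a * ((-1 : R) ^ (i : ℕ) * mnr Ψ i) := fun i => rfl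
  have hlin : ∀ w : Fin (t + 1) → R, Fintype.linearCombination R
      (fun i : Fin (t + 1) => a * ((-1 : R) ^ (i : ℕ) * (Ψ.submatrix i.succAbove id).det)) w
      = a * ∑ i : Fin (t + 1), ((-1 : R) ^ (i : ℕ) * mnr Ψ i) * w i := by
    intro w
    rw [Fintype.linearCombination_apply, Finset.mul_sum]
    refine Finset.sum_congr rfl fun i _ => ?_
    rw [smul_eq_mul, hc]
    ring
  refine ⟨ker_eq_bot Ψ hxy, ?_, ?_⟩
  · apply le_antisymm
    · intro w hw
      rw [LinearMap.mem_ker, hlin] at hw
      have hw' : ∑ i : Fin (t + 1), ((-1 : R) ^ (i : ℕ) * mnr Ψ i) * w i = 0 := by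
        have := (mem_nonZeroDivisors_iff.mp ha).2 _ (by rw [mul_comm]; exact hw)
        exact this
      exact ker_le_range Ψ hxy w hw'
    · rintro _ ⟨v, rfl⟩
      rw [LinearMap.mem_ker, hlin]
      have := sum_mnr_mulVec Ψ v
      rw [Matrix.mulVecLin_apply, this, mul_zero]
  · rw [Fintype.range_linearCombination, minorIdeal_eq]
    apply le_antisymm
    · rw [Submodule.span_le]
      rintro _ ⟨i, rfl⟩
      show a * ((-1 : R) ^ (i : ℕ) * mnr Ψ i) ∈ Ideal.span {a} * Ideal.span (Set.range (mnr Ψ))
      exact Ideal.mul_mem_mul (Ideal.mem_span_singleton_self a)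
        (Ideal.mul_mem_left _ _ (Ideal.subset_span ⟨i, rfl⟩))
    · rw [Ideal.mul_le]
      intro r hr s hs
      obtain ⟨r', rfl⟩ := Ideal.mem_span_singleton'.mp hr
      induction hs using Submodule.span_induction with
      | mem z hz =>
        obtain ⟨i, rfl⟩ := hz
        have : r' * a * mnr Ψ i = (r' * (-1 : R) ^ (i : ℕ)) •
            (a * ((-1 : R) ^ (i : ℕ) * (Ψ.submatrix i.succAbove id).det)) := by
          rw [hc, smul_eq_mul]
          have hsq : ((-1 : R) ^ (i : ℕ)) * ((-1 : R) ^ (i : ℕ)) = 1 := by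
            rw [← pow_add, ← two_mul, pow_mul]; simp
          linear_combination (-(r' * a * mnr Ψ i)) * hsq
        rw [this]
        exact Submodule.smul_mem _ _ (Submodule.subset_span ⟨i, rfl⟩)
      | zero => rw [mul_zero]; exact Submodule.zero_mem _
      | add p q _ _ hp hq => rw [mul_add]; exact Submodule.add_mem _ hp hq
      | smul c p _ hp =>
        rw [smul_eq_mul, mul_left_comm]
        exact Submodule.smul_mem _ c hp

end Groth.Agent.S12908
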