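import Groth.Statements.S1291
import Groth.Agent.H32.FittEtale

set_option autoImplicit false
universe u
open FlatMor

namespace Groth.Agent.S1291

/-- Let A → C be finite locally free of rank d (C a finite projective A-module of constant rank d), h ∈
C such that C_h is étale over A, and J an ideal of C. Let I be the zeroth Fitting ideal of C/J
regarded as a finite A-module. Then the extension of I to C_h equals J·J' for some ideal J' of C_h
(J extended to C_h); and if J is finitely generated then so are I and J'. -/
theorem result {A C : Type u} [CommRing A] [CommRing C] [Algebra A C] [Module.Finite A C] [Module.Projective A C]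
    (d : ℕ) (hd : ∀ p : PrimeSpectrum A, Module.rankAtStalk (R := A) C p = d)
    (h : C) [Algebra.Etale A (Localization.Away h)] (J : Ideal C) :
    ∃ J' : Ideal (Localization.Away h),
      (FlatCA.fittingZero A (C ⧸ J)).map (algebraMap A (Localization.Away h)) = J.map (algebraMap C (Localization.Away h)) * J' ∧
      (J.FG → (FlatCA.fittingZero A (C ⧸ J)).FG ∧ J'.FG) := by
  haveI : Module.FinitePresentation A C := Module.finitePresentation_of_projective A C
  haveI : Algebra.FinitePresentation A C := inferInstance
  obtain ⟨J', h1, h2⟩ := Groth.Agent.H32.FittEtale.exists_fitt_map_eq_mul (A := A) h J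
  refine ⟨J', ?_, ?_⟩
  · rw [Groth.Agent.H32.FittSplit.fittingZero_eq]
    exact h1
  · intro hJ
    have hfp : Module.FinitePresentation A (C ⧸ J) := by
      let π : C →ₗ[A] C ⧸ J := (Ideal.Quotient.mkₐ A J).toLinearMap
      have hπ : Function.Surjective π := Ideal.Quotient.mkₐ_surjective A J
      have hk : LinearMap.ker π = J.restrictScalars A := by
        ext x
        rw [LinearMap.mem_ker, Submodule.restrictScalars_mem]
        exact Ideal.Quotient.eq_zero_iff_mem
      have hfg : (LinearMap.ker π).FG := by
        rw [hk]
        haveI : Module.Finite C J := Module.Finite.iff_fg.mpr hJ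
        haveI : Module.Finite A J := Module.Finite.trans C J
        exact Module.Finite.iff_fg.mp ‹Module.Finite A J›
      exact Module.finitePresentation_of_surjective π hπ hfg
    refine ⟨?_, h2 hfp⟩
    rw [Groth.Agent.H32.FittSplit.fittingZero_eq]
    exact Groth.Agent.Lead.fitt_ideal_fg 0

end Groth.Agent.S1291
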