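import Groth.Statements.S12914
import Groth.Agent.H59.DubMain

set_option autoImplicit false
universe u
open CAlgX

namespace Groth.Agent.S12914

open Groth.Agent.H59.Dub in
/-- in the field of rational functions, the linear form `T x0 + T^2 x1 + x2` vanishes at no
nonzero point with coordinates in `k`. -/
lemma ratfunc_form_ne_zero (k : Type u) [Field k] (p : Fin 3 → k) (hp : p ≠ 0) :
    (RatFunc.X : RatFunc k) * algebraMap k (RatFunc k) (p 0)
      + (RatFunc.X : RatFunc k) ^ 2 * algebraMap k (RatFunc k) (p 1)
      + algebraMap k (RatFunc k) (p 2) ≠ 0 := by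
  set q : Polynomial k := Polynomial.C (p 2) + Polynomial.C (p 0) * Polynomial.X
    + Polynomial.C (p 1) * Polynomial.X ^ 2 with hq
  have hq0 : q ≠ 0 := by
    intro h
    apply hp
    have c0 := congrArg (fun r => Polynomial.coeff r 0) h
    have c1 := congrArg (fun r => Polynomial.coeff r 1) h
    have c2 := congrArg (fun r => Polynomial.coeff r 2) h
    simp [hq, Polynomial.coeff_X, Polynomial.coeff_C] at c0 c1 c2
    funext i
    fin_cases i
    · exact c1
    · exact c2
    · exact c0
  have himg : algebraMap (Polynomial k) (RatFunc k) q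
      = (RatFunc.X : RatFunc k) * algebraMap k (RatFunc k) (p 0)
      + (RatFunc.X : RatFunc k) ^ 2 * algebraMap k (RatFunc k) (p 1)
      + algebraMap k (RatFunc k) (p 2) := by
    simp only [hq, map_add, map_mul, map_pow, RatFunc.algebraMap_X, RatFunc.algebraMap_C,
      RatFunc.algebraMap_eq_C]
    ring
  rw [← himg]
  exact (map_ne_zero_iff _ (RatFunc.algebraMap_injective k)).mpr hq0

/-- Let k be a field, Z a finite set of nonzero vectors in k^3, regarded as points of the projective
plane, and I the homogeneous vanishing ideal of Z in k[x_0, x_1, x_2]: a polynomial belongs to I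
exactly when every one of its homogeneous components vanishes at every vector of Z. If Z lies on a
curve of degree d, that is I contains a nonzero homogeneous form of degree d, then I is generated by
at most d + 1 elements. -/
theorem result (k : Type u) [Field k]
    (Z : Finset (Fin 3 → k)) (hZ : ∀ p ∈ Z, p ≠ 0) (I : Ideal (MvPolynomial (Fin 3) k))
    (hI : ∀ f : MvPolynomial (Fin 3) k, f ∈ I ↔
      ∀ p ∈ Z, ∀ j : ℕ, MvPolynomial.eval p (MvPolynomial.homogeneousComponent j f) = 0)
    (d : ℕ) (hf : ∃ f ∈ I, MvPolynomial.IsHomogeneous f d ∧ f ≠ 0) :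
    Submodule.spanFinrank I ≤ d + 1 := by
  exact Groth.Agent.H59.Dub.main_aux (K := RatFunc k) Z I hI RatFunc.X (RatFunc.X ^ 2)
    (fun p hp => ratfunc_form_ne_zero k p (hZ p hp)) d hf

end Groth.Agent.S12914
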