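import Groth.Statements.S12925
-- import your own Groth.Agent.* helpers here

set_option autoImplicit false
universe u w
open HopfRep

namespace Groth.Agent.S12925

/-- Let `k` be a commutative ring, `M` a commutative group and `B` a commutative `k`-algebra with a
coaction of the group algebra `k[M]` that is an algebra map (an action of the diagonalizable group
scheme `D(M) = Spec k[M]` on `Spec B`). Then the action is tame: there is a comodule map `α : k[M] →
B`, for the regular coaction on `k[M]`, with `α 1 = 1`. -/
theorem result
    (k : Type u) [CommRing k] (M : Type u) [CommGroup M]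
    (B : Type w) [CommRing B] [Algebra k B] [HopfRep.Comod k (MonoidAlgebra k M) B]
    [GLin.IsCoactAlg k (MonoidAlgebra k M) B] :
    ∃ α : MonoidAlgebra k M →ₗ[k] B, Hoch.IsComodHom (MonoidAlgebra k M) α ∧ α 1 = 1 := by
  classical
  refine ⟨Algebra.linearMap k B ∘ₗ (Finsupp.lapply (1 : M) : (M →₀ k) →ₗ[k] k) ∘ₗ
    (MonoidAlgebra.coeffLinearEquiv k).toLinearMap, ?_, ?_⟩
  · apply MonoidAlgebra.lhom_ext'
    intro m
    apply LinearMap.ext_ring
    have e1 : ∀ c : k, HopfRep.Comod.coact (k := k) (A := MonoidAlgebra k M) ((algebraMap k B) c) =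
        (algebraMap k B) c ⊗ₜ[k] (1 : MonoidAlgebra k M) := by
      intro c
      rw [Algebra.algebraMap_eq_smul_one, map_smul,
        GLin.IsCoactAlg.coact_one (k := k) (A := MonoidAlgebra k M) (R := B),
        Algebra.TensorProduct.one_def, TensorProduct.smul_tmul']
    simp only [LinearMap.comp_apply, Algebra.linearMap_apply, MonoidAlgebra.lsingle_apply]
    rw [e1]
    show _ = LinearMap.rTensor _ _ (CoalgebraStruct.comul (R := k) (MonoidAlgebra.single m (1 : k)))
    rw [MonoidAlgebra.comul_single]
    simp only [CommSemiring.comul_apply, TensorProduct.map_tmul, MonoidAlgebra.lsingle_apply,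
      LinearMap.rTensor_tmul, LinearMap.comp_apply, Algebra.linearMap_apply]
    by_cases hm : m = 1
    · subst hm
      rfl
    · have : (Finsupp.lapply (1 : M) : (M →₀ k) →ₗ[k] k)
          ((MonoidAlgebra.coeffLinearEquiv k).toLinearMap (MonoidAlgebra.single m (1 : k))) = 0 := by
        show (Finsupp.single m (1 : k)) 1 = 0
        simp [hm]
      rw [this, map_zero, TensorProduct.zero_tmul, TensorProduct.zero_tmul]
  · simp [MonoidAlgebra.one_def]

end Groth.Agent.S12925
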