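import Groth.Statements.S12926
-- import your own Groth.Agent.* helpers here

set_option autoImplicit false
universe u v
open HopfRep

namespace Groth.Agent.S12926

/-- Let `k` be a commutative ring and `A` a commutative bialgebra over `k`, flat as a `k`-module. If the
submodule `k · 1` of the regular comodule `A` has a complement `H` which is a subcomodule — the case
used when `A` is cosemisimple, i.e. every subcomodule of every comodule is a direct summand as a
comodule — then the trivial action of `Spec A` on `Spec k` is tame: there is a comodule map `α : A →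
k`, for the regular coaction on `A` and the trivial coaction `r ↦ r ⊗ 1` on `k`, with `α 1 = 1`. -/
theorem result
    (k : Type u) [CommRing k] (A : Type v) [CommRing A] [Bialgebra k A] [Module.Flat k A]
    (H : Submodule k A) (hH : HopfRep.IsSubcomod (k := k) (A := A) H)
    (hc : IsCompl (Submodule.span k {(1 : A)}) H) :
    ∃ α : A →ₗ[k] k, @Hoch.IsComodHom k _ A _ _ _ A _ _ _ k _ _ (HopfRep.Comod.trivial k A k) α ∧ α 1 = 1 := by
  set pr : A →ₗ[k] (Submodule.span k {(1 : A)}) :=
    Submodule.projectionOnto (Submodule.span k {(1 : A)}) H hc with hpr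
  set α : A →ₗ[k] k := (Coalgebra.counit (R := k) (A := A)) ∘ₗ
    (Submodule.span k {(1 : A)}).subtype ∘ₗ pr with hα
  have h1mem : (1 : A) ∈ Submodule.span k {(1 : A)} := Submodule.subset_span rfl
  have hα1 : α 1 = 1 := by
    have : pr 1 = ⟨1, h1mem⟩ :=
      Submodule.projectionOnto_apply_left hc ⟨1, h1mem⟩
    simp only [hα, LinearMap.comp_apply, this, Submodule.subtype_apply]
    exact Bialgebra.counit_one
  have hαH : α ∘ₗ H.subtype = 0 := by
    apply LinearMap.ext
    intro h
    have : pr (h : A) = 0 :=
      (Submodule.projectionOnto_apply_eq_zero_iff hc).2 h.2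
    simp [hα, this]
  refine ⟨α, ?_, hα1⟩
  apply LinearMap.ext
  intro a
  have hdec : ∃ c : k, ∃ h ∈ H, a = c • (1 : A) + h := by
    have hsup : a ∈ Submodule.span k {(1 : A)} ⊔ H := by
      rw [hc.sup_eq_top]; trivial
    obtain ⟨y, hy, h, hh, rfl⟩ := Submodule.mem_sup.1 hsup
    obtain ⟨c, rfl⟩ := Submodule.mem_span_singleton.1 hy
    exact ⟨c, h, hh, rfl⟩
  obtain ⟨c, h, hh, rfl⟩ := hdec
  have hαh : α h = 0 := LinearMap.congr_fun hαH ⟨h, hh⟩
  have hzero : (α.rTensor A) (CoalgebraStruct.comul (R := k) h) = 0 := by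
    obtain ⟨w, hw⟩ := hH h hh
    have : HopfRep.Comod.coact (k := k) (A := A) (V := A) h = CoalgebraStruct.comul (R := k) h := rfl
    rw [← this, ← hw, ← LinearMap.comp_apply, ← LinearMap.rTensor_comp, hαH]
    simp
  show (α (c • (1 : A) + h)) ⊗ₜ[k] (1 : A) =
    (α.rTensor A) (CoalgebraStruct.comul (R := k) (c • (1 : A) + h))
  rw [map_add, map_smul, map_add, map_add, map_smul, map_smul, hzero, hαh, hα1,
    Bialgebra.comul_one, Algebra.TensorProduct.one_def, LinearMap.rTensor_tmul, hα1]
  simp only [add_zero, TensorProduct.smul_tmul', smul_eq_mul, mul_one]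

end Groth.Agent.S12926
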