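import Groth.Statements.S12933
import Mathlib.LinearAlgebra.TensorProduct.Pi
import Mathlib.Algebra.Module.LinearMap.Defs
-- import your own Groth.Agent.* helpers here

set_option autoImplicit false
universe u v w w'
open TensorProduct
open InvTh

namespace Groth.Agent.S12933

/-- Let `R` be a commutative ring, `B` a commutative `R`-algebra with an action of a finite group `Γ` by
`R`-algebra automorphisms, and `R'` a flat commutative `R`-algebra; let `Γ` act on `R' ⊗_R B`
through the factor `B`. Then an element of `R' ⊗_R B` is fixed by every element of `Γ` if and only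
if it lies in the `R'`-submodule spanned by the tensors `1 ⊗ b` with `b ∈ B^Γ`: taking invariants
commutes with flat base change (the map `R' ⊗_R B^Γ → R' ⊗_R B` being moreover injective by
flatness). -/
theorem result
    (R : Type u) [CommRing R] (B : Type v) [CommRing B] [Algebra R B]
    (Γ : Type w) [Group Γ] [Finite Γ] [MulSemiringAction Γ B] [SMulCommClass Γ R B]
    (R' : Type w') [CommRing R'] [Algebra R R'] [Module.Flat R R']
    (x : R' ⊗[R] B) :
    (∀ γ : Γ, Algebra.TensorProduct.map (AlgHom.id R R') (MulSemiringAction.toAlgHom R B γ) x = x) ↔
      x ∈ Submodule.span R' ((fun b : B => (1 : R') ⊗ₜ[R] b) '' {b : B | ∀ γ : Γ, γ • b = b}) := by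
  classical
  cases nonempty_fintype Γ
  -- the invariants as an `R`-submodule
  let Inv : Submodule R B :=
    { carrier := {b : B | ∀ γ : Γ, γ • b = b}
      zero_mem' := fun γ => smul_zero γ
      add_mem' := fun {a b} ha hb γ => by rw [smul_add, ha γ, hb γ]
      smul_mem' := fun r b hb γ => by rw [smul_comm, hb γ] }
  let f : Inv →ₗ[R] B := Inv.subtype
  let g : B →ₗ[R] (Γ → B) :=
    LinearMap.pi (fun γ => (MulSemiringAction.toAlgHom R B γ).toLinearMap - LinearMap.id)
  have hex : Function.Exact f g := by
    intro b
    constructor
    · intro hb
      refine ⟨⟨b, fun γ => ?_⟩, rfl⟩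
      have := congrFun hb γ
      simpa [g, sub_eq_zero] using this
    · rintro ⟨b', rfl⟩
      funext γ
      simp [g, f, b'.2 γ]
  have hex' := Module.Flat.lTensor_exact R' hex
  have hT : ∀ (γ : Γ) (z : R' ⊗[R] B) (r' : R'),
      Algebra.TensorProduct.map (AlgHom.id R R') (MulSemiringAction.toAlgHom R B γ) (r' • z) =
        r' • Algebra.TensorProduct.map (AlgHom.id R R') (MulSemiringAction.toAlgHom R B γ) z := by
    intro γ z r'
    induction z using TensorProduct.induction_on with
    | zero => simp
    | tmul a b => simp [TensorProduct.smul_tmul']
    | add p q hp hq => simp only [smul_add, map_add, hp, hq]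
  constructor
  · intro hx
    have key : ∀ z : R' ⊗[R] B,
        TensorProduct.piRightHom R R R' (fun _ : Γ => B) ((g.lTensor R') z) =
          fun γ => Algebra.TensorProduct.map (AlgHom.id R R') (MulSemiringAction.toAlgHom R B γ) z - z := by
      intro z
      induction z using TensorProduct.induction_on with
      | zero => funext γ; simp
      | tmul a b => funext γ; simp [g, TensorProduct.tmul_sub]
      | add p q hp hq =>
        simp only [map_add, hp, hq]
        funext γ
        simp only [Pi.add_apply]
        abel
    have hker : (g.lTensor R') x = 0 := by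
      apply (TensorProduct.piRight R R R' (fun _ : Γ => B)).injective
      rw [map_zero, TensorProduct.piRight_apply, key]
      funext γ
      rw [hx γ, sub_self]
      rfl
    obtain ⟨y, rfl⟩ := (hex' x).1 hker
    clear hker hx
    induction y using TensorProduct.induction_on with
    | zero => simp
    | tmul a b =>
      have : (f.lTensor R') (a ⊗ₜ[R] b) = a • ((1 : R') ⊗ₜ[R] (b : B)) := by
        simp [f, TensorProduct.smul_tmul']
      rw [this]
      exact Submodule.smul_mem _ _ (Submodule.subset_span ⟨b, b.2, rfl⟩)
    | add p q hp hq =>
      rw [map_add]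
      exact Submodule.add_mem _ hp hq
  · intro hx γ
    induction hx using Submodule.span_induction with
    | mem z hz =>
      obtain ⟨b, hb, rfl⟩ := hz
      simp [hb γ]
    | zero => simp
    | add p q _ _ hp hq => rw [map_add, hp, hq]
    | smul r' z _ hz => rw [hT, hz]

end Groth.Agent.S12933
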