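import Groth.Statements.S12951
import Groth.Agent.H65.AlgStDiagComp
import Groth.Agent.H64.Psh.PProps
import Groth.Agent.S10541
-- import your own Groth.Agent.* helpers here

set_option autoImplicit false
universe u
open CategoryTheory AlgebraicGeometry
open AlgSt

namespace Groth.Agent.S12951

/-- The composition of two quasi-DM morphisms of algebraic stacks is quasi-DM (quasi-DM: the diagonal is
representable by algebraic spaces and locally quasi-finite (and locally of finite type)). -/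
theorem result
    (S : Scheme.{u}) (𝒳 : AlgSt.Cat S) (𝒴 : AlgSt.Cat S) (𝒵 : AlgSt.Cat S)
    (h𝒳 : AlgSt.IsAlgStack Scheme.fppfPrecoverage 𝒳)
    (h𝒴 : AlgSt.IsAlgStack Scheme.fppfPrecoverage 𝒴)
    (h𝒵 : AlgSt.IsAlgStack Scheme.fppfPrecoverage 𝒵)
    (f : 𝒳 ⥤ᵇ 𝒴) (g : 𝒴 ⥤ᵇ 𝒵) :
    AlgSt.IsQuasiDMMor f → AlgSt.IsQuasiDMMor g → AlgSt.IsQuasiDMMor (BasedFunctor.comp f g) := by
  intro hf hg
  exact Groth.Agent.H65.AlgStDiagComp.repByAlgSpWith_diag_comp _
    (Groth.Agent.H64.PTh.stableBC_locP Groth.Agent.H50.goodClass_lqf)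
    (fun _ _ _ _ hY _ a b ha hb => Groth.Agent.H50.goodClass_lqf.locP_comp hY a b ha hb)
    (Groth.Agent.H64.PTh.isLocalOnBase_fppf_of_fpqc (Groth.Agent.S10541.result S).1)
    h𝒳.isStack.1 h𝒴.isStack.1 h𝒵.isStack.1 f g hf hg

end Groth.Agent.S12951
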