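import Groth.Statements.S12953
import Groth.Agent.H65.AlgStDiagComp
import Groth.Agent.H64.Psh.PProps
import Groth.Agent.S10536
import Groth.Agent.H51.SpProper
-- import your own Groth.Agent.* helpers here

set_option autoImplicit false
universe u
open CategoryTheory AlgebraicGeometry
open AlgSt

namespace Groth.Agent.S12953

/-- The composition of two separated morphisms of algebraic stacks is separated (separated: the diagonal
is representable by algebraic spaces and proper). -/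
theorem result
    (S : Scheme.{u}) (𝒳 : AlgSt.Cat S) (𝒴 : AlgSt.Cat S) (𝒵 : AlgSt.Cat S)
    (h𝒳 : AlgSt.IsAlgStack Scheme.fppfPrecoverage 𝒳)
    (h𝒴 : AlgSt.IsAlgStack Scheme.fppfPrecoverage 𝒴)
    (h𝒵 : AlgSt.IsAlgStack Scheme.fppfPrecoverage 𝒵)
    (f : 𝒳 ⥤ᵇ 𝒴) (g : 𝒴 ⥤ᵇ 𝒵) :
    AlgSt.IsSeparatedMor f → AlgSt.IsSeparatedMor g → AlgSt.IsSeparatedMor (BasedFunctor.comp f g) := by
  intro hf hg
  refine Groth.Agent.H65.AlgStDiagComp.repByAlgSpWith_diag_comp _ ?_ ?_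
    (Groth.Agent.H64.PTh.isLocalOnBase_fppf_of_fpqc (Groth.Agent.S10536.result S))
    h𝒳.isStack.1 h𝒴.isStack.1 h𝒵.isStack.1 f g hf hg
  · intro X₁ Y₁ X₂ Y₂ hX₁ hY₁ hX₂ hY₂ a b a' b' sq ha
    exact Groth.Agent.H51.s10275 (X := ⟨X₁, hX₁⟩) (Y := ⟨Y₁, hY₁⟩) (Y' := ⟨Y₂, hY₂⟩)
      (X' := ⟨X₂, hX₂⟩) (ObjectProperty.homMk a) (ObjectProperty.homMk b)
      (ObjectProperty.homMk b') (ObjectProperty.homMk a') sq ha
  · intro X Y Z hX hY hZ a b ha hb
    exact Groth.Agent.H51.s10276 (X := ⟨X, hX⟩) (Y := ⟨Y, hY⟩) (Z := ⟨Z, hZ⟩)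
      (ObjectProperty.homMk a) (ObjectProperty.homMk b) ha hb

end Groth.Agent.S12953
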