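import Groth.Statements.S12955
import Groth.Agent.H65.AlgStDiagComp
import Groth.Agent.H64.Psh.PProps
import Groth.Agent.S10519
import Groth.Agent.S10520
import Groth.Agent.H49.AlgSpQC
-- import your own Groth.Agent.* helpers here

set_option autoImplicit false
universe u
open CategoryTheory AlgebraicGeometry
open AlgSt

namespace Groth.Agent.S12955

/-- The composition of two quasi-separated morphisms of algebraic stacks is quasi-separated
(quasi-separated: the diagonal is representable by algebraic spaces and quasi-compact and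
quasi-separated). -/
theorem result
    (S : Scheme.{u}) (𝒳 : AlgSt.Cat S) (𝒴 : AlgSt.Cat S) (𝒵 : AlgSt.Cat S)
    (h𝒳 : AlgSt.IsAlgStack Scheme.fppfPrecoverage 𝒳)
    (h𝒴 : AlgSt.IsAlgStack Scheme.fppfPrecoverage 𝒴)
    (h𝒵 : AlgSt.IsAlgStack Scheme.fppfPrecoverage 𝒵)
    (f : 𝒳 ⥤ᵇ 𝒴) (g : 𝒴 ⥤ᵇ 𝒵) :
    AlgSt.IsQuasiSeparatedMor f → AlgSt.IsQuasiSeparatedMor g → AlgSt.IsQuasiSeparatedMor (BasedFunctor.comp f g) := by
  intro hf hg
  refine Groth.Agent.H65.AlgStDiagComp.repByAlgSpWith_diag_comp _ ?_ ?_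
    (Groth.Agent.H64.PTh.isLocalOnBase_fppf_of_fpqc ?_)
    h𝒳.isStack.1 h𝒴.isStack.1 h𝒵.isStack.1 f g hf hg
  · intro X₁ Y₁ X₂ Y₂ hX₁ hY₁ hX₂ hY₂ a b a' b' sq ha
    exact ⟨Groth.Agent.H49.isQuasiCompactMor_of_isPullback sq ha.1,
      MorphismProperty.of_isPullback (P := (AlgSp.RepWith @QuasiCompact).diagonal) sq ha.2⟩
  · intro X Y Z hX hY hZ a b ha hb
    exact ⟨Groth.Agent.H49.isQuasiCompactMor_comp hY hZ ha.1 hb.1,
      (AlgSp.RepWith @QuasiCompact).diagonal.comp_mem a b ha.2 hb.2⟩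
  · intro ι Y Yi g hY hYi hcov X f hX Xi p q hXi sq
    have h1 := Groth.Agent.S10519.result S Yi g hY hYi hcov f hX Xi p q hXi sq
    have h2 := Groth.Agent.S10520.result S Yi g hY hYi hcov f hX Xi p q hXi sq
    constructor
    · rintro ⟨a, b⟩ i
      exact ⟨h1.mp a i, h2.mp b i⟩
    · intro h
      exact ⟨h1.mpr fun i => (h i).1, h2.mpr fun i => (h i).2⟩

end Groth.Agent.S12955
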