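import Groth.Statements.S12963
import Groth.Agent.H65.AlgStDiagDesc
import Groth.Agent.H64.Psh.PProps
import Groth.Agent.S10519
import Groth.Agent.S10520
import Groth.Agent.H49.AlgSpQC
-- import your own Groth.Agent.* helpers here

set_option autoImplicit false
universe u
open CategoryTheory AlgebraicGeometry
open AlgSt

namespace Groth.Agent.S12963

/-- Let f : 𝒳 → 𝒴 be a morphism of algebraic stacks and W → 𝒴 a surjective, flat, locally finitely
presented morphism whose source is an algebraic space. Whenever the projection W ×_𝒴 𝒳 → W is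
quasi-separated, f is quasi-separated too (quasi-separated: the diagonal is quasi-compact and
quasi-separated, and representable by algebraic spaces). -/
theorem result
    (S : Scheme.{u}) (𝒳 : AlgSt.Cat S) (𝒴 : AlgSt.Cat S)
    (h𝒳 : AlgSt.IsAlgStack Scheme.fppfPrecoverage 𝒳)
    (h𝒴 : AlgSt.IsAlgStack Scheme.fppfPrecoverage 𝒴)
    (f : 𝒳 ⥤ᵇ 𝒴)
    (W : AlgSp.Space S) (w : AlgSt.ofSp W.obj ⥤ᵇ 𝒴)
    (hw₁ : AlgSt.RepByAlgSpWith (AlgSp.LocP @Flat) w)
    (hw₂ : AlgSt.RepByAlgSpWith (AlgSp.LocP @LocallyOfFinitePresentation) w)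
    (hw₃ : AlgSt.RepByAlgSpWith AlgSp.IsSurjectiveMor w) :
    AlgSt.IsQuasiSeparatedMor (FibCat.fpFst w f) → AlgSt.IsQuasiSeparatedMor f := by
  intro h
  refine Groth.Agent.H65.AlgStDiagDesc.repByAlgSpWith_diag_of_fpFst_fppf h𝒳.isStack.1 h𝒴.isStack.1
    (Stk.isFibGrpd_ofPsh _) ?_ (Groth.Agent.H64.PTh.isLocalOnBase_fppf_of_fpqc ?_) f
    (Groth.Agent.H65.AlgStDiagDesc.repByAlgSp1_diag h𝒳.isStack.1 h𝒴.isStack.1 h𝒳.diag h𝒴.diag f)
    w hw₁ hw₂ hw₃ h
  · intro X₁ Y₁ X₂ Y₂ hX₁ hY₁ hX₂ hY₂ a b a' b' sq ha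
    exact ⟨Groth.Agent.H49.isQuasiCompactMor_of_isPullback sq ha.1,
      MorphismProperty.of_isPullback (P := (AlgSp.RepWith @QuasiCompact).diagonal) sq ha.2⟩
  · intro ι Y Yi g hY hYi hcov X f hX Xi p q hXi sq
    have h1 := Groth.Agent.S10519.result S Yi g hY hYi hcov f hX Xi p q hXi sq
    have h2 := Groth.Agent.S10520.result S Yi g hY hYi hcov f hX Xi p q hXi sq
    constructor
    · rintro ⟨a, b⟩ i
      exact ⟨h1.mp a i, h2.mp b i⟩
    · intro h
      exact ⟨h1.mpr fun i => (h i).1, h2.mpr fun i => (h i).2⟩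

end Groth.Agent.S12963
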