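import Groth.Statements.S12972
import Groth.Agent.H65.AlgStInertia
-- import your own Groth.Agent.* helpers here

set_option autoImplicit false
universe u
open CategoryTheory AlgebraicGeometry
open AlgSt

namespace Groth.Agent.S12972

/-- For a morphism f : 𝒳 → 𝒴 of algebraic stacks the following are equivalent: the relative inertia
𝓘_{𝒳/𝒴} → 𝒳 is separated; the diagonal of f is separated; the neutral section 𝒳 → 𝓘_{𝒳/𝒴} (the
second diagonal) is a closed immersion. All three morphisms are representable by algebraic spaces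
and the properties are the ones of such morphisms. -/
theorem result
    (S : Scheme.{u}) (𝒳 : AlgSt.Cat S) (𝒴 : AlgSt.Cat S)
    (h𝒳 : AlgSt.IsAlgStack Scheme.fppfPrecoverage 𝒳)
    (h𝒴 : AlgSt.IsAlgStack Scheme.fppfPrecoverage 𝒴)
    (f : 𝒳 ⥤ᵇ 𝒴) :
    [AlgSt.RepByAlgSpWith AlgSp.IsSeparatedMor (FibCat.inertiaToBase f),
      AlgSt.RepByAlgSpWith AlgSp.IsSeparatedMor (FibCat.diag f),
      AlgSt.IsClosedImm (FibCat.inertiaNeutral f)].TFAE := by
  have hX := h𝒳.isStack.1
  have hY := h𝒴.isStack.1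
  have hfp : FibCat.IsFibGrpd (FibCat.fp f f).p := Groth.Agent.H32.isFibGrpd_fp _ _ hX hX hY
  have hI := Groth.Agent.H65.AlgStInertia.isFibGrpd_inertia hX hY f
  have hd : AlgSt.RepByAlgSp1 (FibCat.diag f) :=
    Groth.Agent.H64.PTh.repByAlgSp1_diag hX hY h𝒳.diag h𝒴.diag f
  have hπ := Groth.Agent.H65.AlgStInertia.repByAlgSp1_inertiaToBase f hd
  have TΔ := Groth.Agent.H64.PTh.separated_tfae hX hfp (FibCat.diag f) hd
  have Tπ := Groth.Agent.H64.PTh.separated_tfae hI hX (FibCat.inertiaToBase f) hπ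
  tfae_have 2 → 1 := fun h =>
    Groth.Agent.H65.AlgStInertia.repByAlgSpWith_inertiaToBase_of_diag _ f h
  tfae_have 1 → 3 := fun h =>
    Groth.Agent.H65.AlgStInertia.repByAlgSpWith_inertiaNeutral_of_diag _ hX hY f ((Tπ.out 0 1).1 h)
  tfae_have 3 → 2 := fun h =>
    (TΔ.out 1 0).1 ((Groth.Agent.H65.AlgStInertia.repByAlgSpWith_inertiaNeutral_iff _ f).1 h)
  tfae_finish

end Groth.Agent.S12972
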