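import Groth.Statements.S12974
import Groth.Agent.H65.AlgStInertia
import Groth.Agent.S10262
import Groth.Agent.H64.Psh.DiagIff
import Groth.Agent.H64.Psh.DiagLft
import Groth.Agent.H64.Psh.PCompInst
import Groth.Agent.H64.Pts.ChartTop
-- import your own Groth.Agent.* helpers here

set_option autoImplicit false
universe u
open CategoryTheory AlgebraicGeometry
open AlgSt

namespace Groth.Agent.S12974

/-- For a morphism f : 𝒳 → 𝒴 of algebraic stacks, the relative inertia 𝓘_{𝒳/𝒴} → 𝒳 is unramified if and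
only if f is DM. -/
theorem result
    (S : Scheme.{u}) (𝒳 : AlgSt.Cat S) (𝒴 : AlgSt.Cat S)
    (h𝒳 : AlgSt.IsAlgStack Scheme.fppfPrecoverage 𝒳)
    (h𝒴 : AlgSt.IsAlgStack Scheme.fppfPrecoverage 𝒴)
    (f : 𝒳 ⥤ᵇ 𝒴) :
    AlgSt.RepByAlgSpWith (AlgSp.LocP (@LocallyOfFiniteType ⊓ @FormallyUnramified)) (FibCat.inertiaToBase f) ↔
      AlgSt.IsDMMor f := by
  have hX := h𝒳.isStack.1
  have hY := h𝒴.isStack.1
  have hfp : FibCat.IsFibGrpd (FibCat.fp f f).p := Groth.Agent.H32.isFibGrpd_fp _ _ hX hX hY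
  have hI := Groth.Agent.H65.AlgStInertia.isFibGrpd_inertia hX hY f
  have hd : AlgSt.RepByAlgSp1 (FibCat.diag f) :=
    Groth.Agent.H64.PTh.repByAlgSp1_diag hX hY h𝒳.diag h𝒴.diag f
  have hπ := Groth.Agent.H65.AlgStInertia.repByAlgSp1_inertiaToBase f hd
  constructor
  · intro h
    -- the diagonal of the inertia is an open immersion
    have h1 : AlgSt.RepByAlgSpWith (AlgSp.RepWith (S := S) @IsOpenImmersion).diagonal
        (FibCat.inertiaToBase f) :=
      Groth.Agent.H64.PTh.repByAlgSpWith_mono_space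
        (fun F U a ha => (Groth.Agent.S10262.result a).1 ha) _ h
    have h2 : AlgSt.RepByAlgSpWith (AlgSp.RepWith (S := S) @IsOpenImmersion)
        (FibCat.diag (FibCat.inertiaToBase f)) :=
      Groth.Agent.H64.PTh.repByAlgSpWith_diag_of_diagonal _
        (Groth.Agent.H64.PTh.stableBC_of_inst _) hI hX _ h1
    have h3 := Groth.Agent.H65.AlgStInertia.repByAlgSpWith_inertiaNeutral_of_diag _ hX hY f h2
    have h4 := (Groth.Agent.H65.AlgStInertia.repByAlgSpWith_inertiaNeutral_iff _ f).1 h3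
    have h5 : AlgSt.RepByAlgSpWith (AlgSp.RepWith (S := S) @IsOpenImmersion).diagonal
        (FibCat.diag f) :=
      Groth.Agent.H64.PTh.repByAlgSpWith_diagonal_of_diag
        Groth.Agent.H64.PTh.isLocalOnBase_fppf_openImm hX hfp _ hd h4
    have hlft := Groth.Agent.H64.PTh.locP_lft_diag h𝒳 h𝒴 f
    have := Groth.Agent.H64.PTh.locP_respectsIso (S := S) @LocallyOfFiniteType
    intro U y
    obtain ⟨F, e, he, hopen⟩ := h5 U y
    have hl := Groth.Agent.H64.Pts.prop_of_any_presentation (FibCat.diag f) hlft U y e he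
    exact ⟨F, e, he, (Groth.Agent.S10262.result
      (ObjectProperty.homMk (AlgSt.spMapOfOver (BasedFunctor.comp e (FibCat.fpFst y (FibCat.diag f)))) :
        F ⟶ Groth.Agent.H64.FpRep.yonSpace U)).2 hl hopen⟩
  · intro h
    exact Groth.Agent.H65.AlgStInertia.repByAlgSpWith_inertiaToBase_of_diag _ f h

end Groth.Agent.S12974
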