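import Groth.Statements.S12979
import Groth.Agent.H64.Pts.ChartTop
import Groth.Agent.H64.Psh.SepTFAE
import Groth.Agent.H64.Psh.DiagLft
import Groth.Agent.H64.Psh.DiagOfComp
import Groth.Agent.H49.AlgSpUnivClosedQC
import Groth.Agent.H64.Psh.SmoothLoc
-- import your own Groth.Agent.* helpers here

set_option autoImplicit false
universe u
open CategoryTheory AlgebraicGeometry
open AlgSt

namespace Groth.Agent.S12979

/-- If the first and second diagonals of a morphism f of algebraic stacks are both universally closed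
(as morphisms representable by algebraic spaces), then f is separated. (The published statement is
an equivalence; this row states the implication from the two diagonals to separatedness.) -/
theorem result
    (S : Scheme.{u}) (𝒳 : AlgSt.Cat S) (𝒴 : AlgSt.Cat S)
    (h𝒳 : AlgSt.IsAlgStack Scheme.fppfPrecoverage 𝒳)
    (h𝒴 : AlgSt.IsAlgStack Scheme.fppfPrecoverage 𝒴)
    (f : 𝒳 ⥤ᵇ 𝒴) :
    AlgSt.RepByAlgSpWith AlgSp.IsUnivClosedMor (FibCat.diag f) →
      AlgSt.RepByAlgSpWith AlgSp.IsUnivClosedMor (FibCat.diag (FibCat.diag f)) → AlgSt.IsSeparatedMor f := by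
  intro h1 h2
  have hfp : FibCat.IsFibGrpd (FibCat.fp f f).p :=
    Groth.Agent.H32.isFibGrpd_fp _ _ h𝒳.isStack.1 h𝒳.isStack.1 h𝒴.isStack.1
  have hd : AlgSt.RepByAlgSp1 (FibCat.diag f) :=
    Groth.Agent.H64.PTh.repByAlgSp1_diag h𝒳.isStack.1 h𝒴.isStack.1 h𝒳.diag h𝒴.diag f
  have T := Groth.Agent.H64.PTh.separated_tfae h𝒳.isStack.1 hfp (FibCat.diag f) hd
  have hsep : AlgSt.RepByAlgSpWith AlgSp.IsSeparatedMor (FibCat.diag f) := (T.out 3 0).1 h2
  have hlft := Groth.Agent.H64.PTh.locP_lft_diag h𝒳 h𝒴 f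
  have : (AlgSp.IsSeparatedMor (S := S)).RespectsIso := by
    show ((AlgSp.RepWith (S := S) @IsClosedImmersion).diagonal).RespectsIso
    infer_instance
  have := Groth.Agent.H64.PTh.locP_respectsIso (S := S) @LocallyOfFiniteType
  intro U y
  obtain ⟨F, e, he, huc⟩ := h1 U y
  refine ⟨F, e, he, Groth.Agent.H64.Pts.prop_of_any_presentation (FibCat.diag f) hsep U y e he,
    ⟨Groth.Agent.H64.Pts.prop_of_any_presentation (FibCat.diag f) hlft U y e he, ?_⟩, huc⟩
  exact Groth.Agent.H49.isQuasiCompactMor_of_isUnivClosedMor F.property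
    (AlgSp.IsAlgSpace.yon_obj U) _ huc

end Groth.Agent.S12979
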