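import Groth.Statements.S12980
import Groth.Agent.H64.Pts.ChartTop
import Groth.Agent.H64.Psh.QSepTFAE
import Groth.Agent.H64.Psh.DiagOfComp
import Groth.Agent.H64.UnramQF
-- import your own Groth.Agent.* helpers here

set_option autoImplicit false
universe u
open CategoryTheory AlgebraicGeometry
open AlgSt

namespace Groth.Agent.S12980

/-- A morphism f of algebraic stacks is quasi-separated if and only if its first and second diagonals
are both quasi-compact (as morphisms representable by algebraic spaces). -/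
theorem result
    (S : Scheme.{u}) (𝒳 : AlgSt.Cat S) (𝒴 : AlgSt.Cat S)
    (h𝒳 : AlgSt.IsAlgStack Scheme.fppfPrecoverage 𝒳)
    (h𝒴 : AlgSt.IsAlgStack Scheme.fppfPrecoverage 𝒴)
    (f : 𝒳 ⥤ᵇ 𝒴) :
    AlgSt.IsQuasiSeparatedMor f ↔
      AlgSt.RepByAlgSpWith AlgSp.IsQuasiCompactMor (FibCat.diag f) ∧
        AlgSt.RepByAlgSpWith AlgSp.IsQuasiCompactMor (FibCat.diag (FibCat.diag f)) := by
  have hfp : FibCat.IsFibGrpd (FibCat.fp f f).p :=
    Groth.Agent.H32.isFibGrpd_fp _ _ h𝒳.isStack.1 h𝒳.isStack.1 h𝒴.isStack.1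
  have hd : AlgSt.RepByAlgSp1 (FibCat.diag f) :=
    Groth.Agent.H64.PTh.repByAlgSp1_diag h𝒳.isStack.1 h𝒴.isStack.1 h𝒳.diag h𝒴.diag f
  have T := Groth.Agent.H64.PTh.quasiSeparated_tfae h𝒳.isStack.1 hfp (FibCat.diag f) hd
  constructor
  · intro h
    exact ⟨Groth.Agent.H64.repByAlgSpWith_mono inf_le_left h,
      (T.out 0 1).1 (Groth.Agent.H64.repByAlgSpWith_mono inf_le_right h)⟩
  · rintro ⟨h1, h2⟩
    have hqs : AlgSt.RepByAlgSpWith AlgSp.IsQuasiSeparatedMor (FibCat.diag f) := (T.out 1 0).1 h2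
    intro U y
    obtain ⟨F, e, he, hq⟩ := hqs U y
    exact ⟨F, e, he, Groth.Agent.H64.Pts.prop_of_any_presentation (FibCat.diag f) h1 U y e he, hq⟩

end Groth.Agent.S12980
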