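import Groth.Statements.S12983
import Groth.Agent.H65.AlgStQC
import Groth.Agent.H64.Psh.FpAlg
import Groth.Agent.H64.Stk.FpPaste2
-- import your own Groth.Agent.* helpers here

set_option autoImplicit false
universe u
open CategoryTheory AlgebraicGeometry
open AlgSt

namespace Groth.Agent.S12983

/-- The composition of two quasi-compact morphisms of algebraic stacks is quasi-compact. -/
theorem result
    (S : Scheme.{u}) (𝒳 : AlgSt.Cat S) (𝒴 : AlgSt.Cat S) (𝒵 : AlgSt.Cat S)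
    (h𝒳 : AlgSt.IsAlgStack Scheme.fppfPrecoverage 𝒳)
    (h𝒴 : AlgSt.IsAlgStack Scheme.fppfPrecoverage 𝒴)
    (h𝒵 : AlgSt.IsAlgStack Scheme.fppfPrecoverage 𝒵)
    (f : 𝒳 ⥤ᵇ 𝒴) (g : 𝒴 ⥤ᵇ 𝒵) :
    AlgSt.IsQuasiCompactMor Scheme.fppfPrecoverage f → AlgSt.IsQuasiCompactMor Scheme.fppfPrecoverage g → AlgSt.IsQuasiCompactMor Scheme.fppfPrecoverage (BasedFunctor.comp f g) := by
  intro hf hg 𝒲 h𝒲 hqc w
  have h1 : AlgSt.IsQuasiCompact (FibCat.fp w g) := hg 𝒲 h𝒲 hqc w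
  have h2 : AlgSt.IsAlgStack Scheme.fppfPrecoverage (FibCat.fp w g) :=
    Groth.Agent.H64.PTh.isAlgStack_fp h𝒵.isStack.1 h𝒵.diag h𝒲 h𝒴 w g
  have h3 : AlgSt.IsQuasiCompact (FibCat.fp (FibCat.fpSnd w g) f) :=
    hf (FibCat.fp w g) h2 h1 (FibCat.fpSnd w g)
  obtain ⟨d⟩ := Groth.Agent.H32.IsEquivOver.nonempty_data (Groth.Agent.H64.isEquivOver_fpPaste₂ f g w)
  exact Groth.Agent.H65.AlgStQC.isQuasiCompact_of_isEquivOver d.inv
    (Groth.Agent.H64.isEquivOver_inv d) h3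

end Groth.Agent.S12983
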