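import Groth.Statements.S12984
import Groth.Agent.H65.AlgStQC2
import Groth.Agent.H50.Mor
import Groth.Agent.H64.UnramQF
-- import your own Groth.Agent.* helpers here

set_option autoImplicit false
universe u
open CategoryTheory AlgebraicGeometry
open AlgSt

namespace Groth.Agent.S12984

/-- A closed immersion of algebraic stacks is quasi-compact. -/
theorem result
    (S : Scheme.{u}) (𝒳 : AlgSt.Cat S) (𝒴 : AlgSt.Cat S)
    (h𝒳 : AlgSt.IsAlgStack Scheme.fppfPrecoverage 𝒳)
    (h𝒴 : AlgSt.IsAlgStack Scheme.fppfPrecoverage 𝒴)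
    (f : 𝒳 ⥤ᵇ 𝒴) :
    AlgSt.IsClosedImm f → AlgSt.IsQuasiCompactMor Scheme.fppfPrecoverage f := by
  intro hf
  apply Groth.Agent.H65.AlgStQC2.isQuasiCompactMor_of_repByAlgSpWith f
  refine Groth.Agent.H64.repByAlgSpWith_mono ?_ hf
  intro F G m hm
  refine Groth.Agent.H50.isQuasiCompactMor_of_repWith (P := @IsClosedImmersion) ?_ m hm
  intro A B e he
  have : IsClosedImmersion e := he
  exact (inferInstance : QuasiCompact e)

end Groth.Agent.S12984
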