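import Groth.Statements.S12986
import Groth.Agent.H65.AlgStQC2
import Groth.Agent.H65.AlgStGraphAlg
import Groth.Agent.H64.UnramQF
import Groth.Agent.H64.Psh.FpAlg
import Groth.Agent.S12983
-- import your own Groth.Agent.* helpers here

set_option autoImplicit false
universe u
open CategoryTheory AlgebraicGeometry
open AlgSt

namespace Groth.Agent.S12986

/-- If the composite of f : 𝒳 → 𝒴 and g : 𝒴 → 𝒵 (morphisms of algebraic stacks) is quasi-compact and g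
is quasi-separated, then f is quasi-compact. -/
theorem result
    (S : Scheme.{u}) (𝒳 : AlgSt.Cat S) (𝒴 : AlgSt.Cat S) (𝒵 : AlgSt.Cat S)
    (h𝒳 : AlgSt.IsAlgStack Scheme.fppfPrecoverage 𝒳)
    (h𝒴 : AlgSt.IsAlgStack Scheme.fppfPrecoverage 𝒴)
    (h𝒵 : AlgSt.IsAlgStack Scheme.fppfPrecoverage 𝒵)
    (f : 𝒳 ⥤ᵇ 𝒴) (g : 𝒴 ⥤ᵇ 𝒵) :
    AlgSt.IsQuasiCompactMor Scheme.fppfPrecoverage (BasedFunctor.comp f g) → AlgSt.IsQuasiSeparatedMor g → AlgSt.IsQuasiCompactMor Scheme.fppfPrecoverage f := by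
  intro hfg hqs
  have hd : AlgSt.RepByAlgSpWith AlgSp.IsQuasiCompactMor (FibCat.diag g) :=
    Groth.Agent.H64.repByAlgSpWith_mono inf_le_left hqs
  let e₀ : BasedFunctor.comp (BasedFunctor.id 𝒳) (BasedFunctor.comp f g) ≅ BasedFunctor.comp f g :=
    Iso.refl _
  have hΓ : AlgSt.RepByAlgSpWith AlgSp.IsQuasiCompactMor
      (FibCat.fpLift (BasedFunctor.id 𝒳) f e₀) :=
    Groth.Agent.H65.AlgStGraph.repByAlgSpWith_graph _ h𝒳.isStack.1 h𝒴.isStack.1 h𝒵.isStack.1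
      (BasedFunctor.comp f g) g f e₀ hd
  have hΓ' := Groth.Agent.H65.AlgStQC2.isQuasiCompactMor_of_repByAlgSpWith _ hΓ
  have hsnd : AlgSt.IsQuasiCompactMor Scheme.fppfPrecoverage
      (FibCat.fpSnd (BasedFunctor.comp f g) g) :=
    Groth.Agent.H65.AlgStQC2.isQuasiCompactMor_fpSnd _ g hfg
  have hfp : AlgSt.IsAlgStack Scheme.fppfPrecoverage (FibCat.fp (BasedFunctor.comp f g) g) :=
    Groth.Agent.H64.PTh.isAlgStack_fp h𝒵.isStack.1 h𝒵.diag h𝒳 h𝒴 (BasedFunctor.comp f g) g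
  exact Groth.Agent.S12983.result S 𝒳 (FibCat.fp (BasedFunctor.comp f g) g) 𝒴 h𝒳 hfp h𝒴
    (FibCat.fpLift (BasedFunctor.id 𝒳) f e₀) (FibCat.fpSnd (BasedFunctor.comp f g) g) hΓ' hsnd

end Groth.Agent.S12986
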