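import Groth.Statements.S12988
import Groth.Agent.H65.AlgStQC7
import Groth.Agent.H65.AlgStImmNoeth2
import Groth.Agent.S12987
import Groth.Agent.S12959
import Groth.Agent.S12954
import Groth.Agent.S12955
-- import your own Groth.Agent.* helpers here

set_option autoImplicit false
universe u
open CategoryTheory AlgebraicGeometry
open AlgSt

namespace Groth.Agent.S12988

/-- Over a quasi-separated base scheme, a 2-fibre product of algebraic stacks that are quasi-compact and
quasi-separated over the base scheme is quasi-compact and quasi-separated over the base scheme. (The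
published statement is about stacks quasi-compact and quasi-separated over the integers and puts no
condition on the base scheme; this row assumes the base scheme quasi-separated and uses
quasi-separatedness over it. Without quasi-separatedness of the base the quasi-compactness
conclusion fails: for the base glued from two copies of infinite-dimensional affine space along the
complement of the origin, the two copies are quasi-compact and quasi-separated over the base while
their fibre product over the base is that complement, which is not quasi-compact.) -/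
theorem result
    (S : Scheme.{u}) [QuasiSeparatedSpace S] (𝒳 : AlgSt.Cat S) (𝒴 : AlgSt.Cat S) (𝒵 : AlgSt.Cat S)
    (h𝒳 : AlgSt.IsAlgStack Scheme.fppfPrecoverage 𝒳)
    (h𝒴 : AlgSt.IsAlgStack Scheme.fppfPrecoverage 𝒴)
    (h𝒵 : AlgSt.IsAlgStack Scheme.fppfPrecoverage 𝒵)
    (a : 𝒳 ⥤ᵇ 𝒴) (b : 𝒵 ⥤ᵇ 𝒴) :
    AlgSt.IsQuasiCompact 𝒳 → AlgSt.IsQuasiSeparatedOver 𝒳 →
      AlgSt.IsQuasiCompact 𝒴 → AlgSt.IsQuasiSeparatedOver 𝒴 →
      AlgSt.IsQuasiCompact 𝒵 → AlgSt.IsQuasiSeparatedOver 𝒵 →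
      AlgSt.IsQuasiCompact (FibCat.fp a b) ∧ AlgSt.IsQuasiSeparatedOver (FibCat.fp a b) := by
  intro hq𝒳 hs𝒳 hq𝒴 hs𝒴 hq𝒵 hs𝒵
  have hfp : AlgSt.IsAlgStack Scheme.fppfPrecoverage (FibCat.fp a b) :=
    Groth.Agent.H64.PTh.isAlgStack_fp h𝒴.isStack.1 h𝒴.diag h𝒳 h𝒵 a b
  have hbqc : AlgSt.IsQuasiCompactMor Scheme.fppfPrecoverage b :=
    Groth.Agent.S12987.result S 𝒵 𝒴 h𝒵 h𝒴 b hq𝒵 hs𝒴
  have hbqs : AlgSt.IsQuasiSeparatedMor b := by
    refine Groth.Agent.S12959.result S 𝒵 𝒴 (FibCat.selfOver (Over S)) h𝒵 h𝒴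
      Groth.Agent.H65.AlgStQC7.isAlgStack_selfOver b (FibCat.toSelf 𝒴) ?_
      (Groth.Agent.H64.repByAlgSpWith_mono inf_le_right hs𝒴)
    rw [← Groth.Agent.H64.PTh.toSelf_eq_comp b]
    exact hs𝒵
  refine ⟨?_, ?_⟩
  · exact Groth.Agent.H65.AlgStImmNoeth.isQuasiCompact_of_isQuasiCompactMor h𝒳 (FibCat.fpFst a b)
      (Groth.Agent.H65.AlgStQC.isQuasiCompactMor_fpFst _ b a hbqc) hq𝒳
  · have h1 : AlgSt.IsQuasiSeparatedMor (FibCat.fpFst a b) :=
      Groth.Agent.S12954.result S 𝒵 𝒴 𝒳 h𝒵 h𝒴 h𝒳 b a hbqs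
    have h2 := Groth.Agent.S12955.result S (FibCat.fp a b) 𝒳 (FibCat.selfOver (Over S)) hfp h𝒳
      Groth.Agent.H65.AlgStQC7.isAlgStack_selfOver (FibCat.fpFst a b) (FibCat.toSelf 𝒳) h1 hs𝒳
    show AlgSt.IsQuasiSeparatedMor (FibCat.toSelf (FibCat.fp a b))
    rw [Groth.Agent.H64.PTh.toSelf_eq_comp (FibCat.fpFst a b)]
    exact h2

end Groth.Agent.S12988
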