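import Groth.Statements.S12997
import Groth.Agent.H65.AlgStSchematic
-- import your own Groth.Agent.* helpers here

set_option autoImplicit false
universe u
open CategoryTheory AlgebraicGeometry
open AlgSt

namespace Groth.Agent.S12997

/-- An open immersion of algebraic stacks is locally of finite presentation. -/
theorem result
    (S : Scheme.{u}) (𝒳 : AlgSt.Cat S) (𝒴 : AlgSt.Cat S)
    (h𝒳 : AlgSt.IsAlgStack Scheme.fppfPrecoverage 𝒳)
    (h𝒴 : AlgSt.IsAlgStack Scheme.fppfPrecoverage 𝒴)
    (f : 𝒳 ⥤ᵇ 𝒴) :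
    AlgSt.IsOpenImm f → AlgSt.LocQ (AlgSp.LocP @LocallyOfFinitePresentation) f := by
  intro hf
  refine Groth.Agent.H65.AlgStSchematic.locQ_of_schematic @IsOpenImmersion
    @LocallyOfFinitePresentation ?_ Groth.Agent.H50.goodClass_lfp h𝒴.atlas f hf
  intro A B e he
  have : IsOpenImmersion e := he
  exact (inferInstance : LocallyOfFinitePresentation e)

end Groth.Agent.S12997
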