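import Groth.Statements.S13018
import Groth.Agent.H65.AlgStImmNoeth2
-- import your own Groth.Agent.* helpers here

set_option autoImplicit false
universe u
open CategoryTheory AlgebraicGeometry
open AlgSt

namespace Groth.Agent.S13018

/-- If j : 𝒳 → 𝒴 is an immersion of algebraic stacks and 𝒴 is Noetherian (quasi-compact, quasi-separated
and locally Noetherian) then so is 𝒳. (The published statement uses quasi-separatedness over the
integers; this row uses quasi-separatedness over the base scheme in hypothesis and conclusion.) -/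
theorem result
    (S : Scheme.{u}) (𝒳 : AlgSt.Cat S) (𝒴 : AlgSt.Cat S)
    (h𝒳 : AlgSt.IsAlgStack Scheme.fppfPrecoverage 𝒳)
    (h𝒴 : AlgSt.IsAlgStack Scheme.fppfPrecoverage 𝒴)
    (j : 𝒳 ⥤ᵇ 𝒴) (hj : AlgSt.IsImm j) :
    AlgSt.IsQuasiCompact 𝒴 → AlgSt.IsQuasiSeparatedOver 𝒴 → AlgSt.SmoothLocally (fun T ↦ IsLocallyNoetherian T) 𝒴 →
      AlgSt.IsQuasiCompact 𝒳 ∧ AlgSt.IsQuasiSeparatedOver 𝒳 ∧ AlgSt.SmoothLocally (fun T ↦ IsLocallyNoetherian T) 𝒳 := by
  intro hq hs hN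
  obtain ⟨h1, h2⟩ := Groth.Agent.H65.AlgStImmNoeth.imm_locNoeth h𝒳.isStack.1 h𝒴 j hj hN
  refine ⟨?_, ?_, h1⟩
  · exact Groth.Agent.H65.AlgStImmNoeth.isQuasiCompact_of_isQuasiCompactMor h𝒴 j
      (Groth.Agent.H65.AlgStQC2.isQuasiCompactMor_of_repByAlgSpWith j h2) hq
  · exact Groth.Agent.H65.AlgStImmNoeth.isQuasiSeparatedOver_of_isMono h𝒳.isStack.1 h𝒴.isStack.1 j
      (Groth.Agent.H65.AlgStImmNoeth.isMono_of_isImm j hj) hs

end Groth.Agent.S13018
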