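import Groth.Statements.S13019
import Groth.Agent.H65.AlgStNoethPts
-- import your own Groth.Agent.* helpers here

set_option autoImplicit false
universe u
open CategoryTheory AlgebraicGeometry
open AlgSt

namespace Groth.Agent.S13019

/-- If 𝒳 is a locally Noetherian algebraic stack then its space of points is a locally Noetherian
topological space: every point has an open neighbourhood which is a Noetherian topological space. -/
theorem result
    (S : Scheme.{u}) (𝒳 : AlgSt.Cat S)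
    (h𝒳 : AlgSt.IsAlgStack Scheme.fppfPrecoverage 𝒳) :
    AlgSt.SmoothLocally (fun T ↦ IsLocallyNoetherian T) 𝒳 → ∀ x : AlgSt.Points 𝒳, ∃ U : Set (AlgSt.Points 𝒳), IsOpen U ∧ x ∈ U ∧ TopologicalSpace.NoetherianSpace U := by
  intro hN ξ
  obtain ⟨U, y, hy₁, hy₂⟩ := h𝒳.atlas
  have : IsLocallyNoetherian U.left := hN U y hy₁
  obtain ⟨u, rfl⟩ := Groth.Agent.H64.Pts.surjective_ofChart h𝒳.isStack.1 y hy₂ ξ
  obtain ⟨_, ⟨V, hV, rfl⟩, huV, -⟩ :=
    U.left.isBasis_affineOpens.exists_subset_of_mem_open (Set.mem_univ u) isOpen_univ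
  obtain ⟨h1, h2, -⟩ := Groth.Agent.H65.AlgStNoethPts.chart_image h𝒳 y hy₁ ⟨V, hV⟩
  exact ⟨_, h1, ⟨u, huV, rfl⟩, h2⟩

end Groth.Agent.S13019
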