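import Groth.Statements.S13021
import Groth.Agent.H65.AlgStNoethPts
-- import your own Groth.Agent.* helpers here

set_option autoImplicit false
universe u
open CategoryTheory AlgebraicGeometry
open AlgSt

namespace Groth.Agent.S13021

/-- The space of points of a locally Noetherian algebraic stack is quasi-sober: every irreducible closed
subset has a generic point. -/
theorem result
    (S : Scheme.{u}) (𝒳 : AlgSt.Cat S)
    (h𝒳 : AlgSt.IsAlgStack Scheme.fppfPrecoverage 𝒳) :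
    AlgSt.SmoothLocally (fun T ↦ IsLocallyNoetherian T) 𝒳 → QuasiSober (AlgSt.Points 𝒳) := by
  intro hN
  obtain ⟨U, y, hy₁, hy₂⟩ := h𝒳.atlas
  have : IsLocallyNoetherian U.left := hN U y hy₁
  let 𝒮 : Set (Set (AlgSt.Points 𝒳)) :=
    Set.range (fun V : U.left.affineOpens => AlgSt.Points.ofChart y '' (V.1 : Set ↥U.left))
  have hopen : ∀ s : 𝒮, IsOpen (s : Set (AlgSt.Points 𝒳)) := by
    rintro ⟨_, ⟨V, rfl⟩⟩
    exact (Groth.Agent.H65.AlgStNoethPts.chart_image h𝒳 y hy₁ V).1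
  have hsob : ∀ s : 𝒮, QuasiSober s := by
    rintro ⟨_, ⟨V, rfl⟩⟩
    exact (Groth.Agent.H65.AlgStNoethPts.chart_image h𝒳 y hy₁ V).2.2
  refine quasiSober_of_open_cover 𝒮 hopen ?_
  rw [Set.top_eq_univ, Set.eq_univ_iff_forall]
  intro ξ
  obtain ⟨u, rfl⟩ := Groth.Agent.H64.Pts.surjective_ofChart h𝒳.isStack.1 y hy₂ ξ
  obtain ⟨_, ⟨V, hV, rfl⟩, huV, -⟩ :=
    U.left.isBasis_affineOpens.exists_subset_of_mem_open (Set.mem_univ u) isOpen_univ
  exact ⟨_, ⟨⟨V, hV⟩, rfl⟩, ⟨u, huV, rfl⟩⟩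

end Groth.Agent.S13021
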