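import Groth.Statements.S1303
import Groth.Agent.H7.Thickening

set_option autoImplicit false
universe u
open FlatMor

namespace Groth.Agent.S1303

open AlgebraicGeometry CategoryTheory Limits in
/-- For a morphism of thickenings, that is a commutative square whose horizontal maps are thickenings
(closed immersions that are surjective on points), the morphism between the thin schemes is
quasi-compact if and only if the morphism between the thick ones is. -/
theorem result {X X' S S' : Scheme.{u}} (iX : X ⟶ X') (iS : S ⟶ S') (f : X ⟶ S) (f' : X' ⟶ S')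
    (hX : MoreMor.IsThickening iX) (hS : MoreMor.IsThickening iS) (w : iX ≫ f' = f ≫ iS) :
    QuasiCompact f ↔ QuasiCompact f' := by
  have hXe := Groth.Agent.H7.isThickening_isClosedEmbedding iX hX
  have hSe := Groth.Agent.H7.isThickening_isClosedEmbedding iS hS
  have hXs : Function.Surjective iX := by have := hX.2; exact iX.surjective
  have hSh := Groth.Agent.H7.isThickening_isHomeomorph iS hS
  have hw : ∀ x, f' (iX x) = iS (f x) := fun x => by
    rw [← Scheme.Hom.comp_apply, w, Scheme.Hom.comp_apply]
  constructor
  · intro hf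
    refine ⟨fun U hU hUc => ?_⟩
    have h1 : IsCompact (iS ⁻¹' U) := hSe.isCompact_preimage hUc
    have h2 : IsCompact (f ⁻¹' (iS ⁻¹' U)) :=
      hf.isCompact_preimage _ (hU.preimage iS.continuous) h1
    have h3 : f' ⁻¹' U = iX '' (f ⁻¹' (iS ⁻¹' U)) := by
      ext x'
      obtain ⟨x, rfl⟩ := hXs x'
      simp only [Set.mem_preimage, hw, Set.mem_image]
      constructor
      · intro h; exact ⟨x, h, rfl⟩
      · rintro ⟨y, hy, hxy⟩
        rwa [← hXe.injective hxy]
    rw [h3]
    exact h2.image iX.continuous
  · intro hf'
    refine ⟨fun U hU hUc => ?_⟩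
    have h1 : IsOpen (iS '' U) := hSh.isOpenMap _ hU
    have h2 : IsCompact (iS '' U) := hUc.image iS.continuous
    have h3 : IsCompact (f' ⁻¹' (iS '' U)) := hf'.isCompact_preimage _ h1 h2
    have h4 : f ⁻¹' U = iX ⁻¹' (f' ⁻¹' (iS '' U)) := by
      ext x
      simp only [Set.mem_preimage, hw, Set.mem_image]
      constructor
      · intro h; exact ⟨_, h, rfl⟩
      · rintro ⟨y, hy, hxy⟩
        rwa [← hSe.injective hxy]
    rw [h4]
    exact hXe.isCompact_preimage h3

end Groth.Agent.S1303
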