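import Groth.Statements.S13041
import Mathlib
-- import your own Groth.Agent.* helpers here

set_option autoImplicit false
universe u
open MaxMod

namespace Groth.Agent.S13041

/-- Let R be a domain with fraction field K, let A → B be a homomorphism of commutative R-algebras that
are flat over R, with B module-finite over A, such that the induced map K ⊗_R A → K ⊗_R B is
bijective. If the A-linear map Hom_A(B, A) → A evaluating at 1 is surjective, then A → B is
bijective. (The published statement concerns a finite morphism of flat schemes over a discrete
valuation ring, with locally free relative dualizing sheaves, that is an isomorphism over a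
schematically dense open and whose trace map on dualizing sheaves is surjective; this row is the
statement about rings to which the printed proof reduces it and which that proof establishes, and
the argument uses only that R is a domain.) -/
theorem result
    (R K A B : Type u) [CommRing R] [IsDomain R] [Field K] [Algebra R K] [IsFractionRing R K]
    [CommRing A] [CommRing B] [Algebra R A] [Algebra R B] [Algebra A B] [IsScalarTower R A B]
    [Module.Flat R A] [Module.Flat R B] [Module.Finite A B]
    (hK : Function.Bijective
      (Algebra.TensorProduct.map (AlgHom.id R K) (IsScalarTower.toAlgHom R A B)))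
    (htr : Function.Surjective (fun u : B →ₗ[A] A => u 1)) :
    Function.Bijective (algebraMap A B) := by
  obtain ⟨u, hu⟩ := htr 1
  replace hu : u 1 = 1 := hu
  have hu' : ∀ a : A, u (algebraMap A B a) = a := by
    intro a
    rw [Algebra.algebraMap_eq_smul_one, map_smul]
    change a • u 1 = a
    rw [hu, smul_eq_mul, mul_one]
  refine ⟨Function.LeftInverse.injective hu', ?_⟩
  intro b
  refine ⟨u b, ?_⟩
  have hinj : Function.Injective (fun x : B => (1 : K) ⊗ₜ[R] x) := by
    have h1 := Module.Flat.rTensor_preserves_injective_linearMap (M := B)
      (Algebra.linearMap R K) (IsFractionRing.injective R K)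
    intro x y hxy
    have h2 : LinearMap.rTensor B (Algebra.linearMap R K) ((1 : R) ⊗ₜ x) =
        LinearMap.rTensor B (Algebra.linearMap R K) ((1 : R) ⊗ₜ y) := by simpa using hxy
    have h3 := h1 h2
    simpa using congrArg (TensorProduct.lid R B) h3
  apply hinj
  dsimp only
  obtain ⟨z, hz⟩ := hK.2 ((1 : K) ⊗ₜ[R] (b - algebraMap A B (u b)))
  let uK : TensorProduct R K B →ₗ[R] TensorProduct R K A :=
    TensorProduct.map LinearMap.id (u.restrictScalars R)
  have h2 : ∀ z, uK (Algebra.TensorProduct.map (AlgHom.id R K) (IsScalarTower.toAlgHom R A B) z)
      = z := by
    intro z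
    induction z using TensorProduct.induction_on with
    | zero => simp
    | tmul x y => simp [uK, hu']
    | add x y hx hy => simp only [map_add, hx, hy]
  have h3 : uK ((1 : K) ⊗ₜ[R] (b - algebraMap A B (u b))) = 0 := by
    simp [uK, hu']
  rw [← hz, h2] at h3
  rw [h3, map_zero] at hz
  have h4 : (1 : K) ⊗ₜ[R] b - (1 : K) ⊗ₜ[R] algebraMap A B (u b) = 0 := by
    rw [← TensorProduct.tmul_sub]
    exact hz.symm
  exact (sub_eq_zero.mp h4).symm

end Groth.Agent.S13041
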