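import Groth.Statements.S13042
import Mathlib
-- import your own Groth.Agent.* helpers here

set_option autoImplicit false
universe u
open MaxMod

namespace Groth.Agent.S13042

lemma frob_add {T : Type*} [CommRing T] (p : ℕ) (hp : p.Prime) (hpT : (p : T) = 0) (a b : T) :
    (a + b) ^ p = a ^ p + b ^ p := by
  obtain ⟨r, hr⟩ := exists_add_pow_prime_eq hp a b
  rw [hr, hpT]
  ring

lemma frob_sub {T : Type*} [CommRing T] (p : ℕ) (hp : p.Prime) (hpT : (p : T) = 0) (a b : T) :
    (a - b) ^ p = a ^ p - b ^ p := by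
  have h := frob_add p hp hpT (a - b) b
  rw [sub_add_cancel] at h
  rw [h]
  ring

lemma natCast_eq_zero_of_algebra (p : ℕ) (R T : Type*) [CommRing R] [CharP R p] [CommRing T]
    [Algebra R T] : (p : T) = 0 := by
  rw [← map_natCast (algebraMap R T), CharP.cast_eq_zero, map_zero]

open MvPolynomial in
/-- Let p be a prime, R a local ring of characteristic p, λ an element of the maximal ideal of R and f ∈
R. Then there is an isomorphism of R-algebras R[W₁, W₂]/(W₁^p − f, W₂^p − f) ≅ R[x, W]/(x^p, W^p −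
f) with W₁ ↦ x + W + λ·x·W and W₂ ↦ W; that is, Spec R[W]/(W^p − f) with the action w ↦ x + w + λxw
is a torsor under the group scheme Spec R[x]/(x^p) with law x₁ ∘ x₂ = x₁ + x₂ + λx₁x₂. (The
published statement is over a complete discrete valuation ring of characteristic p with λ a nonzero
nonunit, and also asserts that for f in the fraction field with negative valuation v(f) > −p·v(λ)
the torsor W^p = f extends to a torsor over R, using the coordinate 1/W; that second case fails: for
p = 2, λ = π a uniformizer and f = 1/π, every model is Spec R[π^a t] with t² = π, and none of these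
is a torsor since the coaction sends t to t − π(1 + t)x. Only the case f ∈ R is stated, and the
argument there uses only that R is local of characteristic p.) -/
theorem result
    (p : ℕ) [Fact p.Prime] (R : Type u) [CommRing R] [IsLocalRing R] [CharP R p]
    (lam f : R) (hlam : lam ∈ IsLocalRing.maximalIdeal R) :
    ∃ e : (MvPolynomial (Fin 2) R ⧸ Ideal.span {(X 0 ^ p - C f : MvPolynomial (Fin 2) R), X 1 ^ p - C f}) ≃ₐ[R]
        (MvPolynomial (Fin 2) R ⧸ Ideal.span {(X 0 ^ p : MvPolynomial (Fin 2) R), X 1 ^ p - C f}),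
      e (Ideal.Quotient.mk _ (X 0)) = Ideal.Quotient.mk _ (X 0 + X 1 + C lam * X 0 * X 1) ∧
      e (Ideal.Quotient.mk _ (X 1)) = Ideal.Quotient.mk _ (X 1) := by
  classical
  have hp : p.Prime := Fact.out
  obtain ⟨q, hq⟩ : ∃ q, p = q + 1 := ⟨p - 1, (Nat.succ_pred_eq_of_pos hp.pos).symm⟩
  -- the unit
  have hunit : IsUnit (1 + lam ^ p * f) := by
    have h1 : -(lam ^ p * f) ∈ nonunits R := by
      rw [← IsLocalRing.mem_maximalIdeal]
      exact neg_mem (Ideal.mul_mem_right _ _ (Ideal.pow_mem_of_mem _ hlam p hp.pos))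
    have := IsLocalRing.isUnit_one_sub_self_of_mem_nonunits _ h1
    simpa using this
  obtain ⟨v, hv⟩ : ∃ v : R, (1 + lam ^ p * f) * v = 1 := by
    obtain ⟨u, hu⟩ := hunit
    exact ⟨↑u⁻¹, by rw [← hu]; exact u.mul_inv⟩
  set I1 : Ideal (MvPolynomial (Fin 2) R) :=
    Ideal.span {(X 0 ^ p - C f : MvPolynomial (Fin 2) R), X 1 ^ p - C f} with hI1
  set I2 : Ideal (MvPolynomial (Fin 2) R) :=
    Ideal.span {(X 0 ^ p : MvPolynomial (Fin 2) R), X 1 ^ p - C f} with hI2
  -- relations in the two quotients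
  have hpT1 : (p : MvPolynomial (Fin 2) R ⧸ I1) = 0 := natCast_eq_zero_of_algebra p R _
  have hpT2 : (p : MvPolynomial (Fin 2) R ⧸ I2) = 0 := natCast_eq_zero_of_algebra p R _
  have r1x : (Ideal.Quotient.mk I1 (X 0)) ^ p = algebraMap R _ f := by
    rw [← map_pow, ← sub_eq_zero]
    have : (X 0 ^ p - C f : MvPolynomial (Fin 2) R) ∈ I1 := Ideal.subset_span (by simp)
    rw [← Ideal.Quotient.eq_zero_iff_mem, map_sub] at this
    exact this
  have r1w : (Ideal.Quotient.mk I1 (X 1)) ^ p = algebraMap R _ f := by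
    rw [← map_pow, ← sub_eq_zero]
    have : (X 1 ^ p - C f : MvPolynomial (Fin 2) R) ∈ I1 := Ideal.subset_span (by simp)
    rw [← Ideal.Quotient.eq_zero_iff_mem, map_sub] at this
    exact this
  have r2x : (Ideal.Quotient.mk I2 (X 0)) ^ p = 0 := by
    rw [← map_pow]
    have : (X 0 ^ p : MvPolynomial (Fin 2) R) ∈ I2 := Ideal.subset_span (by simp)
    rwa [← Ideal.Quotient.eq_zero_iff_mem] at this
  have r2w : (Ideal.Quotient.mk I2 (X 1)) ^ p = algebraMap R _ f := by
    rw [← map_pow, ← sub_eq_zero]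
    have : (X 1 ^ p - C f : MvPolynomial (Fin 2) R) ∈ I2 := Ideal.subset_span (by simp)
    rw [← Ideal.Quotient.eq_zero_iff_mem, map_sub] at this
    exact this
  set x1 := Ideal.Quotient.mk I1 (X 0) with hx1
  set w1 := Ideal.Quotient.mk I1 (X 1) with hw1
  set x2 := Ideal.Quotient.mk I2 (X 0) with hx2
  set w2 := Ideal.Quotient.mk I2 (X 1) with hw2
  have hv1 : (1 + algebraMap R (MvPolynomial (Fin 2) R ⧸ I1) lam ^ p * algebraMap R _ f) *
      algebraMap R _ v = 1 := by
    rw [← map_pow, ← map_mul, ← map_one (algebraMap R (MvPolynomial (Fin 2) R ⧸ I1)), ← map_add,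
      ← map_mul, hv]
  have hv2 : (1 + algebraMap R (MvPolynomial (Fin 2) R ⧸ I2) lam ^ p * algebraMap R _ f) *
      algebraMap R _ v = 1 := by
    rw [← map_pow, ← map_mul, ← map_one (algebraMap R (MvPolynomial (Fin 2) R ⧸ I2)), ← map_add,
      ← map_mul, hv]
  -- forward map
  let F0 : MvPolynomial (Fin 2) R →ₐ[R] (MvPolynomial (Fin 2) R ⧸ I2) :=
    aeval ![x2 + w2 + algebraMap R _ lam * x2 * w2, w2]
  have hF0 : ∀ a ∈ I1, F0 a = 0 := by
    intro a ha
    have hle : I1 ≤ RingHom.ker (F0 : MvPolynomial (Fin 2) R →+* (MvPolynomial (Fin 2) R ⧸ I2)) := by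
      rw [hI1, Ideal.span_le]
      intro z hz
      simp only [Set.mem_insert_iff, Set.mem_singleton_iff] at hz
      rcases hz with rfl | rfl
      · simp only [SetLike.mem_coe, RingHom.mem_ker, RingHom.coe_coe, F0, map_sub, map_pow,
          aeval_X, aeval_C, Matrix.cons_val_zero]
        rw [frob_add p hp hpT2, frob_add p hp hpT2, mul_pow, mul_pow, r2x, r2w]
        ring
      · simp only [SetLike.mem_coe, RingHom.mem_ker, RingHom.coe_coe, F0, map_sub, map_pow,
          aeval_X, aeval_C, Matrix.cons_val_one, Matrix.cons_val_fin_one]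
        rw [r2w]
        ring
    exact hle ha
  let e1 : (MvPolynomial (Fin 2) R ⧸ I1) →ₐ[R] (MvPolynomial (Fin 2) R ⧸ I2) :=
    Ideal.Quotient.liftₐ I1 F0 hF0
  -- backward map
  let G0 : MvPolynomial (Fin 2) R →ₐ[R] (MvPolynomial (Fin 2) R ⧸ I1) :=
    aeval ![(x1 - w1) * (1 + algebraMap R _ lam * w1) ^ q * algebraMap R _ v, w1]
  have hG0 : ∀ a ∈ I2, G0 a = 0 := by
    intro a ha
    have hle : I2 ≤ RingHom.ker (G0 : MvPolynomial (Fin 2) R →+* (MvPolynomial (Fin 2) R ⧸ I1)) := by
      rw [hI2, Ideal.span_le]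
      intro z hz
      simp only [Set.mem_insert_iff, Set.mem_singleton_iff] at hz
      rcases hz with rfl | rfl
      · simp only [SetLike.mem_coe, RingHom.mem_ker, RingHom.coe_coe, G0, map_pow,
          aeval_X, Matrix.cons_val_zero]
        rw [mul_pow, mul_pow, frob_sub p hp hpT1, r1x, r1w]
        ring
      · simp only [SetLike.mem_coe, RingHom.mem_ker, RingHom.coe_coe, G0, map_sub, map_pow,
          aeval_X, aeval_C, Matrix.cons_val_one, Matrix.cons_val_fin_one]
        rw [r1w]
        ring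
    exact hle ha
  let e2 : (MvPolynomial (Fin 2) R ⧸ I2) →ₐ[R] (MvPolynomial (Fin 2) R ⧸ I1) :=
    Ideal.Quotient.liftₐ I2 G0 hG0
  have he1x : e1 x1 = x2 + w2 + algebraMap R _ lam * x2 * w2 := by
    simp [e1, hx1, F0]
  have he1w : e1 w1 = w2 := by
    simp [e1, hw1, F0]
  have he2x : e2 x2 = (x1 - w1) * (1 + algebraMap R _ lam * w1) ^ q * algebraMap R _ v := by
    simp [e2, hx2, G0]
  have he2w : e2 w2 = w1 := by
    simp [e2, hw2, G0]
  have key1 : (1 + algebraMap R (MvPolynomial (Fin 2) R ⧸ I1) lam * w1) ^ (q + 1) =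
      1 + algebraMap R _ lam ^ p * algebraMap R _ f := by
    rw [← hq, frob_add p hp hpT1, mul_pow, r1w, one_pow]
  have key2 : (1 + algebraMap R (MvPolynomial (Fin 2) R ⧸ I2) lam * w2) ^ (q + 1) =
      1 + algebraMap R _ lam ^ p * algebraMap R _ f := by
    rw [← hq, frob_add p hp hpT2, mul_pow, r2w, one_pow]
  have h12 : e1.comp e2 = AlgHom.id R _ := by
    apply Ideal.Quotient.algHom_ext
    apply MvPolynomial.algHom_ext
    intro i
    fin_cases i
    · change e1 (e2 x2) = x2
      rw [he2x, map_mul, map_mul, map_pow, map_sub, map_add, map_mul, map_one, he1x, he1w,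
        AlgHom.commutes, AlgHom.commutes]
      have : (x2 + w2 + algebraMap R _ lam * x2 * w2 - w2) * (1 + algebraMap R _ lam * w2) ^ q =
          x2 * (1 + algebraMap R _ lam * w2) ^ (q + 1) := by ring
      rw [this, key2, mul_assoc, hv2, mul_one]
    · change e1 (e2 w2) = w2
      rw [he2w, he1w]
  have h21 : e2.comp e1 = AlgHom.id R _ := by
    apply Ideal.Quotient.algHom_ext
    apply MvPolynomial.algHom_ext
    intro i
    fin_cases i
    · change e2 (e1 x1) = x1
      rw [he1x, map_add, map_add, map_mul, map_mul, he2x, he2w, AlgHom.commutes]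
      have : (x1 - w1) * (1 + algebraMap R _ lam * w1) ^ q * algebraMap R _ v + w1 +
          algebraMap R _ lam * ((x1 - w1) * (1 + algebraMap R _ lam * w1) ^ q * algebraMap R _ v) * w1
          = w1 + (x1 - w1) * ((1 + algebraMap R _ lam * w1) ^ (q + 1) * algebraMap R _ v) := by ring
      rw [this, key1, hv1]
      ring
    · change e2 (e1 w1) = w1
      rw [he1w, he2w]
  refine ⟨AlgEquiv.ofAlgHom e1 e2 h12 h21, ?_, ?_⟩
  · change e1 x1 = _
    rw [he1x]
    simp [hx2, hw2]
    rfl
  · change e1 w1 = _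
    rw [he1w]

end Groth.Agent.S13042
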