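import Groth.Statements.S13043
import Groth.Agent.H79.MaxPts
import Groth.Agent.H6.AffineCompl

set_option autoImplicit false
universe u
open CoPerf

namespace Groth.Agent.S13043

open AlgebraicGeometry CategoryTheory Groth.Agent.H79.MaxPts

section aux

theorem affine_top (S : Scheme.{u}) : IsAffineHom (⊤ : S.Opens).ι := by
  have : IsIso (⊤ : S.Opens).ι := by
    rw [← Scheme.topIso_hom]
    infer_instance
  infer_instance

theorem affine_inf (S : Scheme.{u}) (V₁ V₂ : S.Opens) (h₁ : IsAffineHom V₁.ι)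
    (h₂ : IsAffineHom V₂.ι) : IsAffineHom (V₁ ⊓ V₂).ι := by
  have hpb := isPullback_opens_inf V₁ V₂
  have h3 : IsAffineHom (S.homOfLE (inf_le_left : V₁ ⊓ V₂ ≤ V₁)) :=
    MorphismProperty.of_isPullback (P := @IsAffineHom) hpb.flip h₂
  rw [← S.homOfLE_ι (inf_le_left : V₁ ⊓ V₂ ≤ V₁)]
  infer_instance

/-- A maximal point of the complement of an open with affine inclusion containing a dense open `U`
is a maximal point of the complement of `U`. -/
theorem maxPt_compl (S : Scheme.{u}) [IsNoetherian S] (U V : S.Opens) (hU : Dense (U : Set S))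
    (hUV : U ≤ V) (hV : IsAffineHom V.ι) {ξ : S} (hξ : ξ ∈ maxPts ((V : Set S)ᶜ)) :
    ξ ∈ maxPts ((U : Set S)ᶜ) := by
  obtain ⟨hξV, hmax⟩ := hξ
  have hdim : ringKrullDim (S.presheaf.stalk ξ) ≤ 1 :=
    Groth.Agent.H6.AffineCompl.dim_stalk_le_one_of_affine_compl S V ξ hξV
      (fun η hη hηξ => hmax η hη hηξ)
  refine ⟨fun h => hξV (hUV h), ?_⟩
  intro η hηU hηξ
  by_contra hne
  have hηnotmax : ¬ ∀ ζ : S, ζ ⤳ η → ζ = η := by
    intro hall
    exact hηU (mem_of_dense_of_isOpen U.isOpen hU hall)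
  rw [not_forall] at hηnotmax
  obtain ⟨ζ, hζ⟩ := hηnotmax
  rw [Classical.not_imp] at hζ
  obtain ⟨hζη, hζne⟩ := hζ
  have hlt1 : ξ < η := by
    refine lt_of_le_not_ge hηξ ?_
    intro h
    exact hne ((Specializes.antisymm hηξ h).eq)
  have hlt2 : η < ζ := by
    refine lt_of_le_not_ge hζη ?_
    intro h
    exact hζne ((Specializes.antisymm hζη h).eq)
  have h1 := Order.coheight_add_one_le hlt1
  have h2 := Order.coheight_add_one_le hlt2
  have h3 : (2 : ℕ∞) ≤ Order.coheight ξ := by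
    calc (2 : ℕ∞) = 0 + 1 + 1 := by norm_num
      _ ≤ Order.coheight ζ + 1 + 1 := by gcongr; exact zero_le
      _ ≤ Order.coheight η + 1 := by gcongr
      _ ≤ Order.coheight ξ := h1
  rw [ringKrullDim_stalk_eq_coheight] at hdim
  have h4 : Order.coheight ξ ≤ 1 := by exact_mod_cast hdim
  have h5 := h3.trans h4
  norm_num at h5

theorem compl_eq (S : Scheme.{u}) [IsNoetherian S] (U V : S.Opens) (hU : Dense (U : Set S))
    (hUV : U ≤ V) (hV : IsAffineHom V.ι) :
    (V : Set S)ᶜ = {y | ∃ ξ ∈ maxPts ((U : Set S)ᶜ) ∩ (V : Set S)ᶜ, ξ ⤳ y} := by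
  ext y
  constructor
  · intro hy
    obtain ⟨ξ, hξ, hξy⟩ := exists_maxPt_specializes V.isOpen.isClosed_compl hy
    exact ⟨ξ, ⟨maxPt_compl S U V hU hUV hV hξ, hξ.1⟩, hξy⟩
  · rintro ⟨ξ, ⟨-, hξV⟩, hξy⟩ hyV
    exact hξV (hξy.mem_open V.isOpen hyV)

end aux

open AlgebraicGeometry in
/-- For a Noetherian scheme S that is separated, and a dense open subset U ⊆ S that is not empty, only
finitely many open subsets V ⊇ U have an affine inclusion morphism V → S, and among them there is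
one contained in all the others (a least element for inclusion). -/
theorem result
    (S : Scheme.{u}) [IsNoetherian S] [S.IsSeparated] (U : S.Opens)
    (hne : (U : Set S).Nonempty) (hU : Dense (U : Set S)) :
    Set.Finite {V : S.Opens | U ≤ V ∧ IsAffineHom V.ι} ∧
      ∃ V₀ : S.Opens, (U ≤ V₀ ∧ IsAffineHom V₀.ι) ∧
        ∀ V : S.Opens, U ≤ V → IsAffineHom V.ι → V₀ ≤ V := by
  have hfin : Set.Finite {V : S.Opens | U ≤ V ∧ IsAffineHom V.ι} := by
    have hM : (maxPts ((U : Set S)ᶜ)).Finite := maxPts_finite U.isOpen.isClosed_compl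
    let Φ : S.Opens → Set S := fun V => maxPts ((U : Set S)ᶜ) ∩ (V : Set S)ᶜ
    apply Set.Finite.of_finite_image (f := Φ)
    · apply hM.finite_subsets.subset
      rintro _ ⟨V, -, rfl⟩
      exact Set.inter_subset_left
    · rintro V ⟨hUV, hV⟩ V' ⟨hUV', hV'⟩ hΦ
      have e1 := compl_eq S U V hU hUV hV
      have e2 := compl_eq S U V' hU hUV' hV'
      have hΦ' : maxPts ((U : Set S)ᶜ) ∩ (V : Set S)ᶜ = maxPts ((U : Set S)ᶜ) ∩ (V' : Set S)ᶜ := hΦ
      rw [hΦ', ← e2] at e1
      apply TopologicalSpace.Opens.ext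
      exact compl_injective e1
  refine ⟨hfin, ?_⟩
  have key : ∀ F : Set S.Opens, F.Finite → F ⊆ {V : S.Opens | U ≤ V ∧ IsAffineHom V.ι} →
      (U ≤ sInf F ∧ IsAffineHom (sInf F).ι) := by
    intro F hF
    induction F, hF using Set.Finite.induction_on with
    | empty =>
      intro _
      rw [sInf_empty]
      exact ⟨le_top, affine_top S⟩
    | @insert a F _ _ ih =>
      intro hsub
      have ha := hsub (Set.mem_insert a F)
      have hF' := ih (fun x hx => hsub (Set.mem_insert_of_mem a hx))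
      rw [sInf_insert]
      exact ⟨le_inf ha.1 hF'.1, affine_inf S _ _ ha.2 hF'.2⟩
  refine ⟨sInf {V : S.Opens | U ≤ V ∧ IsAffineHom V.ι}, key _ hfin le_rfl, ?_⟩
  intro V hUV hV
  exact sInf_le ⟨hUV, hV⟩

end Groth.Agent.S13043
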