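import Groth.Statements.S13044
import Groth.Agent.H75.FlatDVRDense

set_option autoImplicit false
universe u
open MaxMod

namespace Groth.Agent.S13044

open CategoryTheory Limits AlgebraicGeometry in
/-- Let R be a discrete valuation ring with fraction field K, let Y be a flat separated R-scheme and let
Γ → Y ×_R Y be a closed subscheme, with projections p₁, p₂ : Γ → Y, such that Γ is flat over R
(equivalently, Γ is the schematic closure of its generic fibre) and p₁, p₂ are flat. If for every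
scheme T over Spec K the relation on the T-valued points of Y defined by the T-valued points of Γ is
an equivalence relation, then for every scheme T over Spec R that relation is an equivalence
relation: Γ is a flat equivalence relation on Y. -/
theorem result
    (R K : Type u) [CommRing R] [IsDomain R] [IsDiscreteValuationRing R]
    [Field K] [Algebra R K] [IsFractionRing R K]
    (Y Γ : Scheme.{u}) (f : Y ⟶ Spec (CommRingCat.of R)) [IsSeparated f] [Flat f]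
    (p₁ p₂ : Γ ⟶ Y) (h : p₁ ≫ f = p₂ ≫ f)
    (hΓ : IsClosedImmersion (pullback.lift p₁ p₂ h))
    [Flat (p₁ ≫ f)] [Flat p₁] [Flat p₂]
    (hK : ∀ (T : Scheme.{u}) (t : T ⟶ Spec (CommRingCat.of R)),
      (∃ s : T ⟶ Spec (CommRingCat.of K), t = s ≫ Spec.map (CommRingCat.ofHom (algebraMap R K))) →
      _root_.Equivalence fun a b : {a : T ⟶ Y // a ≫ f = t} =>
        ∃ c : T ⟶ Γ, c ≫ p₁ = a.1 ∧ c ≫ p₂ = b.1) :
    ∀ (T : Scheme.{u}) (t : T ⟶ Spec (CommRingCat.of R)),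
      _root_.Equivalence fun a b : {a : T ⟶ Y // a ≫ f = t} =>
        ∃ c : T ⟶ Γ, c ≫ p₁ = a.1 ∧ c ≫ p₂ = b.1 := by
  have hcl : IsClosedImmersion (pullback.lift p₁ p₂ h) := hΓ
  have hγ1 : pullback.lift p₁ p₂ h ≫ pullback.fst f f = p₁ := pullback.lift_fst _ _ _
  have hγ2 : pullback.lift p₁ p₂ h ≫ pullback.snd f f = p₂ := pullback.lift_snd _ _ _
  -- reflexivity
  obtain ⟨e, he⟩ : ∃ e : Y ⟶ Γ, e ≫ pullback.lift p₁ p₂ h = pullback.lift (𝟙 Y) (𝟙 Y) rfl := by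
    apply Groth.Agent.H75.FlatDVRDense.exists_lift_of_generic (K := K) f
    intro T j s hs
    have hE := hK T (j ≫ f) ⟨s, hs⟩
    obtain ⟨c, hc1, hc2⟩ := hE.refl ⟨j, rfl⟩
    refine ⟨c, ?_⟩
    apply pullback.hom_ext
    · rw [Category.assoc, hγ1, hc1, Category.assoc, pullback.lift_fst, Category.comp_id]
    · rw [Category.assoc, hγ2, hc2, Category.assoc, pullback.lift_snd, Category.comp_id]
  have he1 : e ≫ p₁ = 𝟙 Y := by
    rw [← hγ1, ← Category.assoc, he, pullback.lift_fst]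
  have he2 : e ≫ p₂ = 𝟙 Y := by
    rw [← hγ2, ← Category.assoc, he, pullback.lift_snd]
  -- symmetry
  obtain ⟨σ, hσ⟩ : ∃ σ : Γ ⟶ Γ, σ ≫ pullback.lift p₁ p₂ h = pullback.lift p₂ p₁ h.symm := by
    apply Groth.Agent.H75.FlatDVRDense.exists_lift_of_generic (K := K) (p₁ ≫ f)
    intro T j s hs
    have hE := hK T (j ≫ p₁ ≫ f) ⟨s, hs⟩
    have hb : (j ≫ p₂) ≫ f = j ≫ p₁ ≫ f := by rw [Category.assoc, ← h]
    obtain ⟨c, hc1, hc2⟩ := hE.symm (x := ⟨j ≫ p₁, Category.assoc _ _ _⟩) (y := ⟨j ≫ p₂, hb⟩)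
      ⟨j, rfl, rfl⟩
    refine ⟨c, ?_⟩
    apply pullback.hom_ext
    · rw [Category.assoc, hγ1, hc1, Category.assoc, pullback.lift_fst]
    · rw [Category.assoc, hγ2, hc2, Category.assoc, pullback.lift_snd]
  have hσ1 : σ ≫ p₁ = p₂ := by
    rw [← hγ1, ← Category.assoc, hσ, pullback.lift_fst]
  have hσ2 : σ ≫ p₂ = p₁ := by
    rw [← hγ2, ← Category.assoc, hσ, pullback.lift_snd]
  -- transitivity
  have hcond : pullback.fst p₂ p₁ ≫ p₂ = pullback.snd p₂ p₁ ≫ p₁ := pullback.condition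
  have hτ : (pullback.fst p₂ p₁ ≫ p₁) ≫ f = (pullback.snd p₂ p₁ ≫ p₂) ≫ f := by
    rw [Category.assoc, Category.assoc, h, ← Category.assoc, hcond, Category.assoc, h]
  obtain ⟨m, hm⟩ : ∃ m : pullback p₂ p₁ ⟶ Γ, m ≫ pullback.lift p₁ p₂ h =
      pullback.lift (pullback.fst p₂ p₁ ≫ p₁) (pullback.snd p₂ p₁ ≫ p₂) hτ := by
    apply Groth.Agent.H75.FlatDVRDense.exists_lift_of_generic (K := K)
      (pullback.fst p₂ p₁ ≫ p₁ ≫ f)
    intro T j s hs
    have hE := hK T (j ≫ pullback.fst p₂ p₁ ≫ p₁ ≫ f) ⟨s, hs⟩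
    have ha : (j ≫ pullback.fst p₂ p₁ ≫ p₁) ≫ f = j ≫ pullback.fst p₂ p₁ ≫ p₁ ≫ f := by
      simp only [Category.assoc]
    have hb : (j ≫ pullback.fst p₂ p₁ ≫ p₂) ≫ f = j ≫ pullback.fst p₂ p₁ ≫ p₁ ≫ f := by
      simp only [Category.assoc]; rw [← h]
    have hc : (j ≫ pullback.snd p₂ p₁ ≫ p₂) ≫ f = j ≫ pullback.fst p₂ p₁ ≫ p₁ ≫ f := by
      simp only [Category.assoc]
      rw [← h, ← Category.assoc (pullback.snd p₂ p₁), ← hcond, Category.assoc, ← h]
    obtain ⟨c, hc1, hc2⟩ := hE.trans (x := ⟨j ≫ pullback.fst p₂ p₁ ≫ p₁, ha⟩)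
      (y := ⟨j ≫ pullback.fst p₂ p₁ ≫ p₂, hb⟩) (z := ⟨j ≫ pullback.snd p₂ p₁ ≫ p₂, hc⟩)
      ⟨j ≫ pullback.fst p₂ p₁, by simp only [Category.assoc], by simp only [Category.assoc]⟩
      ⟨j ≫ pullback.snd p₂ p₁, by simp only [Category.assoc]; rw [hcond],
        by simp only [Category.assoc]⟩
    refine ⟨c, ?_⟩
    apply pullback.hom_ext
    · rw [Category.assoc, hγ1, hc1, Category.assoc, pullback.lift_fst]
    · rw [Category.assoc, hγ2, hc2, Category.assoc, pullback.lift_snd]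
  have hm1 : m ≫ p₁ = pullback.fst p₂ p₁ ≫ p₁ := by
    calc m ≫ p₁ = m ≫ pullback.lift p₁ p₂ h ≫ pullback.fst f f := by rw [hγ1]
      _ = (m ≫ pullback.lift p₁ p₂ h) ≫ pullback.fst f f := (Category.assoc _ _ _).symm
      _ = pullback.fst p₂ p₁ ≫ p₁ := by rw [hm, pullback.lift_fst]
  have hm2 : m ≫ p₂ = pullback.snd p₂ p₁ ≫ p₂ := by
    calc m ≫ p₂ = m ≫ pullback.lift p₁ p₂ h ≫ pullback.snd f f := by rw [hγ2]
      _ = (m ≫ pullback.lift p₁ p₂ h) ≫ pullback.snd f f := (Category.assoc _ _ _).symm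
      _ = pullback.snd p₂ p₁ ≫ p₂ := by rw [hm, pullback.lift_snd]
  intro T t
  refine ⟨?_, ?_, ?_⟩
  · intro a
    exact ⟨a.1 ≫ e, by rw [Category.assoc, he1, Category.comp_id],
      by rw [Category.assoc, he2, Category.comp_id]⟩
  · rintro a b ⟨c, hc1, hc2⟩
    exact ⟨c ≫ σ, by rw [Category.assoc, hσ1, hc2], by rw [Category.assoc, hσ2, hc1]⟩
  · rintro a b c ⟨c₁, h11, h12⟩ ⟨c₂, h21, h22⟩
    refine ⟨pullback.lift c₁ c₂ (by rw [h12, h21]) ≫ m, ?_, ?_⟩
    · rw [Category.assoc, hm1, ← Category.assoc, pullback.lift_fst, h11]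
    · rw [Category.assoc, hm2, ← Category.assoc, pullback.lift_snd, h22]

end Groth.Agent.S13044
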