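import Groth.Statements.S13048
import Mathlib
-- import your own Groth.Agent.* helpers here

set_option autoImplicit false
universe u
open FrobAlg

namespace Groth.Agent.S13048

/-- Let k be an algebraically closed field of characteristic p > 0 and let A be a reduced finitely
generated commutative k-algebra with connected spectrum (A ≠ 0 and 0, 1 are its only idempotents).
If x ∈ A is a p^n-th power in A for every n ≥ 0, then x lies in the image of k; that is, ⋂_n A^{p^n}
= k. (The published statement is: for an artinian local ring R of characteristic p and a flat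
R-algebra A of finite type, the maps A^ét → O(π₀(A)) → A^{p^∞/R} from the largest étale subalgebra
to the preperfection are isomorphisms. This row is the case R = k algebraically closed and A reduced
with connected spectrum, where A^ét = k and the preperfection is ⋂_n A^{p^n}; the printed proof
reduces to this case and its last step proves it.) -/
theorem result
    (p : ℕ) [Fact p.Prime] (k : Type u) [Field k] [IsAlgClosed k] [CharP k p]
    (A : Type u) [CommRing A] [Algebra k A] [Algebra.FiniteType k A] [IsReduced A] [Nontrivial A]
    (hconn : ∀ e : A, IsIdempotentElem e → e = 0 ∨ e = 1)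
    (x : A) (hx : ∀ n : ℕ, ∃ a : A, a ^ p ^ n = x) :
    x ∈ (algebraMap k A).range := by
  classical
  haveI : IsNoetherianRing A := Algebra.FiniteType.isNoetherianRing k A
  haveI : CharP A p := charP_of_injective_algebraMap (algebraMap k A).injective p
  have hp : p.Prime := Fact.out
  -- Step 1
  have step1 : ∀ m : Ideal A, m.IsMaximal →
      ∃ c : k, ∃ s : A, s ∉ m ∧ s * (x - algebraMap k A c) = 0 := by
    intro m hm
    letI := Ideal.Quotient.field m
    haveI : Module.Finite k (A ⧸ m) := finite_of_finite_type_of_isJacobsonRing k (A ⧸ m)
    have hbij := IsAlgClosed.algebraMap_bijective_of_isIntegral (k := k) (K := A ⧸ m)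
    obtain ⟨c, hc⟩ := hbij.2 (Ideal.Quotient.mk m x)
    have hxc : x - algebraMap k A c ∈ m := by
      rw [← Ideal.Quotient.eq_zero_iff_mem, map_sub, ← hc, sub_eq_zero]
      rfl
    have hpow : ∀ n : ℕ, x - algebraMap k A c ∈ m ^ (p ^ n) := by
      intro n
      obtain ⟨a, ha⟩ := hx n
      obtain ⟨d, hd⟩ := IsAlgClosed.exists_pow_nat_eq c (pow_pos hp.pos n)
      have e : x - algebraMap k A c = (a - algebraMap k A d) ^ p ^ n := by
        rw [sub_pow_char_pow, ha, ← map_pow, hd]
      have h' : (a - algebraMap k A d) ^ p ^ n ∈ m := e ▸ hxc
      rw [e]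
      exact Ideal.pow_mem_pow (hm.isPrime.mem_of_pow_mem _ h') _
    have hinf : x - algebraMap k A c ∈ (⨅ i : ℕ, m ^ i • ⊤ : Submodule A A) := by
      rw [Submodule.mem_iInf]
      intro i
      have hle : m ^ (p ^ i) ≤ m ^ i := Ideal.pow_le_pow_right (Nat.lt_pow_self hp.one_lt).le
      simpa using hle (hpow i)
    obtain ⟨r, hr⟩ := (Ideal.mem_iInf_smul_pow_eq_bot_iff m _).1 hinf
    refine ⟨c, 1 - r, ?_, ?_⟩
    · intro h
      apply hm.ne_top
      rw [Ideal.eq_top_iff_one]
      have := add_mem h r.2
      simpa using this
    · rw [sub_mul, one_mul, ← smul_eq_mul, hr, sub_self]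
  -- Step 2
  let ann : k → Ideal A := fun c => (Ideal.span {x - algebraMap k A c}).annihilator
  have hann : ∀ c s, s ∈ ann c ↔ s * (x - algebraMap k A c) = 0 := by
    intro c s
    simp only [ann, Submodule.mem_annihilator_span_singleton, smul_eq_mul]
  have htop : (⨆ c, ann c) = ⊤ := by
    by_contra hne
    obtain ⟨m, hm, hle⟩ := Ideal.exists_le_maximal _ hne
    obtain ⟨c, s, hs, hs0⟩ := step1 m hm
    exact hs (hle (Ideal.mem_iSup_of_mem c ((hann c s).2 hs0)))
  have h1 : (1 : A) ∈ ⨆ c, ann c := by rw [htop]; trivial
  obtain ⟨T, hT⟩ := Submodule.exists_finset_of_mem_iSup ann h1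
  have hprod : ∏ c ∈ T, (x - algebraMap k A c) = 0 := by
    have key : ∀ s ∈ (⨆ c ∈ T, ann c), s * ∏ c ∈ T, (x - algebraMap k A c) = 0 := by
      intro s hs
      induction hs using Submodule.iSup_induction' with
      | mem c y hy =>
        by_cases hc : c ∈ T
        · rw [iSup_pos hc] at hy
          rw [← Finset.mul_prod_erase T _ hc, ← mul_assoc, (hann c y).1 hy, zero_mul]
        · rw [iSup_neg hc] at hy
          rw [(Submodule.mem_bot A).1 hy, zero_mul]
      | zero => rw [zero_mul]
      | add y z _ _ hy hz => rw [add_mul, hy, hz, add_zero]
    simpa using key 1 hT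
  -- Step 3
  have step3 : ∀ T : Finset k, ∏ c ∈ T, (x - algebraMap k A c) = 0 →
      ∃ c ∈ T, x = algebraMap k A c := by
    intro T
    induction T using Finset.induction_on with
    | empty => intro h; simp at h
    | insert c T' hc ih =>
      intro h
      rw [Finset.prod_insert hc] at h
      have hcop : IsCoprime (Polynomial.X - Polynomial.C c : Polynomial k)
          (∏ c' ∈ T', (Polynomial.X - Polynomial.C c')) := by
        apply IsCoprime.prod_right
        intro c' hc'
        apply Polynomial.isCoprime_X_sub_C_of_isUnit_sub
        apply IsUnit.mk0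
        intro h0
        apply hc
        rw [sub_eq_zero] at h0
        rwa [h0]
      obtain ⟨u, v, huv⟩ := hcop
      have hev := congrArg (Polynomial.aeval x) huv
      simp only [map_add, map_mul, map_sub, map_prod, Polynomial.aeval_X, Polynomial.aeval_C,
        map_one] at hev
      set P' := ∏ c' ∈ T', (x - algebraMap k A c') with hP'
      set e := Polynomial.aeval x v * P' with he
      have hidem : IsIdempotentElem e := by
        have h1e : e = 1 - Polynomial.aeval x u * (x - algebraMap k A c) := by
          linear_combination hev
        have h2e : e * (Polynomial.aeval x u * (x - algebraMap k A c)) = 0 := by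
          rw [he]
          have : Polynomial.aeval x v * P' * (Polynomial.aeval x u * (x - algebraMap k A c)) =
              Polynomial.aeval x v * Polynomial.aeval x u * ((x - algebraMap k A c) * P') := by
            ring
          rw [this, h, mul_zero]
        show e * e = e
        nth_rewrite 2 [h1e]
        rw [mul_sub, mul_one, h2e, sub_zero]
      rcases hconn e hidem with h0 | h1
      · -- (x - c) is a unit, so P' = 0
        have hunit : Polynomial.aeval x u * (x - algebraMap k A c) = 1 := by
          linear_combination hev - h0
        have hP0 : P' = 0 := by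
          have : P' = Polynomial.aeval x u * ((x - algebraMap k A c) * P') := by
            rw [← mul_assoc, hunit, one_mul]
          rw [this, h, mul_zero]
        obtain ⟨c', hc', hxc'⟩ := ih hP0
        exact ⟨c', Finset.mem_insert_of_mem hc', hxc'⟩
      · refine ⟨c, Finset.mem_insert_self _ _, ?_⟩
        have : x - algebraMap k A c = (x - algebraMap k A c) * e := by rw [h1, mul_one]
        rw [he] at this
        have h2 : (x - algebraMap k A c) * (Polynomial.aeval x v * P') =
            Polynomial.aeval x v * ((x - algebraMap k A c) * P') := by ring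
        rw [h2, h, mul_zero] at this
        exact sub_eq_zero.1 this
  obtain ⟨c, -, hc⟩ := step3 T hprod
  exact ⟨c, hc.symm⟩

end Groth.Agent.S13048
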