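import Groth.Statements.S13055
import Groth.Agent.H85.ExpLog
-- import your own Groth.Agent.* helpers here

set_option autoImplicit false
universe u
open CategoryTheory AlgebraicGeometry
open Zeta

namespace Groth.Agent.S13055

open PowerSeries

noncomputable section

def u (c : ℚ) : ℚ⟦X⟧ := 1 - C c * X
def g (c : ℚ) : ℚ⟦X⟧ := mk fun m => c ^ m

lemma u_mul_g (c : ℚ) : u c * g c = 1 := by
  ext n
  unfold u g
  rw [sub_mul, one_mul, mul_assoc, map_sub, coeff_C_mul]
  cases n with
  | zero => simp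
  | succ n => simp [coeff_succ_X_mul, pow_succ, mul_comm]

lemma deriv_u (c : ℚ) : d⁄dX ℚ (u c) = - C c := by
  unfold u
  rw [map_sub, Derivation.leibniz]
  simp [derivative_C]

lemma deriv_pow (c : ℚ) (e : ℕ) :
    d⁄dX ℚ (u c ^ e) = (C ((e : ℚ) * (-c)) * g c) * u c ^ e := by
  rw [Derivation.leibniz_pow, deriv_u]
  cases e with
  | zero => simp
  | succ e =>
    have h := u_mul_g c
    simp only [Nat.add_sub_cancel, smul_eq_mul, nsmul_eq_mul]
    have : u c ^ e = g c * u c ^ (e + 1) := by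
      rw [pow_succ]
      calc u c ^ e = u c ^ e * (u c * g c) := by rw [h, mul_one]
        _ = g c * (u c ^ e * u c) := by ring
    rw [this]
    simp only [map_mul, map_neg, map_natCast]
    push_cast
    ring

lemma deriv_prod (c : ℕ → ℚ) (e : ℕ → ℕ) (n : ℕ) :
    d⁄dX ℚ (∏ i ∈ Finset.range n, u (c i) ^ e i) =
      (∑ i ∈ Finset.range n, C ((e i : ℚ) * (-(c i))) * g (c i)) *
        ∏ i ∈ Finset.range n, u (c i) ^ e i := by
  induction n with
  | zero => simp
  | succ n ih =>
    rw [Finset.prod_range_succ, Finset.sum_range_succ, Derivation.leibniz, ih, deriv_pow]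
    simp only [smul_eq_mul]
    ring

lemma constantCoeff_u (c : ℚ) : constantCoeff (u c) = 1 := by
  simp [u]

lemma constantCoeff_prod (c : ℕ → ℚ) (e : ℕ → ℕ) (n : ℕ) :
    constantCoeff (∏ i ∈ Finset.range n, u (c i) ^ e i) = 1 := by
  rw [map_prod]
  apply Finset.prod_eq_one
  intro i _
  rw [map_pow, constantCoeff_u, one_pow]

lemma coeff_sum_g (c : ℕ → ℚ) (r : ℕ → ℚ) (n m : ℕ) :
    coeff m (∑ i ∈ Finset.range n, C (r i) * g (c i)) = ∑ i ∈ Finset.range n, r i * c i ^ m := by
  rw [map_sum]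
  refine Finset.sum_congr rfl fun i _ => ?_
  rw [coeff_C_mul, g, coeff_mk]

end

/-- Let X be a scheme of finite type over a finite field k with q elements and P = a_d y^d + ⋯ + a_0 ∈
ℤ[y] with N_m = P(q^m) for every m ≥ 1 (X is of polynomial count). Then Z(X, t) = ∏_{i = 0}^{d} (1 −
q^i t)^{−a_i}; stated cleared of denominators, with the factors of positive exponent moved to the
left. -/
theorem result {k : Type u} [Field k] [Finite k] {X : Scheme.{u}}
    (f : X ⟶ Spec (CommRingCat.of k)) [LocallyOfFiniteType f] [QuasiCompact f] (P : Polynomial ℤ)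
    (hP : ∀ m : ℕ, 1 ≤ m → (Zeta.nPts f m : ℤ) = P.eval ((Nat.card k : ℤ) ^ m)) :
    Zeta.zetaFun f * ∏ i ∈ Finset.range (P.natDegree + 1),
        (1 - PowerSeries.C ((Nat.card k : ℚ) ^ i) * PowerSeries.X) ^ (P.coeff i).toNat =
      ∏ i ∈ Finset.range (P.natDegree + 1),
        (1 - PowerSeries.C ((Nat.card k : ℚ) ^ i) * PowerSeries.X) ^ (-P.coeff i).toNat := by
  classical
  set q : ℚ := (Nat.card k : ℚ) with hq
  set d := P.natDegree with hd
  have hL0 : constantCoeff (Zeta.logZeta f) = 0 := by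
    simp [Zeta.logZeta]
  have hs : HasSubst (Zeta.logZeta f) := HasSubst.of_constantCoeff_zero' hL0
  -- the ODE for Z
  have hZ : d⁄dX ℚ (Zeta.zetaFun f) = d⁄dX ℚ (Zeta.logZeta f) * Zeta.zetaFun f := by
    unfold Zeta.zetaFun
    rw [derivative_subst hs, derivative_exp, mul_comm]
  have hZ0 : constantCoeff (Zeta.zetaFun f) = 1 := by
    unfold Zeta.zetaFun
    rw [Groth.Agent.H85.ExpLog.constantCoeff_subst_of_zero hL0]
    simp
  -- rewrite the statement in terms of u
  have hu : ∀ i : ℕ, (1 - PowerSeries.C (q ^ i) * PowerSeries.X : PowerSeries ℚ) = u (q ^ i) := fun i => rfl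
  simp only [hu]
  -- the coefficient identity
  have hcoef : d⁄dX ℚ (Zeta.logZeta f) +
      ∑ i ∈ Finset.range (d + 1), C (((P.coeff i).toNat : ℚ) * (-(q ^ i))) * g (q ^ i) =
      ∑ i ∈ Finset.range (d + 1), C (((-P.coeff i).toNat : ℚ) * (-(q ^ i))) * g (q ^ i) := by
    ext m
    rw [map_add, coeff_sum_g, coeff_sum_g, coeff_derivative, Zeta.logZeta, coeff_mk]
    have h1 := hP (m + 1) (by omega)
    have h2 : ((Zeta.nPts f (m + 1) : ℕ) : ℚ) = ∑ i ∈ Finset.range (d + 1),
        (P.coeff i : ℚ) * (q ^ (m + 1)) ^ i := by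
      have : ((Zeta.nPts f (m + 1) : ℤ) : ℚ) = ((P.eval ((Nat.card k : ℤ) ^ (m + 1)) : ℤ) : ℚ) := by
        rw [h1]
      rw [Int.cast_natCast] at this
      rw [this, Polynomial.eval_eq_sum_range]
      push_cast
      rfl
    have h3 : ((Zeta.nPts f (m + 1) : ℕ) : ℚ) / ((m + 1 : ℕ) : ℚ) * ((m : ℚ) + 1) =
        (Zeta.nPts f (m + 1) : ℚ) := by
      push_cast
      field_simp
    rw [h3, h2, ← Finset.sum_add_distrib]
    refine Finset.sum_congr rfl fun i _ => ?_
    have h4 : ((P.coeff i).toNat : ℚ) - ((-P.coeff i).toNat : ℚ) = (P.coeff i : ℚ) := by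
      have := Int.toNat_sub_toNat_neg (P.coeff i)
      exact_mod_cast this
    rw [← h4]
    ring
  apply Groth.Agent.H85.ExpLog.ode_unique
    (a := ∑ i ∈ Finset.range (d + 1), C (((-P.coeff i).toNat : ℚ) * (-(q ^ i))) * g (q ^ i))
  · rw [Derivation.leibniz, hZ, deriv_prod, ← hcoef]
    simp only [smul_eq_mul]
    ring
  · rw [deriv_prod]
  · rw [map_mul, hZ0, constantCoeff_prod, constantCoeff_prod, one_mul]

end Groth.Agent.S13055
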