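import Groth.Statements.S13060
import Mathlib
-- import your own Groth.Agent.* helpers here

set_option autoImplicit false
universe u v w x
open TensorProduct
open Zeta

namespace Groth.Agent.S13060

/-- Let k be a field, V and W vector spaces over k and G a group acting on V by k-linear automorphisms;
for the induced action on V ⊗_k W (trivial on W) one has (V ⊗_k W)^G = V^G ⊗_k W, i.e. the
invariants of V ⊗ W are the image of V^G ⊗ W → V ⊗ W. -/
theorem result {k : Type u} [Field k] {G : Type v} [Group G]
    {V : Type w} {W : Type x} [AddCommGroup V] [Module k V] [AddCommGroup W] [Module k W]
    (ρ : Representation k G V) :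
    (ρ.tprod (Representation.trivial k G W)).invariants =
      LinearMap.range (TensorProduct.map ρ.invariants.subtype (LinearMap.id : W →ₗ[k] W)) := by
  classical
  apply le_antisymm
  · intro x hx
    rw [Representation.mem_invariants] at hx
    let b := Module.Basis.ofVectorSpace k W
    let e := TensorProduct.equivFinsuppOfBasisRight (M := V) b
    have hcoef : ∀ (g : G) (y : V ⊗[k] W) i,
        e (TensorProduct.map (ρ g) LinearMap.id y) i = ρ g (e y i) := by
      intro g y i
      simp only [e, TensorProduct.equivFinsuppOfBasisRight_apply]
      induction y using TensorProduct.induction_on with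
      | zero => simp
      | tmul v w => simp
      | add a b ha hb => simp only [map_add, ha, hb]
    have hinv : ∀ i, e x i ∈ ρ.invariants := by
      intro i
      rw [Representation.mem_invariants]
      intro g
      rw [← hcoef]
      have := hx g
      rw [Representation.tprod_apply] at this
      have h2 : (Representation.trivial k G W) g = LinearMap.id := rfl
      rw [h2] at this
      rw [this]
    have hx' : x = (e x).sum fun i m => m ⊗ₜ[k] b i := by
      rw [← TensorProduct.equivFinsuppOfBasisRight_symm_apply, LinearEquiv.symm_apply_apply]
    rw [hx']
    apply Submodule.sum_mem
    intro i _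
    exact ⟨(⟨e x i, hinv i⟩ : ρ.invariants) ⊗ₜ[k] b i, by simp⟩
  · rintro _ ⟨y, rfl⟩
    rw [Representation.mem_invariants]
    intro g
    induction y using TensorProduct.induction_on with
    | zero => simp
    | tmul v w =>
      have hv := v.2 g
      simp only [Representation.tprod_apply, TensorProduct.map_tmul, Submodule.subtype_apply,
        LinearMap.id_apply]
      rw [hv]
      rfl
    | add a b ha hb => simp only [map_add, ha, hb]

end Groth.Agent.S13060
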