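import Groth.Statements.S13061
import Groth.Agent.H65.InvLift
-- import your own Groth.Agent.* helpers here

set_option autoImplicit false
universe u v w
open Zeta

namespace Groth.Agent.S13061

/-- Let A be a commutative algebra over a field k, G a finite group acting on A by k-algebra
automorphisms and I ⊆ A an ideal preserved by G. If p^n is the largest power of p = char(k) dividing
|G| (with p^n = 1 when char(k) = 0), then for every G-invariant b ∈ A/I the power b^{p^n} lies in
the image of A^G → (A/I)^G. (The published statement takes A finitely generated over k, which the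
proof does not use.) -/
theorem result {k : Type u} [Field k]
    {A : Type v} [CommRing A] [Algebra k A] {G : Type w} [Group G] [Finite G]
    [MulSemiringAction G A] [SMulCommClass G k A] (I : Ideal A)
    (hI : ∀ (g : G) (a : A), a ∈ I → g • a ∈ I) (u : A) (hu : ∀ g : G, g • u - u ∈ I) :
    ∃ a : A, (∀ g : G, g • a = a) ∧
      Ideal.Quotient.mk I a =
        Ideal.Quotient.mk I u ^ (ringChar k ^ (Nat.card G).factorization (ringChar k)) := by
  classical
  have key : ∀ (P : Subgroup G), ((P.index : ℕ) : k) ≠ 0 →
      ∃ a : A, (∀ g : G, g • a = a) ∧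
        Ideal.Quotient.mk I a = Ideal.Quotient.mk I u ^ Nat.card P := by
    intro P hP
    have hidx : IsUnit (((P.index : ℕ) : A)) := by
      have := (IsUnit.mk0 _ hP).map (algebraMap k A)
      rwa [map_natCast] at this
    obtain ⟨a, ha1, ha2⟩ := Groth.Agent.H65.invariant_lift P hidx I u hu
    refine ⟨a, ha1, ?_⟩
    rw [← map_pow]
    exact Ideal.Quotient.eq.mpr ha2
  rcases CharP.char_is_prime_or_zero k (ringChar k) with hp | h0
  · haveI : Fact (ringChar k).Prime := ⟨hp⟩
    obtain ⟨P⟩ : Nonempty (Sylow (ringChar k) G) := inferInstance
    have hcard : Nat.card (P : Subgroup G) =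
        ringChar k ^ (Nat.card G).factorization (ringChar k) := P.card_eq_multiplicity
    rw [← hcard]
    apply key
    rw [Ne, CharP.cast_eq_zero_iff k (ringChar k)]
    exact P.not_dvd_index
  · rw [h0, Nat.factorization_zero_right, pow_zero]
    have h1 : Nat.card (⊥ : Subgroup G) = 1 := Subgroup.card_bot
    rw [← h1]
    apply key
    have : CharZero k := (CharP.ringChar_zero_iff_CharZero k).mp h0
    rw [Subgroup.index_bot]
    exact Nat.cast_ne_zero.mpr Nat.card_pos.ne'

end Groth.Agent.S13061
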