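import Groth.Statements.S13065
import Groth.Agent.H85.CWCoeff

set_option autoImplicit false
universe u
open Zeta

namespace Groth.Agent.S13065

/-- Let k be a finite field with q elements and characteristic p, n ≥ 2, and f ∈ k[x_0, …, x_n]
homogeneous of degree n + 1, defining the hypersurface Z ⊂ P^n_k. Then #Z(F_q) ≢ 1 (mod p) if and
only if the coefficient of (x_0 ⋯ x_n)^{q−1} in f^{q−1} is nonzero. Stated through the affine count:
#Z(F_q) ≡ 1 (mod p) exactly when p divides the number of zeros of f in k^{n+1} (as (q − 1) #Z(F_q) +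
1 is that number). -/
theorem result {k : Type u} [Field k] [Finite k] (p : ℕ)
    [CharP k p] (n : ℕ) (hn : 2 ≤ n) (f : MvPolynomial (Fin (n + 1)) k)
    (hf : f.IsHomogeneous (n + 1)) :
    p ∣ Nat.card {a : Fin (n + 1) → k // MvPolynomial.eval a f = 0} ↔
      MvPolynomial.coeff (Finsupp.equivFunOnFinite.symm fun _ : Fin (n + 1) => Nat.card k - 1)
        (f ^ (Nat.card k - 1)) = 0 := by
  classical
  have : Fintype k := Fintype.ofFinite k
  have h := Groth.Agent.H85.CWCoeff.card_zeros_cast (K := k) (σ := Fin (n + 1)) f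
    (by simpa using hf) ⟨0⟩
  rw [Nat.card_eq_fintype_card, Nat.card_eq_fintype_card, ← CharP.cast_eq_zero_iff k p]
  have h' : (Fintype.card {a : Fin (n + 1) → k // MvPolynomial.eval a f = 0} : k) =
      -(MvPolynomial.coeff (Finsupp.equivFunOnFinite.symm fun _ : Fin (n + 1) => Fintype.card k - 1)
        (f ^ (Fintype.card k - 1)) * (-1) ^ Fintype.card (Fin (n + 1))) := by
    convert h using 3
    rfl
  rw [h', neg_eq_zero, mul_eq_zero]
  constructor
  · rintro (h | h)
    · exact h
    · exact absurd h (pow_ne_zero _ (neg_ne_zero.mpr one_ne_zero))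
  · exact Or.inl

end Groth.Agent.S13065
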