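import Groth.Statements.S13070
import Groth.Agent.H65.PtCount7
-- import your own Groth.Agent.* helpers here

set_option autoImplicit false
universe u
open CategoryTheory AlgebraicGeometry
open Zeta

namespace Groth.Agent.S13070

/-- For an arithmetic scheme X (of finite type over ℤ) of dimension r there are c_X > 0 and p₀ such that
#X(F_{p^m}) ≤ c_X p^{m(r−1)} for all primes p ≥ p₀ and m ≥ 1, and #X(F_{p^m}) ≤ c_X p^{mr} for p <
p₀ and m ≥ 1. Here #X(F) is the number of morphisms Spec F → X, and the dimension is only assumed ≤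
r. -/
theorem result {X : Scheme.{u}}
    (f : X ⟶ Spec (CommRingCat.of (ULift.{u} ℤ))) [LocallyOfFiniteType f] [QuasiCompact f] (r : ℕ)
    (hr : topologicalKrullDim X ≤ r) :
    ∃ (c : ℝ) (p₀ : ℕ), 0 < c ∧ ∀ (p m : ℕ), p.Prime → 1 ≤ m →
      ∀ (F : Type u) [Field F], Nat.card F = p ^ m →
        (p₀ ≤ p → (Nat.card (Spec (CommRingCat.of F) ⟶ X) : ℝ) ≤
            c * (p : ℝ) ^ ((m : ℝ) * ((r : ℝ) - 1))) ∧
        (p < p₀ → (Nat.card (Spec (CommRingCat.of F) ⟶ X) : ℝ) ≤ c * (p : ℝ) ^ ((m : ℝ) * r)) := by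
  obtain ⟨C, p₀, h⟩ := Groth.Agent.H65.PtCount.scheme_main f r hr
  refine ⟨(C : ℝ) + 1, p₀, by positivity, fun p m hp hm F _ hF => ?_⟩
  obtain ⟨h1, h2⟩ := h p m hp hm F hF
  have hp0 : (0 : ℝ) < p := by exact_mod_cast hp.pos
  have hC : (C : ℝ) ≤ (C : ℝ) + 1 := by linarith
  constructor
  · intro hpp
    rcases h1 hpp with h0 | ⟨hr1, hle⟩
    · rw [h0]
      simp only [Nat.cast_zero]
      positivity
    · have hpow : (p : ℝ) ^ ((m : ℝ) * ((r : ℝ) - 1)) = (((p ^ m) ^ (r - 1) : ℕ) : ℝ) := by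
        push_cast
        rw [Real.rpow_mul hp0.le, Real.rpow_natCast, ← Real.rpow_natCast _ (r - 1)]
        congr 1
        rw [Nat.cast_sub hr1]
        simp
      rw [hpow]
      calc (Nat.card (Spec (CommRingCat.of F) ⟶ X) : ℝ)
          ≤ ((C * (p ^ m) ^ (r - 1) : ℕ) : ℝ) := by exact_mod_cast hle
        _ = (C : ℝ) * (((p ^ m) ^ (r - 1) : ℕ) : ℝ) := by push_cast; ring
        _ ≤ ((C : ℝ) + 1) * (((p ^ m) ^ (r - 1) : ℕ) : ℝ) := by
            apply mul_le_mul_of_nonneg_right hC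
            positivity
  · intro _
    have hpow : (p : ℝ) ^ ((m : ℝ) * (r : ℝ)) = (((p ^ m) ^ r : ℕ) : ℝ) := by
      push_cast
      rw [Real.rpow_mul hp0.le, Real.rpow_natCast, Real.rpow_natCast]
    rw [hpow]
    calc (Nat.card (Spec (CommRingCat.of F) ⟶ X) : ℝ)
        ≤ ((C * (p ^ m) ^ r : ℕ) : ℝ) := by exact_mod_cast h2
      _ = (C : ℝ) * (((p ^ m) ^ r : ℕ) : ℝ) := by push_cast; ring
      _ ≤ ((C : ℝ) + 1) * (((p ^ m) ^ r : ℕ) : ℝ) := by
          apply mul_le_mul_of_nonneg_right hC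
          positivity

end Groth.Agent.S13070
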