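import Groth.Statements.S1308
import Groth.Agent.H7.Thickening

set_option autoImplicit false
universe u
open FlatMor

namespace Groth.Agent.S1308

open AlgebraicGeometry CategoryTheory Limits in
/-- For a morphism of thickenings, that is a commutative square whose horizontal maps are thickenings
(closed immersions that are surjective on points), the morphism between the thin schemes is
universally open if and only if the morphism between the thick ones is. -/
theorem result {X X' S S' : Scheme.{u}} (iX : X ⟶ X') (iS : S ⟶ S') (f : X ⟶ S) (f' : X' ⟶ S')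
    (hX : MoreMor.IsThickening iX) (hS : MoreMor.IsThickening iS) (w : iX ≫ f' = f ≫ iS) :
    UniversallyOpen f ↔ UniversallyOpen f' := by
  have := hX.1
  have := hX.2
  have := hS.1
  have := hS.2
  constructor
  · intro hf
    constructor
    intro X'' Y'' i₁ i₂ f'' H
    -- T = Y'' ×_{S'} S, Q = X ×_S T
    have hT : IsPullback (pullback.fst i₂ iS) (pullback.snd i₂ iS) i₂ iS :=
      IsPullback.of_hasPullback i₂ iS
    have hQ : IsPullback (pullback.snd f (pullback.snd i₂ iS)) (pullback.fst f (pullback.snd i₂ iS))
        (pullback.snd i₂ iS) f := (IsPullback.of_hasPullback f (pullback.snd i₂ iS)).flip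
    have hout := hQ.paste_horiz hT
    have hcomm : (pullback.snd f (pullback.snd i₂ iS) ≫ pullback.fst i₂ iS) ≫ i₂ =
        (pullback.fst f (pullback.snd i₂ iS) ≫ iX) ≫ f' := by
      rw [Category.assoc, Category.assoc, w]; exact hout.w
    let m := H.lift (pullback.snd f (pullback.snd i₂ iS) ≫ pullback.fst i₂ iS)
      (pullback.fst f (pullback.snd i₂ iS) ≫ iX) hcomm
    have hm1 : m ≫ f'' = pullback.snd f (pullback.snd i₂ iS) ≫ pullback.fst i₂ iS :=
      H.lift_fst _ _ _
    have hm2 : m ≫ i₁ = pullback.fst f (pullback.snd i₂ iS) ≫ iX := H.lift_snd _ _ _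
    have hs : IsPullback (m ≫ f'') (pullback.fst f (pullback.snd i₂ iS)) i₂ (iX ≫ f') := by
      rw [hm1, w]; exact hout
    have hleft : IsPullback m (pullback.fst f (pullback.snd i₂ iS)) i₁ iX :=
      IsPullback.of_right hs hm2 H
    have hmsurj : Surjective m := MorphismProperty.of_isPullback hleft.flip ‹Surjective iX›
    have hq2 : IsOpenMap (pullback.snd f (pullback.snd i₂ iS)) :=
      (inferInstance : UniversallyOpen (pullback.snd f (pullback.snd i₂ iS))).1 _ _ _
        IsPullback.of_id_snd
    have ht1 : IsOpenMap (pullback.fst i₂ iS) :=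
      (Groth.Agent.H7.isThickening_isHomeomorph _
        (Groth.Agent.H7.isThickening_of_isPullback hT hS)).isOpenMap
    have hcomp : IsOpenMap (f'' ∘ m) := by
      have : (f'' ∘ m : _ → _) = pullback.fst i₂ iS ∘ pullback.snd f (pullback.snd i₂ iS) := by
        ext x
        simp only [Function.comp_apply, ← Scheme.Hom.comp_apply, hm1]
      rw [this]
      exact ht1.comp hq2
    exact IsOpenMap.of_comp m.continuous m.surjective hcomp
  · intro hf'
    have h1 := Groth.Agent.H7.isThickening_universallyOpen _
      (Groth.Agent.H7.isThickening_lift iX iS f f' hX hS w)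
    have h2 : UniversallyOpen (pullback.snd f' iS) := inferInstance
    have e : pullback.lift iX f w ≫ pullback.snd f' iS = f := pullback.lift_snd _ _ _
    rw [← e]
    infer_instance

end Groth.Agent.S1308
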