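import Groth.Statements.S13087
import Groth.Agent.H79.LinVarReg

set_option autoImplicit false
universe u
open Lie3Mod

namespace Groth.Agent.S13087

open MvPolynomial Groth.Agent.H79.LinVarReg

section aux

variable (A : Type u) [CommRing A]

/-- `-(f + b)`, the coefficient of `g` in `Q1`. -/
noncomputable abbrev u1 : MvPolynomial (Fin 9) A := -(X 5 + X 1)
/-- `i - a`, the coefficient of `e` in `Q2`. -/
noncomputable abbrev u2 : MvPolynomial (Fin 9) A := X 8 - X 0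
/-- `h + d`, the coefficient of `c` in `Q3`. -/
noncomputable abbrev u3 : MvPolynomial (Fin 9) A := X 7 + X 3

theorem nz_u1 (G : Set (MvPolynomial (Fin 9) A)) (hG : ∀ g ∈ G, NoVar 1 g) :
    NZ (u1 A) (Ideal.span G) := by
  have e : u1 A = (-1) * X 1 + (-X 5) := by
    unfold u1; ring
  rw [e]
  refine linear_nz 1 G hG _ _ ?_ ?_ (NZ.neg_one _)
  · exact (NoVar.one _).neg
  · exact (NoVar.X _ (by decide)).neg

theorem nz_u2 (G : Set (MvPolynomial (Fin 9) A)) (hG : ∀ g ∈ G, NoVar 8 g) :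
    NZ (u2 A) (Ideal.span G) := by
  have e : u2 A = 1 * X 8 + (-X 0) := by
    unfold u2; ring
  rw [e]
  refine linear_nz 8 G hG _ _ ?_ ?_ (NZ.one _)
  · exact NoVar.one _
  · exact (NoVar.X _ (by decide)).neg

theorem nz_u3 (G : Set (MvPolynomial (Fin 9) A)) (hG : ∀ g ∈ G, NoVar 7 g) :
    NZ (u3 A) (Ideal.span G) := by
  have e : u3 A = 1 * X 7 + X 3 := by
    unfold u3; ring
  rw [e]
  refine linear_nz 7 G hG _ _ ?_ ?_ (NZ.one _)
  · exact NoVar.one _
  · exact NoVar.X _ (by decide)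

theorem nz_Q1 (G : Set (MvPolynomial (Fin 9) A)) (hG : ∀ g ∈ G, NoVar 6 g)
    (h : NZ (u1 A) (Ideal.span G)) : NZ (Lie3Mod.Q1 A) (Ideal.span G) := by
  have e : Lie3Mod.Q1 A = u1 A * X 6 + (X 0 * X 7 + X 3 * X 8) := by
    unfold Lie3Mod.Q1 u1; ring
  rw [e]
  refine linear_nz 6 G hG _ _ ?_ ?_ h
  · exact ((NoVar.X _ (by decide)).add (NoVar.X _ (by decide))).neg
  · exact ((NoVar.X _ (by decide)).mul (NoVar.X _ (by decide))).add
      ((NoVar.X _ (by decide)).mul (NoVar.X _ (by decide)))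

theorem nz_Q2 (G : Set (MvPolynomial (Fin 9) A)) (hG : ∀ g ∈ G, NoVar 4 g)
    (h : NZ (u2 A) (Ideal.span G)) : NZ (Lie3Mod.Q2 A) (Ideal.span G) := by
  have e : Lie3Mod.Q2 A = u2 A * X 4 + (X 1 * X 3 - X 5 * X 7) := by
    unfold Lie3Mod.Q2 u2; ring
  rw [e]
  refine linear_nz 4 G hG _ _ ?_ ?_ h
  · exact (NoVar.X _ (by decide)).sub (NoVar.X _ (by decide))
  · exact ((NoVar.X _ (by decide)).mul (NoVar.X _ (by decide))).sub
      ((NoVar.X _ (by decide)).mul (NoVar.X _ (by decide)))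

theorem nz_Q3 (G : Set (MvPolynomial (Fin 9) A)) (hG : ∀ g ∈ G, NoVar 2 g)
    (h : NZ (u3 A) (Ideal.span G)) : NZ (Lie3Mod.Q3 A) (Ideal.span G) := by
  have e : Lie3Mod.Q3 A = u3 A * X 2 + (-(X 0 * X 5) - X 1 * X 8) := by
    unfold Lie3Mod.Q3 u3; ring
  rw [e]
  refine linear_nz 2 G hG _ _ ?_ ?_ h
  · exact (NoVar.X _ (by decide)).add (NoVar.X _ (by decide))
  · exact ((NoVar.X _ (by decide)).mul (NoVar.X _ (by decide))).neg.sub
      ((NoVar.X _ (by decide)).mul (NoVar.X _ (by decide)))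

theorem noVar_u1 (v : Fin 9) (h5 : (5 : Fin 9) ≠ v) (h1 : (1 : Fin 9) ≠ v) : NoVar v (u1 A) :=
  ((NoVar.X _ h5).add (NoVar.X _ h1)).neg

theorem noVar_u2 (v : Fin 9) (h8 : (8 : Fin 9) ≠ v) (h0 : (0 : Fin 9) ≠ v) : NoVar v (u2 A) :=
  (NoVar.X _ h8).sub (NoVar.X _ h0)

theorem noVar_u3 (v : Fin 9) (h7 : (7 : Fin 9) ≠ v) (h3 : (3 : Fin 9) ≠ v) : NoVar v (u3 A) :=
  (NoVar.X _ h7).add (NoVar.X _ h3)

theorem noVar_Q1 (v : Fin 9) (h0 : (0 : Fin 9) ≠ v) (h7 : (7 : Fin 9) ≠ v) (h3 : (3 : Fin 9) ≠ v)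
    (h8 : (8 : Fin 9) ≠ v) (h5 : (5 : Fin 9) ≠ v) (h6 : (6 : Fin 9) ≠ v) (h1 : (1 : Fin 9) ≠ v) :
    NoVar v (Lie3Mod.Q1 A) := by
  unfold Lie3Mod.Q1
  exact ((((NoVar.X _ h0).mul (NoVar.X _ h7)).add ((NoVar.X _ h3).mul (NoVar.X _ h8))).sub
    ((NoVar.X _ h5).mul (NoVar.X _ h6))).sub ((NoVar.X _ h1).mul (NoVar.X _ h6))

theorem noVar_Q2 (v : Fin 9) (h0 : (0 : Fin 9) ≠ v) (h7 : (7 : Fin 9) ≠ v) (h3 : (3 : Fin 9) ≠ v)
    (h8 : (8 : Fin 9) ≠ v) (h5 : (5 : Fin 9) ≠ v) (h4 : (4 : Fin 9) ≠ v) (h1 : (1 : Fin 9) ≠ v) :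
    NoVar v (Lie3Mod.Q2 A) := by
  unfold Lie3Mod.Q2
  exact ((((NoVar.X _ h8).mul (NoVar.X _ h4)).add ((NoVar.X _ h1).mul (NoVar.X _ h3))).sub
    ((NoVar.X _ h5).mul (NoVar.X _ h7))).sub ((NoVar.X _ h0).mul (NoVar.X _ h4))

theorem forall_insert {v : Fin 9} {x : MvPolynomial (Fin 9) A} {G : Set (MvPolynomial (Fin 9) A)}
    (hx : NoVar v x) (hG : ∀ g ∈ G, NoVar v g) : ∀ g ∈ insert x G, NoVar v g := by
  intro g hg
  rcases hg with rfl | hg
  · exact hx
  · exact hG g hg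

theorem forall_empty (v : Fin 9) : ∀ g ∈ (∅ : Set (MvPolynomial (Fin 9) A)), NoVar v g := by
  intro g hg
  exact absurd hg (Set.notMem_empty g)

/-- `Q1` is a non-zero-divisor. -/
theorem step1 : NZ (Lie3Mod.Q1 A) (Ideal.span ∅) :=
  nz_Q1 A ∅ (forall_empty A _) (nz_u1 A ∅ (forall_empty A _))

theorem u2_mod_Q1 : NZ (u2 A) (Ideal.span (insert (Lie3Mod.Q1 A) ∅)) := by
  refine swap_nz ∅ (u2 A) (Lie3Mod.Q1 A) (nz_u2 A ∅ (forall_empty A _)) ?_
  refine nz_Q1 A _ (forall_insert A (noVar_u2 A _ (by decide) (by decide)) (forall_empty A _)) ?_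
  exact nz_u1 A _ (forall_insert A (noVar_u2 A _ (by decide) (by decide)) (forall_empty A _))

/-- `Q2` is a non-zero-divisor modulo `Q1`. -/
theorem step2 : NZ (Lie3Mod.Q2 A) (Ideal.span (insert (Lie3Mod.Q1 A) ∅)) :=
  nz_Q2 A _ (forall_insert A
    (noVar_Q1 A _ (by decide) (by decide) (by decide) (by decide) (by decide) (by decide) (by decide))
    (forall_empty A _)) (u2_mod_Q1 A)

theorem u3_mod_Q1 : NZ (u3 A) (Ideal.span (insert (Lie3Mod.Q1 A) ∅)) := by
  refine swap_nz ∅ (u3 A) (Lie3Mod.Q1 A) (nz_u3 A ∅ (forall_empty A _)) ?_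
  refine nz_Q1 A _ (forall_insert A (noVar_u3 A _ (by decide) (by decide)) (forall_empty A _)) ?_
  exact nz_u1 A _ (forall_insert A (noVar_u3 A _ (by decide) (by decide)) (forall_empty A _))

theorem u2_mod_Q1_u3 : NZ (u2 A) (Ideal.span (insert (Lie3Mod.Q1 A) (insert (u3 A) ∅))) := by
  refine swap_nz _ (u2 A) (Lie3Mod.Q1 A) (nz_u2 A _
    (forall_insert A (noVar_u3 A _ (by decide) (by decide)) (forall_empty A _))) ?_
  refine nz_Q1 A _ (forall_insert A (noVar_u2 A _ (by decide) (by decide))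
    (forall_insert A (noVar_u3 A _ (by decide) (by decide)) (forall_empty A _))) ?_
  exact nz_u1 A _ (forall_insert A (noVar_u2 A _ (by decide) (by decide))
    (forall_insert A (noVar_u3 A _ (by decide) (by decide)) (forall_empty A _)))

theorem Q2_mod_u3_Q1 : NZ (Lie3Mod.Q2 A) (Ideal.span (insert (u3 A) (insert (Lie3Mod.Q1 A) ∅))) := by
  rw [Set.insert_comm]
  refine nz_Q2 A _ (forall_insert A
    (noVar_Q1 A _ (by decide) (by decide) (by decide) (by decide) (by decide) (by decide) (by decide))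
    (forall_insert A (noVar_u3 A _ (by decide) (by decide)) (forall_empty A _))) (u2_mod_Q1_u3 A)

theorem u3_mod_Q2_Q1 :
    NZ (u3 A) (Ideal.span (insert (Lie3Mod.Q2 A) (insert (Lie3Mod.Q1 A) ∅))) :=
  swap_nz _ (u3 A) (Lie3Mod.Q2 A) (u3_mod_Q1 A) (Q2_mod_u3_Q1 A)

/-- `Q3` is a non-zero-divisor modulo `(Q1, Q2)`. -/
theorem step3 : NZ (Lie3Mod.Q3 A) (Ideal.span (insert (Lie3Mod.Q2 A) (insert (Lie3Mod.Q1 A) ∅))) :=
  nz_Q3 A _ (forall_insert A
    (noVar_Q2 A _ (by decide) (by decide) (by decide) (by decide) (by decide) (by decide) (by decide))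
    (forall_insert A
      (noVar_Q1 A _ (by decide) (by decide) (by decide) (by decide) (by decide) (by decide) (by decide))
      (forall_empty A _))) (u3_mod_Q2_Q1 A)

theorem noVar_L1 (v : Fin 9) (h0 : (0 : Fin 9) ≠ v) (h8 : (8 : Fin 9) ≠ v) :
    NoVar v (Lie3Mod.L1 A) := by
  unfold Lie3Mod.L1
  exact (NoVar.X _ h0).sub (NoVar.X _ h8)

theorem noVar_L2 (v : Fin 9) (h1 : (1 : Fin 9) ≠ v) (h5 : (5 : Fin 9) ≠ v) :
    NoVar v (Lie3Mod.L2 A) := by
  unfold Lie3Mod.L2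
  exact (NoVar.X _ h1).add (NoVar.X _ h5)

theorem lin1 : NZ (Lie3Mod.L1 A) (Ideal.span ∅) := by
  have e : Lie3Mod.L1 A = 1 * X 0 + (-X 8) := by
    unfold Lie3Mod.L1; ring
  rw [e]
  exact linear_nz 0 ∅ (forall_empty A _) _ _ (NoVar.one _) (NoVar.X _ (by decide)).neg (NZ.one _)

theorem lin2 : NZ (Lie3Mod.L2 A) (Ideal.span (insert (Lie3Mod.L1 A) ∅)) := by
  have e : Lie3Mod.L2 A = 1 * X 1 + X 5 := by
    unfold Lie3Mod.L2; ring
  rw [e]
  exact linear_nz 1 _ (forall_insert A (noVar_L1 A _ (by decide) (by decide)) (forall_empty A _))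
    _ _ (NoVar.one _) (NoVar.X _ (by decide)) (NZ.one _)

theorem lin3 : NZ (Lie3Mod.L3 A)
    (Ideal.span (insert (Lie3Mod.L2 A) (insert (Lie3Mod.L1 A) ∅))) := by
  have e : Lie3Mod.L3 A = 1 * X 3 + X 7 := by
    unfold Lie3Mod.L3; ring
  rw [e]
  exact linear_nz 3 _ (forall_insert A (noVar_L2 A _ (by decide) (by decide))
    (forall_insert A (noVar_L1 A _ (by decide) (by decide)) (forall_empty A _)))
    _ _ (NoVar.one _) (NoVar.X _ (by decide)) (NZ.one _)

theorem one_notMem [Nontrivial A] (x₁ x₂ x₃ : MvPolynomial (Fin 9) A)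
    (h1 : constantCoeff x₁ = 0) (h2 : constantCoeff x₂ = 0) (h3 : constantCoeff x₃ = 0) :
    (1 : MvPolynomial (Fin 9) A) ∉ Ideal.span ({x₁, x₂, x₃} : Set (MvPolynomial (Fin 9) A)) := by
  intro h
  have hle : Ideal.span ({x₁, x₂, x₃} : Set (MvPolynomial (Fin 9) A)) ≤
      RingHom.ker (constantCoeff : MvPolynomial (Fin 9) A →+* A) := by
    rw [Ideal.span_le]
    intro x hx
    simp only [Set.mem_insert_iff, Set.mem_singleton_iff] at hx
    rcases hx with rfl | rfl | rfl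
    · exact h1
    · exact h2
    · exact h3
  have h0 := hle h
  rw [RingHom.mem_ker, map_one] at h0
  exact one_ne_zero h0

end aux

/-- Let A be a nontrivial commutative ring and D = A[a,b,c,d,e,f,g,h,i] the polynomial ring in nine
variables. Then the linear forms a − i, b + f, d + h form a regular sequence on D, and so do the
three Jacobi polynomials Q1 = ah + di − fg − bg, Q2 = ie + bd − fh − ae, Q3 = hc + dc − af − bi
(each term is a non-zero-divisor on the quotient of D by the preceding terms, and the quotient by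
all three is non-zero). (The published statement is made with a regular base ring in force; the
printed argument does not use that hypothesis, and the statement is given here over every nontrivial
commutative base ring.) -/
theorem result (A : Type u) [CommRing A] [Nontrivial A] :
    RingTheory.Sequence.IsRegular (Lie3Mod.D A) [Lie3Mod.L1 A, Lie3Mod.L2 A, Lie3Mod.L3 A] ∧
      RingTheory.Sequence.IsRegular (Lie3Mod.D A) [Lie3Mod.Q1 A, Lie3Mod.Q2 A, Lie3Mod.Q3 A] := by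
  constructor
  · refine isRegular_three _ _ _ (lin1 A) ?_ ?_ ?_
    · have := lin2 A
      rwa [insert_empty_eq] at this
    · have := lin3 A
      rwa [insert_empty_eq] at this
    · apply one_notMem
      · simp [Lie3Mod.L1]
      · simp [Lie3Mod.L2]
      · simp [Lie3Mod.L3]
  · refine isRegular_three _ _ _ (step1 A) ?_ ?_ ?_
    · have := step2 A
      rwa [insert_empty_eq] at this
    · have := step3 A
      rwa [insert_empty_eq] at this
    · apply one_notMem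
      · simp [Lie3Mod.Q1]
      · simp [Lie3Mod.Q2]
      · simp [Lie3Mod.Q3]

end Groth.Agent.S13087
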