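import Groth.Statements.S13089
import Groth.Agent.H65.Lie3ModC
import Groth.Agent.Lead.RegularLocal
-- import your own Groth.Agent.* helpers here

set_option autoImplicit false
universe u
open Lie3Mod

namespace Groth.Agent.S13089

open MvPolynomial Groth.Agent.H65.L3

attribute [local instance] MvPolynomial.algebraMvPolynomial

lemma map_idJ (A B : Type u) [CommRing A] [CommRing B] (φ : A →+* B) :
    Ideal.map (MvPolynomial.map φ : D A →+* D B) (idJ A) = idJ B := by
  rw [idJ, Ideal.map_span, idJ]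
  congr 1
  simp [Set.image_insert_eq, Q1, Q2, Q3, detM]

lemma map_idI_le (A B : Type u) [CommRing A] [CommRing B] (φ : A →+* B) :
    Ideal.map (MvPolynomial.map φ : D A →+* D B) (idI A) ≤ idI B := by
  rw [idI, Ideal.map_span, idI]
  apply le_of_eq
  congr 1
  simp [Set.image_insert_eq, Q1, Q2, Q3]

lemma mem_J_of_L1_mul (A : Type u) [CommRing A] [IsRegularRing A] (x : D A)
    (h1 : L1 A * x ∈ idI A) : x ∈ idJ A := by
  by_contra hxJ
  let 𝔞 : Ideal A := Ideal.comap (C : A →+* D A) ((idJ A).colon ({x} : Set (D A)))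
  have h𝔞 : ∀ a : A, a ∈ 𝔞 ↔ C a * x ∈ idJ A := by
    intro a
    simp only [𝔞, Ideal.mem_comap, Submodule.mem_colon_singleton, smul_eq_mul]
  have hne : 𝔞 ≠ ⊤ := by
    intro h
    have : (1 : A) ∈ 𝔞 := by rw [h]; trivial
    rw [h𝔞] at this
    simp at this
    exact hxJ this
  obtain ⟨𝔪, h𝔪, hle⟩ := Ideal.exists_le_maximal 𝔞 hne
  have : 𝔪.IsPrime := h𝔪.isPrime
  let Ap := Localization.AtPrime 𝔪
  have : IsDomain Ap := Groth.Agent.Lead.RLR.isDomain Ap
  let φ : A →+* Ap := algebraMap A Ap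
  have h2 : MvPolynomial.map φ (L1 A * x) ∈ idJ Ap :=
    idI_le_idJ Ap (map_idI_le A Ap φ (Ideal.mem_map_of_mem _ h1))
  have h3 : MvPolynomial.map φ (L1 A) = L1 Ap := by simp [L1]
  rw [map_mul, h3] at h2
  have h4 : MvPolynomial.map φ x ∈ idJ Ap :=
    ((idJ_isPrime Ap).mem_or_mem h2).resolve_left (L1_not_mem_J Ap)
  rw [← map_idJ A Ap φ] at h4
  have h5 : algebraMap (D A) (D Ap) x ∈ Ideal.map (algebraMap (D A) (D Ap)) (idJ A) := h4
  rw [IsLocalization.mem_map_algebraMap_iff (𝔪.primeCompl.map (C (σ := Fin 9)))] at h5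
  obtain ⟨⟨⟨j, hj⟩, ⟨s, hs⟩⟩, h6⟩ := h5
  obtain ⟨a, ha, rfl⟩ := hs
  simp only at h6
  rw [← map_mul, IsLocalization.eq_iff_exists (𝔪.primeCompl.map (C (σ := Fin 9)))] at h6
  obtain ⟨⟨c, hc⟩, h7⟩ := h6
  obtain ⟨a', ha', rfl⟩ := hc
  simp only at h7
  have h8 : a' * a ∈ 𝔞 := by
    rw [h𝔞, map_mul]
    have : C a' * C a * x = C a' * (x * C a) := by ring
    rw [this, h7]
    exact Ideal.mul_mem_left _ _ hj
  have h9 : a' * a ∈ 𝔪 := hle h8
  rcases (inferInstance : 𝔪.IsPrime).mem_or_mem h9 with h | h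
  · exact ha' h
  · exact ha h

/-- Let A be a regular commutative ring (Noetherian with regular localizations) and D =
A[a,b,c,d,e,f,g,h,i]. With I = (Q1, Q2, Q3) the Jacobi ideal (Q1 = ah + di − fg − bg, Q2 = ie + bd −
fh − ae, Q3 = hc + dc − af − bi), L = (a − i, b + f, d + h) and det M = −ch² + gbf + ei² − gec + hbi
− ihf, the colon ideal (I : L) = {x ∈ D | xL ⊆ I} equals J = I + (det M). (The printed statement
also says that this ideal is perfect of height 3; that clause is not restated here.) -/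
theorem result (A : Type u) [CommRing A] [IsRegularRing A] :
    (Lie3Mod.idI A).colon (Lie3Mod.idL A : Set (Lie3Mod.D A)) = Lie3Mod.idJ A := by
  apply le_antisymm
  · intro x hx
    rw [Submodule.mem_colon] at hx
    have h1 : L1 A * x ∈ idI A := by simpa [mul_comm] using hx (L1 A) (L1_mem_L A)
    exact mem_J_of_L1_mul A x h1
  · intro x hx
    rw [Submodule.mem_colon]
    intro l hl
    simpa [mul_comm] using mul_mem_I_of_mem_L_of_mem_J A hl hx

end Groth.Agent.S13089
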