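import Groth.Statements.S1309
import Groth.Agent.H7.ThickeningAffine
import Groth.Agent.H7.NilpotentLift

set_option autoImplicit false
universe u
open FlatMor

namespace Groth.Agent.S1309

open AlgebraicGeometry CategoryTheory Limits in
/-- Let S ⟶ S' be a finite order thickening and let X be the base change of a scheme X' over S' to S (so
X ⟶ X' is again a thickening). Then X ⟶ S is locally of finite type if and only if X' ⟶ S' is. -/
theorem result {X X' S S' : Scheme.{u}} (iX : X ⟶ X') (iS : S ⟶ S') (f : X ⟶ S) (f' : X' ⟶ S')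
    (hS : MoreMor.IsFiniteOrderThickening iS) (hc : IsPullback iX f f' iS) :
    LocallyOfFiniteType f ↔ LocallyOfFiniteType f' := by
  have hY := hS.1
  constructor
  · intro hf
    rw [HasRingHomProperty.iff_appLE (P := @LocallyOfFiniteType)]
    intro V' U' e
    obtain ⟨hVa, hUa, e', hpo, hsurj, -⟩ := Groth.Agent.H7.thickening_affine_data hY hc V'.2 U'.2 e
    have hQ : (f.appLE (iS ⁻¹ᵁ V'.1) (iX ⁻¹ᵁ U'.1) e').hom.FiniteType :=
      HasRingHomProperty.appLE @LocallyOfFiniteType f hf ⟨_, hVa⟩ ⟨_, hUa⟩ e'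
    obtain ⟨hβ, hker⟩ := Groth.Agent.H7.surjective_and_ker_of_isPushout hpo hsurj
    obtain ⟨n, hn⟩ := Groth.Agent.H7.finiteOrderThickening_ker_pow hS
    exact Groth.Agent.H7.ringHom_finiteType_of_nilpotent _ _ _ _
      (congr($(hpo.w).hom)) hsurj hβ hker.le (hn V'.1 V'.2) hQ
  · intro hf'
    exact MorphismProperty.of_isPullback hc hf'

end Groth.Agent.S1309
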