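import Groth.Statements.S13097
import Mathlib
-- import your own Groth.Agent.* helpers here

set_option autoImplicit false
universe u
open FlatMor

namespace Groth.Agent.S13097

open CategoryTheory AlgebraicGeometry Limits TopologicalSpace

lemma dense_of_schematicallyDense {X : Scheme.{u}} (W : X.Opens)
    (h : CInt.IsSchematicallyDense W) : Dense (W : Set X) := by
  rw [dense_iff_inter_open]
  intro V hV hVne
  by_contra hcon
  rw [Set.not_nonempty_iff_eq_empty] at hcon
  let V' : X.Opens := ⟨V, hV⟩
  have hbot : V' ⊓ W = ⊥ := by
    ext x
    simp only [Opens.coe_inf, Opens.coe_bot]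
    exact Set.ext_iff.mp hcon x
  have hinj := h V'
  have hsub : Subsingleton Γ(X, V') := by
    have : Subsingleton Γ(X, V' ⊓ W) := by rw [hbot]; infer_instance
    exact hinj.subsingleton
  have hV' : V' = ⊥ := by
    rw [← X.basicOpen_one (U := V'), Subsingleton.elim (1 : Γ(X, V')) 0, X.basicOpen_zero]
  obtain ⟨x, hx⟩ := hVne
  have : x ∈ V' := hx
  rw [hV'] at this
  exact this

open CategoryTheory AlgebraicGeometry in
/-- Let f : X → S be a quasi-compact, separated morphism of schemes with a section e : S → X (e followed
by f is the identity of S), and U ⊆ S an open subscheme such that f⁻¹(U) is schematically dense in X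
(for every open V of X, restriction of functions from V to V ∩ f⁻¹(U) is injective) and such that
the restriction f⁻¹(U) → U of f is a homeomorphism of underlying spaces. Then f is universally a
homeomorphism (every base change of f is a homeomorphism), and f is finite as soon as it is locally
of finite type. (The published statement also lists surjectivity of f, which a section forces, and
offers as an alternative to the section the hypothesis that f be flat, still with f⁻¹(U) → U only a
homeomorphism; that flat alternative fails: the spectrum of a separable quadratic field extension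
over the spectrum of the ground field, with U the whole base, is flat, surjective, quasi-compact,
separated and a homeomorphism over U, yet not universally injective. Only the case of a section,
whose published proof is complete, is stated here.) -/
theorem result {X S : Scheme.{u}} (f : X ⟶ S)
    [QuasiCompact f] [IsSeparated f] (U : S.Opens)
    (hdense : CInt.IsSchematicallyDense (f ⁻¹ᵁ U)) (hU : IsHomeomorph (f ∣_ U).base)
    (e : S ⟶ X) (he : e ≫ f = 𝟙 S) :
    FlatMor.IsUnivHomeo f ∧ (LocallyOfFiniteType f → IsFinite f) := by
  have hcl : IsClosedImmersion e := by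
    have : IsClosedImmersion (e ≫ f) := by rw [he]; infer_instance
    exact IsClosedImmersion.of_comp e f
  have hfe : ∀ s : S, f.base (e.base s) = s := by
    intro s
    have := congrArg (fun φ => φ.base s) he
    simpa using this
  -- injectivity of f on f⁻¹U
  have hinjU : ∀ x y : X, f.base x ∈ U → f.base x = f.base y → x = y := by
    intro x y hx hxy
    have hy : f.base y ∈ U := hxy ▸ hx
    let x' : ↥(f ⁻¹ᵁ U) := ⟨x, hx⟩
    let y' : ↥(f ⁻¹ᵁ U) := ⟨y, hy⟩
    have h3 : (f ∣_ U).base x' = (f ∣_ U).base y' := by
      apply U.ι.isOpenEmbedding.injective
      have h1 := congrArg (fun φ => φ.base x') (morphismRestrict_ι f U)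
      have h2 := congrArg (fun φ => φ.base y') (morphismRestrict_ι f U)
      simp only [Scheme.Hom.comp_base, TopCat.hom_comp, ContinuousMap.comp_apply] at h1 h2
      rw [h1, h2]
      exact hxy
    have h4 := hU.injective h3
    exact congrArg Subtype.val h4
  have hsurj : Function.Surjective e.base := by
    have hrange : IsClosed (Set.range e.base) := e.isClosedEmbedding.isClosed_range
    have hsub : ((f ⁻¹ᵁ U : X.Opens) : Set X) ⊆ Set.range e.base := by
      intro x hx
      refine ⟨f.base x, ?_⟩
      symm
      exact hinjU x (e.base (f.base x)) hx (hfe _).symm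
    have hd := dense_of_schematicallyDense _ hdense
    have : Set.range e.base = Set.univ := by
      apply Set.eq_univ_of_univ_subset
      rw [← hd.closure_eq]
      exact closure_minimal hsub hrange
    exact Set.range_eq_univ.mp this
  have hSurj : Surjective e := ⟨hsurj⟩
  -- universal homeomorphism
  have huniv : FlatMor.IsUnivHomeo f := by
    intro X' S' i₁ i₂ f' hpb
    let e' : S' ⟶ X' := hpb.lift (𝟙 S') (i₂ ≫ e)
      (by rw [Category.id_comp, Category.assoc, he, Category.comp_id])
    have he'1 : e' ≫ f' = 𝟙 S' := hpb.lift_fst _ _ _
    have he'2 : e' ≫ i₁ = i₂ ≫ e := hpb.lift_snd _ _ _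
    have hleft : IsPullback e' i₂ i₁ e := by
      refine IsPullback.of_right ?_ he'2 hpb
      rw [he'1, he]
      exact IsPullback.of_horiz_isIso ⟨by simp⟩
    have hcl' : IsClosedImmersion e' :=
      MorphismProperty.of_isPullback (P := @IsClosedImmersion) hleft.flip hcl
    have hSurj' : Surjective e' :=
      MorphismProperty.of_isPullback (P := @Surjective) hleft.flip hSurj
    have hhomeo : IsHomeomorph e'.base :=
      isHomeomorph_iff_isEmbedding_surjective.mpr
        ⟨e'.isClosedEmbedding.isEmbedding, hSurj'.surj⟩
    have hfe' : ∀ s : S', f'.base (e'.base s) = s := by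
      intro s
      have := congrArg (fun φ => φ.base s) he'1
      simpa using this
    change IsHomeomorph f'.base
    let h := hhomeo.homeomorph
    have : (f'.base : X' → S') = h.symm := by
      funext x
      obtain ⟨s, rfl⟩ := hSurj'.surj x
      rw [hfe']
      symm
      rw [Homeomorph.symm_apply_eq]
      rfl
    rw [this]
    exact h.symm.isHomeomorph
  refine ⟨huniv, ?_⟩
  intro hlft
  have hUC : UniversallyClosed f := by
    constructor
    intro X' S' i₁ i₂ f' hpb
    exact (huniv i₁ i₂ f' hpb).isClosedMap
  have hprop : IsProper f := {}
  have hinj : Function.Injective f.base := by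
    intro x y hxy
    obtain ⟨s, rfl⟩ := hsurj x
    obtain ⟨t, rfl⟩ := hsurj y
    rw [hfe, hfe] at hxy
    rw [hxy]
  have hqf : LocallyQuasiFinite f := LocallyQuasiFinite.of_injective hinj
  exact IsFinite.of_isProper_of_locallyQuasiFinite f

end Groth.Agent.S13097
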