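import Groth.Statements.S13098
import Mathlib
-- import your own Groth.Agent.* helpers here

set_option autoImplicit false
universe u v
open Lie3Mod

namespace Groth.Agent.S13098

/-- Let R be a commutative ring, M an R-module with a basis x = bs 0, y = bs 1, z = bs 2 indexed by Fin
3, and B an R-bilinear alternating map on M (B m m = 0) with B x y = a x + b y + c z, B x z = d x +
e y + f z and B y z = g x + h y + i z. Then B satisfies the Jacobi identity for all triples if and
only if the three Jacobi polynomials vanish: ah + di − fg − bg = 0, ie + bd − fh − ae = 0 and hc +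
dc − af − bi = 0. (This is the statement that Lie brackets on a based free module of rank 3 are the
points of the closed subscheme of affine 9-space defined by these three equations.) -/
theorem result (R : Type u) [CommRing R] (M : Type v) [AddCommGroup M] [Module R M]
    (bs : Module.Basis (Fin 3) R M) (B : M →ₗ[R] M →ₗ[R] M) (halt : ∀ m : M, B m m = 0)
    (a b c d e f g h i : R)
    (hxy : B (bs 0) (bs 1) = a • bs 0 + b • bs 1 + c • bs 2)
    (hxz : B (bs 0) (bs 2) = d • bs 0 + e • bs 1 + f • bs 2)
    (hyz : B (bs 1) (bs 2) = g • bs 0 + h • bs 1 + i • bs 2) :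
    (∀ u v w : M, B u (B v w) + B v (B w u) + B w (B u v) = 0) ↔
      (a * h + d * i - f * g - b * g = 0 ∧ i * e + b * d - f * h - a * e = 0 ∧
        h * c + d * c - a * f - b * i = 0) := by
  have hanti : ∀ m n : M, B m n = -B n m := by
    intro m n
    have h1 := halt (m + n)
    simp only [map_add, LinearMap.add_apply, halt, zero_add, add_zero] at h1
    exact eq_neg_of_add_eq_zero_right h1
  set x := bs 0 with hx
  set y := bs 1 with hy
  set z := bs 2 with hz
  have hxx : B x x = 0 := halt x
  have hyy : B y y = 0 := halt y
  have hzz : B z z = 0 := halt z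
  have hyx : B y x = -(a • x + b • y + c • z) := by rw [hanti, hxy]
  have hzx : B z x = -(d • x + e • y + f • z) := by rw [hanti, hxz]
  have hzy : B z y = -(g • x + h • y + i • z) := by rw [hanti, hyz]
  have hJ : B x (B y z) + B y (B z x) + B z (B x y) =
      (a * h + d * i - f * g - b * g) • x + (i * e + b * d - f * h - a * e) • y +
        (h * c + d * c - a * f - b * i) • z := by
    rw [hyz, hzx, hxy]
    simp only [map_add, map_smul, map_neg, hxx, hyy, hzz, hxy, hxz, hyz, hyx, hzx, hzy]
    module
  constructor
  · intro hjac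
    have h0 := hjac x y z
    rw [hJ] at h0
    have hrepr := congrArg bs.repr h0
    simp only [map_add, map_smul, map_zero, hx, hy, hz, Module.Basis.repr_self] at hrepr
    refine ⟨?_, ?_, ?_⟩
    · have := DFunLike.congr_fun hrepr 0
      simpa using this
    · have := DFunLike.congr_fun hrepr 1
      simpa using this
    · have := DFunLike.congr_fun hrepr 2
      simpa using this
  · rintro ⟨hQ1, hQ2, hQ3⟩ u v w
    have hu : u = bs.repr u 0 • x + bs.repr u 1 • y + bs.repr u 2 • z := by
      conv_lhs => rw [← bs.sum_repr u, Fin.sum_univ_three]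
    have hv : v = bs.repr v 0 • x + bs.repr v 1 • y + bs.repr v 2 • z := by
      conv_lhs => rw [← bs.sum_repr v, Fin.sum_univ_three]
    have hw : w = bs.repr w 0 • x + bs.repr w 1 • y + bs.repr w 2 • z := by
      conv_lhs => rw [← bs.sum_repr w, Fin.sum_univ_three]
    generalize bs.repr u 0 = u0 at hu
    generalize bs.repr u 1 = u1 at hu
    generalize bs.repr u 2 = u2 at hu
    generalize bs.repr v 0 = v0 at hv
    generalize bs.repr v 1 = v1 at hv
    generalize bs.repr v 2 = v2 at hv
    generalize bs.repr w 0 = w0 at hw
    generalize bs.repr w 1 = w1 at hw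
    generalize bs.repr w 2 = w2 at hw
    subst hu hv hw
    simp only [map_add, map_smul, map_neg, LinearMap.add_apply, LinearMap.smul_apply,
      hxx, hyy, hzz, hxy, hxz, hyz, hyx, hzx, hzy, smul_add, smul_neg,
      smul_zero, add_zero, zero_add]
    linear_combination (norm := module)
      ((u0 * (v1 * w2 - v2 * w1) - u1 * (v0 * w2 - v2 * w0) + u2 * (v0 * w1 - v1 * w0)) * hQ1) • x +
      ((u0 * (v1 * w2 - v2 * w1) - u1 * (v0 * w2 - v2 * w0) + u2 * (v0 * w1 - v1 * w0)) * hQ2) • y +
      ((u0 * (v1 * w2 - v2 * w1) - u1 * (v0 * w2 - v2 * w0) + u2 * (v0 * w1 - v1 * w0)) * hQ3) • z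

end Groth.Agent.S13098
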