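import Groth.Statements.S13100
import Mathlib.RingTheory.Henselian
import Mathlib.RingTheory.AdicCompletion.Completeness

set_option autoImplicit false
universe u
open GrpSch

namespace Groth.Agent.S13100

/-- Let k be an algebraically closed field of characteristic different from 2 and K = k((t)) the field
of Laurent series over k. Then a non-zero Laurent series f is a square in K if and only if its order
in t is even; consequently the group Kˣ/Kˣ² of non-zero elements modulo squares has exactly two
elements, represented by 1 and t. -/
theorem result (k : Type u) [Field k] [IsAlgClosed k] (h2 : (2 : k) ≠ 0)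
    (f : LaurentSeries k) (hf : f ≠ 0) : IsSquare f ↔ Even f.order := by
  classical
  -- square roots of power series with nonzero constant coefficient
  have sqrt_ps : ∀ u : PowerSeries k, PowerSeries.constantCoeff u ≠ 0 → ∃ v : PowerSeries k, v * v = u := by
    intro u hu
    obtain ⟨a, ha⟩ := IsAlgClosed.exists_pow_nat_eq (PowerSeries.constantCoeff u) (n := 2) (by norm_num)
    have ha0 : a ≠ 0 := by
      rintro rfl
      apply hu
      rw [← ha]; simp
    let g : Polynomial (PowerSeries k) := Polynomial.X ^ 2 - Polynomial.C u
    have hg : g.Monic := Polynomial.monic_X_pow_sub_C u (by norm_num)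
    have h1 : g.eval (PowerSeries.C a) ∈ Ideal.span {(PowerSeries.X : PowerSeries k)} := by
      rw [Ideal.mem_span_singleton, PowerSeries.X_dvd_iff]
      simp [g, ha]
    have h2 : IsUnit (Ideal.Quotient.mk (Ideal.span {(PowerSeries.X : PowerSeries k)})
        (g.derivative.eval (PowerSeries.C a))) := by
      apply IsUnit.map
      rw [PowerSeries.isUnit_iff_constantCoeff]
      have : (PowerSeries.constantCoeff (g.derivative.eval (PowerSeries.C a)) : k) = 2 * a := by
        simp [g]
        exact Or.inl one_add_one_eq_two
      rw [this]
      exact (mul_ne_zero h2 ha0).isUnit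
    obtain ⟨v, hv, -⟩ := HenselianRing.is_henselian (I := Ideal.span {(PowerSeries.X : PowerSeries k)})
      g hg (PowerSeries.C a) h1 h2
    refine ⟨v, ?_⟩
    have : v ^ 2 - u = 0 := by simpa [g, Polynomial.IsRoot] using hv
    rw [← sub_eq_zero, ← this]; ring
  constructor
  · rintro ⟨r, hr⟩
    have hr0 : r ≠ 0 := by
      rintro rfl
      exact hf (by simpa using hr)
    rw [hr, HahnSeries.order_mul hr0 hr0]
    exact ⟨r.order, rfl⟩
  · rintro ⟨m, hm⟩
    have hc : PowerSeries.constantCoeff f.powerSeriesPart ≠ 0 := by
      rw [← PowerSeries.coeff_zero_eq_constantCoeff_apply, LaurentSeries.powerSeriesPart_coeff]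
      simpa using (HahnSeries.coeff_order_eq_zero (x := f)).not.2 hf
    obtain ⟨v, hv⟩ := sqrt_ps _ hc
    refine ⟨HahnSeries.single m 1 * HahnSeries.ofPowerSeries ℤ k v, ?_⟩
    have h3 := LaurentSeries.single_order_mul_powerSeriesPart f
    rw [hm, ← hv] at h3
    rw [← h3, map_mul]
    have : (HahnSeries.single (m + m) (1 : k)) = HahnSeries.single m 1 * HahnSeries.single m 1 := by
      rw [HahnSeries.single_mul_single]; simp
    rw [this]
    ring

end Groth.Agent.S13100
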