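import Groth.Statements.S13101
import Groth.Agent.H65.Lie3
-- import your own Groth.Agent.* helpers here

set_option autoImplicit false
universe u v
open GrpSch

namespace Groth.Agent.S13101

/-- Let A be a commutative ring in which 2 is a unit, and L a Lie algebra over A, free as a module with
basis x = bs 0, y = bs 1, z = bs 2 and brackets [x,y] = y, [x,z] = y + z, [y,z] = 0. Then for every
Lie algebra automorphism φ of L over A there are b, c, h ∈ A and a unit i of A with φ(x) = x + b y +
c z, φ(y) = i y and φ(z) = h y + i z. Only the form of an automorphism is stated, not that every map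
of this form is one. (The published statement identifies the automorphism group scheme with a
semidirect product of two additive groups by the product of the multiplicative and additive group,
for algebras over a field of Laurent series of characteristic not 2, and deduces the vanishing of
its first cohomology; this row records the determination of the automorphisms, over any base ring
with 2 invertible; the cohomological consequence is not restated.) -/
theorem result (A : Type u) [CommRing A] (h2 : IsUnit (2 : A))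
    (L : Type v) [LieRing L] [LieAlgebra A L] (bs : Module.Basis (Fin 3) A L)
    (hxy : ⁅bs 0, bs 1⁆ = bs 1) (hxz : ⁅bs 0, bs 2⁆ = bs 1 + bs 2) (hyz : ⁅bs 1, bs 2⁆ = 0)
    (φ : L ≃ₗ⁅A⁆ L) :
    ∃ b c h i : A, IsUnit i ∧ φ (bs 0) = bs 0 + b • bs 1 + c • bs 2 ∧ φ (bs 1) = i • bs 1 ∧
      φ (bs 2) = h • bs 1 + i • bs 2 := by
  set x := bs 0 with hx
  set y := bs 1 with hy
  set z := bs 2 with hz
  have hyx : ⁅y, x⁆ = -y := by rw [← lie_skew, hxy]
  have hzx : ⁅z, x⁆ = -(y + z) := by rw [← lie_skew, hxz]
  have hzy : ⁅z, y⁆ = 0 := by rw [← lie_skew, hyz, neg_zero]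
  -- general bracket formula
  have hbr : ∀ u0 u1 u2 v0 v1 v2 : A,
      ⁅u0 • x + u1 • y + u2 • z, v0 • x + v1 • y + v2 • z⁆ =
        (0 : A) • x + (u0 * v1 - u1 * v0 + u0 * v2 - u2 * v0) • y + (u0 * v2 - u2 * v0) • z := by
    intro u0 u1 u2 v0 v1 v2
    simp only [lie_add, add_lie, lie_smul, smul_lie, lie_self, hxy, hxz, hyz, hyx, hzx, hzy]
    module
  have aux : ∀ ψ : L ≃ₗ⁅A⁆ L, ∃ α b c e f h i : A,
      ψ x = α • x + b • y + c • z ∧ ψ y = (0 : A) • x + e • y + f • z ∧
      ψ z = (0 : A) • x + h • y + i • z ∧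
      e = α * (e + f) ∧ f = α * f ∧ e + h = α * (h + i) ∧ f + i = α * i := by
    intro ψ
    have hX := Groth.Agent.H65.basis3_expand bs (ψ x)
    have hY := Groth.Agent.H65.basis3_expand bs (ψ y)
    have hZ := Groth.Agent.H65.basis3_expand bs (ψ z)
    generalize bs.repr (ψ x) 0 = α at hX
    generalize bs.repr (ψ x) 1 = b at hX
    generalize bs.repr (ψ x) 2 = c at hX
    generalize bs.repr (ψ y) 0 = p at hY
    generalize bs.repr (ψ y) 1 = e at hY
    generalize bs.repr (ψ y) 2 = f at hY
    generalize bs.repr (ψ z) 0 = q at hZ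
    generalize bs.repr (ψ z) 1 = h at hZ
    generalize bs.repr (ψ z) 2 = i at hZ
    rw [← hx, ← hy, ← hz] at hX hY hZ
    have h1 : ψ y = ⁅ψ x, ψ y⁆ := by rw [← LieEquiv.map_lie, hxy]
    have h2' : ψ y + ψ z = ⁅ψ x, ψ z⁆ := by rw [← LieEquiv.map_lie, hxz, map_add]
    rw [hX, hY, hbr] at h1
    obtain ⟨hp, he, hf⟩ := Groth.Agent.H65.basis3_coord bs h1
    have h2'' : (p + q) • x + (e + h) • y + (f + i) • z =
        (0 : A) • x + (α * h - b * q + α * i - c * q) • y + (α * i - c * q) • z := by
      rw [← hbr, ← hX, ← hZ, ← h2', hY, hZ]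
      module
    obtain ⟨hpq, heh, hfi⟩ := Groth.Agent.H65.basis3_coord bs h2''
    subst hp
    have hq : q = 0 := by simpa using hpq
    subst hq
    refine ⟨α, b, c, e, f, h, i, hX, hY, hZ, ?_, ?_, ?_, ?_⟩
    · linear_combination he
    · linear_combination hf
    · linear_combination heh
    · linear_combination hfi
  obtain ⟨α, b, c, e, f, h, i, hX, hY, hZ, E11, E21, E12, E22⟩ := aux φ
  obtain ⟨α', b', c', e', f', h', i', hX', hY', hZ', -, -, -, -⟩ := aux φ.symm
  -- inverse relations
  have r1 : φ.symm (φ y) = y := φ.symm_apply_apply y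
  have r2 : φ.symm (φ z) = z := φ.symm_apply_apply z
  have r3 : φ (φ.symm y) = y := φ.apply_symm_apply y
  rw [hY, map_add, map_add, map_smul, map_smul, map_smul, hX', hY', hZ'] at r1
  rw [hZ, map_add, map_add, map_smul, map_smul, map_smul, hX', hY', hZ'] at r2
  rw [hY', map_add, map_add, map_smul, map_smul, map_smul, hX, hY, hZ] at r3
  have r1' : (0 : A) • x + (e * e' + f * h') • y + (e * f' + f * i') • z =
      (0 : A) • x + (1 : A) • y + (0 : A) • z := by
    rw [← sub_eq_zero] at r1 ⊢
    rw [← r1]; module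
  have r2' : (0 : A) • x + (h * e' + i * h') • y + (h * f' + i * i') • z =
      (0 : A) • x + (0 : A) • y + (1 : A) • z := by
    rw [← sub_eq_zero] at r2 ⊢
    rw [← r2]; module
  have r3' : (0 : A) • x + (e' * e + f' * h) • y + (e' * f + f' * i) • z =
      (0 : A) • x + (1 : A) • y + (0 : A) • z := by
    rw [← sub_eq_zero] at r3 ⊢
    rw [← r3]; module
  obtain ⟨-, QP11, QP21⟩ := Groth.Agent.H65.basis3_coord bs r1'
  obtain ⟨-, QP12, QP22⟩ := Groth.Agent.H65.basis3_coord bs r2'
  obtain ⟨-, PQ11, PQ21⟩ := Groth.Agent.H65.basis3_coord bs r3'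
  -- trace argument: 2 - 2α = 0
  have htr : (2 : A) * (1 - α) = 0 := by
    linear_combination e' * E11 + h' * E21 + f' * E12 + i' * E22 - (1 - α) * QP11 -
      (1 - α) * QP22 - QP21 + α * PQ21
  have hα : α = 1 := by
    have := (h2.mul_right_eq_zero).mp htr
    exact (sub_eq_zero.mp this).symm
  subst hα
  have hf0 : f = 0 := by linear_combination -E11
  have hei : e = i := by linear_combination E12
  subst hf0
  subst hei
  refine ⟨b, c, h, e, ?_, ?_, ?_, ?_⟩
  · exact IsUnit.of_mul_eq_one e' (by linear_combination QP11)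
  · rw [hX, one_smul]
  · rw [hY]; module
  · rw [hZ]; module

end Groth.Agent.S13101
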