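import Groth.Statements.S13102
import Groth.Agent.H65.Lie3
-- import your own Groth.Agent.* helpers here

set_option autoImplicit false
universe u v w
open GrpSch

namespace Groth.Agent.S13102

/-- Let K be a field, α ∈ K, A a commutative K-algebra and L a Lie algebra over A which is free as an
A-module with basis x = bs 0, y = bs 1, z = bs 2 and brackets [x,y] = y, [x,z] = α z, [y,z] = 0. If
α² ≠ 1 then every Lie algebra automorphism φ of L over A satisfies φ(x) = x + b y + c z, φ(y) = e y,
φ(z) = i z for some b, c ∈ A and units e, i of A. If α = 1 then every such φ satisfies φ(x) = x + b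
y + c z, φ(y) = e y + f z, φ(z) = h y + i z with e i − f h a unit of A. (The printed statement
identifies the automorphism group schemes with the corresponding semidirect products, treats also α
= −1 in characteristic not 2, and computes first cohomology over a field of Laurent series; those
clauses are not restated here.) -/
theorem result (K : Type u) [Field K] (α : K) (A : Type v) [CommRing A] [Algebra K A]
    (L : Type w) [LieRing L] [LieAlgebra A L] (bs : Module.Basis (Fin 3) A L)
    (hxy : ⁅bs 0, bs 1⁆ = bs 1) (hxz : ⁅bs 0, bs 2⁆ = algebraMap K A α • bs 2) (hyz : ⁅bs 1, bs 2⁆ = 0)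
    (φ : L ≃ₗ⁅A⁆ L) :
    (α ^ 2 ≠ 1 → ∃ b c e i : A, IsUnit e ∧ IsUnit i ∧ φ (bs 0) = bs 0 + b • bs 1 + c • bs 2 ∧
        φ (bs 1) = e • bs 1 ∧ φ (bs 2) = i • bs 2) ∧
    (α = 1 → ∃ b c e f h i : A, IsUnit (e * i - f * h) ∧ φ (bs 0) = bs 0 + b • bs 1 + c • bs 2 ∧
        φ (bs 1) = e • bs 1 + f • bs 2 ∧ φ (bs 2) = h • bs 1 + i • bs 2) := by
  set x := bs 0 with hx
  set y := bs 1 with hy
  set z := bs 2 with hz
  set αA := algebraMap K A α with hαA
  have hyx : ⁅y, x⁆ = -y := by rw [← lie_skew, hxy]
  have hzx : ⁅z, x⁆ = -(αA • z) := by rw [← lie_skew, hxz]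
  have hzy : ⁅z, y⁆ = 0 := by rw [← lie_skew, hyz, neg_zero]
  have hbr : ∀ u0 u1 u2 v0 v1 v2 : A,
      ⁅u0 • x + u1 • y + u2 • z, v0 • x + v1 • y + v2 • z⁆ =
        (0 : A) • x + (u0 * v1 - u1 * v0) • y + (αA * (u0 * v2 - u2 * v0)) • z := by
    intro u0 u1 u2 v0 v1 v2
    simp only [lie_add, add_lie, lie_smul, smul_lie, lie_self, hxy, hxz, hyz, hyx, hzx, hzy]
    module
  have aux : ∀ ψ : L ≃ₗ⁅A⁆ L, ∃ a b c p e f q h i : A,
      ψ x = a • x + b • y + c • z ∧ ψ y = p • x + e • y + f • z ∧
      ψ z = q • x + h • y + i • z ∧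
      p = 0 ∧ e = a * e - b * p ∧ f = αA * (a * f - c * p) ∧
      αA * q = 0 ∧ αA * h = a * h - b * q ∧ αA * i = αA * (a * i - c * q) ∧
      p * h - e * q = 0 := by
    intro ψ
    have hX := Groth.Agent.H65.basis3_expand bs (ψ x)
    have hY := Groth.Agent.H65.basis3_expand bs (ψ y)
    have hZ := Groth.Agent.H65.basis3_expand bs (ψ z)
    generalize bs.repr (ψ x) 0 = a at hX
    generalize bs.repr (ψ x) 1 = b at hX
    generalize bs.repr (ψ x) 2 = c at hX
    generalize bs.repr (ψ y) 0 = p at hY
    generalize bs.repr (ψ y) 1 = e at hY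
    generalize bs.repr (ψ y) 2 = f at hY
    generalize bs.repr (ψ z) 0 = q at hZ
    generalize bs.repr (ψ z) 1 = h at hZ
    generalize bs.repr (ψ z) 2 = i at hZ
    rw [← hx, ← hy, ← hz] at hX hY hZ
    have h1 : ψ y = ⁅ψ x, ψ y⁆ := by rw [← LieEquiv.map_lie, hxy]
    have h2 : αA • ψ z = ⁅ψ x, ψ z⁆ := by rw [← LieEquiv.map_lie, hxz, map_smul]
    have h3 : (0 : L) = ⁅ψ y, ψ z⁆ := by rw [← LieEquiv.map_lie, hyz, map_zero]
    have h1' : p • x + e • y + f • z =
        (0 : A) • x + (a * e - b * p) • y + (αA * (a * f - c * p)) • z := by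
      rw [← hbr, ← hX, ← hY, ← h1]
    have h2' : (αA * q) • x + (αA * h) • y + (αA * i) • z =
        (0 : A) • x + (a * h - b * q) • y + (αA * (a * i - c * q)) • z := by
      rw [← hbr, ← hX, ← hZ, ← h2, hZ]
      module
    have h3' : (0 : A) • x + (0 : A) • y + (0 : A) • z =
        (0 : A) • x + (p * h - e * q) • y + (αA * (p * i - f * q)) • z := by
      rw [← hbr, ← hY, ← hZ, ← h3]
      module
    obtain ⟨hp, he, hf⟩ := Groth.Agent.H65.basis3_coord bs h1'
    obtain ⟨hq, hh, hi⟩ := Groth.Agent.H65.basis3_coord bs h2'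
    obtain ⟨-, hphq, -⟩ := Groth.Agent.H65.basis3_coord bs h3'
    exact ⟨a, b, c, p, e, f, q, h, i, hX, hY, hZ, hp, he, hf, hq, hh, hi, hphq.symm⟩
  obtain ⟨a, b, c, p, e, f, q, h, i, hX, hY, hZ, hp, he, hf, hq, hh, hi, hphq⟩ := aux φ
  obtain ⟨a', b', c', p', e', f', q', h', i', hX', hY', hZ', hp', he', hf', hq', hh', hi', hphq'⟩ :=
    aux φ.symm
  subst hp hp'
  -- inverse relations
  have r1 : φ.symm (φ x) = x := φ.symm_apply_apply x
  have r2 : φ.symm (φ y) = y := φ.symm_apply_apply y
  have r3 : φ.symm (φ z) = z := φ.symm_apply_apply z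
  rw [hX, map_add, map_add, map_smul, map_smul, map_smul, hX', hY', hZ'] at r1
  rw [hY, map_add, map_add, map_smul, map_smul, map_smul, hX', hY', hZ'] at r2
  rw [hZ, map_add, map_add, map_smul, map_smul, map_smul, hX', hY', hZ'] at r3
  have r1' : (a * a' + c * q') • x + (a * b' + b * e' + c * h') • y + (a * c' + b * f' + c * i') • z =
      (1 : A) • x + (0 : A) • y + (0 : A) • z := by
    rw [← sub_eq_zero] at r1 ⊢
    rw [← r1]; module
  have r2' : (f * q') • x + (e * e' + f * h') • y + (e * f' + f * i') • z =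
      (0 : A) • x + (1 : A) • y + (0 : A) • z := by
    rw [← sub_eq_zero] at r2 ⊢
    rw [← r2]; module
  have r3' : (q * a' + i * q') • x + (q * b' + h * e' + i * h') • y + (q * c' + h * f' + i * i') • z =
      (0 : A) • x + (0 : A) • y + (1 : A) • z := by
    rw [← sub_eq_zero] at r3 ⊢
    rw [← r3]; module
  obtain ⟨X1, X2, X3⟩ := Groth.Agent.H65.basis3_coord bs r1'
  obtain ⟨Y1, R1, R2⟩ := Groth.Agent.H65.basis3_coord bs r2'
  obtain ⟨Z1, R3, R4⟩ := Groth.Agent.H65.basis3_coord bs r3'
  constructor
  · intro hα2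
    by_cases hα0 : α = 0
    · -- α = 0
      have hαA0 : αA = 0 := by rw [hαA, hα0, map_zero]
      rw [hαA0] at hf hh hf' hh'
      have hf0 : f = 0 := by linear_combination hf
      have hf0' : f' = 0 := by linear_combination hf'
      subst hf0 hf0'
      have hee' : e * e' = 1 := by linear_combination R1
      have hq0 : q = 0 := by linear_combination (-q) * hee' - e' * hphq
      have hq0' : q' = 0 := by linear_combination (-q') * hee' - e * hphq'
      subst hq0 hq0'
      have haa' : a * a' = 1 := by linear_combination X1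
      have hh0 : h = 0 := by linear_combination (-h) * haa' - a' * hh
      subst hh0
      have ha1 : a = 1 := by linear_combination (-(a - 1)) * hee' - e' * he
      have hii' : i * i' = 1 := by linear_combination R4
      subst ha1
      refine ⟨b, c, e, i, IsUnit.of_mul_eq_one e' hee', IsUnit.of_mul_eq_one i' hii', ?_, ?_, ?_⟩
      · rw [hX, one_smul]
      · rw [hY]; module
      · rw [hZ]; module
    · -- α unit, α^2 ≠ 1
      have hαu : αA * algebraMap K A α⁻¹ = 1 := by
        rw [hαA, ← map_mul, mul_inv_cancel₀ hα0, map_one]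
      have h1α2 : (1 - α ^ 2) ≠ 0 := sub_ne_zero.mpr (Ne.symm hα2)
      have hα1 : (1 - α) ≠ 0 := by
        intro h0
        apply hα2
        have : α = 1 := (sub_eq_zero.mp h0).symm
        rw [this, one_pow]
      have hu2 : (1 - αA ^ 2) * algebraMap K A (1 - α ^ 2)⁻¹ = 1 := by
        rw [hαA, ← map_pow, ← map_one (algebraMap K A), ← map_sub, ← map_mul,
          mul_inv_cancel₀ h1α2, map_one]
      have hu1 : (1 - αA) * algebraMap K A (1 - α)⁻¹ = 1 := by
        rw [hαA, ← map_one (algebraMap K A), ← map_sub, ← map_mul,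
          mul_inv_cancel₀ hα1, map_one]
      set β := algebraMap K A α⁻¹
      set γ2 := algebraMap K A (1 - α ^ 2)⁻¹
      set γ1 := algebraMap K A (1 - α)⁻¹
      have hq0 : q = 0 := by linear_combination (-q) * hαu + β * hq
      have hq0' : q' = 0 := by linear_combination (-q') * hαu + β * hq'
      subst hq0 hq0'
      have hia : i = a * i := by linear_combination (-(i - a * i)) * hαu + β * hi
      have hfh : f * h = 0 := by
        have h1 : (1 - αA ^ 2) * (f * h) = 0 := by
          linear_combination h * hf - αA * f * hh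
        linear_combination (-(f * h)) * hu2 + γ2 * h1
      have hdet : (e * i - f * h) * (e' * i' - f' * h') = 1 := by
        linear_combination (h * f' + i * i') * R1 + R4 - (h * e' + i * h') * R2
      have hei : e * (i * (e' * i' - f' * h')) = 1 := by
        linear_combination hdet + (e' * i' - f' * h') * hfh
      have hei' : i * (e * (e' * i' - f' * h')) = 1 := by linear_combination hei
      have ha1 : a = 1 := by
        linear_combination (-(a - 1)) * hei - (i * (e' * i' - f' * h')) * he
      subst ha1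
      have hf0 : f = 0 := by linear_combination (-f) * hu1 + γ1 * hf
      have hh0 : h = 0 := by linear_combination (-h) * hu1 - γ1 * hh
      subst hf0 hh0
      refine ⟨b, c, e, i, IsUnit.of_mul_eq_one _ hei, IsUnit.of_mul_eq_one _ hei', ?_, ?_, ?_⟩
      · rw [hX, one_smul]
      · rw [hY]; module
      · rw [hZ]; module
  · intro hα1
    have hαA1 : αA = 1 := by rw [hαA, hα1, map_one]
    rw [hαA1] at hf hh hi hq hf' hh' hi' hq'
    have hq0 : q = 0 := by linear_combination hq
    have hq0' : q' = 0 := by linear_combination hq'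
    subst hq0 hq0'
    have hdet : (e * i - f * h) * (e' * i' - f' * h') = 1 := by
      linear_combination (h * f' + i * i') * R1 + R4 - (h * e' + i * h') * R2
    have ha1 : a = 1 := by
      linear_combination (-(a - 1)) * hdet + (e' * i' - f' * h') * (h * hf - i * he)
    subst ha1
    refine ⟨b, c, e, f, h, i, IsUnit.of_mul_eq_one _ hdet, ?_, ?_, ?_⟩
    · rw [hX, one_smul]
    · rw [hY]; module
    · rw [hZ]; module

end Groth.Agent.S13102
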