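import Groth.Statements.S13104
import Groth.Agent.H65.SpecEpi
-- import your own Groth.Agent.* helpers here

set_option autoImplicit false
universe u
open GrpSch

namespace Groth.Agent.S13104

open TrivSqZeroExt

section
variable {B : Type u} [CommRing B]

/-- the module retraction `b0 + b1 α + b2 β + b3 αβ ↦ b0 + b3 ε` -/
def r (t : DualNumber (DualNumber B)) : DualNumber B := inl t.fst.fst + inr t.snd.snd

/-- the standard form of `ψ` -/
def ψ0 (a : DualNumber B) : DualNumber (DualNumber B) := inl (inl a.fst) + inr (inr a.snd)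

lemma r_zero : r (0 : DualNumber (DualNumber B)) = 0 := by
  simp [r]

lemma r_mul (a : DualNumber B) (t : DualNumber (DualNumber B)) : r (ψ0 a * t) = a * r t := by
  unfold r ψ0
  ext
  · simp only [fst_mul, fst_add, fst_inl, fst_inr, add_zero]
  · simp only [snd_mul, fst_add, fst_inl, fst_inr, add_zero, snd_add, snd_inl, snd_inr, zero_add,
      smul_eq_mul, fst_mul, MulOpposite.smul_eq_mul_unop, MulOpposite.unop_op]
    ring

lemma inr_mem_prime {R : Type u} [CommRing R] (q : Ideal (DualNumber R)) [q.IsPrime] (m : R) :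
    (inr m : DualNumber R) ∈ q := by
  apply Ideal.IsPrime.mem_of_pow_mem inferInstance 2
  rw [pow_two, inr_mul_inr]
  exact q.zero_mem

lemma mem_prime_iff {R : Type u} [CommRing R] (q : Ideal (DualNumber R)) [q.IsPrime]
    (x : DualNumber R) : x ∈ q ↔ (inl x.fst : DualNumber R) ∈ q := by
  have hx : x = inl x.fst + inr x.snd := (inl_fst_add_inr_snd_eq x).symm
  constructor
  · intro h
    have : (inl x.fst : DualNumber R) = x - inr x.snd := by
      rw [eq_sub_iff_add_eq]; exact hx.symm
    rw [this]
    exact q.sub_mem h (inr_mem_prime q _)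
  · intro h
    rw [hx]
    exact q.add_mem h (inr_mem_prime q _)

lemma inl_inr_mem_prime (q : Ideal (DualNumber (DualNumber B))) [q.IsPrime] (m : B) :
    (inl (inr m) : DualNumber (DualNumber B)) ∈ q := by
  apply Ideal.IsPrime.mem_of_pow_mem inferInstance 2
  rw [pow_two, ← inl_mul, inr_mul_inr, inl_zero]
  exact q.zero_mem

lemma mem_prime_iff2 (q : Ideal (DualNumber (DualNumber B))) [q.IsPrime]
    (t : DualNumber (DualNumber B)) :
    t ∈ q ↔ (inl (inl t.fst.fst) : DualNumber (DualNumber B)) ∈ q := by
  rw [mem_prime_iff q t]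
  have hx : t.fst = inl t.fst.fst + inr t.fst.snd := (inl_fst_add_inr_snd_eq t.fst).symm
  constructor
  · intro h
    have : (inl (inl t.fst.fst) : DualNumber (DualNumber B)) = inl t.fst - inl (inr t.fst.snd) := by
      rw [eq_sub_iff_add_eq, ← inl_add, ← hx]
    rw [this]
    exact q.sub_mem h (inl_inr_mem_prime q _)
  · intro h
    rw [hx, inl_add]
    exact q.add_mem h (inl_inr_mem_prime q _)

lemma ψ0_r_mem_iff (q : Ideal (DualNumber (DualNumber B))) [q.IsPrime]
    (t : DualNumber (DualNumber B)) : ψ0 (r t) ∈ q ↔ t ∈ q := by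
  rw [mem_prime_iff2 q t, mem_prime_iff2 q (ψ0 (r t))]
  have : (ψ0 (r t)).fst.fst = t.fst.fst := by
    simp [ψ0, r]
  rw [this]

variable (ψ : DualNumber B →+* DualNumber (DualNumber B))
  (hψB : ∀ b : B, ψ (algebraMap B (DualNumber B) b) = algebraMap B (DualNumber (DualNumber B)) b)
  (hψ : ψ DualNumber.eps =
    algebraMap (DualNumber B) (DualNumber (DualNumber B)) DualNumber.eps * DualNumber.eps)

include hψB hψ in
lemma ψ_eq (x : DualNumber B) : ψ x = ψ0 x := by
  have hB : ∀ b : B, ψ (inl b) = inl (inl b) := hψB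
  have he : ψ (inr 1) = inl (inr 1) * inr 1 := hψ
  have hx : x = inl x.fst + inl x.snd * inr 1 := by
    rw [inl_mul_inr, smul_eq_mul, mul_one, inl_fst_add_inr_snd_eq]
  conv_lhs => rw [hx]
  rw [map_add, map_mul, hB, hB, he, inl_mul_inr, smul_eq_mul, mul_one, inl_mul_inr, smul_eq_mul,
    inl_mul_inr, smul_eq_mul, mul_one]
  rfl

include hψB hψ in
lemma comap_surjective : Function.Surjective
    (PrimeSpectrum.comap (R := DualNumber B) (S := DualNumber (DualNumber B)) ψ) := by
  rintro ⟨p, hp⟩
  let π2 : DualNumber (DualNumber B) →+* B :=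
    (fstHom B B B : DualNumber B →+* B).comp
      (fstHom (DualNumber B) (DualNumber B) (DualNumber B) : DualNumber (DualNumber B) →+* DualNumber B)
  let q : Ideal (DualNumber (DualNumber B)) :=
    Ideal.comap π2 (Ideal.comap (inlHom B B : B →+* DualNumber B) p)
  have hq : q.IsPrime := inferInstance
  refine ⟨⟨q, hq⟩, ?_⟩
  apply PrimeSpectrum.ext
  ext x
  change ψ x ∈ q ↔ x ∈ p
  rw [mem_prime_iff p x]
  simp only [q, Ideal.mem_comap]
  have : π2 (ψ x) = x.fst := by
    rw [ψ_eq ψ hψB hψ x]
    simp [π2, ψ0]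
  rw [this]
  rfl

include hψB hψ in
lemma localRingHom_injective (q : Ideal (DualNumber (DualNumber B))) [q.IsPrime] :
    Function.Injective (Localization.localRingHom (R := DualNumber B)
      (P := DualNumber (DualNumber B)) (Ideal.comap ψ q) q ψ rfl) := by
  rw [injective_iff_map_eq_zero]
  intro x hx
  obtain ⟨⟨a, s⟩, rfl⟩ := IsLocalization.mk'_surjective (Ideal.comap ψ q).primeCompl x
  rw [Localization.localRingHom_mk', IsLocalization.mk'_eq_zero_iff] at hx
  obtain ⟨⟨m, hm⟩, hm0⟩ := hx
  replace hm0 : m * ψ a = 0 := hm0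
  rw [IsLocalization.mk'_eq_zero_iff]
  have hrm : r m ∈ (Ideal.comap ψ q).primeCompl := by
    intro h
    change ψ (r m) ∈ q at h
    rw [ψ_eq ψ hψB hψ, ψ0_r_mem_iff] at h
    exact hm h
  refine ⟨⟨r m, hrm⟩, ?_⟩
  have h0 : ψ a * m = 0 := (mul_comm (ψ a) m).trans hm0
  change r m * a = 0
  calc r m * a = a * r m := mul_comm (r m) a
    _ = r (ψ0 a * m) := (r_mul a m).symm
    _ = r (ψ a * m) := by rw [ψ_eq ψ hψB hψ]
    _ = r 0 := by rw [h0]
    _ = 0 := r_zero

end

open CategoryTheory AlgebraicGeometry in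
/-- Let B be a commutative ring, B[ε] the ring of dual numbers (ε² = 0) and B[α, β]/(α², β²) the double
dual numbers, realised as dual numbers over the dual numbers with α the inner and β the outer
generator, and let ψ : B[ε] → B[α, β]/(α², β²) be the B-algebra homomorphism with ψ(ε) = αβ. Then
for every scheme G the map u ↦ Spec(ψ) ≫ u from morphisms Spec B[ε] → G to morphisms Spec
B[α,β]/(α²,β²) → G is injective. (The printed statement is its consequence for a group scheme G: the
map Lie(G)(B) → G(B[α,β]/(α²,β²)), x ↦ exp(αβ x), is injective; the injectivity on all B[ε]-points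
stated here is what the printed argument establishes.) -/
theorem result (B : Type u) [CommRing B]
    (ψ : DualNumber B →+* DualNumber (DualNumber B))
    (hψB : ∀ b : B, ψ (algebraMap B (DualNumber B) b) = algebraMap B (DualNumber (DualNumber B)) b)
    (hψ : ψ DualNumber.eps = algebraMap (DualNumber B) (DualNumber (DualNumber B)) DualNumber.eps * DualNumber.eps)
    (G : Scheme.{u}) :
    Function.Injective (fun u : Spec (CommRingCat.of (DualNumber B)) ⟶ G =>
      Spec.map (CommRingCat.ofHom (R := DualNumber B) (S := DualNumber (DualNumber B)) ψ) ≫ u) := by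
  have hepi : Epi (Spec.map (CommRingCat.ofHom (R := DualNumber B)
      (S := DualNumber (DualNumber B)) ψ)) := by
    apply Groth.Agent.H65.SpecEpi.epi_SpecMap_of
    · exact comap_surjective ψ hψB hψ
    · intro p
      exact localRingHom_injective ψ hψB hψ p.asIdeal
  intro u v h
  exact (cancel_epi _).mp h

end Groth.Agent.S13104
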