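import Groth.Statements.S13105
import Groth.Agent.H56.JacReg
-- import your own Groth.Agent.* helpers here

set_option autoImplicit false
universe u
open Lie3Mod

namespace Groth.Agent.S13105

section aux

open MvPolynomial Groth.Agent.H56

variable (k : Type u) [Field k]

/-- the generators of `J` as a family. -/
noncomputable def FF : Fin 4 → D k := ![Q1 k, Q2 k, Q3 k, detM k]

/-- the point `(0,1,0,0,0,t,0,0,0)`. -/
def pt {k : Type u} [Field k] (t : k) : Fin 9 → k := ![0, 1, 0, 0, 0, t, 0, 0, 0]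

theorem idJ_eq : idJ k = Ideal.span (Set.range (FF k)) := by
  unfold idJ FF
  congr 1
  ext x
  simp only [Set.mem_insert_iff, Set.mem_singleton_iff, Set.mem_range]
  constructor
  · rintro (rfl | rfl | rfl | rfl)
    · exact ⟨0, rfl⟩
    · exact ⟨1, rfl⟩
    · exact ⟨2, rfl⟩
    · exact ⟨3, rfl⟩
  · rintro ⟨i, rfl⟩
    fin_cases i <;> simp

theorem identity : (vb + vf : D k) * detM k =
    (ve * vc - vb * vf) * Q1 k + (vh * vc + vi * vf) * Q2 k - (vh * vb + vi * ve) * Q3 k := by
  simp only [detM, Q1, Q2, Q3]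
  ring

theorem rank_ge_of_ne {t : k} (ht : t ≠ 0) :
    3 ≤ (Matrix.of fun i j => eval (pt t) (pderiv j (FF k i))).rank := by
  set M := (Matrix.of fun i j => eval (pt t) (pderiv j (FF k i))) with hM
  have hdet : (M.submatrix ![1, 2, 3] ![3, 8, 6]).det ≠ 0 := by
    rw [Matrix.det_fin_three]
    simpa [hM, FF, pt, Q1, Q2, Q3, detM, pderiv_X] using ht
  calc 3 = Fintype.card (Fin 3) := rfl
    _ = (M.submatrix ![1, 2, 3] ![3, 8, 6]).rank := (Matrix.rank_of_det_ne_zero hdet).symm
    _ ≤ M.rank := Matrix.rank_submatrix_le M _ _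

theorem rank_ge_zero :
    3 ≤ (Matrix.of fun i j => eval (pt (0 : k)) (pderiv j (FF k i))).rank := by
  set M := (Matrix.of fun i j => eval (pt (0 : k)) (pderiv j (FF k i))) with hM
  have hdet : (M.submatrix ![0, 1, 2] ![6, 3, 8]).det ≠ 0 := by
    rw [Matrix.det_fin_three]
    simp [hM, FF, pt, Q1, Q2, Q3, detM, pderiv_X]
  calc 3 = Fintype.card (Fin 3) := rfl
    _ = (M.submatrix ![0, 1, 2] ![6, 3, 8]).rank := (Matrix.rank_of_det_ne_zero hdet).symm
    _ ≤ M.rank := Matrix.rank_submatrix_le M _ _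

theorem span_pt_eq (t : k) :
    Ideal.span ({X 0, X 1 - 1, X 2, X 3, X 4, X 5 - C t, X 6, X 7, X 8} : Set (D k)) =
      RingHom.ker (eval (pt t)) := by
  rw [JacCot.ker_eval_eq_NN, JacCot.NN]
  congr 1
  ext x
  simp only [Set.mem_insert_iff, Set.mem_singleton_iff, Set.mem_range]
  constructor
  · rintro (rfl | rfl | rfl | rfl | rfl | rfl | rfl | rfl | rfl)
    · exact ⟨0, by simp [JacCot.tt, pt]⟩
    · exact ⟨1, by simp [JacCot.tt, pt]⟩
    · exact ⟨2, by simp [JacCot.tt, pt]⟩
    · exact ⟨3, by simp [JacCot.tt, pt]⟩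
    · exact ⟨4, by simp [JacCot.tt, pt]⟩
    · exact ⟨5, by simp [JacCot.tt, pt]⟩
    · exact ⟨6, by simp [JacCot.tt, pt]⟩
    · exact ⟨7, by simp [JacCot.tt, pt]⟩
    · exact ⟨8, by simp [JacCot.tt, pt]⟩
  · rintro ⟨i, rfl⟩
    fin_cases i <;> simp [JacCot.tt, pt]

theorem eval_FF (t : k) (i : Fin 4) : eval (pt t) (FF k i) = 0 := by
  fin_cases i <;> simp [FF, pt, Q1, Q2, Q3, detM]

theorem eq_six_of_add_three {d : WithBot ℕ∞} (h : d + ((3 : ℕ) : WithBot ℕ∞) = ((9 : ℕ) : WithBot ℕ∞)) :
    d = 6 := by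
  induction d using WithBot.recBotCoe with
  | bot => simp at h
  | coe e =>
    induction e using ENat.recTopCoe with
    | top =>
      exfalso
      have h1 : (((⊤ : ℕ∞)) : WithBot ℕ∞) + (((3 : ℕ) : ℕ∞) : WithBot ℕ∞) =
          (((9 : ℕ) : ℕ∞) : WithBot ℕ∞) := h
      rw [← WithBot.coe_add, WithBot.coe_inj, top_add] at h1
      exact ENat.top_ne_coe _ h1
    | coe m =>
      have h1 : ((((m : ℕ) : ℕ∞)) : WithBot ℕ∞) + (((3 : ℕ) : ℕ∞) : WithBot ℕ∞) =
          (((9 : ℕ) : ℕ∞) : WithBot ℕ∞) := h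
      rw [← WithBot.coe_add, WithBot.coe_inj, ← Nat.cast_add, Nat.cast_inj] at h1
      have : m = 6 := by omega
      rw [this]
      rfl

/-- the key statement, for a variable ideal `J`. -/
theorem key (t : k) (J : Ideal (D k)) (hJ : J = Ideal.span (Set.range (FF k)))
    (P : Ideal (D k ⧸ J)) [P.IsPrime]
    (hP : P = Ideal.map (Ideal.Quotient.mk J)
      (Ideal.span ({X 0, X 1 - 1, X 2, X 3, X 4, X 5 - C t, X 6, X 7, X 8} : Set (D k)))) :
    IsRegularLocalRing (Localization.AtPrime P) ∧ ringKrullDim (Localization.AtPrime P) = 6 := by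
  classical
  subst hJ
  rw [span_pt_eq] at hP
  have hker : (RingHom.ker (eval (pt t) : D k →+* k)).IsMaximal :=
    RingHom.ker_isMaximal_of_surjective _ (fun c => ⟨C c, by simp⟩)
  have hJle : Ideal.span (Set.range (FF k)) ≤ RingHom.ker (eval (pt t)) := by
    rw [Ideal.span_le]
    rintro _ ⟨i, rfl⟩
    exact RingHom.mem_ker.mpr (eval_FF k t i)
  have hcomap : P.comap (Ideal.Quotient.mk (Ideal.span (Set.range (FF k)))) =
      RingHom.ker (eval (pt t)) := by
    rw [hP, Ideal.comap_map_of_surjective _ Ideal.Quotient.mk_surjective,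
      ← RingHom.ker_eq_comap_bot, Ideal.mk_ker, sup_eq_left.mpr hJle]
  have hPmax : P.IsMaximal := by
    rcases Ideal.map_eq_top_or_isMaximal_of_surjective
      (Ideal.Quotient.mk (Ideal.span (Set.range (FF k)))) Ideal.Quotient.mk_surjective hker with h | h
    · exact absurd (hP.trans h) (Ideal.IsPrime.ne_top inferInstance)
    · rw [hP]; exact h
  by_cases ht : t = 0
  · subst ht
    -- generators `Q1, Q2, Q3`, unit `b + f`
    have h := JacReg.isRegularLocalRing_of_jacobian_rank (FF k) (pt (0 : k)) P hcomap 3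
      ({Q1 k, Q2 k, Q3 k} : Finset (D k)) (Finset.card_le_three) ?_ (vb + vf) ?_ ?_
      (rank_ge_zero k)
    · refine ⟨h.1, ?_⟩
      exact eq_six_of_add_three h.2
    · intro g hg
      simp only [Finset.mem_insert, Finset.mem_singleton] at hg
      rcases hg with rfl | rfl | rfl
      · exact eval_FF k 0 0
      · exact eval_FF k 0 1
      · exact eval_FF k 0 2
    · simp [pt]
    · intro i
      have hsub : ∀ g ∈ ({Q1 k, Q2 k, Q3 k} : Finset (D k)),
          g ∈ Ideal.span ((({Q1 k, Q2 k, Q3 k} : Finset (D k)) : Finset (D k)) : Set (D k)) :=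
        fun g hg => Ideal.subset_span (Finset.mem_coe.mpr hg)
      have h1 := hsub (Q1 k) (by simp)
      have h2 := hsub (Q2 k) (by simp)
      have h3 := hsub (Q3 k) (by simp)
      fin_cases i
      · exact Ideal.mul_mem_left _ _ h1
      · exact Ideal.mul_mem_left _ _ h2
      · exact Ideal.mul_mem_left _ _ h3
      · change (vb + vf : D k) * detM k ∈ _
        rw [identity]
        exact Ideal.sub_mem _ (Ideal.add_mem _ (Ideal.mul_mem_left _ _ h1)
          (Ideal.mul_mem_left _ _ h2)) (Ideal.mul_mem_left _ _ h3)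
  · -- generators `Q2, Q3, detM`, unit `e c - b f`
    have h := JacReg.isRegularLocalRing_of_jacobian_rank (FF k) (pt t) P hcomap 3
      ({Q2 k, Q3 k, detM k} : Finset (D k)) (Finset.card_le_three) ?_ (ve * vc - vb * vf) ?_ ?_
      (rank_ge_of_ne k ht)
    · refine ⟨h.1, ?_⟩
      exact eq_six_of_add_three h.2
    · intro g hg
      simp only [Finset.mem_insert, Finset.mem_singleton] at hg
      rcases hg with rfl | rfl | rfl
      · exact eval_FF k t 1
      · exact eval_FF k t 2
      · exact eval_FF k t 3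
    · simpa [pt] using ht
    · intro i
      have hsub : ∀ g ∈ ({Q2 k, Q3 k, detM k} : Finset (D k)),
          g ∈ Ideal.span ((({Q2 k, Q3 k, detM k} : Finset (D k)) : Finset (D k)) : Set (D k)) :=
        fun g hg => Ideal.subset_span (Finset.mem_coe.mpr hg)
      have h2 := hsub (Q2 k) (by simp)
      have h3 := hsub (Q3 k) (by simp)
      have h4 := hsub (detM k) (by simp)
      fin_cases i
      · change (ve * vc - vb * vf : D k) * Q1 k ∈ _
        have hid : (ve * vc - vb * vf : D k) * Q1 k =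
            (vb + vf) * detM k - (vh * vc + vi * vf) * Q2 k + (vh * vb + vi * ve) * Q3 k := by
          rw [identity]; ring
        rw [hid]
        exact Ideal.add_mem _ (Ideal.sub_mem _ (Ideal.mul_mem_left _ _ h4)
          (Ideal.mul_mem_left _ _ h2)) (Ideal.mul_mem_left _ _ h3)
      · exact Ideal.mul_mem_left _ _ h2
      · exact Ideal.mul_mem_left _ _ h3
      · exact Ideal.mul_mem_left _ _ h4

end aux

open MvPolynomial in
/-- Let k be a field, t ∈ k, D = k[a,b,c,d,e,f,g,h,i] and J = (Q1, Q2, Q3, det M) with Q1 = ah + di − fg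
− bg, Q2 = ie + bd − fh − ae, Q3 = hc + dc − af − bi, det M = −ch² + gbf + ei² − gec + hbi − ihf.
The maximal ideal (a, b − 1, c, d, e, f − t, g, h, i) of D contains J (it is the point given by the
Lie algebra with [x,y] = y, [x,z] = t z, [y,z] = 0), and the localization of D/J at the
corresponding prime is a regular local ring of Krull dimension 6: the scheme Spec(D/J) has a smooth
k-rational point. -/
theorem result (k : Type u) [Field k] (t : k)
    (P : Ideal (Lie3Mod.D k ⧸ Lie3Mod.idJ k)) [P.IsPrime]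
    (hP : P = Ideal.map (Ideal.Quotient.mk (Lie3Mod.idJ k))
      (Ideal.span ({X 0, X 1 - 1, X 2, X 3, X 4, X 5 - C t, X 6, X 7, X 8} : Set (Lie3Mod.D k)))) :
    IsRegularLocalRing (Localization.AtPrime P) ∧ ringKrullDim (Localization.AtPrime P) = 6 :=
  key k t (idJ k) (idJ_eq k) P hP

end Groth.Agent.S13105
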