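import Groth.Statements.S13106
import Mathlib
-- import your own Groth.Agent.* helpers here

set_option autoImplicit false
universe u
open GrpSch

namespace Groth.Agent.S13106

open CategoryTheory AlgebraicGeometry in
/-- Let f : X → Y be a morphism of schemes and U ⊆ Y a schematically dense open subscheme (for every
open V of Y, restriction of functions from V to V ∩ U is injective) such that the restriction f⁻¹(U)
→ U of f is an isomorphism. Then two morphisms from Y to a scheme separated over a base T that agree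
after composing with f and have the same composite to T are equal: if Z → T is separated and v₁, v₂
: Y → Z satisfy v₁ ≫ (Z → T) = v₂ ≫ (Z → T) and f ≫ v₁ = f ≫ v₂, then v₁ = v₂. (The published
statement is the case of a morphism between two prolongations over A[[t]] of a finite group scheme
over A((t)), where U is the generic fibre, schematically dense by flatness; uniqueness of
prolongation maps follows.) -/
theorem result {X Y Z T : Scheme.{u}} (f : X ⟶ Y)
    (U : Y.Opens) (hU : CInt.IsSchematicallyDense U) [IsIso (f ∣_ U)]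
    (z : Z ⟶ T) [IsSeparated z] (v₁ v₂ : Y ⟶ Z) (hz : v₁ ≫ z = v₂ ≫ z) (h : f ≫ v₁ = f ≫ v₂) :
    v₁ = v₂ := by
  have hUι : U.ι ≫ v₁ = U.ι ≫ v₂ := by
    have h1 : (f ∣_ U) ≫ U.ι = (f ⁻¹ᵁ U).ι ≫ f := morphismRestrict_ι f U
    have h2 : U.ι = inv (f ∣_ U) ≫ (f ⁻¹ᵁ U).ι ≫ f := by
      rw [← h1, IsIso.inv_hom_id_assoc]
    rw [h2]
    simp only [Category.assoc]
    rw [h]
  have hinj : ∀ V : Y.Opens, Function.Injective (U.ι.app V).hom := by
    intro V a b hab
    have e : V ⊓ U = U.ι ''ᵁ U.ι ⁻¹ᵁ V := by
      rw [Scheme.Hom.image_preimage_eq_opensRange_inf, Scheme.Opens.opensRange_ι, inf_comm]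
    have hab' : (Y.presheaf.map (homOfLE (U.ι.image_preimage_le V)).op).hom a =
        (Y.presheaf.map (homOfLE (U.ι.image_preimage_le V)).op).hom b := hab
    have hfac' : ∀ c, (Y.presheaf.map (homOfLE (inf_le_left : V ⊓ U ≤ V)).op).hom c =
        (Y.presheaf.map (eqToHom e).op).hom
          ((Y.presheaf.map (homOfLE (U.ι.image_preimage_le V)).op).hom c) := by
      intro c
      rw [← CommRingCat.comp_apply, ← Functor.map_comp]
      rfl
    apply hU V
    show (Y.presheaf.map (homOfLE (inf_le_left : V ⊓ U ≤ V)).op).hom a =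
      (Y.presheaf.map (homOfLE (inf_le_left : V ⊓ U ≤ V)).op).hom b
    rw [hfac' a, hfac' b, hab']
  have hker : U.ι.ker = ⊥ := by
    apply le_bot_iff.mp
    intro V
    refine le_trans (Scheme.Hom.ideal_ker_le U.ι V) ?_
    rw [(RingHom.injective_iff_ker_eq_bot _).mp (hinj V)]
    simp
  let X' : Over T := Over.mk (v₁ ≫ z)
  let Y' : Over T := Over.mk z
  let U' : Over T := Over.mk (U.ι ≫ v₁ ≫ z)
  let f' : X' ⟶ Y' := Over.homMk v₁
  let g' : X' ⟶ Y' := Over.homMk v₂ hz.symm
  let ι' : U' ⟶ X' := Over.homMk U.ι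
  have : IsSeparated Y'.hom := ‹_›
  have hcl : IsClosedImmersion (Limits.equalizer.ι f' g').left := inferInstance
  have hcond : ι' ≫ f' = ι' ≫ g' := by
    ext1; exact hUι
  have hlift : (Limits.equalizer.lift ι' hcond).left ≫ (Limits.equalizer.ι f' g').left = U.ι := by
    rw [← Over.comp_left, Limits.equalizer.lift_ι]
    rfl
  have hkerE : (Limits.equalizer.ι f' g').left.ker = ⊥ := by
    apply le_bot_iff.mp
    rw [← hker, ← hlift]
    exact Scheme.Hom.le_ker_comp _ _
  have := IsClosedImmersion.isIso_iff_ker_eq_bot.mpr hkerE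
  rw [← cancel_epi (Limits.equalizer.ι f' g').left]
  exact congr($(Limits.equalizer.condition f' g').left)

end Groth.Agent.S13106
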