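import Groth.Statements.S13107
import Groth.Agent.H65.Lie3
-- import your own Groth.Agent.* helpers here

set_option autoImplicit false
universe u v w
open GrpSch

namespace Groth.Agent.S13107

theorem bracket_aux {R F : Type*} [CommRing R] [LieRing F] [LieAlgebra R F] (x' y' z' : F) (T : R)
    (hF01 : ⁅x', y'⁆ = z') (hF02 : ⁅x', z'⁆ = T • y') (hF12 : ⁅y', z'⁆ = 0)
    (u0 u1 u2 v0 v1 v2 : R) :
    ⁅u0 • x' + u1 • y' + u2 • z', v0 • x' + v1 • y' + v2 • z'⁆ =
      (0 : R) • x' + (T * (u0 * v2 - u2 * v0)) • y' + (u0 * v1 - u1 * v0) • z' := by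
  have h10' : ⁅y', x'⁆ = -z' := by rw [← lie_skew, hF01]
  have h20' : ⁅z', x'⁆ = -(T • y') := by rw [← lie_skew, hF02]
  have h21' : ⁅z', y'⁆ = 0 := by rw [← lie_skew, hF12, neg_zero]
  simp only [lie_add, add_lie, lie_smul, smul_lie, lie_self, hF01, hF02, hF12, h10', h20', h21']
  module

/-- Let k be a field, K = k((t)) the field of Laurent series over k, F a Lie algebra over K with a basis
x' = bF 0, y' = bF 1, z' = bF 2 and brackets [x',y'] = z', [x',z'] = t y', [y',z'] = 0, and L a Lie
algebra over K with a basis x = bL 0, y = bL 1, z = bL 2 and brackets [x,y] = y, [x,z] = −z, [y,z] =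
0. Then there is no K-linear isomorphism of Lie algebras between L and F: F is a non-trivial form of
L over K. (The published result is the classification of three-dimensional Lie algebras over k((t))
for k algebraically closed of characteristic not 2, with F its only non-split entry; this row states
the non-isomorphism of F and L over k((t)) for every field k.) -/
theorem result (k : Type u) [Field k]
    (F : Type v) [LieRing F] [LieAlgebra (LaurentSeries k) F] (bF : Module.Basis (Fin 3) (LaurentSeries k) F)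
    (hF01 : ⁅bF 0, bF 1⁆ = bF 2) (hF02 : ⁅bF 0, bF 2⁆ = (HahnSeries.single 1 (1 : k) : LaurentSeries k) • bF 1)
    (hF12 : ⁅bF 1, bF 2⁆ = 0)
    (L : Type w) [LieRing L] [LieAlgebra (LaurentSeries k) L] (bL : Module.Basis (Fin 3) (LaurentSeries k) L)
    (hL01 : ⁅bL 0, bL 1⁆ = bL 1) (hL02 : ⁅bL 0, bL 2⁆ = -bL 2) (hL12 : ⁅bL 1, bL 2⁆ = 0) :
    IsEmpty (L ≃ₗ⁅LaurentSeries k⁆ F) := by
  refine ⟨fun φ => ?_⟩
  set T : LaurentSeries k := HahnSeries.single 1 (1 : k) with hT
  set x := bL 0 with hx
  set y := bL 1 with hy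
  set z := bL 2 with hz
  set x' := bF 0 with hx'
  set y' := bF 1 with hy'
  set z' := bF 2 with hz'
  have hbr' : ∀ u0 u1 u2 v0 v1 v2 : LaurentSeries k,
      ⁅u0 • x' + u1 • y' + u2 • z', v0 • x' + v1 • y' + v2 • z'⁆ =
        (0 : LaurentSeries k) • x' + (T * (u0 * v2 - u2 * v0)) • y' + (u0 * v1 - u1 * v0) • z' :=
    bracket_aux x' y' z' T hF01 hF02 hF12
  have hX := Groth.Agent.H65.basis3_expand bF (φ x)
  have hY := Groth.Agent.H65.basis3_expand bF (φ y)
  generalize bF.repr (φ x) 0 = a at hX
  generalize bF.repr (φ x) 1 = b at hX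
  generalize bF.repr (φ x) 2 = c at hX
  generalize bF.repr (φ y) 0 = p at hY
  generalize bF.repr (φ y) 1 = e at hY
  generalize bF.repr (φ y) 2 = f at hY
  rw [← hx', ← hy', ← hz'] at hX hY
  have e1 : φ y = ⁅φ x, φ y⁆ := by rw [← LieEquiv.map_lie, hL01]
  have e1' : p • x' + e • y' + f • z' =
      (0 : LaurentSeries k) • x' + (T * (a * f - c * p)) • y' + (a * e - b * p) • z' := by
    rw [← hbr', ← hX, ← hY, ← e1]
  obtain ⟨hp, he, hf⟩ := Groth.Agent.H65.basis3_coord bF e1'
  subst hp
  have hef : e ≠ 0 ∨ f ≠ 0 := by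
    by_contra hcon
    push Not at hcon
    have : φ y = 0 := by rw [hY, hcon.1, hcon.2]; simp
    have hy0 : y = 0 := φ.injective (this.trans (map_zero φ).symm)
    exact bL.ne_zero 1 hy0
  have hTa : T * a ^ 2 = 1 := by
    rcases hef with h0 | h0
    · have : e * (1 - T * a ^ 2) = 0 := by linear_combination he + T * a * hf
      rcases mul_eq_zero.mp this with h1 | h1
      · exact absurd h1 h0
      · linear_combination -h1
    · have : f * (1 - T * a ^ 2) = 0 := by linear_combination hf + a * he
      rcases mul_eq_zero.mp this with h1 | h1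
      · exact absurd h1 h0
      · linear_combination -h1
  have hT0 : T ≠ 0 := by
    rw [hT]; exact HahnSeries.single_ne_zero one_ne_zero
  have ha0 : a ≠ 0 := by
    intro h0
    rw [h0] at hTa
    simp at hTa
  have hord := congrArg HahnSeries.order hTa
  rw [pow_two, HahnSeries.order_mul hT0 (mul_ne_zero ha0 ha0), HahnSeries.order_mul ha0 ha0,
    HahnSeries.order_one, hT, HahnSeries.order_single one_ne_zero] at hord
  omega

end Groth.Agent.S13107
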