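import Groth.Statements.S13108
import Groth.Agent.H65.Lie3
-- import your own Groth.Agent.* helpers here

set_option autoImplicit false
universe u v w
open GrpSch

namespace Groth.Agent.S13108

/-- Let k be a field and t, t' ∈ k both non-zero; let L be a Lie algebra over k with a basis x = b 0, y
= b 1, z = b 2 and brackets [x,y] = y, [x,z] = t z, [y,z] = 0, and L' a Lie algebra over k with a
basis x' = b' 0, y' = b' 1, z' = b' 2 and brackets [x',y'] = y', [x',z'] = t' z', [y',z'] = 0. Then
L and L' are isomorphic Lie algebras over k if and only if t' = t or t' = t⁻¹. -/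
theorem result (k : Type u) [Field k] (t t' : k) (ht : t ≠ 0) (ht' : t' ≠ 0)
    (L : Type v) [LieRing L] [LieAlgebra k L] (b : Module.Basis (Fin 3) k L)
    (h01 : ⁅b 0, b 1⁆ = b 1) (h02 : ⁅b 0, b 2⁆ = t • b 2) (h12 : ⁅b 1, b 2⁆ = 0)
    (L' : Type w) [LieRing L'] [LieAlgebra k L'] (b' : Module.Basis (Fin 3) k L')
    (h01' : ⁅b' 0, b' 1⁆ = b' 1) (h02' : ⁅b' 0, b' 2⁆ = t' • b' 2) (h12' : ⁅b' 1, b' 2⁆ = 0) :
    Nonempty (L ≃ₗ⁅k⁆ L') ↔ (t' = t ∨ t' = t⁻¹) := by
  set x := b 0 with hx
  set y := b 1 with hy
  set z := b 2 with hz
  set x' := b' 0 with hx'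
  set y' := b' 1 with hy'
  set z' := b' 2 with hz'
  have h10 : ⁅y, x⁆ = -y := by rw [← lie_skew, h01]
  have h20 : ⁅z, x⁆ = -(t • z) := by rw [← lie_skew, h02]
  have h21 : ⁅z, y⁆ = 0 := by rw [← lie_skew, h12, neg_zero]
  have h10' : ⁅y', x'⁆ = -y' := by rw [← lie_skew, h01']
  have h20' : ⁅z', x'⁆ = -(t' • z') := by rw [← lie_skew, h02']
  have h21' : ⁅z', y'⁆ = 0 := by rw [← lie_skew, h12', neg_zero]
  have hbr : ∀ u0 u1 u2 v0 v1 v2 : k,
      ⁅u0 • x + u1 • y + u2 • z, v0 • x + v1 • y + v2 • z⁆ =
        (0 : k) • x + (u0 * v1 - u1 * v0) • y + (t * (u0 * v2 - u2 * v0)) • z := by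
    intro u0 u1 u2 v0 v1 v2
    simp only [lie_add, add_lie, lie_smul, smul_lie, lie_self, h01, h02, h12, h10, h20, h21]
    module
  have hbr' : ∀ u0 u1 u2 v0 v1 v2 : k,
      ⁅u0 • x' + u1 • y' + u2 • z', v0 • x' + v1 • y' + v2 • z'⁆ =
        (0 : k) • x' + (u0 * v1 - u1 * v0) • y' + (t' * (u0 * v2 - u2 * v0)) • z' := by
    intro u0 u1 u2 v0 v1 v2
    simp only [lie_add, add_lie, lie_smul, smul_lie, lie_self, h01', h02', h12', h10', h20', h21']
    module
  constructor
  · rintro ⟨φ⟩
    have hX := Groth.Agent.H65.basis3_expand b' (φ x)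
    have hY := Groth.Agent.H65.basis3_expand b' (φ y)
    have hZ := Groth.Agent.H65.basis3_expand b' (φ z)
    generalize b'.repr (φ x) 0 = a at hX
    generalize b'.repr (φ x) 1 = bb at hX
    generalize b'.repr (φ x) 2 = c at hX
    generalize b'.repr (φ y) 0 = p at hY
    generalize b'.repr (φ y) 1 = e at hY
    generalize b'.repr (φ y) 2 = f at hY
    generalize b'.repr (φ z) 0 = q at hZ
    generalize b'.repr (φ z) 1 = h at hZ
    generalize b'.repr (φ z) 2 = i at hZ
    rw [← hx', ← hy', ← hz'] at hX hY hZ
    have e1 : φ y = ⁅φ x, φ y⁆ := by rw [← LieEquiv.map_lie, h01]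
    have e2 : t • φ z = ⁅φ x, φ z⁆ := by rw [← LieEquiv.map_lie, h02, map_smul]
    have e1' : p • x' + e • y' + f • z' =
        (0 : k) • x' + (a * e - bb * p) • y' + (t' * (a * f - c * p)) • z' := by
      rw [← hbr', ← hX, ← hY, ← e1]
    have e2' : (t * q) • x' + (t * h) • y' + (t * i) • z' =
        (0 : k) • x' + (a * h - bb * q) • y' + (t' * (a * i - c * q)) • z' := by
      rw [← hbr', ← hX, ← hZ, ← e2, hZ]
      module
    obtain ⟨hp, he, hf⟩ := Groth.Agent.H65.basis3_coord b' e1'
    obtain ⟨hq, hh, hi⟩ := Groth.Agent.H65.basis3_coord b' e2'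
    subst hp
    have hq0 : q = 0 := by
      rcases mul_eq_zero.mp hq with h0 | h0
      · exact absurd h0 ht
      · exact h0
    subst hq0
    -- nondegeneracy
    have hdet : e * i - f * h ≠ 0 := by
      intro hd
      have k1 : φ (i • y - f • z) = 0 := by
        rw [map_sub, map_smul, map_smul, hY, hZ]
        have : i • ((0:k) • x' + e • y' + f • z') - f • ((0:k) • x' + h • y' + i • z') =
            (e * i - f * h) • y' := by module
        rw [this, hd, zero_smul]
      have k2 : φ (h • y - e • z) = 0 := by
        rw [map_sub, map_smul, map_smul, hY, hZ]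
        have : h • ((0:k) • x' + e • y' + f • z') - e • ((0:k) • x' + h • y' + i • z') =
            (-(e * i - f * h)) • z' := by module
        rw [this, hd, neg_zero, zero_smul]
      have k1' : i • y - f • z = 0 := φ.injective (k1.trans (map_zero φ).symm)
      have k2' : h • y - e • z = 0 := φ.injective (k2.trans (map_zero φ).symm)
      have k1'' : (0 : k) • x + i • y + (-f) • z = (0 : k) • x + (0 : k) • y + (0 : k) • z := by
        rw [← sub_eq_zero]; rw [← k1']; module
      have k2'' : (0 : k) • x + h • y + (-e) • z = (0 : k) • x + (0 : k) • y + (0 : k) • z := by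
        rw [← sub_eq_zero]; rw [← k2']; module
      obtain ⟨-, hi0, hf0⟩ := Groth.Agent.H65.basis3_coord b k1''
      obtain ⟨-, hh0, he0⟩ := Groth.Agent.H65.basis3_coord b k2''
      have hf0' : f = 0 := neg_eq_zero.mp hf0
      have he0' : e = 0 := neg_eq_zero.mp he0
      have : φ y = 0 := by rw [hY, he0', hf0']; module
      have hy0 : y = 0 := φ.injective (this.trans (map_zero φ).symm)
      exact b.ne_zero 1 hy0
    by_cases hei : e * i = 0
    · right
      have hfh : f * h ≠ 0 := by
        intro h0; apply hdet; rw [hei, h0, sub_zero]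
      have hf0 : f ≠ 0 := left_ne_zero_of_mul hfh
      have hh0 : h ≠ 0 := right_ne_zero_of_mul hfh
      have k1 : t' * a = 1 := by
        have : f * (1 - t' * a) = 0 := by linear_combination hf
        rcases mul_eq_zero.mp this with h0 | h0
        · exact absurd h0 hf0
        · linear_combination -h0
      have k2 : a = t := by
        have : h * (t - a) = 0 := by linear_combination hh
        rcases mul_eq_zero.mp this with h0 | h0
        · exact absurd h0 hh0
        · linear_combination -h0
      rw [k2] at k1
      exact eq_inv_of_mul_eq_one_left k1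
    · left
      have he0 : e ≠ 0 := left_ne_zero_of_mul hei
      have hi0 : i ≠ 0 := right_ne_zero_of_mul hei
      have k1 : a = 1 := by
        have : e * (1 - a) = 0 := by linear_combination he
        rcases mul_eq_zero.mp this with h0 | h0
        · exact absurd h0 he0
        · linear_combination -h0
      have k2 : t = t' * a := by
        have : i * (t - t' * a) = 0 := by linear_combination hi
        rcases mul_eq_zero.mp this with h0 | h0
        · exact absurd h0 hi0
        · linear_combination h0
      rw [k1, mul_one] at k2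
      exact k2.symm
  · -- construction
    have key : ∀ (X Y Z : L') (hXY : ⁅X, Y⁆ = Y) (hXZ : ⁅X, Z⁆ = t • Z) (hYZ : ⁅Y, Z⁆ = 0)
        (u v : L), (b.constr k ![X, Y, Z]) ⁅u, v⁆ =
          ⁅(b.constr k ![X, Y, Z]) u, (b.constr k ![X, Y, Z]) v⁆ := by
      intro X Y Z hXY hXZ hYZ u v
      have hYX : ⁅Y, X⁆ = -Y := by rw [← lie_skew, hXY]
      have hZX : ⁅Z, X⁆ = -(t • Z) := by rw [← lie_skew, hXZ]
      have hZY : ⁅Z, Y⁆ = 0 := by rw [← lie_skew, hYZ, neg_zero]
      have f0 : (b.constr k ![X, Y, Z]) x = X := by rw [hx, Module.Basis.constr_basis]; rfl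
      have f1 : (b.constr k ![X, Y, Z]) y = Y := by rw [hy, Module.Basis.constr_basis]; rfl
      have f2 : (b.constr k ![X, Y, Z]) z = Z := by rw [hz, Module.Basis.constr_basis]; rfl
      have hu := Groth.Agent.H65.basis3_expand b u
      have hv := Groth.Agent.H65.basis3_expand b v
      generalize b.repr u 0 = u0 at hu
      generalize b.repr u 1 = u1 at hu
      generalize b.repr u 2 = u2 at hu
      generalize b.repr v 0 = v0 at hv
      generalize b.repr v 1 = v1 at hv
      generalize b.repr v 2 = v2 at hv
      rw [← hx, ← hy, ← hz] at hu hv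
      rw [hu, hv, hbr]
      simp only [map_add, map_smul, f0, f1, f2, lie_add, add_lie, lie_smul, smul_lie, lie_self,
        hXY, hXZ, hYZ, hYX, hZX, hZY]
      module
    rintro (htt | htt)
    · subst htt
      let f : L →ₗ[k] L' := b.constr k ![x', y', z']
      let g : L' →ₗ[k] L := b'.constr k ![x, y, z]
      have hgf : ∀ u, g (f u) = u := by
        intro u
        have : g.comp f = LinearMap.id := by
          apply b.ext
          intro j
          fin_cases j <;> simp [f, g, Module.Basis.constr_basis, hx', hy', hz', hx, hy, hz]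
        exact LinearMap.congr_fun this u
      have hfg : ∀ u, f (g u) = u := by
        intro u
        have : f.comp g = LinearMap.id := by
          apply b'.ext
          intro j
          fin_cases j <;> simp [f, g, Module.Basis.constr_basis, hx', hy', hz', hx, hy, hz]
        exact LinearMap.congr_fun this u
      exact ⟨{ toLinearMap := f
               map_lie' := fun {u v} => key x' y' z' h01' h02' h12' u v
               invFun := g
               left_inv := hgf
               right_inv := hfg }⟩
    · have htt' : t * t' = 1 := by rw [htt]; exact mul_inv_cancel₀ ht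
      let f : L →ₗ[k] L' := b.constr k ![t • x', z', y']
      let g : L' →ₗ[k] L := b'.constr k ![t' • x, z, y]
      have hgf : ∀ u, g (f u) = u := by
        intro u
        have : g.comp f = LinearMap.id := by
          apply b.ext
          intro j
          fin_cases j
          · simp [f, g, Module.Basis.constr_basis, hx', hy', hz', hx, hy, hz, smul_smul, htt']
          · simp [f, g, Module.Basis.constr_basis, hx', hy', hz', hx, hy, hz]
          · simp [f, g, Module.Basis.constr_basis, hx', hy', hz', hx, hy, hz]
        exact LinearMap.congr_fun this u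
      have hfg : ∀ u, f (g u) = u := by
        intro u
        have : f.comp g = LinearMap.id := by
          apply b'.ext
          intro j
          fin_cases j
          · simp [f, g, Module.Basis.constr_basis, hx', hy', hz', hx, hy, hz, smul_smul,
              mul_comm t' t, htt']
          · simp [f, g, Module.Basis.constr_basis, hx', hy', hz', hx, hy, hz]
          · simp [f, g, Module.Basis.constr_basis, hx', hy', hz', hx, hy, hz]
        exact LinearMap.congr_fun this u
      have r1 : ⁅t • x', z'⁆ = z' := by rw [smul_lie, h02', smul_smul, htt', one_smul]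
      have r2 : ⁅t • x', y'⁆ = t • y' := by rw [smul_lie, h01']
      exact ⟨{ toLinearMap := f
               map_lie' := fun {u v} => key (t • x') z' y' r1 r2 h21' u v
               invFun := g
               left_inv := hgf
               right_inv := hfg }⟩

end Groth.Agent.S13108
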