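import Groth.Statements.S13109
import Groth.Agent.H69.PtFunSN

set_option autoImplicit false
universe u
open HTop

namespace Groth.Agent.S13109

open AlgebraicGeometry W4c1hilbchowinc in
/-- Let A be a Noetherian seminormal ring whose integral closure in its total ring of fractions is a
finite A-module. Then a pointwise function on Spec A — one element of the residue field κ(y) for
every point y — which varies algebraically along complete discrete valuation rings (for every
complete discrete valuation ring R and every morphism Spec R → Spec A there is an element of R whose
values at the two points of Spec R are the images of the chosen values) is the family of values of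
exactly one global section. Seminormal is meant in the sense that x^3 = y^2 forces x = a^2 and y =
a^3 for a unique a, which for reduced Noetherian rings is equivalent to the criterion on elements of
the total ring of fractions; test rings range over the universe of A. -/
theorem result
    (A : Type u) [CommRing A] [IsNoetherianRing A] (hA : HTop.IsSeminormalRing A)
    (hfin : Module.Finite A (integralClosure A (FractionRing A)))
    (f : PtFun (Spec (CommRingCat.of A))) (hf : f.VariesAlongCompleteDVR) :
    ∃! a : Γ(Spec (CommRingCat.of A), ⊤), PtFun.ofSection (Spec (CommRingCat.of A)) a = f := by
  obtain ⟨num, den, hrep⟩ := Groth.Agent.H69.PtFunT.exists_represents f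
  have hvar := Groth.Agent.H69.PtFunT.algVariesComplete_of_variesAlongCompleteDVR hrep hf
  obtain ⟨a, ha⟩ := Groth.Agent.H69.PtFunSN.exists_of_isSeminormalRing hA hrep.1 hvar
  have hred : IsReduced A := Groth.Agent.H69.isReduced_of_isSeminormalRing hA
  exact Groth.Agent.H69.PtFunCore.existsUnique_section hrep a ha

end Groth.Agent.S13109
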