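import Groth.Statements.S13110
import Groth.Agent.H69.PtFunCore

set_option autoImplicit false
universe u
open HTop

namespace Groth.Agent.S13110

open AlgebraicGeometry W4c1hilbchowinc in
/-- Let A be a reduced Noetherian ring, integrally closed inside its total ring of fractions
(equivalently, a finite product of integrally closed Noetherian domains). Then a pointwise function
on Spec A — one element of the residue field κ(y) for every point y — which varies algebraically
along discrete valuation rings (for every discrete valuation ring R and every morphism Spec R → Spec
A there is an element of R whose values at the two points of Spec R are the images of the chosen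
values) is the family of values of exactly one global section. Reducedness is part of the meaning of
integrally closed here; test rings range over the universe of A. -/
theorem result
    (A : Type u) [CommRing A] [IsReduced A] [IsNoetherianRing A] [IsIntegrallyClosed A]
    (f : PtFun (Spec (CommRingCat.of A))) (hf : f.VariesAlongDVR) :
    ∃! a : Γ(Spec (CommRingCat.of A), ⊤), PtFun.ofSection (Spec (CommRingCat.of A)) a = f := by
  obtain ⟨num, den, hrep⟩ := Groth.Agent.H69.PtFunT.exists_represents f
  have hvar := (Groth.Agent.H69.PtFunT.algVaries_of_variesAlongDVR hrep hf).complete
  obtain ⟨a, ha⟩ := Groth.Agent.H69.PtFunCore.exists_of_isIntegrallyClosed hrep.1 hvar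
  exact Groth.Agent.H69.PtFunCore.existsUnique_section hrep a ha

end Groth.Agent.S13110
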