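import Groth.Statements.S13111
import Groth.Agent.H69.PtFunT

set_option autoImplicit false
universe u
open HTop

namespace Groth.Agent.S13111

open AlgebraicGeometry W4c1hilbchowinc in
/-- Let A be a reduced Noetherian ring whose integral closure in its total ring of fractions is a finite
A-module. Suppose that any pointwise function on Spec A that is algebraic along every discrete
valuation ring (for every discrete valuation ring R and every morphism Spec R → Spec A there is an
element of R whose values at the two points of Spec R are the images of the chosen values) is the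
family of values of exactly one global section. Then A is seminormal: whenever x^3 = y^2 there is
exactly one a with x = a^2 and y = a^3. Test rings range over the universe of A. -/
theorem result
    (A : Type u) [CommRing A] [IsReduced A] [IsNoetherianRing A]
    (hfin : Module.Finite A (integralClosure A (FractionRing A)))
    (h : ∀ f : PtFun (Spec (CommRingCat.of A)), f.VariesAlongDVR →
      ∃! a : Γ(Spec (CommRingCat.of A), ⊤), PtFun.ofSection (Spec (CommRingCat.of A)) a = f) :
    HTop.IsSeminormalRing A := by
  classical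
  intro x y hxy
  let num : PrimeSpectrum A → A := fun P => if x ∈ P.asIdeal then 0 else y
  let den : PrimeSpectrum A → A := fun P => if x ∈ P.asIdeal then 1 else x
  have hdenP : ∀ P : PrimeSpectrum A, den P ∉ P.asIdeal := by
    intro P
    by_cases hx : x ∈ P.asIdeal
    · simp only [den, if_pos hx]
      exact P.isPrime.one_notMem
    · simp only [den, if_neg hx]
      exact hx
  set f : PtFun (Spec (CommRingCat.of A)) := Groth.Agent.H69.PtFunT.ofFrac num den with hf
  have hrep : Groth.Agent.H69.PtFunT.Represents f num den :=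
    Groth.Agent.H69.PtFunT.represents_ofFrac num den hdenP
  have hvar : Groth.Agent.H69.PtFunT.AlgVaries num den := by
    intro R _ _ _ ψ
    have hxy' : ψ x ^ 3 = ψ y ^ 2 := by rw [← map_pow, ← map_pow, hxy]
    by_cases hx0 : ψ x = 0
    · refine ⟨0, fun Q => ?_⟩
      have hxQ : x ∈ (Q.comap ψ).asIdeal := by
        show ψ x ∈ Q.asIdeal
        rw [hx0]; exact zero_mem _
      simp only [num, den, if_pos hxQ, map_zero, map_one, mul_one, sub_zero]
      exact zero_mem _
    · -- `ψ x ∣ ψ y`
      have hdvd : ψ x ∣ ψ y := by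
        rcases ValuationRing.dvd_total (ψ x) (ψ y) with h1 | ⟨c, hc⟩
        · exact h1
        · -- ψ x = ψ y * c
          have hy0 : ψ y ≠ 0 := by
            intro hy0; rw [hy0, zero_mul] at hc; exact hx0 hc
          have h3 : ψ y ^ 2 * (ψ y * c ^ 3 - 1) = 0 := by
            have : (ψ y * c) ^ 3 = ψ y ^ 2 := by rw [← hc]; exact hxy'
            linear_combination this
          have h4 : ψ y * c ^ 3 = 1 := by
            rcases mul_eq_zero.1 h3 with h | h
            · exact absurd ((pow_eq_zero_iff (two_ne_zero)).1 h) hy0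
            · exact sub_eq_zero.1 h
          have hyu : IsUnit (ψ y) := IsUnit.of_mul_eq_one _ h4
          have hxu : IsUnit (ψ x) := by
            have : IsUnit (ψ x ^ 3) := by rw [hxy']; exact hyu.pow 2
            exact (isUnit_pow_iff (by norm_num)).1 this
          exact hxu.dvd
      obtain ⟨r, hr⟩ := hdvd
      have hr2 : r ^ 2 = ψ x := by
        have h5 : ψ x ^ 2 * (r ^ 2 - ψ x) = 0 := by
          have : ψ x ^ 3 = (ψ x * r) ^ 2 := by rw [← hr]; exact hxy'
          linear_combination -this
        rcases mul_eq_zero.1 h5 with h | h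
        · exact absurd ((pow_eq_zero_iff (two_ne_zero)).1 h) hx0
        · exact sub_eq_zero.1 h
      refine ⟨r, fun Q => ?_⟩
      by_cases hxQ : x ∈ (Q.comap ψ).asIdeal
      · simp only [num, den, if_pos hxQ, map_zero, map_one, mul_one, sub_zero]
        have h6 : r ^ 2 ∈ Q.asIdeal := by rw [hr2]; exact hxQ
        exact Q.isPrime.mem_of_pow_mem 2 h6
      · simp only [num, den, if_neg hxQ]
        rw [hr, mul_comm, sub_self]
        exact zero_mem _
  obtain ⟨a, ha, -⟩ := h f (Groth.Agent.H69.PtFunT.variesAlongDVR_of_algVaries hrep hvar)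
  rw [Groth.Agent.H69.PtFunT.ofSection_eq_iff hrep] at ha
  set a' : A := (Scheme.ΓSpecIso (CommRingCat.of A)).hom a with ha'
  have hzero : ∀ z : A, (∀ P : PrimeSpectrum A, z ∈ P.asIdeal) → z = 0 := by
    intro z hz
    apply IsReduced.eq_zero
    rw [nilpotent_iff_mem_prime]
    intro J hJ
    exact hz ⟨J, hJ⟩
  have hmain : ∀ P : PrimeSpectrum A, x - a' ^ 2 ∈ P.asIdeal ∧ y - a' ^ 3 ∈ P.asIdeal := by
    intro P
    have haP := ha P
    by_cases hxP : x ∈ P.asIdeal
    · simp only [num, den, if_pos hxP, mul_one, sub_zero] at haP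
      have hyP : y ∈ P.asIdeal := by
        have : y ^ 2 ∈ P.asIdeal := by rw [← hxy]; exact Ideal.pow_mem_of_mem _ hxP 3 (by norm_num)
        exact P.isPrime.mem_of_pow_mem 2 this
      exact ⟨sub_mem hxP (Ideal.pow_mem_of_mem _ haP 2 (by norm_num)),
        sub_mem hyP (Ideal.pow_mem_of_mem _ haP 3 (by norm_num))⟩
    · simp only [num, den, if_neg hxP] at haP
      -- a' x - y ∈ P
      have h1 : x ^ 2 * (x - a' ^ 2) ∈ P.asIdeal := by
        have : x ^ 2 * (x - a' ^ 2) = -(a' * x + y) * (a' * x - y) := by
          linear_combination hxy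
        rw [this]
        exact Ideal.mul_mem_left _ _ haP
      have h2 : x - a' ^ 2 ∈ P.asIdeal := by
        rcases P.isPrime.mem_or_mem h1 with h | h
        · exact absurd (P.isPrime.mem_of_pow_mem 2 h) hxP
        · exact h
      refine ⟨h2, ?_⟩
      have : y - a' ^ 3 = -(a' * x - y) + a' * (x - a' ^ 2) := by ring
      rw [this]
      exact add_mem (neg_mem haP) (Ideal.mul_mem_left _ _ h2)
  have hx : x = a' ^ 2 := sub_eq_zero.1 (hzero _ fun P => (hmain P).1)
  have hy : y = a' ^ 3 := sub_eq_zero.1 (hzero _ fun P => (hmain P).2)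
  refine ⟨a', ⟨hx, hy⟩, ?_⟩
  rintro b ⟨hb2, hb3⟩
  have h2 : b ^ 2 = a' ^ 2 := by rw [← hb2, hx]
  have h3 : b ^ 3 = a' ^ 3 := by rw [← hb3, hy]
  have hnil : (b - a') ^ 3 = 0 := by
    linear_combination 4 * h3 + (-(3 : A) * a' - 3 * b) * h2
  have := IsReduced.eq_zero _ ⟨3, hnil⟩
  exact sub_eq_zero.1 this

end Groth.Agent.S13111
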