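import Groth.Statements.S13114
import Mathlib
-- import your own Groth.Agent.* helpers here

set_option autoImplicit false
universe u
open HilbChow

namespace Groth.Agent.S13114

/-- Let k be an algebraically closed field, A a commutative local k-algebra of finite dimension n over k
and u a unit of A. Then the determinant of multiplication by u on the k-vector space A, mapped to
the residue field of A, equals the n-th power of the residue class of u. -/
theorem result
    (k A : Type u) [Field k] [IsAlgClosed k] [CommRing A] [Algebra k A] [IsLocalRing A]
    [Module.Finite k A] (u : Aˣ) :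
    algebraMap k (IsLocalRing.ResidueField A) (Algebra.norm k (u : A)) =
      IsLocalRing.residue A (u : A) ^ Module.finrank k A := by
  have hsurj : Function.Surjective (algebraMap k (IsLocalRing.ResidueField A)) :=
    (IsAlgClosed.algebraMap_bijective_of_isIntegral (k := k)).2
  obtain ⟨c, hc⟩ := hsurj (IsLocalRing.residue A u)
  have hm : (u : A) - algebraMap k A c ∈ IsLocalRing.maximalIdeal A := by
    rw [← IsLocalRing.residue_eq_zero_iff, map_sub, ← hc, sub_eq_zero]
    rw [IsScalarTower.algebraMap_apply k A (IsLocalRing.ResidueField A)]
    rfl
  have hart : IsArtinianRing A := IsArtinianRing.of_finite k A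
  have hnil : IsNilpotent ((u : A) - algebraMap k A c) := by
    have h1 : IsNilpotent (Ideal.jacobson (⊥ : Ideal A)) := IsArtinianRing.isNilpotent_jacobson_bot
    rw [IsLocalRing.jacobson_eq_maximalIdeal ⊥ bot_ne_top] at h1
    obtain ⟨n, hn⟩ := h1
    refine ⟨n, ?_⟩
    have := Ideal.pow_mem_pow hm n
    rw [hn] at this
    simpa using this
  have hnorm : Algebra.norm k (u : A) = c ^ Module.finrank k A := by
    rw [Algebra.norm_apply]
    have h2 : Algebra.lmul k A (u : A) = algebraMap k (Module.End k A) c -
        (- Algebra.lmul k A ((u : A) - algebraMap k A c)) := by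
      ext x
      simp [Algebra.smul_def]
    have h3 : IsNilpotent (- Algebra.lmul k A ((u : A) - algebraMap k A c)) := by
      rw [isNilpotent_neg_iff]
      exact hnil.map (Algebra.lmul k A)
    rw [h2, ← LinearMap.eval_charpoly, IsNilpotent.charpoly_eq_X_pow_finrank h3]
    simp
  rw [hnorm, map_pow, hc]

end Groth.Agent.S13114
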