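import Groth.Statements.S13117
import Groth.Agent.H65.NormLocal
-- import your own Groth.Agent.* helpers here

set_option autoImplicit false
universe u
open HilbChow

namespace Groth.Agent.S13117

/-- Let k be an algebraically closed field, A a finite-dimensional commutative k-algebra (the coordinate
ring of a zero-dimensional subscheme Z of length dim_k A) and f ∈ A. Then the determinant of
multiplication by f on A is the product over the points x of Z — the k-algebra homomorphisms A → k —
of the value f(x) raised to the length of the local ring of Z at x, that length being the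
k-dimension of the localisation of A at the corresponding maximal ideal. This is the formula by
which the Hilbert-to-Chow morphism for zero-cycles sends Z to its fundamental cycle Σ ℓ(O_{Z,x})[x]. -/
theorem result
    (k A : Type u) [Field k] [IsAlgClosed k] [CommRing A] [Algebra k A] [Module.Finite k A] (f : A) :
    Algebra.norm k f =
      ∏ᶠ φ : A →ₐ[k] k, φ f ^ Module.finrank k (Localization.AtPrime (Ideal.comap φ ⊥)) := by
  classical
  have hart : IsArtinianRing A := IsArtinianRing.of_finite k A
  have : Fintype (PrimeSpectrum A) := Fintype.ofFinite _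
  have hfin : ∀ (p : Ideal A) [p.IsPrime], Module.Finite k (Localization.AtPrime p) := fun p _ =>
    Module.Finite.of_surjective (Algebra.algHom k A (Localization.AtPrime p)).toLinearMap
      (IsArtinianRing.localization_surjective p.primeCompl (Localization.AtPrime p))
  -- step 1: norm as product over the prime spectrum
  have h1 : Algebra.norm k f = ∏ p : PrimeSpectrum A,
      Algebra.norm k (algebraMap A (Localization.AtPrime p.asIdeal) f) := by
    rw [← Algebra.norm_eq_of_algEquiv ((PrimeSpectrum.toPiLocalizationEquiv A).restrictScalars k) f,
      Groth.Agent.H65.NormLocal.norm_pi']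
    rfl
  -- step 2: the local computation
  have h2 : ∀ φ : A →ₐ[k] k, Algebra.norm k (algebraMap A (Localization.AtPrime (Ideal.comap φ ⊥)) f) =
      φ f ^ Module.finrank k (Localization.AtPrime (Ideal.comap φ ⊥)) := by
    intro φ
    apply Groth.Agent.H65.NormLocal.norm_local
    rw [IsScalarTower.algebraMap_apply k A (Localization.AtPrime (Ideal.comap φ ⊥)), ← map_sub,
      IsLocalization.AtPrime.to_map_mem_maximal_iff (Localization.AtPrime (Ideal.comap φ ⊥))
        (Ideal.comap φ ⊥)]
    rw [Ideal.mem_comap, Ideal.mem_bot, map_sub, AlgHom.commutes]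
    simp
  -- step 3: bijection between points and primes
  let g : (A →ₐ[k] k) → PrimeSpectrum A := fun φ => ⟨Ideal.comap φ ⊥, inferInstance⟩
  have hg : Function.Bijective g := by
    constructor
    · intro φ ψ h
      have hker : Ideal.comap φ ⊥ = Ideal.comap ψ ⊥ := congrArg PrimeSpectrum.asIdeal h
      ext a
      have h3 : a - algebraMap k A (φ a) ∈ Ideal.comap φ ⊥ := by
        rw [Ideal.mem_comap, Ideal.mem_bot, map_sub, AlgHom.commutes]
        simp
      rw [hker, Ideal.mem_comap, Ideal.mem_bot, map_sub, AlgHom.commutes, sub_eq_zero] at h3
      simpa using h3.symm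
    · rintro ⟨p, hp⟩
      have hmax : p.IsMaximal := inferInstance
      let K := A ⧸ p
      let _ : Field K := Ideal.Quotient.field p
      have hbij : Function.Bijective (algebraMap k K) :=
        IsAlgClosed.algebraMap_bijective_of_isIntegral (k := k)
      let e : k ≃ₐ[k] K := AlgEquiv.ofBijective (Algebra.ofId k K) hbij
      refine ⟨(e.symm : K →ₐ[k] k).comp (Ideal.Quotient.mkₐ k p), ?_⟩
      apply PrimeSpectrum.ext
      ext x
      simp only [g, Ideal.mem_comap, AlgHom.coe_comp, Function.comp_apply, Ideal.mem_bot]
      change e.symm (Ideal.Quotient.mk p x) = 0 ↔ x ∈ p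
      rw [EmbeddingLike.map_eq_zero_iff, Ideal.Quotient.eq_zero_iff_mem]
  rw [h1, ← finprod_eq_prod_of_fintype]
  rw [← finprod_eq_of_bijective g hg (fun φ => (h2 φ).symm)]

end Groth.Agent.S13117
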