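import Groth.Statements.S13120
import Groth.Agent.H65.KumDer
-- import your own Groth.Agent.* helpers here

set_option autoImplicit false
universe u
open KumFam

namespace Groth.Agent.S13120

open MvPolynomial in
/-- Let R be a commutative ring of characteristic 2 and l0, l2, l4, s0, s2, s4, τ ∈ R with τ a unit.
Inside R[u, v] (u = X 0, v = X 1) let A = R[u², u³, v², v³] be the coordinate ring of the product of
two cuspidal curves, and let D be the R-derivation of R[u, v] with D(u) = v²(l0 u⁴ + τ u³ + l2 u² +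
l4) and D(v) = u²(s0 v⁴ + τ v³ + s2 v² + s4); D is u²v² times the rational vector field (l0 u² + τ u
+ l2 + l4 u⁻²) ∂_u + (s0 v² + τ v + s2 + s4 v⁻²) ∂_v, which maps A into itself, and u²v² is a
non-zero-divisor, so the kernel of that vector field on A is the set of a ∈ A with D(a) = 0. Then
for a ∈ A: D(a) = 0 if and only if a ∈ R[u², v², g], where g = (s0 v⁴ + s2 v² + s4) u³ + (l0 u⁴ + l2
u² + l4) v³ + τ u³ v³. (The published statement identifies this kernel with the ring of invariants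
of the corresponding action of the group scheme of square roots of unity; this row states the kernel
computation that is actually carried out.) -/
theorem result (R : Type u) [CommRing R] [CharP R 2]
    (l0 l2 l4 s0 s2 s4 τ : R) (hτ : IsUnit τ) (a : MvPolynomial (Fin 2) R)
    (ha : a ∈ Algebra.adjoin R
      ({X 0 ^ 2, X 0 ^ 3, X 1 ^ 2, X 1 ^ 3} : Set (MvPolynomial (Fin 2) R))) :
    MvPolynomial.mkDerivation R
        (![X 1 ^ 2 * (C l0 * X 0 ^ 4 + C τ * X 0 ^ 3 + C l2 * X 0 ^ 2 + C l4),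
          X 0 ^ 2 * (C s0 * X 1 ^ 4 + C τ * X 1 ^ 3 + C s2 * X 1 ^ 2 + C s4)] :
          Fin 2 → MvPolynomial (Fin 2) R) a = 0 ↔
      a ∈ Algebra.adjoin R
        ({X 0 ^ 2, X 1 ^ 2,
          (C s0 * X 1 ^ 4 + C s2 * X 1 ^ 2 + C s4) * X 0 ^ 3 +
            (C l0 * X 0 ^ 4 + C l2 * X 0 ^ 2 + C l4) * X 1 ^ 3 +
            C τ * X 0 ^ 3 * X 1 ^ 3} : Set (MvPolynomial (Fin 2) R)) := by
  classical
  obtain ⟨τi, hτi⟩ := hτ.exists_right_inv
  have h2 : (2 : MvPolynomial (Fin 2) R) = 0 := Groth.Agent.H65.Kum.two_eq_zero'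
  set Du : MvPolynomial (Fin 2) R :=
    X 1 ^ 2 * (C l0 * X 0 ^ 4 + C τ * X 0 ^ 3 + C l2 * X 0 ^ 2 + C l4) with hDu
  set Dv : MvPolynomial (Fin 2) R :=
    X 0 ^ 2 * (C s0 * X 1 ^ 4 + C τ * X 1 ^ 3 + C s2 * X 1 ^ 2 + C s4) with hDv
  set g : MvPolynomial (Fin 2) R := (C s0 * X 1 ^ 4 + C s2 * X 1 ^ 2 + C s4) * X 0 ^ 3 +
      (C l0 * X 0 ^ 4 + C l2 * X 0 ^ 2 + C l4) * X 1 ^ 3 + C τ * X 0 ^ 3 * X 1 ^ 3 with hg
  set D := MvPolynomial.mkDerivation R (![Du, Dv] : Fin 2 → MvPolynomial (Fin 2) R) with hD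
  have hDX0 : D (X 0) = Du := by rw [hD, mkDerivation_X]; rfl
  have hDX1 : D (X 1) = Dv := by rw [hD, mkDerivation_X]; rfl
  set Se : MvPolynomial (Fin 2) R := C s0 * X 1 ^ 2 + C s2 * X 1 + C s4 with hSe
  set Le : MvPolynomial (Fin 2) R := C l0 * X 0 ^ 2 + C l2 * X 0 + C l4 with hLe
  set T : MvPolynomial (Fin 2) R := C τ * X 0 * X 1 with hT
  have eDu : Du = expand 2 (X 1 * Le) + X 0 * expand 2 T := by
    simp only [hDu, hLe, hT, map_add, map_mul, map_pow, expand_C, expand_X]; ring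
  have eDv : Dv = expand 2 (X 0 * Se) + X 1 * expand 2 T := by
    simp only [hDv, hSe, hT, map_add, map_mul, map_pow, expand_C, expand_X]; ring
  have eg : g = X 0 * expand 2 (X 0 * Se) + X 1 * expand 2 (X 1 * Le) +
      X 0 * X 1 * expand 2 T := by
    simp only [hg, hSe, hLe, hT, map_add, map_mul, map_pow, expand_C, expand_X]; ring
  have hCC : (C τ : MvPolynomial (Fin 2) R) * C τi = 1 := by rw [← map_mul, hτi, map_one]
  have hDg : D g = 0 := by
    have e0 : g = expand 2 0 + X 0 * expand 2 (X 0 * Se) + X 1 * expand 2 (X 1 * Le) +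
        X 0 * X 1 * expand 2 T := by rw [map_zero, zero_add]; exact eg
    rw [e0, Groth.Agent.H65.Kum.der_parity, hDX0, hDX1, eDu, eDv]
    linear_combination (expand 2 (X 0 * Se) * expand 2 (X 1 * Le) +
      X 0 * expand 2 T * expand 2 (X 0 * Se) + X 1 * expand 2 T * expand 2 (X 1 * Le) +
      X 0 * X 1 * expand 2 T * expand 2 T) * h2
  have hE : ∀ q : MvPolynomial (Fin 2) R, expand 2 q ∈ Algebra.adjoin R
      ({X 0 ^ 2, X 1 ^ 2, g} : Set (MvPolynomial (Fin 2) R)) := by
    intro q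
    induction q using MvPolynomial.induction_on with
    | C a => rw [expand_C]; exact Subalgebra.algebraMap_mem _ a
    | add p q hp hq => rw [map_add]; exact add_mem hp hq
    | mul_X p j hp =>
      rw [map_mul, expand_X]
      refine mul_mem hp (Algebra.subset_adjoin ?_)
      fin_cases j <;> simp
  -- Step A
  have stepA : ∃ α β γ δ : MvPolynomial (Fin 2) R, a = expand 2 α + X 0 ^ 3 * expand 2 β +
      X 1 ^ 3 * expand 2 γ + X 0 ^ 3 * X 1 ^ 3 * expand 2 δ := by
    induction ha using Algebra.adjoin_induction with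
    | mem x hx =>
      simp only [Set.mem_insert_iff, Set.mem_singleton_iff] at hx
      rcases hx with rfl | rfl | rfl | rfl
      · exact ⟨X 0, 0, 0, 0, by simp⟩
      · exact ⟨0, 1, 0, 0, by simp⟩
      · exact ⟨X 1, 0, 0, 0, by simp⟩
      · exact ⟨0, 0, 1, 0, by simp⟩
    | algebraMap r => exact ⟨C r, 0, 0, 0, by simp⟩
    | add x y hx hy ihx ihy =>
      obtain ⟨α, β, γ, δ, rfl⟩ := ihx
      obtain ⟨α', β', γ', δ', rfl⟩ := ihy
      exact ⟨α + α', β + β', γ + γ', δ + δ', by simp only [map_add]; ring⟩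
    | mul x y hx hy ihx ihy =>
      obtain ⟨α, β, γ, δ, rfl⟩ := ihx
      obtain ⟨α', β', γ', δ', rfl⟩ := ihy
      refine ⟨α * α' + X 0 ^ 3 * β * β' + X 1 ^ 3 * γ * γ' + X 0 ^ 3 * X 1 ^ 3 * δ * δ',
        α * β' + β * α' + X 1 ^ 3 * (γ * δ' + δ * γ'),
        α * γ' + γ * α' + X 0 ^ 3 * (β * δ' + δ * β'),
        α * δ' + δ * α' + β * γ' + γ * β', ?_⟩
      simp only [map_add, map_mul, map_pow, expand_X]; ring
  constructor
  · intro hDa
    obtain ⟨α, β, γ, δ, rfl⟩ := stepA
    have eform : expand 2 α + X 0 ^ 3 * expand 2 β + X 1 ^ 3 * expand 2 γ +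
        X 0 ^ 3 * X 1 ^ 3 * expand 2 δ = expand 2 α + X 0 * expand 2 (X 0 * β) +
        X 1 * expand 2 (X 1 * γ) + X 0 * X 1 * expand 2 (X 0 * X 1 * δ) := by
      simp only [map_mul, expand_X]; ring
    rw [eform, Groth.Agent.H65.Kum.der_parity, hDX0, hDX1, eDu, eDv] at hDa
    have hpar : expand 2 (X 0 * β * (X 1 * Le) + X 1 * γ * (X 0 * Se)) +
        X 0 * expand 2 (X 0 * β * T + X 0 * X 1 * δ * (X 0 * Se)) +
        X 1 * expand 2 (X 1 * γ * T + X 0 * X 1 * δ * (X 1 * Le)) +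
        X 0 * X 1 * expand 2 0 = 0 := by
      simp only [map_add, map_mul, map_zero] at hDa ⊢
      linear_combination hDa - (X 0 * X 1 * (expand 2 (X 0) * expand 2 (X 1) * expand 2 δ) *
        expand 2 T) * h2
    obtain ⟨-, hβ, hγ, -⟩ := Groth.Agent.H65.Par.parity_unique _ _ _ _ hpar
    have hβ1 : C τ * β + δ * Se = 0 := by
      have : X 0 * (X 0 * (X 1 * (C τ * β + δ * Se))) = 0 := by
        rw [← hβ, hT]; ring
      have r0 := (isRegular_X (R := R) (n := (0 : Fin 2))).left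
      have r1 := (isRegular_X (R := R) (n := (1 : Fin 2))).left
      exact r1 (by simpa using r0 (by simpa using r0 (by simpa using this)))
    have hγ1 : C τ * γ + δ * Le = 0 := by
      have : X 1 * (X 1 * (X 0 * (C τ * γ + δ * Le))) = 0 := by
        rw [← hγ, hT]; ring
      have r0 := (isRegular_X (R := R) (n := (0 : Fin 2))).left
      have r1 := (isRegular_X (R := R) (n := (1 : Fin 2))).left
      exact r0 (by simpa using r1 (by simpa using r1 (by simpa using this)))
    have hβ' := congrArg (expand 2) hβ1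
    have hγ' := congrArg (expand 2) hγ1
    simp only [map_add, map_mul, map_zero, expand_C] at hβ' hγ'
    have hfin : expand 2 α + X 0 ^ 3 * expand 2 β + X 1 ^ 3 * expand 2 γ +
        X 0 ^ 3 * X 1 ^ 3 * expand 2 δ = expand 2 α + expand 2 (C τi * δ) * g := by
      have eg' : g = X 0 ^ 3 * expand 2 Se + X 1 ^ 3 * expand 2 Le + C τ * X 0 ^ 3 * X 1 ^ 3 := by
        simp only [hg, hSe, hLe, map_add, map_mul, map_pow, expand_C, expand_X]; ring
      rw [eg', map_mul, expand_C]
      linear_combination (-(X 0 ^ 3 * C τi)) * hβ' + (-(X 1 ^ 3 * C τi)) * hγ' +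
        (X 0 ^ 3 * expand 2 β + X 1 ^ 3 * expand 2 γ - X 0 ^ 3 * X 1 ^ 3 * expand 2 δ) * hCC +
        (X 0 ^ 3 * expand 2 β + X 1 ^ 3 * expand 2 γ) * h2
    rw [hfin]
    exact add_mem (hE α) (mul_mem (hE _) (Algebra.subset_adjoin (by simp)))
  · intro hmem
    clear ha stepA
    induction hmem using Algebra.adjoin_induction with
    | mem x hx =>
      simp only [Set.mem_insert_iff, Set.mem_singleton_iff] at hx
      rcases hx with rfl | rfl | rfl
      · exact Groth.Agent.H65.Kum.der_sq D _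
      · exact Groth.Agent.H65.Kum.der_sq D _
      · exact hDg
    | algebraMap r => exact D.map_algebraMap r
    | add x y hx hy ihx ihy => rw [map_add, ihx, ihy, add_zero]
    | mul x y hx hy ihx ihy => rw [Derivation.leibniz, ihx, ihy, smul_zero, smul_zero, add_zero]

end Groth.Agent.S13120
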