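import Groth.Statements.S13122
import Groth.Agent.H65.KumDer
-- import your own Groth.Agent.* helpers here

set_option autoImplicit false
universe u
open KumFam

namespace Groth.Agent.S13122

open MvPolynomial in
/-- Let R be a commutative ring of characteristic 2 and l0, l2, l4, s0, s2, s4, τ ∈ R with τ a unit. On
R[x, y] (x = X 0, y = X 1; the coordinates u⁻¹, v⁻¹ of the smooth chart of the product of two
cuspidal curves) let D be the R-derivation with D(x) = l4 x⁴ + l2 x² + τ x + l0 and D(y) = s4 y⁴ +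
s2 y² + τ y + s0, and put h = (s4 y⁴ + s2 y² + s0) x + (l4 x⁴ + l2 x² + l0) y + τ x y. Then: (1) for
p ∈ R[x, y], D(p) = 0 if and only if p lies in the image of the R-algebra homomorphism R[a, b, c] →
R[x, y] (a = X 0, b = X 1, c = X 2) with a ↦ x², b ↦ y², c ↦ h; (2) the kernel of that homomorphism
is the ideal generated by c² + τ² a b + (s4² b⁴ + s2² b² + s0²) a + (l4² a⁴ + l2² a² + l0²) b. (The
published statement asserts that the ring of invariants of the action of the group scheme of square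
roots of unity given by this vector field is R[a, b, c] modulo this equation, by the same
computation as on the other chart; this row pins the generator h and states the kernel computation.) -/
theorem result (R : Type u) [CommRing R]
    [CharP R 2] (l0 l2 l4 s0 s2 s4 τ : R) (hτ : IsUnit τ) :
    (∀ p : MvPolynomial (Fin 2) R,
      MvPolynomial.mkDerivation R
          (![C l4 * X 0 ^ 4 + C l2 * X 0 ^ 2 + C τ * X 0 + C l0,
            C s4 * X 1 ^ 4 + C s2 * X 1 ^ 2 + C τ * X 1 + C s0] :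
            Fin 2 → MvPolynomial (Fin 2) R) p = 0 ↔
        p ∈ (MvPolynomial.aeval (R := R) (S₁ := MvPolynomial (Fin 2) R)
          ![X 0 ^ 2, X 1 ^ 2,
            (C s4 * X 1 ^ 4 + C s2 * X 1 ^ 2 + C s0) * X 0 +
              (C l4 * X 0 ^ 4 + C l2 * X 0 ^ 2 + C l0) * X 1 + C τ * X 0 * X 1]).range) ∧
    RingHom.ker (MvPolynomial.aeval (R := R) (S₁ := MvPolynomial (Fin 2) R)
        ![X 0 ^ 2, X 1 ^ 2,
          (C s4 * X 1 ^ 4 + C s2 * X 1 ^ 2 + C s0) * X 0 +
            (C l4 * X 0 ^ 4 + C l2 * X 0 ^ 2 + C l0) * X 1 + C τ * X 0 * X 1]) =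
      Ideal.span {(X 2 ^ 2 + C (τ ^ 2) * X 0 * X 1 +
        (C (s4 ^ 2) * X 1 ^ 4 + C (s2 ^ 2) * X 1 ^ 2 + C (s0 ^ 2)) * X 0 +
        (C (l4 ^ 2) * X 0 ^ 4 + C (l2 ^ 2) * X 0 ^ 2 + C (l0 ^ 2)) * X 1 : MvPolynomial (Fin 3) R)} := by
  classical
  obtain ⟨τi, hτi⟩ := hτ.exists_right_inv
  have h2 : (2 : MvPolynomial (Fin 2) R) = 0 := Groth.Agent.H65.Kum.two_eq_zero'
  set Dx : MvPolynomial (Fin 2) R := C l4 * X 0 ^ 4 + C l2 * X 0 ^ 2 + C τ * X 0 + C l0 with hDx
  set Dy : MvPolynomial (Fin 2) R := C s4 * X 1 ^ 4 + C s2 * X 1 ^ 2 + C τ * X 1 + C s0 with hDy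
  set hh : MvPolynomial (Fin 2) R := (C s4 * X 1 ^ 4 + C s2 * X 1 ^ 2 + C s0) * X 0 +
      (C l4 * X 0 ^ 4 + C l2 * X 0 ^ 2 + C l0) * X 1 + C τ * X 0 * X 1 with hhh
  set D := MvPolynomial.mkDerivation R (![Dx, Dy] : Fin 2 → MvPolynomial (Fin 2) R) with hD
  have hDX0 : D (X 0) = Dx := by rw [hD, mkDerivation_X]; rfl
  have hDX1 : D (X 1) = Dy := by rw [hD, mkDerivation_X]; rfl
  set S2 : MvPolynomial (Fin 2) R := C s4 * X 1 ^ 2 + C s2 * X 1 + C s0 with hS2
  set L2 : MvPolynomial (Fin 2) R := C l4 * X 0 ^ 2 + C l2 * X 0 + C l0 with hL2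
  have eDx : Dx = expand 2 L2 + C τ * X 0 := by
    simp only [hDx, hL2, map_add, map_mul, map_pow, expand_C, expand_X]; ring
  have eDy : Dy = expand 2 S2 + C τ * X 1 := by
    simp only [hDy, hS2, map_add, map_mul, map_pow, expand_C, expand_X]; ring
  have ehh : hh = X 0 * expand 2 S2 + X 1 * expand 2 L2 + X 0 * X 1 * expand 2 (C τ) := by
    simp only [hhh, hS2, hL2, map_add, map_mul, map_pow, expand_C, expand_X]; ring
  have hCC : (C τ : MvPolynomial (Fin 2) R) * C τi = 1 := by rw [← map_mul, hτi, map_one]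
  have hDh : D hh = 0 := by
    have e0 : hh = expand 2 0 + X 0 * expand 2 S2 + X 1 * expand 2 L2 +
        X 0 * X 1 * expand 2 (C τ) := by rw [map_zero, zero_add]; exact ehh
    rw [e0, Groth.Agent.H65.Kum.der_parity, hDX0, hDX1, eDx, eDy, expand_C]
    linear_combination (expand 2 S2 * expand 2 L2 + expand 2 S2 * C τ * X 0 +
      expand 2 L2 * C τ * X 1 + C τ * C τ * X 0 * X 1) * h2
  refine ⟨?_, ?_⟩
  · intro p
    constructor
    · intro hp
      obtain ⟨α, β, γ, δ, rfl⟩ := Groth.Agent.H65.Par.parity_exists p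
      rw [Groth.Agent.H65.Kum.der_parity, hDX0, hDX1, eDx, eDy] at hp
      have hpar : expand 2 (β * L2 + γ * S2) + X 0 * expand 2 (C τ * β + δ * S2) +
          X 1 * expand 2 (C τ * γ + δ * L2) + X 0 * X 1 * expand 2 0 = 0 := by
        simp only [map_add, map_mul, map_zero, expand_C]
        linear_combination hp - (expand 2 δ * C τ * X 0 * X 1) * h2
      obtain ⟨-, hβ, hγ, -⟩ := Groth.Agent.H65.Par.parity_unique _ _ _ _ hpar
      have hβ' := congrArg (expand 2) hβ
      have hγ' := congrArg (expand 2) hγ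
      simp only [map_add, map_mul, map_zero, expand_C] at hβ' hγ'
      rw [AlgHom.mem_range]
      refine ⟨Groth.Agent.H65.Kum.inc α + Groth.Agent.H65.Kum.inc (C τi * δ) * X 2, ?_⟩
      rw [map_add, map_mul, Groth.Agent.H65.Kum.aeval_inc,
        Groth.Agent.H65.Kum.aeval_inc, aeval_X]
      show expand 2 α + expand 2 (C τi * δ) * hh = _
      rw [ehh, map_mul, expand_C, expand_C]
      linear_combination (X 0 * C τi) * hβ' + (X 1 * C τi) * hγ' +
        (-(X 0 * expand 2 β + X 1 * expand 2 γ - X 0 * X 1 * expand 2 δ)) * hCC +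
        (-(X 0 * expand 2 β + X 1 * expand 2 γ)) * h2
    · intro hp
      rw [AlgHom.mem_range] at hp
      obtain ⟨q, rfl⟩ := hp
      induction q using MvPolynomial.induction_on with
      | C a => rw [aeval_C]; exact D.map_algebraMap a
      | add p q hp hq => rw [map_add, map_add, hp, hq, add_zero]
      | mul_X p j hp =>
        rw [map_mul, Derivation.leibniz, hp, smul_zero, add_zero, aeval_X]
        have : D ((![X 0 ^ 2, X 1 ^ 2, hh] : Fin 3 → MvPolynomial (Fin 2) R) j) = 0 := by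
          fin_cases j
          · exact Groth.Agent.H65.Kum.der_sq D _
          · exact Groth.Agent.H65.Kum.der_sq D _
          · exact hDh
        rw [this, smul_zero]
  · have key := Groth.Agent.H65.Kum.ker_aeval (R := R) hh
      (C (τ ^ 2) * X 0 * X 1 + (C (s4 ^ 2) * X 1 ^ 4 + C (s2 ^ 2) * X 1 ^ 2 + C (s0 ^ 2)) * X 0 +
        (C (l4 ^ 2) * X 0 ^ 4 + C (l2 ^ 2) * X 0 ^ 2 + C (l0 ^ 2)) * X 1)
      S2 L2 (C τ) ehh ?_ ?_
    · rw [key]
      congr 2
      simp [Groth.Agent.H65.Kum.inc]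
      ring
    · intro r hr
      have : r = (r * C τ) * C τi := by
        linear_combination (-r) * hCC
      rw [this, hr, zero_mul]
    · rw [CharTwo.add_eq_zero, ← frobenius_def (R := MvPolynomial (Fin 2) R) (p := 2)]
      simp only [hhh, map_add, map_mul, map_pow, frobenius_def, expand_C, expand_X]
      ring

end Groth.Agent.S13122
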