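import Groth.Statements.S13125
import Mathlib
-- import your own Groth.Agent.* helpers here

set_option autoImplicit false
universe u v
open KumFam

namespace Groth.Agent.S13125

/-- Let A be a commutative ring graded by an additive monoid ι (an abelian group in the published
statement) through additive subgroups 𝒜 i, and I an ideal of A. Then I is a homogeneous ideal if and
only if A/I carries a structure of ι-graded ring ℬ for which the quotient map sends 𝒜 i into ℬ i for
all i. -/
theorem result (ι : Type u) [DecidableEq ι] [AddMonoid ι]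
    (A : Type v) [CommRing A] (𝒜 : ι → AddSubgroup A) [GradedRing 𝒜] (I : Ideal A) :
    I.IsHomogeneous 𝒜 ↔
      ∃ ℬ : ι → AddSubgroup (A ⧸ I), Nonempty (GradedRing ℬ) ∧
        ∀ i : ι, (𝒜 i).map (Ideal.Quotient.mk I : A →+ A ⧸ I) ≤ ℬ i := by
  classical
  constructor
  · intro hI
    let π : A →+* A ⧸ I := Ideal.Quotient.mk I
    let ℬ : ι → AddSubgroup (A ⧸ I) := fun i => (𝒜 i).map (π : A →+ A ⧸ I)
    refine ⟨ℬ, ⟨?_⟩, fun i => le_rfl⟩
    have hgm : SetLike.GradedMonoid ℬ :=
      { one_mem := ⟨1, SetLike.GradedOne.one_mem, map_one π⟩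
        mul_mem := by
          rintro i j _ _ ⟨a, ha, rfl⟩ ⟨b, hb, rfl⟩
          exact ⟨a * b, SetLike.GradedMul.mul_mem ha hb, map_mul π a b⟩ }
    let φ : ∀ i, 𝒜 i →+ ℬ i := fun i =>
      ((π : A →+ A ⧸ I).comp (𝒜 i).subtype).codRestrict (ℬ i) (fun x => ⟨x, x.2, rfl⟩)
    let D₀ : A →+ DirectSum ι (fun i => ℬ i) :=
      (DirectSum.map φ).comp (DirectSum.decomposeAddEquiv 𝒜).toAddMonoidHom
    have hD₀ : ∀ a ∈ I, D₀ a = 0 := by
      intro a ha
      ext i
      simp only [D₀, AddMonoidHom.comp_apply, DirectSum.map_apply, DirectSum.zero_apply,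
        ZeroMemClass.coe_zero]
      show π (DirectSum.decompose 𝒜 a i : A) = 0
      exact Ideal.Quotient.eq_zero_iff_mem.mpr (hI i ha)
    let D : A ⧸ I →+ DirectSum ι (fun i => ℬ i) := QuotientAddGroup.lift I.toAddSubgroup D₀ (fun a ha => hD₀ a ha)
    have hD : ∀ a : A, D (π a) = D₀ a := fun a => rfl
    have hcoe : ∀ x : DirectSum ι (fun i => 𝒜 i), DirectSum.coeAddMonoidHom ℬ (DirectSum.map φ x) =
        π (DirectSum.coeAddMonoidHom 𝒜 x) := by
      intro x
      induction x using DirectSum.induction_on with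
      | zero => simp
      | of i x =>
        rw [DirectSum.map_of, DirectSum.coeAddMonoidHom_of, DirectSum.coeAddMonoidHom_of]
        rfl
      | add x y hx hy => simp only [map_add, hx, hy]
    have hdec : DirectSum.Decomposition ℬ := by
      refine DirectSum.Decomposition.ofAddHom (ℳ := ℬ) D ?_ ?_
      · ext x
        obtain ⟨a, rfl⟩ := Ideal.Quotient.mk_surjective x
        simp only [AddMonoidHom.comp_apply, AddMonoidHom.id_apply]
        show DirectSum.coeAddMonoidHom ℬ (D (π a)) = π a
        rw [hD]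
        simp only [D₀, AddMonoidHom.comp_apply]
        rw [hcoe]
        congr 1
        exact DirectSum.Decomposition.left_inv a
      · apply DirectSum.addHom_ext
        rintro i ⟨_, a, ha, rfl⟩
        simp only [AddMonoidHom.comp_apply, AddMonoidHom.id_apply, DirectSum.coeAddMonoidHom_of]
        show (D (π a)) = _
        rw [hD]
        simp only [D₀, AddMonoidHom.comp_apply]
        have : (DirectSum.decomposeAddEquiv 𝒜).toAddMonoidHom a = DirectSum.of (fun i => 𝒜 i) i ⟨a, ha⟩ :=
          DirectSum.decompose_of_mem 𝒜 ha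
        rw [this, DirectSum.map_of]
        rfl
    exact { hgm, hdec with }
  · rintro ⟨ℬ, ⟨hℬ⟩, hle⟩
    intro i a ha
    have hmem : ∀ (j : ι) (x : A), x ∈ 𝒜 j → Ideal.Quotient.mk I x ∈ ℬ j :=
      fun j x hx => hle j ⟨x, hx, rfl⟩
    have hsum : a = ∑ j ∈ (DirectSum.decompose 𝒜 a).support, (DirectSum.decompose 𝒜 a j : A) :=
      (DirectSum.sum_support_decompose 𝒜 a).symm
    have h0 : Ideal.Quotient.mk I a = 0 := Ideal.Quotient.eq_zero_iff_mem.mpr ha
    have hcomp : ((DirectSum.decompose ℬ (Ideal.Quotient.mk I a) i : ℬ i) : A ⧸ I) =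
        Ideal.Quotient.mk I (DirectSum.decompose 𝒜 a i : A) := by
      conv_lhs => rw [hsum, map_sum, DirectSum.decompose_sum, DFinsupp.finsetSum_apply,
        AddSubmonoidClass.coe_finsetSum]
      have : ∀ j ∈ (DirectSum.decompose 𝒜 a).support,
          ((DirectSum.decompose ℬ (Ideal.Quotient.mk I (DirectSum.decompose 𝒜 a j : A)) i : ℬ i) : A ⧸ I) =
            if j = i then Ideal.Quotient.mk I (DirectSum.decompose 𝒜 a i : A) else 0 := by
        intro j _
        split_ifs with hji
        · subst hji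
          rw [DirectSum.decompose_of_mem_same ℬ (hmem j _ (SetLike.coe_mem _))]
        · rw [DirectSum.decompose_of_mem_ne ℬ (hmem j _ (SetLike.coe_mem _)) hji]
      rw [Finset.sum_congr rfl this, Finset.sum_ite_eq']
      split_ifs with hi
      · rfl
      · rw [DFinsupp.notMem_support_iff] at hi
        rw [hi]; simp
    rw [h0, DirectSum.decompose_zero] at hcomp
    exact Ideal.Quotient.eq_zero_iff_mem.mp hcomp.symm

end Groth.Agent.S13125
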