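import Groth.Statements.S13126
import Mathlib
-- import your own Groth.Agent.* helpers here

set_option autoImplicit false
universe u
open KumFam

namespace Groth.Agent.S13126

open Polynomial in
/-- Let R be a commutative ring, n a natural number which is a unit in R, and ζ ∈ R with ζ^n = 1 and 1 −
ζ^i a unit for 0 < i < n (a primitive n-th root of unity in the fibrewise sense: the powers ζ^0, …,
ζ^(n−1) are roots of X^n − 1 with pairwise unit differences; over an integral domain in which n is a
unit this is the same as ζ having multiplicative order n). Then the R-algebra homomorphism R[X] →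
(Fin n → R) sending a polynomial to its values at ζ^0, …, ζ^(n−1) is surjective and its kernel is
the ideal generated by X^n − 1; hence R[X]/(X^n − 1) ≅ R^n as R-algebras, i.e. the scheme of n-th
roots of unity over Spec R is the disjoint union of n copies of Spec R. (The published statement
asks that R contain a primitive n-th root of unity without defining the term; its Chinese-remainder
argument uses that the ideals (X − ζ^i), i < n, are pairwise comaximal, which is the unit-difference
condition taken as the hypothesis here, whereas under the reading 'ζ has multiplicative order n'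
alone the surjectivity fails over a product of two fields. The published statement also asserts that
the isomorphism respects the group-scheme structures of the n-th roots of unity and of the constant
group ℤ/n; this row does not state that.) -/
theorem result (R : Type u) [CommRing R]
    (n : ℕ) (hn : IsUnit (n : R)) (ζ : R) (hζ : ζ ^ n = 1)
    (hprim : ∀ i : ℕ, 0 < i → i < n → IsUnit (1 - ζ ^ i)) :
    Function.Surjective (AlgHom.pi (fun i : Fin n => Polynomial.aeval (R := R) (ζ ^ (i : ℕ)))) ∧
      RingHom.ker (AlgHom.pi (fun i : Fin n => Polynomial.aeval (R := R) (ζ ^ (i : ℕ)))) =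
        Ideal.span {(X ^ n - 1 : R[X])} := by
  classical
  rcases subsingleton_or_nontrivial R with hsub | hnt
  · refine ⟨fun v => ⟨0, Subsingleton.elim _ _⟩, ?_⟩
    ext x
    have : x = 0 := Subsingleton.elim _ _
    simp [this]
  have hnpos : 0 < n := by
    rcases Nat.eq_zero_or_pos n with hn0 | hnpos
    · subst hn0
      rw [Nat.cast_zero] at hn
      exact absurd (isUnit_zero_iff.mp hn) zero_ne_one
    · exact hnpos
  obtain ⟨u, hu⟩ := hn
  -- geometric sum vanishes
  have geom : ∀ w : R, w ^ n = 1 → IsUnit (1 - w) → ∑ k ∈ Finset.range n, w ^ k = 0 := by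
    intro w hw hunit
    have h := mul_geom_sum w n
    rw [hw, sub_self] at h
    have hunit' : IsUnit (w - 1) := by
      have : w - 1 = -(1 - w) := by ring
      rw [this]; exact hunit.neg
    exact (hunit'.mul_right_eq_zero).mp h
  -- orthogonality
  have orth : ∀ a b : ℕ, a < n → b < n →
      ∑ k ∈ Finset.range n, (ζ ^ a * ζ ^ (n - b)) ^ k = if a = b then (n : R) else 0 := by
    intro a b ha hb
    split_ifs with hab
    · subst hab
      have : ζ ^ a * ζ ^ (n - a) = 1 := by
        rw [← pow_add, Nat.add_sub_cancel' ha.le, hζ]
      simp [this]
    · apply geom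
      · rw [mul_pow, ← pow_mul, ← pow_mul, mul_comm a n, mul_comm (n - b) n, pow_mul, pow_mul, hζ,
          one_pow, one_pow, one_mul]
      · rcases lt_or_gt_of_ne hab with h | h
        · have : ζ ^ a * ζ ^ (n - b) = ζ ^ (a + n - b) := by
            rw [← pow_add]; congr 1; omega
          rw [this]
          exact hprim _ (by omega) (by omega)
        · have : ζ ^ a * ζ ^ (n - b) = ζ ^ (a - b) := by
            rw [← pow_add]
            have : a + (n - b) = n + (a - b) := by omega
            rw [this, pow_add, hζ, one_mul]
          rw [this]
          exact hprim _ (by omega) (by omega)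
  have happ : ∀ (P : R[X]) (i : Fin n),
      (AlgHom.pi (fun i : Fin n => Polynomial.aeval (R := R) (ζ ^ (i : ℕ)))) P i =
        Polynomial.eval (ζ ^ (i : ℕ)) P := by
    intro P i
    rfl
  constructor
  · intro v
    refine ⟨∑ j : Fin n, Polynomial.C ((↑u⁻¹ : R) * v j) *
      ∑ k ∈ Finset.range n, Polynomial.C ((ζ ^ (n - (j : ℕ))) ^ k) * X ^ k, ?_⟩
    funext i
    rw [happ]
    simp only [Polynomial.eval_finsetSum, Polynomial.eval_mul, Polynomial.eval_C,
      Polynomial.eval_pow, Polynomial.eval_X]
    have : ∀ j : Fin n, ∑ k ∈ Finset.range n, (ζ ^ (n - (j : ℕ))) ^ k * (ζ ^ (i : ℕ)) ^ k =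
        if (i : ℕ) = (j : ℕ) then (n : R) else 0 := by
      intro j
      rw [← orth i j i.2 j.2]
      refine Finset.sum_congr rfl fun k _ => ?_
      rw [mul_pow, mul_comm]
    simp only [this, mul_ite, mul_zero]
    rw [Finset.sum_eq_single i]
    · rw [if_pos rfl, mul_comm (↑u⁻¹ : R), mul_assoc, ← hu, Units.inv_mul, mul_one]
    · intro j _ hji
      rw [if_neg]
      intro h
      exact hji (Fin.ext h.symm)
    · intro h; exact absurd (Finset.mem_univ i) h
  · have hmonic : (X ^ n - 1 : R[X]).Monic := by
      have := Polynomial.monic_X_pow_sub_C (1 : R) hnpos.ne'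
      simpa using this
    ext P
    rw [RingHom.mem_ker, Ideal.mem_span_singleton]
    constructor
    · intro hP
      have hPi : ∀ i : Fin n, Polynomial.eval (ζ ^ (i : ℕ)) P = 0 := by
        intro i
        rw [← happ, hP]
        rfl
      set r := P %ₘ (X ^ n - 1) with hr
      have hq : (X ^ n - 1 : R[X]) = X ^ n - Polynomial.C 1 := by simp
      have hdeg' : r.degree < (n : WithBot ℕ) := by
        have h1 := Polynomial.degree_modByMonic_lt P hmonic
        rwa [hq, Polynomial.degree_X_pow_sub_C hnpos] at h1
      have hdeg : r.natDegree < n := by
        by_cases hr0 : r = 0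
        · rw [hr0, Polynomial.natDegree_zero]; exact hnpos
        · exact (Polynomial.natDegree_lt_iff_degree_lt hr0).mpr hdeg'
      have hri : ∀ i : Fin n, Polynomial.eval (ζ ^ (i : ℕ)) r = 0 := by
        intro i
        have := Polynomial.modByMonic_add_div P (q := X ^ n - 1)
        have h2 := congrArg (Polynomial.eval (ζ ^ (i : ℕ))) this
        rw [Polynomial.eval_add, Polynomial.eval_mul, hPi i] at h2
        simp only [Polynomial.eval_sub, Polynomial.eval_pow, Polynomial.eval_X,
          Polynomial.eval_one] at h2
        rw [pow_right_comm, hζ, one_pow, sub_self, zero_mul, add_zero] at h2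
        exact h2
      have hr0 : r = 0 := by
        ext l
        rw [Polynomial.coeff_zero]
        by_cases hl : l < n
        · have hsum : r = ∑ k ∈ Finset.range n, Polynomial.C (r.coeff k) * X ^ k :=
            Polynomial.as_sum_range_C_mul_X_pow' r hdeg
          have hev : ∀ i : ℕ, i < n → ∑ k ∈ Finset.range n, r.coeff k * (ζ ^ i) ^ k = 0 := by
            intro i hi
            have := hri ⟨i, hi⟩
            rw [hsum] at this
            simpa [Polynomial.eval_finsetSum] using this
          have h3 : ∑ i ∈ Finset.range n, (ζ ^ (n - l)) ^ i *
              ∑ k ∈ Finset.range n, r.coeff k * (ζ ^ i) ^ k = 0 := by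
            apply Finset.sum_eq_zero
            intro i hi
            rw [hev i (Finset.mem_range.mp hi), mul_zero]
          simp only [Finset.mul_sum] at h3
          rw [Finset.sum_comm] at h3
          have h4 : ∀ k ∈ Finset.range n, ∑ i ∈ Finset.range n,
              (ζ ^ (n - l)) ^ i * (r.coeff k * (ζ ^ i) ^ k) =
              r.coeff k * if k = l then (n : R) else 0 := by
            intro k hk
            rw [← orth k l (Finset.mem_range.mp hk) hl, Finset.mul_sum]
            refine Finset.sum_congr rfl fun i _ => ?_
            simp only [mul_pow, ← pow_mul]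
            rw [mul_comm i k]
            ring
          rw [Finset.sum_congr rfl h4] at h3
          simp only [mul_ite, mul_zero] at h3
          rw [Finset.sum_ite_eq' , if_pos (Finset.mem_range.mpr hl)] at h3
          rw [← hu] at h3
          exact (u.isUnit.mul_left_eq_zero).mp h3
        · exact Polynomial.coeff_eq_zero_of_natDegree_lt (by omega)
      have := Polynomial.modByMonic_add_div P (q := X ^ n - 1)
      rw [← hr, hr0, zero_add] at this
      exact ⟨_, this.symm⟩
    · rintro ⟨Q, rfl⟩
      funext i
      rw [happ]
      simp only [Polynomial.eval_mul, Polynomial.eval_sub, Polynomial.eval_pow, Polynomial.eval_X,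
        Polynomial.eval_one]
      rw [pow_right_comm, hζ, one_pow, sub_self, zero_mul]
      rfl

end Groth.Agent.S13126
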