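import Groth.Statements.S13127
import Groth.Agent.H65.FormalIFT
-- import your own Groth.Agent.* helpers here

set_option autoImplicit false
universe u
open KumFam

namespace Groth.Agent.S13127

open MvPowerSeries in
/-- Let R be a commutative ring of characteristic 2 and l0, l2, l4, s0, s2, s4, τ, lam, sig ∈ R with l4,
s4, lam, sig units, and let κ₁, κ₂ ∈ R satisfy s4² κ₁³ = sig² and l4² κ₂³ = lam² (cube roots of
sig²/s4² and lam²/l4²). In the power series ring R[[a, b, c]] (a = X 0, b = X 1, c = X 2) put F = c²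
+ s0² a³ b⁴ + s2² a³ b² + s4² a³ + l0² a⁴ b³ + l2² a² b³ + l4² b³ + τ² a³ b³ and F₀ = c² + sig² a³ +
lam² b³. Then some R-algebra automorphism of R[[a, b, c]] maps F to F₀; consequently R[[a, b,
c]]/(F) ≅ R[[a, b, c]]/(F₀). (In the published statement lam, sig are the representatives in the
ground field of the residues of l4, s4 at a rational point, so that F₀ is the equation of the
special fibre made constant; this row takes them to be arbitrary units.) -/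
theorem result (R : Type u) [CommRing R] [CharP R 2]
    (l0 l2 l4 s0 s2 s4 τ lam sig κ₁ κ₂ : R) (hl4 : IsUnit l4) (hs4 : IsUnit s4) (hlam : IsUnit lam)
    (hsig : IsUnit sig) (h₁ : s4 ^ 2 * κ₁ ^ 3 = sig ^ 2) (h₂ : l4 ^ 2 * κ₂ ^ 3 = lam ^ 2) :
    ∃ φ : MvPowerSeries (Fin 3) R ≃ₐ[R] MvPowerSeries (Fin 3) R,
      φ ((X 2 ^ 2 + C (s0 ^ 2) * X 0 ^ 3 * X 1 ^ 4 + C (s2 ^ 2) * X 0 ^ 3 * X 1 ^ 2 +
          C (s4 ^ 2) * X 0 ^ 3 + C (l0 ^ 2) * X 0 ^ 4 * X 1 ^ 3 + C (l2 ^ 2) * X 0 ^ 2 * X 1 ^ 3 +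
          C (l4 ^ 2) * X 1 ^ 3 + C (τ ^ 2) * X 0 ^ 3 * X 1 ^ 3 : MvPowerSeries (Fin 3) R)) =
        (X 2 ^ 2 + C (sig ^ 2) * X 0 ^ 3 + C (lam ^ 2) * X 1 ^ 3 : MvPowerSeries (Fin 3) R) := by
  classical
  obtain ⟨s4i, hs4i⟩ := hs4.exists_right_inv
  obtain ⟨l4i, hl4i⟩ := hl4.exists_right_inv
  obtain ⟨sigi, hsigi⟩ := hsig.exists_right_inv
  obtain ⟨lami, hlami⟩ := hlam.exists_right_inv
  have h2R : (2 : R) = 0 := by exact_mod_cast CharP.cast_eq_zero R 2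
  have h2P : (2 : MvPowerSeries (Fin 3) R) = 0 := by
    have e : (C (2 : R) : MvPowerSeries (Fin 3) R) = 2 := map_ofNat C 2
    rw [← e, h2R, map_zero]
  set κ₁i : R := s4 ^ 2 * κ₁ ^ 2 * sigi ^ 2 with hκ₁i
  set κ₂i : R := l4 ^ 2 * κ₂ ^ 2 * lami ^ 2 with hκ₂i
  have hk1 : κ₁ * κ₁i = 1 := by
    rw [hκ₁i]
    linear_combination (sigi ^ 2) * h₁ + (sig * sigi + 1) * hsigi
  have hk2 : κ₂ * κ₂i = 1 := by
    rw [hκ₂i]
    linear_combination (lami ^ 2) * h₂ + (lam * lami + 1) * hlami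
  -- sig^2 κ₁i^3 = s4^2
  have hs1 : sig ^ 2 * κ₁i ^ 3 = s4 ^ 2 := by
    have : κ₁ ^ 3 * κ₁i ^ 3 = 1 := by rw [← mul_pow, hk1, one_pow]
    linear_combination (-(κ₁i ^ 3)) * h₁ + (s4 ^ 2) * this
  have hs2 : lam ^ 2 * κ₂i ^ 3 = l4 ^ 2 := by
    have : κ₂ ^ 3 * κ₂i ^ 3 = 1 := by rw [← mul_pow, hk2, one_pow]
    linear_combination (-(κ₂i ^ 3)) * h₂ + (l4 ^ 2) * this
  set m₁ : MvPowerSeries (Fin 3) R :=
    C (s4i ^ 2) * (C (s2 ^ 2) * X 1 ^ 2 + C (s0 ^ 2) * X 1 ^ 4 + C (τ ^ 2) * X 1 ^ 3) with hm₁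
  set m₂ : MvPowerSeries (Fin 3) R :=
    C (l4i ^ 2) * (C (l2 ^ 2) * X 0 ^ 2 + C (l0 ^ 2) * X 0 ^ 4) with hm₂
  obtain ⟨w₁, hw₁0, hw₁⟩ := Groth.Agent.H65.exists_add_sq_add_cube_eq m₁ (by simp [m₁])
  obtain ⟨w₂, hw₂0, hw₂⟩ := Groth.Agent.H65.exists_add_sq_add_cube_eq m₂ (by simp [m₂])
  have hc1 : (1 + w₁) ^ 3 = 1 + m₁ := by
    linear_combination hw₁ + (w₁ + w₁ ^ 2) * h2P
  have hc2 : (1 + w₂) ^ 3 = 1 + m₂ := by
    linear_combination hw₂ + (w₂ + w₂ ^ 2) * h2P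
  set f : MvPowerSeries (Fin 3) R := C κ₁i * (1 + w₁) with hf
  set g : MvPowerSeries (Fin 3) R := C κ₂i * (1 + w₂) with hg
  have hss : s4 ^ 2 * s4i ^ 2 = 1 := by rw [← mul_pow, hs4i, one_pow]
  have hll : l4 ^ 2 * l4i ^ 2 = 1 := by rw [← mul_pow, hl4i, one_pow]
  have hCs : (C (s4 ^ 2) : MvPowerSeries (Fin 3) R) * C (s4i ^ 2) = 1 := by
    rw [← map_mul, hss, map_one]
  have hCl : (C (l4 ^ 2) : MvPowerSeries (Fin 3) R) * C (l4i ^ 2) = 1 := by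
    rw [← map_mul, hll, map_one]
  have hf3 : C (sig ^ 2) * f ^ 3 =
      C (s4 ^ 2) + C (s2 ^ 2) * X 1 ^ 2 + C (s0 ^ 2) * X 1 ^ 4 + C (τ ^ 2) * X 1 ^ 3 := by
    have e : (C (sig ^ 2) : MvPowerSeries (Fin 3) R) * C κ₁i ^ 3 = C (s4 ^ 2) := by
      rw [← map_pow, ← map_mul, hs1]
    rw [hf, mul_pow, hc1, hm₁]
    linear_combination (1 + C (s4i ^ 2) * (C (s2 ^ 2) * X 1 ^ 2 + C (s0 ^ 2) * X 1 ^ 4 +
      C (τ ^ 2) * X 1 ^ 3)) * e +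
      (C (s2 ^ 2) * X 1 ^ 2 + C (s0 ^ 2) * X 1 ^ 4 + C (τ ^ 2) * X 1 ^ 3) * hCs
  have hg3 : C (lam ^ 2) * g ^ 3 =
      C (l4 ^ 2) + C (l2 ^ 2) * X 0 ^ 2 + C (l0 ^ 2) * X 0 ^ 4 := by
    have e : (C (lam ^ 2) : MvPowerSeries (Fin 3) R) * C κ₂i ^ 3 = C (l4 ^ 2) := by
      rw [← map_pow, ← map_mul, hs2]
    rw [hg, mul_pow, hc2, hm₂]
    linear_combination (1 + C (l4i ^ 2) * (C (l2 ^ 2) * X 0 ^ 2 + C (l0 ^ 2) * X 0 ^ 4)) * e +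
      (C (l2 ^ 2) * X 0 ^ 2 + C (l0 ^ 2) * X 0 ^ 4) * hCl
  let a : Fin 3 → MvPowerSeries (Fin 3) R := ![X 0 * f, X 1 * g, X 2]
  let ℓ : Fin 3 → MvPowerSeries (Fin 3) R := ![C κ₁i * X 0, C κ₂i * X 1, X 2]
  let ℓ' : Fin 3 → MvPowerSeries (Fin 3) R := ![C κ₁ * X 0, C κ₂ * X 1, X 2]
  have a0 : a 0 = X 0 * f := rfl
  have a1 : a 1 = X 1 * g := rfl
  have a2 : a 2 = X 2 := rfl
  have ℓ0 : ℓ 0 = C κ₁i * X 0 := rfl
  have ℓ1 : ℓ 1 = C κ₂i * X 1 := rfl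
  have ℓ2 : ℓ 2 = X 2 := rfl
  have ℓ'0 : ℓ' 0 = C κ₁ * X 0 := rfl
  have ℓ'1 : ℓ' 1 = C κ₂ * X 1 := rfl
  have ℓ'2 : ℓ' 2 = X 2 := rfl
  have ha : ∀ i, constantCoeff (a i) = 0 := by
    intro i; fin_cases i <;> simp [a]
  have hℓ : ∀ i, constantCoeff (ℓ i) = 0 := by
    intro i; fin_cases i <;> simp [ℓ]
  have hℓ' : ∀ i, constantCoeff (ℓ' i) = 0 := by
    intro i; fin_cases i <;> simp [ℓ']
  have hsa := hasSubst_of_constantCoeff_zero ha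
  have hsℓ := hasSubst_of_constantCoeff_zero hℓ
  have hsℓ' := hasSubst_of_constantCoeff_zero hℓ'
  have hC1 : (C κ₁ : MvPowerSeries (Fin 3) R) * C κ₁i = 1 := by rw [← map_mul, hk1, map_one]
  have hC2 : (C κ₂ : MvPowerSeries (Fin 3) R) * C κ₂i = 1 := by rw [← map_mul, hk2, map_one]
  have h1 : ∀ i, subst ℓ (ℓ' i) = X i := by
    intro i
    fin_cases i
    · show subst ℓ (ℓ' 0) = X 0
      rw [ℓ'0, subst_mul hsℓ, subst_C, subst_X hsℓ, ℓ0]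
      linear_combination (X 0) * hC1
    · show subst ℓ (ℓ' 1) = X 1
      rw [ℓ'1, subst_mul hsℓ, subst_C, subst_X hsℓ, ℓ1]
      linear_combination (X 1) * hC2
    · show subst ℓ (ℓ' 2) = X 2
      rw [ℓ'2, subst_X hsℓ, ℓ2]
  have h2 : ∀ i, subst ℓ' (ℓ i) = X i := by
    intro i
    fin_cases i
    · show subst ℓ' (ℓ 0) = X 0
      rw [ℓ0, subst_mul hsℓ', subst_C, subst_X hsℓ', ℓ'0]
      linear_combination (X 0) * hC1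
    · show subst ℓ' (ℓ 1) = X 1
      rw [ℓ1, subst_mul hsℓ', subst_C, subst_X hsℓ', ℓ'1]
      linear_combination (X 1) * hC2
    · show subst ℓ' (ℓ 2) = X 2
      rw [ℓ2, subst_X hsℓ', ℓ'2]
  have hX : ∀ i : Fin 3, (1 : ℕ∞) ≤ (X i : MvPowerSeries (Fin 3) R).order := fun i =>
    one_le_order_iff_constCoeff_eq_zero.2 (constantCoeff_X i)
  have hr : ∀ i, 2 ≤ (a i - ℓ i).order := by
    intro i
    fin_cases i
    · show 2 ≤ (a 0 - ℓ 0).order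
      have e : a 0 - ℓ 0 = X 0 * (C κ₁i * w₁) := by rw [a0, ℓ0, hf]; ring
      rw [e]
      refine le_trans ?_ le_order_mul
      rw [← one_add_one_eq_two]
      refine add_le_add (hX 0) (one_le_order_iff_constCoeff_eq_zero.2 ?_)
      simp [hw₁0]
    · show 2 ≤ (a 1 - ℓ 1).order
      have e : a 1 - ℓ 1 = X 1 * (C κ₂i * w₂) := by rw [a1, ℓ1, hg]; ring
      rw [e]
      refine le_trans ?_ le_order_mul
      rw [← one_add_one_eq_two]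
      refine add_le_add (hX 1) (one_le_order_iff_constCoeff_eq_zero.2 ?_)
      simp [hw₂0]
    · show 2 ≤ (a 2 - ℓ 2).order
      rw [a2, ℓ2, sub_self, order_zero]; exact le_top
  let Φ := Groth.Agent.H65.iftEquiv ha hℓ hℓ' h1 h2 hr
  have hΦ : Φ (X 2 ^ 2 + C (sig ^ 2) * X 0 ^ 3 + C (lam ^ 2) * X 1 ^ 3) =
      (X 2 ^ 2 + C (s0 ^ 2) * X 0 ^ 3 * X 1 ^ 4 + C (s2 ^ 2) * X 0 ^ 3 * X 1 ^ 2 +
          C (s4 ^ 2) * X 0 ^ 3 + C (l0 ^ 2) * X 0 ^ 4 * X 1 ^ 3 + C (l2 ^ 2) * X 0 ^ 2 * X 1 ^ 3 +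
          C (l4 ^ 2) * X 1 ^ 3 + C (τ ^ 2) * X 0 ^ 3 * X 1 ^ 3 : MvPowerSeries (Fin 3) R) := by
    rw [Groth.Agent.H65.iftEquiv_apply, subst_add hsa, subst_add hsa, subst_mul hsa, subst_mul hsa,
      subst_pow hsa, subst_pow hsa, subst_pow hsa, subst_C, subst_C, subst_X hsa,
      subst_X hsa, subst_X hsa, a0, a1, a2]
    linear_combination (X 0 ^ 3) * hf3 + (X 1 ^ 3) * hg3
  refine ⟨Φ.symm, ?_⟩
  rw [← hΦ, AlgEquiv.symm_apply_apply]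

end Groth.Agent.S13127
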