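import Groth.Statements.S13128
import Groth.Agent.H65.FormalIFT
-- import your own Groth.Agent.* helpers here

set_option autoImplicit false
universe u
open KumFam

namespace Groth.Agent.S13128

open MvPowerSeries in
/-- Let R be a commutative ring of characteristic 2, l0, l2, l4, s0, s2, s4, τ ∈ R with τ a unit, and α,
β ∈ R with l4² α⁴ + l2² α² + τ² α + l0² = 0 and s4² β⁴ + s2² β² + τ² β + s0² = 0. In characteristic
2 these relations give τ² α = (l4 α² + l2 α + l0)² and τ² β = (s4 β² + s2 β + s0)², so α = α′² and β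
= β′² with α′ = (l4 α² + l2 α + l0)/τ and β′ = (s4 β² + s2 β + s0)/τ. In R[[a, b, c]] (a = X 0, b =
X 1, c = X 2) put h = c² + τ² a b + (s4² b⁴ + s2² b²) a + (l4² a⁴ + l2² a²) b + l4² β a⁴ + l2² β a²
+ s4² α b⁴ + s2² α b²; this is the chart equation c² + τ² a b + (s4² b⁴ + s2² b² + s0²) a + (l4² a⁴
+ l2² a² + l0²) b after the substitution a ↦ a + α, b ↦ b + β, c ↦ c + τ α′ β′, which moves the
point (α, β, τ α′ β′) of that surface, where all partial derivatives vanish, to the origin. Then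
some R-algebra automorphism of R[[a, b, c]] maps h to c² + a b; consequently R[[a, b, c]]/(h) ≅
R[[a, b, c]]/(c² + a b), the completed local ring of an ordinary double point, constant over R. (The
published statement translates only a and b, so that its h carries the additional constant term τ² α
β; with that term h is a unit of R[[a, b, c]] whenever τ α β is a unit, for instance c² + a b + 1
over the field with two elements with l0 = s0 = τ = α = β = 1 and l2 = l4 = s2 = s4 = 0, and no ring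
automorphism carries a unit to c² + a b. The published proof begins by shifting c by a polynomial in
a, b whose constant term is τ α′ β′, a substitution of the polynomial ring which removes the term τ²
α β, and the rest of its argument takes place in R[[a, b, c]]; this row states the result for the
fully translated equation, which is what that argument proves.) -/
theorem result (R : Type u) [CommRing R] [CharP R 2]
    (l0 l2 l4 s0 s2 s4 τ α β : R) (hτ : IsUnit τ)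
    (hα : l4 ^ 2 * α ^ 4 + l2 ^ 2 * α ^ 2 + τ ^ 2 * α + l0 ^ 2 = 0)
    (hβ : s4 ^ 2 * β ^ 4 + s2 ^ 2 * β ^ 2 + τ ^ 2 * β + s0 ^ 2 = 0) :
    ∃ φ : MvPowerSeries (Fin 3) R ≃ₐ[R] MvPowerSeries (Fin 3) R,
      φ ((X 2 ^ 2 + C (τ ^ 2) * X 0 * X 1 + (C (s4 ^ 2) * X 1 ^ 4 + C (s2 ^ 2) * X 1 ^ 2) * X 0 +
          (C (l4 ^ 2) * X 0 ^ 4 + C (l2 ^ 2) * X 0 ^ 2) * X 1 + C (l4 ^ 2 * β) * X 0 ^ 4 +
          C (l2 ^ 2 * β) * X 0 ^ 2 + C (s4 ^ 2 * α) * X 1 ^ 4 + C (s2 ^ 2 * α) * X 1 ^ 2 :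
          MvPowerSeries (Fin 3) R)) =
        (X 2 ^ 2 + X 0 * X 1 : MvPowerSeries (Fin 3) R) := by
  classical
  obtain ⟨τi, hτi⟩ := hτ.exists_right_inv
  have h2R : (2 : R) = 0 := by exact_mod_cast CharP.cast_eq_zero R 2
  set α' : R := (l4 * α ^ 2 + l2 * α + l0) * τi with hα'
  set β' : R := (s4 * β ^ 2 + s2 * β + s0) * τi with hβ'
  have hα2 : α' ^ 2 = α := by
    rw [hα']
    linear_combination (τi ^ 2) * hα + (-(τ * τi + 1) * α) * hτi +
      (-α + (l4 * α ^ 2 * l2 * α + l4 * α ^ 2 * l0 + l2 * α * l0) * τi ^ 2) * h2R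
  have hβ2 : β' ^ 2 = β := by
    rw [hβ']
    linear_combination (τi ^ 2) * hβ + (-(τ * τi + 1) * β) * hτi +
      (-β + (s4 * β ^ 2 * s2 * β + s4 * β ^ 2 * s0 + s2 * β * s0) * τi ^ 2) * h2R
  have h2P : (2 : MvPowerSeries (Fin 3) R) = 0 := by
    have e : (C (2 : R) : MvPowerSeries (Fin 3) R) = 2 := map_ofNat C 2
    rw [← e, h2R, map_zero]
  set u : MvPowerSeries (Fin 3) R := C (τ ^ 2) + C (s4 ^ 2) * X 1 ^ 3 + C (s2 ^ 2) * X 1 +
    C (l4 ^ 2) * X 0 ^ 3 + C (l2 ^ 2) * X 0 with hu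
  set q : MvPowerSeries (Fin 3) R := C (l4 * β') * X 0 ^ 2 + C (l2 * β') * X 0 +
    C (s4 * α') * X 1 ^ 2 + C (s2 * α') * X 1 with hq
  let a : Fin 3 → MvPowerSeries (Fin 3) R := ![X 0, X 1 * u, X 2 + q]
  let ℓ : Fin 3 → MvPowerSeries (Fin 3) R :=
    ![X 0, C (τ ^ 2) * X 1, X 2 + C (l2 * β') * X 0 + C (s2 * α') * X 1]
  let ℓ' : Fin 3 → MvPowerSeries (Fin 3) R :=
    ![X 0, C (τi ^ 2) * X 1, X 2 - C (l2 * β') * X 0 - C (s2 * α' * τi ^ 2) * X 1]
  have ha : ∀ i, constantCoeff (a i) = 0 := by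
    intro i; fin_cases i <;> simp [a, u, q]
  have hℓ : ∀ i, constantCoeff (ℓ i) = 0 := by
    intro i; fin_cases i <;> simp [ℓ]
  have hℓ' : ∀ i, constantCoeff (ℓ' i) = 0 := by
    intro i; fin_cases i <;> simp [ℓ']
  have hsa := hasSubst_of_constantCoeff_zero ha
  have hsℓ := hasSubst_of_constantCoeff_zero hℓ
  have hsℓ' := hasSubst_of_constantCoeff_zero hℓ'
  have hττ : τ ^ 2 * τi ^ 2 = 1 := by rw [← mul_pow, hτi, one_pow]
  have hCC : (C (τ ^ 2) : MvPowerSeries (Fin 3) R) * C (τi ^ 2) = 1 := by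
    rw [← map_mul, hττ, map_one]
  have a0 : a 0 = X 0 := rfl
  have a1 : a 1 = X 1 * u := rfl
  have a2 : a 2 = X 2 + q := rfl
  have ℓ0 : ℓ 0 = X 0 := rfl
  have ℓ1 : ℓ 1 = C (τ ^ 2) * X 1 := rfl
  have ℓ2 : ℓ 2 = X 2 + C (l2 * β') * X 0 + C (s2 * α') * X 1 := rfl
  have ℓ'0 : ℓ' 0 = X 0 := rfl
  have ℓ'1 : ℓ' 1 = C (τi ^ 2) * X 1 := rfl
  have ℓ'2 : ℓ' 2 = X 2 - C (l2 * β') * X 0 - C (s2 * α' * τi ^ 2) * X 1 := rfl
  have h1 : ∀ i, subst ℓ (ℓ' i) = X i := by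
    intro i
    fin_cases i
    · show subst ℓ (ℓ' 0) = X 0
      rw [ℓ'0, subst_X hsℓ, ℓ0]
    · show subst ℓ (ℓ' 1) = X 1
      rw [ℓ'1, subst_mul hsℓ, subst_C, subst_X hsℓ, ℓ1]
      linear_combination (X 1) * hCC
    · show subst ℓ (ℓ' 2) = X 2
      rw [ℓ'2, subst_sub hsℓ, subst_sub hsℓ, subst_mul hsℓ, subst_mul hsℓ, subst_C, subst_C,
        subst_X hsℓ, subst_X hsℓ, subst_X hsℓ, ℓ0, ℓ1, ℓ2]
      rw [map_mul C (s2 * α') (τi ^ 2)]
      linear_combination (-(C (s2 * α') * X 1)) * hCC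
  have h2 : ∀ i, subst ℓ' (ℓ i) = X i := by
    intro i
    fin_cases i
    · show subst ℓ' (ℓ 0) = X 0
      rw [ℓ0, subst_X hsℓ', ℓ'0]
    · show subst ℓ' (ℓ 1) = X 1
      rw [ℓ1, subst_mul hsℓ', subst_C, subst_X hsℓ', ℓ'1]
      linear_combination (X 1) * hCC
    · show subst ℓ' (ℓ 2) = X 2
      rw [ℓ2, subst_add hsℓ', subst_add hsℓ', subst_mul hsℓ', subst_mul hsℓ', subst_C, subst_C,
        subst_X hsℓ', subst_X hsℓ', subst_X hsℓ', ℓ'0, ℓ'1, ℓ'2]
      rw [map_mul C (s2 * α') (τi ^ 2)]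
      ring
  have hX : ∀ i : Fin 3, (1 : ℕ∞) ≤ (X i : MvPowerSeries (Fin 3) R).order := fun i =>
    one_le_order_iff_constCoeff_eq_zero.2 (constantCoeff_X i)
  have hr : ∀ i, 2 ≤ (a i - ℓ i).order := by
    intro i
    fin_cases i
    · show 2 ≤ (a 0 - ℓ 0).order
      rw [a0, ℓ0, sub_self, order_zero]; exact le_top
    · show 2 ≤ (a 1 - ℓ 1).order
      have e : a 1 - ℓ 1 = X 1 * (u - C (τ ^ 2)) := by rw [a1, ℓ1]; ring
      rw [e]
      refine le_trans ?_ le_order_mul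
      rw [← one_add_one_eq_two]
      refine add_le_add (hX 1) (one_le_order_iff_constCoeff_eq_zero.2 ?_)
      simp [u]
    · show 2 ≤ (a 2 - ℓ 2).order
      have e : a 2 - ℓ 2 = X 0 * (C (l4 * β') * X 0) + X 1 * (C (s4 * α') * X 1) := by
        rw [a2, ℓ2, hq]; ring
      rw [e]
      refine le_trans (le_min ?_ ?_) min_order_le_add
      · refine le_trans ?_ le_order_mul
        rw [← one_add_one_eq_two]
        refine add_le_add (hX 0) (one_le_order_iff_constCoeff_eq_zero.2 ?_)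
        simp
      · refine le_trans ?_ le_order_mul
        rw [← one_add_one_eq_two]
        refine add_le_add (hX 1) (one_le_order_iff_constCoeff_eq_zero.2 ?_)
        simp
  let Φ := Groth.Agent.H65.iftEquiv ha hℓ hℓ' h1 h2 hr
  have hΦ : Φ (X 2 ^ 2 + X 0 * X 1) =
      (X 2 ^ 2 + C (τ ^ 2) * X 0 * X 1 + (C (s4 ^ 2) * X 1 ^ 4 + C (s2 ^ 2) * X 1 ^ 2) * X 0 +
          (C (l4 ^ 2) * X 0 ^ 4 + C (l2 ^ 2) * X 0 ^ 2) * X 1 + C (l4 ^ 2 * β) * X 0 ^ 4 +
          C (l2 ^ 2 * β) * X 0 ^ 2 + C (s4 ^ 2 * α) * X 1 ^ 4 + C (s2 ^ 2 * α) * X 1 ^ 2 :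
          MvPowerSeries (Fin 3) R) := by
    rw [Groth.Agent.H65.iftEquiv_apply, subst_add hsa, subst_pow hsa, subst_mul hsa, subst_X hsa,
      subst_X hsa, subst_X hsa, a0, a1, a2, hu, hq, ← hα2, ← hβ2]
    simp only [map_mul, map_pow]
    linear_combination (X 2 * (C l4 * C β' * X 0 ^ 2 + C l2 * C β' * X 0 +
      C s4 * C α' * X 1 ^ 2 + C s2 * C α' * X 1) +
      (C l4 * C β' * X 0 ^ 2 * (C l2 * C β' * X 0) +
       C l4 * C β' * X 0 ^ 2 * (C s4 * C α' * X 1 ^ 2) +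
       C l4 * C β' * X 0 ^ 2 * (C s2 * C α' * X 1) +
       C l2 * C β' * X 0 * (C s4 * C α' * X 1 ^ 2) +
       C l2 * C β' * X 0 * (C s2 * C α' * X 1) +
       C s4 * C α' * X 1 ^ 2 * (C s2 * C α' * X 1))) * h2P
  refine ⟨Φ.symm, ?_⟩
  rw [← hΦ, AlgEquiv.symm_apply_apply]
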