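import Groth.Statements.S13130
import Mathlib
-- import your own Groth.Agent.* helpers here

set_option autoImplicit false
universe u v
open KumFam

namespace Groth.Agent.S13130

/-- Let R be a nontrivial commutative ring and M a commutative group, with group algebra R[M], the
coordinate ring of the diagonalizable group scheme D(M) over Spec R. Then D(M) is integral over Spec
R, i.e. R[M] is an integral R-algebra, if and only if M is a torsion group. (The published statement
is over an arbitrary base scheme; the question is local and this row is the affine form, with R
nontrivial so that the elements of M are R-linearly independent.) -/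
theorem result (R : Type u) [CommRing R] [Nontrivial R]
    (M : Type v) [CommGroup M] :
    Algebra.IsIntegral R (MonoidAlgebra R M) ↔ IsMulTorsion M := by
  classical
  constructor
  · intro hint m
    by_contra hm
    have hinj : Function.Injective (fun i : ℕ => m ^ i) :=
      injective_pow_iff_not_isOfFinOrder.mpr hm
    obtain ⟨P, hmonic, hP⟩ := hint.isIntegral (MonoidAlgebra.of R M m)
    rw [← Polynomial.aeval_def, Polynomial.aeval_eq_sum_range] at hP
    have hpow : ∀ i : ℕ, (MonoidAlgebra.of R M m) ^ i = MonoidAlgebra.single (m ^ i) (1 : R) := by
      intro i
      rw [← map_pow]; rfl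
    have h2 := congrArg (fun f : MonoidAlgebra R M => f.coeff (m ^ P.natDegree)) hP
    simp only [hpow, MonoidAlgebra.smul_single, smul_eq_mul, mul_one, MonoidAlgebra.coeff_sum,
      MonoidAlgebra.coeff_single, MonoidAlgebra.coeff_zero, Finsupp.coe_zero, Pi.zero_apply] at h2
    rw [Finsupp.coe_finsetSum, Finset.sum_apply] at h2
    simp only [Finsupp.single_apply] at h2
    have h3 : ∀ i ∈ Finset.range (P.natDegree + 1),
        (if m ^ i = m ^ P.natDegree then P.coeff i else 0) =
          if i = P.natDegree then P.coeff i else 0 := by
      intro i _
      by_cases h : i = P.natDegree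
      · simp [h]
      · have : m ^ i ≠ m ^ P.natDegree := fun h' => h (hinj h')
        simp [h, this]
    rw [Finset.sum_congr rfl h3, Finset.sum_ite_eq'] at h2
    simp only [Finset.mem_range, Nat.lt_succ_self, if_true] at h2
    rw [Polynomial.coeff_natDegree, hmonic.leadingCoeff] at h2
    exact one_ne_zero h2
  · intro htors
    refine ⟨fun x => ?_⟩
    induction x using MonoidAlgebra.induction_on with
    | of g =>
      obtain ⟨n, hn, hgn⟩ := (htors g).exists_pow_eq_one
      refine ⟨Polynomial.X ^ n - 1, Polynomial.monic_X_pow_sub_C (1 : R) hn.ne', ?_⟩
      rw [← Polynomial.aeval_def]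
      simp only [map_sub, map_pow, Polynomial.aeval_X, map_one]
      rw [← map_pow, hgn, map_one, sub_self]
    | add a b ha hb => exact ha.add hb
    | smul r a ha => exact ha.smul r

end Groth.Agent.S13130
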