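import Groth.Statements.S13131
import Mathlib
-- import your own Groth.Agent.* helpers here

set_option autoImplicit false
universe u
open CategoryTheory CategoryTheory.Limits AlgebraicGeometry
open KumFam

namespace Groth.Agent.S13131

open TopologicalSpace

section
variable (S : Scheme.{u}) (M : Type u)

/-- index of a point of `∐ S` -/
noncomputable def idx (z : ↥(∐ (fun _ : M => S))) : M := ((sigmaMk (fun _ : M => S)).symm z).1

lemma idx_ι (m : M) (s : S) : idx S M ((Sigma.ι (fun _ : M => S) m).base s) = m := by
  unfold idx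
  have := sigmaMk_mk (fun _ : M => S) m s
  rw [← this, Homeomorph.symm_apply_apply]

lemma isLocallyConstant_idx : IsLocallyConstant (idx S M) := by
  intro s
  exact (isOpen_sigma_fst_preimage s).preimage (sigmaMk (fun _ : M => S)).symm.continuous

lemma mem_range_ι_of_idx (z : ↥(∐ (fun _ : M => S))) :
    z ∈ Set.range (Sigma.ι (fun _ : M => S) (idx S M z)).base := by
  obtain ⟨⟨m, s⟩, rfl⟩ := (sigmaMk (fun _ : M => S)).surjective z
  rw [sigmaMk_mk]
  rw [idx_ι]
  exact ⟨s, rfl⟩

end

section
variable {S : Scheme.{u}} {M : Type u} {T : Scheme.{u}}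

/-- the fibre of a locally constant function as an open -/
def fib (c : LocallyConstant T M) (m : M) : T.Opens := ⟨c ⁻¹' {m}, c.isLocallyConstant {m}⟩

lemma mem_fib (c : LocallyConstant T M) (m : M) (t : T) : t ∈ fib c m ↔ c t = m := Iff.rfl

lemma isColimit_cofan (c : LocallyConstant T M) :
    Nonempty (IsColimit (Cofan.mk T (fun m => (fib c m).ι))) := by
  apply nonempty_isColimit_cofanMk_of
  · rw [eq_top_iff]
    intro t _
    simp only [Scheme.Opens.opensRange_ι, Opens.mem_iSup]
    exact ⟨c t, rfl⟩
  · intro i j hij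
    simp only [Function.onFun, Scheme.Opens.opensRange_ι]
    rw [disjoint_iff]
    ext t
    simp only [Opens.coe_inf, Set.mem_inter_iff, SetLike.mem_coe, mem_fib, Opens.coe_bot,
      Set.mem_empty_iff_false, iff_false, not_and]
    intro h1 h2
    exact hij (h1.symm.trans h2)

end

section
variable {S : Scheme.{u}} {M : Type u} {T : Scheme.{u}} (p : T ⟶ S)

/-- the morphism glued from a locally constant function -/
noncomputable def glue (c : LocallyConstant T M) : T ⟶ ∐ (fun _ : M => S) :=
  Cofan.IsColimit.desc (isColimit_cofan c).some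
    (fun m => (fib c m).ι ≫ p ≫ Sigma.ι (fun _ : M => S) m)

lemma ι_glue (c : LocallyConstant T M) (m : M) :
    (fib c m).ι ≫ glue p c = (fib c m).ι ≫ p ≫ Sigma.ι (fun _ : M => S) m :=
  Cofan.IsColimit.fac (isColimit_cofan c).some _ m

lemma glue_desc (c : LocallyConstant T M) :
    glue p c ≫ Sigma.desc (fun _ : M => 𝟙 S) = p := by
  apply Cofan.IsColimit.hom_ext (isColimit_cofan c).some
  intro m
  change (fib c m).ι ≫ glue p c ≫ _ = (fib c m).ι ≫ p
  rw [← Category.assoc, ι_glue]
  simp

lemma idx_glue (c : LocallyConstant T M) (t : T) : idx S M ((glue p c).base t) = c t := by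
  have ht : t ∈ fib c (c t) := rfl
  have h := congrArg (fun φ => φ.base ⟨t, ht⟩) (ι_glue p c (c t))
  simp only [Scheme.Hom.comp_base, TopCat.hom_comp, ContinuousMap.comp_apply] at h
  have h2 : (fib c (c t)).ι.base ⟨t, ht⟩ = t := rfl
  rw [h2] at h
  rw [h, idx_ι]

lemma eq_glue (f : T ⟶ ∐ (fun _ : M => S)) (hf : f ≫ Sigma.desc (fun _ : M => 𝟙 S) = p)
    (c : LocallyConstant T M) (hc : ∀ t, idx S M (f.base t) = c t) : f = glue p c := by
  apply Cofan.IsColimit.hom_ext (isColimit_cofan c).some
  intro m
  change (fib c m).ι ≫ f = (fib c m).ι ≫ glue p c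
  rw [ι_glue]
  have hrange : Set.range ((fib c m).ι ≫ f).base ⊆
      Set.range (Sigma.ι (fun _ : M => S) m).base := by
    rintro _ ⟨⟨t, ht⟩, rfl⟩
    have := mem_range_ι_of_idx S M (f.base t)
    rw [hc t, (mem_fib c m t).mp ht] at this
    simpa using this
  have hl : IsOpenImmersion.lift (Sigma.ι (fun _ : M => S) m) ((fib c m).ι ≫ f) hrange ≫
      Sigma.ι (fun _ : M => S) m = (fib c m).ι ≫ f := IsOpenImmersion.lift_fac _ _ _
  have hl' : IsOpenImmersion.lift (Sigma.ι (fun _ : M => S) m) ((fib c m).ι ≫ f) hrange =
      (fib c m).ι ≫ p := by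
    have := congrArg (· ≫ Sigma.desc (fun _ : M => 𝟙 S)) hl
    simp only [Category.assoc, Sigma.ι_desc, Category.comp_id, hf] at this
    exact this
  rw [← hl, hl', Category.assoc]

end

/-- Let S be a scheme, M a set and p : T → S a scheme over S. The S-morphisms T → ∐_{m ∈ M} S (the
constant S-scheme on M, with its structure map the codiagonal) are in bijection with the locally
constant maps T → M, a morphism f corresponding to the function sending t to the index of the copy
of S containing f(t). (In the published statement M is a group and ∐_M S the constant group scheme;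
the group structures play no role in this description of T-points.) -/
theorem result (S : Scheme.{u}) (M : Type u)
    (T : Scheme.{u}) (p : T ⟶ S) :
    ∃ e : {f : T ⟶ ∐ (fun _ : M => S) // f ≫ Sigma.desc (fun _ : M => 𝟙 S) = p} ≃
        LocallyConstant T M,
      ∀ (f : {f : T ⟶ ∐ (fun _ : M => S) // f ≫ Sigma.desc (fun _ : M => 𝟙 S) = p}) (t : T),
        e f t = ((sigmaMk (fun _ : M => S)).symm (f.1.base t)).1 := by
  refine ⟨{ toFun := fun f => ⟨fun t => idx S M (f.1.base t),
              (isLocallyConstant_idx S M).comp_continuous f.1.continuous⟩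
            invFun := fun c => ⟨glue p c, glue_desc p c⟩
            left_inv := fun f => Subtype.ext (eq_glue p f.1 f.2 _ (fun t => rfl)).symm
            right_inv := fun c => LocallyConstant.ext (idx_glue p c) }, ?_⟩
  intro f t
  rfl

end Groth.Agent.S13131
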