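import Groth.Statements.S13134
import Mathlib
import Groth.Agent.H57.ArtinPoly

set_option autoImplicit false
universe u v
open CAlg

namespace Groth.Agent.S13134

/-- Let A' be an Artinian local ring, I a proper ideal, A = A'/I and f_1, …, f_m ∈ A[x_1, …, x_n]. Every
flat A'-algebra B' equipped with a surjection π onto A[x]/(f_1, …, f_m) with kernel I·B', compatible
with A' → A, is a quotient of A'[x_1, …, x_n] by the ideal generated by some lifts f'_1, …, f'_m of
the f_i, compatibly with π and with reduction of polynomials modulo I. (The published statement is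
for a surjection of local Artinian algebras with a fixed residue field over a ring of Witt vectors;
only the Artinian local base and the proper ideal are used, which is the form taken here.) -/
theorem result
    {A' : Type u} [CommRing A'] [IsArtinianRing A'] [IsLocalRing A'] (I : Ideal A') (hI : I ≠ ⊤)
    {n m : ℕ} (f : Fin m → MvPolynomial (Fin n) (A' ⧸ I))
    {B' : Type v} [CommRing B'] [Algebra A' B'] [Module.Flat A' B']
    (π : B' →+* MvPolynomial (Fin n) (A' ⧸ I) ⧸ Ideal.span (Set.range f))
    (hπ : Function.Surjective π) (hker : RingHom.ker π = I.map (algebraMap A' B'))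
    (hcomp : π.comp (algebraMap A' B') =
      ((Ideal.Quotient.mk (Ideal.span (Set.range f))).comp MvPolynomial.C).comp (Ideal.Quotient.mk I)) :
    ∃ (f' : Fin m → MvPolynomial (Fin n) A') (ψ : MvPolynomial (Fin n) A' →ₐ[A'] B'),
      (∀ i, MvPolynomial.map (Ideal.Quotient.mk I) (f' i) = f i) ∧
      Function.Surjective ψ ∧ RingHom.ker ψ.toRingHom = Ideal.span (Set.range f') ∧
      ∀ q, π (ψ q) = Ideal.Quotient.mk (Ideal.span (Set.range f)) (MvPolynomial.map (Ideal.Quotient.mk I) q) := by
  classical
  have hred : Function.Surjective (MvPolynomial.map (σ := Fin n) (Ideal.Quotient.mk I)) :=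
    MvPolynomial.map_surjective _ Ideal.Quotient.mk_surjective
  have hredker : RingHom.ker (MvPolynomial.map (σ := Fin n) (Ideal.Quotient.mk I)) =
      I.map (algebraMap A' (MvPolynomial (Fin n) A')) := by
    rw [MvPolynomial.ker_map, Ideal.mk_ker]; rfl
  -- choose images of the variables
  choose b hb using fun i : Fin n =>
    hπ (Ideal.Quotient.mk (Ideal.span (Set.range f)) (MvPolynomial.X i))
  let ψ : MvPolynomial (Fin n) A' →ₐ[A'] B' := MvPolynomial.aeval b
  have hπψ : ∀ q, π (ψ q) = Ideal.Quotient.mk (Ideal.span (Set.range f))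
      (MvPolynomial.map (Ideal.Quotient.mk I) q) := by
    have h : π.comp (ψ : MvPolynomial (Fin n) A' →+* B') =
        (Ideal.Quotient.mk (Ideal.span (Set.range f))).comp
          (MvPolynomial.map (Ideal.Quotient.mk I)) := by
      apply MvPolynomial.ringHom_ext
      · intro a
        have := congrArg (fun g => g a) hcomp
        simp only [RingHom.comp_apply] at this
        simp only [RingHom.comp_apply, RingHom.coe_coe, ψ, MvPolynomial.aeval_C,
          MvPolynomial.map_C]
        exact this
      · intro i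
        simp only [RingHom.comp_apply, RingHom.coe_coe, ψ, MvPolynomial.aeval_X,
          MvPolynomial.map_X]
        exact hb i
    intro q
    exact congrArg (fun g => g q) h
  -- nilpotency
  obtain ⟨N, hN⟩ := Groth.Agent.H57.ArtinPoly.exists_pow_maximalIdeal_eq_bot (R := A')
  have hInil : IsNilpotent I := by
    refine ⟨N, ?_⟩
    have h2 : I ^ N ≤ ⊥ := hN ▸ Ideal.pow_right_mono (IsLocalRing.le_maximalIdeal hI) N
    exact le_bot_iff.1 h2
  -- surjectivity
  have hψsurj : Function.Surjective ψ := by
    have h : (⊤ : Submodule A' B') ≤ LinearMap.range ψ.toLinearMap := by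
      apply Groth.Agent.H57.ArtinPoly.le_of_le_sup_smul I hInil
      intro x _
      obtain ⟨p₀, hp₀⟩ := Ideal.Quotient.mk_surjective (π x)
      obtain ⟨p, rfl⟩ := hred p₀
      have h1 : x - ψ p ∈ RingHom.ker π := by
        rw [RingHom.mem_ker, map_sub, hπψ, hp₀, sub_self]
      rw [hker] at h1
      have h2 : x - ψ p ∈ I • (⊤ : Submodule A' B') := by
        rw [Ideal.smul_top_eq_map]; exact h1
      rw [Submodule.mem_sup]
      exact ⟨ψ p, ⟨p, rfl⟩, x - ψ p, h2, by ring⟩
    intro x
    obtain ⟨p, hp⟩ := h (Submodule.mem_top (x := x))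
    exact ⟨p, hp⟩
  -- `ψ` maps `I P'` onto `I B'`
  have hψI : ∀ y ∈ I • (⊤ : Submodule A' B'),
      ∃ h ∈ I • (⊤ : Submodule A' (MvPolynomial (Fin n) A')), ψ h = y := by
    intro y hy
    refine Submodule.smul_induction_on hy ?_ ?_
    · intro a ha z _
      obtain ⟨p, rfl⟩ := hψsurj z
      exact ⟨a • p, Submodule.smul_mem_smul ha trivial, map_smul ψ a p⟩
    · rintro _ _ ⟨h1, hh1, rfl⟩ ⟨h2, hh2, rfl⟩
      exact ⟨h1 + h2, Submodule.add_mem _ hh1 hh2, map_add ψ h1 h2⟩
  -- lifts of the relations killed by `ψ`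
  have hex : ∀ i, ∃ g : MvPolynomial (Fin n) A',
      MvPolynomial.map (Ideal.Quotient.mk I) g = f i ∧ ψ g = 0 := by
    intro i
    obtain ⟨g, hg⟩ := hred (f i)
    have h1 : ψ g ∈ I • (⊤ : Submodule A' B') := by
      rw [Ideal.smul_top_eq_map]
      change ψ g ∈ I.map (algebraMap A' B')
      rw [← hker, RingHom.mem_ker, hπψ, hg]
      exact Ideal.Quotient.eq_zero_iff_mem.2 (Ideal.subset_span ⟨i, rfl⟩)
    obtain ⟨h, hh, hψh⟩ := hψI _ h1
    refine ⟨g - h, ?_, by rw [map_sub, hψh, sub_self]⟩
    have h0 : MvPolynomial.map (Ideal.Quotient.mk I) h = 0 := by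
      rw [Ideal.smul_top_eq_map] at hh
      have hh' : h ∈ I.map (algebraMap A' (MvPolynomial (Fin n) A')) := hh
      rw [← hredker] at hh'
      exact hh'
    rw [map_sub, h0, sub_zero, hg]
  choose f' hf'red hf'ψ using hex
  have hspan_le : Ideal.span (Set.range f') ≤ RingHom.ker ψ.toRingHom := by
    rw [Ideal.span_le]
    rintro _ ⟨i, rfl⟩
    exact hf'ψ i
  refine ⟨f', ψ, hf'red, hψsurj, le_antisymm ?_ hspan_le, hπψ⟩
  -- the kernel is generated by the lifts
  have hKF : LinearMap.ker ψ.toLinearMap ≤
      (Ideal.span (Set.range f')).restrictScalars A' := by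
    apply Groth.Agent.H57.ArtinPoly.le_of_le_sup_smul I hInil
    intro k hk
    have hk' : ψ k = 0 := hk
    have h1 : MvPolynomial.map (Ideal.Quotient.mk I) k ∈ Ideal.span (Set.range f) := by
      rw [← Ideal.Quotient.eq_zero_iff_mem, ← hπψ, hk', map_zero]
    have h2 : Ideal.span (Set.range f) =
        (Ideal.span (Set.range f')).map (MvPolynomial.map (Ideal.Quotient.mk I)) := by
      rw [Ideal.map_span, ← Set.range_comp]
      congr 2
      funext i
      exact (hf'red i).symm
    rw [h2, Ideal.mem_map_iff_of_surjective _ hred] at h1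
    obtain ⟨φ, hφ, hφk⟩ := h1
    have hφK : ψ φ = 0 := hspan_le hφ
    have hkφ : k - φ ∈ I • (⊤ : Submodule A' (MvPolynomial (Fin n) A')) := by
      rw [Ideal.smul_top_eq_map]
      change k - φ ∈ I.map (algebraMap A' (MvPolynomial (Fin n) A'))
      rw [← hredker, RingHom.mem_ker, map_sub, hφk, sub_self]
    have hkφK : k - φ ∈ LinearMap.ker ψ.toLinearMap := by
      change ψ (k - φ) = 0
      rw [map_sub, hk', hφK, sub_self]
    have hmem := Groth.Agent.H57.ArtinPoly.mem_smul_top_of_flat_coker
      (LinearMap.ker ψ.toLinearMap).subtype ψ.toLinearMap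
      (Submodule.injective_subtype _) (LinearMap.exact_subtype_ker_map ψ.toLinearMap)
      hψsurj I ⟨k - φ, hkφK⟩ hkφ
    have hmem' : k - φ ∈ I • LinearMap.ker ψ.toLinearMap := by
      have := Submodule.mem_map_of_mem (f := (LinearMap.ker ψ.toLinearMap).subtype) hmem
      rwa [Submodule.map_smul'', Submodule.map_top, Submodule.range_subtype] at this
    rw [Submodule.mem_sup]
    exact ⟨φ, hφ, k - φ, hmem', by ring⟩
  intro k hk
  exact hKF hk

end Groth.Agent.S13134
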