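import Groth.Statements.S13135
import Mathlib
import Groth.Agent.H57.ArtinPoly

set_option autoImplicit false
universe u
open CAlg

namespace Groth.Agent.S13135

/-- Let A' be an Artinian local ring, I a proper ideal, A = A'/I and f_1, …, f_m a regular sequence in
A[x_1, …, x_n]. For every choice of lifts f'_1, …, f'_m in A'[x_1, …, x_n] the quotient A'[x]/(f'_1,
…, f'_m) is flat over A' (so it is a flat lifting of A[x]/(f_1, …, f_m)). (The published statement
is for a surjection of local Artinian algebras with a fixed residue field over a ring of Witt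
vectors; only the Artinian local base and the proper ideal are used, which is the form taken here.) -/
theorem result
    {A' : Type u} [CommRing A'] [IsArtinianRing A'] [IsLocalRing A'] (I : Ideal A') (hI : I ≠ ⊤)
    {n m : ℕ} (f : Fin m → MvPolynomial (Fin n) (A' ⧸ I))
    (hreg : RingTheory.Sequence.IsRegular (MvPolynomial (Fin n) (A' ⧸ I)) (List.ofFn f))
    (f' : Fin m → MvPolynomial (Fin n) A') (hf' : ∀ i, MvPolynomial.map (Ideal.Quotient.mk I) (f' i) = f i) :
    Module.Flat A' (MvPolynomial (Fin n) A' ⧸ Ideal.span (Set.range f')) := by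
  classical
  have hφsurj : Function.Surjective
      (MvPolynomial.map (σ := Fin n) (Ideal.Quotient.mk I)) :=
    MvPolynomial.map_surjective _ Ideal.Quotient.mk_surjective
  have hφker : RingHom.ker (MvPolynomial.map (σ := Fin n) (Ideal.Quotient.mk I)) =
      I.map (algebraMap A' (MvPolynomial (Fin n) A')) := by
    rw [MvPolynomial.ker_map, Ideal.mk_ker]; rfl
  letI : Algebra (MvPolynomial (Fin n) A') (MvPolynomial (Fin n) (A' ⧸ I)) :=
    (MvPolynomial.map (σ := Fin n) (Ideal.Quotient.mk I)).toAlgebra
  have hlist : List.ofFn f = (List.ofFn f').map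
      (algebraMap (MvPolynomial (Fin n) A') (MvPolynomial (Fin n) (A' ⧸ I))) := by
    rw [List.map_ofFn]
    congr 1
    funext i
    exact (hf' i).symm
  have h1 : RingTheory.Sequence.IsWeaklyRegular (MvPolynomial (Fin n) (A' ⧸ I)) (List.ofFn f') :=
    (RingTheory.Sequence.isWeaklyRegular_map_algebraMap_iff (MvPolynomial (Fin n) (A' ⧸ I))
      (MvPolynomial (Fin n) (A' ⧸ I)) (List.ofFn f')).1 (hlist ▸ hreg.toIsWeaklyRegular)
  let g : MvPolynomial (Fin n) A' →ₗ[MvPolynomial (Fin n) A'] MvPolynomial (Fin n) (A' ⧸ I) :=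
    Algebra.linearMap _ _
  have hgsurj : Function.Surjective g := hφsurj
  have hgker : LinearMap.ker g = I.map (algebraMap A' (MvPolynomial (Fin n) A')) •
      (⊤ : Submodule (MvPolynomial (Fin n) A') (MvPolynomial (Fin n) A')) := by
    rw [smul_eq_mul, Ideal.mul_top, ← hφker]
    rfl
  let E := (Submodule.quotEquivOfEq _ _ hgker.symm).trans
    (LinearMap.quotKerEquivOfSurjective g hgsurj)
  have h2 : RingTheory.Sequence.IsWeaklyRegular
      (MvPolynomial (Fin n) A' ⧸ (I.map (algebraMap A' (MvPolynomial (Fin n) A')) •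
        (⊤ : Submodule (MvPolynomial (Fin n) A') (MvPolynomial (Fin n) A')))) (List.ofFn f') :=
    (E.isWeaklyRegular_congr _).2 h1
  obtain ⟨-, hfl⟩ := Groth.Agent.H57.ArtinPoly.isWeaklyRegular_and_flat (C := A') I hI
    (List.ofFn f') (MvPolynomial (Fin n) A') h2
  have hofList : Ideal.ofList (List.ofFn f') = Ideal.span (Set.range f') := by
    unfold Ideal.ofList
    congr 1
    ext x
    simp [List.mem_ofFn]
  have heq : Ideal.span (Set.range f') =
      (Ideal.ofList (List.ofFn f') •
        (⊤ : Submodule (MvPolynomial (Fin n) A') (MvPolynomial (Fin n) A'))) := by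
    rw [smul_eq_mul, Ideal.mul_top, hofList]
  exact Module.Flat.of_linearEquiv ((Submodule.quotEquivOfEq _ _ heq).restrictScalars A')

end Groth.Agent.S13135
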