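import Groth.Statements.S13137
import Groth.Agent.H65.W2Basic
-- import your own Groth.Agent.* helpers here

set_option autoImplicit false
universe u v
open FrobAlg

namespace Groth.Agent.S13137

/-- For a perfect field k of characteristic p, a flat W₂(k)-algebra B and an ideal J of B, the quotient
B/J is flat over W₂(k) if and only if (p) ∩ J = pJ in B. (With B a flat lifting of A = B/pB this
says: B/J is a flat lifting of A modulo the image of J exactly when (p) ∩ J = pJ.) -/
theorem result
    (p : ℕ) [Fact p.Prime] (k : Type u) [Field k] [CharP k p] [PerfectRing k p]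
    (B : Type v) [CommRing B] [Algebra (FrobAlg.W2 p k) B] [Module.Flat (FrobAlg.W2 p k) B]
    (J : Ideal B) :
    Module.Flat (FrobAlg.W2 p k) (B ⧸ J) ↔
      Ideal.span {(p : B)} ⊓ J = Ideal.span {(p : B)} * J := by
  have hpB : ∀ x : B, (p : FrobAlg.W2 p k) • x = (p : B) * x := by
    intro x
    rw [Algebra.smul_def, map_natCast]
  have hsm : ∀ (r : FrobAlg.W2 p k) (b : B),
      r • Ideal.Quotient.mk J b = Ideal.Quotient.mk J (r • b) :=
    fun r b => (map_smul (Ideal.Quotient.mkₐ (FrobAlg.W2 p k) J) r b).symm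
  have hBflat := (Groth.Agent.H65.W2B.flat_iff p k B).1 inferInstance
  rw [Groth.Agent.H65.W2B.flat_iff p k (B ⧸ J)]
  constructor
  · intro h
    apply le_antisymm
    · intro y hy
      obtain ⟨hy1, hy2⟩ := hy
      obtain ⟨x, rfl⟩ := Ideal.mem_span_singleton'.1 hy1
      -- x * p ∈ J
      have h1 : (p : FrobAlg.W2 p k) • (Ideal.Quotient.mk J x) = 0 := by
        rw [hsm, hpB, Ideal.Quotient.eq_zero_iff_mem, mul_comm]
        exact hy2
      obtain ⟨m', hm'⟩ := h _ h1
      obtain ⟨b, rfl⟩ := Ideal.Quotient.mk_surjective m'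
      rw [hsm, hpB, Ideal.Quotient.eq] at hm'
      -- x - p * b ∈ J
      have : x * (p : B) = (p : B) * (x - p * b) := by
        have hpp : (p : B) * p = 0 := by
          rw [← map_natCast (algebraMap (FrobAlg.W2 p k) B), ← map_mul,
            Groth.Agent.H65.W2B.p_mul_p, map_zero]
        linear_combination b * hpp
      rw [this]
      exact Ideal.mul_mem_mul (Ideal.mem_span_singleton_self _) hm'
    · exact Ideal.mul_le_inf
  · intro h m hm
    obtain ⟨x, rfl⟩ := Ideal.Quotient.mk_surjective m
    rw [hsm, hpB, Ideal.Quotient.eq_zero_iff_mem] at hm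
    have h1 : (p : B) * x ∈ Ideal.span {(p : B)} ⊓ J :=
      ⟨Ideal.mul_mem_right _ _ (Ideal.mem_span_singleton_self _), hm⟩
    rw [h, Ideal.mem_span_singleton_mul] at h1
    obtain ⟨j, hj, hjx⟩ := h1
    have h2 : (p : FrobAlg.W2 p k) • (x - j) = 0 := by
      rw [hpB, mul_sub, hjx, sub_self]
    obtain ⟨m', hm'⟩ := hBflat _ h2
    refine ⟨Ideal.Quotient.mk J m', ?_⟩
    rw [hsm, ← hm', Ideal.Quotient.eq]
    simpa using J.neg_mem hj

end Groth.Agent.S13137
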