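import Groth.Statements.S1314
import Groth.Agent.H7.ThickeningAffine
import Groth.Agent.H7.NilpotentLift

set_option autoImplicit false
universe u
open FlatMor

namespace Groth.Agent.S1314

open AlgebraicGeometry CategoryTheory Limits in
/-- Let Y ⟶ Y' be a thickening, let X be the base change to Y of a scheme X' over Y', and assume both X
⟶ Y and X' ⟶ Y' are locally of finite type. Then X ⟶ Y is formally unramified if and only if X' ⟶ Y'
is. (The source states this as the vanishing of the sheaf of relative differentials; formal
unramifiedness is the equivalent phrasing available here.) -/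
theorem result {X X' Y Y' : Scheme.{u}} (iX : X ⟶ X') (iY : Y ⟶ Y') (f : X ⟶ Y) (f' : X' ⟶ Y')
    (hY : MoreMor.IsThickening iY) (hc : IsPullback iX f f' iY) [LocallyOfFiniteType f] [LocallyOfFiniteType f'] :
    FormallyUnramified f ↔ FormallyUnramified f' := by
  constructor
  · intro hf
    rw [HasRingHomProperty.iff_appLE (P := @FormallyUnramified)]
    intro V' U' e
    obtain ⟨hVa, hUa, e', hpo, hsurj, hnil⟩ :=
      Groth.Agent.H7.thickening_affine_data hY hc V'.2 U'.2 e
    have hQ : (f.appLE (iY ⁻¹ᵁ V'.1) (iX ⁻¹ᵁ U'.1) e').hom.FormallyUnramified :=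
      HasRingHomProperty.appLE @FormallyUnramified f hf ⟨_, hVa⟩ ⟨_, hUa⟩ e'
    have hft : (f'.appLE V'.1 U'.1 e).hom.FiniteType :=
      HasRingHomProperty.appLE @LocallyOfFiniteType f' inferInstance V' U' e
    obtain ⟨hβ, hker⟩ := Groth.Agent.H7.surjective_and_ker_of_isPushout hpo hsurj
    exact Groth.Agent.H7.ringHom_formallyUnramified_of_nil_of_finiteType _ _ _ _
      (congr($(hpo.w).hom)) hsurj hβ hker hnil hft hQ
  · intro hf'
    exact MorphismProperty.of_isPullback hc hf'

end Groth.Agent.S1314
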