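import Groth.Statements.S13141
import Mathlib
-- import your own Groth.Agent.* helpers here

set_option autoImplicit false
universe u v w w'
open scoped TensorProduct
open GrpAlg

namespace Groth.Agent.S13141

/-- Let G be a finite group, R a commutative ring with |G| invertible in R, M a projective R-module with
an R-linear G-action and S an R-algebra. The natural map M^G ⊗_R S → M ⊗_R S is injective and its
image is the submodule of G-invariants of M ⊗_R S (G acting on the first factor); that is, M^G ⊗_R S
→ (M ⊗_R S)^G is bijective. -/
theorem result
    (R : Type u) [CommRing R] (G : Type v) [Group G] [Finite G] (hG : IsUnit ((Nat.card G : ℕ) : R))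
    (M : Type w) [AddCommGroup M] [Module R M] [Module.Projective R M] (ρ : Representation R G M)
    (S : Type w') [CommRing S] [Algebra R S] :
    Function.Injective (TensorProduct.map ρ.invariants.subtype (LinearMap.id : S →ₗ[R] S)) ∧
    LinearMap.range (TensorProduct.map ρ.invariants.subtype (LinearMap.id : S →ₗ[R] S)) =
      ⨅ g : G, LinearMap.eqLocus (LinearMap.rTensor S (ρ g)) LinearMap.id := by
  classical
  have : Fintype G := Fintype.ofFinite G
  have hinv : Invertible ((Fintype.card G : ℕ) : R) := by
    rw [Fintype.card_eq_nat_card]; exact hG.invertible
  have he := ρ.isProj_averageMap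
  let e' : M →ₗ[R] ρ.invariants := he.codRestrict
  have he' : e' ∘ₗ ρ.invariants.subtype = LinearMap.id := by
    ext x
    exact congrArg Subtype.val (he.codRestrict_apply_cod x)
  have hsub : ρ.invariants.subtype ∘ₗ e' = ρ.averageMap := by
    ext x
    rfl
  have havg : ρ.averageMap = ⅟((Fintype.card G : ℕ) : R) • ∑ g : G, ρ g := by
    simp [Representation.averageMap, GroupAlgebra.average, map_sum, map_smul]
  constructor
  · apply Function.LeftInverse.injective (g := TensorProduct.map e' LinearMap.id)
    intro x
    rw [← LinearMap.comp_apply, ← TensorProduct.map_comp, he', LinearMap.id_comp,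
      TensorProduct.map_id, LinearMap.id_apply]
  · apply le_antisymm
    · rintro _ ⟨y, rfl⟩
      simp only [Submodule.mem_iInf, LinearMap.mem_eqLocus, LinearMap.id_apply]
      intro g
      induction y using TensorProduct.induction_on with
      | zero => simp
      | tmul v w =>
        have hv := v.2 g
        simp only [TensorProduct.map_tmul, Submodule.subtype_apply, LinearMap.id_apply,
          LinearMap.rTensor_tmul]
        rw [hv]
      | add a b ha hb => simp only [map_add, ha, hb]
    · intro x hx
      simp only [Submodule.mem_iInf, LinearMap.mem_eqLocus, LinearMap.id_apply] at hx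
      have hx' : TensorProduct.map ρ.averageMap (LinearMap.id : S →ₗ[R] S) x = x := by
        have h1 : TensorProduct.map ρ.averageMap (LinearMap.id : S →ₗ[R] S) =
            ⅟((Fintype.card G : ℕ) : R) • ∑ g : G, LinearMap.rTensor S (ρ g) := by
          rw [havg]
          have := (LinearMap.rTensorHom (R := R) (M := S) (N := M) (P := M))
          show LinearMap.rTensorHom S _ = _
          rw [map_smul, map_sum]
          rfl
        rw [h1, LinearMap.smul_apply, LinearMap.sum_apply]
        simp only [hx, Finset.sum_const, Finset.card_univ]
        rw [← Nat.cast_smul_eq_nsmul R, smul_smul, invOf_mul_self, one_smul]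
      refine ⟨TensorProduct.map e' LinearMap.id x, ?_⟩
      rw [← LinearMap.comp_apply, ← TensorProduct.map_comp, hsub, LinearMap.id_comp]
      exact hx'

end Groth.Agent.S13141
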