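import Groth.Statements.S13142
import Mathlib
-- import your own Groth.Agent.* helpers here

set_option autoImplicit false
universe u v
open GrpAlg

namespace Groth.Agent.S13142

/-- Let G be a finite group and R a commutative ring with |G| invertible in R, acting on R[x_1, …, x_n]
by R-algebra automorphisms. The invariant subring R[x_1, …, x_n]^G is a flat R-module (so the
quotient of affine n-space over R by G is flat over R). -/
theorem result
    (R : Type u) [CommRing R] (G : Type v) [Group G] [Finite G] (hG : IsUnit ((Nat.card G : ℕ) : R))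
    (n : ℕ) (ρ : G →* (MvPolynomial (Fin n) R ≃ₐ[R] MvPolynomial (Fin n) R)) :
    Module.Flat R ↥(⨅ g : G, LinearMap.eqLocus (ρ g).toLinearMap (LinearMap.id : MvPolynomial (Fin n) R →ₗ[R] MvPolynomial (Fin n) R)) := by
  classical
  have : Fintype G := Fintype.ofFinite G
  obtain ⟨u, hu⟩ := hG
  set N := ⨅ g : G, LinearMap.eqLocus (ρ g).toLinearMap
    (LinearMap.id : MvPolynomial (Fin n) R →ₗ[R] MvPolynomial (Fin n) R) with hN
  have hmem : ∀ f : MvPolynomial (Fin n) R, f ∈ N ↔ ∀ g : G, ρ g f = f := by
    intro f
    simp only [hN, Submodule.mem_iInf, LinearMap.mem_eqLocus, LinearMap.id_apply,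
      AlgEquiv.toLinearMap_apply]
  let e : MvPolynomial (Fin n) R →ₗ[R] MvPolynomial (Fin n) R :=
    (↑u⁻¹ : R) • ∑ g : G, (ρ g).toLinearMap
  have he_mem : ∀ f, e f ∈ N := by
    intro f
    rw [hmem]
    intro h
    simp only [e, LinearMap.smul_apply, LinearMap.sum_apply, AlgEquiv.toLinearMap_apply, map_smul,
      map_sum]
    congr 1
    refine Fintype.sum_bijective (h * ·) (Group.mulLeft_bijective h) _ _ (fun g => ?_)
    rw [map_mul]
    rfl
  have he_id : ∀ f ∈ N, e f = f := by
    intro f hf
    rw [hmem] at hf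
    simp only [e, LinearMap.smul_apply, LinearMap.sum_apply, AlgEquiv.toLinearMap_apply, hf,
      Finset.sum_const, Finset.card_univ]
    rw [← Nat.cast_smul_eq_nsmul R, smul_smul, Fintype.card_eq_nat_card, ← hu, Units.inv_mul,
      one_smul]
  exact Module.Flat.of_retract N.subtype (e.codRestrict N he_mem)
    (LinearMap.ext fun x => Subtype.ext (he_id x.1 x.2))

end Groth.Agent.S13142
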