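import Groth.Statements.S13148
import Groth.Agent.H87.SmoothQuotF
import Groth.Agent.H87.SemiLift
import Groth.Agent.H65.W2CI

set_option autoImplicit false
universe u
open FrobAlg

namespace Groth.Agent.S13148

/-- Over a perfect field k of characteristic p, every smooth affine scheme Spec A admits a flat lifting
over W₂(k) together with a lifting of Frobenius (not necessarily unique). -/
theorem result
    (p : ℕ) [Fact p.Prime] (k : Type u) [Field k] [CharP k p] [PerfectRing k p]
    (A : Type u) [CommRing A] [Algebra k A] [Algebra.Smooth k A] :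
    FrobAlg.IsFLiftable p k A := by
  classical
  have hres : Function.Surjective (FrobAlg.res p k) := Groth.Agent.H65.W2B.res_surjective p k
  let e₀ : (FrobAlg.W2 p k ⧸ RingHom.ker (FrobAlg.res p k)) ≃+* k :=
    RingHom.quotientKerEquivOfSurjective hres
  let f₀ : (FrobAlg.W2 p k ⧸ RingHom.ker (FrobAlg.res p k)) →+* A :=
    (algebraMap k A).comp (e₀ : (FrobAlg.W2 p k ⧸ RingHom.ker (FrobAlg.res p k)) →+* k)
  have hf₀ : f₀.Smooth :=
    (RingHom.Smooth.of_bijective e₀.bijective).comp (RingHom.smooth_algebraMap.mpr inferInstance)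
  let _ : Algebra (FrobAlg.W2 p k ⧸ RingHom.ker (FrobAlg.res p k)) A := f₀.toAlgebra
  have : Algebra.Smooth (FrobAlg.W2 p k ⧸ RingHom.ker (FrobAlg.res p k)) A := hf₀.toAlgebra
  obtain ⟨B, _, _, hBsm, ⟨e⟩⟩ := Groth.Agent.H87.SmoothQuot.exists_smooth_lift
    (RingHom.ker (FrobAlg.res p k)) (A₀ := A)
  let ι : FrobAlg.W2 p k →+* B := algebraMap (FrobAlg.W2 p k) B
  let π : B →+* A :=
    (e : (B ⧸ (RingHom.ker (FrobAlg.res p k)).map (algebraMap (FrobAlg.W2 p k) B)) →+* A).comp
      (Ideal.Quotient.mk _)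
  have hπι : ∀ r, π (ι r) = algebraMap k A (FrobAlg.res p k r) := by
    intro r
    change e (Ideal.Quotient.mk _ (algebraMap (FrobAlg.W2 p k) B r)) = _
    have h1 : Ideal.Quotient.mk ((RingHom.ker (FrobAlg.res p k)).map
        (algebraMap (FrobAlg.W2 p k) B)) (algebraMap (FrobAlg.W2 p k) B r) =
        algebraMap (FrobAlg.W2 p k ⧸ RingHom.ker (FrobAlg.res p k))
          (B ⧸ (RingHom.ker (FrobAlg.res p k)).map (algebraMap (FrobAlg.W2 p k) B))
          (Ideal.Quotient.mk _ r) := rfl
    rw [h1, e.commutes]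
    change algebraMap k A (e₀ (Ideal.Quotient.mk _ r)) = _
    rw [RingHom.quotientKerEquivOfSurjective_apply_mk]
  have hπsurj : Function.Surjective π := e.surjective.comp Ideal.Quotient.mk_surjective
  have hkerπ : RingHom.ker π = Ideal.map ι (RingHom.ker (FrobAlg.res p k)) := by
    ext x
    rw [RingHom.mem_ker]
    change e (Ideal.Quotient.mk _ x) = 0 ↔ _
    rw [map_eq_zero_iff e e.injective, Ideal.Quotient.eq_zero_iff_mem]
  have hlift : FrobAlg.IsLift p k A B ι π := by
    refine ⟨?_, hπsurj, hkerπ, ?_⟩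
    · exact RingHom.flat_algebraMap_iff.mpr inferInstance
    · ext r
      exact hπι r
  -- nilpotent kernel
  have hnil : IsNilpotent (RingHom.ker π) := by
    refine ⟨2, ?_⟩
    rw [hkerπ, Groth.Agent.H65.W2B.ker_res p k, Ideal.map_span, Set.image_singleton,
      Ideal.span_singleton_pow, pow_two, ← map_mul, ← Nat.cast_mul]
    have h2 : ((p * p : ℕ) : FrobAlg.W2 p k) = 0 := by
      rw [Nat.cast_mul]
      exact Groth.Agent.H65.W2B.p_mul_p p k
    rw [h2, map_zero]
    exact Ideal.span_singleton_eq_bot.mpr rfl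
  -- the Frobenius lift
  obtain ⟨φ, hφ⟩ : ∃ φ : A →+* A, ∀ a, φ a = a ^ p := by
    rcases subsingleton_or_nontrivial A with h | h
    · exact ⟨RingHom.id A, fun a => Subsingleton.elim _ _⟩
    · have : CharP A p := charP_of_injective_algebraMap (algebraMap k A).injective p
      exact ⟨frobenius A p, fun a => frobenius_def p a⟩
  obtain ⟨Φ, hΦι, hΦπ⟩ := Groth.Agent.H87.SemiLift.exists_semilinear_lift (FrobAlg.sigma p k) B A π
    hπsurj hnil (φ.comp π) (fun r => by
      rw [RingHom.comp_apply, hφ]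
      change (π (ι r)) ^ p = π (ι (FrobAlg.sigma p k r))
      rw [hπι, hπι, Groth.Agent.H65.W2C.res_sigma, map_pow])
  refine ⟨B, inferInstance, ι, π, Φ, ⟨hlift, ?_, ?_⟩⟩
  · ext r
    exact hΦι r
  · intro b
    rw [hΦπ, RingHom.comp_apply, hφ]

end Groth.Agent.S13148
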