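import Groth.Statements.S1315
import Groth.Agent.H7.ThickeningAffine
import Groth.Agent.H7.NilpotentLift
import Groth.Agent.S1314

set_option autoImplicit false
universe u
open FlatMor

namespace Groth.Agent.S1315

open AlgebraicGeometry CategoryTheory Limits in
/-- Let Y ⟶ Y' be a thickening, let X be the base change to Y of a scheme X' over Y', and assume both X
⟶ Y and X' ⟶ Y' are locally of finite type. Then X ⟶ Y is a monomorphism if and only if X' ⟶ Y' is. -/
theorem result {X X' Y Y' : Scheme.{u}} (iX : X ⟶ X') (iY : Y ⟶ Y') (f : X ⟶ Y) (f' : X' ⟶ Y')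
    (hY : MoreMor.IsThickening iY) (hc : IsPullback iX f f' iY) [LocallyOfFiniteType f] [LocallyOfFiniteType f'] :
    Mono f ↔ Mono f' := by
  constructor
  · intro hf
    have h1 : IsIso (pullback.diagonal f) := (pullback.isIso_diagonal_iff f).mpr hf
    have hfu : FormallyUnramified f := inferInstance
    have hfu' : FormallyUnramified f' := (Groth.Agent.S1314.result iX iY f f' hY hc).mp hfu
    have hopen : IsOpenImmersion (pullback.diagonal f') := inferInstance
    have hsurj : Surjective (pullback.diagonal f') := by
      constructor
      intro z
      have e₁ : f ≫ iY = iX ≫ f' := hc.w.symm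
      have := hY.1
      have hX := Groth.Agent.H7.isThickening_of_isPullback hc hY
      have := hX.2
      have hr := Scheme.Pullback.range_map f f f' f' iX iX iY e₁ e₁
      have hz : z ∈ Set.range (pullback.map f f f' f' iX iX iY e₁ e₁) := by
        rw [hr]
        exact ⟨iX.surjective _, iX.surjective _⟩
      obtain ⟨w, rfl⟩ := hz
      obtain ⟨x, rfl⟩ := (pullback.diagonal f).surjective w
      refine ⟨iX x, ?_⟩
      have hnat : iX ≫ pullback.diagonal f' =
          pullback.diagonal f ≫ pullback.map f f f' f' iX iX iY e₁ e₁ := by
        apply pullback.hom_ext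
        · rw [Category.assoc, Category.assoc, pullback.diagonal_fst, Category.comp_id,
            pullback.lift_fst, pullback.diagonal_fst_assoc]
        · rw [Category.assoc, Category.assoc, pullback.diagonal_snd, Category.comp_id,
            pullback.lift_snd, pullback.diagonal_snd_assoc]
      rw [← Scheme.Hom.comp_apply, ← Scheme.Hom.comp_apply, hnat]
    have : IsIso (pullback.diagonal f') :=
      (isIso_iff_isOpenImmersion_and_surjective _).mpr ⟨hopen, hsurj⟩
    exact (pullback.isIso_diagonal_iff f').mp this
  · intro hf'
    exact hc.mono_snd_of_mono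

end Groth.Agent.S1315
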