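import Groth.Statements.S13157
import Mathlib
-- import your own Groth.Agent.* helpers here

set_option autoImplicit false
universe u
open scoped Polynomial
open CAlg

namespace Groth.Agent.S13157

/-- (i) ⇔ (ii): let p be a prime number, A a commutative ring in which (p−1)! is invertible, μ ∈ A, and
F ∈ A[X] a polynomial of degree at most p − 1 with constant term a_0 = 1 and coefficients a_1, a_2,
…. Then the relations a_{r−1}·a_1 = (r − 1)μ·a_{r−1} + r·a_r for 1 ≤ r ≤ p (with a_p = 0), written
here as the single identity a_1·F = F′·(1 + μX), hold if and only if r!·a_r = ∏_{k=0}^{r−1} (a_1 −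
kμ) for every 1 ≤ r ≤ p − 1 and ∏_{k=0}^{p−1} (a_1 − kμ) = 0. (The published statement lists the
relations only for 1 ≤ r ≤ p − 1, while its proof uses and derives the relation for r = p as well,
which is needed for the vanishing of the last product; it is included here. The published setting is
the quotient of a discrete valuation ring of residue characteristic p by a nonzero non-unit; only
the invertibility of 1, …, p − 1 is used.) -/
theorem result (A : Type u) [CommRing A] (p : ℕ) [Fact p.Prime]
    (hu : IsUnit ((Nat.factorial (p - 1) : ℕ) : A)) (μ : A) (F : A[X]) (hF : F.natDegree < p)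
    (h0 : F.coeff 0 = 1) :
    F * Polynomial.C (F.coeff 1) = Polynomial.derivative F * (1 + Polynomial.C μ * Polynomial.X) ↔
      ((∀ r : ℕ, 1 ≤ r → r < p →
          (r.factorial : A) * F.coeff r = ∏ k ∈ Finset.range r, (F.coeff 1 - (k : A) * μ)) ∧
        ∏ k ∈ Finset.range p, (F.coeff 1 - (k : A) * μ) = 0) := by
  have hp := (Fact.out : p.Prime)
  -- coefficientwise form
  have hcoef : F * Polynomial.C (F.coeff 1) =
      Polynomial.derivative F * (1 + Polynomial.C μ * Polynomial.X) ↔
      ∀ n : ℕ, F.coeff n * F.coeff 1 = F.coeff (n + 1) * ((n : A) + 1) + μ * (F.coeff n * (n : A)) := by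
    rw [Polynomial.ext_iff]
    refine forall_congr' fun n => ?_
    rw [Polynomial.coeff_mul_C, mul_add, mul_one, Polynomial.coeff_add, ← mul_assoc,
      Polynomial.coeff_derivative]
    cases n with
    | zero =>
      rw [Polynomial.coeff_mul_X_zero]
      simp
    | succ m =>
      rw [Polynomial.coeff_mul_X, Polynomial.coeff_mul_C, Polynomial.coeff_derivative]
      constructor
      · intro h; rw [h]; push_cast; ring
      · intro h; rw [h]; push_cast; ring
  rw [hcoef]
  have hfact_unit : ∀ r : ℕ, r < p → IsUnit ((r.factorial : ℕ) : A) := by
    intro r hr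
    have hdvd : r.factorial ∣ (p - 1).factorial := Nat.factorial_dvd_factorial (by omega)
    obtain ⟨c, hc⟩ := hdvd
    rw [hc, Nat.cast_mul] at hu
    exact isUnit_of_mul_isUnit_left hu
  have hhigh : ∀ n : ℕ, p ≤ n → F.coeff n = 0 := fun n hn =>
    Polynomial.coeff_eq_zero_of_natDegree_lt (by omega)
  constructor
  · intro hrec
    have hfac : ∀ r : ℕ, 1 ≤ r →
        (r.factorial : A) * F.coeff r = ∏ k ∈ Finset.range r, (F.coeff 1 - (k : A) * μ) := by
      intro r hr
      induction r, hr using Nat.le_induction with
      | base => simp
      | succ r hr ih =>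
        rw [Finset.prod_range_succ, ← ih, Nat.factorial_succ, Nat.cast_mul]
        have := hrec r
        push_cast
        linear_combination (-(r.factorial : A)) * this
    refine ⟨fun r hr1 _ => hfac r hr1, ?_⟩
    rw [← hfac p hp.one_lt.le, hhigh p le_rfl, mul_zero]
  · rintro ⟨hfac, hprod⟩ n
    rcases Nat.eq_zero_or_pos n with hn0 | hnpos
    · subst hn0
      rw [h0]; simp
    · by_cases hn1 : n + 1 < p
      · have hn : n < p := by omega
        have e1 := hfac n hnpos hn
        have e2 := hfac (n + 1) (by omega) hn1
        rw [Finset.prod_range_succ, ← e1, Nat.factorial_succ, Nat.cast_mul] at e2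
        have hunit := hfact_unit n hn
        have : (n.factorial : A) * (F.coeff n * F.coeff 1 -
            (F.coeff (n + 1) * ((n : A) + 1) + μ * (F.coeff n * (n : A)))) = 0 := by
          push_cast at e2
          linear_combination -e2
        have := (hunit.mul_right_eq_zero).mp this
        exact sub_eq_zero.mp this
      · by_cases hn : n < p
        · have hnp : n + 1 = p := by omega
          have e1 := hfac n hnpos hn
          rw [← hnp, Finset.prod_range_succ, ← e1] at hprod
          have hunit := hfact_unit n hn
          rw [hhigh (n + 1) (by omega), zero_mul, zero_add]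
          have : (n.factorial : A) * (F.coeff n * F.coeff 1 - μ * (F.coeff n * (n : A))) = 0 := by
            linear_combination hprod
          have := (hunit.mul_right_eq_zero).mp this
          exact sub_eq_zero.mp this
        · rw [hhigh n (by omega), hhigh (n + 1) (by omega)]
          ring

end Groth.Agent.S13157
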