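import Groth.Statements.S13160
import Groth.Agent.H75.WittFrobKilled

set_option autoImplicit false
universe u
open CAlg

namespace Groth.Agent.S13160

/-- Let R be a discrete valuation ring, p a prime number and λ an element of R dividing p (so that R/λR
is an 𝔽_p-algebra), and let a and b be p-typical Witt vectors with coefficients in R/λR which are
killed by the Frobenius endomorphism. Then the Witt sum a + b has components a_n + b_n for every n.
(The published statement allows an arbitrary λ ∈ R and is stated for Witt vectors with finitely many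
nonzero components; this row assumes that λ divides p, so that p = 0 in R/λR, and allows all Witt
vectors.) -/
theorem result (R : Type u) [CommRing R] [IsDomain R]
    [IsDiscreteValuationRing R] (p : ℕ) [Fact p.Prime] (lam : R) (hlam : lam ∣ (p : R))
    (a b : WittVector p (R ⧸ Ideal.span {lam})) (ha : WittVector.frobenius a = 0)
    (hb : WittVector.frobenius b = 0) (n : ℕ) : (a + b).coeff n = a.coeff n + b.coeff n := by
  have hpS : (p : R ⧸ Ideal.span {lam}) = 0 := by
    rw [← map_natCast (Ideal.Quotient.mk (Ideal.span {lam})), Ideal.Quotient.eq_zero_iff_mem,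
      Ideal.mem_span_singleton]
    exact hlam
  rcases subsingleton_or_nontrivial (R ⧸ Ideal.span {lam}) with hsub | hnt
  · exact Subsingleton.elim _ _
  have hchar : CharP (R ⧸ Ideal.span {lam}) p :=
    (CharP.charP_iff_prime_eq_zero (Fact.out : p.Prime)).2 hpS
  have ha' : ∀ i, a.coeff i ^ p = 0 := by
    intro i
    rw [← WittVector.coeff_frobenius_charP, ha, WittVector.zero_coeff]
  have hb' : ∀ i, b.coeff i ^ p = 0 := by
    intro i
    rw [← WittVector.coeff_frobenius_charP, hb, WittVector.zero_coeff]
  have hg : ∀ v : Fin 2 × ℕ, (Function.uncurry ![a.coeff, b.coeff] v) ^ p = 0 := by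
    rintro ⟨i, k⟩
    fin_cases i
    · exact ha' k
    · exact hb' k
  rw [WittVector.add_coeff, WittVector.peval]
  have hdecomp : WittVector.wittAdd p n =
      (WittVector.wittAdd p n - MvPolynomial.X (0, n) - MvPolynomial.X (1, n)) +
        MvPolynomial.X (0, n) + MvPolynomial.X (1, n) := by ring
  rw [hdecomp, map_add, map_add, MvPolynomial.aeval_X, MvPolynomial.aeval_X]
  have key : ∀ x y z : R ⧸ Ideal.span {lam}, x = 0 → x + y + z = y + z := by
    intro x y z hx; rw [hx, zero_add]
  refine key _ _ _ ?_
  set f : MvPolynomial (Fin 2 × ℕ) ℤ :=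
    WittVector.wittAdd p n - MvPolynomial.X (0, n) - MvPolynomial.X (1, n) with hf
  have hord := Groth.Agent.H75.WittFrobKilled.order_wittAdd_sub p n
  rw [← hf] at hord
  rw [f.as_sum, map_sum]
  apply Finset.sum_eq_zero
  intro d hd
  rw [MvPolynomial.aeval_monomial]
  have hdeg : p ≤ d.degree := by
    by_contra hlt
    have hlt' : ((d.degree : ℕ) : ℕ∞) < (p : ℕ∞) := by exact_mod_cast not_le.1 hlt
    have := MvPowerSeries.coeff_of_lt_order (f := (f : MvPowerSeries (Fin 2 × ℕ) ℤ)) (d := d)
      (lt_of_lt_of_le hlt' hord)
    rw [MvPolynomial.coeff_coe] at this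
    exact (MvPolynomial.mem_support_iff.1 hd) this
  rw [Groth.Agent.H75.WittFrobKilled.prod_eq_zero_of_pow_eq_zero p lam _ hg d hdeg
    (Fact.out : p.Prime).pos, mul_zero]

end Groth.Agent.S13160
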