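import Groth.Statements.S13161
import Mathlib

set_option autoImplicit false
universe u
open scoped TensorProduct
open CAlg

namespace Groth.Agent.S13161

/-- Let R be a discrete valuation ring with fraction field K, A an R-algebra which is semireflexive as
an R-module (the map to its double dual is injective: every nonzero a ∈ A has an R-linear form f : A
→ R with f(a) ≠ 0), and B an A-algebra which is finitely generated as an A-module and flat over R.
Suppose B ⊗ K is semireflexive as a module over A ⊗ K, which for such B amounts to: every nonzero b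
∈ B has an A-linear map g : B → A ⊗_R K with g(b) ≠ 0. Then B is semireflexive as an R-module: every
nonzero b ∈ B has an R-linear form h : B → R with h(b) ≠ 0. (The published statement phrases the
hypothesis on B_K as an A_K-module; for B flat over R and finite over A this is the elementwise
condition used here.) -/
theorem result (R : Type u) [CommRing R] [IsDomain R]
    [IsDiscreteValuationRing R] (K : Type u) [Field K] [Algebra R K] [IsFractionRing R K]
    (A B : Type u) [CommRing A] [CommRing B] [Algebra R A] [Algebra R B] [Algebra A B] [IsScalarTower R A B]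
    [Module.Finite A B] [Module.Flat R B]
    (hA : ∀ a : A, a ≠ 0 → ∃ f : A →ₗ[R] R, f a ≠ 0)
    (hBK : ∀ b : B, b ≠ 0 → ∃ g : B →ₗ[A] A ⊗[R] K, g b ≠ 0) :
    ∀ b : B, b ≠ 0 → ∃ h : B →ₗ[R] R, h b ≠ 0 := by
  classical
  intro b hb
  obtain ⟨g, hg⟩ := hBK b hb
  -- the localization structure on A ⊗ K
  let S : Submonoid R := nonZeroDivisors R
  let ι : A →ₗ[R] A ⊗[R] K := (TensorProduct.comm R K A : K ⊗[R] A ≃ₗ[R] A ⊗[R] K) ∘ₗ
    (TensorProduct.mk R K A 1)
  have hloc : IsLocalizedModule S ι := IsLocalizedModule.of_linearEquiv S _ _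
  have hι : ∀ a : A, ι a = a ⊗ₜ[R] (1 : K) := fun a => rfl
  -- A is torsion free
  have htf : ∀ (r : R) (a : A), r ≠ 0 → r • a = 0 → a = 0 := by
    intro r a hr hra
    by_contra ha
    obtain ⟨f, hf⟩ := hA a ha
    apply hf
    have : r • f a = 0 := by rw [← map_smul, hra, map_zero]
    rcases smul_eq_zero.mp this with h | h
    · exact absurd h hr
    · exact h
  have hιinj : Function.Injective ι := by
    rw [injective_iff_map_eq_zero]
    intro a ha
    obtain ⟨s, hs⟩ := (IsLocalizedModule.eq_zero_iff S ι).mp ha
    exact htf (s : R) a (nonZeroDivisors.coe_ne_zero s) hs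
  -- finite generation
  obtain ⟨T, hT⟩ := (Module.Finite.fg_top : (⊤ : Submodule A B).FG)
  have hsurj : ∀ t : B, ∃ s : S, s • g t ∈ LinearMap.range ι := by
    intro t
    obtain ⟨⟨a, s⟩, h⟩ := IsLocalizedModule.surj S ι (g t)
    exact ⟨s, a, h.symm⟩
  choose σ hσ using hsurj
  let s : S := ∏ t ∈ T, σ t
  have hall : ∀ x : B, s • g x ∈ LinearMap.range ι := by
    intro x
    have hx : x ∈ Submodule.span A (T : Set B) := by rw [hT]; trivial
    induction hx using Submodule.span_induction with
    | mem t ht =>
      have ht' : t ∈ T := ht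
      obtain ⟨c, hc⟩ : σ t ∣ s := Finset.dvd_prod_of_mem σ ht'
      rw [hc, mul_comm, mul_smul]
      exact Submodule.smul_mem _ (c : R) (hσ t)
    | zero =>
      rw [map_zero, smul_zero]
      exact Submodule.zero_mem _
    | add x y _ _ hx hy =>
      rw [map_add, smul_add]
      exact Submodule.add_mem _ hx hy
    | smul a x _ hx =>
      obtain ⟨y, hy⟩ := hx
      refine ⟨a • y, ?_⟩
      rw [LinearMap.map_smul g, Submonoid.smul_def, smul_comm, ← Submonoid.smul_def, ← hy, hι, hι,
        TensorProduct.smul_tmul']
  -- the R-linear map B → A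
  let gR : B →ₗ[R] A ⊗[R] K := (s : R) • (g.restrictScalars R)
  have hgR : ∀ x, gR x ∈ LinearMap.range ι := fun x => hall x
  let G : B →ₗ[R] A := ((LinearEquiv.ofInjective ι hιinj).symm : LinearMap.range ι →ₗ[R] A) ∘ₗ
    (gR.codRestrict (LinearMap.range ι) hgR)
  have hG : ∀ x, ι (G x) = (s : R) • g x := by
    intro x
    have : (LinearEquiv.ofInjective ι hιinj) (G x) = gR.codRestrict (LinearMap.range ι) hgR x :=
      LinearEquiv.apply_symm_apply _ _
    have h2 := congrArg Subtype.val this
    exact h2
  have hGb : G b ≠ 0 := by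
    intro h0
    have h1 := hG b
    rw [h0, map_zero] at h1
    apply hg
    apply IsLocalizedModule.smul_injective ι s
    show s • g b = s • (0 : A ⊗[R] K)
    rw [smul_zero, Submonoid.smul_def, ← h1]
  obtain ⟨f, hf⟩ := hA (G b) hGb
  exact ⟨f ∘ₗ G, hf⟩

end Groth.Agent.S13161
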