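import Groth.Statements.S13162
import Groth.Agent.H65.InvLift
-- import your own Groth.Agent.* helpers here

set_option autoImplicit false
universe u v
open ZeroCyc

namespace Groth.Agent.S13162

/-- Let a finite group G act on a commutative ring A by ring automorphisms and let p be a prime such
that every integer prime to p is a unit in A. If I is an ideal of A and f ∈ A has G-invariant class
modulo I, then f^(p^k) is congruent modulo I to a G-invariant element of A, where p^k is the exact
power of p dividing the order of G. (The published statement assumes I stable under G, so that G
acts on A/I and the claim reads: the p^k-th power of an invariant of A/I lies in the image of the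
invariants of A; the form here asks only that the class of f be invariant.) -/
theorem result {A : Type u} [CommRing A] {G : Type v} [Group G] [Fintype G]
    [MulSemiringAction G A] (p : ℕ) [Fact p.Prime]
    (hA : ∀ m : ℕ, ¬ p ∣ m → IsUnit (m : A))
    (I : Ideal A) (f : A) (hf : ∀ g : G, g • f - f ∈ I) :
    ∃ a : A, (∀ g : G, g • a = a) ∧ a - f ^ (p ^ (Fintype.card G).factorization p) ∈ I := by
  classical
  obtain ⟨P⟩ : Nonempty (Sylow p G) := inferInstance
  have hcard : Nat.card (P : Subgroup G) = p ^ (Fintype.card G).factorization p := by
    rw [P.card_eq_multiplicity, Nat.card_eq_fintype_card]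
  have hidx : IsUnit (((P : Subgroup G).index : ℕ) : A) := hA _ P.not_dvd_index
  obtain ⟨a, ha1, ha2⟩ := Groth.Agent.H65.invariant_lift (P : Subgroup G) hidx I f hf
  exact ⟨a, ha1, by rwa [hcard] at ha2⟩

end Groth.Agent.S13162
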