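import Groth.Statements.S13163

set_option autoImplicit false
universe u
open ZeroCyc

namespace Groth.Agent.S13163

open Polynomial in
/-- Let P_d(T) = ∏_{0 ≤ i < j ≤ d} (T^i − T^j) − 1 ∈ ℤ[T]. Every residue field of ℤ[T]/(P_d), i.e. every
field receiving a ring homomorphism from it, has at least d + 1 elements. -/
theorem result (d : ℕ) (k : Type u) [Field k]
    (φ : (ℤ[X] ⧸ Ideal.span {(∏ j ∈ Finset.range (d + 1), ∏ i ∈ Finset.range j,
        ((X : ℤ[X]) ^ i - X ^ j)) - 1}) →+* k) :
    ((d + 1 : ℕ) : Cardinal) ≤ Cardinal.mk k := by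
  classical
  set P : ℤ[X] := (∏ j ∈ Finset.range (d + 1), ∏ i ∈ Finset.range j, ((X : ℤ[X]) ^ i - X ^ j)) - 1
    with hP
  let ψ : ℤ[X] →+* k := φ.comp (Ideal.Quotient.mk (Ideal.span {P}))
  set t : k := ψ X with ht
  have hψP : ψ P = 0 := by
    change φ (Ideal.Quotient.mk (Ideal.span {P}) P) = 0
    rw [Ideal.Quotient.eq_zero_iff_mem.2 (Ideal.subset_span (Set.mem_singleton P)), map_zero]
  have hprod : (∏ j ∈ Finset.range (d + 1), ∏ i ∈ Finset.range j, (t ^ i - t ^ j)) = 1 := by
    have := hψP
    rw [hP, map_sub, map_one, map_prod, sub_eq_zero] at this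
    rw [← this]
    refine Finset.prod_congr rfl fun j _ => ?_
    rw [map_prod]
    refine Finset.prod_congr rfl fun i _ => ?_
    rw [map_sub, map_pow, map_pow]
  have hinj : Function.Injective (fun i : Fin (d + 1) => t ^ (i : ℕ)) := by
    intro i j hij
    by_contra hne
    have key : ∀ i j : Fin (d + 1), (i : ℕ) < (j : ℕ) → t ^ (i : ℕ) = t ^ (j : ℕ) → False := by
      intro i j hlt hij
      have h0 : (∏ j ∈ Finset.range (d + 1), ∏ i ∈ Finset.range j, (t ^ i - t ^ j)) = 0 := by
        apply Finset.prod_eq_zero (Finset.mem_range.2 j.2)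
        apply Finset.prod_eq_zero (Finset.mem_range.2 hlt)
        rw [hij, sub_self]
      rw [hprod] at h0
      exact one_ne_zero h0
    rcases lt_or_gt_of_ne (fun h => hne (Fin.ext h)) with h | h
    · exact key i j h hij
    · exact key j i h hij.symm
  have := Cardinal.lift_mk_le_lift_mk_of_injective hinj
  simpa using this

end Groth.Agent.S13163
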