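import Groth.Statements.S13165
import Groth.Agent.H66.GradedGen

set_option autoImplicit false
universe u
open ZeroCyc

namespace Groth.Agent.S13165

/-- Let B be a graded R-algebra generated by homogeneous elements f_1, …, f_s of positive degrees d_1,
…, d_s, let l be the least common multiple of the d_i and n = a l with a ≥ s − 1. Then B_{kn} =
(B_n)^k for every k ≥ 0. -/
theorem result {R A : Type u} [CommRing R] [CommRing A] [Algebra R A] (𝒜 : ℕ → Submodule R A) [GradedAlgebra 𝒜]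
    {s : ℕ} (f : Fin s → A) (deg : Fin s → ℕ) (hdeg : ∀ i, 0 < deg i) (hf : ∀ i, f i ∈ 𝒜 (deg i))
    (hgen : Algebra.adjoin R (Set.range f) = ⊤) (a : ℕ) (ha : s - 1 ≤ a) (k : ℕ) :
    𝒜 (k * (a * Finset.univ.lcm deg)) = 𝒜 (a * Finset.univ.lcm deg) ^ k := by
  have h0 : 𝒜 0 = 1 := Groth.Agent.H66.GradedGen.deg_zero_eq_one 𝒜 hdeg hf hgen
  induction k with
  | zero => rw [Nat.zero_mul, pow_zero, h0]
  | succ k ih =>
    rw [pow_succ, ← ih, Nat.succ_mul]
    rcases Nat.eq_zero_or_pos k with hk | hk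
    · subst hk
      rw [Nat.zero_mul, Nat.zero_add, h0, one_mul]
    · apply Groth.Agent.H66.GradedGen.deg_add_mul_lcm 𝒜 hdeg hf hgen
      have hl : 0 < Finset.univ.lcm deg := Groth.Agent.H66.GradedGen.lcm_pos hdeg
      calc (s - 1) * (Finset.univ.lcm deg - 1) ≤ a * Finset.univ.lcm deg :=
            Nat.mul_le_mul ha (Nat.sub_le _ _)
        _ ≤ k * (a * Finset.univ.lcm deg) := Nat.le_mul_of_pos_left _ hk

end Groth.Agent.S13165
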