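import Groth.Statements.S13166
import Groth.Agent.H66.CoverAvoid

set_option autoImplicit false
universe u
open ZeroCyc

namespace Groth.Agent.S13166

/-- Let k be a field, B a k-algebra generated as an algebra by a k-subspace V, k'/k a field extension
and x_1, …, x_d pairwise distinct k'-points of B ⊗_k k' (equivalently, distinct k-algebra
homomorphisms B → k'). If k has at least d(d − 1)/2 elements, then there is b ∈ V whose values at
x_1, …, x_d are pairwise distinct. -/
theorem result {k : Type u} [Field k] {B : Type u} [CommRing B] [Algebra k B] (V : Submodule k B)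
    (hV : Algebra.adjoin k (V : Set B) = ⊤) {k' : Type u} [Field k'] [Algebra k k']
    {d : ℕ} (x : Fin d → (B →ₐ[k] k')) (hx : Function.Injective x)
    (hk : ((d.choose 2 : ℕ) : Cardinal) ≤ Cardinal.mk k) :
    ∃ b ∈ V, Function.Injective fun i => x i b := by
  classical
  -- for each 2-subset `t`, the subspace of `V` on which the points of `t` agree
  let W : Finset (Fin d) → Submodule k V := fun t =>
    { carrier := {b | ∀ i ∈ t, ∀ j ∈ t, x i (b : B) = x j (b : B)}
      add_mem' := by
        intro a b ha hb i hi j hj
        simp only [Submodule.coe_add, map_add, ha i hi j hj, hb i hi j hj]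
      zero_mem' := by
        intro i _ j _
        simp
      smul_mem' := by
        intro c b hb i hi j hj
        simp only [Submodule.coe_smul, map_smul, hb i hi j hj] }
  have hWmem : ∀ t (b : V), b ∈ W t ↔ ∀ i ∈ t, ∀ j ∈ t, x i (b : B) = x j (b : B) := fun _ _ => Iff.rfl
  let S : Finset (Submodule k V) := ((Finset.univ : Finset (Fin d)).powersetCard 2).image W
  have hScard : S.card ≤ d.choose 2 := by
    refine le_trans Finset.card_image_le ?_
    rw [Finset.card_powersetCard, Finset.card_univ, Fintype.card_fin]
  have hprop : ∀ P ∈ S, P ≠ ⊤ := by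
    intro P hP
    obtain ⟨t, ht, rfl⟩ := Finset.mem_image.mp hP
    rw [Finset.mem_powersetCard] at ht
    obtain ⟨i, j, hij, rfl⟩ := Finset.card_eq_two.mp ht.2
    intro htop
    apply hij
    apply hx
    apply AlgHom.ext_of_adjoin_eq_top hV
    intro b hb
    have hbW : (⟨b, hb⟩ : V) ∈ W {i, j} := by rw [htop]; trivial
    exact (hWmem _ _).mp hbW i (by simp) j (by simp)
  obtain ⟨v, hv⟩ := Groth.Agent.H66.CoverAvoid.exists_notMem_subspaces S hprop (d.choose 2) hScard hk
  refine ⟨v, v.2, ?_⟩
  intro i j hij
  by_contra hne
  have hmem : W {i, j} ∈ S := by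
    apply Finset.mem_image.mpr
    refine ⟨{i, j}, ?_, rfl⟩
    rw [Finset.mem_powersetCard]
    exact ⟨Finset.subset_univ _, Finset.card_pair hne⟩
  apply hv _ hmem
  rw [hWmem]
  intro a ha b hb
  simp only [Finset.mem_insert, Finset.mem_singleton] at ha hb
  have hij' : x i (v : B) = x j (v : B) := hij
  rcases ha with rfl | rfl <;> rcases hb with rfl | rfl
  · rfl
  · exact hij'
  · exact hij'.symm
  · rfl

end Groth.Agent.S13166
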