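import Groth.Statements.S13167
import Groth.Agent.H66.CoverAvoid

set_option autoImplicit false
universe u
open AlgebraicGeometry
open ZeroCyc

namespace Groth.Agent.S13167

/-- Let B be a graded R-algebra generated by its degree-one part B_1, with B_1 a finitely generated
R-module, and let x_1, …, x_d be points of X = Proj B lying over one and the same prime p of R. If
the residue field of p has at least d elements, then some f ∈ B_1 ⊆ Γ(X, O_X(1)) has all the x_i in
D_+(f). (Without the hypothesis on the residue field such an f exists in some B_n with n ≥ 1; that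
first assertion is a known property of ample sheaves and is not restated here.) -/
theorem result {R A : Type u} [CommRing R] [CommRing A] [Algebra R A] (𝒜 : ℕ → Submodule R A) [GradedAlgebra 𝒜]
    (hgen : Algebra.adjoin R (𝒜 1 : Set A) = ⊤) (hfg : (𝒜 1).FG)
    (p : Ideal R) [p.IsPrime] {d : ℕ} (x : Fin d → Proj 𝒜)
    (hx : ∀ i, ((x i).asHomogeneousIdeal.toIdeal).comap (algebraMap R A) = p)
    (hcard : (d : Cardinal) ≤ Cardinal.mk p.ResidueField) :
    ∃ g ∈ 𝒜 1, ∀ i, x i ∈ Proj.basicOpen 𝒜 g := by
  classical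
  -- the submodules of `𝒜 1` cut out by the points
  let P : Fin d → Submodule R (𝒜 1) := fun i =>
    { carrier := {b | (b : A) ∈ (x i).asHomogeneousIdeal}
      add_mem' := by
        intro a b ha hb
        exact Ideal.add_mem _ ha hb
      zero_mem' := Ideal.zero_mem _
      smul_mem' := by
        intro c b hb
        show ((c • b : 𝒜 1) : A) ∈ (x i).asHomogeneousIdeal.toIdeal
        rw [Submodule.coe_smul, Algebra.smul_def]
        exact Ideal.mul_mem_left _ _ hb }
  have hPmem : ∀ i (b : 𝒜 1), b ∈ P i ↔ (b : A) ∈ (x i).asHomogeneousIdeal := fun _ _ => Iff.rfl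
  -- the opens `D₊(b)`, `b ∈ 𝒜 1`, cover
  have hgen0 : Algebra.adjoin (𝒜 0) (Set.range (fun b : 𝒜 1 => (b : A))) = ⊤ := by
    rw [eq_top_iff]
    intro y hy0
    clear hy0
    have hy : y ∈ Algebra.adjoin R (𝒜 1 : Set A) := by rw [hgen]; trivial
    induction hy using Algebra.adjoin_induction with
    | mem z hz => exact Algebra.subset_adjoin ⟨⟨z, hz⟩, rfl⟩
    | algebraMap r =>
      have : algebraMap R A r = algebraMap (𝒜 0) A ⟨algebraMap R A r, SetLike.algebraMap_mem_graded 𝒜 r⟩ := rfl
      rw [this]
      exact Subalgebra.algebraMap_mem _ _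
    | add y z _ _ hy hz => exact Subalgebra.add_mem _ hy hz
    | mul y z _ _ hy hz => exact Subalgebra.mul_mem _ hy hz
  have hcov := Proj.iSup_basicOpen_eq_top' 𝒜 (fun b : 𝒜 1 => (b : A)) (fun b => ⟨1, b.2⟩) hgen0
  have hprop : ∀ Q ∈ (Finset.univ.image P), Q ≠ ⊤ := by
    intro Q hQ
    obtain ⟨i, -, rfl⟩ := Finset.mem_image.mp hQ
    intro htop
    have hxi : x i ∈ (⊤ : (Proj 𝒜).Opens) := trivial
    rw [← hcov] at hxi
    obtain ⟨b, hb⟩ := TopologicalSpace.Opens.mem_iSup.mp hxi
    rw [Proj.mem_basicOpen] at hb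
    apply hb
    have : b ∈ P i := by rw [htop]; trivial
    exact this
  -- representatives of the residue field elements
  have hrep : ∀ c : p.ResidueField, ∃ st : R × R, st.1 ∉ p ∧
      c * algebraMap R p.ResidueField st.1 = algebraMap R p.ResidueField st.2 := by
    intro c
    obtain ⟨⟨a, ⟨b, hb⟩⟩, hab⟩ := IsLocalization.surj (nonZeroDivisors (R ⧸ p)) c
    obtain ⟨a', rfl⟩ := Ideal.Quotient.mk_surjective a
    obtain ⟨b', rfl⟩ := Ideal.Quotient.mk_surjective b
    refine ⟨(b', a'), ?_, ?_⟩
    · rw [mem_nonZeroDivisors_iff_ne_zero, ne_eq, Ideal.Quotient.eq_zero_iff_mem] at hb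
      exact hb
    · simpa using hab
  choose st hst1 hst2 using hrep
  have hsat : ∀ Q ∈ (Finset.univ.image P), ∀ r ∈ {r : R | r ∉ p}, ∀ u : 𝒜 1, r • u ∈ Q → u ∈ Q := by
    intro Q hQ r hr u hu
    obtain ⟨i, -, rfl⟩ := Finset.mem_image.mp hQ
    rw [hPmem] at hu ⊢
    rw [Submodule.coe_smul, Algebra.smul_def] at hu
    have hprime : (x i).asHomogeneousIdeal.toIdeal.IsPrime := (x i).isPrime
    rcases hprime.mem_or_mem hu with h | h
    · exfalso
      apply hr
      rw [← hx i]
      exact h
    · exact h
  have hemb : Nonempty (Fin (Finset.univ.image P).card ↪ p.ResidueField) := by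
    apply Groth.Agent.H66.CoverAvoid.nonempty_emb_of_card_le _ d _ hcard
    refine le_trans Finset.card_image_le ?_
    simp
  obtain ⟨v, hv⟩ := Groth.Agent.H66.CoverAvoid.exists_notMem_of_card_le (R := R) (M := 𝒜 1)
    {r : R | r ∉ p} (fun c => (st c).1) (fun c => (st c).2) hst1 (by
      intro c c' hcc hmem
      apply hcc
      have h0 : algebraMap R p.ResidueField ((st c').1 * (st c).2 - (st c).1 * (st c').2) = 0 :=
        Ideal.algebraMap_residueField_eq_zero.mpr hmem
      rw [map_sub, map_mul, map_mul, ← hst2 c, ← hst2 c'] at h0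
      have h1 : algebraMap R p.ResidueField (st c).1 ≠ 0 := fun h =>
        hst1 c (Ideal.algebraMap_residueField_eq_zero.mp h)
      have h2 : algebraMap R p.ResidueField (st c').1 ≠ 0 := fun h =>
        hst1 c' (Ideal.algebraMap_residueField_eq_zero.mp h)
      have h3 : algebraMap R p.ResidueField (st c').1 * algebraMap R p.ResidueField (st c).1 * (c - c') = 0 := by
        rw [← h0]; ring
      rcases mul_eq_zero.mp h3 with h | h
      · rcases mul_eq_zero.mp h with h | h
        · exact absurd h h2
        · exact absurd h h1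
      · exact sub_eq_zero.mp h)
    (Finset.univ.image P) hsat hprop hemb
  refine ⟨v, v.2, fun i => ?_⟩
  rw [Proj.mem_basicOpen]
  exact hv (P i) (Finset.mem_image_of_mem _ (Finset.mem_univ i))

end Groth.Agent.S13167
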