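import Groth.Statements.S13168
import Groth.Agent.H66.GradedGen

set_option autoImplicit false
universe u
open AlgebraicGeometry
open ZeroCyc

namespace Groth.Agent.S13168

/-- Let B be a graded R-algebra generated by homogeneous elements f_1, …, f_s of positive degrees d_1,
…, d_s, let l be the least common multiple of the d_i and X = Proj B. For n = a l with a ≥ 1, X is
the union of the opens D_+(g), g ∈ B_n. -/
theorem result {R A : Type u} [CommRing R] [CommRing A] [Algebra R A] (𝒜 : ℕ → Submodule R A) [GradedAlgebra 𝒜]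
    {s : ℕ} (f : Fin s → A) (deg : Fin s → ℕ) (hdeg : ∀ i, 0 < deg i) (hf : ∀ i, f i ∈ 𝒜 (deg i))
    (hgen : Algebra.adjoin R (Set.range f) = ⊤) (a : ℕ) (ha : 0 < a) :
    (⨆ g : 𝒜 (a * Finset.univ.lcm deg), Proj.basicOpen 𝒜 (g : A)) = ⊤ := by
  classical
  have hl : 0 < Finset.univ.lcm deg := Groth.Agent.H66.GradedGen.lcm_pos hdeg
  have hdvd : ∀ i, deg i ∣ Finset.univ.lcm deg := fun i => Finset.dvd_lcm (Finset.mem_univ i)
  have hgen0 : Algebra.adjoin (𝒜 0) (Set.range f) = ⊤ := by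
    rw [eq_top_iff]
    intro x hx0
    clear hx0
    have hx : x ∈ Algebra.adjoin R (Set.range f) := by rw [hgen]; trivial
    induction hx using Algebra.adjoin_induction with
    | mem y hy => exact Algebra.subset_adjoin hy
    | algebraMap r =>
      have : algebraMap R A r = algebraMap (𝒜 0) A ⟨algebraMap R A r, SetLike.algebraMap_mem_graded 𝒜 r⟩ := rfl
      rw [this]
      exact Subalgebra.algebraMap_mem _ _
    | add y z _ _ hy hz => exact Subalgebra.add_mem _ hy hz
    | mul y z _ _ hy hz => exact Subalgebra.mul_mem _ hy hz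
  have hcov := Proj.iSup_basicOpen_eq_top' 𝒜 f (fun i => ⟨deg i, hf i⟩) hgen0
  rw [eq_top_iff, ← hcov]
  apply iSup_le
  intro i
  have hq : 0 < a * Finset.univ.lcm deg / deg i := by
    apply Nat.div_pos _ (hdeg i)
    exact Nat.le_of_dvd (Nat.mul_pos ha hl) (Dvd.dvd.mul_left (hdvd i) a)
  have hmem : f i ^ (a * Finset.univ.lcm deg / deg i) ∈ 𝒜 (a * Finset.univ.lcm deg) := by
    have h1 : f i ^ (a * Finset.univ.lcm deg / deg i) ∈ 𝒜 ((a * Finset.univ.lcm deg / deg i) • deg i) :=
      SetLike.pow_mem_graded _ (hf i)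
    rwa [smul_eq_mul, Nat.div_mul_cancel (Dvd.dvd.mul_left (hdvd i) a)] at h1
  rw [← Proj.basicOpen_pow 𝒜 (f i) _ hq]
  exact le_iSup (fun g : 𝒜 (a * Finset.univ.lcm deg) => Proj.basicOpen 𝒜 (g : A)) ⟨_, hmem⟩

end Groth.Agent.S13168
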