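import Groth.Statements.S13169
import Groth.Agent.H18.TwistGenCover

set_option autoImplicit false
universe u
open AlgebraicGeometry
open ZeroCyc

namespace Groth.Agent.S13169

/-- Let B be a graded R-algebra generated by homogeneous elements f_1, …, f_s of positive degrees d_1,
…, d_s, let l be the least common multiple of the d_i and X = Proj B. For n = a l with a ≥ 1, the
twisting sheaf O_X(n) is ample and is generated by its global sections b/1, b ∈ B_n. -/
theorem result {R A : Type u} [CommRing R] [CommRing A] [Algebra R A] (𝒜 : ℕ → Submodule R A) [GradedAlgebra 𝒜]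
    {s : ℕ} (f : Fin s → A) (deg : Fin s → ℕ) (hdeg : ∀ i, 0 < deg i) (hf : ∀ i, f i ∈ 𝒜 (deg i))
    (hgen : Algebra.adjoin R (Set.range f) = ⊤) (a : ℕ) (ha : 0 < a) :
    CohB1.IsAmple (Twist.twist 𝒜 ((a * Finset.univ.lcm deg : ℕ) : ℤ)) ∧
      ProjUP.GeneratedBy (Twist.twist 𝒜 ((a * Finset.univ.lcm deg : ℕ) : ℤ))
        (fun b : 𝒜 (a * Finset.univ.lcm deg) =>
          (Twist.globalOf 𝒜 b : ProjUP.Γm (Twist.twist 𝒜 ((a * Finset.univ.lcm deg : ℕ) : ℤ)))) := by
  classical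
  set l : ℕ := Finset.univ.lcm deg with hl
  have hcov := Groth.Agent.H18.exists_notMem_of_adjoin_eq_top 𝒜 f hgen
  have hdvd : ∀ i, deg i ∣ l := fun i => Finset.dvd_lcm (Finset.mem_univ i)
  have hlpos : 0 < l := by
    rw [Nat.pos_iff_ne_zero]
    intro h0
    rw [hl, Finset.lcm_eq_zero_iff] at h0
    obtain ⟨i, -, hi⟩ := h0
    exact (Nat.pos_iff_ne_zero.mp (hdeg i)) hi
  have hal : 0 < a * l := Nat.mul_pos ha hlpos
  have hdvd' : ∀ i, deg i ∣ a * l := fun i => Dvd.dvd.mul_left (hdvd i) a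
  have hg : ∀ i, f i ^ (a * l / deg i) ∈ 𝒜 (a * l) := by
    intro i
    have := SetLike.pow_mem_graded (a * l / deg i) (hf i)
    rwa [smul_eq_mul, Nat.div_mul_cancel (hdvd' i)] at this
  have hcov' : ∀ x : ProjectiveSpectrum 𝒜, ∃ b : A, b ∈ 𝒜 (a * l) ∧ b ∉ x.asHomogeneousIdeal := by
    intro x
    obtain ⟨i, hi⟩ := hcov x
    exact ⟨f i ^ (a * l / deg i), hg i, fun h => hi (x.isPrime.mem_of_pow_mem _ h)⟩
  haveI : CompactSpace (Proj 𝒜) := by
    constructor
    have hun : (Set.univ : Set (Proj 𝒜)) =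
        ⋃ i : Fin s, ((Proj.basicOpen 𝒜 (f i) : (Proj 𝒜).Opens) : Set (Proj 𝒜)) := by
      ext x
      simp only [Set.mem_univ, Set.mem_iUnion, true_iff]
      obtain ⟨i, hi⟩ := hcov x
      exact ⟨i, hi⟩
    rw [hun]
    exact isCompact_iUnion (fun i =>
      (Proj.isAffineOpen_basicOpen 𝒜 (f i) (hf i) (hdeg i)).isCompact)
  exact ⟨Groth.Agent.H18.isAmple_twist 𝒜 (a * l) hal hcov',
    Groth.Agent.H18.generatedBy_globalOf 𝒜 (a * l) hcov'⟩

end Groth.Agent.S13169
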