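import Groth.Statements.S13170
import Groth.Agent.H18.TwistGenCover

set_option autoImplicit false
universe u
open AlgebraicGeometry CategoryTheory
open ZeroCyc

namespace Groth.Agent.S13170

/-- Let B be a graded R-algebra generated by homogeneous elements f_1, …, f_s of positive degrees d_1,
…, d_s, let l be the least common multiple of the d_i and X = Proj B. For all integers a and n,
O_X(al) ⊗ O_X(n) ≅ O_X(al + n). (The published statement asserts that the canonical multiplication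
map is an isomorphism; this row asserts only that an isomorphism exists.) -/
theorem result {R A : Type u} [CommRing R] [CommRing A] [Algebra R A] (𝒜 : ℕ → Submodule R A) [GradedAlgebra 𝒜]
    {s : ℕ} (f : Fin s → A) (deg : Fin s → ℕ) (hdeg : ∀ i, 0 < deg i) (hf : ∀ i, f i ∈ 𝒜 (deg i))
    (hgen : Algebra.adjoin R (Set.range f) = ⊤) (a n : ℤ) :
    Nonempty (CohB1.tensorMod (Twist.twist 𝒜 (a * (Finset.univ.lcm deg : ℕ))) (Twist.twist 𝒜 n) ≅
      Twist.twist 𝒜 (a * (Finset.univ.lcm deg : ℕ) + n)) := by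
  classical
  set l : ℕ := Finset.univ.lcm deg with hl
  have hcov := Groth.Agent.H18.exists_notMem_of_adjoin_eq_top 𝒜 f hgen
  have hdvd : ∀ i, deg i ∣ l := fun i => Finset.dvd_lcm (Finset.mem_univ i)
  have hg : ∀ i, f i ^ (l / deg i) ∈ 𝒜 l := by
    intro i
    have := SetLike.pow_mem_graded (l / deg i) (hf i)
    rwa [smul_eq_mul, Nat.div_mul_cancel (hdvd i)] at this
  have hgp : ∀ (i : Fin s) (p : ℕ), (f i ^ (l / deg i)) ^ p ∈ 𝒜 (p * l) := by
    intro i p
    have := SetLike.pow_mem_graded p (hg i)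
    rwa [smul_eq_mul] at this
  have hk : Groth.Agent.H18.TwMul.LocTriv 𝒜 (a * (l : ℤ)) := by
    intro x
    obtain ⟨i, hi⟩ := hcov x
    have hnot : ∀ p : ℕ, (f i ^ (l / deg i)) ^ p ∉ x.asHomogeneousIdeal := fun p h =>
      hi (x.isPrime.mem_of_pow_mem _ (x.isPrime.mem_of_pow_mem _ h))
    refine ⟨a.toNat * l, (-a).toNat * l, (f i ^ (l / deg i)) ^ a.toNat,
      (f i ^ (l / deg i)) ^ (-a).toNat, hgp i _, hgp i _, ?_, hnot _, hnot _⟩
    have h1 : ((a.toNat : ℕ) : ℤ) - (((-a).toNat : ℕ) : ℤ) = a := by omega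
    push_cast
    linear_combination (l : ℤ) * h1
  obtain ⟨e⟩ := Groth.Agent.H18.TwMul.nonempty_tensorMod_tilde_twist_iso' 𝒜 𝒜 n (a * (l : ℤ))
    (a * (l : ℤ) + n) (add_comm _ _) hk
  exact ⟨Groth.Agent.H18.tensorModComm _ _ ≪≫
    (show CohB1.tensorMod (Twist.twist 𝒜 n) (Twist.twist 𝒜 (a * (l : ℤ))) ≅
      Twist.twist 𝒜 (a * (l : ℤ) + n) from e)⟩

end Groth.Agent.S13170
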