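import Groth.Statements.S13175

set_option autoImplicit false
universe u v w
open scoped TensorProduct
open ZeroCyc

namespace Groth.Agent.S13175

/-- Let B and C be A-algebras and F : B → C a polynomial law. If the maps F over the polynomial rings
A[t_1, …, t_n], n ≥ 0, are multiplicative (send 1 to 1 and products to products), then F is a
multiplicative law: F sends 1 to 1 and products to products over every A-algebra. -/
theorem result {A : Type u} [CommRing A] {B : Type v} [CommRing B] [Algebra A B] {C : Type w} [CommRing C] [Algebra A C]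
    (F : B →ₚₗ[A] C)
    (h1 : ∀ n : ℕ, F.toFun' (MvPolynomial (Fin n) A) 1 = 1)
    (hmul : ∀ (n : ℕ) (x y : MvPolynomial (Fin n) A ⊗[A] B),
      F.toFun' (MvPolynomial (Fin n) A) (x * y) = F.toFun' (MvPolynomial (Fin n) A) x * F.toFun' (MvPolynomial (Fin n) A) y) :
    ∀ (S : Type u) [CommRing S] [Algebra A S], F.toFun' S 1 = 1 ∧
      ∀ x y : S ⊗[A] B, F.toFun' S (x * y) = F.toFun' S x * F.toFun' S y := by
  classical
  intro S _ _
  have hB : ∀ {P : Type u} [CommRing P] [Algebra A P] (ψ : P →ₐ[A] S) (z : P ⊗[A] B),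
      ψ.toLinearMap.rTensor B z = Algebra.TensorProduct.map ψ (AlgHom.id A B) z := by
    intro P _ _ ψ z
    induction z using TensorProduct.induction_on with
    | zero => simp
    | tmul a b => simp
    | add a b ha hb => rw [map_add, map_add, ha, hb]
  have hC : ∀ {P : Type u} [CommRing P] [Algebra A P] (ψ : P →ₐ[A] S) (z : P ⊗[A] C),
      ψ.toLinearMap.rTensor C z = Algebra.TensorProduct.map ψ (AlgHom.id A C) z := by
    intro P _ _ ψ z
    induction z using TensorProduct.induction_on with
    | zero => simp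
    | tmul a b => simp
    | add a b ha hb => rw [map_add, map_add, ha, hb]
  have compat : ∀ {P : Type u} [CommRing P] [Algebra A P] (ψ : P →ₐ[A] S) (z : P ⊗[A] B),
      F.toFun' S (ψ.toLinearMap.rTensor B z) = ψ.toLinearMap.rTensor C (F.toFun' P z) := by
    intro P _ _ ψ z
    exact (congr_fun (F.isCompat' ψ) z).symm
  refine ⟨?_, ?_⟩
  · -- unit
    have h := compat (MvPolynomial.aeval (fun _ : Fin 0 => (0 : S))) 1
    rw [hB, hC, h1 0, map_one, map_one] at h
    exact h
  · intro x y
    obtain ⟨n1, ψ1, p1, hp1⟩ := PolynomialLaw.exists_lift (R := A) (M := B) x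
    obtain ⟨n2, ψ2, p2, hp2⟩ := PolynomialLaw.exists_lift (R := A) (M := B) y
    -- common polynomial ring
    let ψ : MvPolynomial (Fin (n1 + n2)) A →ₐ[A] S :=
      MvPolynomial.aeval (Fin.append (fun i => ψ1 (MvPolynomial.X i)) (fun i => ψ2 (MvPolynomial.X i)))
    let r1 : MvPolynomial (Fin n1) A →ₐ[A] MvPolynomial (Fin (n1 + n2)) A :=
      MvPolynomial.rename (Fin.castAdd n2)
    let r2 : MvPolynomial (Fin n2) A →ₐ[A] MvPolynomial (Fin (n1 + n2)) A :=
      MvPolynomial.rename (Fin.natAdd n1)
    have e1 : ψ.comp r1 = ψ1 := by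
      apply MvPolynomial.algHom_ext
      intro i
      simp [ψ, r1]
    have e2 : ψ.comp r2 = ψ2 := by
      apply MvPolynomial.algHom_ext
      intro i
      simp [ψ, r2]
    set q1 := r1.toLinearMap.rTensor B p1 with hq1
    set q2 := r2.toLinearMap.rTensor B p2 with hq2
    have hx : ψ.toLinearMap.rTensor B q1 = x := by
      rw [hq1, ← LinearMap.comp_apply, ← LinearMap.rTensor_comp, ← AlgHom.comp_toLinearMap, e1, hp1]
    have hy : ψ.toLinearMap.rTensor B q2 = y := by
      rw [hq2, ← LinearMap.comp_apply, ← LinearMap.rTensor_comp, ← AlgHom.comp_toLinearMap, e2, hp2]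
    have hxy : ψ.toLinearMap.rTensor B (q1 * q2) = x * y := by
      rw [hB, map_mul, ← hB, ← hB, hx, hy]
    rw [← hxy, compat, hmul, hC, map_mul, ← hC, ← hC, ← compat, ← compat, hx, hy]

end Groth.Agent.S13175
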