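import Groth.Statements.S13184

set_option autoImplicit false
universe u
open ZeroCyc

namespace Groth.Agent.S13184

/-- Let k ⊆ K be a finite extension of fields of characteristic p > 0, viewed inside an algebraically
closed field Ω, and for e ≥ 0 let k^{p^{-e}} ⊆ Ω be the field of elements whose p^e-th power lies in
k. Then the compositum k^{p^{-e}}K is separable over k^{p^{-e}} if and only if x^{p^e} is separable
over k for every x ∈ K; hence the exponent of K/k (the least n ≥ 1 with K^n separable over k, a
power of p) is the least p^e for which k^{p^{-e}} ⊆ k^{p^{-e}}K is separable. -/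
theorem result {k : Type u} [Field k] (p : ℕ) [Fact p.Prime] [CharP k p]
    {K : Type u} [Field K] [Algebra k K] [FiniteDimensional k K]
    {Ω : Type u} [Field Ω] [Algebra k Ω] [Algebra K Ω] [IsScalarTower k K Ω] [IsAlgClosed Ω] (e : ℕ) :
    (∀ x : Ω, x ∈ IntermediateField.adjoin k {y : Ω | y ^ (p ^ e) ∈ Set.range (algebraMap k Ω)} ⊔
        IntermediateField.adjoin k (Set.range (algebraMap K Ω)) →
      IsSeparable (IntermediateField.adjoin k {y : Ω | y ^ (p ^ e) ∈ Set.range (algebraMap k Ω)}) x) ↔
    ∀ x : K, x ^ (p ^ e) ∈ separableClosure k K := by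
  classical
  have hpΩ : CharP Ω p := charP_of_injective_algebraMap (algebraMap k Ω).injective p
  have : PerfectRing Ω p := inferInstance
  set q := p ^ e with hq
  let φ : Ω →+* Ω := iterateFrobenius Ω p e
  have hφ : ∀ x : Ω, φ x = x ^ q := fun x => iterateFrobenius_def p e x
  have hφinj : Function.Injective φ := φ.injective
  set S : Set Ω := {y : Ω | y ^ (p ^ e) ∈ Set.range (algebraMap k Ω)} with hS
  set L := IntermediateField.adjoin k S with hL
  set K' := IntermediateField.adjoin k (Set.range (algebraMap K Ω)) with hK'
  -- Lemma A: elements of L have q-th power in k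
  have hA : ∀ y ∈ L, φ y ∈ (algebraMap k Ω).fieldRange := by
    let T : IntermediateField k Ω :=
      Subfield.toIntermediateField (Subfield.comap φ (algebraMap k Ω).fieldRange) (by
        intro a
        show φ (algebraMap k Ω a) ∈ (algebraMap k Ω).fieldRange
        rw [hφ, ← map_pow]
        exact ⟨_, rfl⟩)
    have hLT : L ≤ T := by
      rw [hL, IntermediateField.adjoin_le_iff]
      intro y hy
      show φ y ∈ (algebraMap k Ω).fieldRange
      rw [hφ]
      obtain ⟨a, ha⟩ := hy
      exact ⟨a, ha⟩
    intro y hy
    exact hLT hy
  -- Lemma B: q-th roots of elements of k lie in L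
  have hB : ∀ c : Ω, φ c ∈ (algebraMap k Ω).fieldRange → c ∈ L := by
    intro c hc
    apply IntermediateField.subset_adjoin
    show c ^ (p ^ e) ∈ Set.range (algebraMap k Ω)
    rw [← hq, ← hφ]
    obtain ⟨a, ha⟩ := hc
    exact ⟨a, ha⟩
  -- evaluation compatibility
  have hev : ∀ (P : Polynomial Ω) (x : Ω), φ (P.eval x) = (P.map φ).eval (φ x) := by
    intro P x
    rw [Polynomial.eval_map, ← Polynomial.eval₂_id (p := P) (x := x), Polynomial.hom_eval₂]
    simp
  constructor
  · intro H x
    rw [mem_separableClosure_iff]
    have hxmem : algebraMap K Ω x ∈ L ⊔ K' :=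
      (le_sup_right : K' ≤ L ⊔ K') (IntermediateField.subset_adjoin k _ ⟨x, rfl⟩)
    have hsep : IsSeparable L (algebraMap K Ω x) := H _ hxmem
    set h := minpoly L (algebraMap K Ω x) with hh
    have hsep' : h.Separable := hsep
    set hΩ := h.map (algebraMap L Ω) with hhΩ
    set gΩ := hΩ.map φ with hgΩ
    have hlift : gΩ ∈ Polynomial.lifts (algebraMap k Ω) := by
      rw [Polynomial.lifts_iff_coeff_lifts]
      intro m
      rw [hgΩ, hhΩ, Polynomial.coeff_map, Polynomial.coeff_map]
      obtain ⟨a, ha⟩ := hA _ (h.coeff m).2
      exact ⟨a, ha⟩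
    obtain ⟨g, hg0⟩ := hlift
    have hg : g.map (algebraMap k Ω) = gΩ := hg0
    have hgsep : g.Separable := by
      rw [← Polynomial.separable_map (algebraMap k Ω), hg, hgΩ, Polynomial.separable_map,
        hhΩ, Polynomial.separable_map]
      exact hsep'
    have hroot : Polynomial.aeval (x ^ q) g = 0 := by
      apply (algebraMap K Ω).injective
      rw [map_zero, ← Polynomial.aeval_algebraMap_apply, map_pow, Polynomial.aeval_def,
        ← Polynomial.eval_map, hg, hgΩ, ← hφ, ← hev, hhΩ, Polynomial.eval_map,
        ← Polynomial.aeval_def, hh, minpoly.aeval, map_zero]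
    exact hgsep.of_dvd (minpoly.dvd k (x ^ q) hroot)
  · intro H
    -- core: the image of any x : K is separable over L
    have hcore : ∀ x : K, IsSeparable L (algebraMap K Ω x) := by
      intro x
      have hx := H x
      rw [mem_separableClosure_iff] at hx
      set g := minpoly k (x ^ (p ^ e)) with hg
      have hgsep : g.Separable := hx
      set hΩ := (g.map (algebraMap k Ω)).map
        ((iterateFrobeniusEquiv Ω p e).symm : Ω →+* Ω) with hhΩ
      have hmapφ : hΩ.map φ = g.map (algebraMap k Ω) := by
        rw [hhΩ, Polynomial.map_map]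
        have : φ.comp ((iterateFrobeniusEquiv Ω p e).symm : Ω →+* Ω) = RingHom.id Ω := by
          ext y
          show iterateFrobenius Ω p e ((iterateFrobeniusEquiv Ω p e).symm y) = y
          rw [← coe_iterateFrobeniusEquiv]
          exact (iterateFrobeniusEquiv Ω p e).apply_symm_apply y
        rw [this, Polynomial.map_id]
      have hlift : hΩ ∈ Polynomial.lifts (algebraMap L Ω) := by
        rw [Polynomial.lifts_iff_coeff_lifts]
        intro m
        have hc : hΩ.coeff m ∈ L := by
          apply hB
          have : φ (hΩ.coeff m) = (hΩ.map φ).coeff m := (Polynomial.coeff_map _ _).symm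
          rw [this, hmapφ, Polynomial.coeff_map]
          exact ⟨_, rfl⟩
        exact ⟨⟨_, hc⟩, rfl⟩
      obtain ⟨h, hh0⟩ := hlift
      have hh : h.map (algebraMap L Ω) = hΩ := hh0
      have hhsep : h.Separable := by
        rw [← Polynomial.separable_map (algebraMap L Ω), hh, ← Polynomial.separable_map φ,
          hmapφ, Polynomial.separable_map]
        exact hgsep
      have hroot : Polynomial.aeval (algebraMap K Ω x) h = 0 := by
        rw [Polynomial.aeval_def, ← Polynomial.eval_map, hh]
        apply hφinj
        rw [map_zero, hev, hmapφ, hφ, Polynomial.eval_map, ← Polynomial.aeval_def, ← map_pow,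
          Polynomial.aeval_algebraMap_apply, hg, hq, minpoly.aeval, map_zero]
      exact hhsep.of_dvd (minpoly.dvd L _ hroot)
    intro x hx
    let Sc : IntermediateField k Ω := (separableClosure L Ω).restrictScalars k
    have hle : L ⊔ K' ≤ Sc := by
      apply sup_le
      · intro y hy
        show y ∈ separableClosure L Ω
        rw [mem_separableClosure_iff]
        exact isSeparable_algebraMap (⟨y, hy⟩ : L)
      · rw [hK', IntermediateField.adjoin_le_iff]
        rintro _ ⟨x, rfl⟩
        show algebraMap K Ω x ∈ separableClosure L Ω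
        rw [mem_separableClosure_iff]
        exact hcore x
    have := hle hx
    exact mem_separableClosure_iff.mp this

end Groth.Agent.S13184
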