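import Groth.Statements.S13186
import Groth.Agent.H66.Hilbert90

set_option autoImplicit false
universe u
open GalCoh

namespace Groth.Agent.S13186

/-- Let L/K be a finite Galois extension of fields, n a natural number, and B a map from the Galois
group of L over K to the invertible n × n matrices over L such that B(σ) · σ(B(τ)) = B(στ) for all
σ, τ (σ acting on matrices entrywise, στ applying τ first) and det B(σ) = 1 for every σ. Then there
is an invertible matrix A over L of determinant 1 with B(σ) = A⁻¹ · σ(A) for every σ; that is, every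
1-cocycle of the Galois group with values in SL_n(L) is the coboundary of an element of SL_n(L), so
H¹ of the Galois group with values in SL_n(L) is a point. (The published statement says that every
torsor under the special linear group over K is trivial; this row is the finite-Galois-level cocycle
form that its proof establishes.) -/
theorem result (K L : Type u) [Field K] [Field L]
    [Algebra K L] [FiniteDimensional K L] [IsGalois K L] (n : ℕ)
    (B : (L ≃ₐ[K] L) → GL (Fin n) L)
    (hB : ∀ σ τ : L ≃ₐ[K] L,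
      (B σ : Matrix (Fin n) (Fin n) L) * (B τ : Matrix (Fin n) (Fin n) L).map σ =
        (B (σ * τ) : Matrix (Fin n) (Fin n) L))
    (hdet : ∀ σ : L ≃ₐ[K] L, Matrix.det (B σ : Matrix (Fin n) (Fin n) L) = 1) :
    ∃ A : GL (Fin n) L, Matrix.det (A : Matrix (Fin n) (Fin n) L) = 1 ∧ ∀ σ : L ≃ₐ[K] L,
      (B σ : Matrix (Fin n) (Fin n) L) =
        ((A⁻¹ : GL (Fin n) L) : Matrix (Fin n) (Fin n) L) * (A : Matrix (Fin n) (Fin n) L).map σ := by
  classical
  rcases n with _ | n
  · refine ⟨1, by simp, fun σ => ?_⟩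
    exact Subsingleton.elim _ _
  -- the identity cocycle value
  have hmapmul : ∀ (σ : L ≃ₐ[K] L) (M N : Matrix (Fin (n + 1)) (Fin (n + 1)) L),
      (M * N).map σ = M.map σ * N.map σ := fun σ M N =>
    Matrix.map_mul (f := (σ : L →+* L))
  have hB1 : (B 1 : Matrix (Fin (n + 1)) (Fin (n + 1)) L) = 1 := by
    have h := hB 1 1
    rw [mul_one] at h
    have hid : ((B 1 : GL (Fin (n + 1)) L) : Matrix (Fin (n + 1)) (Fin (n + 1)) L).map
        ((1 : L ≃ₐ[K] L) : L → L) = (B 1 : Matrix (Fin (n + 1)) (Fin (n + 1)) L) := by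
      ext i j; rfl
    rw [hid] at h
    have h2 : B 1 * B 1 = B 1 := Units.ext h
    have h3 : B 1 = 1 := mul_eq_left.1 h2
    rw [h3]; rfl
  obtain ⟨C, hCu, hC⟩ := Groth.Agent.H66.exists_isUnit_poincare
    (fun σ => ((B σ : GL (Fin (n + 1)) L) : Matrix (Fin (n + 1)) (Fin (n + 1)) L)) hB1
    (fun σ τ => (hB σ τ).symm)
  -- the determinant of `C` is fixed by the Galois group
  have hdetC : ∀ σ : L ≃ₐ[K] L, σ C.det = C.det := by
    intro σ
    have h := congrArg Matrix.det (hC σ)
    rw [Matrix.det_mul, hdet, one_mul] at h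
    rw [AlgEquiv.map_det]
    exact h
  obtain ⟨d₀, hd₀⟩ := (IsGalois.mem_range_algebraMap_iff_fixed (F := K) (E := L) C.det).2 hdetC
  have hCdet : C.det ≠ 0 := by
    have := (Matrix.isUnit_iff_isUnit_det C).1 hCu
    exact this.ne_zero
  let D : Matrix (Fin (n + 1)) (Fin (n + 1)) L :=
    Matrix.diagonal fun i => if i = 0 then algebraMap K L d₀⁻¹ else 1
  have hDdet : D.det = (C.det)⁻¹ := by
    rw [Matrix.det_diagonal, Fin.prod_univ_succ]
    simp [Fin.succ_ne_zero, hd₀]
  have hDmap : ∀ σ : L ≃ₐ[K] L, D.map σ = D := by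
    intro σ
    ext i j
    by_cases hij : i = j
    · subst hij
      by_cases hi : i = 0
      · simp [D, hi]
      · simp [D, hi]
    · simp [D, Matrix.diagonal_apply_ne _ hij]
  let C' := C * D
  have hC'det : C'.det = 1 := by
    rw [Matrix.det_mul, hDdet, mul_inv_cancel₀ hCdet]
  have hC' : ∀ σ : L ≃ₐ[K] L,
      (B σ : Matrix (Fin (n + 1)) (Fin (n + 1)) L) * C'.map σ = C' := by
    intro σ
    rw [hmapmul, hDmap, ← Matrix.mul_assoc, hC σ]
  have hC'u : IsUnit C' := (Matrix.isUnit_iff_isUnit_det C').2 (by rw [hC'det]; exact isUnit_one)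
  refine ⟨hC'u.unit⁻¹, ?_, fun σ => ?_⟩
  · have h1 : ((hC'u.unit⁻¹ : GL (Fin (n + 1)) L) : Matrix (Fin (n + 1)) (Fin (n + 1)) L).det *
        C'.det = 1 := by
      rw [← Matrix.det_mul]
      have : ((hC'u.unit⁻¹ : GL (Fin (n + 1)) L) : Matrix (Fin (n + 1)) (Fin (n + 1)) L) * C' = 1 := by
        have := Units.inv_mul hC'u.unit
        simpa using this
      rw [this, Matrix.det_one]
    rw [hC'det, mul_one] at h1
    exact h1
  · rw [inv_inv]
    have h2 : C'.map σ *
        ((hC'u.unit⁻¹ : GL (Fin (n + 1)) L) : Matrix (Fin (n + 1)) (Fin (n + 1)) L).map σ = 1 := by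
      rw [← hmapmul]
      have : C' * ((hC'u.unit⁻¹ : GL (Fin (n + 1)) L) : Matrix (Fin (n + 1)) (Fin (n + 1)) L) = 1 := by
        have := Units.mul_inv hC'u.unit
        simpa using this
      rw [this]
      ext i j
      by_cases hij : i = j
      · subst hij; simp
      · simp [Matrix.one_apply_ne hij]
    calc (B σ : Matrix (Fin (n + 1)) (Fin (n + 1)) L)
        = (B σ : Matrix (Fin (n + 1)) (Fin (n + 1)) L) * (C'.map σ *
          ((hC'u.unit⁻¹ : GL (Fin (n + 1)) L) : Matrix (Fin (n + 1)) (Fin (n + 1)) L).map σ) := by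
          rw [h2, mul_one]
      _ = C' * ((hC'u.unit⁻¹ : GL (Fin (n + 1)) L) :
            Matrix (Fin (n + 1)) (Fin (n + 1)) L).map σ := by
          rw [← Matrix.mul_assoc, hC' σ]
      _ = _ := rfl

end Groth.Agent.S13186
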