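import Groth.Statements.S13188
import Mathlib
import Groth.Agent.H76.RedNorm

set_option autoImplicit false
universe u v w
open Brauer

namespace Groth.Agent.S13188

/-- Let K be a field with property C_2 for systems of forms and D a finite-dimensional central division
algebra over K with dim_K D = d². Let N : D → K be multiplicative, a reduced norm of D over K, and
given in the coordinates of a K-basis b of D by a homogeneous polynomial F of degree d, i.e. N(Σ x_i
b_i) = F(x) for every coordinate vector x (the reduced norm of a central simple algebra of dimension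
d² is such a polynomial map of degree d; these data record it). Then N : D → K is surjective. -/
theorem result (K : Type u) [Field K] (hK : Curves.IsCi K 2)
    (D : Type v) [DivisionRing D] [Algebra K D] [Algebra.IsCentral K D] [FiniteDimensional K D]
    (d : ℕ) (hd : Module.finrank K D = d ^ 2)
    (N : D →* K) (hN : CSAGal.IsRedNorm K D N)
    {ι : Type w} [Fintype ι] (b : Module.Basis ι K D)
    (F : MvPolynomial ι K) (hF : F.IsHomogeneous d)
    (hNF : ∀ x : ι → K, N (∑ i, x i • b i) = MvPolynomial.eval x F) :
    Function.Surjective N := by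
  classical
  obtain ⟨n1, hn1, -, hscal⟩ := Groth.Agent.H76.exists_of_isRedNorm N hN
  have e1 : n1 = d := by
    have : n1 ^ 2 = d ^ 2 := by rw [← hn1, hd]
    exact Nat.pow_left_injective (by norm_num) this
  subst e1
  have hdpos : 0 < n1 := by
    rcases Nat.eq_zero_or_pos n1 with h0 | h0
    · exfalso
      have hpos : 0 < Module.finrank K D := Module.finrank_pos
      rw [hd, h0] at hpos
      simp at hpos
    · exact h0
  have hN0 : N 0 = 0 := by
    have := hscal 0
    rwa [map_zero, zero_pow hdpos.ne'] at this
  intro c
  by_cases hc : c = 0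
  · exact ⟨0, by rw [hN0, hc]⟩
  have hcard : Fintype.card ι = n1 ^ 2 := by
    rw [← hd, Module.finrank_eq_card_basis b]
  let e : ι ≃ Fin (n1 ^ 2) := Fintype.equivFinOfCardEq hcard
  let G : MvPolynomial (Fin (n1 ^ 2 + 1)) K :=
    MvPolynomial.rename (fun i => Fin.castSucc (e i)) F -
      MvPolynomial.C c * MvPolynomial.X (Fin.last _) ^ n1
  have hG : G.IsHomogeneous n1 :=
    (hF.rename_isHomogeneous).sub (MvPolynomial.isHomogeneous_C_mul_X_pow c _ n1)
  obtain ⟨a, ha0, ha⟩ := hK 1 (n1 ^ 2 + 1) (fun _ => G) (fun _ => n1) (fun _ => hG)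
    (fun _ => hdpos) (by simp)
  have haG := ha 0
  simp only [G, map_sub, MvPolynomial.eval_rename, map_mul, MvPolynomial.eval_C, map_pow,
    MvPolynomial.eval_X] at haG
  set x : ι → K := a ∘ (fun i => Fin.castSucc (e i)) with hx
  set y : K := a (Fin.last _) with hy
  rw [← hNF x, sub_eq_zero] at haG
  by_cases hy0 : y = 0
  · exfalso
    rw [hy0, zero_pow hdpos.ne', mul_zero] at haG
    have hz : ∑ i, x i • b i = 0 := by
      by_contra hne
      have hu : IsUnit (∑ i, x i • b i) := isUnit_iff_ne_zero.2 hne
      exact (hu.map N).ne_zero haG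
    have hx0 : ∀ i, x i = 0 := by
      have hli := b.linearIndependent
      rw [Fintype.linearIndependent_iff] at hli
      exact hli x hz
    apply ha0
    funext j
    refine Fin.lastCases ?_ (fun j' => ?_) j
    · exact hy0
    · have := hx0 (e.symm j')
      simpa [hx] using this
  · refine ⟨(∑ i, x i • b i) * algebraMap K D y⁻¹, ?_⟩
    rw [map_mul, haG, hscal, inv_pow, mul_assoc, mul_inv_cancel₀ (pow_ne_zero _ hy0), mul_one]

end Groth.Agent.S13188
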