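import Groth.Statements.S13193

set_option autoImplicit false
universe u v w
open GalCoh

namespace Groth.Agent.S13193

/-- Let a group G act by automorphisms on groups A and A', let a : G → A be a 1-cocycle, and let φ : A'
≅ A be a group isomorphism with φ(g·x) = a(g) · g(φ(x)) · a(g)⁻¹ for all g and x, so that A' is the
twist of A by a. Then the rule b ↦ (σ ↦ φ(b(σ)) · a(σ)) sends 1-cocycles with values in A' to
1-cocycles with values in A; two cocycles are cohomologous in A' exactly when their images are
cohomologous in A; and every 1-cocycle with values in A is cohomologous to such an image. In other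
words twisting by a induces a bijection from H¹(G, A') onto H¹(G, A) carrying the base point to the
class of a. (The published statement is for a Galois group, discrete modules and the inner twist by
a torsor; this row is its cocycle form for an arbitrary group acting on groups.) -/
theorem result {G : Type u} {A : Type v} {A' : Type w}
    [Group G] [Group A] [Group A'] [MulDistribMulAction G A] [MulDistribMulAction G A']
    (a : G → A) (ha : GpH1.IsOneCocycle a) (φ : A' ≃* A)
    (hφ : ∀ (g : G) (x : A'), φ (g • x) = a g * g • φ x * (a g)⁻¹) :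
    (∀ b : G → A', GpH1.IsOneCocycle b → GpH1.IsOneCocycle (fun σ => φ (b σ) * a σ)) ∧
    (∀ b b' : G → A', GpH1.IsOneCocycle b → GpH1.IsOneCocycle b' →
      (GpH1.Cohomologous b b' ↔
        GpH1.Cohomologous (fun σ => φ (b σ) * a σ) (fun σ => φ (b' σ) * a σ))) ∧
    (∀ c : G → A, GpH1.IsOneCocycle c →
      ∃ b : G → A', GpH1.IsOneCocycle b ∧ GpH1.Cohomologous c (fun σ => φ (b σ) * a σ)) := by
  have hφ' : ∀ (g : G) (x : A'), φ (g • x) * a g = a g * g • φ x := by
    intro g x; rw [hφ]; group
  have hcoc : ∀ b : G → A', GpH1.IsOneCocycle b → GpH1.IsOneCocycle (fun σ => φ (b σ) * a σ) := by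
    intro b hb σ τ
    change φ (b (σ * τ)) * a (σ * τ) = φ (b σ) * a σ * σ • (φ (b τ) * a τ)
    rw [hb σ τ, ha σ τ, map_mul, smul_mul', hφ]
    group
  refine ⟨hcoc, ?_, ?_⟩
  · intro b b' _ _
    constructor
    · rintro ⟨c, hc⟩
      refine ⟨φ c, fun σ => ?_⟩
      change φ (b σ) * a σ = (φ c)⁻¹ * (φ (b' σ) * a σ) * σ • φ c
      rw [hc σ, map_mul, map_mul, map_inv, hφ]
      group
    · rintro ⟨d, hd⟩
      refine ⟨φ.symm d, fun σ => ?_⟩
      apply φ.injective
      have h1 : φ (b σ) * a σ = d⁻¹ * (φ (b' σ) * a σ) * σ • d := hd σ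
      rw [map_mul, map_mul, map_inv, hφ, MulEquiv.apply_symm_apply]
      have h2 : φ (b σ) = d⁻¹ * (φ (b' σ) * a σ) * σ • d * (a σ)⁻¹ := by
        rw [← h1]; group
      rw [h2]; group
  · intro c hc
    have hb : GpH1.IsOneCocycle (fun σ => φ.symm (c σ * (a σ)⁻¹)) := by
      intro σ τ
      apply φ.injective
      change φ (φ.symm (c (σ * τ) * (a (σ * τ))⁻¹)) =
        φ (φ.symm (c σ * (a σ)⁻¹) * σ • φ.symm (c τ * (a τ)⁻¹))
      rw [MulEquiv.apply_symm_apply, map_mul φ, hφ, MulEquiv.apply_symm_apply,
        MulEquiv.apply_symm_apply, hc σ τ, ha σ τ, smul_mul', smul_inv']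
      group
    refine ⟨_, hb, ?_⟩
    have : (fun σ => φ (φ.symm (c σ * (a σ)⁻¹)) * a σ) = c := by
      funext σ
      rw [MulEquiv.apply_symm_apply, inv_mul_cancel_right]
    rw [this]
    exact GpH1.Cohomologous.refl c

end Groth.Agent.S13193
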