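import Groth.Statements.S13194
import Groth.Agent.H66.AbsGalois
import Mathlib.FieldTheory.Finite.Basic

set_option autoImplicit false
universe u
open GalCoh

namespace Groth.Agent.S13194

/-- Let K be a field of characteristic p > 0, L a separable closure of K, and χ a locally constant map
from the automorphism group of L over K (Krull topology) to Z/pZ with χ(στ) = χ(σ) + χ(τ) for all σ,
τ — a continuous 1-cocycle for the trivial action. Then there is an element x of L with x^p − x in K
such that σ(x) − x equals χ(σ), read in the prime field of L, for every σ. Together with the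
elementary facts that σ ↦ σ(x) − x is such a cocycle for every x with x^p − x in K and vanishes
exactly when x lies in K, this identifies the first continuous cohomology group of the absolute
Galois group of K with coefficients Z/pZ with K/℘(K), ℘(y) = y^p − y. -/
theorem result (p : ℕ) [Fact p.Prime]
    (K L : Type u) [Field K] [Field L] [Algebra K L] [CharP K p] [IsSepClosure K L]
    (χ : (L ≃ₐ[K] L) → ZMod p) (hχ : ∀ σ τ : L ≃ₐ[K] L, χ (σ * τ) = χ σ + χ τ)
    (hlc : IsLocallyConstant χ) :
    ∃ x : L, x ^ p - x ∈ Set.range (algebraMap K L) ∧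
      ∀ σ : L ≃ₐ[K] L, σ x - x = ((χ σ).val : L) := by
  haveI : CharP L p := charP_of_injective_algebraMap (algebraMap K L).injective p
  let ι : ZMod p →+* L := ZMod.castHom (dvd_refl p) L
  have hι : ∀ z : ZMod p, ((z.val : ℕ) : L) = ι z := by
    intro z
    rw [ZMod.natCast_val, ZMod.castHom_apply]
  have hfix : ∀ (σ : L ≃ₐ[K] L) (z : ZMod p), σ (ι z) = ι z := by
    intro σ z
    rw [← hι, map_natCast]
  have hpow : ∀ z : ZMod p, (ι z) ^ p = ι z := by
    intro z
    rw [← map_pow, ZMod.pow_card]
  let a : (L ≃ₐ[K] L) → L := fun σ => ι (χ σ)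
  have ha : ∀ σ τ : L ≃ₐ[K] L, a (σ * τ) = a σ + σ (a τ) := by
    intro σ τ
    change ι (χ (σ * τ)) = ι (χ σ) + σ (ι (χ τ))
    rw [hχ, map_add, hfix]
  have halc : IsLocallyConstant a := hlc.comp ι
  obtain ⟨y, hy⟩ := Groth.Agent.H66.exists_add_coboundary a ha halc
  refine ⟨y, ?_, fun σ => ?_⟩
  · rw [InfiniteGalois.mem_range_algebraMap_iff_fixed]
    intro σ
    have h1 : σ y = y + ι (χ σ) := by
      have := hy σ
      change ι (χ σ) = σ y - y at this
      rw [this]; ring
    rw [map_sub, map_pow, h1, add_pow_char, hpow]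
    ring
  · rw [hι]
    exact (hy σ).symm

end Groth.Agent.S13194
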