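import Groth.Statements.S13198
import Groth.Agent.H78.TensorLocal.Tensor

set_option autoImplicit false
universe u
open scoped TensorProduct
open Hensel

namespace Groth.Agent.S13198

/-- Let R be a local ring which is strictly henselian (henselian, with separably closed residue field),
A a local ring which is an integral R-algebra with local structure map and whose residue field is
purely inseparable over that of R, and B a local ring with a local homomorphism R → B. Then A ⊗_R B
is a local ring, the map B → A ⊗_R B is local, and the residue field extension of A ⊗_R B over B is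
purely inseparable: every element of A ⊗_R B has a p^n-th power, p the characteristic exponent of
the residue field of B, congruent modulo the maximal ideal to an element 1 ⊗ b. -/
theorem result
    (R A B : Type u) [CommRing R] [HenselianLocalRing R] [IsSepClosed (IsLocalRing.ResidueField R)]
    [CommRing A] [IsLocalRing A] [Algebra R A] [IsLocalHom (algebraMap R A)] [Algebra.IsIntegral R A]
    [IsPurelyInseparable (IsLocalRing.ResidueField R) (IsLocalRing.ResidueField A)]
    [CommRing B] [IsLocalRing B] [Algebra R B] [IsLocalHom (algebraMap R B)] :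
    ∃ _ : IsLocalRing (A ⊗[R] B),
      IsLocalHom (Algebra.TensorProduct.includeRight : B →ₐ[R] A ⊗[R] B).toRingHom ∧
      ∀ x : A ⊗[R] B, ∃ (n : ℕ) (b : B),
        x ^ (ringExpChar (IsLocalRing.ResidueField B)) ^ n - (1 : A) ⊗ₜ[R] b ∈ IsLocalRing.maximalIdeal (A ⊗[R] B) := by
  classical
  -- work in the flipped tensor product `B ⊗[R] A`
  obtain ⟨hloc, hleft, -⟩ := Groth.Agent.H78.TensorLocal.tensor_isLocalRing (A := R) (B := B) (C := A)
    (Or.inl inferInstance)
  set e := Algebra.TensorProduct.comm R A B with he
  haveI hlocT : IsLocalRing (A ⊗[R] B) := RingEquiv.isLocalRing e.symm.toRingEquiv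
  have heR : ∀ b : B, e ((1 : A) ⊗ₜ[R] b) = b ⊗ₜ[R] (1 : A) := fun b =>
    Algebra.TensorProduct.comm_tmul R 1 b
  refine ⟨hlocT, ?_, ?_⟩
  · constructor
    intro b hb
    have h1 : IsUnit (e ((1 : A) ⊗ₜ[R] b)) := hb.map e
    rw [heR] at h1
    exact hleft.map_nonunit b h1
  · intro x
    set q := ringExpChar (IsLocalRing.ResidueField R) with hq
    have hqB : ringExpChar (IsLocalRing.ResidueField B) = q := by
      haveI : ExpChar (IsLocalRing.ResidueField B) q :=
        expChar_of_injective_algebraMap
          (algebraMap (IsLocalRing.ResidueField R) (IsLocalRing.ResidueField B)).injective q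
      exact ringExpChar.eq _ q
    rw [hqB]
    obtain ⟨n, b, hb⟩ := Groth.Agent.H78.TensorLocal.tensor_exists_pow_sub_mem
      (A := R) (B := B) (C := A) q (e x)
    refine ⟨n, b, ?_⟩
    rw [IsLocalRing.mem_maximalIdeal, mem_nonunits_iff] at hb ⊢
    intro hu
    apply hb
    have h2 : e (x ^ q ^ n - (1 : A) ⊗ₜ[R] b) = e x ^ q ^ n - b ⊗ₜ[R] (1 : A) := by
      rw [map_sub, map_pow, heR]
    rw [← h2]
    exact hu.map e

end Groth.Agent.S13198
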