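import Groth.Statements.S13200
import Mathlib
import Groth.Agent.S2811
import Groth.Agent.S4754
import Groth.Agent.H26.AdicComplRegular
import Groth.Agent.H26.ComplQuot
import Groth.Agent.H47.SmoothFibres
import Groth.Agent.H12.JacTFAE
import Groth.Agent.H3.Henselization

set_option autoImplicit false
universe u
open Hensel

namespace Groth.Agent.S13200

open IsLocalRing in
/-- A Noetherian local ring with regular completion map has geometrically normal formal fibres. -/
theorem hasGeomNormalFormalFibres_of_isRegularHom (R : Type u) [CommRing R] [IsLocalRing R]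
    (h : CAlg.IsRegularHom R (EGA4.Cpl R)) : EGA4.HasGeomNormalFormalFibres R := by
  intro p hp k' _ _ hfin
  haveI : IsRegularRing (TensorProduct p.ResidueField k' (p.Fiber (EGA4.Cpl R))) :=
    ((h.2 p).2) k' hfin
  exact Groth.Agent.H47.SF.isNormalRing_of_isRegularRing _

/-- Let R be an excellent local ring which is strictly henselian (henselian with separably closed
residue field), and let R^ denote its completion at the maximal ideal. An element Δ of R is a prime
element of R exactly when its image in R^ is a prime element of R^. -/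
theorem result
    (R : Type u) [CommRing R] [HenselianLocalRing R] [IsSepClosed (IsLocalRing.ResidueField R)]
    (hR : EGA4.IsExcellent R) (Δ : R) :
    Prime Δ ↔ Prime (algebraMap R (AdicCompletion (IsLocalRing.maximalIdeal R) R) Δ) := by
  obtain ⟨hN, -, hG, -⟩ := hR
  haveI := hN
  have hff : Module.FaithfullyFlat R (AdicCompletion (IsLocalRing.maximalIdeal R) R) :=
    Groth.Agent.H12.JacTFAE.h12 R _ (IsLocalRing.maximalIdeal_le_jacobson _)
  have hinj : Function.Injective (algebraMap R (AdicCompletion (IsLocalRing.maximalIdeal R) R)) :=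
    FaithfulSMul.algebraMap_injective _ _
  have hreg : CAlg.IsRegularHom R (EGA4.Cpl R) :=
    Groth.Agent.H26.AdicComplFibres.isRegularHom_adicCompletion hG _
  have hfib : EGA4.HasGeomNormalFormalFibres R := hasGeomNormalFormalFibres_of_isRegularHom R hreg
  have hcomap : ∀ I : Ideal R, (I.map (algebraMap R (AdicCompletion (IsLocalRing.maximalIdeal R) R))).comap
      (algebraMap R (AdicCompletion (IsLocalRing.maximalIdeal R) R)) = I := fun I =>
    Ideal.comap_map_eq_self_of_faithfullyFlat I
  constructor
  · intro hΔ
    have hΔ0 : Δ ≠ 0 := hΔ.ne_zero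
    have hprime : (Ideal.span {Δ}).IsPrime := (Ideal.span_singleton_prime hΔ0).mpr hΔ
    have hne : Ideal.span {Δ} ≠ ⊤ := hprime.ne_top
    haveI : HenselianLocalRing (R ⧸ Ideal.span {Δ}) :=
      Groth.Agent.H3.henselianLocalRing_quotient R _ hne
    haveI : IsDomain (R ⧸ Ideal.span {Δ}) := Ideal.Quotient.isDomain _
    haveI : Nontrivial (R ⧸ Ideal.span {Δ}) := inferInstance
    have hfibQ : EGA4.HasGeomNormalFormalFibres (R ⧸ Ideal.span {Δ}) :=
      Groth.Agent.S4754.result R hfib (Ideal.span {Δ})
    have hdom : IsDomain (EGA4.Cpl (R ⧸ Ideal.span {Δ})) :=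
      Groth.Agent.S2811.result (R ⧸ Ideal.span {Δ}) hfibQ
    obtain ⟨e⟩ := Groth.Agent.H26.ComplQuot.nonempty_adicCompletion_quotient_equiv R (Ideal.span {Δ})
    have hdom2 : IsDomain (AdicCompletion (IsLocalRing.maximalIdeal R) R ⧸
        (Ideal.span {Δ}).map (algebraMap R (AdicCompletion (IsLocalRing.maximalIdeal R) R))) :=
      e.symm.toMulEquiv.isDomain _
    rw [Ideal.map_span, Set.image_singleton] at hdom2
    have hp2 : (Ideal.span {algebraMap R (AdicCompletion (IsLocalRing.maximalIdeal R) R) Δ}).IsPrime :=
      (Ideal.Quotient.isDomain_iff_prime _).mp hdom2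
    have hne0 : algebraMap R (AdicCompletion (IsLocalRing.maximalIdeal R) R) Δ ≠ 0 := by
      intro h0
      exact hΔ0 (hinj (by rw [h0, map_zero]))
    exact (Ideal.span_singleton_prime hne0).mp hp2
  · intro hΔ
    have hΔ0 : Δ ≠ 0 := by
      rintro rfl
      exact hΔ.ne_zero (map_zero _)
    have hp2 : (Ideal.span {algebraMap R (AdicCompletion (IsLocalRing.maximalIdeal R) R) Δ}).IsPrime :=
      (Ideal.span_singleton_prime hΔ.ne_zero).mpr hΔ
    have hp : (Ideal.span {Δ}).IsPrime := by
      have h1 := hcomap (Ideal.span {Δ})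
      rw [Ideal.map_span, Set.image_singleton] at h1
      rw [← h1]
      exact Ideal.comap_isPrime _ _
    exact (Ideal.span_singleton_prime hΔ0).mp hp

end Groth.Agent.S13200
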