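import Groth.Statements.S17731
-- import your own Groth.Agent.* helpers here

set_option autoImplicit false
universe u
open Neron

namespace Groth.Agent.S17731

open CategoryTheory AlgebraicGeometry in
/-- Let S be a scheme, U ⊆ S a schematically dense open subscheme and N → S a smooth S-scheme having
uniqueness in the Néron mapping property with respect to U: for every smooth S-scheme Y, restriction
to U is injective on S-morphisms Y → N. Then for every smooth morphism g : S' → S the base change N
×_S S' → S' has uniqueness in the Néron mapping property with respect to g⁻¹(U): for every smooth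
S'-scheme Y', restriction to g⁻¹(U) is injective on S'-morphisms Y' → N ×_S S'. (The published
statement is for models which are algebraic spaces, tested against smooth algebraic spaces; this row
states the case of a scheme model tested against smooth schemes. The companion assertion that Néron
models are preserved by smooth base change is not restated here.) -/
theorem result
    {S S' : Scheme.{u}} (g : S' ⟶ S) [Smooth g]
    (U : S.Opens) (hU : CInt.IsSchematicallyDense U) (N : Over S) [Smooth N.hom]
    (hN : ∀ Y : Over S, Smooth Y.hom →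
      Function.Injective (fun f : Y ⟶ N => (Over.pullback U.ι).map f))
    (Y' : Over S') [Smooth Y'.hom] :
    Function.Injective (fun f : Y' ⟶ (Over.pullback g).obj N => (Over.pullback (g ⁻¹ᵁ U).ι).map f) := by
  intro f₁ f₂ h
  dsimp only at h
  -- the smooth S-scheme Y := (Y' → S' → S)
  let Y : Over S := Over.mk (Y'.hom ≫ g)
  have hYs : Smooth Y.hom := by
    show Smooth (Y'.hom ≫ g)
    infer_instance
  have w₁ : (f₁.left ≫ Limits.pullback.fst N.hom g) ≫ N.hom = Y.hom := by
    have := Over.w f₁
    rw [Category.assoc, Limits.pullback.condition, ← Category.assoc]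
    show (f₁.left ≫ Limits.pullback.snd N.hom g) ≫ g = Y'.hom ≫ g
    rw [show f₁.left ≫ Limits.pullback.snd N.hom g = Y'.hom from this]
  have w₂ : (f₂.left ≫ Limits.pullback.fst N.hom g) ≫ N.hom = Y.hom := by
    have := Over.w f₂
    rw [Category.assoc, Limits.pullback.condition, ← Category.assoc]
    show (f₂.left ≫ Limits.pullback.snd N.hom g) ≫ g = Y'.hom ≫ g
    rw [show f₂.left ≫ Limits.pullback.snd N.hom g = Y'.hom from this]
  let h₁ : Y ⟶ N := Over.homMk (f₁.left ≫ Limits.pullback.fst N.hom g) w₁
  let h₂ : Y ⟶ N := Over.homMk (f₂.left ≫ Limits.pullback.fst N.hom g) w₂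
  have key : h₁ = h₂ := by
    apply hN Y hYs
    dsimp only
    ext
    dsimp [Over.pullback]
    apply Limits.pullback.hom_ext
    · simp only [Over.homMk_left, Limits.pullback.lift_fst]
      -- comparison map
      have hc : Limits.pullback.snd (Y'.hom ≫ g) U.ι ≫ U.ι
          = (Limits.pullback.fst (Y'.hom ≫ g) U.ι ≫ Y'.hom) ≫ g := by
        rw [Category.assoc, Limits.pullback.condition]
      let ψ := (isPullback_morphismRestrict g U).lift _ _ hc
      have hψ : ψ ≫ (g ⁻¹ᵁ U).ι = Limits.pullback.fst (Y'.hom ≫ g) U.ι ≫ Y'.hom :=
        (isPullback_morphismRestrict g U).lift_snd _ _ hc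
      let φ : Limits.pullback (Y'.hom ≫ g) U.ι ⟶ Limits.pullback Y'.hom (g ⁻¹ᵁ U).ι :=
        Limits.pullback.lift (Limits.pullback.fst (Y'.hom ≫ g) U.ι) ψ hψ.symm
      have hφ : φ ≫ Limits.pullback.fst Y'.hom (g ⁻¹ᵁ U).ι = Limits.pullback.fst (Y'.hom ≫ g) U.ι :=
        Limits.pullback.lift_fst _ _ _
      have h' := congrArg (fun k => k.left ≫ Limits.pullback.fst _ _) h
      dsimp [Over.pullback] at h'
      simp only [Over.homMk_left, Limits.pullback.lift_fst] at h'
      show Limits.pullback.fst (Y'.hom ≫ g) U.ι ≫ f₁.left ≫ Limits.pullback.fst N.hom g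
        = Limits.pullback.fst (Y'.hom ≫ g) U.ι ≫ f₂.left ≫ Limits.pullback.fst N.hom g
      rw [← hφ, Category.assoc, Category.assoc, ← Category.assoc _ f₁.left, h', Category.assoc]
    · simp only [Over.homMk_left, Limits.pullback.lift_snd]
  have key' := congrArg (fun k => k.left) key
  ext
  apply Limits.pullback.hom_ext
  · exact key'
  · have e₁ := Over.w f₁
    have e₂ := Over.w f₂
    exact e₁.trans e₂.symm

end Groth.Agent.S17731
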