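import Groth.Statements.S13203
import Mathlib
import Groth.Agent.S17731

set_option autoImplicit false
universe u
open CategoryTheory AlgebraicGeometry
open Neron

namespace Groth.Agent.S13203

/-- Let S be a scheme, U ⊆ S a schematically dense open subscheme and N → S a smooth S-scheme with the
Néron mapping property with respect to U: for every smooth S-scheme Y, sending an S-morphism Y → N
to its restriction Y ×_S U → N ×_S U is a bijection onto the U-morphisms. Then for every smooth
morphism g : S' → S the base change N ×_S S' → S' (again smooth) has the Néron mapping property with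
respect to g⁻¹(U): for every smooth S'-scheme Y', restriction to g⁻¹(U) is a bijection from
S'-morphisms Y' → N ×_S S' onto g⁻¹(U)-morphisms. (The published statement is for models which are
algebraic spaces, tested against smooth algebraic spaces, and also says that separatedness is
preserved; this row states the case of a smooth scheme model tested against smooth schemes.) -/
theorem result
    {S S' : Scheme.{u}} (g : S' ⟶ S) [Smooth g]
    (U : S.Opens) (hU : CInt.IsSchematicallyDense U) (N : Over S) [Smooth N.hom]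
    (hN : ∀ Y : Over S, Smooth Y.hom →
      Function.Bijective (fun f : Y ⟶ N => (Over.pullback U.ι).map f))
    (Y' : Over S') [Smooth Y'.hom] :
    Function.Bijective (fun f : Y' ⟶ (Over.pullback g).obj N => (Over.pullback (g ⁻¹ᵁ U).ι).map f) := by
  constructor
  · exact Groth.Agent.S17731.result g U hU N (fun Y hY => (hN Y hY).1) Y'
  · intro φ
    dsimp only
    let Y : Over S := Over.mk (Y'.hom ≫ g)
    have hYs : Smooth Y.hom := by
      show Smooth (Y'.hom ≫ g)
      infer_instance
    have hR := isPullback_morphismRestrict g U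
    -- comparison `A → A'`
    have hc : Limits.pullback.snd (Y'.hom ≫ g) U.ι ≫ U.ι
        = (Limits.pullback.fst (Y'.hom ≫ g) U.ι ≫ Y'.hom) ≫ g := by
      rw [Category.assoc, Limits.pullback.condition]
    let ψ := hR.lift _ _ hc
    have hψ : ψ ≫ (g ⁻¹ᵁ U).ι = Limits.pullback.fst (Y'.hom ≫ g) U.ι ≫ Y'.hom :=
      hR.lift_snd _ _ hc
    have hψ' : ψ ≫ (g ∣_ U) = Limits.pullback.snd (Y'.hom ≫ g) U.ι :=
      hR.lift_fst _ _ hc
    let α : Limits.pullback (Y'.hom ≫ g) U.ι ⟶ Limits.pullback Y'.hom (g ⁻¹ᵁ U).ι :=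
      Limits.pullback.lift (Limits.pullback.fst (Y'.hom ≫ g) U.ι) ψ hψ.symm
    have hα1 : α ≫ Limits.pullback.fst Y'.hom (g ⁻¹ᵁ U).ι = Limits.pullback.fst (Y'.hom ≫ g) U.ι :=
      Limits.pullback.lift_fst _ _ _
    have hα2 : α ≫ Limits.pullback.snd Y'.hom (g ⁻¹ᵁ U).ι = ψ :=
      Limits.pullback.lift_snd _ _ _
    -- inverse `A' → A`
    have hcβ : Limits.pullback.fst Y'.hom (g ⁻¹ᵁ U).ι ≫ (Y'.hom ≫ g)
        = (Limits.pullback.snd Y'.hom (g ⁻¹ᵁ U).ι ≫ (g ∣_ U)) ≫ U.ι := by
      rw [← Category.assoc, Limits.pullback.condition, Category.assoc, Category.assoc, hR.w]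
    let β : Limits.pullback Y'.hom (g ⁻¹ᵁ U).ι ⟶ Limits.pullback (Y'.hom ≫ g) U.ι :=
      Limits.pullback.lift (Limits.pullback.fst Y'.hom (g ⁻¹ᵁ U).ι)
        (Limits.pullback.snd Y'.hom (g ⁻¹ᵁ U).ι ≫ (g ∣_ U)) hcβ
    have hβ1 : β ≫ Limits.pullback.fst (Y'.hom ≫ g) U.ι = Limits.pullback.fst Y'.hom (g ⁻¹ᵁ U).ι :=
      Limits.pullback.lift_fst _ _ _
    have hβα : β ≫ α = 𝟙 _ := by
      apply Limits.pullback.hom_ext
      · rw [Category.assoc, hα1, hβ1, Category.id_comp]
      · rw [Category.assoc, hα2, Category.id_comp, ← cancel_mono (g ⁻¹ᵁ U).ι, Category.assoc, hψ,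
          ← Category.assoc, hβ1, Limits.pullback.condition]
    -- the map `B' → B`
    have hcγ : (Limits.pullback.fst (Limits.pullback.snd N.hom g) (g ⁻¹ᵁ U).ι ≫
          Limits.pullback.fst N.hom g) ≫ N.hom
        = (Limits.pullback.snd (Limits.pullback.snd N.hom g) (g ⁻¹ᵁ U).ι ≫ (g ∣_ U)) ≫ U.ι := by
      rw [Category.assoc, Limits.pullback.condition, ← Category.assoc, Limits.pullback.condition,
        Category.assoc, Category.assoc, hR.w]
    let γ : Limits.pullback (Limits.pullback.snd N.hom g) (g ⁻¹ᵁ U).ι ⟶ Limits.pullback N.hom U.ι :=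
      Limits.pullback.lift _ _ hcγ
    have hγ1 : γ ≫ Limits.pullback.fst N.hom U.ι =
        Limits.pullback.fst (Limits.pullback.snd N.hom g) (g ⁻¹ᵁ U).ι ≫ Limits.pullback.fst N.hom g :=
      Limits.pullback.lift_fst _ _ _
    have hγ2 : γ ≫ Limits.pullback.snd N.hom U.ι =
        Limits.pullback.snd (Limits.pullback.snd N.hom g) (g ⁻¹ᵁ U).ι ≫ (g ∣_ U) :=
      Limits.pullback.lift_snd _ _ _
    have hφw : φ.left ≫ Limits.pullback.snd (Limits.pullback.snd N.hom g) (g ⁻¹ᵁ U).ι
        = Limits.pullback.snd Y'.hom (g ⁻¹ᵁ U).ι := Over.w φ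
    have hχw : (α ≫ φ.left ≫ γ) ≫ Limits.pullback.snd N.hom U.ι
        = Limits.pullback.snd (Y'.hom ≫ g) U.ι := by
      rw [Category.assoc, Category.assoc, hγ2, ← Category.assoc φ.left, hφw, ← Category.assoc,
        hα2, hψ']
    let χ : (Over.pullback U.ι).obj Y ⟶ (Over.pullback U.ι).obj N :=
      Over.homMk (α ≫ φ.left ≫ γ) hχw
    obtain ⟨h, hh⟩ := (hN Y hYs).2 χ
    dsimp only at hh
    have hhw : h.left ≫ N.hom = Y'.hom ≫ g := Over.w h
    let f : Y' ⟶ (Over.pullback g).obj N :=
      Over.homMk (Limits.pullback.lift h.left Y'.hom hhw) (Limits.pullback.lift_snd _ _ _)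
    refine ⟨f, ?_⟩
    have hh' := congrArg (fun k => k.left ≫ Limits.pullback.fst N.hom U.ι) hh
    dsimp [Over.pullback] at hh'
    simp only [Over.homMk_left, Limits.pullback.lift_fst] at hh'
    have hh'' : Limits.pullback.fst (Y'.hom ≫ g) U.ι ≫ h.left
        = (α ≫ φ.left ≫ γ) ≫ Limits.pullback.fst N.hom U.ι := hh'
    have key : Limits.pullback.fst Y'.hom (g ⁻¹ᵁ U).ι ≫ h.left
        = φ.left ≫ Limits.pullback.fst (Limits.pullback.snd N.hom g) (g ⁻¹ᵁ U).ι ≫
          Limits.pullback.fst N.hom g := by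
      calc Limits.pullback.fst Y'.hom (g ⁻¹ᵁ U).ι ≫ h.left
          = (β ≫ Limits.pullback.fst (Y'.hom ≫ g) U.ι) ≫ h.left := by rw [hβ1]
        _ = β ≫ (α ≫ φ.left ≫ γ) ≫ Limits.pullback.fst N.hom U.ι := by
            rw [Category.assoc, hh'']
        _ = (β ≫ α) ≫ φ.left ≫ γ ≫ Limits.pullback.fst N.hom U.ι := by
            simp only [Category.assoc]
        _ = _ := by rw [hβα, Category.id_comp, hγ1]
    ext
    dsimp [Over.pullback]
    apply Limits.pullback.hom_ext
    · simp only [Over.homMk_left, Limits.pullback.lift_fst]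
      apply Limits.pullback.hom_ext
      · simp only [Category.assoc, f, Over.homMk_left, Limits.pullback.lift_fst]
        exact key
      · simp only [Category.assoc, f, Over.homMk_left, Limits.pullback.lift_snd]
        have e1 : Limits.pullback.fst (Limits.pullback.snd N.hom g) (g ⁻¹ᵁ U).ι ≫
            Limits.pullback.snd N.hom g =
            Limits.pullback.snd (Limits.pullback.snd N.hom g) (g ⁻¹ᵁ U).ι ≫ (g ⁻¹ᵁ U).ι :=
          Limits.pullback.condition
        have e2 : Limits.pullback.fst Y'.hom (g ⁻¹ᵁ U).ι ≫ Y'.hom =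
            Limits.pullback.snd Y'.hom (g ⁻¹ᵁ U).ι ≫ (g ⁻¹ᵁ U).ι := Limits.pullback.condition
        rw [e2, e1, ← Category.assoc, hφw]
    · simp only [Over.homMk_left, Limits.pullback.lift_snd]
      exact hφw.symm

end Groth.Agent.S13203
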