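import Groth.Statements.S13206
import Groth.Agent.H40.CD.Inter
import Mathlib.AlgebraicGeometry.Morphisms.Separated

set_option autoImplicit false
universe u
open CategoryTheory AlgebraicGeometry
open AlgGrp

namespace Groth.Agent.S13206

/-- Let X → S be a separated morphism of schemes and let a finite group G act on X through
S-automorphisms. Then the functor of G-fixed points is represented by a closed subscheme of X: there
are a scheme Z and a closed immersion i : Z → X with i ∘ g = i for all g ∈ G such that every
morphism x : T → X with g ∘ x = x for all g ∈ G factors uniquely through i. (The published statement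
is for an algebraic space X over S, also treats the locally separated case and notes compatibility
with base change; this row is the separated case for schemes.) -/
theorem result
    {X S : Scheme.{u}} (p : X ⟶ S) [IsSeparated p]
    (G : Type u) [Group G] [Finite G] (ρ : G →* Aut X) (hρ : ∀ g : G, (ρ g).hom ≫ p = p) :
    ∃ (Z : Scheme.{u}) (i : Z ⟶ X), IsClosedImmersion i ∧ (∀ g : G, i ≫ (ρ g).hom = i) ∧
      ∀ (T : Scheme.{u}) (x : T ⟶ X), (∀ g : G, x ≫ (ρ g).hom = x) → ∃! z : T ⟶ Z, z ≫ i = x := by
  classical
  let XS : Over S := Over.mk p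
  let fg : G → (XS ⟶ XS) := fun g => Over.homMk (ρ g).hom (hρ g)
  haveI : IsSeparated XS.hom := ‹IsSeparated p›
  have hfac : ∀ (g : G) ⦃T : Scheme.{u}⦄ (x : T ⟶ X),
      (∃ w : T ⟶ (Limits.equalizer (fg g) (𝟙 XS)).left,
        w ≫ (Limits.equalizer.ι (fg g) (𝟙 XS)).left = x) ↔ x ≫ (ρ g).hom = x := by
    intro g T x
    constructor
    · rintro ⟨w, rfl⟩
      have h1 := congrArg (fun φ => φ.left) (Limits.equalizer.condition (fg g) (𝟙 XS))
      simp only [Over.comp_left, Over.id_left, Category.comp_id] at h1
      rw [Category.assoc]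
      exact congrArg (fun φ => w ≫ φ) h1
    · intro hx
      let xo : Over.mk (x ≫ p) ⟶ XS := Over.homMk x rfl
      have h2 : xo ≫ fg g = xo ≫ 𝟙 XS := by
        ext
        simp only [Over.comp_left, Over.id_left, Category.comp_id]
        exact hx
      refine ⟨(Limits.equalizer.lift xo h2).left, ?_⟩
      rw [← Over.comp_left, Limits.equalizer.lift_ι]
      rfl
  obtain ⟨W, ι, hι, hW⟩ := Groth.Agent.H40.CD.exists_closed_iInter
    (fun g : G => (Limits.equalizer (fg g) (𝟙 XS)).left)
    (fun g : G => (Limits.equalizer.ι (fg g) (𝟙 XS)).left)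
  refine ⟨W, ι, hι, ?_, fun T x hx => ?_⟩
  · intro g
    have := (hW ι).mp ⟨𝟙 W, Category.id_comp _⟩ g
    exact (hfac g ι).mp this
  · obtain ⟨z, hz⟩ := (hW x).mpr fun g => (hfac g x).mpr (hx g)
    refine ⟨z, hz, fun z' hz' => ?_⟩
    haveI : Mono ι := inferInstance
    exact (cancel_mono ι).mp (hz'.trans hz.symm)

end Groth.Agent.S13206
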