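import Groth.Statements.S13341
import Groth.Agent.H29.GraphAdic

set_option autoImplicit false
open CategoryTheory
universe u
open FCompl

namespace Groth.Agent.S13341


open AlgebraicGeometry in
/-- Formal schemes are presented as locally Noetherian adic systems of thickenings and the fibre product
is taken levelwise (it presents the fibre product of formal schemes since one factor is adic over
the base). Let 𝔖 be a locally Noetherian formal system, 𝔛 and 𝔜 locally Noetherian formal systems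
over 𝔖 such that 𝔛 or 𝔜 is of finite type over 𝔖, and 𝔜 separated over 𝔖 at level 0. Then for every
𝔖-morphism f : 𝔛 → 𝔜 the graph morphism 𝔛 → 𝔛 ×_𝔖 𝔜 is a closed immersion: adic, with level 0 a
closed immersion. -/
theorem result {𝔛 𝔜 𝔖 : FSch.Sys.{u}} (h𝔖 : 𝔖.IsLocNoethFormal) (h𝔛 : 𝔛.IsLocNoethFormal)
    (h𝔜 : 𝔜.IsLocNoethFormal) (p : 𝔛 ⟶ 𝔖) (q : 𝔜 ⟶ 𝔖) (hpq : FSch.IsFiniteTypeHom p ∨ FSch.IsFiniteTypeHom q)
    (hq : IsSeparated ((q : FSch.Hom 𝔜 𝔖).app 0)) (f : 𝔛 ⟶ 𝔜) (w : f ≫ q = p) :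
    FSch.IsClosedImmHom (FSch.graph f p q w) := by
  subst w
  refine ⟨fun n => ?_, ?_⟩
  · have hci : IsClosedImmersion (𝔜.ι n) := (h𝔜.1 n).1
    have : Mono (𝔜.ι n) := inferInstance
    exact Groth.Agent.H29.GraphAdic.isPullback_graph (𝔛.ι n) (𝔜.ι n) (𝔖.ι n)
      ((f ≫ q : FSch.Hom 𝔛 𝔖).app n) ((q : FSch.Hom 𝔜 𝔖).app n)
      ((f ≫ q : FSch.Hom 𝔛 𝔖).app (n + 1)) ((q : FSch.Hom 𝔜 𝔖).app (n + 1))
      ((f : FSch.Hom 𝔛 𝔜).app n) ((f : FSch.Hom 𝔛 𝔜).app (n + 1))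
      ((f ≫ q : FSch.Hom 𝔛 𝔖).comm n) ((q : FSch.Hom 𝔜 𝔖).comm n) ((f : FSch.Hom 𝔛 𝔜).comm n) _ _
  · have hd : IsClosedImmersion (CategoryTheory.Limits.pullback.diagonal ((q : FSch.Hom 𝔜 𝔖).app 0)) :=
      hq.isClosedImmersion_diagonal
    exact MorphismProperty.of_isPullback (P := @IsClosedImmersion)
      (CategoryTheory.Limits.pullback_lift_diagonal_isPullback ((f : FSch.Hom 𝔛 𝔜).app 0)
        ((q : FSch.Hom 𝔜 𝔖).app 0)) hd

end Groth.Agent.S13341
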