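import Groth.Statements.S13352
import Mathlib
import Groth.Agent.H57.AdjoinAdm
import Groth.Agent.H57.RigPoint

set_option autoImplicit false
universe u
open scoped TensorProduct
open AdicRing

namespace Groth.Agent.S13352

/-- Let R be a complete valuation ring of height one with t a nonzero element generating an ideal of
definition and K its field of fractions, A an admissible R-algebra, and f_1, ..., f_n elements of A
⊗_R K that are integral over A. Then A' = A[f_1, ..., f_n], a subalgebra of A ⊗_R K, is an
admissible R-algebra which is finite over A. (The published hypothesis is that each f_i has supremum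
seminorm at most 1 on the affinoid algebra A ⊗_R K; integrality of the f_i over A is what is derived
from it and used, and is the hypothesis taken here.) -/
theorem result
    (R : Type u) [CommRing R] [IsDomain R] [ValuationRing R] [Ring.KrullDimLE 1 R]
    (t : R) (ht : t ≠ 0) [IsAdicComplete (Ideal.span {t}) R]
    (A : Type u) [CommRing A] [Algebra R A] (hA : AdicRing.Admissible R (Ideal.span {t}) A)
    (n : ℕ) (f : Fin n → A ⊗[R] FractionRing R) (hf : ∀ i, IsIntegral A (f i)) :
    AdicRing.Admissible R (Ideal.span {t}) ↥(Algebra.adjoin A (Set.range f)) ∧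
      Module.Finite A ↥(Algebra.adjoin A (Set.range f)) := by
  have hfin : Module.Finite A (Algebra.adjoin A (Set.range f)) :=
    Algebra.finite_adjoin_of_finite_of_isIntegral (Set.finite_range _) (by
      rintro _ ⟨j, rfl⟩
      exact hf j)
  refine ⟨?_, hfin⟩
  have htft : TopFiniteType R (Ideal.span {t}) A := by
    obtain ⟨m, φ, hφ, -⟩ := hA.1
    exact ⟨m, φ, hφ⟩
  apply Groth.Agent.H57.AdjoinAdm.admissible_of_finite (Groth.Agent.H57.RigPoint.isBase t ht) htft
  intro x k hx
  have h1 := hx (t ^ k) (Ideal.pow_mem_pow (Ideal.mem_span_singleton_self t) k)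
  have h2 : (t ^ k) • (x : A ⊗[R] FractionRing R) = 0 := by
    have := congrArg Subtype.val h1
    simpa using this
  replace h2 : algebraMap R (A ⊗[R] FractionRing R) (t ^ k) * (x : A ⊗[R] FractionRing R) = 0 :=
    (Algebra.smul_def _ _).symm.trans h2
  have hu : IsUnit (algebraMap R (A ⊗[R] FractionRing R) (t ^ k)) := by
    have h3 : algebraMap R (A ⊗[R] FractionRing R) (t ^ k) =
        (Algebra.TensorProduct.includeRight : FractionRing R →ₐ[R] A ⊗[R] FractionRing R)
          (algebraMap R (FractionRing R) (t ^ k)) := by
      rw [AlgHom.commutes]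
    rw [h3]
    apply IsUnit.map
    rw [isUnit_iff_ne_zero]
    intro h0
    exact pow_ne_zero k ht (IsFractionRing.injective R (FractionRing R) (h0.trans (map_zero _).symm))
  apply Subtype.ext
  exact (hu.mul_right_eq_zero).mp h2

end Groth.Agent.S13352
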