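import Groth.Statements.S13353
import Mathlib
import Groth.Agent.H57.GenFibre
import Groth.Agent.H57.RigPoint

set_option autoImplicit false
universe u
open scoped TensorProduct
open AdicRing

namespace Groth.Agent.S13353

/-- Let R be a complete valuation ring of height one with t a nonzero element generating an ideal of
definition and K its field of fractions, A an admissible R-algebra, f_1, ..., f_n elements of A ⊗_R
K integral over A, c a nonzero element of R and g_1, ..., g_n elements of A with g_i = c f_i in A
⊗_R K; put 𝔞 = (c, g_1, ..., g_n) and A' = A[f_1, ..., f_n] ⊂ A ⊗_R K. If D is an admissible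
R-algebra and φ : A → D an R-algebra homomorphism such that the ideal 𝔞D is generated by the image
of c, or by the image of some g_i, then 𝔞D is generated by c and φ extends to exactly one R-algebra
homomorphism A' → D. (This is the universal property through which Spf A' → Spf A is identified with
the formal blowing-up of 𝔞 on Spf A; the published hypothesis on the f_i is a supremum-seminorm
bound, from which their integrality over A is derived.) -/
theorem result
    (R : Type u) [CommRing R] [IsDomain R] [ValuationRing R] [Ring.KrullDimLE 1 R]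
    (t : R) (ht : t ≠ 0) [IsAdicComplete (Ideal.span {t}) R]
    (A : Type u) [CommRing A] [Algebra R A] (hA : AdicRing.Admissible R (Ideal.span {t}) A)
    (n : ℕ) (f : Fin n → A ⊗[R] FractionRing R) (hf : ∀ i, IsIntegral A (f i))
    (c : R) (hc : c ≠ 0) (g : Fin n → A)
    (hg : ∀ i, algebraMap A (A ⊗[R] FractionRing R) (g i) = c • f i)
    (D : Type u) [CommRing D] [Algebra R D] (hD : AdicRing.Admissible R (Ideal.span {t}) D)
    (φ : A →ₐ[R] D)
    (hgen : (Ideal.span (insert (algebraMap R A c) (Set.range g))).map φ =
          Ideal.span {algebraMap R D c} ∨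
      ∃ i, (Ideal.span (insert (algebraMap R A c) (Set.range g))).map φ = Ideal.span {φ (g i)}) :
    (Ideal.span (insert (algebraMap R A c) (Set.range g))).map φ = Ideal.span {algebraMap R D c} ∧
      ∃! ψ : ↥(Algebra.adjoin A (Set.range f)) →ₐ[R] D,
        ψ.comp (IsScalarTower.toAlgHom R A ↥(Algebra.adjoin A (Set.range f))) = φ := by
  have htfA : ∀ (r : R) (a : A), r ≠ 0 → algebraMap R A r * a = 0 → a = 0 := fun r a hr h =>
    Groth.Agent.H57.RigPoint.eq_zero_of_algebraMap_mul_eq_zero t hA.2 hr h
  have htfD : ∀ (r : R) (d : D), r ≠ 0 → algebraMap R D r * d = 0 → d = 0 := fun r a hr h =>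
    Groth.Agent.H57.RigPoint.eq_zero_of_algebraMap_mul_eq_zero t hD.2 hr h
  have hpart1 : (Ideal.span (insert (algebraMap R A c) (Set.range g))).map φ =
      Ideal.span {algebraMap R D c} := by
    rcases hgen with h | ⟨i, hi⟩
    · exact h
    · have hc_mem : algebraMap R D c ∈
          (Ideal.span (insert (algebraMap R A c) (Set.range g))).map φ := by
        have h1 : algebraMap R A c ∈ Ideal.span (insert (algebraMap R A c) (Set.range g)) :=
          Ideal.subset_span (Set.mem_insert _ _)
        have h2 := Ideal.mem_map_of_mem φ h1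
        rwa [AlgHom.commutes] at h2
      rw [hi, Ideal.mem_span_singleton] at hc_mem
      obtain ⟨d, hd⟩ := hc_mem
      have hint : IsIntegral D (Groth.Agent.H57.GenFibre.mapK φ (f i)) :=
        Groth.Agent.H57.GenFibre.isIntegral_mapK φ (hf i)
      have hprod : algebraMap D (D ⊗[R] FractionRing R) d *
          Groth.Agent.H57.GenFibre.mapK φ (f i) = 1 := by
        apply Groth.Agent.H57.GenFibre.smul_left_cancel hc
        rw [← mul_smul_comm, ← map_smul, ← hg i, Groth.Agent.H57.GenFibre.mapK_algebraMap,
          ← map_mul, mul_comm, ← hd, ← IsScalarTower.algebraMap_apply R D]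
        exact Algebra.algebraMap_eq_smul_one c
      have hmem := Groth.Agent.H57.RigPoint.mem_of_mul_eq_one_of_isIntegral
        (R := D) (B := D ⊗[R] FractionRing R) ⊥ (Subalgebra.algebraMap_mem ⊥ d) hprod hint
      obtain ⟨e₀, he₀⟩ := Algebra.mem_bot.mp hmem
      have hde : d * e₀ = 1 := by
        apply Groth.Agent.H57.GenFibre.algebraMap_injective htfD
        rw [map_mul, he₀, hprod, map_one]
      rw [hi, hd]
      exact (Ideal.span_singleton_mul_right_unit (IsUnit.of_mul_eq_one e₀ hde) _).symm
  refine ⟨hpart1, ?_⟩
  have hs : ∀ x ∈ Set.range f, Groth.Agent.H57.GenFibre.mapK φ x ∈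
      (algebraMap D (D ⊗[R] FractionRing R)).range := by
    rintro _ ⟨j, rfl⟩
    have hgj : φ (g j) ∈ (Ideal.span (insert (algebraMap R A c) (Set.range g))).map φ :=
      Ideal.mem_map_of_mem φ (Ideal.subset_span (Set.mem_insert_of_mem _ ⟨j, rfl⟩))
    rw [hpart1, Ideal.mem_span_singleton] at hgj
    obtain ⟨dj, hdj⟩ := hgj
    refine ⟨dj, ?_⟩
    apply Groth.Agent.H57.GenFibre.smul_left_cancel hc
    rw [← map_smul (Groth.Agent.H57.GenFibre.mapK φ), ← hg j,
      Groth.Agent.H57.GenFibre.mapK_algebraMap, hdj, map_mul,
      ← IsScalarTower.algebraMap_apply R D, ← Algebra.smul_def]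
  refine ⟨Groth.Agent.H57.GenFibre.extend φ htfD hs,
    Groth.Agent.H57.GenFibre.extend_comp φ htfD hs, fun ψ hψ => ?_⟩
  exact Groth.Agent.H57.GenFibre.ext_of_comp_eq htfD ψ _
    (hψ.trans (Groth.Agent.H57.GenFibre.extend_comp φ htfD hs).symm)

end Groth.Agent.S13353
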