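import Groth.Statements.S13354
import Mathlib
import Groth.Agent.H57.RigPoint
import Groth.Agent.H57.UnramExt
import Groth.Agent.S11541
import Groth.Agent.H54.Dim

set_option autoImplicit false
universe u
open AdicRing

namespace Groth.Agent.S13354

/-- Let R be a complete valuation ring of height one with t a nonzero element generating an ideal of
definition, B an admissible R-algebra which is a local integral domain of Krull dimension one (the
algebra of a rig-point), and b_1, ..., b_n elements of B, not all zero. Then there is a B-subalgebra
B' of the field of fractions of B which is finite over B, is again a local ring of Krull dimension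
one, and in which the ideal generated by b_1, ..., b_n is generated by one of the b_i alone (hence
is invertible). (This is the algebraic step by which a rig-point is lifted along the formal
blowing-up of a finitely generated open ideal; the resulting bijection between rig-points of the
blowing-up and of the base is not stated here.) -/
theorem result
    (R : Type u) [CommRing R] [IsDomain R] [ValuationRing R] [Ring.KrullDimLE 1 R]
    (t : R) (ht : t ≠ 0) [IsAdicComplete (Ideal.span {t}) R]
    (B : Type u) [CommRing B] [Algebra R B] [IsDomain B] [IsLocalRing B]
    (hB : AdicRing.Admissible R (Ideal.span {t}) B) (hdim : ringKrullDim B = 1)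
    (n : ℕ) (b : Fin n → B) (hb : ∃ i, b i ≠ 0) :
    ∃ B' : Subalgebra B (FractionRing B), Module.Finite B ↥B' ∧ IsLocalRing ↥B' ∧ ringKrullDim ↥B' = 1 ∧
      ∃ i, Ideal.span (Set.range (fun j => algebraMap B ↥B' (b j))) =
        Ideal.span {algebraMap B ↥B' (b i)} := by
  classical
  have hfin : Module.Finite R B := Groth.Agent.H57.RigPoint.finite_of_rigPoint t ht hB hdim.le
  obtain ⟨-, hval⟩ := Groth.Agent.S11541.result R t ht B hB hdim
  have : HenselianLocalRing R := Groth.Agent.H80.ValNorm.henselianLocalRing_of_complete R t ht
  let bt : Fin n → integralClosure B (FractionRing B) := fun j =>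
    ⟨algebraMap B (FractionRing B) (b j), isIntegral_algebraMap⟩
  obtain ⟨i₁, hi₁⟩ := hb
  obtain ⟨i, -, hi⟩ := Groth.Agent.H57.UnramExt.exists_dvd_all bt Finset.univ
    ⟨i₁, Finset.mem_univ _⟩
  choose c hc using fun j => hi j (Finset.mem_univ j)
  have hc' : ∀ j, algebraMap B (FractionRing B) (b j) =
      algebraMap B (FractionRing B) (b i) * (c j : FractionRing B) := fun j =>
    congrArg Subtype.val (hc j)
  have hfinB' : Module.Finite B (Algebra.adjoin B (Set.range fun j => (c j : FractionRing B))) :=
    Algebra.finite_adjoin_of_finite_of_isIntegral (Set.finite_range _) (by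
      rintro _ ⟨j, rfl⟩
      exact (c j).2)
  refine ⟨Algebra.adjoin B (Set.range fun j => (c j : FractionRing B)), hfinB', ?_, ?_, i, ?_⟩
  · have : Module.Finite R (Algebra.adjoin B (Set.range fun j => (c j : FractionRing B))) :=
      Module.Finite.trans B _
    exact Groth.Agent.S1964.isLocalRing_of_finite_domain R _
  · rw [← hdim]
    symm
    have : Algebra.IsIntegral B (Algebra.adjoin B (Set.range fun j => (c j : FractionRing B))) :=
      Algebra.IsIntegral.of_finite B _
    apply Groth.Agent.H54.ringKrullDim_eq_of_isIntegral_of_injective
    intro x y hxy
    apply IsFractionRing.injective B (FractionRing B)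
    exact congrArg Subtype.val hxy
  · apply le_antisymm
    · rw [Ideal.span_le]
      rintro _ ⟨j, rfl⟩
      rw [SetLike.mem_coe, Ideal.mem_span_singleton]
      refine ⟨⟨(c j : FractionRing B), Algebra.subset_adjoin ⟨j, rfl⟩⟩, ?_⟩
      apply Subtype.ext
      exact hc' j
    · apply Ideal.span_mono
      rintro _ rfl
      exact ⟨i, rfl⟩

end Groth.Agent.S13354
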