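import Groth.Statements.S1336
import Groth.Agent.H7.GeomCnt.CntMain

set_option autoImplicit false
universe u
open FlatMor

namespace Groth.Agent.S1336

open AlgebraicGeometry CategoryTheory Limits in
/-- Let f be of finite type and let y be a point of the target. Then the function counting the
irreducible components of the geometric fibres of f is constant on some subset of the closure of y
which is open in that closure and contains y. -/
theorem result {X Y : Scheme.{u}} (f : X ⟶ Y) [LocallyOfFiniteType f] [QuasiCompact f] (y : Y) :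
    ∃ V : Set ↑Y, V ⊆ closure {y} ∧ y ∈ V ∧ IsOpen (Subtype.val ⁻¹' V : Set ↑(closure ({y} : Set ↑Y))) ∧
      ∀ y' ∈ V, MoreMor.nGeomIrredComp f y' = MoreMor.nGeomIrredComp f y := by
  classical
  let I := Scheme.IdealSheafData.vanishingIdeal
    (⟨closure {y}, isClosed_closure⟩ : TopologicalSpace.Closeds ↥Y)
  let i := I.subschemeι
  have hrange : Set.range i = closure {y} := by
    rw [Scheme.IdealSheafData.range_subschemeι]
    exact Scheme.IdealSheafData.coe_support_vanishingIdeal _
  have hemb : Topology.IsClosedEmbedding i := i.isClosedEmbedding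
  haveI : IrreducibleSpace ↥I.subscheme := by
    rw [Groth.Agent.H7.GeomCnt.irreducibleSpace_iff_isIrreducible_range hemb.isEmbedding, hrange]
    exact isIrreducible_singleton.closure
  obtain ⟨VZ, hVZne, H⟩ :=
    Groth.Agent.H7.GeomCnt.exists_open_nGeomIrredComp_eq (pullback.snd f i)
  have hbc : ∀ z, MoreMor.nGeomIrredComp (pullback.snd f i) z =
      MoreMor.nGeomIrredComp f (i z) := fun z =>
    Groth.Agent.H7.nGeomIrredComp_eq_of_isPullback f (pullback.snd f i)
      (pullback.fst f i) i (IsPullback.of_hasPullback _ _) z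
  -- the generic point of the subscheme maps to `y`
  have hgen : i (genericPoint ↥I.subscheme) = y := by
    have h1 : IsGenericPoint (i (genericPoint ↥I.subscheme)) (closure (i '' Set.univ)) :=
      (genericPoint_spec ↥I.subscheme).image i.continuous
    rw [Set.image_univ, hrange, closure_closure] at h1
    exact h1.eq (isGenericPoint_closure (x := y))
  have hηV : genericPoint ↥I.subscheme ∈ VZ := by
    obtain ⟨v, hv⟩ := hVZne
    exact ((genericPoint_spec ↥I.subscheme).mem_open_set_iff VZ.isOpen).mpr ⟨v, Set.mem_univ _, hv⟩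
  refine ⟨i '' VZ, ?_, ⟨_, hηV, hgen⟩, ?_, ?_⟩
  · rw [← hrange]
    exact Set.image_subset_range _ _
  · obtain ⟨O, hO, hOV⟩ := (hemb.isEmbedding.isOpen_iff).mp VZ.isOpen
    have : (Subtype.val ⁻¹' (i '' VZ) : Set ↑(closure ({y} : Set ↑Y))) = Subtype.val ⁻¹' O := by
      ext ⟨w, hw⟩
      simp only [Set.mem_preimage, Set.mem_image]
      constructor
      · rintro ⟨z, hz, rfl⟩
        have : z ∈ i ⁻¹' O := by rw [hOV]; exact hz
        exact this
      · intro hwO
        rw [← hrange] at hw
        obtain ⟨z, rfl⟩ := hw
        refine ⟨z, ?_, rfl⟩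
        have : z ∈ i ⁻¹' O := hwO
        rw [hOV] at this
        exact this
    rw [this]
    exact hO.preimage continuous_subtype_val
  · rintro _ ⟨z, hz, rfl⟩
    rw [← hbc, H z hz, hbc, hgen]

end Groth.Agent.S1336
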