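import Groth.Statements.S13365
import Mathlib.Topology.Algebra.ClopenNhdofOne

set_option autoImplicit false
universe u
open ProCompl

namespace Groth.Agent.S13365

/-- The quotient of a profinite (compact, Hausdorff, totally disconnected) abelian topological group by
a compact subgroup is profinite. -/
theorem result {A : Type u} [AddCommGroup A] [TopologicalSpace A]
    [IsTopologicalAddGroup A] [CompactSpace A] [T2Space A] [TotallyDisconnectedSpace A]
    (B : AddSubgroup A) (hB : IsCompact (B : Set A)) :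
    CompactSpace (A ⧸ B) ∧ T2Space (A ⧸ B) ∧ TotallyDisconnectedSpace (A ⧸ B) := by
  have hBc : IsClosed (B : Set A) := hB.isClosed
  have : IsClosed (B : Set A) := hBc
  have hT2 : T2Space (A ⧸ B) := inferInstance
  refine ⟨inferInstance, hT2, ?_⟩
  suffices h : TotallySeparatedSpace (A ⧸ B) from inferInstance
  -- it suffices to separate every nonzero point from zero by a clopen set
  have key : ∀ x : A ⧸ B, x ≠ 0 → ∃ U : Set (A ⧸ B), IsClopen U ∧ (0 : A ⧸ B) ∈ U ∧ x ∉ U := by
    intro x hx
    obtain ⟨a, rfl⟩ := QuotientAddGroup.mk_surjective x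
    have ha : a ∉ B := by
      intro h
      exact hx ((QuotientAddGroup.eq_zero_iff a).2 h)
    have hsInf := ProfiniteGrp.closedAddSubgroup_eq_sInf_open (G := A)
      (⟨B, hBc⟩ : ClosedAddSubgroup A)
    have ha' : a ∉ sInf {N : AddSubgroup A | IsOpen (N : Set A) ∧ B ≤ N} := by
      intro h
      apply ha
      have : a ∈ ((⟨B, hBc⟩ : ClosedAddSubgroup A) : AddSubgroup A) := by
        rw [hsInf]; exact h
      exact this
    rw [AddSubgroup.mem_sInf] at ha'
    push Not at ha'
    obtain ⟨N, ⟨hNo, hBN⟩, haN⟩ := ha'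
    let π : A →+ A ⧸ B := QuotientAddGroup.mk' B
    let M : AddSubgroup (A ⧸ B) := N.map π
    have hMo : IsOpen (M : Set (A ⧸ B)) := by
      have : (M : Set (A ⧸ B)) = (QuotientAddGroup.mk : A → A ⧸ B) '' (N : Set A) := by
        ext y; simp [M, π]
      rw [this]
      exact QuotientAddGroup.isOpenMap_coe _ hNo
    refine ⟨M, ⟨AddSubgroup.isClosed_of_isOpen M hMo, hMo⟩, M.zero_mem, ?_⟩
    rintro ⟨n, hn, hna⟩
    apply haN
    have h1 : (QuotientAddGroup.mk n : A ⧸ B) = QuotientAddGroup.mk a := hna
    rw [QuotientAddGroup.eq] at h1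
    have h2 : -n + a ∈ N := hBN h1
    have := N.add_mem hn h2
    simpa using this
  refine totallySeparatedSpace_iff_exists_isClopen.2 ?_
  intro x y hxy
  obtain ⟨U, hU, h0, hxyU⟩ := key (x - y) (sub_ne_zero.2 hxy)
  refine ⟨(fun z => z - y) ⁻¹' Uᶜ, ?_, ?_, ?_⟩
  · exact hU.compl.preimage (continuous_id.sub continuous_const)
  · simpa using hxyU
  · simp [h0]

end Groth.Agent.S13365
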