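import Groth.Statements.S13373
import Groth.Agent.H67.CharPChar3

set_option autoImplicit false
universe u
open GaDual

namespace Groth.Agent.S13373

/-- Over a commutative algebra A of prime characteristic p, the formal characters (power series χ with
constant term 1 and χ(X+Y) = χ(X)χ(Y)) are exactly the infinite products ∏_n exp_p(a_n X^(p^n)) with
a_n^p = 0, where exp_p(Y) = Σ_{j<p} Y^j/j!; the infinite product is expressed through its
truncations: χ mod X^(p^m) equals the finite product over n < m. -/
theorem result (p : ℕ) [Fact p.Prime] (A : Type u) [CommRing A] [CharP A p]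
    (χ : PowerSeries A) :
    (PowerSeries.constantCoeff χ = 1 ∧
      PowerSeries.subst (MvPowerSeries.X 0 + MvPowerSeries.X 1 : MvPowerSeries (Fin 2) A) χ =
        PowerSeries.subst (MvPowerSeries.X 0 : MvPowerSeries (Fin 2) A) χ *
          PowerSeries.subst (MvPowerSeries.X 1 : MvPowerSeries (Fin 2) A) χ) ↔
      ∃ a : ℕ → A, (∀ n, a n ^ p = 0) ∧ ∀ m : ℕ,
        PowerSeries.trunc (p ^ m) χ = ∏ n ∈ Finset.range m, ∑ j ∈ Finset.range p,
          Polynomial.C (Ring.inverse (j.factorial : A) * a n ^ j) * Polynomial.X ^ (j * p ^ n) := by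
  constructor
  · rintro ⟨h1, h2⟩
    have hc0 : PowerSeries.coeff 0 χ = 1 := by
      rw [PowerSeries.coeff_zero_eq_constantCoeff_apply]; exact h1
    have hM : ∀ a b : ℕ, ((a + b).choose a : A) * PowerSeries.coeff (a + b) χ =
        PowerSeries.coeff a χ * PowerSeries.coeff b χ :=
      (Groth.Agent.H67.subst_add_eq_mul_iff χ).1 h2
    refine ⟨fun i => PowerSeries.coeff (p ^ i) χ,
      fun i => Groth.Agent.H67.char_pow_p_eq_zero p (fun k => PowerSeries.coeff k χ) hc0 hM i, ?_⟩
    intro m
    ext k
    rw [Groth.Agent.H67.coeff_prod_digits p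
      (fun i j => Ring.inverse ((j.factorial : ℕ) : A) * PowerSeries.coeff (p ^ i) χ ^ j) m k,
      PowerSeries.coeff_trunc]
    by_cases hk : k < p ^ m
    · rw [if_pos hk, if_pos hk]
      exact Groth.Agent.H67.char_digits_eq p (fun k => PowerSeries.coeff k χ) hc0 hM m k hk
    · rw [if_neg hk, if_neg hk]
  · rintro ⟨a, ha, htr⟩
    have hcoeff : ∀ m k : ℕ, k < p ^ m →
        PowerSeries.coeff k χ = Groth.Agent.H67.digitProd p a m k := by
      intro m k hk
      have h : Polynomial.coeff (PowerSeries.trunc (p ^ m) χ) k = Polynomial.coeff _ k :=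
        congrArg (fun q => Polynomial.coeff q k) (htr m)
      rw [Groth.Agent.H67.coeff_prod_digits p
        (fun i j => Ring.inverse ((j.factorial : ℕ) : A) * a i ^ j) m k,
        PowerSeries.coeff_trunc, if_pos hk, if_pos hk] at h
      rw [h]
      rfl
    refine ⟨?_, ?_⟩
    · rw [← PowerSeries.coeff_zero_eq_constantCoeff_apply, hcoeff 0 0 (by simp)]
      simp [Groth.Agent.H67.digitProd]
    · rw [Groth.Agent.H67.subst_add_eq_mul_iff]
      intro x y
      obtain ⟨m, hm⟩ : ∃ m, x + y < p ^ m :=
        ⟨x + y, Nat.lt_pow_self (Fact.out : p.Prime).one_lt⟩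
      rw [hcoeff m (x + y) hm, hcoeff m x (by omega), hcoeff m y (by omega)]
      exact Groth.Agent.H67.digitProd_mul p m a ha x y hm

end Groth.Agent.S13373
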