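import Groth.Statements.S13374
import Groth.Agent.H67.CharPChar2

set_option autoImplicit false
universe u
open GaDual

namespace Groth.Agent.S13374

/-- Over a commutative algebra A of prime characteristic p, every character of the kernel α_(p^n) of the
n-th Frobenius of the additive group — i.e. every polynomial f of degree < p^n with f(0) = 1 and
f(X+Y) ≡ f(X)f(Y) modulo (X^(p^n), Y^(p^n)) — is the product ∏_{i<n} exp_p(a_i X^(p^i)) for some a_i
with a_i^p = 0, exp_p(Y) = Σ_{j<p} Y^j/j!. -/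
theorem result (p : ℕ) [Fact p.Prime] (A : Type u) [CommRing A] [CharP A p]
    (n : ℕ) (f : Polynomial A) (hdeg : f.natDegree < p ^ n) (h0 : f.eval 0 = 1)
    (hmul : Ideal.Quotient.mk
        (Ideal.span {(MvPolynomial.X 0 ^ p ^ n : MvPolynomial (Fin 2) A), MvPolynomial.X 1 ^ p ^ n})
        (Polynomial.aeval (MvPolynomial.X 0 + MvPolynomial.X 1 : MvPolynomial (Fin 2) A) f) =
      Ideal.Quotient.mk
        (Ideal.span {(MvPolynomial.X 0 ^ p ^ n : MvPolynomial (Fin 2) A), MvPolynomial.X 1 ^ p ^ n})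
        (Polynomial.aeval (MvPolynomial.X 0 : MvPolynomial (Fin 2) A) f *
          Polynomial.aeval (MvPolynomial.X 1 : MvPolynomial (Fin 2) A) f)) :
    ∃ a : ℕ → A, (∀ i, a i ^ p = 0) ∧
      f = ∏ i ∈ Finset.range n, ∑ j ∈ Finset.range p,
          Polynomial.C (Ring.inverse (j.factorial : A) * a i ^ j) * Polynomial.X ^ (j * p ^ i) := by
  have hc0 : f.coeff 0 = 1 := by rw [Polynomial.coeff_zero_eq_eval_zero]; exact h0
  have hbig : ∀ k, p ^ n ≤ k → f.coeff k = 0 := fun k hk =>
    Polynomial.coeff_eq_zero_of_natDegree_lt (lt_of_lt_of_le hdeg hk)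
  have hM : ∀ a b : ℕ, ((a + b).choose a : A) * f.coeff (a + b) = f.coeff a * f.coeff b := by
    intro a b
    by_cases ha : a < p ^ n
    · by_cases hb : b < p ^ n
      · exact Groth.Agent.H67.coeff_identity_of_mul_mod f hmul ha hb
      · rw [hbig b (not_lt.1 hb), hbig (a + b) (by omega), mul_zero, mul_zero]
    · rw [hbig a (not_lt.1 ha), hbig (a + b) (by omega), mul_zero, zero_mul]
  refine ⟨fun i => f.coeff (p ^ i),
    fun i => Groth.Agent.H67.char_pow_p_eq_zero p f.coeff hc0 hM i, ?_⟩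
  ext k
  rw [Groth.Agent.H67.coeff_prod_digits p
    (fun i j => Ring.inverse ((j.factorial : ℕ) : A) * f.coeff (p ^ i) ^ j) n k]
  by_cases hk : k < p ^ n
  · rw [if_pos hk]
    exact Groth.Agent.H67.char_digits_eq p f.coeff hc0 hM n k hk
  · rw [if_neg hk]
    exact hbig k (not_lt.1 hk)

end Groth.Agent.S13374
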