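import Groth.Statements.S13375
import Groth.Agent.H67.ExtLemma

set_option autoImplicit false
universe u v
open CechDer

namespace Groth.Agent.S13375

open CategoryTheory CategoryTheory.Limits in
/-- In an abelian category, given two degreewise left exact sequences of nonnegatively graded cochain
complexes 0 → C' → C → C'' and 0 → I' → I → I'', each complex exact in positive degrees and the I's
termwise injective, every commutative ladder of maps g', g, g'' between their degree-zero
cohomologies is induced by chain maps f' : C' → I', f : C → I, f'' : C'' → I'' commuting with the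
given maps of complexes. -/
theorem result {V : Type u} [Category.{v} V]
    [Abelian V] (C' C C'' I' I I'' : CochainComplex V ℕ)
    (jC : C' ⟶ C) (πC : C ⟶ C'') (jI : I' ⟶ I) (πI : I ⟶ I'')
    (mC : ∀ n, Mono (jC.f n)) (wC : ∀ n, jC.f n ≫ πC.f n = 0)
    (exC : ∀ n, (ShortComplex.mk (jC.f n) (πC.f n) (wC n)).Exact)
    (mI : ∀ n, Mono (jI.f n)) (wI : ∀ n, jI.f n ≫ πI.f n = 0)
    (exI : ∀ n, (ShortComplex.mk (jI.f n) (πI.f n) (wI n)).Exact)
    (hC' : ∀ n, 0 < n → C'.ExactAt n) (hC : ∀ n, 0 < n → C.ExactAt n) (hC'' : ∀ n, 0 < n → C''.ExactAt n)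
    (hI' : ∀ n, 0 < n → I'.ExactAt n) (hI : ∀ n, 0 < n → I.ExactAt n) (hI'' : ∀ n, 0 < n → I''.ExactAt n)
    (injI' : ∀ n, Injective (I'.X n)) (injI : ∀ n, Injective (I.X n)) (injI'' : ∀ n, Injective (I''.X n))
    (g' : C'.homology 0 ⟶ I'.homology 0) (g : C.homology 0 ⟶ I.homology 0)
    (g'' : C''.homology 0 ⟶ I''.homology 0)
    (hg1 : HomologicalComplex.homologyMap jC 0 ≫ g = g' ≫ HomologicalComplex.homologyMap jI 0)
    (hg2 : HomologicalComplex.homologyMap πC 0 ≫ g'' = g ≫ HomologicalComplex.homologyMap πI 0) :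
    ∃ (f' : C' ⟶ I') (f : C ⟶ I) (f'' : C'' ⟶ I''),
      jC ≫ f = f' ≫ jI ∧ πC ≫ f'' = f ≫ πI ∧
      HomologicalComplex.homologyMap f' 0 = g' ∧ HomologicalComplex.homologyMap f 0 = g ∧
      HomologicalComplex.homologyMap f'' 0 = g'' := by
  classical
  let Z : CochainComplex V ℕ := HomologicalComplex.zero
  have hZX : ∀ n, IsZero (Z.X n) := fun n => isZero_zero V
  have hZex : ∀ n, 0 < n → Z.ExactAt n := fun n _ =>
    ShortComplex.exact_of_isZero_X₂ _ (hZX n)
  -- Step 1: the map `f'`.
  obtain ⟨f', -, hf'⟩ := Groth.Agent.H67.ExtLemma.exists_extension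
    (K := Z) (S := Z) (C := C') (I := I') (𝟙 Z) 0 0
    (fun n => by dsimp; infer_instance) (fun n => by simp)
    (fun n => ShortComplex.exact_of_isZero_X₂ _ (hZX n)) hZex hZex (fun n => by simp)
    hC' injI' g' (by simp)
  -- Step 2: the map `f`.
  obtain ⟨f, hf, hfg⟩ := Groth.Agent.H67.ExtLemma.exists_extension
    (K := Z) (S := C') (C := C) (I := I) 0 jC (f' ≫ jI)
    (fun n => ⟨fun a b _ => (hZX n).eq_of_tgt a b⟩) (fun n => by simp)
    (fun n => by
      have := mC n
      exact (ShortComplex.exact_iff_mono _ (by simp)).2 (mC n)) hZex hC' (fun n => by simp)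
    hC injI g (by rw [hg1, HomologicalComplex.homologyMap_comp, hf'])
  -- Step 3: the map `f''`.
  obtain ⟨f'', hf'', hfg''⟩ := Groth.Agent.H67.ExtLemma.exists_extension
    (K := C') (S := C) (C := C'') (I := I'') jC πC (f ≫ πI) mC wC exC hC' hC
    (fun n => by
      have h1 : jC.f n ≫ f.f n = f'.f n ≫ jI.f n := by
        have := congrArg (fun t => t.f n) hf
        simpa using this
      rw [HomologicalComplex.comp_f, ← Category.assoc, h1, Category.assoc, wI, comp_zero])
    hC'' injI'' g'' (by rw [hg2, HomologicalComplex.homologyMap_comp, hfg])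
  exact ⟨f', f, f'', hf, hf'', hf', hfg, hfg''⟩

end Groth.Agent.S13375
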