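import Groth.Statements.S13378
import Groth.Agent.H67.ProCompl
import Groth.Agent.H67.FiniteIndexSep

set_option autoImplicit false
universe u
open ProCompl

namespace Groth.Agent.S13378

open CategoryTheory ProfiniteGrp ProfiniteGrp.ProfiniteCompletion Groth.Agent.H67

/-- For an abelian group A (written multiplicatively, discrete) and a subgroup A' such that the quotient
A/A' has no nontrivial divisible element and its torsion elements are killed by one positive
integer, the map induced on profinite completions by the inclusion of A' in A is injective. (The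
published statement is for topological abelian groups in which every nA is open, with completions
formed from open subgroups of finite index; this row is the case of the discrete topology.) -/
theorem result (A : Type u) [CommGroup A] (A' : Subgroup A)
    (hdiv : ∀ x : A ⧸ A', (∀ n : ℕ, 0 < n → ∃ y : A ⧸ A', y ^ n = x) → x = 1)
    (htors : ∃ N : ℕ, 0 < N ∧ ∀ x : A ⧸ A', IsOfFinOrder x → x ^ N = 1) :
    Function.Injective (ProfiniteGrp.profiniteCompletion.map (GrpCat.ofHom A'.subtype)).hom := by
  set i : GrpCat.of A' ⟶ GrpCat.of A := GrpCat.ofHom A'.subtype with hi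
  refine (injective_iff_map_eq_one (profiniteCompletion.map i).hom).2 ?_
  intro y hy
  have hy' := (pc_map_eq_one_iff i y).1 hy
  apply pc_ext (G := GrpCat.of A')
  intro N'
  refine Eq.trans ?_ (map_one (pcProj (GrpCat.of A') N')).symm
  obtain ⟨N, hNfi, hN⟩ := exists_finiteIndex_inf_le A' htors N'.toSubgroup
  let Nf : FiniteIndexNormalSubgroup (GrpCat.of A) :=
    { toSubgroup := N
      isNormal' := inferInstance
      isFiniteIndex' := hNfi }
  have h1 := hy' Nf
  have hle : Nf.comap i.hom ≤ N' := fun a ha => hN a ha
  have hcompat := pc_compat y hle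
  obtain ⟨b, hb⟩ := QuotientGroup.mk_surjective (pcProj (GrpCat.of A') (Nf.comap i.hom) y)
  rw [← hb] at h1 hcompat
  have hbN : ((b : A')  : A) ∈ N := by
    have h2 : (QuotientGroup.mk (i.hom b) : A ⧸ Nf.toSubgroup) = 1 := h1
    exact (QuotientGroup.eq_one_iff _).1 h2
  have hbN' : b ∈ N'.toSubgroup := hN b hbN
  rw [← hcompat]
  change (QuotientGroup.mk b : A' ⧸ N'.toSubgroup) = 1
  exact (QuotientGroup.eq_one_iff _).2 hbN'

end Groth.Agent.S13378
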