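import Groth.Statements.S13379
import Groth.Agent.H67.ProCompl

set_option autoImplicit false
universe u
open ProCompl

namespace Groth.Agent.S13379

open CategoryTheory ProfiniteGrp ProfiniteGrp.ProfiniteCompletion Groth.Agent.H67

/-- Profinite completion is right exact: for an abelian group A (written multiplicatively, discrete) and
a subgroup A', the map on profinite completions induced by A → A/A' is surjective and its kernel is
the image of the completion of A'. (The published statement is right-exactness for topological
abelian groups with completions formed from open subgroups of finite index; this row is the case of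
the discrete topology.) -/
theorem result (A : Type u) [CommGroup A] (A' : Subgroup A) :
    Function.Surjective (ProfiniteGrp.profiniteCompletion.map (GrpCat.ofHom (QuotientGroup.mk' A'))).hom ∧
      (ProfiniteGrp.profiniteCompletion.map (GrpCat.ofHom (QuotientGroup.mk' A'))).hom.toMonoidHom.ker =
        (ProfiniteGrp.profiniteCompletion.map (GrpCat.ofHom A'.subtype)).hom.toMonoidHom.range := by
  set q : GrpCat.of A ⟶ GrpCat.of (A ⧸ A') := GrpCat.ofHom (QuotientGroup.mk' A') with hq
  set i : GrpCat.of A' ⟶ GrpCat.of A := GrpCat.ofHom A'.subtype with hi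
  refine ⟨pc_surjective_of_surjective q (QuotientGroup.mk'_surjective A'), ?_⟩
  ext x
  simp only [MonoidHom.mem_ker, MonoidHom.mem_range]
  constructor
  · -- kernel is contained in the range
    intro hx
    have hx' := (pc_map_eq_one_iff q x).1 hx
    suffices h : x ∈ Set.range (profiniteCompletion.map i).hom from h
    apply pc_mem_range_of_approx i x
    intro N
    -- the subgroup `N ⊔ A'` and its image in the quotient
    let M : Subgroup A := N.toSubgroup ⊔ A'
    have hMfi : M.FiniteIndex := Subgroup.finiteIndex_of_le (H := N.toSubgroup) le_sup_left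
    have hM'fi : (M.map (QuotientGroup.mk' A')).FiniteIndex :=
      ⟨fun h0 => hMfi.index_ne_zero (Nat.eq_zero_of_zero_dvd
        (h0 ▸ M.index_map_dvd (QuotientGroup.mk'_surjective A')))⟩
    let N'' : FiniteIndexNormalSubgroup (GrpCat.of (A ⧸ A')) :=
      { toSubgroup := M.map (QuotientGroup.mk' A')
        isNormal' := inferInstance
        isFiniteIndex' := hM'fi }
    have hproj := hx' N''
    obtain ⟨a, ha⟩ := QuotientGroup.mk_surjective (pcProj (GrpCat.of A) N x)
    have hNle : N ≤ N''.comap q.hom := by
      intro n hn
      change (QuotientGroup.mk' A') n ∈ M.map (QuotientGroup.mk' A')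
      exact Subgroup.mem_map_of_mem _ (Subgroup.mem_sup_left hn)
    have hcompat := pc_compat x hNle
    rw [← ha] at hcompat
    rw [← hcompat] at hproj
    have h1 : (QuotientGroup.mk' A' a : A ⧸ A') ∈ M.map (QuotientGroup.mk' A') := by
      have h2 : ((QuotientGroup.mk (q.hom a) : (A ⧸ A') ⧸ N''.toSubgroup)) = 1 := hproj
      rw [QuotientGroup.eq_one_iff] at h2
      exact h2
    rw [Subgroup.mem_map] at h1
    obtain ⟨m, hm, hma⟩ := h1
    have h3 : m⁻¹ * a ∈ A' := by
      have := QuotientGroup.eq.1 hma
      exact this
    obtain ⟨n, hn, a', ha', hna⟩ := Subgroup.mem_sup.1 hm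
    -- `a = n * (a' * (m⁻¹ * a))`
    let b : A' := ⟨a' * (m⁻¹ * a), A'.mul_mem ha' h3⟩
    refine ⟨b, ?_⟩
    rw [pcProj_etaFn, ← ha]
    apply QuotientGroup.eq.2
    have : ((i.hom b : A))⁻¹ * a = n := by
      change (a' * (m⁻¹ * a))⁻¹ * a = n
      have e : a' * (m⁻¹ * a) = n⁻¹ * a := by
        rw [← hna, mul_inv_rev, ← mul_assoc, ← mul_assoc, mul_inv_cancel, one_mul]
      rw [e, mul_inv_rev, inv_inv, mul_comm a⁻¹ n, mul_assoc, inv_mul_cancel, mul_one]
    rw [this]
    exact hn
  · -- the range is contained in the kernel
    rintro ⟨y, rfl⟩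
    refine (pc_map_eq_one_iff q ((profiniteCompletion.map i).hom y)).2 ?_
    intro N''
    have e1 := pc_map_proj i (N''.comap q.hom) y
    obtain ⟨b, hb⟩ := QuotientGroup.mk_surjective
      (pcProj (GrpCat.of A') ((N''.comap q.hom).comap i.hom) y)
    rw [← hb] at e1
    have e2 : pcProj (GrpCat.of A) (N''.comap q.hom) ((profiniteCompletion.map i).hom y) =
        QuotientGroup.mk (i.hom b) := e1
    refine (congrArg _ e2).trans ?_
    change (QuotientGroup.mk (q.hom (i.hom b)) : (A ⧸ A') ⧸ N''.toSubgroup) = 1
    have : q.hom (i.hom b) = 1 := by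
      change (QuotientGroup.mk' A') (A'.subtype b) = 1
      rw [QuotientGroup.mk'_apply, QuotientGroup.eq_one_iff]
      exact b.2
    rw [this]
    rfl

end Groth.Agent.S13379
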