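import Groth.Statements.S1338
import Groth.Agent.H7.GeomCnt.CntMain
import Groth.Agent.S5880

set_option autoImplicit false
universe u
open FlatMor

namespace Groth.Agent.S1338

open AlgebraicGeometry CategoryTheory Limits in
/-- For a morphism of finite presentation, each level set of the function counting the irreducible
components of the geometric fibres is locally constructible in the target. -/
theorem result {X Y : Scheme.{u}} (f : X ⟶ Y) [LocallyOfFinitePresentation f] [QuasiCompact f] [QuasiSeparated f] (n : ℕ∞) :
    Topology.IsLocallyConstructible {y : ↑Y | MoreMor.nGeomIrredComp f y = n} := by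
  classical
  -- the property: the fibre of `g` over every point of `T` has `n` geometric components
  let P : ∀ ⦃X Y T : Scheme.{u}⦄, (X ⟶ Y) → (Y ⟶ T) → Prop :=
    fun _ _ T _ g => ∀ t : ↥T, MoreMor.nGeomIrredComp g t = n
  have hlocus : ∀ {X Y S : Scheme.{u}} (f : X ⟶ Y) (g : Y ⟶ S),
      ConsProp.locusMor P f g = {s : ↥S | MoreMor.nGeomIrredComp g s = n} := by
    intro X Y S f g
    ext s
    have hbc : ∀ t, MoreMor.nGeomIrredComp (g.fiberToSpecResidueField s) t =
        MoreMor.nGeomIrredComp g s := fun t => by
      have := Groth.Agent.H7.nGeomIrredComp_eq_of_isPullback g (g.fiberToSpecResidueField s)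
        (g.fiberι s) (S.fromSpecResidueField s) (IsPullback.of_hasPullback _ _) t
      rw [this, Scheme.fromSpecResidueField_apply]
    simp only [ConsProp.locusMor, Set.mem_setOf_eq, P]
    constructor
    · intro h
      have t : ↥(Spec (S.residueField s)) := Classical.arbitrary _
      rw [← hbc t]
      exact h t
    · intro h t
      rw [hbc t]
      exact h
  have hP : ConsProp.IsConsMor P := by
    refine ⟨?_, ?_⟩
    · intro X X' Y Y' T T' f g f' g' eX eY h _ _ _ _ _ _ _ _ hsq _
      have hbc : ∀ t', MoreMor.nGeomIrredComp g' t' = MoreMor.nGeomIrredComp g (h t') := fun t' =>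
        Groth.Agent.H7.nGeomIrredComp_eq_of_isPullback g g' eY h hsq t'
      constructor
      · intro hg t'
        rw [hbc]
        exact hg _
      · intro hg' t
        have t' : ↥T' := Classical.arbitrary _
        have : h t' = t := Subsingleton.elim _ _
        rw [← this, ← hbc]
        exact hg' t'
    · intro X Y S f g _ _ _ _ _ _
      rw [hlocus]
      obtain ⟨V, hVne, H⟩ := Groth.Agent.H7.GeomCnt.exists_open_nGeomIrredComp_eq g
      by_cases hn : MoreMor.nGeomIrredComp g (genericPoint ↥S) = n
      · left
        obtain ⟨v, hv⟩ := hVne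
        refine ⟨v, mem_interior.mpr ⟨V, fun s hs => ?_, V.isOpen, hv⟩⟩
        show MoreMor.nGeomIrredComp g s = n
        rw [H s hs, hn]
      · right
        obtain ⟨v, hv⟩ := hVne
        refine ⟨v, mem_interior.mpr ⟨V, fun s hs => ?_, V.isOpen, hv⟩⟩
        show ¬ (MoreMor.nGeomIrredComp g s = n)
        rw [H s hs]
        exact hn
  haveI : LocallyOfFinitePresentation (𝟙 X ≫ f) := by rw [Category.id_comp]; infer_instance
  haveI : QuasiCompact (𝟙 X ≫ f) := by rw [Category.id_comp]; infer_instance
  haveI : QuasiSeparated (𝟙 X ≫ f) := by rw [Category.id_comp]; infer_instance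
  have := Groth.Agent.S5880.result hP (𝟙 X) f
  rwa [hlocus] at this

end Groth.Agent.S1338
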