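import Groth.Statements.S13386

set_option autoImplicit false
universe u
open scoped TensorProduct
open ZeroCyc

namespace Groth.Agent.S13386

/-- Let A' = T⁻¹A be a localization of the ring A, M an A-module and M' = A' ⊗_A M. In the divided power
algebra Γ_{A'}(M') the A'-span of the d-th divided powers γ_d(1 ⊗ m), m ∈ M, is the A'-span of
γ_d(M'). (The published statement phrases this as the surjectivity of the natural map from (γ_d(M))
⊗_A A' onto (γ_d(M')); its further clause through the base-change isomorphism Γ_A(M) ⊗_A A' ≅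
Γ_{A'}(M') is not restated here.) -/
theorem result {A A' M : Type u} [CommRing A] [CommRing A']
    [Algebra A A'] (T : Submonoid A) [IsLocalization T A'] [AddCommGroup M] [Module A M] (d : ℕ) :
    Submodule.span A' (Set.range fun m : M => DividedPowerAlgebra.dp A' d ((1 : A') ⊗ₜ[A] m)) =
      Submodule.span A' (Set.range (DividedPowerAlgebra.dp A' d (M := A' ⊗[A] M))) := by
  -- every element of `A' ⊗ M` is of the form `c • (1 ⊗ m)`
  have hform : ∀ x : A' ⊗[A] M, ∃ (c : A') (m : M), c • ((1 : A') ⊗ₜ[A] m) = x := by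
    intro x
    induction x using TensorProduct.induction_on with
    | zero => exact ⟨0, 0, by simp⟩
    | tmul a m =>
      exact ⟨a, m, by rw [TensorProduct.smul_tmul', smul_eq_mul, mul_one]⟩
    | add x y hx hy =>
      obtain ⟨c, m, rfl⟩ := hx
      obtain ⟨c', m', rfl⟩ := hy
      obtain ⟨⟨a, s⟩, hc⟩ := IsLocalization.surj T c
      obtain ⟨⟨a', s'⟩, hc'⟩ := IsLocalization.surj T c'
      simp only at hc hc'
      -- common denominator `s * s'`
      obtain ⟨u, hu⟩ := IsLocalization.map_units A' (s * s')
      refine ⟨(↑u⁻¹ : A'), (s' : A) • a • m + (s : A) • a' • m', ?_⟩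
      have e1 : c = (↑u⁻¹ : A') * algebraMap A A' ((s' : A) * a) := by
        rw [Units.eq_inv_mul_iff_mul_eq, hu]
        simp only [Submonoid.coe_mul, map_mul]
        rw [← hc]; ring
      have e2 : c' = (↑u⁻¹ : A') * algebraMap A A' ((s : A) * a') := by
        rw [Units.eq_inv_mul_iff_mul_eq, hu]
        simp only [Submonoid.coe_mul, map_mul]
        rw [← hc']; ring
      have h1 : ∀ (r : A) (n : M), ((1 : A') ⊗ₜ[A] (r • n)) = algebraMap A A' r • ((1 : A') ⊗ₜ[A] n) := by
        intro r n
        rw [TensorProduct.tmul_smul, Algebra.algebraMap_eq_smul_one, TensorProduct.smul_tmul',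
          TensorProduct.smul_tmul', smul_eq_mul, mul_one]
      rw [TensorProduct.tmul_add, smul_add, smul_smul (s' : A) a m, smul_smul (s : A) a' m', h1, h1,
        smul_smul, smul_smul, ← e1, ← e2]
  apply le_antisymm
  · apply Submodule.span_mono
    rintro _ ⟨m, rfl⟩
    exact ⟨_, rfl⟩
  · rw [Submodule.span_le]
    rintro _ ⟨x, rfl⟩
    obtain ⟨c, m, rfl⟩ := hform x
    rw [DividedPowerAlgebra.dp_smul]
    exact Submodule.smul_mem _ _ (Submodule.subset_span ⟨m, rfl⟩)

end Groth.Agent.S13386
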