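import Groth.Statements.S13389
import Groth.Agent.H67.DpVandermonde

set_option autoImplicit false
universe u
open ZeroCyc

namespace Groth.Agent.S13389

open Polynomial in
/-- Let P_d(T) = ∏_{0 ≤ i < j ≤ d} (T^i − T^j) − 1 ∈ ℤ[T]. If A is an algebra over ℤ[T]/(P_d), i.e.
receives a ring homomorphism from it, then for every A-module M the degree-d piece Γ^d_A(M) of the
divided power algebra Γ_A(M) is spanned over A by the d-th divided powers γ_d(m), m ∈ M. (The
published statement adds that consequently every ring has a finite faithfully flat extension,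
independent of M, over which this holds; that clause is not restated.) -/
theorem result {A M : Type u} [CommRing A] [AddCommGroup M]
    [Module A M] (d : ℕ)
    (φ : (ℤ[X] ⧸ Ideal.span {(∏ j ∈ Finset.range (d + 1), ∏ i ∈ Finset.range j,
        ((X : ℤ[X]) ^ i - X ^ j)) - 1}) →+* A) :
    Submodule.span A (Set.range (DividedPowerAlgebra.dp A d : M → DividedPowerAlgebra A M)) =
      PolLaw.gammaPiece A M d := by
  classical
  have key : ∀ (P : ℤ[X]) (ψ : ℤ[X] ⧸ Ideal.span {P - 1} →+* A),
      ψ (Ideal.Quotient.mk _ P) = 1 := by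
    intro P ψ
    have h0 : (Ideal.Quotient.mk (Ideal.span {P - 1})) (P - 1) = 0 :=
      Ideal.Quotient.eq_zero_iff_mem.2 (Ideal.subset_span rfl)
    have h1 : (Ideal.Quotient.mk (Ideal.span {P - 1})) P = 1 := by
      rw [map_sub, map_one, sub_eq_zero] at h0
      exact h0
    rw [h1, map_one]
  set t : A := φ (Ideal.Quotient.mk _ X) with ht
  have hprod : ∏ j ∈ Finset.range (d + 1), ∏ i ∈ Finset.range j, (t ^ i - t ^ j) = 1 := by
    have h2 := key _ φ
    simpa only [map_prod, map_sub, map_pow] using h2
  have hunit : ∀ i j : ℕ, i < j → j ≤ d → IsUnit (t ^ i - t ^ j) := by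
    intro i j hij hjd
    have h1 : IsUnit (∏ j ∈ Finset.range (d + 1), ∏ i ∈ Finset.range j, (t ^ i - t ^ j)) := by
      rw [hprod]; exact isUnit_one
    have h2 := (IsUnit.prod_iff).1 h1 j (Finset.mem_range.2 (Nat.lt_succ_of_le hjd))
    exact (IsUnit.prod_iff).1 h2 i (Finset.mem_range.2 hij)
  apply le_antisymm
  · rw [Submodule.span_le]
    rintro _ ⟨m, rfl⟩
    refine Submodule.subset_span ⟨1, fun _ => d, fun _ => m, by simp, by simp⟩
  · unfold PolLaw.gammaPiece
    rw [Submodule.span_le]
    rintro _ ⟨n, k, m, hk, rfl⟩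
    have := Groth.Agent.H67.prod_dp_mem_span t d hunit n k m (le_of_eq hk)
    rwa [hk] at this

end Groth.Agent.S13389
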