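import Groth.Statements.S13399
import Groth.Agent.H68.LawGammaGen

set_option autoImplicit false
universe u
open scoped TensorProduct
open ZeroCyc

namespace Groth.Agent.S13399

open Groth.Agent.H68 Groth.Agent.H68.LC Groth.Agent.H68.CR

lemma exists_fin_sum' {A : Type u} [CommRing A] {B : Type u} [CommRing B] [Algebra A B]
    {S : Type u} [CommSemiring S] [Algebra A S] (x : S ⊗[A] B) :
    ∃ (n : ℕ) (s : Fin n → S) (b : Fin n → B), x = ∑ j, s j ⊗ₜ[A] b j := by
  obtain ⟨J, _, s, b, rfl⟩ := exists_fintype_sum (A := A) x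
  let e := Fintype.equivFin J
  refine ⟨Fintype.card J, s ∘ e.symm, b ∘ e.symm, ?_⟩
  rw [← Equiv.sum_comp e.symm]
  rfl

/-- The measure used in the induction: the total exponent of the variables other than `none`. -/
def msr {n : ℕ} (l : Option (Fin n) →₀ ℕ) : ℕ := ∑ i : Fin n, l (some i)

lemma msr_add {n : ℕ} (l l' : Option (Fin n) →₀ ℕ) : msr (l + l') = msr l + msr l' := by
  simp [msr, Finset.sum_add_distrib]

lemma msr_single_none {n : ℕ} : msr (Finsupp.single (none : Option (Fin n)) 1) = 0 := by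
  simp [msr]

lemma msr_single_some {n : ℕ} (i : Fin n) :
    msr (Finsupp.single (some i : Option (Fin n)) 1) = 1 := by
  simp [msr, Finsupp.single_apply]

section

variable {A B Cd Ce : Type u} [CommRing A] [CommRing B] [Algebra A B]
    [CommRing Cd] [Algebra A Cd] [CommRing Ce] [Algebra A Ce] {e : ℕ}
    (γd : PolLaw.MulLaw A B Cd (e + 1)) (γe : PolLaw.MulLaw A B Ce e)
    (ω : Cd ⊗[A] B →ₐ[A] Ce ⊗[A] B)
    (hω : ∀ (S : Type u) [CommSemiring S] [Algebra A S] (x y : S ⊗[A] B),
      ω.toLinearMap.lTensor S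
        ((Algebra.TensorProduct.includeLeft : Cd →ₐ[A] Cd ⊗[A] B).toLinearMap.lTensor S (γd.law.toFun' S x) *
          (Algebra.TensorProduct.includeRight : B →ₐ[A] Cd ⊗[A] B).toLinearMap.lTensor S y) =
      (Algebra.TensorProduct.includeLeft : Ce →ₐ[A] Ce ⊗[A] B).toLinearMap.lTensor S (γe.law.toFun' S x) *
        (Algebra.TensorProduct.includeRight : B →ₐ[A] Ce ⊗[A] B).toLinearMap.lTensor S (x * y))

include hω

/-- The coefficientwise form of the defining identity of `ω`. -/
lemma omega_coeff {J : Type} [Fintype J] [DecidableEq J] (f : J → B) (κ : J →₀ ℕ) :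
    ω (coeffE γd.law f Finset.univ κ ⊗ₜ[A] (1 : B)) =
      ∑ p ∈ ((coeffE γe.law f Finset.univ).support ×ˢ (Finset.univ : Finset J)).filter
        (fun p => p.1 + Finsupp.single p.2 1 = κ),
        coeffE γe.law f Finset.univ p.1 ⊗ₜ[A] f p.2 := by
  let P := MvPolynomial J A
  let x : P ⊗[A] B := genE f Finset.univ
  have h := hω P x 1
  have h1 : (Algebra.TensorProduct.includeRight : B →ₐ[A] Cd ⊗[A] B).toLinearMap.lTensor P
      (1 : P ⊗[A] B) = 1 := by
    rw [PolLaw.lTensor_algHom_apply, map_one]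
  rw [h1, mul_one, mul_one] at h
  have hL : Φ J A (Ce ⊗[A] B) (ω.toLinearMap.lTensor P
      ((Algebra.TensorProduct.includeLeft : Cd →ₐ[A] Cd ⊗[A] B).toLinearMap.lTensor P
        (γd.law.toFun' P x))) κ = Φ J A (Ce ⊗[A] B)
      ((Algebra.TensorProduct.includeLeft : Ce →ₐ[A] Ce ⊗[A] B).toLinearMap.lTensor P
          (γe.law.toFun' P x) *
        (Algebra.TensorProduct.includeRight : B →ₐ[A] Ce ⊗[A] B).toLinearMap.lTensor P x) κ := by
    rw [h]
  rw [Φ_lTensor, Φ_lTensor] at hL
  have hcd : Φ J A Cd (γd.law.toFun' P x) κ = coeffE γd.law f Finset.univ κ := rfl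
  rw [hcd] at hL
  rw [AlgHom.toLinearMap_apply, AlgHom.toLinearMap_apply,
    Algebra.TensorProduct.includeLeft_apply] at hL
  rw [hL]
  -- the right-hand side
  have hx : (Algebra.TensorProduct.includeRight : B →ₐ[A] Ce ⊗[A] B).toLinearMap.lTensor P x =
      ∑ j, (MvPolynomial.monomial (Finsupp.single j 1) (1 : A) : P) ⊗ₜ[A]
        ((1 : Ce) ⊗ₜ[A] f j) := by
    show (Algebra.TensorProduct.includeRight : B →ₐ[A] Ce ⊗[A] B).toLinearMap.lTensor P
      (genE f Finset.univ) = _
    rw [genE, map_sum]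
    refine Finset.sum_congr rfl fun j _ => ?_
    rw [LinearMap.lTensor_tmul, AlgHom.toLinearMap_apply,
      Algebra.TensorProduct.includeRight_apply]
    rfl
  have hγ : (Algebra.TensorProduct.includeLeft : Ce →ₐ[A] Ce ⊗[A] B).toLinearMap.lTensor P
      (γe.law.toFun' P x) =
      ∑ l ∈ (coeffE γe.law f Finset.univ).support,
        (MvPolynomial.monomial l (1 : A) : P) ⊗ₜ[A]
          (coeffE γe.law f Finset.univ l ⊗ₜ[A] (1 : B)) := by
    conv_lhs => rw [eq_sum (γe.law.toFun' P x)]
    rw [Finsupp.sum, map_sum]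
    refine Finset.sum_congr rfl fun l _ => ?_
    rw [LinearMap.lTensor_tmul, AlgHom.toLinearMap_apply,
      Algebra.TensorProduct.includeLeft_apply]
    rfl
  rw [hx, hγ, Finset.sum_mul_sum, ← Finset.sum_product']
  have hterm : ∀ p ∈ (coeffE γe.law f Finset.univ).support ×ˢ (Finset.univ : Finset J),
      ((MvPolynomial.monomial p.1 (1 : A) : P) ⊗ₜ[A]
          (coeffE γe.law f Finset.univ p.1 ⊗ₜ[A] (1 : B))) *
        ((MvPolynomial.monomial (Finsupp.single p.2 1) (1 : A) : P) ⊗ₜ[A]
          ((1 : Ce) ⊗ₜ[A] f p.2)) =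
      (MvPolynomial.monomial (p.1 + Finsupp.single p.2 1) (1 : A) : P) ⊗ₜ[A]
        (coeffE γe.law f Finset.univ p.1 ⊗ₜ[A] f p.2) := by
    intro p _
    rw [Algebra.TensorProduct.tmul_mul_tmul, Algebra.TensorProduct.tmul_mul_tmul,
      MvPolynomial.monomial_mul, one_mul, mul_one, one_mul]
  rw [Finset.sum_congr rfl hterm, Φ_sum_monomial_tmul]


/-- `ω (1 ⊗ y) = 1 ⊗ y`. -/
lemma omega_one_tmul (y : B) : ω ((1 : Cd) ⊗ₜ[A] y) = (1 : Ce) ⊗ₜ[A] y := by
  have h := hω A 1 ((1 : A) ⊗ₜ[A] y)
  rw [(γd.mult A).1, (γe.mult A).1, one_mul] at h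
  have h1 : (Algebra.TensorProduct.includeLeft : Cd →ₐ[A] Cd ⊗[A] B).toLinearMap.lTensor A
      (1 : A ⊗[A] Cd) = 1 := by
    rw [PolLaw.lTensor_algHom_apply, map_one]
  have h2 : (Algebra.TensorProduct.includeLeft : Ce →ₐ[A] Ce ⊗[A] B).toLinearMap.lTensor A
      (1 : A ⊗[A] Ce) = 1 := by
    rw [PolLaw.lTensor_algHom_apply, map_one]
  rw [h1, h2, one_mul, one_mul, LinearMap.lTensor_tmul, LinearMap.lTensor_tmul,
    LinearMap.lTensor_tmul, AlgHom.toLinearMap_apply, AlgHom.toLinearMap_apply,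
    AlgHom.toLinearMap_apply, Algebra.TensorProduct.includeRight_apply,
    Algebra.TensorProduct.includeRight_apply] at h
  have h3 := congrArg (TensorProduct.lid A (Ce ⊗[A] B)) h
  rw [TensorProduct.lid_tmul, TensorProduct.lid_tmul, one_smul, one_smul] at h3
  exact h3

/-- The coefficients of `γe` with respect to a family containing `1` lie in the range of `ω`. -/
lemma coeff_tmul_one_mem {n : ℕ} (b : Fin n → B) (l : Option (Fin n) →₀ ℕ) :
    coeffE γe.law (fun o : Option (Fin n) => o.elim 1 b) Finset.univ l ⊗ₜ[A] (1 : B) ∈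
      ω.range := by
  classical
  induction hN : msr l using Nat.strong_induction_on generalizing l with
  | _ N ih =>
  set f : Option (Fin n) → B := fun o => o.elim 1 b with hf
  by_cases hl : l ∈ (coeffE γe.law f Finset.univ).support
  swap
  · rw [Finsupp.notMem_support_iff.mp hl, TensorProduct.zero_tmul]
    exact ω.range.zero_mem
  have key := omega_coeff γd γe ω hω f (l + Finsupp.single none 1)
  set T := ((coeffE γe.law f Finset.univ).support ×ˢ
    (Finset.univ : Finset (Option (Fin n)))).filter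
      (fun p => p.1 + Finsupp.single p.2 1 = l + Finsupp.single none 1) with hT
  have hmem : ((l, none) : (Option (Fin n) →₀ ℕ) × Option (Fin n)) ∈ T := by
    rw [hT, Finset.mem_filter, Finset.mem_product]
    exact ⟨⟨hl, Finset.mem_univ _⟩, rfl⟩
  rw [← Finset.add_sum_erase T _ hmem] at key
  have hrest : ∑ p ∈ T.erase (l, none), coeffE γe.law f Finset.univ p.1 ⊗ₜ[A] f p.2 ∈
      ω.range := by
    refine ω.range.sum_mem fun p hp => ?_
    rw [Finset.mem_erase, hT, Finset.mem_filter] at hp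
    obtain ⟨hne, -, heq⟩ := hp
    obtain ⟨l', j⟩ := p
    simp only at heq hne ⊢
    cases j with
    | none =>
      exfalso
      apply hne
      rw [add_right_cancel heq]
    | some i =>
      have hm : msr l' + 1 = msr l := by
        have := congrArg msr heq
        rw [msr_add, msr_add, msr_single_none, msr_single_some, add_zero] at this
        exact this
      have h1 : coeffE γe.law f Finset.univ l' ⊗ₜ[A] (1 : B) ∈ ω.range :=
        ih (msr l') (by omega) l' rfl
      have h2 : (1 : Ce) ⊗ₜ[A] f (some i) ∈ ω.range :=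
        ⟨(1 : Cd) ⊗ₜ[A] f (some i), omega_one_tmul γd γe ω hω _⟩
      have h3 := ω.range.mul_mem h1 h2
      rw [Algebra.TensorProduct.tmul_mul_tmul, mul_one, one_mul] at h3
      exact h3
  have hval : coeffE γe.law f Finset.univ l ⊗ₜ[A] (1 : B) =
      ω (coeffE γd.law f Finset.univ (l + Finsupp.single none 1) ⊗ₜ[A] (1 : B)) -
        ∑ p ∈ T.erase (l, none), coeffE γe.law f Finset.univ p.1 ⊗ₜ[A] f p.2 := by
    rw [key]
    simp [hf]
  rw [hval]
  exact ω.range.sub_mem ⟨_, rfl⟩ hrest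


/-- The law `γe` takes its values in the subalgebra of the `c` with `c ⊗ 1` in the range of `ω`. -/
lemma valuedIn_comap :
    ValuedIn γe.law (ω.range.comap
      (Algebra.TensorProduct.includeLeft : Ce →ₐ[A] Ce ⊗[A] B)).val.toLinearMap where
  inj := Subtype.val_injective
  mem S _ _ z := by
    obtain ⟨n, s, b, rfl⟩ := exists_fin_sum' (A := A) z
    have hz : ∑ j, s j ⊗ₜ[A] b j =
        ∑ o : Option (Fin n), (o.elim 0 s) ⊗ₜ[A] (o.elim 1 b) := by
      rw [Fintype.sum_option]
      simp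
    rw [hz, toFun'_sum, Finsupp.sum]
    refine Submodule.sum_mem _ fun k _ => ?_
    exact ⟨(k.prod fun i a => (i.elim 0 s) ^ a) ⊗ₜ[A]
      ⟨coeffE γe.law (fun o : Option (Fin n) => o.elim 1 b) Finset.univ k,
        coeff_tmul_one_mem γd γe ω hω b k⟩, rfl⟩

/-- Every `c ⊗ 1` lies in the range of `ω`. -/
lemma comap_eq_top (hγe : PolLaw.IsGammaD γe) :
    ω.range.comap (Algebra.TensorProduct.includeLeft : Ce →ₐ[A] Ce ⊗[A] B) = ⊤ := by
  set C' := ω.range.comap (Algebra.TensorProduct.includeLeft : Ce →ₐ[A] Ce ⊗[A] B) with hC'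
  have h : ValuedIn γe.law C'.val.toLinearMap := valuedIn_comap γd γe ω hω
  let γ' := corestrictMul γe C' h
  obtain ⟨f, hf, -⟩ := hγe C' γ'
  have h1 : PolLaw.postcomp (C'.val.comp f).toLinearMap γe.law = γe.law := by
    rw [postcomp_comp, hf]
    exact postcomp_corestrictMul γe C' h
  obtain ⟨g, -, hg⟩ := hγe Ce γe
  have h2 : C'.val.comp f = g := hg _ h1
  have h3 : AlgHom.id A Ce = g := hg _ (postcomp_id γe.law)
  rw [eq_top_iff]
  intro c _
  have : C'.val (f c) = c := by
    have := DFunLike.congr_fun (h2.trans h3.symm) c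
    exact this
  rw [← this]
  exact (f c).2

theorem surjective (hγe : PolLaw.IsGammaD γe) : Function.Surjective ω := by
  rw [← AlgHom.range_eq_top, eq_top_iff]
  intro z hz
  clear hz
  induction z using TensorProduct.induction_on with
  | zero => exact ω.range.zero_mem
  | add x y hx hy => exact ω.range.add_mem hx hy
  | tmul c y =>
    have h1 : c ⊗ₜ[A] (1 : B) ∈ ω.range := by
      have hc : c ∈ ω.range.comap (Algebra.TensorProduct.includeLeft : Ce →ₐ[A] Ce ⊗[A] B) := by
        rw [comap_eq_top γd γe ω hω hγe]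
        exact Algebra.mem_top
      exact hc
    have h2 : (1 : Ce) ⊗ₜ[A] y ∈ ω.range :=
      ⟨(1 : Cd) ⊗ₜ[A] y, omega_one_tmul γd γe ω hω _⟩
    have h3 := ω.range.mul_mem h1 h2
    rw [Algebra.TensorProduct.tmul_mul_tmul, mul_one, one_mul] at h3
    exact h3

end

/-- Let A be a commutative ring, B an A-algebra and e ≥ 0; let (C_{e+1}, γ_{e+1}) and (C_e, γ_e) be the
divided power algebras Γ^{e+1}_A(B) and Γ^e_A(B) of B with their universal multiplicative laws of
degrees e + 1 and e (every multiplicative law of that degree out of B factors uniquely through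
them), and let ω : Γ^{e+1}_A(B) ⊗_A B → Γ^e_A(B) ⊗_A B be Iversen's canonical algebra homomorphism,
taken here as data characterised by ω(γ_{e+1}(x) ⊗ y) = γ_e(x) ⊗ x·y for all x, y ∈ S ⊗_A B and
every base change A → S. Then ω is surjective. -/
theorem result {A B Cd Ce : Type u} [CommRing A] [CommRing B] [Algebra A B]
    [CommRing Cd] [Algebra A Cd] [CommRing Ce] [Algebra A Ce] (e : ℕ)
    (γd : PolLaw.MulLaw A B Cd (e + 1)) (hγd : PolLaw.IsGammaD γd)
    (γe : PolLaw.MulLaw A B Ce e) (hγe : PolLaw.IsGammaD γe)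
    (ω : Cd ⊗[A] B →ₐ[A] Ce ⊗[A] B)
    (hω : ∀ (S : Type u) [CommSemiring S] [Algebra A S] (x y : S ⊗[A] B),
      ω.toLinearMap.lTensor S
        ((Algebra.TensorProduct.includeLeft : Cd →ₐ[A] Cd ⊗[A] B).toLinearMap.lTensor S (γd.law.toFun' S x) *
          (Algebra.TensorProduct.includeRight : B →ₐ[A] Cd ⊗[A] B).toLinearMap.lTensor S y) =
      (Algebra.TensorProduct.includeLeft : Ce →ₐ[A] Ce ⊗[A] B).toLinearMap.lTensor S (γe.law.toFun' S x) *
        (Algebra.TensorProduct.includeRight : B →ₐ[A] Ce ⊗[A] B).toLinearMap.lTensor S (x * y)) :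
    Function.Surjective ω := by
  exact surjective γd γe ω hω hγe

end Groth.Agent.S13399
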