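import Groth.Statements.S13407
import Groth.Agent.H67.HopfDed

set_option autoImplicit false
universe u
open TensorProduct
open Hopf

namespace Groth.Agent.S13407

/-- Let R be a Dedekind domain with fraction field K and let G = Spec A be a finite flat group scheme
over R (A a commutative Hopf algebra over R, finite and flat as an R-module). Closed flat R-subgroup
schemes of G correspond one-to-one to closed K-subgroup schemes of the generic fibre G_K under H ↦
H_K: the map sending a Hopf ideal J' of A with A/J' flat over R to the ideal it generates in K ⊗_R A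
is a bijection onto the set of Hopf ideals of the Hopf algebra K ⊗_R A over K (its inverse takes a
Hopf ideal of K ⊗_R A to its preimage in A). -/
theorem result (R : Type u) [CommRing R] [IsDedekindDomain R]
    (K : Type u) [Field K] [Algebra R K] [IsFractionRing R K]
    (A : Type u) [CommRing A] [HopfAlgebra R A] [Module.Finite R A] [Module.Flat R A] :
    Set.BijOn (fun J' : Ideal A => Ideal.map (Algebra.TensorProduct.includeRight : A →ₐ[R] K ⊗[R] A) J')
      {J' : Ideal A | J'.IsHopfIdeal R ∧ Module.Flat R (A ⧸ J')}
      {J : Ideal (K ⊗[R] A) | J.IsHopfIdeal K} := by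
  have key : ∀ J' : Ideal A, Module.Flat R (A ⧸ J') →
      (J'.map (Algebra.TensorProduct.includeRight : A →ₐ[R] K ⊗[R] A)).comap
        (Algebra.TensorProduct.includeRight : A →ₐ[R] K ⊗[R] A) = J' := by
    intro J' hflat
    refine le_antisymm (fun a ha => ?_) Ideal.le_comap_map
    rw [Ideal.mem_comap] at ha
    obtain ⟨s, j, hs, hj, h⟩ := Groth.Agent.H67.HopfDed.exists_smul_eq_inc_of_mem_map J' ha
    have hinj : Function.Injective (Algebra.TensorProduct.includeRight : A →ₐ[R] K ⊗[R] A) :=
      Algebra.TensorProduct.includeRight_injective (IsFractionRing.injective R K)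
    have h1 : s • a = j := by
      apply hinj
      rw [map_smul]
      exact h
    have h2 : s • (Ideal.Quotient.mk J' a) = 0 := by
      rw [← h1] at hj
      have : Ideal.Quotient.mk J' (s • a) = 0 := Ideal.Quotient.eq_zero_iff_mem.2 hj
      rw [← this]
      rfl
    have h3 := (Module.isTorsionFree_iff_smul_eq_zero.1
      (inferInstance : Module.IsTorsionFree R (A ⧸ J'))) s _ h2
    exact Ideal.Quotient.eq_zero_iff_mem.1 (h3.resolve_left hs)
  refine ⟨?_, ?_, ?_⟩
  · rintro J' ⟨hJ', -⟩
    exact Groth.Agent.H67.HopfDed.isHopfIdeal_map J'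
  · rintro J₁ ⟨-, hf1⟩ J₂ ⟨-, hf2⟩ heq
    dsimp only at heq
    rw [← key J₁ hf1, ← key J₂ hf2, heq]
  · rintro J hJ
    have hJ' : J.IsHopfIdeal K := hJ
    refine ⟨J.comap (Algebra.TensorProduct.includeRight : A →ₐ[R] K ⊗[R] A),
      ⟨Groth.Agent.H67.HopfDed.isHopfIdeal_comap J, ?_⟩,
      Groth.Agent.H67.HopfDed.map_comap_eq J⟩
    have htf := Groth.Agent.H67.HopfDed.isTorsionFree_quot J
    have hflat : Module.Flat R (A ⧸ (J.comap (Algebra.TensorProduct.includeRight :
        A →ₐ[R] K ⊗[R] A)).restrictScalars R) := inferInstance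
    exact Module.Flat.of_linearEquiv
      (Submodule.Quotient.restrictScalarsEquiv R (J.comap (Algebra.TensorProduct.includeRight :
        A →ₐ[R] K ⊗[R] A))).symm

end Groth.Agent.S13407
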