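import Groth.Statements.S13409
import Groth.Agent.H67.GraphLab

set_option autoImplicit false
universe u v
open CombGraph

namespace Groth.Agent.S13409

/-- Let `A` be an abelian group and `G` a finite connected simple graph on `V` that is bipartite for a
two-colouring `c : V → Bool` (adjacent vertices get different colours). If `a : V → A` has the same
sum over the vertices of each colour, then some labelling `x` of the edges by elements of `A` has,
at every vertex `v`, the sum of `x` over the edges incident to `v` equal to `a v`. (The published
statement concerns finite bipartite graphs in general; this row treats simple graphs.) -/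
theorem result {V : Type u} [Fintype V] [DecidableEq V]
    (G : SimpleGraph V) [DecidableRel G.Adj] (hconn : G.Connected) (c : V → Bool)
    (hbip : ∀ v w : V, G.Adj v w → c v ≠ c w) (A : Type v) [AddCommGroup A] (a : V → A)
    (hsum : ∑ v ∈ Finset.univ.filter (fun v => c v = true), a v =
      ∑ v ∈ Finset.univ.filter (fun v => c v = false), a v) :
    ∃ x : Sym2 V → A, ∀ v : V, ∑ e ∈ G.incidenceFinset v, x e = a v := by
  classical
  obtain ⟨r⟩ := hconn.nonempty
  let p : ∀ v, G.Walk v r := fun v => (hconn.preconnected v r).some
  have hε : ∀ v, ((-1 : ℤ) ^ (p v).length) = if c v = c r then 1 else -1 := fun v =>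
    Groth.Agent.H67.GraphLab.neg_one_pow_length c hbip (p v)
  have hzero : ∑ v, (if c v = c r then (1 : ℤ) else -1) • a v = 0 := by
    have h1 : ∀ v, (if c v = c r then (1 : ℤ) else -1) • a v =
        if c v = c r then a v else -a v := by
      intro v; split_ifs <;> simp
    simp only [h1]
    rw [Finset.sum_ite, Finset.sum_neg_distrib]
    cases hr : c r
    · have e1 : (Finset.univ.filter fun v => c v = false) =
          Finset.univ.filter (fun v => c v = false) := rfl
      have e2 : (Finset.univ.filter fun v => ¬ c v = false) =
          Finset.univ.filter (fun v => c v = true) := by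
        ext v; simp
      rw [e2, hsum]; simp
    · have e2 : (Finset.univ.filter fun v => ¬ c v = true) =
          Finset.univ.filter (fun v => c v = false) := by
        ext v; simp
      rw [e2, hsum]; simp
  refine ⟨fun e => ∑ v, Groth.Agent.H67.GraphLab.lab (p v) (a v) e, fun t => ?_⟩
  rw [Finset.sum_comm]
  simp only [Groth.Agent.H67.GraphLab.sum_lab_incidence G le_rfl, hε]
  rw [Finset.sum_sub_distrib, Finset.sum_ite_eq, if_pos (Finset.mem_univ _)]
  by_cases htr : t = r
  · subst htr
    simp only [if_true]
    rw [hzero, sub_zero]
  · simp [htr]

end Groth.Agent.S13409
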