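import Groth.Statements.S13410
import Groth.Agent.H67.GraphLab

set_option autoImplicit false
universe u v
open CombGraph

namespace Groth.Agent.S13410

/-- Let `A` be an abelian group and `G` a finite connected simple graph on `V`, bipartite for a
two-colouring `c`. Consider the additive group of labellings `x : Sym2 V → A` vanishing off the edge
set and with `∑_{e ∋ v} x e = 0` at every vertex `v`. If `e₀` is an edge whose deletion leaves `G`
connected, then evaluation at `e₀` restricted to this group is surjective and split: there is an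
additive map `φ : A → (Sym2 V → A)` with values in this group and with `φ a e₀ = a` for all `a`.
(The published statement concerns finite bipartite graphs in general; this row treats simple
graphs.) -/
theorem result {V : Type u} [Fintype V]
    [DecidableEq V] (G : SimpleGraph V) [DecidableRel G.Adj] (hconn : G.Connected) (c : V → Bool)
    (hbip : ∀ v w : V, G.Adj v w → c v ≠ c w) (A : Type v) [AddCommGroup A] (e₀ : Sym2 V)
    (he₀ : e₀ ∈ G.edgeSet) (hdel : (G.deleteEdges {e₀}).Connected) :
    ∃ φ : A →+ (Sym2 V → A),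
      (∀ a : A, (∀ e : Sym2 V, e ∉ G.edgeSet → φ a e = 0) ∧
        ∀ v : V, ∑ e ∈ G.incidenceFinset v, φ a e = 0) ∧
      ∀ a : A, φ a e₀ = a := by
  classical
  revert he₀ hdel
  refine Sym2.ind (fun u₀ w₀ => ?_) e₀
  intro he₀ hdel
  have hadj : G.Adj u₀ w₀ := by simpa using he₀
  have hle : G.deleteEdges {s(u₀, w₀)} ≤ G := SimpleGraph.deleteEdges_le _
  have hbip' : ∀ v w : V, (G.deleteEdges {s(u₀, w₀)}).Adj v w → c v ≠ c w :=
    fun v w h => hbip v w (hle h)
  let p : (G.deleteEdges {s(u₀, w₀)}).Walk w₀ u₀ := (hdel.preconnected w₀ u₀).some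
  have hε : ((-1 : ℤ) ^ p.length) = -1 := by
    rw [Groth.Agent.H67.GraphLab.neg_one_pow_length c hbip' p, if_neg (hbip u₀ w₀ hadj).symm]
  have he₀' : s(u₀, w₀) ∉ (G.deleteEdges {s(u₀, w₀)}).edgeSet := by
    rw [SimpleGraph.edgeSet_deleteEdges]
    simp
  refine ⟨{ toFun := fun α => Pi.single s(u₀, w₀) α - Groth.Agent.H67.GraphLab.lab p α
            map_zero' := by
              rw [Pi.single_zero, Groth.Agent.H67.GraphLab.lab_zero, sub_zero]
            map_add' := fun α β => by
              rw [Pi.single_add, Groth.Agent.H67.GraphLab.lab_add]; abel }, fun α => ⟨fun e he => ?_, fun t => ?_⟩, fun α => ?_⟩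
  · have hne : e ≠ s(u₀, w₀) := fun h => he (h ▸ he₀)
    have he' : e ∉ (G.deleteEdges {s(u₀, w₀)}).edgeSet := fun h =>
      he (SimpleGraph.edgeSet_mono hle h)
    change ((Pi.single s(u₀, w₀) α - Groth.Agent.H67.GraphLab.lab p α : Sym2 V → A)) e = 0
    rw [Pi.sub_apply, Pi.single_apply, if_neg hne,
      Groth.Agent.H67.GraphLab.lab_apply_of_notMem_edgeSet p α e he', sub_zero]
  · change ∑ e ∈ G.incidenceFinset t,
      ((Pi.single s(u₀, w₀) α - Groth.Agent.H67.GraphLab.lab p α : Sym2 V → A)) e = 0
    simp only [Pi.sub_apply, Finset.sum_sub_distrib]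
    rw [Groth.Agent.H67.GraphLab.sum_single_incidence G hadj,
      Groth.Agent.H67.GraphLab.sum_lab_incidence G hle, hε]
    simp only [neg_zsmul, one_zsmul]
    abel
  · change ((Pi.single s(u₀, w₀) α - Groth.Agent.H67.GraphLab.lab p α : Sym2 V → A)) s(u₀, w₀) = α
    rw [Pi.sub_apply, Pi.single_eq_same,
      Groth.Agent.H67.GraphLab.lab_apply_of_notMem_edgeSet p α _ he₀', sub_zero]

end Groth.Agent.S13410
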