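import Groth.Statements.S13411
import Groth.Agent.H67.GraphLab2

set_option autoImplicit false
universe u v
open CombGraph

namespace Groth.Agent.S13411

/-- Let `A` be an abelian group and `G` a finite connected simple graph on `V`, bipartite for a
two-colouring `c`, with cyclomatic number `n` (number of edges minus number of vertices plus one).
Then the additive group of labellings `x : Sym2 V → A` vanishing off the edge set and with `∑_{e ∋
v} x e = 0` at every vertex `v` is isomorphic to `A^n`: it is the range of an injective additive map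
`(Fin n → A) → (Sym2 V → A)`. (The published statement concerns finite bipartite graphs in general;
this row treats simple graphs.) -/
theorem result {V : Type u} [Fintype V]
    [DecidableEq V] (G : SimpleGraph V) [DecidableRel G.Adj] (hconn : G.Connected) (c : V → Bool)
    (hbip : ∀ v w : V, G.Adj v w → c v ≠ c w) (A : Type v) [AddCommGroup A] (n : ℕ)
    (hn : G.edgeFinset.card + 1 = Fintype.card V + n) :
    ∃ f : (Fin n → A) →+ (Sym2 V → A), Function.Injective f ∧
      Set.range f = {x : Sym2 V → A | (∀ e : Sym2 V, e ∉ G.edgeSet → x e = 0) ∧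
        ∀ v : V, ∑ e ∈ G.incidenceFinset v, x e = 0} := by
  classical
  obtain ⟨T, hTG, hT⟩ := hconn.exists_isTree_le
  have hTcard := hT.card_edgeFinset
  have hsub : T.edgeFinset ⊆ G.edgeFinset := by
    intro e he
    rw [SimpleGraph.mem_edgeFinset] at he ⊢
    exact SimpleGraph.edgeSet_mono hTG he
  have hcard : (G.edgeFinset \ T.edgeFinset).card = n := by
    rw [Finset.card_sdiff_of_subset hsub]
    omega
  let ι : Fin n ≃ ↥(G.edgeFinset \ T.edgeFinset) := (Finset.equivFinOfCardEq hcard).symm
  have hrep : ∀ i : Fin n, ∃ u w : V, (ι i).1 = s(u, w) := fun i => by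
    induction (ι i).1 using Sym2.ind with
    | _ u w => exact ⟨u, w, rfl⟩
  choose u w he using hrep
  have hmem : ∀ i, s(u i, w i) ∈ G.edgeFinset \ T.edgeFinset := fun i => he i ▸ (ι i).2
  have hG : ∀ i, G.Adj (u i) (w i) := fun i => by
    have := (Finset.mem_sdiff.1 (hmem i)).1
    rwa [SimpleGraph.mem_edgeFinset] at this
  have hnT : ∀ i, s(u i, w i) ∉ T.edgeSet := fun i => by
    have := (Finset.mem_sdiff.1 (hmem i)).2
    rwa [SimpleGraph.mem_edgeFinset] at this
  have hinj : ∀ i j, s(u i, w i) = s(u j, w j) → i = j := fun i j h => by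
    apply ι.injective
    apply Subtype.ext
    rw [he i, he j, h]
  have hbipT : ∀ v w : V, T.Adj v w → c v ≠ c w := fun v w h => hbip v w (hTG h)
  let p : ∀ i, T.Walk (w i) (u i) := fun i => (hT.connected.preconnected (w i) (u i)).some
  have hε : ∀ i, ((-1 : ℤ) ^ (p i).length) = -1 := fun i => by
    rw [Groth.Agent.H67.GraphLab.neg_one_pow_length c hbipT (p i),
      if_neg (hbip _ _ (hG i)).symm]
  let F : (Fin n → A) → (Sym2 V → A) := fun α =>
    ∑ i, (Pi.single s(u i, w i) (α i) - Groth.Agent.H67.GraphLab.lab (p i) (α i))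
  have hFeval : ∀ α j, F α s(u j, w j) = α j := by
    intro α j
    simp only [F, Finset.sum_apply, Pi.sub_apply]
    rw [Finset.sum_eq_single j]
    · rw [Pi.single_eq_same,
        Groth.Agent.H67.GraphLab.lab_apply_of_notMem_edgeSet (p j) _ _ (hnT j), sub_zero]
    · intro i _ hij
      rw [Pi.single_apply, if_neg (fun h => hij (hinj i j h.symm)),
        Groth.Agent.H67.GraphLab.lab_apply_of_notMem_edgeSet (p i) _ _ (hnT j), sub_zero]
    · intro h; exact absurd (Finset.mem_univ j) h
  have hFoff : ∀ α e, e ∉ G.edgeSet → F α e = 0 := by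
    intro α e heG
    simp only [F, Finset.sum_apply, Pi.sub_apply]
    refine Finset.sum_eq_zero fun i _ => ?_
    have hne : e ≠ s(u i, w i) := fun h => heG (h ▸ (hG i))
    have heT : e ∉ T.edgeSet := fun h => heG (SimpleGraph.edgeSet_mono hTG h)
    rw [Pi.single_apply, if_neg hne,
      Groth.Agent.H67.GraphLab.lab_apply_of_notMem_edgeSet (p i) _ _ heT, sub_zero]
  have hFbd : ∀ α t, ∑ e ∈ G.incidenceFinset t, F α e = 0 := by
    intro α t
    simp only [F, Finset.sum_apply, Pi.sub_apply]
    rw [Finset.sum_comm]
    refine Finset.sum_eq_zero fun i _ => ?_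
    rw [Finset.sum_sub_distrib, Groth.Agent.H67.GraphLab.sum_single_incidence G (hG i),
      Groth.Agent.H67.GraphLab.sum_lab_incidence G hTG, hε]
    simp only [neg_zsmul, one_zsmul]
    abel
  refine ⟨{ toFun := F
            map_zero' := by
              simp only [F, Pi.zero_apply, Pi.single_zero,
                Groth.Agent.H67.GraphLab.lab_zero, sub_zero, Finset.sum_const_zero]
            map_add' := fun α β => by
              simp only [F, Pi.add_apply, Pi.single_add, Groth.Agent.H67.GraphLab.lab_add]
              rw [← Finset.sum_add_distrib]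
              refine Finset.sum_congr rfl fun i _ => ?_
              abel }, ?_, ?_⟩
  · intro α β hαβ
    funext j
    have := congrFun hαβ s(u j, w j)
    change F α _ = F β _ at this
    rwa [hFeval, hFeval] at this
  · ext x
    simp only [Set.mem_range, Set.mem_ofPred_eq]
    constructor
    · rintro ⟨α, rfl⟩
      exact ⟨fun e he => hFoff α e he, fun t => hFbd α t⟩
    · rintro ⟨hx1, hx2⟩
      refine ⟨fun i => x s(u i, w i), ?_⟩
      change F (fun i => x s(u i, w i)) = x
      have hy : x - F (fun i => x s(u i, w i)) = 0 := by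
        apply Groth.Agent.H67.GraphLab.eq_zero_of_acyclic G c hbip T hT.isAcyclic hTG
        · intro e heT
          by_cases heG : e ∈ G.edgeSet
          · have hmem' : e ∈ G.edgeFinset \ T.edgeFinset := by
              rw [Finset.mem_sdiff, SimpleGraph.mem_edgeFinset, SimpleGraph.mem_edgeFinset]
              exact ⟨heG, heT⟩
            have hj : s(u (ι.symm ⟨e, hmem'⟩), w (ι.symm ⟨e, hmem'⟩)) = e := by
              rw [← he, Equiv.apply_symm_apply]
            rw [Pi.sub_apply, ← hj, hFeval, sub_self]
          · rw [Pi.sub_apply, hx1 e heG, hFoff _ e heG, sub_zero]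
        · intro t
          simp only [Pi.sub_apply, Finset.sum_sub_distrib]
          rw [hx2 t, hFbd, sub_zero]
      exact (sub_eq_zero.1 hy).symm

end Groth.Agent.S13411
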