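import Groth.Statements.S13418
import Groth.Agent.H67.Neron

set_option autoImplicit false
universe u
open CategoryTheory AlgebraicGeometry
open NeronHD

namespace Groth.Agent.S13418

/-- Let S be a locally Noetherian scheme over a field of characteristic 0 and S₀ ⊆ S a
scheme-theoretically dense open. If N and M are smooth S-schemes having the Néron mapping property
for S₀ ⊆ S (for every smooth S-scheme Z, restriction to S₀ is a bijection from S-morphisms Z → N
onto S₀-morphisms Z|S₀ → N|S₀), then the fibre product N ×_S M has the Néron mapping property for S₀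
⊆ S (its smoothness over S being automatic). (This row is the case of schemes, with smooth test
schemes, of a statement about algebraic spaces.) -/
theorem result {k : Type u} [Field k] [CharZero k] {S : Scheme.{u}} (σ : S ⟶ Spec (CommRingCat.of k)) [IsLocallyNoetherian S] (S₀ : S.Opens) (hS₀ : CInt.IsSchematicallyDense S₀)
    (N M : Over S) [Smooth N.hom] [Smooth M.hom]
    (hN : ∀ Z : Over S, Smooth Z.hom → Function.Bijective (fun g : Z ⟶ N => (Over.pullback S₀.ι).map g))
    (hM : ∀ Z : Over S, Smooth Z.hom → Function.Bijective (fun g : Z ⟶ M => (Over.pullback S₀.ι).map g)) :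
    ∀ Z : Over S, Smooth Z.hom → Function.Bijective (fun g : Z ⟶ Over.mk (Limits.pullback.fst N.hom M.hom ≫ N.hom) => (Over.pullback S₀.ι).map g) := by
  intro Z hZ
  have hN' := (Groth.Agent.H67.nmp_iff' S₀.ι Z N).1 (hN Z hZ)
  have hM' := (Groth.Agent.H67.nmp_iff' S₀.ι Z M).1 (hM Z hZ)
  rw [Groth.Agent.H67.nmp_iff']
  intro γ hγ
  have hγ' : γ ≫ Limits.pullback.fst N.hom M.hom ≫ N.hom = Limits.pullback.snd Z.hom S₀.ι ≫ S₀.ι :=
    hγ
  obtain ⟨g₁, ⟨h11, h12⟩, hu1⟩ := hN' (γ ≫ Limits.pullback.fst N.hom M.hom)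
    (by rw [Category.assoc]; exact hγ')
  obtain ⟨g₂, ⟨h21, h22⟩, hu2⟩ := hM' (γ ≫ Limits.pullback.snd N.hom M.hom)
    (by rw [Category.assoc, ← Limits.pullback.condition]; exact hγ')
  refine ⟨Limits.pullback.lift g₁ g₂ (by rw [h11, h21]), ⟨?_, ?_⟩, ?_⟩
  · change Limits.pullback.lift g₁ g₂ _ ≫ Limits.pullback.fst N.hom M.hom ≫ N.hom = Z.hom
    rw [Limits.pullback.lift_fst_assoc, h11]
  · apply Limits.pullback.hom_ext
    · rw [Category.assoc, Limits.pullback.lift_fst, h12]
    · rw [Category.assoc, Limits.pullback.lift_snd, h22]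
  · intro g' ⟨hg1, hg2⟩
    have hg1' : g' ≫ Limits.pullback.fst N.hom M.hom ≫ N.hom = Z.hom := hg1
    apply Limits.pullback.hom_ext
    · rw [Limits.pullback.lift_fst]
      apply hu1
      exact ⟨by rw [Category.assoc]; exact hg1', by rw [← Category.assoc, hg2]⟩
    · rw [Limits.pullback.lift_snd]
      apply hu2
      refine ⟨by rw [Category.assoc, ← Limits.pullback.condition]; exact hg1', ?_⟩
      rw [← Category.assoc, hg2]

end Groth.Agent.S13418
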