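import Groth.Statements.S1342
import Groth.Agent.H49.CMMorBC

set_option autoImplicit false
universe u
open FlatMor

namespace Groth.Agent.S1342

open AlgebraicGeometry CategoryTheory Limits in
/-- For a flat morphism locally of finite presentation, the formation of the Cohen–Macaulay locus
commutes with arbitrary base change: in a cartesian square the Cohen–Macaulay locus of the
base-changed morphism is the preimage of the Cohen–Macaulay locus of f. -/
theorem result {X S X' S' : Scheme.{u}} (f : X ⟶ S) [Flat f] [LocallyOfFinitePresentation f]
    (f' : X' ⟶ S') (g' : X' ⟶ X) (g : S' ⟶ S) (hc : IsPullback g' f' f g) :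
    {x' : ↑X' | MoreMor.IsCMAt f' x'} = g' ⁻¹' {x : ↑X | MoreMor.IsCMAt f x} := by
  have hf' : Flat f' := MorphismProperty.of_isPullback (P := @Flat) hc inferInstance
  ext x'
  simp only [Set.mem_ofPred_eq, Set.mem_preimage]
  have hloc : IsLocallyNoetherian (f.fiber (g (f' x'))) := by
    have : LocallyOfFiniteType (f.fiberToSpecResidueField (g (f' x'))) :=
      inferInstanceAs (LocallyOfFiniteType (pullback.snd f (S.fromSpecResidueField (g (f' x')))))
    exact LocallyOfFiniteType.isLocallyNoetherian (f.fiberToSpecResidueField (g (f' x')))
  have key := Groth.Agent.H49.CMMorBC.cm_fiber_stalk_iff_of_isPullback f f' g' g hc x'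
    (Or.inl inferInstance)
  constructor
  · intro h
    exact ⟨Flat.stalkMap f _, key.mpr h.2⟩
  · intro h
    exact ⟨Flat.stalkMap f' _, key.mp h.2⟩

end Groth.Agent.S1342
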