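import Groth.Statements.S13427
import Groth.Agent.H67.Neron

set_option autoImplicit false
universe u
open CategoryTheory AlgebraicGeometry
open NeronHD

namespace Groth.Agent.S13427

/-- Let S be a locally Noetherian scheme over a field of characteristic 0, S₀ ⊆ S a scheme-theoretically
dense open, and G, H smooth S-schemes with the Néron mapping property for S₀ ⊆ S (restriction to S₀
of S-morphisms from smooth S-schemes is bijective). Let f : G → H be an S-morphism and e : S → H a
section of H → S, and let K = G ×_H S be the fibre of f over e (the case in view: f a homomorphism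
of smooth group schemes, e the unit, K the kernel, so that 1 → K → G → H is left exact). If K → S is
smooth, then K has the Néron mapping property for S₀ ⊆ S. (Case of schemes, with smooth test
schemes, of a statement about group algebraic spaces.) -/
theorem result {k : Type u} [Field k] [CharZero k] {S : Scheme.{u}} (σ : S ⟶ Spec (CommRingCat.of k)) [IsLocallyNoetherian S] (S₀ : S.Opens) (hS₀ : CInt.IsSchematicallyDense S₀)
    (G H : Over S) [Smooth G.hom] [Smooth H.hom]
    (hG : ∀ Z : Over S, Smooth Z.hom → Function.Bijective (fun g : Z ⟶ G => (Over.pullback S₀.ι).map g))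
    (hH : ∀ Z : Over S, Smooth Z.hom → Function.Bijective (fun g : Z ⟶ H => (Over.pullback S₀.ι).map g))
    (f : G ⟶ H) (e : S ⟶ H.left) (he : e ≫ H.hom = 𝟙 S)
    [Smooth (Limits.pullback.snd f.left e)] :
    ∀ Z : Over S, Smooth Z.hom → Function.Bijective (fun g : Z ⟶ Over.mk (Limits.pullback.snd f.left e) => (Over.pullback S₀.ι).map g) := by
  intro Z hZ
  have hG' := (Groth.Agent.H67.nmp_iff' S₀.ι Z G).1 (hG Z hZ)
  have hH' := (Groth.Agent.H67.nmp_iff' S₀.ι Z H).1 (hH Z hZ)
  rw [Groth.Agent.H67.nmp_iff']
  intro γ hγ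
  have hγ' : γ ≫ Limits.pullback.snd f.left e = Limits.pullback.snd Z.hom S₀.ι ≫ S₀.ι := hγ
  have hf : f.left ≫ H.hom = G.hom := Over.w f
  have hfst : Limits.pullback.fst f.left e ≫ G.hom = Limits.pullback.snd f.left e := by
    rw [← hf, ← Category.assoc, Limits.pullback.condition, Category.assoc, he, Category.comp_id]
  obtain ⟨g, ⟨hg1, hg2⟩, hu⟩ := hG' (γ ≫ Limits.pullback.fst f.left e)
    (by rw [Category.assoc, hfst]; exact hγ')
  have hfac : g ≫ f.left = Z.hom ≫ e := by
    obtain ⟨g₀, -, hu0⟩ := hH' (Limits.pullback.fst Z.hom S₀.ι ≫ g ≫ f.left)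
      (by rw [Category.assoc, Category.assoc, hf, hg1, Limits.pullback.condition])
    rw [hu0 (g ≫ f.left) ⟨by rw [Category.assoc, hf, hg1], rfl⟩]
    symm
    apply hu0
    refine ⟨by rw [Category.assoc, he, Category.comp_id], ?_⟩
    calc Limits.pullback.fst Z.hom S₀.ι ≫ Z.hom ≫ e
        = (Limits.pullback.snd Z.hom S₀.ι ≫ S₀.ι) ≫ e := by
          rw [← Category.assoc, Limits.pullback.condition]
      _ = (γ ≫ Limits.pullback.snd f.left e) ≫ e := by rw [hγ']
      _ = γ ≫ Limits.pullback.fst f.left e ≫ f.left := by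
          rw [Category.assoc, Limits.pullback.condition]
      _ = Limits.pullback.fst Z.hom S₀.ι ≫ g ≫ f.left := by
          rw [← Category.assoc, ← hg2, Category.assoc]
  refine ⟨Limits.pullback.lift g Z.hom hfac, ⟨?_, ?_⟩, ?_⟩
  · exact Limits.pullback.lift_snd _ _ _
  · apply Limits.pullback.hom_ext
    · rw [Category.assoc, Limits.pullback.lift_fst, hg2]
    · rw [Category.assoc, Limits.pullback.lift_snd, hγ', Limits.pullback.condition]
  · intro g' ⟨hg1', hg2'⟩
    have hg1'' : g' ≫ Limits.pullback.snd f.left e = Z.hom := hg1'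
    apply Limits.pullback.hom_ext
    · rw [Limits.pullback.lift_fst]
      apply hu
      refine ⟨by rw [Category.assoc, hfst, hg1''], ?_⟩
      rw [← Category.assoc, hg2']
    · rw [Limits.pullback.lift_snd, hg1'']

end Groth.Agent.S13427
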