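import Groth.Statements.S13428
import Groth.Agent.H67.NeronOpenImm

set_option autoImplicit false
universe u
open CategoryTheory AlgebraicGeometry
open NeronHD

namespace Groth.Agent.S13428

/-- Let S be a normal Noetherian scheme over a field of characteristic 0 and S₀ ⊆ S a
scheme-theoretically dense open. Let N be a smooth, separated and quasi-compact S-scheme with the
Néron mapping property for S₀ ⊆ S (restriction to S₀ of S-morphisms from smooth S-schemes is
bijective) such that N|S₀ → S₀ is étale, so that N is a quasi-projective Néron model of the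
quasi-projective étale S₀-scheme N|S₀. If M is a separated, quasi-compact, étale S-scheme and φ : M
→ N is an S-morphism restricting to an isomorphism over S₀ (so M is another quasi-projective étale
extension of N|S₀, and φ is its canonical map to the Néron model), then φ is an open immersion.
(Case of schemes of the published statement.) -/
theorem result {k : Type u} [Field k] [CharZero k] {S : Scheme.{u}} (σ : S ⟶ Spec (CommRingCat.of k)) [IsNoetherian S] (hS : Pi1.IsNormalScheme S) (S₀ : S.Opens) (hS₀ : CInt.IsSchematicallyDense S₀)
    (N : Over S) [Smooth N.hom] [IsSeparated N.hom] [QuasiCompact N.hom]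
    (hN : ∀ Z : Over S, Smooth Z.hom → Function.Bijective (fun g : Z ⟶ N => (Over.pullback S₀.ι).map g))
    [Etale ((Over.pullback S₀.ι).obj N).hom]
    (M : Over S) [Etale M.hom] [IsSeparated M.hom] [QuasiCompact M.hom]
    (φ : M ⟶ N) [IsIso ((Over.pullback S₀.ι).map φ)] :
    IsOpenImmersion φ.left := by
  haveI : Etale (Limits.pullback.snd N.hom S₀.ι) :=
    (inferInstance : Etale ((Over.pullback S₀.ι).obj N).hom)
  refine Groth.Agent.H67.NeronOpenImm.main S₀ hS₀ M.hom N.hom φ.left (Over.w φ) ?_
  intro T a b hab hpts
  -- the common map to `S₀`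
  have hrange : Set.range (a ≫ M.hom) ⊆ Set.range S₀.ι := by
    rintro _ ⟨t, rfl⟩
    rw [Scheme.Opens.range_ι]
    exact hpts t
  let c : T ⟶ S₀ := IsOpenImmersion.lift S₀.ι (a ≫ M.hom) hrange
  have hc : c ≫ S₀.ι = a ≫ M.hom := IsOpenImmersion.lift_fac _ _ _
  have hbM : b ≫ M.hom = a ≫ M.hom := by
    rw [← Over.w φ, ← Category.assoc, ← hab, Category.assoc]
  let a' : T ⟶ Limits.pullback M.hom S₀.ι := Limits.pullback.lift a c hc.symm
  let b' : T ⟶ Limits.pullback M.hom S₀.ι := Limits.pullback.lift b c (by rw [hbM, hc])
  have hmono : Mono ((Over.pullback S₀.ι).map φ).left := by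
    haveI : IsIso ((Over.pullback S₀.ι).map φ).left :=
      inferInstanceAs (IsIso ((Over.forget _).map ((Over.pullback S₀.ι).map φ)))
    infer_instance
  have hab' : a' ≫ ((Over.pullback S₀.ι).map φ).left = b' ≫ ((Over.pullback S₀.ι).map φ).left := by
    apply Limits.pullback.hom_ext
    · simp only [Over.pullback_map_left, Category.assoc, Limits.pullback.lift_fst]
      rw [← Category.assoc, ← Category.assoc]
      simp only [a', b', Limits.pullback.lift_fst]
      exact hab
    · simp only [Over.pullback_map_left, Category.assoc, Limits.pullback.lift_snd]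
      simp only [a', b', Limits.pullback.lift_snd]
  have h' : a' = b' := (cancel_mono _).mp hab'
  have h'' := congrArg (fun f => f ≫ Limits.pullback.fst M.hom S₀.ι) h'
  simp only [a', b'] at h''
  rw [Limits.pullback.lift_fst, Limits.pullback.lift_fst] at h''
  exact h''

end Groth.Agent.S13428
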