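import Groth.Statements.S13434
import Groth.Agent.H10.TP10

set_option autoImplicit false
universe u
open W4c1hilbpn

namespace Groth.Agent.S13434

open W4c1hilbpn in
/-- Let k be an infinite field, n ≥ 2, S the polynomial ring over k in n variables, I a monomial ideal
of S of finite colength and T(I) = Hom_S(I, S/I) with its grading by integer vectors. The graded
piece of T(I) in every multidegree all of whose entries are nonnegative, or all of whose entries are
negative, vanishes, and T(I) is spanned by its pieces of non-constant sign pattern (the spans, over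
the sets N of variable indices that are neither empty nor all indices, of the graded pieces whose
multidegree is negative exactly at N). -/
theorem result (k : Type u) [Field k] [Infinite k]
    (n : ℕ) (hn : 2 ≤ n) (I : Ideal (MvPolynomial (Fin n) k)) (hI : IsMonomial I)
    [Module.Finite k (MvPolynomial (Fin n) k ⧸ I)] :
    (∀ α : Fin n → ℤ, ((∀ i, 0 ≤ α i) ∨ (∀ i, α i < 0)) → tPiece I α = ⊥) ∧
      (⨆ N : {N : Set (Fin n) // N.Nonempty ∧ N ≠ Set.univ}, sigPiece I N.1) = ⊤ := by
  classical
  have key : ∀ α : Fin n → ℤ, ((∀ i, 0 ≤ α i) ∨ (∀ i, α i < 0)) → W4c1hilbpn.tPiece I α = ⊥ := by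
    rintro α (h | h)
    · exact Groth.Agent.H10.TP.tPiece_eq_bot_of_nonneg hI h
    · have h01 : (⟨0, by omega⟩ : Fin n) ≠ ⟨1, by omega⟩ := by
        intro h'
        simpa using congrArg Fin.val h'
      exact Groth.Agent.H10.TP.tPiece_eq_bot_of_two_neg hI h01 (fun j => (h j).le) (h _) (h _)
  refine ⟨key, ?_⟩
  rw [eq_top_iff]
  intro φ _
  apply Groth.Agent.H10.TP.mem_iSup_of_forall hI
  intro α
  by_cases h : (∀ i, 0 ≤ α i) ∨ (∀ i, α i < 0)
  · left; exact key α h
  · right
    push Not at h
    obtain ⟨⟨i, hi⟩, ⟨j, hj⟩⟩ := h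
    refine ⟨⟨{i | α i < 0}, ⟨i, hi⟩, fun hu => ?_⟩, ?_⟩
    · have : j ∈ {i | α i < 0} := hu ▸ Set.mem_univ j
      exact absurd this (not_lt.2 hj)
    · unfold W4c1hilbpn.sigPiece
      exact le_iSup_of_le (⟨α, fun i => Iff.rfl⟩ : {β : Fin n → ℤ // ∀ i, β i < 0 ↔ i ∈ {i | α i < 0}}) le_rfl

end Groth.Agent.S13434
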