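import Groth.Statements.S13438
import Groth.Agent.H10.TP11

set_option autoImplicit false
universe u
open W4c1hilbpn

namespace Groth.Agent.S13438

open W4c1hilbpn in
/-- Let k be an infinite field, S = k[x,y,z], and T(I) = Hom_S(I, S/I) graded by triples of integers (a
graded piece is indexed by its multidegree; its sign pattern records which of the three entries are
negative); let I be a monomial ideal of finite colength whose minimal monomial generators include
x^a1 y^a2, x^b1 z^b3 and y^c2 z^c3 with all six exponents positive, and assume a1 ≥ b1 and a2 ≥ c2,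
or b1 ≥ a1 and b3 ≥ c3, or c2 ≥ a2 and c3 ≥ b3. Then T(I) has a nonzero graded piece whose sign
pattern is negative at exactly two of the three variables. (The published statement draws the
conclusion that the corresponding point of the Hilbert scheme of points of affine 3-space is
singular; this row records the nonvanishing of a tangent piece of forbidden sign pattern, from which
singularity follows by the smoothness criterion for monomial points.) -/
theorem result (k : Type u) [Field k] [Infinite k]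
    (I : Ideal (MvPolynomial (Fin 3) k)) (hI : IsMonomial I) [Module.Finite k (MvPolynomial (Fin 3) k ⧸ I)]
    (a1 a2 b1 b3 c2 c3 : ℕ) (ha1 : 0 < a1) (ha2 : 0 < a2) (hb1 : 0 < b1) (hb3 : 0 < b3)
    (hc2 : 0 < c2) (hc3 : 0 < c3)
    (hA : e3 a1 a2 0 ∈ exps I ∧ e3 (a1 - 1) a2 0 ∉ exps I ∧ e3 a1 (a2 - 1) 0 ∉ exps I)
    (hB : e3 b1 0 b3 ∈ exps I ∧ e3 (b1 - 1) 0 b3 ∉ exps I ∧ e3 b1 0 (b3 - 1) ∉ exps I)
    (hC : e3 0 c2 c3 ∈ exps I ∧ e3 0 (c2 - 1) c3 ∉ exps I ∧ e3 0 c2 (c3 - 1) ∉ exps I)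
    (hcase : (b1 ≤ a1 ∧ c2 ≤ a2) ∨ (a1 ≤ b1 ∧ c3 ≤ b3) ∨ (a2 ≤ c2 ∧ b3 ≤ c3)) :
    sigPiece I ({0, 1} : Set (Fin 3)) ≠ ⊥ ∨ sigPiece I ({0, 2} : Set (Fin 3)) ≠ ⊥ ∨
      sigPiece I ({1, 2} : Set (Fin 3)) ≠ ⊥ := by
  open Groth.Agent.H10.TP in
  rcases hcase with ⟨h1, h2⟩ | ⟨h1, h2⟩ | ⟨h1, h2⟩
  · left
    refine exists_neg_pair hI (p := 0) (q := 1) (r := 2) (by decide) (by decide) (by decide)
      (by decide) (β := e3 a1 a2 0) (δ1 := e3 b1 0 b3) (δ2 := e3 0 c2 c3) hA.1 rfl ha1 ha2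
      ?_ ?_ hB.1 h1 rfl hC.1 h2 rfl ?_ ?_
    · rw [e3_sub_single0]; exact hA.2.1
    · rw [e3_sub_single1]; exact hA.2.2
    · exact fun h => hB.2.1 (exps_of_le I h (single2_le_e3 _ _ _))
    · exact fun h => hC.2.1 (exps_of_le I h (single2_le_e3 _ _ _))
  · right; left
    refine exists_neg_pair hI (p := 0) (q := 2) (r := 1) (by decide) (by decide) (by decide)
      (by decide) (β := e3 b1 0 b3) (δ1 := e3 a1 a2 0) (δ2 := e3 0 c2 c3) hB.1 rfl hb1 hb3
      ?_ ?_ hA.1 h1 rfl hC.1 h2 rfl ?_ ?_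
    · rw [e3_sub_single0]; exact hB.2.1
    · rw [e3_sub_single2]; exact hB.2.2
    · exact fun h => hA.2.1 (exps_of_le I h (single1_le_e3 _ _ _))
    · exact fun h => hC.2.2 (exps_of_le I h (single1_le_e3 _ _ _))
  · right; right
    refine exists_neg_pair hI (p := 1) (q := 2) (r := 0) (by decide) (by decide) (by decide)
      (by decide) (β := e3 0 c2 c3) (δ1 := e3 a1 a2 0) (δ2 := e3 b1 0 b3) hC.1 rfl hc2 hc3
      ?_ ?_ hA.1 h1 rfl hB.1 h2 rfl ?_ ?_
    · rw [e3_sub_single1]; exact hC.2.1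
    · rw [e3_sub_single2]; exact hC.2.2
    · exact fun h => hA.2.2 (exps_of_le I h (single0_le_e3 _ _ _))
    · exact fun h => hB.2.2 (exps_of_le I h (single0_le_e3 _ _ _))

end Groth.Agent.S13438
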