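import Groth.Statements.S13441
import Groth.Agent.H67.MonoIdeal

set_option autoImplicit false
universe u
open W4c1hilbpn

namespace Groth.Agent.S13441

open W4c1hilbpn in
/-- Let k be an infinite field, S = k[x,y,z] with variables ordered x > y > z, and I a strongly stable
ideal of finite colength, with staircase numbers b^z_{i,j} = the number of c with x^i y^j z^c
outside I and b^y_{i,j} = the number of b with x^i y^b z^j outside I. Then b^z_{i+1,j} ≤ b^z_{i,j+1}
and b^y_{i+1,j} ≤ b^y_{i,j+1} for all i and j (equivalently the maximum of the two neighbouring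
staircase numbers is the second one). -/
theorem result (k : Type u) [Field k] [Infinite k]
    (I : Ideal (MvPolynomial (Fin 3) k)) (hI : IsStronglyStable I) [Module.Finite k (MvPolynomial (Fin 3) k ⧸ I)] (i j : ℕ) :
    stairZ I (i + 1) j ≤ stairZ I i (j + 1) ∧ stairY I (i + 1) j ≤ stairY I i (j + 1) := by
  classical
  obtain ⟨Nz, hNz⟩ := Groth.Agent.H67.exists_single_mem_exps I hI.1 (2 : Fin 3)
  obtain ⟨Ny, hNy⟩ := Groth.Agent.H67.exists_single_mem_exps I hI.1 (1 : Fin 3)
  constructor
  · -- staircase in the z-direction
    unfold stairZ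
    have hfin : {c : ℕ | e3 i (j + 1) c ∉ exps I}.Finite := by
      apply (Set.finite_lt_nat Nz).subset
      intro c hc
      by_contra hge
      apply hc
      have hge' : Nz ≤ c := not_lt.1 hge
      have e : e3 i (j + 1) c = Finsupp.single (2 : Fin 3) Nz + e3 i (j + 1) (c - Nz) := by
        apply Groth.Agent.H67.fin3_ext <;> simp
        omega
      rw [e]
      exact Groth.Agent.H67.exps_add I hNz _
    refine Nat.card_mono hfin ?_
    intro c hc hmem
    apply hc
    have := hI.2 _ hmem (0 : Fin 3) (1 : Fin 3) (by decide) (by simp)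
    have e : e3 i (j + 1) c - Finsupp.single (1 : Fin 3) 1 + Finsupp.single (0 : Fin 3) 1 =
        e3 (i + 1) j c := by
      apply Groth.Agent.H67.fin3_ext <;> simp
    rw [e] at this
    exact this
  · unfold stairY
    have hfin : {b : ℕ | e3 i b (j + 1) ∉ exps I}.Finite := by
      apply (Set.finite_lt_nat Ny).subset
      intro b hb
      by_contra hge
      apply hb
      have hge' : Ny ≤ b := not_lt.1 hge
      have e : e3 i b (j + 1) = Finsupp.single (1 : Fin 3) Ny + e3 i (b - Ny) (j + 1) := by
        apply Groth.Agent.H67.fin3_ext <;> simp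
        omega
      rw [e]
      exact Groth.Agent.H67.exps_add I hNy _
    refine Nat.card_mono hfin ?_
    intro b hb hmem
    apply hb
    have := hI.2 _ hmem (0 : Fin 3) (2 : Fin 3) (by decide) (by simp)
    have e : e3 i b (j + 1) - Finsupp.single (2 : Fin 3) 1 + Finsupp.single (0 : Fin 3) 1 =
        e3 (i + 1) b j := by
      apply Groth.Agent.H67.fin3_ext <;> simp
    rw [e] at this
    exact this

end Groth.Agent.S13441
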