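import Groth.Statements.S13444
import Mathlib
import Groth.Agent.H85.ExtDual2

set_option autoImplicit false
universe u
open W4c1hilbpn

namespace Groth.Agent.S13444

/-- Let R be a regular local ring of Krull dimension 2 and I, J ideals of R such that R/I and R/J have
finite length. Then the length of Hom_R(I, R/J) equals the length of R/J plus the length of (I :
J)/I; here the last length is moved to the other side as the length of R/(I : J), using that I ⊆ (I
: J) and all lengths are finite. -/
theorem result (R : Type u) [CommRing R]
    [IsRegularLocalRing R] (hdim : ringKrullDim R = 2) (I J : Ideal R)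
    (hI : Module.length R (R ⧸ I) < ⊤) (hJ : Module.length R (R ⧸ J) < ⊤) :
    Module.length R (↥I →ₗ[R] (R ⧸ J)) + Module.length R (R ⧸ I.colon J) =
      Module.length R (R ⧸ J) + Module.length R (R ⧸ I) := by
  classical
  open CategoryTheory Abelian Groth.Agent.H85 in
  have hIfl : IsFiniteLength R (R ⧸ I) := Module.length_ne_top_iff.mp hI.ne
  have hJfl : Module.length R (R ⧸ J) ≠ ⊤ := hJ.ne
  -- generators of `J`
  obtain ⟨s, j, hj⟩ := Submodule.fg_iff_exists_fin_generating_family.mp
    (IsNoetherian.noetherian J)
  let N : ModuleCat.{u} R := ModuleCat.of R (R ⧸ J)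
  -- (a) the four term sequence for `0 → I → R → R/I → 0`
  have hS := H75.Canon.shortExact_of (Submodule.subtype I) (Submodule.mkQ I)
    (Submodule.subtype_injective _) (Submodule.mkQ_surjective _) (LinearMap.exact_subtype_mkQ I)
  have hproj : Projective (ModuleCat.of R R) :=
    (IsProjective.iff_projective (R := R) (P := R)).mp inferInstance
  have ha := ExtRight.length_hom_add hS N (fun x => Ext.eq_zero_of_projective x)
  change Module.length R (Ext (ModuleCat.of R (R ⧸ I)) N 0) +
      Module.length R (Ext (ModuleCat.of R I) N 0) =
    Module.length R (Ext (ModuleCat.of R R) N 0) +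
      Module.length R (Ext (ModuleCat.of R (R ⧸ I)) N 1) at ha
  have e1 : Module.length R (Ext (ModuleCat.of R I) N 0) = Module.length R (↥I →ₗ[R] (R ⧸ J)) :=
    (Ext.linearEquiv₀.trans ModuleCat.homLinearEquiv).length_eq
  have e2 : Module.length R (Ext (ModuleCat.of R R) N 0) = Module.length R (R ⧸ J) :=
    (ExtEuler.ext₀SelfEquiv N).length_eq
  rw [e1, e2] at ha
  -- (b) the Euler characteristic
  have hb := ExtEuler.length_ext_one_eq R hdim N hJfl (R ⧸ I) hIfl
  have hg := (ExtEuler.good_chi_of_isFiniteLength R hdim N hJfl (R ⧸ I) hIfl).1 0
  -- (c) right exactness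
  have hc := ExtRight.length_ext_quot (ModuleCat.of R (R ⧸ I)) 2
    (fun Z => ExtEuler.hvan R hdim Z _) J j hj
  -- (d) duality
  have hd := ExtDual2.length_dual_quot R 2 (R ⧸ I) J j hj hdim hIfl
  -- (e) the colon ideal
  set c := ExtDual2.cmap j (R ⧸ I) with hcdef
  have he := EulerLES.length_eq_ker_add_range c
  have hcolon : Module.length R (LinearMap.range c) = Module.length R (R ⧸ I.colon J) := by
    let φ : R →ₗ[R] LinearMap.range c := c.rangeRestrict ∘ₗ Submodule.mkQ I
    have hφ : Function.Surjective φ :=
      c.surjective_rangeRestrict.comp (Submodule.mkQ_surjective _)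
    have hker : LinearMap.ker φ = I.colon J := by
      ext r
      rw [LinearMap.mem_ker, Submodule.mem_colon]
      constructor
      · intro h p hp
        have h0 : c (Submodule.mkQ I r) = 0 := congrArg Subtype.val h
        have hk : ∀ k, j k * r ∈ I := by
          intro k
          have := congrFun h0 k
          rw [ExtDual2.cmap_apply, Pi.zero_apply, ← map_smul, Submodule.mkQ_apply,
            Submodule.Quotient.mk_eq_zero] at this
          exact this
        have hp' : p ∈ Submodule.span R (Set.range j) := by
          rw [hj]
          exact hp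
        clear hp
        rw [smul_eq_mul]
        induction hp' using Submodule.span_induction with
        | mem x hx =>
          obtain ⟨k, rfl⟩ := hx
          rw [mul_comm]
          exact hk k
        | zero => rw [mul_zero]; exact I.zero_mem
        | add x y _ _ hx hy => rw [mul_add]; exact I.add_mem hx hy
        | smul a x _ hx =>
          rw [smul_eq_mul, mul_left_comm]
          exact I.mul_mem_left a hx
      · intro h
        apply Subtype.ext
        change c (Submodule.mkQ I r) = 0
        funext k
        rw [ExtDual2.cmap_apply, Pi.zero_apply, ← map_smul, Submodule.mkQ_apply,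
          Submodule.Quotient.mk_eq_zero, smul_eq_mul, mul_comm]
        have hjk : j k ∈ J := by
          rw [← hj]
          exact Ideal.subset_span ⟨k, rfl⟩
        have := h (j k) hjk
        rw [smul_eq_mul] at this
        exact this
    exact ((LinearMap.quotKerEquivOfSurjective φ hφ).symm.trans
      (Submodule.quotEquivOfEq _ _ hker)).length_eq
  -- assemble
  rw [hb, hc, hd] at ha
  have hfin : Module.length R (↥I →ₗ[R] (R ⧸ J)) =
      Module.length R (R ⧸ J) + Module.length R (LinearMap.ker c) := by
    have h1 : Module.length R (Ext (ModuleCat.of R (R ⧸ I)) N 0) +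
        Module.length R (↥I →ₗ[R] (R ⧸ J)) =
          Module.length R (Ext (ModuleCat.of R (R ⧸ I)) N 0) +
            (Module.length R (R ⧸ J) + Module.length R (LinearMap.ker c)) := by
      rw [ha]
      ring
    exact (ENat.add_right_injective_of_ne_top hg) h1
  rw [hfin, he, hcolon]
  ring

end Groth.Agent.S13444
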