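import Groth.Statements.S13453
import Groth.Agent.H67.MonoIdeal2

set_option autoImplicit false
universe u
open W4c1hilbpn

namespace Groth.Agent.S13453

open W4c1hilbpn in
/-- Let k be an infinite field, S = k[x,y,z] with variables ordered x > y > z, and I a strongly stable
ideal of finite colength; write I_i for the ideal of polynomials f in k[y,z] with x^i f in I (so I
is the direct sum of the x^i I_i). Then each I_i is a strongly stable ideal of k[y,z] (with y > z)
and the ideal quotient (I_i : y) is contained in I_{i+1}. -/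
theorem result (k : Type u) [Field k] [Infinite k]
    (I : Ideal (MvPolynomial (Fin 3) k)) (hI : IsStronglyStable I) [Module.Finite k (MvPolynomial (Fin 3) k ⧸ I)] (i : ℕ) :
    IsStronglyStable (sliceX I i) ∧
      (sliceX I i).colon {(MvPolynomial.X 0 : MvPolynomial (Fin 2) k)} ≤ sliceX I (i + 1) := by
  classical
  have hmono : ∀ a, IsMonomial (sliceX I a) := by
    intro a p hp β hβ
    exact (Groth.Agent.H67.monomial_mem_sliceX_iff I hI.1 a β).2
      ((Groth.Agent.H67.mem_sliceX_iff I hI.1 a p).1 hp β hβ)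
  refine ⟨⟨hmono i, ?_⟩, ?_⟩
  · intro β hβ i' j' hij hpos
    have hi0 : i' = 0 := by
      fin_cases i' <;> fin_cases j' <;> simp_all
    have hj1 : j' = 1 := by
      fin_cases i' <;> fin_cases j' <;> simp_all
    subst hi0 hj1
    rw [Groth.Agent.H67.monomial_mem_sliceX_iff I hI.1] at hβ ⊢
    have := hI.2 _ hβ (1 : Fin 3) (2 : Fin 3) (by decide) (by simpa using hpos)
    obtain ⟨β', hβ'⟩ : ∃ β' : Fin 2 →₀ ℕ,
        β' = β - Finsupp.single (1 : Fin 2) 1 + Finsupp.single (0 : Fin 2) 1 := ⟨_, rfl⟩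
    rw [← hβ']
    have e : e3 i (β 0) (β 1) - Finsupp.single (2 : Fin 3) 1 + Finsupp.single (1 : Fin 3) 1 =
        e3 i (β' 0) (β' 1) := by
      apply Groth.Agent.H67.fin3_ext <;> simp [hβ']
    rw [e] at this
    exact this
  · intro f hf
    rw [Submodule.mem_colon_singleton, smul_eq_mul] at hf
    rw [Groth.Agent.H67.mem_sliceX_iff I hI.1] at hf ⊢
    intro m hm
    obtain ⟨m', hm'⟩ : ∃ m' : Fin 2 →₀ ℕ, m' = m + Finsupp.single (0 : Fin 2) 1 := ⟨_, rfl⟩
    have h1 := hf m' (by
      rw [MvPolynomial.support_mul_X, hm']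
      exact Finset.mem_map_of_mem _ hm)
    have := hI.2 _ h1 (0 : Fin 3) (1 : Fin 3) (by decide) (by simp [hm'])
    have e : e3 i (m' 0) (m' 1) -
        Finsupp.single (1 : Fin 3) 1 + Finsupp.single (0 : Fin 3) 1 = e3 (i + 1) (m 0) (m 1) := by
      apply Groth.Agent.H67.fin3_ext <;> simp [hm']
    rw [e] at this
    exact this

end Groth.Agent.S13453
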