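import Groth.Statements.S13456
import Groth.Agent.H93.HilbStratB
import Groth.Agent.H93.HilbStratC

set_option autoImplicit false
universe u
open W4c1hilbpn

namespace Groth.Agent.S13456

open TensorProduct in
/-- Let A be a Noetherian ring, R a finitely generated graded A-algebra (graded by the integers), M a
finitely generated graded R-module and h a function from the integers to the natural numbers. Then
the functor sending an A-algebra B to the condition 'every graded piece of M ⊗_A B is a finitely
generated locally free B-module of rank h(v)' is represented by a locally closed subscheme of Spec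
A: there are ideals a and b of A such that, for every A-algebra B, all B ⊗_A M_v are finitely
generated projective of constant rank h(v) if and only if a generates the zero ideal of B and b
generates the unit ideal of B. (The graded pieces M_v are assumed finitely generated over A, as they
are when R is positively graded with degree-zero part finite over A; the published setup allows any
finitely generated graded algebra, where graded pieces need not be finitely generated over A. Test
algebras B range over one universe.) -/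
theorem result
    (A : Type u) [CommRing A] [IsNoetherianRing A]
    (R : Type u) [CommRing R] [Algebra A R] [Algebra.FiniteType A R]
    (𝒜 : ℤ → Submodule A R) [GradedAlgebra 𝒜]
    (M : Type u) [AddCommGroup M] [Module A M] [Module R M] [IsScalarTower A R M] [Module.Finite R M]
    (ℳ : ℤ → Submodule A M) [DirectSum.Decomposition ℳ] [SetLike.GradedSMul 𝒜 ℳ]
    (hfg : ∀ v : ℤ, Module.Finite A ↥(ℳ v)) (h : ℤ → ℕ) :
    ∃ a b : Ideal A, ∀ (B : Type u) [CommRing B] [Algebra A B],
      ((∀ v : ℤ, Module.Finite B (B ⊗[A] ↥(ℳ v)) ∧ Module.Projective B (B ⊗[A] ↥(ℳ v)) ∧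
          ∀ p : PrimeSpectrum B, Module.rankAtStalk (B ⊗[A] ↥(ℳ v)) p = h v) ↔
        (Ideal.map (algebraMap A B) a = ⊥ ∧ Ideal.map (algebraMap A B) b = ⊤)) := by
  classical
  let bv : ℤ → Ideal A := fun v => Fitt.ideal A ↥(ℳ v) (h v)
  let a : Ideal A := ⨆ v : ℤ, ⨆ k : ℕ, ⨆ (_ : k < h v), Fitt.ideal A ↥(ℳ v) k
  obtain ⟨b, hb⟩ := Groth.Agent.H93.HilbStrat.exists_ideal_closed a bv
    (fun q _ hq => Groth.Agent.H93.HilbStrat.exists_nhd_fitt R M ℳ hfg h q hq)
  refine ⟨a, b, fun B _ _ => ?_⟩
  have hamap : Ideal.map (algebraMap A B) a = ⊥ ↔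
      ∀ v : ℤ, ∀ k : ℕ, k < h v → (Fitt.ideal A ↥(ℳ v) k).map (algebraMap A B) = ⊥ := by
    simp only [a, Ideal.map_iSup, iSup_eq_bot]
  have hfit : ∀ (v : ℤ) (k : ℕ), Fitt.ideal B (B ⊗[A] ↥(ℳ v)) k =
      (Fitt.ideal A ↥(ℳ v) k).map (algebraMap A B) := fun v k => by
    haveI := hfg v
    exact Groth.Agent.Lead.fitt_ideal_baseChange k
  have hL : (∀ v : ℤ, Module.Finite B (B ⊗[A] ↥(ℳ v)) ∧ Module.Projective B (B ⊗[A] ↥(ℳ v)) ∧
      ∀ p : PrimeSpectrum B, Module.rankAtStalk (B ⊗[A] ↥(ℳ v)) p = h v) ↔
      ∀ v : ℤ, (∀ k, k < h v → (Fitt.ideal A ↥(ℳ v) k).map (algebraMap A B) = ⊥) ∧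
        (bv v).map (algebraMap A B) = ⊤ := by
    refine forall_congr' fun v => ?_
    haveI := hfg v
    haveI : Module.Finite B (B ⊗[A] ↥(ℳ v)) := inferInstance
    rw [← hfit v (h v)]
    simp_rw [← hfit v]
    rw [← Groth.Agent.H93.FittProj.projective_rank_iff_fitt (B ⊗[A] ↥(ℳ v)) (h v)]
    exact ⟨fun hh => hh.2, fun hh => ⟨inferInstance, hh⟩⟩
  rw [hL, hamap]
  constructor
  · intro hh
    refine ⟨fun v k hk => (hh v).1 k hk, ?_⟩
    rw [Groth.Agent.H93.HilbStrat.map_eq_top_iff]
    intro P hP hle
    have haP : a ≤ P.comap (algebraMap A B) := by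
      rw [← Ideal.map_le_iff_le_comap, hamap.mpr (fun v k hk => (hh v).1 k hk)]
      exact bot_le
    obtain ⟨v, hv⟩ := (hb (P.comap (algebraMap A B)) haP).mp hle
    exact (Groth.Agent.H93.HilbStrat.map_eq_top_iff (bv v)).mp (hh v).2 P hP hv
  · rintro ⟨h0, h1⟩ v
    refine ⟨fun k hk => h0 v k hk, ?_⟩
    rw [Groth.Agent.H93.HilbStrat.map_eq_top_iff]
    intro P hP hle
    have haP : a ≤ P.comap (algebraMap A B) := by
      rw [← Ideal.map_le_iff_le_comap, hamap.mpr h0]
      exact bot_le
    have hbP := (hb (P.comap (algebraMap A B)) haP).mpr ⟨v, hle⟩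
    exact (Groth.Agent.H93.HilbStrat.map_eq_top_iff b).mp h1 P hP hbP

end Groth.Agent.S13456
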