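import Groth.Statements.S13499
import Groth.Agent.H69.EtConstExact

set_option autoImplicit false
universe u
open CategoryTheory CategoryTheory.Limits AlgebraicGeometry Opposite
open GalCoh

namespace Groth.Agent.S13499

/-- For a field k and i ≥ 2 there is an isomorphism between H^i(Spec k, Z) and H^{i-1}(Spec k, Q/Z),
étale cohomology of Spec k with coefficients in the constant sheaves Z and Q/Z (existence of an
additive isomorphism only; the published statement is for an arbitrary profinite group with trivial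
action and identifies the two groups through the boundary map of 0 → Z → Q → Q/Z → 0). -/
theorem result (k : Type u) [Field k] (i : ℕ) (hi : 2 ≤ i) :
    Nonempty (EtCoh.H (Spec (CommRingCat.of k)) (EtCoh.const (Spec (CommRingCat.of k)) ℤ) i ≃+
      EtCoh.H (Spec (CommRingCat.of k))
        (EtCoh.const (Spec (CommRingCat.of k)) (ℚ ⧸ AddSubgroup.zmultiples (1 : ℚ))) (i - 1)) := by
  obtain ⟨n, rfl⟩ : ∃ n, i = n + 2 := ⟨i - 2, by omega⟩
  let f : ℤ →+ ℚ := Int.castAddHom ℚ
  let g : ℚ →+ ℚ ⧸ AddSubgroup.zmultiples (1 : ℚ) := QuotientAddGroup.mk' _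
  have hf : Function.Injective f := Int.cast_injective
  have hg : Function.Surjective g := QuotientAddGroup.mk'_surjective _
  have hfg : Function.Exact f g := by
    intro q
    change (QuotientAddGroup.mk q : ℚ ⧸ AddSubgroup.zmultiples (1 : ℚ)) = 0 ↔ _
    rw [QuotientAddGroup.eq_zero_iff, AddSubgroup.mem_zmultiples_iff]
    constructor
    · rintro ⟨m, hm⟩
      exact ⟨m, by simpa [f] using hm⟩
    · rintro ⟨m, hm⟩
      exact ⟨m, by simpa [f] using hm⟩
  have hS := Groth.Agent.H69.EtConstExact.shortExact_ul.{u + 1} f g hf hg hfg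
  have hT := hS.map_of_exact
    (constantSheaf (Spec (CommRingCat.of k)).smallEtaleTopology AddCommGrpCat.{u + 1})
  have hdiv : ∀ m : ℕ, 0 < m → IsIso (m • 𝟙 (EtCoh.const (Spec (CommRingCat.of k)) ℚ)) := by
    intro m hm
    have h1 : IsIso (m • 𝟙 (AddCommGrpCat.of (ULift.{u + 1} ℚ))) := by
      rw [ConcreteCategory.isIso_iff_bijective]
      constructor
      · intro a b hab
        have h2 : m • a.down = m • b.down := congrArg ULift.down hab
        have hm' : (m : ℚ) ≠ 0 := by exact_mod_cast hm.ne'
        apply ULift.ext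
        simpa [nsmul_eq_mul, hm'] using h2
      · intro b
        have hm' : (m : ℚ) ≠ 0 := by exact_mod_cast hm.ne'
        refine ⟨ULift.up (b.down / m), ?_⟩
        apply ULift.ext
        change m • (b.down / m) = b.down
        rw [nsmul_eq_mul]
        field_simp
    have h3 : m • 𝟙 (EtCoh.const (Spec (CommRingCat.of k)) ℚ) =
        (constantSheaf (Spec (CommRingCat.of k)).smallEtaleTopology AddCommGrpCat.{u + 1}).map
          (m • 𝟙 (AddCommGrpCat.of (ULift.{u + 1} ℚ))) := by
      rw [CategoryTheory.Functor.map_nsmul, CategoryTheory.Functor.map_id]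
    rw [h3]
    infer_instance
  have hvan : ∀ j : ℕ, 0 < j → ∀ x : EtCoh.H (Spec (CommRingCat.of k))
      (EtCoh.const (Spec (CommRingCat.of k)) ℚ) j, x = 0 := fun j hj x =>
    Groth.Agent.H69.ExtTorsion.eq_zero_of_isOfFinAddOrder_of_isIso x
      (Groth.Agent.H69.EtFieldGalois.isOfFinAddOrder_H _ j hj x) hdiv
  obtain ⟨e⟩ := Groth.Agent.H69.EtConstExact.nonempty_addEquiv_of_shortExact hT
    ((constantSheaf (Spec (CommRingCat.of k)).smallEtaleTopology AddCommGrpCat.{u + 1}).obj
      (AddCommGrpCat.of (ULift.{u + 1} ℤ))) (n + 1)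
    (hvan (n + 1) (by omega)) (hvan (n + 1 + 1) (by omega))
  exact ⟨e.symm⟩

end Groth.Agent.S13499
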