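import Groth.Statements.S13501
import Groth.Agent.H60.ConstrDense
-- import your own Groth.Agent.* helpers here

set_option autoImplicit false
universe u
open CategoryTheory CategoryTheory.Limits AlgebraicGeometry Opposite
open EtPBC

namespace Groth.Agent.S13501

open Groth.Agent.H60.ConstrDense in
/-- a retract of a constructible sheaf is constructible -/
theorem isConstructible_of_retract {X : Scheme.{u}} {F G : EtCoh.Ab X} (r : Retract F G)
    (hG : EtPBC.IsConstructible G) : EtPBC.IsConstructible F := by
  have h1 : (constr X).IsClosedUnderColimitsOfShape WalkingParallelPair :=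
    (constr_hyp X).finiteColimits WalkingParallelPair
  have h2 : (constr X).IsStableUnderRetracts := inferInstance
  exact (constr X).prop_of_retract r hG

/-- Let X be a quasi-compact and quasi-separated scheme and F a torsion abelian sheaf on X_et. If Hom(F,
-) commutes with filtered colimits (of shape any small filtered category in the universe of the
sheaf category's morphisms), then F is constructible. This is the converse of the compactness of
constructible sheaves. -/
theorem result (X : Scheme.{u}) [CompactSpace X]
    [QuasiSeparatedSpace X] (F : EtCoh.Ab X) (hF : EtCoh.IsTorsion F)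
    (hc : ∀ (J : Type (u + 1)) [SmallCategory J] [IsFiltered J],
      PreservesColimitsOfShape J (coyoneda.obj (op F))) :
    EtPBC.IsConstructible F := by
  obtain ⟨J, _, _, D, c, hcol, hD, ⟨e⟩⟩ := Groth.Agent.H60.ConstrDense.main X F hF
  have := hc J
  have hcol' : IsColimit ((coyoneda.obj (op F)).mapCocone c) :=
    isColimitOfPreserves (coyoneda.obj (op F)) hcol
  obtain ⟨j, y, hy⟩ := Types.jointly_surjective_of_isColimit hcol' e.inv
  have hy' : y ≫ c.ι.app j = e.inv := hy
  refine isConstructible_of_retract (G := D.obj j) ⟨y, c.ι.app j ≫ e.hom, ?_⟩ (hD j)
  rw [← Category.assoc, hy', e.inv_hom_id]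

end Groth.Agent.S13501
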