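import Groth.Statements.S13509
import Groth.Agent.H67.FibSite2

set_option autoImplicit false
universe v₁ u₁ v₂ u₂ v₃ u₃
open CategoryTheory Opposite Pseudofunctor.CoGrothendieck
open FibSite

namespace Groth.Agent.S13509

/-- For a fibred category `F` over `𝒮` with topologies `J` on its fibres all of whose inverse-image
functors are continuous, the topology induced on the fibre over `S` by the total topology (the
finest topology on `F(S)` for which the fibre inclusion is continuous towards the topology generated
by the coverings of the fibres) is `J S` itself. (The published statement is for fibred sites; its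
proof uses only the continuity of the inverse-image functors.) -/
theorem result {𝒮 : Type u₁} [Category.{v₁} 𝒮]
    (F : Pseudofunctor (LocallyDiscrete 𝒮ᵒᵖ) Cat.{v₂, u₂}) (J : FibSite.Topologies F)
    (hF : FibSite.IsPreFibSite F J) (S : 𝒮) :
    (ι F S).inducedTopology (FibSite.totalTopology F J) = J S := by
  apply le_antisymm
  · intro U R hR
    have hcp := CoverPreserving.of_isContinuous (ι F S)
      ((ι F S).inducedTopology (FibSite.totalTopology F J)) (FibSite.totalTopology F J)
    have h1 := hcp.cover_preserve hR
    obtain ⟨R', hR', hle⟩ :=
      (Groth.Agent.H67.mem_totalTopology_iff F J hF ((ι F S).obj U) _).1 h1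
    refine (J S).superset_covering ?_ hR'
    intro V v hv
    obtain ⟨W, w, k, hw, hk⟩ := hle _ (⟨V, v, 𝟙 _, hv, (Category.id_comp _).symm⟩ :
      (Sieve.functorPushforward (ι F S) R') ((ι F S).map v))
    have hb : k.base = 𝟙 S := by
      have := congrArg Pseudofunctor.CoGrothendieck.Hom.base hk
      have h2 : 𝟙 S = k.base ≫ 𝟙 S := this
      exact (Category.comp_id k.base).symm.trans h2.symm
    obtain ⟨k', rfl⟩ := Groth.Agent.H67.fs_ι_full S k hb
    rw [← Functor.map_comp] at hk
    have := Groth.Agent.H67.fs_ι_faithful S _ _ hk
    rw [this]
    exact R.downward_closed hw k'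
  · rw [Functor.le_inducedTopology_iff]
    exact Groth.Agent.H67.fs_ι_isContinuous J hF S

end Groth.Agent.S13509
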