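import Groth.Statements.S1351
import Mathlib
import Groth.Agent.H56.FlatDesc.FiniteSource
import Groth.Agent.H32.ValFPMain

set_option autoImplicit false
universe u
open FlatMor

namespace Groth.Agent.S1351

/-- Let A be a valuation ring, A → B a local homomorphism of local rings essentially of finite type, and
u : N → M a B-linear map of finite B-modules with M flat over A. If u is injective after tensoring
with the residue field of A (that is, modulo the maximal ideal of A), then u is injective and its
cokernel is flat over A. -/
theorem result {A B : Type u} [CommRing A] [IsDomain A] [ValuationRing A] [CommRing B] [IsLocalRing B]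
    [Algebra A B] [IsLocalHom (algebraMap A B)] [Algebra.EssFiniteType A B]
    {N M : Type u} [AddCommGroup N] [Module B N] [Module A N] [IsScalarTower A B N] [Module.Finite B N]
    [AddCommGroup M] [Module B M] [Module A M] [IsScalarTower A B M] [Module.Finite B M] [Module.Flat A M]
    (u : N →ₗ[B] M)
    (hu : Function.Injective (Submodule.mapQ (IsLocalRing.maximalIdeal A • ⊤ : Submodule A N) (IsLocalRing.maximalIdeal A • ⊤ : Submodule A M) (u.restrictScalars A)
      (fun n hn => Submodule.smul_top_le_comap_smul_top _ _ hn))) :
    Function.Injective u ∧ Module.Flat A (M ⧸ LinearMap.range u) := by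
  classical
  have hu' : ∀ x : N, u x ∈ (IsLocalRing.maximalIdeal A • ⊤ : Submodule A M) →
      x ∈ (IsLocalRing.maximalIdeal A • ⊤ : Submodule A N) := by
    intro x hx
    have h0 : Submodule.mapQ (IsLocalRing.maximalIdeal A • ⊤ : Submodule A N)
        (IsLocalRing.maximalIdeal A • ⊤ : Submodule A M) (u.restrictScalars A)
        (fun n hn => Submodule.smul_top_le_comap_smul_top _ _ hn) (Submodule.Quotient.mk x) = 0 := by
      rw [Submodule.mapQ_apply, Submodule.Quotient.mk_eq_zero]
      exact hx
    have := hu (h0.trans (map_zero _).symm)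
    exact (Submodule.Quotient.mk_eq_zero _).mp this
  -- the polynomial ring and the localization `B'`
  obtain ⟨σ, hσ⟩ := (Algebra.essFiniteType_iff A B).mp inferInstance
  let P := MvPolynomial σ A
  let ψ : P →ₐ[A] B := MvPolynomial.aeval (Subtype.val : σ → B)
  have hrange : ψ.range = Algebra.adjoin A (σ : Set B) := by
    rw [← Algebra.adjoin_range_eq_range_aeval, Subtype.range_coe_subtype]
    rfl
  let q : Ideal P := (IsLocalRing.maximalIdeal B).comap ψ.toRingHom
  haveI hqprime : q.IsPrime := Ideal.comap_isPrime _ _
  let B' := Localization.AtPrime q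
  have hunit : ∀ y : q.primeCompl, IsUnit (ψ y) := by
    intro y
    by_contra hnu
    exact y.2 ((IsLocalRing.mem_maximalIdeal _).mpr hnu)
  let ψ' : B' →ₐ[A] B := IsLocalization.liftAlgHom (M := q.primeCompl) (f := ψ) hunit
  have hψ' : ∀ p : P, ψ' (algebraMap P B' p) = ψ p := fun p => by
    rw [IsLocalization.liftAlgHom_apply, IsLocalization.lift_eq]
    rfl
  have hsurj : Function.Surjective ψ' := by
    intro s
    obtain ⟨t, ht, htu, hst⟩ := hσ s
    rw [← hrange] at ht hst
    obtain ⟨pt, rfl⟩ := ht
    obtain ⟨pa, hpa⟩ := hst
    have hptq : pt ∈ q.primeCompl := by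
      intro hmem
      exact (IsLocalRing.mem_maximalIdeal _).mp hmem htu
    refine ⟨IsLocalization.mk' B' pa ⟨pt, hptq⟩, ?_⟩
    rw [IsLocalization.liftAlgHom_apply, IsLocalization.lift_mk']
    rw [Units.mul_inv_eq_iff_eq_mul]
    simp only [RingHom.toMonoidHom_eq_coe, IsUnit.coe_liftRight, MonoidHom.restrict_apply,
      MonoidHom.coe_coe]
    exact hpa
  haveI hloc' : IsLocalHom (algebraMap A B') := by
    constructor
    intro a ha
    have h1 : IsUnit (ψ' (algebraMap A B' a)) := ha.map ψ'
    rw [AlgHom.commutes] at h1
    exact IsLocalHom.map_nonunit (f := algebraMap A B) a h1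
  -- modules over `B'`
  letI modM : Module B' M := Module.compHom M ψ'.toRingHom
  letI modN : Module B' N := Module.compHom N ψ'.toRingHom
  have hsmulM : ∀ (c : B') (m : M), c • m = ψ' c • m := fun c m => rfl
  have hsmulN : ∀ (c : B') (m : N), c • m = ψ' c • m := fun c m => rfl
  haveI towM : IsScalarTower A B' M := IsScalarTower.of_algebraMap_smul fun a m => by
    rw [hsmulM, AlgHom.commutes, algebraMap_smul]
  haveI towN : IsScalarTower A B' N := IsScalarTower.of_algebraMap_smul fun a m => by
    rw [hsmulN, AlgHom.commutes, algebraMap_smul]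
  have hfin : ∀ (X : Type u) [AddCommGroup X] [Module B X] [Module B' X]
      (_ : ∀ (c : B') (m : X), c • m = ψ' c • m) [Module.Finite B X], Module.Finite B' X := by
    intro X _ _ _ hsm hX
    obtain ⟨s, hs⟩ := hX.fg_top
    refine ⟨⟨s, ?_⟩⟩
    rw [eq_top_iff]
    intro x _
    have hx : x ∈ Submodule.span B (s : Set X) := by rw [hs]; trivial
    induction hx using Submodule.span_induction with
    | mem x hx => exact Submodule.subset_span hx
    | zero => exact Submodule.zero_mem _
    | add a b _ _ ha hb => exact Submodule.add_mem _ (ha trivial) (hb trivial)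
    | smul c a _ ha =>
      obtain ⟨c', rfl⟩ := hsurj c
      rw [← hsm]
      exact Submodule.smul_mem _ c' (ha trivial)
  haveI finM : Module.Finite B' M := hfin M hsmulM
  haveI finN : Module.Finite B' N := hfin N hsmulN
  haveI fpM : Module.FinitePresentation B' M :=
    Groth.Agent.H32.ValFP.finitePresentation_of_flat_essFiniteType A B' M
  have noeth : IsNoetherianRing
      (B' ⧸ (IsLocalRing.maximalIdeal A).map (algebraMap A B')) := by
    letI : Field (A ⧸ IsLocalRing.maximalIdeal A) := Ideal.Quotient.field _
    exact Algebra.EssFiniteType.isNoetherianRing (A ⧸ IsLocalRing.maximalIdeal A)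
      (B' ⧸ (IsLocalRing.maximalIdeal A).map (algebraMap A B'))
  let u'' : N →ₗ[B'] M :=
    { toFun := u
      map_add' := u.map_add
      map_smul' := fun c x => by
        rw [hsmulN, map_smul, RingHom.id_apply, hsmulM] }
  have key : ∀ (I : Ideal A) (x : N), (u.restrictScalars A) x ∈ (I • ⊤ : Submodule A M) →
      x ∈ (I • ⊤ : Submodule A N) := fun I x hx =>
    Groth.Agent.H56.FlatDesc.mem_smul_top_of_finite_source (R := A) (S := B') P q.primeCompl
      u'' hu' I x hx
  exact Groth.Agent.H56.FlatDesc.injective_and_flat_of_forall_ideal (u.restrictScalars A)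
    ((LinearMap.range u).mkQ.restrictScalars A) (by
      intro y
      change (LinearMap.range u).mkQ y = 0 ↔ y ∈ Set.range u
      rw [Submodule.mkQ_apply, Submodule.Quotient.mk_eq_zero]
      rfl) (Submodule.mkQ_surjective _) key


end Groth.Agent.S1351
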