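import Groth.Statements.S1354
import Mathlib
import Groth.Agent.H7.EtaleLocal

set_option autoImplicit false
universe u
open FlatMor

namespace Groth.Agent.S1354

open AlgebraicGeometry CategoryTheory Limits in
/-- Let f be locally of finite type, s a point of the target, and x_1, ..., x_n points over s at each of
which f is quasi-finite. Then there are an elementary étale neighbourhood (U, u) of (S, s) and, for
each i, an open V_i of the base change of X to U which is finite over U, has exactly one point v_i
over u, and v_i maps to x_i inducing a bijection of residue fields. -/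
theorem result {X S : Scheme.{u}} (f : X ⟶ S) [LocallyOfFiniteType f] (s : S) {ι : Type} [Finite ι]
    (x : ι → ↑X) (hs : ∀ i, f (x i) = s) (hx : ∀ i, f.QuasiFiniteAt (x i)) :
    ∃ (U : Scheme.{u}) (g : U ⟶ S) (u : U), Hens2.IsEtaleNbhd g u s ∧
      ∃ (V : ι → (pullback f g).Opens) (v : ι → ↑(pullback f g)), ∀ i, v i ∈ V i ∧ IsFinite ((V i).ι ≫ pullback.snd f g) ∧
        pullback.snd f g (v i) = u ∧ (∀ w : ↑(pullback f g), w ∈ V i → pullback.snd f g w = u → w = v i) ∧
        pullback.fst f g (v i) = x i ∧ Function.Bijective ((pullback.fst f g).residueFieldMap (v i)) := by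
  obtain ⟨U, g, u, -, hget, hgu, hres, V, v, hV⟩ :=
    Groth.Agent.H7.exists_etale_nbhd_finite_parts f s x hs hx
  refine ⟨U, g, u, ⟨hget, hgu, hres⟩, V, v, fun i ↦ ?_⟩
  obtain ⟨h1, h2, h3, h4, h5⟩ := hV i
  refine ⟨h1, h2, h3, h4, h5, ?_⟩
  have hsurj : ∀ y : U, y = u → Function.Surjective (g.residueFieldMap y).hom := by
    rintro y rfl
    exact hres.2
  exact ⟨((pullback.fst f g).residueFieldMap (v i)).hom.injective,
    Groth.Agent.H7.surjective_residueFieldMap_fst f g (v i) (hsurj _ h3)⟩

end Groth.Agent.S1354
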