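import Groth.Statements.S7591
import Groth.Agent.H38.ConnFinite

set_option autoImplicit false
universe u
open CategoryTheory CategoryTheory.Limits AlgebraicGeometry
open Variety

namespace Groth.Agent.S7591

/-- For a scheme X over a field k, geometric connectedness of X over k holds exactly when, for each
finite separable extension field k' of k, the base change X_{k'} is a connected (so nonempty)
scheme. -/
theorem result (k : Type u) [Field k] (X : Scheme.{u}) [X.Over (Spec (CommRingCat.of k))] :
    GeometricallyConnected (X ↘ (Spec (CommRingCat.of k))) ↔
      ∀ (k' : Type u) [Field k'] [Algebra k k'] [FiniteDimensional k k'] [Algebra.IsSeparable k k'],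
        ConnectedSpace ↥(Curv2.bc k X k') := by
  rw [Groth.Agent.H38.GeomIrrField.geometricallyConnected_iff_bc]
  constructor
  · intro h k' _ _ _ _
    exact h k'
  · intro h K _ _
    have h1 : ConnectedSpace ↥(Curv2.bc k X (SeparableClosure k)) := by
      apply Groth.Agent.H38.ConnFinite.connectedSpace_of_finite k X (SeparableClosure k)
      intro E hE
      haveI : Algebra.IsSeparable k E :=
        Algebra.isSeparable_tower_bot_of_isSeparable k E (SeparableClosure k)
      exact h E
    have h2 := Groth.Agent.H38.GalTower.isConnected_preimage_of_sepClosure k X K Set.univ
      isClosed_univ (by rw [Set.preimage_univ]; exact isConnected_univ)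
    rw [Set.preimage_univ] at h2
    exact connectedSpace_iff_univ.mpr h2

end Groth.Agent.S7591
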