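import Groth.Statements.S1355
import Groth.Agent.S7591
import Groth.Agent.H38.FibreEtale
import Groth.Agent.H7.EtaleNbhdResidue

set_option autoImplicit false
universe u
open FlatMor

namespace Groth.Agent.S1355

open AlgebraicGeometry CategoryTheory Limits in
/-- Let f : X → S and s a point of S. The fibre of f over s is geometrically connected if and only if
for every étale morphism U → S and every point u over s, the fibre over u of the base change of f to
U is connected. -/
theorem result {X S : Scheme.{u}} (f : X ⟶ S) (s : S) :
    GeometricallyConnected (f.fiberToSpecResidueField s) ↔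
      ∀ (U : Scheme.{u}) (g : U ⟶ S) (u : U), Etale g → g u = s → ConnectedSpace ↑((pullback.snd f g).fiber u) := by
  constructor
  · intro h U g u _ hu
    have h1 : ConnectedSpace ↑(pullback (f.fiberToSpecResidueField s)
        (Spec.map ((S.residueFieldCongr hu).inv ≫ g.residueFieldMap u))) :=
      pullback_of_geometrically (P := fun Z => ConnectedSpace Z) h.1 (U.residueField u)
        (Spec.map ((S.residueFieldCongr hu).inv ≫ g.residueFieldMap u))
    exact (Groth.Agent.H38.FibreEtale.fibreBCIso f g u s hu).hom.homeomorph.connectedSpace_iff.mpr h1
  · intro h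
    letI : (f.fiber s).Over (Spec (CommRingCat.of (S.residueField s))) :=
      ⟨f.fiberToSpecResidueField s⟩
    refine (Groth.Agent.S7591.result (S.residueField s) (f.fiber s)).mpr ?_
    intro k' _ _ _ _
    obtain ⟨U, g, u, hu, -, hget, he⟩ :=
      Groth.Agent.H7.exists_etale_nbhd_residueField_algEquiv S s k'
    have hconn := h U g u hget hu
    letI : Algebra (S.residueField s) (U.residueField u) :=
      ((S.residueFieldCongr hu).inv ≫ g.residueFieldMap u).hom.toAlgebra
    obtain ⟨e⟩ := he
    have h1 : ConnectedSpace ↑(Curv2.bc (S.residueField s) (f.fiber s) (U.residueField u)) :=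
      (Groth.Agent.H38.FibreEtale.fibreBCIso f g u s hu).hom.homeomorph.connectedSpace_iff.mp hconn
    letI : Algebra k' (U.residueField u) := e.toRingEquiv.toRingHom.toAlgebra
    haveI : IsScalarTower (S.residueField s) k' (U.residueField u) :=
      IsScalarTower.of_algebraMap_eq fun c => (e.commutes c).symm
    exact (Groth.Agent.H38.GalTower.bcMap (S.residueField s) (f.fiber s) k'
      (U.residueField u)).surjective.connectedSpace
      (Groth.Agent.H38.GalTower.bcMap (S.residueField s) (f.fiber s) k'
        (U.residueField u)).continuous

end Groth.Agent.S1355
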