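import Mathlib
import Groth.Statements.S13579
import Groth.Agent.H35.LTP.Final

set_option autoImplicit false
universe u
open CategoryTheory CategoryTheory.Limits MonoidalCategory
attribute [local instance] HasDerivedCategory.standard
open DTen

namespace Groth.Agent.S13579

/-- Let `A` be a Noetherian commutative ring (the derived tensor product on `D(A)` being assumed to
exist and to be computed by K-flat complexes), `I` an ideal and `K` a bounded cochain complex of
finite `A`-modules. Then the inverse system of canonical morphisms `K ⊗^L_A A/I^{n+1} ⟶ K/I^{n+1}K`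
in `D(A)` is an isomorphism of pro-objects. Here `K/I^{n+1}K` is written as the plain tensor product
complex `K ⊗_A (A/I^{n+1})[0]`, to which it is canonically isomorphic, and the morphisms are the
canonical maps from the derived to the plain tensor product. -/
theorem result (A : Type u) [CommRing A] [IsNoetherianRing A]
    [DTen.HasLTen A] [DTen.KFlatComputes A] (I : Ideal A) (K : DRing.Cx A) (a b : ℤ) (hK : DRing.VanishesOutside K a b)
    (hKf : ∀ i : ℤ, Module.Finite A (K.X i)) :
    DerCA.IsProIso (Functor.whiskerLeft
      (CohIII.adicSystem I (ModuleCat.of A A) ⋙ HomologicalComplex.single (ModuleCat.{u} A) (ComplexShape.up ℤ) 0)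
      (DTen.εLeft A K)) := by
  intro n
  obtain ⟨m, h, bb, h1, h2⟩ := Groth.Agent.H35.LTP.main_LTen A I K a b hK hKf n
  have e := Groth.Agent.H35.LTP.adicSystem_map I n m h
  refine ⟨m, h, bb, ?_, ?_⟩
  · have hX : ARSys.tr ((CohIII.adicSystem I (ModuleCat.of A A) ⋙
        HomologicalComplex.single (ModuleCat.{u} A) (ComplexShape.up ℤ) 0) ⋙
        (DerivedCategory.Q ⋙ (DTen.LTen A).obj (DerivedCategory.Q.obj K))) h =
        (DTen.LTen₂ A).map (Prod.mkHom (𝟙 (DerivedCategory.Q.obj K))
          (DerivedCategory.Q.map ((Groth.Agent.H35.LTI.S0 A).map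
            (Groth.Agent.H35.LTP.trB (Ideal.pow_le_pow_right (Nat.succ_le_succ h)))))) := by
      rw [← e]
      rfl
    exact h1.trans hX.symm
  · have hY : ARSys.tr ((CohIII.adicSystem I (ModuleCat.of A A) ⋙
        HomologicalComplex.single (ModuleCat.{u} A) (ComplexShape.up ℤ) 0) ⋙
        (tensorLeft K ⋙ DerivedCategory.Q)) h =
        DerivedCategory.Q.map (K ◁ (Groth.Agent.H35.LTI.S0 A).map
            (Groth.Agent.H35.LTP.trB (Ideal.pow_le_pow_right (Nat.succ_le_succ h)))) := by
      rw [← e]
      rfl
    exact h2.trans hY.symm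

end Groth.Agent.S13579
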