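import Groth.Statements.S1360
import Groth.Agent.H49.FlatInfScheme
import Groth.Agent.H25.UnramBC
import Groth.Agent.H25.EtaleAt

set_option autoImplicit false
universe u
open FlatMor

namespace Groth.Agent.S1360

open AlgebraicGeometry CategoryTheory Limits in
/-- Let S be locally Noetherian, f : X → S of finite type, and Z the closed subscheme of S cut out by an
ideal sheaf I. If the base change of f to every infinitesimal neighbourhood of Z is étale, then
every point of X over Z has an open neighbourhood on which f is étale. -/
theorem result {X S : Scheme.{u}} (f : X ⟶ S) [IsLocallyNoetherian S] [LocallyOfFinitePresentation f] [QuasiCompact f]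
    (I : S.IdealSheafData) (h : ∀ n : ℕ, Etale (pullback.snd f (I ^ (n + 1)).subschemeι)) (x : X) (hx : f x ∈ I.support) :
    ∃ U : X.Opens, x ∈ U ∧ Etale (U.ι ≫ f) := by
  have : IsLocallyNoetherian X := LocallyOfFiniteType.isLocallyNoetherian f
  have h1 : (f.stalkMap x).hom.Flat :=
    Groth.Agent.H49.FlatInf.flat_stalkMap_of_flat_infinitesimal f I (fun n => inferInstance) x hx
  -- a point of the first infinitesimal neighbourhood over `x`
  have hx' : f x ∈ (I ^ (0 + 1)).support := by
    have : I ^ (0 + 1) = I := by rw [zero_add, pow_one]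
    rw [this]; exact hx
  have hr : f x ∈ Set.range (I ^ (0 + 1)).subschemeι := by
    rw [Scheme.IdealSheafData.range_subschemeι]; exact hx'
  obtain ⟨z, hz⟩ := hr
  obtain ⟨u, hu1, hu2⟩ := Scheme.Pullback.exists_preimage_pullback x z hz.symm
  have hc : IsPullback (pullback.fst f (I ^ (0 + 1)).subschemeι)
      (pullback.snd f (I ^ (0 + 1)).subschemeι) f (I ^ (0 + 1)).subschemeι :=
    IsPullback.of_hasPullback _ _
  have h2' : ((pullback.snd f (I ^ (0 + 1)).subschemeι).stalkMap u).hom.FormallyUnramified :=
    have := h 0
    FormallyUnramified.stalkMap _ u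
  have h2 : (f.stalkMap x).hom.FormallyUnramified := by
    have := (Groth.Agent.H25.UnramBC.formallyUnramified_stalkMap_iff_of_isPullback hc u).mp h2'
    rwa [hu1] at this
  exact Groth.Agent.H25.EtaleAt.exists_etale_nhd_of_stalkMap f x h1 h2

end Groth.Agent.S1360
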