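import Groth.Statements.S13603

set_option autoImplicit false
universe u v
open CAlg

namespace Groth.Agent.S13603

/-- Let a group G act on a commutative ring B by ring automorphisms so that every element of B has a
finite orbit, and let S ⊆ B be a multiplicative set of G-fixed elements (so each g ∈ G induces an
endomorphism of the localization S⁻¹B; the hypothesis that g maps S into S is implied by the
previous one and is only carried to name that endomorphism). Then an element of S⁻¹B is fixed by all
of G if and only if it is a fraction b/s with b fixed by G and s ∈ S: the canonical map S⁻¹(B^G) →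
(S⁻¹B)^G is onto. -/
theorem result {B : Type u} [CommRing B]
    {G : Type v} [Group G] [MulSemiringAction G B] (hfin : ∀ b : B, (MulAction.orbit G b).Finite)
    (S : Submonoid B) (hS : ∀ (g : G) (s : B), s ∈ S → g • s = s)
    (hS' : ∀ g : G, S ≤ S.comap (MulSemiringAction.toRingHom G B g)) (x : Localization S) :
    (∀ g : G, IsLocalization.map (Localization S) (MulSemiringAction.toRingHom G B g) (hS' g) x = x) ↔
      ∃ (b : B) (s : S), (∀ g : G, g • b = b) ∧ x = IsLocalization.mk' (Localization S) b s := by
  classical
  have hmap : ∀ (g : G) (b : B) (s : S),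
      IsLocalization.map (Localization S) (MulSemiringAction.toRingHom G B g) (hS' g)
        (IsLocalization.mk' (Localization S) b s) = IsLocalization.mk' (Localization S) (g • b) s := by
    intro g b s
    rw [IsLocalization.map_mk']
    congr 1
    exact Subtype.ext (hS g s s.2)
  constructor
  · intro hx
    obtain ⟨b, s, rfl⟩ := IsLocalization.exists_mk'_eq S x
    have key : ∀ y ∈ MulAction.orbit G b, ∃ t : S, (t : B) * y = t * b := by
      rintro y ⟨g, rfl⟩
      have h := hx g
      rw [hmap] at h
      rw [IsLocalization.mk'_eq_iff_eq, IsLocalization.eq_iff_exists S] at h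
      obtain ⟨c, hc⟩ := h
      refine ⟨c * s, ?_⟩
      simpa [mul_assoc] using hc
    have fin : ∀ F : Finset B, (∀ y ∈ F, ∃ t : S, (t : B) * y = t * b) →
        ∃ t : S, ∀ y ∈ F, (t : B) * y = t * b := by
      intro F
      induction F using Finset.induction_on with
      | empty => intro _; exact ⟨1, by simp⟩
      | insert a F _ ih =>
        intro h
        obtain ⟨ta, hta⟩ := h a (Finset.mem_insert_self a F)
        obtain ⟨tF, htF⟩ := ih (fun y hy => h y (Finset.mem_insert_of_mem hy))
        refine ⟨ta * tF, fun y hy => ?_⟩
        rcases Finset.mem_insert.1 hy with rfl | hy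
        · simp only [Submonoid.coe_mul]
          calc (ta : B) * tF * y = tF * (ta * y) := by ring
            _ = tF * (ta * b) := by rw [hta]
            _ = ta * tF * b := by ring
        · simp only [Submonoid.coe_mul]
          calc (ta : B) * tF * y = ta * (tF * y) := by ring
            _ = ta * (tF * b) := by rw [htF y hy]
            _ = ta * tF * b := by ring
    obtain ⟨t, ht⟩ := fin (hfin b).toFinset (fun y hy => key y ((hfin b).mem_toFinset.1 hy))
    refine ⟨t * b, t * s, fun g => ?_, ?_⟩
    · rw [smul_mul', hS g t t.2]
      exact ht (g • b) ((hfin b).mem_toFinset.2 ⟨g, rfl⟩)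
    · rw [IsLocalization.mk'_eq_iff_eq]
      simp only [Submonoid.coe_mul]
      congr 1
      ring
  · rintro ⟨b, s, hb, rfl⟩ g
    rw [hmap, hb]

end Groth.Agent.S13603
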