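import Groth.Statements.S13605
import Groth.Agent.H68.FibPowAffine
-- import your own Groth.Agent.* helpers here

set_option autoImplicit false
universe u
open CategoryTheory AlgebraicGeometry
open CategoryTheory.Limits
open SymProd

namespace Groth.Agent.S13605

/-- Let f : X ⟶ S be a morphism of schemes satisfying (AF) (every finite set of points of X over a
single point of S lies in an affine open of X), let 𝒮 be a cover of S by affine opens, let d ≥ 1 and
let (Y, q, g) be a d-th symmetric power of X over S: q : X ×_S ⋯ ×_S X ⟶ Y is a quotient by the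
symmetric group on d letters permuting the factors (affine, invariant, sections of O_Y = invariant
sections) and q ≫ g is the structure map of the fibre power. Then Y is covered by affine opens of
the form Sym^d(U/V) with V in the given cover: for every point y of Y there are V ∈ 𝒮 and an affine
open U ⊆ f⁻¹V of X such that the open W = ⋂_i pr_i⁻¹ U of the fibre power (the fibre power of U over
V) is affine and stable under every permutation of the factors, and an affine open W' of Y
containing y with q⁻¹ W' = W. (The published statement also fixes an affine open cover of X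
subordinate to the cover of S, in which any d points over a common point of a member V lie in a
common member mapping into V, and concludes that the corresponding opens Sym^d(U/V) cover Y; this
row states the pointwise form, producing U for each y.) -/
theorem result {X S Y : Scheme.{u}} (f : X ⟶ S) (hAF : SymProd.IsAF f)
    (𝒮 : Set S.Opens) (h𝒮 : ∀ V ∈ 𝒮, IsAffineOpen V) (hcov : ∀ s : S, ∃ V ∈ 𝒮, s ∈ V)
    (d : ℕ) (hd : 0 < d) (q : SymProd.fibPow f d ⟶ Y) (g : Y ⟶ S) (hq : SymProd.IsSymProd f d q g) (y : Y) :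
    ∃ V ∈ 𝒮, ∃ U : X.Opens, IsAffineOpen U ∧ U ≤ f ⁻¹ᵁ V ∧
      ∃ W : (SymProd.fibPow f d).Opens,
        (W : Set ↥(SymProd.fibPow f d)) =
          ⋂ i : Fin d, (WidePullback.π (fun _ : Fin d => f) i).base ⁻¹' (U : Set X) ∧
        IsAffineOpen W ∧ (∀ σ : Equiv.Perm (Fin d), (SymProd.permHom f d σ) ⁻¹ᵁ W = W) ∧
        ∃ W' : Y.Opens, y ∈ W' ∧ IsAffineOpen W' ∧ q ⁻¹ᵁ W' = W := by
  classical
  have hquot : SGA1.IsQuot (SymProd.permActU f d) q := hq.isQuot
  obtain ⟨x, rfl⟩ := Groth.Agent.H15.Quot.surjective hquot y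
  obtain ⟨V, hV𝒮, hxV⟩ := hcov ((CategoryTheory.Limits.WidePullback.base (fun _ : Fin d => f)).base x)
  obtain ⟨U, hU, hUV, hxU⟩ := Groth.Agent.H68.FPA.exists_chart hAF x V hxV
  have hxW : x ∈ Groth.Agent.H68.FPA.boxOpen f d V U :=
    (Groth.Agent.H68.FPA.mem_boxOpen f d x).mpr ⟨hxV, hxU⟩
  -- stability
  have hstab : ∀ (σ : Equiv.Perm (Fin d)) (z : SymProd.fibPow f d),
      (SymProd.permHom f d σ).base z ∈ Groth.Agent.H68.FPA.boxOpen f d V U ↔
        z ∈ Groth.Agent.H68.FPA.boxOpen f d V U := by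
    intro σ z
    refine ⟨fun h => ?_, Groth.Agent.H68.FPA.permHom_mem_boxOpen V U σ z⟩
    have h1 := Groth.Agent.H68.FPA.permHom_mem_boxOpen V U σ⁻¹ _ h
    rw [← Scheme.Hom.comp_apply, ← SymProd.permHom_mul, inv_mul_cancel, SymProd.permHom_one] at h1
    exact h1
  refine ⟨V, hV𝒮, U, hU, hUV, Groth.Agent.H68.FPA.boxOpen f d V U, ?_,
    Groth.Agent.H68.FPA.isAffineOpen_boxOpen V U hUV (h𝒮 V hV𝒮) hU, ?_, ?_⟩
  · -- the underlying set
    ext z
    rw [SetLike.mem_coe, Groth.Agent.H68.FPA.mem_boxOpen, Set.mem_iInter]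
    refine ⟨fun h => h.2, fun h => ⟨?_, h⟩⟩
    have h0 := hUV (h ⟨0, hd⟩)
    change f.base ((CategoryTheory.Limits.WidePullback.π (fun _ : Fin d => f) ⟨0, hd⟩).base z) ∈ V at h0
    rwa [← Scheme.Hom.comp_apply, CategoryTheory.Limits.WidePullback.π_arrow] at h0
  · intro σ
    ext z
    exact hstab σ z
  · -- the image in `Y`
    have hsat : q.base ⁻¹' (q.base '' (Groth.Agent.H68.FPA.boxOpen f d V U : Set _)) =
        (Groth.Agent.H68.FPA.boxOpen f d V U : Set _) := by
      ext z
      constructor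
      · rintro ⟨w, hw, hwz⟩
        obtain ⟨g, hg⟩ := (Groth.Agent.H15.Quot.base_eq_iff hquot w z).mp hwz
        rw [← hg]
        exact (hstab g.down w).mpr hw
      · intro hz
        exact ⟨z, hz, rfl⟩
    have hopen : IsOpen (q.base '' (Groth.Agent.H68.FPA.boxOpen f d V U : Set _)) := by
      rw [← (Groth.Agent.H15.Quot.isQuotientMap hquot).isOpen_preimage, hsat]
      exact (Groth.Agent.H68.FPA.boxOpen f d V U).2
    have hpre : q ⁻¹ᵁ (⟨_, hopen⟩ : Y.Opens) = Groth.Agent.H68.FPA.boxOpen f d V U :=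
      TopologicalSpace.Opens.ext hsat
    refine ⟨⟨_, hopen⟩, ⟨x, hxW, rfl⟩, ?_, hpre⟩
    apply Groth.Agent.H15.Quot.isAffineOpen_of_isAffineOpen_preimage hquot
    rw [hpre]
    exact Groth.Agent.H68.FPA.isAffineOpen_boxOpen V U hUV (h𝒮 V hV𝒮) hU

end Groth.Agent.S13605
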