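import Groth.Statements.S13608
import Mathlib.RingTheory.AdicCompletion.Completeness

set_option autoImplicit false
universe u v
open CAlg

namespace Groth.Agent.S13608

/-- Let A be a commutative ring, I a finitely generated ideal of A and (M_n) an inverse system of
A-modules with transition maps f_n : M_(n+1) → M_n such that I^(n+1) M_n = 0 for every n. If L is an
inverse limit of the system (projections π_n compatible with the f_n, jointly injective, and such
that every compatible family of elements lifts to L), then L is complete and separated for the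
I-adic topology. No surjectivity of the transition maps is assumed. -/
theorem result
    (A : Type u) [CommRing A] (I : Ideal A) (hI : I.FG)
    (M : ℕ → Type v) [∀ n, AddCommGroup (M n)] [∀ n, Module A (M n)]
    (f : ∀ n, M (n + 1) →ₗ[A] M n)
    (hkill : ∀ n, I ^ (n + 1) • (⊤ : Submodule A (M n)) = ⊥)
    (L : Type v) [AddCommGroup L] [Module A L] (π : ∀ n, L →ₗ[A] M n)
    (hπ : ∀ n, f n ∘ₗ π (n + 1) = π n)
    (hinj : ∀ x : L, (∀ n, π n x = 0) → x = 0)
    (hlift : ∀ y : (∀ n, M n), (∀ n, f n (y (n + 1)) = y n) → ∃ x : L, ∀ n, π n x = y n) :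
    IsAdicComplete I L := by
  -- `π n` kills `I ^ (n+1) • ⊤`
  have hker : ∀ n, (I ^ (n + 1) • ⊤ : Submodule A L) ≤ LinearMap.ker (π n) := by
    intro n x hx
    have h1 : (I ^ (n + 1) • ⊤ : Submodule A L).map (π n) ≤ I ^ (n + 1) • ⊤ := by
      rw [Submodule.map_smul'']
      exact Submodule.smul_mono le_rfl le_top
    have h2 := h1 (Submodule.mem_map_of_mem hx)
    rw [hkill n] at h2
    simpa using h2
  -- Hausdorff
  have hH : IsHausdorff I L := by
    refine ⟨fun x hx => hinj x (fun n => ?_)⟩
    exact hker n ((SModEq.zero).1 (hx (n + 1)))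
  -- the two maps into the product
  let Φ : L →ₗ[A] (∀ n, M n) := LinearMap.pi π
  have hΦ : Function.Injective Φ := by
    rw [← LinearMap.ker_eq_bot, LinearMap.ker_eq_bot']
    intro x hx
    exact hinj x (fun n => congrFun hx n)
  let πbar : ∀ n, (L ⧸ (I ^ (n + 1) • ⊤ : Submodule A L)) →ₗ[A] M n :=
    fun n => (I ^ (n + 1) • ⊤ : Submodule A L).liftQ (π n) (hker n)
  let Ψ : AdicCompletion I L →ₗ[A] (∀ n, M n) :=
    LinearMap.pi (fun n => (πbar n) ∘ₗ (AdicCompletion.eval I L (n + 1)))
  have hΨΦ : LinearMap.range Ψ ≤ LinearMap.range Φ := by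
    rintro _ ⟨x, rfl⟩
    have hc : ∀ n, f n (Ψ x (n + 1)) = Ψ x n := by
      intro n
      obtain ⟨w, hw⟩ := Submodule.Quotient.mk_surjective _ (x.val (n + 1 + 1))
      have hw' : x.val (n + 1) = Submodule.Quotient.mk w := by
        have := x.property (show n + 1 ≤ n + 1 + 1 by omega)
        rw [← this, ← hw]
        rfl
      have e1 : Ψ x (n + 1) = π (n + 1) w := by
        show πbar (n + 1) (x.val (n + 1 + 1)) = _
        rw [← hw]
        rfl
      have e2 : Ψ x n = π n w := by
        show πbar n (x.val (n + 1)) = _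
        rw [hw']
        rfl
      rw [e1, e2, ← hπ n]
      rfl
    obtain ⟨ℓ, hℓ⟩ := hlift (Ψ x) hc
    exact ⟨ℓ, funext hℓ⟩
  let p : AdicCompletion I L →ₗ[A] L :=
    (LinearEquiv.ofInjective Φ hΦ).symm.toLinearMap ∘ₗ
      (Ψ.codRestrict (LinearMap.range Φ) (fun x => hΨΦ (LinearMap.mem_range_self Ψ x)))
  have hp : ∀ x, Φ (p x) = Ψ x := by
    intro x
    have := (LinearEquiv.ofInjective Φ hΦ).apply_symm_apply
      (Ψ.codRestrict (LinearMap.range Φ) (fun x => hΨΦ (LinearMap.mem_range_self Ψ x)) x)
    exact congrArg Subtype.val this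
  have hpof : ∀ ℓ : L, p (AdicCompletion.of I L ℓ) = ℓ := by
    intro ℓ
    apply hΦ
    rw [hp]
    funext n
    rfl
  have := AdicCompletion.isAdicComplete (I := I) (M := L) hI
  have hP : IsPrecomplete I L := by
    refine ⟨fun g hg => ?_⟩
    let x : AdicCompletion I L := AdicCompletion.mk I L ⟨g, fun {m n} hmn => hg hmn⟩
    refine ⟨p x, fun n => ?_⟩
    rw [SModEq.sub_mem]
    have h1 : AdicCompletion.of I L (g n) - x ∈ (I ^ n • ⊤ : Submodule A (AdicCompletion I L)) := by
      rw [AdicCompletion.pow_smul_top_eq_ker_eval hI, LinearMap.mem_ker, map_sub, sub_eq_zero]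
      rfl
    have h2 : (I ^ n • ⊤ : Submodule A (AdicCompletion I L)).map p ≤ I ^ n • ⊤ := by
      rw [Submodule.map_smul'']
      exact Submodule.smul_mono le_rfl le_top
    have h3 := h2 (Submodule.mem_map_of_mem h1)
    rwa [map_sub, hpof] at h3
  exact { toIsHausdorff := hH, toIsPrecomplete := hP }

end Groth.Agent.S13608
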