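import Groth.Statements.S13609

set_option autoImplicit false
universe u v
open CAlg

namespace Groth.Agent.S13609

/-- A direct summand of a module that is complete and separated for the I-adic topology is again
complete and separated: for a commutative ring A, an ideal I and A-modules M₁, M₂, if M₁ × M₂ is
I-adically complete then so is M₁. -/
theorem result (A : Type u) [CommRing A] (I : Ideal A)
    (M₁ M₂ : Type v) [AddCommGroup M₁] [Module A M₁] [AddCommGroup M₂] [Module A M₂]
    [IsAdicComplete I (M₁ × M₂)] : IsAdicComplete I M₁ := by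
  have hinl : ∀ (n : ℕ) (x : M₁), x ∈ (I ^ n • ⊤ : Submodule A M₁) →
      (LinearMap.inl A M₁ M₂ x) ∈ (I ^ n • ⊤ : Submodule A (M₁ × M₂)) := by
    intro n x hx
    have : (I ^ n • ⊤ : Submodule A M₁).map (LinearMap.inl A M₁ M₂) ≤ I ^ n • ⊤ := by
      rw [Submodule.map_smul'']
      exact Submodule.smul_mono le_rfl le_top
    exact this (Submodule.mem_map_of_mem hx)
  have hfst : ∀ (n : ℕ) (x : M₁ × M₂), x ∈ (I ^ n • ⊤ : Submodule A (M₁ × M₂)) →
      x.1 ∈ (I ^ n • ⊤ : Submodule A M₁) := by
    intro n x hx
    have : (I ^ n • ⊤ : Submodule A (M₁ × M₂)).map (LinearMap.fst A M₁ M₂) ≤ I ^ n • ⊤ := by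
      rw [Submodule.map_smul'']
      exact Submodule.smul_mono le_rfl le_top
    exact this (Submodule.mem_map_of_mem hx)
  have hH : IsHausdorff I M₁ := by
    refine ⟨fun x hx => ?_⟩
    have h0 : (LinearMap.inl A M₁ M₂ x) = 0 := by
      apply IsHausdorff.haus (I := I) inferInstance
      intro n
      rw [SModEq.zero]
      exact hinl n x ((SModEq.zero).1 (hx n))
    simpa using congrArg Prod.fst h0
  have hP : IsPrecomplete I M₁ := by
    refine ⟨fun f hf => ?_⟩
    obtain ⟨L, hL⟩ := IsPrecomplete.prec (I := I) (M := M₁ × M₂) inferInstance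
      (f := fun n => LinearMap.inl A M₁ M₂ (f n)) (by
        intro m n hmn
        rw [SModEq.sub_mem, ← map_sub]
        exact hinl m _ ((SModEq.sub_mem).1 (hf hmn)))
    refine ⟨L.1, fun n => ?_⟩
    rw [SModEq.sub_mem]
    have := hfst n _ ((SModEq.sub_mem).1 (hL n))
    simpa using this
  exact { toIsHausdorff := hH, toIsPrecomplete := hP }

end Groth.Agent.S13609
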