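import Groth.Statements.S13621
import Mathlib.Algebra.Homology.ShortComplex.ExactFunctor
import Mathlib.CategoryTheory.Limits.Preserves.FunctorCategory
import Mathlib.CategoryTheory.Abelian.Exact

set_option autoImplicit false
open CategoryTheory CategoryTheory.Limits Opposite
universe v u
open ARSys

namespace Groth.Agent.S13621

section
variable {C : Type u} [Category.{v} C]

/-- the canonical translation map as a morphism of systems -/
def sig (r : ℕ) (Z : ARSys.PS C) : (ARSys.shift C r).obj Z ⟶ Z where
  app k := Z.map (homOfLE (Nat.le_add_right k.unop r)).op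
  naturality k l φ := by
    induction k using Opposite.rec with
    | op n =>
    induction l using Opposite.rec with
    | op m =>
      have hle : m ≤ n := leOfHom φ.unop
      have h1 : ((ARSys.shift C r).obj Z).map φ =
          Z.map (homOfLE (show m + r ≤ n + r by omega)).op := rfl
      have h2 : φ = (homOfLE hle).op := rfl
      rw [h1, h2]
      show Z.map (homOfLE (show m + r ≤ n + r by omega)).op ≫ Z.map (homOfLE (Nat.le_add_right m r)).op =
        Z.map (homOfLE (Nat.le_add_right n r)).op ≫ Z.map (homOfLE hle).op
      rw [← Functor.map_comp, ← Functor.map_comp]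
      rfl

theorem sig_nat (r : ℕ) {Z Z' : ARSys.PS C} (g : Z ⟶ Z') :
    (ARSys.shift C r).map g ≫ sig r Z' = sig r Z ≫ g := by
  ext k
  show g.app _ ≫ Z'.map _ = Z.map _ ≫ g.app _
  exact (g.naturality _).symm

instance shiftAdditive [Preadditive C] (r : ℕ) : (ARSys.shift C r).Additive :=
  inferInstanceAs ((Functor.whiskeringLeft ℕᵒᵖ ℕᵒᵖ C).obj (ARSys.addF r).op).Additive

instance shiftPFL [HasFiniteLimits C] (r : ℕ) : PreservesFiniteLimits (ARSys.shift C r) :=
  inferInstanceAs (PreservesFiniteLimits ((Functor.whiskeringLeft ℕᵒᵖ ℕᵒᵖ C).obj (ARSys.addF r).op))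

instance shiftPFC [HasFiniteColimits C] (r : ℕ) : PreservesFiniteColimits (ARSys.shift C r) :=
  inferInstanceAs (PreservesFiniteColimits ((Functor.whiskeringLeft ℕᵒᵖ ℕᵒᵖ C).obj (ARSys.addF r).op))

theorem sig_eq_zero [HasZeroMorphisms C] (r : ℕ) (Z : ARSys.PS C)
    (h : ∀ n : ℕ, ARSys.shiftMap Z r n = 0) : sig r Z = 0 := by
  ext k
  induction k using Opposite.rec with
  | op n => exact h n

end

/-- The inverse limit is a well-defined functor on projective systems up to translation. Concretely: in
an abelian category with limits of shape ℕᵒᵖ, a morphism u : X ⟶ Y of projective systems indexed by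
the natural numbers whose kernel and cokernel are null up to translation induces an isomorphism lim
X ⟶ lim Y. (The published statement is the functoriality of lim on the category of systems up to
translation; combined with the description of isomorphisms there as the morphisms with null kernel
and cokernel, this is the form stated.) -/
theorem result {C : Type u} [Category.{v} C] [Abelian C] [HasLimitsOfShape ℕᵒᵖ C]
    {X Y : ARSys.PS C} (u : X ⟶ Y) (hu : ARSys.IsARIso u) : IsIso (limMap u) := by
  obtain ⟨⟨r, hr⟩, ⟨s, hs⟩⟩ := hu
  have hK : sig r (kernel u) = 0 := sig_eq_zero r _ hr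
  have hQ : sig s (cokernel u) = 0 := sig_eq_zero s _ hs
  -- the two short exact pieces
  let e := Abelian.factorThruImage u
  let m := Abelian.image.ι u
  have hem : e ≫ m = u := Abelian.image.fac u
  let S₁ : ShortComplex (ARSys.PS C) := ShortComplex.mk (kernel.ι u) e (by
    rw [← cancel_mono m, Category.assoc, hem, kernel.condition, zero_comp])
  let S₁' : ShortComplex (ARSys.PS C) := ShortComplex.mk (kernel.ι u) u (kernel.condition u)
  have hS₁' : S₁'.Exact := ShortComplex.exact_of_f_is_kernel _ (kernelIsKernel u)
  let φ : S₁ ⟶ S₁' :=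
    { τ₁ := 𝟙 _, τ₂ := 𝟙 _, τ₃ := m, comm₁₂ := by simp [S₁, S₁'], comm₂₃ := by simp [S₁, S₁', hem] }
  have hS₁ : S₁.Exact := by
    have : Epi φ.τ₁ := by dsimp [φ]; infer_instance
    have : IsIso φ.τ₂ := by dsimp [φ]; infer_instance
    have : Mono φ.τ₃ := by dsimp [φ, m]; infer_instance
    exact (ShortComplex.exact_iff_of_epi_of_isIso_of_mono φ).2 hS₁'
  let S₂ : ShortComplex (ARSys.PS C) := ShortComplex.mk m (cokernel.π u) (by
    dsimp [m]; exact kernel.condition _)
  have hS₂ : S₂.Exact := ShortComplex.exact_of_f_is_kernel _ (kernelIsKernel (cokernel.π u))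
  have : Mono S₂.f := by dsimp [S₂, m]; infer_instance
  have : Epi S₁.g := by dsimp [S₁, e]; infer_instance
  -- b : Y[s] ⟶ image u
  have hb0 : sig s Y ≫ S₂.g = 0 := by
    show sig s Y ≫ cokernel.π u = 0
    rw [← sig_nat, hQ, comp_zero]
  let b : (ARSys.shift C s).obj Y ⟶ Abelian.image u := hS₂.lift (sig s Y) hb0
  have hb : b ≫ m = sig s Y := hS₂.lift_f _ _
  -- c : (image u)[r] ⟶ X
  have hS₁r : (S₁.map (ARSys.shift C r)).Exact := hS₁.map (ARSys.shift C r)
  have : Epi (S₁.map (ARSys.shift C r)).g := by
    show Epi ((ARSys.shift C r).map S₁.g)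
    infer_instance
  have hc0 : (S₁.map (ARSys.shift C r)).f ≫ sig r X = 0 := by
    show (ARSys.shift C r).map (kernel.ι u) ≫ sig r X = 0
    rw [sig_nat, hK, zero_comp]
  let c : (ARSys.shift C r).obj (Abelian.image u) ⟶ X := hS₁r.desc (sig r X) hc0
  have hc : (ARSys.shift C r).map e ≫ c = sig r X := hS₁r.g_desc _ _
  have hce : c ≫ e = sig r (Abelian.image u) := by
    have : Epi ((ARSys.shift C r).map e) := by
      show Epi ((ARSys.shift C r).map S₁.g); infer_instance
    rw [← cancel_epi ((ARSys.shift C r).map e), ← Category.assoc, hc, sig_nat]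
  let v : (ARSys.shift C r).obj ((ARSys.shift C s).obj Y) ⟶ X := (ARSys.shift C r).map b ≫ c
  have hv1 : v ≫ u = sig r ((ARSys.shift C s).obj Y) ≫ sig s Y := by
    rw [← hem, ← hb]
    simp only [v, Category.assoc]
    rw [← Category.assoc c e m, hce, ← Category.assoc _ (sig r _) m, sig_nat, Category.assoc]
  have hbu : (ARSys.shift C s).map u ≫ b = sig s X ≫ e := by
    rw [← cancel_mono m, Category.assoc, hb, sig_nat, Category.assoc, hem]
  have hv2 : (ARSys.shift C r).map ((ARSys.shift C s).map u) ≫ v =
      (ARSys.shift C r).map (sig s X) ≫ sig r X := by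
    simp only [v]
    rw [← Category.assoc, ← Functor.map_comp, hbu, Functor.map_comp, Category.assoc, hc]
  -- pointwise versions
  let vn : ∀ n : ℕ, Y.obj (op (n + r + s)) ⟶ X.obj (op n) := fun n => v.app (op n)
  have hvn : ∀ (n m : ℕ) (h : n ≤ m),
      Y.map (homOfLE (show n + r + s ≤ m + r + s by omega)).op ≫ vn n =
        vn m ≫ X.map (homOfLE h).op :=
    fun n m h => v.naturality (homOfLE h).op
  have pv1 : ∀ n : ℕ, vn n ≫ u.app (op n) =
      Y.map (homOfLE (show n ≤ n + r + s by omega)).op := by
    intro n
    have h := congrArg (fun t => t.app (op n)) hv1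
    have h' : vn n ≫ u.app (op n) =
        (Y.map (homOfLE (show n + s ≤ n + r + s by omega)).op ≫
          Y.map (homOfLE (show n ≤ n + s by omega)).op :
          Y.obj (op (n + r + s)) ⟶ Y.obj (op n)) := h
    rw [h', ← Functor.map_comp]
    rfl
  have pv2 : ∀ n : ℕ, u.app (op (n + r + s)) ≫ vn n =
      X.map (homOfLE (show n ≤ n + r + s by omega)).op := by
    intro n
    have h := congrArg (fun t => t.app (op n)) hv2
    have h' : u.app (op (n + r + s)) ≫ vn n =
        (X.map (homOfLE (show n + r ≤ n + r + s by omega)).op ≫
          X.map (homOfLE (show n ≤ n + r by omega)).op :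
          X.obj (op (n + r + s)) ⟶ X.obj (op n)) := h
    rw [h', ← Functor.map_comp]
    rfl
  -- the inverse
  let cone : Cone X :=
    { pt := limit Y
      π :=
        { app := fun k => limit.π Y (op (k.unop + r + s)) ≫ vn k.unop
          naturality := by
            intro k l φ
            induction k using Opposite.rec with
            | op a =>
            induction l using Opposite.rec with
            | op b =>
              have hle : b ≤ a := leOfHom φ.unop
              have hφ : φ = (homOfLE hle).op := rfl
              rw [hφ]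
              show 𝟙 _ ≫ limit.π Y (op (b + r + s)) ≫ vn b =
                (limit.π Y (op (a + r + s)) ≫ vn a) ≫ X.map (homOfLE hle).op
              rw [Category.id_comp, Category.assoc, ← hvn b a hle, ← Category.assoc]
              congr 1
              exact (limit.w Y _).symm } }
  let w : limit Y ⟶ limit X := limit.lift X cone
  have hw : ∀ n : ℕ, w ≫ limit.π X (op n) = limit.π Y (op (n + r + s)) ≫ vn n :=
    fun n => limit.lift_π cone (op n)
  refine ⟨w, ?_, ?_⟩
  · ext k
    induction k using Opposite.rec with
    | op n =>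
      rw [Category.assoc, Category.id_comp, hw n, ← Category.assoc, limMap_π, Category.assoc,
        pv2 n]
      exact limit.w X _
  · ext k
    induction k using Opposite.rec with
    | op n =>
      rw [Category.assoc, Category.id_comp, limMap_π, ← Category.assoc, hw n, Category.assoc,
        pv1 n]
      exact limit.w Y _

end Groth.Agent.S13621
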