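import Groth.Statements.S13628
import Mathlib.AlgebraicGeometry.ResidueField
import Mathlib.FieldTheory.IsAlgClosed.AlgebraicClosure
import Mathlib.AlgebraicGeometry.Morphisms.UnderlyingMap
import Mathlib.AlgebraicGeometry.PullbackCarrier

set_option autoImplicit false
universe u
open CategoryTheory CategoryTheory.Limits AlgebraicGeometry Opposite
open FBase

namespace Groth.Agent.S13628

/-- Let P be a property of schemes over fields, invariant under isomorphisms of schemes over the base
field and invariant in both directions under every field extension k → K (Z over k has P if and only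
if Z ×_k Spec K over K has P). Let f : X → T be a morphism of schemes, h : T' → T a surjective
morphism of schemes and f' : X' → T' a base change of f along h. If for every algebraically closed
field k and every Spec k → T' the fibre X' ×_{T'} Spec k has P, then for every algebraically closed
field k and every Spec k → T the fibre X ×_T Spec k has P. (Fields are taken in the universe of the
schemes. The published statement is that families of del Pezzo surfaces form a stack for the étale
topology; this row is the step of its proof that descends the condition on geometric fibres along a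
surjective base change, stated for any fibre property with the invariance above.) -/
theorem result
    (P : ∀ (k : Type u) [Field k] (Z : Scheme.{u}), (Z ⟶ Spec (CommRingCat.of k)) → Prop)
    (hiso : ∀ (k : Type u) [Field k] (Z Z' : Scheme.{u}) (e : Z ≅ Z') (g : Z' ⟶ Spec (CommRingCat.of k)),
      P k Z' g → P k Z (e.hom ≫ g))
    (hext : ∀ (k K : Type u) [Field k] [Field K] (i : k →+* K) (Z : Scheme.{u}) (g : Z ⟶ Spec (CommRingCat.of k)),
      P k Z g ↔ P K (pullback g (Spec.map (CommRingCat.ofHom i))) (pullback.snd g (Spec.map (CommRingCat.ofHom i))))
    {X T X' T' : Scheme.{u}} (f : X ⟶ T) (h : T' ⟶ T) [Surjective h] (f' : X' ⟶ T') (h' : X' ⟶ X)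
    (sq : IsPullback h' f' f h)
    (H : ∀ (k : Type u) [Field k] [IsAlgClosed k] (σ' : Spec (CommRingCat.of k) ⟶ T'),
        P k (pullback f' σ') (pullback.snd f' σ'))
    (k : Type u) [Field k] [IsAlgClosed k] (σ : Spec (CommRingCat.of k) ⟶ T) :
    P k (pullback f σ) (pullback.snd f σ) := by
  -- a point of the fibre product `Spec k ×_T T'`
  have hsurj : Surjective (pullback.fst σ h) := inferInstance
  obtain ⟨z, -⟩ := hsurj.surj (Classical.arbitrary (Spec (CommRingCat.of k)))
  let K₀ := (pullback σ h).residueField z
  let K := AlgebraicClosure K₀
  let a : Spec (CommRingCat.of K) ⟶ pullback σ h :=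
    Spec.map (CommRingCat.ofHom (algebraMap K₀ K)) ≫ (pullback σ h).fromSpecResidueField z
  let i : k →+* K := (Spec.preimage (a ≫ pullback.fst σ h)).hom
  have hi : Spec.map (CommRingCat.ofHom i) = a ≫ pullback.fst σ h := Spec.map_preimage _
  let σ' : Spec (CommRingCat.of K) ⟶ T' := a ≫ pullback.snd σ h
  have hσ' : Spec.map (CommRingCat.ofHom i) ≫ σ = σ' ≫ h := by
    rw [hi, Category.assoc, pullback.condition, ← Category.assoc]
  rw [hext k K i]
  -- the big pullback square
  have A := (IsPullback.of_hasPullback f σ).flip
  have Bq := (IsPullback.of_hasPullback (pullback.snd f σ) (Spec.map (CommRingCat.ofHom i))).flip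
  have big : IsPullback
      (pullback.fst (pullback.snd f σ) (Spec.map (CommRingCat.ofHom i)) ≫ pullback.fst f σ)
      (pullback.snd (pullback.snd f σ) (Spec.map (CommRingCat.ofHom i))) f (σ' ≫ h) := by
    rw [← hσ']
    exact (Bq.paste_vert A).flip
  have small := IsPullback.of_right' big sq
  have e := small.isoPullback
  have he : small.isoPullback.hom ≫ pullback.snd f' σ' =
      pullback.snd (pullback.snd f σ) (Spec.map (CommRingCat.ofHom i)) :=
    small.isoPullback_hom_snd
  rw [← he]
  exact hiso K _ _ small.isoPullback _ (H K σ')

end Groth.Agent.S13628
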