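import Groth.Statements.S13631
import Mathlib

set_option autoImplicit false
universe u v w
open CAlg

namespace Groth.Agent.S13631

/-- Let k be a field, R an integral domain which is a k-algebra of infinite dimension over k, M a finite
free R-module, σ a ring automorphism of R mapping the image of k onto itself, and φ : M → M a
σ-semilinear map. If the cokernel of φ is finite-dimensional over k, in the sense that some finitely
generated k-subspace N of M satisfies M = N + φ(M), then φ is injective. -/
theorem result
    {k : Type u} {R : Type v} {M : Type w} [Field k] [CommRing R] [IsDomain R] [Algebra k R]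
    (hR : ¬ Module.Finite k R)
    [AddCommGroup M] [Module R M] [Module k M] [IsScalarTower k R M]
    [Module.Finite R M] [Module.Free R M]
    (σ : R ≃+* R)
    (hσ : ∀ x : k, ∃ y : k, σ (algebraMap k R x) = algebraMap k R y)
    (hσ' : ∀ y : k, ∃ x : k, σ (algebraMap k R x) = algebraMap k R y)
    (φ : M →ₛₗ[(σ : R →+* R)] M)
    (hcoker : ∃ N : Submodule k M, N.FG ∧ ∀ m : M, ∃ n ∈ N, ∃ m' : M, m = n + φ m') :
    Function.Injective φ := by
  classical
  rw [injective_iff_map_eq_zero]
  intro v hv
  by_contra hv0
  obtain ⟨N, hNfg, hN⟩ := hcoker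
  let b := Module.Free.chooseBasis R M
  -- matrix of φ
  let A : Matrix (Module.Free.ChooseBasisIndex R M) (Module.Free.ChooseBasisIndex R M) R :=
    fun i j => b.repr (φ (b j)) i
  have hrepr : ∀ m : M, ∀ i, b.repr (φ m) i = (Matrix.mulVec A (fun j => σ (b.repr m j))) i := by
    intro m i
    conv_lhs => rw [← b.sum_repr m]
    rw [map_sum, map_sum, Finsupp.coe_finsetSum, Finset.sum_apply]
    show _ = ∑ j, A i j * σ (b.repr m j)
    refine Finset.sum_congr rfl (fun j _ => ?_)
    rw [LinearMap.map_smulₛₗ, map_smul, Finsupp.smul_apply, smul_eq_mul, mul_comm]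
    rfl
  -- det A = 0
  have hdet : A.det = 0 := by
    rw [← Matrix.exists_mulVec_eq_zero_iff]
    refine ⟨fun j => σ (b.repr v j), ?_, ?_⟩
    · intro h0
      apply hv0
      apply b.repr.injective
      ext j
      have := congrFun h0 j
      simpa using this
    · ext i
      rw [← hrepr v i, hv]
      simp
  obtain ⟨w, hw0, hw⟩ := Matrix.exists_vecMul_eq_zero_iff.mpr hdet
  -- the functional
  let lam : M →ₗ[R] R := ∑ i, w i • b.coord i
  have hlam : ∀ m : M, lam m = dotProduct w (fun i => b.repr m i) := by
    intro m
    simp [lam, dotProduct, LinearMap.sum_apply]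
  have hlamφ : ∀ m : M, lam (φ m) = 0 := by
    intro m
    rw [hlam]
    have : (fun i => b.repr (φ m) i) = Matrix.mulVec A (fun j => σ (b.repr m j)) := funext (hrepr m)
    rw [this, Matrix.dotProduct_mulVec, hw, zero_dotProduct]
  obtain ⟨i₀, hi₀⟩ : ∃ i, w i ≠ 0 := by
    by_contra h
    push Not at h
    exact hw0 (funext h)
  let lamk : M →ₗ[k] R := lam.restrictScalars k
  have hrange : ∀ m : M, lam m ∈ N.map lamk := by
    intro m
    obtain ⟨n, hn, m', rfl⟩ := hN m
    rw [map_add, hlamφ, add_zero]
    exact ⟨n, hn, rfl⟩
  have hfin : Module.Finite k ↥(N.map lamk) := Module.Finite.iff_fg.mpr (hNfg.map lamk)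
  let μ : R →ₗ[k] ↥(N.map lamk) :=
    { toFun := fun r => ⟨lam (r • b i₀), hrange _⟩
      map_add' := fun r s => by
        apply Subtype.ext
        simp [add_smul]
      map_smul' := fun c r => by
        apply Subtype.ext
        simp only [RingHom.id_apply, SetLike.val_smul]
        rw [smul_assoc, ← LinearMap.restrictScalars_apply k lam, map_smul]
        rfl }
  have hμ : Function.Injective μ := by
    rw [injective_iff_map_eq_zero]
    intro r hr
    have h1 : lam (r • b i₀) = 0 := congrArg Subtype.val hr
    rw [map_smul, hlam] at h1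
    have h2 : dotProduct w (fun i => b.repr (b i₀) i) = w i₀ := by
      simp [dotProduct, Finsupp.single_apply]
    rw [h2, smul_eq_mul] at h1
    rcases mul_eq_zero.mp h1 with h | h
    · exact h
    · exact absurd h hi₀
  exact hR (Module.Finite.of_injective μ hμ)

end Groth.Agent.S13631
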