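import Groth.Statements.S13636
import Groth.Agent.H68.FppfLocal
-- import your own Groth.Agent.* helpers here

set_option autoImplicit false
universe u w
open CategoryTheory CategoryTheory.Limits MonoidalCategory CartesianMonoidalCategory MonObj AlgebraicGeometry
open MultSch

namespace Groth.Agent.S13636

/-- Let M' → M → M'' → 0 be a sequence of R-module schemes over a scheme S, with R-linear homomorphisms
j and π, exact as fppf sheaves, and let ψ : P × M × Q → N be a morphism to an R-module scheme N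
which is additive and R-linear in the coordinate M (on T-valued points) and trivial on all points
whose M-coordinate lies in the image of j. Then ψ = ψ' ∘ (id × π × id) for a unique morphism ψ' : P
× M'' × Q → N, and ψ' is additive and R-linear in the coordinate M''. (The published statement has a
product M₁ × ⋯ × M_r of R-module schemes with the exact sequence in the i-th factor and ψ
R-multilinear; here the factors before and after the i-th are collected into single S-schemes P and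
Q, and only linearity in the i-th coordinate, the one the statement is about, is carried; linearity
in the other coordinates passes between ψ and ψ' formally.) -/
theorem result
    {S : Scheme.{u}} {R : Type w} [CommRing R] {P Q M' M M'' N : Over S}
    [GrpObj M'] [IsCommMonObj M'] [GrpObj M] [IsCommMonObj M] [GrpObj M''] [IsCommMonObj M'']
    [GrpObj N] [IsCommMonObj N]
    (ρ' : MultSch.RMod R M') (ρ : MultSch.RMod R M) (ρ'' : MultSch.RMod R M'') (ρN : MultSch.RMod R N)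
    (j : M' ⟶ M) (π : M ⟶ M'') [IsMonHom j] [IsMonHom π]
    (hj : ∀ a : R, j ≫ ρ.act a = ρ'.act a ≫ j) (hπ : ∀ a : R, π ≫ ρ''.act a = ρ.act a ≫ π)
    (w : j ≫ π = 1) (hex : (CGrpSh.seq Scheme.fppfPrecoverage j π w).Exact)
    (hepi : Epi (CGrpSh.ptsMap Scheme.fppfPrecoverage π))
    (ψ : P ⊗ (M ⊗ Q) ⟶ N)
    (hadd : ∀ (T : Over S) (p : T ⟶ P) (q : T ⟶ Q) (y z : T ⟶ M),
      lift p (lift (y * z) q) ≫ ψ = (lift p (lift y q) ≫ ψ) * (lift p (lift z q) ≫ ψ))
    (hlin : ∀ (T : Over S) (p : T ⟶ P) (q : T ⟶ Q) (y : T ⟶ M) (a : R),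
      lift p (lift (y ≫ ρ.act a) q) ≫ ψ = (lift p (lift y q) ≫ ψ) ≫ ρN.act a)
    (hvan : ∀ (T : Over S) (p : T ⟶ P) (q : T ⟶ Q) (y' : T ⟶ M'), lift p (lift (y' ≫ j) q) ≫ ψ = 1) :
    ∃ ψ' : P ⊗ (M'' ⊗ Q) ⟶ N,
      (P ◁ (π ▷ Q)) ≫ ψ' = ψ ∧
      (∀ (T : Over S) (p : T ⟶ P) (q : T ⟶ Q) (y z : T ⟶ M''),
        lift p (lift (y * z) q) ≫ ψ' = (lift p (lift y q) ≫ ψ') * (lift p (lift z q) ≫ ψ')) ∧
      (∀ (T : Over S) (p : T ⟶ P) (q : T ⟶ Q) (y : T ⟶ M'') (a : R),
        lift p (lift (y ≫ ρ''.act a) q) ≫ ψ' = (lift p (lift y q) ≫ ψ') ≫ ρN.act a) ∧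
      ∀ ψ'' : P ⊗ (M'' ⊗ Q) ⟶ N, (P ◁ (π ▷ Q)) ≫ ψ'' = ψ → ψ'' = ψ' := by
  classical
  have hls := Groth.Agent.H68.FL.isLocSurj_of_epi Scheme.fppfPrecoverage π hepi
  -- the map u
  have hu_lift : ∀ {T : Over S} (p : T ⟶ P) (x : T ⟶ M) (q : T ⟶ Q),
      lift p (lift x q) ≫ (P ◁ (π ▷ Q)) = lift p (lift (x ≫ π) q) := by
    intro T p x q
    rw [lift_whiskerLeft, lift_whiskerRight]
  have hdecomp : ∀ {T : Over S} {X : Over S} (b : T ⟶ P ⊗ (X ⊗ Q)),
      b = lift (b ≫ fst _ _) (lift (b ≫ snd _ _ ≫ fst _ _) (b ≫ snd _ _ ≫ snd _ _)) := by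
    intro T X b
    apply CartesianMonoidalCategory.hom_ext
    · rw [lift_fst]
    · rw [lift_snd]
      apply CartesianMonoidalCategory.hom_ext
      · rw [lift_fst, Category.assoc]
      · rw [lift_snd, Category.assoc]
  have hu : Groth.Agent.H68.FL.IsLocSurj Scheme.fppfPrecoverage (P ◁ (π ▷ Q)) := by
    intro T b
    refine GrothendieckTopology.superset_covering _ ?_ (hls T (b ≫ snd _ _ ≫ fst _ _))
    rintro T' g ⟨x, hx⟩
    refine ⟨lift (g ≫ b ≫ fst _ _) (lift x (g ≫ b ≫ snd _ _ ≫ snd _ _)), ?_⟩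
    rw [hu_lift, hx]
    conv_rhs => rw [hdecomp b]
    rw [comp_lift, comp_lift]
  -- ψ is constant on fibres
  have hconst : ∀ ⦃T : Over S⦄ (a₁ a₂ : T ⟶ P ⊗ (M ⊗ Q)),
      a₁ ≫ (P ◁ (π ▷ Q)) = a₂ ≫ (P ◁ (π ▷ Q)) → a₁ ≫ ψ = a₂ ≫ ψ := by
    intro T a₁ a₂ h
    rw [hdecomp a₁, hdecomp a₂] at h ⊢
    set p₁ := a₁ ≫ fst _ _
    set x₁ := a₁ ≫ snd _ _ ≫ fst _ _
    set q₁ := a₁ ≫ snd _ _ ≫ snd _ _
    set p₂ := a₂ ≫ fst _ _
    set x₂ := a₂ ≫ snd _ _ ≫ fst _ _
    set q₂ := a₂ ≫ snd _ _ ≫ snd _ _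
    rw [hu_lift, hu_lift] at h
    have hp : p₁ = p₂ := by
      have := congrArg (fun t => t ≫ fst _ _) h
      simpa using this
    have hx : x₁ ≫ π = x₂ ≫ π := by
      have := congrArg (fun t => t ≫ snd _ _ ≫ fst _ _) h
      simpa using this
    have hq : q₁ = q₂ := by
      have := congrArg (fun t => t ≫ snd _ _ ≫ snd _ _) h
      simpa using this
    rw [← hp, ← hq]
    have hd : (x₁ * x₂⁻¹) ≫ π = 1 := by
      rw [MonObj.mul_comp, GrpObj.inv_comp, hx, mul_inv_cancel]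
    have hR := Groth.Agent.H68.FL.liftSieve_mem_of_exact Scheme.fppfPrecoverage j π w hex
      (x₁ * x₂⁻¹) hd
    apply Groth.Agent.H68.FL.eq_of_locally_eq Scheme.fppfPrecoverage _ _ _ hR
    rintro T' g ⟨y', hy'⟩
    rw [← Category.assoc, ← Category.assoc, comp_lift, comp_lift, comp_lift, comp_lift]
    have hgx : g ≫ x₁ = (y' ≫ j) * (g ≫ x₂) := by
      rw [hy', MonObj.comp_mul, GrpObj.comp_inv, inv_mul_cancel_right]
    rw [hgx, hadd, hvan, _root_.one_mul]
  obtain ⟨ψ', hψ', huniq⟩ := Groth.Agent.H68.FL.exists_unique_desc Scheme.fppfPrecoverage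
    (P ◁ (π ▷ Q)) hu ψ hconst
  have hkey : ∀ {T : Over S} (p : T ⟶ P) (x : T ⟶ M) (q : T ⟶ Q),
      lift p (lift (x ≫ π) q) ≫ ψ' = lift p (lift x q) ≫ ψ := by
    intro T p x q
    rw [← hu_lift, Category.assoc, hψ']
  refine ⟨ψ', hψ', ?_, ?_, huniq⟩
  · intro T p q y z
    have hR := GrothendieckTopology.intersection_covering _ (hls T y) (hls T z)
    apply Groth.Agent.H68.FL.eq_of_locally_eq Scheme.fppfPrecoverage _ _ _ hR
    rintro T' g ⟨⟨y₁, hy₁⟩, ⟨z₁, hz₁⟩⟩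
    rw [MonObj.comp_mul, ← Category.assoc, ← Category.assoc, ← Category.assoc, comp_lift, comp_lift,
      comp_lift, comp_lift, comp_lift, comp_lift, MonObj.comp_mul, ← hy₁, ← hz₁, ← MonObj.mul_comp,
      hkey, hkey, hkey, hadd]
  · intro T p q y a
    have hR := hls T y
    apply Groth.Agent.H68.FL.eq_of_locally_eq Scheme.fppfPrecoverage _ _ _ hR
    rintro T' g ⟨y₁, hy₁⟩
    rw [← Category.assoc, ← Category.assoc, ← Category.assoc, comp_lift, comp_lift,
      comp_lift, comp_lift, ← Category.assoc, ← hy₁, Category.assoc y₁, hπ, ← Category.assoc y₁, hkey, hkey,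
      hlin]

end Groth.Agent.S13636
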