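import Groth.Statements.S13664
import Groth.Agent.H68.GrRing2
import Mathlib.RingTheory.Finiteness.Ideal

set_option autoImplicit false
universe u
open GrRing

namespace Groth.Agent.S13664

/-- Let A be a commutative ring graded by the integers whose ideal I generated by the homogeneous
elements of positive degree has homogeneous generators f_1, …, f_p, of positive degrees d_1, …, d_p,
let d be a positive integer divisible by each d_i, and let x be an element of an A-module M. The
following are equivalent: x is annihilated by some power of I; x is annihilated by (A_d)^n for all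
sufficiently large n; there is an integer s such that A_n x = 0 for all n ≥ s. (The published
statement is for a homogeneous element of a graded module; this row drops both the grading of M and
the homogeneity of x, which play no role.) -/
theorem result {R A : Type u} [CommRing R] [CommRing A] [Algebra R A]
    (𝒜 : ℤ → Submodule R A) [GradedAlgebra 𝒜]
    {p : ℕ} (f : Fin p → A) (deg : Fin p → ℤ) (hdeg : ∀ i, 0 < deg i) (hf : ∀ i, f i ∈ 𝒜 (deg i))
    (hgen : Ideal.span {a : A | ∃ n : ℤ, 0 < n ∧ a ∈ 𝒜 n} = Ideal.span (Set.range f))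
    (d : ℤ) (hd : 0 < d) (hdvd : ∀ i, deg i ∣ d)
    {M : Type u} [AddCommGroup M] [Module A M] (x : M) :
    [x ∈ GrLC.gam (Ideal.span (Set.range f)) M,
     ∃ n₀ : ℕ, ∀ n : ℕ, n₀ ≤ n → ∀ r ∈ (𝒜 d) ^ n, r • x = 0,
     ∃ s : ℤ, ∀ n : ℤ, s ≤ n → ∀ r ∈ 𝒜 n, r • x = 0].TFAE := by
  classical
  set I : Ideal A := Ideal.span (Set.range f) with hI
  have hposI : ∀ n : ℤ, 0 < n → ∀ r ∈ 𝒜 n, r ∈ I := by
    intro n hn r hr
    rw [← hgen]
    exact Ideal.subset_span ⟨n, hn, hr⟩
  tfae_have 1 → 3 := by
    rintro ⟨k, hk⟩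
    -- pieces of large degree lie in `I ^ k`
    have key : ∀ k : ℕ, ∃ s : ℤ, ∀ n : ℤ, s ≤ n → ∀ r ∈ 𝒜 n, r ∈ I ^ k := by
      intro k
      induction k with
      | zero => exact ⟨0, fun n _ r _ => by rw [pow_zero, Ideal.one_eq_top]; trivial⟩
      | succ k ih =>
        obtain ⟨s, hs⟩ := ih
        refine ⟨max (s + d) (d * p - ∑ i, deg i + 1), fun n hn r hr => ?_⟩
        have h1 : 𝒜 n = 𝒜 d * 𝒜 (n - d) :=
          Groth.Agent.H68.GrRing.piece_eq_mul 𝒜 hdeg hf hgen d hd hdvd n (by
            have := le_max_right (s + d) (d * p - ∑ i, deg i + 1)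
            omega)
        have h2 : 𝒜 d * 𝒜 (n - d) ≤ (I ^ (k + 1)).restrictScalars R := by
          rw [Submodule.mul_le]
          intro a ha b hb
          have hb' : b ∈ I ^ k := hs (n - d) (by
            have := le_max_left (s + d) (d * p - ∑ i, deg i + 1)
            omega) b hb
          have ha' : a ∈ I := hposI d hd a ha
          show a * b ∈ I ^ (k + 1)
          rw [pow_succ']
          exact Ideal.mul_mem_mul ha' hb'
        exact h2 (h1 ▸ hr)
    obtain ⟨s, hs⟩ := key k
    exact ⟨s, fun n hn r hr => hk r (hs n hn r hr)⟩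
  tfae_have 3 → 2 := by
    rintro ⟨s, hs⟩
    have hpow : ∀ n : ℕ, (𝒜 d) ^ n ≤ 𝒜 ((n : ℤ) * d) := by
      intro n
      induction n with
      | zero =>
        rw [pow_zero, Submodule.one_le]
        simpa using SetLike.one_mem_graded 𝒜
      | succ n ih =>
        rw [pow_succ, Submodule.mul_le]
        intro a ha b hb
        have := SetLike.mul_mem_graded (ih ha) hb
        have e : (n : ℤ) * d + d = ((n + 1 : ℕ) : ℤ) * d := by push_cast; ring
        rwa [e] at this
    refine ⟨s.toNat, fun n hn r hr => hs ((n : ℤ) * d) ?_ r (hpow n hr)⟩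
    have h1 : s ≤ (n : ℤ) := by
      have := Int.self_le_toNat s
      omega
    have h2 : (n : ℤ) ≤ (n : ℤ) * d := by
      have : (0 : ℤ) ≤ n := Int.natCast_nonneg n
      nlinarith
    omega
  tfae_have 2 → 1 := by
    rintro ⟨n₀, hn₀⟩
    -- the annihilator of `x`
    let J : Ideal A := (Submodule.span A {x}).annihilator
    have hJ : ∀ r : A, r ∈ J ↔ r • x = 0 := fun r =>
      Submodule.mem_annihilator_span_singleton x r
    have hle : I ≤ J.radical := by
      rw [hI, Ideal.span_le]
      rintro _ ⟨i, rfl⟩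
      obtain ⟨e, he⟩ := hdvd i
      have hepos : 0 ≤ e := by
        have h1 := hdeg i
        rcases lt_or_ge e 0 with h' | h'
        · have : deg i * e < 0 := mul_neg_of_pos_of_neg h1 h'
          omega
        · exact h'
      have h1 : f i ^ e.toNat ∈ 𝒜 d := by
        have := SetLike.pow_mem_graded (A := 𝒜) e.toNat (hf i)
        have e' : e.toNat • deg i = d := by
          rw [nsmul_eq_mul, Int.toNat_of_nonneg hepos, he, mul_comm]
        rwa [e'] at this
      have h2 : (f i ^ e.toNat) ^ n₀ ∈ (𝒜 d) ^ n₀ := Submodule.pow_mem_pow _ h1 n₀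
      refine ⟨e.toNat * n₀, ?_⟩
      rw [hJ, pow_mul]
      exact hn₀ n₀ le_rfl _ h2
    have hfg : I.FG := by
      rw [hI]
      exact Submodule.fg_span (Set.finite_range f)
    obtain ⟨k, hk⟩ := Ideal.exists_pow_le_of_le_radical_of_fg hle hfg
    exact ⟨k, fun r hr => (hJ r).1 (hk hr)⟩
  tfae_finish

end Groth.Agent.S13664
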