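import Groth.Statements.S13665
import Groth.Agent.H68.GrRing

set_option autoImplicit false
universe u
open GrRing

namespace Groth.Agent.S13665

/-- For a commutative ring A graded by the integers, with degree-zero subring A_0, the following are
equivalent: A is Noetherian; each homogeneous ideal of A has a finite generating set; A_0 is
Noetherian and the subalgebras A_{≥0}, A_{≤0} are each of finite type over A_0; A_0 is Noetherian
and A is an A_0-algebra of finite type. -/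
theorem result {R A : Type u} [CommRing R] [CommRing A] [Algebra R A]
    (𝒜 : ℤ → Submodule R A) [GradedAlgebra 𝒜] :
    [IsNoetherianRing A,
     ∀ I : Ideal A, I.IsHomogeneous 𝒜 → I.FG,
     IsNoetherianRing (𝒜 0) ∧ (Algebra.adjoin (𝒜 0) {a : A | ∃ n : ℤ, 0 ≤ n ∧ a ∈ 𝒜 n}).FG ∧
       (Algebra.adjoin (𝒜 0) {a : A | ∃ n : ℤ, n ≤ 0 ∧ a ∈ 𝒜 n}).FG,
     IsNoetherianRing (𝒜 0) ∧ Algebra.FiniteType (𝒜 0) A].TFAE := by
  classical
  tfae_have 1 → 2 := by
    intro h I _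
    exact (isNoetherianRing_iff_ideal_fg A).1 h I
  tfae_have 2 → 3 := by
    intro h
    refine ⟨Groth.Agent.H68.GrRing.isNoetherianRing_zero 𝒜 h, ?_, ?_⟩
    · have e : {a : A | ∃ n : ℤ, 0 ≤ n ∧ a ∈ 𝒜 n} = {a : A | ∃ m : ℕ, a ∈ 𝒜 (1 * m)} := by
        ext a
        constructor
        · rintro ⟨n, hn, ha⟩
          refine ⟨n.toNat, ?_⟩
          rw [one_mul, Int.toNat_of_nonneg hn]
          exact ha
        · rintro ⟨m, hm⟩
          exact ⟨1 * m, by omega, hm⟩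
      rw [e]
      exact Groth.Agent.H68.GrRing.adjoin_fg_of_sign 𝒜 h 1
    · have e : {a : A | ∃ n : ℤ, n ≤ 0 ∧ a ∈ 𝒜 n} = {a : A | ∃ m : ℕ, a ∈ 𝒜 (-1 * m)} := by
        ext a
        constructor
        · rintro ⟨n, hn, ha⟩
          refine ⟨(-n).toNat, ?_⟩
          have : -1 * (((-n).toNat : ℕ) : ℤ) = n := by
            rw [Int.toNat_of_nonneg (by omega)]; ring
          rw [this]
          exact ha
        · rintro ⟨m, hm⟩
          exact ⟨-1 * m, by omega, hm⟩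
      rw [e]
      exact Groth.Agent.H68.GrRing.adjoin_fg_of_sign 𝒜 h (-1)
  tfae_have 3 → 4 := by
    rintro ⟨h0, ⟨t₁, ht₁⟩, ⟨t₂, ht₂⟩⟩
    refine ⟨h0, ⟨⟨t₁ ∪ t₂, ?_⟩⟩⟩
    rw [eq_top_iff]
    rintro a -
    rw [← DirectSum.sum_support_decompose 𝒜 a]
    refine Subalgebra.sum_mem _ fun i _ => ?_
    rcases le_total 0 i with hi | hi
    · have h1 : ((DirectSum.decompose 𝒜 a i : 𝒜 i) : A) ∈
          Algebra.adjoin (𝒜 0) {a : A | ∃ n : ℤ, 0 ≤ n ∧ a ∈ 𝒜 n} :=
        Algebra.subset_adjoin ⟨i, hi, SetLike.coe_mem _⟩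
      rw [← ht₁] at h1
      exact Algebra.adjoin_mono (by simp) h1
    · have h1 : ((DirectSum.decompose 𝒜 a i : 𝒜 i) : A) ∈
          Algebra.adjoin (𝒜 0) {a : A | ∃ n : ℤ, n ≤ 0 ∧ a ∈ 𝒜 n} :=
        Algebra.subset_adjoin ⟨i, hi, SetLike.coe_mem _⟩
      rw [← ht₂] at h1
      exact Algebra.adjoin_mono (by simp) h1
  tfae_have 4 → 1 := by
    rintro ⟨h0, hft⟩
    exact Algebra.FiniteType.isNoetherianRing (𝒜 0) A
  tfae_finish

end Groth.Agent.S13665
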