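import Groth.Statements.S13682
import Mathlib.LinearAlgebra.Multilinear.Curry
import Mathlib.Algebra.BigOperators.Fin

set_option autoImplicit false
universe u v w
open scoped BigOperators
open BTGrp

namespace Groth.Agent.S13682

section
variable {A : Type u} [CommRing A]

/-- the mixed sum -/
def del {r : ℕ} {M : Fin r → Type v} {N : Type w} [∀ i, AddCommGroup (M i)] [∀ i, Module A (M i)]
    [AddCommGroup N] [Module A N] (φ : MultilinearMap A M N) (u v z : ∀ i, M i) : N :=
  ∑ i : Fin r, φ (fun k => if k < i then u k else if k = i then z k else v k)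

theorem del_succ {r : ℕ} {M : Fin (r + 1) → Type v} {N : Type w} [∀ i, AddCommGroup (M i)]
    [∀ i, Module A (M i)] [AddCommGroup N] [Module A N] (φ : MultilinearMap A M N)
    (u v z : ∀ i, M i) :
    del φ u v z = φ (Fin.cons (z 0) (fun k : Fin r => v k.succ)) +
      del (φ.curryLeft (u 0)) (fun k : Fin r => u k.succ) (fun k => v k.succ) (fun k => z k.succ) := by
  unfold del
  rw [Fin.sum_univ_succ]
  congr 1
  · congr 1
    funext k
    refine Fin.cases ?_ (fun k' => ?_) k
    · simp
    · simp [Fin.succ_ne_zero]
  · refine Finset.sum_congr rfl (fun i _ => ?_)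
    rw [MultilinearMap.curryLeft_apply]
    congr 1
    funext k
    refine Fin.cases ?_ (fun k' => ?_) k
    · simp [Fin.succ_pos]
    · simp [Fin.succ_lt_succ_iff, Fin.succ_inj]

theorem del_curry_sub_smul {r : ℕ} {M : Fin (r + 1) → Type v} {N : Type w} [∀ i, AddCommGroup (M i)]
    [∀ i, Module A (M i)] [AddCommGroup N] [Module A N] (φ : MultilinearMap A M N)
    (a b c : M 0) (α : A) (h : a = b + α • c) (u v z : ∀ i : Fin r, M i.succ) :
    del (φ.curryLeft a) u v z = del (φ.curryLeft b) u v z + α • del (φ.curryLeft c) u v z := by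
  unfold del
  rw [Finset.smul_sum, ← Finset.sum_add_distrib]
  refine Finset.sum_congr rfl (fun i _ => ?_)
  rw [h, map_add, map_smul, add_apply, smul_apply]

theorem tel (α : A) : ∀ (r : ℕ) (M : Fin r → Type v) (N : Type w) [∀ i, AddCommGroup (M i)]
    [∀ i, Module A (M i)] [AddCommGroup N] [Module A N] (φ : MultilinearMap A M N)
    (u v z : ∀ i, M i), (∀ i, u i = v i + α • z i) → φ u - φ v = α • del φ u v z := by
  intro r
  induction r with
  | zero =>
    intro M N _ _ _ _ φ u v z _
    have : u = v := Subsingleton.elim u v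
    subst this
    simp [del]
  | succ r ih =>
    intro M N _ _ _ _ φ u v z h
    rw [del_succ, smul_add,
      ← ih (fun i : Fin r => M i.succ) N (φ.curryLeft (u 0)) (fun k => u k.succ) (fun k => v k.succ)
        (fun k => z k.succ) (fun i => h i.succ)]
    rw [MultilinearMap.curryLeft_apply, MultilinearMap.curryLeft_apply]
    have e1 : (Fin.cons (u 0) (fun k : Fin r => u k.succ) : ∀ i, M i) = u := Fin.cons_self_tail u
    have e2 : φ (Fin.cons (u 0) (fun k : Fin r => v k.succ)) =
        φ v + α • φ (Fin.cons (z 0) (fun k : Fin r => v k.succ)) := by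
      rw [h 0, MultilinearMap.cons_add, MultilinearMap.cons_smul]
      congr 2
      exact Fin.cons_self_tail v
    rw [e1, e2]
    abel

theorem cocycle (α : A) : ∀ (r : ℕ) (M : Fin r → Type v) (N : Type w) [∀ i, AddCommGroup (M i)]
    [∀ i, Module A (M i)] [AddCommGroup N] [Module A N] (φ : MultilinearMap A M N)
    (u v t z z' : ∀ i, M i), (∀ i, u i = v i + α • z i) → (∀ i, v i = t i + α • z' i) →
    del φ u v z + del φ v t z' = del φ u t (fun i => z i + z' i) := by
  intro r
  induction r with
  | zero =>
    intro M N _ _ _ _ φ u v t z z' _ _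
    simp [del]
  | succ r ih =>
    intro M N _ _ _ _ φ u v t z z' h h'
    rw [del_succ φ u v z, del_succ φ v t z', del_succ φ u t]
    rw [← ih (fun i : Fin r => M i.succ) N (φ.curryLeft (u 0)) (fun k => u k.succ)
      (fun k => v k.succ) (fun k => t k.succ) (fun k => z k.succ) (fun k => z' k.succ)
      (fun i => h i.succ) (fun i => h' i.succ)]
    rw [del_curry_sub_smul φ (u 0) (v 0) (z 0) α (h 0) (fun k => v k.succ)]
    rw [← tel α r (fun i : Fin r => M i.succ) N (φ.curryLeft (z 0)) (fun k => v k.succ)
      (fun k => t k.succ) (fun k => z' k.succ) (fun i => h' i.succ)]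
    rw [MultilinearMap.curryLeft_apply, MultilinearMap.curryLeft_apply, MultilinearMap.cons_add]
    abel

theorem ite_eq_update {r : ℕ} {M : Fin r → Type v} (i : Fin r) (a b c : ∀ k, M k) :
    (fun k => if k < i then a k else if k = i then c k else b k) =
      Function.update (fun k => if k < i then a k else b k) i (c i) := by
  funext k
  by_cases hk : k = i
  · subst hk
    simp
  · rw [Function.update_of_ne hk]
    simp [hk]

end

/-- Let A be a commutative ring, α ∈ A a non-zero-divisor, M_1, …, M_r and N modules over A and φ : M_1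
× ⋯ × M_r → N an A-multilinear map. Let n be a natural number and let y_{i,j} (j < n) and w_{i,j} (j
≤ n) be elements of M_i with w_{i,j+1} = w_{i,j} + α y_{i,j} for all i and all j < n. Then Σ_i
Σ_{j<n} φ(w_{1,j+1}, …, w_{i-1,j+1}, y_{i,j}, w_{i+1,j}, …, w_{r,j}) = Σ_i Σ_{j<n} φ(w_{1,n}, …,
w_{i-1,n}, y_{i,j}, w_{i+1,0}, …, w_{r,0}). (The published statement takes n ≥ 1; for n = 0 both
sides are empty sums. The families y, w are indexed by all natural numbers here and only the indices
named above enter.) -/
theorem result {A : Type u} [CommRing A] (α : A) (hα : α ∈ nonZeroDivisors A)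
    {r : ℕ} (M : Fin r → Type v) (N : Type w) [∀ i, AddCommGroup (M i)] [∀ i, Module A (M i)]
    [AddCommGroup N] [Module A N] (φ : MultilinearMap A M N) (n : ℕ)
    (y w : ∀ i, ℕ → M i) (hw : ∀ i, ∀ j < n, w i (j + 1) = w i j + α • y i j) :
    (∑ i : Fin r, ∑ j ∈ Finset.range n,
        φ (fun k => if k < i then w k (j + 1) else if k = i then y k j else w k j)) =
      ∑ i : Fin r, ∑ j ∈ Finset.range n,
        φ (fun k => if k < i then w k n else if k = i then y k j else w k 0) := by
  classical
  have key : ∀ m, m ≤ n →
      ((∑ j ∈ Finset.range m, del φ (fun k => w k (j + 1)) (fun k => w k j) (fun k => y k j)) =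
        del φ (fun k => w k m) (fun k => w k 0) (fun k => ∑ j ∈ Finset.range m, y k j)) ∧
      ∀ k, w k m = w k 0 + α • ∑ j ∈ Finset.range m, y k j := by
    intro m
    induction m with
    | zero =>
      intro _
      refine ⟨?_, fun k => by simp⟩
      simp only [Finset.range_zero, Finset.sum_empty]
      unfold del
      symm
      refine Finset.sum_eq_zero (fun i _ => ?_)
      exact φ.map_coord_zero i (by simp)
    | succ m ih =>
      intro hm
      obtain ⟨ih1, ih2⟩ := ih (by omega)
      have hstep : ∀ k, w k (m + 1) = w k m + α • y k m := fun k => hw k m (by omega)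
      refine ⟨?_, fun k => ?_⟩
      · rw [Finset.sum_range_succ, ih1, add_comm]
        rw [cocycle α r M N φ (fun k => w k (m + 1)) (fun k => w k m) (fun k => w k 0)
          (fun k => y k m) (fun k => ∑ j ∈ Finset.range m, y k j) hstep ih2]
        congr 1
        funext k
        rw [Finset.sum_range_succ, add_comm]
      · rw [hstep k, ih2 k, Finset.sum_range_succ, smul_add, add_assoc]
  obtain ⟨h1, -⟩ := key n le_rfl
  have hL : (∑ i : Fin r, ∑ j ∈ Finset.range n,
        φ (fun k => if k < i then w k (j + 1) else if k = i then y k j else w k j)) =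
      ∑ j ∈ Finset.range n, del φ (fun k => w k (j + 1)) (fun k => w k j) (fun k => y k j) := by
    rw [Finset.sum_comm]
    rfl
  rw [hL, h1]
  unfold del
  refine Finset.sum_congr rfl (fun i _ => ?_)
  rw [ite_eq_update i (fun k => w k n) (fun k => w k 0) (fun k => ∑ j ∈ Finset.range n, y k j),
    MultilinearMap.map_update_sum]
  refine Finset.sum_congr rfl (fun j _ => ?_)
  rw [ite_eq_update i (fun k => w k n) (fun k => w k 0) (fun k => y k j)]

end Groth.Agent.S13682
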