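import Groth.Statements.S13685

set_option autoImplicit false
universe u v w
open Disp

namespace Groth.Agent.S13685

/-- Let p be a prime, R a commutative ring, W its ring of p-typical Witt vectors, D = (P, Q, F, V⁻¹) a
3n-display over R with a normal decomposition P = L ⊕ T, Q = L + I_R T in which T is free of rank
one over W, and E the 3n-display structure on ⋀^r P whose distinguished submodule is spanned by the
wedges of elements of Q and whose V⁻¹ sends q_1 ∧ ⋯ ∧ q_r to V⁻¹q_1 ∧ ⋯ ∧ V⁻¹q_r. Then the wedge map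
λ : P^r → ⋀^r P is an alternating multilinear morphism of 3n-displays from D to E, and for every
3n-display D' = (P', Q', F', V'⁻¹) and every alternating multilinear morphism of 3n-displays φ : P^r
→ P' (W-multilinear alternating, φ(Q^r) ⊆ Q', V'⁻¹(φ(q)) = φ(V⁻¹q_1, …, V⁻¹q_r), F'(φ(q_1, …, x_i,
…, q_r)) = φ(V⁻¹q_1, …, F x_i, …, V⁻¹q_r)) there is a unique W-linear ψ : ⋀^r P → P' that is a
morphism of 3n-displays from E to D' (ψ maps E's submodule into Q' and commutes with F and V⁻¹) with
ψ ∘ λ = φ. (The published statement has T projective of rank one; this row takes T free of rank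
one.) -/
theorem result (p : ℕ) [Fact p.Prime] (R : Type u) [CommRing R]
    (P : Type v) [AddCommGroup P] [Module (WittVector p R) P] (D : W4c1extbt610.Display3n p R P)
    (hT : ∃ L T : Submodule (WittVector p R) P, IsCompl L T ∧ D.Q = L ⊔ W4c1extbt610.IV p R • T ∧
      Nonempty (T ≃ₗ[WittVector p R] WittVector p R))
    (r : ℕ) (E : W4c1extbt610.Display3n p R (⋀[WittVector p R]^r P)) (hE : W4c1extbt610.IsExtPow D r E) :
    W4c1extbt610.IsAltMult D E (exteriorPower.ιMulti (WittVector p R) r) ∧
      ∀ (P' : Type w) [AddCommGroup P'] [Module (WittVector p R) P'] (D' : W4c1extbt610.Display3n p R P')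
        (φ : P [⋀^Fin r]→ₗ[WittVector p R] P'), W4c1extbt610.IsAltMult D D' φ →
        ∃! ψ : ⋀[WittVector p R]^r P →ₗ[WittVector p R] P',
          W4c1extbt610.IsHom E D' ψ ∧ ψ.compAlternatingMap (exteriorPower.ιMulti (WittVector p R) r) = φ := by
  classical
  obtain ⟨hQ, hV⟩ := hE
  -- general fact: `F x = Vinv (V 1 • x)`
  have hwedge_mem : ∀ q : Fin r → D.Q,
      exteriorPower.ιMulti (WittVector p R) r (fun i => (q i : P)) ∈ E.Q := by
    intro q
    rw [hQ]
    exact Submodule.subset_span ⟨q, rfl⟩
  have hIVD : ∀ x : P, WittVector.verschiebung (1 : WittVector p R) • x ∈ D.Q := fun x =>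
    D.IV_smul_le (Submodule.smul_mem_smul (W4c1extbt610.verschiebung_mem_IV p R 1) Submodule.mem_top)
  have hIVE : ∀ x : ⋀[WittVector p R]^r P,
      WittVector.verschiebung (1 : WittVector p R) • x ∈ E.Q := fun x =>
    E.IV_smul_le (Submodule.smul_mem_smul (W4c1extbt610.verschiebung_mem_IV p R 1) Submodule.mem_top)
  have FD : ∀ x : P, D.F x = D.Vinv ⟨WittVector.verschiebung (1 : WittVector p R) • x, hIVD x⟩ := by
    intro x
    have := D.Vinv_verschiebung_smul 1 x
    rw [one_smul] at this
    exact this.symm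
  have FE : ∀ x : ⋀[WittVector p R]^r P,
      E.F x = E.Vinv ⟨WittVector.verschiebung (1 : WittVector p R) • x, hIVE x⟩ := by
    intro x
    have := E.Vinv_verschiebung_smul 1 x
    rw [one_smul] at this
    exact this.symm
  refine ⟨⟨hwedge_mem, fun q => hV q (hwedge_mem q), ?_⟩, ?_⟩
  · -- F-condition for the wedge map
    intro i x q
    rw [FE]
    let q' : Fin r → D.Q :=
      Function.update q i ⟨WittVector.verschiebung (1 : WittVector p R) • x, hIVD x⟩
    have hq' : (fun j => ((q' j : D.Q) : P)) =
        Function.update (fun j => (q j : P)) i (WittVector.verschiebung (1 : WittVector p R) • x) := by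
      funext j
      by_cases h : j = i
      · subst h; simp [q']
      · simp [q', Function.update_of_ne h]
    have e1 : WittVector.verschiebung (1 : WittVector p R) •
          exteriorPower.ιMulti (WittVector p R) r (Function.update (fun j => (q j : P)) i x) =
        exteriorPower.ιMulti (WittVector p R) r (fun j => (q' j : P)) := by
      rw [hq', AlternatingMap.map_update_smul]
    have e2 : (⟨WittVector.verschiebung (1 : WittVector p R) •
          exteriorPower.ιMulti (WittVector p R) r (Function.update (fun j => (q j : P)) i x),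
          hIVE _⟩ : E.Q) =
        ⟨exteriorPower.ιMulti (WittVector p R) r (fun j => (q' j : P)), hwedge_mem q'⟩ :=
      Subtype.ext e1
    rw [e2, hV q' (hwedge_mem q')]
    congr 1
    funext j
    by_cases h : j = i
    · subst h
      simp only [q', Function.update_self]
      exact (FD x).symm
    · simp [q', Function.update_of_ne h]
  · intro P' _ _ D' φ hφ
    have FD' : ∀ x : P', D'.F x = D'.Vinv ⟨WittVector.verschiebung (1 : WittVector p R) • x,
        D'.IV_smul_le (Submodule.smul_mem_smul (W4c1extbt610.verschiebung_mem_IV p R 1)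
          Submodule.mem_top)⟩ := by
      intro x
      have := D'.Vinv_verschiebung_smul 1 x
      rw [one_smul] at this
      exact this.symm
    let ψ : ⋀[WittVector p R]^r P →ₗ[WittVector p R] P' := exteriorPower.alternatingMapLinearEquiv φ
    have hψ : ∀ a : Fin r → P, ψ (exteriorPower.ιMulti (WittVector p R) r a) = φ a :=
      exteriorPower.alternatingMapLinearEquiv_apply_ιMulti φ
    have hmaps' : ∀ y, y ∈ Submodule.span (WittVector p R)
        (Set.range fun q : Fin r → D.Q =>
          exteriorPower.ιMulti (WittVector p R) r (fun i => (q i : P))) → ψ y ∈ D'.Q := by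
      intro y hy
      induction hy using Submodule.span_induction with
      | mem y hy =>
        obtain ⟨q, rfl⟩ := hy
        rw [hψ]
        exact hφ.mapsTo q
      | zero => rw [map_zero]; exact D'.Q.zero_mem
      | add a b _ _ ha hb => rw [map_add]; exact D'.Q.add_mem ha hb
      | smul c a _ ha => rw [map_smul]; exact D'.Q.smul_mem c ha
    have hmaps : ∀ y, y ∈ E.Q → ψ y ∈ D'.Q := fun y hy => hmaps' y (hQ ▸ hy)
    have hVcomm' : ∀ y (hy : y ∈ Submodule.span (WittVector p R)
        (Set.range fun q : Fin r → D.Q =>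
          exteriorPower.ιMulti (WittVector p R) r (fun i => (q i : P)))),
        ψ (E.Vinv ⟨y, hQ.symm ▸ hy⟩) = D'.Vinv ⟨ψ y, hmaps' y hy⟩ := by
      intro y hy
      induction hy using Submodule.span_induction with
      | mem y hy =>
        obtain ⟨q, rfl⟩ := hy
        rw [hV q, hψ]
        have e3 : (⟨ψ (exteriorPower.ιMulti (WittVector p R) r (fun i => (q i : P))), hmaps' _
            (Submodule.subset_span ⟨q, rfl⟩)⟩ : D'.Q) = ⟨φ (fun i => (q i : P)), hφ.mapsTo q⟩ :=
          Subtype.ext (hψ _)
        rw [e3, hφ.vCond q]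
      | zero =>
        have e0 : (⟨(0 : ⋀[WittVector p R]^r P), hQ.symm ▸ Submodule.zero_mem _⟩ : E.Q) = 0 := rfl
        have e0' : (⟨ψ 0, hmaps' 0 (Submodule.zero_mem _)⟩ : D'.Q) = 0 :=
          Subtype.ext (map_zero ψ)
        rw [e0, e0', map_zero, map_zero, map_zero]
      | add a b ha hb iha ihb =>
        have e0 : (⟨a + b, hQ.symm ▸ Submodule.add_mem _ ha hb⟩ : E.Q) =
            ⟨a, hQ.symm ▸ ha⟩ + ⟨b, hQ.symm ▸ hb⟩ := rfl
        have e0' : (⟨ψ (a + b), hmaps' _ (Submodule.add_mem _ ha hb)⟩ : D'.Q) =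
            ⟨ψ a, hmaps' a ha⟩ + ⟨ψ b, hmaps' b hb⟩ := Subtype.ext (map_add ψ a b)
        rw [e0, e0', map_add, map_add, map_add, iha, ihb]
      | smul c a ha iha =>
        have e0 : (⟨c • a, hQ.symm ▸ Submodule.smul_mem _ c ha⟩ : E.Q) =
            c • ⟨a, hQ.symm ▸ ha⟩ := rfl
        have e0' : (⟨ψ (c • a), hmaps' _ (Submodule.smul_mem _ c ha)⟩ : D'.Q) =
            c • ⟨ψ a, hmaps' a ha⟩ := Subtype.ext (map_smul ψ c a)
        rw [e0, e0', LinearMap.map_smulₛₗ E.Vinv, LinearMap.map_smulₛₗ D'.Vinv, map_smul, iha]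
    have hVcomm : ∀ y : E.Q, ψ (E.Vinv y) = D'.Vinv ⟨ψ y, hmaps y y.2⟩ := by
      intro y
      have := hVcomm' y.1 (hQ ▸ y.2)
      exact this
    have hFcomm : ∀ x, ψ (E.F x) = D'.F (ψ x) := by
      intro x
      rw [FE, FD', hVcomm]
      congr 1
      exact Subtype.ext (map_smul ψ _ x)
    refine ⟨ψ, ⟨⟨hmaps, hFcomm, hVcomm⟩,
      exteriorPower.alternatingMapLinearEquiv_comp_ιMulti φ⟩, ?_⟩
    rintro ψ' ⟨-, hψ'⟩
    apply exteriorPower.linearMap_ext
    rw [hψ']
    exact (exteriorPower.alternatingMapLinearEquiv_comp_ιMulti φ).symm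

end Groth.Agent.S13685
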