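import Groth.Statements.S13686
import Groth.Agent.H74.ExtPowAux

set_option autoImplicit false
universe u v
open Disp

namespace Groth.Agent.S13686

/-- Let p be a prime, R a nontrivial commutative ring, W its ring of p-typical Witt vectors and D = (P,
Q, F, V⁻¹) a 3n-display over R with a normal decomposition P = L ⊕ T, Q = L + I_R T in which L is
free of rank m and T is free of rank one over W (so P is free of rank m + 1, the height). For r ≥ 1
let E be the 3n-display structure on ⋀^r P whose distinguished submodule is spanned by the wedges of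
elements of Q and whose V⁻¹ acts factorwise on them. Then E admits a normal decomposition ⋀^r P = L'
⊕ T', with distinguished submodule L' + I_R T', in which T' is free of rank (m choose r−1) over W:
with h = m + 1 the height, the tangent module of the exterior power has rank (h−1 choose r−1). (The
published statement has T projective of rank one and P of height h; this row takes L and T free, R
nontrivial and r ≥ 1.) -/
theorem result (p : ℕ) [Fact p.Prime] (R : Type u) [CommRing R] [Nontrivial R]
    (P : Type v) [AddCommGroup P] [Module (WittVector p R) P] (D : W4c1extbt610.Display3n p R P) (m : ℕ)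
    (L T : Submodule (WittVector p R) P) (hLT : IsCompl L T) (hQ : D.Q = L ⊔ W4c1extbt610.IV p R • T)
    (hL : Module.Free (WittVector p R) L) (hLr : Module.finrank (WittVector p R) L = m)
    (hT : Nonempty (T ≃ₗ[WittVector p R] WittVector p R))
    (r : ℕ) (hr : 1 ≤ r) (E : W4c1extbt610.Display3n p R (⋀[WittVector p R]^r P)) (hE : W4c1extbt610.IsExtPow D r E) :
    ∃ L' T' : Submodule (WittVector p R) (⋀[WittVector p R]^r P), IsCompl L' T' ∧
      E.Q = L' ⊔ W4c1extbt610.IV p R • T' ∧ Module.Free (WittVector p R) T' ∧
      Module.finrank (WittVector p R) T' = m.choose (r - 1) := by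
  classical
  obtain ⟨k, rfl⟩ : ∃ k, r = k + 1 := ⟨r - 1, by omega⟩
  have := D.finite
  have : Module.Finite (WittVector p R) L :=
    Module.Finite.of_surjective (Submodule.projectionOnto L T hLT)
      (Submodule.projectionOnto_surjective hLT)
  have := hL
  let bL : Module.Basis (Fin m) (WittVector p R) L :=
    Module.finBasisOfFinrankEq (WittVector p R) L hLr
  obtain ⟨eT⟩ := hT
  let bT : Module.Basis (Fin 1) (WittVector p R) T :=
    (Module.Basis.singleton (Fin 1) (WittVector p R)).map eT.symm
  refine ⟨Groth.Agent.H74.ExtPowAux.Lr hLT bL bT (k + 1),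
    Groth.Agent.H74.ExtPowAux.Tr hLT bL bT (k + 1),
    Groth.Agent.H74.ExtPowAux.isCompl_Lr_Tr hLT bL bT (k + 1), ?_,
    Groth.Agent.H74.ExtPowAux.free_Tr hLT bL bT (k + 1), ?_⟩
  · rw [hE.1]
    exact Groth.Agent.H74.ExtPowAux.span_wedge_eq hLT bL bT (k + 1) (W4c1extbt610.IV p R) D.Q hQ
  · simpa using Groth.Agent.H74.ExtPowAux.finrank_Tr hLT bL bT k

end Groth.Agent.S13686
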