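import Groth.Statements.S13698
import Groth.Agent.H68.PolLawGen

set_option autoImplicit false
universe u
open scoped TensorProduct
open ZeroCyc

namespace Groth.Agent.S13698

open Groth.Agent.H68 Groth.Agent.H68.PL

section Aux

variable {A : Type u} [CommRing A] {B : Type u} [CommRing B] [Algebra A B]
  (M : Submonoid A) (A' : Type u) [CommRing A'] [Algebra A A'] [IsLocalization M A']

lemma smul_mk'_one (m₁ m₂ : M) :
    (m₂ : A) • IsLocalization.mk' A' (1 : A) (m₁ * m₂) = IsLocalization.mk' A' (1 : A) m₁ := by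
  symm
  rw [IsLocalization.mk'_eq_iff_eq_mul, Algebra.smul_def, mul_comm (algebraMap A A' (m₂ : A)),
    mul_assoc, ← map_mul, mul_comm (m₂ : A) (m₁ : A), ← Submonoid.coe_mul, IsLocalization.mk'_spec]

/-- Every element of `A' ⊗ B` is of the form `(1/m) ⊗ b`. -/
lemma exists_mk'_tmul (c : A' ⊗[A] B) :
    ∃ (m : M) (b : B), c = IsLocalization.mk' A' (1 : A) m ⊗ₜ[A] b := by
  induction c using TensorProduct.induction_on with
  | zero => exact ⟨1, 0, by simp⟩
  | tmul a' b =>
    obtain ⟨a, m, rfl⟩ := IsLocalization.exists_mk'_eq M a'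
    refine ⟨m, a • b, ?_⟩
    rw [TensorProduct.tmul_smul, TensorProduct.smul_tmul', IsLocalization.smul_mk'_one]
  | add x y hx hy =>
    obtain ⟨m₁, b₁, rfl⟩ := hx
    obtain ⟨m₂, b₂, rfl⟩ := hy
    refine ⟨m₁ * m₂, (m₂ : A) • b₁ + (m₁ : A) • b₂, ?_⟩
    rw [TensorProduct.tmul_add, TensorProduct.tmul_smul, TensorProduct.tmul_smul,
      TensorProduct.smul_tmul', TensorProduct.smul_tmul', smul_mk'_one M A' m₁ m₂]
    have : (m₁ : A) • IsLocalization.mk' A' (1 : A) (m₁ * m₂) =
        IsLocalization.mk' A' (1 : A) m₂ := by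
      rw [mul_comm m₁ m₂]
      exact smul_mk'_one M A' m₂ m₁
    rw [this]

/-- Naturality of `rid`. -/
lemma rid_map {R₀ R : Type u} [CommSemiring R₀] [Algebra A R₀] [CommSemiring R] [Algebra A R]
    (j : R₀ →ₐ[A] R) (z : R₀ ⊗[A] A) :
    Algebra.TensorProduct.rid A A R (Algebra.TensorProduct.map j (AlgHom.id A A) z) =
      j (Algebra.TensorProduct.rid A A R₀ z) := by
  induction z using TensorProduct.induction_on with
  | zero => simp
  | tmul r a => simp
  | add x y hx hy => simp only [map_add, hx, hy]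

/-- If `1 ⊗ b` is in the kernel over the localization, then over any `A`-algebra the two values of
the law differ by `M`-torsion. -/
lemma exists_smul_eq (F : B →ₚₗ[A] A) (b : B)
    (hb : ((1 : A') ⊗ₜ[A] b) ∈ PolLaw.kerBC F A')
    (R₀ : Type u) [CommRing R₀] [Algebra A R₀] (x w : R₀ ⊗[A] B) :
    ∃ m : M, (m : A) • Algebra.TensorProduct.rid A A R₀ (F.toFun' R₀ (x + w * (1 ⊗ₜ[A] b))) =
      (m : A) • Algebra.TensorProduct.rid A A R₀ (F.toFun' R₀ x) := by
  rw [mem_kerBC_iff] at hb
  let j : R₀ →ₐ[A] A' ⊗[A] R₀ := Algebra.TensorProduct.includeRight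
  let φ : A' →ₐ[A] A' ⊗[A] R₀ := Algebra.TensorProduct.includeLeft
  have h := hb (A' ⊗[A] R₀) φ (Algebra.TensorProduct.map j (AlgHom.id A B) x)
    (Algebra.TensorProduct.map j (AlgHom.id A B) w)
  have h1 : Algebra.TensorProduct.map φ (AlgHom.id A B) ((1 : A') ⊗ₜ[A] b) =
      Algebra.TensorProduct.map j (AlgHom.id A B) ((1 : R₀) ⊗ₜ[A] b) := by
    simp
  rw [h1, ← map_mul, ← map_add, ← compat, ← compat] at h
  have h2 := congrArg (Algebra.TensorProduct.rid A A (A' ⊗[A] R₀)) h
  rw [rid_map, rid_map] at h2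
  have h3 : (TensorProduct.mk A A' R₀ 1)
      (Algebra.TensorProduct.rid A A R₀ (F.toFun' R₀ (x + w * (1 ⊗ₜ[A] b))) -
        Algebra.TensorProduct.rid A A R₀ (F.toFun' R₀ x)) = 0 := by
    rw [map_sub, sub_eq_zero]
    exact h2
  obtain ⟨m, hm⟩ := (IsLocalizedModule.eq_zero_iff M (TensorProduct.mk A A' R₀ 1)).mp h3
  refine ⟨m, ?_⟩
  rw [Submonoid.smul_def, smul_sub, sub_eq_zero] at hm
  exact hm

/-- If `1 ⊗ b` is in the kernel over the localization, some multiple `m • b` is in the kernel. -/
lemma exists_smul_mem_ker [Module.Finite A B] (F : B →ₚₗ[A] A) (b : B)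
    (hb : ((1 : A') ⊗ₜ[A] b) ∈ PolLaw.kerBC F A') :
    ∃ m : M, (m : A) • b ∈ PolLaw.ker F := by
  obtain ⟨n, e, he⟩ := Module.Finite.exists_fin (R := A) (M := B)
  let S := GenRing A n
  let Cₐ : S →ₐ[A] Polynomial S := IsScalarTower.toAlgHom A S (Polynomial S)
  let ev : S → (Polynomial S →ₐ[A] S) := fun s => (Polynomial.aeval s).restrictScalars A
  have hev : ∀ s, (ev s).comp Cₐ = AlgHom.id A S := by
    intro s
    refine AlgHom.ext (fun r => ?_)
    show Polynomial.aeval s (Polynomial.C r) = r
    simp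
  have hevX : ∀ s, (ev s) Polynomial.X = s := by
    intro s
    show Polynomial.aeval s Polynomial.X = s
    simp
  let x₀ := Algebra.TensorProduct.map Cₐ (AlgHom.id A B) (xGen e)
  let w₀ := ((Polynomial.X : Polynomial S) ⊗ₜ[A] (1 : B)) *
    Algebra.TensorProduct.map Cₐ (AlgHom.id A B) (wGen e)
  obtain ⟨m, hm⟩ := exists_smul_eq M A' F b hb (Polynomial S) x₀ w₀
  refine ⟨m, ?_⟩
  let P₁ := Algebra.TensorProduct.rid A A (Polynomial S)
    (F.toFun' (Polynomial S) (x₀ + w₀ * (1 ⊗ₜ[A] b)))
  let P₂ := Algebra.TensorProduct.rid A A (Polynomial S) (F.toFun' (Polynomial S) x₀)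
  -- evaluation of `P₁` and `P₂`
  have hP₁ : ∀ s : S, P₁.eval s = Algebra.TensorProduct.rid A A S
      (F.toFun' S (xGen e + (s ⊗ₜ[A] (1 : B)) * wGen e * (1 ⊗ₜ[A] b))) := by
    intro s
    have := rid_map (ev s) (F.toFun' (Polynomial S) (x₀ + w₀ * (1 ⊗ₜ[A] b)))
    rw [compat] at this
    simp only [x₀, w₀, map_add, map_mul, PL.map_map, hev, Algebra.TensorProduct.map_tmul, hevX,
      map_one, Algebra.TensorProduct.map_id, AlgHom.coe_id, id_eq] at this
    simp only [P₁]
    rw [show Polynomial.eval s (Algebra.TensorProduct.rid A A (Polynomial S)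
        (F.toFun' (Polynomial S) (x₀ + w₀ * (1 ⊗ₜ[A] b)))) =
        ev s (Algebra.TensorProduct.rid A A (Polynomial S)
        (F.toFun' (Polynomial S) (x₀ + w₀ * (1 ⊗ₜ[A] b)))) from by simp [ev, Polynomial.aeval_def,
          Polynomial.eval₂_eq_eval_map], ← this]
  have hP₂ : ∀ s : S, P₂.eval s = Algebra.TensorProduct.rid A A S (F.toFun' S (xGen e)) := by
    intro s
    have := rid_map (ev s) (F.toFun' (Polynomial S) x₀)
    rw [compat] at this
    simp only [x₀, PL.map_map, hev, Algebra.TensorProduct.map_id, AlgHom.coe_id, id_eq] at this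
    simp only [P₂]
    rw [show Polynomial.eval s (Algebra.TensorProduct.rid A A (Polynomial S)
        (F.toFun' (Polynomial S) x₀)) =
        ev s (Algebra.TensorProduct.rid A A (Polynomial S)
        (F.toFun' (Polynomial S) x₀)) from by simp [ev, Polynomial.aeval_def,
          Polynomial.eval₂_eq_eval_map], ← this]
  -- `P₁ - P₂` is divisible by `X` and killed by `m`
  have h0 : (P₁ - P₂).coeff 0 = 0 := by
    rw [Polynomial.coeff_zero_eq_eval_zero, Polynomial.eval_sub, hP₁, hP₂]
    simp
  obtain ⟨Q, hQ⟩ := Polynomial.X_dvd_iff.mpr h0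
  have hmQ : (m : A) • Q = 0 := by
    have h1 : (m : A) • (P₁ - P₂) = 0 := by
      rw [smul_sub, sub_eq_zero]
      exact hm
    rw [hQ, ← mul_smul_comm] at h1
    refine Polynomial.ext (fun k => ?_)
    have := congrArg (fun p => Polynomial.coeff p (k + 1)) h1
    simpa using this
  have hfin : (P₁ - P₂).eval (algebraMap A S (m : A)) = 0 := by
    rw [hQ, Polynomial.eval_mul, Polynomial.eval_X, ← Algebra.smul_def, ← Polynomial.eval_smul,
      hmQ, Polynomial.eval_zero]
  rw [Polynomial.eval_sub, sub_eq_zero, hP₁, hP₂] at hfin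
  have hfin' := (Algebra.TensorProduct.rid A A S).injective hfin
  rw [mem_ker_iff_gen F e he]
  rw [← hfin']
  congr 2
  rw [mul_comm ((algebraMap A S (m : A)) ⊗ₜ[A] (1 : B)) (wGen e), mul_assoc,
    Algebra.TensorProduct.tmul_mul_tmul, mul_one, one_mul, Algebra.algebraMap_eq_smul_one,
    TensorProduct.smul_tmul]

end Aux

/-- Let F : B → A be a multiplicative polynomial law homogeneous of degree d over the commutative ring
A, on a commutative A-algebra B which is finite as an A-module, and let A' be a localization of A at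
a submonoid M. Then the kernel of the base change of F to A' is the ideal of A' ⊗_A B generated by
the kernel of F: the kernel (hence the image of a family of zero-cycles) commutes with localization.
(The published statement has no finiteness hypothesis on B and is false without one: for a suitable
algebra B that is not finitely generated the conditions cutting out the kernel at an element are
infinitely many elements of A annihilated by elements of M but by no single one, and the kernel of
the localised law is then strictly larger than the localised kernel; the published proof's reduction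
to finite B does not go through. This row assumes B finite over A, the case that proof establishes.) -/
theorem result {A : Type u} [CommRing A] {B : Type u} [CommRing B] [Algebra A B]
    [Module.Finite A B] {d : ℕ} (F : PolLaw.MulLaw A B A d) (M : Submonoid A) (A' : Type u) [CommRing A'] [Algebra A A']
    [IsLocalization M A'] :
    (PolLaw.ker F.law).map (Algebra.TensorProduct.includeRight : B →ₐ[A] A' ⊗[A] B) =
      PolLaw.kerBC F.law A' := by
  apply le_antisymm (map_ker_le_kerBC F.law _)
  intro c hc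
  obtain ⟨m, b, rfl⟩ := exists_mk'_tmul M A' c
  have h1 : ((1 : A') ⊗ₜ[A] b) ∈ PolLaw.kerBC F.law A' := by
    have : ((1 : A') ⊗ₜ[A] b) = (algebraMap A A' (m : A) ⊗ₜ[A] (1 : B)) *
        (IsLocalization.mk' A' (1 : A) m ⊗ₜ[A] b) := by
      rw [Algebra.TensorProduct.tmul_mul_tmul, one_mul, IsLocalization.mk'_spec', map_one]
    rw [this]
    exact Ideal.mul_mem_left _ _ hc
  obtain ⟨m₀, hm₀⟩ := exists_smul_mem_ker M A' F.law b h1
  have h2 : IsLocalization.mk' A' (1 : A) m ⊗ₜ[A] b =
      (IsLocalization.mk' A' (1 : A) (m * m₀) ⊗ₜ[A] (1 : B)) *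
        (Algebra.TensorProduct.includeRight : B →ₐ[A] A' ⊗[A] B) ((m₀ : A) • b) := by
    rw [Algebra.TensorProduct.includeRight_apply, Algebra.TensorProduct.tmul_mul_tmul, mul_one,
      one_mul, TensorProduct.tmul_smul, TensorProduct.smul_tmul', smul_mk'_one M A' m m₀]
  rw [h2]
  exact Ideal.mul_mem_left _ _ (Ideal.mem_map_of_mem _ hm₀)

end Groth.Agent.S13698
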