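import Groth.Statements.S13700
import Groth.Agent.H68.PolLawDeriv
import Groth.Agent.H68.SplitTower

set_option autoImplicit false
universe u
open scoped TensorProduct
open ZeroCyc

namespace Groth.Agent.S13700

open Groth.Agent.H68 Groth.Agent.H68.PL Polynomial

section Aux

variable {A : Type u} [CommRing A] {B : Type u} [CommRing B] [Algebra A B]

/-- Every element of `A[X]/(g) ⊗ B` is `∑ tⁱ ⊗ bᵢ`. -/
lemma exists_repr (g : A[X]) (hg : g.Monic) (c : AdjoinRoot g ⊗[A] B) :
    ∃ b : Fin g.natDegree → B, c = ∑ i : Fin g.natDegree, (AdjoinRoot.root g ^ (i : ℕ)) ⊗ₜ[A] b i := by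
  induction c using TensorProduct.induction_on with
  | zero => exact ⟨fun _ => 0, by simp⟩
  | tmul a' b₀ =>
    refine ⟨fun i => (AdjoinRoot.powerBasisAux' hg).repr a' i • b₀, ?_⟩
    conv_lhs => rw [← (AdjoinRoot.powerBasisAux' hg).sum_repr a']
    rw [TensorProduct.sum_tmul]
    refine Finset.sum_congr rfl (fun i _ => ?_)
    rw [TensorProduct.smul_tmul]
    congr 1
    exact (AdjoinRoot.powerBasis' hg).basis_eq_pow i
  | add x y hx hy =>
    obtain ⟨b, rfl⟩ := hx
    obtain ⟨b', rfl⟩ := hy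
    refine ⟨fun i => b i + b' i, ?_⟩
    rw [← Finset.sum_add_distrib]
    refine Finset.sum_congr rfl (fun i _ => ?_)
    rw [TensorProduct.tmul_add]

/-- Adding a combination of kernel-like elements does not change the law. -/
lemma law_add_sum {R : Type u} [CommSemiring R] [Algebra A R] (F : B →ₚₗ[A] A) {ι : Type*}
    (s : Finset ι) (c : ι → R ⊗[A] B)
    (hc : ∀ k ∈ s, ∀ x w : R ⊗[A] B, F.toFun' R (x + w * c k) = F.toFun' R x)
    (u : ι → R ⊗[A] B) (x : R ⊗[A] B) :
    F.toFun' R (x + ∑ k ∈ s, u k * c k) = F.toFun' R x := by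
  classical
  induction s using Finset.induction_on generalizing x with
  | empty => simp
  | insert a s ha ih =>
    rw [Finset.sum_insert ha, ← add_assoc, ih (fun k hk => hc k (Finset.mem_insert_of_mem hk)),
      hc a (Finset.mem_insert_self a s)]

end Aux

/-- Etale base change `A[X]/(g)`, `g` monic separable: the kernel commutes with base change. -/
theorem result {A : Type u} [CommRing A] {B : Type u} [CommRing B] [Algebra A B]
    {d : ℕ} (F : PolLaw.MulLaw A B A d) (g : Polynomial A) (hg : g.Monic) (hsep : g.Separable) :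
    (PolLaw.ker F.law).map (Algebra.TensorProduct.includeRight : B →ₐ[A] AdjoinRoot g ⊗[A] B) =
      PolLaw.kerBC F.law (AdjoinRoot g) := by
  apply le_antisymm (map_ker_le_kerBC F.law _)
  intro c hc
  obtain ⟨b, rfl⟩ := exists_repr g hg c
  -- it suffices to show that every `b i₀` is in the kernel
  suffices h : ∀ i₀, b i₀ ∈ PolLaw.ker F.law by
    refine Ideal.sum_mem _ (fun i _ => ?_)
    have : (AdjoinRoot.root g ^ (i : ℕ)) ⊗ₜ[A] b i =
        ((AdjoinRoot.root g ^ (i : ℕ)) ⊗ₜ[A] (1 : B)) *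
          (Algebra.TensorProduct.includeRight : B →ₐ[A] AdjoinRoot g ⊗[A] B) (b i) := by
      rw [Algebra.TensorProduct.includeRight_apply, Algebra.TensorProduct.tmul_mul_tmul, mul_one,
        one_mul]
    rw [this]
    exact Ideal.mul_mem_left _ _ (Ideal.mem_map_of_mem _ (h i))
  intro i₀
  -- the splitting algebra
  obtain ⟨A'', _, _, r, ρ, hr, hfac⟩ := exists_splitting_algebra g.natDegree A g hg rfl
  have hsep' : (∏ k, (X - C (ρ k))).Separable := hfac ▸ hsep.map
  have hV := isUnit_det_vandermonde_of_separable ρ hsep'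
  let U := (Matrix.vandermonde ρ)⁻¹
  have hUV : U * Matrix.vandermonde ρ = 1 := Matrix.nonsing_inv_mul _ hV
  have hUV' : ∀ i : Fin g.natDegree, ∑ k, U i₀ k * ρ k ^ (i : ℕ) = if i₀ = i then 1 else 0 := by
    intro i
    have := congrFun (congrFun hUV i₀) i
    rw [Matrix.mul_apply, Matrix.one_apply] at this
    simpa [Matrix.vandermonde_apply] using this
  have hroot : ∀ k, Polynomial.aeval (ρ k) g = 0 := by
    intro k
    rw [Polynomial.aeval_def, ← Polynomial.eval_map, hfac, Polynomial.eval_prod]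
    exact Finset.prod_eq_zero (Finset.mem_univ k) (by simp)
  rw [mem_kerBC_iff] at hc
  intro S _ _ x w
  let R := A'' ⊗[A] S
  let j : S →ₐ[A] R := Algebra.TensorProduct.includeRight
  -- `j` is injective, thanks to the retraction
  have hjinj : Function.Injective j := by
    let q : R →ₗ[A] S := (TensorProduct.lid A S).toLinearMap ∘ₗ r.rTensor S
    have hq : ∀ s, q (j s) = s := by
      intro s
      show TensorProduct.lid A S (r.rTensor S ((1 : A'') ⊗ₜ[A] s)) = s
      rw [LinearMap.rTensor_tmul, hr, TensorProduct.lid_tmul, one_smul]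
    intro s s' hss
    rw [← hq s, ← hq s', hss]
  have hjinj' : Function.Injective (Algebra.TensorProduct.map j (AlgHom.id A A)) := by
    intro z z' hzz
    apply (Algebra.TensorProduct.rid A A S).injective
    apply hjinj
    rw [← rid_map, ← rid_map, hzz]
  -- the `n` maps `A[X]/(g) → R`
  have hroot' : ∀ k, g.eval₂ (Algebra.ofId A R) ((ρ k) ⊗ₜ[A] (1 : S)) = 0 := by
    intro k
    have := Polynomial.aeval_algHom_apply
      (Algebra.TensorProduct.includeLeft : A'' →ₐ[A] A'' ⊗[A] S) (ρ k) g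
    rw [hroot k, map_zero] at this
    rw [← this]
    rfl
  let φ : Fin g.natDegree → (AdjoinRoot g →ₐ[A] R) := fun k =>
    AdjoinRoot.liftAlgHom g (Algebra.ofId A R) ((ρ k) ⊗ₜ[A] (1 : S)) (hroot' k)
  let cc : AdjoinRoot g ⊗[A] B := ∑ i : Fin g.natDegree, (AdjoinRoot.root g ^ (i : ℕ)) ⊗ₜ[A] b i
  have hφc : ∀ k, Algebra.TensorProduct.map (φ k) (AlgHom.id A B) cc =
      ∑ i : Fin g.natDegree, ((ρ k ^ (i : ℕ)) ⊗ₜ[A] (1 : S)) ⊗ₜ[A] b i := by
    intro k
    simp only [cc, map_sum, Algebra.TensorProduct.map_tmul, map_pow, AlgHom.id_apply]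
    refine Finset.sum_congr rfl (fun i _ => ?_)
    congr 1
    rw [show φ k (AdjoinRoot.root g) = (ρ k) ⊗ₜ[A] (1 : S) from
      AdjoinRoot.liftAlgHom_root g _ _ _, Algebra.TensorProduct.tmul_pow, one_pow]
  -- the combination giving `1 ⊗ b i₀`
  have hsum : ∑ k, (((U i₀ k) ⊗ₜ[A] (1 : S)) ⊗ₜ[A] (1 : B)) *
      Algebra.TensorProduct.map (φ k) (AlgHom.id A B) cc = (1 : R) ⊗ₜ[A] b i₀ := by
    simp only [hφc, Finset.mul_sum, Algebra.TensorProduct.tmul_mul_tmul, one_mul, mul_one]
    rw [Finset.sum_comm]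
    simp only [← TensorProduct.sum_tmul, hUV']
    rw [Finset.sum_eq_single i₀]
    · rw [if_pos rfl]
      rfl
    · intro i _ hi
      rw [if_neg (Ne.symm hi), TensorProduct.zero_tmul, TensorProduct.zero_tmul]
    · intro h
      exact absurd (Finset.mem_univ _) h
  have key := law_add_sum F.law Finset.univ
    (fun k => Algebra.TensorProduct.map (φ k) (AlgHom.id A B) cc)
    (fun k _ x' w' => hc R (φ k) x' w')
    (fun k => Algebra.TensorProduct.map j (AlgHom.id A B) w *
      (((U i₀ k) ⊗ₜ[A] (1 : S)) ⊗ₜ[A] (1 : B)))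
    (Algebra.TensorProduct.map j (AlgHom.id A B) x)
  simp only [mul_assoc] at key
  rw [← Finset.mul_sum, hsum] at key
  apply hjinj'
  rw [compat, compat, map_add, map_mul]
  have : Algebra.TensorProduct.map j (AlgHom.id A B) ((1 : S) ⊗ₜ[A] b i₀) =
      (1 : R) ⊗ₜ[A] b i₀ := by
    simp
  rw [this]
  exact key

end Groth.Agent.S13700
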