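import Groth.Statements.S13701
import Groth.Agent.H68.PolLawDeriv

set_option autoImplicit false
universe u
open scoped TensorProduct
open ZeroCyc

namespace Groth.Agent.S13701

open Groth.Agent.H68 Groth.Agent.H68.PL

section Aux

variable {A : Type u} [CommRing A] {B : Type u} [CommRing B] [Algebra A B]

lemma dLaw_zero {R : Type u} [CommRing R] [Algebra A R] (F : B →ₚₗ[A] A) (x : R ⊗[A] B) :
    dLaw R F x 0 = 0 := by
  have := dLaw_smul F (0 : R) x 0
  rw [mul_zero, zero_mul] at this
  exact this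

/-- The linearised kernel condition. -/
noncomputable def ℓ (F : B →ₚₗ[A] A) {n : ℕ} (e : Fin n → B) : B →ₗ[A] GenRing A n where
  toFun b := dLaw (GenRing A n) F (xGen e) (wGen e * (1 ⊗ₜ[A] b))
  map_add' b b' := by
    rw [TensorProduct.tmul_add, mul_add, dLaw_add]
  map_smul' a b := by
    have : wGen e * ((1 : GenRing A n) ⊗ₜ[A] (a • b)) =
        ((algebraMap A (GenRing A n) a) ⊗ₜ[A] (1 : B)) * (wGen e * (1 ⊗ₜ[A] b)) := by
      rw [mul_left_comm, Algebra.TensorProduct.tmul_mul_tmul, mul_one, one_mul,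
        Algebra.algebraMap_eq_smul_one, TensorProduct.smul_tmul]
    rw [this, dLaw_smul, RingHom.id_apply, Algebra.smul_def]

/-- In characteristic zero, the kernel of the law is the kernel of the linearised condition. -/
lemma mem_ker_of_ℓ_eq_zero [Algebra ℚ A] (F : B →ₚₗ[A] A) {n : ℕ} (e : Fin n → B)
    (he : Submodule.span A (Set.range e) = ⊤) (b : B) (hb : ℓ F e b = 0) : b ∈ PolLaw.ker F := by
  have : IsAddTorsionFree (GenRing A n) := IsAddTorsionFree.of_module_rat _
  rw [mem_ker_iff_gen F e he]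
  apply eq_of_dLaw_path_eq_zero
  obtain ⟨ψ, hψx, hψw⟩ := exists_specialization e he
    (path (xGen e) (wGen e * (1 ⊗ₜ[A] b)))
    (Algebra.TensorProduct.map (Cₐ (A := A) (GenRing A n)) (AlgHom.id A B) (wGen e))
  have h1 : Algebra.TensorProduct.map (Cₐ (A := A) (GenRing A n)) (AlgHom.id A B)
      (wGen e * (1 ⊗ₜ[A] b)) =
      Algebra.TensorProduct.map ψ (AlgHom.id A B) (wGen e * (1 ⊗ₜ[A] b)) := by
    rw [map_mul, map_mul, hψw]
    simp
  rw [h1, ← hψx, dLaw_nat]
  have : dLaw (GenRing A n) F (xGen e) (wGen e * (1 ⊗ₜ[A] b)) = 0 := hb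
  rw [this, map_zero]

end Aux


section BC

variable {A : Type u} [CommRing A] {B : Type u} [CommRing B] [Algebra A B]
  (A' : Type u) [CommRing A'] [Algebra A A']

/-- The derivative over `A' ⊗ G` in the direction of `c` is the base change of `ℓ`. -/
lemma dLaw_bc_eq (F : B →ₚₗ[A] A) {n : ℕ} (e : Fin n → B) (c : A' ⊗[A] B) :
    dLaw (A' ⊗[A] GenRing A n) F
      (Algebra.TensorProduct.map
        (Algebra.TensorProduct.includeRight : GenRing A n →ₐ[A] A' ⊗[A] GenRing A n)
        (AlgHom.id A B) (xGen e))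
      (Algebra.TensorProduct.map
        (Algebra.TensorProduct.includeRight : GenRing A n →ₐ[A] A' ⊗[A] GenRing A n)
        (AlgHom.id A B) (wGen e) *
        Algebra.TensorProduct.map
          (Algebra.TensorProduct.includeLeft : A' →ₐ[A] A' ⊗[A] GenRing A n)
          (AlgHom.id A B) c) = (ℓ F e).lTensor A' c := by
  induction c using TensorProduct.induction_on with
  | zero => simp only [map_zero, mul_zero, dLaw_zero]
  | tmul a' b =>
    have h1 : Algebra.TensorProduct.map
        (Algebra.TensorProduct.includeRight : GenRing A n →ₐ[A] A' ⊗[A] GenRing A n)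
        (AlgHom.id A B) (wGen e) *
        Algebra.TensorProduct.map
          (Algebra.TensorProduct.includeLeft : A' →ₐ[A] A' ⊗[A] GenRing A n)
          (AlgHom.id A B) (a' ⊗ₜ[A] b) =
        ((a' ⊗ₜ[A] (1 : GenRing A n)) ⊗ₜ[A] (1 : B)) *
          Algebra.TensorProduct.map
            (Algebra.TensorProduct.includeRight : GenRing A n →ₐ[A] A' ⊗[A] GenRing A n)
            (AlgHom.id A B) (wGen e * (1 ⊗ₜ[A] b)) := by
      rw [map_mul, Algebra.TensorProduct.map_tmul, Algebra.TensorProduct.map_tmul, map_one,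
        AlgHom.id_apply, Algebra.TensorProduct.includeLeft_apply]
      have : (a' ⊗ₜ[A] (1 : GenRing A n)) ⊗ₜ[A] b =
          ((a' ⊗ₜ[A] (1 : GenRing A n)) ⊗ₜ[A] (1 : B)) * (1 ⊗ₜ[A] b) := by
        rw [Algebra.TensorProduct.tmul_mul_tmul, mul_one, one_mul]
      rw [this]
      ring
    rw [h1, dLaw_smul, dLaw_nat, LinearMap.lTensor_tmul,
      Algebra.TensorProduct.includeRight_apply, Algebra.TensorProduct.tmul_mul_tmul, mul_one,
      one_mul]
    rfl
  | add x y hx hy => rw [map_add, mul_add, dLaw_add, hx, hy, map_add]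

/-- The derivative in the direction of an element of the kernel vanishes. -/
lemma dLaw_eq_zero_of_mem_kerBC (F : B →ₚₗ[A] A) {R : Type u} [CommRing R] [Algebra A R]
    (φ : A' →ₐ[A] R) (x w : R ⊗[A] B) (c : A' ⊗[A] B) (hc : c ∈ PolLaw.kerBC F A') :
    dLaw R F x (w * Algebra.TensorProduct.map φ (AlgHom.id A B) c) = 0 := by
  rw [mem_kerBC_iff] at hc
  have h := hc (DualNumber R) ((ιD R).comp φ)
    (Algebra.TensorProduct.map (ιD (A := A) R) (AlgHom.id A B) x)
    (((DualNumber.eps : DualNumber R) ⊗ₜ[A] (1 : B)) *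
      Algebra.TensorProduct.map (ιD (A := A) R) (AlgHom.id A B) w)
  rw [dLaw, dArg, map_mul, PL.map_map, ← mul_assoc, h, ← compat, rid_map]
  rfl

end BC

/-- Characteristic zero, `B` finite, `A'` flat: the kernel commutes with base change. -/
theorem result {A : Type u} [CommRing A] [Algebra ℚ A] {B : Type u} [CommRing B] [Algebra A B]
    [Module.Finite A B] {d : ℕ} (F : PolLaw.MulLaw A B A d) (A' : Type u) [CommRing A'] [Algebra A A'] [Module.Flat A A'] :
    (PolLaw.ker F.law).map (Algebra.TensorProduct.includeRight : B →ₐ[A] A' ⊗[A] B) =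
      PolLaw.kerBC F.law A' := by
  apply le_antisymm (map_ker_le_kerBC F.law _)
  intro c hc
  obtain ⟨n, e, he⟩ := Module.Finite.exists_fin (R := A) (M := B)
  -- the linearised condition vanishes on `c`
  have h0 : (ℓ F.law e).lTensor A' c = 0 := by
    rw [← dLaw_bc_eq]
    exact dLaw_eq_zero_of_mem_kerBC A' F.law _ _ _ c hc
  -- flatness
  have hex : Function.Exact ((LinearMap.ker (ℓ F.law e)).subtype.lTensor A')
      ((ℓ F.law e).lTensor A') :=
    Module.Flat.lTensor_exact A' (LinearMap.exact_subtype_ker_map (ℓ F.law e))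
  obtain ⟨t, rfl⟩ := (hex c).mp h0
  clear h0 hc
  induction t using TensorProduct.induction_on with
  | zero => simp
  | tmul a' b =>
    rw [LinearMap.lTensor_tmul]
    have hb : (b : B) ∈ PolLaw.ker F.law := mem_ker_of_ℓ_eq_zero F.law e he b b.2
    have : a' ⊗ₜ[A] ((LinearMap.ker (ℓ F.law e)).subtype b) =
        (a' ⊗ₜ[A] (1 : B)) *
          (Algebra.TensorProduct.includeRight : B →ₐ[A] A' ⊗[A] B) (b : B) := by
      rw [Algebra.TensorProduct.includeRight_apply, Algebra.TensorProduct.tmul_mul_tmul, mul_one,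
        one_mul]
      rfl
    rw [this]
    exact Ideal.mul_mem_left _ _ (Ideal.mem_map_of_mem _ hb)
  | add x y hx hy =>
    rw [map_add]
    exact Ideal.add_mem _ hx hy

end Groth.Agent.S13701
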