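import Groth.Statements.S13703
import Groth.Agent.H68.LawTorsion

set_option autoImplicit false
universe u
open scoped TensorProduct
open ZeroCyc

namespace Groth.Agent.S13703

open Groth.Agent.H68.LC

/-- Let A be an integral domain, B a commutative A-algebra and F : B → A a multiplicative polynomial law
homogeneous of degree d. For every prime ideal P of B minimal among those containing the kernel of
F, the contraction of P to A is zero and every prime of A is the contraction of a prime of B
containing P. Geometrically: every irreducible component of the support of the family of zero-cycles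
on Spec B defined by F maps onto Spec A. (The published statement is over an arbitrary algebraic
space S, every irreducible component of the support mapping onto an irreducible component of S, and
its proof reduces to an integral affine base; this row is that case.) -/
theorem result {A : Type u} [CommRing A] [IsDomain A] {B : Type u} [CommRing B] [Algebra A B]
    {d : ℕ} (F : PolLaw.MulLaw A B A d) {P : Ideal B} (hP : P ∈ (PolLaw.ker F.law).minimalPrimes) :
    P.comap (algebraMap A B) = ⊥ ∧
      ∀ q : Ideal A, q.IsPrime → ∃ Q : Ideal B, Q.IsPrime ∧ P ≤ Q ∧ Q.comap (algebraMap A B) = q := by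
  have hPprime : P.IsPrime := hP.1.1
  have hle : PolLaw.ker F.law ≤ P := hP.1.2
  have h1 : P.comap (algebraMap A B) = ⊥ := by
    rw [eq_bot_iff]
    intro a ha
    rw [Ideal.mem_comap] at ha
    rw [Ideal.mem_bot]
    by_contra hne
    obtain ⟨y, hy, hay⟩ := Ideal.exists_mul_mem_of_mem_minimalPrimes hP ha
    rw [← Algebra.smul_def] at hay
    exact hy (mem_ker_of_smul_mem F.law hne hay)
  refine ⟨h1, ?_⟩
  intro q hq
  -- `B ⧸ P` is integral over `A`
  have hint : Algebra.IsIntegral A (B ⧸ P) := by
    constructor
    intro x
    obtain ⟨b, rfl⟩ := Ideal.Quotient.mk_surjective x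
    have hb := isIntegral_mk_ker F b
    have := hb.map (Ideal.Quotient.factorₐ A hle)
    exact this
  have hker : RingHom.ker (algebraMap A (B ⧸ P)) ≤ q := by
    intro a ha
    rw [RingHom.mem_ker, IsScalarTower.algebraMap_apply A B (B ⧸ P), Ideal.Quotient.algebraMap_eq,
      Ideal.Quotient.eq_zero_iff_mem] at ha
    have : a ∈ P.comap (algebraMap A B) := ha
    rw [h1, Ideal.mem_bot] at this
    rw [this]; exact Ideal.zero_mem _
  obtain ⟨Q', hQ'prime, hQ'⟩ := Ideal.exists_ideal_over_prime_of_isIntegral_of_isDomain
    (S := B ⧸ P) q hker
  refine ⟨Q'.comap (Ideal.Quotient.mk P), Ideal.comap_isPrime _ _, ?_, ?_⟩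
  · intro x hx
    rw [Ideal.mem_comap, Ideal.Quotient.eq_zero_iff_mem.mpr hx]
    exact Ideal.zero_mem _
  · rw [← hQ']
    ext a
    rw [Ideal.mem_comap, Ideal.mem_comap, Ideal.mem_comap,
      IsScalarTower.algebraMap_apply A B (B ⧸ P), Ideal.Quotient.algebraMap_eq]

end Groth.Agent.S13703
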