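import Groth.Statements.S13705
import Groth.Agent.H68.LawOpen

set_option autoImplicit false
universe u
open scoped TensorProduct
open ZeroCyc

namespace Groth.Agent.S13705

open AlgebraicGeometry CategoryTheory CategoryTheory.Limits CategoryTheory.MorphismProperty

/-- A morphism of affine schemes all of whose affine base changes are open is universally open. -/
theorem universallyOpen_Spec_of_forall {A C : Type u} [CommRing A] [CommRing C] [Algebra A C]
    (H : ∀ (R : Type u) [CommRing R] [Algebra A R],
      IsOpenMap (PrimeSpectrum.comap (algebraMap R (R ⊗[A] C)))) :
    UniversallyOpen (Spec.map (CommRingCat.ofHom (algebraMap A C))) := by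
  refine ⟨universally_mk' _ _ fun {T} g _ ↦ ?_⟩
  wlog hT : ∃ R, T = Spec R generalizing T
  · refine (IsZariskiLocalAtTarget.iff_of_openCover T.affineCover).mpr fun i ↦ ?_
    refine (MorphismProperty.cancel_left_of_respectsIso _
      ((pullbackRightPullbackFstIso ..).inv ≫ (pullbackSymmetry ..).hom) _).mp ?_
    simpa [Scheme.Cover.pullbackHom] using! this _ _ ⟨_, rfl⟩
  obtain ⟨R, rfl⟩ := hT
  obtain ⟨ψ, rfl⟩ := Spec.map_surjective g
  algebraize [ψ.hom]
  refine (MorphismProperty.cancel_left_of_respectsIso _ (pullbackSpecIso A R C).inv _).mp ?_
  convert_to! topologically _ (Spec.map <| CommRingCat.ofHom (algebraMap R (TensorProduct A R C)))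
  · exact pullbackSpecIso_inv_fst ..
  exact H R

/-- Let F : B → A be a multiplicative polynomial law homogeneous of degree d over the commutative ring
A, with no finiteness assumption on B. Then the morphism Spec(B/ker F) → Spec A, the image of the
family of zero-cycles on Spec B defined by F, is universally open. (The published statement is for X
affine over an algebraic space S and for the support; this row is the case of an affine base, stated
for the image, which has the same underlying space as the support, the property being étale-local on
the base and topological.) -/
theorem result {A : Type u} [CommRing A] {B : Type u} [CommRing B] [Algebra A B]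
    {d : ℕ} (F : PolLaw.MulLaw A B A d) :
    AlgebraicGeometry.UniversallyOpen
      (AlgebraicGeometry.Spec.map (CommRingCat.ofHom (algebraMap A (PolLaw.image F.law)))) := by
  exact universallyOpen_Spec_of_forall (fun R _ _ => Groth.Agent.H68.LC.isOpenMap_tensor_image F R)

end Groth.Agent.S13705
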