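import Groth.Statements.S13707
import Groth.Agent.H68.LawPoints

set_option autoImplicit false
universe u
open scoped TensorProduct
open ZeroCyc

namespace Groth.Agent.S13707

open Groth.Agent.H68.LC

/-- Let k be a field, B a commutative k-algebra and F : B → k a multiplicative polynomial law
homogeneous of degree d. Then the spectrum of B/ker F (the image of the family of zero-cycles of
degree d on Spec B defined by F) is a finite set of at most d closed points, and the residue field
at each of them has finite separable degree over k. -/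
theorem result {k : Type u} [Field k] {B : Type u} [CommRing B] [Algebra k B]
    {d : ℕ} (F : PolLaw.MulLaw k B k d) :
    Finite (PrimeSpectrum (PolLaw.image F.law)) ∧ Nat.card (PrimeSpectrum (PolLaw.image F.law)) ≤ d ∧
      ∀ P : PrimeSpectrum (PolLaw.image F.law), P.asIdeal.IsMaximal ∧
        Finite (Field.Emb k P.asIdeal.ResidueField) := by
  classical
  have hint : Algebra.IsIntegral k (PolLaw.image F.law) := by
    constructor
    intro x
    obtain ⟨b, rfl⟩ := Ideal.Quotient.mk_surjective x
    exact isIntegral_mk_ker F b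
  have hmaxl : ∀ P : PrimeSpectrum (PolLaw.image F.law), P.asIdeal.IsMaximal := by
    intro P
    have hP := P.isPrime
    refine Ideal.isMaximal_of_isIntegral_of_isMaximal_comap (R := k) P.asIdeal ?_
    have : (P.asIdeal.comap (algebraMap k (PolLaw.image F.law))) = ⊥ := Ideal.eq_bot_of_prime _
    rw [this]; exact Ideal.bot_isMaximal
  have hmk : Function.Surjective (Ideal.Quotient.mk (PolLaw.ker F.law)) :=
    Ideal.Quotient.mk_surjective
  have hfin : Finite (PrimeSpectrum (PolLaw.image F.law)) ∧
      Nat.card (PrimeSpectrum (PolLaw.image F.law)) ≤ d := by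
    apply finite_card_le_of_no_inj
    intro f hf
    refine no_points F (fun i => (f i).asIdeal.comap (Ideal.Quotient.mk (PolLaw.ker F.law)))
      ?_ ?_ ?_
    · intro i
      have := hmaxl (f i)
      exact Ideal.comap_isMaximal_of_surjective _ hmk
    · intro i j hij
      have h1 : (f i).asIdeal = (f j).asIdeal := Ideal.comap_injective_of_surjective _ hmk hij
      exact hf (PrimeSpectrum.ext h1)
    · intro i x hx
      rw [Ideal.mem_comap, Ideal.Quotient.eq_zero_iff_mem.mpr hx]
      exact Ideal.zero_mem _
  refine ⟨hfin.1, hfin.2, fun P => ⟨hmaxl P, ?_⟩⟩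
  have hPmax := hmaxl P
  refine (finite_card_le_of_no_inj (d := d) ?_).1
  intro g hg
  -- the separable degree
  let κ := P.asIdeal.ResidueField
  let Ω := AlgebraicClosure κ
  let π : B →ₐ[k] κ :=
    (IsScalarTower.toAlgHom k (PolLaw.image F.law) κ).comp (Ideal.Quotient.mkₐ k (PolLaw.ker F.law))
  have hπ : Function.Surjective π := by
    intro x
    obtain ⟨y, rfl⟩ := Ideal.algebraMap_residueField_surjective P.asIdeal x
    obtain ⟨b, rfl⟩ := hmk y
    exact ⟨b, rfl⟩
  have hπker : ∀ x ∈ PolLaw.ker F.law, π x = 0 := by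
    intro x hx
    show algebraMap (PolLaw.image F.law) κ (Ideal.Quotient.mk (PolLaw.ker F.law) x) = 0
    rw [Ideal.Quotient.eq_zero_iff_mem.mpr hx, map_zero]
  let σ : Fin (d + 1) → (B →ₐ[k] Ω) := fun i => (g i).comp π
  let ev : Fin (d + 1) → (Ω ⊗[k] B →ₐ[Ω] Ω) := fun i =>
    Algebra.TensorProduct.lift (Algebra.ofId Ω Ω) (σ i) (fun _ _ => Commute.all _ _)
  have hev : ∀ i (a : Ω) (b : B), ev i (a ⊗ₜ[k] b) = a * σ i b := by
    intro i a b
    show Algebra.TensorProduct.lift (Algebra.ofId Ω Ω) (σ i) (fun _ _ => Commute.all _ _)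
      (a ⊗ₜ[k] b) = _
    rw [Algebra.TensorProduct.lift_tmul]
    rfl
  have hsurj : ∀ i, Function.Surjective (ev i) := by
    intro i a
    refine ⟨a ⊗ₜ[k] 1, ?_⟩
    rw [hev, map_one, mul_one]
  refine no_points (bc Ω F) (fun i => RingHom.ker (ev i)) ?_ ?_ ?_
  · intro i
    exact RingHom.ker_isMaximal_of_surjective _ (hsurj i)
  · intro i j hij
    apply hg
    replace hij : RingHom.ker (ev i) = RingHom.ker (ev j) := hij
    have hσ : σ i = σ j := by
      ext b
      have hz : (1 : Ω) ⊗ₜ[k] b - (σ i b) ⊗ₜ[k] (1 : B) ∈ RingHom.ker (ev i) := by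
        rw [RingHom.mem_ker, map_sub, hev, hev, map_one, one_mul, mul_one, sub_self]
      rw [hij, RingHom.mem_ker, map_sub, hev, hev, map_one, one_mul, mul_one, sub_eq_zero] at hz
      exact hz.symm
    refine AlgHom.ext fun x => ?_
    obtain ⟨b, rfl⟩ := hπ x
    exact DFunLike.congr_fun hσ b
  · intro i
    rw [ker_bc]
    refine Ideal.le_radical.trans ?_
    rw [radical_kerBC]
    have hprime : (RingHom.ker (ev i)).IsPrime := RingHom.ker_isPrime _
    rw [hprime.radical_le_iff, Ideal.map_le_iff_le_comap]
    intro x hx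
    rw [Ideal.mem_comap, RingHom.mem_ker, Algebra.TensorProduct.includeRight_apply, hev, one_mul]
    show g i (π x) = 0
    rw [hπker x hx, map_zero]

end Groth.Agent.S13707
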