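import Groth.Statements.S13708
import Mathlib.AlgebraicGeometry.PullbackCarrier

set_option autoImplicit false
universe u
open CategoryTheory CategoryTheory.Limits AlgebraicGeometry

namespace Groth.Agent.S13708

/-- Let X be a scheme over S such that every finite set of points of X over a common point of S lies in
some affine open subscheme of X (the condition (AF)). Then X is separated over S. (The published
condition (AF) asks for an open U with U → S quasi-affine rather than U affine; with U affine, as
here, the same argument applies verbatim, and the two conditions agree over a quasi-separated base.) -/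
theorem result {X S : Scheme.{u}} (f : X ⟶ S) (hX : SymProd.IsAF f) :
    IsSeparated f := by
  classical
  constructor
  -- the open cover of `X ×_S X` by the `U ×_S U` for `U` affine open in `X`
  let 𝒲 : (pullback.diagonalObj f).OpenCover :=
    Scheme.Cover.mkOfCovers (X.affineOpens) (fun U => pullback (U.1.ι ≫ f) (U.1.ι ≫ f))
      (fun U => pullback.map (U.1.ι ≫ f) (U.1.ι ≫ f) f f U.1.ι U.1.ι (𝟙 S)
        (Category.comp_id _) (Category.comp_id _))
      (by
        intro z
        have hz : f.base (pullback.fst f f z) = f.base (pullback.snd f f z) := by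
          rw [← Scheme.Hom.comp_apply, ← Scheme.Hom.comp_apply, pullback.condition]
        obtain ⟨U, hU, hmem⟩ := hX (f.base (pullback.fst f f z))
          {pullback.fst f f z, pullback.snd f f z} (by
            intro x hx
            rw [Finset.mem_insert, Finset.mem_singleton] at hx
            rcases hx with rfl | rfl
            · rfl
            · exact hz.symm)
        refine ⟨⟨U, hU⟩, ?_⟩
        have : z ∈ Set.range (pullback.map (U.ι ≫ f) (U.ι ≫ f) f f U.ι U.ι (𝟙 S)
            (Category.comp_id _) (Category.comp_id _)) := by
          rw [Scheme.Pullback.range_map]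
          refine ⟨?_, ?_⟩
          · rw [Set.mem_preimage, Scheme.Opens.range_ι]
            exact hmem _ (by simp)
          · rw [Set.mem_preimage, Scheme.Opens.range_ι]
            exact hmem _ (by simp)
        obtain ⟨y, hy⟩ := this
        exact ⟨y, hy⟩)
      (by intro U; infer_instance)
  rw [IsZariskiLocalAtTarget.iff_of_openCover (P := @IsClosedImmersion) 𝒲]
  intro (U : X.affineOpens)
  change IsClosedImmersion (pullback.snd (pullback.diagonal f)
    (pullback.map (U.1.ι ≫ f) (U.1.ι ≫ f) f f U.1.ι U.1.ι (𝟙 S)
        (Category.comp_id _) (Category.comp_id _)))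
  have H := pullback_map_diagonal_isPullback U.1.ι U.1.ι f
  have e1 : pullback.snd (pullback.diagonal f) (pullback.map (U.1.ι ≫ f) (U.1.ι ≫ f) f f U.1.ι U.1.ι (𝟙 S)
        (Category.comp_id _) (Category.comp_id _)) =
      H.isoPullback.inv ≫ pullback.map U.1.ι U.1.ι (U.1.ι ≫ f) (U.1.ι ≫ f) (𝟙 _) (𝟙 _) f
        (Category.id_comp _).symm (Category.id_comp _).symm := by
    rw [Iso.eq_inv_comp]
    exact H.isoPullback_hom_snd
  rw [e1, MorphismProperty.cancel_left_of_respectsIso (P := @IsClosedImmersion)]
  have e2 : pullback.diagonal U.1.ι ≫ pullback.map U.1.ι U.1.ι (U.1.ι ≫ f) (U.1.ι ≫ f) (𝟙 _) (𝟙 _) f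
        (Category.id_comp _).symm (Category.id_comp _).symm = pullback.diagonal (U.1.ι ≫ f) := by
    apply pullback.hom_ext
    · rw [Category.assoc, pullback.lift_fst, pullback.diagonal_fst_assoc, pullback.diagonal_fst]
    · rw [Category.assoc, pullback.lift_snd, pullback.diagonal_snd_assoc, pullback.diagonal_snd]
  rw [← MorphismProperty.cancel_left_of_respectsIso (P := @IsClosedImmersion)
    (pullback.diagonal U.1.ι), e2]
  have : IsAffine U.1.toScheme := U.2
  infer_instance

end Groth.Agent.S13708
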