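import Groth.Statements.S13713
import Groth.Agent.H68.TSFinite
import Groth.Agent.S13717
-- import your own Groth.Agent.* helpers here

set_option autoImplicit false
universe u
open scoped TensorProduct
open ZeroCyc

namespace Groth.Agent.S13713

/-- Let (C, γ) be the algebra of divided powers Γ^d_A(B) of a commutative A-algebra B with its universal
multiplicative law γ : B → C homogeneous of degree d (every multiplicative law B → C' homogeneous of
degree d factors uniquely through γ by an algebra map C → C'). If B is of finite type over A then so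
is C = Γ^d_A(B). -/
theorem result {A : Type u} [CommRing A] {B : Type u} [CommRing B] [Algebra A B] {C : Type u} [CommRing C] [Algebra A C]
    {d : ℕ} (γ : PolLaw.MulLaw A B C d) (hγ : PolLaw.IsGammaD γ) [Algebra.FiniteType A B] :
    Algebra.FiniteType A C := by
  obtain ⟨r, π, hπ⟩ := Algebra.FiniteType.iff_quotient_mvPolynomial''.mp ‹Algebra.FiniteType A B›
  have hΘ : Function.Surjective (Groth.Agent.H68.RL.Theta γ (MvPolynomial (Fin r) A) π) :=
    Groth.Agent.S13717.result (Groth.Agent.H68.TSG.tau A (MvPolynomial (Fin r) A) d)
      Groth.Agent.H68.TSG.isGammaD_of_flat γ hγ π hπ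
      (Groth.Agent.H68.RL.Theta γ (MvPolynomial (Fin r) A) π)
      (Groth.Agent.H68.RL.Theta_spec γ (MvPolynomial (Fin r) A) π)
  haveI := Groth.Agent.H68.TSF.finiteType_TS_mvPolynomial A r d
  exact Algebra.FiniteType.of_surjective (Groth.Agent.H68.RL.Theta γ (MvPolynomial (Fin r) A) π) hΘ

end Groth.Agent.S13713
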