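import Groth.Statements.S13718
import Groth.Agent.H68.LawCHMain
import Mathlib

set_option autoImplicit false
universe u
open scoped TensorProduct
open ZeroCyc

namespace Groth.Agent.S13718

open Groth.Agent.H68.LC in
/-- Let φ : B' → B be a map of commutative algebras over the commutative ring A and F : B → A a
multiplicative polynomial law homogeneous of degree d, with push-forward the law F ∘ φ : B' → A.
Then the radical of the kernel of F ∘ φ equals the radical of the inverse image under φ of the
kernel of F: the support of the pushed-forward family of zero-cycles on Spec B' is the image of the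
support of the family on Spec B. (The published statement is for affine morphisms X → Y → S of
algebraic spaces; this row is the case of an affine base.) -/
theorem result {A : Type u} [CommRing A] {B : Type u} [CommRing B] [Algebra A B]
    {B' : Type u} [CommRing B'] [Algebra A B'] {d : ℕ} (F : PolLaw.MulLaw A B A d) (φ : B' →ₐ[A] B) :
    (PolLaw.ker (F.precomp φ).law).radical = ((PolLaw.ker F.law).comap φ).radical := by
  apply le_antisymm
  · rw [Ideal.radical_le_radical_iff]
    intro b' hb'
    refine ⟨d, ?_⟩
    rw [Ideal.mem_comap, map_pow]
    -- the characteristic polynomials agree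
    have hchar : charpolyLaw F.law (φ b') = charpolyLaw (F.precomp φ).law b' := by
      rw [charpolyLaw, charpolyLaw, precomp_toFun']
      congr 2
      rw [map_sub, Algebra.TensorProduct.map_tmul, Algebra.TensorProduct.map_tmul, map_one,
        map_one, AlgHom.id_apply]
    have h1 := cayleyHamilton_mem_ker F (φ b')
    rw [hchar, charpolyLaw_of_mem_ker (F.precomp φ) hb', map_pow, map_neg, Polynomial.aeval_X]
      at h1
    have h2 : (φ b') ^ d = (-1) ^ d * (-(φ b')) ^ d := by
      rw [← mul_pow]
      simp
    rw [h2]
    exact Ideal.mul_mem_left _ _ h1
  · apply Ideal.radical_mono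
    intro b' hb'
    rw [Ideal.mem_comap] at hb'
    intro S _ _ x w
    rw [precomp_toFun', precomp_toFun', map_add, map_mul, Algebra.TensorProduct.map_tmul, map_one]
    exact hb' S _ _

end Groth.Agent.S13718
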