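import Groth.Statements.S13719
import Groth.Agent.H68.PolLawBase
import Groth.Agent.H68.PolyMono

set_option autoImplicit false
universe u
open scoped TensorProduct
open ZeroCyc

namespace Groth.Agent.S13719

open Groth.Agent.H68 Groth.Agent.H68.PL

section Decomp

variable {A : Type u} [CommRing A] {B₁ : Type u} [CommRing B₁] [Algebra A B₁]
  {B₂ : Type u} [CommRing B₂] [Algebra A B₂]

/-- `S ⊗ (B₁ × B₂) ≃ (S ⊗ B₁) × (S ⊗ B₂)`. -/
noncomputable abbrev E' (A B₁ B₂ : Type u) [CommRing A] [CommRing B₁] [Algebra A B₁]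
    [CommRing B₂] [Algebra A B₂] (S : Type u) [CommSemiring S] [Algebra A S] :
    S ⊗[A] (B₁ × B₂) ≃ₐ[S] (S ⊗[A] B₁) × (S ⊗[A] B₂) :=
  Algebra.TensorProduct.prodRight A S S B₁ B₂

lemma E_fst (S : Type u) [CommSemiring S] [Algebra A S] (z : S ⊗[A] (B₁ × B₂)) :
    (E' A B₁ B₂ S z).1 = LinearMap.lTensor S (LinearMap.fst A B₁ B₂) z := by
  induction z using TensorProduct.induction_on with
  | zero => simp
  | tmul s b => rfl
  | add x y hx hy => simp only [map_add, Prod.fst_add, hx, hy]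

lemma E_snd (S : Type u) [CommSemiring S] [Algebra A S] (z : S ⊗[A] (B₁ × B₂)) :
    (E' A B₁ B₂ S z).2 = LinearMap.lTensor S (LinearMap.snd A B₁ B₂) z := by
  induction z using TensorProduct.induction_on with
  | zero => simp
  | tmul s b => rfl
  | add x y hx hy => simp only [map_add, Prod.snd_add, hx, hy]

lemma E_nat {S S' : Type u} [CommSemiring S] [Algebra A S] [CommSemiring S'] [Algebra A S']
    (φ : S →ₐ[A] S') (z : S ⊗[A] (B₁ × B₂)) :
    E' A B₁ B₂ S' (Algebra.TensorProduct.map φ (AlgHom.id A (B₁ × B₂)) z) =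
      (Algebra.TensorProduct.map φ (AlgHom.id A B₁) (E' A B₁ B₂ S z).1,
        Algebra.TensorProduct.map φ (AlgHom.id A B₂) (E' A B₁ B₂ S z).2) := by
  induction z using TensorProduct.induction_on with
  | zero => simp only [map_zero]; rfl
  | tmul s b => rfl
  | add x y hx hy =>
    simp only [map_add, hx, hy, Prod.fst_add, Prod.snd_add]
    rfl

lemma E_symm_nat {S S' : Type u} [CommSemiring S] [Algebra A S] [CommSemiring S'] [Algebra A S']
    (φ : S →ₐ[A] S') (p : (S ⊗[A] B₁) × (S ⊗[A] B₂)) :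
    Algebra.TensorProduct.map φ (AlgHom.id A (B₁ × B₂)) ((E' A B₁ B₂ S).symm p) =
      (E' A B₁ B₂ S').symm (Algebra.TensorProduct.map φ (AlgHom.id A B₁) p.1,
        Algebra.TensorProduct.map φ (AlgHom.id A B₂) p.2) := by
  apply (E' A B₁ B₂ S').injective
  rw [E_nat, AlgEquiv.apply_symm_apply, AlgEquiv.apply_symm_apply]

/-- The element `(s, 1)`. -/
noncomputable def g₁' (A B₁ B₂ : Type u) [CommRing A] [CommRing B₁] [Algebra A B₁]
    [CommRing B₂] [Algebra A B₂] (S : Type u) [CommSemiring S] [Algebra A S] (s : S) :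
    S ⊗[A] (B₁ × B₂) :=
  (E' A B₁ B₂ S).symm (s • 1, 1)

/-- The element `(1, s)`. -/
noncomputable def g₂' (A B₁ B₂ : Type u) [CommRing A] [CommRing B₁] [Algebra A B₁]
    [CommRing B₂] [Algebra A B₂] (S : Type u) [CommSemiring S] [Algebra A S] (s : S) :
    S ⊗[A] (B₁ × B₂) :=
  (E' A B₁ B₂ S).symm (1, s • 1)

lemma g₁_nat {S S' : Type u} [CommSemiring S] [Algebra A S] [CommSemiring S'] [Algebra A S']
    (φ : S →ₐ[A] S') (s : S) :
    Algebra.TensorProduct.map φ (AlgHom.id A (B₁ × B₂)) (g₁' A B₁ B₂ S s) =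
      g₁' A B₁ B₂ S' (φ s) := by
  rw [g₁', E_symm_nat, g₁']
  congr 2
  · simp only [Algebra.TensorProduct.one_def, TensorProduct.smul_tmul', smul_eq_mul, mul_one,
      Algebra.TensorProduct.map_tmul, map_one]
  · simp

lemma g₂_nat {S S' : Type u} [CommSemiring S] [Algebra A S] [CommSemiring S'] [Algebra A S']
    (φ : S →ₐ[A] S') (s : S) :
    Algebra.TensorProduct.map φ (AlgHom.id A (B₁ × B₂)) (g₂' A B₁ B₂ S s) =
      g₂' A B₁ B₂ S' (φ s) := by
  rw [g₂', E_symm_nat, g₂']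
  congr 2
  · simp
  · simp only [Algebra.TensorProduct.one_def, TensorProduct.smul_tmul', smul_eq_mul, mul_one,
      Algebra.TensorProduct.map_tmul, map_one]

lemma g₁_mul (S : Type u) [CommSemiring S] [Algebra A S] (s s' : S) :
    g₁' A B₁ B₂ S (s * s') = g₁' A B₁ B₂ S s * g₁' A B₁ B₂ S s' := by
  rw [g₁', g₁', g₁', ← map_mul]
  congr 1
  ext
  · simp [mul_smul, smul_comm s s']
  · simp

lemma g₂_mul (S : Type u) [CommSemiring S] [Algebra A S] (s s' : S) :
    g₂' A B₁ B₂ S (s * s') = g₂' A B₁ B₂ S s * g₂' A B₁ B₂ S s' := by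
  rw [g₂', g₂', g₂', ← map_mul]
  congr 1
  ext
  · simp
  · simp [mul_smul, smul_comm s s']

lemma g₁_one (S : Type u) [CommSemiring S] [Algebra A S] :
    g₁' A B₁ B₂ S 1 = 1 := by
  rw [g₁', one_smul]
  exact map_one _

lemma g₂_one (S : Type u) [CommSemiring S] [Algebra A S] :
    g₂' A B₁ B₂ S 1 = 1 := by
  rw [g₂', one_smul]
  exact map_one _

lemma g₁_mul_g₂ (S : Type u) [CommSemiring S] [Algebra A S] (s : S) :
    g₁' A B₁ B₂ S s * g₂' A B₁ B₂ S s = s • 1 := by
  rw [g₁', g₂', ← map_mul]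
  have : ((s • (1 : S ⊗[A] B₁), (1 : S ⊗[A] B₂)) * ((1 : S ⊗[A] B₁), s • (1 : S ⊗[A] B₂))) =
      s • (1 : (S ⊗[A] B₁) × (S ⊗[A] B₂)) := by
    ext <;> simp
  rw [this, map_smul, map_one]

end Decomp

section Exponent

variable {A : Type u} [CommRing A] {B₁ : Type u} [CommRing B₁] [Algebra A B₁]
  {B₂ : Type u} [CommRing B₂] [Algebra A B₂] {d : ℕ} (F : PolLaw.MulLaw A (B₁ × B₂) A d)

/-- Naturality of `rid`. -/
lemma rid_map {R₀ R : Type u} [CommSemiring R₀] [Algebra A R₀] [CommSemiring R] [Algebra A R]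
    (j : R₀ →ₐ[A] R) (z : R₀ ⊗[A] A) :
    Algebra.TensorProduct.rid A A R (Algebra.TensorProduct.map j (AlgHom.id A A) z) =
      j (Algebra.TensorProduct.rid A A R₀ z) := by
  induction z using TensorProduct.induction_on with
  | zero => simp
  | tmul r a => simp
  | add x y hx hy => simp only [map_add, hx, hy]

/-- The polynomial `F(X, 1)`. -/
noncomputable def P₁ : Polynomial A :=
  Algebra.TensorProduct.rid A A (Polynomial A)
    (F.law.toFun' (Polynomial A) (g₁' A B₁ B₂ (Polynomial A) Polynomial.X))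

/-- The polynomial `F(1, X)`. -/
noncomputable def P₂ : Polynomial A :=
  Algebra.TensorProduct.rid A A (Polynomial A)
    (F.law.toFun' (Polynomial A) (g₂' A B₁ B₂ (Polynomial A) Polynomial.X))

lemma rid_F_g₁ (S : Type u) [CommSemiring S] [Algebra A S] (s : S) :
    Algebra.TensorProduct.rid A A S (F.law.toFun' S (g₁' A B₁ B₂ S s)) =
      Polynomial.aeval s (P₁ F) := by
  have h := compat F.law (Polynomial.aeval s : Polynomial A →ₐ[A] S)
    (g₁' A B₁ B₂ (Polynomial A) Polynomial.X)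
  rw [g₁_nat, Polynomial.aeval_X] at h
  rw [← h, rid_map, P₁]

lemma rid_F_g₂ (S : Type u) [CommSemiring S] [Algebra A S] (s : S) :
    Algebra.TensorProduct.rid A A S (F.law.toFun' S (g₂' A B₁ B₂ S s)) =
      Polynomial.aeval s (P₂ F) := by
  have h := compat F.law (Polynomial.aeval s : Polynomial A →ₐ[A] S)
    (g₂' A B₁ B₂ (Polynomial A) Polynomial.X)
  rw [g₂_nat, Polynomial.aeval_X] at h
  rw [← h, rid_map, P₂]

variable [ConnectedSpace (PrimeSpectrum A)]

lemma exists_P₁_eq : ∃ k : ℕ, P₁ F = Polynomial.X ^ k := by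
  apply eq_X_pow_of_multiplicative
  · have := rid_F_g₁ F A 1
    rw [g₁_one, (F.mult A).1, map_one] at this
    rw [← Polynomial.coe_aeval_eq_eval]
    exact this.symm
  · rw [← rid_F_g₁, ← rid_F_g₁, ← rid_F_g₁, g₁_mul, (F.mult _).2, map_mul]

lemma exists_P₂_eq : ∃ k : ℕ, P₂ F = Polynomial.X ^ k := by
  apply eq_X_pow_of_multiplicative
  · have := rid_F_g₂ F A 1
    rw [g₂_one, (F.mult A).1, map_one] at this
    rw [← Polynomial.coe_aeval_eq_eval]
    exact this.symm
  · rw [← rid_F_g₂, ← rid_F_g₂, ← rid_F_g₂, g₂_mul, (F.mult _).2, map_mul]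

end Exponent

section Laws

variable {A : Type u} [CommRing A] {B₁ : Type u} [CommRing B₁] [Algebra A B₁]
  {B₂ : Type u} [CommRing B₂] [Algebra A B₂] {d : ℕ} (F : PolLaw.MulLaw A (B₁ × B₂) A d)

lemma F_g₁_eq {k : ℕ} (hk : P₁ F = Polynomial.X ^ k) (S : Type u) [CommSemiring S] [Algebra A S]
    (s : S) : F.law.toFun' S (g₁' A B₁ B₂ S s) = s ^ k • 1 := by
  apply (Algebra.TensorProduct.rid A A S).injective
  rw [rid_F_g₁, hk]
  simp [Algebra.TensorProduct.one_def, TensorProduct.smul_tmul']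

lemma F_g₂_eq {k : ℕ} (hk : P₂ F = Polynomial.X ^ k) (S : Type u) [CommSemiring S] [Algebra A S]
    (s : S) : F.law.toFun' S (g₂' A B₁ B₂ S s) = s ^ k • 1 := by
  apply (Algebra.TensorProduct.rid A A S).injective
  rw [rid_F_g₂, hk]
  simp [Algebra.TensorProduct.one_def, TensorProduct.smul_tmul']

/-- The first factor law. -/
noncomputable def law₁ : B₁ →ₚₗ[A] A where
  toFun' S _ _ := fun x₁ => F.law.toFun' S ((E' A B₁ B₂ S).symm (x₁, 1))
  isCompat' φ := by
    funext x₁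
    simp only [Function.comp_apply]
    rw [PolynomialLaw.isCompat_apply' (f := F.law) φ, rTensor_eq_map, rTensor_eq_map, E_symm_nat,
      map_one]

/-- The second factor law. -/
noncomputable def law₂ : B₂ →ₚₗ[A] A where
  toFun' S _ _ := fun x₂ => F.law.toFun' S ((E' A B₁ B₂ S).symm (1, x₂))
  isCompat' φ := by
    funext x₂
    simp only [Function.comp_apply]
    rw [PolynomialLaw.isCompat_apply' (f := F.law) φ, rTensor_eq_map, rTensor_eq_map, E_symm_nat,
      map_one]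

/-- The first factor as a multiplicative law. -/
noncomputable def mulLaw₁ {k : ℕ} (hk : P₁ F = Polynomial.X ^ k) : PolLaw.MulLaw A B₁ A k where
  law := law₁ F
  homog S _ _ s x := by
    show F.law.toFun' S ((E' A B₁ B₂ S).symm (s • x, 1)) =
      s ^ k • F.law.toFun' S ((E' A B₁ B₂ S).symm (x, 1))
    have : ((s • x, 1) : (S ⊗[A] B₁) × (S ⊗[A] B₂)) = (s • 1, 1) * (x, 1) := by
      ext <;> simp
    rw [this, map_mul, (F.mult S).2]
    have := F_g₁_eq F hk S s
    rw [g₁'] at this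
    rw [this, smul_mul_assoc, one_mul]
  mult S _ _ := by
    refine ⟨?_, fun x y => ?_⟩
    · show F.law.toFun' S ((E' A B₁ B₂ S).symm (1, 1)) = 1
      rw [show ((1, 1) : (S ⊗[A] B₁) × (S ⊗[A] B₂)) = 1 from rfl, map_one, (F.mult S).1]
    · show F.law.toFun' S ((E' A B₁ B₂ S).symm (x * y, 1)) =
        F.law.toFun' S ((E' A B₁ B₂ S).symm (x, 1)) * F.law.toFun' S ((E' A B₁ B₂ S).symm (y, 1))
      have : ((x * y, 1) : (S ⊗[A] B₁) × (S ⊗[A] B₂)) = (x, 1) * (y, 1) := by
        ext <;> simp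
      rw [this, map_mul, (F.mult S).2]

/-- The second factor as a multiplicative law. -/
noncomputable def mulLaw₂ {k : ℕ} (hk : P₂ F = Polynomial.X ^ k) : PolLaw.MulLaw A B₂ A k where
  law := law₂ F
  homog S _ _ s x := by
    show F.law.toFun' S ((E' A B₁ B₂ S).symm (1, s • x)) =
      s ^ k • F.law.toFun' S ((E' A B₁ B₂ S).symm (1, x))
    have : ((1, s • x) : (S ⊗[A] B₁) × (S ⊗[A] B₂)) = (1, s • 1) * (1, x) := by
      ext <;> simp
    rw [this, map_mul, (F.mult S).2]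
    have := F_g₂_eq F hk S s
    rw [g₂'] at this
    rw [this, smul_mul_assoc, one_mul]
  mult S _ _ := by
    refine ⟨?_, fun x y => ?_⟩
    · show F.law.toFun' S ((E' A B₁ B₂ S).symm (1, 1)) = 1
      rw [show ((1, 1) : (S ⊗[A] B₁) × (S ⊗[A] B₂)) = 1 from rfl, map_one, (F.mult S).1]
    · show F.law.toFun' S ((E' A B₁ B₂ S).symm (1, x * y)) =
        F.law.toFun' S ((E' A B₁ B₂ S).symm (1, x)) * F.law.toFun' S ((E' A B₁ B₂ S).symm (1, y))
      have : ((1, x * y) : (S ⊗[A] B₁) × (S ⊗[A] B₂)) = (1, x) * (1, y) := by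
        ext <;> simp
      rw [this, map_mul, (F.mult S).2]

lemma factorization (S : Type u) [CommSemiring S] [Algebra A S] (x : S ⊗[A] (B₁ × B₂)) :
    F.law.toFun' S x =
      F.law.toFun' S ((E' A B₁ B₂ S).symm (LinearMap.lTensor S (LinearMap.fst A B₁ B₂) x, 1)) *
        F.law.toFun' S ((E' A B₁ B₂ S).symm (1, LinearMap.lTensor S (LinearMap.snd A B₁ B₂) x)) := by
  rw [← (F.mult S).2, ← map_mul, ← E_fst, ← E_snd]
  congr 1
  apply (E' A B₁ B₂ S).injective
  rw [AlgEquiv.apply_symm_apply]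
  ext <;> simp

end Laws

/-- Decomposition of a family of zero-cycles on a disjoint union over a connected base. -/
theorem result {A : Type u} [CommRing A] [ConnectedSpace (PrimeSpectrum A)]
    {B₁ : Type u} [CommRing B₁] [Algebra A B₁] {B₂ : Type u} [CommRing B₂] [Algebra A B₂]
    {d : ℕ} (F : PolLaw.MulLaw A (B₁ × B₂) A d) :
    ∃ d₁ d₂ : ℕ, d₁ + d₂ = d ∧
      (∃ (F₁ : PolLaw.MulLaw A B₁ A d₁) (F₂ : PolLaw.MulLaw A B₂ A d₂),
        ∀ (S : Type u) [CommSemiring S] [Algebra A S] (x : S ⊗[A] (B₁ × B₂)),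
          F.law.toFun' S x = F₁.law.toFun' S (LinearMap.lTensor S (LinearMap.fst A B₁ B₂) x) *
            F₂.law.toFun' S (LinearMap.lTensor S (LinearMap.snd A B₁ B₂) x)) ∧
      ∀ (e₁ e₂ : ℕ) (G₁ : PolLaw.MulLaw A B₁ A e₁) (G₂ : PolLaw.MulLaw A B₂ A e₂),
        (∀ (S : Type u) [CommSemiring S] [Algebra A S] (x : S ⊗[A] (B₁ × B₂)),
          F.law.toFun' S x = G₁.law.toFun' S (LinearMap.lTensor S (LinearMap.fst A B₁ B₂) x) *
            G₂.law.toFun' S (LinearMap.lTensor S (LinearMap.snd A B₁ B₂) x)) → e₁ = d₁ ∧ e₂ = d₂ := by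
  have hnt : Nontrivial A := by
    obtain ⟨p⟩ := (inferInstance : Nonempty (PrimeSpectrum A))
    exact ⟨0, 1, fun h => p.2.ne_top ((Ideal.eq_top_iff_one _).mpr (h ▸ p.asIdeal.zero_mem))⟩
  obtain ⟨d₁, hd₁⟩ := exists_P₁_eq F
  obtain ⟨d₂, hd₂⟩ := exists_P₂_eq F
  -- the degrees add up
  have hsum : d₁ + d₂ = d := by
    have h1 := F.homog (Polynomial A) (Polynomial.X) 1
    rw [(F.mult _).1, ← g₁_mul_g₂, (F.mult _).2, F_g₁_eq F hd₁, F_g₂_eq F hd₂, smul_mul_assoc,
      one_mul, smul_smul] at h1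
    have h2 := congrArg (Algebra.TensorProduct.rid A A (Polynomial A)) h1
    simp only [Algebra.TensorProduct.one_def, TensorProduct.smul_tmul', smul_eq_mul, mul_one,
      Algebra.TensorProduct.rid_tmul, one_smul] at h2
    have h3 := congrArg Polynomial.natDegree h2
    rw [← pow_add, Polynomial.natDegree_X_pow, Polynomial.natDegree_X_pow] at h3
    exact h3
  refine ⟨d₁, d₂, hsum, ⟨mulLaw₁ F hd₁, mulLaw₂ F hd₂, fun S _ _ x => factorization F S x⟩, ?_⟩
  intro e₁ e₂ G₁ G₂ hG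
  constructor
  · have h := hG (Polynomial A) (g₁' A B₁ B₂ (Polynomial A) Polynomial.X)
    rw [F_g₁_eq F hd₁, ← E_fst, ← E_snd, g₁', AlgEquiv.apply_symm_apply] at h
    simp only at h
    rw [G₁.homog, (G₁.mult _).1, (G₂.mult _).1, mul_one] at h
    have h2 := congrArg (Algebra.TensorProduct.rid A A (Polynomial A)) h
    simp only [Algebra.TensorProduct.one_def, TensorProduct.smul_tmul', smul_eq_mul, mul_one,
      Algebra.TensorProduct.rid_tmul, one_smul] at h2
    have h3 := congrArg Polynomial.natDegree h2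
    rw [Polynomial.natDegree_X_pow, Polynomial.natDegree_X_pow] at h3
    exact h3.symm
  · have h := hG (Polynomial A) (g₂' A B₁ B₂ (Polynomial A) Polynomial.X)
    rw [F_g₂_eq F hd₂, ← E_fst, ← E_snd, g₂', AlgEquiv.apply_symm_apply] at h
    simp only at h
    rw [G₂.homog, (G₁.mult _).1, (G₂.mult _).1, one_mul] at h
    have h2 := congrArg (Algebra.TensorProduct.rid A A (Polynomial A)) h
    simp only [Algebra.TensorProduct.one_def, TensorProduct.smul_tmul', smul_eq_mul, mul_one,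
      Algebra.TensorProduct.rid_tmul, one_smul] at h2
    have h3 := congrArg Polynomial.natDegree h2
    rw [Polynomial.natDegree_X_pow, Polynomial.natDegree_X_pow] at h3
    exact h3.symm

end Groth.Agent.S13719
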