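import Groth.Statements.S13720

set_option autoImplicit false
universe u
open scoped TensorProduct
open ZeroCyc

namespace Groth.Agent.S13720

section lift
variable {A : Type u} [CommRing A] {B : Type u} [CommRing B] [Algebra A B]
    {ι : Type u} [Preorder ι] [IsDirected ι (fun i j => i ≤ j)] [Nonempty ι]
    (Bi : ι → Type u) [∀ i, CommRing (Bi i)] [∀ i, Algebra A (Bi i)]
    (t : ∀ i j : ι, i ≤ j → (Bi i →ₐ[A] Bi j)) (φ : ∀ i : ι, Bi i →ₐ[A] B)
    (hcomp : ∀ (i j : ι) (h : i ≤ j), (φ j).comp (t i j h) = φ i)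
    (hsurj : ∀ b : B, ∃ (i : ι) (x : Bi i), φ i x = b)

include hcomp in
lemma lTensor_transport (S : Type u) [CommSemiring S] [Algebra A S] (i j : ι) (h : i ≤ j)
    (X : S ⊗[A] Bi i) :
    (φ j).toLinearMap.lTensor S ((t i j h).toLinearMap.lTensor S X) =
      (φ i).toLinearMap.lTensor S X := by
  rw [← LinearMap.comp_apply, ← LinearMap.lTensor_comp]
  congr 2
  rw [← hcomp i j h]
  rfl

include hcomp hsurj in
lemma exists_lift (S : Type u) [CommSemiring S] [Algebra A S] (X : S ⊗[A] B) (i₀ : ι) :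
    ∃ (j : ι) (_ : i₀ ≤ j) (X' : S ⊗[A] Bi j), (φ j).toLinearMap.lTensor S X' = X := by
  induction X using TensorProduct.induction_on with
  | zero => exact ⟨i₀, le_rfl, 0, map_zero _⟩
  | tmul s b =>
    obtain ⟨k, y, hy⟩ := hsurj b
    obtain ⟨j, hj₁, hj₂⟩ := directed_of (fun i j : ι => i ≤ j) i₀ k
    refine ⟨j, hj₁, s ⊗ₜ[A] t k j hj₂ y, ?_⟩
    rw [LinearMap.lTensor_tmul]
    congr 1
    rw [← hy, ← hcomp k j hj₂]
    rfl
  | add X Y hX hY =>
    obtain ⟨j₁, h₁, X', hX'⟩ := hX
    obtain ⟨j₂, h₂, Y', hY'⟩ := hY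
    obtain ⟨j, hj₁, hj₂⟩ := directed_of (fun i j : ι => i ≤ j) j₁ j₂
    refine ⟨j, h₁.trans hj₁, (t j₁ j hj₁).toLinearMap.lTensor S X' +
      (t j₂ j hj₂).toLinearMap.lTensor S Y', ?_⟩
    rw [map_add, lTensor_transport Bi t φ hcomp, lTensor_transport Bi t φ hcomp, hX', hY']

end lift

/-- Let B be the filtered direct limit of a directed system (B_i, t_ij : B_i → B_j) of commutative
algebras over the commutative ring A, with structure maps φ_i : B_i → B (jointly surjective, and an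
element of B_i vanishing in B already vanishes in some B_j), and let F : B → C be a multiplicative
polynomial law homogeneous of degree d, with restrictions F_i = F ∘ φ_i. Then an element b of B lies
in the kernel of F if and only if it is the image of some x ∈ B_i whose images in B_j lie in the
kernel of F_j for every j ≥ i; that is, the kernel of F is the direct limit of the kernels of the
F_i. -/
theorem result {A : Type u} [CommRing A] {B : Type u} [CommRing B] [Algebra A B]
    {C : Type u} [CommRing C] [Algebra A C] {ι : Type u} [Preorder ι] [IsDirected ι (fun i j => i ≤ j)] [Nonempty ι]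
    (Bi : ι → Type u) [∀ i, CommRing (Bi i)] [∀ i, Algebra A (Bi i)]
    (t : ∀ i j : ι, i ≤ j → (Bi i →ₐ[A] Bi j)) (φ : ∀ i : ι, Bi i →ₐ[A] B)
    (hcomp : ∀ (i j : ι) (h : i ≤ j), (φ j).comp (t i j h) = φ i)
    (hsurj : ∀ b : B, ∃ (i : ι) (x : Bi i), φ i x = b)
    (hzero : ∀ (i : ι) (x : Bi i), φ i x = 0 → ∃ (j : ι) (h : i ≤ j), t i j h x = 0)
    {d : ℕ} (F : PolLaw.MulLaw A B C d) (b : B) :
    b ∈ PolLaw.ker F.law ↔ ∃ (i : ι) (x : Bi i), φ i x = b ∧
      ∀ (j : ι) (h : i ≤ j), t i j h x ∈ PolLaw.ker (F.precomp (φ j)).law := by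
  have hpre : ∀ (j : ι) (S : Type u) [CommSemiring S] [Algebra A S] (Z : S ⊗[A] Bi j),
      (F.precomp (φ j)).law.toFun' S Z = F.law.toFun' S ((φ j).toLinearMap.lTensor S Z) := by
    intro j S _ _ Z
    rfl
  constructor
  · intro hb
    obtain ⟨i, x, hx⟩ := hsurj b
    refine ⟨i, x, hx, ?_⟩
    intro j h S _ _ X W
    rw [hpre, hpre, PolLaw.lTensor_algHom_apply, PolLaw.lTensor_algHom_apply, map_add, map_mul,
      Algebra.TensorProduct.map_tmul]
    have : φ j (t i j h x) = b := by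
      rw [← hx, ← hcomp i j h]; rfl
    rw [this, AlgHom.coe_id, id_eq]
    exact hb S _ _
  · rintro ⟨i, x, hx, hker⟩
    intro S _ _ X W
    obtain ⟨j₁, h₁, X', hX'⟩ := exists_lift Bi t φ hcomp hsurj S X i
    obtain ⟨j, h₂, W', hW'⟩ := exists_lift Bi t φ hcomp hsurj S W j₁
    have hX'' : (φ j).toLinearMap.lTensor S ((t j₁ j h₂).toLinearMap.lTensor S X') = X := by
      rw [lTensor_transport Bi t φ hcomp, hX']
    have hk := hker j (h₁.trans h₂) S ((t j₁ j h₂).toLinearMap.lTensor S X') W'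
    rw [hpre, hpre, hX'', PolLaw.lTensor_algHom_apply, map_add, map_mul,
      Algebra.TensorProduct.map_tmul, ← PolLaw.lTensor_algHom_apply, ← PolLaw.lTensor_algHom_apply,
      hX'', hW'] at hk
    have : φ j (t i j (h₁.trans h₂) x) = b := by
      rw [← hx, ← hcomp i j (h₁.trans h₂)]; rfl
    rw [this, AlgHom.coe_id, id_eq] at hk
    exact hk

end Groth.Agent.S13720
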