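import Groth.Statements.S13721
import Groth.Agent.H68.PolLawGen

set_option autoImplicit false
universe u
open scoped TensorProduct
open ZeroCyc

namespace Groth.Agent.S13721

open Groth.Agent.H68 Groth.Agent.H68.PL

section Aux

variable {A : Type u} [CommRing A] {B : Type u} [CommRing B] [Algebra A B]

/-- Naturality of `rid`. -/
lemma rid_map {R₀ R : Type u} [CommSemiring R₀] [Algebra A R₀] [CommSemiring R] [Algebra A R]
    (j : R₀ →ₐ[A] R) (z : R₀ ⊗[A] A) :
    Algebra.TensorProduct.rid A A R (Algebra.TensorProduct.map j (AlgHom.id A A) z) =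
      j (Algebra.TensorProduct.rid A A R₀ z) := by
  induction z using TensorProduct.induction_on with
  | zero => simp
  | tmul r a => simp
  | add x y hx hy => simp only [map_add, hx, hy]

/-- Naturality of `MvPolynomial.algebraTensorAlgEquiv` in the coefficient ring. -/
lemma algebraTensorAlgEquiv_map {σ : Type*} {A₁ A₂ : Type u} [CommRing A₁] [Algebra A A₁]
    [CommRing A₂] [Algebra A A₂] (f : A₁ →ₐ[A] A₂) (z : A₁ ⊗[A] MvPolynomial σ A) :
    MvPolynomial.algebraTensorAlgEquiv A A₂
        (Algebra.TensorProduct.map f (AlgHom.id A (MvPolynomial σ A)) z) =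
      MvPolynomial.map f.toRingHom (MvPolynomial.algebraTensorAlgEquiv A A₁ z) := by
  induction z using TensorProduct.induction_on with
  | zero => simp
  | tmul a p =>
    rw [Algebra.TensorProduct.map_tmul, MvPolynomial.algebraTensorAlgEquiv_tmul,
      MvPolynomial.algebraTensorAlgEquiv_tmul, MvPolynomial.smul_eq_C_mul,
      MvPolynomial.smul_eq_C_mul, map_mul, MvPolynomial.map_C, MvPolynomial.map_map]
    have : (f.toRingHom).comp (algebraMap A A₁) = algebraMap A A₂ :=
      RingHom.ext (fun r => by simp)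
    rw [this]
    rfl
  | add x y hx hy => simp only [map_add, hx, hy]

end Aux

section Dir

variable {A : Type u} [CommRing A] {B : Type u} [CommRing B] [Algebra A B]
  {A' : Type u} [CommRing A'] [Algebra A A'] {ι : Type u} [Preorder ι]
  [IsDirected ι (fun i j => i ≤ j)] [Nonempty ι]
  (Ai : ι → Type u) [∀ i, CommRing (Ai i)] [∀ i, Algebra A (Ai i)]
  (t : ∀ i j : ι, i ≤ j → (Ai i →ₐ[A] Ai j)) (φ : ∀ i : ι, Ai i →ₐ[A] A')
  (hcomp : ∀ (i j : ι) (h : i ≤ j), (φ j).comp (t i j h) = φ i)
  (hsurj : ∀ a : A', ∃ (i : ι) (x : Ai i), φ i x = a)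
  (hzero : ∀ (i : ι) (x : Ai i), φ i x = 0 → ∃ (j : ι) (h : i ≤ j), t i j h x = 0)
  (htrans : ∀ (i j k : ι) (hij : i ≤ j) (hjk : j ≤ k),
    (t j k hjk).comp (t i j hij) = t i k (hij.trans hjk))

include hcomp hsurj in
/-- Every element of `A' ⊗ B` comes from a finite stage. -/
lemma exists_preimage (c : A' ⊗[A] B) :
    ∃ (i : ι) (ci : Ai i ⊗[A] B), Algebra.TensorProduct.map (φ i) (AlgHom.id A B) ci = c := by
  induction c using TensorProduct.induction_on with
  | zero => exact ⟨Classical.arbitrary ι, 0, map_zero _⟩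
  | tmul a b =>
    obtain ⟨i, x, rfl⟩ := hsurj a
    exact ⟨i, x ⊗ₜ b, by simp⟩
  | add x y hx hy =>
    obtain ⟨i, ci, rfl⟩ := hx
    obtain ⟨j, cj, rfl⟩ := hy
    obtain ⟨k, hik, hjk⟩ := exists_ge_ge i j
    refine ⟨k, Algebra.TensorProduct.map (t i k hik) (AlgHom.id A B) ci +
      Algebra.TensorProduct.map (t j k hjk) (AlgHom.id A B) cj, ?_⟩
    rw [map_add, PL.map_map, PL.map_map, hcomp, hcomp]

include hzero htrans in
/-- An element of `Ai i ⊗ A[σ]` vanishing in the limit vanishes at a finite stage. -/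
lemma exists_vanish {σ : Type} (i : ι) (z : Ai i ⊗[A] MvPolynomial σ A)
    (hz : Algebra.TensorProduct.map (φ i) (AlgHom.id A (MvPolynomial σ A)) z = 0) :
    ∃ (j : ι) (h : i ≤ j),
      Algebra.TensorProduct.map (t i j h) (AlgHom.id A (MvPolynomial σ A)) z = 0 := by
  classical
  let P := MvPolynomial.algebraTensorAlgEquiv A (Ai i) z
  have hP : MvPolynomial.map (φ i).toRingHom P = 0 := by
    rw [← algebraTensorAlgEquiv_map, hz, map_zero]
  have hcoef : ∀ m, φ i (MvPolynomial.coeff m P) = 0 := by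
    intro m
    have := congrArg (MvPolynomial.coeff m) hP
    rw [MvPolynomial.coeff_map] at this
    simpa using this
  let jm : (σ →₀ ℕ) → ι := fun m => (hzero i _ (hcoef m)).choose
  have hjm : ∀ m, ∃ h : i ≤ jm m, t i (jm m) h (MvPolynomial.coeff m P) = 0 :=
    fun m => (hzero i _ (hcoef m)).choose_spec
  obtain ⟨j, hj⟩ := Finset.exists_le (insert i (P.support.image jm))
  have hij : i ≤ j := hj i (Finset.mem_insert_self _ _)
  refine ⟨j, hij, ?_⟩
  apply (MvPolynomial.algebraTensorAlgEquiv A (Ai j)).injective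
  rw [algebraTensorAlgEquiv_map, map_zero]
  ext m
  rw [MvPolynomial.coeff_map, MvPolynomial.coeff_zero]
  by_cases hm : m ∈ P.support
  · obtain ⟨h1, h2⟩ := hjm m
    have h3 : jm m ≤ j := hj _ (Finset.mem_insert_of_mem (Finset.mem_image_of_mem _ hm))
    have := congrArg (fun f => f (MvPolynomial.coeff m P)) (htrans i (jm m) j h1 h3)
    simp only [AlgHom.comp_apply] at this
    rw [h2, map_zero] at this
    exact this.symm
  · rw [MvPolynomial.notMem_support_iff] at hm
    show (t i j hij) (MvPolynomial.coeff m P) = 0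
    rw [hm, map_zero]

end Dir

/-- Direct limits: the kernel of the base change to a filtered direct limit is the supremum of the
extensions of the kernels at the finite stages (for `B` finite over `A`). -/
theorem result {A : Type u} [CommRing A] {B : Type u} [CommRing B] [Algebra A B]
    [Module.Finite A B] {A' : Type u} [CommRing A'] [Algebra A A'] {ι : Type u} [Preorder ι] [IsDirected ι (fun i j => i ≤ j)] [Nonempty ι]
    (Ai : ι → Type u) [∀ i, CommRing (Ai i)] [∀ i, Algebra A (Ai i)]
    (t : ∀ i j : ι, i ≤ j → (Ai i →ₐ[A] Ai j)) (φ : ∀ i : ι, Ai i →ₐ[A] A')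
    (hcomp : ∀ (i j : ι) (h : i ≤ j), (φ j).comp (t i j h) = φ i)
    (hsurj : ∀ a : A', ∃ (i : ι) (x : Ai i), φ i x = a)
    (hzero : ∀ (i : ι) (x : Ai i), φ i x = 0 → ∃ (j : ι) (h : i ≤ j), t i j h x = 0)
    (hid : ∀ (i : ι) (h : i ≤ i), t i i h = AlgHom.id A (Ai i))
    (htrans : ∀ (i j k : ι) (hij : i ≤ j) (hjk : j ≤ k), (t j k hjk).comp (t i j hij) = t i k (hij.trans hjk))
    {d : ℕ} (F : PolLaw.MulLaw A B A d) :
    PolLaw.kerBC F.law A' =
      ⨆ i : ι, (PolLaw.kerBC F.law (Ai i)).map (Algebra.TensorProduct.map (φ i) (AlgHom.id A B)) := by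
  classical
  apply le_antisymm
  · -- the hard inclusion
    intro c hc
    obtain ⟨n, e, he⟩ := Module.Finite.exists_fin (R := A) (M := B)
    obtain ⟨i, ci, rfl⟩ := exists_preimage Ai t φ hcomp hsurj c
    -- abbreviations
    let G := GenRing A n
    let inR : ∀ j, G →ₐ[A] Ai j ⊗[A] G := fun j => Algebra.TensorProduct.includeRight
    let inL : ∀ j, Ai j →ₐ[A] Ai j ⊗[A] G := fun j => Algebra.TensorProduct.includeLeft
    let inR' : G →ₐ[A] A' ⊗[A] G := Algebra.TensorProduct.includeRight
    let inL' : A' →ₐ[A] A' ⊗[A] G := Algebra.TensorProduct.includeLeft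
    let arg : ∀ j, Ai j ⊗[A] B → (Ai j ⊗[A] G) ⊗[A] B := fun j cj =>
      Algebra.TensorProduct.map (inR j) (AlgHom.id A B) (xGen e) +
        Algebra.TensorProduct.map (inR j) (AlgHom.id A B) (wGen e) *
          Algebra.TensorProduct.map (inL j) (AlgHom.id A B) cj
    let base : ∀ j, (Ai j ⊗[A] G) ⊗[A] B := fun j =>
      Algebra.TensorProduct.map (inR j) (AlgHom.id A B) (xGen e)
    -- the criterion over `A'`
    have hc' := (mem_kerBC_iff_gen F.law e he A' _).mp hc
    -- the transition maps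
    let Φ : Ai i ⊗[A] G →ₐ[A] A' ⊗[A] G := Algebra.TensorProduct.map (φ i) (AlgHom.id A G)
    have hΦR : Φ.comp (inR i) = inR' := by ext z; simp [Φ, inR, inR']
    have hΦL : Φ.comp (inL i) = inL'.comp (φ i) := by ext z; simp [Φ, inL, inL']
    let u := Algebra.TensorProduct.rid A A _ (F.law.toFun' (Ai i ⊗[A] G) (arg i ci))
    let v := Algebra.TensorProduct.rid A A _ (F.law.toFun' (Ai i ⊗[A] G) (base i))
    have huv : Φ (u - v) = 0 := by
      rw [map_sub, sub_eq_zero]
      simp only [u, v]
      rw [← rid_map, ← rid_map, compat, compat]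
      simp only [arg, base, map_add, map_mul, PL.map_map, hΦR, hΦL]
      rw [← PL.map_map inL' (φ i)]
      exact congrArg _ hc'
    obtain ⟨j, hij, hj⟩ := exists_vanish Ai t φ hzero htrans i (u - v) huv
    let τ : Ai i ⊗[A] G →ₐ[A] Ai j ⊗[A] G := Algebra.TensorProduct.map (t i j hij) (AlgHom.id A G)
    have hτR : τ.comp (inR i) = inR j := by ext z; simp [τ, inR]
    have hτL : τ.comp (inL i) = (inL j).comp (t i j hij) := by ext z; simp [τ, inL]
    let cj := Algebra.TensorProduct.map (t i j hij) (AlgHom.id A B) ci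
    have hcj : cj ∈ PolLaw.kerBC F.law (Ai j) := by
      rw [mem_kerBC_iff_gen F.law e he]
      apply (Algebra.TensorProduct.rid A A _).injective
      have h1 : τ (u - v) = 0 := hj
      rw [map_sub, sub_eq_zero] at h1
      simp only [u, v] at h1
      rw [← rid_map, ← rid_map, compat, compat] at h1
      simp only [arg, base, map_add, map_mul, PL.map_map, hτR, hτL] at h1
      rw [← PL.map_map (inL j) (t i j hij)] at h1
      exact h1
    have hfin : Algebra.TensorProduct.map (φ i) (AlgHom.id A B) ci =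
        Algebra.TensorProduct.map (φ j) (AlgHom.id A B) cj := by
      simp only [cj]
      rw [PL.map_map, hcomp]
    rw [hfin]
    exact (le_iSup (fun k => (PolLaw.kerBC F.law (Ai k)).map
      (Algebra.TensorProduct.map (φ k) (AlgHom.id A B))) j) (Ideal.mem_map_of_mem _ hcj)
  · -- the easy inclusion
    apply iSup_le
    intro i
    rw [Ideal.map_le_iff_le_comap]
    intro ci hci
    rw [Ideal.mem_comap, mem_kerBC_iff]
    intro R _ _ ψ x w
    rw [PL.map_map]
    exact (mem_kerBC_iff F.law (Ai i) ci).mp hci R (ψ.comp (φ i)) x w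

end Groth.Agent.S13721
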