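import Groth.Statements.S13722
import Groth.Agent.H68.PolyUnit

set_option autoImplicit false
universe u
open scoped TensorProduct
open ZeroCyc

namespace Groth.Agent.S13722

open Polynomial

section Aux

variable {A : Type u} [CommRing A] {B : Type u} [CommRing B] [Algebra A B]
  {K : Type u} [CommRing K] [Algebra A K]

lemma rTensor_eq_map {M : Type u} [CommRing M] [Algebra A M] {S S' : Type u} [CommSemiring S]
    [Algebra A S] [CommSemiring S'] [Algebra A S'] (φ : S →ₐ[A] S') (z : S ⊗[A] M) :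
    φ.toLinearMap.rTensor M z = Algebra.TensorProduct.map φ (AlgHom.id A M) z := by
  induction z using TensorProduct.induction_on with
  | zero => simp
  | tmul a b => rfl
  | add a b ha hb => simp [ha, hb]

/-- Compatibility of a polynomial law with base change, in ring-hom form. -/
lemma compat (F : B →ₚₗ[A] K) {S S' : Type u} [CommSemiring S]
    [Algebra A S] [CommSemiring S'] [Algebra A S'] (φ : S →ₐ[A] S') (z : S ⊗[A] B) :
    Algebra.TensorProduct.map φ (AlgHom.id A K) (F.toFun' S z) =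
      F.toFun' S' (Algebra.TensorProduct.map φ (AlgHom.id A B) z) := by
  rw [← rTensor_eq_map, ← rTensor_eq_map]
  exact PolynomialLaw.isCompat_apply' φ z

variable (S₀ : Type u) [CommRing S₀] [Algebra A S₀]

/-- The comparison map `S₀[X] ⊗ C → (S₀ ⊗ C)[X]`. -/
noncomputable def Φ : S₀[X] ⊗[A] K →ₐ[A] (S₀ ⊗[A] K)[X] :=
  Algebra.TensorProduct.productMap
    (Polynomial.mapAlgHom (Algebra.TensorProduct.includeLeft : S₀ →ₐ[A] S₀ ⊗[A] K))
    ((IsScalarTower.toAlgHom A (S₀ ⊗[A] K) (S₀ ⊗[A] K)[X]).comp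
      (Algebra.TensorProduct.includeRight : K →ₐ[A] S₀ ⊗[A] K))

lemma Φ_tmul (p : S₀[X]) (c : K) :
    Φ (A := A) (K := K) S₀ (p ⊗ₜ c) =
      p.map (Algebra.TensorProduct.includeLeft : S₀ →ₐ[A] S₀ ⊗[A] K).toRingHom * C (1 ⊗ₜ c) := by
  simp [Φ, Algebra.TensorProduct.productMap_apply_tmul]

/-- constants -/
noncomputable def ιₐ : S₀ →ₐ[A] S₀[X] := IsScalarTower.toAlgHom A S₀ S₀[X]

/-- evaluation -/
noncomputable def evₐ (a : S₀) : S₀[X] →ₐ[A] S₀ := (Polynomial.aeval a).restrictScalars A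

/-- reflection -/
noncomputable def negₐ : S₀[X] →ₐ[A] S₀[X] := (Polynomial.aeval (-X : S₀[X])).restrictScalars A

lemma Φ_ι (e : S₀ ⊗[A] K) :
    Φ S₀ (Algebra.TensorProduct.map (ιₐ (A := A) S₀) (AlgHom.id A K) e) = C e := by
  induction e using TensorProduct.induction_on with
  | zero => simp
  | tmul s c =>
    rw [Algebra.TensorProduct.map_tmul, Φ_tmul]
    simp [ιₐ, ← C_mul, Algebra.TensorProduct.tmul_mul_tmul]
  | add a b ha hb => simp only [map_add, ha, hb]

lemma Φ_ev (a : S₀) (z : S₀[X] ⊗[A] K) :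
    (Φ S₀ z).eval (a ⊗ₜ 1) = Algebra.TensorProduct.map (evₐ (A := A) S₀ a) (AlgHom.id A K) z := by
  induction z using TensorProduct.induction_on with
  | zero => simp
  | tmul p c =>
    rw [Algebra.TensorProduct.map_tmul, Φ_tmul, eval_mul, eval_C, eval_map]
    have : (a ⊗ₜ[A] (1 : K)) =
        (Algebra.TensorProduct.includeLeft : S₀ →ₐ[A] S₀ ⊗[A] K).toRingHom a := rfl
    rw [this, eval₂_at_apply]
    simp [evₐ, Algebra.TensorProduct.tmul_mul_tmul]
  | add a b ha hb => simp only [map_add, eval_add, ha, hb]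

lemma Φ_neg (z : S₀[X] ⊗[A] K) :
    Φ S₀ (Algebra.TensorProduct.map (negₐ (A := A) S₀) (AlgHom.id A K) z) = (Φ S₀ z).comp (-X) := by
  induction z using TensorProduct.induction_on with
  | zero => simp
  | tmul p c =>
    rw [Algebra.TensorProduct.map_tmul, Φ_tmul, Φ_tmul, mul_comp, C_comp]
    congr 1
    simp [negₐ, ← comp_eq_aeval, Polynomial.map_comp]
  | add a b ha hb => simp only [map_add, add_comp, ha, hb]

end Aux

section Main

variable {A : Type u} [CommRing A] {B : Type u} [CommRing B] [Algebra A B]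
  {K : Type u} [CommRing K] [Algebra A K]

lemma map_ι_comp (S₀ : Type u) [CommRing S₀] [Algebra A S₀] {S' : Type u} [CommRing S'] [Algebra A S']
    (g : S₀[X] →ₐ[A] S') (g' : S₀ →ₐ[A] S') (hg : ∀ s, g (Polynomial.C s) = g' s) (z : S₀ ⊗[A] B) :
    Algebra.TensorProduct.map g (AlgHom.id A B)
      (Algebra.TensorProduct.map (ιₐ (A := A) S₀) (AlgHom.id A B) z) =
      Algebra.TensorProduct.map g' (AlgHom.id A B) z := by
  induction z using TensorProduct.induction_on with
  | zero => simp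
  | tmul s b =>
    simp only [Algebra.TensorProduct.map_tmul]
    congr 1
    exact hg s
  | add a b ha hb => simp only [map_add, ha, hb]

lemma map_id_id (S₀ : Type u) [CommRing S₀] [Algebra A S₀] (z : S₀ ⊗[A] B) :
    Algebra.TensorProduct.map (AlgHom.id A S₀) (AlgHom.id A B) z = z := by
  simp

/-- Key lemma: over a test ring `S₀` with `S₀ ⊗ K` reduced, an element whose square is in the kernel
does not change the value of the law. -/
lemma key {d : ℕ} (F : PolLaw.MulLaw A B K d) (b : B) (hb : b * b ∈ PolLaw.ker F.law)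
    (S₀ : Type u) [CommRing S₀] [Algebra A S₀] [IsReduced (S₀ ⊗[A] K)] (x w : S₀ ⊗[A] B) :
    F.law.toFun' S₀ (x + w * (1 ⊗ₜ[A] b)) = F.law.toFun' S₀ x := by
  -- notation
  let ιB := Algebra.TensorProduct.map (ιₐ (A := A) S₀) (AlgHom.id A B)
  let T : S₀[X] ⊗[A] B := (X : S₀[X]) ⊗ₜ 1
  let β : S₀[X] ⊗[A] B := 1 ⊗ₜ b
  let up : S₀[X] ⊗[A] B := ιB x + T * (ιB w * β)
  let um : S₀[X] ⊗[A] B := ιB x - T * (ιB w * β)
  let FF := F.law.toFun' (S₀[X])
  have hmul := (F.mult (S₀[X])).2
  -- the reflection exchanges `up` and `um`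
  have hneg : Algebra.TensorProduct.map (negₐ (A := A) S₀) (AlgHom.id A B) up = um := by
    simp only [up, um, map_add, map_mul]
    rw [show Algebra.TensorProduct.map (negₐ (A := A) S₀) (AlgHom.id A B) (ιB x) = ιB x from
        map_ι_comp S₀ _ (ιₐ (A := A) S₀) (fun s => by simp [negₐ, ιₐ]) x,
      show Algebra.TensorProduct.map (negₐ (A := A) S₀) (AlgHom.id A B) (ιB w) = ιB w from
        map_ι_comp S₀ _ (ιₐ (A := A) S₀) (fun s => by simp [negₐ, ιₐ]) w]
    have h1 : Algebra.TensorProduct.map (negₐ (A := A) S₀) (AlgHom.id A B) T = -T := by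
      simp [T, negₐ, TensorProduct.neg_tmul]
    have h2 : Algebra.TensorProduct.map (negₐ (A := A) S₀) (AlgHom.id A B) β = β := by
      simp [β]
    rw [h1, h2]
    ring
  -- product
  have hprod : FF up * FF um = FF (ιB x) * FF (ιB x) := by
    rw [← hmul, ← hmul]
    have hββ : β * β = 1 ⊗ₜ (b * b) := by
      simp [β, Algebra.TensorProduct.tmul_mul_tmul]
    have : up * um = ιB x * ιB x + (-(T * T) * (ιB w * ιB w)) * (1 ⊗ₜ (b * b)) := by
      rw [← hββ]
      simp only [up, um]
      ring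
    rw [this]
    exact hb (S₀[X]) _ _
  -- transport to polynomials over `S₀ ⊗ K`
  let P := Φ (A := A) (K := K) S₀ (FF up)
  have hι : FF (ιB x) = Algebra.TensorProduct.map (ιₐ (A := A) S₀) (AlgHom.id A K)
      (F.law.toFun' S₀ x) := (compat F.law (ιₐ (A := A) S₀) x).symm
  have hP : P * P.comp (-X) = Polynomial.C (F.law.toFun' S₀ x * F.law.toFun' S₀ x) := by
    have h1 : P.comp (-X) = Φ (A := A) (K := K) S₀ (FF um) := by
      rw [← Φ_neg, compat, hneg]
    rw [h1, ← map_mul, hprod, map_mul, hι, Φ_ι, ← Polynomial.C_mul]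
  have hev : ∀ a : S₀, P.eval (a ⊗ₜ 1) =
      F.law.toFun' S₀ (x + (a ⊗ₜ[A] (1 : B)) * (w * (1 ⊗ₜ b))) := by
    intro a
    rw [Φ_ev, compat]
    congr 1
    simp only [up, map_add, map_mul]
    rw [show Algebra.TensorProduct.map (evₐ (A := A) S₀ a) (AlgHom.id A B) (ιB x) = x from
        (map_ι_comp S₀ _ (AlgHom.id A S₀) (fun s => by simp [evₐ]) x).trans (map_id_id S₀ x),
      show Algebra.TensorProduct.map (evₐ (A := A) S₀ a) (AlgHom.id A B) (ιB w) = w from
        (map_ι_comp S₀ _ (AlgHom.id A S₀) (fun s => by simp [evₐ]) w).trans (map_id_id S₀ w)]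
    simp [T, β, evₐ]
  have h0 : P.coeff 0 = F.law.toFun' S₀ x := by
    rw [Polynomial.coeff_zero_eq_eval_zero]
    have := hev 0
    simp only [TensorProduct.zero_tmul, zero_mul, add_zero] at this
    exact this
  have hPC := Groth.Agent.H68.eq_C_of_mul_comp_neg_X P _ hP h0
  have h1 := hev 1
  rw [hPC, eval_C] at h1
  rw [h1]
  congr 2
  rw [show ((1 : S₀) ⊗ₜ[A] (1 : B)) = 1 from rfl, one_mul]

end Main

section Final

variable {A : Type u} [CommRing A] {B : Type u} [CommRing B] [Algebra A B]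
  {K : Type u} [CommRing K] [Algebra A K]

instance isReduced_mvPolynomial_tensor (σ : Type*) [IsReduced K] :
    IsReduced (MvPolynomial σ A ⊗[A] K) := by
  let e : MvPolynomial σ A ⊗[A] K ≃+* MvPolynomial σ K :=
    (Algebra.TensorProduct.comm A (MvPolynomial σ A) K).toRingEquiv.trans
      (MvPolynomial.algebraTensorAlgEquiv A K).toRingEquiv
  exact isReduced_of_injective e e.injective

/-- Lifting two tensors simultaneously to a polynomial ring. -/
lemma exists_lift₂ {S : Type u} [CommSemiring S] [Algebra A S] (x w : S ⊗[A] B) :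
    ∃ (n : ℕ) (ψ : MvPolynomial (Fin n) A →ₐ[A] S) (x₀ w₀ : MvPolynomial (Fin n) A ⊗[A] B),
      ψ.toLinearMap.rTensor B x₀ = x ∧ ψ.toLinearMap.rTensor B w₀ = w := by
  obtain ⟨A₁, hA₁, hx⟩ := TensorProduct.Algebra.exists_of_fg x
  obtain ⟨A₂, hA₂, hw⟩ := TensorProduct.Algebra.exists_of_fg w
  have hB : Subalgebra.FG (A₁ ⊔ A₂) := Subalgebra.FG.sup hA₁ hA₂
  obtain ⟨gen, hgen⟩ := PolynomialLaw.exists_range_φ_eq_of_fg hB
  have h1 : A₁ ≤ (PolynomialLaw.φ A gen).range := by rw [hgen]; exact le_sup_left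
  have h2 : A₂ ≤ (PolynomialLaw.φ A gen).range := by rw [hgen]; exact le_sup_right
  obtain ⟨p, hp⟩ := PolynomialLaw.exists_lift_of_mem_range_rTensor _ h1 hx
  obtain ⟨q, hq⟩ := PolynomialLaw.exists_lift_of_mem_range_rTensor _ h2 hw
  exact ⟨gen.card, PolynomialLaw.φ A gen, p, q, hp, hq⟩

lemma mem_ker_of_sq_mem [IsReduced K] {d : ℕ} (F : PolLaw.MulLaw A B K d) (b : B)
    (hb : b * b ∈ PolLaw.ker F.law) : b ∈ PolLaw.ker F.law := by
  intro S _ _ x w
  obtain ⟨n, ψ, x₀, w₀, hx, hw⟩ := exists_lift₂ x w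
  rw [rTensor_eq_map] at hx hw
  have h1 : x + w * (1 ⊗ₜ[A] b) =
      Algebra.TensorProduct.map ψ (AlgHom.id A B) (x₀ + w₀ * (1 ⊗ₜ[A] b)) := by
    rw [map_add, map_mul, hx, hw]
    simp
  rw [h1, ← compat, key F b hb (MvPolynomial (Fin n) A) x₀ w₀, compat, hx]

end Final

/-- Let B and C be commutative algebras over the commutative ring A and F : B → C a multiplicative
polynomial law homogeneous of degree d. If C is reduced, then the quotient of B by the kernel of F
is reduced. In particular the image of a family of zero-cycles parametrised by a reduced base is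
reduced. -/
theorem result {A : Type u} [CommRing A] {B : Type u} [CommRing B] [Algebra A B]
    {C : Type u} [CommRing C] [Algebra A C] [IsReduced C] {d : ℕ} (F : PolLaw.MulLaw A B C d) :
    IsReduced (PolLaw.image F.law) := by
  show IsReduced (B ⧸ PolLaw.ker F.law)
  rw [← Ideal.isRadical_iff_quotient_reduced]
  -- descent along powers of two
  have hdesc : ∀ (m : ℕ) (r : B), r ^ (2 ^ m) ∈ PolLaw.ker F.law → r ∈ PolLaw.ker F.law := by
    intro m
    induction m with
    | zero => intro r hr; simpa using hr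
    | succ m ih =>
      intro r hr
      apply ih
      apply mem_ker_of_sq_mem F
      rw [← pow_two, ← pow_mul, ← pow_succ]
      exact hr
  intro r hr
  obtain ⟨n, hn⟩ := hr
  exact hdesc n r ((PolLaw.ker F.law).pow_mem_of_pow_mem hn (Nat.lt_two_pow_self).le)

end Groth.Agent.S13722
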