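import Groth.Statements.S13725
import Mathlib.Algebra.CharP.Lemmas
import Mathlib.Tactic

set_option autoImplicit false
universe u
open scoped TensorProduct
open ZeroCyc

namespace Groth.Agent.S13725

/-- Let k be a field of characteristic p > 0 and let F : k → k be the law x ↦ x^p, multiplicative and
homogeneous of degree p over k. The kernel of F is the zero ideal, but after the flat base change k
→ A' = k[X]/(X^p) the kernel of the base-changed law on A' ⊗_k k is not zero (the class of X lies in
it). So in characteristic p, forming the kernel of a multiplicative law is not compatible with flat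
base change. -/
theorem result {k : Type u} [Field k] (p : ℕ) [Fact p.Prime] [CharP k p] :
    PolLaw.ker (PolLaw.MulLaw.pow k k p).law = ⊥ ∧
      PolLaw.kerBC (PolLaw.MulLaw.pow k k p).law (AdjoinRoot ((Polynomial.X : Polynomial k) ^ p)) ≠ ⊥ := by
  have hp : p.Prime := Fact.out
  constructor
  · rw [eq_bot_iff]
    intro b hb
    have h := hb k 0 1
    have h' : ((0 : k ⊗[k] k) + 1 * ((1 : k) ⊗ₜ[k] b)) ^ p = (0 : k ⊗[k] k) ^ p := h
    rw [zero_add, one_mul, Algebra.TensorProduct.tmul_pow, one_pow, zero_pow hp.ne_zero] at h'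
    have h2 := congrArg (TensorProduct.lid k k) h'
    rw [TensorProduct.lid_tmul, map_zero, one_smul] at h2
    have : b = 0 := pow_eq_zero_iff hp.ne_zero |>.1 h2
    simpa using this
  · intro hbot
    set A' := AdjoinRoot ((Polynomial.X : Polynomial k) ^ p) with hA'
    have hmem : ((AdjoinRoot.root ((Polynomial.X : Polynomial k) ^ p)) ⊗ₜ[k] (1 : k) : A' ⊗[k] k) ∈
        PolLaw.kerBC (PolLaw.MulLaw.pow k k p).law A' := by
      intro R _ _ _ _ x w
      show (x + w * _) ^ p = x ^ p
      rw [Algebra.TensorProduct.map_tmul]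
      obtain ⟨r, hr⟩ := exists_add_pow_prime_eq hp x
        (w * ((IsScalarTower.toAlgHom k A' R) (AdjoinRoot.root ((Polynomial.X : Polynomial k) ^ p)) ⊗ₜ[k]
          (AlgHom.id k k) 1))
      rw [hr]
      have h1 : ((p : ℕ) : R ⊗[k] k) = 0 := by
        rw [← map_natCast (algebraMap k (R ⊗[k] k)), CharP.cast_eq_zero k p, map_zero]
      have h2 : (w * ((IsScalarTower.toAlgHom k A' R) (AdjoinRoot.root ((Polynomial.X : Polynomial k) ^ p)) ⊗ₜ[k]
          (AlgHom.id k k) 1)) ^ p = 0 := by
        rw [mul_pow, Algebra.TensorProduct.tmul_pow, ← map_pow]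
        have : (AdjoinRoot.root ((Polynomial.X : Polynomial k) ^ p)) ^ p = 0 := by
          have := AdjoinRoot.eval₂_root ((Polynomial.X : Polynomial k) ^ p)
          simpa using this
        rw [this, map_zero, TensorProduct.zero_tmul, mul_zero]
      rw [h1, h2]
      simp
    rw [hbot, Ideal.mem_bot] at hmem
    -- the element is nonzero
    have h3 := congrArg (TensorProduct.rid k A') hmem
    rw [TensorProduct.rid_tmul, one_smul, map_zero] at h3
    -- root = 0 in AdjoinRoot (X^p) is impossible since p ≥ 2
    have h4 : (AdjoinRoot.mk ((Polynomial.X : Polynomial k) ^ p)) Polynomial.X = 0 := h3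
    rw [AdjoinRoot.mk_eq_zero] at h4
    have hdeg := Polynomial.natDegree_le_of_dvd h4 Polynomial.X_ne_zero
    rw [Polynomial.natDegree_X_pow, Polynomial.natDegree_X] at hdeg
    have := hp.two_le
    omega

end Groth.Agent.S13725
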