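import Groth.Statements.S13726
import Mathlib

set_option autoImplicit false
universe u
open scoped TensorProduct
open ZeroCyc

namespace Groth.Agent.S13726

open MvPolynomial

section Generic

lemma add_pow_of_natCast_eq_zero' {R : Type*} [CommSemiring R] (p : ℕ) (hp : p.Prime)
    (h : ((p : ℕ) : R) = 0) (x y : R) : (x + y) ^ p = x ^ p + y ^ p := by
  rw [add_pow_prime_eq hp, h]
  simp

/-- The kernel of the `p`-th power law on a ring in which `p = 0`: the elements with `bᵖ = 0`. -/
lemma mem_ker_pow_iff {A : Type u} [CommRing A] (p : ℕ) (hp : p.Prime) (h0 : ((p : ℕ) : A) = 0)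
    (b : A) : b ∈ PolLaw.ker (PolLaw.MulLaw.pow A A p).law ↔ b ^ p = 0 := by
  constructor
  · intro hb
    have h := hb A 0 1
    have h' : ((0 : A ⊗[A] A) + 1 * (1 ⊗ₜ[A] b)) ^ p = (0 : A ⊗[A] A) ^ p := h
    rw [zero_add, one_mul, zero_pow hp.ne_zero, Algebra.TensorProduct.tmul_pow, one_pow] at h'
    have := congrArg (Algebra.TensorProduct.lid A A) h'
    simpa using this
  · intro hb S _ _ x w
    show (x + w * (1 ⊗ₜ[A] b)) ^ p = x ^ p
    have h1 : ((p : ℕ) : S ⊗[A] A) = 0 := by
      have := Algebra.TensorProduct.natCast_def' (R := A) (A := S) (B := A) p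
      rw [h0, TensorProduct.tmul_zero] at this
      exact this
    rw [add_pow_of_natCast_eq_zero' p hp h1, mul_pow, Algebra.TensorProduct.tmul_pow, hb,
      TensorProduct.tmul_zero, mul_zero, add_zero]

end Generic

section Aux

variable (k : Type u) [Field k] (p : ℕ) [Fact p.Prime] [CharP k p]

/-- The ideal `(Xᵢᵖ)`. -/
noncomputable abbrev I : Ideal (MvPolynomial ℕ k) :=
  Ideal.span (Set.range fun i : ℕ => (MvPolynomial.X i : MvPolynomial ℕ k) ^ p)

/-- The truncated polynomial ring. -/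
abbrev TA : Type u := MvPolynomial ℕ k ⧸ I k p

/-- The ideal generated by the variables. -/
noncomputable abbrev J : Ideal (TA k p) :=
  (Ideal.span (Set.range fun i : ℕ => (MvPolynomial.X i : MvPolynomial ℕ k))).map
    (Ideal.Quotient.mk (I k p))

lemma natCast_eq_zero : ((p : ℕ) : TA k p) = 0 := by
  have : ((p : ℕ) : MvPolynomial ℕ k) = 0 := by
    rw [← map_natCast (MvPolynomial.C (σ := ℕ) (R := k)), CharP.cast_eq_zero k p, map_zero]
  rw [← map_natCast (Ideal.Quotient.mk (I k p)), this, map_zero]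

lemma add_pow_of_natCast_eq_zero {R : Type*} [CommSemiring R] (h : ((p : ℕ) : R) = 0) (x y : R) :
    (x + y) ^ p = x ^ p + y ^ p := by
  rw [add_pow_prime_eq (Fact.out : p.Prime), h]
  simp

lemma X_pow_eq_zero (i : ℕ) :
    (Ideal.Quotient.mk (I k p) (MvPolynomial.X i)) ^ p = 0 := by
  rw [← map_pow, Ideal.Quotient.eq_zero_iff_mem]
  exact Ideal.subset_span ⟨i, rfl⟩

/-- The augmentation `A → k`. -/
noncomputable def aug : TA k p →+* k :=
  Ideal.Quotient.lift (I k p) (MvPolynomial.constantCoeff) (by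
    intro a ha
    have hle : I k p ≤ RingHom.ker (MvPolynomial.constantCoeff (σ := ℕ) (R := k)) := by
      rw [Ideal.span_le]
      rintro _ ⟨i, rfl⟩
      simp [RingHom.mem_ker, (Fact.out : p.Prime).ne_zero]
    exact hle ha)

lemma pow_eq_zero_iff_mem_J (b : TA k p) : b ^ p = 0 ↔ b ∈ J k p := by
  constructor
  · intro hb
    obtain ⟨b', rfl⟩ := Ideal.Quotient.mk_surjective b
    have h1 : aug k p (Ideal.Quotient.mk (I k p) b') ^ p = 0 := by rw [← map_pow, hb, map_zero]
    have h2 : MvPolynomial.constantCoeff b' = 0 := by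
      have := pow_eq_zero_iff (Fact.out : p.Prime).ne_zero |>.mp h1
      exact this
    apply Ideal.mem_map_of_mem
    have h3 : (Set.range fun i : ℕ => (MvPolynomial.X i : MvPolynomial ℕ k)) =
        MvPolynomial.X '' (Set.univ : Set ℕ) := by
      rw [Set.image_univ]
    rw [h3, MvPolynomial.mem_ideal_span_X_image]
    intro m hm
    by_contra hcon
    push Not at hcon
    have hm0 : m = 0 := by
      ext i
      simpa using hcon i (Set.mem_univ i)
    rw [hm0, MvPolynomial.mem_support_iff] at hm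
    exact hm h2
  · intro hb
    rw [J, Ideal.map_span] at hb
    refine Submodule.span_induction (p := fun b _ => b ^ p = 0) ?_ ?_ ?_ ?_ hb
    · rintro _ ⟨_, ⟨i, rfl⟩, rfl⟩
      exact X_pow_eq_zero k p i
    · exact zero_pow (Fact.out : p.Prime).ne_zero
    · intro x y _ _ hx hy
      rw [add_pow_of_natCast_eq_zero p (natCast_eq_zero k p), hx, hy, add_zero]
    · intro a x _ hx
      rw [smul_eq_mul, mul_pow, hx, mul_zero]

/-- The map to the dual numbers sending `X_N` to `ε` and the other variables to zero. -/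
noncomputable def ψ (N : ℕ) : TA k p →+* DualNumber k :=
  Ideal.Quotient.lift (I k p)
    (MvPolynomial.aeval (fun i : ℕ => if i = N then (DualNumber.eps : DualNumber k) else 0)
      : MvPolynomial ℕ k →ₐ[k] DualNumber k).toRingHom (by
    intro a ha
    have hle : I k p ≤ RingHom.ker ((MvPolynomial.aeval
        (fun i : ℕ => if i = N then (DualNumber.eps : DualNumber k) else 0)
        : MvPolynomial ℕ k →ₐ[k] DualNumber k).toRingHom) := by
      rw [Ideal.span_le]
      rintro _ ⟨i, rfl⟩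
      have h2 : 2 ≤ p := (Fact.out : p.Prime).two_le
      obtain ⟨q, rfl⟩ := Nat.exists_eq_add_of_le h2
      rw [SetLike.mem_coe, RingHom.mem_ker]
      simp only [AlgHom.toRingHom_eq_coe, RingHom.coe_coe, map_pow, MvPolynomial.aeval_X]
      split_ifs
      · rw [pow_add, pow_two, DualNumber.eps_mul_eps, zero_mul]
      · simp
    exact hle ha)

lemma ψ_X (N i : ℕ) : ψ k p N (Ideal.Quotient.mk (I k p) (MvPolynomial.X i)) =
    if i = N then (DualNumber.eps : DualNumber k) else 0 := by
  simp [ψ]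

lemma not_fg_J : ¬ (J k p).FG := by
  intro hfg
  -- the chain of ideals `J_N`
  let JN : ℕ → Ideal (TA k p) := fun N =>
    Ideal.span ((fun i => Ideal.Quotient.mk (I k p) (MvPolynomial.X i)) '' {i : ℕ | i < N})
  have hmono : Monotone JN := by
    intro N M hNM
    apply Ideal.span_mono
    apply Set.image_mono
    intro i (hi : i < N)
    exact lt_of_lt_of_le hi hNM
  have hJ : J k p ≤ sSup (Set.range JN) := by
    rw [J, Ideal.map_span, Ideal.span_le]
    rintro _ ⟨_, ⟨i, rfl⟩, rfl⟩
    have : JN (i + 1) ≤ sSup (Set.range JN) := le_sSup ⟨i + 1, rfl⟩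
    exact this (Ideal.subset_span ⟨i, Nat.lt_succ_self i, rfl⟩)
  have hcompact := (Submodule.fg_iff_compact (J k p)).mp hfg
  rw [CompleteLattice.isCompactElement_iff_le_of_directed_sSup_le] at hcompact
  obtain ⟨_, ⟨N, rfl⟩, hN⟩ := hcompact (Set.range JN) ⟨JN 0, 0, rfl⟩
    (by
      rintro _ ⟨a, rfl⟩ _ ⟨b, rfl⟩
      exact ⟨JN (max a b), ⟨_, rfl⟩, hmono (le_max_left a b), hmono (le_max_right a b)⟩) hJ
  -- `X_N` is in `J` but not in `J_N`
  have hXN : Ideal.Quotient.mk (I k p) (MvPolynomial.X N) ∈ J k p :=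
    Ideal.mem_map_of_mem _ (Ideal.subset_span ⟨N, rfl⟩)
  have hker : JN N ≤ RingHom.ker (ψ k p N) := by
    rw [Ideal.span_le]
    rintro _ ⟨i, hi, rfl⟩
    rw [SetLike.mem_coe, RingHom.mem_ker, ψ_X, if_neg (ne_of_lt hi)]
  have h1 := hker (hN hXN)
  rw [RingHom.mem_ker, ψ_X, if_pos rfl] at h1
  have := congrArg TrivSqZeroExt.snd h1
  simp at this

end Aux

/-- The kernel of the `p`-th power law on `k[tᵢ]/(tᵢᵖ)` is `(tᵢ)`, which is not finitely generated. -/
theorem result {k : Type u} [Field k] (p : ℕ) [Fact p.Prime] [CharP k p] :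
    PolLaw.ker (PolLaw.MulLaw.pow
        (MvPolynomial ℕ k ⧸ Ideal.span (Set.range fun i : ℕ => (MvPolynomial.X i : MvPolynomial ℕ k) ^ p))
        (MvPolynomial ℕ k ⧸ Ideal.span (Set.range fun i : ℕ => (MvPolynomial.X i : MvPolynomial ℕ k) ^ p)) p).law =
      (Ideal.span (Set.range fun i : ℕ => (MvPolynomial.X i : MvPolynomial ℕ k))).map
        (Ideal.Quotient.mk (Ideal.span (Set.range fun i : ℕ => (MvPolynomial.X i : MvPolynomial ℕ k) ^ p))) ∧
    ¬ (PolLaw.ker (PolLaw.MulLaw.pow
        (MvPolynomial ℕ k ⧸ Ideal.span (Set.range fun i : ℕ => (MvPolynomial.X i : MvPolynomial ℕ k) ^ p))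
        (MvPolynomial ℕ k ⧸ Ideal.span (Set.range fun i : ℕ => (MvPolynomial.X i : MvPolynomial ℕ k) ^ p)) p).law).FG := by
  have hker : PolLaw.ker (PolLaw.MulLaw.pow (TA k p) (TA k p) p).law = J k p := by
    ext b
    exact (mem_ker_pow_iff p (Fact.out : p.Prime) (natCast_eq_zero k p) b).trans
      (pow_eq_zero_iff_mem_J k p b)
  exact ⟨hker, fun h => not_fg_J k p (hker ▸ h)⟩

end Groth.Agent.S13726
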