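import Groth.Statements.S13727
import Groth.Agent.H68.LawOpen
import Groth.Agent.H68.ClopenCount

set_option autoImplicit false
universe u
open scoped TensorProduct
open ZeroCyc

namespace Groth.Agent.S13727

open Groth.Agent.H68 Groth.Agent.H68.LC

/-- Let A be a commutative ring whose prime spectrum is connected, B a commutative A-algebra and F : B →
A a multiplicative polynomial law homogeneous of degree d. Then Spec(B/ker F), the support of the
family of zero-cycles of degree d defined by F, has at most d connected components (in particular
finitely many). -/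
theorem result {A : Type u} [CommRing A] [ConnectedSpace (PrimeSpectrum A)]
    {B : Type u} [CommRing B] [Algebra A B] {d : ℕ} (F : PolLaw.MulLaw A B A d) :
    Finite (ConnectedComponents (PrimeSpectrum (PolLaw.image F.law))) ∧
      Nat.card (ConnectedComponents (PrimeSpectrum (PolLaw.image F.law))) ≤ d := by
  apply card_connectedComponents_le
  rintro n ⟨U, hclopen, hne, hdisj⟩
  let f : PrimeSpectrum (PolLaw.image F.law) → PrimeSpectrum A :=
    PrimeSpectrum.comap (algebraMap A (PolLaw.image F.law))
  have hint : Algebra.IsIntegral A (PolLaw.image F.law) := isIntegral_image F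
  have hopen : IsOpenMap f := by
    refine isOpenMap_of_surjective F (Ideal.Quotient.mkₐ A (PolLaw.ker F.law))
      (Ideal.Quotient.mkₐ_surjective A _) ?_
    have hk : RingHom.ker (Ideal.Quotient.mkₐ A (PolLaw.ker F.law)) = PolLaw.ker F.law := by
      ext x
      rw [RingHom.mem_ker]
      exact Ideal.Quotient.eq_zero_iff_mem
    rw [hk]
  have hclosed : IsClosedMap f :=
    PrimeSpectrum.isClosedMap_comap_of_isIntegral _ (algebraMap_isIntegral_iff.mpr hint)
  have hsurj : ∀ i, f '' (U i) = Set.univ := by
    intro i
    have h1 : IsClopen (f '' U i) := ⟨hclosed _ (hclopen i).1, hopen _ (hclopen i).2⟩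
    exact (isClopen_iff.mp h1).resolve_left ((hne i).image f).ne_empty
  obtain ⟨q⟩ : Nonempty (PrimeSpectrum A) := inferInstance
  have hx : ∀ i, ∃ x ∈ U i, f x = q := fun i => by
    have : q ∈ f '' U i := by rw [hsurj i]; trivial
    exact this
  choose x hxU hxq using hx
  have hinj : Function.Injective x := by
    intro i j hij
    by_contra hne'
    exact Set.disjoint_left.mp (hdisj hne') (hxU i) (hij ▸ hxU j)
  -- the fibre over `q` has at most `d` points
  have e := PrimeSpectrum.preimageEquivFiber A (PolLaw.image F.law) q
  have hfib := fibre_card_le F q.asIdeal.ResidueField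
  have hfin0 : Finite (PrimeSpectrum (q.asIdeal.Fiber (PolLaw.image F.law))) := hfib.1
  have hfin : Finite (f ⁻¹' {q}) := Finite.of_equiv _ e.symm
  have hcard : Nat.card (f ⁻¹' {q}) ≤ d := by
    rw [Nat.card_congr e]
    exact hfib.2
  let y : Fin n → f ⁻¹' {q} := fun i => ⟨x i, hxq i⟩
  have hyinj : Function.Injective y := fun i j hij => hinj (Subtype.ext_iff.mp hij)
  have := Nat.card_le_card_of_injective y hyinj
  rw [Nat.card_fin] at this
  exact this.trans hcard

end Groth.Agent.S13727
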