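import Groth.Statements.S13728
import Mathlib

set_option autoImplicit false
universe u
open scoped TensorProduct

namespace Groth.Agent.S13728

section TMap

variable (A : Type u) [CommRing A] {B C D : Type u} [CommRing B] [Algebra A B] [CommRing C]
  [Algebra A C] [CommRing D] [Algebra A D] (d : ℕ)

lemma tmap_comp (g : C →ₐ[A] D) (f : B →ₐ[A] C) (x : ⨂[A] _ : Fin d, B) :
    SymTen.tmap A d g (SymTen.tmap A d f x) = SymTen.tmap A d (g.comp f) x := by
  induction x using PiTensorProduct.induction_on with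
  | smul_tprod r b => simp
  | add x y hx hy => simp [hx, hy]

lemma tmap_id (x : ⨂[A] _ : Fin d, B) : SymTen.tmap A d (AlgHom.id A B) x = x := by
  induction x using PiTensorProduct.induction_on with
  | smul_tprod r b => simp
  | add x y hx hy => simp [hx, hy]

end TMap

section

variable {A : Type u} [CommRing A] {B : Type u} [CommRing B] [Algebra A B]
    {ι : Type u} [Preorder ι] [IsDirected ι (fun i j => i ≤ j)] [Nonempty ι]
    (Bi : ι → Type u) [∀ i, CommRing (Bi i)] [∀ i, Algebra A (Bi i)]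
    (t : ∀ i j : ι, i ≤ j → (Bi i →ₐ[A] Bi j)) (φ : ∀ i : ι, Bi i →ₐ[A] B)
    (hcomp : ∀ (i j : ι) (h : i ≤ j), (φ j).comp (t i j h) = φ i)
    (hsurj : ∀ b : B, ∃ (i : ι) (x : Bi i), φ i x = b)
    (hzero : ∀ (i : ι) (x : Bi i), φ i x = 0 → ∃ (j : ι) (h : i ≤ j), t i j h x = 0)
    (hid : ∀ (i : ι) (h : i ≤ i), t i i h = AlgHom.id A (Bi i))
    (htrans : ∀ (i j k : ι) (hij : i ≤ j) (hjk : j ≤ k),
      (t j k hjk).comp (t i j hij) = t i k (hij.trans hjk))

include hcomp in
lemma phi_t (i j : ι) (h : i ≤ j) (x : Bi i) : φ j (t i j h x) = φ i x := by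
  rw [← hcomp i j h]
  rfl

include htrans in
lemma t_t (i j k : ι) (hij : i ≤ j) (hjk : j ≤ k) (x : Bi i) :
    t j k hjk (t i j hij x) = t i k (hij.trans hjk) x := by
  rw [← htrans i j k hij hjk]
  rfl

include hcomp hsurj in
/-- Finitely many elements of `B` lift to a common level. -/
lemma exists_lift {K : Type} [Finite K] (b : K → B) :
    ∃ (i : ι) (x : K → Bi i), ∀ k, φ i (x k) = b k := by
  choose i₀ x₀ hx₀ using hsurj
  obtain ⟨i, hi⟩ := Finite.exists_le (fun k => i₀ (b k))
  refine ⟨i, fun k => t _ i (hi k) (x₀ (b k)), fun k => ?_⟩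
  rw [phi_t Bi t φ hcomp, hx₀]

include hzero htrans in
/-- Two finite families at the same level with the same image in `B` agree at a higher level. -/
lemma exists_eq {K : Type} [Finite K] (i : ι) (x x' : K → Bi i)
    (h : ∀ k, φ i (x k) = φ i (x' k)) :
    ∃ (j : ι) (hij : i ≤ j), ∀ k, t i j hij (x k) = t i j hij (x' k) := by
  have h0 : ∀ k, ∃ (j : ι) (hij : i ≤ j), t i j hij (x k - x' k) = 0 := fun k =>
    hzero i _ (by rw [map_sub, h k, sub_self])
  choose j₀ hj₀ hx₀ using h0
  obtain ⟨j, hj⟩ := Finite.exists_le j₀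
  obtain ⟨k₀⟩ : Nonempty ι := inferInstance
  obtain ⟨j', hj', hij'⟩ := exists_ge_ge j i
  refine ⟨j', hij', fun k => ?_⟩
  have : t i j' hij' (x k - x' k) = 0 := by
    have e := t_t Bi t htrans i (j₀ k) j' (hj₀ k) ((hj k).trans hj') (x k - x' k)
    rw [hx₀ k, map_zero] at e
    exact e.symm
  rw [map_sub, sub_eq_zero] at this
  exact this


variable (d : ℕ)

/-- The directed system of tensor powers. -/
noncomputable abbrev fT (i j : ι) (h : i ≤ j) :
    (⨂[A] _ : Fin d, Bi i) →ₗ[A] (⨂[A] _ : Fin d, Bi j) :=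
  (SymTen.tmap A d (t i j h)).toLinearMap

include hid htrans in
lemma directedSystem :
    DirectedSystem (fun i => ⨂[A] _ : Fin d, Bi i) (fun _ _ h => fT Bi t d _ _ h) where
  map_self i x := by
    show SymTen.tmap A d (t i i le_rfl) x = x
    rw [hid, tmap_id]
  map_map k j i hij hjk x := by
    show SymTen.tmap A d (t j k hjk) (SymTen.tmap A d (t i j hij) x) =
      SymTen.tmap A d (t i k (hij.trans hjk)) x
    rw [tmap_comp, htrans]

variable [DecidableEq ι]

/-- The colimit of the tensor powers. -/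
noncomputable abbrev DL : Type u :=
  Module.DirectLimit (fun i => ⨂[A] _ : Fin d, Bi i) (fT Bi t d)

noncomputable abbrev ofT (i : ι) : (⨂[A] _ : Fin d, Bi i) →ₗ[A] DL Bi t d :=
  Module.DirectLimit.of A ι (fun i => ⨂[A] _ : Fin d, Bi i) (fT Bi t d) i

lemma ofT_t (i j : ι) (h : i ≤ j) (x : Fin d → Bi i) :
    ofT Bi t d j (PiTensorProduct.tprod A fun k => t i j h (x k)) =
      ofT Bi t d i (PiTensorProduct.tprod A x) := by
  have := Module.DirectLimit.of_f (R := A) (ι := ι) (G := fun i => ⨂[A] _ : Fin d, Bi i)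
    (f := fT Bi t d) (i := i) (j := j) (hij := h) (x := PiTensorProduct.tprod A x)
  rw [← this]
  congr 1
  exact (SymTen.tmap_tprod A d (t i j h) x).symm

include hcomp hzero htrans in
/-- Independence of the lift. -/
lemma ofT_eq (i i' : ι) (x : Fin d → Bi i) (x' : Fin d → Bi i')
    (h : ∀ k, φ i (x k) = φ i' (x' k)) :
    ofT Bi t d i (PiTensorProduct.tprod A x) = ofT Bi t d i' (PiTensorProduct.tprod A x') := by
  obtain ⟨j, hj, hj'⟩ := exists_ge_ge i i'
  obtain ⟨j', hjj', he⟩ := exists_eq Bi t φ hzero htrans j (fun k => t i j hj (x k))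
    (fun k => t i' j hj' (x' k)) (fun k => by
      rw [phi_t Bi t φ hcomp, phi_t Bi t φ hcomp, h])
  rw [← ofT_t Bi t d i j' (hj.trans hjj') x, ← ofT_t Bi t d i' j' (hj'.trans hjj') x']
  congr 2
  funext k
  have := he k
  rw [t_t Bi t htrans, t_t Bi t htrans] at this
  exact this


/-- The function underlying the multilinear map `B^d → colim T^d(B_i)`. -/
noncomputable def mfun (b : Fin d → B) : DL Bi t d :=
  ofT Bi t d (exists_lift Bi t φ hcomp hsurj b).choose
    (PiTensorProduct.tprod A (exists_lift Bi t φ hcomp hsurj b).choose_spec.choose)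

include hzero htrans in
lemma mfun_eq (b : Fin d → B) (i : ι) (x : Fin d → Bi i) (hx : ∀ k, φ i (x k) = b k) :
    mfun Bi t φ hcomp hsurj d b = ofT Bi t d i (PiTensorProduct.tprod A x) := by
  rw [mfun]
  refine ofT_eq Bi t φ hcomp hzero htrans d _ _ _ _ fun k => ?_
  rw [(exists_lift Bi t φ hcomp hsurj b).choose_spec.choose_spec k, hx]

/-- The multilinear map `B^d → colim T^d(B_i)`. -/
noncomputable def mm : MultilinearMap A (fun _ : Fin d => B) (DL Bi t d) where
  toFun := mfun Bi t φ hcomp hsurj d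
  map_update_add' := by
    intro _ b k c c'
    obtain ⟨i, X, hX⟩ := exists_lift Bi t φ hcomp hsurj
      (Sum.elim b ![c, c'] : Fin d ⊕ Fin 2 → B)
    let x : Fin d → Bi i := fun l => X (Sum.inl l)
    have hx : ∀ l, φ i (x l) = b l := fun l => hX (Sum.inl l)
    have hy : φ i (X (Sum.inr 0)) = c := hX (Sum.inr 0)
    have hy' : φ i (X (Sum.inr 1)) = c' := hX (Sum.inr 1)
    have hu : ∀ (y : Bi i) (c₀ : B), φ i y = c₀ →
        ∀ l, φ i (Function.update x k y l) = Function.update b k c₀ l := by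
      intro y c₀ hy l
      by_cases hl : l = k
      · subst hl
        rw [Function.update_self, Function.update_self, hy]
      · rw [Function.update_of_ne hl, Function.update_of_ne hl, hx]
    rw [mfun_eq Bi t φ hcomp hsurj hzero htrans d _ i _
        (hu (X (Sum.inr 0) + X (Sum.inr 1)) (c + c') (by rw [map_add, hy, hy'])),
      mfun_eq Bi t φ hcomp hsurj hzero htrans d _ i _ (hu _ c hy),
      mfun_eq Bi t φ hcomp hsurj hzero htrans d _ i _ (hu _ c' hy'),
      MultilinearMap.map_update_add, map_add]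
  map_update_smul' := by
    intro _ b k a c
    obtain ⟨i, X, hX⟩ := exists_lift Bi t φ hcomp hsurj
      (Sum.elim b ![c] : Fin d ⊕ Fin 1 → B)
    let x : Fin d → Bi i := fun l => X (Sum.inl l)
    have hx : ∀ l, φ i (x l) = b l := fun l => hX (Sum.inl l)
    have hy : φ i (X (Sum.inr 0)) = c := hX (Sum.inr 0)
    have hu : ∀ (y : Bi i) (c₀ : B), φ i y = c₀ →
        ∀ l, φ i (Function.update x k y l) = Function.update b k c₀ l := by
      intro y c₀ hy l
      by_cases hl : l = k
      · subst hl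
        rw [Function.update_self, Function.update_self, hy]
      · rw [Function.update_of_ne hl, Function.update_of_ne hl, hx]
    rw [mfun_eq Bi t φ hcomp hsurj hzero htrans d _ i _
        (hu (a • X (Sum.inr 0)) (a • c) (by rw [map_smul, hy])),
      mfun_eq Bi t φ hcomp hsurj hzero htrans d _ i _ (hu _ c hy),
      MultilinearMap.map_update_smul, map_smul]

/-- The map `T^d(B) → colim T^d(B_i)`. -/
noncomputable def Ψ : (⨂[A] _ : Fin d, B) →ₗ[A] DL Bi t d :=
  PiTensorProduct.lift (mm Bi t φ hcomp hsurj hzero htrans d)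

lemma Ψ_tmap (i : ι) (w : ⨂[A] _ : Fin d, Bi i) :
    Ψ Bi t φ hcomp hsurj hzero htrans d (SymTen.tmap A d (φ i) w) = ofT Bi t d i w := by
  induction w using PiTensorProduct.induction_on with
  | smul_tprod r x =>
    rw [map_smul, map_smul, map_smul, SymTen.tmap_tprod, Ψ, PiTensorProduct.lift.tprod]
    congr 1
    exact mfun_eq Bi t φ hcomp hsurj hzero htrans d _ i x (fun k => rfl)
  | add x y hx hy => rw [map_add, map_add, map_add, hx, hy]

include hcomp hsurj hzero hid htrans in
/-- An element of `T^d(B_i)` vanishing in `T^d(B)` vanishes in some `T^d(B_j)`. -/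
lemma tmap_zero_exact (i : ι) (w : ⨂[A] _ : Fin d, Bi i) (hw : SymTen.tmap A d (φ i) w = 0) :
    ∃ (j : ι) (hij : i ≤ j), SymTen.tmap A d (t i j hij) w = 0 := by
  have h := Ψ_tmap Bi t φ hcomp hsurj hzero htrans d i w
  rw [hw, map_zero] at h
  haveI := directedSystem Bi t hid htrans d
  exact Module.DirectLimit.of.zero_exact h.symm


include hcomp hsurj in
/-- Every element of `T^d(B)` comes from some `T^d(B_i)`. -/
lemma exists_tmap_eq (z : ⨂[A] _ : Fin d, B) :
    ∃ (i : ι) (w : ⨂[A] _ : Fin d, Bi i), SymTen.tmap A d (φ i) w = z := by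
  induction z using PiTensorProduct.induction_on with
  | smul_tprod r b =>
    obtain ⟨i, x, hx⟩ := exists_lift Bi t φ hcomp hsurj b
    refine ⟨i, r • PiTensorProduct.tprod A x, ?_⟩
    rw [map_smul, SymTen.tmap_tprod]
    congr 2
    funext k
    exact hx k
  | add z₁ z₂ h₁ h₂ =>
    obtain ⟨i₁, w₁, hw₁⟩ := h₁
    obtain ⟨i₂, w₂, hw₂⟩ := h₂
    obtain ⟨j, hj₁, hj₂⟩ := exists_ge_ge i₁ i₂
    refine ⟨j, SymTen.tmap A d (t i₁ j hj₁) w₁ + SymTen.tmap A d (t i₂ j hj₂) w₂, ?_⟩
    rw [map_add, tmap_comp, tmap_comp, hcomp, hcomp, hw₁, hw₂]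

end

/-- The functor B ↦ TS^d_A(B) (symmetric tensors of degree d, the invariants of the symmetric group in
the d-fold tensor power) commutes with filtered direct limits. Concretely, let B be the direct limit
of a directed system (B_i, t_ij : B_i → B_j) of commutative algebras over the commutative ring A
(t_ii the identity, t_jk ∘ t_ij = t_ik) with structure maps φ_i : B_i → B (compatible with the t_ij,
jointly surjective, and an element of B_i vanishing in B vanishes in some B_j). Then every element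
of TS^d_A(B) is the image of an element of some TS^d_A(B_i), and an element of TS^d_A(B_i) whose
image in TS^d_A(B) is zero has image zero in TS^d_A(B_j) for some j ≥ i. -/
theorem result {A : Type u} [CommRing A] {B : Type u} [CommRing B] [Algebra A B]
    {ι : Type u} [Preorder ι] [IsDirected ι (fun i j => i ≤ j)] [Nonempty ι]
    (Bi : ι → Type u) [∀ i, CommRing (Bi i)] [∀ i, Algebra A (Bi i)]
    (t : ∀ i j : ι, i ≤ j → (Bi i →ₐ[A] Bi j)) (φ : ∀ i : ι, Bi i →ₐ[A] B)
    (hcomp : ∀ (i j : ι) (h : i ≤ j), (φ j).comp (t i j h) = φ i)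
    (hsurj : ∀ b : B, ∃ (i : ι) (x : Bi i), φ i x = b)
    (hzero : ∀ (i : ι) (x : Bi i), φ i x = 0 → ∃ (j : ι) (h : i ≤ j), t i j h x = 0)
    (hid : ∀ (i : ι) (h : i ≤ i), t i i h = AlgHom.id A (Bi i))
    (htrans : ∀ (i j k : ι) (hij : i ≤ j) (hjk : j ≤ k), (t j k hjk).comp (t i j hij) = t i k (hij.trans hjk)) (d : ℕ) :
    (∀ z : SymTen.TS A B d, ∃ (i : ι) (y : SymTen.TS A (Bi i) d), SymTen.TSmap A d (φ i) y = z) ∧
      ∀ (i : ι) (y : SymTen.TS A (Bi i) d), SymTen.TSmap A d (φ i) y = 0 →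
        ∃ (j : ι) (h : i ≤ j), SymTen.TSmap A d (t i j h) y = 0 := by
  classical
  have hK := tmap_zero_exact Bi t φ hcomp hsurj hzero hid htrans d
  constructor
  · intro z
    obtain ⟨i, w, hw⟩ := exists_tmap_eq Bi t φ hcomp hsurj d z.1
    have h0 : ∀ σ : Equiv.Perm (Fin d), ∃ (j : ι) (hij : i ≤ j),
        SymTen.tmap A d (t i j hij)
          (PiTensorProduct.reindex A (fun _ : Fin d => Bi i) σ w - w) = 0 := by
      intro σ
      refine hK i _ ?_
      rw [map_sub, SymTen.tmap_reindex, hw, z.2 σ, sub_self]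
    choose j₀ hj₀ hw₀ using h0
    obtain ⟨j, hj⟩ := Finite.exists_le j₀
    obtain ⟨j', hj', hij'⟩ := exists_ge_ge j i
    have hmem : SymTen.tmap A d (t i j' hij') w ∈ SymTen.TS A (Bi j') d := by
      intro σ
      have h1 : SymTen.tmap A d (t i j' hij')
          (PiTensorProduct.reindex A (fun _ : Fin d => Bi i) σ w - w) = 0 := by
        have e := tmap_comp A d (t (j₀ σ) j' ((hj σ).trans hj')) (t i (j₀ σ) (hj₀ σ))
          (PiTensorProduct.reindex A (fun _ : Fin d => Bi i) σ w - w)
        rw [hw₀ σ, map_zero, htrans] at e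
        exact e.symm
      rw [map_sub, SymTen.tmap_reindex, sub_eq_zero] at h1
      exact h1
    refine ⟨j', ⟨_, hmem⟩, Subtype.ext ?_⟩
    show SymTen.tmap A d (φ j') (SymTen.tmap A d (t i j' hij') w) = z.1
    rw [tmap_comp, hcomp, hw]
  · intro i y hy
    have h1 : SymTen.tmap A d (φ i) y.1 = 0 := congrArg Subtype.val hy
    obtain ⟨j, hij, hj⟩ := hK i y.1 h1
    exact ⟨j, hij, Subtype.ext hj⟩

end Groth.Agent.S13728
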