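import Groth.Statements.S13729
import Groth.Agent.H68.TSGammaFlat
import Groth.Agent.H68.GammaUnique
import Groth.Agent.S14671

set_option autoImplicit false
universe u
open scoped TensorProduct
open ZeroCyc

namespace Groth.Agent.S13729

open Groth.Agent.H68.TSG Groth.Agent.H68.CR

/-- The symmetric tensors of a flat algebra form a flat module. -/
lemma flat_TS {A : Type u} [CommRing A] {B : Type u} [CommRing B] [Algebra A B] [Module.Flat A B]
    (d : ℕ) : Module.Flat A (SymTen.TS A B d) := by
  have h := Groth.Agent.S14671.result A B d
  let e : ↥(⨅ σ : Equiv.Perm (Fin d), LinearMap.eqLocus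
      (PiTensorProduct.reindex A (fun _ : Fin d => B) σ).toLinearMap LinearMap.id) ≃ₗ[A]
      SymTen.TS A B d :=
    { toFun := fun x => ⟨x.1, fun σ => by
        have := x.2
        rw [Submodule.mem_iInf] at this
        exact this σ⟩
      map_add' := fun _ _ => rfl
      map_smul' := fun _ _ => rfl
      invFun := fun x => ⟨x.1, by
        rw [Submodule.mem_iInf]
        intro σ
        exact x.2 σ⟩
      left_inv := fun _ => rfl
      right_inv := fun _ => rfl }
  exact Module.Flat.of_linearEquiv e.symm

/-- Let (C, γ) be the algebra of divided powers Γ^d_A(B) of a commutative A-algebra B with its universal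
multiplicative law γ : B → C homogeneous of degree d (every multiplicative law B → C' homogeneous of
degree d factors uniquely through γ by an algebra map C → C'). If B is flat over A then C = Γ^d_A(B)
is flat over A. (The published statement is that Γ^d(X/S) → S inherits flatness from X → S for any
separated algebraic space X over S; this row is the case X and S affine, where Γ^d(X/S) = Spec
Γ^d_A(B).) -/
theorem result {A : Type u} [CommRing A] {B : Type u} [CommRing B] [Algebra A B] {C : Type u} [CommRing C] [Algebra A C]
    {d : ℕ} (γ : PolLaw.MulLaw A B C d) (hγ : PolLaw.IsGammaD γ) [Module.Flat A B] :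
    Module.Flat A C := by
  obtain ⟨e, -⟩ := exists_algEquiv_of_isGammaD γ hγ (tau A B d) isGammaD_of_flat
  haveI := flat_TS (A := A) (B := B) d
  exact Module.Flat.of_linearEquiv e.toLinearEquiv

end Groth.Agent.S13729
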