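import Groth.Statements.S1373
import Groth.Agent.H24.UnivOpen

set_option autoImplicit false
universe u
open FlatMor

namespace Groth.Agent.S1373

open AlgebraicGeometry CategoryTheory Limits in
/-- (1) ⇔ (3): a morphism f : X → S is universally open if and only if for every n the induced morphism
from affine n-space over X to affine n-space over S is open. -/
theorem result {X S : Scheme.{u}} (f : X ⟶ S) :
    UniversallyOpen f ↔ ∀ n : ℕ, IsOpenMap ⇑(AffineSpace.map (ULift.{u} (Fin n)) f) := by
  constructor
  · intro hf n
    exact UniversallyOpen.universally_isOpenMap _ _ _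
      (AffineSpace.isPullback_map (n := ULift.{u} (Fin n)) f)
  · intro h
    apply Groth.Agent.H24.universallyOpen_of_forall_isOpenMap_affineSpace
    intro n _
    exact (Groth.Agent.H24.prop_iff_of_isPullback (topologically IsOpenMap) (Iso.refl _)
      (by rw [Iso.refl_hom, Category.id_comp])
      (IsPullback.of_hasPullback f (𝔸(ULift.{u} (Fin n); S) ↘ S))
      (AffineSpace.isPullback_map (n := ULift.{u} (Fin n)) f).flip).mpr (h n)

end Groth.Agent.S1373
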