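import Groth.Statements.S13731
-- import your own Groth.Agent.* helpers here
import Groth.Agent.H6.SubmSubtr

set_option autoImplicit false
universe u
open HTop

namespace Groth.Agent.S13731

open CategoryTheory CategoryTheory.Limits AlgebraicGeometry in
/-- Let X be a separated Noetherian scheme and {p_i : U_i → X} a finite family of separated morphisms of
finite type whose induced morphism from the disjoint union of the U_i to X is universally submersive
(an h-covering). Then every point x of X is p_i(u) for some i and some point u of U_i admitting a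
generization ξ in U_i whose image p_i(ξ) is a generic point of an irreducible component of X.
Equivalently, the irreducible components of the U_i dominating an irreducible component of X jointly
cover X. -/
theorem result {X : Scheme.{u}} [IsNoetherian X] [X.IsSeparated] (E : PreZeroHypercover.{u} X) [Finite E.I₀] [∀ i, LocallyOfFiniteType (E.f i)] [∀ i, QuasiCompact (E.f i)] [∀ i, IsSeparated (E.f i)] (hE : SGA1.UnivSubmersive (Sigma.desc E.f)) (x : X) : ∃ (i : E.I₀) (ξ u : E.X i), ξ ⤳ u ∧ E.f i u = x ∧ closure {E.f i ξ} ∈ irreducibleComponents ↥X := by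
  classical
  -- generic point of an irreducible component through `x`
  have hS : IsIrreducible (irreducibleComponent x) := isIrreducible_irreducibleComponent
  have hcl : IsClosed (irreducibleComponent x) := isClosed_irreducibleComponent
  have hgen := hS.isGenericPoint_genericPoint hcl
  have hηx : hS.genericPoint ⤳ x := by
    rw [specializes_iff_mem_closure, hgen.def]
    exact mem_irreducibleComponent
  have hsub := Groth.Agent.H6.SubmSubtr.isSSubtrusive_of_univSubmersive (Limits.Sigma.desc E.f) hE
  obtain ⟨u', ξ', hsp, hu', hξ'⟩ := hsub hηx
  obtain ⟨⟨i, u⟩, rfl⟩ := (sigmaMk E.X).surjective u'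
  rw [sigmaMk_mk] at hsp hu'
  have hopen : IsOpen (Set.range (Limits.Sigma.ι E.X i)) :=
    (Limits.Sigma.ι E.X i).isOpenEmbedding.isOpen_range
  obtain ⟨ξ, rfl⟩ := hsp.mem_open hopen ⟨u, rfl⟩
  refine ⟨i, ξ, u, ?_, ?_, ?_⟩
  · exact (Limits.Sigma.ι E.X i).isOpenEmbedding.isInducing.specializes_iff.mp hsp
  · rw [← hu', ← Scheme.Hom.comp_apply, Limits.Sigma.ι_desc]
  · have : E.f i ξ = hS.genericPoint := by
      rw [← hξ', ← Scheme.Hom.comp_apply, Limits.Sigma.ι_desc]
    rw [this, hgen.def]
    exact irreducibleComponent_mem_irreducibleComponents x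

end Groth.Agent.S13731
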