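import Groth.Statements.S1374
import Groth.Agent.H68.SpecFibSch
-- import your own Groth.Agent.* helpers here

set_option autoImplicit false
universe u
open FlatMor

namespace Groth.Agent.S1374

open AlgebraicGeometry CategoryTheory Limits in
/-- Let f : X ⟶ S be locally of finite type and x ⤳ x' a specialization of points of X, with x' a closed
point of its fibre f⁻¹(f(x')) and f(x) ≠ f(x'). Then the points x₁ with f(x₁) = f(x) which are
closed in the fibre f⁻¹(f(x)) and satisfy x ⤳ x₁ ⤳ x' are dense in the closure of {x} intersected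
with the fibre f⁻¹(f(x)) (fibres taken as subspaces of X). (The published statement omits the
condition f(x) ≠ f(x'), but the claim fails without it; it is stated here with that condition.) -/
theorem result {X S : Scheme.{u}} (f : X ⟶ S) [LocallyOfFiniteType f] (x x' : X) (hsp : x ⤳ x') (hne : f x ≠ f x')
    (hcl : IsClosed (Subtype.val ⁻¹' {x'} : Set ↑(f ⁻¹' {f x'}))) :
    Dense (Subtype.val ⁻¹' {x₁ : ↑X | f x₁ = f x ∧ IsClosed (Subtype.val ⁻¹' {x₁} : Set ↑(f ⁻¹' {f x})) ∧ x ⤳ x₁ ∧ x₁ ⤳ x'} :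
      Set ↑(closure {x} ∩ f ⁻¹' {f x})) := by
  rw [dense_iff_inter_open]
  rintro O hO ⟨z, hzO⟩
  obtain ⟨V, hV, rfl⟩ := isOpen_induced_iff.mp hO
  have hzV : z.1 ∈ V := hzO
  have hxV : x ∈ V := by
    have hz : z.1 ∈ closure {x} := z.2.1
    obtain ⟨y, hyV, hy⟩ := mem_closure_iff.mp hz V hV hzV
    rw [Set.mem_singleton_iff] at hy
    exact hy ▸ hyV
  obtain ⟨x₁, hx₁V, hfx₁, hx₁cl, hxx₁, hx₁x'⟩ :=
    Groth.Agent.H68.SF.exists_closed_point_between f x x' hsp hne hcl V hV hxV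
  exact ⟨⟨x₁, hxx₁.mem_closure, hfx₁⟩, hx₁V, hfx₁, hx₁cl, hxx₁, hx₁x'⟩

end Groth.Agent.S1374
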