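import Groth.Statements.S13757
import Mathlib.Algebra.Order.BigOperators.Ring.Finset
import Mathlib.Tactic

set_option autoImplicit false
universe u
open LabGraph

namespace Groth.Agent.S13757

/-- Let G be a finite connected multigraph (loops and multiple edges allowed) with vertex set V, edge
set E, endpoint map E → V × V and a labelling of the edges by positive integers l. A vertex
labelling φ : V → ℤ is Cartier when l(e) divides the difference of the values of φ at the two
endpoints of every edge e; its multidegree is the vertex labelling whose value at v is the sum, over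
the edge-ends at v, of (value of φ at the other endpoint − φ(v)) / l(e). Then the Cartier vertex
labellings of multidegree zero are exactly the constant ones: the kernel of the multidegree operator
on Cartier labellings is ℤ, embedded as the constants. -/
theorem result
    {V E : Type u} [Fintype V] [Fintype E] [DecidableEq V] [DecidableEq E]
    (ends : E → V × V) (l : E → ℕ) (hl : ∀ e, 0 < l e) (hconn : LabGraph.Connected ends)
    (φ : V → ℤ) (hφ : LabGraph.IsCartier ends l φ) :
    (∀ v : V, LabGraph.mdeg ends l φ v = 0) ↔ ∀ v w : V, φ v = φ w := by
  constructor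
  · intro h
    -- the exact quotients
    have hq : ∀ e : E, ∃ q : ℤ, φ (ends e).2 - φ (ends e).1 = (l e : ℤ) * q := by
      intro e
      obtain ⟨c, hc⟩ := hφ e
      exact ⟨-c, by rw [mul_neg, ← hc]; ring⟩
    choose q hq using hq
    have hl' : ∀ e, (l e : ℤ) ≠ 0 := fun e => by
      have := hl e
      exact_mod_cast this.ne'
    have hd1 : ∀ e, (φ (ends e).2 - φ (ends e).1) / (l e : ℤ) = q e := by
      intro e
      rw [hq e, Int.mul_ediv_cancel_left _ (hl' e)]
    have hd2 : ∀ e, (φ (ends e).1 - φ (ends e).2) / (l e : ℤ) = - q e := by
      intro e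
      have : φ (ends e).1 - φ (ends e).2 = (l e : ℤ) * (- q e) := by
        rw [mul_neg, ← hq e]; ring
      rw [this, Int.mul_ediv_cancel_left _ (hl' e)]
    -- the energy identity
    have hsum : ∑ v : V, φ v * LabGraph.mdeg ends l φ v = - ∑ e : E, (l e : ℤ) * (q e) ^ 2 := by
      unfold LabGraph.mdeg
      simp_rw [Finset.mul_sum]
      rw [Finset.sum_comm, ← Finset.sum_neg_distrib]
      refine Finset.sum_congr rfl (fun e _ => ?_)
      simp_rw [hd1 e, hd2 e, mul_add, mul_ite, mul_zero]
      rw [Finset.sum_add_distrib, Finset.sum_ite_eq, Finset.sum_ite_eq]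
      simp only [Finset.mem_univ, if_true]
      have := hq e
      calc φ (ends e).1 * q e + φ (ends e).2 * -q e
          = - ((φ (ends e).2 - φ (ends e).1) * q e) := by ring
        _ = -((l e : ℤ) * q e ^ 2) := by rw [this]; ring
    have hzero : ∑ e : E, (l e : ℤ) * (q e) ^ 2 = 0 := by
      have : ∑ v : V, φ v * LabGraph.mdeg ends l φ v = 0 := by
        simp [h]
      rw [hsum] at this
      linarith
    have hq0 : ∀ e, q e = 0 := by
      intro e
      have hnn : ∀ e' ∈ (Finset.univ : Finset E), 0 ≤ (l e' : ℤ) * (q e') ^ 2 := by
        intro e' _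
        positivity
      have := (Finset.sum_eq_zero_iff_of_nonneg hnn).1 hzero e (Finset.mem_univ e)
      rcases mul_eq_zero.1 this with h1 | h1
      · exact absurd h1 (hl' e)
      · exact pow_eq_zero_iff (by norm_num) |>.1 h1
    have hedge : ∀ e, φ (ends e).1 = φ (ends e).2 := by
      intro e
      have := hq e
      rw [hq0 e, mul_zero] at this
      linarith
    have hadj : ∀ v w, LabGraph.Adj ends v w → φ v = φ w := by
      rintro v w ⟨e, he | he⟩
      · have := hedge e; rw [he] at this; exact this
      · have := hedge e; rw [he] at this; exact this.symm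
    intro v w
    have := hconn.2 v w
    induction this with
    | refl => rfl
    | tail _ hbc ih => exact ih.trans (hadj _ _ hbc)
  · intro h v
    unfold LabGraph.mdeg
    refine Finset.sum_eq_zero (fun e _ => ?_)
    rw [h (ends e).2 (ends e).1]
    simp

end Groth.Agent.S13757
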