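import Groth.Statements.S13771
import Groth.Agent.H69.PLieBasic

set_option autoImplicit false
universe u v w
open PLie

namespace Groth.Agent.S13771

/-- Let R be a commutative ring of prime characteristic p, L₁ and L₂ Lie algebras over R, φ a p-mapping
on L₁ and f : L₁ → L₂ a morphism of Lie algebras whose kernel is stable under φ (a p-ideal). Then
the image f(L₁), a Lie subalgebra of L₂, carries exactly one p-mapping ψ for which the corestriction
of f to its image is a morphism of p-Lie algebras, i.e. ψ (f x) = f (φ x) for all x. -/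
theorem result (R : Type u) [CommRing R] (p : ℕ) [Fact p.Prime] [CharP R p]
    (L₁ : Type v) [LieRing L₁] [LieAlgebra R L₁] (L₂ : Type w) [LieRing L₂] [LieAlgebra R L₂]
    (φ : PLie.PMap R p L₁) (f : L₁ →ₗ⁅R⁆ L₂) (hker : ∀ x : L₁, f x = 0 → f (φ x) = 0) :
    ∃! ψ : PLie.PMap R p f.range, PLie.IsPHom φ ψ f.rangeRestrict := by
  classical
  have hp : p ≠ 0 := (Fact.out : p.Prime).ne_zero
  have hwd : ∀ x x' : L₁, f x = f x' → f (φ x) = f (φ x') := by
    intro x x' h
    have hk : f (x' - x) = 0 := by rw [map_sub, h, sub_self]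
    have hx' : x' = x + (x' - x) := by abel
    rw [hx', φ.map_add, map_sub, map_add, hker _ hk, Groth.Agent.H69.jacobson_map, hk,
      Groth.Agent.H69.jacobson_zero_right]
    simp
  have hsurj : Function.Surjective f.rangeRestrict := f.surjective_rangeRestrict
  let F : f.range → f.range := fun y => f.rangeRestrict (φ (Classical.choose (hsurj y)))
  have hF : ∀ x, F (f.rangeRestrict x) = f.rangeRestrict (φ x) := by
    intro x
    apply Subtype.ext
    show f (φ _) = f (φ x)
    apply hwd
    have := Classical.choose_spec (hsurj (f.rangeRestrict x))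
    exact congrArg Subtype.val this
  let ψ : PLie.PMap R p f.range :=
    { toFun := F
      map_smul := by
        intro c y
        obtain ⟨x, rfl⟩ := hsurj y
        rw [← map_smul, hF, hF, φ.map_smul, map_smul]
      ad_map := by
        intro y
        obtain ⟨x, rfl⟩ := hsurj y
        ext z
        obtain ⟨w, rfl⟩ := hsurj z
        rw [hF, ← Groth.Agent.H69.lieHom_ad_pow, LieAlgebra.ad_apply, ← LieHom.map_lie,
          ← LieAlgebra.ad_apply (R := R), φ.ad_map]
      map_add := by
        intro y₀ y₁
        obtain ⟨x₀, rfl⟩ := hsurj y₀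
        obtain ⟨x₁, rfl⟩ := hsurj y₁
        rw [← map_add, hF, hF, hF, φ.map_add, map_sub, map_add, Groth.Agent.H69.jacobson_map] }
  refine ⟨ψ, fun x => (hF x).symm, ?_⟩
  intro ψ' hψ'
  apply Groth.Agent.H69.PMap_ext
  intro y
  obtain ⟨x, rfl⟩ := hsurj y
  rw [← hψ' x]
  exact (hF x).symm

end Groth.Agent.S13771
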