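import Groth.Statements.S13775
import Mathlib.Tactic

set_option autoImplicit false
universe u v
open PLie

namespace Groth.Agent.S13775

/-- Let R be a commutative ring of prime characteristic p and L a Lie algebra over R, free as a module
with basis x = bs 0, y = bs 1, z = bs 2 and brackets [x,y] = y, [x,z] = y + z, [y,z] = 0. Then L
carries no p-mapping. (The published statement is the corresponding entry of the classification
table of three-dimensional Lie algebras over an algebraically closed field of characteristic p; this
row states it over every commutative ring of characteristic p.) -/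
theorem result (R : Type u) [CommRing R] (p : ℕ) [Fact p.Prime] [CharP R p]
    (L : Type v) [LieRing L] [LieAlgebra R L] (bs : Module.Basis (Fin 3) R L)
    (hxy : ⁅bs 0, bs 1⁆ = bs 1) (hxz : ⁅bs 0, bs 2⁆ = bs 1 + bs 2) (hyz : ⁅bs 1, bs 2⁆ = 0) :
    IsEmpty (PLie.PMap R p L) := by
  classical
  constructor
  intro φ
  have hp : p.Prime := Fact.out
  have : Nontrivial R := CharP.nontrivial_of_char_ne_one (R := R) (v := p) hp.ne_one
  have hpow : ∀ n : ℕ, (LieAlgebra.ad R L (bs 0) ^ n) (bs 2) = bs 2 + (n : R) • bs 1 := by
    intro n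
    induction n with
    | zero => simp
    | succ n ih =>
      rw [pow_succ', Module.End.mul_apply, ih, LieAlgebra.ad_apply, lie_add, lie_smul, hxz, hxy]
      push_cast
      module
  have h1 : ⁅φ (bs 0), bs 2⁆ = bs 2 := by
    rw [← LieAlgebra.ad_apply (R := R), φ.ad_map, hpow, CharP.cast_eq_zero, zero_smul, add_zero]
  have h2 : φ (bs 0) = bs.repr (φ (bs 0)) 0 • bs 0 + bs.repr (φ (bs 0)) 1 • bs 1 +
      bs.repr (φ (bs 0)) 2 • bs 2 := by
    conv_lhs => rw [← bs.sum_repr (φ (bs 0))]
    rw [Fin.sum_univ_three]
  rw [h2, add_lie, add_lie, smul_lie, smul_lie, smul_lie, hxz, hyz, lie_self, smul_zero, smul_zero,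
    add_zero, add_zero] at h1
  have h3 := congrArg (fun v => bs.repr v 1) h1
  have h4 := congrArg (fun v => bs.repr v 2) h1
  simp at h3 h4
  rw [h3] at h4
  exact zero_ne_one h4

end Groth.Agent.S13775
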