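import Groth.Statements.S13776
import Groth.Agent.H83.PLieRestrict

set_option autoImplicit false
universe u v
open PLie

namespace Groth.Agent.S13776

/-- Let R be a commutative ring of prime characteristic p, t ∈ R, and L a Lie algebra over R, free as a
module with basis x = bs 0, y = bs 1, z = bs 2 and brackets [x,y] = y, [x,z] = t • z, [y,z] = 0.
Then L carries a p-mapping if and only if t ^ p = t. (The published statement is the corresponding
entry of the classification table over an algebraically closed field of characteristic p, where the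
condition reads: t lies in the prime field; this row states it over every commutative ring of
characteristic p.) -/
theorem result (R : Type u) [CommRing R] (p : ℕ) [Fact p.Prime] [CharP R p] (t : R)
    (L : Type v) [LieRing L] [LieAlgebra R L] (bs : Module.Basis (Fin 3) R L)
    (hxy : ⁅bs 0, bs 1⁆ = bs 1) (hxz : ⁅bs 0, bs 2⁆ = t • bs 2) (hyz : ⁅bs 1, bs 2⁆ = 0) :
    Nonempty (PLie.PMap R p L) ↔ t ^ p = t := by
    have hpp : p.Prime := Fact.out
    have hp2 : 2 ≤ p := hpp.two_le
    have hyx : ⁅bs 1, bs 0⁆ = -bs 1 := by rw [← lie_skew, hxy]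
    have hzx : ⁅bs 2, bs 0⁆ = -(t • bs 2) := by rw [← lie_skew, hxz]
    have hzy : ⁅bs 2, bs 1⁆ = 0 := by rw [← lie_skew, hyz, neg_zero]
    have hXy : ∀ n : ℕ, (LieAlgebra.ad R L (bs 0) ^ n) (bs 1) = bs 1 := by
      intro n
      induction n with
      | zero => simp
      | succ n ih => rw [pow_succ, Module.End.mul_apply, LieAlgebra.ad_apply, hxy, ih]
    have hXz : ∀ n : ℕ, (LieAlgebra.ad R L (bs 0) ^ n) (bs 2) = t ^ n • bs 2 := by
      intro n
      induction n with
      | zero => simp
      | succ n ih =>
        rw [pow_succ, Module.End.mul_apply, LieAlgebra.ad_apply, hxz, map_smul, ih, smul_smul,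
          pow_succ']
    have hXx : ∀ n : ℕ, (LieAlgebra.ad R L (bs 0) ^ (n + 1)) (bs 0) = 0 := by
      intro n
      rw [pow_succ, Module.End.mul_apply, LieAlgebra.ad_apply, lie_self, map_zero]
    constructor
    · rintro ⟨φ⟩
      have h := φ.ad_map (bs 0)
      set w := φ.toFun (bs 0) with hwdef
      have hw : w = bs.repr w 0 • bs 0 + bs.repr w 1 • bs 1 + bs.repr w 2 • bs 2 := by
        have h0 := bs.sum_repr w
        rw [Fin.sum_univ_three] at h0
        exact h0.symm
      have h1 := LinearMap.congr_fun h (bs 1)
      have h2 := LinearMap.congr_fun h (bs 2)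
      rw [hXy, LieAlgebra.ad_apply, hw, add_lie, add_lie, smul_lie, smul_lie, smul_lie, hxy,
        lie_self, hzy, smul_zero, smul_zero, add_zero, add_zero] at h1
      rw [hXz, LieAlgebra.ad_apply, hw, add_lie, add_lie, smul_lie, smul_lie, smul_lie, hxz,
        lie_self, hyz, smul_zero, smul_zero, add_zero, add_zero, smul_smul] at h2
      have h3 : bs.repr w 0 = 1 := by
        have := congrArg (fun v => bs.repr v 1) h1
        simpa using this
      have h4 := congrArg (fun v => bs.repr v 2) h2
      rw [h3, one_mul] at h4
      simpa using h4.symm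
    · intro ht
      have hY2 : LieAlgebra.ad R L (bs 1) ^ 2 = 0 := by
        apply bs.ext
        intro i
        fin_cases i <;>
          simp [pow_two, LieAlgebra.ad_apply, hyx, hyz]
      have hZ2 : LieAlgebra.ad R L (bs 2) ^ 2 = 0 := by
        apply bs.ext
        intro i
        fin_cases i <;>
          simp [pow_two, LieAlgebra.ad_apply, hzx, hzy]
      have hYp : LieAlgebra.ad R L (bs 1) ^ p = 0 := by
        have : p = (p - 2) + 2 := by omega
        rw [this, pow_add, hY2, mul_zero]
      have hZp : LieAlgebra.ad R L (bs 2) ^ p = 0 := by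
        have : p = (p - 2) + 2 := by omega
        rw [this, pow_add, hZ2, mul_zero]
      have hXp : LieAlgebra.ad R L (bs 0) ^ p = LieAlgebra.ad R L (bs 0) := by
        apply bs.ext
        intro i
        fin_cases i
        · obtain ⟨n, hn⟩ : ∃ n, p = n + 1 := ⟨p - 1, by omega⟩
          simp only [Fin.zero_eta, Fin.isValue]
          rw [hn, hXx, LieAlgebra.ad_apply, lie_self]
        · simp only [Fin.mk_one, Fin.isValue]
          rw [hXy, LieAlgebra.ad_apply, hxy]
        · simp only [Fin.reduceFinMk, Fin.isValue]
          rw [hXz, ht, LieAlgebra.ad_apply, hxz]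
      let y : Fin 3 → L := ![bs 0, 0, 0]
      have hy : ∀ i : Fin 3, LieAlgebra.ad R L (bs i) ^ p = LieAlgebra.ad R L (y i) := by
        intro i
        fin_cases i
        · exact hXp
        · simp [y, hYp]
        · simp [y, hZp]
      obtain ⟨φ, -⟩ := Groth.Agent.H83.exists_pmap_of_basis R p bs y hy
      exact ⟨φ⟩

end Groth.Agent.S13776
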