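import Groth.Statements.S13778
import Groth.Agent.H83.PLieMatrix

set_option autoImplicit false
universe u v
open PLie

namespace Groth.Agent.S13778

open DualNumber in
/-- Let K be a field of prime characteristic p, K[ε] the ring of dual numbers (taken with its
characteristic-p structure), t ∈ K with t ^ p = t (an element of the prime field), and a, …, i ∈ K.
Let L be a Lie algebra over K[ε], free as a module with basis x = bs 0, y = bs 1, z = bs 2 and
brackets [x,y] = aε x + (1 + bε) y + cε z, [x,z] = dε x + eε y + (t + fε) z, [y,z] = gε x + hε y +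
iε z. Then L carries a p-mapping over K[ε] if and only if b t = f, c = e = 0 when t = 1, and g = 0
when p = 2. (The published statement determines the singular locus of the restrictable locus in the
centreless stratum of the moduli scheme of based three-dimensional Lie algebras, for t non-zero, and
the rank-one-centre stratum treats t = 0; this row states the restrictability criterion for the
first-order deformations of l_t that the proofs compute, over any field of characteristic p in place
of the prime field and for every t in the prime field.) -/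
theorem result (K : Type u) [Field K] (p : ℕ) [Fact p.Prime] [CharP K p]
    [CharP (DualNumber K) p] (t a b c d e f g h i : K) (ht : t ^ p = t)
    (L : Type v) [LieRing L] [LieAlgebra (DualNumber K) L] (bs : Module.Basis (Fin 3) (DualNumber K) L)
    (hxy : ⁅bs 0, bs 1⁆ = (a • ε : DualNumber K) • bs 0 + (1 + b • ε : DualNumber K) • bs 1 + (c • ε : DualNumber K) • bs 2)
    (hxz : ⁅bs 0, bs 2⁆ = (d • ε : DualNumber K) • bs 0 + (e • ε : DualNumber K) • bs 1 +
      (algebraMap K (DualNumber K) t + f • ε) • bs 2)
    (hyz : ⁅bs 1, bs 2⁆ = (g • ε : DualNumber K) • bs 0 + (h • ε : DualNumber K) • bs 1 + (i • ε : DualNumber K) • bs 2) :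
    Nonempty (PLie.PMap (DualNumber K) p L) ↔ (b * t = f ∧ (t = 1 → c = 0 ∧ e = 0) ∧ (p = 2 → g = 0)) := by
    classical
    have hpp : p.Prime := Fact.out
    have h2p : 2 ≤ p := hpp.two_le
    rw [TrivSqZeroExt.algebraMap_eq_inl] at hxz
    have hyx : ⁅bs 1, bs 0⁆ = -⁅bs 0, bs 1⁆ := (lie_skew _ _).symm
    have hzx : ⁅bs 2, bs 0⁆ = -⁅bs 0, bs 2⁆ := (lie_skew _ _).symm
    have hzy : ⁅bs 2, bs 1⁆ = -⁅bs 1, bs 2⁆ := (lie_skew _ _).symm
    have hM0 : Groth.Agent.H83.adMat (DualNumber K) bs 0 =
        !![0, a • ε, d • ε; 0, 1 + b • ε, e • ε; 0, c • ε, TrivSqZeroExt.inl t + f • ε] := by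
      refine Matrix.ext fun r s => ?_
      fin_cases r <;> fin_cases s <;> simp [Groth.Agent.H83.adMat_apply, hxy, hxz]
    have hM1 : Groth.Agent.H83.adMat (DualNumber K) bs 1 =
        !![-(a • ε), 0, g • ε; -(1 + b • ε), 0, h • ε; -(c • ε), 0, i • ε] := by
      refine Matrix.ext fun r s => ?_
      fin_cases r <;> fin_cases s <;> simp [Groth.Agent.H83.adMat_apply, hyx, hxy, hyz]
    have hM2 : Groth.Agent.H83.adMat (DualNumber K) bs 2 =
        !![-(d • ε), -(g • ε), 0; -(e • ε), -(h • ε), 0; -(TrivSqZeroExt.inl t + f • ε), -(i • ε), 0] := by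
      refine Matrix.ext fun r s => ?_
      fin_cases r <;> fin_cases s <;> simp [Groth.Agent.H83.adMat_apply, hzx, hzy, hxz, hyz]
    have hS1 : Groth.Agent.H83.adMat (DualNumber K) bs 1 ^ 2 = !![0, 0, 0; a • ε, 0, -(g • ε); 0, 0, 0] := by
      rw [hM1, pow_two, Matrix.mul_fin_three]
      refine Matrix.ext fun r s => ?_
      fin_cases r <;> fin_cases s <;> simp <;> ext <;> simp <;> ring
    have hS2 : Groth.Agent.H83.adMat (DualNumber K) bs 2 ^ 2 =
        !![0, 0, 0; 0, 0, 0; (d * t) • ε, (g * t) • ε, 0] := by
      rw [hM2, pow_two, Matrix.mul_fin_three]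
      refine Matrix.ext fun r s => ?_
      fin_cases r <;> fin_cases s <;> simp <;> ext <;> simp <;> ring
    have hC1 : Groth.Agent.H83.adMat (DualNumber K) bs 1 ^ 3 = 0 := by
      rw [pow_succ, hS1, hM1, Matrix.mul_fin_three]
      refine Matrix.ext fun r s => ?_
      fin_cases r <;> fin_cases s <;> simp <;> ext <;> simp
    have hC2 : Groth.Agent.H83.adMat (DualNumber K) bs 2 ^ 3 = 0 := by
      rw [pow_succ, hS2, hM2, Matrix.mul_fin_three]
      refine Matrix.ext fun r s => ?_
      fin_cases r <;> fin_cases s <;> simp <;> ext <;> simp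
    have hJ : d = t * h := by
      have hJ := leibniz_lie (bs 0) (bs 1) (bs 2)
      rw [hyz, hxy, hxz] at hJ
      have hJ0 := congrArg (fun v => TrivSqZeroExt.snd (bs.repr v 1)) hJ
      simp [lie_add, add_lie, lie_smul, smul_lie, hxy, hxz, hyz, hzy, hzx, hyx] at hJ0
      linear_combination (-1 : K) * hJ0
    set G : ℕ → K := fun n => ∑ j ∈ Finset.range n, t ^ j with hG
    have hG1 : ∀ n, G (n + 1) = G n + t ^ n := fun n => Finset.sum_range_succ _ _
    have hG2 : ∀ n, G (n + 1) = t * G n + 1 := fun n => geom_sum_succ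
    have hG0 : G 0 = 0 := by simp [hG]
    have hPow : ∀ n : ℕ, Groth.Agent.H83.adMat (DualNumber K) bs 0 ^ (n + 1) =
        !![0, a • ε, (d * t ^ n) • ε;
           0, 1 + (((n + 1 : ℕ) : K) * b) • ε, (e * G (n + 1)) • ε;
           0, (c * G (n + 1)) • ε, TrivSqZeroExt.inl (t ^ (n + 1)) + (((n + 1 : ℕ) : K) * f * t ^ n) • ε] := by
      intro n
      induction n with
      | zero =>
        rw [hM0]
        refine Matrix.ext fun r s => ?_
        fin_cases r <;> fin_cases s <;> simp [hG2, hG0]
      | succ n ih =>
        rw [pow_succ, ih, hM0, Matrix.mul_fin_three]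
        refine Matrix.ext fun r s => ?_
        fin_cases r <;> fin_cases s <;> simp <;> ext <;> simp <;>
          first | ring1 | (rw [hG2 (n + 1)]; ring1) | (rw [hG1 (n + 1)]; ring1)
    obtain ⟨n, hn⟩ : ∃ n, p = n + 1 := ⟨p - 1, by omega⟩
    have hcast : ((n + 1 : ℕ) : K) = 0 := by rw [← hn]; exact CharP.cast_eq_zero K p
    have htn : t ^ (n + 1) = t := by rw [← hn]; exact ht
    have hGp : t ≠ 1 → G (n + 1) = 1 := by
      intro h1
      have h2 : G (n + 1) * (t - 1) = t ^ (n + 1) - 1 := geom_sum_mul t (n + 1)
      rw [htn] at h2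
      have h3 : t - 1 ≠ 0 := sub_ne_zero.mpr h1
      exact mul_right_cancel₀ h3 (by rw [h2, one_mul])
    have hGp1 : t = 1 → G (n + 1) = 0 := by
      intro h1
      simp only [hG, h1, one_pow, Finset.sum_const, Finset.card_range, nsmul_eq_mul, mul_one]
      exact hcast
    have hdt : d * t ^ n = d := by
      rw [hJ, mul_assoc, mul_comm h, ← mul_assoc, ← pow_succ', htn]
    have hP : Groth.Agent.H83.adMat (DualNumber K) bs 0 ^ p =
        !![0, a • ε, d • ε; 0, 1, (e * G (n + 1)) • ε; 0, (c * G (n + 1)) • ε, TrivSqZeroExt.inl t] := by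
      rw [hn, hPow n, hcast, htn, hdt]
      simp
    rw [Groth.Agent.H83.nonempty_pmap_iff_matrix (DualNumber K) p bs]
    constructor
    · intro H
      obtain ⟨c0, h0⟩ := H 0
      rw [hP, Fin.sum_univ_three, hM0, hM1, hM2] at h0
      have e11f := congrArg TrivSqZeroExt.fst (congrFun (congrFun h0 1) 1)
      have e10f := congrArg TrivSqZeroExt.fst (congrFun (congrFun h0 1) 0)
      have e20f := congrArg TrivSqZeroExt.fst (congrFun (congrFun h0 2) 0)
      have e11s := congrArg TrivSqZeroExt.snd (congrFun (congrFun h0 1) 1)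
      have e22s := congrArg TrivSqZeroExt.snd (congrFun (congrFun h0 2) 2)
      have e21s := congrArg TrivSqZeroExt.snd (congrFun (congrFun h0 2) 1)
      have e12s := congrArg TrivSqZeroExt.snd (congrFun (congrFun h0 1) 2)
      simp at e11f e10f e20f e11s e22s e21s e12s
      have e20 : t * TrivSqZeroExt.fst (c0 2) = 0 := by
        rcases e20f with h' | h' <;> simp [h']
      refine ⟨?_, ?_, ?_⟩
      · linear_combination (-t) * e11s + e22s + (b * t - f) * e11f + h * e20 + i * e10f
      · intro h1
        rw [hGp1 h1] at e21s e12s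
        rw [h1, one_mul] at e20
        rw [e20, ← e11f] at e21s
        rw [e10f, ← e11f] at e12s
        constructor
        · simpa using e21s.symm
        · simpa using e12s.symm
      · intro hp2
        obtain ⟨c1, h1⟩ := H 1
        rw [hp2, hS1, Fin.sum_univ_three, hM0, hM1, hM2] at h1
        have k11f := congrArg TrivSqZeroExt.fst (congrFun (congrFun h1 1) 1)
        have k10f := congrArg TrivSqZeroExt.fst (congrFun (congrFun h1 1) 0)
        have k12s := congrArg TrivSqZeroExt.snd (congrFun (congrFun h1 1) 2)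
        simp at k11f k10f k12s
        rw [← k11f, k10f] at k12s
        simpa using k12s
    · rintro ⟨hbt, ht1, hp2⟩ i'
      have hzero : ∀ M : Matrix (Fin 3) (Fin 3) (DualNumber K), M = 0 →
          ∃ c' : Fin 3 → DualNumber K, M = ∑ j, c' j • Groth.Agent.H83.adMat (DualNumber K) bs j :=
        fun M hM => ⟨0, by simp [hM]⟩
      have hpow : 3 ≤ p → ∀ M : Matrix (Fin 3) (Fin 3) (DualNumber K), M ^ 3 = 0 → M ^ p = 0 := by
        intro h3 M hM
        have : p = 3 + (p - 3) := by omega
        rw [this, pow_add, hM, zero_mul]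
      have hcG : c * G (n + 1) = c := by
        by_cases h1 : t = 1
        · rw [(ht1 h1).1, zero_mul]
        · rw [hGp h1, mul_one]
      have heG : e * G (n + 1) = e := by
        by_cases h1 : t = 1
        · rw [(ht1 h1).2, zero_mul]
        · rw [hGp h1, mul_one]
      rw [hcG, heG] at hP
      subst hbt
      fin_cases i'
      · refine ⟨![1 - b • ε, 0, 0], ?_⟩
        simp only [Fin.zero_eta, Fin.isValue]
        rw [hP, Fin.sum_univ_three, hM0, hM1, hM2]
        refine Matrix.ext fun r s => ?_
        fin_cases r <;> fin_cases s <;> simp <;> ext <;> simp <;> ring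
      · simp only [Fin.mk_one, Fin.isValue]
        rcases Nat.lt_or_ge p 3 with hp3 | hp3
        · have hp2' : p = 2 := by omega
          have hg := hp2 hp2'
          subst hg
          refine ⟨![0, -(a • ε), 0], ?_⟩
          rw [hp2', hS1, Fin.sum_univ_three, hM0, hM1, hM2]
          refine Matrix.ext fun r s => ?_
          fin_cases r <;> fin_cases s <;> simp <;> ext <;> simp
        · exact hzero _ (hpow hp3 _ hC1)
      · simp only [Fin.reduceFinMk, Fin.isValue]
        rcases Nat.lt_or_ge p 3 with hp3 | hp3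
        · have hp2' : p = 2 := by omega
          have hg := hp2 hp2'
          subst hg
          refine ⟨![0, 0, -(d • ε)], ?_⟩
          rw [hp2', hS2, Fin.sum_univ_three, hM0, hM1, hM2]
          refine Matrix.ext fun r s => ?_
          fin_cases r <;> fin_cases s <;> simp <;> ext <;> simp
        · exact hzero _ (hpow hp3 _ hC2)

end Groth.Agent.S13778
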