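import Groth.Statements.S13779
import Groth.Agent.H83.PLieRestrict

set_option autoImplicit false
universe u v
open PLie

namespace Groth.Agent.S13779

/-- Let p be an odd prime, R a commutative ring of characteristic p, t ∈ R, and L a Lie algebra over R,
free as a module with basis x = bs 0, y = bs 1, z = bs 2 and brackets [x,y] = z, [x,z] = t • y,
[y,z] = 0. Then L carries a p-mapping φ with φ x = t ^ ((p - 1) / 2) • x, φ y = 0 and φ z = 0. (The
published statement concerns the Lie algebra with these brackets over a field of Laurent series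
k((t)), k algebraically closed of odd characteristic, t the variable; this row states its
restrictability over every commutative ring of odd prime characteristic and every t.) -/
theorem result (R : Type u) [CommRing R] (p : ℕ) [Fact p.Prime] [CharP R p] (hp : p ≠ 2)
    (t : R) (L : Type v) [LieRing L] [LieAlgebra R L] (bs : Module.Basis (Fin 3) R L)
    (hxy : ⁅bs 0, bs 1⁆ = bs 2) (hxz : ⁅bs 0, bs 2⁆ = t • bs 1) (hyz : ⁅bs 1, bs 2⁆ = 0) :
    ∃ φ : PLie.PMap R p L, φ (bs 0) = t ^ ((p - 1) / 2) • bs 0 ∧ φ (bs 1) = 0 ∧ φ (bs 2) = 0 := by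
    have hpp : p.Prime := Fact.out
    have hp2 : 2 ≤ p := hpp.two_le
    obtain ⟨m, hm⟩ : ∃ m, p = 2 * m + 1 := by
      rcases hpp.eq_two_or_odd' with h | h
      · exact absurd h hp
      · obtain ⟨m, hm⟩ := h
        exact ⟨m, hm⟩
    have hm' : (p - 1) / 2 = m := by omega
    -- brackets in the other order
    have hyx : ⁅bs 1, bs 0⁆ = -bs 2 := by rw [← lie_skew, hxy]
    have hzx : ⁅bs 2, bs 0⁆ = -(t • bs 1) := by rw [← lie_skew, hxz]
    have hzy : ⁅bs 2, bs 1⁆ = 0 := by rw [← lie_skew, hyz, neg_zero]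
    -- squares of `ad y`, `ad z`
    have hY2 : LieAlgebra.ad R L (bs 1) ^ 2 = 0 := by
      apply bs.ext
      intro i
      fin_cases i <;>
        simp [pow_two, LieAlgebra.ad_apply, hyx, hyz, hzy]
    have hZ2 : LieAlgebra.ad R L (bs 2) ^ 2 = 0 := by
      apply bs.ext
      intro i
      fin_cases i <;>
        simp [pow_two, LieAlgebra.ad_apply, hzx, hzy, hyz]
    have hYp : LieAlgebra.ad R L (bs 1) ^ p = 0 := by
      have : p = (p - 2) + 2 := by omega
      rw [this, pow_add, hY2, mul_zero]
    have hZp : LieAlgebra.ad R L (bs 2) ^ p = 0 := by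
      have : p = (p - 2) + 2 := by omega
      rw [this, pow_add, hZ2, mul_zero]
    -- powers of `ad x`
    have hX2y : (LieAlgebra.ad R L (bs 0) ^ 2) (bs 1) = t • bs 1 := by
      simp [pow_two, LieAlgebra.ad_apply, hxy, hxz]
    have hX2z : (LieAlgebra.ad R L (bs 0) ^ 2) (bs 2) = t • bs 2 := by
      simp [pow_two, LieAlgebra.ad_apply, hxy, hxz]
    have hXy : ∀ n : ℕ, ((LieAlgebra.ad R L (bs 0) ^ 2) ^ n) (bs 1) = t ^ n • bs 1 := by
      intro n
      induction n with
      | zero => simp
      | succ n ih => rw [pow_succ, Module.End.mul_apply, hX2y, map_smul, ih, smul_smul, pow_succ']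
    have hXz : ∀ n : ℕ, ((LieAlgebra.ad R L (bs 0) ^ 2) ^ n) (bs 2) = t ^ n • bs 2 := by
      intro n
      induction n with
      | zero => simp
      | succ n ih => rw [pow_succ, Module.End.mul_apply, hX2z, map_smul, ih, smul_smul, pow_succ']
    have hXp : LieAlgebra.ad R L (bs 0) ^ p = LieAlgebra.ad R L (t ^ m • bs 0) := by
      rw [hm, pow_succ, pow_mul]
      apply bs.ext
      intro i
      fin_cases i
      · simp [LieAlgebra.ad_apply]
      · simp only [Fin.mk_one, Fin.isValue, Module.End.mul_apply, LieAlgebra.ad_apply, hxy, hXz,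
          smul_lie]
      · simp only [Fin.reduceFinMk, Fin.isValue, Module.End.mul_apply, LieAlgebra.ad_apply, hxz,
          map_smul, hXy, smul_smul]
        rw [LinearMap.smul_apply, LieAlgebra.ad_apply, hxz, smul_smul, mul_comm]
    let y : Fin 3 → L := ![t ^ m • bs 0, 0, 0]
    have hy : ∀ i : Fin 3, LieAlgebra.ad R L (bs i) ^ p = LieAlgebra.ad R L (y i) := by
      intro i
      fin_cases i
      · exact hXp
      · simp [y, hYp]
      · simp [y, hZp]
    obtain ⟨φ, hφ⟩ := Groth.Agent.H83.exists_pmap_of_basis R p bs y hy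
    refine ⟨φ, ?_, ?_, ?_⟩
    · rw [hφ 0, hm']; rfl
    · rw [hφ 1]; rfl
    · rw [hφ 2]; rfl

end Groth.Agent.S13779
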