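import Groth.Statements.S13781
import Groth.Agent.H46.RegularDeriv
import Groth.Agent.Lead.RegularLocal4

set_option autoImplicit false
universe u
open CAlg

namespace Groth.Agent.S13781

open Polynomial IsLocalRing

/-- Localization of a quotient at a prime, as a quotient of the localization (reverse
direction of `H46.isRegularLocalRing_localization_quotient`). -/
theorem isRegularLocalRing_quotient_localization {R : Type u} [CommRing R] (I : Ideal R)
    (P : Ideal R) [P.IsPrime]
    (𝔭 : Ideal (R ⧸ I)) [𝔭.IsPrime] (h𝔭 : 𝔭.comap (Ideal.Quotient.mk I) = P)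
    (h : IsRegularLocalRing (Localization.AtPrime 𝔭)) :
    IsRegularLocalRing (Localization.AtPrime P ⧸ I.map (algebraMap R (Localization.AtPrime P))) := by
  subst h𝔭
  set P := 𝔭.comap (Ideal.Quotient.mk I) with hP
  have hsub : Algebra.algebraMapSubmonoid (R ⧸ I) P.primeCompl = 𝔭.primeCompl := by
    ext x
    constructor
    · rintro ⟨y, hy, rfl⟩
      exact hy
    · intro hx
      obtain ⟨y, rfl⟩ := Ideal.Quotient.mk_surjective x
      exact ⟨y, hx, rfl⟩
  have hloc : IsLocalization (Algebra.algebraMapSubmonoid (R ⧸ I) P.primeCompl)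
      (Localization.AtPrime P ⧸ I.map (algebraMap R (Localization.AtPrime P))) := inferInstance
  rw [hsub] at hloc
  let e : Localization.AtPrime 𝔭 ≃ₐ[R ⧸ I]
      (Localization.AtPrime P ⧸ I.map (algebraMap R (Localization.AtPrime P))) :=
    IsLocalization.algEquiv 𝔭.primeCompl _ _
  exact IsRegularLocalRing.of_ringEquiv e.toRingEquiv

/-- If `A` is a regular domain, `s ≠ 0`, `A/(s)` regular, and `P` a prime containing `s`, then
the image of `s` in `A_P` is not in the square of the maximal ideal. -/
theorem not_mem_sq (A : Type u) [CommRing A] [IsDomain A] [IsRegularRing A] (s : A) (hs : s ≠ 0)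
    (hreg : IsRegularRing (A ⧸ Ideal.span {s})) (P : Ideal A) [hP : P.IsPrime] (hsP : s ∈ P) :
    algebraMap A (Localization.AtPrime P) s ∉ maximalIdeal (Localization.AtPrime P) ^ 2 := by
  intro hmem
  have hker : RingHom.ker (Ideal.Quotient.mk (Ideal.span {s})) ≤ P := by
    rw [Ideal.mk_ker, Ideal.span_le]
    simpa using hsP
  haveI hprime : (P.map (Ideal.Quotient.mk (Ideal.span {s}))).IsPrime :=
    Ideal.map_isPrime_of_surjective Ideal.Quotient.mk_surjective hker
  have hcomap : (P.map (Ideal.Quotient.mk (Ideal.span {s}))).comap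
      (Ideal.Quotient.mk (Ideal.span {s})) = P := by
    rw [Ideal.comap_map_of_surjective' _ Ideal.Quotient.mk_surjective]
    exact sup_eq_left.mpr hker
  haveI := isRegularLocalRing_quotient_localization (Ideal.span {s}) P _ hcomap inferInstance
  have hbot := Groth.Agent.Lead.RLR.eq_bot_of_le_sq (Localization.AtPrime P)
    ((Ideal.span {s}).map (algebraMap A (Localization.AtPrime P))) (by
      rw [Ideal.map_span, Set.image_singleton, Ideal.span_le]
      simpa using hmem)
  have h0 : algebraMap A (Localization.AtPrime P) s = 0 := by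
    have : algebraMap A (Localization.AtPrime P) s ∈
        (Ideal.span {s}).map (algebraMap A (Localization.AtPrime P)) :=
      Ideal.mem_map_of_mem _ (Ideal.subset_span rfl)
    rw [hbot] at this
    simpa using this
  have hinj : Function.Injective (algebraMap A (Localization.AtPrime P)) :=
    IsLocalization.injective _ P.primeCompl_le_nonZeroDivisors
  exact hs (hinj (by rw [h0, map_zero]))

theorem result (A : Type u) [CommRing A] [IsLocalRing A]
    [IsRegularRing A] (s : A) (hs : s ≠ 0) (hreg : IsRegularRing (A ⧸ Ideal.span {s}))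
    (e : ℕ) (he : 0 < e) (heu : IsUnit (e : A)) :
    IsRegularRing (AdjoinRoot (Polynomial.X ^ e - Polynomial.C s)) := by
  haveI : IsRegularLocalRing A := IsRegularLocalRing.of_isRegularRing_of_isLocalRing A
  haveI : IsDomain A := Groth.Agent.Lead.RLR.isDomain A
  set f : A[X] := Polynomial.X ^ e - Polynomial.C s with hf
  change IsRegularRing (A[X] ⧸ Ideal.span {f})
  rw [isRegularRing_iff]
  intro 𝔭 h𝔭
  refine Groth.Agent.H46.isRegularLocalRing_localization_quotient (Ideal.span {f}) 𝔭 ?_
  set Q := 𝔭.comap (Ideal.Quotient.mk (Ideal.span {f})) with hQ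
  haveI hQprime : Q.IsPrime := Ideal.comap_isPrime _ _
  have hfQ : f ∈ Q := by
    rw [hQ, Ideal.mem_comap]
    have : Ideal.Quotient.mk (Ideal.span {f}) f = 0 :=
      Ideal.Quotient.eq_zero_iff_mem.mpr (Ideal.subset_span rfl)
    rw [this]
    exact 𝔭.zero_mem
  by_cases hX : (X : A[X]) ∈ Q
  · -- ramified case
    have e1 : (Ideal.span {f}).map (algebraMap A[X] (Localization.AtPrime Q)) =
        Ideal.span {algebraMap A[X] (Localization.AtPrime Q) f} := by
      rw [Ideal.map_span, Set.image_singleton]
    rw [e1]
    apply Groth.Agent.H46.isRegularLocalRing_quotient_of_not_mem_sq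
    · exact (IsLocalization.AtPrime.to_map_mem_maximal_iff (Localization.AtPrime Q) Q f).mpr hfQ
    · intro hmem
      rw [← Localization.AtPrime.map_eq_maximalIdeal, ← Ideal.map_pow,
        IsLocalization.algebraMap_mem_map_algebraMap_iff Q.primeCompl] at hmem
      obtain ⟨u, hu, huf⟩ := hmem
      set P := Q.comap (C : A →+* A[X]) with hPdef
      haveI hPprime : P.IsPrime := Ideal.comap_isPrime _ _
      -- constant coefficient maps Q into P
      have hε : ∀ q ∈ Q, q.coeff 0 ∈ P := by
        intro q hq
        rw [hPdef, Ideal.mem_comap]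
        have h1 : C (q.coeff 0) = q - q.divX * X := by
          conv_rhs => lhs; rw [← Polynomial.divX_mul_X_add q]
          ring
        rw [h1]
        exact Q.sub_mem hq (Q.mul_mem_left _ hX)
      have hε2 : ∀ q ∈ Q ^ 2, q.coeff 0 ∈ P ^ 2 := by
        intro q hq
        have h1 : (Q ^ 2).map (constantCoeff : A[X] →+* A) ≤ P ^ 2 := by
          rw [Ideal.map_pow]
          apply Ideal.pow_right_mono
          rw [Ideal.map_le_iff_le_comap]
          intro q hq
          exact hε q hq
        exact h1 (Ideal.mem_map_of_mem (constantCoeff : A[X] →+* A) hq)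
      have hsP : s ∈ P := by
        rw [hPdef, Ideal.mem_comap]
        have : C s = X ^ e - f := by rw [hf]; ring
        rw [this]
        exact Q.sub_mem (Q.pow_mem_of_mem hX e he) hfQ
      have hu0 : u.coeff 0 ∉ P := by
        intro hcon
        apply hu
        rw [← Polynomial.divX_mul_X_add u]
        exact Q.add_mem (Q.mul_mem_left _ hX) hcon
      have h2 := hε2 _ huf
      have h3 : (u * f).coeff 0 = - (u.coeff 0 * s) := by
        rw [Polynomial.mul_coeff_zero, hf, Polynomial.coeff_sub, Polynomial.coeff_X_pow,
          Polynomial.coeff_C_zero, if_neg (Nat.ne_of_lt he)]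
        ring
      rw [h3, neg_mem_iff] at h2
      refine not_mem_sq A s hs hreg P hsP ?_
      rw [← Localization.AtPrime.map_eq_maximalIdeal, ← Ideal.map_pow,
        IsLocalization.algebraMap_mem_map_algebraMap_iff P.primeCompl]
      exact ⟨u.coeff 0, hu0, h2⟩
  · -- unramified case: use d/dX
    let D : Derivation ℤ A[X] A[X] := (Polynomial.derivative' (R := A)).restrictScalars ℤ
    refine Groth.Agent.H46.isRegularLocalRing_localization_quotient_of_derivation A[X] f D Q hfQ ?_
    have hD : D f = C (e : A) * X ^ (e - 1) := by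
      change Polynomial.derivative f = _
      rw [hf, Polynomial.derivative_sub, Polynomial.derivative_X_pow, Polynomial.derivative_C,
        sub_zero, Polynomial.C_eq_natCast]
    intro hmem
    replace hmem : C (e : A) * X ^ (e - 1) ∈ Q := hD ▸ hmem
    rcases hQprime.mem_or_mem hmem with h | h
    · exact hQprime.ne_top (Ideal.eq_top_of_isUnit_mem _ h (heu.map C))
    · exact hX (hQprime.mem_of_pow_mem _ h)

end Groth.Agent.S13781
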