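import Groth.Statements.S13783
import Groth.Agent.H69.P1Trans

set_option autoImplicit false
universe u
open Curves

namespace Groth.Agent.S13783

/-- Let k be a field and K a finite Galois extension of k. Let S be a finite set of at most three
K-points of the projective line that is stable under the Galois group of K over k, and let b be a
Galois-equivariant bijection from S onto another set S' of K-points. Then some element of GL_2(k)
maps S onto S'. (This is the statement that two closed subschemes of the projective line over k
which are etale over k of the same degree at most 3 and have isomorphic k-algebras of functions are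
exchanged by a k-automorphism of the line, written for their sets of points over a finite Galois
extension K of k splitting both; an isomorphism of the function algebras is the same as a
Galois-equivariant bijection of these point sets.) -/
theorem result (k K : Type u) [Field k] [Field K]
    [Algebra k K] [FiniteDimensional k K] [IsGalois k K]
    (S S' : Set (Projectivization K (Fin 2 → K))) (hfin : S.Finite) (h3 : S.ncard ≤ 3)
    (hS : ∀ (σ : K ≃ₐ[k] K) (x : Projectivization K (Fin 2 → K)), x ∈ S → W4c1stackycurves.galP σ x ∈ S)
    (b : S ≃ S')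
    (hb : ∀ (σ : K ≃ₐ[k] K) (x : S),
      (b ⟨W4c1stackycurves.galP σ x.1, hS σ x.1 x.2⟩ : Projectivization K (Fin 2 → K)) =
        W4c1stackycurves.galP σ (b x).1) :
    ∃ g : Matrix.GeneralLinearGroup (Fin 2) k,
      (fun x => (Matrix.GeneralLinearGroup.toLin ((Matrix.GeneralLinearGroup.map (algebraMap k K)) g)) • x) '' S = S' := by
  classical
  let β : Projectivization K (Fin 2 → K) → Projectivization K (Fin 2 → K) :=
    fun x => if h : x ∈ S then (b ⟨x, h⟩ : Projectivization K (Fin 2 → K)) else x
  have hβ : ∀ (x : Projectivization K (Fin 2 → K)) (h : x ∈ S), β x = (b ⟨x, h⟩).1 :=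
    fun x h => dif_pos h
  have hcard : hfin.toFinset.card ≤ 3 := by
    rw [← Set.ncard_eq_toFinset_card S hfin]; exact h3
  obtain ⟨g, hg⟩ := Groth.Agent.H69.P1.exists_gl (k := k) (K := K) (3 - hfin.toFinset.card)
    hfin.toFinset β (by omega)
    (fun σ x hx => by
      rw [Set.Finite.mem_toFinset] at hx ⊢
      exact hS σ x hx)
    (by
      intro x hx y hy hxy
      rw [Finset.mem_coe, Set.Finite.mem_toFinset] at hx hy
      rw [hβ x hx, hβ y hy] at hxy
      have := b.injective (Subtype.ext hxy)
      exact congrArg Subtype.val this)
    (by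
      intro σ x hx
      rw [Set.Finite.mem_toFinset] at hx
      rw [hβ x hx, hβ _ (hS σ x hx)]
      exact hb σ ⟨x, hx⟩)
  refine ⟨g, ?_⟩
  ext y
  constructor
  · rintro ⟨x, hx, rfl⟩
    show _ • x ∈ S'
    rw [hg x ((Set.Finite.mem_toFinset hfin).2 hx), hβ x hx]
    exact (b ⟨x, hx⟩).2
  · intro hy
    refine ⟨(b.symm ⟨y, hy⟩).1, (b.symm ⟨y, hy⟩).2, ?_⟩
    show _ • (b.symm ⟨y, hy⟩).1 = y
    rw [hg _ ((Set.Finite.mem_toFinset hfin).2 (b.symm ⟨y, hy⟩).2), hβ _ (b.symm ⟨y, hy⟩).2]
    simp

end Groth.Agent.S13783
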