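import Groth.Statements.S13784
import Mathlib.Tactic
import Mathlib.RingTheory.IntegralDomain
import Mathlib.RingTheory.LocalRing.ResidueField.Basic

set_option autoImplicit false
universe u
open CAlg

namespace Groth.Agent.S13784

/-- Let A be a commutative local ring and G a finite subgroup of Aˣ. If the order of G is invertible in
A, then G is cyclic. -/
theorem result {A : Type u} [CommRing A] [IsLocalRing A]
    (G : Subgroup Aˣ) [Finite G] (hG : IsUnit ((Nat.card G : ℕ) : A)) : IsCyclic G := by
  classical
  let f : G →* IsLocalRing.ResidueField A :=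
    ((Units.coeHom (IsLocalRing.ResidueField A)).comp
      (Units.map (IsLocalRing.residue A).toMonoidHom)).comp G.subtype
  have hf : Function.Injective f := by
    rw [injective_iff_map_eq_one]
    intro g hg
    have hg1 : IsLocalRing.residue A ((g : Aˣ) : A) = 1 := hg
    set n := Nat.card G with hn
    have hgn : ((g : Aˣ) : A) ^ n = 1 := by
      have : g ^ n = 1 := pow_card_eq_one'
      have := congrArg (fun h : G => ((h : Aˣ) : A)) this
      simpa using this
    have hgeom : (((g : Aˣ) : A) - 1) * ∑ i ∈ Finset.range n, ((g : Aˣ) : A) ^ i = 0 := by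
      rw [mul_geom_sum, hgn, sub_self]
    have hres : IsLocalRing.residue A (∑ i ∈ Finset.range n, ((g : Aˣ) : A) ^ i) =
        IsLocalRing.residue A (n : A) := by
      rw [map_sum]
      simp [hg1]
    have hunit : IsUnit (∑ i ∈ Finset.range n, ((g : Aˣ) : A) ^ i) := by
      have h1 : IsUnit (IsLocalRing.residue A (∑ i ∈ Finset.range n, ((g : Aˣ) : A) ^ i)) := by
        rw [hres]; exact hG.map _
      exact (IsLocalRing.residue_ne_zero_iff_isUnit _).1 h1.ne_zero
    have h0 : ((g : Aˣ) : A) - 1 = 0 := hunit.mul_left_eq_zero.1 hgeom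
    have h1 : ((g : Aˣ) : A) = 1 := sub_eq_zero.1 h0
    apply Subtype.ext
    apply Units.ext
    simpa using h1
  exact isCyclic_of_subgroup_isDomain f hf

end Groth.Agent.S13784
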