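import Groth.Statements.S13785
import Groth.Agent.H69.GenericDet

set_option autoImplicit false
universe u
open CAlg

namespace Groth.Agent.S13785

/-- For any commutative ring A, the determinant of the generic n × n matrix is a nonzerodivisor of the
polynomial ring over A in the n² matrix entries. -/
theorem result (A : Type u) [CommRing A] (n : ℕ) :
    (Matrix.mvPolynomialX (Fin n) (Fin n) A).det ∈ nonZeroDivisors (MvPolynomial (Fin n × Fin n) A) := by
  exact Groth.Agent.H69.det_mvPolynomialX_mem_nonZeroDivisors A

end Groth.Agent.S13785
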