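import Groth.Statements.S13787
import Groth.Agent.H88.GLUnits2

set_option autoImplicit false
universe u
open CAlg

namespace Groth.Agent.S13787

/-- Let A be a nonzero commutative ring and n ≥ 1, let det be the determinant of the generic n × n
matrix in the polynomial ring A[X] in its n² entries, and let A[X, 1/det] be the localization at det
(the coordinate ring of GL_n over A). The homomorphism Aˣ × ℤ → (A[X, 1/det])ˣ sending (a, e) to a ·
det^e is injective. (The published statement takes the exponent in the group of locally constant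
ℤ-valued functions on Spec A, which also covers A = 0; with integer exponents as here, A must be
nonzero and n ≥ 1.) -/
theorem result (A : Type u) [CommRing A] [Nontrivial A] (n : ℕ) (hn : 0 < n) :
    Function.Injective (fun p : Aˣ × ℤ =>
        Units.map (algebraMap A (Localization.Away (Matrix.mvPolynomialX (Fin n) (Fin n) A).det)).toMonoidHom p.1 *
          (IsLocalization.Away.algebraMap_isUnit (S := Localization.Away (Matrix.mvPolynomialX (Fin n) (Fin n) A).det)
            (Matrix.mvPolynomialX (Fin n) (Fin n) A).det).unit ^ p.2) := by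
  classical
  haveI : Nonempty (Fin n) := ⟨⟨0, hn⟩⟩
  let i0 : Fin n := ⟨0, hn⟩
  -- powers of the unit `T`
  have hT : ∀ e : ℤ, (((LaurentPolynomial.isUnit_T (R := A) 1).unit ^ e : (LaurentPolynomial A)ˣ) :
      LaurentPolynomial A) = LaurentPolynomial.T e := by
    intro e
    have hinv : (((LaurentPolynomial.isUnit_T (R := A) 1).unit⁻¹ : (LaurentPolynomial A)ˣ) :
        LaurentPolynomial A) = LaurentPolynomial.T (-1) := by
      rw [← Units.inv_eq_of_mul_eq_one_right (u := (LaurentPolynomial.isUnit_T (R := A) 1).unit)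
        (a := LaurentPolynomial.T (-1))]
      rw [IsUnit.unit_spec, ← LaurentPolynomial.T_add]
      simp
    induction e using Int.induction_on with
    | zero => simp
    | succ k ih =>
      rw [zpow_add_one, Units.val_mul, ih, IsUnit.unit_spec, ← LaurentPolynomial.T_add]
    | pred k ih =>
      rw [zpow_sub_one, Units.val_mul, ih, hinv, ← LaurentPolynomial.T_add]
      rfl
  let F : (Localization.Away (Groth.Agent.H88.GLUnits.D (m := Fin n) A))ˣ →* (LaurentPolynomial A)ˣ :=
    Units.map ((Groth.Agent.H88.GLUnits.evalTL (A := A) i0 : _ →+* _) : _ →* _)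
  have hFδ : F (Groth.Agent.H88.GLUnits.δ (m := Fin n) A) = (LaurentPolynomial.isUnit_T (R := A) 1).unit := by
    apply Units.ext
    show Groth.Agent.H88.GLUnits.evalTL (A := A) i0 (algebraMap _ _ (Groth.Agent.H88.GLUnits.D (m := Fin n) A)) = _
    rw [Groth.Agent.H88.GLUnits.evalTL_algebraMap, Groth.Agent.H88.GLUnits.evalT_D]
    rfl
  have hFα : ∀ a : Aˣ, ((F (Groth.Agent.H88.GLUnits.α (m := Fin n) A a) : (LaurentPolynomial A)ˣ) :
      LaurentPolynomial A) = LaurentPolynomial.C (a : A) := by
    intro a
    show Groth.Agent.H88.GLUnits.evalTL (A := A) i0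
      ((Groth.Agent.H88.GLUnits.α (m := Fin n) A a : (Localization.Away _)ˣ) : Localization.Away _) = _
    rw [Groth.Agent.H88.GLUnits.α_val, Groth.Agent.H88.GLUnits.evalTL_algebraMap,
      Groth.Agent.H88.GLUnits.evalT_C]
  rintro ⟨a, e⟩ ⟨a', e'⟩ h
  have h' : Groth.Agent.H88.GLUnits.α (m := Fin n) A a * Groth.Agent.H88.GLUnits.δ A ^ e =
      Groth.Agent.H88.GLUnits.α A a' * Groth.Agent.H88.GLUnits.δ A ^ e' := h
  have h2 := congrArg (fun u => ((F u : (LaurentPolynomial A)ˣ) : LaurentPolynomial A)) h'
  simp only [map_mul, map_zpow, Units.val_mul, hFα, hFδ, hT] at h2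
  rw [← LaurentPolynomial.single_eq_C_mul_T, ← LaurentPolynomial.single_eq_C_mul_T] at h2
  rcases AddMonoidAlgebra.single_inj.1 h2 with ⟨h3, h4⟩ | ⟨h3, -⟩
  · exact Prod.ext (Units.ext h4) h3
  · exact absurd h3 a.ne_zero

end Groth.Agent.S13787
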