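import Groth.Statements.S13791
import Groth.Agent.H69.CS.Exact

set_option autoImplicit false
universe u
open CategoryTheory
open CohSite

namespace Groth.Agent.S13791

/-- On a site, for a short exact sequence 0 → A → B → C → 0 of abelian groups the map H¹(A) → H¹(B) on
the first cohomology of the associated constant sheaves is injective. Stated for an injective
homomorphism f : A → B (C being its cokernel), with H¹ the Ext-based sheaf cohomology of the site. -/
theorem result {C : Type u} [SmallCategory C] (J : GrothendieckTopology C)
    {A B : Type u} [AddCommGroup A] [AddCommGroup B] (f : A →+ B) (hf : Function.Injective f) :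
    Function.Injective
      (Sheaf.H.map ((constantSheaf J AddCommGrpCat.{u}).map (AddCommGrpCat.ofHom f)) 1) := by
  classical
  let fA : AddCommGrpCat.of A ⟶ AddCommGrpCat.of B := AddCommGrpCat.ofHom f
  have hmono : Mono fA := (AddCommGrpCat.mono_iff_injective fA).2 hf
  let S : ShortComplex AddCommGrpCat.{u} :=
    ShortComplex.mk fA (Limits.cokernel.π fA) (Limits.cokernel.condition fA)
  have hS : S.ShortExact :=
    { exact := ShortComplex.exact_cokernel fA
      mono_f := hmono
      epi_g := (inferInstance : Epi (Limits.cokernel.π fA)) }
  have hS' := Groth.Agent.H69.CS.shortExact_map J hS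
  have hsurj : Function.Surjective (Limits.cokernel.π fA).hom :=
    (AddCommGrpCat.epi_iff_surjective _).1 inferInstance
  rw [injective_iff_map_eq_zero]
  intro x hx
  exact Groth.Agent.H69.CS.ext_one_eq_zero_of_lift hS' _
    (fun ψ => Groth.Agent.H69.CS.exists_lift_hom (J := J) (Limits.cokernel.π fA) hsurj ψ) x hx

end Groth.Agent.S13791
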