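import Groth.Statements.S13792
import Groth.Agent.H22.DimOneFib

set_option autoImplicit false
universe u
open CategoryTheory AlgebraicGeometry
open Curves

namespace Groth.Agent.S13792

/-- Let k be a field and E an integral k-scheme of finite type whose underlying space has dimension 1,
and let ι : G → E be a closed immersion. Then either ι is an isomorphism or G is finite over k. (The
published statement is about a closed subgroup scheme of an elliptic curve and its proof states this
fact for E geometrically integral; this row assumes only that E is integral.) -/
theorem result {k : Type u} [Field k]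
    {E G : Scheme.{u}} (f : E ⟶ Spec (CommRingCat.of k)) [LocallyOfFiniteType f] [QuasiCompact f]
    [IsIntegral E] (hdim : topologicalKrullDim ↥E = 1) (ι : G ⟶ E) [IsClosedImmersion ι] :
    IsIso ι ∨ IsFinite (ι ≫ f) := by
  classical
  by_cases hsurj : Function.Surjective ι.base
  · left
    have : Surjective ι := ⟨hsurj⟩
    exact isIso_of_isClosedImmersion_of_surjective ι
  · right
    have : IsLocallyNoetherian E := LocallyOfFiniteType.isLocallyNoetherian f
    have : CompactSpace E := QuasiCompact.compactSpace_of_compactSpace f
    have : IsNoetherian E := { }
    have : TopologicalSpace.NoetherianSpace E := inferInstance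
    have hC : IsClosed (Set.range ι.base) := ι.isClosedEmbedding.isClosed_range
    obtain ⟨E', hE'fin, hE'sub, hE'cov⟩ := Groth.Agent.H22.GenPts.exists_finite_generic hC
    have hηC : genericPoint E ∉ Set.range ι.base := by
      intro hη
      apply hsurj
      rw [← Set.range_eq_univ]
      apply Set.eq_univ_of_univ_subset
      have h1 : closure {genericPoint E} ⊆ Set.range ι.base :=
        closure_minimal (Set.singleton_subset_iff.mpr hη) hC
      rwa [(genericPoint_spec E).def] at h1
    have hsub : Set.range ι.base ⊆ E' := by
      intro x hx
      obtain ⟨η', hη', hxη'⟩ := hE'cov x hx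
      have h1 : η' ∈ closure {genericPoint E} := by
        rw [(genericPoint_spec E).def]; trivial
      rcases Groth.Agent.H22.DimOneFib.eq_or_eq_of_specializes hdim.le h1 hxη' with h | h
      · exact absurd (h ▸ hE'sub hη') hηC
      · exact h ▸ hη'
    have hfinR : (Set.range ι.base).Finite := hE'fin.subset hsub
    have hfinG : Finite G := by
      have : Finite (Set.range ι.base) := hfinR
      exact Finite.of_injective (fun g : G => (⟨ι.base g, g, rfl⟩ : Set.range ι.base))
        (fun a b hab => ι.isClosedEmbedding.injective (congrArg Subtype.val hab))
    have : LocallyQuasiFinite (ι ≫ f) :=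
      LocallyQuasiFinite.of_finite_preimage_singleton (ι ≫ f) (fun x => Set.toFinite _)
    exact IsFinite.of_locallyQuasiFinite (ι ≫ f)

end Groth.Agent.S13792
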