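import Groth.Statements.S13794
import Mathlib.Tactic

set_option autoImplicit false
universe u
open Polynomial
open Curves

namespace Groth.Agent.S13794

/-- Let k be a field of characteristic not 3 and β ∈ k. If a line ax + by + c = 0 with a³ ≠ b³ is the
tangent line at a flex point of the affine cubic x³ + y³ + β = 3xy, then β is a cube in k. Here the
line is normalised to b ≠ 0 (the roles of x and y are symmetric) and the flex-tangency is expressed
by the restriction of the cubic to the line being λ (x − x₀)³. -/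
theorem result {k : Type u} [Field k] (h3 : (3 : k) ≠ 0)
    (β a b c : k) (hb : b ≠ 0) (hab : a ^ 3 ≠ b ^ 3) (lam x₀ : k)
    (hflex : (X : k[X]) ^ 3 + (C (-a / b) * X + C (-c / b)) ^ 3 + C β - 3 * X * (C (-a / b) * X + C (-c / b)) =
      C lam * (X - C x₀) ^ 3) :
    ∃ γ : k, β = γ ^ 3 := by
  have hcoef : ∀ c3 c2 c1 c0 d3 d2 d1 d0 : k,
      C c3 * (X : k[X]) ^ 3 + C c2 * X ^ 2 + C c1 * X + C c0 =
        C d3 * X ^ 3 + C d2 * X ^ 2 + C d1 * X + C d0 →
      c3 = d3 ∧ c2 = d2 ∧ c1 = d1 ∧ c0 = d0 := by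
    intro c3 c2 c1 c0 d3 d2 d1 d0 h
    have h3 := congrArg (fun p => p.coeff 3) h
    have h2 := congrArg (fun p => p.coeff 2) h
    have h1 := congrArg (fun p => p.coeff 1) h
    have h0 := congrArg (fun p => p.coeff 0) h
    simp only [coeff_add, coeff_C_mul, coeff_X_pow, coeff_X, coeff_C] at h3 h2 h1 h0
    norm_num at h3 h2 h1 h0
    exact ⟨h3, h2, h1, h0⟩
  set m := -a / b with hm
  set q := -c / b with hq
  have hL : (X : k[X]) ^ 3 + (C m * X + C q) ^ 3 + C β - 3 * X * (C m * X + C q) =
      C (1 + m^3) * X^3 + C (3*m^2*q - 3*m) * X^2 + C (3*m*q^2 - 3*q) * X + C (q^3 + β) := by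
    simp only [map_add, map_sub, map_mul, map_pow, map_one, map_ofNat]
    ring
  have hR : C lam * (X - C x₀)^3 =
      C lam * X^3 + C (-(3*lam*x₀)) * X^2 + C (3*lam*x₀^2) * X + C (-(lam*x₀^3)) := by
    simp only [map_mul, map_pow, map_ofNat, map_neg]
    ring
  rw [hL, hR] at hflex
  obtain ⟨h3', h2, h1, h0⟩ := hcoef _ _ _ _ _ _ _ _ hflex
  have hm3 : m ^ 3 ≠ -1 := by
    intro h
    apply hab
    have : m ^ 3 = -(a^3 / b^3) := by rw [hm]; ring
    rw [this, neg_eq_iff_eq_neg, neg_neg] at h
    field_simp at h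
    exact h
  have hlam : lam ≠ 0 := by
    rw [← h3']
    intro h
    apply hm3
    linear_combination h
  have e2 : m * (m * q - 1) = -(lam * x₀) := by
    have : (3 : k) * (m * (m * q - 1)) = 3 * (-(lam * x₀)) := by linear_combination h2
    exact mul_left_cancel₀ h3 this
  have e1 : q * (m * q - 1) = lam * x₀ ^ 2 := by
    have : (3 : k) * (q * (m * q - 1)) = 3 * (lam * x₀ ^ 2) := by linear_combination h1
    exact mul_left_cancel₀ h3 this
  by_cases hx : x₀ = 0
  · refine ⟨-q, ?_⟩
    subst hx
    linear_combination h0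
  · have hw : m * q - 1 ≠ 0 := by
      intro hw
      rw [hw, mul_zero] at e2
      have : lam * x₀ = 0 := by linear_combination e2
      rcases mul_eq_zero.1 this with h | h
      · exact hlam h
      · exact hx h
    have hq' : q = -(x₀ * m) := by
      have : (m * q - 1) * q = (m * q - 1) * (-(x₀ * m)) := by linear_combination e1 + x₀ * e2
      exact mul_left_cancel₀ hw this
    have hmx : m = x₀ := by
      have hh : m * (m * q - 1) = -(lam * x₀) := e2
      rw [hq', ← h3'] at hh
      linear_combination -hh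
    refine ⟨-m, ?_⟩
    rw [hq', ← h3', ← hmx] at h0
    linear_combination h0

end Groth.Agent.S13794
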