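import Groth.Statements.S13799
import Groth.Agent.H69.CS.Divide2

set_option autoImplicit false
universe u
open CategoryTheory Opposite
open CohSite

namespace Groth.Agent.S13799

/-- On a site, take a torsion-free abelian group A, and let φ be a locally nonzero global section of the
constant sheaf ℤ, viewed as an endomorphism of the constant abelian sheaf ℤ: there are objects U_i
which cover every object of the site locally and nonzero integers n_i such that φ is multiplication
by n_i on every object over U_i. Then the first cohomology H¹(A) of the constant sheaf on A (the
Ext-based sheaf cohomology of the site) has no φ-torsion: a class x with φ · x = 0 is zero, where φ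
acts on H¹(A) = Ext¹(ℤ, A) by precomposition. (The published statement takes the section in the
constant sheaf of A itself, with a module structure over its global sections that is defined for A =
ℤ; this row lets a locally nonzero section of the constant sheaf ℤ act on H¹(A), which is the
published statement when A = ℤ and is what the published proof establishes for any torsion-free A.
The published definition of a locally nonzero section also asks the covering family to be nonempty;
when it is empty every sheaf is terminal and the conclusion holds trivially, so that condition is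
omitted.) -/
theorem result {C : Type u} [SmallCategory C] (J : GrothendieckTopology C)
    {A : Type u} [AddCommGroup A] (hA : ∀ (m : ℤ) (a : A), m ≠ 0 → m • a = 0 → a = 0)
    (φ : (constantSheaf J AddCommGrpCat.{u}).obj (AddCommGrpCat.of (ULift.{u} ℤ)) ⟶
      (constantSheaf J AddCommGrpCat.{u}).obj (AddCommGrpCat.of (ULift.{u} ℤ)))
    {ι : Type u} (U : ι → C) (n : ι → ℤ) (hn : ∀ i, n i ≠ 0)
    (hφ : ∀ (i : ι) (V : C) (_ : V ⟶ U i), φ.hom.app (op V) = n i • 𝟙 _)
    (hcov : ∀ V : C, ∃ R ∈ J V, ∀ ⦃W : C⦄ (g : W ⟶ V), R g → ∃ i, Nonempty (W ⟶ U i))
    (x : Sheaf.H ((constantSheaf J AddCommGrpCat.{u}).obj (AddCommGrpCat.of A)) 1)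
    (hx : (Abelian.Ext.mk₀ φ).comp x (zero_add 1) = 0) :
    x = 0 := by
  classical
  let ι := Injective.ι ((constantSheaf J AddCommGrpCat.{u}).obj (AddCommGrpCat.of A))
  let T : ShortComplex (Sheaf J AddCommGrpCat.{u}) :=
    ShortComplex.mk ι (Limits.cokernel.π ι) (Limits.cokernel.condition ι)
  have hT : T.ShortExact :=
    { exact := ShortComplex.exact_cokernel ι
      mono_f := (inferInstance : Mono ι)
      epi_g := (inferInstance : Epi (Limits.cokernel.π ι)) }
  have : Injective T.X₂ :=
    (inferInstance : Injective (Injective.under
      ((constantSheaf J AddCommGrpCat.{u}).obj (AddCommGrpCat.of A))))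
  exact Groth.Agent.H69.CS.ext_one_eq_zero_of_torsion hT φ
    (fun β c hc => Groth.Agent.H69.CS.exists_divided_hom (A := AddCommGrpCat.of A) ι
      (Limits.cokernel.π ι) hA (Limits.cokernel.condition ι) hT.exact φ U n hn hφ hcov β c hc) x hx

end Groth.Agent.S13799
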