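import Groth.Statements.S1380
import Groth.Agent.H78.IntSplit.Main

set_option autoImplicit false
universe u
open FlatMor

namespace Groth.Agent.S1380

open TensorProduct in
/-- Let R → S be integral and p a prime of R with only finitely many primes of S above it, such that for
each of them the separable closure of κ(p) in its residue field is finite over κ(p). Then there are
an étale R-algebra R' and a prime p' of R' over p such that R' ⊗ S is a finite product of
R'-algebras, each integral over R' with exactly one prime over p', whose residue field is purely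
inseparable over κ(p'). -/
theorem result {R S : Type u} [CommRing R] [CommRing S] [Algebra R S] [Algebra.IsIntegral R S]
    (p : Ideal R) [p.IsPrime] (hfin : {q : PrimeSpectrum S | q.asIdeal.comap (algebraMap R S) = p}.Finite)
    (hsep : ∀ (q : PrimeSpectrum S) (hq : q.asIdeal.comap (algebraMap R S) = p),
      letI := (Ideal.ResidueField.map p q.asIdeal (algebraMap R S) hq.symm).toAlgebra
      Module.Finite p.ResidueField (separableClosure p.ResidueField q.asIdeal.ResidueField)) :
    ∃ (R' : Type u) (_ : CommRing R') (_ : Algebra R R') (p' : PrimeSpectrum R'), Algebra.Etale R R' ∧ p'.asIdeal.comap (algebraMap R R') = p ∧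
      ∃ (m : ℕ) (A : Fin m → Type u) (_ : ∀ j, CommRing (A j)) (_ : ∀ j, Algebra R' (A j)) (e : R' ⊗[R] S ≃ₐ[R'] (Π j, A j)),
        ∀ j, Algebra.IsIntegral R' (A j) ∧ ∃ (r : PrimeSpectrum (A j)) (hr : r.asIdeal.comap (algebraMap R' (A j)) = p'.asIdeal),
          (∀ r' : PrimeSpectrum (A j), r'.asIdeal.comap (algebraMap R' (A j)) = p'.asIdeal → r' = r) ∧
          letI := (Ideal.ResidueField.map p'.asIdeal r.asIdeal (algebraMap R' (A j)) hr.symm).toAlgebra
          IsPurelyInseparable p'.asIdeal.ResidueField r.asIdeal.ResidueField := by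
  classical
  have hfin' : (p.primesOver S).Finite := by
    refine (hfin.image (fun q => q.asIdeal)).subset ?_
    rintro q ⟨hq1, hq2⟩
    exact ⟨⟨q, hq1⟩, hq2.over.symm, rfl⟩
  have hsep' : ∀ (q : Ideal S) [q.IsPrime] (hq : p = q.comap (algebraMap R S)),
      letI := (Ideal.ResidueField.map p q (algebraMap R S) hq).toAlgebra
      Module.Finite p.ResidueField (separableClosure p.ResidueField q.ResidueField) := by
    intro q _ hq
    exact hsep ⟨q, ‹_›⟩ hq.symm
  obtain ⟨R₁, _, _, _, p₁, _, hp₁, hsplit₁⟩ := H78.IntSplit.exists_etale_splitsSep p hfin' hsep'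
  haveI : p₁.LiesOver p := ⟨hp₁⟩
  have hfin₁ := H78.IntSplit.finite_primesOver_tensor (S := S) p p₁ hfin'
  obtain ⟨R', _, _, _, P, _, _, m, E, hE, hprimes⟩ :=
    H78.IntSplit.exists_etale_split (R := R₁) (S := R₁ ⊗[R] S) p₁ hfin₁
  letI : Algebra R R' := ((algebraMap R₁ R').comp (algebraMap R R₁)).toAlgebra
  haveI : IsScalarTower R R₁ R' := IsScalarTower.of_algebraMap_eq (fun _ => rfl)
  haveI : Algebra.Etale R R' := Algebra.Etale.comp R R₁ R'
  obtain ⟨A, iA, iAlg, e, h⟩ := H78.IntSplit.assemble p p₁ P hp₁ hsplit₁ m E hE hprimes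
  refine ⟨R', inferInstance, inferInstance, ⟨P, inferInstance⟩, inferInstance, ?_, m, A, iA, iAlg,
    e, h⟩
  change P.comap (algebraMap R R') = p
  rw [hp₁, P.over_def p₁, IsScalarTower.algebraMap_eq R R₁ R', ← Ideal.comap_comap]

end Groth.Agent.S1380
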