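import Groth.Statements.S13801
import Mathlib.Tactic

set_option autoImplicit false
open ChowMon

namespace Groth.Agent.S13801

/-- For a prime p and positive natural numbers a_1, ..., a_k with sum n one has v_p(a_1!) + ... +
v_p(a_k!) ≤ v_p(n!), and the inequality is strict whenever some a_i is not divisible by p^(v_p(n)). -/
theorem result {k : ℕ} (p : ℕ) [Fact p.Prime]
    (a : Fin k → ℕ) (ha : ∀ i, 0 < a i) :
    (∑ i, padicValNat p (a i).factorial ≤ padicValNat p (∑ i, a i).factorial) ∧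
      ((∃ i, ¬ p ^ padicValNat p (∑ j, a j) ∣ a i) →
        ∑ i, padicValNat p (a i).factorial < padicValNat p (∑ i, a i).factorial) := by
  classical
  have hp : p.Prime := Fact.out
  set n := ∑ i, a i with hn
  have hai : ∀ i, a i ≤ n := fun i => Finset.single_le_sum (fun j _ => Nat.zero_le (a j)) (Finset.mem_univ i)
  have hlog : ∀ m, m ≤ n → Nat.log p m < n + 1 := by
    intro m hm
    calc Nat.log p m ≤ Nat.log p n := Nat.log_mono_right hm
      _ ≤ n := Nat.log_le_self p n
      _ < n + 1 := Nat.lt_succ_self n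
  have hdivsum : ∀ c : ℕ, ∑ i, a i / c ≤ n / c := by
    intro c
    rw [hn]
    generalize (Finset.univ : Finset (Fin k)) = s
    induction s using Finset.induction_on with
    | empty => simp
    | insert x s hx ih =>
      rw [Finset.sum_insert hx, Finset.sum_insert hx]
      calc a x / c + ∑ i ∈ s, a i / c ≤ a x / c + (∑ i ∈ s, a i) / c := Nat.add_le_add_left ih _
        _ ≤ (a x + ∑ i ∈ s, a i) / c := Nat.div_add_div_le_add_div
  have hL : ∑ i, padicValNat p (a i).factorial = ∑ j ∈ Finset.Ico 1 (n + 1), ∑ i, a i / p ^ j := by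
    rw [Finset.sum_comm]
    refine Finset.sum_congr rfl fun i _ => ?_
    exact padicValNat_factorial (hlog _ (hai i))
  have hR : padicValNat p n.factorial = ∑ j ∈ Finset.Ico 1 (n + 1), n / p ^ j :=
    padicValNat_factorial (hlog _ le_rfl)
  constructor
  · rw [hL, hR]
    exact Finset.sum_le_sum fun j _ => hdivsum _
  · rintro ⟨i₀, hi₀⟩
    rw [hL, hR]
    set j₀ := padicValNat p n with hj₀
    have hnpos : 0 < n := lt_of_lt_of_le (ha i₀) (hai i₀)
    have hj₀pos : 1 ≤ j₀ := by
      by_contra h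
      have : j₀ = 0 := by omega
      rw [this, pow_zero] at hi₀
      exact hi₀ (one_dvd _)
    have hdvd : p ^ j₀ ∣ n := pow_padicValNat_dvd
    have hj₀le : j₀ < n + 1 := by
      have : p ^ j₀ ≤ n := Nat.le_of_dvd hnpos hdvd
      have h2 : j₀ < p ^ j₀ := Nat.lt_pow_self hp.one_lt
      omega
    have hmem : j₀ ∈ Finset.Ico 1 (n + 1) := Finset.mem_Ico.2 ⟨hj₀pos, hj₀le⟩
    refine Finset.sum_lt_sum (fun j _ => hdivsum _) ⟨j₀, hmem, ?_⟩
    have hcpos : 0 < p ^ j₀ := pow_pos hp.pos _
    have hmod : 0 < a i₀ % p ^ j₀ := Nat.pos_of_ne_zero (fun h => hi₀ (Nat.dvd_of_mod_eq_zero h))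
    have h1 : ∑ i, (a i / p ^ j₀ * p ^ j₀ + a i % p ^ j₀) = n := by
      rw [hn]
      exact Finset.sum_congr rfl fun i _ => by rw [mul_comm]; exact Nat.div_add_mod _ _
    have h2 : 0 < ∑ i, a i % p ^ j₀ :=
      lt_of_lt_of_le hmod (Finset.single_le_sum (f := fun i => a i % p ^ j₀)
        (fun j _ => Nat.zero_le _) (Finset.mem_univ i₀))
    rw [Finset.sum_add_distrib, ← Finset.sum_mul] at h1
    have h3 : (∑ i, a i / p ^ j₀) * p ^ j₀ < n / p ^ j₀ * p ^ j₀ := by
      rw [Nat.div_mul_cancel hdvd]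
      omega
    exact lt_of_mul_lt_mul_right h3 (Nat.zero_le _)

end Groth.Agent.S13801
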