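import Groth.Statements.S13802
import Groth.Agent.H69.EtaIntegral

set_option autoImplicit false
universe u
open EtaPt

namespace Groth.Agent.S13802

/-- For a commutative ring A with finitely many minimal prime ideals, the canonical map q_A from A to
the pointwise ring M_η(A) is integral. Here η is a natural transformation from the identity of the
category of fields to an endofunctor F with F(η_K) bijective and η_K purely inseparable for every
field K, N_η(A) is the product of the F(k(p)) over the primes p of A with diagonal map t_A, and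
M_η(A) ⊆ N_η(A) is the subring of elements sent into the range of t_R by every ring map from A to a
valuation ring R at whose fraction field η is bijective; q_A : A → M_η(A) is the corestriction of
t_A. -/
theorem result (η : EtaPt.FieldEndo.{u}) (A : Type u) [CommRing A]
    (hA : (minimalPrimes A).Finite) : (η.q A).IsIntegral := by
  classical
  intro x
  have hx := x.2
  choose Pol hmonic hroot using fun P : PrimeSpectrum A =>
    Groth.Agent.H69.M_apply_isIntegralElem η hx P
  let G : Polynomial A := ∏ 𝔭 ∈ hA.toFinset, (if h : 𝔭.IsPrime then Pol ⟨𝔭, h⟩ else 1)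
  have hG : G.Monic := by
    apply Polynomial.monic_prod_of_monic
    intro 𝔭 _
    by_cases h : 𝔭.IsPrime
    · rw [dif_pos h]; exact hmonic _
    · rw [dif_neg h]; exact Polynomial.monic_one
  refine ⟨G, hG, ?_⟩
  apply Subtype.ext
  have hval : ((Polynomial.eval₂ (η.q A) x G : η.M A) : η.N A) =
      Polynomial.eval₂ (η.t A) (x : η.N A) G :=
    Polynomial.hom_eval₂ G (η.q A) (η.M A).subtype x
  have hd : Polynomial.eval₂ (η.t A) (x : η.N A) G ∈ η.M A := hval ▸ (Polynomial.eval₂ (η.q A) x G).2
  rw [hval]
  have hmin : ∀ P : PrimeSpectrum A, P.asIdeal ∈ minimalPrimes A →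
      Polynomial.eval₂ (η.t A) (x : η.N A) G P = 0 := by
    intro P hP
    have h1 : Polynomial.eval₂ (η.t A) (x : η.N A) G P =
        Polynomial.eval₂ ((η.eta P.asIdeal.ResidueField).comp (algebraMap A P.asIdeal.ResidueField))
          ((x : η.N A) P) G :=
      Polynomial.hom_eval₂ G (η.t A)
        (Pi.evalRingHom (fun p : PrimeSpectrum A => η.obj p.asIdeal.ResidueField) P) (x : η.N A)
    rw [h1, Polynomial.eval₂_finsetProd]
    apply Finset.prod_eq_zero (i := P.asIdeal) (hA.mem_toFinset.2 hP)
    rw [dif_pos P.isPrime]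
    exact hroot P
  funext p
  obtain ⟨𝔭, h𝔭, hle⟩ := Ideal.exists_minimalPrimes_le (bot_le : (⊥ : Ideal A) ≤ p.asIdeal)
  have h𝔭' : 𝔭.IsPrime := h𝔭.1.1
  exact Groth.Agent.H69.M_apply_eq_zero_of_le' η ⟨𝔭, h𝔭'⟩ p hle hd (hmin ⟨𝔭, h𝔭'⟩ h𝔭)

end Groth.Agent.S13802
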