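import Groth.Statements.S13803
import Groth.Agent.H69.EtaPrimes

set_option autoImplicit false
universe u
open EtaPt

namespace Groth.Agent.S13803

/-- For a commutative ring A with finitely many minimal prime ideals, Spec of q_A : A → M_η(A) is a
bijection, and for a prime Q of M_η(A) over the prime P of A the map η at k(P), from k(P) to
F(k(P)), factors through the residue field map k(P) → k(Q). Here η is a natural transformation from
the identity of the category of fields to an endofunctor F with F(η_K) bijective and η_K purely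
inseparable for every field K, N_η(A) is the product of the F(k(p)) over the primes p of A with
diagonal map t_A, and M_η(A) ⊆ N_η(A) is the subring of elements sent into the range of t_R by every
ring map from A to a valuation ring R at whose fraction field η is bijective; q_A : A → M_η(A) is
the corestriction of t_A. -/
theorem result (η : EtaPt.FieldEndo.{u}) (A : Type u) [CommRing A]
    (hA : (minimalPrimes A).Finite) :
    Function.Bijective (PrimeSpectrum.comap (η.q A)) ∧
      ∀ Q : PrimeSpectrum (η.M A),
        ∃ φ : Q.asIdeal.ResidueField →+* η.obj (PrimeSpectrum.comap (η.q A) Q).asIdeal.ResidueField,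
          φ.comp (Ideal.ResidueField.map (PrimeSpectrum.comap (η.q A) Q).asIdeal Q.asIdeal (η.q A) rfl) =
            η.eta (PrimeSpectrum.comap (η.q A) Q).asIdeal.ResidueField := by
  refine ⟨⟨?_, ?_⟩, ?_⟩
  · intro Q₁ Q₂ h
    apply PrimeSpectrum.ext
    ext x
    rw [Groth.Agent.H69.mem_prime_iff η hA Q₁ x, Groth.Agent.H69.mem_prime_iff η hA Q₂ x]
    exact Groth.Agent.H69.apply_eq_zero_iff_of_eq η (x : η.N A) h
  · intro P
    refine ⟨⟨RingHom.ker (Groth.Agent.H69.evalM η P), RingHom.ker_isPrime _⟩, ?_⟩
    apply PrimeSpectrum.ext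
    ext a
    show η.q A a ∈ RingHom.ker (Groth.Agent.H69.evalM η P) ↔ a ∈ P.asIdeal
    refine Iff.trans ?_ (SetLike.ext_iff.1 (Groth.Agent.H69.ker_eta_comp_algebraMap η P) a)
    rw [RingHom.mem_ker, RingHom.mem_ker]
    exact Iff.rfl
  · intro Q
    have h1 : Q.asIdeal ≤ RingHom.ker (Groth.Agent.H69.evalM η (PrimeSpectrum.comap (η.q A) Q)) := by
      intro x hx
      rw [RingHom.mem_ker]
      exact (Groth.Agent.H69.mem_prime_iff η hA Q x).1 hx
    have h2 : Q.asIdeal.primeCompl ≤ (IsUnit.submonoid _).comap
        (Groth.Agent.H69.evalM η (PrimeSpectrum.comap (η.q A) Q)) := by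
      intro x hx
      rw [Submonoid.mem_comap]
      show IsUnit _
      rw [isUnit_iff_ne_zero]
      intro h0
      exact hx ((Groth.Agent.H69.mem_prime_iff η hA Q x).2 h0)
    refine ⟨Ideal.ResidueField.lift Q.asIdeal
      (Groth.Agent.H69.evalM η (PrimeSpectrum.comap (η.q A) Q)) h1 h2, ?_⟩
    apply Ideal.ResidueField.ringHom_ext
    apply RingHom.ext
    intro a
    show Ideal.ResidueField.lift Q.asIdeal _ h1 h2
      (Ideal.ResidueField.map _ Q.asIdeal (η.q A) rfl (algebraMap A _ a)) = _
    rw [Ideal.ResidueField.map_algebraMap, Ideal.ResidueField.lift_algebraMap]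
    rfl

end Groth.Agent.S13803
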