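import Groth.Statements.S13804
import Groth.Agent.H69.EtaPrimes
import Groth.Agent.H69.EtaSpec
import Groth.Agent.S13803

set_option autoImplicit false
universe u
open EtaPt

namespace Groth.Agent.S13804

/-- For a commutative ring A with finitely many minimal prime ideals, the map N_η(q_A) : N_η(A) →
N_η(M_η(A)) is bijective. Here η is a natural transformation from the identity of the category of
fields to an endofunctor F with F(η_K) bijective and η_K purely inseparable for every field K,
N_η(A) is the product of the F(k(p)) over the primes p of A with diagonal map t_A, and M_η(A) ⊆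
N_η(A) is the subring of elements sent into the range of t_R by every ring map from A to a valuation
ring R at whose fraction field η is bijective; q_A : A → M_η(A) is the corestriction of t_A. -/
theorem result (η : EtaPt.FieldEndo.{u}) (A : Type u) [CommRing A]
    (hA : (minimalPrimes A).Finite) : Function.Bijective (η.Nmap (η.q A)) := by
  obtain ⟨hbij, hfac⟩ := Groth.Agent.S13803.result η A hA
  refine ⟨Groth.Agent.H69.Nmap_injective_of_comap_surjective η _ hbij.2, ?_⟩
  apply Groth.Agent.H69.Nmap_surjective_of η _ hbij.1
  intro Q z
  obtain ⟨φ, hφ⟩ := hfac Q
  obtain ⟨w, hw⟩ := (η.bijective_map_eta (PrimeSpectrum.comap (η.q A) Q).asIdeal.ResidueField).2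
    (η.map φ z)
  refine ⟨w, ?_⟩
  apply Groth.Agent.H69.map_injective η φ
  rw [← hw, ← Groth.Agent.H69.map_comp_apply]
  exact congrArg (fun h => η.map h w) hφ

end Groth.Agent.S13804
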