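import Groth.Statements.S13811
import Groth.Agent.H69.EtaLift

set_option autoImplicit false
universe u
open EtaPt

namespace Groth.Agent.S13811

/-- If f : A → B is an integral ring map with N_η(f) bijective, then every ring map from A to a
valuation ring R at whose fraction field η is bijective factors through f. Here η is a natural
transformation from the identity of the category of fields to an endofunctor F with F(η_K) bijective
and η_K purely inseparable for every field K, N_η(A) is the product of the F(k(p)) over the primes p
of A with diagonal map t_A, and M_η(A) ⊆ N_η(A) is the subring of elements sent into the range of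
t_R by every ring map from A to a valuation ring R at whose fraction field η is bijective; q_A : A →
M_η(A) is the corestriction of t_A. -/
theorem result (η : EtaPt.FieldEndo.{u}) {A B : Type u} [CommRing A] [CommRing B] (f : A →+* B)
    (hf : f.IsIntegral) (hN : Function.Bijective (η.Nmap f))
    (R : Type u) [CommRing R] [IsDomain R] [ValuationRing R] (hR : η.InV R) (g : A →+* R) :
    ∃ g' : B →+* R, g'.comp f = g := by
  have hsurj := Groth.Agent.H69.comap_surjective_of_Nmap_injective η f hN.1
  obtain ⟨Q, hQ⟩ := hsurj ⟨RingHom.ker g, RingHom.ker_isPrime g⟩
  have hker : (PrimeSpectrum.comap f Q).asIdeal = RingHom.ker g :=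
    congrArg PrimeSpectrum.asIdeal hQ
  exact Groth.Agent.H69.exists_lift_of_map_resMap_bijective η f hf Q
    (Groth.Agent.H69.map_resMap_bijective_of_Nmap_surjective η f hN.2 Q) R hR g hker

end Groth.Agent.S13811
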