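import Groth.Statements.S13805
import Groth.Agent.H69.EtaPhi
import Groth.Agent.S13812
import Groth.Agent.S13815

set_option autoImplicit false
universe u
open EtaPt

namespace Groth.Agent.S13805

/-- For a commutative ring A with finitely many minimal prime ideals, every integral ring map f from
M_η(A) to a reduced ring B with N_η(f) bijective is itself bijective. Here η is a natural
transformation from the identity of the category of fields to an endofunctor F with F(η_K) bijective
and η_K purely inseparable for every field K, N_η(A) is the product of the F(k(p)) over the primes p
of A with diagonal map t_A, and M_η(A) ⊆ N_η(A) is the subring of elements sent into the range of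
t_R by every ring map from A to a valuation ring R at whose fraction field η is bijective; q_A : A →
M_η(A) is the corestriction of t_A. -/
theorem result (η : EtaPt.FieldEndo.{u}) (A : Type u) [CommRing A]
    (hA : (minimalPrimes A).Finite) (B : Type u) [CommRing B] [IsReduced B] (f : η.M A →+* B)
    (hf : f.IsIntegral) (hN : Function.Bijective (η.Nmap f)) : Function.Bijective f := by
  obtain ⟨-, hq⟩ := Groth.Agent.S13815.result η A hA
  have hbij := Groth.Agent.S13812.result η f hf hN
  have htB : Function.Injective (η.t B) := Groth.Agent.H69.t_injective_of_isReduced η
  have htM : Function.Injective (η.t (η.M A)) := Groth.Agent.H69.t_injective_of_isReduced η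
  constructor
  · intro a b hab
    apply htM
    apply hN.1
    rw [η.Nmap_t_apply, η.Nmap_t_apply, hab]
  · intro b
    obtain ⟨y, hy, hyb⟩ := hbij.2.2 (η.t_mem_M B b)
    obtain ⟨x, hx⟩ := hq.2 ⟨y, hy⟩
    refine ⟨x, htB ?_⟩
    rw [← η.Nmap_t_apply, ← hyb]
    congr 1
    exact congrArg Subtype.val hx

end Groth.Agent.S13805
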