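import Groth.Statements.S13806
import Groth.Agent.H69.EtaUniq
import Groth.Agent.H69.EtaPrimes
import Groth.Agent.S13812

set_option autoImplicit false
universe u
open EtaPt

namespace Groth.Agent.S13806

/-- For a commutative ring A with finitely many minimal prime ideals and an integral ring map g : A → B
with N_η(g) bijective, there is exactly one ring map g' : B → M_η(A) with g' ∘ g = q_A. Here η is a
natural transformation from the identity of the category of fields to an endofunctor F with F(η_K)
bijective and η_K purely inseparable for every field K, N_η(A) is the product of the F(k(p)) over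
the primes p of A with diagonal map t_A, and M_η(A) ⊆ N_η(A) is the subring of elements sent into
the range of t_R by every ring map from A to a valuation ring R at whose fraction field η is
bijective; q_A : A → M_η(A) is the corestriction of t_A. -/
theorem result (η : EtaPt.FieldEndo.{u}) (A : Type u) [CommRing A]
    (hA : (minimalPrimes A).Finite) (B : Type u) [CommRing B] (g : A →+* B)
    (hg : g.IsIntegral) (hN : Function.Bijective (η.Nmap g)) :
    ∃! g' : B →+* η.M A, g'.comp g = η.q A := by
  have hbij := Groth.Agent.S13812.result η g hg hN
  let e : η.M A →+* η.M B := (η.Nmap g).restrict (η.M A) (η.M B) hbij.1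
  have he : Function.Bijective e := by
    constructor
    · intro x y hxy
      apply Subtype.ext
      apply hN.1
      exact congrArg Subtype.val hxy
    · rintro ⟨y, hy⟩
      obtain ⟨x, hx, hxy⟩ := hbij.2.2 hy
      exact ⟨⟨x, hx⟩, Subtype.ext hxy⟩
  let E : η.M A ≃+* η.M B := RingEquiv.ofBijective e he
  have hE : ∀ a, E (η.q A a) = η.q B (g a) := by
    intro a
    apply Subtype.ext
    exact η.Nmap_t_apply g a
  refine ⟨E.symm.toRingHom.comp (η.q B), ?_, ?_⟩
  · apply RingHom.ext
    intro a
    show E.symm (η.q B (g a)) = η.q A a
    rw [← hE, RingEquiv.symm_apply_apply]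
  · intro g'' hg''
    have hcomp : (E.symm.toRingHom.comp (η.q B)).comp g = η.q A := by
      apply RingHom.ext
      intro a
      show E.symm (η.q B (g a)) = η.q A a
      rw [← hE, RingEquiv.symm_apply_apply]
    apply RingHom.ext
    intro b
    apply Subtype.ext
    funext P
    have h1 : ((Groth.Agent.H69.evalM η P).comp g'') =
        ((Groth.Agent.H69.evalM η P).comp (E.symm.toRingHom.comp (η.q B))) := by
      apply Groth.Agent.H69.ringHom_ext_of_Nmap_surjective η g hN.2
      rw [RingHom.comp_assoc, RingHom.comp_assoc, hg'', hcomp]
    exact congrArg (fun φ : B →+* _ => φ b) h1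

end Groth.Agent.S13806
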