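import Groth.Statements.S13807
import Groth.Agent.H69.EtaVal

set_option autoImplicit false
universe u
open EtaPt

namespace Groth.Agent.S13807

/-- For a field K the pointwise ring M_η(K) is all of N_η(K) = F(k((0))). Here η is a natural
transformation from the identity of the category of fields to an endofunctor F with F(η_K) bijective
and η_K purely inseparable for every field K, N_η(A) is the product of the F(k(p)) over the primes p
of A with diagonal map t_A, and M_η(A) ⊆ N_η(A) is the subring of elements sent into the range of
t_R by every ring map from A to a valuation ring R at whose fraction field η is bijective; q_A : A →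
M_η(A) is the corestriction of t_A. -/
theorem result (η : EtaPt.FieldEndo.{u}) (K : Type u) [Field K] : η.M K = ⊤ := by
  classical
  rw [eq_top_iff]
  intro x _
  intro R _ _ _ hR g
  set p₀ : PrimeSpectrum K := default with hp₀
  obtain ⟨n, z₀, hz₀⟩ := η.exists_pow_mem_range_eta p₀.asIdeal.ResidueField (x p₀)
  have hmax : p₀.asIdeal.IsMaximal := by
    have : p₀.asIdeal = ⊥ := Ideal.eq_bot_of_prime p₀.asIdeal
    rw [this]; exact Ideal.bot_isMaximal
  obtain ⟨z, rfl⟩ := Ideal.algebraMap_residueField_surjective p₀.asIdeal z₀
  have he : ringExpChar p₀.asIdeal.ResidueField = ringExpChar K :=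
    Groth.Agent.H69.ringExpChar_eq_of_ringHom (algebraMap K p₀.asIdeal.ResidueField)
  rw [he] at hz₀
  set m := ringExpChar K ^ n with hm
  have hmpos : 0 < m := pow_pos (Groth.Agent.H69.ringExpChar_pos K) n
  have hx : x ^ m = η.t K z := by
    funext p
    obtain rfl : p = p₀ := Subsingleton.elim _ _
    rw [Pi.pow_apply]
    exact hz₀.symm
  have hw : (η.Nmap g x) ^ m = η.t R (g z) := by
    rw [← map_pow, hx, η.Nmap_t_apply]
  have : IsIntegrallyClosed R := inferInstance
  refine Groth.Agent.H69.mem_range_t_of_pow η R hR (η.Nmap g x) m hmpos (g z) hw ?_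
  intro q a b hab
  exact Groth.Agent.H69.pow_expChar_pow_inj
    ((η.eta q.asIdeal.ResidueField).comp ((algebraMap R q.asIdeal.ResidueField).comp g)) n hab

end Groth.Agent.S13807
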