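import Groth.Statements.S13810
import Groth.Agent.H69.EtaProd

set_option autoImplicit false
universe u
open EtaPt

namespace Groth.Agent.S13810

/-- For commutative rings A and B, the pair of maps N_η of the two projections restricts to a bijection
from M_η(A × B) onto M_η(A) × M_η(B). Here η is a natural transformation from the identity of the
category of fields to an endofunctor F with F(η_K) bijective and η_K purely inseparable for every
field K, N_η(A) is the product of the F(k(p)) over the primes p of A with diagonal map t_A, and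
M_η(A) ⊆ N_η(A) is the subring of elements sent into the range of t_R by every ring map from A to a
valuation ring R at whose fraction field η is bijective; q_A : A → M_η(A) is the corestriction of
t_A. -/
theorem result (η : EtaPt.FieldEndo.{u}) (A B : Type u) [CommRing A] [CommRing B] :
    Set.BijOn (fun x : η.N (A × B) => (η.Nmap (RingHom.fst A B) x, η.Nmap (RingHom.snd A B) x))
      (η.M (A × B)) ((η.M A : Set (η.N A)) ×ˢ (η.M B : Set (η.N B))) := by
  classical
  have hfs : (RingHom.fst A B).SurjectiveOnStalks :=
    RingHom.surjectiveOnStalks_of_surjective Prod.fst_surjective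
  have hss : (RingHom.snd A B).SurjectiveOnStalks :=
    RingHom.surjectiveOnStalks_of_surjective Prod.snd_surjective
  have hfi : Function.Injective (PrimeSpectrum.comap (RingHom.fst A B)) :=
    PrimeSpectrum.comap_injective_of_surjective _ Prod.fst_surjective
  have hsi : Function.Injective (PrimeSpectrum.comap (RingHom.snd A B)) :=
    PrimeSpectrum.comap_injective_of_surjective _ Prod.snd_surjective
  refine ⟨?_, ?_, ?_⟩
  · intro x hx
    exact ⟨Groth.Agent.H69.Nmap_mem_M η _ hx, Groth.Agent.H69.Nmap_mem_M η _ hx⟩
  · intro x _ y _ hxy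
    have h1 : η.Nmap (RingHom.fst A B) x = η.Nmap (RingHom.fst A B) y := congrArg Prod.fst hxy
    have h2 : η.Nmap (RingHom.snd A B) x = η.Nmap (RingHom.snd A B) y := congrArg Prod.snd hxy
    funext P
    rcases Groth.Agent.H69.exists_comap_fst_or_snd P with ⟨p, rfl⟩ | ⟨q, rfl⟩
    · have := congrFun h1 p
      rw [Groth.Agent.H69.Nmap_apply, Groth.Agent.H69.Nmap_apply] at this
      exact Groth.Agent.H69.map_injective η _ this
    · have := congrFun h2 q
      rw [Groth.Agent.H69.Nmap_apply, Groth.Agent.H69.Nmap_apply] at this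
      exact Groth.Agent.H69.map_injective η _ this
  · rintro ⟨x₁, x₂⟩ ⟨hx₁, hx₂⟩
    have hx₁' : x₁ ∈ η.M A := hx₁
    have hx₂' : x₂ ∈ η.M B := hx₂
    obtain ⟨x', hx'⟩ := Groth.Agent.H69.Nmap_surjective_of_surjectiveOnStalks η _ hfs hfi x₁
    obtain ⟨x'', hx''⟩ := Groth.Agent.H69.Nmap_surjective_of_surjectiveOnStalks η _ hss hsi x₂
    let x : η.N (A × B) := fun P =>
      if P ∈ Set.range (PrimeSpectrum.comap (RingHom.fst A B)) then x' P else x'' P
    have h1 : η.Nmap (RingHom.fst A B) x = x₁ := by
      rw [← hx']
      funext p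
      rw [Groth.Agent.H69.Nmap_apply, Groth.Agent.H69.Nmap_apply]
      congr 1
      exact if_pos ⟨p, rfl⟩
    have h2 : η.Nmap (RingHom.snd A B) x = x₂ := by
      rw [← hx'']
      funext q
      rw [Groth.Agent.H69.Nmap_apply, Groth.Agent.H69.Nmap_apply]
      congr 1
      refine if_neg ?_
      rintro ⟨p, hp⟩
      exact Groth.Agent.H69.comap_fst_ne_comap_snd p q hp
    refine ⟨x, ?_, ?_⟩
    · intro R _ _ _ hR g
      rcases Groth.Agent.H69.exists_factor_fst_or_snd g with ⟨g₁, rfl⟩ | ⟨g₂, rfl⟩
      · rw [Groth.Agent.H69.Nmap_comp_apply, h1]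
        exact hx₁' R hR g₁
      · rw [Groth.Agent.H69.Nmap_comp_apply, h2]
        exact hx₂' R hR g₂
    · show (η.Nmap (RingHom.fst A B) x, η.Nmap (RingHom.snd A B) x) = (x₁, x₂)
      rw [h1, h2]

end Groth.Agent.S13810
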