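import Groth.Statements.S1382
import Groth.Agent.H7.ThickeningAffine
import Groth.Agent.H7.NilpotentLift

set_option autoImplicit false
universe u
open FlatMor

namespace Groth.Agent.S1382

open AlgebraicGeometry CategoryTheory Limits in
/-- Let S ⟶ S' be an arbitrary thickening, let X' ⟶ Y' be a morphism of schemes over S' with X' flat and
locally of finite presentation over S' and Y' locally of finite type over S', and let X ⟶ Y be its
base change to S. Then X ⟶ Y is an isomorphism if and only if X' ⟶ Y' is. -/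
theorem result {X X' Y Y' S S' : Scheme.{u}} (iX : X ⟶ X') (iY : Y ⟶ Y') (iS : S ⟶ S')
    (f : X ⟶ Y) (f' : X' ⟶ Y') (g : Y ⟶ S) (g' : Y' ⟶ S')
    (hS : MoreMor.IsThickening iS) (hcX : IsPullback iX (f ≫ g) (f' ≫ g') iS) (hcY : IsPullback iY g g' iS)
    (w : iX ≫ f' = f ≫ iY) [Flat (f' ≫ g')] [LocallyOfFinitePresentation (f' ≫ g')] [LocallyOfFiniteType g'] :
    IsIso f ↔ IsIso f' := by
  have hsq := Groth.Agent.H7.isPullback_of_isPullback_of_isPullback hcX hcY w
  constructor
  · intro hf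
    have := hS.1
    have := hS.2
    have hY := Groth.Agent.H7.isThickening_of_isPullback hcY hS
    have hX := Groth.Agent.H7.isThickening_of_isPullback hsq hY
    have hce : Topology.IsClosedEmbedding f' :=
      Groth.Agent.H7.isClosedEmbedding_of_thickening hX hY w f.homeomorph.isClosedEmbedding
    have haff : IsAffineHom f' := isAffineHom_of_isInducing f' hce.isInducing hce.isClosed_range
    choose V' hyV' hV' W' hW' hVW' using Groth.Agent.H7.exists_affine_nhds_over_affine g'
    have hsup : iSup V' = ⊤ :=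
      eq_top_iff.mpr fun y _ ↦ TopologicalSpace.Opens.mem_iSup.mpr ⟨y, hyV' y⟩
    change (MorphismProperty.isomorphisms Scheme) f'
    rw [IsZariskiLocalAtTarget.iff_of_iSup_eq_top (P := MorphismProperty.isomorphisms Scheme)
      V' hsup]
    intro y'
    change IsIso (f' ∣_ V' y')
    refine (isIso_morphismRestrict_iff_isIso_app f' (hV' y')).mpr ?_
    refine (ConcreteCategory.isIso_iff_bijective (f'.app (V' y'))).mpr ?_
    change Function.Bijective (f'.app (V' y')).hom
    have hU' : IsAffineOpen (f' ⁻¹ᵁ V' y') := (hV' y').preimage f'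
    obtain ⟨hVa, hUa, e', hcomm, hαs, hβs, hkα, hkβ, hnil⟩ :=
      Groth.Agent.H7.thickening_affine_data₂ hS hcX hcY w (hW' y') (hV' y') (hVW' y') hU' le_rfl
    have hflat : ((f'.appLE (V' y') (f' ⁻¹ᵁ V' y') le_rfl).hom.comp
        (g'.appLE (W' y') (V' y') (hVW' y')).hom).Flat := by
      rw [← CommRingCat.hom_comp, Scheme.Hom.appLE_comp_appLE]
      exact HasRingHomProperty.appLE @Flat (f' ≫ g') inferInstance ⟨_, hW' y'⟩ ⟨_, hU'⟩ _
    have key : ∀ (W : X.Opens) (_ : W = f ⁻¹ᵁ (iY ⁻¹ᵁ V' y')) (e : W ≤ f ⁻¹ᵁ (iY ⁻¹ᵁ V' y')),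
        Function.Bijective (f.appLE (iY ⁻¹ᵁ V' y') W e).hom := by
      rintro W rfl e
      rw [← Scheme.Hom.app_eq_appLE]
      exact ConcreteCategory.bijective_of_isIso (f.app _)
    have hEq : iX ⁻¹ᵁ (f' ⁻¹ᵁ V' y') = f ⁻¹ᵁ (iY ⁻¹ᵁ V' y') := by
      rw [← Scheme.Hom.comp_preimage, ← Scheme.Hom.comp_preimage, w]
    have hft : (g'.appLE (W' y') (V' y') (hVW' y')).hom.FiniteType :=
      HasRingHomProperty.appLE @LocallyOfFiniteType g' inferInstance ⟨_, hW' y'⟩ ⟨_, hV' y'⟩ _
    have hfp : ((f'.appLE (V' y') (f' ⁻¹ᵁ V' y') le_rfl).hom.comp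
        (g'.appLE (W' y') (V' y') (hVW' y')).hom).FinitePresentation := by
      rw [← CommRingCat.hom_comp, Scheme.Hom.appLE_comp_appLE]
      exact HasRingHomProperty.appLE @LocallyOfFinitePresentation (f' ≫ g') inferInstance
        ⟨_, hW' y'⟩ ⟨_, hU'⟩ _
    have h4 := Groth.Agent.H7.ringHom_bijective_of_nil_of_flat_of_finitePresentation _ _ _ _ _
      (RingHom.ker (iS.app (W' y')).hom) hnil hcomm hαs hkα hkβ hft hfp hflat (key _ hEq e')
    rw [← Scheme.Hom.app_eq_appLE] at h4
    exact h4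
  · intro hf'
    exact MorphismProperty.of_isPullback (P := MorphismProperty.isomorphisms Scheme) hsq hf'

end Groth.Agent.S1382
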