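import Groth.Statements.S13820
import Groth.Agent.H69.EtaRel2

set_option autoImplicit false
universe u
open EtaPt

namespace Groth.Agent.S13820

/-- Let A have finitely many minimal prime ideals and let B be an A-algebra with Spec B → Spec A
surjective, C the integral closure of A in B; then the inclusion C ⊆ B carries (C/A)_η onto (B/A)_η.
Here η is a natural transformation from the identity of the category of fields to an endofunctor F
with F(η_K) bijective and η_K purely inseparable for every field K, N_η(A) is the product of the
F(k(p)) over the primes p of A with diagonal map t_A, and M_η(A) ⊆ N_η(A) is the subring of elements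
sent into the range of t_R by every ring map from A to a valuation ring R at whose fraction field η
is bijective; q_A : A → M_η(A) is the corestriction of t_A. For a ring map f : A → B, (B/A)_η ⊆ B
denotes the subring of elements b with t_B(b) in N_η(f)(M_η(A)) (the image in B of the fibre product
of M_η(A) and B over M_η(B)), and q_{B/A} : A → (B/A)_η the corestriction of f. -/
theorem result (η : EtaPt.FieldEndo.{u}) (A B : Type u) [CommRing A] [CommRing B] [Algebra A B]
    (hA : (minimalPrimes A).Finite) (hs : Function.Surjective (PrimeSpectrum.comap (algebraMap A B))) :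
    (η.rel (algebraMap A (integralClosure A B))).map (integralClosure A B).val.toRingHom =
      η.rel (algebraMap A B) := by
  have hN := Groth.Agent.H69.Nmap_injective_of_comap_surjective η (algebraMap A B) hs
  have hcomp : (integralClosure A B).val.toRingHom.comp (algebraMap A (integralClosure A B)) =
      algebraMap A B := RingHom.ext fun a => rfl
  have hιinj : Function.Injective (integralClosure A B).val.toRingHom := Subtype.val_injective
  apply le_antisymm
  · rintro _ ⟨c, ⟨x, hx, hxc⟩, rfl⟩
    refine ⟨x, hx, ?_⟩
    have hxc' : η.Nmap (algebraMap A (integralClosure A B)) x = η.t _ c := hxc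
    rw [← hcomp, Groth.Agent.H69.Nmap_comp_apply, hxc', η.Nmap_t_apply]
  · intro b hb
    obtain ⟨G, hG, hGb⟩ := Groth.Agent.H69.qRel_isIntegral η (algebraMap A B) hN hA ⟨b, hb⟩
    have hint : IsIntegral A b := by
      refine ⟨G, hG, ?_⟩
      have := congrArg Subtype.val hGb
      rw [show ((Polynomial.eval₂ (η.qRel (algebraMap A B)) ⟨b, hb⟩ G : η.rel (algebraMap A B)) : B)
        = Polynomial.eval₂ (algebraMap A B) b G from
        Polynomial.hom_eval₂ G (η.qRel (algebraMap A B)) (η.rel (algebraMap A B)).subtype ⟨b, hb⟩]
        at this
      exact this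
    obtain ⟨x, hx, hxb⟩ := hb
    have hxb' : η.Nmap (algebraMap A B) x = η.t B b := hxb
    refine ⟨⟨b, hint⟩, ⟨x, hx, ?_⟩, rfl⟩
    show η.Nmap (algebraMap A (integralClosure A B)) x = η.t _ ⟨b, hint⟩
    have hd : η.Nmap (algebraMap A (integralClosure A B)) x - η.t _ ⟨b, hint⟩ ∈
        η.M (integralClosure A B) :=
      Subring.sub_mem _ (Groth.Agent.H69.Nmap_mem_M η _ hx) (η.t_mem_M _ _)
    have h0 : η.Nmap (integralClosure A B).val.toRingHom
        (η.Nmap (algebraMap A (integralClosure A B)) x - η.t _ ⟨b, hint⟩) = 0 := by
      rw [map_sub, ← Groth.Agent.H69.Nmap_comp_apply, hcomp, hxb', η.Nmap_t_apply]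
      exact sub_self _
    exact sub_eq_zero.1
      (Groth.Agent.H69.M_eq_zero_of_Nmap_eq_zero_of_injective η _ hιinj hd h0)

end Groth.Agent.S13820
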