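import Groth.Statements.S13823
import Groth.Agent.H69.EtaBasic
import Mathlib.RingTheory.Flat.FaithfullyFlat.Algebra
import Mathlib.RingTheory.Flat.TorsionFree
import Mathlib.RingTheory.Localization.Integral

set_option autoImplicit false
universe u
open EtaPt

namespace Groth.Agent.S13823

/-- Let A → A' be faithfully flat with A and A' having finitely many minimal prime ideals, and let Ā, Ā'
be the integral closures of A, A' in their total rings of fractions; if q_{Ā'/A'} is bijective then
q_{Ā/A} is bijective. Here η is a natural transformation from the identity of the category of fields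
to an endofunctor F with F(η_K) bijective and η_K purely inseparable for every field K, N_η(A) is
the product of the F(k(p)) over the primes p of A with diagonal map t_A, and M_η(A) ⊆ N_η(A) is the
subring of elements sent into the range of t_R by every ring map from A to a valuation ring R at
whose fraction field η is bijective; q_A : A → M_η(A) is the corestriction of t_A. For a ring map f
: A → B, (B/A)_η ⊆ B denotes the subring of elements b with t_B(b) in N_η(f)(M_η(A)) (the image in B
of the fibre product of M_η(A) and B over M_η(B)), and q_{B/A} : A → (B/A)_η the corestriction of f. -/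
theorem result (η : EtaPt.FieldEndo.{u}) (A A' : Type u) [CommRing A] [CommRing A'] [Algebra A A'] [Module.FaithfullyFlat A A']
    (hA : (minimalPrimes A).Finite) (hA' : (minimalPrimes A').Finite)
    (h : Function.Bijective (η.qRel (algebraMap A' (integralClosure A' (FractionRing A'))))) :
    Function.Bijective (η.qRel (algebraMap A (integralClosure A (FractionRing A)))) := by
  have hu_nzd : nonZeroDivisors A ≤ (nonZeroDivisors A').comap (algebraMap A A') := by
    intro r hr
    rw [Submonoid.mem_comap, mem_nonZeroDivisors_iff_right]
    intro z hz
    have hreg : IsSMulRegular A' r := Module.Flat.isSMulRegular_of_nonZeroDivisors hr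
    apply hreg
    show r • z = r • (0 : A')
    rw [smul_zero, Algebra.smul_def, mul_comm]
    exact hz
  let k : FractionRing A →+* FractionRing A' :=
    IsLocalization.map (FractionRing A') (algebraMap A A') hu_nzd
  have hk : ∀ a, k (algebraMap A (FractionRing A) a) =
      algebraMap A' (FractionRing A') (algebraMap A A' a) := fun a => IsLocalization.map_eq _ a
  have hkint : ∀ b : FractionRing A, IsIntegral A b → IsIntegral A' (k b) := by
    rintro b ⟨p, hp, hpb⟩
    refine ⟨p.map (algebraMap A A'), hp.map _, ?_⟩
    rw [Polynomial.eval₂_map]
    have : (algebraMap A' (FractionRing A')).comp (algebraMap A A') =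
        k.comp (algebraMap A (FractionRing A)) := RingHom.ext fun a => (hk a).symm
    rw [this, ← Polynomial.hom_eval₂, hpb, map_zero]
  let g : integralClosure A (FractionRing A) →+* integralClosure A' (FractionRing A') :=
    (k.comp (integralClosure A (FractionRing A)).val.toRingHom).codRestrict
      (integralClosure A' (FractionRing A')).toSubring (fun b => hkint _ b.2)
  have hg : g.comp (algebraMap A (integralClosure A (FractionRing A))) =
      (algebraMap A' (integralClosure A' (FractionRing A'))).comp (algebraMap A A') := by
    apply RingHom.ext
    intro a
    apply Subtype.ext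
    exact hk a
  have hinjA : Function.Injective (algebraMap A (FractionRing A)) :=
    IsFractionRing.injective A (FractionRing A)
  have hinjA' : Function.Injective (algebraMap A' (FractionRing A')) :=
    IsFractionRing.injective A' (FractionRing A')
  constructor
  · intro a b hab
    apply hinjA
    have h1 := congrArg Subtype.val hab
    exact congrArg Subtype.val h1
  · rintro ⟨b, x, hx, hxb⟩
    have hxb' : η.Nmap (algebraMap A (integralClosure A (FractionRing A))) x = η.t _ b := hxb
    have hgb : g b ∈ η.rel (algebraMap A' (integralClosure A' (FractionRing A'))) := by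
      refine ⟨η.Nmap (algebraMap A A') x, Groth.Agent.H69.Nmap_mem_M η _ hx, ?_⟩
      rw [← Groth.Agent.H69.Nmap_comp_apply, ← hg, Groth.Agent.H69.Nmap_comp_apply, hxb',
        η.Nmap_t_apply]
    obtain ⟨a', ha'⟩ := h.2 ⟨g b, hgb⟩
    have ha'' : algebraMap A' (FractionRing A') a' = k (b : FractionRing A) := by
      have h1 := congrArg Subtype.val ha'
      exact congrArg Subtype.val h1
    -- descent
    obtain ⟨⟨c, s⟩, hcs⟩ := IsLocalization.surj (nonZeroDivisors A) (b : FractionRing A)
    have hcs' : (b : FractionRing A) * algebraMap A (FractionRing A) (s : A) =
        algebraMap A (FractionRing A) c := hcs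
    have h2 : a' * algebraMap A A' (s : A) = algebraMap A A' c := by
      apply hinjA'
      rw [map_mul, ha'', ← hk, ← hk, ← map_mul, hcs']
    have h3 : c ∈ (Ideal.map (algebraMap A A') (Ideal.span {(s : A)})).comap (algebraMap A A') := by
      rw [Ideal.mem_comap, ← h2, mul_comm]
      exact Ideal.mul_mem_right _ _ (Ideal.mem_map_of_mem _ (Ideal.mem_span_singleton_self _))
    rw [Ideal.comap_map_eq_self_of_faithfullyFlat, Ideal.mem_span_singleton'] at h3
    obtain ⟨a₀, ha₀⟩ := h3
    refine ⟨a₀, ?_⟩
    apply Subtype.ext
    apply Subtype.ext
    show algebraMap A (FractionRing A) a₀ = (b : FractionRing A)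
    have hsunit : IsUnit (algebraMap A (FractionRing A) (s : A)) :=
      IsLocalization.map_units (FractionRing A) s
    apply hsunit.mul_right_cancel
    rw [hcs', ← ha₀, map_mul]

end Groth.Agent.S13823
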