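import Groth.Statements.S13826
import Groth.Agent.H69.EtaScheme
import Groth.Agent.H69.EtaRel
import Groth.Agent.H69.EtaUniq
import Groth.Agent.S13804
import Groth.Agent.S13806

set_option autoImplicit false
universe u
open EtaPt

namespace Groth.Agent.S13826

/-- For the identity endofunctor and a commutative ring A with finitely many minimal prime ideals, q_A :
A → M(A) is a seminormalization of A: Spec(q_A) is a universal homeomorphism with trivial residue
field extensions, final among ring maps out of A with these properties. Here M(A) ⊆ ∏_p k(p) is the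
subring of families whose image in ∏_q k(q), for every ring map from A to a valuation ring R, is the
diagonal image of an element of R. -/
theorem result (A : Type u) [CommRing A] (hA : (minimalPrimes A).Finite) :
    HTop.IsRingSN (EtaPt.FieldEndo.ident.{u}.q A) := by
  refine ⟨⟨?_, ?_⟩, ?_⟩
  · exact Groth.Agent.H69.isUnivHomeo_of _
      (Groth.Agent.H69.q_isIntegral EtaPt.FieldEndo.ident.{u} hA)
      (Groth.Agent.H69.comap_q_surjective EtaPt.FieldEndo.ident.{u})
      (fun L _ α β h => Groth.Agent.H69.ringHom_ext_of_Nmap_surjective EtaPt.FieldEndo.ident.{u}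
        (EtaPt.FieldEndo.ident.{u}.q A) (Groth.Agent.S13804.result EtaPt.FieldEndo.ident.{u} A hA).2
        α β h)
  · rw [Groth.Agent.H69.residueFieldsIso_iff]
    intro Q
    refine ⟨RingHom.injective _, ?_⟩
    intro z
    have hcomp := Groth.Agent.H69.phiQ_comp EtaPt.FieldEndo.ident.{u} hA Q
    refine ⟨Groth.Agent.H69.phiQ EtaPt.FieldEndo.ident.{u} hA Q z, ?_⟩
    apply (Groth.Agent.H69.phiQ EtaPt.FieldEndo.ident.{u} hA Q).injective
    exact congrArg (fun h : _ →+* _ => h (Groth.Agent.H69.phiQ EtaPt.FieldEndo.ident.{u} hA Q z)) hcomp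
  · intro C _ ψ h1 h2
    have hint := Groth.Agent.H69.isIntegral_of_isUnivHomeo ψ h1
    have hbij := (Groth.Agent.H69.isHomeomorph_of_isUnivHomeo ψ h1).bijective
    have hres := (Groth.Agent.H69.residueFieldsIso_iff ψ).1 h2
    have hN : Function.Bijective (EtaPt.FieldEndo.ident.{u}.Nmap ψ) :=
      ⟨Groth.Agent.H69.Nmap_injective_of_comap_surjective _ ψ hbij.2,
        Groth.Agent.H69.Nmap_surjective_of _ ψ hbij.1 (fun q => (hres q).2)⟩
    exact Groth.Agent.S13806.result EtaPt.FieldEndo.ident.{u} A hA C ψ hint hN

end Groth.Agent.S13826
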