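import Groth.Statements.S1383
import Groth.Agent.H7.ThickeningAffine
import Groth.Agent.H7.NilpotentLift
import Groth.Agent.S1382

set_option autoImplicit false
universe u
open FlatMor

namespace Groth.Agent.S1383

open AlgebraicGeometry CategoryTheory Limits in
/-- Let S ⟶ S' be an arbitrary thickening, let X' ⟶ Y' be a morphism of schemes over S' with X' flat and
locally of finite presentation over S' and Y' locally of finite type over S', and let X ⟶ Y be its
base change to S. Then X' ⟶ Y' is an open immersion exactly when X ⟶ Y is one. -/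
theorem result {X X' Y Y' S S' : Scheme.{u}} (iX : X ⟶ X') (iY : Y ⟶ Y') (iS : S ⟶ S')
    (f : X ⟶ Y) (f' : X' ⟶ Y') (g : Y ⟶ S) (g' : Y' ⟶ S')
    (hS : MoreMor.IsThickening iS) (hcX : IsPullback iX (f ≫ g) (f' ≫ g') iS) (hcY : IsPullback iY g g' iS)
    (w : iX ≫ f' = f ≫ iY) [Flat (f' ≫ g')] [LocallyOfFinitePresentation (f' ≫ g')] [LocallyOfFiniteType g'] :
    IsOpenImmersion f ↔ IsOpenImmersion f' := by
  have hsq := Groth.Agent.H7.isPullback_of_isPullback_of_isPullback hcX hcY w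
  constructor
  · intro hf
    have hY := Groth.Agent.H7.isThickening_of_isPullback hcY hS
    have := hY.1
    have := hY.2
    have hX := Groth.Agent.H7.isThickening_of_isPullback hsq hY
    have := hX.2
    have hiY := Groth.Agent.H7.isThickening_isHomeomorph iY hY
    obtain ⟨V', hV'⟩ : ∃ V' : Y'.Opens, (iY ⁻¹ᵁ V' : Set Y) = Set.range f :=
      ⟨⟨iY '' Set.range f, hiY.isOpenMap _ f.isOpenEmbedding.isOpen_range⟩,
        Set.preimage_image_eq _ iY.injective⟩
    have hr : Set.range f ⊆ Set.range (iY ⁻¹ᵁ V').ι := by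
      rw [Scheme.Opens.range_ι, hV']
    have hr' : Set.range f' ⊆ Set.range V'.ι := by
      rw [Scheme.Opens.range_ι]
      rintro _ ⟨x', rfl⟩
      obtain ⟨x, rfl⟩ := iX.surjective x'
      have h1 : f' (iX x) = iY (f x) := by
        rw [← Scheme.Hom.comp_apply, ← Scheme.Hom.comp_apply, w]
      rw [h1]
      have h2 : f x ∈ (iY ⁻¹ᵁ V' : Set Y) := by
        rw [hV']; exact ⟨x, rfl⟩
      exact h2
    have hrange : Set.range f = Set.range (iY ⁻¹ᵁ V').ι := by
      rw [Scheme.Opens.range_ι, hV']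
    have hg₀ : IsOpenImmersion.lift (iY ⁻¹ᵁ V').ι f hr =
        (IsOpenImmersion.isoOfRangeEq f (iY ⁻¹ᵁ V').ι hrange).hom := by
      rw [← cancel_mono (iY ⁻¹ᵁ V').ι, IsOpenImmersion.lift_fac,
        IsOpenImmersion.isoOfRangeEq_hom_fac]
    have hiso : IsIso (IsOpenImmersion.lift (iY ⁻¹ᵁ V').ι f hr) := by
      rw [hg₀]; infer_instance
    have hw' : iX ≫ IsOpenImmersion.lift V'.ι f' hr' =
        IsOpenImmersion.lift (iY ⁻¹ᵁ V').ι f hr ≫ iY ∣_ V' := by
      rw [← cancel_mono V'.ι, Category.assoc, Category.assoc, morphismRestrict_ι,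
        IsOpenImmersion.lift_fac_assoc, IsOpenImmersion.lift_fac, w]
    have hcY' : IsPullback (iY ∣_ V') ((iY ⁻¹ᵁ V').ι ≫ g) (V'.ι ≫ g') iS :=
      (isPullback_morphismRestrict iY V').paste_vert hcY
    have hcX' : IsPullback iX (IsOpenImmersion.lift (iY ⁻¹ᵁ V').ι f hr ≫ (iY ⁻¹ᵁ V').ι ≫ g)
        (IsOpenImmersion.lift V'.ι f' hr' ≫ V'.ι ≫ g') iS := by
      rw [IsOpenImmersion.lift_fac_assoc, IsOpenImmersion.lift_fac_assoc]
      exact hcX
    have hflat : Flat (IsOpenImmersion.lift V'.ι f' hr' ≫ V'.ι ≫ g') := by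
      rw [IsOpenImmersion.lift_fac_assoc]; infer_instance
    have hlfp : LocallyOfFinitePresentation (IsOpenImmersion.lift V'.ι f' hr' ≫ V'.ι ≫ g') := by
      rw [IsOpenImmersion.lift_fac_assoc]; infer_instance
    have hlft : LocallyOfFiniteType (V'.ι ≫ g') := inferInstance
    have hiso' : IsIso (IsOpenImmersion.lift V'.ι f' hr') :=
      (Groth.Agent.S1382.result iX (iY ∣_ V') iS _ _ _ _ hS hcX' hcY' hw').mp hiso
    rw [← IsOpenImmersion.lift_fac V'.ι f' hr']
    infer_instance
  · intro hf'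
    exact MorphismProperty.of_isPullback hsq hf'

end Groth.Agent.S1383
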