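import Groth.Statements.S13830
import Groth.Agent.H69.EtaScheme
import Groth.Agent.H69.EtaRel
import Groth.Agent.H69.EtaUniq
import Groth.Agent.S13819

set_option autoImplicit false
universe u
open AlgebraicGeometry
open EtaPt

namespace Groth.Agent.S13830

/-- For the identity endofunctor, a commutative ring A with finitely many minimal prime ideals and an
A-algebra B with Spec B → Spec A surjective, the subring (B/A) ⊆ B (elements b whose residue classes
(b mod q)_q come from a family in M(A) ⊆ ∏_p k(p), M(A) being the families that come from an element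
of R after any base change to a valuation ring R) is the seminormalization of A in B: Spec (B/A) →
Spec A is a universal homeomorphism with trivial residue field extensions, and every A-subalgebra C
of B with these two properties is contained in (B/A). -/
theorem result (A B : Type u) [CommRing A] [CommRing B] [Algebra A B] (hA : (minimalPrimes A).Finite)
    (hs : Function.Surjective (PrimeSpectrum.comap (algebraMap A B))) :
    (FlatMor.IsUnivHomeo (Spec.map (CommRingCat.ofHom (EtaPt.FieldEndo.ident.{u}.qRel (algebraMap A B)))) ∧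
      HTop.ResidueFieldsIso (Spec.map (CommRingCat.ofHom (EtaPt.FieldEndo.ident.{u}.qRel (algebraMap A B))))) ∧
    ∀ C : Subalgebra A B,
      FlatMor.IsUnivHomeo (Spec.map (CommRingCat.ofHom (algebraMap A C))) →
      HTop.ResidueFieldsIso (Spec.map (CommRingCat.ofHom (algebraMap A C))) →
      C.toSubring ≤ EtaPt.FieldEndo.ident.{u}.rel (algebraMap A B) := by
  have hN := Groth.Agent.H69.Nmap_injective_of_comap_surjective EtaPt.FieldEndo.ident.{u}
    (algebraMap A B) hs
  refine ⟨⟨?_, ?_⟩, ?_⟩
  · exact Groth.Agent.H69.isUnivHomeo_of _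
      (Groth.Agent.H69.qRel_isIntegral EtaPt.FieldEndo.ident.{u} (algebraMap A B) hN hA)
      (Groth.Agent.H69.comap_qRel_bijective EtaPt.FieldEndo.ident.{u} (algebraMap A B) hN hA).2
      (fun L _ α β h => Groth.Agent.H69.ringHom_ext_of_Nmap_surjective EtaPt.FieldEndo.ident.{u}
        (EtaPt.FieldEndo.ident.{u}.qRel (algebraMap A B))
        (Groth.Agent.H69.Nmap_qRel_bijective EtaPt.FieldEndo.ident.{u} (algebraMap A B) hN hA).2
        α β h)
  · rw [Groth.Agent.H69.residueFieldsIso_iff]
    intro Q
    refine ⟨RingHom.injective _, ?_⟩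
    intro z
    have hcomp := Groth.Agent.H69.phiRel_comp EtaPt.FieldEndo.ident.{u} (algebraMap A B) hN hA Q
    refine ⟨Groth.Agent.H69.phiRel EtaPt.FieldEndo.ident.{u} (algebraMap A B) hN hA Q z, ?_⟩
    apply (Groth.Agent.H69.phiRel EtaPt.FieldEndo.ident.{u} (algebraMap A B) hN hA Q).injective
    exact congrArg (fun h : _ →+* _ =>
      h (Groth.Agent.H69.phiRel EtaPt.FieldEndo.ident.{u} (algebraMap A B) hN hA Q z)) hcomp
  · intro C h1 h2
    have hint := Groth.Agent.H69.isIntegral_of_isUnivHomeo (algebraMap A C) h1
    have hbij := (Groth.Agent.H69.isHomeomorph_of_isUnivHomeo (algebraMap A C) h1).bijective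
    have hres := (Groth.Agent.H69.residueFieldsIso_iff (algebraMap A C)).1 h2
    have hNC : Function.Bijective (EtaPt.FieldEndo.ident.{u}.Nmap (algebraMap A C)) :=
      ⟨Groth.Agent.H69.Nmap_injective_of_comap_surjective _ _ hbij.2,
        Groth.Agent.H69.Nmap_surjective_of _ _ hbij.1 (fun q => (hres q).2)⟩
    have hcomp : C.val.toRingHom.comp (algebraMap A C) = algebraMap A B :=
      RingHom.ext fun a => rfl
    have hs' : Function.Surjective (PrimeSpectrum.comap (C.val.toRingHom.comp (algebraMap A C))) := by
      rw [hcomp]; exact hs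
    have h3 := Groth.Agent.S13819.result EtaPt.FieldEndo.ident.{u} hA (algebraMap A C)
      C.val.toRingHom hs' hint hNC
    rw [hcomp] at h3
    intro c hc
    exact h3 ⟨⟨c, hc⟩, rfl⟩

end Groth.Agent.S13830
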