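import Groth.Statements.S13835
import Mathlib.AlgebraicGeometry.Morphisms.Separated
import Mathlib.AlgebraicGeometry.Gluing
import Mathlib.AlgebraicGeometry.Restrict

set_option autoImplicit false
universe u
open AlgebraicGeometry CategoryTheory
open ChowMon

namespace Groth.Agent.S13835

/-- Let p : T' → T be a universal homeomorphism of separated schemes with T reduced and f' : T' → Y a
morphism (Y separated); if T has an open cover by affine opens U_i such that each restriction of f'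
to p⁻¹(U_i) factors through p⁻¹(U_i) → U_i, then f' factors through p. -/
theorem result {T' T Y : Scheme.{u}} (p : T' ⟶ T) (hp : FlatMor.IsUnivHomeo p) [IsReduced T]
    [T.IsSeparated] [T'.IsSeparated] [Y.IsSeparated] (f' : T' ⟶ Y)
    {ι : Type u} (U : ι → T.affineOpens) (hU : ⨆ i, (U i : T.Opens) = ⊤)
    (hloc : ∀ i, ∃ fi : ((U i : T.Opens) : Scheme.{u}) ⟶ Y, (p ⁻¹ᵁ (U i : T.Opens)).ι ≫ f' = (p ∣_ (U i : T.Opens)) ≫ fi) :
    ∃ f : T ⟶ Y, p ≫ f = f' := by
  classical
  have hcov : TopologicalSpace.IsOpenCover (fun i => (U i : T.Opens)) := hU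
  let 𝒰 : T.OpenCover := T.openCoverOfIsOpenCover (fun i => (U i : T.Opens)) hcov
  choose fi hfi using hloc
  -- base changes of `p` are surjective
  have hsurj : ∀ {W : Scheme.{u}} (w : W ⟶ T), Surjective (Limits.pullback.fst w p) := by
    intro W w
    have h := hp _ _ _ (IsPullback.of_hasPullback w p)
    exact ⟨(h : IsHomeomorph _).surjective⟩
  -- key: a morphism `w : W → T` landing in `U i`, lifted to `U i`, composed with `fi i`
  have key : ∀ (i : ι) {W : Scheme.{u}} (w' : W ⟶ T) (w : W ⟶ (U i : T.Opens).toScheme)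
      (_ : w ≫ (U i : T.Opens).ι = w'),
      Limits.pullback.fst w' p ≫ w ≫ fi i = Limits.pullback.snd w' p ≫ f' := by
    intro i W w' w hw
    subst hw
    have hrange : Set.range (Limits.pullback.snd (w ≫ (U i : T.Opens).ι) p).base ⊆
        Set.range (p ⁻¹ᵁ (U i : T.Opens)).ι.base := by
      rintro _ ⟨x, rfl⟩
      rw [Scheme.Opens.range_ι]
      show p ((Limits.pullback.snd (w ≫ (U i : T.Opens).ι) p) x) ∈ (U i : T.Opens)
      rw [← Scheme.Hom.comp_apply, ← Limits.pullback.condition, Scheme.Hom.comp_apply, Scheme.Hom.comp_apply]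
      exact ((w (Limits.pullback.fst (w ≫ (U i : T.Opens).ι) p x)) : (U i : T.Opens)).2
    let q := IsOpenImmersion.lift (p ⁻¹ᵁ (U i : T.Opens)).ι (Limits.pullback.snd (w ≫ (U i : T.Opens).ι) p) hrange
    have hq : q ≫ (p ⁻¹ᵁ (U i : T.Opens)).ι = Limits.pullback.snd (w ≫ (U i : T.Opens).ι) p :=
      IsOpenImmersion.lift_fac _ _ _
    have hq2 : q ≫ (p ∣_ (U i : T.Opens)) = Limits.pullback.fst (w ≫ (U i : T.Opens).ι) p ≫ w := by
      rw [← cancel_mono (U i : T.Opens).ι, Category.assoc, morphismRestrict_ι, ← Category.assoc, hq,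
        Category.assoc, Limits.pullback.condition]
    calc Limits.pullback.fst (w ≫ (U i : T.Opens).ι) p ≫ w ≫ fi i
        = (q ≫ (p ∣_ (U i : T.Opens))) ≫ fi i := by rw [hq2, Category.assoc]
      _ = q ≫ (p ⁻¹ᵁ (U i : T.Opens)).ι ≫ f' := by rw [Category.assoc, hfi i]
      _ = Limits.pullback.snd (w ≫ (U i : T.Opens).ι) p ≫ f' := by rw [← Category.assoc, hq]
  have hcompat : ∀ i j : ι, Limits.pullback.fst (𝒰.f i) (𝒰.f j) ≫ fi i =
      Limits.pullback.snd (𝒰.f i) (𝒰.f j) ≫ fi j := by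
    intro i j
    show Limits.pullback.fst (U i : T.Opens).ι (U j : T.Opens).ι ≫ fi i =
      Limits.pullback.snd (U i : T.Opens).ι (U j : T.Opens).ι ≫ fi j
    have hred : IsReduced (Limits.pullback (U i : T.Opens).ι (U j : T.Opens).ι) :=
      isReduced_of_isOpenImmersion (Limits.pullback.fst (U i : T.Opens).ι (U j : T.Opens).ι ≫ (U i : T.Opens).ι)
    have h1 := key i (Limits.pullback.fst (U i : T.Opens).ι (U j : T.Opens).ι ≫ (U i : T.Opens).ι)
      (Limits.pullback.fst (U i : T.Opens).ι (U j : T.Opens).ι) rfl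
    have h2 := key j (Limits.pullback.fst (U i : T.Opens).ι (U j : T.Opens).ι ≫ (U i : T.Opens).ι)
      (Limits.pullback.snd (U i : T.Opens).ι (U j : T.Opens).ι) Limits.pullback.condition.symm
    have := hsurj (Limits.pullback.fst (U i : T.Opens).ι (U j : T.Opens).ι ≫ (U i : T.Opens).ι)
    exact ext_of_isDominant
      (Limits.pullback.fst (Limits.pullback.fst (U i : T.Opens).ι (U j : T.Opens).ι ≫ (U i : T.Opens).ι) p)
      (h1.trans h2.symm)
  refine ⟨𝒰.glueMorphisms fi hcompat, ?_⟩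
  have hcov' : TopologicalSpace.IsOpenCover (fun i => p ⁻¹ᵁ (U i : T.Opens)) := by
    show ⨆ i, p ⁻¹ᵁ (U i : T.Opens) = ⊤
    rw [← Scheme.Hom.preimage_iSup, hU]
    rfl
  apply Scheme.Cover.hom_ext (T'.openCoverOfIsOpenCover (fun i => p ⁻¹ᵁ (U i : T.Opens)) hcov')
  intro i
  show (p ⁻¹ᵁ (U i : T.Opens)).ι ≫ p ≫ 𝒰.glueMorphisms fi hcompat = (p ⁻¹ᵁ (U i : T.Opens)).ι ≫ f'
  rw [← Category.assoc, ← morphismRestrict_ι, Category.assoc]
  have := 𝒰.ι_glueMorphisms fi hcompat i
  exact (congrArg (fun m => (p ∣_ (U i : T.Opens)) ≫ m) this).trans (hfi i).symm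

end Groth.Agent.S13835
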