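import Groth.Statements.S13837
import Groth.Agent.H69.EtaScheme2
import Groth.Agent.H69.EtaExt
import Mathlib.RingTheory.TensorProduct.Basic
import Mathlib.RingTheory.Nilpotent.Lemmas

set_option autoImplicit false
universe u
open AlgebraicGeometry
open scoped TensorProduct
open HTop

namespace Groth.Agent.S13837

/-- Let A ⊆ B be an integral ring extension where A and B have finitely many minimal prime ideals; then
the weak normalization of A in B is the equaliser of the two maps B ⇉ (B ⊗_A B)_red: the
A-subalgebra E of elements b with b ⊗ 1 − 1 ⊗ b nilpotent in B ⊗_A B has Spec E → Spec A a universal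
homeomorphism, and every A-subalgebra C of B with Spec C → Spec A a universal homeomorphism is
contained in E. -/
theorem result (A B : Type u) [CommRing A] [CommRing B] [Algebra A B] (hinj : Function.Injective (algebraMap A B))
    [Algebra.IsIntegral A B] (hA : (minimalPrimes A).Finite) (hB : (minimalPrimes B).Finite) :
    ∃ E : Subalgebra A B, (∀ b : B, b ∈ E ↔ IsNilpotent (b ⊗ₜ[A] (1 : B) - (1 : B) ⊗ₜ[A] b)) ∧
      FlatMor.IsUnivHomeo (Spec.map (CommRingCat.ofHom (algebraMap A E))) ∧
      ∀ C : Subalgebra A B, FlatMor.IsUnivHomeo (Spec.map (CommRingCat.ofHom (algebraMap A C))) → C ≤ E := by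
  classical
  let π : (B ⊗[A] B) →ₐ[A] (B ⊗[A] B) ⧸ nilradical (B ⊗[A] B) :=
    Ideal.Quotient.mkₐ A (nilradical (B ⊗[A] B))
  let iL : B →ₐ[A] B ⊗[A] B := Algebra.TensorProduct.includeLeft
  let iR : B →ₐ[A] B ⊗[A] B := Algebra.TensorProduct.includeRight
  let E : Subalgebra A B := AlgHom.equalizer (π.comp iL) (π.comp iR)
  have hmem : ∀ b : B, b ∈ E ↔ IsNilpotent (b ⊗ₜ[A] (1 : B) - (1 : B) ⊗ₜ[A] b) := by
    intro b
    show π (iL b) = π (iR b) ↔ _
    rw [← mem_nilradical]
    exact Ideal.Quotient.eq
  refine ⟨E, hmem, ?_, ?_⟩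
  · -- universal homeomorphism
    have hint : (algebraMap A E).IsIntegral := by
      apply algebraMap_isIntegral_iff.2
      constructor
      intro e
      exact (isIntegral_algebraMap_iff (Subtype.val_injective :
        Function.Injective (algebraMap E B))).1 (Algebra.IsIntegral.isIntegral (e : B))
    have hinjE : Function.Injective (algebraMap A E) := by
      intro a b hab
      apply hinj
      exact congrArg Subtype.val hab
    apply Groth.Agent.H69.isUnivHomeo_of _ hint (hint.comap_surjective hinjE)
    intro L _ α β hαβ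
    have : Algebra.IsIntegral E B := .tower_top A
    obtain ⟨α', hα'⟩ := Groth.Agent.H69.exists_extension_algClosed
      (Subtype.val_injective : Function.Injective (algebraMap E B))
      ((algebraMap L (AlgebraicClosure L)).comp α)
    obtain ⟨β', hβ'⟩ := Groth.Agent.H69.exists_extension_algClosed
      (Subtype.val_injective : Function.Injective (algebraMap E B))
      ((algebraMap L (AlgebraicClosure L)).comp β)
    have hagree : ∀ a : A, α' (algebraMap A B a) = β' (algebraMap A B a) := by
      intro a
      have h1 : α' (algebraMap E B (algebraMap A E a)) =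
          algebraMap L (AlgebraicClosure L) (α (algebraMap A E a)) :=
        congrArg (fun φ : E →+* AlgebraicClosure L => φ (algebraMap A E a)) hα'
      have h2 : β' (algebraMap E B (algebraMap A E a)) =
          algebraMap L (AlgebraicClosure L) (β (algebraMap A E a)) :=
        congrArg (fun φ : E →+* AlgebraicClosure L => φ (algebraMap A E a)) hβ'
      have h3 : α (algebraMap A E a) = β (algebraMap A E a) :=
        congrArg (fun φ : A →+* L => φ a) hαβ
      have h4 : algebraMap E B (algebraMap A E a) = algebraMap A B a := rfl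
      rw [← h4, h1, h2, h3]
    let _ : Algebra A (AlgebraicClosure L) := (α'.comp (algebraMap A B)).toAlgebra
    let αa : B →ₐ[A] AlgebraicClosure L := { α' with commutes' := fun a => rfl }
    let βa : B →ₐ[A] AlgebraicClosure L := { β' with commutes' := fun a => (hagree a).symm }
    let μ : B ⊗[A] B →ₐ[A] AlgebraicClosure L :=
      Algebra.TensorProduct.lift αa βa (fun _ _ => Commute.all _ _)
    apply RingHom.ext
    intro e
    have hnil : IsNilpotent ((e : B) ⊗ₜ[A] (1 : B) - (1 : B) ⊗ₜ[A] (e : B)) := (hmem _).1 e.2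
    have h5 : IsNilpotent (μ ((e : B) ⊗ₜ[A] (1 : B) - (1 : B) ⊗ₜ[A] (e : B))) := hnil.map μ
    have h6 : μ ((e : B) ⊗ₜ[A] (1 : B) - (1 : B) ⊗ₜ[A] (e : B)) = α' e - β' e := by
      rw [map_sub, Algebra.TensorProduct.lift_tmul, Algebra.TensorProduct.lift_tmul]
      show α' e * β' 1 - α' 1 * β' e = _
      rw [map_one, map_one, mul_one, one_mul]
    rw [h6] at h5
    have h7 : α' (e : B) = β' (e : B) := sub_eq_zero.1 h5.eq_zero
    have h8 : α' (algebraMap E B e) = algebraMap L (AlgebraicClosure L) (α e) :=
      congrArg (fun φ : E →+* AlgebraicClosure L => φ e) hα'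
    have h9 : β' (algebraMap E B e) = algebraMap L (AlgebraicClosure L) (β e) :=
      congrArg (fun φ : E →+* AlgebraicClosure L => φ e) hβ'
    apply (algebraMap L (AlgebraicClosure L)).injective
    rw [← h8, ← h9]
    exact h7
  · intro C hC c hc
    rw [hmem]
    -- nilpotency in `C ⊗ C`
    have hnilC : IsNilpotent ((⟨c, hc⟩ : C) ⊗ₜ[A] (1 : C) - (1 : C) ⊗ₜ[A] (⟨c, hc⟩ : C)) := by
      rw [← mem_nilradical, nilradical_eq_sInf, Ideal.mem_sInf]
      intro 𝔓 h𝔓
      have h𝔓' : 𝔓.IsPrime := h𝔓
      have hαβ : ((algebraMap (C ⊗[A] C) 𝔓.ResidueField).comp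
          (Algebra.TensorProduct.includeLeft : C →ₐ[A] C ⊗[A] C).toRingHom) =
          ((algebraMap (C ⊗[A] C) 𝔓.ResidueField).comp
          (Algebra.TensorProduct.includeRight : C →ₐ[A] C ⊗[A] C).toRingHom) := by
        apply Groth.Agent.H69.ringHom_ext_of_isUnivHomeo _ hC
        apply RingHom.ext
        intro a
        show algebraMap (C ⊗[A] C) 𝔓.ResidueField
            ((Algebra.TensorProduct.includeLeft : C →ₐ[A] C ⊗[A] C) (algebraMap A C a)) =
          algebraMap (C ⊗[A] C) 𝔓.ResidueField
            ((Algebra.TensorProduct.includeRight : C →ₐ[A] C ⊗[A] C) (algebraMap A C a))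
        rw [AlgHom.commutes, AlgHom.commutes]
      have h1 := congrArg (fun φ : C →+* 𝔓.ResidueField => φ ⟨c, hc⟩) hαβ
      have h2 : algebraMap (C ⊗[A] C) 𝔓.ResidueField
          ((⟨c, hc⟩ : C) ⊗ₜ[A] (1 : C) - (1 : C) ⊗ₜ[A] (⟨c, hc⟩ : C)) = 0 := by
        rw [map_sub, sub_eq_zero]
        exact h1
      exact Ideal.algebraMap_residueField_eq_zero.1 h2
    have := hnilC.map (Algebra.TensorProduct.map C.val C.val)
    rw [map_sub, Algebra.TensorProduct.map_tmul, Algebra.TensorProduct.map_tmul] at this
    exact this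

end Groth.Agent.S13837
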