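import Groth.Statements.S13838
import Groth.Agent.H69.EtaScheme2

set_option autoImplicit false
universe u
open AlgebraicGeometry
open HTop

namespace Groth.Agent.S13838

/-- Let A ⊆ B be an integral ring extension where A and B have finitely many minimal prime ideals, such
that every prime p of A has a prime q of B above it for which k(p) is closed under extracting
p-power roots inside k(q) (the purely inseparable closure of k(p) in k(q) is k(p)); then the semi-
and weak normalizations of A in B coincide: every A-subalgebra C of B with Spec C → Spec A a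
universal homeomorphism already induces isomorphisms on residue fields. -/
theorem result (A B : Type u) [CommRing A] [CommRing B] [Algebra A B] (hinj : Function.Injective (algebraMap A B))
    [Algebra.IsIntegral A B] (hA : (minimalPrimes A).Finite) (hB : (minimalPrimes B).Finite)
    (hpi : ∀ p : PrimeSpectrum A, ∃ q : PrimeSpectrum B, ∃ hq : p.asIdeal = Ideal.comap (algebraMap A B) q.asIdeal,
      ∀ x : q.asIdeal.ResidueField,
        (∃ n : ℕ, x ^ ringExpChar p.asIdeal.ResidueField ^ n ∈
            Set.range (Ideal.ResidueField.map p.asIdeal q.asIdeal (algebraMap A B) hq)) →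
        x ∈ Set.range (Ideal.ResidueField.map p.asIdeal q.asIdeal (algebraMap A B) hq)) :
    ∀ C : Subalgebra A B, FlatMor.IsUnivHomeo (Spec.map (CommRingCat.ofHom (algebraMap A C))) →
      HTop.ResidueFieldsIso (Spec.map (CommRingCat.ofHom (algebraMap A C))) := by
  intro C h1
  rw [Groth.Agent.H69.residueFieldsIso_iff]
  intro Q
  refine ⟨RingHom.injective _, ?_⟩
  intro z
  have hcinj : Function.Injective (PrimeSpectrum.comap (algebraMap A C)) :=
    (Groth.Agent.H69.isHomeomorph_of_isUnivHomeo (algebraMap A C) h1).injective
  obtain ⟨q, hq, hclosed⟩ := hpi (PrimeSpectrum.comap (algebraMap A C) Q)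
  have hQ' : PrimeSpectrum.comap C.val.toRingHom q = Q := by
    apply hcinj
    apply PrimeSpectrum.ext
    exact hq.symm
  subst hQ'
  obtain ⟨n, c, hc⟩ := Groth.Agent.H69.exists_pow_mem_range_of_ringHom_ext (algebraMap A C)
    (fun L _ α β => Groth.Agent.H69.ringHom_ext_of_isUnivHomeo _ h1 α β)
    (PrimeSpectrum.comap C.val.toRingHom q) z
  have hcomp : Ideal.ResidueField.map _ q.asIdeal (algebraMap A B) hq =
      (Ideal.ResidueField.map (PrimeSpectrum.comap C.val.toRingHom q).asIdeal q.asIdeal
        C.val.toRingHom rfl).comp
      (Ideal.ResidueField.map (PrimeSpectrum.comap (algebraMap A C)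
        (PrimeSpectrum.comap C.val.toRingHom q)).asIdeal
        (PrimeSpectrum.comap C.val.toRingHom q).asIdeal (algebraMap A C) rfl) := by
    apply Ideal.ResidueField.ringHom_ext
    apply RingHom.ext
    intro a
    have e0 := Ideal.ResidueField.map_algebraMap _ q.asIdeal (algebraMap A B) hq a
    have e1 := Ideal.ResidueField.map_algebraMap
      (PrimeSpectrum.comap (algebraMap A C) (PrimeSpectrum.comap C.val.toRingHom q)).asIdeal
      (PrimeSpectrum.comap C.val.toRingHom q).asIdeal (algebraMap A C) rfl a
    have e2 := Ideal.ResidueField.map_algebraMap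
      (PrimeSpectrum.comap C.val.toRingHom q).asIdeal q.asIdeal C.val.toRingHom rfl
      (algebraMap A C a)
    simp only [RingHom.comp_apply]
    exact e0.trans ((congrArg _ e1).trans e2).symm
  obtain ⟨c', hc'⟩ := hclosed
    (Ideal.ResidueField.map (PrimeSpectrum.comap C.val.toRingHom q).asIdeal q.asIdeal
        C.val.toRingHom rfl z)
    ⟨n, c, by rw [hcomp, RingHom.comp_apply, hc, map_pow]⟩
  refine ⟨c', ?_⟩
  rw [hcomp, RingHom.comp_apply] at hc'
  exact (Ideal.ResidueField.map (PrimeSpectrum.comap C.val.toRingHom q).asIdeal q.asIdeal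
        C.val.toRingHom rfl).injective hc'

end Groth.Agent.S13838
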