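import Groth.Statements.S13841
import Groth.Agent.H1.BrPeriodIndex

set_option autoImplicit false
universe u v
open scoped TensorProduct
open Brauer

namespace Groth.Agent.S13841

/-- Let k be a field and A a finite-dimensional central simple k-algebra of period n. Then A has index n
if and only if there is a finite field extension k' of k of degree coprime to n such that the index
of the k'-algebra k' ⊗_k A divides n. (The published statement is for a class of period n in H²(X,
G_m) on a scheme X over k; this row is the case where X is the spectrum of k.) -/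
theorem result (k : Type u) [Field k] (A : Type v) [Ring A] [Algebra k A]
    [Algebra.IsCentral k A] [IsSimpleRing A] [FiniteDimensional k A] (n : ℕ) (hper : CSAGal.IsPeriod k A n) :
    CSAGal.IsIndex k A n ↔
      ∃ (k' : Type u) (_ : Field k') (_ : Algebra k k') (_ : FiniteDimensional k k'),
        Nat.Coprime n (Module.finrank k k') ∧ ∃ d' : ℕ, CSAGal.IsIndex k' (k' ⊗[k] A) d' ∧ d' ∣ n := by
  have hk : Groth.Agent.H1.Kills k A n := (Groth.Agent.H1.kills_iff_splits k A n).mpr hper.2.1
  constructor
  · intro hI
    obtain ⟨h1, h2, h3⟩ := Groth.Agent.H1.csa_baseChange k k A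
    refine ⟨k, inferInstance, inferInstance, inferInstance, ?_, n, ?_, dvd_rfl⟩
    · rw [Module.finrank_self]; exact Nat.coprime_one_right n
    · exact Groth.Agent.H1.IsIndex.of_brEq hI
        (Groth.Agent.H1.BrEq.of_algEquiv (Algebra.TensorProduct.lid k A).symm)
  · rintro ⟨k', _, _, _, hcop, d', hd', hdn'⟩
    obtain ⟨h1, h2, h3⟩ := Groth.Agent.H1.csa_baseChange k k' A
    obtain ⟨d, hd⟩ := Groth.Agent.H1.exists_isIndex k A
    have hdvd : d ∣ Module.finrank k k' * d' := Groth.Agent.H1.IsIndex.dvd_mul_baseChange k' hd hd'
    have hcop' : Nat.Coprime d (Module.finrank k k') := by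
      apply Nat.coprime_of_dvd
      intro p hp hpd hpL
      have hpn : p ∣ n := Groth.Agent.H1.IsIndex.prime_dvd_of_kills hd hper.1 hk hp hpd
      have := Nat.dvd_gcd hpn hpL
      rw [hcop] at this
      exact hp.one_lt.ne' (Nat.dvd_one.mp this)
    have h4 : d ∣ n := (hcop'.dvd_of_dvd_mul_left hdvd).trans hdn'
    have h5 : n ∣ d :=
      (Groth.Agent.H1.kills_iff_dvd_of_isPeriod hper d).mp (Groth.Agent.H1.IsIndex.kills hd)
    have : d = n := Nat.dvd_antisymm h4 h5
    rw [← this]
    exact hd

end Groth.Agent.S13841
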