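import Groth.Statements.S13844
import Groth.Agent.H11.CurveDVR

set_option autoImplicit false
universe u
open CategoryTheory CategoryTheory.Limits AlgebraicGeometry
attribute [local instance] Curv2.resAlgebra
open Curves

namespace Groth.Agent.S13844

/-- Let K be a field and C a normal curve over K, namely an integral normal separated K-scheme of finite
type of dimension one, and let S be a set of closed points of C whose residue fields are separable
over K. If the structure morphism of C is smooth at every point outside S, then it is smooth. (The
published statement takes S to be a closed subscheme finite étale over K, that is finitely many such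
points; this row allows any set of closed points with separable residue fields.) -/
theorem result (K : Type u) [Field K] (C : Scheme.{u}) [C.Over (Spec (CommRingCat.of K))]
    [IsIntegral C] [IsSeparated (C ↘ (Spec (CommRingCat.of K)))] [LocallyOfFinitePresentation (C ↘ (Spec (CommRingCat.of K)))]
    [QuasiCompact (C ↘ (Spec (CommRingCat.of K)))] (hN : ∀ x : C, IsIntegrallyClosed (C.presheaf.stalk x))
    (hdim : topologicalKrullDim C = 1) (S : Set C)
    (hS : ∀ x ∈ S, IsClosed ({x} : Set C) ∧ Algebra.IsSeparable K (C.residueField x))
    (hsm : ∀ x : C, x ∉ S → x ∈ (C ↘ (Spec (CommRingCat.of K))).smoothLocus) :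
    AlgebraicGeometry.Smooth (C ↘ (Spec (CommRingCat.of K))) := by
  haveI : LocallyOfFiniteType (C ↘ Spec (CommRingCat.of K)) := inferInstance
  haveI : IsLocallyNoetherian C :=
    LocallyOfFiniteType.isLocallyNoetherian (C ↘ Spec (CommRingCat.of K))
  rw [← Scheme.Hom.smoothLocus_eq_top_iff]
  ext x
  simp only [TopologicalSpace.Opens.coe_top, Set.mem_univ, iff_true]
  by_cases hxS : x ∈ S
  · obtain ⟨hcl, hsep⟩ := hS x hxS
    refine (Groth.Agent.H11.CurveDVR.dvr_iff K C hdim x hcl hsep).mp ?_
    have hdim1 : ringKrullDim (C.presheaf.stalk x) = 1 := by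
      rw [← Groth.Agent.S1617.result K C x hcl,
        ← Groth.Agent.H17.Chev.topologicalKrullDim_eq_localDim_of_irreducible K
          (C ↘ Spec (CommRingCat.of K)) x, hdim]
    haveI := hN x
    haveI : IsNoetherianRing (C.presheaf.stalk x) := inferInstance
    haveI : IsDomain (C.presheaf.stalk x) := inferInstance
    have hnf : ¬ IsField (C.presheaf.stalk x) :=
      (ringKrullDim_eq_one_iff_of_isLocalRing_isDomain.mp hdim1).1
    have hle : Ring.KrullDimLE 1 (C.presheaf.stalk x) := Ring.krullDimLE_iff.mpr (by simp [hdim1])
    have h4 : IsIntegrallyClosed (C.presheaf.stalk x) ∧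
        ∀ P : Ideal (C.presheaf.stalk x), P ≠ ⊥ → P.IsPrime →
          P = IsLocalRing.maximalIdeal (C.presheaf.stalk x) :=
      ⟨inferInstance, fun P hP hP' =>
        IsLocalRing.eq_maximalIdeal (Ring.krullDimLE_one_iff_of_noZeroDivisors.mp hle P hP hP')⟩
    have h1 : IsPrincipalIdealRing (C.presheaf.stalk x) :=
      ((tfae_of_isNoetherianRing_of_isLocalRing_of_isDomain
        (C.presheaf.stalk x)).out 3 0).mp h4
    exact { h1 with not_a_field' := IsLocalRing.isField_iff_maximalIdeal_eq.not.mp hnf }
  · exact hsm x hxS

end Groth.Agent.S13844
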