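import Groth.Statements.S13846
import Mathlib

set_option autoImplicit false
universe u v
open TwSh

namespace Groth.Agent.S13846

/-- Let k be a field and V, W finite-dimensional ℤ-graded k-vector spaces, V = ⊕ V_i with V ≠ 0 and W =
⊕ W_i. Let φ : End_k(V) ≃ End_k(W) be a k-algebra isomorphism which sends every endomorphism
homogeneous of degree d (one mapping V_i into V_{i+d} for all i) to an endomorphism homogeneous of
degree d. Then there are an integer n and a k-linear isomorphism g : V ≅ W with g(V_i) = W_{i+n} for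
every i such that φ(f) = g ∘ f ∘ g⁻¹ for all f; moreover n is unique and g is unique up to a nonzero
scalar: if g' : V ≅ W satisfies g'(V_i) = W_{i+n'} for all i and φ(f) = g' ∘ f ∘ g'⁻¹ for all f,
then n' = n and g' = c·g for some c ∈ kˣ. (The published statement is about non-zero perfect
complexes over k: an isomorphism of their derived endomorphism algebras, as algebra objects of the
derived category, is induced by an isomorphism from the first complex to a shift of the second, for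
a unique shift and up to a unit; this row is its form for finite-dimensional ℤ-graded vector spaces,
to which the bounded derived category of a field is equivalent by taking cohomology.) -/
theorem result (k : Type u) [Field k] (V W : Type v) [AddCommGroup V] [Module k V] [FiniteDimensional k V] [Nontrivial V] [AddCommGroup W] [Module k W] [FiniteDimensional k W] (𝒱 : ℤ → Submodule k V) (h𝒱 : DirectSum.IsInternal 𝒱) (𝒲 : ℤ → Submodule k W) (h𝒲 : DirectSum.IsInternal 𝒲) (φ : Module.End k V ≃ₐ[k] Module.End k W) (hφ : ∀ (d : ℤ) (f : Module.End k V), (∀ (i : ℤ) (x : V), x ∈ 𝒱 i → f x ∈ 𝒱 (i + d)) → ∀ (i : ℤ) (y : W), y ∈ 𝒲 i → φ f y ∈ 𝒲 (i + d)) : ∃ (n : ℤ) (g : V ≃ₗ[k] W), (∀ i : ℤ, Submodule.map (g : V →ₗ[k] W) (𝒱 i) = 𝒲 (i + n)) ∧ (∀ f : Module.End k V, φ f = (g : V →ₗ[k] W) ∘ₗ f ∘ₗ (g.symm : W →ₗ[k] V)) ∧ ∀ (n' : ℤ) (g' : V ≃ₗ[k] W), (∀ i : ℤ, Submodule.map (g' : V →ₗ[k] W) (𝒱 i) = 𝒲 (i + n')) → (∀ f : Module.End k V, φ f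 = (g' : V →ₗ[k] W) ∘ₗ f ∘ₗ (g'.symm : W →ₗ[k] V)) → n' = n ∧ ∃ c : kˣ, ∀ x : V, g' x = c • g x := by
  classical
  obtain ⟨g, hg⟩ := φ.eq_linearEquivConjAlgEquiv
  have hφg : ∀ f : Module.End k V, φ f = (g : V →ₗ[k] W) ∘ₗ f ∘ₗ (g.symm : W →ₗ[k] V) := by
    intro f
    rw [hg]
    rfl
  have hφapp : ∀ (f : Module.End k V) (y : W), φ f y = g (f (g.symm y)) := by
    intro f y
    rw [hφg]
    rfl
  -- decomposition of V
  let e : (DirectSum ℤ fun i => 𝒱 i) ≃ₗ[k] V :=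
    LinearEquiv.ofBijective (DirectSum.coeLinearMap 𝒱) h𝒱
  let comp : ∀ i : ℤ, V →ₗ[k] 𝒱 i := fun i =>
    (DirectSum.component k ℤ (fun i => 𝒱 i) i) ∘ₗ e.symm.toLinearMap
  have hcomp_same : ∀ (i : ℤ) (x : V) (hx : x ∈ 𝒱 i), comp i x = ⟨x, hx⟩ := fun i x hx =>
    h𝒱.ofBijective_coeLinearMap_of_mem hx
  have hcomp_ne : ∀ (i l : ℤ) (x : V), x ∈ 𝒱 l → l ≠ i → comp i x = 0 := fun i l x hx hne =>
    h𝒱.ofBijective_coeLinearMap_of_mem_ne hne hx
  have hcomp_zero : ∀ z : V, (∀ i, comp i z = 0) → z = 0 := by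
    intro z hz
    have h1 : e.symm z = 0 := by
      apply DFinsupp.ext
      intro i
      exact hz i
    exact e.symm.map_eq_zero_iff.mp h1
  have hindW := h𝒲.submodule_iSupIndep
  have hdisjW : ∀ i j : ℤ, i ≠ j → ∀ w : W, w ∈ 𝒲 i → w ∈ 𝒲 j → w = 0 := by
    intro i j hij w hi hj
    exact (Submodule.disjoint_def.mp (hindW.pairwiseDisjoint hij)) w hi hj
  -- a nonzero homogeneous element of W
  have hntW : Nontrivial W := g.toEquiv.symm.nontrivial
  obtain ⟨j₀, y₀, hy₀, hy₀ne⟩ : ∃ (j₀ : ℤ) (y₀ : W), y₀ ∈ 𝒲 j₀ ∧ y₀ ≠ 0 := by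
    by_contra hcon
    push Not at hcon
    have h1 : iSup 𝒲 = ⊥ := by
      rw [iSup_eq_bot]
      intro j
      rw [Submodule.eq_bot_iff]
      intro y hy
      exact hcon j y hy
    rw [h𝒲.submodule_iSup_eq_top] at h1
    exact top_ne_bot h1
  set z₀ : V := g.symm y₀ with hz₀
  have hz₀ne : z₀ ≠ 0 := by
    rw [hz₀]
    exact g.symm.map_ne_zero_iff.mpr hy₀ne
  obtain ⟨i₀, hi₀⟩ : ∃ i₀, comp i₀ z₀ ≠ 0 := by
    by_contra hcon
    push Not at hcon
    exact hz₀ne (hcomp_zero z₀ hcon)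
  have hu₀ : ((comp i₀ z₀ : 𝒱 i₀) : V) ≠ 0 := by
    intro h
    exact hi₀ (Subtype.ext h)
  obtain ⟨ψ, hψ⟩ := Module.Projective.exists_dual_eq_one k hu₀
  let θ : V →ₗ[k] k := ψ ∘ₗ (𝒱 i₀).subtype ∘ₗ comp i₀
  have hθz : θ z₀ = 1 := hψ
  have hθne : ∀ (l : ℤ) (x : V), x ∈ 𝒱 l → l ≠ i₀ → θ x = 0 := by
    intro l x hx hne
    show ψ ((𝒱 i₀).subtype (comp i₀ x)) = 0
    rw [hcomp_ne i₀ l x hx hne, map_zero, map_zero]
  -- the shift
  have hstar : ∀ (i : ℤ) (x : V), x ∈ 𝒱 i → g x ∈ 𝒲 (i + (j₀ - i₀)) := by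
    intro i x hx
    have hdeg : ∀ (l : ℤ) (v : V), v ∈ 𝒱 l → (θ.smulRight x) v ∈ 𝒱 (l + (i - i₀)) := by
      intro l v hv
      rw [LinearMap.smulRight_apply]
      by_cases hl : l = i₀
      · have h1 : l + (i - i₀) = i := by rw [hl]; ring
        rw [h1]
        exact Submodule.smul_mem _ _ hx
      · rw [hθne l v hv hl, zero_smul]
        exact Submodule.zero_mem _
    have h1 := hφ (i - i₀) (θ.smulRight x) hdeg j₀ y₀ hy₀
    rw [hφapp, LinearMap.smulRight_apply, ← hz₀, hθz, one_smul] at h1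
    have h2 : j₀ + (i - i₀) = i + (j₀ - i₀) := by ring
    rw [h2] at h1
    exact h1
  have hmapeq : ∀ (n : ℤ) (g' : V ≃ₗ[k] W), (∀ (i : ℤ) (x : V), x ∈ 𝒱 i → g' x ∈ 𝒲 (i + n)) →
      ∀ i : ℤ, Submodule.map (g' : V →ₗ[k] W) (𝒱 i) = 𝒲 (i + n) := by
    intro n g' hsub i
    apply le_antisymm
    · rintro _ ⟨x, hx, rfl⟩
      exact hsub i x hx
    · intro w hw
      have h1 : (⊤ : Submodule k W) = Submodule.map (g' : V →ₗ[k] W) (𝒱 i) ⊔
          ⨆ (l : ℤ) (_ : l ≠ i), Submodule.map (g' : V →ₗ[k] W) (𝒱 l) := by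
        have h0 : (⊤ : Submodule k W) = Submodule.map (g' : V →ₗ[k] W) ⊤ := by
          rw [Submodule.map_top]
          exact (LinearMap.range_eq_top.mpr g'.surjective).symm
        rw [h0, ← h𝒱.submodule_iSup_eq_top, Submodule.map_iSup]
        apply le_antisymm
        · apply iSup_le
          intro l
          by_cases hl : l = i
          · rw [hl]
            exact le_sup_left
          · exact le_sup_of_le_right (le_iSup₂_of_le l hl le_rfl)
        · apply sup_le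
          · exact le_iSup (fun l => Submodule.map (g' : V →ₗ[k] W) (𝒱 l)) i
          · exact iSup₂_le fun l _ => le_iSup (fun l => Submodule.map (g' : V →ₗ[k] W) (𝒱 l)) l
      have h2 : w ∈ Submodule.map (g' : V →ₗ[k] W) (𝒱 i) ⊔
          ⨆ (l : ℤ) (_ : l ≠ i), Submodule.map (g' : V →ₗ[k] W) (𝒱 l) := by
        rw [← h1]
        exact Submodule.mem_top
      obtain ⟨a, ha, b, hb, hab⟩ := Submodule.mem_sup.mp h2
      have ha' : a ∈ 𝒲 (i + n) := by
        obtain ⟨x, hx, rfl⟩ := ha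
        exact hsub i x hx
      have hb' : b ∈ ⨆ (m : ℤ) (_ : m ≠ i + n), 𝒲 m := by
        have h3 : (⨆ (l : ℤ) (_ : l ≠ i), Submodule.map (g' : V →ₗ[k] W) (𝒱 l)) ≤
            ⨆ (m : ℤ) (_ : m ≠ i + n), 𝒲 m := by
          apply iSup₂_le
          intro l hl
          refine le_iSup₂_of_le (l + n) (by intro h; exact hl (by linarith)) ?_
          rintro _ ⟨x, hx, rfl⟩
          exact hsub l x hx
        exact h3 hb
      have hb0 : b = 0 := by
        have h4 : b ∈ 𝒲 (i + n) := by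
          have : b = w - a := by rw [← hab]; abel
          rw [this]
          exact Submodule.sub_mem _ hw ha'
        exact (Submodule.disjoint_def.mp (hindW (i + n))) b h4 hb'
      rw [hb0, add_zero] at hab
      rw [← hab]
      exact ha
  refine ⟨j₀ - i₀, g, hmapeq (j₀ - i₀) g hstar, hφg, ?_⟩
  intro n' g' hg'map hg'conj
  have hconj : g'.conjAlgEquiv k = g.conjAlgEquiv k := by
    rw [← hg]
    ext f : 1
    rw [hg'conj f]
    rfl
  obtain ⟨α, hα⟩ := (LinearEquiv.conjAlgEquiv_ext_iff' g' g).mp hconj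
  have hαapp : ∀ x : V, g' x = α • g x := by
    intro x
    rw [hα]
    rfl
  refine ⟨?_, α, hαapp⟩
  -- a nonzero homogeneous element of V
  obtain ⟨i₁, x₁, hx₁, hx₁ne⟩ : ∃ (i₁ : ℤ) (x₁ : V), x₁ ∈ 𝒱 i₁ ∧ x₁ ≠ 0 := by
    by_contra hcon
    push Not at hcon
    have h1 : iSup 𝒱 = ⊥ := by
      rw [iSup_eq_bot]
      intro j
      rw [Submodule.eq_bot_iff]
      intro y hy
      exact hcon j y hy
    rw [h𝒱.submodule_iSup_eq_top] at h1
    exact top_ne_bot h1
  have h1 : g' x₁ ∈ 𝒲 (i₁ + n') := by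
    rw [← hg'map i₁]
    exact ⟨x₁, hx₁, rfl⟩
  have h2 : g' x₁ ∈ 𝒲 (i₁ + (j₀ - i₀)) := by
    rw [hαapp]
    exact Submodule.smul_mem _ _ (hstar i₁ x₁ hx₁)
  have h3 : g' x₁ ≠ 0 := g'.map_ne_zero_iff.mpr hx₁ne
  by_contra hne
  exact h3 (hdisjW _ _ (by intro h; exact hne (by linarith)) (g' x₁) h1 h2)

end Groth.Agent.S13846
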