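import Groth.Statements.S13848
import Groth.Agent.H88.TraceIdeal

set_option autoImplicit false
universe u v
open TwSh

namespace Groth.Agent.S13848

/-- Let A be a ring with A/J a simple left-Artinian ring, J the Jacobson radical, and let P be a
non-zero finitely generated projective left A-module. An A-linear automorphism u of P which commutes
with every A-linear endomorphism of P (equivalently, induces the identity on End_A(P) by
conjugation) is scalar multiplication by a unique central element a of A: u(x) = a·x for all x ∈ P,
and a is determined by u. (So the automorphisms of P acting trivially on End_A(P) are exactly the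
central units of A acting by scalars; the published assertion does not exclude P = 0, where
uniqueness fails.) -/
theorem result (A : Type u) [Ring A] [IsSimpleRing (A ⧸ Ring.jacobson A)] [IsArtinianRing (A ⧸ Ring.jacobson A)] (P : Type v) [AddCommGroup P] [Module A P] [Module.Finite A P] [Module.Projective A P] [Nontrivial P] (u : P ≃ₗ[A] P) (hu : ∀ f : Module.End A P, (u : P →ₗ[A] P) ∘ₗ f = f ∘ₗ (u : P →ₗ[A] P)) : ∃! a : A, (∀ b : A, a * b = b * a) ∧ ∀ x : P, u x = a • x := by
  classical
  have h1 := Groth.Agent.H88.TraceIdeal.one_mem_trace A P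
  have hstar : ∀ (f : P →ₗ[A] A) (p₀ x : P), f p₀ • u x = f (u p₀) • x := by
    intro f p₀ x
    have h := LinearMap.congr_fun (hu (f.smulRight x)) p₀
    simpa using h
  have hex : ∀ t ∈ Groth.Agent.H88.TraceIdeal.trace A P, ∃ t' : A, ∀ x : P, t • u x = t' • x := by
    intro t ht
    refine Submodule.iSup_induction (fun f : P →ₗ[A] A => LinearMap.range f)
      (motive := fun t => ∃ t' : A, ∀ x : P, t • u x = t' • x) ht ?_ ?_ ?_
    · rintro f _ ⟨p₀, rfl⟩
      exact ⟨f (u p₀), hstar f p₀⟩
    · exact ⟨0, fun x => by simp⟩
    · rintro a b ⟨a', ha⟩ ⟨b', hb⟩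
      exact ⟨a' + b', fun x => by rw [add_smul, add_smul, ha, hb]⟩
  obtain ⟨a, ha⟩ := hex 1 h1
  have hua : ∀ x, u x = a • x := fun x => by simpa using ha x
  have hfaith := Groth.Agent.H88.TraceIdeal.eq_zero_of_smul_eq_zero A P
  refine ⟨a, ⟨?_, hua⟩, ?_⟩
  · intro b
    apply sub_eq_zero.mp
    apply hfaith
    intro x
    rw [sub_smul, mul_smul, mul_smul, ← hua, ← hua, map_smul, sub_self]
  · rintro a' ⟨_, ha'⟩
    apply sub_eq_zero.mp
    apply hfaith
    intro x
    rw [sub_smul, ← hua, ← ha', sub_self]

end Groth.Agent.S13848
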