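import Groth.Statements.S13860

set_option autoImplicit false
universe u v w
open ModRep

namespace Groth.Agent.S13860

/-- For k a field of characteristic p > 0, G a finite group and P a Sylow p-subgroup of G, a short exact
sequence of k[G]-modules has a k[G]-linear splitting exactly when it has a k[P]-linear one. Stated
here for the surjection of the sequence: a G-equivariant k-linear map g : B → C between k-linear
representations of G admits a G-equivariant k-linear section if and only if it admits a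
P-equivariant k-linear section. -/
theorem result {k : Type u} [Field k] (p : ℕ) [Fact p.Prime]
    [CharP k p] {G : Type v} [Group G] [Finite G] (P : Sylow p G)
    {B C : Type w} [AddCommGroup B] [Module k B] [AddCommGroup C] [Module k C]
    (ρB : Representation k G B) (ρC : Representation k G C)
    (g : B →ₗ[k] C) (hg : ∀ x : G, g ∘ₗ ρB x = ρC x ∘ₗ g) :
    (∃ s : C →ₗ[k] B, g ∘ₗ s = LinearMap.id ∧ ∀ x : G, s ∘ₗ ρC x = ρB x ∘ₗ s) ↔
      (∃ s : C →ₗ[k] B, g ∘ₗ s = LinearMap.id ∧ ∀ x : G, x ∈ P → s ∘ₗ ρC x = ρB x ∘ₗ s) := by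
  classical
  constructor
  · rintro ⟨s, hs1, hs2⟩
    exact ⟨s, hs1, fun x _ => hs2 x⟩
  rintro ⟨s, hs1, hs2⟩
  haveI : Fintype (G ⧸ (P : Subgroup G)) := Fintype.ofFinite _
  -- conjugates of `s`
  let F : G → (C →ₗ[k] B) := fun x => ρB x ∘ₗ s ∘ₗ ρC x⁻¹
  have hF : ∀ x h : G, h ∈ P → F (x * h) = F x := by
    intro x h hh
    show ρB (x * h) ∘ₗ s ∘ₗ ρC (x * h)⁻¹ = ρB x ∘ₗ s ∘ₗ ρC x⁻¹
    have h1 : s ∘ₗ ρC h = ρB h ∘ₗ s := hs2 h hh
    ext c
    simp only [LinearMap.comp_apply, mul_inv_rev, map_mul, Module.End.mul_apply]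
    have h2 := LinearMap.congr_fun h1 (ρC h⁻¹ (ρC x⁻¹ c))
    simp only [LinearMap.comp_apply] at h2
    rw [← h2, ← Module.End.mul_apply (ρC h), ← map_mul, mul_inv_cancel, map_one, Module.End.one_apply]
  let T : G ⧸ (P : Subgroup G) → (C →ₗ[k] B) := fun q =>
    Quotient.liftOn' q F (by
      intro a b hab
      rw [QuotientGroup.leftRel_apply] at hab
      have := hF a (a⁻¹ * b) hab
      rw [mul_inv_cancel_left] at this
      exact this.symm)
  have hT : ∀ x : G, T (QuotientGroup.mk x) = F x := fun x => rfl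
  have hgT : ∀ q, g ∘ₗ T q = LinearMap.id := by
    intro q
    induction q using QuotientGroup.induction_on with
    | H x =>
      rw [hT]
      show g ∘ₗ (ρB x ∘ₗ s ∘ₗ ρC x⁻¹) = LinearMap.id
      ext c
      simp only [LinearMap.comp_apply, LinearMap.id_apply]
      have h1 := LinearMap.congr_fun (hg x) (s (ρC x⁻¹ c))
      simp only [LinearMap.comp_apply] at h1
      have h2 := LinearMap.congr_fun hs1 (ρC x⁻¹ c)
      simp only [LinearMap.comp_apply, LinearMap.id_apply] at h2
      rw [h1, h2, ← Module.End.mul_apply, ← map_mul, mul_inv_cancel, map_one, Module.End.one_apply]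
  have hyT : ∀ (y : G) q, ρB y ∘ₗ T q = T (y • q) ∘ₗ ρC y := by
    intro y q
    induction q using QuotientGroup.induction_on with
    | H x =>
      have : y • (QuotientGroup.mk x : G ⧸ (P : Subgroup G)) = QuotientGroup.mk (y * x) := rfl
      rw [this, hT, hT]
      show ρB y ∘ₗ (ρB x ∘ₗ s ∘ₗ ρC x⁻¹) = (ρB (y * x) ∘ₗ s ∘ₗ ρC (y * x)⁻¹) ∘ₗ ρC y
      ext c
      simp only [LinearMap.comp_apply, mul_inv_rev, map_mul, Module.End.mul_apply]
      rw [← Module.End.mul_apply (ρC y⁻¹), ← map_mul, inv_mul_cancel, map_one, Module.End.one_apply]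
  -- the index is invertible
  set n : ℕ := Fintype.card (G ⧸ (P : Subgroup G)) with hn
  have hnk : (n : k) ≠ 0 := by
    rw [Ne, CharP.cast_eq_zero_iff k p]
    have : n = (P : Subgroup G).index := by
      rw [hn, Subgroup.index, Nat.card_eq_fintype_card]
    rw [this]
    exact P.not_dvd_index
  refine ⟨(n : k)⁻¹ • ∑ q, T q, ?_, ?_⟩
  · ext c
    have h3 : ∀ q, g (T q c) = c := fun q => LinearMap.congr_fun (hgT q) c
    simp only [LinearMap.comp_apply, LinearMap.smul_apply, LinearMap.sum_apply, map_smul, map_sum,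
      h3, Finset.sum_const, Finset.card_univ, LinearMap.id_apply]
    rw [← hn, ← Nat.cast_smul_eq_nsmul k, smul_smul, inv_mul_cancel₀ hnk, one_smul]
  · intro y
    ext c
    have h4 : ∀ q, ρB y (T q c) = T (y • q) (ρC y c) := fun q => LinearMap.congr_fun (hyT y q) c
    simp only [LinearMap.comp_apply, LinearMap.smul_apply, LinearMap.sum_apply, map_smul, map_sum, h4]
    congr 1
    exact (Equiv.sum_comp (MulAction.toPerm y : Equiv.Perm (G ⧸ (P : Subgroup G)))
      (fun q => T q (ρC y c))).symm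

end Groth.Agent.S13860
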