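import Groth.Statements.S13862
import Groth.Agent.H85.ASCover5

set_option autoImplicit false
universe u
open ASCover

namespace Groth.Agent.S13862

/-- For k an algebraically closed field of characteristic p > 0, n ≥ 1 an integer prime to p, u ∈ k[[t]]
the power series with constant term 1 and u^n · (1 + t^n) = 1, and G a group of order p generated by
g, consider two k-linear actions of G on B = k[[t]]: ρ₀(g) h = h(t·u), i.e. B with its order-p
automorphism σ(t) = t·u, and ρ₁(g) h = u^(n+1) · h(t·u), which is the σ-module B·dt identified with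
B through h·dt ↦ h (because d(σ t) = u^(n+1) dt). The derivative d/dt : (B, ρ₀) → (B, ρ₁) is
G-equivariant, and the image of the map it induces on first group cohomology, H^1(G, (B, ρ₀)) →
H^1(G, (B, ρ₁)), is finite-dimensional over k of dimension ⌊(n+1)(p−1)/p⌋ − 1 − ⌊(n−1)/p⌋. This is
the dimension of the image of H^1(G, O) → H^1(G, Ω) at a ramified point with break n of a ℤ/p-cover
of smooth curves, computed in the completed local ring; the published statement is phrased for the
stalks, at a point of the quotient curve, of the direct images of the structure sheaf and of the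
sheaf of differentials, and its proof passes to this completed form. -/
theorem result {k : Type u} [Field k] [IsAlgClosed k] (p : ℕ)
    [Fact p.Prime] [CharP k p] (n : ℕ) (hn : 0 < n) (hpn : ¬ p ∣ n)
    (u : PowerSeries k) (hu1 : PowerSeries.constantCoeff u = 1)
    (hun : u ^ n * (1 + PowerSeries.X ^ n) = 1)
    {G : Type u} [Group G] [Finite G] (g : G) (hG : Nat.card G = p)
    (hg : ∀ x : G, x ∈ Subgroup.zpowers g)
    (ρ₀ ρ₁ : Representation k G (PowerSeries k))
    (hρ₀ : ∀ h : PowerSeries k, ρ₀ g h = PowerSeries.subst (PowerSeries.X * u) h)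
    (hρ₁ : ∀ h : PowerSeries k, ρ₁ g h = u ^ (n + 1) * PowerSeries.subst (PowerSeries.X * u) h)
    (φ : Rep.of ρ₀ ⟶ Rep.of ρ₁) (hφ : ∀ h : PowerSeries k, φ.hom h = PowerSeries.derivative k h) :
    Module.Finite k (LinearMap.range ((groupCohomology.functor k G 1).map φ).hom) ∧
      (Module.finrank k (LinearMap.range ((groupCohomology.functor k G 1).map φ).hom) : ℤ) =
        ((n + 1) * (p - 1) : ℤ) / p - 1 - (n - 1 : ℤ) / p := by
  have huu : IsUnit u := by
    rw [PowerSeries.isUnit_iff_constantCoeff, hu1]; exact isUnit_one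
  have hU : ((huu.unit : (PowerSeries k)ˣ) : PowerSeries k) = u := huu.unit_spec
  have hu1' : PowerSeries.constantCoeff ((huu.unit : (PowerSeries k)ˣ) : PowerSeries k) = 1 := by
    rw [hU]; exact hu1
  have hun' : ((huu.unit : (PowerSeries k)ˣ) : PowerSeries k) ^ n * (1 + PowerSeries.X ^ n) = 1 := by
    rw [hU]; exact hun
  have hρ₀' : ∀ h : PowerSeries k, ρ₀ g h = Groth.Agent.H85.ASCover.tau huu.unit 0 h := by
    intro h
    rw [hρ₀, Groth.Agent.H85.ASCover.tau_apply, Groth.Agent.H85.ASCover.sig_apply, hU,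
      Groth.Agent.H85.ASCover.upow_zero, one_mul]
  have hρ₁' : ∀ h : PowerSeries k,
      ρ₁ g h = Groth.Agent.H85.ASCover.tau huu.unit ((n + 1 : ℕ) : ℤ) h := by
    intro h
    rw [hρ₁, Groth.Agent.H85.ASCover.tau_apply, Groth.Agent.H85.ASCover.sig_apply, hU,
      Groth.Agent.H85.ASCover.upow_natCast, hU]
  obtain ⟨h1, h2⟩ := Groth.Agent.H85.ASCover.finrank_range (p := p) huu.unit hu1' hun' g hG hg
    ρ₀ ρ₁ hρ₀' hρ₁' φ hφ hn hpn
  refine ⟨h1, ?_⟩
  rw [h2, Groth.Agent.H85.ASCover.card_Jset p n (Fact.out : p.Prime) hn hpn]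

end Groth.Agent.S13862
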