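import Groth.Statements.S13863
import Groth.Agent.H85.ASCover2

set_option autoImplicit false
universe u
open ASCover

namespace Groth.Agent.S13863

/-- For k an algebraically closed field of characteristic p > 0, n ≥ 1 an integer prime to p, and u ∈
k[[t]] the power series with constant term 1 and u^n · (1 + t^n) = 1, the substitution σ(t) = t·u is
a k-automorphism of k((t)) of order p and, for an integer a, σ acts on the fractional ideal I =
t^a·k[[t]]; transported to B = k[[t]] along h ↦ t^a·h this action is h ↦ u^a · h(t·u). For an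
integer i with a − n ≤ i ≤ a − 1 the element σ(t^i) − t^i lies in I, so t^i defines a class in
H^1(⟨σ⟩, I); the classes with p ∤ i form a basis of this H^1, and when p divides i the class
vanishes, i.e. σ(t^i) − t^i = σ(w) − w for some w ∈ I. (The published statement of this vanishing is
printed with the condition p ∤ i, which contradicts the basis assertion of the same lemma; its proof
treats p | i, and this row states that case.) In transported form, with m = a − i ∈ [1, n] and c ∈
k[[t]] defined by t^m · c = u^i − 1: there is h ∈ k[[t]] with u^a · h(t·u) − h = c. -/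
theorem result {k : Type u} [Field k] [IsAlgClosed k] (p : ℕ)
    [Fact p.Prime] [CharP k p] (n : ℕ) (hn : 0 < n) (hpn : ¬ p ∣ n)
    (u : PowerSeries k) (hu1 : PowerSeries.constantCoeff u = 1)
    (hun : u ^ n * (1 + PowerSeries.X ^ n) = 1) (hu : IsUnit u) (a : ℤ) (m : ℕ)
    (hm1 : 1 ≤ m) (hmn : m ≤ n) (hdvd : (p : ℤ) ∣ a - m) (c : PowerSeries k)
    (hc : PowerSeries.X ^ m * c = ((hu.unit ^ (a - m) : (PowerSeries k)ˣ) : PowerSeries k) - 1) :
    ∃ h : PowerSeries k,
      ((hu.unit ^ a : (PowerSeries k)ˣ) : PowerSeries k) * PowerSeries.subst (PowerSeries.X * u) h - h = c := by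
  have hU : ((hu.unit : (PowerSeries k)ˣ) : PowerSeries k) = u := hu.unit_spec
  have hu1' : PowerSeries.constantCoeff ((hu.unit : (PowerSeries k)ˣ) : PowerSeries k) = 1 := by
    rw [hU]; exact hu1
  have hun' : ((hu.unit : (PowerSeries k)ˣ) : PowerSeries k) ^ n * (1 + PowerSeries.X ^ n) = 1 := by
    rw [hU]; exact hun
  obtain ⟨h, hh⟩ := Groth.Agent.H85.ASCover.exists_coboundary (p := p) hu.unit hu1' hun' hpn a m hmn
    hdvd c hc
  refine ⟨h, ?_⟩
  rw [Groth.Agent.H85.ASCover.tau_apply, Groth.Agent.H85.ASCover.sig_apply, hU] at hh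
  exact hh

end Groth.Agent.S13863
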