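import Groth.Statements.S1387
import Groth.Agent.H13.VertMain

set_option autoImplicit false
universe u
open FlatMor

namespace Groth.Agent.S1387

open AlgebraicGeometry CategoryTheory Limits in
/-- Let f : X → S be dominant and locally of finite type with X and S irreducible, let η be the generic
point of S and s a point with dim X_s ≤ dim X_η, and let Z be a locally principal closed subscheme
of X (its ideal sheaf is generated by one section on an affine neighbourhood of each point) whose
generic fibre is empty. Then, set-theoretically, the fibre of Z over s is a union of irreducible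
components of the fibre of X over s. -/
theorem result {X S : Scheme.{u}} (f : X ⟶ S) [IrreducibleSpace ↑S] [IrreducibleSpace ↑X] [IsDominant f] [LocallyOfFiniteType f]
    (s : S) (hdim : topologicalKrullDim ↑(f.fiber s) ≤ topologicalKrullDim ↑(f.fiber (genericPoint ↑S)))
    (Z : X.IdealSheafData) (hZ : ∀ x : X, ∃ (U : X.Opens) (hU : IsAffineOpen U) (g : Γ(X, U)), x ∈ U ∧ Z.ideal ⟨U, hU⟩ = Ideal.span {g})
    (hη : ∀ x ∈ (Z.support : Set ↑X), f x ≠ genericPoint ↑S) :
    ∀ x : ↑(f ⁻¹' {s}), (x : ↑X) ∈ (Z.support : Set ↑X) →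
      ∃ C ∈ irreducibleComponents ↑(f ⁻¹' {s}), x ∈ C ∧ Subtype.val '' C ⊆ (Z.support : Set ↑X) := by
  rintro ⟨x, hx⟩ hxZ
  obtain rfl : f x = s := hx
  obtain ⟨U, hU, g, hxU, hg⟩ := hZ x
  obtain ⟨c, hcx, hfc, hcZ, hmax⟩ :=
    Groth.Agent.H13.Vert.exists_maximal_point_mem_support f x hdim Z U hU g hxU hg hη hxZ
  have : QuasiSober ↥(f ⁻¹' {f x}) :=
    (f.fiberHomeo (f x)).symm.isClosedEmbedding.quasiSober
  let w : ↥(f ⁻¹' {f x}) := ⟨c, hfc⟩
  refine ⟨closure {w}, ?_, ?_, ?_⟩
  · apply Groth.Agent.H17.Chev.closure_mem_irreducibleComponents_of_forall_specializes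
    intro t htw
    have h1 : (t : X) ⤳ c := htw.map continuous_subtype_val
    have h2 : (t : X) = c := hmax _ h1 t.2
    have h3 : t = w := Subtype.ext h2
    rw [h3]
  · have h1 : w ⤳ (⟨x, rfl⟩ : ↥(f ⁻¹' {f x})) :=
      Topology.IsInducing.subtypeVal.specializes_iff.mp hcx
    exact h1.mem_closure
  · refine (image_closure_subset_closure_image continuous_subtype_val).trans ?_
    rw [Set.image_singleton]
    exact closure_minimal (Set.singleton_subset_iff.mpr hcZ) Z.support.isClosed

end Groth.Agent.S1387
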