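import Groth.Statements.S13879
import Mathlib.Tactic

set_option autoImplicit false
universe u
open Crimp

namespace Groth.Agent.S13879

/-- Over R = k⟦t⟧ with k an algebraically closed field of characteristic zero, let S' = R × R × R and
let S be the R-submodule R·1 + R·(t ^ m f) + t ^ n S' of S' for some f in S' and natural numbers m,
n. Then S is closed under multiplication (equivalently, is an R-subalgebra of S') if and only if t ^
(2m) f ^ 2 lies in S. (The published statement has m ≤ n and S' / S isomorphic to R / (t ^ m) ⊕ R /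
(t ^ n), under which S has this shape; this row states the criterion for every submodule of this
shape.) -/
theorem result {k : Type u} [Field k] [IsAlgClosed k] [CharZero k] (m n : ℕ) (f : (Fin 3 → PowerSeries k))
    (S : Submodule (PowerSeries k) (Fin 3 → PowerSeries k))
    (hS : S = Submodule.span (PowerSeries k) {(1 : (Fin 3 → PowerSeries k)), ((PowerSeries.X : PowerSeries k) ^ m) • f} ⊔
        Ideal.span {(PowerSeries.X : PowerSeries k) ^ n} • (⊤ : Submodule (PowerSeries k) (Fin 3 → PowerSeries k))) :
    (∀ x ∈ S, ∀ y ∈ S, x * y ∈ S) ↔ ((PowerSeries.X : PowerSeries k) ^ (2 * m)) • (f * f) ∈ S := by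
  classical
  set I : Submodule (PowerSeries k) (Fin 3 → (PowerSeries k)) := Ideal.span {(PowerSeries.X : PowerSeries k) ^ n} • (⊤ : Submodule (PowerSeries k) (Fin 3 → (PowerSeries k))) with hI
  have hImem : ∀ x : Fin 3 → PowerSeries k, x ∈ I ↔ ∃ v : Fin 3 → PowerSeries k, x = (PowerSeries.X : PowerSeries k) ^ n • v := by
    intro x
    rw [hI, Submodule.ideal_span_singleton_smul, Submodule.mem_smul_pointwise_iff_exists]
    constructor
    · rintro ⟨v, _, rfl⟩; exact ⟨v, rfl⟩
    · rintro ⟨v, rfl⟩; exact ⟨v, Submodule.mem_top, rfl⟩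
  have hIS : I ≤ S := by rw [hS]; exact le_sup_right
  have h1S : (1 : Fin 3 → PowerSeries k) ∈ S := by
    rw [hS]; exact Submodule.mem_sup_left (Submodule.subset_span (by simp))
  have hfS : (PowerSeries.X : PowerSeries k) ^ m • f ∈ S := by
    rw [hS]; exact Submodule.mem_sup_left (Submodule.subset_span (by simp))
  have hsq : ((PowerSeries.X : PowerSeries k) ^ m • f) * ((PowerSeries.X : PowerSeries k) ^ m • f) = (PowerSeries.X : PowerSeries k) ^ (2 * m) • (f * f) := by
    rw [smul_mul_smul_comm, ← pow_add, two_mul]
  constructor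
  · intro h
    rw [← hsq]
    exact h _ hfS _ hfS
  · intro h
    rw [← hsq] at h
    set G : Set (Fin 3 → PowerSeries k) := {(1 : Fin 3 → PowerSeries k), (PowerSeries.X : PowerSeries k) ^ m • f} ∪ (I : Set (Fin 3 → PowerSeries k)) with hG
    have hSG : S = Submodule.span (PowerSeries k) G := by
      rw [hG, Submodule.span_union, Submodule.span_eq, hS]
    have hGS : G ⊆ S := by
      rw [hSG]; exact Submodule.subset_span
    have hmap : Submodule.map₂ (LinearMap.mul (PowerSeries k) (Fin 3 → PowerSeries k)) S S ≤ S := by
      conv_lhs => rw [hSG]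
      rw [Submodule.map₂_span_span, Submodule.span_le]
      rintro _ ⟨a, ha, b, hb, rfl⟩
      show a * b ∈ S
      have hIa : ∀ a b : Fin 3 → PowerSeries k, a ∈ I → a * b ∈ S := by
        intro a b ha
        obtain ⟨v, rfl⟩ := (hImem a).1 ha
        apply hIS
        rw [hImem]
        exact ⟨v * b, by rw [smul_mul_assoc]⟩
      rcases ha with (ha | ha) | ha
      · rw [ha, one_mul]; exact hGS hb
      · rcases hb with (hb | hb) | hb
        · rw [hb, mul_one]; exact hGS (Or.inl (Or.inr ha))
        · rw [Set.mem_singleton_iff] at ha hb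
          rw [ha, hb]; exact h
        · rw [mul_comm]; exact hIa _ _ hb
      · exact hIa _ _ ha
    intro x hx y hy
    exact hmap (Submodule.apply_mem_map₂ _ hx hy)

end Groth.Agent.S13879
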