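import Groth.Statements.S13884
import Groth.Agent.H66.RootLattice

set_option autoImplicit false
universe u
open Crimp

namespace Groth.Agent.S13884

/-- Over R = k⟦t⟧ with k an algebraically closed field of characteristic zero, let S' = k⟦x⟧ regarded as
an R-algebra through t ↦ x ^ 3, that is S' = R[x] / (x ^ 3 - t), the smooth totally ramified triple
cover of the formal disk. If M is an R-submodule of S' which is free of rank 3, then M has an
R-basis consisting of three power series whose x-adic valuations are pairwise distinct modulo 3.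
(Items (2) and (3) of the published proposition, on the base change of M to R[s] / (s ^ 3 - t), are
not restated.) -/
theorem result {k : Type u} [Field k] [IsAlgClosed k] [CharZero k]
    (M : Submodule (PowerSeries k) (W4c1hurwitzcpt.RootDisk 3 k))
    (bM : Module.Basis (Fin 3) (PowerSeries k) M) :
    ∃ g : Module.Basis (Fin 3) (PowerSeries k) M, ∀ i j : Fin 3, i ≠ j →
      ¬ Nat.ModEq 3 (PowerSeries.order (W4c1hurwitzcpt.RootDisk.val (((g i : M) : (W4c1hurwitzcpt.RootDisk 3 k)) : W4c1hurwitzcpt.RootDisk 3 k))).toNat
        (PowerSeries.order (W4c1hurwitzcpt.RootDisk.val (((g j : M) : (W4c1hurwitzcpt.RootDisk 3 k)) : W4c1hurwitzcpt.RootDisk 3 k))).toNat := by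
  obtain ⟨g, hg⟩ := Groth.Agent.H66.RootLattice.exists_good_basis M bM
  refine ⟨g, fun i j hij hmod => hij ?_⟩
  obtain ⟨ni, hni, hi⟩ := hg i
  obtain ⟨nj, hnj, hj⟩ := hg j
  unfold Groth.Agent.H66.RootLattice.ν at hni hnj
  rw [hni, hnj] at hmod
  simp only [ENat.toNat_coe] at hmod
  unfold Nat.ModEq at hmod
  apply Fin.ext
  rw [← hi, ← hj]
  exact hmod

end Groth.Agent.S13884
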