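import Groth.Statements.S1389
-- import your own Groth.Agent.* helpers here

set_option autoImplicit false
universe u
open FlatMor

namespace Groth.Agent.S1389

open AlgebraicGeometry CategoryTheory Limits in
/-- Let (U, u) and (U', u') be étale neighbourhoods of a point s of S and h₁, h₂ two S-morphisms U → U'
sending u to u' which induce the same map of residue fields κ(u') → κ(u). Then there is an étale
neighbourhood (U'', u'') of s with an S-morphism h : U'' → U sending u'' to u and with h followed by
h₁ equal to h followed by h₂. -/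
theorem result {S U U' : Scheme.{u}} (s : S) (g : U ⟶ S) (g' : U' ⟶ S) [Etale g] [Etale g'] (u : U) (u' : U')
    (hu : g u = s) (hu' : g' u' = s) (h₁ h₂ : U ⟶ U') (w₁ : h₁ ≫ g' = g) (w₂ : h₂ ≫ g' = g) (e₁ : h₁ u = u') (e₂ : h₂ u = u')
    (hres : (U'.residueFieldCongr e₁).inv ≫ h₁.residueFieldMap u = (U'.residueFieldCongr e₂).inv ≫ h₂.residueFieldMap u) :
    ∃ (U'' : Scheme.{u}) (g'' : U'' ⟶ S) (u'' : U'') (h : U'' ⟶ U), Etale g'' ∧ g'' u'' = s ∧ h ≫ g = g'' ∧ h u'' = u ∧ h ≫ h₁ = h ≫ h₂ := by
  have hdiag : IsOpenImmersion (pullback.diagonal g') := inferInstance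
  have hw : h₁ ≫ g' = h₂ ≫ g' := w₁.trans w₂.symm
  let l : U ⟶ pullback g' g' := pullback.lift h₁ h₂ hw
  have hl1 : l ≫ pullback.fst g' g' = h₁ := pullback.lift_fst _ _ _
  have hl2 : l ≫ pullback.snd g' g' = h₂ := pullback.lift_snd _ _ _
  -- the two composites from the residue field agree
  have hkey : U.fromSpecResidueField u ≫ h₁ = U.fromSpecResidueField u ≫ h₂ := by
    rw [← Scheme.Hom.SpecMap_residueFieldMap_fromSpecResidueField,
      ← Scheme.Hom.SpecMap_residueFieldMap_fromSpecResidueField,
      ← Scheme.residueFieldCongr_fromSpecResidueField e₁.symm,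
      ← Scheme.residueFieldCongr_fromSpecResidueField e₂.symm,
      ← Spec.map_comp_assoc, ← Spec.map_comp_assoc]
    have := hres
    simp only [Scheme.residueFieldCongr_inv] at this
    rw [this]
  let E := pullback l (pullback.diagonal g')
  have hcond : U.fromSpecResidueField u ≫ l = (U.fromSpecResidueField u ≫ h₁) ≫ pullback.diagonal g' := by
    apply pullback.hom_ext
    · rw [Category.assoc, hl1, Category.assoc, pullback.diagonal_fst, Category.comp_id]
    · rw [Category.assoc, hl2, Category.assoc, pullback.diagonal_snd, Category.comp_id, hkey]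
  let p : Spec (U.residueField u) ⟶ E := pullback.lift (U.fromSpecResidueField u)
    (U.fromSpecResidueField u ≫ h₁) hcond
  let z : Spec (U.residueField u) := default
  have hfst1 : pullback.fst l (pullback.diagonal g') ≫ h₁ = pullback.snd l (pullback.diagonal g') := by
    have := pullback.condition (f := l) (g := pullback.diagonal g') =≫ pullback.fst g' g'
    rwa [Category.assoc, hl1, Category.assoc, pullback.diagonal_fst, Category.comp_id] at this
  have hfst2 : pullback.fst l (pullback.diagonal g') ≫ h₂ = pullback.snd l (pullback.diagonal g') := by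
    have := pullback.condition (f := l) (g := pullback.diagonal g') =≫ pullback.snd g' g'
    rwa [Category.assoc, hl2, Category.assoc, pullback.diagonal_snd, Category.comp_id] at this
  refine ⟨E, pullback.fst l (pullback.diagonal g') ≫ g, p z, pullback.fst l (pullback.diagonal g'),
    inferInstance, ?_, rfl, ?_, hfst1.trans hfst2.symm⟩
  · rw [Scheme.Hom.comp_apply, ← Scheme.Hom.comp_apply p, pullback.lift_fst,
      Scheme.fromSpecResidueField_apply, hu]
  · rw [← Scheme.Hom.comp_apply p, pullback.lift_fst, Scheme.fromSpecResidueField_apply]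

end Groth.Agent.S1389
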