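import Groth.Statements.S13904
import Groth.Agent.H54.Dim
import Mathlib.RingTheory.KrullDimension.NonZeroDivisors

set_option autoImplicit false
universe u
open CAlg

namespace Groth.Agent.S13904

/-- Let k be a field, A a commutative k-algebra and φ : k[x_1, …, x_r] → A a finite k-algebra map such
that A/p has Krull dimension r for every minimal prime p of A (an equidimensional affine scheme of
dimension r, finite over affine r-space). Then for every minimal prime p of A and every prime q of
k[x_1, …, x_r] there is a prime P ⊇ p of A with φ⁻¹(P) = q: the finite map restricted to each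
irreducible component of Spec A is surjective onto affine r-space. (The published statement is over
an algebraically closed field with φ a Noether normalisation; this row allows any field and any
finite k-algebra map φ.) -/
theorem result (k : Type u) [Field k] (r : ℕ)
    (A : Type u) [CommRing A] [Algebra k A] (φ : MvPolynomial (Fin r) k →ₐ[k] A)
    (hφ : φ.toRingHom.Finite)
    (hdim : ∀ p ∈ minimalPrimes A, ringKrullDim (A ⧸ p) = r)
    (p : Ideal A) (hp : p ∈ minimalPrimes A)
    (q : Ideal (MvPolynomial (Fin r) k)) [q.IsPrime] :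
    ∃ P : Ideal A, P.IsPrime ∧ p ≤ P ∧ P.comap φ.toRingHom = q := by
  classical
  have hpprime : p.IsPrime := hp.1.1
  have hint : φ.toRingHom.IsIntegral := hφ.to_isIntegral
  -- the contraction of `p`
  set q₀ : Ideal (MvPolynomial (Fin r) k) := p.comap φ.toRingHom with hq₀
  have hq₀prime : q₀.IsPrime := Ideal.comap_isPrime _ _
  have hdimeq : ringKrullDim (MvPolynomial (Fin r) k ⧸ q₀) = ringKrullDim (A ⧸ p) :=
    Groth.Agent.H54.ringKrullDim_eq_of_ringHom_isIntegral_of_injective
      (Ideal.quotientMap p φ.toRingHom le_rfl) hint.quotient Ideal.quotientMap_injective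
  rw [hdim p hp] at hdimeq
  have hbot : q₀ = ⊥ := by
    by_contra hne
    obtain ⟨x, hx, hx0⟩ := Submodule.exists_mem_ne_zero_of_ne_bot hne
    have hxreg : x ∈ nonZeroDivisors (MvPolynomial (Fin r) k) := mem_nonZeroDivisors_of_ne_zero hx0
    have h1 := ringKrullDim_quotient_succ_le_of_nonZeroDivisor hxreg
    have hle : Ideal.span {x} ≤ q₀ := (Ideal.span_singleton_le_iff_mem _).2 hx
    have h2 : ringKrullDim (MvPolynomial (Fin r) k ⧸ q₀) ≤
        ringKrullDim (MvPolynomial (Fin r) k ⧸ Ideal.span {x}) :=
      ringKrullDim_le_of_surjective (Ideal.Quotient.factor hle) (Ideal.Quotient.factor_surjective hle)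
    rw [hdimeq] at h2
    rw [Groth.Agent.H54.ringKrullDim_mvPolynomial_fin_field] at h1
    have h3 : ((r : ℕ) : WithBot ℕ∞) + 1 ≤ (r : WithBot ℕ∞) := le_trans (by gcongr) h1
    have h4 : ((r + 1 : ℕ) : WithBot ℕ∞) ≤ ((r : ℕ) : WithBot ℕ∞) := by
      simpa using h3
    have h5 : r + 1 ≤ r := by exact_mod_cast h4
    omega
  -- lying over
  letI : Algebra (MvPolynomial (Fin r) k) A := φ.toRingHom.toAlgebra
  haveI : Algebra.IsIntegral (MvPolynomial (Fin r) k) A := ⟨hint⟩
  obtain ⟨Q, hQp, hQprime, hQc⟩ := Ideal.exists_ideal_over_prime_of_isIntegral q p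
    (by
      show p.comap φ.toRingHom ≤ q
      rw [← hq₀, hbot]; exact bot_le)
  exact ⟨Q, hQprime, hQp, hQc⟩

end Groth.Agent.S13904
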