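import Groth.Statements.S13905
import Mathlib.LinearAlgebra.FiniteDimensional.Lemmas
import Mathlib.LinearAlgebra.FiniteDimensional.Basic

set_option autoImplicit false
universe u
open ProjGeom

namespace Groth.Agent.S13905

open W4c1etcurveeff3b in
/-- Hyperplanes of projective n-space in general position, in linear-algebra form (V of dimension n + 1
over a field k, hyperplanes as n-dimensional subspaces, points as nonzero vectors): if S is a finite
set of hyperplanes in general position with at least n members and H is a hyperplane containing none
of the lines cut out by n members of S, then S with H added is again in general position. (The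
published statement is for hyperplanes of P^n_k and closed points; a closed point lying on n + 1
members is automatically one of the rational points cut out by n of them, so the condition on
nonzero vectors of V is the same condition.) -/
theorem result (k V : Type u) [Field k]
    [AddCommGroup V] [Module k V] [DecidableEq (Submodule k V)] (n : ℕ) (S : Finset (Submodule k V))
    (hS : InGeneralPosition k V n S) (hn : n ≤ S.card) (H : Submodule k V)
    (hH : Module.finrank k H = n)
    (havoid : ∀ T ⊆ S, T.card = n → ¬ (T.inf id ≤ H)) :
    InGeneralPosition k V n (insert H S) := by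
  classical
  by_cases hHS : H ∈ S
  · rw [Finset.insert_eq_of_mem hHS]; exact hS
  obtain ⟨hV, hdim, hint, hpt⟩ := hS
  haveI : FiniteDimensional k V := Module.finite_of_finrank_pos (by omega)
  -- key computation
  have claimA : ∀ T' ⊆ S, T'.card + 1 ≤ n →
      Module.finrank k ↥(H ⊓ T'.inf id) = n - T'.card := by
    intro T' hT' hc
    have hW : Module.finrank k ↥(T'.inf id) = n + 1 - T'.card := hint T' hT' (by omega)
    have hnle : ¬ T'.inf id ≤ H := by
      intro hle
      obtain ⟨T'', h1, h2, h3⟩ := Finset.exists_subsuperset_card_eq hT' (by omega : T'.card ≤ n) hn
      exact havoid T'' h2 h3 (le_trans (Finset.inf_mono h1) hle)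
    have hlt : H < T'.inf id ⊔ H := by
      refine lt_of_le_of_ne le_sup_right fun heq => hnle ?_
      rw [heq]; exact le_sup_left
    have h1 := Submodule.finrank_lt_finrank_of_lt hlt
    have h2 : Module.finrank k ↥(T'.inf id ⊔ H) ≤ Module.finrank k V := Submodule.finrank_le _
    have h3 := Submodule.finrank_sup_add_finrank_inf_eq (T'.inf id) H
    rw [inf_comm]
    omega
  refine ⟨hV, ?_, ?_, ?_⟩
  · intro H' hH'
    rcases Finset.mem_insert.1 hH' with rfl | hH'
    · exact hH
    · exact hdim H' hH'
  · intro T hT hc
    by_cases hHT : H ∈ T
    · have hT' : T.erase H ⊆ S := by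
        intro x hx
        have := hT (Finset.mem_of_mem_erase hx)
        rcases Finset.mem_insert.1 this with rfl | h
        · exact absurd rfl (Finset.ne_of_mem_erase hx)
        · exact h
      have hcard : (T.erase H).card = T.card - 1 := Finset.card_erase_of_mem hHT
      have hpos : 0 < T.card := Finset.card_pos.2 ⟨H, hHT⟩
      have := claimA (T.erase H) hT' (by omega)
      rw [← Finset.insert_erase hHT, Finset.inf_insert, id, Finset.insert_erase hHT, this]
      omega
    · exact hint T ((Finset.subset_insert_iff_of_notMem hHT).1 hT) hc
  · intro v hv T hT hvT
    by_cases hHT : H ∈ T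
    · have hT' : T.erase H ⊆ S := by
        intro x hx
        have := hT (Finset.mem_of_mem_erase hx)
        rcases Finset.mem_insert.1 this with rfl | h
        · exact absurd rfl (Finset.ne_of_mem_erase hx)
        · exact h
      have hcard : (T.erase H).card = T.card - 1 := Finset.card_erase_of_mem hHT
      have hpos : 0 < T.card := Finset.card_pos.2 ⟨H, hHT⟩
      have hle : (T.erase H).card ≤ n :=
        hpt v hv (T.erase H) hT' fun H' hH' => hvT H' (Finset.mem_of_mem_erase hH')
      have hne : (T.erase H).card ≠ n := by
        intro heq
        have h1 : Module.finrank k ↥((T.erase H).inf id) = 1 := by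
          rw [hint _ hT' hle, heq]; omega
        have hvW : v ∈ (T.erase H).inf id := by
          rw [Submodule.mem_finsetInf]
          intro H' hH'
          exact hvT H' (Finset.mem_of_mem_erase hH')
        apply havoid (T.erase H) hT' heq
        intro w hw
        have hv' : (⟨v, hvW⟩ : ↥((T.erase H).inf id)) ≠ 0 := by
          intro h0
          exact hv (congrArg Subtype.val h0)
        obtain ⟨c, hc⟩ := (finrank_eq_one_iff_of_nonzero' _ hv').1 h1 ⟨w, hw⟩
        have hc' : c • v = w := congrArg Subtype.val hc
        rw [← hc']
        exact H.smul_mem c (hvT H hHT)
      omega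
    · exact hpt v hv T ((Finset.subset_insert_iff_of_notMem hHT).1 hT) hvT

end Groth.Agent.S13905
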