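import Groth.Statements.S13913
import Mathlib.Tactic
import Mathlib.RingTheory.MvPolynomial.EulerIdentity

set_option autoImplicit false
universe u
open PlaneCubic

namespace Groth.Agent.S13913

/-- Over an algebraically closed field of characteristic zero, for linearly independent linear forms z₁,
z₂ and quadratic forms q₁, q₂ in three variables and a nonzero common zero p of z₁ and z₂, the point
p is a singular point of the plane cubic z₁q₂ − z₂q₁ = 0 (all three partial derivatives vanish at p)
if and only if q₁ and q₂ both vanish at p. -/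
theorem result (k : Type u) [Field k] [IsAlgClosed k] [CharZero k]
    (z₁ z₂ q₁ q₂ : MvPolynomial (Fin 3) k) (hz₁ : z₁.IsHomogeneous 1) (hz₂ : z₂.IsHomogeneous 1)
    (hq₁ : q₁.IsHomogeneous 2) (hq₂ : q₂.IsHomogeneous 2) (hind : LinearIndependent k ![z₁, z₂])
    (p : Fin 3 → k) (hp : p ≠ 0) (hp₁ : MvPolynomial.eval p z₁ = 0) (hp₂ : MvPolynomial.eval p z₂ = 0) :
    (∀ i : Fin 3, MvPolynomial.eval p (MvPolynomial.pderiv i (z₁ * q₂ - z₂ * q₁)) = 0) ↔
      (MvPolynomial.eval p q₁ = 0 ∧ MvPolynomial.eval p q₂ = 0) := by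
  classical
  have hlin : ∀ z : MvPolynomial (Fin 3) k, z.IsHomogeneous 1 →
      ∃ a : Fin 3 → k, (∀ i, MvPolynomial.pderiv i z = MvPolynomial.C (a i)) ∧
        z = ∑ i, MvPolynomial.X i * MvPolynomial.C (a i) := by
    intro z hz
    have hc : ∀ i, MvPolynomial.pderiv i z = MvPolynomial.C ((MvPolynomial.pderiv i z).coeff 0) := by
      intro i
      have h0 : (MvPolynomial.pderiv i z).IsHomogeneous (1 - 1) := hz.pderiv
      rw [Nat.sub_self, ← MvPolynomial.totalDegree_zero_iff_isHomogeneous,
        MvPolynomial.totalDegree_eq_zero_iff_eq_C] at h0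
      exact h0
    refine ⟨fun i => (MvPolynomial.pderiv i z).coeff 0, hc, ?_⟩
    have := hz.sum_X_mul_pderiv
    rw [one_smul] at this
    refine this.symm.trans ?_
    exact Finset.sum_congr rfl fun i _ => by rw [← hc i]
  obtain ⟨a₁, ha₁, hz₁'⟩ := hlin z₁ hz₁
  obtain ⟨a₂, ha₂, hz₂'⟩ := hlin z₂ hz₂
  have hder : ∀ i, MvPolynomial.eval p (MvPolynomial.pderiv i (z₁ * q₂ - z₂ * q₁)) =
      a₁ i * MvPolynomial.eval p q₂ - a₂ i * MvPolynomial.eval p q₁ := by
    intro i
    rw [map_sub, Derivation.leibniz, Derivation.leibniz, ha₁, ha₂]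
    simp only [smul_eq_mul, map_sub, map_add, map_mul, hp₁, hp₂, MvPolynomial.eval_C]
    ring
  constructor
  · intro h
    have hzero : MvPolynomial.eval p q₂ • z₁ + (-MvPolynomial.eval p q₁) • z₂ = 0 := by
      have h1 : MvPolynomial.eval p q₂ • z₁ + (-MvPolynomial.eval p q₁) • z₂ =
          ∑ i, MvPolynomial.X i * MvPolynomial.C (a₁ i * MvPolynomial.eval p q₂ - a₂ i * MvPolynomial.eval p q₁) := by
        conv_lhs => rw [hz₁', hz₂']
        rw [Finset.smul_sum, Finset.smul_sum, ← Finset.sum_add_distrib]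
        refine Finset.sum_congr rfl fun i _ => ?_
        simp only [MvPolynomial.smul_eq_C_mul, map_sub, map_mul, map_neg]
        ring
      rw [h1]
      refine Finset.sum_eq_zero fun i _ => ?_
      rw [← hder i, h i, map_zero, mul_zero]
    have := (LinearIndependent.pair_iff.1 hind) _ _ hzero
    exact ⟨neg_eq_zero.1 this.2, this.1⟩
  · rintro ⟨h1, h2⟩ i
    rw [hder, h1, h2, mul_zero, mul_zero, sub_zero]

end Groth.Agent.S13913
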