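import Groth.Statements.S13914
import Mathlib.Tactic
import Mathlib.LinearAlgebra.Matrix.Determinant.Basic

set_option autoImplicit false
universe u
open PlaneConic

namespace Groth.Agent.S13914

/-- Over an algebraically closed field of characteristic zero, an invertible 3 × 3 matrix g, acting on
row vectors and so on the projective plane, fixes every point of the line u_0 = 0 if and only if g
is a nonzero scalar multiple of a matrix with rows (α, β, γ), (0, 1, 0), (0, 0, 1). -/
theorem result (k : Type u) [Field k] [IsAlgClosed k] [CharZero k]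
    (g : Matrix (Fin 3) (Fin 3) k) (hg : IsUnit g.det) :
    (∀ v : Fin 3 → k, v 0 = 0 → ∃ c : k, Matrix.vecMul v g = c • v) ↔
      ∃ c α β γ : k, c ≠ 0 ∧ g = c • !![α, β, γ; 0, 1, 0; 0, 0, 1] := by
  constructor
  · intro h
    obtain ⟨c1, hc1⟩ := h ![0, 1, 0] (by simp)
    obtain ⟨c2, hc2⟩ := h ![0, 0, 1] (by simp)
    obtain ⟨c3, hc3⟩ := h ![0, 1, 1] (by simp)
    have e10 := congrFun hc1 0
    have e11 := congrFun hc1 1
    have e12 := congrFun hc1 2
    have e20 := congrFun hc2 0
    have e21 := congrFun hc2 1
    have e22 := congrFun hc2 2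
    simp [Matrix.vecMul, dotProduct, Fin.sum_univ_three] at e10 e11 e12 e20 e21 e22
    have hc12 : c1 = c2 := by
      have h31 : g 1 1 + g 2 1 = c3 := by
        have := congrFun hc3 1
        simpa [Matrix.vecMul, dotProduct, Fin.sum_univ_three] using this
      have h32 : g 1 2 + g 2 2 = c3 := by
        have := congrFun hc3 2
        simpa [Matrix.vecMul, dotProduct, Fin.sum_univ_three] using this
      rw [e11, e21, add_zero] at h31
      rw [e12, e22, zero_add] at h32
      rw [h31, h32]
    have hdet : g.det = g 0 0 * c1 * c1 := by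
      rw [Matrix.det_fin_three, e10, e11, e12, e20, e21, e22, hc12]
      ring
    have hc1ne : c1 ≠ 0 := by
      rintro rfl
      rw [hdet] at hg
      simp at hg
    refine ⟨c1, g 0 0 / c1, g 0 1 / c1, g 0 2 / c1, hc1ne, ?_⟩
    ext i j
    fin_cases i <;> fin_cases j <;> simp [e10, e11, e12, e20, e21, e22, hc12.symm] <;> field_simp
  · rintro ⟨c, α, β, γ, hc, rfl⟩ v hv
    refine ⟨c, ?_⟩
    ext j
    fin_cases j <;> simp [Matrix.vecMul, dotProduct, Fin.sum_univ_three, hv] <;> ring

end Groth.Agent.S13914
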