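import Groth.Statements.S13916
import Mathlib.Tactic

set_option autoImplicit false
universe u
open PlaneConic

namespace Groth.Agent.S13916

/-- Over an algebraically closed field k of characteristic zero, with u_0, u_1, u_2 the coordinate
linear forms of k[X_0, X_1, X_2] and 2 × 2 matrices of linear forms compared up to M ↦ g M h with g,
h invertible scalar matrices: (1) the matrices with rows (u_1, 0), (u_0, u_2) and (u_2, 0), (u_0,
u_1) are not equivalent; (2) for α ≠ 0 the matrix with rows (u_1, 0), (αu_0 + βu_1 + γu_2, u_2) is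
equivalent to the one with rows (u_1, 0), (u_0, u_2). -/
theorem result (k : Type u) [Field k] [IsAlgClosed k] [CharZero k] :
    (¬ ∃ g h : GL (Fin 2) k,
      (MvPolynomial.C : k →+* MvPolynomial (Fin 3) k).mapMatrix g.val *
          !![MvPolynomial.X 1, 0; MvPolynomial.X 0, MvPolynomial.X 2] *
        (MvPolynomial.C : k →+* MvPolynomial (Fin 3) k).mapMatrix h.val =
      !![MvPolynomial.X 2, 0; MvPolynomial.X 0, MvPolynomial.X 1]) ∧
    (∀ α β γ : k, α ≠ 0 → ∃ g h : GL (Fin 2) k,
      (MvPolynomial.C : k →+* MvPolynomial (Fin 3) k).mapMatrix g.val *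
          !![MvPolynomial.X 1, 0;
             MvPolynomial.C α * MvPolynomial.X 0 + MvPolynomial.C β * MvPolynomial.X 1 + MvPolynomial.C γ * MvPolynomial.X 2,
             MvPolynomial.X 2] *
        (MvPolynomial.C : k →+* MvPolynomial (Fin 3) k).mapMatrix h.val =
      !![MvPolynomial.X 1, 0; MvPolynomial.X 0, MvPolynomial.X 2]) := by
  constructor
  · rintro ⟨g, h, hgh⟩
    have key : ∀ (v : Fin 3 → k) (i j : Fin 2),
        MvPolynomial.eval v ((((MvPolynomial.C : k →+* MvPolynomial (Fin 3) k).mapMatrix g.val *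
          !![MvPolynomial.X 1, 0; MvPolynomial.X 0, MvPolynomial.X 2] *
        (MvPolynomial.C : k →+* MvPolynomial (Fin 3) k).mapMatrix h.val :
          Matrix (Fin 2) (Fin 2) (MvPolynomial (Fin 3) k))) i j) =
        MvPolynomial.eval v ((!![MvPolynomial.X 2, 0; MvPolynomial.X 0, MvPolynomial.X 1] :
          Matrix (Fin 2) (Fin 2) (MvPolynomial (Fin 3) k)) i j) := by
      intro v i j; rw [hgh]
    have a1 := key ![0, 0, 1] 0 0
    have a2 := key ![1, 0, 0] 0 0
    have a3 := key ![1, 0, 0] 1 0
    simp [Matrix.mul_apply, Fin.sum_univ_two] at a1 a2 a3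
    have h1 : g.val 0 1 ≠ 0 := by
      intro h0
      rw [h0] at a1
      simp at a1
    have h2 : h.val 0 0 = 0 := by
      rcases a2 with h' | h'
      · exact absurd h' h1
      · exact h'
    rw [h2] at a3
    simp at a3
  · intro α β γ hα
    refine ⟨Matrix.GeneralLinearGroup.mkOfDetNeZero !![1, 0; -β / α, 1 / α] ?_,
      Matrix.GeneralLinearGroup.mkOfDetNeZero !![1, 0; -γ, α] ?_, ?_⟩
    · simp [Matrix.det_fin_two, hα]
    · simp [Matrix.det_fin_two, hα]
    · apply Matrix.ext
      intro i j
      fin_cases i <;> fin_cases j <;>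
        simp [Matrix.mul_apply, Fin.sum_univ_two, Matrix.GeneralLinearGroup.mkOfDetNeZero]
      · have e : (MvPolynomial.C α⁻¹ : MvPolynomial (Fin 3) k) * MvPolynomial.C α = 1 := by
          rw [← map_mul, inv_mul_cancel₀ hα, map_one]
        have e2 : (MvPolynomial.C (-β / α) : MvPolynomial (Fin 3) k) =
            -(MvPolynomial.C β * MvPolynomial.C α⁻¹) := by
          rw [neg_div, div_eq_mul_inv, map_neg, map_mul]
        rw [e2]
        linear_combination (MvPolynomial.X 0) * e
      · have e : (MvPolynomial.C α⁻¹ : MvPolynomial (Fin 3) k) * MvPolynomial.C α = 1 := by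
          rw [← map_mul, inv_mul_cancel₀ hα, map_one]
        linear_combination (MvPolynomial.X 2) * e

end Groth.Agent.S13916
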