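import Groth.Statements.S13925
import Mathlib.Tactic

set_option autoImplicit false
universe u v w x
open W4c1limliniiii

namespace Groth.Agent.S13925

/-- Let k be a field and U, E, W vector spaces over k with linear maps f : U → E, g' : E → U, f₂ : E → W
and g : W → E such that g' ∘ f = 0, the kernel of f₂ is contained in the image of g, and the image
of g meets the kernel of g' only in 0 — the conditions holding at a point of a linked Grassmannian
at which the linking scalar vanishes. Let V₁ ≤ U and V₂ ≤ E be subspaces and let C' ≤ V₂ be a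
subspace contained in the kernel of g' and meeting f(V₁) only in 0. Then the subspaces f(V₁), ker f₂
∩ V₂ and C' of E are independent: their sum is direct. (The published statement is for two
consecutive members V_{i-1}, V_i of a point of a linked Grassmannian at which the linking scalar
vanishes and adds the decomposition V_i = f(V_{i-1}) ⊕ (ker f_i ∩ V_i) ⊕ C with C ⊇ C'; this row
states the independence, with only the three conditions the argument uses.) -/
theorem result (k : Type u) [Field k]
    (U : Type v) (E : Type w) (W : Type x) [AddCommGroup U] [Module k U] [AddCommGroup E]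
    [Module k E] [AddCommGroup W] [Module k W]
    (f : U →ₗ[k] E) (g' : E →ₗ[k] U) (f₂ : E →ₗ[k] W) (g : W →ₗ[k] E)
    (hgf : g'.comp f = 0) (hII : LinearMap.ker f₂ ≤ LinearMap.range g)
    (hIII : LinearMap.range g ⊓ LinearMap.ker g' = ⊥)
    (V₁ : Submodule k U) (V₂ : Submodule k E) (C' : Submodule k E) (hC : C' ≤ V₂)
    (hCg : C' ≤ LinearMap.ker g') (hCf : Submodule.map f V₁ ⊓ C' = ⊥) :
    iSupIndep ![Submodule.map f V₁, LinearMap.ker f₂ ⊓ V₂, C'] := by
  rw [iSupIndep_fin_three]
  have hX : Submodule.map f V₁ ≤ LinearMap.ker g' := by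
    rintro _ ⟨v, _, rfl⟩
    rw [LinearMap.mem_ker, ← LinearMap.comp_apply, hgf, LinearMap.zero_apply]
  have hY : LinearMap.ker f₂ ⊓ V₂ ≤ LinearMap.range g := inf_le_left.trans hII
  have key : ∀ y : E, y ∈ LinearMap.range g → y ∈ LinearMap.ker g' → y = 0 := by
    intro y h1 h2
    have : y ∈ LinearMap.range g ⊓ LinearMap.ker g' := ⟨h1, h2⟩
    rw [hIII] at this
    exact (Submodule.mem_bot k).1 this
  have keyXZ : ∀ y : E, y ∈ Submodule.map f V₁ → y ∈ C' → y = 0 := by
    intro y h1 h2
    have : y ∈ Submodule.map f V₁ ⊓ C' := ⟨h1, h2⟩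
    rw [hCf] at this
    exact (Submodule.mem_bot k).1 this
  simp only [Matrix.cons_val_zero, Matrix.cons_val_one, Matrix.cons_val_two, Matrix.head_cons,
    Matrix.tail_cons]
  refine ⟨?_, ?_, ?_⟩
  · rw [Submodule.disjoint_def]
    intro x hx hx'
    obtain ⟨y, hy, z, hz, rfl⟩ := Submodule.mem_sup.1 hx'
    have hy0 : y = 0 := by
      apply key y (hY hy)
      have : y = (y + z) - z := by abel
      rw [this]
      exact Submodule.sub_mem _ (hX hx) (hCg hz)
    subst hy0
    rw [zero_add] at hx ⊢
    exact keyXZ z hx hz
  · rw [Submodule.disjoint_def]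
    intro y hy hy'
    obtain ⟨z, hz, x, hx, rfl⟩ := Submodule.mem_sup.1 hy'
    exact key _ (hY hy) (Submodule.add_mem _ (hCg hz) (hX hx))
  · rw [Submodule.disjoint_def]
    intro z hz hz'
    obtain ⟨x, hx, y, hy, rfl⟩ := Submodule.mem_sup.1 hz'
    have hy0 : y = 0 := by
      apply key y (hY hy)
      have : y = (x + y) - x := by abel
      rw [this]
      exact Submodule.sub_mem _ (hCg hz) (hX hx)
    subst hy0
    rw [add_zero] at hz ⊢
    exact keyXZ x hx hz

end Groth.Agent.S13925
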