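import Groth.Statements.S1393
import Mathlib
import Groth.Agent.H7.FibreFree
import Groth.Agent.H67.FlatLocFree

set_option autoImplicit false
universe u
open FlatMor

namespace Groth.Agent.S1393

open AlgebraicGeometry CategoryTheory Limits in
/-- Let f : X → S be of finite presentation, F a finitely presented quasi-coherent O_X-module and x a
point with image s. If F is flat over S at x and the stalk at x of the restriction of F to the
fibre, namely F_x / m_s F_x, is flat over the local ring of the fibre at x, namely O_{X,x} / m_s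
O_{X,x}, then F is free of finite rank on some open neighbourhood of x. -/
theorem result {X S : Scheme.{u}} (f : X ⟶ S) [LocallyOfFinitePresentation f] [QuasiCompact f] [QuasiSeparated f]
    (F : X.Modules) (hFq : Coh.IsQCoh F) (hFp : CohB1.IsFP F) (x : X) (h1 : FlatMod.IsFlatOverAt f F x)
    (h2 : Module.Flat (↑(X.presheaf.stalk x) ⧸ Ideal.map (f.stalkMap x).hom (IsLocalRing.maximalIdeal ↑(S.presheaf.stalk (f x))))
      (↑(F.presheaf.stalk x) ⧸ (Ideal.map (f.stalkMap x).hom (IsLocalRing.maximalIdeal ↑(S.presheaf.stalk (f x))) • (⊤ : Submodule ↑(X.presheaf.stalk x) ↑(F.presheaf.stalk x))))) :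
    ∃ (U : X.Opens) (n : ℕ), x ∈ U ∧ Nonempty (F.restrict U.ι ≅ FlatMod.freeMod (↑U) n) := by
  haveI : SheafOfModules.IsFinitePresentation (R := X.ringCatSheaf) F := hFp
  haveI : F.IsQuasicoherent := hFq
  obtain ⟨_, ⟨V, hV, rfl⟩, hxV, -⟩ :=
    X.isBasis_affineOpens.exists_subset_of_mem_open (Set.mem_univ x) isOpen_univ
  haveI : Module.FinitePresentation Γ(X, V) Γ(F, V) :=
    Groth.Agent.H44.finitePresentation_sections_of_isFinitePresentation F hV
  haveI : Module.FinitePresentation (X.presheaf.stalk x) (F.presheaf.stalk x) := by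
    letI := Groth.Agent.H8.stalkModule F hxV
    letI : Algebra Γ(X, V) (X.presheaf.stalk x) :=
      TopCat.Presheaf.algebra_section_stalk X.presheaf ⟨x, hxV⟩
    haveI : IsScalarTower Γ(X, V) (X.presheaf.stalk x) (F.presheaf.stalk x) :=
      IsScalarTower.of_algebraMap_smul (fun r m => rfl)
    haveI := hV.isLocalization_stalk ⟨x, hxV⟩
    haveI := Groth.Agent.H8.isLocalizedModule_germₗ F hV hxV
    exact FinitePresentation.of_isBaseChange (Groth.Agent.H8.germₗ F hxV)
      ((isLocalizedModule_iff_isBaseChange (hV.primeIdealOf ⟨x, hxV⟩).asIdeal.primeCompl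
        (X.presheaf.stalk x) (Groth.Agent.H8.germₗ F hxV)).mp inferInstance)
  have hfree : Module.Free (X.presheaf.stalk x) (F.presheaf.stalk x) :=
    Groth.Agent.H7.FibreFree.free_of_flat_of_fibre_flat (f.stalkMap x).hom h1 h2
  exact Groth.Agent.H67.FreeLocus.exists_free_nhds_of_free_stalk F hV hxV hfree

end Groth.Agent.S1393
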