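import Groth.Statements.S13936
import Groth.Agent.H69.PP16Lemmas

set_option autoImplicit false
universe u
open W4c1limliniiii

namespace Groth.Agent.S13936

/-- Let R be a commutative ring, S_Y → S_X a homomorphism of R-algebras (an affine piece of a morphism f
: X → Y of schemes over Spec R) and σ : S_X → R an R-algebra retraction (a section of X over the
base) with kernel I. For e ≥ 1 write T^{e−1} for the augmentation ideal of the ring of principal
parts of order e − 1 (the kernel of P^{e−1} → the algebra; for e = 2 this is the module of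
differentials). Then the natural map T^{e−1}(S_Y/R) → T^{e−1}(S_X/R) takes values in I ·
T^{e−1}(S_X/R) — that is, the induced map f^*T^{e−1}_Y → T^{e−1}_X vanishes at the section σ — if
and only if every element of S_Y whose image in S_X lies in I has image in I^e, which says that the
fibre of f through σ contains the e-th order thickening of σ. (The published statement is for a
morphism of separated schemes over a base and sections over an arbitrary base change; this row is
the affine computation it reduces to.) -/
theorem result (R SY SX : Type u)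
    [CommRing R] [CommRing SY] [CommRing SX] [Algebra R SY] [Algebra R SX] [Algebra SY SX]
    [IsScalarTower R SY SX] (σ : SX →ₐ[R] R) (e : ℕ) (he : 1 ≤ e) :
    (∀ y ∈ PP16.augIdeal (e - 1) R SY,
        PP16.map (e - 1) R SY R SX y ∈
          RingHom.ker σ.toRingHom • (PP16.augIdeal (e - 1) R SX).restrictScalars SX) ↔
      (∀ b : SY, algebraMap SY SX b ∈ RingHom.ker σ.toRingHom →
        algebraMap SY SX b ∈ RingHom.ker σ.toRingHom ^ e) := by
  classical
  obtain ⟨n, rfl⟩ : ∃ n, e = n + 1 := ⟨e - 1, by omega⟩
  show (∀ y ∈ PP16.augIdeal n R SY, PP16.map n R SY R SX y ∈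
      RingHom.ker σ.toRingHom • (PP16.augIdeal n R SX).restrictScalars SX) ↔ _
  have hmk_surj : ∀ (B : Type u) [CommRing B] [Algebra R B], Function.Surjective
      (Ideal.Quotient.mk ((KaehlerDifferential.ideal R B) ^ (n + 1))) :=
    fun B _ _ => Ideal.Quotient.mk_surjective
  have hsmul : ∀ (i : SX) (j : TensorProduct R SX SX),
      i • (Ideal.Quotient.mk ((KaehlerDifferential.ideal R SX) ^ (n + 1)) j) =
        Ideal.Quotient.mk ((KaehlerDifferential.ideal R SX) ^ (n + 1))
          ((TensorProduct.tmul R i (1 : SX)) * j) := by
    intro i j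
    rw [map_mul, Algebra.smul_def]
    rfl
  have key : ∀ z : TensorProduct R SX SX,
      (Ideal.Quotient.mk ((KaehlerDifferential.ideal R SX) ^ (n + 1)) z ∈
        RingHom.ker σ.toRingHom • (PP16.augIdeal n R SX).restrictScalars SX) ↔
      z ∈ Groth.Agent.H69.ppK σ ⊔ (KaehlerDifferential.ideal R SX) ^ (n + 1) := by
    intro z
    constructor
    · intro hz
      have hle : RingHom.ker σ.toRingHom • (PP16.augIdeal n R SX).restrictScalars SX ≤
          ((Groth.Agent.H69.ppK σ).map
            (Ideal.Quotient.mk ((KaehlerDifferential.ideal R SX) ^ (n + 1)))).restrictScalars SX := by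
        rw [Submodule.smul_le]
        intro i hi w hw
        obtain ⟨j, hj, rfl⟩ := (Ideal.mem_map_iff_of_surjective _ (hmk_surj SX)).1 hw
        rw [hsmul]
        exact Ideal.mem_map_of_mem _ (Groth.Agent.H69.incl_mul_mem_ppK σ hi hj)
      obtain ⟨a, ha, haz⟩ := (Ideal.mem_map_iff_of_surjective _ (hmk_surj SX)).1 (hle hz)
      have hza : z - a ∈ (KaehlerDifferential.ideal R SX) ^ (n + 1) := by
        rw [← Ideal.Quotient.eq, haz]
      have : z = a + (z - a) := by abel
      rw [this]
      exact add_mem (Ideal.mem_sup_left ha) (Ideal.mem_sup_right hza)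
    · intro hz
      obtain ⟨a, ha, b, hb, rfl⟩ := Submodule.mem_sup.1 hz
      rw [map_add, (Ideal.Quotient.eq_zero_iff_mem).2 hb, add_zero]
      have hP : ∀ u ∈ (RingHom.ker σ.toRingHom).map
          (Algebra.TensorProduct.includeLeftRingHom : SX →+* TensorProduct R SX SX),
          ∀ j ∈ KaehlerDifferential.ideal R SX,
          Ideal.Quotient.mk ((KaehlerDifferential.ideal R SX) ^ (n + 1)) (u * j) ∈
            RingHom.ker σ.toRingHom • (PP16.augIdeal n R SX).restrictScalars SX := by
        intro u hu
        induction hu using Submodule.span_induction with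
        | mem u h =>
          obtain ⟨i, hi, rfl⟩ := h
          intro j hj
          have : (Algebra.TensorProduct.includeLeftRingHom : SX →+* TensorProduct R SX SX) i =
            TensorProduct.tmul R i (1 : SX) := rfl
          rw [this, ← hsmul]
          exact Submodule.smul_mem_smul hi (Ideal.mem_map_of_mem _ hj)
        | zero => intro j _; rw [zero_mul, map_zero]; exact zero_mem _
        | add x y _ _ hx hy =>
          intro j hj
          rw [add_mul, map_add]
          exact add_mem (hx j hj) (hy j hj)
        | smul c x _ hx =>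
          intro j hj
          have : c • x * j = x * (c * j) := by rw [smul_eq_mul]; ring
          rw [this]
          exact hx _ (Ideal.mul_mem_left _ _ hj)
      unfold Groth.Agent.H69.ppK at ha
      refine Submodule.mul_induction_on ha ?_ ?_
      · intro u hu j hj
        exact hP u hu j hj
      · intro x y hx hy
        rw [map_add]
        exact add_mem hx hy
  have htm_mem : ∀ x ∈ KaehlerDifferential.ideal R SY,
      PP16.tensorMap R SY R SX x ∈ KaehlerDifferential.ideal R SX := fun x hx =>
    PP16.ideal_map_tensorMap_le R SY R SX (Ideal.mem_map_of_mem _ hx)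
  have htmD : ∀ b : SY, PP16.tensorMap R SY R SX (Groth.Agent.H69.ppD b) =
      Groth.Agent.H69.ppD (algebraMap SY SX b) := by
    intro b
    simp only [Groth.Agent.H69.ppD, map_sub, PP16.tensorMap_tmul, map_one]
  have step1 : (∀ y ∈ PP16.augIdeal n R SY, PP16.map n R SY R SX y ∈
      RingHom.ker σ.toRingHom • (PP16.augIdeal n R SX).restrictScalars SX) ↔
      ∀ x ∈ KaehlerDifferential.ideal R SY,
        Groth.Agent.H69.ppTheta σ (PP16.tensorMap R SY R SX x) ∈ RingHom.ker σ.toRingHom ^ (n + 1) := by
    constructor
    · intro h x hx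
      have h1 := h (Ideal.Quotient.mk _ x) (Ideal.mem_map_of_mem _ hx)
      rw [PP16.map_mk, key] at h1
      exact Groth.Agent.H69.ppTheta_mem_pow_of_mem σ h1
    · intro h y hy
      obtain ⟨x, hx, rfl⟩ := (Ideal.mem_map_iff_of_surjective _ (hmk_surj SY)).1 hy
      rw [PP16.map_mk, key]
      exact Groth.Agent.H69.mem_of_ppTheta_mem_pow σ n (htm_mem x hx) (h x hx)
  rw [step1]
  constructor
  · intro h b hb
    have h1 := h _ (Groth.Agent.H69.ppD_mem (R := R) b)
    rw [htmD, Groth.Agent.H69.ppTheta_D] at h1
    have : σ (algebraMap SY SX b) = 0 := hb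
    rw [this, map_zero, sub_zero] at h1
    exact h1
  · intro h
    have hle : KaehlerDifferential.ideal R SY ≤ (RingHom.ker σ.toRingHom ^ (n + 1)).comap
        ((Groth.Agent.H69.ppTheta σ).toRingHom.comp (PP16.tensorMap R SY R SX).toRingHom) := by
      rw [← KaehlerDifferential.span_range_eq_ideal, Ideal.span_le]
      rintro _ ⟨b, rfl⟩
      show Groth.Agent.H69.ppTheta σ (PP16.tensorMap R SY R SX (Groth.Agent.H69.ppD b)) ∈
        RingHom.ker σ.toRingHom ^ (n + 1)
      rw [htmD, Groth.Agent.H69.ppTheta_D]
      have e1 : algebraMap SY SX b - algebraMap R SX (σ (algebraMap SY SX b)) =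
          algebraMap SY SX (b - algebraMap R SY (σ (algebraMap SY SX b))) := by
        rw [map_sub, ← IsScalarTower.algebraMap_apply]
      rw [e1]
      apply h
      rw [← e1]
      exact Groth.Agent.H69.sub_sigma_mem_ker σ _
    intro x hx
    exact hle hx

end Groth.Agent.S13936
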