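import Groth.Statements.S1394
import Groth.Agent.H99.QFDimOne

set_option autoImplicit false
universe u
open FlatMor

namespace Groth.Agent.S1394

/-- Let A → B be a local homomorphism of local rings with A Noetherian, B essentially of finite type
over A, and the residue field of B finite over that of A. Let V ⊆ Spec B be an open subset
containing some prime that does not lie over the maximal ideal of A. Then V contains a prime q, not
lying over the maximal ideal of A, such that B/q is quasi-finite over A in the sense that every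
fibre ring of A → B/q is finite over the corresponding residue field of A. (The published statement
is stronger: there B/q is moreover a localization of a quasi-finite A-algebra of finite type, which
implies this.) -/
theorem result {A B : Type u} [CommRing A] [CommRing B] [IsLocalRing A] [IsLocalRing B] [IsNoetherianRing A]
    [Algebra A B] [IsLocalHom (algebraMap A B)] [Algebra.EssFiniteType A B]
    [Module.Finite (IsLocalRing.ResidueField A) (IsLocalRing.ResidueField B)]
    (V : Set (PrimeSpectrum B)) (hV : IsOpen V) (hne : ∃ q ∈ V, q.asIdeal.comap (algebraMap A B) ≠ IsLocalRing.maximalIdeal A) :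
    ∃ q ∈ V, q.asIdeal.comap (algebraMap A B) ≠ IsLocalRing.maximalIdeal A ∧ Algebra.QuasiFinite A (B ⧸ q.asIdeal) := by
  classical
  obtain ⟨q₀, hq₀V, hq₀⟩ := hne
  have hBnoeth : IsNoetherianRing B := Algebra.EssFiniteType.isNoetherianRing A B
  have hq₀prime : q₀.asIdeal.IsPrime := q₀.2
  -- nonunits of `A` map to nonunits of `B`
  have hmap_mem : ∀ x : A, x ∈ IsLocalRing.maximalIdeal A → algebraMap A B x ∈ IsLocalRing.maximalIdeal B := by
    intro x hx
    rw [IsLocalRing.mem_maximalIdeal, mem_nonunits_iff] at hx ⊢
    rwa [isUnit_map_iff]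
  have hle : ∀ P : Ideal B, P.IsPrime → P.comap (algebraMap A B) ≤ IsLocalRing.maximalIdeal A := by
    intro P hP x hx
    rw [IsLocalRing.mem_maximalIdeal, mem_nonunits_iff]
    intro hu
    have : IsUnit (algebraMap A B x) := hu.map _
    exact hP.ne_top (Ideal.eq_top_of_isUnit_mem _ hx this)
  -- an element of `m_A` outside `q₀`
  obtain ⟨a, ham, haq₀⟩ : ∃ a ∈ IsLocalRing.maximalIdeal A, algebraMap A B a ∉ q₀.asIdeal := by
    by_contra hcon
    push Not at hcon
    exact hq₀ (le_antisymm (hle _ hq₀prime) fun x hx => hcon x hx)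
  -- a basic open neighbourhood inside `V`
  obtain ⟨_, ⟨g, rfl⟩, hq₀g, hgV⟩ :=
    PrimeSpectrum.isTopologicalBasis_basic_opens.exists_subset_of_mem_open hq₀V hV
  have hgq₀ : g ∉ q₀.asIdeal := hq₀g
  have hhq₀ : g * algebraMap A B a ∉ q₀.asIdeal := fun h =>
    (hq₀prime.mem_or_mem h).elim hgq₀ haq₀
  obtain ⟨q, hqprime, -, hhq, H⟩ :=
    Groth.Agent.H99.GenSpec.exists_prime_dimOne q₀.asIdeal (g * algebraMap A B a) hhq₀
  have hgq : g ∉ q := fun h => hhq (q.mul_mem_right _ h)
  have haq : algebraMap A B a ∉ q := fun h => hhq (q.mul_mem_left _ h)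
  refine ⟨⟨q, hqprime⟩, hgV hgq, ?_, ?_⟩
  · intro heq
    have : a ∈ q.comap (algebraMap A B) := by
      rw [show q.comap (algebraMap A B) = IsLocalRing.maximalIdeal A from heq]
      exact ham
    exact haq this
  · change Algebra.QuasiFinite A (B ⧸ q)
    have hmk : Function.Surjective (Ideal.Quotient.mk q) := Ideal.Quotient.mk_surjective
    have hqm : q ≤ IsLocalRing.maximalIdeal B := IsLocalRing.le_maximalIdeal hqprime.ne_top
    have hDdom : IsDomain (B ⧸ q) := Ideal.Quotient.isDomain q
    have hDnt : Nontrivial (B ⧸ q) := hDdom.toNontrivial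
    have hDloc : IsLocalRing (B ⧸ q) := IsLocalRing.of_surjective' (Ideal.Quotient.mk q) hmk
    -- the maximal ideal of the quotient
    have hmaxD : (IsLocalRing.maximalIdeal B).map (Ideal.Quotient.mk q) =
        IsLocalRing.maximalIdeal (B ⧸ q) := by
      have : ((IsLocalRing.maximalIdeal B).map (Ideal.Quotient.mk q)).IsMaximal :=
        Ideal.IsMaximal.map_of_surjective_of_ker_le hmk (by rwa [Ideal.mk_ker])
      exact IsLocalRing.eq_maximalIdeal this
    have hmem_max : ∀ b : B, b ∈ IsLocalRing.maximalIdeal B →
        Ideal.Quotient.mk q b ∈ IsLocalRing.maximalIdeal (B ⧸ q) := by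
      intro b hb
      rw [← hmaxD]
      exact Ideal.mem_map_of_mem _ hb
    have halg : ∀ x : A, algebraMap A (B ⧸ q) x = Ideal.Quotient.mk q (algebraMap A B x) :=
      fun _ => rfl
    have hlochom : IsLocalHom (algebraMap A (B ⧸ q)) := by
      refine ⟨fun x hx => ?_⟩
      by_contra hnu
      have h1 : x ∈ IsLocalRing.maximalIdeal A := by
        rwa [IsLocalRing.mem_maximalIdeal, mem_nonunits_iff]
      have h2 := hmem_max _ (hmap_mem x h1)
      rw [← halg, IsLocalRing.mem_maximalIdeal, mem_nonunits_iff] at h2
      exact h2 hx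
    have hEss : Algebra.EssFiniteType A (B ⧸ q) := inferInstance
    have ha0 : algebraMap A (B ⧸ q) a ≠ 0 := by
      rw [halg]
      intro h0
      exact haq (Ideal.Quotient.eq_zero_iff_mem.mp h0)
    have HD : ∀ P : Ideal (B ⧸ q), P.IsPrime → P = ⊥ ∨ P = IsLocalRing.maximalIdeal (B ⧸ q) := by
      intro P hP
      have hP'prime : (P.comap (Ideal.Quotient.mk q)).IsPrime := Ideal.comap_isPrime _ _
      have hqP' : q ≤ P.comap (Ideal.Quotient.mk q) := by
        intro b hb
        rw [Ideal.mem_comap, Ideal.Quotient.eq_zero_iff_mem.mpr hb]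
        exact P.zero_mem
      rcases H _ hP'prime hqP' with h1 | h1
      · left
        rw [← Ideal.map_comap_of_surjective _ hmk P, h1, Ideal.map_quotient_self]
      · right
        rw [← Ideal.map_comap_of_surjective _ hmk P, h1, hmaxD]
    have hintA : Algebra.IsIntegral A (IsLocalRing.ResidueField A) :=
      Algebra.isIntegral_of_surjective IsLocalRing.residue_surjective
    have hintAB : Algebra.IsIntegral (IsLocalRing.ResidueField A) (IsLocalRing.ResidueField B) :=
      Algebra.IsIntegral.of_finite _ _
    have hintB : Algebra.IsIntegral A (IsLocalRing.ResidueField B) :=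
      Algebra.IsIntegral.trans (IsLocalRing.ResidueField A)
    have hres : ∀ x : B ⧸ q, ∃ p : Polynomial A, p.Monic ∧
        Polynomial.aeval x p ∈ IsLocalRing.maximalIdeal (B ⧸ q) := by
      intro x
      obtain ⟨b, rfl⟩ := hmk x
      obtain ⟨p, hp, hpe⟩ := hintB.isIntegral (IsLocalRing.residue B b)
      refine ⟨p, hp, ?_⟩
      rw [← Polynomial.aeval_def] at hpe
      have h1 : Polynomial.aeval (IsLocalRing.residue B b) p =
          IsLocalRing.residue B (Polynomial.aeval b p) :=
        Polynomial.aeval_algHom_apply (IsScalarTower.toAlgHom A B (IsLocalRing.ResidueField B)) b p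
      rw [h1, IsLocalRing.residue_eq_zero_iff] at hpe
      have h2 : Polynomial.aeval (Ideal.Quotient.mk q b) p =
          Ideal.Quotient.mk q (Polynomial.aeval b p) :=
        Polynomial.aeval_algHom_apply (Ideal.Quotient.mkₐ A q) b p
      rw [h2]
      exact hmem_max _ hpe
    exact Groth.Agent.H99.GenSpec.quasiFinite_of_dimOne a ham ha0 HD hres


end Groth.Agent.S1394
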