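import Groth.Statements.S13953

set_option autoImplicit false
universe u
open TateLoc

namespace Groth.Agent.S13953

/-- Let (R_i) be a family of local commutative rings and R = ∏ R_i. Any open cover of Spec R can be
refined by one coming from a finite partition of the index set: there is a map c from the index set
to a finite set such that, for each value m, the basic open subset of Spec R defined by the
idempotent which is 1 at the indices with c i = m and 0 elsewhere (this open is the spectrum of the
product of the R_i over that class) is contained in some member of the cover. -/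
theorem result {ι : Type u} (R : ι → Type u)
    [∀ i, CommRing (R i)] [∀ i, IsLocalRing (R i)] {J : Type u}
    (U : J → TopologicalSpace.Opens (PrimeSpectrum (∀ i, R i))) (hU : ⨆ j, U j = ⊤) :
    ∃ (n : ℕ) (c : ι → Fin n), ∀ m : Fin n, ∃ j : J,
      PrimeSpectrum.basicOpen (fun i => if c i = m then (1 : R i) else 0) ≤ U j := by
  classical
  -- the set of functions whose basic open lies in a member of the cover
  let 𝓕 : Set (∀ i, R i) := {f | ∃ j, PrimeSpectrum.basicOpen f ≤ U j}
  have hspan : Ideal.span 𝓕 = ⊤ := by
    by_contra hne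
    obtain ⟨M, hM, hle⟩ := Ideal.exists_le_maximal _ hne
    let x : PrimeSpectrum (∀ i, R i) := ⟨M, hM.isPrime⟩
    have hx : x ∈ (⨆ j, U j) := by rw [hU]; trivial
    rw [TopologicalSpace.Opens.mem_iSup] at hx
    obtain ⟨j, hj⟩ := hx
    obtain ⟨V, ⟨f, rfl⟩, hxV, hVU⟩ :=
      TopologicalSpace.Opens.isBasis_iff_nbhd.1 PrimeSpectrum.isBasis_basic_opens hj
    have hfM : f ∈ M := hle (Ideal.subset_span ⟨j, hVU⟩)
    exact hxV hfM
  have h1 : (1 : ∀ i, R i) ∈ Ideal.span 𝓕 := by rw [hspan]; trivial
  obtain ⟨n, a, f, hsum⟩ := Submodule.mem_span_set'.1 h1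
  -- at each index some `f l` is a unit
  have hunit : ∀ i : ι, ∃ l : Fin n, IsUnit ((f l : ∀ i, R i) i) := by
    intro i
    by_contra hcon
    push Not at hcon
    have h2 : (1 : R i) ∈ IsLocalRing.maximalIdeal (R i) := by
      have h3 := congrFun hsum i
      simp only [Finset.sum_apply, Pi.smul_apply, smul_eq_mul, Pi.mul_apply, Pi.one_apply] at h3
      rw [← h3]
      refine Submodule.sum_mem _ fun l _ => Ideal.mul_mem_left _ _ ?_
      exact (IsLocalRing.mem_maximalIdeal _).2 (hcon l)
    exact (IsLocalRing.maximalIdeal.isMaximal (R i)).ne_top ((Ideal.eq_top_iff_one _).2 h2)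
  choose c hc using hunit
  refine ⟨n, c, fun m => ?_⟩
  obtain ⟨j, hj⟩ := (f m).2
  refine ⟨j, le_trans ?_ hj⟩
  have hmul : (fun i => if c i = m then (1 : R i) else 0) =
      (f m : ∀ i, R i) * (fun i => if c i = m then Ring.inverse ((f m : ∀ i, R i) i) else 0) := by
    funext i
    by_cases h : c i = m
    · have hu : IsUnit ((f m : ∀ i, R i) i) := h ▸ hc i
      simp only [Pi.mul_apply, h, if_true]
      exact (Ring.mul_inverse_cancel _ hu).symm
    · simp [h]
  rw [hmul]
  exact PrimeSpectrum.basicOpen_mul_le_left _ _

end Groth.Agent.S13953
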