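import Groth.Statements.S13956
import Groth.Agent.H69.NormalRatCohMV

set_option autoImplicit false
universe u
open TateLoc

namespace Groth.Agent.S13956

open CategoryTheory AlgebraicGeometry in
/-- For a Noetherian normal scheme X (quasi-compact, locally Noetherian, all local rings integrally
closed domains), the cohomology of the constant sheaf ℚ on the small etale site of X vanishes in
every positive degree. -/
theorem result (X : Scheme.{u}) [IsLocallyNoetherian X] [CompactSpace X]
    (hN : ∀ x : X, IsDomain (X.presheaf.stalk x) ∧ IsIntegrallyClosed (X.presheaf.stalk x))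
    (i : ℕ) (hi : 0 < i) :
    Subsingleton (EtCoh.H X (EtCoh.const X ℚ) i) := by
  obtain ⟨q, rfl⟩ : ∃ q, i = q + 1 := ⟨i - 1, by omega⟩
  have hdiv : ∀ n : ℕ, 0 < n → IsIso (n • 𝟙 (AddCommGrpCat.of (ULift.{u + 1} ℚ))) := by
    intro n hn
    have hn' : (n : ℚ) ≠ 0 := Nat.cast_ne_zero.2 hn.ne'
    rw [ConcreteCategory.isIso_iff_bijective]
    have key : ∀ a : ULift.{u + 1} ℚ,
        (n • 𝟙 (AddCommGrpCat.of (ULift.{u + 1} ℚ)) : _ ⟶ _).hom a = n • a := by
      intro a
      simp
    have hdown : ∀ a : ULift.{u + 1} ℚ, (n • a).down = (n : ℚ) * a.down := by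
      intro a
      rw [ULift.smul_down, nsmul_eq_mul]
    constructor
    · intro a b hab
      have h1 : n • a = n • b := by rw [← key a, ← key b]; exact hab
      apply ULift.ext
      have h2 : (n • a).down = (n • b).down := congrArg ULift.down h1
      rw [hdown, hdown] at h2
      exact mul_left_cancel₀ hn' h2
    · intro b
      refine ⟨ULift.up ((n : ℚ)⁻¹ * b.down), ?_⟩
      refine (key _).trans ?_
      apply ULift.ext
      rw [hdown]
      change (n : ℚ) * ((n : ℚ)⁻¹ * b.down) = b.down
      rw [← mul_assoc, mul_inv_cancel₀ hn', one_mul]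
  exact Groth.Agent.H69.NormalRatCoh.subsingleton_H_cst_of_normal
    (AddCommGrpCat.of (ULift.{u + 1} ℚ)) hdiv X hN q

end Groth.Agent.S13956
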