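import Groth.Statements.S13958
import Mathlib.GroupTheory.FiniteAbelian.Basic

set_option autoImplicit false
universe u
open TateLoc

namespace Groth.Agent.S13958

open CategoryTheory in
/-- Let A' be a finitely generated abelian group (written multiplicatively, discrete) and A a subgroup.
If the image of x ∈ A' in the profinite completion of A' lies in the image of the profinite
completion of A under the map induced by the inclusion, then x ∈ A. (The published statement says
that the square formed by the two completion maps and the two inclusions is Cartesian; given the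
injectivity of the induced map on completions, which holds here, that amounts to this membership
criterion.) -/
theorem result (A' : Type u) [CommGroup A'] [Group.FG A']
    (A : Subgroup A') (x : A')
    (hx : ProfiniteGrp.ProfiniteCompletion.etaFn (GrpCat.of A') x ∈
      Set.range ⇑(ProfiniteGrp.profiniteCompletion.map (GrpCat.ofHom A.subtype)).hom) :
    x ∈ A := by
  classical
  by_contra hxA
  -- Step 1: a finite-index subgroup of the quotient avoiding the class of `x`
  have hres : ∀ (Q : Type u) [CommGroup Q] [Group.FG Q] (q : Q), q ≠ 1 →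
      ∃ M : Subgroup Q, M.FiniteIndex ∧ q ∉ M := by
    intro Q _ _ q hq
    obtain ⟨ι, j, _, _, p, hp, e, ⟨E⟩⟩ := CommGroup.equiv_free_prod_prod_multiplicative_zmod Q
    haveI : ∀ i, NeZero (p i ^ e i) := fun i => ⟨pow_ne_zero _ (hp i).ne_zero⟩
    by_cases ht : (E q).2 = 1
    · have ha : (E q).1 ≠ 1 := by
        intro ha
        apply hq
        apply E.injective
        rw [map_one]
        exact Prod.ext ha ht
      obtain ⟨i0, hi0⟩ : ∃ i0, (E q).1 i0 ≠ 1 := by
        by_contra hcon
        push Not at hcon
        exact ha (funext hcon)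
      set m : ℤ := Multiplicative.toAdd ((E q).1 i0) with hm
      have hm0 : m ≠ 0 := by
        intro h0
        apply hi0
        have : (E q).1 i0 = Multiplicative.ofAdd m := rfl
        rw [this, h0]; rfl
      let N : ℕ := m.natAbs + 1
      haveI : NeZero N := ⟨Nat.succ_ne_zero _⟩
      let f : Q →* Multiplicative (ZMod N) :=
        (AddMonoidHom.toMultiplicative (Int.castAddHom (ZMod N))).comp
          ((Pi.evalMonoidHom (fun _ : j => Multiplicative ℤ) i0).comp
            ((MonoidHom.fst _ _).comp E.toMonoidHom))
      refine ⟨f.ker, Subgroup.finiteIndex_ker f, ?_⟩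
      rw [MonoidHom.mem_ker]
      intro hf
      have h1 : ((m : ℤ) : ZMod N) = 0 := by
        have : f q = Multiplicative.ofAdd ((m : ℤ) : ZMod N) := rfl
        rw [this] at hf
        exact hf
      rw [ZMod.intCast_zmod_eq_zero_iff_dvd] at h1
      have h2 : (N : ℤ).natAbs ∣ m.natAbs := Int.natAbs_dvd_natAbs.2 h1
      have h3 : N ≤ m.natAbs := by
        have := Nat.le_of_dvd (Int.natAbs_pos.2 hm0) h2
        simpa using this
      omega
    · let f : Q →* ((i : ι) → Multiplicative (ZMod (p i ^ e i))) :=
        (MonoidHom.snd _ _).comp E.toMonoidHom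
      refine ⟨f.ker, Subgroup.finiteIndex_ker f, ?_⟩
      rw [MonoidHom.mem_ker]
      exact ht
  have hq : (QuotientGroup.mk x : A' ⧸ A) ≠ 1 := by
    rw [Ne, QuotientGroup.eq_one_iff]; exact hxA
  obtain ⟨M, hMfin, hxM⟩ := hres (A' ⧸ A) _ hq
  let N : Subgroup A' := M.comap (QuotientGroup.mk' A)
  have hNfin : N.FiniteIndex := by
    constructor
    rw [Subgroup.index_comap_of_surjective M (QuotientGroup.mk'_surjective A)]
    exact hMfin.index_ne_zero
  have hAN : A ≤ N := by
    intro a ha
    show (QuotientGroup.mk' A a) ∈ M
    have : QuotientGroup.mk' A a = 1 := (QuotientGroup.eq_one_iff a).2 ha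
    rw [this]; exact M.one_mem
  have hxN : x ∉ N := hxM
  -- Step 2: the projection to the finite quotient
  let Nn : FiniteIndexNormalSubgroup (GrpCat.of A') :=
    { toSubgroup := N, isNormal' := inferInstance, isFiniteIndex' := hNfin }
  obtain ⟨z, hz⟩ := hx
  let F := (ProfiniteGrp.profiniteCompletion.map (GrpCat.ofHom A.subtype)).hom
  have hFcont : Continuous F := F.continuous_toFun
  have hclosed : IsClosed {w : ProfiniteGrp.ProfiniteCompletion.completion (GrpCat.of A) |
      (F w).1 Nn = 1} := by
    apply isClosed_eq
    · exact (continuous_apply Nn).comp (continuous_subtype_val.comp hFcont)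
    · exact continuous_const
  have hdense := ProfiniteGrp.ProfiniteCompletion.denseRange (GrpCat.of A)
  have hsub : Set.range (ProfiniteGrp.ProfiniteCompletion.etaFn (GrpCat.of A)) ⊆
      {w : ProfiniteGrp.ProfiniteCompletion.completion (GrpCat.of A) | (F w).1 Nn = 1} := by
    rintro _ ⟨a, rfl⟩
    have h1 : F (ProfiniteGrp.ProfiniteCompletion.etaFn (GrpCat.of A) a) =
        ProfiniteGrp.ProfiniteCompletion.etaFn (GrpCat.of A') (a : A') := by
      have := ProfiniteGrp.ProfiniteCompletion.lift_eta
        (GrpCat.ofHom A.subtype ≫ ProfiniteGrp.ProfiniteCompletion.eta (GrpCat.of A'))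
      exact ConcreteCategory.congr_hom this a
    show (F _).1 Nn = 1
    rw [h1]
    show (QuotientGroup.mk (a : A') : A' ⧸ N) = 1
    rw [QuotientGroup.eq_one_iff]
    exact hAN a.2
  have hall := hdense.closure_eq ▸ (hclosed.closure_subset_iff.2 hsub)
  have hzN : (F z).1 Nn = 1 := hall (Set.mem_univ z)
  rw [show F z = ProfiniteGrp.ProfiniteCompletion.etaFn (GrpCat.of A') x from hz] at hzN
  have : (QuotientGroup.mk x : A' ⧸ N) = 1 := hzN
  rw [QuotientGroup.eq_one_iff] at this
  exact hxN this

end Groth.Agent.S13958
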