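import Groth.Statements.S1396
import Groth.Agent.H7.IndQuasiAffine

set_option autoImplicit false
universe u
open FlatMor

namespace Groth.Agent.S1396

open AlgebraicGeometry CategoryTheory Limits in
/-- (1) ⇔ (4): a morphism f : X → Y is ind-quasi-affine (the preimage of every affine open is a scheme
all of whose quasi-compact opens are quasi-affine) if and only if for every quasi-compact
quasi-separated open V of Y and every quasi-compact open U of the preimage of V, the induced
morphism U → V is quasi-affine (quasi-compact with quasi-affine preimages of affine opens). -/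
theorem result {X Y : Scheme.{u}} (f : X ⟶ Y) :
    MoreMor.IsIndQuasiAffineHom f ↔ ∀ (V : Y.Opens), IsCompact (V : Set ↑Y) → IsQuasiSeparated (V : Set ↑Y) →
      ∀ (U : X.Opens) (hUV : U ≤ f ⁻¹ᵁ V), IsCompact (U : Set ↑X) → MoreMor.IsQuasiAffineHom (f.resLE V U hUV) := by
  constructor
  · intro hf V hVc hVqs U hUV hUc
    rw [Groth.Agent.H7.isIndQuasiAffineHom_iff] at hf
    have hcU : CompactSpace U.toScheme := isCompact_iff_compactSpace.mp hUc
    have hqV : QuasiSeparatedSpace V.toScheme :=
      (isQuasiSeparated_iff_quasiSeparatedSpace _ V.2).mp hVqs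
    have hqc : QuasiCompact (f.resLE V U hUV) := quasiCompact_of_compactSpace _
    have key : ∀ y : U, f (U.ι y) = V.ι (f.resLE V U hUV y) := fun y ↦ by
      rw [← Scheme.Hom.comp_apply, ← Scheme.Hom.comp_apply, Scheme.Hom.resLE_comp_ι]
    refine ⟨hqc, fun V' hV' ↦ ?_⟩
    have hc : IsCompact ((f.resLE V U hUV ⁻¹ᵁ V' : U.toScheme.Opens) : Set U) :=
      hqc.isCompact_preimage _ V'.2 hV'.isCompact
    have : CompactSpace (f.resLE V U hUV ⁻¹ᵁ V' : U.toScheme.Opens) :=
      isCompact_iff_compactSpace.mp hc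
    refine hf ((f.resLE V U hUV ⁻¹ᵁ V').ι ≫ U.ι) (V.ι ''ᵁ V') (hV'.image_of_isOpenImmersion V.ι)
      fun x ↦ ?_
    have h1 : f.resLE V U hUV ((f.resLE V U hUV ⁻¹ᵁ V').ι x) ∈ V' := x.2
    rw [Scheme.Hom.comp_apply, key]
    exact ⟨_, h1, rfl⟩
  · intro H
    rw [Groth.Agent.H7.isIndQuasiAffineHom_iff]
    intro T j _ _ V hV hj
    have hUc : IsCompact (j.opensRange : Set X) := by
      simpa using isCompact_range j.continuous
    have hUV : j.opensRange ≤ f ⁻¹ᵁ V := by
      rintro _ ⟨x, rfl⟩
      exact hj x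
    have hq := (H V hV.isCompact hV.isQuasiSeparated j.opensRange hUV hUc).2
    have : IsAffine V.toScheme := hV
    have h1 := hq ⊤ (isAffineOpen_top _)
    have h2 : (f.resLE V j.opensRange hUV ⁻¹ᵁ ⊤ : j.opensRange.toScheme.Opens) = ⊤ := rfl
    rw [h2] at h1
    have h3 : j.opensRange.toScheme.IsQuasiAffine :=
      Groth.Agent.H7.isQuasiAffine_of_iso (Scheme.topIso _).symm
    exact Groth.Agent.H7.isQuasiAffine_of_iso j.isoOpensRange

end Groth.Agent.S1396
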