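import Groth.Statements.S13963
import Mathlib.Topology.Algebra.Group.OpenMapping
import Mathlib.Topology.Baire.LocallyCompactRegular

set_option autoImplicit false
universe u
open TateLoc

namespace Groth.Agent.S13963

/-- Let A' → A → A'' be continuous homomorphisms of locally compact, second-countable, Hausdorff abelian
topological groups which form a short exact sequence of abstract groups (the first injective, the
second surjective, image equal to kernel). If A' and A'' are compact, then A is compact. -/
theorem result (A' A A'' : Type u)
    [AddCommGroup A'] [TopologicalSpace A'] [IsTopologicalAddGroup A'] [SecondCountableTopology A'] [T2Space A']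
    [CompactSpace A']
    [AddCommGroup A] [TopologicalSpace A] [IsTopologicalAddGroup A] [LocallyCompactSpace A]
    [SecondCountableTopology A] [T2Space A]
    [AddCommGroup A''] [TopologicalSpace A''] [IsTopologicalAddGroup A''] [SecondCountableTopology A''] [T2Space A'']
    [CompactSpace A'']
    (f : A' →+ A) (g : A →+ A'') (hf : Continuous f) (hg : Continuous g)
    (hinj : Function.Injective f) (hsurj : Function.Surjective g) (hex : g.ker = f.range) :
    CompactSpace A := by
  classical
  have hopen : IsOpenMap g := AddMonoidHom.isOpenMap_of_sigmaCompact g hsurj hg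
  -- compact neighbourhoods
  choose K hKc hKn using fun a : A => exists_compact_mem_nhds a
  have hcov : (Set.univ : Set A'') ⊆ ⋃ a : A, g '' interior (K a) := by
    intro y _
    obtain ⟨a, rfl⟩ := hsurj y
    exact Set.mem_iUnion.2 ⟨a, a, mem_interior_iff_mem_nhds.2 (hKn a), rfl⟩
  obtain ⟨t, ht⟩ := isCompact_univ.elim_finite_subcover (fun a : A => g '' interior (K a))
    (fun a => hopen _ isOpen_interior) hcov
  let L : Set A := ⋃ a ∈ t, K a
  have hL : IsCompact L := t.isCompact_biUnion fun a _ => hKc a
  have hprod : IsCompact (L ×ˢ (Set.univ : Set A')) := hL.prod isCompact_univ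
  have hcont : Continuous fun z : A × A' => z.1 + f z.2 :=
    continuous_fst.add (hf.comp continuous_snd)
  have himg : (fun z : A × A' => z.1 + f z.2) '' (L ×ˢ (Set.univ : Set A')) = Set.univ := by
    rw [Set.eq_univ_iff_forall]
    intro a
    have h1 := ht (Set.mem_univ (g a))
    simp only [Set.mem_iUnion] at h1
    obtain ⟨b, hb, k, hk, hgk⟩ := h1
    have hker : a - k ∈ g.ker := by
      rw [AddMonoidHom.mem_ker, map_sub, hgk, sub_self]
    rw [hex] at hker
    obtain ⟨y, hy⟩ := hker
    refine ⟨(k, y), ⟨?_, Set.mem_univ _⟩, ?_⟩
    · exact Set.mem_biUnion hb (interior_subset hk)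
    · show k + f y = a
      rw [hy]; abel
  rw [← isCompact_univ_iff, ← himg]
  exact hprod.image hcont

end Groth.Agent.S13963
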