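import Groth.Statements.S1397
import Groth.Agent.H7.IndQuasiAffine

set_option autoImplicit false
universe u
open FlatMor

namespace Groth.Agent.S1397

open AlgebraicGeometry CategoryTheory Limits in
/-- Ind-quasi-affine morphisms are stable under composition. -/
theorem result {X Y Z : Scheme.{u}} (f : X ⟶ Y) (g : Y ⟶ Z) (hf : MoreMor.IsIndQuasiAffineHom f) (hg : MoreMor.IsIndQuasiAffineHom g) :
    MoreMor.IsIndQuasiAffineHom (f ≫ g) := by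
  rw [Groth.Agent.H7.isIndQuasiAffineHom_iff] at hf hg ⊢
  intro T j _ _ W hW hj
  have hK : IsCompact (Set.range (j ≫ f)) := isCompact_range (j ≫ f).continuous
  have hKU : Set.range (j ≫ f) ⊆ (g ⁻¹ᵁ W : Set Y) := by
    rintro _ ⟨x, rfl⟩
    simpa using hj x
  obtain ⟨V', hV'c, hV'o, hKV', hV'U⟩ :=
    PrespectralSpace.exists_isCompact_and_isOpen_between hK (g ⁻¹ᵁ W).2 hKU
  obtain ⟨V, rfl⟩ : ∃ V : Y.Opens, (V : Set Y) = V' := ⟨⟨V', hV'o⟩, rfl⟩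
  have : CompactSpace V := isCompact_iff_compactSpace.mp hV'c
  have hVq : V.toScheme.IsQuasiAffine := hg V.ι W hW (fun x ↦ hV'U x.2)
  have hjV : ∀ x : T, (j ≫ f) x ∈ V := fun x ↦ hKV' ⟨x, rfl⟩
  refine Groth.Agent.H7.isQuasiAffine_of_forall_exists_preimage_basicOpen (j ≫ f) V hjV fun x ↦ ?_
  obtain ⟨_, ⟨_, ⟨t, ht, rfl⟩, rfl⟩, hxt, -⟩ :=
    (Scheme.IsQuasiAffine.isBasis_basicOpen V.toScheme).exists_subset_of_mem_open
      (Set.mem_univ (⟨(j ≫ f) x, hjV x⟩ : V)) isOpen_univ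
  have himg := Groth.Agent.H7.ι_image_basicOpen_eq V t
  refine ⟨V.topIso.hom t, ?_, ?_⟩
  · rw [← himg]
    exact ⟨⟨_, hjV x⟩, hxt, rfl⟩
  · have : CompactSpace ((j ≫ f) ⁻¹ᵁ Y.basicOpen (V.topIso.hom t) : Scheme.{u}) :=
      Groth.Agent.H7.compactSpace_preimage_basicOpen (j ≫ f) V hjV _
    refine hf (((j ≫ f) ⁻¹ᵁ Y.basicOpen (V.topIso.hom t)).ι ≫ j) (Y.basicOpen (V.topIso.hom t))
      (by rw [← himg]; exact ht.image_of_isOpenImmersion _) fun x' ↦ ?_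
    have h1 : (j ≫ f) (((j ≫ f) ⁻¹ᵁ Y.basicOpen (V.topIso.hom t)).ι x') ∈
      Y.basicOpen (V.topIso.hom t) := x'.2
    rw [Scheme.Hom.comp_apply] at h1 ⊢
    exact h1

end Groth.Agent.S1397
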