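import Groth.Statements.S13972
import Groth.Agent.H79.KoszulFlatLift
import Groth.Agent.H79.FlatIdealLift
import Groth.Agent.H79.KoszulRel

set_option autoImplicit false
universe u
open LCI

namespace Groth.Agent.S13972

/-- Let A' be an Artinian local ring, I a proper ideal of A', A = A'/I, R' a Noetherian A'-algebra flat
over A' and R = R'/IR'. Let f₁, …, f_r ∈ R be a Koszul-regular sequence (its Koszul complex is
acyclic in nonzero degrees) such that R/(f₁, …, f_r) is flat over A. Then: (1) for every choice of
lifts f'₁, …, f'_r ∈ R' of the f_i, the quotient R'/(f'₁, …, f'_r) is flat over A' and f'₁, …, f'_r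
is a Koszul-regular sequence in R'; (2) if J' ⊆ R' is an ideal with R'/J' flat over A' whose image
in R is the ideal (f₁, …, f_r), then J' is generated by any lifts f'₁, …, f'_r ∈ J' of the f_i. (The
published statement takes R' = R₀ ⊗_Λ A' for a flat Λ-algebra R₀ and a surjection A' → A of Artinian
local Λ-algebras; this row assumes only that R' is Noetherian and flat over A' and that I is a
proper ideal, which is what its proof uses. Regularity of a sequence is taken there in every
localization at a prime containing the ideal it generates, which over a Noetherian ring is the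
Koszul-acyclicity used in the proof and stated here.) -/
theorem result
    {A' : Type u} [CommRing A'] [IsLocalRing A'] [IsArtinianRing A'] (I : Ideal A') (hI : I ≠ ⊤)
    {R' : Type u} [CommRing R'] [Algebra A' R'] [IsNoetherianRing R'] [Module.Flat A' R']
    (r : ℕ) (f : Fin r → R' ⧸ I.map (algebraMap A' R'))
    (hf : LCI.IsKoszulRegularSeq (R' ⧸ I.map (algebraMap A' R')) (List.ofFn f))
    [Module.Flat (A' ⧸ I) ((R' ⧸ I.map (algebraMap A' R')) ⧸ Ideal.span (Set.range f))] :
    (∀ f' : Fin r → R', (∀ i, Ideal.Quotient.mk (I.map (algebraMap A' R')) (f' i) = f i) →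
        Module.Flat A' (R' ⧸ Ideal.span (Set.range f')) ∧ LCI.IsKoszulRegularSeq R' (List.ofFn f')) ∧
    (∀ (J' : Ideal R'), Module.Flat A' (R' ⧸ J') →
        J'.map (Ideal.Quotient.mk (I.map (algebraMap A' R'))) = Ideal.span (Set.range f) →
        ∀ f' : Fin r → R', (∀ i, f' i ∈ J') →
          (∀ i, Ideal.Quotient.mk (I.map (algebraMap A' R')) (f' i) = f i) →
          J' = Ideal.span (Set.range f')) := by
  have hnil : IsNilpotent I := by
    obtain ⟨n, hn⟩ := IsArtinianRing.isNilpotent_jacobson_bot (R := A')
    refine ⟨n, ?_⟩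
    have hle : I ≤ Ideal.jacobson (⊥ : Ideal A') := by
      rw [IsLocalRing.jacobson_eq_maximalIdeal ⊥ bot_ne_top]
      exact IsLocalRing.le_maximalIdeal hI
    have h2 : I ^ n ≤ (Ideal.jacobson (⊥ : Ideal A')) ^ n := Ideal.pow_right_mono hle n
    rw [hn] at h2
    exact le_bot_iff.1 h2
  have hmain : ∀ f' : Fin r → R',
      (∀ i, Ideal.Quotient.mk (I.map (algebraMap A' R')) (f' i) = f i) →
      Module.Flat A' (R' ⧸ Ideal.span (Set.range f')) ∧
        LCI.IsKoszulRegularSeq R' (List.ofFn f') := by
    intro f' hf'
    have hlist : (List.ofFn f').map (Ideal.Quotient.mk (I.map (algebraMap A' R'))) =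
        List.ofFn f := by
      rw [List.map_ofFn]
      congr 1
      funext i
      exact hf' i
    have hflat : Module.Flat (A' ⧸ I) ((R' ⧸ I.map (algebraMap A' R')) ⧸
        Ideal.ofList ((List.ofFn f').map (Ideal.Quotient.mk (I.map (algebraMap A' R'))))) := by
      rw [hlist, Groth.Agent.H79.KoszulRel.ofList_ofFn]
      infer_instance
    have hreg : ∀ i : ℤ, i ≠ 0 → CategoryTheory.Limits.IsZero
        ((Koszul.koszul (R' ⧸ I.map (algebraMap A' R'))
          ((List.ofFn f').map (Ideal.Quotient.mk (I.map (algebraMap A' R'))))).homology i) := by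
      rw [hlist]
      exact hf
    have h := Groth.Agent.H79.KoszulFlatLift.lift_main I (List.ofFn f') hnil hreg hflat
    rw [Groth.Agent.H79.KoszulRel.ofList_ofFn] at h
    exact ⟨h.2, h.1⟩
  refine ⟨hmain, ?_⟩
  intro J' hJ'flat hJ'map f' hf'mem hf'
  apply Groth.Agent.H79.FlatIdealLift.eq_of_flat_of_nilpotent I hnil J' (Ideal.span (Set.range f'))
  · rw [Ideal.span_le]
    rintro _ ⟨i, rfl⟩
    exact hf'mem i
  · intro x hx
    have h1 : Ideal.Quotient.mk (I.map (algebraMap A' R')) x ∈
        (Ideal.span (Set.range f')).map (Ideal.Quotient.mk (I.map (algebraMap A' R'))) := by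
      rw [Ideal.map_span, ← Set.range_comp]
      have hcomp : (Ideal.Quotient.mk (I.map (algebraMap A' R'))) ∘ f' = f := funext hf'
      rw [hcomp, ← hJ'map]
      exact Ideal.mem_map_of_mem _ hx
    obtain ⟨k, hk, hkx⟩ := (Ideal.mem_map_iff_of_surjective _ Ideal.Quotient.mk_surjective).1 h1
    have h2 : x - k ∈ I.map (algebraMap A' R') := by
      rw [← Ideal.Quotient.eq_zero_iff_mem, map_sub, hkx, sub_self]
    have h3 : x = k + (x - k) := by ring
    rw [h3]
    exact Submodule.add_mem_sup hk h2

end Groth.Agent.S13972
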