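import Groth.Statements.S13978
import Mathlib

set_option autoImplicit false
set_option linter.style.haveILetI false
universe u v
open CategoryTheory
open scoped TensorProduct
open ArtFun ArtFun.ObsTheory

namespace Groth.Agent.S13978

open ArtFun.Art

section

variable {k : Type u} [Field k] {C' C : Art k k} (p : C' ⟶ C) (hp : IsSemismallExt p)

theorem ker_le_max : RingHom.ker p.toAlgHom ≤ IsLocalRing.maximalIdeal C' := by
  intro x hx
  rw [mem_maximalIdeal_iff, ← res_app p]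
  rw [RingHom.mem_ker] at hx
  rw [hx, map_zero]

include hp in
/-- on the kernel of a semismall extension, multiplication by `a` is scalar multiplication by the
residue of `a` -/
theorem mul_eq_res_smul (a : C') {x : C'} (hx : x ∈ RingHom.ker p.toAlgHom) :
    a * x = (C'.res a) • x := by
  have h1 : a - algebraMap k C' (C'.res a) ∈ IsLocalRing.maximalIdeal C' := by
    rw [mem_maximalIdeal_iff, map_sub, AlgHom.commutes, Algebra.algebraMap_self, RingHom.id_apply,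
      sub_self]
  have h2 : (a - algebraMap k C' (C'.res a)) * x ∈
      IsLocalRing.maximalIdeal C' * RingHom.ker p.toAlgHom := Ideal.mul_mem_mul h1 hx
  rw [hp.2, Ideal.mem_bot, sub_mul, sub_eq_zero] at h2
  rw [h2, Algebra.smul_def]

variable {ι : Type u} (𝔟 : Module.Basis ι k ↥(RingHom.ker p.toAlgHom)) (i : ι)

/-- the hyperplane ideal `K_i` -/
def K (hp : IsSemismallExt p) : Ideal C' where
  carrier := {x | ∃ hx : x ∈ RingHom.ker p.toAlgHom, 𝔟.coord i ⟨x, hx⟩ = 0}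
  add_mem' := by
    rintro x y ⟨hx, hx0⟩ ⟨hy, hy0⟩
    refine ⟨add_mem hx hy, ?_⟩
    have : (⟨x + y, add_mem hx hy⟩ : ↥(RingHom.ker p.toAlgHom)) = ⟨x, hx⟩ + ⟨y, hy⟩ := rfl
    rw [this, map_add, hx0, hy0, add_zero]
  zero_mem' := ⟨zero_mem _, by
    have : (⟨0, zero_mem _⟩ : ↥(RingHom.ker p.toAlgHom)) = 0 := rfl
    rw [this, map_zero]⟩
  smul_mem' := by
    rintro a x ⟨hx, hx0⟩
    have hax : a • x ∈ RingHom.ker p.toAlgHom := Ideal.mul_mem_left _ a hx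
    refine ⟨hax, ?_⟩
    have : (⟨a • x, hax⟩ : ↥(RingHom.ker p.toAlgHom)) = (C'.res a) • ⟨x, hx⟩ := by
      apply Subtype.ext
      change a * x = (C'.res a) • x
      exact mul_eq_res_smul p hp a hx
    rw [this, map_smul, hx0, smul_zero]

theorem K_le_ker : K p 𝔟 i hp ≤ RingHom.ker p.toAlgHom := fun _ hx => hx.1

theorem K_le_max : K p 𝔟 i hp ≤ IsLocalRing.maximalIdeal C' :=
  (K_le_ker p hp 𝔟 i).trans (ker_le_max p)

theorem sub_mem_K (x : ↥(RingHom.ker p.toAlgHom)) :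
    (x : C') - (𝔟.coord i x) • ((𝔟 i : ↥(RingHom.ker p.toAlgHom)) : C') ∈ K p 𝔟 i hp := by
  have hmem : (x : C') - (𝔟.coord i x) • ((𝔟 i : ↥(RingHom.ker p.toAlgHom)) : C') ∈
      RingHom.ker p.toAlgHom := (x - (𝔟.coord i x) • 𝔟 i).2
  refine ⟨hmem, ?_⟩
  have : (⟨_, hmem⟩ : ↥(RingHom.ker p.toAlgHom)) = x - (𝔟.coord i x) • 𝔟 i := rfl
  rw [this, map_sub, map_smul]
  simp [Module.Basis.coord_apply]

theorem basis_not_mem_K : ((𝔟 i : ↥(RingHom.ker p.toAlgHom)) : C') ∉ K p 𝔟 i hp := by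
  rintro ⟨hx, h0⟩
  have : (⟨_, hx⟩ : ↥(RingHom.ker p.toAlgHom)) = 𝔟 i := rfl
  rw [this] at h0
  simp [Module.Basis.coord_apply] at h0

/-- the quotient object `C'/K_i` -/
noncomputable abbrev Q : Art k k := quot C' (K p 𝔟 i hp) (K_le_max p hp 𝔟 i)

/-- the tiny extension `C'/K_i → C` -/
noncomputable abbrev t : Q p hp 𝔟 i ⟶ C :=
  quotFactor (K_le_max p hp 𝔟 i) p (K_le_ker p hp 𝔟 i)

/-- the projection as an algebra map into the carrier of `Q` -/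
noncomputable def mkQ : C' →ₐ[k] (Q p hp 𝔟 i) :=
  (quotMk C' (K p 𝔟 i hp) (K_le_max p hp 𝔟 i)).toAlgHom

theorem mkQ_eq_zero_iff (a : C') : mkQ p hp 𝔟 i a = 0 ↔ a ∈ K p 𝔟 i hp :=
  Ideal.Quotient.eq_zero_iff_mem

theorem mkQ_surjective : Function.Surjective (mkQ p hp 𝔟 i) :=
  quotMk_surjective C' (K p 𝔟 i hp) (K_le_max p hp 𝔟 i)

theorem t_mkQ (a : C') : (t p hp 𝔟 i).toAlgHom (mkQ p hp 𝔟 i a) = p.toAlgHom a := rfl

theorem mkQ_eq_smul (x : ↥(RingHom.ker p.toAlgHom)) :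
    mkQ p hp 𝔟 i (x : C') =
      (𝔟.coord i x) • mkQ p hp 𝔟 i ((𝔟 i : ↥(RingHom.ker p.toAlgHom)) : C') := by
  have h := sub_mem_K p hp 𝔟 i x
  rw [← mkQ_eq_zero_iff, map_sub, sub_eq_zero, map_smul] at h
  exact h

theorem mem_ker_t_iff (y : Q p hp 𝔟 i) :
    y ∈ RingHom.ker (t p hp 𝔟 i).toAlgHom ↔
      ∃ x : ↥(RingHom.ker p.toAlgHom), mkQ p hp 𝔟 i (x : C') = y := by
  constructor
  · intro hy
    obtain ⟨x, rfl⟩ := mkQ_surjective p hp 𝔟 i y
    exact ⟨⟨x, hy⟩, rfl⟩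
  · rintro ⟨x, rfl⟩
    exact x.2

theorem t_isSmallExt : IsSmallExt (t p hp 𝔟 i) := by
  have hgen : mkQ p hp 𝔟 i ((𝔟 i : ↥(RingHom.ker p.toAlgHom)) : C') ∈
      RingHom.ker (t p hp 𝔟 i).toAlgHom := (mem_ker_t_iff p hp 𝔟 i _).2 ⟨𝔟 i, rfl⟩
  refine ⟨?_, ?_, ?_, ?_⟩
  · intro c
    obtain ⟨x, rfl⟩ := hp.1 c
    exact ⟨mkQ p hp 𝔟 i x, rfl⟩
  · intro hbot
    rw [hbot, Ideal.mem_bot, mkQ_eq_zero_iff] at hgen
    exact basis_not_mem_K p hp 𝔟 i hgen
  · refine ⟨⟨mkQ p hp 𝔟 i ((𝔟 i : ↥(RingHom.ker p.toAlgHom)) : C'), ?_⟩⟩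
    apply le_antisymm
    · intro y hy
      obtain ⟨x, rfl⟩ := (mem_ker_t_iff p hp 𝔟 i y).1 hy
      rw [mkQ_eq_smul p hp 𝔟 i x, Algebra.smul_def]
      exact Ideal.mul_mem_left _ _ (Ideal.subset_span rfl)
    · rw [Ideal.submodule_span_eq, Ideal.span_le, Set.singleton_subset_iff]
      exact hgen
  · rw [eq_bot_iff]
    intro z hz
    refine Submodule.mul_induction_on hz ?_ ?_
    · intro a ha y hy
      obtain ⟨x, rfl⟩ := (mem_ker_t_iff p hp 𝔟 i y).1 hy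
      obtain ⟨a', rfl⟩ := mkQ_surjective p hp 𝔟 i a
      have ha' : a' ∈ IsLocalRing.maximalIdeal C' := by
        rw [mem_maximalIdeal_iff] at ha ⊢
        exact ha
      have h2 : a' * (x : C') ∈ IsLocalRing.maximalIdeal C' * RingHom.ker p.toAlgHom :=
        Ideal.mul_mem_mul ha' x.2
      rw [hp.2, Ideal.mem_bot] at h2
      rw [Ideal.mem_bot, ← map_mul, h2, map_zero]
    · intro x y hx hy
      exact add_mem hx hy

/-- the identification of the kernel of the tiny extension with `k` -/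
noncomputable def ψ : k →ₗ[k] ↥(RingHom.ker (t p hp 𝔟 i).toAlgHom) where
  toFun a := a • ⟨mkQ p hp 𝔟 i ((𝔟 i : ↥(RingHom.ker p.toAlgHom)) : C'),
    (mem_ker_t_iff p hp 𝔟 i _).2 ⟨𝔟 i, rfl⟩⟩
  map_add' a b := add_smul a b _
  map_smul' a b := by simp [mul_smul]

theorem ψ_bijective : Function.Bijective (ψ p hp 𝔟 i) := by
  constructor
  · rw [← LinearMap.ker_eq_bot, LinearMap.ker_eq_bot']
    intro a ha
    by_contra hne
    have h1 : ((ψ p hp 𝔟 i a : ↥(RingHom.ker (t p hp 𝔟 i).toAlgHom)) : Q p hp 𝔟 i) = 0 := by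
      rw [ha]; rfl
    have h2 : a • mkQ p hp 𝔟 i ((𝔟 i : ↥(RingHom.ker p.toAlgHom)) : C') = 0 := h1
    have h3 := congrArg (fun z => a⁻¹ • z) h2
    simp only [smul_smul, inv_mul_cancel₀ hne, one_smul, smul_zero] at h3
    rw [mkQ_eq_zero_iff] at h3
    exact basis_not_mem_K p hp 𝔟 i h3
  · rintro ⟨y, hy⟩
    obtain ⟨x, rfl⟩ := (mem_ker_t_iff p hp 𝔟 i y).1 hy
    refine ⟨𝔟.coord i x, Subtype.ext ?_⟩
    exact (mkQ_eq_smul p hp 𝔟 i x).symm

noncomputable def φ : ↥(RingHom.ker (t p hp 𝔟 i).toAlgHom) ≃ₗ[k] k :=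
  (LinearEquiv.ofBijective (ψ p hp 𝔟 i) (ψ_bijective p hp 𝔟 i)).symm

theorem φ_kerToQuot (x : ↥(RingHom.ker p.toAlgHom)) :
    φ p hp 𝔟 i (kerToQuot (K_le_max p hp 𝔟 i) p (K_le_ker p hp 𝔟 i) x) = 𝔟.coord i x := by
  unfold φ
  rw [LinearEquiv.symm_apply_eq]
  apply Subtype.ext
  exact mkQ_eq_smul p hp 𝔟 i x

end

theorem result {k : Type u} [Field k]
    {F : ArtFun.Art k k ⥤ Type v} {V : Type u} [AddCommGroup V] [Module k V]
    (T : ArtFun.ObsTheory F V) {C' C : ArtFun.Art k k} (p : C' ⟶ C) (hp : ArtFun.Art.IsSemismallExt p)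
    (u : F.obj C) :
    T.obs p hp u ∈ LinearMap.range (LinearMap.rTensor (↥(RingHom.ker p.toAlgHom))
      (Submodule.span k {v : V | ∃ (B' B : ArtFun.Art k k) (t : B' ⟶ B) (ht : ArtFun.Art.IsSmallExt t)
          (w : F.obj B) (φ : ↥(RingHom.ker t.toAlgHom) ≃ₗ[k] k),
          v = TensorProduct.rid k V (LinearMap.lTensor V φ.toLinearMap (T.obs t ht.isSemismallExt w))}).subtype) := by
  classical
  set Ω := Submodule.span k {v : V | ∃ (B' B : ArtFun.Art k k) (t : B' ⟶ B) (ht : ArtFun.Art.IsSmallExt t)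
          (w : F.obj B) (φ : ↥(RingHom.ker t.toAlgHom) ≃ₗ[k] k),
          v = TensorProduct.rid k V (LinearMap.lTensor V φ.toLinearMap (T.obs t ht.isSemismallExt w))}
    with hΩ
  let 𝔟 := Module.Basis.ofVectorSpace k ↥(RingHom.ker p.toAlgHom)
  let e := TensorProduct.equivFinsuppOfBasisRight (M := V) 𝔟
  set ω := T.obs p hp u with hω
  -- the coordinates of ω
  have hcoord : ∀ (z : V ⊗[k] ↥(RingHom.ker p.toAlgHom)) i,
      e z i = TensorProduct.rid k V (LinearMap.lTensor V (𝔟.coord i) z) := by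
    intro z i
    induction z using TensorProduct.induction_on with
    | zero => simp
    | tmul v x =>
      rw [TensorProduct.equivFinsuppOfBasisRight_apply_tmul_apply, LinearMap.lTensor_tmul,
        TensorProduct.rid_tmul, Module.Basis.coord_apply]
    | add z₁ z₂ h₁ h₂ => rw [map_add, Finsupp.add_apply, h₁, h₂, map_add, map_add]
  have hmemΩ : ∀ i, e ω i ∈ Ω := by
    intro i
    apply Submodule.subset_span
    refine ⟨_, _, t p hp 𝔟 i, t_isSmallExt p hp 𝔟 i, u, φ p hp 𝔟 i, ?_⟩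
    rw [hcoord]
    have hq := T.obs_quot p hp (K p 𝔟 i hp) (K_le_max p hp 𝔟 i) (K_le_ker p hp 𝔟 i)
      (t_isSmallExt p hp 𝔟 i).isSemismallExt u
    have hcomp : (φ p hp 𝔟 i).toLinearMap ∘ₗ
        ((kerToQuot (K_le_max p hp 𝔟 i) p (K_le_ker p hp 𝔟 i)).restrictScalars k) = 𝔟.coord i :=
      LinearMap.ext (φ_kerToQuot p hp 𝔟 i)
    rw [hq, ← LinearMap.lTensor_comp_apply, hcomp]
  have hω' : ω = (e ω).sum fun i m => m ⊗ₜ[k] 𝔟 i := by
    rw [← TensorProduct.equivFinsuppOfBasisRight_symm_apply, LinearEquiv.symm_apply_apply]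
  rw [hω']
  refine Submodule.sum_mem _ fun i _ => ?_
  exact ⟨(⟨e ω i, hmemΩ i⟩ : Ω) ⊗ₜ[k] 𝔟 i, rfl⟩

end Groth.Agent.S13978
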