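import Groth.Statements.S1398
import Groth.Agent.H7.IndQuasiAffine

set_option autoImplicit false
universe u
open FlatMor

namespace Groth.Agent.S1398

open AlgebraicGeometry CategoryTheory Limits in
/-- An immersion is ind-quasi-affine, and so is any quasi-affine morphism. -/
theorem result {X Y : Scheme.{u}} (f : X ⟶ Y) :
    (IsImmersion f → MoreMor.IsIndQuasiAffineHom f) ∧ (MoreMor.IsQuasiAffineHom f → MoreMor.IsIndQuasiAffineHom f) := by
  constructor
  · intro hf
    rw [Groth.Agent.H7.isIndQuasiAffineHom_iff]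
    intro T j _ _ V hV hj
    have hr : Set.range (j ≫ f) ⊆ Set.range V.ι := by
      rintro _ ⟨x, rfl⟩
      simpa using hj x
    have : IsImmersion (IsOpenImmersion.lift V.ι (j ≫ f) hr ≫ V.ι) := by
      rw [IsOpenImmersion.lift_fac]; infer_instance
    have : IsImmersion (IsOpenImmersion.lift V.ι (j ≫ f) hr) := .of_comp _ V.ι
    have : IsAffine V.toScheme := hV
    exact .of_isImmersion (IsOpenImmersion.lift V.ι (j ≫ f) hr)
  · intro hf
    rw [Groth.Agent.H7.isIndQuasiAffineHom_iff]
    intro T j _ _ V hV hj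
    have hr : Set.range j ⊆ Set.range (f ⁻¹ᵁ V).ι := by
      rintro _ ⟨x, rfl⟩
      simpa using hj x
    have : IsOpenImmersion (IsOpenImmersion.lift (f ⁻¹ᵁ V).ι j hr ≫ (f ⁻¹ᵁ V).ι) := by
      rw [IsOpenImmersion.lift_fac]; infer_instance
    have : IsOpenImmersion (IsOpenImmersion.lift (f ⁻¹ᵁ V).ι j hr) :=
      .of_comp _ (f ⁻¹ᵁ V).ι
    have := hf.2 V hV
    exact .of_isImmersion (IsOpenImmersion.lift (f ⁻¹ᵁ V).ι j hr)

end Groth.Agent.S1398
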