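import Groth.Statements.S13981
import Groth.Agent.H70.A63.ArtFormal
import Groth.Agent.H70.A63.ArtFibre
import Mathlib

set_option autoImplicit false
set_option linter.style.haveILetI false
universe u v
open CategoryTheory
open ArtFun

namespace Groth.Agent.S13981

open ArtFun.Art Groth.Agent.H70.A63

section

variable {Λ : Type u} {k : Type u} [CommRing Λ] [Field k] [Algebra Λ k]

/-- The universal property of a pinned fibre product for maps out of an augmented algebra
(after helper63's `IsFibreProd.exists_lift_homSet`). -/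
theorem exists_lift_homSet {B A A₁ A₂ : Art Λ k} {p₁ : B ⟶ A₁} {p₂ : B ⟶ A₂} {f₁ : A₁ ⟶ A}
    {f₂ : A₂ ⟶ A} (h : IsFibreProd p₁ p₂ f₁ f₂) {R : Type u} [CommRing R] [Algebra Λ R]
    {resR : R →ₐ[Λ] k} (g₁ : HomSet R resR A₁) (g₂ : HomSet R resR A₂)
    (hg : HomSet.map f₁ g₁ = HomSet.map f₂ g₂) :
    ∃ l : HomSet R resR B, HomSet.map p₁ l = g₁ ∧ HomSet.map p₂ l = g₂ := by
  classical
  have hg' : ∀ c : R, f₁ (g₁.1 c) = f₂ (g₂.1 c) :=
    fun c => congrArg (fun t : HomSet R resR A => t.1 c) hg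
  let l : R → B := fun c => (h.surj (g₁.1 c) (g₂.1 c) (hg' c)).choose
  have hl₁ : ∀ c, p₁ (l c) = g₁.1 c := fun c => (h.surj (g₁.1 c) (g₂.1 c) (hg' c)).choose_spec.1
  have hl₂ : ∀ c, p₂ (l c) = g₂.1 c := fun c => (h.surj (g₁.1 c) (g₂.1 c) (hg' c)).choose_spec.2
  let L : R →ₐ[Λ] B :=
    { toFun := l
      map_one' := h.inj _ _ (by rw [hl₁, map_one, map_one]) (by rw [hl₂, map_one, map_one])
      map_mul' := fun x y => h.inj _ _ (by rw [hl₁, map_mul, map_mul, hl₁, hl₁])
        (by rw [hl₂, map_mul, map_mul, hl₂, hl₂])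
      map_zero' := h.inj _ _ (by rw [hl₁, map_zero, map_zero]) (by rw [hl₂, map_zero, map_zero])
      map_add' := fun x y => h.inj _ _ (by rw [hl₁, map_add, map_add, hl₁, hl₁])
        (by rw [hl₂, map_add, map_add, hl₂, hl₂])
      commutes' := fun r => h.inj _ _ (by rw [hl₁, AlgHom.commutes, AlgHom.commutes])
        (by rw [hl₂, AlgHom.commutes, AlgHom.commutes]) }
  refine ⟨⟨L, ?_⟩, ?_, ?_⟩
  · apply AlgHom.ext
    intro c
    change B.res (l c) = resR c
    rw [← res_app p₁, hl₁]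
    exact congrArg (fun t : R →ₐ[Λ] k => t c) g₁.2
  · apply Subtype.ext; apply AlgHom.ext; intro c; exact hl₁ c
  · apply Subtype.ext; apply AlgHom.ext; intro c; exact hl₂ c

theorem homSet_map_comp {R : Type u} [CommRing R] [Algebra Λ R] {resR : R →ₐ[Λ] k}
    {A B C : Art Λ k} (f : A ⟶ B) (g : B ⟶ C) (φ : HomSet R resR A) :
    HomSet.map (f ≫ g) φ = HomSet.map g (HomSet.map f φ) :=
  Subtype.ext (AlgHom.ext fun _ => rfl)

/-- a surjection of coefficient rings maps powers of the maximal ideal onto powers of the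
maximal ideal -/
theorem map_mpow_of_surjective (A' A : CRing Λ k) (g : A'.carrier →ₐ[Λ] A.carrier)
    (hg : A.res.comp g = A'.res) (hgs : Function.Surjective g) (n : ℕ) :
    (CRing.mpow A' n).map (g : A'.carrier →+* A.carrier) = CRing.mpow A n := by
  have h1 : (IsLocalRing.maximalIdeal A'.carrier).map (g : A'.carrier →+* A.carrier) =
      IsLocalRing.maximalIdeal A.carrier := by
    apply le_antisymm
    · exact Ideal.map_le_iff_le_comap.2 (CRing.maximalIdeal_le_comap g hg)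
    · intro x hx
      obtain ⟨y, rfl⟩ := hgs x
      refine Ideal.mem_map_of_mem _ ?_
      rw [CRing.mem_maximalIdeal_iff] at hx ⊢
      rw [← CRing.res_comp_apply g hg y]
      exact hx
  rw [CRing.mpow, Ideal.map_pow, h1]

end

theorem result {Λ : Type u} {k : Type u} [CommRing Λ] [Field k]
    [Algebra Λ k] [IsNoetherianRing Λ] [Module.Finite Λ k] (hΛ : Function.Surjective (algebraMap Λ k))
    {F : ArtFun.Art Λ k ⥤ Type v}
    (hRS : ∀ ⦃B A A₁ A₂ : ArtFun.Art Λ k⦄ (p₁ : B ⟶ A₁) (p₂ : B ⟶ A₂) (f₁ : A₁ ⟶ A) (f₂ : A₂ ⟶ A)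
        (h : ArtFun.Art.IsFibreProd p₁ p₂ f₁ f₂), Function.Surjective f₂ → Function.Bijective (ArtFun.cmp F h))
    (R : ArtFun.CRing Λ k) (ξ : ArtFun.Family R.carrier R.res F) (hξ : ArtFun.IsVersal ξ)
    (A' A : ArtFun.CRing Λ k) (g : A'.carrier →ₐ[Λ] A.carrier) (hg : A.res.comp g = A'.res)
    (hgs : Function.Surjective g) (η' : ArtFun.FormalElt F A')
    (φ : R.carrier →ₐ[Λ] A.carrier) (hφ : A.res.comp φ = R.res)
    (hsq : (ξ.along φ hφ).toFormalElt = η'.push g hg) :
    ∃ (ψ : R.carrier →ₐ[Λ] A'.carrier) (hψ : A'.res.comp ψ = R.res),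
      g.comp ψ = φ ∧ (ξ.along ψ hψ).toFormalElt = η' := by
  classical
  let gT : ∀ n, A'.trunc n ⟶ A.trunc n := fun n => CRing.truncMapOfHom g hg n
  have hgT : ∀ n (a : A'.carrier), gT n (Ideal.Quotient.mk (CRing.mpow A' n) a) =
      Ideal.Quotient.mk (CRing.mpow A n) (g a) := fun n a => rfl
  have hgTsurj : ∀ n, Function.Surjective (gT n) := by
    intro n x
    obtain ⟨a, rfl⟩ := Ideal.Quotient.mk_surjective x
    obtain ⟨a', rfl⟩ := hgs a
    exact ⟨Ideal.Quotient.mk _ a', rfl⟩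
  let φT : ∀ n, HomSet R.carrier R.res (A.trunc n) := fun n =>
    ⟨(A.truncHom n).1.comp φ, by rw [← AlgHom.comp_assoc, (A.truncHom n).2, hφ]⟩
  have hφT : ∀ n, HomSet.map (A.truncMap n) (φT (n + 1)) = φT n := fun n =>
    Subtype.ext (AlgHom.ext fun _ => rfl)
  have hsq_n : ∀ n, ξ.app _ (φT n) = F.map (gT n) (η'.elt n) := fun n =>
    congrArg (fun u => u.elt n) hsq
  let X : ℕ → Type u := fun n =>
    {ψ : HomSet R.carrier R.res (A'.trunc n) //
      HomSet.map (gT n) ψ = φT n ∧ ξ.app _ ψ = η'.elt n}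
  have hbase : Nonempty (X 0) := by
    obtain ⟨ψ, h1, h2⟩ := hξ (gT 0) (hgTsurj 0) (φT 0) (η'.elt 0) (hsq_n 0).symm
    exact ⟨⟨ψ, h1, h2⟩⟩
  have hstep : ∀ n (x : X n), ∃ y : X (n + 1), HomSet.map (A'.truncMap n) y.1 = x.1 := by
    rintro n ⟨ψn, hb, hc⟩
    obtain ⟨B, p₁, p₂, hB⟩ := exists_isFibreProd_of_surjective (gT n) (A.truncMap n)
      (truncMap_surjective A n)
    obtain ⟨μ, hμ1, hμ2⟩ := Groth.Agent.H70.A63.IsFibreProd.exists_lift hB (A'.truncMap n) (gT (n + 1))
      (CRing.truncMapOfHom_truncMap g hg n).symm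
    have hμsurj : Function.Surjective μ := by
      intro b
      obtain ⟨a', ha'⟩ := Ideal.Quotient.mk_surjective (p₁ b)
      obtain ⟨a, ha⟩ := Ideal.Quotient.mk_surjective (p₂ b)
      have hw := hB.w_apply b
      rw [← ha', ← ha] at hw
      -- hw : gT n (mk a') = truncMap (mk a)
      have hmem : a - g a' ∈ CRing.mpow A n := by
        rw [← Ideal.Quotient.eq_zero_iff_mem, map_sub, sub_eq_zero]
        exact hw.symm
      rw [← map_mpow_of_surjective A' A g hg hgs n] at hmem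
      obtain ⟨d, hd, hdg⟩ := (Ideal.mem_map_iff_of_surjective (g : A'.carrier →+* A.carrier) hgs).1 hmem
      refine ⟨Ideal.Quotient.mk (CRing.mpow A' (n + 1)) (a' + d), ?_⟩
      apply hB.inj
      · have : p₁ (μ (Ideal.Quotient.mk (CRing.mpow A' (n + 1)) (a' + d))) =
            (A'.truncMap n) (Ideal.Quotient.mk (CRing.mpow A' (n + 1)) (a' + d)) :=
          congrArg (fun t : A'.trunc (n + 1) ⟶ A'.trunc n => t _) hμ1
        rw [this, ← ha']
        change Ideal.Quotient.mk (CRing.mpow A' n) (a' + d) = Ideal.Quotient.mk (CRing.mpow A' n) a'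
        rw [map_add, add_eq_left, Ideal.Quotient.eq_zero_iff_mem]
        exact hd
      · have : p₂ (μ (Ideal.Quotient.mk (CRing.mpow A' (n + 1)) (a' + d))) =
            (gT (n + 1)) (Ideal.Quotient.mk (CRing.mpow A' (n + 1)) (a' + d)) :=
          congrArg (fun t : A'.trunc (n + 1) ⟶ A.trunc (n + 1) => t _) hμ2
        rw [this, ← ha, hgT, map_add]
        have hdg' : g d = a - g a' := hdg
        rw [hdg']
        congr 1
        ring
    obtain ⟨φB, hφB1, hφB2⟩ := exists_lift_homSet hB ψn (φT (n + 1)) (by rw [hb, hφT])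
    have hkey : F.map μ (η'.elt (n + 1)) = ξ.app B φB := by
      apply (hRS p₁ p₂ (gT n) (A.truncMap n) hB (truncMap_surjective A n)).1
      apply FibProd.ext
      · change F.map p₁ (F.map μ (η'.elt (n + 1))) = F.map p₁ (ξ.app B φB)
        rw [← FunctorToTypes.map_comp_apply, hμ1, η'.compat, ← ξ.natural, hφB1, hc]
      · change F.map p₂ (F.map μ (η'.elt (n + 1))) = F.map p₂ (ξ.app B φB)
        rw [← FunctorToTypes.map_comp_apply, hμ2, ← ξ.natural, hφB2, hsq_n]
    obtain ⟨ψ', h1, h2⟩ := hξ μ hμsurj φB (η'.elt (n + 1)) hkey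
    refine ⟨⟨ψ', ?_, h2⟩, ?_⟩
    · rw [← hμ2, homSet_map_comp, h1, hφB2]
    · change HomSet.map (A'.truncMap n) ψ' = ψn
      rw [← hμ1, homSet_map_comp, h1, hφB1]
  obtain ⟨x0⟩ := hbase
  let u : ∀ n, X n := fun n => Nat.rec (motive := X) x0 (fun n x => (hstep n x).choose) n
  have hu : ∀ n, HomSet.map (A'.truncMap n) (u (n + 1)).1 = (u n).1 :=
    fun n => (hstep n (u n)).choose_spec
  obtain ⟨ψ, hψ, hψn⟩ := exists_lift_of_compat A' (fun n => (u n).1) hu
  refine ⟨ψ, hψ, ?_, ?_⟩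
  · haveI := A.isAdicComplete
    have ha : StrictMono (fun n : ℕ => n + 1) := fun a b h => Nat.succ_lt_succ h
    have := IsHausdorff.StrictMono.funext' (IsLocalRing.maximalIdeal A.carrier) ha
      (f := fun x : R.carrier => g (ψ x)) (g := fun x : R.carrier => φ x) (fun n x => by
        have h1 : ((u n).1).1 x = Ideal.Quotient.mk (CRing.mpow A' n) (ψ x) :=
          (congrArg (fun t : HomSet R.carrier R.res (A'.trunc n) => t.1 x) (hψn n)).symm
        have h2 : gT n (((u n).1).1 x) = (φT n).1 x :=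
          congrArg (fun t : HomSet R.carrier R.res (A.trunc n) => t.1 x) (u n).2.1
        rw [h1, hgT] at h2
        exact h2)
    exact AlgHom.ext fun x => congrFun this x
  · apply FormalElt.ext'
    intro n
    change ξ.app _ _ = η'.elt n
    rw [← (u n).2.2]
    congr 1
    exact hψn n

end Groth.Agent.S13981
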