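import Groth.Statements.S13985
import Mathlib.Tactic

set_option autoImplicit false
universe u
open CategoryTheory

namespace Groth.Agent.S13985

/-- the morphism `A ⟶ M` determined by `x : M`. -/
noncomputable def toM (A : Type u) [Ring A] (M : FGModuleCat.{u} A) (x : M) :
    FGModuleCat.of A A ⟶ M :=
  ObjectProperty.homMk (ModuleCat.ofHom (LinearMap.toSpanSingleton A M x))

theorem toM_apply (A : Type u) [Ring A] (M : FGModuleCat.{u} A) (x : M) (r : A) :
    (toM A M x).hom.hom r = r • x := rfl

theorem nat_apply (A : Type u) [Ring A]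
    (φ : 𝟭 (FGModuleCat.{u} A) ⟶ 𝟭 (FGModuleCat.{u} A)) {M N : FGModuleCat.{u} A} (f : M ⟶ N) (x : M) :
    (φ.app N).hom.hom (f.hom.hom x) = f.hom.hom ((φ.app M).hom.hom x) := by
  have := φ.naturality f
  simp only [Functor.id_map] at this
  have h2 := congrArg (fun g => g.hom.hom x) this
  simpa using h2

theorem result (A : Type u) [Ring A]
    (φ : 𝟭 (FGModuleCat.{u} A) ⟶ 𝟭 (FGModuleCat.{u} A)) :
    ∃! a : A, a ∈ Subring.center A ∧
      ∀ (M : FGModuleCat.{u} A) (x : M), (φ.app M).hom.hom x = a • x := by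
  set a : A := (φ.app (FGModuleCat.of A A)).hom.hom (1 : A) with ha
  have key : ∀ (M : FGModuleCat.{u} A) (x : M), (φ.app M).hom.hom x = a • x := by
    intro M x
    have := nat_apply A φ (toM A M x) (1 : A)
    rw [toM_apply, one_smul, toM_apply] at this
    exact this
  refine ⟨a, ⟨?_, key⟩, ?_⟩
  · rw [Subring.mem_center_iff]
    intro b
    have h1 := key (FGModuleCat.of A A) b
    have h2 : (φ.app (FGModuleCat.of A A)).hom.hom b = b * a := by
      have : b = b • (1 : A) := by simp
      conv_lhs => rw [this]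
      rw [map_smul]
      rfl
    rw [h2] at h1
    exact h1
  · rintro a' ⟨_, h'⟩
    have := h' (FGModuleCat.of A A) (1 : A)
    rw [← ha] at this
    rw [this]
    simp

end Groth.Agent.S13985
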