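import Groth.Statements.S13988
import Groth.Agent.S0988
import Groth.Agent.S0026

set_option autoImplicit false
universe u
open CategoryTheory AlgebraicGeometry
open CohGab

namespace Groth.Agent.S13988

set_option linter.style.haveILetI false

open CategoryTheory.Limits Opposite TopologicalSpace Groth.Agent.H18 in
/-- Deligne's formula, in the form needed here: a section `s` of a quasi-coherent module `M` over an
open `U` of a Noetherian scheme comes from a morphism `ψ : A ⟶ M` out of a coherent ideal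
`A ⊆ O_X` which is the unit ideal on `U`. -/
theorem exists_ideal_hom (X : Scheme.{u}) [IsNoetherian X] (M : X.Modules) (hM : Coh.IsQCoh M)
    (U : X.Opens) (s : Γ(M, U)) :
    ∃ (A : X.Modules) (ιA : A ⟶ Coh.structureModule X) (ψ : A ⟶ M), Mono ιA ∧ Coh.IsCoh A ∧
      ∀ x ∈ U, ∃ (W : X.Opens) (hWU : W ≤ U), x ∈ W ∧ ∃ y : Γ(A, W),
        ιA.app W y = (1 : Γ(X, W)) ∧ ψ.app W y = mres M hWU s := by
  classical
  haveI : M.IsQuasicoherent := hM
  let I : X.IdealSheafData :=
    Scheme.IdealSheafData.vanishingIdeal ⟨(U : Set X)ᶜ, U.isOpen.isClosed_compl⟩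
  have hIs : (I.support : Set X) = (U : Set X)ᶜ :=
    Scheme.IdealSheafData.coe_support_vanishingIdeal _
  have hU : (U : Set X) = (I.support : Set X)ᶜ := by
    rw [hIs]
    exact (compl_compl _).symm
  let O : X.Modules := Coh.structureModule X
  have hO : Coh.IsCoh O := Groth.Agent.S0026.isCoh_structureModule X
  haveI : O.IsQuasicoherent := hO.1
  haveI : SheafOfModules.IsFiniteType (R := X.ringCatSheaf) O := hO.2
  let N : (U : Scheme.{u}).Modules := (Scheme.Modules.restrictFunctor U.ι).obj M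
  have hle : ∀ V : (U : Scheme.{u}).Opens, U.ι ''ᵁ V ≤ U := fun V => by
    intro x hx
    obtain ⟨y, -, rfl⟩ := hx
    exact y.2
  -- the section of `M|_U` defined by `s`
  let σ' : N.sections := PresheafOfModules.sectionsMk
    (fun V => (mres M (hle V.unop) s : Γ(M, U.ι ''ᵁ V.unop))) (by
      intro V V' g
      have hVV' : U.ι ''ᵁ V'.unop ≤ U.ι ''ᵁ V.unop := U.ι.image_mono (leOfHom g.unop)
      have h1 : ∀ y : Γ(M, U.ι ''ᵁ V.unop), N.val.map g y = mres M hVV' y := fun _ => rfl
      rw [h1]
      exact mres_mres M _ _ s)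
  let φ0 : (SheafOfModules.unit (U : Scheme.{u}).ringCatSheaf : (U : Scheme.{u}).Modules) ⟶ N :=
    (SheafOfModules.unitHomEquiv (R := (U : Scheme.{u}).ringCatSheaf) N).symm σ'
  have hφ0 : ∀ V : (U : Scheme.{u}).Opens,
      φ0.val.app (op V) (1 : Γ((U : Scheme.{u}), V)) = mres M (hle V) s := by
    intro V
    have := SheafOfModules.unitHomEquiv_apply_coe (R := (U : Scheme.{u}).ringCatSheaf) N φ0 (op V)
    rw [Equiv.apply_symm_apply] at this
    exact this.symm
  let φ : (Scheme.Modules.restrictFunctor U.ι).obj O ⟶ (Scheme.Modules.restrictFunctor U.ι).obj M :=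
    (Scheme.Modules.restrictUnitIso U.ι).hom ≫ φ0
  have hφ : ∀ V : (U : Scheme.{u}).Opens,
      φ.app V (1 : Γ(X, U.ι ''ᵁ V)) = mres M (hle V) s := by
    intro V
    have h1 : (Scheme.Modules.restrictUnitIso U.ι).hom.val.app (op V) (1 : Γ(X, U.ι ''ᵁ V)) =
        (1 : Γ((U : Scheme.{u}), V)) := map_one (U.ι.appIso V).hom.hom
    change φ0.val.app (op V)
      ((Scheme.Modules.restrictUnitIso U.ι).hom.val.app (op V) (1 : Γ(X, U.ι ''ᵁ V))) = _
    rw [h1, hφ0]
  obtain ⟨n, ψ, hψ⟩ := Groth.Agent.S9515.result X M O hM hO I U hU φ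
  have hq : ((Dual3.idealMul (I ^ n)).obj O).IsQuasicoherent :=
    Groth.Agent.Lead.SubRange.isQuasicoherent_idealMul (I ^ n) O
  haveI : Mono (Dual3.idealMulι (I ^ n) O) := Dual3.mono_idealMulι (I ^ n) O
  refine ⟨(Dual3.idealMul (I ^ n)).obj O, Dual3.idealMulι (I ^ n) O, ψ, inferInstance,
    ⟨hq, @Groth.Agent.H71.QCoh.isFiniteType_of_mono X _ _ O hq _ _ (Dual3.idealMulι (I ^ n) O) _⟩,
    ?_⟩
  intro x hx
  obtain ⟨_, ⟨W, hWaff, rfl⟩, hxW, hWU⟩ :=
    X.isBasis_affineOpens.exists_subset_of_mem_open (show x ∈ (U : Set X) from hx) U.isOpen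
  let W' : (U : Scheme.{u}).Opens := U.ι ⁻¹ᵁ W
  have hWW' : U.ι ''ᵁ W' = W := by
    rw [Scheme.Hom.image_preimage_eq_opensRange_inf, Scheme.Opens.opensRange_ι]
    exact inf_eq_right.mpr hWU
  have hV0 : IsAffineOpen (U.ι ''ᵁ W') := hWW' ▸ hWaff
  refine ⟨U.ι ''ᵁ W', hle W', hWW' ▸ hxW, ?_⟩
  have htop : (I ^ n).ideal ⟨U.ι ''ᵁ W', hV0⟩ = ⊤ := by
    rw [Scheme.IdealSheafData.ideal_pow, Pi.pow_apply]
    rw [Groth.Agent.S0988.ideal_eq_top_of_disjoint I ⟨U.ι ''ᵁ W', hV0⟩ ?_, Ideal.top_pow]
    rw [hIs]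
    ext z
    simp only [Set.mem_inter_iff, Set.mem_compl_iff, SetLike.mem_coe, Set.mem_empty_iff_false,
      iff_false, not_and]
    intro hz hz'
    exact hz (hle W' hz')
  have h3 : (1 : Γ(X, U.ι ''ᵁ W')) ∈
      Groth.Agent.Lead.SubRange.rng (Dual3.idealMulι (I ^ n) O) (U.ι ''ᵁ W') := by
    rw [Groth.Agent.Lead.SubRange.rng_idealMulι (I ^ n) hV0, htop, Submodule.top_smul]
    trivial
  obtain ⟨y, hy⟩ := (Groth.Agent.Lead.SubRange.mem_rng _ _ _).1 h3
  refine ⟨y, hy, ?_⟩
  have h5 := congrArg (fun k => (Scheme.Modules.Hom.app k W') y) hψ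
  have h6 : ψ.app (U.ι ''ᵁ W') y =
      φ.app W' ((Dual3.idealMulι (I ^ n) O).app (U.ι ''ᵁ W') y) := h5
  rw [h6, hy, hφ]

/-- Let X be a Noetherian scheme. The canonical ring map from the global functions Γ(X, O_X) to the
centre of the category of coherent O_X-modules (the endomorphisms of its identity functor), sending
r to multiplication by r, is bijective: for every natural endomorphism φ of the identity functor of
Coh(X) there is a unique global function r such that, for every coherent module M, φ_M is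
multiplication by r (compared as maps of the underlying abelian sheaves). (The published result
builds a ringed space from Coh(X) — irreducible Serre subcategories of finite type, with the centres
of the categories Coh(U) as structure sheaf — and proves it isomorphic to X, for coherent sheaves
twisted by a class in the cohomological Brauer group and with X over a field, a hypothesis its proof
does not use; this row is the ring-theoretic content of that isomorphism on global sections, for the
trivial class; applied to the open subschemes of X it gives the statement on every open.) -/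
theorem result (X : Scheme.{u}) [IsNoetherian X]
    (φ : 𝟭 (ObjectProperty.FullSubcategory (fun M : X.Modules => Coh.IsCoh M)) ⟶ 𝟭 (ObjectProperty.FullSubcategory (fun M : X.Modules => Coh.IsCoh M))) :
    ∃! r : Coh.Γtop X, ∀ M : ObjectProperty.FullSubcategory (fun M : X.Modules => Coh.IsCoh M),
      (SheafOfModules.toSheaf X.ringCatSheaf).map (φ.app M).hom = Coh.smulAb M.obj r := by
  classical
  let C := ObjectProperty.FullSubcategory (fun M : X.Modules => Coh.IsCoh M)
  let O' : C := ⟨Coh.structureModule X, Groth.Agent.S0026.isCoh_structureModule X⟩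
  let f : ∀ M : C, M.obj ⟶ M.obj := fun M => (φ.app M).hom
  let r : Coh.Γtop X := (f O').app ⊤ (1 : Γ(X, (⊤ : X.Opens)))
  let rU : ∀ U : X.Opens, Γ(X, U) := fun U => Coh.resTop X (Opposite.op U) r
  -- the value of `φ_O` on the unit sections
  have hrO : ∀ W : X.Opens, (f O').app W (1 : Γ(X, W)) = rU W := by
    intro W
    have h1 : Groth.Agent.H18.mres (Coh.structureModule X) (le_top : W ≤ ⊤)
        ((f O').app ⊤ (1 : Γ(X, (⊤ : X.Opens)))) =
        (f O').app W (Groth.Agent.H18.mres (Coh.structureModule X) (le_top : W ≤ ⊤)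
          (1 : Γ(X, (⊤ : X.Opens)))) :=
      Groth.Agent.H12.QCohExt.app_mres (f O') (le_top : W ≤ ⊤) (1 : Γ(X, (⊤ : X.Opens)))
    have h2 : Groth.Agent.H18.mres (Coh.structureModule X) (le_top : W ≤ ⊤)
        (1 : Γ(X, (⊤ : X.Opens))) = (1 : Γ(X, W)) :=
      map_one (X.presheaf.map (homOfLE le_top).op).hom
    rw [h2] at h1
    exact h1.symm
  have key : ∀ (M : C) (U : X.Opens) (m : Γ(M.obj, U)), (f M).app U m = rU U • m := by
    intro M U m
    obtain ⟨A, ιA, ψ, hι, hA, hloc⟩ := exists_ideal_hom X M.obj M.property.1 U m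
    haveI := hι
    let A' : C := ⟨A, hA⟩
    let ιA' : A' ⟶ O' := ObjectProperty.homMk ιA
    let ψ' : A' ⟶ M := ObjectProperty.homMk ψ
    have hn1 : ιA ≫ f O' = f A' ≫ ιA :=
      congrArg (fun k => k.hom) (φ.naturality ιA')
    have hn2 : ψ ≫ f M = f A' ≫ ψ :=
      congrArg (fun k => k.hom) (φ.naturality ψ')
    refine Groth.Agent.H12.QCohIso.modules_eq_of_locally_eq M.obj _ _ (fun x hx => ?_)
    obtain ⟨W, hWU, hxW, y, hy1, hy2⟩ := hloc x hx
    refine ⟨W, hWU, hxW, ?_⟩
    -- `φ_A y = r • y`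
    have hA1 : (f A').app W y = rU W • y := by
      apply Groth.Agent.H12.QCohAbelian.app_injective_of_mono ιA W
      have e1 : ιA.app W ((f A').app W y) = (f O').app W (ιA.app W y) :=
        (congrArg (fun k => (Scheme.Modules.Hom.app k W) y) hn1).symm
      rw [e1, hy1, hrO W]
      have e2 : ιA.app W (rU W • y) = rU W • ιA.app W y := Scheme.Modules.Hom.app_smul ιA _ _
      rw [e2, hy1]
      exact (mul_one (rU W)).symm
    have hM1 : (f M).app W (ψ.app W y) = ψ.app W ((f A').app W y) :=
      congrArg (fun k => (Scheme.Modules.Hom.app k W) y) hn2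
    have e3 : ψ.app W (rU W • y) = rU W • ψ.app W y := Scheme.Modules.Hom.app_smul ψ _ _
    rw [Groth.Agent.H12.QCohExt.app_mres, ← hy2, hM1, hA1, e3, hy2]
    have e4 : Groth.Agent.H18.mres M.obj hWU (rU U • m) =
        X.presheaf.map (homOfLE hWU).op (rU U) • Groth.Agent.H18.mres M.obj hWU m :=
      Scheme.Modules.map_smul M.obj (homOfLE hWU) (rU U) m
    have e5 : X.presheaf.map (homOfLE hWU).op (rU U) = rU W :=
      Coh.resTop_comp (Opposite.op U) (Opposite.op W) (homOfLE hWU).op r
    rw [e4, e5]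
  refine ⟨r, fun M => ?_, fun r' hr' => ?_⟩
  · ext U m
    exact key M U.unop m
  · have h1 := hr' O'
    let one' : (Coh.toAb O'.obj).obj.obj (Opposite.op (⊤ : X.Opens)) := (1 : Γ(X, (⊤ : X.Opens)))
    have h2 := congrArg (fun k => k.hom.app (Opposite.op (⊤ : X.Opens)) one') h1
    have h3 : (Coh.smulAb O'.obj r').hom.app (Opposite.op (⊤ : X.Opens)) one' = r' := by
      rw [Coh.smulAb_app]
      have : Coh.resTop X (Opposite.op (⊤ : X.Opens)) r' = r' := by
        change (X.ringCatSheaf.obj.map (𝟙 _)).hom r' = r'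
        rw [CategoryTheory.Functor.map_id]
        rfl
      rw [this]
      exact mul_one r'
    exact (h2.trans h3).symm

end Groth.Agent.S13988
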