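import Groth.Statements.S1399
import Groth.Agent.H7.IndQuasiAffine

set_option autoImplicit false
universe u
open FlatMor

namespace Groth.Agent.S1399

open AlgebraicGeometry CategoryTheory Limits in
/-- If g ∘ f is ind-quasi-affine then so is f. -/
theorem result {X Y Z : Scheme.{u}} (f : X ⟶ Y) (g : Y ⟶ Z) (h : MoreMor.IsIndQuasiAffineHom (f ≫ g)) :
    MoreMor.IsIndQuasiAffineHom f := by
  rw [Groth.Agent.H7.isIndQuasiAffineHom_iff] at h ⊢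
  intro T j _ _ V hV hj
  have hjV : ∀ x : T, (j ≫ f) x ∈ V := fun x ↦ by
    rw [Scheme.Hom.comp_apply]; exact hj x
  refine Groth.Agent.H7.isQuasiAffine_of_forall_exists_preimage_basicOpen (j ≫ f) V hjV fun x ↦ ?_
  obtain ⟨_, ⟨W, hW, rfl⟩, hxW, -⟩ := Z.isBasis_affineOpens.exists_subset_of_mem_open
    (Set.mem_univ (g (f (j x)))) isOpen_univ
  obtain ⟨r, hr, hxr⟩ := hV.exists_basicOpen_le (V := g ⁻¹ᵁ W) ⟨f (j x), hxW⟩ (hj x)
  have hxr' : (j ≫ f) x ∈ Y.basicOpen r := by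
    rw [Scheme.Hom.comp_apply]; exact hxr
  refine ⟨r, hxr', ?_⟩
  have : CompactSpace ((j ≫ f) ⁻¹ᵁ Y.basicOpen r : Scheme.{u}) :=
    Groth.Agent.H7.compactSpace_preimage_basicOpen (j ≫ f) V hjV r
  refine h (((j ≫ f) ⁻¹ᵁ Y.basicOpen r).ι ≫ j) W hW fun x' ↦ ?_
  have h1 : (j ≫ f) (((j ≫ f) ⁻¹ᵁ Y.basicOpen r).ι x') ∈ Y.basicOpen r := x'.2
  have h2 : g (f (j (((j ≫ f) ⁻¹ᵁ Y.basicOpen r).ι x'))) ∈ W := hr h1
  rw [Scheme.Hom.comp_apply]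
  exact h2

end Groth.Agent.S1399
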