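import Groth.Statements.S13991
import Groth.Agent.Lead.Gabriel

set_option autoImplicit false
universe u
open CategoryTheory AlgebraicGeometry
open CohGab

namespace Groth.Agent.S13991

/-- Let X be a Noetherian scheme and Z ⊆ X a closed subset. Then Z is irreducible (or empty) if and only
if Coh_Z(X), the coherent O_X-modules supported in Z, is an irreducible Serre subcategory of Coh(X),
i.e. it is not generated as a Serre subcategory by two Serre subcategories properly contained in it:
whenever J₁, J₂ are Serre classes on coherent modules (middle term of a short exact sequence of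
coherent modules belongs iff both outer terms do), both contained in Coh_Z, such that every Serre
class on coherent modules containing J₁ and J₂ contains Coh_Z, then J₁ or J₂ contains Coh_Z.
Consequently the points of X correspond to the irreducible Serre subcategories of finite type other
than the zero subcategory. (The published statement says 'Z is irreducible iff Coh_Z is irreducible'
and deduces a bijection between the points of X and all irreducible Serre subcategories of finite
type; the zero subcategory Coh_∅ is irreducible in this sense while ∅ is not an irreducible space,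
so irreducibility of Z is read here as 'irreducible or empty'. The published statement is also about
coherent sheaves twisted by a class in the second etale cohomology group of the units of the
structure sheaf; this row is its case of the trivial class.) -/
theorem result (X : Scheme.{u}) [IsNoetherian X]
    (Z : TopologicalSpace.Closeds X) :
    IsPreirreducible (↑Z : Set X) ↔
    ∀ J₁ J₂ : ObjectProperty X.Modules, (∀ S : ShortComplex X.Modules, S.ShortExact → Coh.IsCoh S.X₁ → Coh.IsCoh S.X₂ →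
        Coh.IsCoh S.X₃ → (J₁ S.X₂ ↔ J₁ S.X₁ ∧ J₁ S.X₃)) → (∀ S : ShortComplex X.Modules, S.ShortExact → Coh.IsCoh S.X₁ → Coh.IsCoh S.X₂ →
        Coh.IsCoh S.X₃ → (J₂ S.X₂ ↔ J₂ S.X₁ ∧ J₂ S.X₃)) →
      (∀ M : X.Modules, Coh.IsCoh M → J₁ M → CohB1.support M ⊆ (↑Z : Set X)) →
      (∀ M : X.Modules, Coh.IsCoh M → J₂ M → CohB1.support M ⊆ (↑Z : Set X)) →
      (∀ Q : ObjectProperty X.Modules, (∀ S : ShortComplex X.Modules, S.ShortExact → Coh.IsCoh S.X₁ → Coh.IsCoh S.X₂ →
        Coh.IsCoh S.X₃ → (Q S.X₂ ↔ Q S.X₁ ∧ Q S.X₃)) →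
        (∀ M : X.Modules, Coh.IsCoh M → J₁ M → Q M) → (∀ M : X.Modules, Coh.IsCoh M → J₂ M → Q M) →
        ∀ M : X.Modules, Coh.IsCoh M → CohB1.support M ⊆ (↑Z : Set X) → Q M) →
      (∀ M : X.Modules, Coh.IsCoh M → CohB1.support M ⊆ (↑Z : Set X) → J₁ M) ∨
        (∀ M : X.Modules, Coh.IsCoh M → CohB1.support M ⊆ (↑Z : Set X) → J₂ M) := by
  classical
  constructor
  · intro hZ J₁ J₂ h₁ h₂ hs₁ hs₂ H
    -- a coherent member of `J₁` or `J₂` whose support contains `Z`
    have hex : ∃ M₀ : X.Modules, Coh.IsCoh M₀ ∧ (J₁ M₀ ∨ J₂ M₀) ∧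
        (↑Z : Set X) ⊆ CohB1.support M₀ := by
      by_cases hne : (↑Z : Set X).Nonempty
      · have hirr : IsIrreducible (↑Z : Set X) := ⟨hne, hZ⟩
        obtain ⟨ξ, hξ⟩ := QuasiSober.sober hirr Z.isClosed
        have hξ' : closure {ξ} = (↑Z : Set X) := hξ
        let T : Set X := {x | ∃ M : X.Modules, Coh.IsCoh M ∧ (J₁ M ∨ J₂ M) ∧ x ∈ CohB1.support M}
        obtain ⟨O, hO, hOs⟩ := Groth.Agent.Lead.Gabriel.exists_coh_support_eq Z
        have hQO : CohB1.support O ⊆ T :=
          H (fun M => CohB1.support M ⊆ T) (Groth.Agent.Lead.Gabriel.serreCoh_support T)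
            (fun M hM hJ x hx => ⟨M, hM, Or.inl hJ, hx⟩)
            (fun M hM hJ x hx => ⟨M, hM, Or.inr hJ, hx⟩) O hO hOs.le
        have hξZ : ξ ∈ (↑Z : Set X) := by rw [← hξ']; exact subset_closure rfl
        obtain ⟨M₀, hM₀, hJ, hξM⟩ := hQO (hOs.ge hξZ)
        haveI : M₀.IsQuasicoherent := hM₀.1
        haveI : SheafOfModules.IsFiniteType (R := X.ringCatSheaf) M₀ := hM₀.2
        have hcl : IsClosed (CohB1.support M₀) := Groth.Agent.H71.QCoh.isClosed_support M₀
        refine ⟨M₀, hM₀, hJ, ?_⟩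
        rw [← hξ']
        exact hcl.closure_subset_iff.mpr (Set.singleton_subset_iff.mpr hξM)
      · have hemp : (↑Z : Set X) = ∅ := Set.not_nonempty_iff_eq_empty.mp hne
        by_contra hcon
        obtain ⟨N₀, hN₀, hN₀s⟩ := Groth.Agent.Lead.Gabriel.exists_coh_support_empty X
        refine H (fun _ => False) (fun S _ _ _ _ => by simp) (fun M hM hJ => ?_)
          (fun M hM hJ => ?_) N₀ hN₀ (fun x hx => (hN₀s x hx).elim)
        · exact hcon ⟨M, hM, Or.inl hJ, by rw [hemp]; exact Set.empty_subset _⟩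
        · exact hcon ⟨M, hM, Or.inr hJ, by rw [hemp]; exact Set.empty_subset _⟩
    obtain ⟨M₀, hM₀, hJ, hZM⟩ := hex
    rcases hJ with hJ | hJ
    · exact Or.inl (fun M hM hMs =>
        Groth.Agent.Lead.Gabriel.key h₁ M₀ hM₀ hJ M hM (hMs.trans hZM))
    · exact Or.inr (fun M hM hMs =>
        Groth.Agent.Lead.Gabriel.key h₂ M₀ hM₀ hJ M hM (hMs.trans hZM))
  · intro H U V hU hV hZU hZV
    by_contra hcon
    have hdis : ∀ x, x ∈ (↑Z : Set X) → x ∈ U → x ∈ V → False :=
      fun x hx hxU hxV => hcon ⟨x, hx, hxU, hxV⟩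
    let Z₁ : TopologicalSpace.Closeds X := ⟨(↑Z : Set X) ∩ Uᶜ, Z.isClosed.inter hU.isClosed_compl⟩
    let Z₂ : TopologicalSpace.Closeds X := ⟨(↑Z : Set X) ∩ Vᶜ, Z.isClosed.inter hV.isClosed_compl⟩
    have hcov : (↑Z : Set X) ⊆ (↑Z₁ : Set X) ∪ (↑Z₂ : Set X) := by
      intro x hx
      by_cases hxU : x ∈ U
      · exact Or.inr ⟨hx, fun hxV => hdis x hx hxU hxV⟩
      · exact Or.inl ⟨hx, hxU⟩
    obtain ⟨O, hO, hOs⟩ := Groth.Agent.Lead.Gabriel.exists_coh_support_eq Z
    have key := H (fun M => CohB1.support M ⊆ (↑Z₁ : Set X))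
      (fun M => CohB1.support M ⊆ (↑Z₂ : Set X))
      (Groth.Agent.Lead.Gabriel.serreCoh_support _) (Groth.Agent.Lead.Gabriel.serreCoh_support _)
      (fun M _ h => h.trans Set.inter_subset_left) (fun M _ h => h.trans Set.inter_subset_left)
      (by
        intro Q hQ hQ1 hQ2 M hM hMs
        obtain ⟨O₁, hO₁, hO₁s⟩ := Groth.Agent.Lead.Gabriel.exists_coh_support_eq Z₁
        obtain ⟨O₂, hO₂, hO₂s⟩ := Groth.Agent.Lead.Gabriel.exists_coh_support_eq Z₂
        obtain ⟨F, hF, hFs, hQF⟩ := Groth.Agent.Lead.Gabriel.exists_coh_union O₁ O₂ hO₁ hO₂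
        refine Groth.Agent.Lead.Gabriel.key hQ F hF
          (hQF Q hQ (hQ1 O₁ hO₁ hO₁s.le) (hQ2 O₂ hO₂ hO₂s.le)) M hM ?_
        rw [hFs, hO₁s, hO₂s]
        exact hMs.trans hcov)
    rcases key with h | h
    · obtain ⟨x, hx, hxU⟩ := hZU
      exact (h O hO hOs.le (hOs.ge hx)).2 hxU
    · obtain ⟨x, hx, hxV⟩ := hZV
      exact (h O hO hOs.le (hOs.ge hx)).2 hxV

end Groth.Agent.S13991
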