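import Groth.Statements.S13992
import Groth.Agent.H70.Planar.MF
import Groth.Agent.H70.Planar.SES

set_option autoImplicit false
universe u
open CategoryTheory
open CAlg

namespace Groth.Agent.S13992

open Groth.Agent.H70.Planar in
/-- Let S be a regular local ring of Krull dimension two, f a non-zero element of S and R the quotient
of S by f, assumed reduced (the local ring of a reduced planar curve singularity). Let M and N be
finitely generated R-modules, each admitting a non-zero-divisor in the maximal ideal of R,
annihilated by ideals I and J respectively, where I + J contains a power of the maximal ideal. Then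
Ext²_R(M, N) = 0. (The published statement is global: Ext²(F, F') = 0 for torsion-free coherent
sheaves F and F' on a reduced projective curve over a characteristic-zero algebraically closed
field, supported on subcurves with no common irreducible component that meet only at points with
planar singularities; this row is the vanishing on stalks to which it reduces, stated over an
arbitrary two-dimensional regular local ring.) -/
theorem result (S : Type u) [CommRing S] [IsRegularLocalRing S] (hS : ringKrullDim S = 2) (f : S) (hf : f ≠ 0) (R : Type u) [CommRing R] [IsLocalRing R] [IsReduced R] (π : S →+* R) (hπ : Function.Surjective π) (hker : RingHom.ker π = Ideal.span {f}) (I J : Ideal R) (n : ℕ) (hIJ : IsLocalRing.maximalIdeal R ^ n ≤ I ⊔ J) (M N : Type u) [AddCommGroup M] [Module R M] [Module.Finite R M] [AddCommGroup N] [Module R N] [Module.Finite R N] (hI : I ≤ Module.annihilator R M) (hJ : J ≤ Module.annihilator R N) (x : R) (hx : x ∈ IsLocalRing.maximalIdeal R) (hxM : IsSMulRegular M x) (y : R) (hy : y ∈ IsLocalRing.maximalIdeal R) (hyN : IsSMulRegular N y) : Subsingleton (Abelian.Ext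 (ModuleCat.of R M) (ModuleCat.of R N) 2) := by
  classical
  have hMsf : SocleFree R M := socleFree_of_isSMulRegular x hx hxM
  have hNsf : SocleFree R N := socleFree_of_isSMulRegular y hy hyN
  obtain ⟨a, b, p, A, hp, hAp, hB⟩ := exists_presentation S hS R π hπ M hMsf
  -- `Hom(ker A, N) = 0`
  have hHom : ∀ φ : LinearMap.ker A →ₗ[R] N, φ = 0 := by
    intro φ
    ext k
    apply eq_zero_of_pow_smul hNsf n
    intro r hr
    obtain ⟨i, hi, j, hj, rfl⟩ := Submodule.mem_sup.mp (hIJ hr)
    have h1 : i • φ k = 0 := by
      rw [← map_smul]
      obtain ⟨B, hBA⟩ := hB i (hI hi)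
      have h3 : i • (k : Fin b → R) = 0 := by
        have h4 := LinearMap.congr_fun hBA k.1
        rw [LinearMap.comp_apply, LinearMap.mem_ker.mp k.2, map_zero] at h4
        simpa using h4.symm
      have h5 : i • k = 0 := Subtype.ext h3
      rw [h5, map_zero]
    have h2 : j • φ k = 0 := Module.mem_annihilator.mp (hJ hj) _
    rw [add_smul, h1, h2, add_zero]
  -- the two short exact sequences
  have hS₁ := shortExact_of_exact (LinearMap.ker p).subtype p Subtype.val_injective hp
    (LinearMap.exact_subtype_ker_map p)
  let A' : (Fin b → R) →ₗ[R] LinearMap.ker p :=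
    A.codRestrict (LinearMap.ker p) (fun w => hAp ▸ LinearMap.mem_range_self A w)
  have hA'surj : Function.Surjective A' := by
    rintro ⟨v, hv⟩
    rw [← hAp] at hv
    obtain ⟨w, rfl⟩ := hv
    exact ⟨w, rfl⟩
  have hA'ex : Function.Exact (LinearMap.ker A).subtype A' := by
    have : LinearMap.ker A' = LinearMap.ker A := LinearMap.ker_codRestrict _ _ _
    rw [← this]
    exact LinearMap.exact_subtype_ker_map A'
  have hS₂ := shortExact_of_exact (LinearMap.ker A).subtype A' Subtype.val_injective hA'surj hA'ex
  have key : ∀ e : Abelian.Ext (ModuleCat.of R M) (ModuleCat.of R N) 2, e = 0 := by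
    intro e
    haveI : Projective (ModuleCat.of R (Fin a → R)) :=
      ModuleCat.projective_of_free (Pi.basisFun R (Fin a))
    haveI : Projective (ModuleCat.of R (Fin b → R)) :=
      ModuleCat.projective_of_free (Pi.basisFun R (Fin b))
    obtain ⟨e₁, he₁⟩ := Abelian.Ext.contravariant_sequence_exact₃ hS₁ (ModuleCat.of R N) e
      (Abelian.Ext.eq_zero_of_projective _) (show 1 + 1 = 2 by rfl)
    obtain ⟨e₀, he₀⟩ := Abelian.Ext.contravariant_sequence_exact₃ hS₂ (ModuleCat.of R N) e₁
      (Abelian.Ext.eq_zero_of_projective _) (show 1 + 0 = 1 by rfl)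
    obtain ⟨φ, rfl⟩ := (Abelian.Ext.mk₀_bijective _ _).2 e₀
    have hφ : φ = 0 := by
      ext k
      exact LinearMap.congr_fun (hHom φ.hom) k
    rw [← he₁, ← he₀, hφ, Abelian.Ext.mk₀_zero, Abelian.Ext.comp_zero, Abelian.Ext.comp_zero]
  exact ⟨fun e₁ e₂ => by rw [key e₁, key e₂]⟩

end Groth.Agent.S13992
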