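import Groth.Statements.S13993
import Groth.Agent.H70.Planar.SES

set_option autoImplicit false
universe u
open CategoryTheory
open CAlg

namespace Groth.Agent.S13993

open MvPowerSeries

section aux

variable (k : Type u) [Field k]

theorem exists_decomp (f : MvPowerSeries (Fin 2) k) :
    ∃ (c : k) (g h : MvPowerSeries (Fin 2) k), f = C c + X 0 * g + X 1 * h := by
  classical
  let f₁ : MvPowerSeries (Fin 2) k := fun m => if m 0 = 0 then 0 else coeff m f
  let f₂ : MvPowerSeries (Fin 2) k :=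
    fun m => if m 0 = 0 then (if m = 0 then 0 else coeff m f) else 0
  have c1 : ∀ m, coeff m f₁ = if m 0 = 0 then 0 else coeff m f := fun m => rfl
  have c2 : ∀ m, coeff m f₂ = if m 0 = 0 then (if m = 0 then 0 else coeff m f) else 0 :=
    fun m => rfl
  have h1 : X 0 ∣ f₁ := X_dvd_iff.mpr (fun m hm => by rw [c1, if_pos hm])
  have h2 : X 1 ∣ f₂ := X_dvd_iff.mpr (fun m hm => by
    rw [c2]
    split_ifs with h0 h00
    · rfl
    · exfalso
      apply h00
      ext i
      fin_cases i <;> simp [h0, hm]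
    · rfl)
  obtain ⟨g, hg⟩ := h1
  obtain ⟨h, hh⟩ := h2
  refine ⟨constantCoeff f, g, h, ?_⟩
  rw [← hg, ← hh]
  ext m
  rw [map_add, map_add, c1, c2, coeff_C]
  by_cases hm : m = 0
  · subst hm
    simp
  · by_cases h0 : m 0 = 0
    · simp [hm, h0]
    · simp [hm, h0]

/-- `k[[x,y]]` -/
noncomputable abbrev P := MvPowerSeries (Fin 2) k
/-- `(xy)` -/
noncomputable abbrev Ixy : Ideal (P k) := Ideal.span {(X (0 : Fin 2) : P k) * X (1 : Fin 2)}
/-- the node `k[[x,y]]/(xy)` -/
noncomputable abbrev A := P k ⧸ Ixy k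
/-- the class of `x` -/
noncomputable abbrev xb : A k := Ideal.Quotient.mk (Ixy k) (X 0)
/-- the class of `y` -/
noncomputable abbrev yb : A k := Ideal.Quotient.mk (Ixy k) (X 1)

theorem xb_mul_yb : xb k * yb k = 0 := by
  rw [← map_mul, Ideal.Quotient.eq_zero_iff_mem]
  exact Ideal.subset_span rfl

theorem X1_ne_zero : (X 1 : P k) ≠ 0 := by
  intro h
  have := congrArg (coeff (Finsupp.single (1 : Fin 2) 1)) h
  simp at this

theorem mem_span_xb_of_yb_mul (a : A k) (h : yb k * a = 0) : a ∈ Ideal.span {xb k} := by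
  obtain ⟨f, rfl⟩ := Ideal.Quotient.mk_surjective a
  rw [← map_mul, Ideal.Quotient.eq_zero_iff_mem, Ideal.mem_span_singleton] at h
  obtain ⟨g, hg⟩ := h
  have hf : f = X 0 * g := by
    apply mul_left_cancel₀ (X1_ne_zero k)
    linear_combination hg
  rw [hf, map_mul]
  exact Ideal.mul_mem_right _ _ (Ideal.subset_span rfl)

theorem xb_yb_ne_one (a b : A k) : xb k * a + yb k * b ≠ 1 := by
  intro h
  obtain ⟨f, rfl⟩ := Ideal.Quotient.mk_surjective a
  obtain ⟨g, rfl⟩ := Ideal.Quotient.mk_surjective b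
  rw [← map_mul, ← map_mul, ← map_add, ← map_one (Ideal.Quotient.mk (Ixy k)),
    Ideal.Quotient.eq, Ideal.mem_span_singleton] at h
  obtain ⟨e, he⟩ := h
  have := congrArg (constantCoeff (σ := Fin 2) (R := k)) he
  simp at this

theorem exists_decomp_A (a : A k) :
    ∃ (c : k) (a₁ a₂ : A k), a = algebraMap k (A k) c + xb k * a₁ + yb k * a₂ := by
  obtain ⟨f, rfl⟩ := Ideal.Quotient.mk_surjective a
  obtain ⟨c, g, h, rfl⟩ := exists_decomp k f
  refine ⟨c, Ideal.Quotient.mk _ g, Ideal.Quotient.mk _ h, ?_⟩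
  rw [map_add, map_add, map_mul, map_mul]
  rfl

/-- multiplication by `y`, as a map `A/(x) → A` -/
noncomputable def j : (A k ⧸ Ideal.span {xb k}) →ₗ[A k] A k :=
  Submodule.liftQ (Ideal.span {xb k}) (LinearMap.mulLeft (A k) (yb k)) (by
    rw [Ideal.span, Submodule.span_le]
    rintro _ rfl
    simp only [SetLike.mem_coe, LinearMap.mem_ker, LinearMap.mulLeft_apply]
    rw [mul_comm, xb_mul_yb])

theorem j_mk (a : A k) : j k (Submodule.Quotient.mk a) = yb k * a := rfl

theorem j_injective : Function.Injective (j k) := by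
  rw [injective_iff_map_eq_zero]
  intro z hz
  obtain ⟨a, rfl⟩ := Submodule.Quotient.mk_surjective _ z
  rw [j_mk] at hz
  exact (Submodule.Quotient.mk_eq_zero _).mpr (mem_span_xb_of_yb_mul k a hz)

/-- the quotient map `A → A/(y)` -/
noncomputable def q : A k →ₗ[A k] (A k ⧸ Ideal.span {yb k}) :=
  Submodule.mkQ (Ideal.span {yb k})

theorem exact_j_q : Function.Exact (j k) (q k) := by
  intro a
  constructor
  · intro ha
    have : a ∈ Ideal.span {yb k} := (Submodule.Quotient.mk_eq_zero _).mp ha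
    rw [Ideal.mem_span_singleton'] at this
    obtain ⟨b, rfl⟩ := this
    exact ⟨Submodule.Quotient.mk b, by rw [j_mk, mul_comm]⟩
  · rintro ⟨z, rfl⟩
    obtain ⟨b, rfl⟩ := Submodule.Quotient.mk_surjective _ z
    rw [j_mk]
    exact (Submodule.Quotient.mk_eq_zero _).mpr
      (Ideal.mul_mem_right _ _ (Ideal.subset_span rfl))

end aux

section generic

universe w v' u'

variable {k : Type*} [Field k] {C : Type u'} [Category.{v'} C] [Abelian C] [Linear k C]
  [HasExt.{w} C]

theorem finrank_ext_one_eq_one {S : ShortComplex C} (hS : S.ShortExact) [Projective S.X₂]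
    (H1 : ∀ φ : S.X₁ ⟶ S.X₁, ∃ (c : k) (ψ : S.X₂ ⟶ S.X₁), φ = c • 𝟙 _ + S.f ≫ ψ)
    (H2 : ∀ ψ : S.X₂ ⟶ S.X₁, S.f ≫ ψ ≠ 𝟙 _) :
    Module.finrank k (Abelian.Ext.{w} S.X₃ S.X₁ 1) = 1 := by
  have he₀ : hS.extClass.comp (Abelian.Ext.mk₀ (𝟙 _)) (show 1 + 0 = 1 by rfl) ≠ 0 := by
    intro h0
    obtain ⟨x₂, hx₂⟩ := Abelian.Ext.contravariant_sequence_exact₁ hS _
      (Abelian.Ext.mk₀ (𝟙 _)) (show 1 + 0 = 1 by rfl) h0
    obtain ⟨ψ, rfl⟩ := (Abelian.Ext.mk₀_bijective _ _).2 x₂
    rw [Abelian.Ext.mk₀_comp_mk₀] at hx₂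
    exact H2 ψ ((Abelian.Ext.mk₀_bijective _ _).1 hx₂)
  rw [finrank_eq_one_iff_of_nonzero' _ he₀]
  intro w
  obtain ⟨x₁, hx₁⟩ := Abelian.Ext.contravariant_sequence_exact₃ hS _ w
    (Abelian.Ext.eq_zero_of_projective _) (show 1 + 0 = 1 by rfl)
  obtain ⟨φ, rfl⟩ := (Abelian.Ext.mk₀_bijective _ _).2 x₁
  obtain ⟨c, ψ, hφ⟩ := H1 φ
  refine ⟨c, ?_⟩
  rw [← hx₁, hφ, Abelian.Ext.mk₀_add, Abelian.Ext.comp_add, Abelian.Ext.mk₀_smul,
    Abelian.Ext.comp_smul, ← Abelian.Ext.mk₀_comp_mk₀]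
  rw [hS.extClass_comp_assoc]
  exact (add_zero _).symm

end generic

section main

variable (k : Type u) [Field k]

open Groth.Agent.H70.Planar in
theorem main : Module.finrank k (Abelian.Ext (ModuleCat.of (A k) (A k ⧸ Ideal.span {yb k}))
    (ModuleCat.of (A k) (A k ⧸ Ideal.span {xb k})) 1) = 1 := by
  have hS := shortExact_of_exact (j k) (q k) (j_injective k) (Submodule.mkQ_surjective _)
    (exact_j_q k)
  haveI : Projective (ModuleCat.of (A k) (A k)) :=
    ModuleCat.projective_of_free (Module.Basis.singleton Unit (A k))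
  refine finrank_ext_one_eq_one (k := k) hS ?_ ?_
  · intro φ
    obtain ⟨a, ha⟩ := Submodule.Quotient.mk_surjective _
      (φ.hom (Submodule.Quotient.mk (1 : A k)))
    obtain ⟨c, a₁, a₂, rfl⟩ := exists_decomp_A k a
    refine ⟨c, ModuleCat.ofHom (a₂ • Submodule.mkQ (Ideal.span {xb k})), ?_⟩
    apply ModuleCat.hom_ext
    apply LinearMap.ext
    intro z
    obtain ⟨t, rfl⟩ := Submodule.Quotient.mk_surjective _ z
    have h1 : φ.hom (Submodule.Quotient.mk t) = t • φ.hom (Submodule.Quotient.mk 1) := by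
      rw [← map_smul, ← Submodule.Quotient.mk_smul, smul_eq_mul, mul_one]
    rw [h1, ← ha]
    change _ = algebraMap k (A k) c • (Submodule.Quotient.mk t : A k ⧸ Ideal.span {xb k}) +
      a₂ • Submodule.Quotient.mk (yb k * t)
    rw [← Submodule.Quotient.mk_smul, ← Submodule.Quotient.mk_smul, ← Submodule.Quotient.mk_smul,
      ← Submodule.Quotient.mk_add, Submodule.Quotient.eq, Ideal.mem_span_singleton']
    refine ⟨t * a₁, ?_⟩
    simp only [smul_eq_mul]
    ring
  · intro ψ h1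
    have h2 := congrArg (fun φ => φ.hom (Submodule.Quotient.mk (1 : A k))) h1
    change ψ.hom (j k (Submodule.Quotient.mk 1)) = Submodule.Quotient.mk 1 at h2
    rw [j_mk, mul_one] at h2
    have h3 : ψ.hom (yb k) = yb k • ψ.hom 1 := by
      rw [← map_smul, smul_eq_mul, mul_one]
    rw [h3] at h2
    obtain ⟨b, hb⟩ := Submodule.Quotient.mk_surjective _ (ψ.hom 1)
    rw [← hb, ← Submodule.Quotient.mk_smul, Submodule.Quotient.eq, Ideal.mem_span_singleton'] at h2
    obtain ⟨a, ha⟩ := h2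
    apply xb_yb_ne_one k (-a) b
    rw [smul_eq_mul] at ha
    linear_combination (-1 : A k) * ha

end main

/-- Let k be a field and A = k[[x,y]]/(xy) the complete local ring of a node, with branch rings A/(y)
and A/(x) viewed as A-modules. Then the first Ext group Ext¹_A(A/(y), A/(x)) has dimension one over
k. (The published statement is for the local ring at a node of a reduced curve over an algebraically
closed field of characteristic zero, a node being a point whose complete local ring is A; this row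
states the case of the complete local ring A itself, over an arbitrary field.) -/
theorem result (k : Type u) [Field k] : Module.finrank k (Abelian.Ext (ModuleCat.of (MvPowerSeries (Fin 2) k ⧸ Ideal.span {(MvPowerSeries.X (0 : Fin 2) : MvPowerSeries (Fin 2) k) * MvPowerSeries.X (1 : Fin 2)}) ((MvPowerSeries (Fin 2) k ⧸ Ideal.span {(MvPowerSeries.X (0 : Fin 2) : MvPowerSeries (Fin 2) k) * MvPowerSeries.X (1 : Fin 2)}) ⧸ Ideal.span {Ideal.Quotient.mk (Ideal.span {(MvPowerSeries.X (0 : Fin 2) : MvPowerSeries (Fin 2) k) * MvPowerSeries.X (1 : Fin 2)}) (MvPowerSeries.X (1 : Fin 2))})) (ModuleCat.of (MvPowerSeries (Fin 2) k ⧸ Ideal.span {(MvPowerSeries.X (0 : Fin 2) : MvPowerSeries (Fin 2) k) * MvPowerSeries.X (1 : Fin 2)}) ((MvPowerSeries (Fin 2) k ⧸ Ideal.span {(MvPowerSeries.X (0 : Fin 2) : MvPowerSeries (Fin 2) k) * MvPowerSeries.X (1 : Fin 2)}) ⧸ Ideal.span {Ideal.Quotient.mk (Ideal.span {(MvPowerSeries.X (0 : Fin 2) : MvPowerSeries (Fin 2) k) * MvPowerSeries.X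 (1 : Fin 2)}) (MvPowerSeries.X (0 : Fin 2))})) 1) = 1 := by
  exact main k



end Groth.Agent.S13993
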