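import Groth.Statements.S13994
import Groth.Agent.H70.Planar.MF
import Groth.Agent.H70.Planar.SES
import Groth.Agent.H70.Planar.TorSplice
import Groth.Agent.H70.FC.Tor1

set_option autoImplicit false
universe u
open CategoryTheory
open CAlg

namespace Groth.Agent.S13994

open Groth.Agent.H70.Planar IsLocalRing TensorProduct

theorem socleFree_of_injective {R : Type*} [CommRing R] [IsLocalRing R] {W W' : Type*}
    [AddCommGroup W] [Module R W] [AddCommGroup W'] [Module R W'] (g : W →ₗ[R] W')
    (hg : Function.Injective g) (h : SocleFree R W') : SocleFree R W := by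
  intro z hz
  apply hg
  rw [map_zero]
  apply h
  intro r hr
  rw [← map_smul, hz r hr, map_zero]

theorem socleFree_pi {R : Type*} [CommRing R] [IsLocalRing R] {ι : Type*} {W : Type*}
    [AddCommGroup W] [Module R W] (h : SocleFree R W) : SocleFree R (ι → W) := by
  intro z hz
  funext i
  apply h
  intro r hr
  have := congrFun (hz r hr) i
  simpa using this

/-- a reduced local quotient of a two-dimensional regular local ring by a principal ideal has no
socle -/
theorem socleFree_self (S : Type u) [CommRing S] [IsRegularLocalRing S] (hS : ringKrullDim S = 2)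
    (f : S) (R : Type u) [CommRing R] [IsLocalRing R] [IsReduced R] (π : S →+* R)
    (hπ : Function.Surjective π) (hker : RingHom.ker π = Ideal.span {f}) : SocleFree R R := by
  intro z hz
  by_cases hzm : z ∈ maximalIdeal R
  · have h2 : z * z = 0 := hz z hzm
    have : IsNilpotent z := ⟨2, by rw [pow_two, h2]⟩
    exact IsReduced.eq_zero z this
  · exfalso
    have hzu : IsUnit z := by
      by_contra h
      exact hzm ((IsLocalRing.mem_maximalIdeal z).mpr h)
    have hbot : maximalIdeal R = ⊥ := by
      rw [eq_bot_iff]
      intro r hr
      have h3 : r * z = 0 := hz r hr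
      exact (Submodule.mem_bot R).mpr (hzu.mul_left_eq_zero.mp h3)
    have hmap := IsLocalRing.map_maximalIdeal_of_surjective π hπ
    rw [hbot, Ideal.map_eq_bot_iff_le_ker, hker] at hmap
    have hle : Ideal.span {f} ≤ maximalIdeal S := by
      apply IsLocalRing.le_maximalIdeal
      rw [← hker]
      exact RingHom.ker_ne_top π
    have heq : maximalIdeal S = Ideal.span {f} := le_antisymm hmap hle
    have hsf : ((maximalIdeal S).spanFinrank : WithBot ℕ∞) = 2 := by
      have := Groth.Agent.Lead.RLR.ringKrullDim_eq_spanFinrank S
      rw [hS] at this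
      exact this.symm
    have hsf' : (maximalIdeal S).spanFinrank = 2 := by exact_mod_cast hsf
    have hle1 : (maximalIdeal S).spanFinrank ≤ 1 := by
      rw [heq]
      refine (Submodule.spanFinrank_span_le_ncard_of_finite (Set.finite_singleton f)).trans ?_
      rw [Set.ncard_singleton]
    omega

/-- Let S be a regular local ring of Krull dimension two, f a non-zero element of S and R the quotient
of S by f, assumed reduced. Let M and N be finitely generated R-modules, each admitting a
non-zero-divisor in the maximal ideal of R, annihilated by ideals I and J respectively, where I + J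
contains a power of the maximal ideal. Then Tor₁^R(M, Hom_R(N, R)) = 0. (The published claim is made
for the stalks at a common point of two subcurves without common component of a reduced projective
curve over a characteristic-zero algebraically closed field, the point being a planar singularity,
and the stalks of torsion-free sheaves supported on them; this row states it over an arbitrary
two-dimensional regular local ring. Tor is computed by resolving the second argument.) -/
theorem result (S : Type u) [CommRing S] [IsRegularLocalRing S] (hS : ringKrullDim S = 2) (f : S) (hf : f ≠ 0) (R : Type u) [CommRing R] [IsLocalRing R] [IsReduced R] (π : S →+* R) (hπ : Function.Surjective π) (hker : RingHom.ker π = Ideal.span {f}) (I J : Ideal R) (n : ℕ) (hIJ : IsLocalRing.maximalIdeal R ^ n ≤ I ⊔ J) (M N : Type u) [AddCommGroup M] [Module R M] [Module.Finite R M] [AddCommGroup N] [Module R N] [Module.Finite R N] (hI : I ≤ Module.annihilator R M) (hJ : J ≤ Module.annihilator R N) (x : R) (hx : x ∈ IsLocalRing.maximalIdeal R) (hxM : IsSMulRegular M x) (y : R) (hy : y ∈ IsLocalRing.maximalIdeal R) (hyN : IsSMulRegular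 N y) : Limits.IsZero (((Tor (ModuleCat.{u} R) 1).obj (ModuleCat.of R M)).obj (ModuleCat.of R (Module.Dual R N))) := by
  classical
  have hMsf : SocleFree R M := socleFree_of_isSMulRegular x hx hxM
  obtain ⟨a, b, p, A, hp, hAp, hB⟩ := exists_presentation S hS R π hπ M hMsf
  have hRsf : SocleFree R R := socleFree_self S hS f R π hπ hker
  have hN'sf : SocleFree R (Module.Dual R N) := by
    intro φ hφ
    ext k
    apply hRsf
    intro r hr
    have := LinearMap.congr_fun (hφ r hr) k
    simpa using this
  have hWsf : SocleFree R (Module.Dual R N ⊗[R] (Fin b → R)) :=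
    socleFree_of_injective (TensorProduct.piScalarRight R R (Module.Dual R N) (Fin b)).toLinearMap
      (LinearEquiv.injective _) (socleFree_pi hN'sf)
  -- the surjection `R^b → ker p`
  let A' : (Fin b → R) →ₗ[R] LinearMap.ker p :=
    A.codRestrict (LinearMap.ker p) (fun w => hAp ▸ LinearMap.mem_range_self A w)
  have hA'surj : Function.Surjective A' := by
    rintro ⟨v, hv⟩
    rw [← hAp] at hv
    obtain ⟨w, rfl⟩ := hv
    exact ⟨w, rfl⟩
  have hA'A : (LinearMap.ker p).subtype ∘ₗ A' = A := LinearMap.subtype_comp_codRestrict _ _ _
  have hJkill : ∀ j ∈ J, ∀ v : Module.Dual R N ⊗[R] (Fin b → R), j • v = 0 := by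
    intro j hj v
    induction v using TensorProduct.induction_on with
    | zero => simp
    | tmul φ w =>
      have : j • φ = 0 := by
        ext k
        have hk : j • k = 0 := Module.mem_annihilator.mp (hJ hj) k
        rw [LinearMap.smul_apply, ← map_smul, hk, map_zero, LinearMap.zero_apply]
      rw [TensorProduct.smul_tmul', this, TensorProduct.zero_tmul]
    | add v₁ v₂ h₁ h₂ => rw [smul_add, h₁, h₂, add_zero]
  -- injectivity of `N' ⊗ ker p → N' ⊗ R^a`
  have hinj : Function.Injective ((LinearMap.ker p).subtype.lTensor (Module.Dual R N)) := by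
    rw [injective_iff_map_eq_zero]
    intro z hz
    obtain ⟨v, rfl⟩ := LinearMap.lTensor_surjective (Module.Dual R N) hA'surj z
    rw [← LinearMap.comp_apply, ← LinearMap.lTensor_comp, hA'A] at hz
    have hv : v = 0 := by
      apply eq_zero_of_pow_smul hWsf n
      intro r hr
      obtain ⟨i, hi, j, hj, rfl⟩ := Submodule.mem_sup.mp (hIJ hr)
      have h1 : i • v = 0 := by
        obtain ⟨B, hBA⟩ := hB i (hI hi)
        have h3 : LinearMap.lTensor (Module.Dual R N) (B ∘ₗ A) v = 0 := by
          rw [LinearMap.lTensor_comp, LinearMap.comp_apply, hz, map_zero]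
        rw [hBA, LinearMap.lTensor_smul, LinearMap.lTensor_id] at h3
        simpa using h3
      have h2 : j • v = 0 := hJkill j hj v
      rw [add_smul, h1, h2, add_zero]
    rw [hv, map_zero]
  have h1 : Groth.Agent.H70.FC.T1.Tor1Zero R (Module.Dual R N) M :=
    (Groth.Agent.H70.FC.T1.tor1Zero_iff_right (LinearMap.ker p).subtype p Subtype.val_injective
      (LinearMap.exact_subtype_ker_map p) hp).mpr hinj
  have h2 : Groth.Agent.H70.FC.T1.Tor1Zero R M (Module.Dual R N) :=
    Groth.Agent.H70.FC.T1.tor1Zero_comm.mp h1
  -- a free presentation of `N'`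
  let q : (Module.Dual R N →₀ R) →ₗ[R] Module.Dual R N := Finsupp.linearCombination R id
  have hq : Function.Surjective q := Finsupp.linearCombination_surjective R Function.surjective_id
  have hSES := shortExact_of_exact (A := R) (M₁ := LinearMap.ker q)
    (M₂ := (Module.Dual R N →₀ R)) (M₃ := Module.Dual R N) (LinearMap.ker q).subtype q
    Subtype.val_injective hq (LinearMap.exact_subtype_ker_map q)
  haveI : Projective (ModuleCat.of R (Module.Dual R N →₀ R)) :=
    ModuleCat.projective_of_free (Finsupp.basisSingleOne (R := R) (ι := Module.Dual R N))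
  refine (TS.isZero_tor_one_iff_injective hSES (ModuleCat.of R M)).mpr ?_
  have h3 := h2 (LinearMap.ker q) (Module.Dual R N →₀ R) (LinearMap.ker q).subtype q
    Subtype.val_injective (LinearMap.exact_subtype_ker_map q) hq
  exact h3

end Groth.Agent.S13994
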