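import Groth.Statements.S13995
import Mathlib

set_option autoImplicit false
universe u
open CAlg

namespace Groth.Agent.S13995

theorem result (R : Type u) [CommRing R] [IsNoetherianRing R] [IsReduced R] (M : Type u) [AddCommGroup M] [Module R M] [Module.Finite R M] (hM : associatedPrimes R M ⊆ minimalPrimes R) (hrk : ∀ p : PrimeSpectrum R, p.asIdeal ∈ minimalPrimes R → Module.finrank (Localization.AtPrime p.asIdeal) (LocalizedModule p.asIdeal.primeCompl M) = 1) (Q : Type u) [AddCommGroup Q] [Module R Q] [Module.Finite R Q] (hQ : associatedPrimes R Q ⊆ minimalPrimes R) (g : M →ₗ[R] Q) (hg : Function.Surjective g) : LinearMap.ker g = ⨅ p ∈ {p : PrimeSpectrum R | p.asIdeal ∈ minimalPrimes R ∧ p ∈ Module.support R Q}, LinearMap.ker (LocalizedModule.mkLinearMap p.asIdeal.primeCompl M) := by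
  apply le_antisymm
  · refine le_iInf₂ fun p hp => ?_
    obtain ⟨hpmin, hpsupp⟩ := hp
    intro m hm
    rw [LinearMap.mem_ker] at hm ⊢
    have hprime : p.asIdeal.IsPrime := p.2
    have : Ring.KrullDimLE 0 (Localization.AtPrime p.asIdeal) := .of_isLocalization _ hpmin _
    let _ : Field (Localization.AtPrime p.asIdeal) :=
      Ring.KrullDimLE.isField_of_isReduced.toField
    let S := p.asIdeal.primeCompl
    let gp : LocalizedModule S M →ₗ[Localization.AtPrime p.asIdeal] LocalizedModule S Q :=
      LocalizedModule.map S g
    have hgp : Function.Surjective gp := LocalizedModule.map_surjective S g hg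
    have hnt : Nontrivial (LocalizedModule S Q) := hpsupp
    have h1 : Module.finrank (Localization.AtPrime p.asIdeal) (LocalizedModule S M) = 1 :=
      hrk p hpmin
    have hrn := LinearMap.finrank_range_add_finrank_ker gp
    rw [h1, LinearMap.range_eq_top.2 hgp, finrank_top] at hrn
    have hpos : 0 < Module.finrank (Localization.AtPrime p.asIdeal) (LocalizedModule S Q) :=
      Module.finrank_pos
    have hker0 : Module.finrank (Localization.AtPrime p.asIdeal) (LinearMap.ker gp) = 0 := by
      omega
    have hker : LinearMap.ker gp = ⊥ := Submodule.finrank_eq_zero.1 hker0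
    have hmem : LocalizedModule.mkLinearMap S M m ∈ LinearMap.ker gp := by
      rw [LinearMap.mem_ker]
      change gp (LocalizedModule.mk m 1) = 0
      rw [LocalizedModule.map_mk, hm, LocalizedModule.zero_mk]
    rw [hker] at hmem
    exact hmem
  · intro m hm
    simp only [Submodule.mem_iInf] at hm
    rw [LinearMap.mem_ker]
    by_contra hne
    obtain ⟨P, hP, hle⟩ := exists_le_isAssociatedPrime_of_isNoetherianRing R (g m) hne
    have hPmin : P ∈ minimalPrimes R := hQ hP
    have hPprime : P.IsPrime := hP.isPrime
    let p : PrimeSpectrum R := ⟨P, hPprime⟩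
    have hsupp : p ∈ Module.support R Q := by
      rw [Module.mem_support_iff']
      obtain ⟨y, hy⟩ := hP.2
      refine ⟨y, fun r hr h0 => hr ?_⟩
      change r ∈ P
      rw [hy]
      apply Ideal.le_radical
      rw [Submodule.mem_colon_singleton]
      simpa using h0
    have hmem := hm p ⟨hPmin, hsupp⟩
    rw [LocalizedModule.mem_ker_mkLinearMap_iff] at hmem
    obtain ⟨s, hs, hsm⟩ := hmem
    apply hs
    change s ∈ P
    apply hle
    rw [Submodule.mem_colon_singleton]
    rw [Submodule.mem_bot, ← map_smul, hsm, map_zero]

end Groth.Agent.S13995
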