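import Groth.Statements.S13996
import Mathlib.Tactic
import Mathlib.RingTheory.Ideal.AssociatedPrime.Finiteness
import Mathlib.RingTheory.Regular.IsSMulRegular
import Mathlib.RingTheory.Ideal.Height
import Mathlib.RingTheory.Ideal.MinimalPrime.Localization

set_option autoImplicit false
universe u

namespace Groth.Agent.S13996

theorem smulRegular_iff_mem_nzd {R : Type u} [CommRing R] (r : R) :
    IsSMulRegular R r ↔ r ∈ nonZeroDivisors R := by
  rw [← isLeftRegular_iff, isLeftRegular_iff_isRegular, isRegular_iff_mem_nonZeroDivisors]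

theorem exists_regular (R : Type u) [CommRing R] [IsLocalRing R] [IsNoetherianRing R] [IsReduced R]
    (hdim : ringKrullDim R = 1) : ∃ r : R, r ∈ IsLocalRing.maximalIdeal R ∧ IsSMulRegular R r := by
  by_contra hcon
  simp only [not_exists, not_and] at hcon
  have hdisj : Disjoint ((IsLocalRing.maximalIdeal R : Ideal R) : Set R) (nonZeroDivisors R) := by
    rw [Set.disjoint_left]
    intro r hr hr2
    exact hcon r hr ((smulRegular_iff_mem_nzd r).mpr hr2)
  have hlt := Ideal.bot_lt_annihilator_of_disjoint_nonZeroDivisors hdisj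
  obtain ⟨x, hx, hx0⟩ := SetLike.exists_of_lt hlt
  have hx0' : x ≠ 0 := by simpa using hx0
  have hann : ∀ y ∈ IsLocalRing.maximalIdeal R, x * y = 0 := by
    intro y hy
    have := Module.mem_annihilator.mp hx ⟨y, hy⟩
    have h2 := congrArg Subtype.val this
    simpa using h2
  by_cases hxm : x ∈ IsLocalRing.maximalIdeal R
  · have : x * x = 0 := hann x hxm
    have hnil : IsNilpotent x := ⟨2, by rw [pow_two]; exact this⟩
    exact hx0' hnil.eq_zero
  · have hu : IsUnit x := by
      by_contra h
      exact hxm ((IsLocalRing.mem_maximalIdeal x).mpr h)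
    have hbot : IsLocalRing.maximalIdeal R = ⊥ := by
      rw [eq_bot_iff]
      intro y hy
      have := hann y hy
      exact (Submodule.mem_bot R).mpr ((hu.mul_right_eq_zero).mp this)
    have h1 := IsLocalRing.maximalIdeal_height_eq_ringKrullDim (R := R)
    rw [hbot, Ideal.height_bot, hdim] at h1
    norm_num at h1

theorem result (R : Type u) [CommRing R] [IsLocalRing R] [IsNoetherianRing R] [IsReduced R] (hdim : ringKrullDim R = 1) (M : Type u) [AddCommGroup M] [Module R M] [Module.Finite R M] [Nontrivial M] : (∀ r : R, r ∈ IsLocalRing.maximalIdeal R → IsSMulRegular R r → IsSMulRegular M r) ↔ (∃ x : R, x ∈ IsLocalRing.maximalIdeal R ∧ IsSMulRegular M x) := by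
  constructor
  · intro h
    obtain ⟨r, hr, hreg⟩ := exists_regular R hdim
    exact ⟨r, hr, h r hr hreg⟩
  · rintro ⟨x, hxm, hx⟩ r hrm hr
    have hU := biUnion_associatedPrimes_eq_compl_regular R M
    by_contra hnot
    have hr' : r ∈ ⋃ p ∈ associatedPrimes R M, (p : Set R) := by
      rw [hU]; exact hnot
    simp only [Set.mem_iUnion, SetLike.mem_coe, exists_prop] at hr'
    obtain ⟨p, hp, hrp⟩ := hr'
    have : p.IsPrime := hp.isPrime
    have hxp : x ∉ p := by
      intro hxp
      have : x ∈ ⋃ p ∈ associatedPrimes R M, (p : Set R) := by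
        simp only [Set.mem_iUnion, SetLike.mem_coe, exists_prop]
        exact ⟨p, hp, hxp⟩
      rw [hU] at this
      exact this hx
    have hlt : p < IsLocalRing.maximalIdeal R := by
      refine lt_of_le_of_ne (IsLocalRing.le_maximalIdeal (Ideal.IsPrime.ne_top')) ?_
      intro h
      exact hxp (h ▸ hxm)
    have h1 := IsLocalRing.maximalIdeal_height_eq_ringKrullDim (R := R)
    rw [hdim] at h1
    have h1' : (IsLocalRing.maximalIdeal R).height = 1 := by exact_mod_cast h1
    have : (IsLocalRing.maximalIdeal R).FiniteHeight := by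
      rw [Ideal.finiteHeight_iff]
      right
      rw [h1']; exact ENat.one_ne_top
    have h2 := Ideal.height_strict_mono_of_isPrime_of_isPrime hlt
    rw [h1'] at h2
    have h3 : p.height = 0 := by
      exact Order.lt_one_iff.mp h2
    rw [Ideal.height_eq_zero_iff] at h3
    exact notMem_nonZeroDivisors_of_mem_mem_minimalPrimes hrp h3 ((smulRegular_iff_mem_nzd r).mp hr)

end Groth.Agent.S13996
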