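import Groth.Statements.S13998
import Mathlib
import Groth.Agent.H7.NilpotentFG
import Groth.Agent.H7.ThickeningAffine
import Groth.Agent.H7.ThickeningFinite

set_option autoImplicit false
universe u
open FlatMor

namespace Groth.Agent.S13998

open AlgebraicGeometry CategoryTheory in
/-- Consider a cartesian square of schemes F₀ ≫ j = i ≫ F (so Y₀ = Y ×_X X₀) in which i : Y₀ ⟶ Y and j :
X₀ ⟶ X are closed immersions surjective on points whose ideals are locally nilpotent (nilpotent on
every affine open), and suppose moreover that the ideal of j is of finite type (finitely generated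
on every affine open of X). Then F : Y ⟶ X is finite if and only if F₀ : Y₀ ⟶ X₀ is finite. -/
theorem result {X X₀ Y Y₀ : Scheme.{u}}
    (F : Y ⟶ X) (F₀ : Y₀ ⟶ X₀) (i : Y₀ ⟶ Y) (j : X₀ ⟶ X)
    (hi : MoreMor.IsThickening i) (hj : MoreMor.IsThickening j)
    (hinil : ∀ U : Y.affineOpens, IsNilpotent (i.ker.ideal U))
    (hjnil : ∀ U : X.affineOpens, IsNilpotent (j.ker.ideal U))
    (hfg : ∀ U : X.affineOpens, (j.ker.ideal U).FG)
    (hc : IsPullback F₀ i j F) :
    IsFinite F ↔ IsFinite F₀ := by
  have hcj := hj.1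
  have hci := hi.1
  constructor
  · intro hF
    exact MorphismProperty.of_isPullback (P := @IsFinite) hc.flip hF
  · intro hF₀
    have hLFT : LocallyOfFiniteType F := by
      rw [HasRingHomProperty.iff_appLE (P := @LocallyOfFiniteType)]
      intro V U e
      obtain ⟨hVa, hUa, e', hpo, hsurj, -⟩ :=
        Groth.Agent.H7.thickening_affine_data hj hc.flip V.2 U.2 e
      obtain ⟨hβsurj, hkerβ⟩ := Groth.Agent.H7.surjective_and_ker_of_isPushout hpo hsurj
      have hkerj : RingHom.ker (j.app V.1).hom = j.ker.ideal V := (Scheme.Hom.ker_apply j V).symm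
      have hfgβ : (RingHom.ker (i.app U.1).hom).FG := by
        rw [hkerβ, hkerj]
        exact (hfg V).map _
      have hnilβ : IsNilpotent (RingHom.ker (i.app U.1).hom) := by
        rw [hkerβ, hkerj]
        obtain ⟨n, hn⟩ := hjnil V
        refine ⟨n, ?_⟩
        rw [← Ideal.map_pow, hn]
        exact Ideal.map_bot
      refine Groth.Agent.H7.ringHom_finiteType_of_surjective_of_fg_of_isNilpotent
        (F.appLE V.1 U.1 e).hom (i.app U.1).hom hβsurj hfgβ hnilβ ?_
      rw [← CommRingCat.hom_comp, hpo.w, CommRingCat.hom_comp]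
      refine RingHom.FiniteType.comp ?_ (RingHom.FiniteType.of_surjective _ hsurj)
      exact HasRingHomProperty.appLE @LocallyOfFiniteType F₀ inferInstance ⟨_, hVa⟩ ⟨_, hUa⟩ e'
    exact Groth.Agent.H7.isFinite_of_thickening i j F₀ F hj hc.flip

end Groth.Agent.S13998
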