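import Groth.Statements.S1400
import Groth.Agent.H7.IndQuasiAffine

set_option autoImplicit false
universe u
open FlatMor

namespace Groth.Agent.S1400

open AlgebraicGeometry CategoryTheory Limits in
/-- The base change of an ind-quasi-affine morphism is ind-quasi-affine. -/
theorem result {X S X' S' : Scheme.{u}} (f : X ⟶ S) (f' : X' ⟶ S') (g' : X' ⟶ X) (g : S' ⟶ S)
    (hc : IsPullback g' f' f g) (hf : MoreMor.IsIndQuasiAffineHom f) : MoreMor.IsIndQuasiAffineHom f' := by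
  rw [Groth.Agent.H7.isIndQuasiAffineHom_iff] at hf ⊢
  intro T j _ _ V' hV' hj
  have hjV : ∀ x : T, (j ≫ f') x ∈ V' := fun x ↦ by
    rw [Scheme.Hom.comp_apply]; exact hj x
  have hw : ∀ z : X', f (g' z) = g (f' z) := fun z ↦ by
    rw [← Scheme.Hom.comp_apply, ← Scheme.Hom.comp_apply, hc.w]
  refine Groth.Agent.H7.isQuasiAffine_of_forall_exists_preimage_basicOpen (j ≫ f') V' hjV fun x ↦ ?_
  obtain ⟨_, ⟨W, hW, rfl⟩, hxW, -⟩ := S.isBasis_affineOpens.exists_subset_of_mem_open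
    (Set.mem_univ (g (f' (j x)))) isOpen_univ
  obtain ⟨r, hr, hxr⟩ := hV'.exists_basicOpen_le (V := g ⁻¹ᵁ W) ⟨f' (j x), hxW⟩ (hj x)
  have hxr' : (j ≫ f') x ∈ S'.basicOpen r := by
    rw [Scheme.Hom.comp_apply]; exact hxr
  refine ⟨r, hxr', ?_⟩
  have : CompactSpace ((j ≫ f') ⁻¹ᵁ S'.basicOpen r : Scheme.{u}) :=
    Groth.Agent.H7.compactSpace_preimage_basicOpen (j ≫ f') V' hjV r
  have hmem : ∀ y : ((j ≫ f') ⁻¹ᵁ S'.basicOpen r : Scheme.{u}),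
      f' ((((j ≫ f') ⁻¹ᵁ S'.basicOpen r).ι ≫ j) y) ∈ S'.basicOpen r := fun y ↦ by
    have h1 : (j ≫ f') (((j ≫ f') ⁻¹ᵁ S'.basicOpen r).ι y) ∈ S'.basicOpen r := y.2
    rw [Scheme.Hom.comp_apply] at h1 ⊢
    exact h1
  have hK : IsCompact (Set.range ((((j ≫ f') ⁻¹ᵁ S'.basicOpen r).ι ≫ j) ≫ g')) :=
    isCompact_range (Scheme.Hom.continuous _)
  have hKU : Set.range ((((j ≫ f') ⁻¹ᵁ S'.basicOpen r).ι ≫ j) ≫ g') ⊆ (f ⁻¹ᵁ W : Set X) := by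
    rintro _ ⟨y, rfl⟩
    have h2 : g (f' ((((j ≫ f') ⁻¹ᵁ S'.basicOpen r).ι ≫ j) y)) ∈ W := hr (hmem y)
    rw [← hw] at h2
    rw [Scheme.Hom.comp_apply]
    exact h2
  obtain ⟨U₀', hU₀c, hU₀o, hKU₀, hU₀W⟩ :=
    PrespectralSpace.exists_isCompact_and_isOpen_between hK (f ⁻¹ᵁ W).2 hKU
  obtain ⟨U₀, rfl⟩ : ∃ U₀ : X.Opens, (U₀ : Set X) = U₀' := ⟨⟨U₀', hU₀o⟩, rfl⟩
  have : CompactSpace U₀ := isCompact_iff_compactSpace.mp hU₀c
  have : U₀.toScheme.IsQuasiAffine := hf U₀.ι W hW (fun y ↦ hU₀W y.2)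
  refine Groth.Agent.H7.isQuasiAffine_of_isPullback_of_isImmersion hc U₀ W hW (S'.basicOpen r)
    (hV'.basicOpen r) hU₀W hr (((j ≫ f') ⁻¹ᵁ S'.basicOpen r).ι ≫ j) (fun y ↦ ?_) hmem
  have h3 := hKU₀ ⟨y, rfl⟩
  rw [Scheme.Hom.comp_apply] at h3
  exact h3

end Groth.Agent.S1400
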