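import Groth.Statements.S14000
import Mathlib

set_option autoImplicit false
universe u
open Perf

namespace Groth.Agent.S14000

section Abstract

variable {R : Type u} [CommRing R] [IsLocalRing R]
  (M : ℤ → Type u) [∀ i, AddCommGroup (M i)] [∀ i, Module R (M i)]
  [∀ i, Module.Finite R (M i)] [∀ i, Module.Projective R (M i)]
  (f : ∀ i, M i →ₗ[R] M (i + 1))

include f in
/-- key step of the dévissage -/
theorem step (hex : ∀ i, Function.Exact (f i) (f (i + 1))) (i : ℤ)
    (h : Module.Projective R (LinearMap.range (f (i + 1)))) :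
    Module.Projective R (LinearMap.range (f i)) ∧
      Module.finrank R (M (i + 1)) =
        Module.finrank R (LinearMap.range (f i)) +
          Module.finrank R (LinearMap.range (f (i + 1))) := by
  set g := (f (i + 1)).rangeRestrict with hg
  have hgsurj : Function.Surjective g := LinearMap.surjective_rangeRestrict _
  obtain ⟨σ, hσ⟩ := g.exists_rightInverse_of_surjective (LinearMap.range_eq_top.2 hgsurj)
  have hker : LinearMap.ker g = LinearMap.range (f i) := by
    rw [hg, LinearMap.ker_rangeRestrict]; exact (LinearMap.exact_iff.1 (hex i))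
  have hexact : Function.Exact (LinearMap.ker g).subtype g := LinearMap.exact_subtype_ker_map g
  obtain ⟨e, he1, he2⟩ := hexact.splitSurjectiveEquiv (Submodule.subtype_injective _) ⟨σ, hσ⟩
  have hproj : Module.Projective R (LinearMap.ker g) := by
    refine Module.Projective.of_split (LinearMap.ker g).subtype
      ((LinearMap.fst R _ _) ∘ₗ e.toLinearMap) ?_
    rw [he1]
    ext x
    simp
  have hfin : Module.Finite R (LinearMap.ker g) := by
    rw [hker]; infer_instance
  haveI : Module.Free R (LinearMap.ker g) := Module.free_of_flat_of_isLocalRing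
  haveI : Module.Finite R (LinearMap.range (f (i + 1))) := inferInstance
  haveI : Module.Free R (LinearMap.range (f (i + 1))) := Module.free_of_flat_of_isLocalRing
  have hrank := e.finrank_eq
  rw [Module.finrank_prod] at hrank
  constructor
  · rw [← hker]; exact hproj
  · rw [hrank, hker]

include f in
theorem euler (hex : ∀ i, Function.Exact (f i) (f (i + 1))) (s : Finset ℤ)
    (hs : ∀ i, i ∉ s → Subsingleton (M i)) :
    (s.sum fun i => ((i.negOnePow : ℤˣ) : ℤ) * (Module.finrank R (M i) : ℤ)) = 0 := by
  obtain ⟨b, hb⟩ := s.bddAbove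
  have hsub : ∀ i, b < i → Subsingleton (M i) :=
    fun i hi => hs i (fun his => absurd (hb his) (not_le.2 hi))
  have hrange_sub : ∀ i, (Subsingleton (M i) ∨ Subsingleton (M (i + 1))) →
      Subsingleton (LinearMap.range (f i)) := by
    intro i hi
    rcases hi with hi | hi
    · refine ⟨fun x y => ?_⟩
      obtain ⟨x', hx'⟩ := x.2
      obtain ⟨y', hy'⟩ := y.2
      apply Subtype.ext
      rw [← hx', ← hy', Subsingleton.elim x' y']
    · exact ⟨fun x y => Subtype.ext (Subsingleton.elim _ _)⟩
  have hproj : ∀ k : ℕ, ∀ i : ℤ, b ≤ i + k → Module.Projective R (LinearMap.range (f i)) := by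
    intro k
    induction k with
    | zero =>
      intro i hi
      haveI := hrange_sub i (Or.inr (hsub (i + 1) (by simp at hi; omega)))
      infer_instance
    | succ k ih =>
      intro i hi
      exact (step M f hex i (ih (i + 1) (by push_cast at hi ⊢; omega))).1
  have hproj' : ∀ i, Module.Projective R (LinearMap.range (f i)) := fun i =>
    hproj (b - i).toNat i (by omega)
  set r : ℤ → ℤ := fun i => (Module.finrank R (LinearMap.range (f i)) : ℤ) with hr
  set m : ℤ → ℤ := fun i => (Module.finrank R (M i) : ℤ) with hm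
  have h1 : ∀ i, m (i + 1) = r i + r (i + 1) := by
    intro i
    simp only [hm, hr]
    exact_mod_cast (step M f hex i (hproj' (i + 1))).2
  have h1' : ∀ i, m i = r (i - 1) + r i := by
    intro i
    have := h1 (i - 1)
    rwa [sub_add_cancel] at this
  have hr0 : ∀ i, (i ∉ s ∨ i + 1 ∉ s) → r i = 0 := by
    intro i hi
    haveI := hrange_sub i (hi.imp (hs i) (hs (i + 1)))
    simp only [hr]
    rw [Module.finrank_zero_of_subsingleton]; rfl
  change (s.sum fun i => ((i.negOnePow : ℤˣ) : ℤ) * m i) = 0
  simp only [h1', mul_add, Finset.sum_add_distrib]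
  set T := s.filter (fun j => j + 1 ∈ s) with hT
  have hA : (s.sum fun i => ((i.negOnePow : ℤˣ) : ℤ) * r i) =
      T.sum fun j => ((j.negOnePow : ℤˣ) : ℤ) * r j := by
    rw [hT, Finset.sum_filter_of_ne]
    intro x hx hne
    by_contra hxs
    exact hne (by rw [hr0 x (Or.inr hxs), mul_zero])
  have hB : (s.sum fun i => ((i.negOnePow : ℤˣ) : ℤ) * r (i - 1)) =
      T.sum fun j => -(((j.negOnePow : ℤˣ) : ℤ) * r j) := by
    have h2 : (s.sum fun i => ((i.negOnePow : ℤˣ) : ℤ) * r (i - 1)) =
        (s.filter (fun i => i - 1 ∈ s)).sum fun i => ((i.negOnePow : ℤˣ) : ℤ) * r (i - 1) := by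
      rw [Finset.sum_filter_of_ne]
      intro x hx hne
      by_contra hxs
      exact hne (by rw [hr0 (x - 1) (Or.inl hxs), mul_zero])
    rw [h2]
    symm
    refine Finset.sum_nbij' (fun j => j + 1) (fun i => i - 1) ?_ ?_ ?_ ?_ ?_
    · intro j hj
      simp only [hT, Finset.mem_filter] at hj ⊢
      exact ⟨hj.2, by simpa using hj.1⟩
    · intro i hi
      simp only [hT, Finset.mem_filter] at hi ⊢
      exact ⟨hi.2, by simpa using hi.1⟩
    · intro j _; simp
    · intro i _; simp
    · intro j _
      simp only [add_sub_cancel_right, Int.negOnePow_succ, Units.val_neg, neg_mul]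
  rw [hA, hB, ← Finset.sum_add_distrib]
  simp

end Abstract

open CategoryTheory CategoryTheory.Limits in
/-- bridging lemma: vanishing of localized homology gives exactness up to denominators -/
theorem bridge {A : Type u} [CommRing A] (P : CochainComplex (ModuleCat.{u} A) ℤ)
    (S : Submonoid A) (i : ℤ)
    (h : Subsingleton (LocalizedModule S (P.homology (i + 1))))
    (z : P.X (i + 1)) (hz : (P.d (i + 1) (i + 1 + 1)).hom z = 0) :
    ∃ r ∈ S, ∃ w : P.X i, (P.d i (i + 1)).hom w = r • z := by
  rw [LocalizedModule.subsingleton_iff] at h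
  let T := P.sc' i (i + 1) (i + 1 + 1)
  let e₁ : P.homology (i + 1) ≅ T.homology :=
    P.homologyIsoSc' i (i + 1) (i + 1 + 1) (by simp) (by simp)
  let e₂ : T.homology ≅ T.moduleCatLeftHomologyData.H := T.moduleCatHomologyIso
  let e : P.homology (i + 1) ≃ₗ[A] T.moduleCatLeftHomologyData.H := (e₁ ≪≫ e₂).toLinearEquiv
  have hz' : z ∈ LinearMap.ker T.g.hom := hz
  let c : T.moduleCatLeftHomologyData.H :=
    Submodule.Quotient.mk (p := LinearMap.range T.moduleCatToCycles) ⟨z, hz'⟩
  obtain ⟨r, hr, hrc⟩ := h (e.symm c)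
  refine ⟨r, hr, ?_⟩
  have h2 : r • c = 0 := by
    have := congrArg e hrc
    rwa [map_smul, LinearEquiv.apply_symm_apply, map_zero] at this
  have h3 : r • (⟨z, hz'⟩ : LinearMap.ker T.g.hom) ∈ LinearMap.range T.moduleCatToCycles := by
    rw [← Submodule.Quotient.mk_eq_zero, Submodule.Quotient.mk_smul]
    exact h2
  obtain ⟨w, hw⟩ := h3
  refine ⟨w, ?_⟩
  have := congrArg Subtype.val hw
  exact this

open CategoryTheory CategoryTheory.Limits in
theorem result {A : Type u} [CommRing A]
    (P : CochainComplex (ModuleCat.{u} A) ℤ) (s : Finset ℤ)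
    (hP : ∀ i : ℤ, Module.Finite A (P.X i) ∧ Module.Projective A (P.X i))
    (hs : ∀ i : ℤ, i ∉ s → IsZero (P.X i))
    (hsupp : ∀ q : PrimeSpectrum A, q.asIdeal ∈ minimalPrimes A →
      ∀ i : ℤ, Subsingleton (LocalizedModule q.asIdeal.primeCompl (P.homology i))) :
    ∀ x : PrimeSpectrum A,
      (s.sum fun i => ((i.negOnePow : ℤˣ) : ℤ) * (Module.rankAtStalk (R := A) (P.X i) x : ℤ)) = 0 := by
  intro x
  haveI hfin : ∀ i, Module.Finite A (P.X i) := fun i => (hP i).1
  haveI hprj : ∀ i, Module.Projective A (P.X i) := fun i => (hP i).2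
  obtain ⟨q, hqmin, hqx⟩ := Ideal.exists_minimalPrimes_le (I := ⊥) (J := x.asIdeal) bot_le
  haveI hqp : q.IsPrime := hqmin.1.1
  let q' : PrimeSpectrum A := ⟨q, hqp⟩
  have hrank : ∀ i, Module.rankAtStalk (P.X i) x = Module.rankAtStalk (P.X i) q' :=
    fun i => (Module.rankAtStalk_eq_of_le_of_finite_of_flat (P.X i) (p := q') (q := x) hqx).symm
  simp only [hrank]
  let S := q.primeCompl
  let M : ℤ → Type u := fun i => LocalizedModule S (P.X i)
  let f : ∀ i, M i →ₗ[Localization.AtPrime q] M (i + 1) :=
    fun i => LocalizedModule.map S (P.d i (i + 1)).hom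
  have hfmk : ∀ (i : ℤ) (m : P.X i) (t : S),
      f i (LocalizedModule.mk m t) = LocalizedModule.mk ((P.d i (i + 1)).hom m) t :=
    fun i m t => LocalizedModule.map_mk S _ m t
  have hex : ∀ i, Function.Exact (f i) (f (i + 1)) := by
    intro i y
    constructor
    · intro hy
      induction y using LocalizedModule.induction_on with
      | h m t =>
        rw [hfmk, ← LocalizedModule.zero_mk t, LocalizedModule.mk_eq] at hy
        obtain ⟨c, hc⟩ := hy
        simp only [smul_zero, Submonoid.smul_def] at hc
        have hz : (P.d (i + 1) (i + 1 + 1)).hom (((c : A) * (t : A)) • m) = 0 := by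
          rw [map_smul, mul_smul]; exact hc
        obtain ⟨r, hr, w, hw⟩ := bridge P S i (hsupp q' hqmin (i + 1)) _ hz
        refine ⟨LocalizedModule.mk w (⟨r, hr⟩ * (c * t) * t), ?_⟩
        rw [hfmk, hw]
        have : r • ((c : A) * (t : A)) • m = ((⟨r, hr⟩ * (c * t) : S)) • m := by
          simp only [Submonoid.smul_def, Submonoid.coe_mul, mul_smul]
        rw [this, LocalizedModule.mk_cancel_common_left]
    · rintro ⟨y', rfl⟩
      induction y' using LocalizedModule.induction_on with
      | h m t =>
        rw [hfmk, hfmk]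
        have : (P.d (i + 1) (i + 1 + 1)).hom ((P.d i (i + 1)).hom m) = 0 := by
          have := P.d_comp_d i (i + 1) (i + 1 + 1)
          exact LinearMap.congr_fun (congrArg ModuleCat.Hom.hom this) m
        rw [this, LocalizedModule.zero_mk]
  have hsM : ∀ i, i ∉ s → Subsingleton (M i) := by
    intro i hi
    haveI : Subsingleton (P.X i) := ModuleCat.subsingleton_of_isZero (hs i hi)
    infer_instance
  exact euler M f hex s hsM

end Groth.Agent.S14000
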