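import Groth.Statements.S14003
import Groth.Agent.S2412
import Groth.Agent.Lead.Gabriel
import Groth.Agent.H17.K0.Basic
import Groth.Agent.H5.Stalk.Exact

set_option autoImplicit false
universe u
open CategoryTheory AlgebraicGeometry
open KZero

namespace Groth.Agent.S14003

set_option linter.style.haveILetI false

open CategoryTheory CategoryTheory.Limits AlgebraicGeometry in
/-- for an epimorphism `p : F ⟶ G` with `F_y` of length one and `G_y ≠ 0`, the stalk `G_y` has
length one and the kernel of `p` vanishes at `y` -/
theorem stalk_facts {X : Scheme.{u}} {F G : X.Modules} (p : F ⟶ G) [Epi p] (y : X)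
    (hlen : Module.length (X.presheaf.stalk y) (F.presheaf.stalk y) = 1)
    (hy : y ∈ CohB1.support G) :
    Module.length (X.presheaf.stalk y) (G.presheaf.stalk y) = 1 ∧
      y ∉ CohB1.support (kernel p) := by
  have hS : (ShortComplex.mk (kernel.ι p) p (kernel.condition p)).ShortExact :=
    { exact := ShortComplex.exact_kernel p
      mono_f := (inferInstance : Mono (kernel.ι p))
      epi_g := (inferInstance : Epi p) }
  have h := Groth.Agent.H5.Stalk.stalkFunctor_map_shortExact y _ hS
  have hinj : Function.Injective ((Groth.Agent.H5.Stalk.stalkFunctor y).map (kernel.ι p)).hom :=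
    (ModuleCat.mono_iff_injective _).mp h.mono_f
  have hsurj : Function.Surjective ((Groth.Agent.H5.Stalk.stalkFunctor y).map p).hom :=
    (ModuleCat.epi_iff_surjective _).mp h.epi_g
  have hex : Function.Exact ((Groth.Agent.H5.Stalk.stalkFunctor y).map (kernel.ι p)).hom
      ((Groth.Agent.H5.Stalk.stalkFunctor y).map p).hom :=
    (ShortComplex.ShortExact.moduleCat_exact_iff_function_exact _).mp h.exact
  have hadd := Module.length_eq_add_of_exact _ _ hinj hsurj hex
  have hG0 : Module.length (X.presheaf.stalk y) (G.presheaf.stalk y) ≠ 0 := by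
    intro h0
    exact hy (Module.length_eq_zero_iff.mp h0)
  have hadd' : (1 : ℕ∞) =
      Module.length (X.presheaf.stalk y) ((kernel p).presheaf.stalk y) +
        Module.length (X.presheaf.stalk y) (G.presheaf.stalk y) := by
    rw [← hlen]; exact hadd
  have hK : Module.length (X.presheaf.stalk y) ((kernel p).presheaf.stalk y) = 0 ↔
      Subsingleton ((kernel p).presheaf.stalk y) := Module.length_eq_zero_iff
  generalize Module.length (X.presheaf.stalk y) ((kernel p).presheaf.stalk y) = a at hadd' hK
  generalize Module.length (X.presheaf.stalk y) (G.presheaf.stalk y) = b at hadd' hG0 ⊢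
  have hb : 1 ≤ b := Order.one_le_iff_pos.mpr (pos_iff_ne_zero.mpr hG0)
  have ha : a = 0 := by
    have h1 : a + 1 ≤ 0 + 1 := by
      rw [zero_add]
      calc a + 1 ≤ a + b := add_le_add_right hb a
        _ = 1 := hadd'.symm
    exact le_antisymm ((ENat.add_le_add_iff_right (by simp)).mp h1) zero_le
  rw [ha, zero_add] at hadd'
  exact ⟨hadd'.symm, fun hmem => hmem (hK.mp ha)⟩


open CategoryTheory CategoryTheory.Limits AlgebraicGeometry ZeroObject in
theorem aux (X : Scheme.{u}) [IsNoetherian X]
    (Y' : Set X) (hY' : IsClosed Y') {ι : Type u} (F : ι → X.Modules)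
    (hF : ∀ a : ι, Coh.IsCoh (F a) ∧ CohB1.support (F a) ⊆ Y')
    (hgen : ∀ (Z : Set X), IsClosed Z → IsIrreducible Z → Z ⊆ Y' → ∀ y : X, closure ({y} : Set X) = Z →
      ∃ a : ι, CohB1.support (F a) ⊆ Z ∧ Module.length (X.presheaf.stalk y) ((F a).presheaf.stalk y) = 1) :
    AddSubgroup.closure (Set.range fun a : ι =>
        KZero.clSub (fun G : X.Modules => Coh.IsCoh G ∧ CohB1.support G ⊆ Y') (F a)) = ⊤ := by
  classical
  set P : ObjectProperty X.Modules := fun G => Coh.IsCoh G ∧ CohB1.support G ⊆ Y' with hPdef
  set H : AddSubgroup (KZero.K0sub P) :=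
    AddSubgroup.closure (Set.range fun a : ι => KZero.clSub P (F a)) with hH
  have hFH : ∀ a, KZero.clSub P (F a) ∈ H := fun a => AddSubgroup.subset_closure ⟨a, rfl⟩
  -- zero objects
  have hP0 : ∀ M : X.Modules, IsZero M → P M := fun M hM =>
    ⟨Groth.Agent.S0026.isCoh_zero M hM,
      fun x hx => (Groth.Agent.H67.Dev.notMem_support_of_isZero hM x hx).elim⟩
  have hcl0 : ∀ M : X.Modules, IsZero M → KZero.clSub P M = 0 := by
    intro M hM
    have hS : (ShortComplex.mk (0 : M ⟶ M) (𝟙 M) zero_comp).ShortExact :=
      Groth.Agent.H67.Dev.shortExact_zero_id hM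
    have := Groth.Agent.H17.K0.clSub_shortExact P _ hS (hP0 M hM) (hP0 M hM) (hP0 M hM)
    exact (add_eq_right.mp this.symm)
  -- supports in short exact sequences
  have hsupp := fun (S : ShortComplex X.Modules) (hS : S.ShortExact) =>
    Groth.Agent.H71.QCoh.support_eq_union_of_shortExact S hS
  -- main claim, by Noetherian induction on the closed subset
  have main : ∀ T : TopologicalSpace.Closeds X, (T : Set X) ⊆ Y' → ∀ G : X.Modules,
      Coh.IsCoh G → CohB1.support G ⊆ (T : Set X) → KZero.clSub P G ∈ H := by
    intro T
    induction T using WellFoundedLT.induction with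
    | ind T IH =>
      intro hTY G hG hGs
      let K' : ObjectProperty X.Modules := fun M => P M ∧ KZero.clSub P M ∈ H
      haveI : K'.IsClosedUnderIsomorphisms := ⟨by
        intro M N e hM
        have hPN : P N := ⟨Groth.Agent.S0026.isCoh_iso M N e hM.1.1,
          (Groth.Agent.H67.Dev.support_eq_of_iso e) ▸ hM.1.2⟩
        refine ⟨hPN, ?_⟩
        have hS := Groth.Agent.Lead.Gabriel.shortExact_iso_zero e
        have h1 := Groth.Agent.H17.K0.clSub_shortExact P _ hS hM.1 hPN (hP0 _ (isZero_zero _))
        rw [hcl0 _ (isZero_zero _), add_zero] at h1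
        rw [h1]
        exact hM.2⟩
      refine (Groth.Agent.S2412.result X K' (fun M hM => ⟨hP0 M hM, by rw [hcl0 M hM]; exact H.zero_mem⟩)
        ?_ (T : Set X) T.isClosed ?_ G hG hGs).2
      · intro S hS c1 c2 c3
        have hu := hsupp S hS
        refine ⟨fun h1 h2 => ?_, fun h1 h3 => ?_, fun h2 h3 => ?_⟩
        · have hP3 : P S.X₃ := ⟨c3, fun x hx => h2.1.2 (by rw [hu]; exact Or.inr hx)⟩
          refine ⟨hP3, ?_⟩
          have := Groth.Agent.H17.K0.clSub_shortExact P S hS h1.1 h2.1 hP3
          have h' : KZero.clSub P S.X₃ = KZero.clSub P S.X₂ - KZero.clSub P S.X₁ := by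
            rw [this]; abel
          rw [h']
          exact H.sub_mem h2.2 h1.2
        · have hP2 : P S.X₂ := ⟨c2, by rw [hu]; exact Set.union_subset h1.1.2 h3.1.2⟩
          refine ⟨hP2, ?_⟩
          rw [Groth.Agent.H17.K0.clSub_shortExact P S hS h1.1 hP2 h3.1]
          exact H.add_mem h1.2 h3.2
        · have hP1 : P S.X₁ := ⟨c1, fun x hx => h2.1.2 (by rw [hu]; exact Or.inl hx)⟩
          refine ⟨hP1, ?_⟩
          have := Groth.Agent.H17.K0.clSub_shortExact P S hS hP1 h2.1 h3.1
          have h' : KZero.clSub P S.X₁ = KZero.clSub P S.X₂ - KZero.clSub P S.X₃ := by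
            rw [this]; abel
          rw [h']
          exact H.sub_mem h2.2 h3.2
      · intro Z hZ hZirr hZT y hy
        obtain ⟨a, haZ, halen⟩ := hgen Z hZ hZirr (hZT.trans hTY) y hy
        obtain ⟨G', p, hp, hG', hG's, hk, hsub⟩ :=
          Groth.Agent.Lead.Gabriel.exists_witness (F a) (hF a).1 Z hZ
        haveI := hp
        have hyZ : y ∈ Z := by rw [← hy]; exact subset_closure rfl
        have hyF : y ∈ CohB1.support (F a) := by
          intro hsub'
          have h0 : Module.length (X.presheaf.stalk y) ((F a).presheaf.stalk y) = 0 :=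
            Module.length_eq_zero_iff.mpr hsub'
          rw [halen] at h0
          exact one_ne_zero h0
        have hyG : y ∈ CohB1.support G' := hsub ⟨hyZ, hyF⟩
        obtain ⟨hlenG, hyK⟩ := stalk_facts p y halen hyG
        have hS : (ShortComplex.mk (kernel.ι p) p (kernel.condition p)).ShortExact :=
          { exact := ShortComplex.exact_kernel p
            mono_f := (inferInstance : Mono (kernel.ι p))
            epi_g := hp }
        have hKcoh : Coh.IsCoh (kernel p) := Groth.Agent.S0026.isCoh_kernel (F a) G' p (hF a).1 hG'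
        have hKs : CohB1.support (kernel p) ⊆ Z :=
          (Groth.Agent.H67.Dev.support_subset_of_mono (kernel.ι p)).trans haZ
        haveI : (kernel p).IsQuasicoherent := hKcoh.1
        haveI : SheafOfModules.IsFiniteType (R := X.ringCatSheaf) (kernel p) := hKcoh.2
        let T' : TopologicalSpace.Closeds X :=
          ⟨CohB1.support (kernel p),
            @Groth.Agent.H71.QCoh.isClosed_support X (kernel p) hKcoh.1 hKcoh.2⟩
        have hT'le : T' ≤ T := fun x hx => hZT (hKs hx)
        have hT'lt : T' < T := lt_of_le_of_ne hT'le (fun h => hyK (by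
          have : y ∈ (T' : Set X) := by rw [h]; exact hZT hyZ
          exact this))
        have hKH : KZero.clSub P (kernel p) ∈ H :=
          IH T' hT'lt (fun x hx => hTY (hT'le hx)) (kernel p) hKcoh subset_rfl
        have hPK : P (kernel p) := ⟨hKcoh, hKs.trans (hZT.trans hTY)⟩
        have hPG' : P G' := ⟨hG', hG's.trans (hZT.trans hTY)⟩
        have hcl := Groth.Agent.H17.K0.clSub_shortExact P _ hS hPK (hF a) hPG'
        have hcl' : KZero.clSub P G' = KZero.clSub P (F a) - KZero.clSub P (kernel p) := by
          change KZero.clSub P (F a) = KZero.clSub P (kernel p) + KZero.clSub P G' at hcl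
          rw [hcl]; abel
        exact ⟨G', hG', ⟨hPG', by rw [hcl']; exact H.sub_mem (hFH a) hKH⟩, hG's, hk, hlenG⟩
  rw [eq_top_iff]
  intro x _
  exact Groth.Agent.H17.K0.induction_on P x H.zero_mem
    (fun G hPG => main ⟨Y', hY'⟩ subset_rfl G hPG.1 hPG.2) (fun x hx => H.neg_mem hx)
    (fun x y hx hy => H.add_mem hx hy)


/-- Let X be a Noetherian scheme and Y' a closed subset; write K_0 for the Grothendieck group of the
abelian category of coherent O_X-modules with support in Y' (free abelian group on its objects
modulo the relations of short exact sequences). Let (F_a) be a family of such modules such that for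
every irreducible closed subset Z ⊆ Y' with generic point ζ there is an index a with the support of
F_a contained in Z and the stalk of F_a at ζ of length one over the local ring (a one-dimensional
vector space over the residue field). Then the classes of the F_a generate K_0. (The published
statement omits the condition that the support of F_a lie in Z; without it the claim fails already
for the spectrum of a product of two fields, where the modules k_1 ⊕ k_2 ⊕ k_2 and k_1 ⊕ k_1 ⊕ k_2
have one-dimensional stalks at the two points but their classes generate a subgroup of index 3 in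
K_0 = ℤ².) -/
theorem result (X : Scheme.{u}) [IsNoetherian X]
    (Y' : Set X) (hY' : IsClosed Y') {ι : Type u} (F : ι → X.Modules)
    (hF : ∀ a : ι, Coh.IsCoh (F a) ∧ CohB1.support (F a) ⊆ Y')
    (hgen : ∀ (Z : Set X), IsClosed Z → IsIrreducible Z → Z ⊆ Y' → ∀ y : X, closure ({y} : Set X) = Z →
      ∃ a : ι, CohB1.support (F a) ⊆ Z ∧ Module.length (X.presheaf.stalk y) ((F a).presheaf.stalk y) = 1) :
    AddSubgroup.closure (Set.range fun a : ι =>
        KZero.clSub (fun G : X.Modules => Coh.IsCoh G ∧ CohB1.support G ⊆ Y') (F a)) = ⊤ := by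
  exact aux X Y' hY' F hF hgen

end Groth.Agent.S14003
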