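import Groth.Statements.S14004
import Groth.Agent.S1321
import Groth.Agent.H29.AdicThick

set_option autoImplicit false
universe u
open CategoryTheory AlgebraicGeometry
open FSch

namespace Groth.Agent.S14004


/-- Formal schemes are modelled as ℕ-indexed systems of thickenings. Let 𝔛 and 𝔜 be locally Noetherian
adic formal systems and f : 𝔛 ⟶ 𝔜 an adic morphism (every square X_n → X_{n+1}, Y_n → Y_{n+1}
cartesian) all of whose levels f_n : X_n ⟶ Y_n are flat. Then f is smooth, in the sense that every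
level f_n is smooth, if and only if the bottom level f_0 is smooth. -/
theorem result (𝔛 𝔜 : FSch.Sys.{u})
    (h𝔛 : 𝔛.IsLocNoethFormal) (h𝔜 : 𝔜.IsLocNoethFormal) (f : 𝔛 ⟶ 𝔜) (hf : FSch.IsAdicHom f)
    (hflat : ∀ n : ℕ, Flat ((f : FSch.Hom 𝔛 𝔜).app n)) :
    (∀ n : ℕ, AlgebraicGeometry.Smooth ((f : FSch.Hom 𝔛 𝔜).app n)) ↔
      AlgebraicGeometry.Smooth ((f : FSch.Hom 𝔛 𝔜).app 0) := by
  constructor
  · intro h
    exact h 0
  · intro h0 n
    induction n with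
    | zero => exact h0
    | succ n ih =>
      have hS := Groth.Agent.H29.AdicThick.isFiniteOrderThickening_ι 𝔜 h𝔜.1 h𝔜.2.1 n
      have hcX : IsPullback (𝔛.ι n) ((f : FSch.Hom 𝔛 𝔜).app n ≫ 𝟙 _)
          ((f : FSch.Hom 𝔛 𝔜).app (n + 1) ≫ 𝟙 _) (𝔜.ι n) := by
        rw [Category.comp_id, Category.comp_id]
        exact hf n
      have hcY : IsPullback (𝔜.ι n) (𝟙 _) (𝟙 _) (𝔜.ι n) := IsPullback.id_vert _
      have hfl : Flat ((f : FSch.Hom 𝔛 𝔜).app (n + 1) ≫ 𝟙 _) := by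
        rw [Category.comp_id]
        exact hflat (n + 1)
      exact (Groth.Agent.S1321.result (𝔛.ι n) (𝔜.ι n) (𝔜.ι n) ((f : FSch.Hom 𝔛 𝔜).app n)
        ((f : FSch.Hom 𝔛 𝔜).app (n + 1)) (𝟙 _) (𝟙 _) hS hcX hcY (hf n).w).mp ih

end Groth.Agent.S14004
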