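import Groth.Statements.S14005
import Mathlib

set_option autoImplicit false
universe u
open CategoryTheory AlgebraicGeometry
open CohTop

namespace Groth.Agent.S14005

open TopologicalSpace in
/-- topological core: in a quasi-sober space, with `W` a Noetherian open and `Z ⊆ W` closed in `W`
such that the only generization of `x` lying in `Z` is `x` itself, there is an open neighbourhood
`U` of `x` with `Z ∩ U ⊆ closure {x}`. -/
theorem top_aux {α : Type*} [TopologicalSpace α] [QuasiSober α] (W : Opens α)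
    [NoetherianSpace W] (x : α) (hxW : x ∈ W) (Z : Set α)
    (hZ : IsOpen ((W : Set α) \ Z)) (hgen : ∀ y ∈ Z, y ⤳ x → y = x) :
    ∃ U : Opens α, U ≤ W ∧ x ∈ U ∧ ∀ u ∈ U, u ∈ Z → u ∈ closure ({x} : Set α) := by
  haveI : QuasiSober W := W.isOpenEmbedding'.quasiSober
  set ZW : Set W := Subtype.val ⁻¹' Z with hZW
  have hZWclosed : IsClosed ZW := by
    rw [← isOpen_compl_iff]
    have : ZWᶜ = Subtype.val ⁻¹' ((W : Set α) \ Z) := by
      ext w
      simp only [hZW, Set.mem_compl_iff, Set.mem_preimage, Set.mem_sdiff, SetLike.mem_coe]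
      constructor
      · intro h; exact ⟨w.2, h⟩
      · intro h; exact h.2
    rw [this]
    exact hZ.preimage continuous_subtype_val
  obtain ⟨S, hSfin, hSclosed, hSirr, hSeq⟩ :=
    NoetherianSpace.exists_finite_set_isClosed_irreducible hZWclosed
  set x' : W := ⟨x, hxW⟩ with hx'
  set bad : Set (Set W) := {T | T ∈ S ∧ x' ∉ T} with hbad
  have hbadfin : bad.Finite := hSfin.subset (fun T hT => hT.1)
  set B : Set W := ⋃ T ∈ bad, T with hB
  have hBclosed : IsClosed B := hbadfin.isClosed_biUnion (fun T hT => hSclosed T hT.1)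
  refine ⟨⟨Subtype.val '' Bᶜ, W.2.isOpenMap_subtype_val _ hBclosed.isOpen_compl⟩, ?_, ?_, ?_⟩
  · rintro _ ⟨w, _, rfl⟩
    exact w.2
  · refine ⟨x', ?_, rfl⟩
    intro hxB
    simp only [hB, Set.mem_iUnion] at hxB
    obtain ⟨T, hT, hxT⟩ := hxB
    exact hT.2 hxT
  · rintro _ ⟨w, hwB, rfl⟩ hwZ
    have hwZW : w ∈ ZW := hwZ
    rw [hSeq] at hwZW
    obtain ⟨T, hTS, hwT⟩ := hwZW
    have hxT : x' ∈ T := by
      by_contra hxT
      apply hwB
      simp only [hB, Set.mem_iUnion]
      exact ⟨T, ⟨hTS, hxT⟩, hwT⟩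
    obtain ⟨η, hη⟩ := QuasiSober.sober (hSirr T hTS) (hSclosed T hTS)
    -- hη : closure {η} = T
    have hηT : η ∈ T := by
      rw [← hη.def]; exact subset_closure rfl
    have hηZ : (η : α) ∈ Z := by
      have : η ∈ ZW := by rw [hSeq]; exact ⟨T, hTS, hηT⟩
      exact this
    have hηx' : η ⤳ x' := by
      rw [specializes_iff_mem_closure, hη.def]; exact hxT
    have hηx : (η : α) ⤳ x := hηx'.map continuous_subtype_val
    have hηeq : η = x' := Subtype.ext (hgen _ hηZ hηx)
    have hxw : x' ⤳ w := by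
      rw [specializes_iff_mem_closure, ← hηeq, hη.def]; exact hwT
    exact specializes_iff_mem_closure.1 (hxw.map continuous_subtype_val)

theorem result {X : Scheme.{u}}
    (hX : ∀ x : X, ∃ U : X.Opens, x ∈ U ∧ TopologicalSpace.NoetherianSpace U)
    (F : TopCat.Sheaf AddCommGrpCat.{u} X.carrier) (x : X) (s : F.presheaf.stalk x) :
    (∃ (U : X.Opens) (hx : x ∈ U) (t : F.presheaf.obj (Opposite.op U)),
        F.presheaf.germ U x hx t = s ∧
          ∀ (u : X) (hu : u ∈ U), F.presheaf.germ U u hu t ≠ 0 → u ∈ closure ({x} : Set X)) ↔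
      ∀ (y : X) (h : y ⤳ x), y ≠ x → F.presheaf.stalkSpecializes h s = 0 := by
  constructor
  · rintro ⟨U, hx, t, rfl, hsupp⟩ y h hne
    rw [TopCat.Presheaf.germ_stalkSpecializes_apply]
    by_contra hne0
    have hy := hsupp y (h.mem_open U.isOpen hx) hne0
    have hxy : x ⤳ y := specializes_iff_mem_closure.2 hy
    exact hne ((h.antisymm hxy).eq)
  · intro hii
    obtain ⟨U₀, hxU₀, hnoeth⟩ := hX x
    obtain ⟨W, hWU₀, hxW, t, rfl⟩ := F.presheaf.exists_le_germ_eq s hxU₀
    haveI : TopologicalSpace.NoetherianSpace (U₀ : Set X) := hnoeth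
    haveI hWn : TopologicalSpace.NoetherianSpace (↥W) :=
      TopologicalSpace.NoetherianSpace.of_subset (W := (U₀ : Set X)) (V := (W : Set X)) hWU₀
    set Z : Set X := {u | ∃ hu : u ∈ W, F.presheaf.germ W u hu t ≠ 0} with hZdef
    have hZopen : IsOpen ((W : Set X) \ Z) := by
      rw [isOpen_iff_forall_mem_open]
      rintro u ⟨huW, huZ⟩
      have hgerm0 : F.presheaf.germ W u huW t = 0 := by
        by_contra hne
        exact huZ ⟨huW, hne⟩
      have hgerm0' : F.presheaf.germ W u huW t = F.presheaf.germ W u huW 0 := by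
        rw [hgerm0, map_zero]
      obtain ⟨W', huW', i₁, i₂, hres⟩ := F.presheaf.germ_eq u huW huW t 0 hgerm0'
      refine ⟨(W' : Set X), ?_, W'.isOpen, huW'⟩
      intro v hvW'
      have hvW : v ∈ W := i₁.le hvW'
      refine ⟨hvW, ?_⟩
      rintro ⟨_, hv⟩
      apply hv
      rw [← TopCat.Presheaf.germ_res_apply F.presheaf i₁ v hvW' t, hres, map_zero, map_zero]
    have hgen : ∀ y ∈ Z, y ⤳ x → y = x := by
      rintro y ⟨hyW, hy⟩ h
      by_contra hne
      apply hy
      have := hii y h hne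
      rw [TopCat.Presheaf.germ_stalkSpecializes_apply] at this
      exact this
    obtain ⟨U, hUW, hxU, hU⟩ := top_aux W x hxW Z hZopen hgen
    refine ⟨U, hxU, F.presheaf.map (homOfLE hUW).op t, ?_, ?_⟩
    · exact TopCat.Presheaf.germ_res_apply F.presheaf (homOfLE hUW) x hxU t
    · intro u hu hne
      apply hU u hu
      refine ⟨hUW hu, ?_⟩
      rwa [TopCat.Presheaf.germ_res_apply F.presheaf (homOfLE hUW) u hu t] at hne

end Groth.Agent.S14005
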