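import Groth.Statements.S14008
import Mathlib
import Groth.Agent.H7.NilpotentFG

set_option autoImplicit false
universe u
open FlatMor

namespace Groth.Agent.S14008

open AlgebraicGeometry CategoryTheory in
/-- Consider a commutative square of schemes F₀ ≫ j = i ≫ F in which i : Y₀ ⟶ Y and j : X₀ ⟶ X are
closed immersions surjective on points whose ideals are nilpotent on every affine open, the ideal of
i being moreover finitely generated on every affine open of Y, and assume that X is locally
Noetherian. Then F : Y ⟶ X is locally of finite presentation if and only if F₀ : Y₀ ⟶ X₀ is. The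
square is not assumed cartesian. -/
theorem result
    {X X₀ Y Y₀ : Scheme.{u}} [IsLocallyNoetherian X]
    (F : Y ⟶ X) (F₀ : Y₀ ⟶ X₀) (i : Y₀ ⟶ Y) (j : X₀ ⟶ X)
    (hi : MoreMor.IsThickening i) (hj : MoreMor.IsThickening j)
    (hinil : ∀ U : Y.affineOpens, IsNilpotent (i.ker.ideal U))
    (hjnil : ∀ U : X.affineOpens, IsNilpotent (j.ker.ideal U))
    (hfg : ∀ U : Y.affineOpens, (i.ker.ideal U).FG)
    (w : F₀ ≫ j = i ≫ F) :
    LocallyOfFinitePresentation F ↔ LocallyOfFinitePresentation F₀ := by
  obtain ⟨hci, hsi⟩ := hi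
  obtain ⟨hcj, hsj⟩ := hj
  have : IsLocallyNoetherian X₀ := LocallyOfFiniteType.isLocallyNoetherian j
  rw [LocallyOfFinitePresentation.iff_locallyOfFiniteType,
    LocallyOfFinitePresentation.iff_locallyOfFiniteType]
  constructor
  · intro hF
    have : LocallyOfFiniteType (F₀ ≫ j) := by rw [w]; infer_instance
    exact locallyOfFiniteType_of_comp F₀ j
  · intro hF₀
    have hcomp : LocallyOfFiniteType (i ≫ F) := by rw [← w]; infer_instance
    rw [HasRingHomProperty.iff_appLE (P := @LocallyOfFiniteType)]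
    intro V U e
    have hU' : IsAffineOpen (i ⁻¹ᵁ U.1) := U.2.preimage i
    have e' : i ⁻¹ᵁ U.1 ≤ (i ≫ F) ⁻¹ᵁ V.1 := by
      intro x hx
      exact e hx
    have h1 := HasRingHomProperty.appLE @LocallyOfFiniteType (i ≫ F) hcomp V ⟨i ⁻¹ᵁ U.1, hU'⟩ e'
    have h2 : (i ≫ F).appLE V.1 (i ⁻¹ᵁ U.1) e' = F.appLE V.1 U.1 e ≫ i.app U.1 := by
      rw [Scheme.Hom.comp_appLE, Scheme.Hom.appLE, Scheme.Hom.appLE, Category.assoc]
      congr 1
      exact (i.naturality (homOfLE e).op).symm
    have hsurj : Function.Surjective (i.app U.1).hom := i.app_surjective U.1 U.2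
    have hker : RingHom.ker (i.app U.1).hom = i.ker.ideal U := (Scheme.Hom.ker_apply i U).symm
    refine Groth.Agent.H7.ringHom_finiteType_of_surjective_of_fg_of_isNilpotent
      (F.appLE V.1 U.1 e).hom (i.app U.1).hom hsurj (hker ▸ hfg U) (hker ▸ hinil U) ?_
    rw [← CommRingCat.hom_comp, ← h2]
    exact h1

end Groth.Agent.S14008
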