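import Groth.Statements.S1401
import Groth.Agent.H7.IndQuasiAffine
import Groth.Agent.H7.QuasiAffineDescent
import Groth.Agent.S1400

set_option autoImplicit false
universe u
open FlatMor

namespace Groth.Agent.S1401

open AlgebraicGeometry CategoryTheory Limits in
private theorem aux {X S X' S' : Scheme.{u}} (f : X ⟶ S) (f' : X' ⟶ S') (g' : X' ⟶ X) (g : S' ⟶ S)
    (hc : IsPullback g' f' f g) (hf' : MoreMor.IsIndQuasiAffineHom f')
    {T : Scheme.{u}} (j : T ⟶ X) [IsOpenImmersion j] [CompactSpace T] (V : S.Opens)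
    [IsAffine V.toScheme] (S'' : Scheme.{u}) [IsAffine S''] (γ : S'' ⟶ V) [Flat γ] [Surjective γ]
    (k : S'' ⟶ S') (hγ : γ ≫ V.ι = k ≫ g) (hj : ∀ x : T, f (j x) ∈ V) : T.IsQuasiAffine := by
  have hsq : IsPullback (hc.lift (pullback.fst f (k ≫ g)) (pullback.snd f (k ≫ g) ≫ k)
      (by rw [Category.assoc, pullback.condition])) (pullback.snd f (k ≫ g)) f' k := by
    refine .of_right ?_ (hc.lift_snd _ _ _) hc
    rw [hc.lift_fst]
    exact .of_hasPullback f (k ≫ g)
  have hf'' : MoreMor.IsIndQuasiAffineHom (pullback.snd f (k ≫ g)) :=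
    Groth.Agent.S1400.result f' _ _ k hsq hf'
  rw [Groth.Agent.H7.isIndQuasiAffineHom_iff] at hf''
  have hr : Set.range (j ≫ f) ⊆ Set.range V.ι := by
    rintro _ ⟨x, rfl⟩
    simpa using hj x
  have e₁ : IsOpenImmersion.lift V.ι (j ≫ f) hr ≫ V.ι = j ≫ f := IsOpenImmersion.lift_fac _ _ _
  have e₂ : γ ≫ V.ι = 𝟙 S'' ≫ (k ≫ g) := by rw [Category.id_comp, hγ]
  have hP : (pullback (IsOpenImmersion.lift V.ι (j ≫ f) hr) γ).IsQuasiAffine := by
    have : IsAffineHom γ := isAffineHom_of_isAffine _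
    have : CompactSpace ↥(pullback (IsOpenImmersion.lift V.ι (j ≫ f) hr) γ) :=
      QuasiCompact.compactSpace_of_compactSpace
        (pullback.fst (IsOpenImmersion.lift V.ι (j ≫ f) hr) γ)
    exact hf'' (pullback.map (IsOpenImmersion.lift V.ι (j ≫ f) hr) γ f (k ≫ g) j (𝟙 S'') V.ι e₁ e₂)
      ⊤ (isAffineOpen_top _) (fun _ ↦ trivial)
  exact Groth.Agent.H7.isQuasiAffine_of_isPullback_of_flat_surjective γ
    (IsOpenImmersion.lift V.ι (j ≫ f) hr) (pullback.fst _ γ) (pullback.snd _ γ)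
    (.of_hasPullback _ γ)


open AlgebraicGeometry CategoryTheory Limits in
/-- Let S' → S be flat, surjective and quasi-compact and let f' be the base change of f : X → S to S'.
If f' is ind-quasi-affine then so is f. -/
theorem result {X S X' S' : Scheme.{u}} (f : X ⟶ S) (f' : X' ⟶ S') (g' : X' ⟶ X) (g : S' ⟶ S)
    [Flat g] [Surjective g] [QuasiCompact g] (hc : IsPullback g' f' f g) (hf' : MoreMor.IsIndQuasiAffineHom f') : MoreMor.IsIndQuasiAffineHom f := by
  rw [Groth.Agent.H7.isIndQuasiAffineHom_iff]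
  intro T j _ _ V hV hj
  have hcV : CompactSpace (g ⁻¹ᵁ V : Scheme.{u}) :=
    isCompact_iff_compactSpace.mp (QuasiCompact.isCompact_preimage (f := g) _ V.2 hV.isCompact)
  obtain ⟨S'', q, hqs, hqf, hS''⟩ :=
    Scheme.exists_hom_isAffine_of_isZariskiLocalAtSource @Flat (g ⁻¹ᵁ V).toScheme
  have : IsAffine V.toScheme := hV
  have hγs : Surjective (g ∣_ V) := IsZariskiLocalAtTarget.restrict ‹Surjective g› V
  have hγflat : Flat (q ≫ g ∣_ V) := inferInstance
  have hγsurj : Surjective (q ≫ g ∣_ V) := inferInstance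
  have hγ : (q ≫ g ∣_ V) ≫ V.ι = (q ≫ (g ⁻¹ᵁ V).ι) ≫ g := by
    simp only [Category.assoc, morphismRestrict_ι]
  exact aux f f' g' g hc hf' j V S'' (q ≫ g ∣_ V) (q ≫ (g ⁻¹ᵁ V).ι) hγ hj

end Groth.Agent.S1401
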