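import Groth.Statements.S14018
import Mathlib

set_option autoImplicit false
universe w v u
open CategoryTheory CategoryTheory.Limits Opposite

open CohSite

namespace Groth.Agent.S14018

section Seq

variable {G : ℕᵒᵖ ⥤ Type w}
  (hG : ∀ n, Function.Surjective (G.map (homOfLE (Nat.le_succ n)).op))

/-- a compatible family through a given element at level `n` -/
noncomputable def pre (n : ℕ) (a : G.obj (op n)) : (m : ℕ) → G.obj (op m)
  | 0 => G.map (homOfLE (Nat.zero_le n)).op a
  | m + 1 => if h : m + 1 ≤ n then G.map (homOfLE h).op a else (hG m (pre n a m)).choose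

theorem pre_of_le (n : ℕ) (a : G.obj (op n)) (m : ℕ) (h : m ≤ n) :
    pre hG n a m = G.map (homOfLE h).op a := by
  cases m with
  | zero => rfl
  | succ m => simp only [pre, dif_pos h]

theorem pre_succ (n : ℕ) (a : G.obj (op n)) (m : ℕ) :
    G.map (homOfLE (Nat.le_succ m)).op (pre hG n a (m + 1)) = pre hG n a m := by
  by_cases h : m + 1 ≤ n
  · rw [pre_of_le hG n a (m + 1) h, pre_of_le hG n a m (Nat.le_of_succ_le h)]
    rw [← types_comp_apply (G.map _) (G.map _), ← G.map_comp]
    rfl
  · simp only [pre, dif_neg h]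
    exact (hG m (pre hG n a m)).choose_spec

theorem pre_compat (n : ℕ) (a : G.obj (op n)) (m m' : ℕ) (h : m' ≤ m) :
    G.map (homOfLE h).op (pre hG n a m) = pre hG n a m' := by
  induction h with
  | refl =>
    have : (homOfLE (le_refl m')).op = 𝟙 (op m') := rfl
    rw [this, G.map_id]; rfl
  | @step p h ih =>
    rw [← ih, ← pre_succ hG n a p]
    rw [← types_comp_apply (G.map _) (G.map _), ← G.map_comp]
    rfl

include hG in
theorem surjective_π_app (c : Cone G) (hc : IsLimit c) (n : ℕ) :
    Function.Surjective (c.π.app (op n)) := by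
  intro a
  let e := Types.isLimitEquivSections hc
  let sec : G.sections := ⟨fun j => pre hG n a j.unop, by
    intro j j' f
    have h : j'.unop ≤ j.unop := leOfHom f.unop
    have : f = (homOfLE h).op := Subsingleton.elim _ _
    rw [this]
    exact pre_compat hG n a _ _ h⟩
  refine ⟨e.symm sec, ?_⟩
  rw [Types.isLimitEquivSections_symm_apply]
  change pre hG n a n = a
  rw [pre_of_le hG n a n le_rfl]
  have : (homOfLE (le_refl n)).op = 𝟙 (op n) := rfl
  rw [this, G.map_id]; rfl

end Seq

theorem result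
    {C : Type u} [Category.{v} C] (J : GrothendieckTopology C)
    (hwc : ∀ V : C, ∃ S : Sieve V, S ∈ J V ∧ ∀ ⦃W : C⦄ (f : W ⟶ V), S.arrows f →
      ∃ (U : C) (g : W ⟶ U) (h : U ⟶ V), (∀ (A B : Sheaf J (Type w)) (ψ : A ⟶ B), Epi ψ → Function.Surjective (ψ.hom.app (op U))) ∧ g ≫ h = f)
    (F : ℕᵒᵖ ⥤ Sheaf J (Type w))
    (hF : ∀ n : ℕ, Epi (F.map (homOfLE (Nat.le_succ n)).op))
    (c : Cone F) (hc : IsLimit c) (n : ℕ) :
    Epi (c.π.app (op n)) := by
  haveI : Sheaf.IsLocallySurjective (c.π.app (op n)) := by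
    constructor
    intro V s
    obtain ⟨S, hS, hfac⟩ := hwc V
    refine J.superset_covering ?_ hS
    intro W f hf
    obtain ⟨U, g, h, hU, rfl⟩ := hfac f hf
    let E : Sheaf J (Type w) ⥤ Type w :=
      sheafToPresheaf J (Type w) ⋙ (evaluation Cᵒᵖ (Type w)).obj (op U)
    have hlim : IsLimit (E.mapCone c) := isLimitOfPreserves E hc
    have hsurj : ∀ m, Function.Surjective ((F ⋙ E).map (homOfLE (Nat.le_succ m)).op) := by
      intro m
      exact hU _ _ _ (hF m)
    have hπ := surjective_π_app hsurj (E.mapCone c) hlim n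
    obtain ⟨t', ht'⟩ := hπ ((F.obj (op n)).obj.map h.op s)
    refine ⟨(c.pt).obj.map g.op t', ?_⟩
    have hnat := NatTrans.naturality_apply (c.π.app (op n)).hom g.op t'
    refine hnat.trans ?_
    have : (c.π.app (op n)).hom.app (op U) t' = (F.obj (op n)).obj.map h.op s := ht'
    rw [this]
    rw [op_comp, Functor.map_comp]
    rfl
  infer_instance

end Groth.Agent.S14018
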