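import Groth.Statements.S14020
import Mathlib.RingTheory.Artinian.Module
import Mathlib.Algebra.Module.Torsion.Basic
import Mathlib.RingTheory.Finiteness.Ideal

set_option autoImplicit false
universe u

namespace Groth.Agent.S14020

theorem aux (R : Type u) [CommRing R] (I : Ideal R) (hI : I.FG) [IsArtinianRing (R ⧸ I)] (n : ℕ) :
    ∀ (M : Type u) [AddCommGroup M] [Module R M] [Module.Finite R M],
      (∀ x ∈ I ^ n, ∀ m : M, x • m = 0) → IsArtinian R M := by
  induction n with
  | zero =>
    intro M _ _ _ h
    have : Subsingleton M := by
      refine ⟨fun a b => ?_⟩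
      have ha := h 1 (by simp) a
      have hb := h 1 (by simp) b
      simp only [one_smul] at ha hb
      rw [ha, hb]
    exact isArtinian_of_finite
  | succ n ih =>
    intro M _ _ _ h
    let N : Submodule R M := I • (⊤ : Submodule R M)
    have hNfg : N.FG := Submodule.FG.smul hI (Module.Finite.fg_top)
    have : Module.Finite R N := Module.Finite.iff_fg.mpr hNfg
    have : IsArtinian R N := by
      apply ih N
      intro x hx m
      ext
      simp only [Submodule.coe_smul, ZeroMemClass.coe_zero]
      have hm : (m : M) ∈ I • (⊤ : Submodule R M) := m.2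
      refine Submodule.smul_induction_on hm ?_ ?_
      · intro r hr y _
        rw [← mul_smul]
        apply h
        rw [pow_succ]
        exact Ideal.mul_mem_mul hx hr
      · intro a b ha hb
        rw [smul_add, ha, hb, add_zero]
    have : Module.Finite (R ⧸ I) (M ⧸ N) := by
      apply Module.Finite.of_restrictScalars_finite R
    have : IsArtinian (R ⧸ I) (M ⧸ N) := inferInstance
    have : IsArtinian R (M ⧸ N) :=
      isArtinian_of_surjective_algebraMap (R := R ⧸ I) (S := R) Ideal.Quotient.mk_surjective
    exact isArtinian_of_range_eq_ker N.subtype N.mkQ (by simp)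

/-- Let R be a commutative ring and I a finitely generated ideal such that the quotient ring R/I is
artinian. Then R/I^n is artinian for every n. -/
theorem result
    (R : Type u) [CommRing R] (I : Ideal R) (hI : I.FG) [IsArtinianRing (R ⧸ I)] (n : ℕ) :
    IsArtinianRing (R ⧸ I ^ n) := by
  have h : IsArtinian R (R ⧸ I ^ n) := by
    apply aux R I hI n
    intro x hx m
    obtain ⟨m, rfl⟩ := Ideal.Quotient.mk_surjective m
    rw [Algebra.smul_def]
    simp only [Ideal.Quotient.algebraMap_eq, ← map_mul]
    rw [Ideal.Quotient.eq_zero_iff_mem]
    exact Ideal.mul_mem_right _ _ hx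
  exact isArtinian_of_tower R h

end Groth.Agent.S14020
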