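import Groth.Statements.S1403
import Groth.Agent.H68.FlatDimMain
-- import your own Groth.Agent.* helpers here

set_option autoImplicit false
universe u
open FlatMor

namespace Groth.Agent.S1403

/-- Let A → B be an injective local homomorphism of local domains with B essentially of finite type and
flat over A. Then dim(B / m_A B) + trdeg_{κ(A)} κ(B) = trdeg_A B; all three quantities are finite
here, and the statement gives them as natural numbers d, e with d + e the transcendence degree of B
over A. -/
theorem result {A B : Type u} [CommRing A] [CommRing B] [IsDomain A] [IsDomain B] [IsLocalRing A] [IsLocalRing B]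
    [Algebra A B] [IsLocalHom (algebraMap A B)] [FaithfulSMul A B] [Algebra.EssFiniteType A B] [Module.Flat A B] :
    ∃ d e : ℕ, ringKrullDim (B ⧸ Ideal.map (algebraMap A B) (IsLocalRing.maximalIdeal A)) = d ∧
      Algebra.trdeg (IsLocalRing.ResidueField A) (IsLocalRing.ResidueField B) = e ∧ Algebra.trdeg A B = (d + e : ℕ) := by
  classical
  have hM : ∀ c : Algebra.EssFiniteType.subalgebra A B,
      c ∈ Algebra.EssFiniteType.submonoid A B ↔
        IsUnit (algebraMap (Algebra.EssFiniteType.subalgebra A B) B c) := fun c => Iff.rfl
  have hCB : Function.Injective (algebraMap (Algebra.EssFiniteType.subalgebra A B) B) :=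
    Subtype.val_injective
  have hAC : Function.Injective (algebraMap A (Algebra.EssFiniteType.subalgebra A B)) := by
    intro x y h
    apply FaithfulSMul.algebraMap_injective A B
    have := congrArg (algebraMap (Algebra.EssFiniteType.subalgebra A B) B) h
    rwa [← IsScalarTower.algebraMap_apply, ← IsScalarTower.algebraMap_apply] at this
  exact Groth.Agent.H68.FD.dim_formula_model (C := Algebra.EssFiniteType.subalgebra A B)
    (Algebra.EssFiniteType.submonoid A B) hM hAC hCB

end Groth.Agent.S1403
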