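import Groth.Statements.S14032
import Groth.Agent.H70.NRBasis
import Mathlib

set_option autoImplicit false
universe u v
open W4c1frobunstiva

namespace Groth.Agent.S14032

/-- Nakayama for a nilpotent ideal (no finiteness needed). -/
theorem eq_top_of_sup_smul_eq_top {R : Type u} [CommRing R] {M : Type v} [AddCommGroup M]
    [Module R M] (I : Ideal R) (hI : IsNilpotent I) (N : Submodule R M)
    (h : N ⊔ I • (⊤ : Submodule R M) = ⊤) : N = ⊤ := by
  obtain ⟨k, hk⟩ := hI
  have key : ∀ j : ℕ, N ⊔ (I ^ j) • (⊤ : Submodule R M) = ⊤ := by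
    intro j
    induction j with
    | zero => simp
    | succ j ih =>
      rw [eq_top_iff]
      refine le_trans (le_of_eq ih.symm) ?_
      refine sup_le le_sup_left ?_
      calc (I ^ j) • (⊤ : Submodule R M) = (I ^ j) • (N ⊔ I • (⊤ : Submodule R M)) := by rw [h]
        _ = (I ^ j) • N ⊔ (I ^ j) • (I • (⊤ : Submodule R M)) := Submodule.smul_sup _ _ _
        _ ≤ N ⊔ (I ^ (j + 1)) • (⊤ : Submodule R M) := by
            refine sup_le_sup Submodule.smul_le_right ?_
            rw [← Submodule.mul_smul, ← pow_succ]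
  have := key k
  rw [hk, Submodule.zero_eq_bot, Submodule.bot_smul, sup_bot_eq] at this
  exact this

open TensorProduct in
theorem result (R : Type u) [CommRing R]
    [IsNoetherianRing R] (M : Type v) [AddCommGroup M] [Module R M] (r : ℕ) :
    W4c1frobunstiva.IsNRFree R M r ↔
      Nonempty (Module.Basis (Fin r) (R ⧸ nilradical R) ((R ⧸ nilradical R) ⊗[R] M)) := by
  classical
  set n := nilradical R with hn
  let K := R ⧸ n
  let e := TensorProduct.quotTensorEquivQuotSMul M n
  have he1 : ∀ x : M, e ((1 : K) ⊗ₜ[R] x) = Submodule.Quotient.mk x :=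
    fun x => TensorProduct.quotTensorEquivQuotSMul_mk_one_tmul n x
  -- K-combination of pure tensors
  have hcomb : ∀ (a : Fin r → R) (m : Fin r → M),
      ∑ i, (Ideal.Quotient.mk n (a i)) • ((1 : K) ⊗ₜ[R] m i) = (1 : K) ⊗ₜ[R] (∑ i, a i • m i) := by
    intro a m
    rw [TensorProduct.tmul_sum]
    refine Finset.sum_congr rfl fun i _ => ?_
    rw [TensorProduct.smul_tmul', TensorProduct.tmul_smul, smul_eq_mul, mul_one,
      TensorProduct.smul_tmul']
    congr 1
    rw [Algebra.smul_def, mul_one]; rfl
  constructor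
  · rintro ⟨m, hspan, hrel⟩
    let v : Fin r → K ⊗[R] M := fun i => (1 : K) ⊗ₜ[R] m i
    have hli : LinearIndependent K v := by
      rw [Fintype.linearIndependent_iff]
      intro g hg
      have hlift : ∀ i, ∃ a : R, Ideal.Quotient.mk n a = g i := fun i =>
        Ideal.Quotient.mk_surjective (g i)
      choose a ha using hlift
      simp only [← ha, v] at hg
      rw [hcomb] at hg
      have h1 := congrArg e hg
      rw [he1, map_zero, Submodule.Quotient.mk_eq_zero] at h1
      rw [← hspan, Submodule.mem_ideal_smul_span_iff_exists_sum] at h1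
      obtain ⟨c, hc, hsum⟩ := h1
      rw [Finsupp.sum_fintype _ _ (fun i => zero_smul R (m i))] at hsum
      have hrel' : ∑ i, (a i - c i) • m i = 0 := by
        simp only [sub_smul, Finset.sum_sub_distrib, hsum, sub_self]
      intro i
      rw [← ha i, Ideal.Quotient.eq_zero_iff_mem]
      have h2 : a i - c i ∈ n := mem_nilradical.2 (hrel _ hrel' i)
      have := n.add_mem h2 (hc i)
      simpa using this
    have hsp : ⊤ ≤ Submodule.span K (Set.range v) := by
      intro t ht
      clear ht
      induction t using TensorProduct.induction_on with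
      | zero => exact zero_mem _
      | tmul k x =>
        obtain ⟨c, rfl⟩ := (Submodule.mem_span_range_iff_exists_fun R).1
          (by rw [hspan]; trivial : x ∈ Submodule.span R (Set.range m))
        have : k ⊗ₜ[R] (∑ i, c i • m i) = k • ((1 : K) ⊗ₜ[R] (∑ i, c i • m i)) := by
          rw [TensorProduct.smul_tmul', smul_eq_mul, mul_one]
        rw [this, ← hcomb]
        exact Submodule.smul_mem _ _ (sum_mem fun i _ =>
          Submodule.smul_mem _ _ (Submodule.subset_span ⟨i, rfl⟩))
      | add x y hx hy => exact add_mem hx hy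
    exact ⟨Module.Basis.mk hli hsp⟩
  · rintro ⟨b⟩
    have hlift : ∀ i, ∃ m : M, (1 : K) ⊗ₜ[R] m = b i := by
      intro i
      obtain ⟨m, hm⟩ := Submodule.Quotient.mk_surjective _ (e (b i))
      exact ⟨m, e.injective (by rw [he1, hm])⟩
    choose m hm using hlift
    have hrepr : ∀ a : Fin r → R, (1 : K) ⊗ₜ[R] (∑ i, a i • m i) =
        ∑ i, (Ideal.Quotient.mk n (a i)) • b i := by
      intro a
      rw [← hcomb]
      simp only [hm]
    refine ⟨m, ?_, ?_⟩
    · apply eq_top_of_sup_smul_eq_top n (IsNoetherianRing.isNilpotent_nilradical R)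
      rw [eq_top_iff]
      intro x _
      have hx : (1 : K) ⊗ₜ[R] x = ∑ i, b.equivFun ((1 : K) ⊗ₜ[R] x) i • b i :=
        (b.sum_equivFun _).symm
      have hlift : ∀ i, ∃ a : R, Ideal.Quotient.mk n a = b.equivFun ((1 : K) ⊗ₜ[R] x) i :=
        fun i => Ideal.Quotient.mk_surjective _
      choose a ha using hlift
      simp only [← ha] at hx
      rw [← hrepr] at hx
      have h1 := congrArg e hx
      rw [he1, he1, ← sub_eq_zero, ← Submodule.Quotient.mk_sub, Submodule.Quotient.mk_eq_zero] at h1
      have h2 : x = ∑ i, a i • m i + (x - ∑ i, a i • m i) := by abel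
      rw [h2]
      refine Submodule.add_mem_sup (sum_mem fun i _ => ?_) h1
      exact Submodule.smul_mem _ _ (Submodule.subset_span ⟨i, rfl⟩)
    · intro a ha i
      have h1 := hrepr a
      rw [ha, TensorProduct.tmul_zero] at h1
      have h2 := Fintype.linearIndependent_iff.1 b.linearIndependent _ h1.symm i
      exact mem_nilradical.1 (Ideal.Quotient.eq_zero_iff_mem.1 h2)

end Groth.Agent.S14032
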