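import Groth.Statements.S14033
import Mathlib

set_option autoImplicit false
universe u v
open W4c1frobunstiva

namespace Groth.Agent.S14033

open DualNumber Pointwise

section

variable {R : Type u} [CommRing R] {M : Type v}
    [AddCommGroup M] [Module R[ε] M] [Module R M] [IsScalarTower R R[ε] M]

theorem dn_decomp (x : R[ε]) : x = algebraMap R R[ε] x.fst + x.snd • (ε : R[ε]) := by
  rw [TrivSqZeroExt.algebraMap_eq_inl, ← DualNumber.inr_eq_smul_eps,
    TrivSqZeroExt.inl_fst_add_inr_snd_eq]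

theorem dn_smul (x : R[ε]) (m : M) : x • m = x.fst • m + x.snd • ((ε : R[ε]) • m) := by
  conv_lhs => rw [dn_decomp x]
  rw [add_smul, algebraMap_smul, smul_assoc]

theorem eps_eps_smul (m : M) : (ε : R[ε]) • ((ε : R[ε]) • m) = 0 := by
  rw [← mul_smul, DualNumber.eps_mul_eps, zero_smul]

theorem mem_E (m : M) : m ∈ ((ε : R[ε]) • (⊤ : Submodule R[ε] M)) ↔ ∃ m' : M, (ε : R[ε]) • m' = m := by
  rw [Submodule.mem_smul_pointwise_iff_exists]
  simp

theorem eps_smul_of_mem_E {m : M} (hm : m ∈ ((ε : R[ε]) • (⊤ : Submodule R[ε] M))) :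
    (ε : R[ε]) • m = 0 := by
  obtain ⟨m', rfl⟩ := (mem_E m).1 hm
  exact eps_eps_smul m'

theorem sum_dn_smul {r : ℕ} (g : Fin r → R[ε]) (e : Fin r → M) :
    ∑ i, g i • e i = ∑ i, (g i).fst • e i + (ε : R[ε]) • ∑ i, (g i).snd • e i := by
  rw [Finset.smul_sum, ← Finset.sum_add_distrib]
  refine Finset.sum_congr rfl fun i _ => ?_
  rw [dn_smul, smul_comm (ε : R[ε]) ((g i).snd) (e i)]

theorem backward {r : ℕ}
    (bq : Module.Basis (Fin r) R (M ⧸ ((ε : R[ε]) • (⊤ : Submodule R[ε] M))))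
    (bn : Module.Basis (Fin r) R (((ε : R[ε]) • (⊤ : Submodule R[ε] M)).restrictScalars R)) :
    Nonempty (Module.Basis (Fin r) R[ε] M) := by
  set E := ((ε : R[ε]) • (⊤ : Submodule R[ε] M)) with hE
  let q : M →ₗ[R] M ⧸ E := E.mkQ.restrictScalars R
  have hq0 : ∀ m, q m = 0 ↔ m ∈ E := fun m => Submodule.Quotient.mk_eq_zero E
  have hlift : ∀ i, ∃ e : M, q e = bq i := fun i => Submodule.Quotient.mk_surjective _ _
  choose e he using hlift
  have hqsum : ∀ a : Fin r → R, q (∑ i, a i • e i) = ∑ i, a i • bq i := by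
    intro a
    rw [map_sum]
    refine Finset.sum_congr rfl fun i _ => ?_
    rw [map_smul, he]
  let L : M →ₗ[R] M := DistribSMul.toLinearMap R M (ε : R[ε])
  have hL : ∀ m, L m = (ε : R[ε]) • m := fun m => rfl
  let Ψ' : (Fin r → R) →ₗ[R] M := L ∘ₗ Fintype.linearCombination R e
  have hΨ' : ∀ a, Ψ' a = (ε : R[ε]) • ∑ i, a i • e i := by
    intro a
    simp only [Ψ', LinearMap.comp_apply, hL, Fintype.linearCombination_apply]
  let Ψ : (Fin r → R) →ₗ[R] (E.restrictScalars R) :=
    Ψ'.codRestrict (E.restrictScalars R) (fun a => by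
      rw [Submodule.restrictScalars_mem, hΨ']
      exact (mem_E _).2 ⟨_, rfl⟩)
  have hΨval : ∀ a, ((Ψ a : E.restrictScalars R) : M) = (ε : R[ε]) • ∑ i, a i • e i := hΨ'
  -- decomposition of an arbitrary element
  have hdecomp : ∀ m : M, ∃ a : Fin r → R, m - ∑ i, a i • e i ∈ E := by
    intro m
    refine ⟨bq.equivFun (q m), ?_⟩
    rw [← hq0, map_sub, hqsum, bq.sum_equivFun, sub_self]
  have hΨsurj : Function.Surjective Ψ := by
    rintro ⟨n, hn⟩
    obtain ⟨m, rfl⟩ := (mem_E n).1 hn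
    obtain ⟨a, ha⟩ := hdecomp m
    refine ⟨a, Subtype.ext ?_⟩
    rw [hΨval]
    have := eps_smul_of_mem_E (R := R) ha
    rw [smul_sub, sub_eq_zero] at this
    exact this.symm
  have hΨinj : Function.Injective Ψ := by
    have hsurj : Function.Surjective (bn.equivFun.toLinearMap ∘ₗ Ψ) := by
      rw [LinearMap.coe_comp]
      exact bn.equivFun.surjective.comp hΨsurj
    have hinj := OrzechProperty.injective_of_surjective_endomorphism _ hsurj
    rw [LinearMap.coe_comp] at hinj
    exact Function.Injective.of_comp hinj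
  have hli : LinearIndependent R[ε] e := by
    rw [Fintype.linearIndependent_iff]
    intro g hg
    rw [sum_dn_smul] at hg
    have h1 : ∑ i, (g i).fst • bq i = 0 := by
      have := congrArg q hg
      rw [map_add, hqsum, map_zero] at this
      have h2 : q ((ε : R[ε]) • ∑ i, (g i).snd • e i) = 0 := (hq0 _).2 ((mem_E _).2 ⟨_, rfl⟩)
      rwa [h2, add_zero] at this
    have hfst : ∀ i, (g i).fst = 0 := by
      have := Fintype.linearIndependent_iff.1 bq.linearIndependent (fun i => (g i).fst) h1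
      exact this
    have h3 : ∑ i, (g i).fst • e i = 0 := by
      refine Finset.sum_eq_zero fun i _ => ?_
      rw [hfst, zero_smul]
    rw [h3, zero_add] at hg
    have h4 : Ψ (fun i => (g i).snd) = 0 := Subtype.ext (by rw [hΨval]; exact hg)
    have h5 : (fun i => (g i).snd) = 0 := hΨinj (by rw [h4, map_zero])
    intro i
    exact TrivSqZeroExt.ext (hfst i) (congrFun h5 i)
  have hsp : ⊤ ≤ Submodule.span R[ε] (Set.range e) := by
    intro m _
    obtain ⟨a, ha⟩ := hdecomp m
    obtain ⟨a', ha'⟩ := hΨsurj ⟨m - ∑ i, a i • e i, ha⟩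
    have h6 : m - ∑ i, a i • e i = (ε : R[ε]) • ∑ i, a' i • e i := by
      rw [← hΨval, ha']
    have h7 : m = ∑ i, a i • e i + (ε : R[ε]) • ∑ i, a' i • e i := by
      rw [← h6]; abel
    rw [h7]
    refine add_mem (sum_mem fun i _ => ?_) (Submodule.smul_mem _ _ (sum_mem fun i _ => ?_))
    · rw [← algebraMap_smul R[ε] (a i) (e i)]
      exact Submodule.smul_mem _ _ (Submodule.subset_span ⟨i, rfl⟩)
    · rw [← algebraMap_smul R[ε] (a' i) (e i)]
      exact Submodule.smul_mem _ _ (Submodule.subset_span ⟨i, rfl⟩)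
  exact ⟨Module.Basis.mk hli hsp⟩

theorem forward {r : ℕ} (b : Module.Basis (Fin r) R[ε] M) :
    Nonempty (Module.Basis (Fin r) R (M ⧸ ((ε : R[ε]) • (⊤ : Submodule R[ε] M)))) ∧
      Nonempty (Module.Basis (Fin r) R
        (((ε : R[ε]) • (⊤ : Submodule R[ε] M)).restrictScalars R)) := by
  set E := ((ε : R[ε]) • (⊤ : Submodule R[ε] M)) with hE
  let c : M ≃ₗ[R] (Fin r → R[ε]) := b.equivFun.restrictScalars R
  have hc : ∀ m, c m = b.equivFun m := fun m => rfl
  let fstL : R[ε] →ₗ[R] R := (TrivSqZeroExt.fstHom R R R).toLinearMap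
  let sndL : R[ε] →ₗ[R] R := TrivSqZeroExt.sndHom R R
  let φ : M →ₗ[R] (Fin r → R) := (fstL.compLeft (Fin r)) ∘ₗ c.toLinearMap
  have hφ : ∀ m i, φ m i = (b.equivFun m i).fst := fun m i => rfl
  have hφsurj : Function.Surjective φ := by
    intro a
    refine ⟨b.equivFun.symm (fun i => TrivSqZeroExt.inl (a i)), ?_⟩
    ext i
    rw [hφ, LinearEquiv.apply_symm_apply]
    rfl
  have hker : LinearMap.ker φ = E.restrictScalars R := by
    ext m
    rw [LinearMap.mem_ker, Submodule.restrictScalars_mem, mem_E]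
    constructor
    · intro h
      refine ⟨b.equivFun.symm (fun i => TrivSqZeroExt.inl ((b.equivFun m i).snd)), ?_⟩
      apply b.equivFun.injective
      rw [map_smul, LinearEquiv.apply_symm_apply]
      ext i
      · have h' : (b.equivFun m i).fst = 0 := congrFun h i
        rw [h']
        simp
      · simp
    · rintro ⟨m', rfl⟩
      ext i
      rw [hφ, map_smul]
      simp
  let e1 : (M ⧸ E) ≃ₗ[R] (Fin r → R) :=
    (Submodule.Quotient.restrictScalarsEquiv R E).symm ≪≫ₗ
      (Submodule.quotEquivOfEq _ _ hker.symm) ≪≫ₗ φ.quotKerEquivOfSurjective hφsurj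
  let χ : (E.restrictScalars R) →ₗ[R] (Fin r → R) :=
    (sndL.compLeft (Fin r)) ∘ₗ c.toLinearMap ∘ₗ (E.restrictScalars R).subtype
  have hχ : ∀ (n : E.restrictScalars R) i, χ n i = (b.equivFun (n : M) i).snd := fun n i => rfl
  have hχinj : Function.Injective χ := by
    rw [← LinearMap.ker_eq_bot, LinearMap.ker_eq_bot']
    rintro ⟨n, hn⟩ h0
    apply Subtype.ext
    change n = 0
    have hn' : n ∈ LinearMap.ker φ := by rw [hker]; exact hn
    rw [LinearMap.mem_ker] at hn'
    apply b.equivFun.injective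
    rw [map_zero]
    ext i
    · have := congrFun hn' i
      rw [hφ] at this
      simpa using this
    · have := congrFun h0 i
      rw [hχ] at this
      simpa using this
  have hχsurj : Function.Surjective χ := by
    intro a
    refine ⟨⟨(ε : R[ε]) • b.equivFun.symm (fun i => TrivSqZeroExt.inl (a i)),
      (mem_E _).2 ⟨_, rfl⟩⟩, ?_⟩
    ext i
    rw [hχ]
    change (b.equivFun ((ε : R[ε]) • b.equivFun.symm (fun i => TrivSqZeroExt.inl (a i))) i).snd = a i
    rw [map_smul, LinearEquiv.apply_symm_apply]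
    simp
  exact ⟨⟨Module.Basis.ofEquivFun e1⟩,
    ⟨Module.Basis.ofEquivFun (LinearEquiv.ofBijective χ ⟨hχinj, hχsurj⟩)⟩⟩

end

open DualNumber Pointwise in
theorem result (R : Type u) [CommRing R] (M : Type v)
    [AddCommGroup M] [Module R[ε] M] [Module R M] [IsScalarTower R R[ε] M] (r : ℕ) :
    Nonempty (Module.Basis (Fin r) R[ε] M) ↔
      (Nonempty (Module.Basis (Fin r) R (M ⧸ ((ε : R[ε]) • (⊤ : Submodule R[ε] M)))) ∧
        Nonempty (Module.Basis (Fin r) R (((ε : R[ε]) • (⊤ : Submodule R[ε] M)).restrictScalars R))) := by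
  constructor
  · rintro ⟨b⟩
    exact forward b
  · rintro ⟨⟨bq⟩, ⟨bn⟩⟩
    exact backward bq bn

end Groth.Agent.S14033
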