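import Groth.Statements.S14035
import Mathlib

set_option autoImplicit false
universe u v
open W4c1frobunstiva

namespace Groth.Agent.S14035

open TensorProduct in
/-- auxiliary: if `B ⧸ nilradical B` is `A`-flat and `K ⊗[A] B` is reduced, then
`K ⊗[A] nilradical B` is trivial. -/
theorem aux_subsingleton (A : Type u) (B : Type v) (K : Type*)
    [CommRing A] [CommRing B] [Algebra A B] [CommRing K] [Algebra A K]
    [Module.Flat A (B ⧸ nilradical B)] [IsReduced (K ⊗[A] B)] :
    Subsingleton (K ⊗[A] (nilradical B)) := by
  have hinj : Function.Injective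
      (LinearMap.lTensor K ((nilradical B).subtype.restrictScalars A)) := by
    refine LinearMap.lTensor_injective_of_exact_of_flat
      (Ideal.Quotient.mkₐ A (nilradical B)).toLinearMap ?_
      ((nilradical B).subtype.restrictScalars A) ?_ ?_ K
    · exact Ideal.Quotient.mk_surjective
    · exact Subtype.val_injective
    · intro b
      constructor
      · intro hb
        have hb' : b ∈ nilradical B := Ideal.Quotient.eq_zero_iff_mem.1 hb
        exact ⟨⟨b, hb'⟩, rfl⟩
      · rintro ⟨x, rfl⟩
        exact Ideal.Quotient.eq_zero_iff_mem.2 x.2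
  have hnil : ∀ x : K ⊗[A] (nilradical B),
      IsNilpotent (LinearMap.lTensor K ((nilradical B).subtype.restrictScalars A) x) := by
    intro x
    induction x using TensorProduct.induction_on with
    | zero => simp
    | tmul k n =>
      obtain ⟨m, hm⟩ := (mem_nilradical.1 n.2)
      refine ⟨m, ?_⟩
      simp only [LinearMap.lTensor_tmul, LinearMap.coe_restrictScalars, Submodule.subtype_apply]
      rw [Algebra.TensorProduct.tmul_pow, hm, tmul_zero]
    | add x y hx hy =>
      rw [map_add]
      exact Commute.isNilpotent_add (Commute.all _ _) hx hy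
  refine ⟨fun x y => hinj ?_⟩
  rw [(hnil x).eq_zero, (hnil y).eq_zero]

open TensorProduct in
theorem result (A : Type u) (B : Type v)
    [CommRing A] [CommRing B] [Algebra A B] [IsNoetherianRing B]
    [Module.Flat A (B ⧸ nilradical B)]
    (hfib : ∀ p : PrimeSpectrum A, IsReduced (p.asIdeal.ResidueField ⊗[A] B)) :
    IsReduced B := by
  rw [← nilradical_eq_bot_iff]
  by_contra hN
  have hfin : Module.Finite B (nilradical B) :=
    Module.Finite.iff_fg.2 (IsNoetherian.noetherian _)
  have hnt : Nontrivial (nilradical B) := Submodule.nontrivial_iff_ne_bot.2 hN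
  obtain ⟨q, hq⟩ := Module.nonempty_support_of_nontrivial (R := B) (M := nilradical B)
  rw [Module.mem_support_iff_nontrivial_residueField_tensorProduct] at hq
  let p : PrimeSpectrum A := q.comap (algebraMap A B)
  have hp : p.asIdeal = q.asIdeal.comap (algebraMap A B) := rfl
  haveI := hfib p
  have hsub : Subsingleton (p.asIdeal.ResidueField ⊗[A] (nilradical B)) :=
    aux_subsingleton A B _
  -- the map of residue fields
  let g : p.asIdeal.ResidueField →ₐ[A] q.asIdeal.ResidueField :=
    Ideal.ResidueField.liftₐ p.asIdeal (Algebra.ofId A q.asIdeal.ResidueField)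
      (by
        intro a ha
        rw [RingHom.mem_ker]
        change algebraMap A q.asIdeal.ResidueField a = 0
        rw [IsScalarTower.algebraMap_apply A B q.asIdeal.ResidueField,
          Ideal.algebraMap_residueField_eq_zero]
        exact ha)
      (by
        intro a ha
        change IsUnit (algebraMap A q.asIdeal.ResidueField a)
        rw [isUnit_iff_ne_zero, IsScalarTower.algebraMap_apply A B q.asIdeal.ResidueField, Ne,
          Ideal.algebraMap_residueField_eq_zero]
        exact ha)
  have h1 : Subsingleton (q.asIdeal.ResidueField ⊗[A] (nilradical B)) := by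
    refine ⟨fun x y => ?_⟩
    have key : ∀ z : q.asIdeal.ResidueField ⊗[A] (nilradical B), z = 0 := by
      intro z
      induction z using TensorProduct.induction_on with
      | zero => rfl
      | tmul k n =>
        have h0 : (1 : p.asIdeal.ResidueField) ⊗ₜ[A] n = 0 := Subsingleton.elim _ _
        have h2 : LinearMap.rTensor (nilradical B) g.toLinearMap
            ((1 : p.asIdeal.ResidueField) ⊗ₜ[A] n) = (1 : q.asIdeal.ResidueField) ⊗ₜ[A] n := by
          simp
        rw [h0, map_zero] at h2
        have h3 : k ⊗ₜ[A] n = k • ((1 : q.asIdeal.ResidueField) ⊗ₜ[A] n) := by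
          rw [TensorProduct.smul_tmul', smul_eq_mul, mul_one]
        rw [h3, ← h2, smul_zero]
      | add x y hx hy => rw [hx, hy, add_zero]
    rw [key x, key y]
  have h2 : Subsingleton (q.asIdeal.ResidueField ⊗[B] (nilradical B)) := by
    refine ⟨fun x y => ?_⟩
    have key : ∀ z : q.asIdeal.ResidueField ⊗[B] (nilradical B), z = 0 := by
      intro z
      obtain ⟨w, rfl⟩ := TensorProduct.mapOfCompatibleSMul_surjective B A B
        q.asIdeal.ResidueField (nilradical B) z
      rw [Subsingleton.elim w 0, map_zero]
    rw [key x, key y]
  exact not_subsingleton _ h2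

end Groth.Agent.S14035
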