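import Groth.Statements.S14039
import Mathlib

set_option autoImplicit false
open W4c1frobunstiva

namespace Groth.Agent.S14039

open PowerSeries in
/-- counting exponent vectors via the generating function -/
theorem count_eq_coeff (p n s : ℕ) :
    (Fintype.card {e : Fin n → Fin p // (∀ i, 1 ≤ (e i : ℕ)) ∧ ∑ i, (e i : ℕ) = s} : ℤ) =
      coeff s ((∑ a : Fin p, if 1 ≤ (a : ℕ) then (X : PowerSeries ℤ) ^ (a : ℕ) else 0) ^ n) := by
  classical
  rw [Fintype.sum_pow, map_sum]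
  have key : ∀ e : Fin n → Fin p,
      coeff s (∏ i, (if 1 ≤ ((e i : Fin p) : ℕ) then (X : PowerSeries ℤ) ^ ((e i : Fin p) : ℕ) else 0)) =
        if (∀ i, 1 ≤ (e i : ℕ)) ∧ ∑ i, (e i : ℕ) = s then (1 : ℤ) else 0 := by
    intro e
    rw [Fintype.prod_ite_zero]
    by_cases h1 : ∀ i, 1 ≤ (e i : ℕ)
    · rw [if_pos h1, Finset.prod_pow_eq_pow_sum, coeff_X_pow]
      by_cases h2 : ∑ i, (e i : ℕ) = s
      · rw [if_pos h2.symm, if_pos ⟨h1, h2⟩]
      · rw [if_neg (fun h => h2 h.symm), if_neg (fun h => h2 h.2)]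
    · rw [if_neg h1, map_zero, if_neg (fun h => h1 h.1)]
  simp only [key]
  rw [Finset.sum_boole, Fintype.card_subtype]

open PowerSeries in
theorem gen_identity (p : ℕ) (hp : 1 ≤ p) :
    (∑ a : Fin p, if 1 ≤ (a : ℕ) then (X : PowerSeries ℤ) ^ (a : ℕ) else 0) * (1 - X) =
      X * (1 - X ^ (p - 1)) := by
  have h1 : (∑ a : Fin p, if 1 ≤ (a : ℕ) then (X : PowerSeries ℤ) ^ (a : ℕ) else 0) =
      ∑ a ∈ Finset.Ico 1 p, (X : PowerSeries ℤ) ^ a := by
    rw [Fin.sum_univ_eq_sum_range (fun a => if 1 ≤ a then (X : PowerSeries ℤ) ^ a else 0) p,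
      ← Finset.sum_filter]
    congr 1
    ext a
    simp only [Finset.mem_filter, Finset.mem_range, Finset.mem_Ico]
    tauto
  rw [h1, geom_sum_Ico_mul_neg _ hp, pow_one, mul_sub, mul_one, ← pow_succ']
  congr 2
  omega

open PowerSeries in
theorem main (p n s : ℕ) (hp : 1 ≤ p) (hn : 1 ≤ n) :
    coeff s ((∑ a : Fin p, if 1 ≤ (a : ℕ) then (X : PowerSeries ℤ) ^ (a : ℕ) else 0) ^ n) =
      ∑ i ∈ Finset.range (n + 1),
        (-1 : ℤ) ^ i * (n.choose i : ℤ) *
          (if i * (p - 1) + n ≤ s then (((s - i * (p - 1) - 1).choose (n - 1) : ℕ) : ℤ) else 0) := by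
  set P := (∑ a : Fin p, if 1 ≤ (a : ℕ) then (X : PowerSeries ℤ) ^ (a : ℕ) else 0) with hP
  set q := p - 1 with hq
  set G : PowerSeries ℤ := (invOneSubPow ℤ n).val with hG
  have hGinv : (1 - X : PowerSeries ℤ) ^ n * G = 1 := by
    rw [← invOneSubPow_inv_eq_one_sub_pow]
    exact (invOneSubPow ℤ n).inv_val
  have hPn : P ^ n = (X * (1 - X ^ q)) ^ n * G := by
    rw [← gen_identity p hp, mul_pow, mul_assoc, hGinv, mul_one]
  have hbin : (1 - (X : PowerSeries ℤ) ^ q) ^ n =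
      ∑ i ∈ Finset.range (n + 1), (-1 : PowerSeries ℤ) ^ i * (n.choose i : PowerSeries ℤ) * X ^ (i * q) := by
    have : (1 - (X : PowerSeries ℤ) ^ q) = (-(X ^ q) + 1) := by ring
    rw [this, add_pow]
    refine Finset.sum_congr rfl fun i _ => ?_
    rw [one_pow, mul_one, neg_pow, ← pow_mul, mul_comm q i]
    ring
  have hGcoeff : ∀ j, coeff j G = ((n - 1 + j).choose (n - 1) : ℤ) := by
    intro j
    rw [hG, invOneSubPow_val_eq_mk_sub_one_add_choose_of_pos ℤ n hn, coeff_mk]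
  rw [hPn, mul_pow, hbin, mul_assoc, Finset.sum_mul, Finset.mul_sum, map_sum]
  refine Finset.sum_congr rfl fun i _ => ?_
  have h3 : (X : PowerSeries ℤ) ^ n * ((-1 : PowerSeries ℤ) ^ i * (n.choose i : PowerSeries ℤ) * X ^ (i * q) * G) =
      C (((-1 : ℤ) ^ i * (n.choose i : ℤ))) * (X ^ (i * q + n) * G) := by
    rw [map_mul, map_pow, map_neg, map_one, map_natCast, pow_add]
    ring
  rw [h3, coeff_C_mul, coeff_X_pow_mul']
  congr 1
  split_ifs with h
  · rw [hGcoeff]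
    congr 2
    omega
  · rfl

theorem result (p n s : ℕ)
    (hn : 1 ≤ n) :
    (Fintype.card {e : Fin n → Fin p // (∀ i, 1 ≤ (e i : ℕ)) ∧ ∑ i, (e i : ℕ) = s} : ℤ) =
      ∑ i ∈ Finset.range (n + 1),
        (-1 : ℤ) ^ i * (n.choose i : ℤ) *
          (if i * (p - 1) + n ≤ s then (((s - i * (p - 1) - 1).choose (n - 1) : ℕ) : ℤ) else 0) := by
  rcases Nat.eq_zero_or_pos p with hp | hp
  · subst hp
    have hempty : IsEmpty {e : Fin n → Fin 0 // (∀ i, 1 ≤ (e i : ℕ)) ∧ ∑ i, (e i : ℕ) = s} := by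
      constructor
      rintro ⟨e, -⟩
      exact (e ⟨0, hn⟩).elim0
    rw [Fintype.card_eq_zero]
    simp only [Nat.zero_sub, mul_zero, zero_add, Nat.sub_zero, Nat.cast_zero]
    rw [← Finset.sum_mul, Int.alternating_sum_range_choose, if_neg (by omega), zero_mul]
  · rw [count_eq_coeff, main p n s hp hn]

end Groth.Agent.S14039
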