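import Groth.Statements.S14042
import Groth.Agent.H22.FlatRank
import Groth.Agent.H22.AffNhd
import Groth.Agent.H22.QFFlat
import Groth.Agent.H22.FibreSections
import Groth.Agent.H22.FunFieldRes

set_option autoImplicit false
universe u
open CategoryTheory CategoryTheory.Limits AlgebraicGeometry
open W4c1frobunstiva

namespace Groth.Agent.S14042

/-- Let k be a field, X and Y integral schemes of finite type over k of the same dimension whose local
rings are all regular, and f : X → Y a dominant and separated k-morphism; let d be the degree of the
residue field of the generic point of X over that of the generic point of Y, a finite extension.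
Then for every point y of Y, either the fibre X_y has positive dimension — it is not finite over
κ(y) — or its ring of global sections has dimension at most d over κ(y). (The published statement
speaks of length; the κ(y)-rank used here is at least the length, so this form implies the printed
one. The published statement does not mention separatedness: for the affine line with doubled origin
mapping to the affine line — regular, dominant, degree 1 — the fibre over the origin is two reduced
points, of rank 2; the étale-local splitting of a quasi-finite morphism used in the published proof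
needs f separated, so f is taken separated here.) -/
theorem result (k : Type u) [Field k] {X Y : Scheme.{u}}
    [X.Over (Spec (CommRingCat.of k))] [Y.Over (Spec (CommRingCat.of k))]
    [LocallyOfFiniteType (X ↘ Spec (CommRingCat.of k))] [QuasiCompact (X ↘ Spec (CommRingCat.of k))]
    [LocallyOfFiniteType (Y ↘ Spec (CommRingCat.of k))] [QuasiCompact (Y ↘ Spec (CommRingCat.of k))]
    [IsIntegral X] [IsIntegral Y] (f : X ⟶ Y) [IsDominant f]
    (hf : f ≫ (Y ↘ Spec (CommRingCat.of k)) = X ↘ Spec (CommRingCat.of k))
    (hdim : topologicalKrullDim ↥X = topologicalKrullDim ↥Y)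
    [IsSeparated f] (hX : ∀ x : X, IsRegularLocalRing (X.presheaf.stalk x))
    (hY : ∀ y : Y, IsRegularLocalRing (Y.presheaf.stalk y)) (y : Y)
    (hy : IsFinite (pullback.snd f (Y.fromSpecResidueField y))) :
    (letI := ((Scheme.ΓSpecIso (CommRingCat.of (Y.residueField y))).inv ≫
            (pullback.snd f (Y.fromSpecResidueField y)).appTop).hom.toAlgebra;
          Module.finrank (Y.residueField y) ↑(Γ(pullback f (Y.fromSpecResidueField y), ⊤))) ≤
      (letI := (f.residueFieldMap (genericPoint ↥X)).hom.toAlgebra;
          Module.finrank (Y.residueField (f.base (genericPoint ↥X))) (X.residueField (genericPoint ↥X))) := by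
  let qY := Y ↘ Spec (CommRingCat.of k)
  let qX := X ↘ Spec (CommRingCat.of k)
  haveI : LocallyOfFiniteType (f ≫ qY) := by rw [hf]; infer_instance
  haveI : LocallyOfFiniteType f := locallyOfFiniteType_of_comp f qY
  haveI : IsLocallyNoetherian X := LocallyOfFiniteType.isLocallyNoetherian qX
  haveI : CompactSpace X := QuasiCompact.compactSpace_of_compactSpace qX
  haveI : IsNoetherian X := {}
  haveI : QuasiCompact f := inferInstance
  set g := Y.fromSpecResidueField y with hg
  -- points of the scheme-theoretic fibre lie over `y`
  have hfst : ∀ z : ↥(pullback f g), f (pullback.fst f g z) = y := by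
    intro z
    have h1 : f (pullback.fst f g z) = g (pullback.snd f g z) := by
      rw [← Scheme.Hom.comp_apply, ← Scheme.Hom.comp_apply, pullback.condition]
    rw [h1, Scheme.fromSpecResidueField_apply]
  -- the empty fibre
  by_cases hemp : f ⁻¹' {y} = ∅
  · haveI : IsEmpty ↥(pullback f g) := ⟨fun z => by
      have : pullback.fst f g z ∈ f ⁻¹' {y} := hfst z
      rw [hemp] at this
      exact this⟩
    letI := ((Scheme.ΓSpecIso (CommRingCat.of (Y.residueField y))).inv ≫
      (pullback.snd f g).appTop).hom.toAlgebra
    rw [Module.finrank_zero_of_subsingleton]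
    exact Nat.zero_le _
  obtain ⟨x₀, hx₀⟩ := Set.nonempty_iff_ne_empty.mpr hemp
  -- the fibre is finite and discrete
  haveI hy' : IsFinite (pullback.snd f g) := hy
  haveI hqf : LocallyQuasiFinite (pullback.snd f g) := inferInstance
  have hart : IsLocallyArtinian (pullback f g) :=
    IsLocallyArtinian.of_locallyQuasiFinite (pullback.snd f g)
  haveI : IsLocallyArtinian (f.fiber y) := hart
  have hSfin : (f ⁻¹' {y}).Finite := by
    haveI : Finite ↥(f.fiber y) := by
      have h1 := (pullback.snd f g).finite_preimage_singleton default
      have h2 : (pullback.snd f g) ⁻¹' {default} = Set.univ :=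
        Set.eq_univ_of_forall fun z => Subsingleton.elim _ _
      rw [h2] at h1
      exact Set.finite_univ_iff.mp h1
    rw [← Scheme.Hom.range_fiberι]
    exact Set.finite_range _
  have hSQ : ∀ x ∈ f ⁻¹' {y}, f.QuasiFiniteAt x := by
    intro x hx
    obtain rfl : f x = y := hx
    rw [Scheme.Hom.quasiFiniteAt_iff_isOpen_singleton_asFiber]
    exact isOpen_discrete _
  obtain ⟨V, hV, hyV, -⟩ := exists_isAffineOpen_mem_and_subset (x := y) (U := ⊤) trivial
  obtain ⟨W, hW, hSW, hWQ, hWV⟩ := Groth.Agent.H22.AffNhd.exists_affineOpen_fibre f hV
    (f ⁻¹' {y}) hSfin hSQ (fun x hx => by rw [show f x = y from hx]; exact hyV)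
  have hflat := Groth.Agent.H22.QFFlat.flat_appLE k f hf hdim hX hY hV hW hWQ hWV
  obtain ⟨β, hpo⟩ := Groth.Agent.H22.FibreSections.isPushout_fibre f y hV hyV hW hWV hSW
  -- generic points
  have hξW : genericPoint X ∈ W := by
    change genericPoint X ∈ (W : Set X)
    rw [(genericPoint_spec X).mem_open_set_iff W.isOpen]
    exact ⟨x₀, trivial, hSW hx₀⟩
  have hfξ : f (genericPoint X) = genericPoint Y :=
    Groth.Agent.H20.map_genericPoint_of_isDominant f
  have hfξV : f (genericPoint X) ∈ V := hWV hξW
  obtain ⟨hfinite, -⟩ := Groth.Agent.H22.GenDeg.main k f hf hdim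
  exact Groth.Agent.H22.FlatRank.finrank_le_of_isPushout (Y.presheaf.stalk y)
    (K := Y.residueField (f (genericPoint X))) (L := X.residueField (genericPoint X))
    (f.appLE V W hWV) hflat (Y.presheaf.germ V y hyV ≫ Y.residue y) β _ hpo
    (Y.presheaf.germ V y hyV).hom (germ_injective_of_isIntegral Y y hyV) rfl
    (Y.presheaf.germ V (f (genericPoint X)) hfξV ≫ Y.residue (f (genericPoint X))).hom
    (Groth.Agent.H22.FunFieldRes.isFractionRing_residueField hV _ hfξ hfξV)
    (f.residueFieldMap (genericPoint X)).hom hfinite
    (X.presheaf.germ W (genericPoint X) hξW ≫ X.residue (genericPoint X)).hom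
    (Groth.Agent.H22.FunFieldRes.injective_germ_residue W hξW)
    (by
      have := Groth.Agent.H22.FunFieldRes.appLE_germ_residue f V W hWV (genericPoint X) hξW
      exact congrArg CommRingCat.Hom.hom this)

end Groth.Agent.S14042
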