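import Groth.Statements.S14043
import Groth.Agent.H70.NRBasis
import Mathlib

set_option autoImplicit false
universe u v
open W4c1frobunstiva

namespace Groth.Agent.S14043

open Groth.Agent.H70 in
theorem result (R : Type u) [CommRing R]
    [IsNoetherianRing R] (M : Type v) [AddCommGroup M] [Module R M] (r : ℕ)
    (hM : W4c1frobunstiva.IsNRFree R M r) (m m' : Fin r → M)
    (hm : Submodule.span R (Set.range m) = ⊤) (hm' : Submodule.span R (Set.range m') = ⊤) :
    ∃ T : Matrix (Fin r) (Fin r) R, IsUnit T ∧ ∀ j, m' j = ∑ i, T j i • m i := by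
  obtain ⟨y, hy⟩ := hM
  have hNRm' : IsNRBasis R M m' := isNRBasis_of_span hy hm'
  obtain ⟨T, hT⟩ := exists_matrix_of_span hm m'
  obtain ⟨S, hS⟩ := exists_matrix_of_span hm' m
  have hTS : ∀ j, ∑ i, (T * S) j i • m' i = m' j := by
    intro j
    rw [hT j]
    simp only [Matrix.mul_apply, Finset.sum_smul, hS, Finset.smul_sum, smul_smul]
    rw [Finset.sum_comm]
  have hu : IsUnit (T * S) := isUnit_of_fix_NRBasis hNRm' _ hTS
  have hdet : IsUnit (T * S).det := (Matrix.isUnit_iff_isUnit_det _).1 hu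
  rw [Matrix.det_mul] at hdet
  have hTdet : IsUnit T.det := isUnit_of_mul_isUnit_left hdet
  exact ⟨T, (Matrix.isUnit_iff_isUnit_det _).2 hTdet, hT⟩

end Groth.Agent.S14043
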