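import Groth.Statements.S14046
import Mathlib.Tactic
import Mathlib.RingTheory.Flat.Equalizer

set_option autoImplicit false
universe u v w

namespace Groth.Agent.S14046

open TensorProduct

section
variable (R : Type u) (A : Type v) [CommRing R] [CommRing A] [Algebra R A] (I J : Ideal A)

/-- `a ↦ (a mod I, a mod J)` -/
noncomputable def gmap : A →ₗ[R] (A ⧸ I) × (A ⧸ J) :=
  (LinearMap.inl R (A ⧸ I) (A ⧸ J)).comp (Ideal.Quotient.mkₐ R I).toLinearMap +
    (LinearMap.inr R (A ⧸ I) (A ⧸ J)).comp (Ideal.Quotient.mkₐ R J).toLinearMap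

/-- `(x, y) ↦ x - y` in `A/(I+J)` -/
noncomputable def fmap : (A ⧸ I) × (A ⧸ J) →ₗ[R] A ⧸ (I ⊔ J) :=
  ((Ideal.Quotient.factorₐ R (le_sup_left : I ≤ I ⊔ J)).toLinearMap).comp (LinearMap.fst R _ _) -
    ((Ideal.Quotient.factorₐ R (le_sup_right : J ≤ I ⊔ J)).toLinearMap).comp (LinearMap.snd R _ _)

theorem gmap_apply (a : A) : gmap R A I J a = (Ideal.Quotient.mk I a, Ideal.Quotient.mk J a) := by
  simp [gmap]

theorem fmap_apply (a b : A) : fmap R A I J (Ideal.Quotient.mk I a, Ideal.Quotient.mk J b) =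
    Ideal.Quotient.mk (I ⊔ J) a - Ideal.Quotient.mk (I ⊔ J) b := by
  simp [fmap]

theorem gmap_injective (hIJ : I ⊓ J = ⊥) : Function.Injective (gmap R A I J) := by
  rw [injective_iff_map_eq_zero]
  intro a ha
  rw [gmap_apply, Prod.mk_eq_zero, Ideal.Quotient.eq_zero_iff_mem, Ideal.Quotient.eq_zero_iff_mem] at ha
  have : a ∈ I ⊓ J := ⟨ha.1, ha.2⟩
  rw [hIJ] at this
  exact this

theorem fmap_surjective : Function.Surjective (fmap R A I J) := by
  intro x
  obtain ⟨a, rfl⟩ := Ideal.Quotient.mk_surjective x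
  refine ⟨(Ideal.Quotient.mk I a, Ideal.Quotient.mk J 0), ?_⟩
  rw [fmap_apply]; simp

theorem exact_gf : Function.Exact (gmap R A I J) (fmap R A I J) := by
  intro p
  constructor
  · obtain ⟨x, y⟩ := p
    obtain ⟨a, rfl⟩ := Ideal.Quotient.mk_surjective x
    obtain ⟨b, rfl⟩ := Ideal.Quotient.mk_surjective y
    intro h
    rw [fmap_apply, ← map_sub, Ideal.Quotient.eq_zero_iff_mem, Submodule.mem_sup] at h
    obtain ⟨i, hi, j, hj, hij⟩ := h
    refine ⟨a - i, ?_⟩
    rw [gmap_apply]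
    ext
    · simp only [map_sub]
      rw [(Ideal.Quotient.eq_zero_iff_mem).mpr hi, sub_zero]
    · simp only
      rw [Ideal.Quotient.eq]
      have : a - i - b = j := by linear_combination -hij
      rw [this]; exact hj
  · rintro ⟨a, rfl⟩
    rw [gmap_apply, fmap_apply, sub_self]

end

theorem lTensor_mk_eq_zero (R : Type u) (A : Type v) [CommRing R] [CommRing A] [Algebra R A]
    (I : Ideal A) (R' : Type w) [CommRing R'] [Algebra R R'] (z : R' ⊗[R] A)
    (hz : z ∈ I.map (Algebra.TensorProduct.includeRight : A →ₐ[R] R' ⊗[R] A)) :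
    ((Ideal.Quotient.mkₐ R I).toLinearMap.lTensor R') z = 0 := by
  have h1 : I.map (Algebra.TensorProduct.includeRight : A →ₐ[R] R' ⊗[R] A) ≤
      RingHom.ker (Algebra.TensorProduct.map (AlgHom.id R R') (Ideal.Quotient.mkₐ R I)) := by
    rw [Ideal.map_le_iff_le_comap]
    intro i hi
    rw [Ideal.mem_comap, RingHom.mem_ker]
    simp [(Ideal.Quotient.eq_zero_iff_mem).mpr hi]
  have h2 := h1 hz
  rw [RingHom.mem_ker] at h2
  rw [← h2]
  clear h2 hz
  induction z using TensorProduct.induction_on with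
  | zero => simp
  | tmul x y => simp
  | add x y hx hy =>
    rw [map_add, map_add, hx, hy]

theorem result (R : Type u) (A : Type v)
    [CommRing R] [CommRing A] [Algebra R A] (I J : Ideal A) (hIJ : I ⊓ J = ⊥)
    [Module.Flat R (A ⧸ (I ⊔ J))] (R' : Type w) [CommRing R'] [Algebra R R'] :
    I.map (Algebra.TensorProduct.includeRight : A →ₐ[R] R' ⊗[R] A) ⊓
      J.map (Algebra.TensorProduct.includeRight : A →ₐ[R] R' ⊗[R] A) = ⊥ := by
  have hinj := LinearMap.lTensor_injective_of_exact_of_flat (fmap R A I J) (fmap_surjective R A I J)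
    (gmap R A I J) (gmap_injective R A I J hIJ) (exact_gf R A I J) R'
  rw [eq_bot_iff]
  rintro z ⟨hzI, hzJ⟩
  rw [Ideal.mem_bot]
  apply hinj
  rw [map_zero]
  unfold gmap
  rw [LinearMap.lTensor_add, LinearMap.add_apply, LinearMap.lTensor_comp, LinearMap.lTensor_comp,
    LinearMap.comp_apply, LinearMap.comp_apply, lTensor_mk_eq_zero R A I R' z hzI,
    lTensor_mk_eq_zero R A J R' z hzJ, map_zero, map_zero, add_zero]

end Groth.Agent.S14046
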