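import Groth.Statements.S14048
import Mathlib

set_option autoImplicit false
universe u
open TensorProduct
open CAlg

namespace Groth.Agent.S14048

/-- `x` is `p`-integral. -/
def Good (p : ℕ) (x : ℚ) : Prop := ∃ n : ℤ, ¬ ((p : ℤ) ∣ n) ∧ ∃ z : ℤ, x * n = z

theorem good_zero {p : ℕ} (hp : p.Prime) : Good p 0 := by
  refine ⟨1, ?_, 0, by simp⟩
  intro h
  have := Int.natCast_dvd_natCast.1 (by simpa using h : ((p : ℤ) ∣ ((1 : ℕ) : ℤ)))
  exact hp.one_lt.ne' (Nat.dvd_one.1 this)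

theorem good_of_mul {p : ℕ} (hp : p.Prime) {x : ℚ} {M : ℤ} (hM : ¬ ((p : ℤ) ∣ M))
    (h : Good p (x * M)) : Good p x := by
  obtain ⟨n, hn, z, hz⟩ := h
  refine ⟨M * n, ?_, z, ?_⟩
  · intro hd
    rcases (Nat.prime_iff_prime_int.1 hp).dvd_or_dvd hd with h | h
    · exact hM h
    · exact hn h
  · rw [← hz]; push_cast; ring

theorem good_int_sub {p : ℕ} {y : ℚ} (w : ℤ) (h : Good p y) : Good p (w - y) := by
  obtain ⟨n, hn, z, hz⟩ := h
  refine ⟨n, hn, w * n - z, ?_⟩
  push_cast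
  rw [← hz]; ring

theorem not_good_inv {p : ℕ} {x : ℚ} (h : Good p x) (hx : x * p = 1) : False := by
  obtain ⟨n, hn, z, hz⟩ := h
  apply hn
  refine ⟨z, ?_⟩
  have : ((n : ℤ) : ℚ) = ((p * z : ℤ) : ℚ) := by
    push_cast
    rw [← hz]
    calc (n : ℚ) = (x * p) * n := by rw [hx, one_mul]
      _ = p * (x * n) := by ring
  exact_mod_cast this

/-- every element of `ℚ ⊗ A` has a positive integer multiple which is a pure tensor `1 ⊗ a` -/
theorem exists_nsmul_eq_one_tmul (A : Type u) [CommRing A] (y : ℚ ⊗[ℤ] A) :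
    ∃ n : ℕ, n ≠ 0 ∧ ∃ a : A, (n : ℚ ⊗[ℤ] A) * y = (1 : ℚ) ⊗ₜ[ℤ] a := by
  induction y using TensorProduct.induction_on with
  | zero => exact ⟨1, one_ne_zero, 0, by simp⟩
  | tmul q a =>
    refine ⟨q.den, q.den_nz, q.num • a, ?_⟩
    have h1 : ((q.den : ℕ) : ℚ ⊗[ℤ] A) = ((q.den : ℚ)) ⊗ₜ[ℤ] (1 : A) := by
      rw [← map_natCast (algebraMap ℚ (ℚ ⊗[ℤ] A)), Algebra.TensorProduct.algebraMap_apply]
      simp
    rw [h1, Algebra.TensorProduct.tmul_mul_tmul, one_mul, Rat.den_mul_eq_num,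
      ← TensorProduct.smul_tmul]
    simp
  | add y₁ y₂ h₁ h₂ =>
    obtain ⟨n₁, hn₁, a₁, e₁⟩ := h₁
    obtain ⟨n₂, hn₂, a₂, e₂⟩ := h₂
    refine ⟨n₁ * n₂, mul_ne_zero hn₁ hn₂, (n₂ : A) * a₁ + (n₁ : A) * a₂, ?_⟩
    have h3 : ∀ (n : ℕ) (a : A), (1 : ℚ) ⊗ₜ[ℤ] ((n : A) * a) = (n : ℚ ⊗[ℤ] A) * ((1 : ℚ) ⊗ₜ[ℤ] a) := by
      intro n a
      have : (n : ℚ ⊗[ℤ] A) = (1 : ℚ) ⊗ₜ[ℤ] (n : A) := by
        rw [← map_natCast (Algebra.TensorProduct.includeRight : A →ₐ[ℤ] ℚ ⊗[ℤ] A)]
        rfl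
      rw [this, Algebra.TensorProduct.tmul_mul_tmul, one_mul]
    rw [TensorProduct.tmul_add, h3, h3, ← e₁, ← e₂]
    push_cast
    ring


/-- uniform denominators for finitely generated ideals -/
theorem exists_uniform (A : Type u) [CommRing A] (J : Ideal A) (P : Ideal A) (hP : P.FG)
    (h : ∀ g ∈ P, ∃ n : ℕ, n ≠ 0 ∧ (n : A) * g ∈ J) :
    ∃ N : ℕ, N ≠ 0 ∧ ∀ g ∈ P, (N : A) * g ∈ J := by
  revert h
  refine Submodule.fg_induction (R := A) (M := A)
    (motive := fun (P : Submodule A A) _ => (∀ g ∈ P, ∃ n : ℕ, n ≠ 0 ∧ (n : A) * g ∈ J) →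
      ∃ N : ℕ, N ≠ 0 ∧ ∀ g ∈ P, (N : A) * g ∈ J) ?_ ?_ P hP
  · intro x h
    obtain ⟨n, hn, hx⟩ := h x (Submodule.mem_span_singleton_self x)
    refine ⟨n, hn, fun g hg => ?_⟩
    obtain ⟨r, rfl⟩ := Submodule.mem_span_singleton.1 hg
    have : (n : A) * (r • x) = r * ((n : A) * x) := by rw [smul_eq_mul]; ring
    rw [this]
    exact J.mul_mem_left _ hx
  · intro M₁ M₂ _ _ h₁ h₂ h
    obtain ⟨N₁, hN₁, H₁⟩ := h₁ (fun g hg => h g (Submodule.mem_sup_left hg))
    obtain ⟨N₂, hN₂, H₂⟩ := h₂ (fun g hg => h g (Submodule.mem_sup_right hg))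
    refine ⟨N₁ * N₂, mul_ne_zero hN₁ hN₂, fun g hg => ?_⟩
    obtain ⟨g₁, hg₁, g₂, hg₂, rfl⟩ := Submodule.mem_sup.1 hg
    have : ((N₁ * N₂ : ℕ) : A) * (g₁ + g₂) = (N₂ : A) * ((N₁ : A) * g₁) + (N₁ : A) * ((N₂ : A) * g₂) := by
      push_cast; ring
    rw [this]
    exact J.add_mem (J.mul_mem_left _ (H₁ g₁ hg₁)) (J.mul_mem_left _ (H₂ g₂ hg₂))


open Polynomial in
theorem result (A : Type u) [CommRing A]
    [IsDomain A] (h2 : IsUnit (2 : A)) (t : A)
    (h1 : Function.Bijective (Polynomial.aeval (R := ℚ) ((1 : ℚ) ⊗ₜ[ℤ] t : ℚ ⊗[ℤ] A)))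
    (h0 : ∀ p : ℕ, p.Prime → IsUnit ((p : ℕ) : A ⧸ Ideal.span ({t} : Set A)))
    (s : A →+* Localization.Away (2 : ℤ)) (hs : s t = 1) :
    ¬ IsNoetherianRing A := by
  intro hnoeth
  -- the ring hom s' : A → ℚ
  have hu : IsUnit ((Int.castRingHom ℚ) 2) := by simp
  let φ : Localization.Away (2 : ℤ) →+* ℚ := IsLocalization.Away.lift (2 : ℤ) hu
  let s' : A →+* ℚ := φ.comp s
  have hs' : s' t = 1 := by simp [s', hs]
  have hs'int : ∀ a : A, ∃ (k : ℕ) (m : ℤ), s' a * 2 ^ k = m := by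
    intro a
    obtain ⟨k, m, h⟩ := IsLocalization.Away.surj (2 : ℤ) (s a)
    refine ⟨k, m, ?_⟩
    have h' := congrArg φ h
    have e2 : φ (algebraMap ℤ (Localization.Away (2 : ℤ)) 2) = 2 := by
      simp only [φ, IsLocalization.Away.lift_eq]; simp
    have em : φ (algebraMap ℤ (Localization.Away (2 : ℤ)) m) = m := by
      simp only [φ, IsLocalization.Away.lift_eq]; simp
    rw [map_mul, map_pow, e2, em] at h'
    exact h'
  haveI : CharZero A := RingHom.charZero s'
  -- ι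
  let e : Polynomial ℚ ≃ₐ[ℚ] ℚ ⊗[ℤ] A := AlgEquiv.ofBijective _ h1
  let inc : A →+* ℚ ⊗[ℤ] A := (Algebra.TensorProduct.includeRight : A →ₐ[ℤ] ℚ ⊗[ℤ] A).toRingHom
  let ι : A →+* Polynomial ℚ := (e.symm : ℚ ⊗[ℤ] A →+* Polynomial ℚ).comp inc
  have hιdef : ∀ a : A, ι a = e.symm ((1 : ℚ) ⊗ₜ[ℤ] a) := fun a => rfl
  have hιt : ι t = Polynomial.X := by
    rw [hιdef, AlgEquiv.symm_apply_eq]
    simp [e]
  have hinc_inj : Function.Injective inc :=
    Algebra.TensorProduct.includeRight_injective (R := ℤ) (A := ℚ) (B := A)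
      (RingHom.injective_int (algebraMap ℤ ℚ))
  have hι_inj : Function.Injective ι := e.symm.injective.comp hinc_inj
  have hι_surj : ∀ h : Polynomial ℚ, ∃ n : ℕ, n ≠ 0 ∧ ∃ a : A, (n : Polynomial ℚ) * h = ι a := by
    intro h
    obtain ⟨n, hn, a, ha⟩ := exists_nsmul_eq_one_tmul A (e h)
    refine ⟨n, hn, a, ?_⟩
    rw [hιdef, ← ha, map_mul, map_natCast, AlgEquiv.symm_apply_apply]
  set J : Ideal A := Ideal.span {t - 1} with hJ
  have hι_int : ∀ z : ℤ, ι (z : A) = (z : Polynomial ℚ) := fun z => map_intCast ι z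
  have hι_nat : ∀ n : ℕ, ι (n : A) = (n : Polynomial ℚ) := fun n => map_natCast ι n
  have hker : ∀ g ∈ RingHom.ker s', ∃ n : ℕ, n ≠ 0 ∧ (n : A) * g ∈ J := by
    intro g hg
    rw [RingHom.mem_ker] at hg
    set f := ι g with hf
    set h := f /ₘ (X - C 1) with hh
    set r := f.eval 1 with hr
    have hdiv : f = C r + (X - C 1) * h := by
      have := Polynomial.modByMonic_add_div f (X - C (1:ℚ))
      rw [Polynomial.modByMonic_X_sub_C_eq_C_eval] at this
      exact this.symm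
    obtain ⟨M, hM, c, hc⟩ := hι_surj h
    have hr0 : r = 0 := by
      have e1 : ι ((M : A) * (r.den : A) * g) =
          ι ((M : A) * (r.num : A) + (t - 1) * (r.den : A) * c) := by
        simp only [map_mul, map_add, map_sub, map_one, hιt, hι_nat, hι_int, ← hc]
        rw [← hf, hdiv]
        have : (r.den : Polynomial ℚ) * C r = (r.num : Polynomial ℚ) := by
          rw [← Polynomial.C_eq_natCast, ← Polynomial.C_mul, Rat.den_mul_eq_num,
            Polynomial.C_eq_intCast]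
        rw [Polynomial.C_1]
        linear_combination (M : Polynomial ℚ) * this
      have e2 := hι_inj e1
      have e3 := congrArg s' e2
      simp only [map_mul, map_add, map_sub, map_one, hg, hs', mul_zero, sub_self, zero_mul,
        add_zero, map_natCast, map_intCast] at e3
      have hM' : (M : ℚ) ≠ 0 := by exact_mod_cast hM
      have : (r.num : ℚ) = 0 := by
        rcases mul_eq_zero.1 e3.symm with h | h
        · exact absurd h hM'
        · exact h
      have : r.num = 0 := by exact_mod_cast this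
      exact Rat.num_eq_zero.1 this
    refine ⟨M, hM, ?_⟩
    have e1 : ι ((M : A) * g) = ι ((t - 1) * c) := by
      simp only [map_mul, map_sub, map_one, hιt, hι_nat, ← hc]
      rw [← hf, hdiv, hr0, Polynomial.C_1]
      simp only [map_zero, zero_add]
      ring
    rw [hι_inj e1, hJ]
    exact Ideal.mem_span_singleton'.2 ⟨c, mul_comm _ _⟩
  obtain ⟨N, hN, hNJ⟩ := exists_uniform A J (RingHom.ker s')
    ((isNoetherianRing_iff_ideal_fg A).1 hnoeth _) hker
  -- choose a prime p > 2N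
  obtain ⟨p, hp_ge, hp⟩ := Nat.exists_infinite_primes (2 * N + 1)
  have hNpos : 0 < N := Nat.pos_of_ne_zero hN
  have hp2 : ¬ ((p : ℤ) ∣ 2) := by
    intro h
    have h' := Int.natCast_dvd_natCast.1 (by exact_mod_cast h : ((p : ℤ) ∣ ((2 : ℕ) : ℤ)))
    have := Nat.le_of_dvd (by norm_num) h'
    omega
  have hpN : ¬ ((p : ℤ) ∣ (N : ℤ)) := by
    intro h
    have h' := Int.natCast_dvd_natCast.1 h
    have := Nat.le_of_dvd hNpos h'
    omega
  have key : ∀ d : ℕ, ∀ a : A, (ι a).natDegree = d → Good p ((ι a).eval 0) := by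
    intro d
    induction d using Nat.strong_induction_on with
    | _ d ih =>
    intro a hd
    obtain ⟨k, m, hkm⟩ := hs'int a
    set b : A := 2 ^ k * a - (m : A) with hb
    have hbker : b ∈ RingHom.ker s' := by
      rw [RingHom.mem_ker, hb, map_sub, map_mul, map_pow, map_intCast, map_ofNat, mul_comm, hkm,
        sub_self]
    obtain ⟨c, hc⟩ := Ideal.mem_span_singleton'.1 (hNJ b hbker)
    have hstar : (N : Polynomial ℚ) * (2 ^ k * ι a - (m : Polynomial ℚ)) = (X - 1) * ι c := by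
      have := congrArg ι hc
      simp only [hb, map_mul, map_sub, map_one, map_pow, hιt, hι_nat, hι_int, map_ofNat] at this
      rw [← this]; ring
    have hgoodc : Good p ((ι c).eval 0) := by
      by_cases hc0 : ι c = 0
      · rw [hc0]; simpa using good_zero hp
      · apply ih (ι c).natDegree _ c rfl
        have h1 : ((X - 1 : Polynomial ℚ) * ι c).natDegree = 1 + (ι c).natDegree := by
          have hX : (X - 1 : Polynomial ℚ) = X - C 1 := by simp
          rw [hX, Polynomial.natDegree_mul (Polynomial.X_sub_C_ne_zero 1) hc0,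
            Polynomial.natDegree_X_sub_C]
        have h2 : ((N : Polynomial ℚ) * (2 ^ k * ι a - (m : Polynomial ℚ))).natDegree
            ≤ (ι a).natDegree := by
          calc ((N : Polynomial ℚ) * (2 ^ k * ι a - (m : Polynomial ℚ))).natDegree
              ≤ (2 ^ k * ι a - (m : Polynomial ℚ)).natDegree := by
                rw [← Polynomial.C_eq_natCast]; exact Polynomial.natDegree_C_mul_le _ _
            _ ≤ max ((2 ^ k * ι a).natDegree) ((m : Polynomial ℚ).natDegree) :=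
                Polynomial.natDegree_sub_le _ _
            _ ≤ (ι a).natDegree := by
                rw [Polynomial.natDegree_intCast, max_eq_left (Nat.zero_le _)]
                have : (2 : Polynomial ℚ) ^ k = C (2 ^ k) := by
                  rw [map_pow]; rfl
                rw [this]; exact Polynomial.natDegree_C_mul_le _ _
        rw [hstar] at h2; omega
    have hev := congrArg (Polynomial.eval 0) hstar
    simp only [eval_mul, eval_sub, eval_pow, eval_natCast, eval_intCast, eval_ofNat, eval_X,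
      eval_one] at hev
    apply good_of_mul hp (M := 2 ^ k * N) ?_ ?_
    · intro hd
      rcases (Nat.prime_iff_prime_int.1 hp).dvd_or_dvd hd with h | h
      · exact hp2 ((Nat.prime_iff_prime_int.1 hp).dvd_of_dvd_pow h)
      · exact hpN h
    · have : (ι a).eval 0 * ((2 ^ k * N : ℤ) : ℚ) = ((N * m : ℤ) : ℚ) - (ι c).eval 0 := by
        push_cast; linear_combination hev
      rw [this]
      exact good_int_sub _ hgoodc
  obtain ⟨u, hu⟩ := (h0 p hp).exists_right_inv
  obtain ⟨a', rfl⟩ := Ideal.Quotient.mk_surjective u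
  have hmem : (p : A) * a' - 1 ∈ Ideal.span {t} := by
    rw [← Ideal.Quotient.eq_zero_iff_mem, map_sub, map_mul, map_natCast, map_one, hu, sub_self]
  obtain ⟨b', hb'⟩ := Ideal.mem_span_singleton'.1 hmem
  have h3 := congrArg (fun x => (ι x).eval 0) hb'
  simp only [map_mul, map_sub, map_one, hιt, hι_nat, eval_mul, eval_sub, eval_X, eval_natCast,
    eval_one, mul_zero] at h3
  exact not_good_inv (key _ a' rfl) (by linear_combination -h3)

end Groth.Agent.S14048
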