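import Groth.Statements.S14051
import Mathlib.Tactic
import Mathlib.Algebra.DirectSum.Decomposition

set_option autoImplicit false
universe u

namespace Groth.Agent.S14051

open DirectSum

section
variable {R : Type u} [CommRing R] {M : Type u} [AddCommGroup M] [Module R M]
  (ℳ : ℕ → Submodule R M) [DirectSum.Decomposition ℳ]

/-- projection to degree `e` as an additive map -/
noncomputable def pr (e : ℕ) : M →+ M where
  toFun x := (DirectSum.decompose ℳ x e : M)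
  map_zero' := by simp
  map_add' x y := by simp [DirectSum.decompose_add]

theorem pr_same {e : ℕ} {x : M} (hx : x ∈ ℳ e) : pr ℳ e x = x :=
  DirectSum.decompose_of_mem_same ℳ hx

theorem pr_ne {e e' : ℕ} {x : M} (hx : x ∈ ℳ e') (h : e' ≠ e) : pr ℳ e x = 0 :=
  DirectSum.decompose_of_mem_ne ℳ hx h

end

theorem smul_le_graded
    {R : Type u} [CommRing R] {A : Type u} [CommRing A] [Algebra R A]
    (𝒜 : ℕ → Submodule R A)
    {M : Type u} [AddCommGroup M] [Module R M] [Module A M] [IsScalarTower R A M]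
    (ℳ : ℕ → Submodule R M) [SetLike.GradedSMul 𝒜 ℳ] (i j : ℕ) :
    𝒜 i • ℳ j ≤ ℳ (i + j) := by
  rw [Submodule.smul_le]
  intro a ha m hm
  exact SetLike.GradedSMul.smul_mem ha hm

theorem step
    (R : Type u) [CommRing R] (A : Type u) [CommRing A] [Algebra R A]
    (𝒜 : ℕ → Submodule R A) [GradedAlgebra 𝒜]
    (hA : ∀ n : ℕ, 𝒜 (n + 1) = 𝒜 1 * 𝒜 n)
    (M : Type u) [AddCommGroup M] [Module R M] [Module A M] [IsScalarTower R A M]
    (ℳ : ℕ → Submodule R M) [DirectSum.Decomposition ℳ] [SetLike.GradedSMul 𝒜 ℳ]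
    (s : Set M) (n₀ : ℕ) (hs : ∀ y ∈ s, ∃ d : ℕ, d ≤ n₀ ∧ y ∈ ℳ d)
    (hspan : Submodule.span A s = ⊤) (j : ℕ) (hj : n₀ ≤ j) :
    ℳ (j + 1) ≤ 𝒜 1 • ℳ j := by
  -- key predicate
  have key : ∀ x : M, ∀ e : ℕ, n₀ + 1 ≤ e → pr ℳ e x ∈ 𝒜 1 • ℳ (e - 1) := by
    intro x
    have hx : x ∈ Submodule.span A s := by rw [hspan]; trivial
    rw [Submodule.mem_span_set'] at hx
    obtain ⟨n, f, g, rfl⟩ := hx
    intro e he
    rw [map_sum]
    refine Submodule.sum_mem _ (fun i _ => ?_)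
    obtain ⟨d, hd, hyd⟩ := hs (g i) (g i).2
    -- decompose f i into homogeneous pieces
    refine DirectSum.Decomposition.inductionOn 𝒜 (motive := fun a => pr ℳ e (a • (g i : M)) ∈ 𝒜 1 • ℳ (e - 1)) ?_ ?_ ?_ (f i)
    · simp
    · intro i' a
      have hmem : (a : A) • (g i : M) ∈ ℳ (i' + d) := SetLike.GradedSMul.smul_mem a.2 hyd
      by_cases hie : i' + d = e
      · rw [pr_same ℳ (hie ▸ hmem)]
        obtain ⟨i'', rfl⟩ : ∃ i'', i' = i'' + 1 := ⟨i' - 1, by omega⟩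
        have ha : (a : A) ∈ 𝒜 1 * 𝒜 i'' := by rw [← hA]; exact a.2
        have h1 : (a : A) • (g i : M) ∈ (𝒜 1 * 𝒜 i'') • ℳ d := Submodule.smul_mem_smul ha hyd
        have h2 : (𝒜 1 * 𝒜 i'') • ℳ d = 𝒜 1 • (𝒜 i'' • ℳ d) := Submodule.smul_assoc _ _ _
        rw [h2] at h1
        have h3 : 𝒜 i'' • ℳ d ≤ ℳ (e - 1) := by
          have : e - 1 = i'' + d := by omega
          rw [this]; exact smul_le_graded 𝒜 ℳ _ _
        exact Submodule.smul_mono le_rfl h3 h1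
      · rw [pr_ne ℳ hmem hie]; exact zero_mem _
    · intro a b ha hb
      rw [add_smul, map_add]
      exact add_mem ha hb
  intro x hx
  have := key x (j + 1) (by omega)
  rwa [pr_same ℳ hx, Nat.add_sub_cancel] at this

theorem result
    (R : Type u) [CommRing R] (A : Type u) [CommRing A] [Algebra R A]
    (𝒜 : ℕ → Submodule R A) [GradedAlgebra 𝒜]
    (hA : ∀ n : ℕ, 𝒜 (n + 1) = 𝒜 1 * 𝒜 n)
    (M : Type u) [AddCommGroup M] [Module R M] [Module A M] [IsScalarTower R A M]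
    (ℳ : ℕ → Submodule R M) [DirectSum.Decomposition ℳ] [SetLike.GradedSMul 𝒜 ℳ]
    (s : Set M) (n₀ : ℕ) (hs : ∀ y ∈ s, ∃ d : ℕ, d ≤ n₀ ∧ y ∈ ℳ d)
    (hspan : Submodule.span A s = ⊤)
    (n k : ℕ) (hn : n₀ ≤ n) :
    ℳ (n + k) = 𝒜 k • ℳ n := by
  apply le_antisymm
  · induction k with
    | zero =>
      intro m hm
      have : (1 : A) • m ∈ 𝒜 0 • ℳ n := Submodule.smul_mem_smul (SetLike.GradedOne.one_mem) hm
      simpa using this
    | succ k ih =>
      have h1 := step R A 𝒜 hA M ℳ s n₀ hs hspan (n + k) (by omega)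
      calc ℳ (n + (k + 1)) = ℳ (n + k + 1) := by rw [add_assoc]
        _ ≤ 𝒜 1 • ℳ (n + k) := h1
        _ ≤ 𝒜 1 • (𝒜 k • ℳ n) := Submodule.smul_mono le_rfl ih
        _ = (𝒜 1 * 𝒜 k) • ℳ n := (Submodule.smul_assoc _ _ _).symm
        _ = 𝒜 (k + 1) • ℳ n := by rw [hA k]
  · rw [add_comm]; exact smul_le_graded 𝒜 ℳ _ _

end Groth.Agent.S14051
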