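import Groth.Statements.S14053
import Mathlib

set_option autoImplicit false
universe u
open CAlg

namespace Groth.Agent.S14053

theorem num (a b c e E : ℕ) (hN : a + 2 * b + 3 * c = 6 * E) (h : e ≤ E) :
    ∃ a1 b1 c1, a1 ≤ a ∧ b1 ≤ b ∧ c1 ≤ c ∧ a1 + 2 * b1 + 3 * c1 = 6 * e := by
  by_cases h1 : 2 * e ≤ c
  · exact ⟨0, 0, 2 * e, by omega, by omega, h1, by omega⟩
  · by_cases h2 : (6 * e - 3 * c) / 2 ≤ b
    · refine ⟨(6 * e - 3 * c) % 2, (6 * e - 3 * c) / 2, c, ?_, h2, le_rfl, ?_⟩ <;> omega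
    · refine ⟨6 * e - 3 * c - 2 * b, b, c, ?_, le_rfl, le_rfl, ?_⟩ <;> omega

section

variable {k : Type u} [Field k] {R : Type u} [CommRing R] [Algebra k R]
  (ℛ : ℕ → Submodule k R) [GradedAlgebra ℛ]

/-- weight of an exponent triple -/
def w (p : ℕ × ℕ × ℕ) : ℕ := p.1 + 2 * p.2.1 + 3 * p.2.2

/-- the span of monomials with exponent triple `p` -/
def Mon (p : ℕ × ℕ × ℕ) : Submodule k R := ℛ 1 ^ p.1 * ℛ 2 ^ p.2.1 * ℛ 3 ^ p.2.2

theorem grade_mul_le (i j : ℕ) : ℛ i * ℛ j ≤ ℛ (i + j) :=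
  Submodule.mul_le.2 (fun _ hx _ hy => SetLike.mul_mem_graded hx hy)

theorem grade_pow_le (i a : ℕ) : ℛ i ^ a ≤ ℛ (a * i) := by
  induction a with
  | zero =>
    rw [pow_zero, zero_mul, Submodule.one_le]
    exact SetLike.one_mem_graded ℛ
  | succ a ih =>
    rw [pow_succ, Nat.succ_mul]
    exact (mul_le_mul' ih le_rfl).trans (grade_mul_le ℛ _ _)

theorem Mon_le (p : ℕ × ℕ × ℕ) : Mon ℛ p ≤ ℛ (w p) := by
  unfold Mon w
  refine (mul_le_mul' (mul_le_mul' (grade_pow_le ℛ 1 p.1)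
    (grade_pow_le ℛ 2 p.2.1)) (grade_pow_le ℛ 3 p.2.2)).trans ?_
  refine (mul_le_mul' (grade_mul_le ℛ _ _) le_rfl).trans ?_
  refine (grade_mul_le ℛ _ _).trans (le_of_eq ?_)
  congr 1
  ring

theorem Mon_add (p q : ℕ × ℕ × ℕ) : Mon ℛ (p + q) = Mon ℛ p * Mon ℛ q := by
  unfold Mon
  simp only [Prod.fst_add, Prod.snd_add, pow_add]
  ring

theorem iSup_Mon_eq_top
    (hgen : Algebra.adjoin k ((ℛ 1 : Set R) ∪ (ℛ 2 : Set R) ∪ (ℛ 3 : Set R)) = ⊤) :
    ⨆ p, Mon ℛ p = ⊤ := by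
  rw [eq_top_iff]
  intro r hrtop
  clear hrtop
  have hr : r ∈ Algebra.adjoin k ((ℛ 1 : Set R) ∪ (ℛ 2 : Set R) ∪ (ℛ 3 : Set R)) := by
    rw [hgen]; trivial
  induction hr using Algebra.adjoin_induction with
  | mem x hx =>
    rcases hx with (hx | hx) | hx
    · exact Submodule.mem_iSup_of_mem (1, 0, 0) (by simpa [Mon] using hx)
    · exact Submodule.mem_iSup_of_mem (0, 1, 0) (by simpa [Mon] using hx)
    · exact Submodule.mem_iSup_of_mem (0, 0, 1) (by simpa [Mon] using hx)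
  | algebraMap c =>
    refine Submodule.mem_iSup_of_mem (0, 0, 0) ?_
    simp only [Mon, pow_zero, mul_one]
    exact Submodule.algebraMap_mem c
  | add x y _ _ hx hy => exact add_mem hx hy
  | mul x y _ _ hx hy =>
    have h1 : x * y ∈ (⨆ p, Mon ℛ p) * (⨆ p, Mon ℛ p) := Submodule.mul_mem_mul hx hy
    refine (?_ : (⨆ p, Mon ℛ p) * (⨆ p, Mon ℛ p) ≤ ⨆ p, Mon ℛ p) h1
    rw [Submodule.iSup_mul]
    refine iSup_le fun p => ?_
    rw [Submodule.mul_iSup]
    refine iSup_le fun q => ?_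
    rw [← Mon_add]
    exact le_iSup (fun p => Mon ℛ p) (p + q)

theorem proj_mem (n : ℕ) (t : R) (ht : t ∈ ⨆ p, Mon ℛ p) :
    (DirectSum.decompose ℛ t n : R) ∈ ⨆ (p) (_ : w p = n), Mon ℛ p := by
  induction ht using Submodule.iSup_induction' with
  | mem p x hx =>
    have hx' : x ∈ ℛ (w p) := Mon_le ℛ p hx
    by_cases h : w p = n
    · subst h
      rw [DirectSum.decompose_of_mem_same ℛ hx']
      exact Submodule.mem_iSup_of_mem p (Submodule.mem_iSup_of_mem rfl hx)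
    · rw [DirectSum.decompose_of_mem_ne ℛ hx' h]
      exact zero_mem _
  | zero => simp
  | add x y _ _ hx hy =>
    rw [DirectSum.decompose_add, DirectSum.add_apply, Submodule.coe_add]
    exact add_mem hx hy

theorem grade_eq
    (hgen : Algebra.adjoin k ((ℛ 1 : Set R) ∪ (ℛ 2 : Set R) ∪ (ℛ 3 : Set R)) = ⊤) (n : ℕ) :
    ℛ n = ⨆ (p) (_ : w p = n), Mon ℛ p := by
  apply le_antisymm
  · intro r hr
    have := proj_mem ℛ n r (by rw [iSup_Mon_eq_top ℛ hgen]; trivial)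
    rwa [DirectSum.decompose_of_mem_same ℛ hr] at this
  · exact iSup_le fun p => iSup_le fun h => h ▸ Mon_le ℛ p

end

theorem result
    (k : Type u) [Field k] (R : Type u) [CommRing R] [Algebra k R]
    (ℛ : ℕ → Submodule k R) [GradedAlgebra ℛ]
    (h0 : ℛ 0 = 1)
    (hgen : Algebra.adjoin k ((ℛ 1 : Set R) ∪ (ℛ 2 : Set R) ∪ (ℛ 3 : Set R)) = ⊤)
    [Module.Finite k (ℛ 1)] [Module.Finite k (ℛ 2)] [Module.Finite k (ℛ 3)]
    (e : ℕ) (he : 5 * Module.finrank k (ℛ 1) + 4 * Module.finrank k (ℛ 2) + 3 * Module.finrank k (ℛ 3) ≤ e)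
    (m : ℕ) (hm : 0 < m) :
    ℛ (m * (6 * e)) = ℛ (6 * e) ^ m := by
  induction m, hm using Nat.le_induction with
  | base => simp
  | succ m hm ih =>
    rw [pow_succ, ← ih]
    apply le_antisymm
    · rw [grade_eq ℛ hgen ((m + 1) * (6 * e))]
      refine iSup_le fun p => iSup_le fun hp => ?_
      have hp' : p.1 + 2 * p.2.1 + 3 * p.2.2 = 6 * ((m + 1) * e) := by
        have : w p = (m + 1) * (6 * e) := hp
        unfold w at this
        rw [this]; ring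
      obtain ⟨a1, b1, c1, ha, hb, hc, hsum⟩ := num p.1 p.2.1 p.2.2 e ((m + 1) * e) hp'
        (by nlinarith)
      have hsplit : p = (p.1 - a1, p.2.1 - b1, p.2.2 - c1) + (a1, b1, c1) := by
        ext <;> simp <;> omega
      rw [hsplit, Mon_add]
      refine mul_le_mul' ((Mon_le ℛ _).trans (le_of_eq ?_))
        ((Mon_le ℛ _).trans (le_of_eq ?_))
      · congr 1
        simp only [w]
        have : 6 * ((m + 1) * e) = m * (6 * e) + 6 * e := by ring
        omega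
      · congr 1
    · rw [add_mul, one_mul]
      exact grade_mul_le ℛ _ _

end Groth.Agent.S14053
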