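import Groth.Statements.S14060
import Mathlib
import Groth.Agent.H97.ExtChase

set_option autoImplicit false
universe u
open CategoryTheory CategoryTheory.Limits TopologicalSpace
open CohTop

namespace Groth.Agent.S14060

/-- Let X be a topological space, r ≥ 1 an integer and 0 → F_r → ⋯ → F_2 → F_1 → F_0 → 0 an exact
sequence of sheaves of abelian groups on X, presented as a chain complex F of abelian sheaves
indexed by the natural numbers whose differential F_r → F_{r−1} is a monomorphism, whose
differential F_1 → F_0 is an epimorphism of sheaves, and which is exact at F_j for 1 ≤ j ≤ r − 1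
(for r = 1 the single map F_1 → F_0 is mono and epi). Assume the sheaf cohomology groups H^{j−1}(X,
F_j) vanish for 2 ≤ j ≤ r. Then the map on global sections F_1(X) → F_0(X) is surjective. (The
instance hypothesis that the category of abelian sheaves on X has Ext groups in the universe of X
holds for every X, abelian sheaves on a space forming a Grothendieck abelian category; it is the
setting in which sheaf cohomology is defined.) -/
theorem result (X : TopCat.{u})
    [HasExt.{u} (Sheaf (Opens.grothendieckTopology X) AddCommGrpCat.{u})]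
    (r : ℕ) (hr : 1 ≤ r)
    (F : ChainComplex (Sheaf (Opens.grothendieckTopology X) AddCommGrpCat.{u}) ℕ)
    (hmono : Mono (F.d r (r - 1))) (hepi : Epi (F.d 1 0))
    (hex : ∀ j : ℕ, 1 ≤ j → j < r → F.ExactAt j)
    (hvan : ∀ j : ℕ, 2 ≤ j → j ≤ r → Subsingleton (Sheaf.H (F.X j) (j - 1))) :
    Function.Surjective ((F.d 1 0).hom.app (Opposite.op ⊤)) := by
  classical
  obtain ⟨s, rfl⟩ : ∃ s, r = s + 1 := ⟨r - 1, by omega⟩
  let Z := (constantSheaf (Opens.grothendieckTopology X) AddCommGrpCat.{u}).obj
    (AddCommGrpCat.of (ULift ℤ))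
  have hT : IsTerminal (⊤ : Opens X) := isTerminalTop
  have hlift := Groth.Agent.H97.ExtChase.exists_lift F Z s hmono hepi
    (fun i hi => by
      have h := hex (i + 1) (by omega) (by omega)
      rwa [HomologicalComplex.exactAt_iff' F (i + 2) (i + 1) i (by simp) (by simp)] at h)
    (fun i hi x => by
      have h := hvan (i + 2) (by omega) (by omega)
      exact h.elim x 0)
  intro t
  let x : Sheaf.H (F.X 0) 0 := (Sheaf.H.equiv₀ (F.X 0) hT).symm t
  obtain ⟨σ, hσ⟩ := (Abelian.Ext.mk₀_bijective Z (F.X 0)).2 x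
  obtain ⟨ψ, hψ⟩ := hlift σ
  let y : Sheaf.H (F.X 1) 0 := Abelian.Ext.mk₀ ψ
  have hy : Sheaf.H.map (F.d 1 0) 0 y = x := by
    rw [Sheaf.H.map_apply, ← hσ, ← hψ]
    exact Abelian.Ext.mk₀_comp_mk₀ ψ (F.d 1 0)
  refine ⟨Sheaf.H.equiv₀ (F.X 1) hT y, ?_⟩
  have := Sheaf.H.equiv₀_naturality hT (F.d 1 0) y
  rw [hy] at this
  rw [this]
  exact (Sheaf.H.equiv₀ (F.X 0) hT).apply_symm_apply t

end Groth.Agent.S14060
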