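import Groth.Statements.S14066
import Mathlib
import Groth.Agent.H97.ProjLinEmb

set_option autoImplicit false
universe u
open CategoryTheory CategoryTheory.Limits AlgebraicGeometry TopologicalSpace
open Variety

namespace Groth.Agent.S14066

/-- Let k be a field, and let X₁ and X₂ be k-schemes with closed immersions i₁ : X₁ → P^n_k and i₂ : X₂
→ P^m_k over k. Then there is a closed immersion of the disjoint union X₁ ⨿ X₂ into P^{n+m+1}_k over
k, that is, compatible with the structure morphism of the coproduct induced by those of X₁ and X₂.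
(Stated as the step of the published proof showing that a disjoint union of two projective k-schemes
is projective.) -/
theorem result (k : Type u) [Field k] (n m : ℕ)
    (X₁ X₂ : Scheme.{u}) [X₁.Over (Spec (CommRingCat.of k))] [X₂.Over (Spec (CommRingCat.of k))]
    (i₁ : X₁ ⟶ CohB1.ProjSpace n k) [IsClosedImmersion i₁] (h₁ : i₁ ≫ CohB1.ProjSpace.toSpec n k = X₁ ↘ (Spec (CommRingCat.of k)))
    (i₂ : X₂ ⟶ CohB1.ProjSpace m k) [IsClosedImmersion i₂] (h₂ : i₂ ≫ CohB1.ProjSpace.toSpec m k = X₂ ↘ (Spec (CommRingCat.of k))) :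
    ∃ j : X₁ ⨿ X₂ ⟶ CohB1.ProjSpace (n + m + 1) k, IsClosedImmersion j ∧
      j ≫ CohB1.ProjSpace.toSpec (n + m + 1) k = coprod.desc (X₁ ↘ (Spec (CommRingCat.of k))) (X₂ ↘ (Spec (CommRingCat.of k))) := by
  have hι₁ : Function.Injective (fun l : Fin (n + 1) => (⟨l.val, by omega⟩ : Fin (n + m + 1 + 1))) := by
    intro a b h
    apply Fin.ext
    simpa using h
  have hι₂ : Function.Injective
      (fun l : Fin (m + 1) => (⟨n + 1 + l.val, by omega⟩ : Fin (n + m + 1 + 1))) := by
    intro a b h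
    apply Fin.ext
    simpa using h
  have hd : ∀ (x : X₁) (y : X₂),
      (i₁ ≫ Groth.Agent.H97.ProjLinEmb.linEmb k n (n + m + 1) _ hι₁).base x ≠
      (i₂ ≫ Groth.Agent.H97.ProjLinEmb.linEmb k m (n + m + 1) _ hι₂).base y := by
    intro x y hxy
    have h0 : (i₁ ≫ Groth.Agent.H97.ProjLinEmb.linEmb k n (n + m + 1) _ hι₁).base x ∈
        (⊤ : (CohB1.ProjSpace (n + m + 1) k).Opens) := trivial
    rw [← Groth.Agent.Lead.Coh.iSup_stdOpen (n + m + 1) k] at h0
    obtain ⟨j, hj⟩ := TopologicalSpace.Opens.mem_iSup.mp h0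
    by_cases hjn : j.val < n + 1
    · rw [hxy] at hj
      refine Groth.Agent.H97.ProjLinEmb.linEmb_not_mem k m (n + m + 1) _ hι₂ j ?_ (i₂.base y) hj
      intro l hl
      have := congrArg Fin.val hl
      simp at this
      omega
    · refine Groth.Agent.H97.ProjLinEmb.linEmb_not_mem k n (n + m + 1) _ hι₁ j ?_ (i₁.base x) hj
      intro l hl
      have := congrArg Fin.val hl
      simp at this
      omega
  refine ⟨Limits.coprod.desc (i₁ ≫ Groth.Agent.H97.ProjLinEmb.linEmb k n (n + m + 1) _ hι₁)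
    (i₂ ≫ Groth.Agent.H97.ProjLinEmb.linEmb k m (n + m + 1) _ hι₂),
    Groth.Agent.H97.ProjLinEmb.isClosedImmersion_coprodDesc _ _ hd, ?_⟩
  apply Limits.coprod.hom_ext
  · rw [Limits.coprod.inl_desc_assoc, Limits.coprod.inl_desc, Category.assoc,
      Groth.Agent.H97.ProjLinEmb.linEmb_toSpec, h₁]
  · rw [Limits.coprod.inr_desc_assoc, Limits.coprod.inr_desc, Category.assoc,
      Groth.Agent.H97.ProjLinEmb.linEmb_toSpec, h₂]

end Groth.Agent.S14066
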