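import Groth.Statements.S1407
import Groth.Agent.H49.CMMorBC
import Groth.Agent.H7.NoetherianDescent

set_option autoImplicit false
universe u
open FlatMor

namespace Groth.Agent.S1407

open AlgebraicGeometry CategoryTheory Limits in
/-- Let Y' → Y be flat, locally of finite presentation and surjective and f' the base change of f : X →
Y. Then f has locally Noetherian fibres and is Cohen–Macaulay at every point if and only if the same
holds for f'. -/
theorem result {X Y X' Y' : Scheme.{u}} (f : X ⟶ Y) (f' : X' ⟶ Y') (g' : X' ⟶ X) (g : Y' ⟶ Y) [Flat g] [LocallyOfFinitePresentation g] [Surjective g]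
    (hc : IsPullback g' f' f g) :
    ((∀ y : Y, IsLocallyNoetherian (f.fiber y)) ∧ ∀ x : X, MoreMor.IsCMAt f x) ↔
      (∀ y' : Y', IsLocallyNoetherian (f'.fiber y')) ∧ ∀ x' : X', MoreMor.IsCMAt f' x' := by
  have hNiff := Groth.Agent.H7.forall_isLocallyNoetherian_fiber_iff_of_isPullback f f' g' g hc
  have hg' : Surjective g' := MorphismProperty.of_isPullback (P := @Surjective) hc.flip inferInstance
  constructor
  · rintro ⟨hN, hcm⟩
    refine ⟨hNiff.mp hN, fun x' => ?_⟩
    have := hN (g (f' x'))
    have h := hcm (g' x')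
    exact ⟨Groth.Agent.H25.FlatBCpt.flat_stalkMap_of_isPullback hc x' h.1,
      (Groth.Agent.H49.CMMorBC.cm_fiber_stalk_iff_of_isPullback f f' g' g hc x'
        (Or.inr inferInstance)).mp h.2⟩
  · rintro ⟨hN', hcm'⟩
    have hN := hNiff.mpr hN'
    refine ⟨hN, fun x => ?_⟩
    obtain ⟨x', rfl⟩ := g'.surjective x
    have := hN (g (f' x'))
    have h := hcm' x'
    exact ⟨Groth.Agent.H49.CMMorBC.flat_stalkMap_of_isPullback_of_flatAt f f' g' g hc x'
        (Flat.stalkMap g _) h.1,
      (Groth.Agent.H49.CMMorBC.cm_fiber_stalk_iff_of_isPullback f f' g' g hc x'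
        (Or.inr inferInstance)).mpr h.2⟩

end Groth.Agent.S1407
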