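import Groth.Statements.S14070
import Mathlib
import Groth.Agent.H17.Unib.EquidimIrr
import Groth.Agent.H17.Chev.RedSubMain

set_option autoImplicit false
open CategoryTheory AlgebraicGeometry
universe u
open FamCyc

namespace Groth.Agent.S14070

/-- Let S be a scheme all of whose local rings are geometrically unibranch and which has only finitely
many irreducible components, and let f : X ⟶ S be a morphism locally of finite type such that every
point x of X lies on an irreducible component W of X (given its reduced subscheme structure) with W
⟶ S equidimensional at x. Then f is universally open. (No Noetherian hypothesis on S: finiteness of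
its set of irreducible components is what is used, and the statement fails without it.) -/
theorem result {X S : Scheme.{u}}
    (hS : ∀ s : S, CAlg2.IsGeomUnibranch (S.presheaf.stalk s))
    (hfin : (irreducibleComponents (S : Type u)).Finite)
    (f : X ⟶ S) [LocallyOfFiniteType f]
    (hT : ∀ x : X, ∃ W : TopologicalSpace.Closeds X, (W : Set X) ∈ irreducibleComponents (X : Type u) ∧
      ∃ w : ↥((Scheme.IdealSheafData.vanishingIdeal W).subscheme),
        (Scheme.IdealSheafData.vanishingIdeal W).subschemeι.base w = x ∧
        EGA43.IsEquidimAt ((Scheme.IdealSheafData.vanishingIdeal W).subschemeι ≫ f) w) :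
    UniversallyOpen f := by
  refine Groth.Agent.H6.UnivOpenDVR.universallyOpen_of_forall_isUnivOpenAt f (fun x => ?_)
  obtain ⟨W, hW, w, hwx, hE⟩ := hT x
  have hr : Set.range (Scheme.IdealSheafData.vanishingIdeal W).subschemeι.base = (W : Set X) := by
    rw [Scheme.IdealSheafData.range_subschemeι]
    exact Scheme.IdealSheafData.coe_support_vanishingIdeal _
  have hξ := hW.1.isGenericPoint_genericPoint W.isClosed
  generalize (Scheme.IdealSheafData.vanishingIdeal W) = I at hr w hwx hE
  obtain ⟨ξ₁, hξ₁⟩ : hW.1.genericPoint ∈ Set.range I.subschemeι.base :=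
    (Set.ext_iff.mp hr _).mpr hξ.mem
  obtain ⟨hirr, -⟩ := Groth.Agent.H17.Chev.irreducibleSpace_of_isEmbedding I.subschemeι.base
    I.subschemeι.isEmbedding ξ₁ (by rw [hr, hξ₁, hξ.def])
  have := hirr
  have h1 := Groth.Agent.H17.Unib.isUnivOpenAt_of_isEquidimAt_of_irreducible hS hfin
    (I.subschemeι ≫ f) w hE
  have h2 := Groth.Agent.S4926.result _ _ _ h1
  rwa [hwx] at h2

end Groth.Agent.S14070
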