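import Groth.Statements.S14075
import Groth.Agent.H17.Chev.Equidim9
import Groth.Agent.H17.Val.UOGen
import Groth.Agent.H17.Val.UOComp2

set_option autoImplicit false
open CategoryTheory AlgebraicGeometry
universe u
open FamCyc

namespace Groth.Agent.S14075

/-- Let f : X ⟶ S be locally of finite type and universally open. Then every point x of X lies on an
irreducible component W of X, given its reduced subscheme structure, such that W ⟶ S is
equidimensional at x. -/
theorem result {X S : Scheme.{u}} (f : X ⟶ S) [LocallyOfFiniteType f]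
    [UniversallyOpen f] (x : X) :
    ∃ W : TopologicalSpace.Closeds X, (W : Set X) ∈ irreducibleComponents (X : Type u) ∧
      ∃ w : ↥((Scheme.IdealSheafData.vanishingIdeal W).subscheme),
        (Scheme.IdealSheafData.vanishingIdeal W).subschemeι.base w = x ∧
        EGA43.IsEquidimAt ((Scheme.IdealSheafData.vanishingIdeal W).subschemeι ≫ f) w := by
  open Groth.Agent.H17.Chev Groth.Agent.H17.Val in
  obtain ⟨ζ, hζ1, hζx, hζmax, -, hζdim⟩ := exists_maximal_fibre_point_fibreDimAt_eq f x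
  have hUO : EGA43.IsUnivOpenAt f ζ := by
    intro Y' g x' _ N hN
    exact (Limits.pullback.snd f g).isOpenMap.image_mem_nhds hN
  have hmaxζ : ∀ x' : X, f.base x' = f.base ζ → ζ ∈ closure {x'} → x' = ζ := fun x' h1 h2 =>
    hζmax x' h1 (specializes_iff_mem_closure.mpr h2)
  have hb' := fun U hU y' hy' =>
    Groth.Agent.H17.Val.fibreDimAt_le_dim_open_inter_fibre_of_isUnivOpenAt f ζ hmaxζ hUO U hU y' hy'
  obtain ⟨W₀, hW₀, hζW, hclW, hdim⟩ :=
    Groth.Agent.H17.Val.exists_irreducibleComponent_dominating_of_le_dim f ζ hb'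
      (irreducibleComponent (f.base ζ)) (irreducibleComponent_mem_irreducibleComponents _)
      mem_irreducibleComponent
  have hW₀c : IsClosed W₀ := isClosed_of_mem_irreducibleComponents W₀ hW₀
  have hW₀irr : IsIrreducible W₀ := hW₀.1
  obtain ⟨ξ, hξ⟩ : ∃ ξ, IsGenericPoint ξ W₀ := ⟨_, hW₀irr.isGenericPoint_genericPoint hW₀c⟩
  open Groth.Agent.H17.Chev in
  have hmax : IsMax ξ := isMax_of_isGenericPoint_irreducibleComponent X W₀ hW₀ ξ hξ
  have hxW : x ∈ W₀ := (hζx.mem_closed hW₀c hζW)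
  have hξx : ξ ⤳ x := hξ.specializes hxW
  open Groth.Agent.H17.Chev in
  have hfξ : closure ({f.base ξ} : Set S) = irreducibleComponent (f.base ζ) := by
    rw [← closure_image_eq_of_isGenericPoint f.base f.continuous W₀ ξ hξ]
    exact hclW
  obtain ⟨e, he⟩ := Groth.Agent.H17.Chev.exists_nat_eq_fibreDimAt f x
  open Groth.Agent.H17.Chev in
  have hgen : topologicalKrullDim ↥(W₀ ∩ f.base ⁻¹' {f.base ξ}) = e := by
    obtain ⟨h1, h2⟩ := hdim (f.base ξ) hfξ
    rw [← h2, ← h1, hζdim, he]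
  refine ⟨⟨W₀, hW₀c⟩, hW₀, ?_⟩
  have hr : Set.range (Scheme.IdealSheafData.vanishingIdeal
      (⟨W₀, hW₀c⟩ : TopologicalSpace.Closeds X)).subschemeι.base = W₀ := by
    rw [Scheme.IdealSheafData.range_subschemeι]
    exact Scheme.IdealSheafData.coe_support_vanishingIdeal _
  generalize (Scheme.IdealSheafData.vanishingIdeal
      (⟨W₀, hW₀c⟩ : TopologicalSpace.Closeds X)) = I at hr ⊢
  have hmemW : ∀ w' : ↥I.subscheme, I.subschemeι.base w' ∈ W₀ := fun w' =>
    (Set.ext_iff.mp hr _).mp ⟨w', rfl⟩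
  obtain ⟨w, hw⟩ : x ∈ Set.range I.subschemeι.base := (Set.ext_iff.mp hr _).mpr hxW
  obtain ⟨ξ₁, hξ₁⟩ : ξ ∈ Set.range I.subschemeι.base := (Set.ext_iff.mp hr _).mpr hξ.mem
  refine ⟨w, hw, ?_⟩
  open Groth.Agent.H17.Chev in
  obtain ⟨hirr, hcl⟩ := irreducibleSpace_of_isEmbedding I.subschemeι.base
    I.subschemeι.isEmbedding ξ₁ (by rw [hr, hξ₁, hξ.def])
  have := hirr
  have hsq : (I.subschemeι ≫ f) ≫ 𝟙 S = I.subschemeι ≫ f := Category.comp_id _
  open Groth.Agent.H17.Chev in
  have hfd : ∀ w' : ↥I.subscheme,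
      FlatMor.fibreDimAt (I.subschemeι ≫ f) w' =
      FlatMor.localDim ↥(W₀ ∩ f.base ⁻¹' {f.base (I.subschemeι.base w')})
        ⟨_, hmemW w', rfl⟩ := by
    intro w'
    rw [sq_fibreDimAt f _ (𝟙 S) _ hsq Function.injective_id w']
    exact localDim_subtype_congr (by rw [hr]) _ _ _
  let U' : I.subscheme.Opens :=
    ⟨{w' | FlatMor.fibreDimAt (I.subschemeι ≫ f) w' ≤ e},
      Groth.Agent.H17.Chev.isOpen_setOf_fibreDimAt_le _ e⟩
  open Groth.Agent.H17.Chev in
  have hwU' : w ∈ U' := by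
    change FlatMor.fibreDimAt _ w ≤ e
    rw [hfd w, ← he, ← localDim_univ_inter_eq_fibreDimAt f x]
    have h2 := localDim_subtype_mono (Set.inter_subset_inter_left
      (f.base ⁻¹' {f.base (I.subschemeι.base w)})
      (Set.subset_univ W₀)) _ ⟨hmemW w, rfl⟩
    refine h2.trans (le_of_eq ?_)
    exact localDim_subtype_congr' (by rw [hw]) hw _ _
  open Groth.Agent.H17.Chev in
  refine isEquidimAt_of_forall_fibreDimAt_eq _ w e U' hwU' ?_ ?_
  · intro ξ' _ hmax'
    have h1 : ξ₁ ⤳ ξ' := by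
      rw [specializes_iff_mem_closure, hcl]; trivial
    have h2 : ξ' ⤳ ξ₁ := hmax' (show ξ' ≤ ξ₁ from h1)
    have h3 : ξ' = ξ₁ := (h2.antisymm h1).eq
    subst h3
    have h4 : (I.subschemeι ≫ f).base ξ' = f.base ξ := by
      change f.base (I.subschemeι.base ξ') = _
      rw [hξ₁]
    have h5 : (I.subschemeι ≫ f).base w = f.base x := by
      change f.base (I.subschemeι.base w) = _
      rw [hw]
    rw [h4, h5, hfξ, ← hζ1]
    exact ⟨irreducibleComponent_mem_irreducibleComponents _, mem_irreducibleComponent⟩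
  · intro w' hw'
    apply le_antisymm hw'
    rw [hfd w']
    have h2 := dim_generic_le_localDim f W₀ hW₀c ξ hξ _ (hmemW w')
    rw [hgen] at h2
    exact h2

end Groth.Agent.S14075
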