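import Groth.Statements.S14076
import Groth.Agent.H17.Chev.Equidim9

set_option autoImplicit false
open CategoryTheory AlgebraicGeometry
universe u
open FamCyc

namespace Groth.Agent.S14076

/-- Let f : X ⟶ S be locally of finite type and equidimensional at every point of X. Then every point x
of X lies on an irreducible component W of X, given its reduced subscheme structure, such that W ⟶ S
is equidimensional at x. -/
theorem result {X S : Scheme.{u}} (f : X ⟶ S) [LocallyOfFiniteType f]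
    (h : ∀ x : X, EGA43.IsEquidimAt f x) (x : X) :
    ∃ W : TopologicalSpace.Closeds X, (W : Set X) ∈ irreducibleComponents (X : Type u) ∧
      ∃ w : ↥((Scheme.IdealSheafData.vanishingIdeal W).subscheme),
        (Scheme.IdealSheafData.vanishingIdeal W).subschemeι.base w = x ∧
        EGA43.IsEquidimAt ((Scheme.IdealSheafData.vanishingIdeal W).subschemeι ≫ f) w := by
  open Groth.Agent.H17.Chev in
  obtain ⟨e, U, hxU, hmaxU, hfibU⟩ := exists_opens_of_isEquidimAt f x (h x)
  obtain ⟨W₀, hW₀, hxW₀⟩ := exists_mem_irreducibleComponents_subset_of_isIrreducible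
    ({x} : Set X) isIrreducible_singleton
  have hW₀c : IsClosed W₀ := isClosed_of_mem_irreducibleComponents W₀ hW₀
  have hW₀irr : IsIrreducible W₀ := hW₀.1
  obtain ⟨ξ, hξ⟩ : ∃ ξ, IsGenericPoint ξ W₀ := ⟨_, hW₀irr.isGenericPoint_genericPoint hW₀c⟩
  open Groth.Agent.H17.Chev in
  have hmax : IsMax ξ := isMax_of_isGenericPoint_irreducibleComponent X W₀ hW₀ ξ hξ
  have hxW : x ∈ W₀ := hxW₀ rfl
  have hξx : ξ ⤳ x := hξ.specializes hxW
  have hξU : ξ ∈ U := hξx.mem_open U.isOpen hxU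
  refine ⟨⟨W₀, hW₀c⟩, hW₀, ?_⟩
  have hr : Set.range (Scheme.IdealSheafData.vanishingIdeal
      (⟨W₀, hW₀c⟩ : TopologicalSpace.Closeds X)).subschemeι.base = W₀ := by
    rw [Scheme.IdealSheafData.range_subschemeι]
    exact Scheme.IdealSheafData.coe_support_vanishingIdeal _
  generalize (Scheme.IdealSheafData.vanishingIdeal
      (⟨W₀, hW₀c⟩ : TopologicalSpace.Closeds X)) = I at hr ⊢
  have hmemW : ∀ w' : ↥I.subscheme, I.subschemeι.base w' ∈ W₀ := fun w' =>
    (Set.ext_iff.mp hr _).mp ⟨w', rfl⟩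
  obtain ⟨w, hw⟩ : x ∈ Set.range I.subschemeι.base := (Set.ext_iff.mp hr _).mpr hxW
  obtain ⟨ξ₁, hξ₁⟩ : ξ ∈ Set.range I.subschemeι.base := (Set.ext_iff.mp hr _).mpr hξ.mem
  refine ⟨w, hw, ?_⟩
  open Groth.Agent.H17.Chev in
  obtain ⟨hirr, hcl⟩ := irreducibleSpace_of_isEmbedding I.subschemeι.base
    I.subschemeι.isEmbedding ξ₁ (by rw [hr, hξ₁, hξ.def])
  haveI := hirr
  have hsq : (I.subschemeι ≫ f) ≫ 𝟙 S = I.subschemeι ≫ f := Category.comp_id _
  open Groth.Agent.H17.Chev in
  have hfd : ∀ w' : ↥I.subscheme,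
      FlatMor.fibreDimAt (I.subschemeι ≫ f) w' =
      FlatMor.localDim ↥(W₀ ∩ f.base ⁻¹' {f.base (I.subschemeι.base w')})
        ⟨_, hmemW w', rfl⟩ := by
    intro w'
    rw [sq_fibreDimAt f _ (𝟙 S) _ hsq Function.injective_id w']
    exact localDim_subtype_congr (by rw [hr]) _ _ _
  let U' : I.subscheme.Opens :=
    ⟨{w' | FlatMor.fibreDimAt (I.subschemeι ≫ f) w' ≤ e},
      Groth.Agent.H17.Chev.isOpen_setOf_fibreDimAt_le _ e⟩
  open Groth.Agent.H17.Chev in
  have hwU' : w ∈ U' := by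
    change FlatMor.fibreDimAt _ w ≤ e
    rw [hfd w, ← hfibU x hxU, ← localDim_univ_inter_eq_fibreDimAt f x]
    have h2 := localDim_subtype_mono (Set.inter_subset_inter_left
      (f.base ⁻¹' {f.base (I.subschemeι.base w)})
      (Set.subset_univ W₀)) _ ⟨hmemW w, rfl⟩
    refine h2.trans (le_of_eq ?_)
    exact localDim_subtype_congr' (by rw [hw]) hw _ _
  open Groth.Agent.H17.Chev in
  refine isEquidimAt_of_forall_fibreDimAt_eq _ w e U' hwU' ?_ ?_
  · intro ξ' _ hmax'
    have h1 : ξ₁ ⤳ ξ' := by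
      rw [specializes_iff_mem_closure, hcl]; trivial
    have h2 : ξ' ⤳ ξ₁ := hmax' (show ξ' ≤ ξ₁ from h1)
    have h3 : ξ' = ξ₁ := (h2.antisymm h1).eq
    subst h3
    have h4 : (I.subschemeι ≫ f).base ξ' = f.base ξ := by
      change f.base (I.subschemeι.base ξ') = _
      rw [hξ₁]
    have h5 : (I.subschemeι ≫ f).base w = f.base x := by
      change f.base (I.subschemeι.base w) = _
      rw [hw]
    rw [h4, h5]
    exact ⟨hmaxU ξ hξU hmax, (hξx.map f.continuous).mem_closure⟩
  · intro w' hw'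
    apply le_antisymm hw'
    rw [hfd w']
    have h2 := dim_generic_le_localDim f W₀ hW₀c ξ hξ _ (hmemW w')
    refine le_trans (le_of_eq ?_) h2
    rw [← hfibU ξ hξU, ← dim_closure_inter_generic_eq f ξ hmax]
    exact topologicalKrullDim_subtype_congr (by rw [hξ.def])

end Groth.Agent.S14076
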