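import Groth.Statements.S14079
import Groth.Agent.H17.Chev.FamCycT

set_option autoImplicit false
open CategoryTheory AlgebraicGeometry
universe u
open FamCyc

namespace Groth.Agent.S14079

/-- (iv) ⇒ (iii): let f : X ⟶ S be locally of finite type. Suppose that every point x of X which is a
maximal point of its fibre (no other point of the fibre over f x specializes to x) lies on an
irreducible component W of X, given its reduced subscheme structure, with W ⟶ S equidimensional at
x. Then every point of X lies on such an irreducible component. -/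
theorem result {X S : Scheme.{u}} (f : X ⟶ S) [LocallyOfFiniteType f]
    (h : ∀ x : X, (∀ x' : X, f.base x' = f.base x → x ∈ closure ({x'} : Set X) → x' = x) →
      ∃ W : TopologicalSpace.Closeds X, (W : Set X) ∈ irreducibleComponents (X : Type u) ∧
      ∃ w : ↥((Scheme.IdealSheafData.vanishingIdeal W).subscheme),
        (Scheme.IdealSheafData.vanishingIdeal W).subschemeι.base w = x ∧
        EGA43.IsEquidimAt ((Scheme.IdealSheafData.vanishingIdeal W).subschemeι ≫ f) w)
    (x : X) :
    ∃ W : TopologicalSpace.Closeds X, (W : Set X) ∈ irreducibleComponents (X : Type u) ∧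
      ∃ w : ↥((Scheme.IdealSheafData.vanishingIdeal W).subscheme),
        (Scheme.IdealSheafData.vanishingIdeal W).subschemeι.base w = x ∧
        EGA43.IsEquidimAt ((Scheme.IdealSheafData.vanishingIdeal W).subschemeι ≫ f) w := by
  open Groth.Agent.H17.Chev in
  obtain ⟨z, hzf, hzx, hzmax, hz0, hzdim⟩ := exists_maximal_fibre_point_fibreDimAt_eq f x
  obtain ⟨W, hW, wz, hwz, hEq⟩ := h z (fun x' hx' hcl =>
    hzmax x' hx' (specializes_iff_mem_closure.mpr hcl))
  refine ⟨W, hW, ?_⟩
  have hr : Set.range (Scheme.IdealSheafData.vanishingIdeal W).subschemeι.base = (W : Set X) := by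
    rw [Scheme.IdealSheafData.range_subschemeι]
    exact Scheme.IdealSheafData.coe_support_vanishingIdeal _
  generalize (Scheme.IdealSheafData.vanishingIdeal W) = I at hr wz hwz hEq ⊢
  have hzW : z ∈ (W : Set X) := by rw [← hr, ← hwz]; exact ⟨wz, rfl⟩
  have hxW : x ∈ (W : Set X) := hzx.mem_closed W.isClosed hzW
  obtain ⟨wx, hwx⟩ : x ∈ Set.range I.subschemeι.base := by rw [hr]; exact hxW
  have hWirr : IsIrreducible (W : Set X) := hW.1
  have hgen := hWirr.isGenericPoint_genericPoint W.isClosed
  obtain ⟨ξ₁, hξ₁⟩ : hWirr.genericPoint ∈ Set.range I.subschemeι.base := by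
    rw [hr]; exact hgen.mem
  open Groth.Agent.H17.Chev in
  obtain ⟨hirr, -⟩ := irreducibleSpace_of_isEmbedding I.subschemeι.base
    I.subschemeι.isEmbedding ξ₁ (by rw [hr, hξ₁, hgen.def])
  have := hirr
  refine ⟨wx, hwx, ?_⟩
  subst hwz
  subst hwx
  exact Groth.Agent.H17.Chev.isEquidimAt_of_fibreDimAt_eq_of_maximal f I.subschemeι wz wx hEq hz0 hzdim

end Groth.Agent.S14079
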