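import Groth.Statements.S14085
import Groth.Agent.H70.FlatKer

set_option autoImplicit false
universe u

namespace Groth.Agent.S14085

open Groth.Agent.H70

theorem result (R A B : Type u) [CommRing R] [CommRing A] [CommRing B]
    [Algebra R A] [Algebra R B] [Module.Flat R A] [Module.Flat R B] (I : Ideal A)
    [Algebra B (A ⧸ I)] [IsScalarTower R B (A ⧸ I)] [Module.Finite B (A ⧸ I)] [Module.Flat B (A ⧸ I)]
    (hinj : Function.Injective (algebraMap B (A ⧸ I))) :
    Module.Flat R ↥(AlgHom.equalizer ((IsScalarTower.toAlgHom R B (A ⧸ I)).comp (AlgHom.fst R B A))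
          ((Ideal.Quotient.mkₐ R I).comp (AlgHom.snd R B A))) := by
  have : Module.Flat R (A ⧸ I) := Module.Flat.trans R B (A ⧸ I)
  have : Module.Flat R (B × A) := flat_prod R B A
  set φ := (IsScalarTower.toAlgHom R B (A ⧸ I)).comp (AlgHom.fst R B A) with hφ
  set ψ := (Ideal.Quotient.mkₐ R I).comp (AlgHom.snd R B A) with hψ
  let d : (B × A) →ₗ[R] (A ⧸ I) := φ.toLinearMap - ψ.toLinearMap
  have hd : Function.Surjective d := by
    intro c
    obtain ⟨a, rfl⟩ := Ideal.Quotient.mk_surjective c
    refine ⟨(0, -a), ?_⟩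
    simp [d, hφ, hψ]
  have hflat := flat_ker R (B × A) (A ⧸ I) d hd
  let e : ↥(AlgHom.equalizer φ ψ) ≃ₗ[R] ↥(LinearMap.ker d) :=
    { toFun := fun x => ⟨x.1, by
        have := x.2
        rw [AlgHom.mem_equalizer] at this
        simp [d, this]⟩
      map_add' := fun x y => rfl
      map_smul' := fun r x => rfl
      invFun := fun x => ⟨x.1, by
        have := x.2
        rw [LinearMap.mem_ker] at this
        rw [AlgHom.mem_equalizer]
        have h2 : φ x.1 - ψ x.1 = 0 := this
        exact sub_eq_zero.mp h2⟩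
      left_inv := fun x => rfl
      right_inv := fun x => rfl }
  exact Module.Flat.of_linearEquiv e

end Groth.Agent.S14085
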