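import Groth.Statements.S14086
import Groth.Agent.H70.FlatKer
import Groth.Agent.H70.Pure

set_option autoImplicit false
universe u

namespace Groth.Agent.S14086

open Groth.Agent.H70 TensorProduct

theorem map_id_eq_lTensor {R R' X Y : Type u} [CommRing R] [CommRing R'] [Algebra R R']
    [CommRing X] [CommRing Y] [Algebra R X] [Algebra R Y] (f : X →ₐ[R] Y) (x : R' ⊗[R] X) :
    Algebra.TensorProduct.map (AlgHom.id R' R') f x = f.toLinearMap.lTensor R' x := by
  induction x using TensorProduct.induction_on with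
  | zero => simp
  | tmul a b => simp
  | add a b ha hb => rw [map_add, map_add, ha, hb]

theorem result (R A B R' : Type u) [CommRing R] [CommRing A]
    [CommRing B] [CommRing R'] [Algebra R A] [Algebra R B] [Algebra R R'] [Module.Flat R A] [Module.Flat R B]
    (I : Ideal A) [Algebra B (A ⧸ I)] [IsScalarTower R B (A ⧸ I)] [Module.Finite B (A ⧸ I)] [Module.Flat B (A ⧸ I)]
    (hinj : Function.Injective (algebraMap B (A ⧸ I))) :
    Function.Injective (Algebra.TensorProduct.map (AlgHom.id R' R')
        ((AlgHom.snd R B A).comp (AlgHom.equalizer ((IsScalarTower.toAlgHom R B (A ⧸ I)).comp (AlgHom.fst R B A))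
          ((Ideal.Quotient.mkₐ R I).comp (AlgHom.snd R B A))).val)) ∧
    ∀ (b : TensorProduct R R' B) (a : TensorProduct R R' A),
      Algebra.TensorProduct.map (AlgHom.id R' R') (IsScalarTower.toAlgHom R B (A ⧸ I)) b =
        Algebra.TensorProduct.map (AlgHom.id R' R') (Ideal.Quotient.mkₐ R I) a →
      ∃ x : TensorProduct R R' ↥(AlgHom.equalizer ((IsScalarTower.toAlgHom R B (A ⧸ I)).comp (AlgHom.fst R B A))
          ((Ideal.Quotient.mkₐ R I).comp (AlgHom.snd R B A))),
        Algebra.TensorProduct.map (AlgHom.id R' R') ((AlgHom.fst R B A).comp (AlgHom.equalizer ((IsScalarTower.toAlgHom R B (A ⧸ I)).comp (AlgHom.fst R B A))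
          ((Ideal.Quotient.mkₐ R I).comp (AlgHom.snd R B A))).val) x = b ∧
        Algebra.TensorProduct.map (AlgHom.id R' R') ((AlgHom.snd R B A).comp (AlgHom.equalizer ((IsScalarTower.toAlgHom R B (A ⧸ I)).comp (AlgHom.fst R B A))
          ((Ideal.Quotient.mkₐ R I).comp (AlgHom.snd R B A))).val) x = a := by
  have hC : Module.Flat R (A ⧸ I) := Module.Flat.trans R B (A ⧸ I)
  have hff : Module.FaithfullyFlat B (A ⧸ I) := faithfullyFlat_of_finite_of_injective B (A ⧸ I) hinj
  set P := AlgHom.equalizer ((IsScalarTower.toAlgHom R B (A ⧸ I)).comp (AlgHom.fst R B A))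
          ((Ideal.Quotient.mkₐ R I).comp (AlgHom.snd R B A)) with hP
  let ψL : B →ₗ[R] (A ⧸ I) := (IsScalarTower.toAlgHom R B (A ⧸ I)).toLinearMap
  let mkL : A →ₗ[R] (A ⧸ I) := (Ideal.Quotient.mkₐ R I).toLinearMap
  let fstL := LinearMap.fst R B A
  let sndL := LinearMap.snd R B A
  let inlL := LinearMap.inl R B A
  let inrL := LinearMap.inr R B A
  let ι : P →ₗ[R] B × A := P.val.toLinearMap
  let d : (B × A) →ₗ[R] (A ⧸ I) := ψL ∘ₗ fstL - mkL ∘ₗ sndL
  have hd : Function.Surjective d := by
    intro c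
    obtain ⟨a, rfl⟩ := Ideal.Quotient.mk_surjective c
    refine ⟨(0, -a), ?_⟩
    simp [d, ψL, mkL, fstL, sndL]
  have hιinj : Function.Injective ι := Subtype.val_injective
  have hex : Function.Exact ι d := by
    intro p
    constructor
    · intro hp
      have hp' : ψL p.1 - mkL p.2 = 0 := hp
      refine ⟨⟨p, ?_⟩, rfl⟩
      rw [hP, AlgHom.mem_equalizer]
      exact sub_eq_zero.mp hp'
    · rintro ⟨x, rfl⟩
      have h2 : (x : B × A) ∈ AlgHom.equalizer ((IsScalarTower.toAlgHom R B (A ⧸ I)).comp (AlgHom.fst R B A))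
          ((Ideal.Quotient.mkₐ R I).comp (AlgHom.snd R B A)) := x.2
      rw [AlgHom.mem_equalizer] at h2
      change ψL (x : B × A).1 - mkL (x : B × A).2 = 0
      exact sub_eq_zero.mpr h2
  have hιT : Function.Injective (ι.lTensor R') :=
    LinearMap.lTensor_injective_of_exact_of_flat d hd ι hιinj hex R'
  have hexT : Function.Exact (ι.lTensor R') (d.lTensor R') := lTensor_exact R' hex hd
  have hψT : Function.Injective (ψL.lTensor R') :=
    lTensor_injective_of_faithfullyFlat R B (A ⧸ I) R'
  have hdT : ∀ y : R' ⊗[R] (B × A), d.lTensor R' y =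
      ψL.lTensor R' (fstL.lTensor R' y) - mkL.lTensor R' (sndL.lTensor R' y) := by
    intro y
    simp only [d, LinearMap.lTensor_sub, LinearMap.lTensor_comp, LinearMap.sub_apply,
      LinearMap.comp_apply]
  have hdecomp : ∀ y : R' ⊗[R] (B × A), y =
      inlL.lTensor R' (fstL.lTensor R' y) + inrL.lTensor R' (sndL.lTensor R' y) := by
    intro y
    have h1 : inlL ∘ₗ fstL + inrL ∘ₗ sndL = LinearMap.id := by
      apply LinearMap.ext; intro p; simp [inlL, inrL, fstL, sndL]
    have h2 := congrArg (fun f => f.lTensor R' y) h1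
    simp only [LinearMap.lTensor_add, LinearMap.lTensor_comp, LinearMap.add_apply,
      LinearMap.comp_apply, LinearMap.lTensor_id, LinearMap.id_apply] at h2
    exact h2.symm
  have hfstι : ∀ x : R' ⊗[R] P, Algebra.TensorProduct.map (AlgHom.id R' R') ((AlgHom.fst R B A).comp P.val) x
      = fstL.lTensor R' (ι.lTensor R' x) := by
    intro x
    rw [map_id_eq_lTensor, ← LinearMap.comp_apply, ← LinearMap.lTensor_comp]
    rfl
  have hsndι : ∀ x : R' ⊗[R] P, Algebra.TensorProduct.map (AlgHom.id R' R') ((AlgHom.snd R B A).comp P.val) x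
      = sndL.lTensor R' (ι.lTensor R' x) := by
    intro x
    rw [map_id_eq_lTensor, ← LinearMap.comp_apply, ← LinearMap.lTensor_comp]
    rfl
  constructor
  · rw [injective_iff_map_eq_zero]
    intro x hx
    rw [hsndι] at hx
    apply hιT
    rw [map_zero]
    set y := ι.lTensor R' x with hy
    have h0 : d.lTensor R' y = 0 := hexT.apply_apply_eq_zero x
    rw [hdT, hx, map_zero, sub_zero] at h0
    have hf : fstL.lTensor R' y = 0 := hψT (by rw [h0, map_zero])
    rw [hdecomp y, hf, hx, map_zero, map_zero, add_zero]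
  · intro b a hba
    rw [map_id_eq_lTensor, map_id_eq_lTensor] at hba
    set y : R' ⊗[R] (B × A) := inlL.lTensor R' b + inrL.lTensor R' a with hy
    have hfy : fstL.lTensor R' y = b := by
      rw [hy, map_add, ← LinearMap.comp_apply, ← LinearMap.comp_apply, ← LinearMap.lTensor_comp,
        ← LinearMap.lTensor_comp]
      have e1 : fstL ∘ₗ inlL = LinearMap.id := by
        apply LinearMap.ext; intro p; simp [inlL, fstL]
      have e2 : fstL ∘ₗ inrL = 0 := by
        apply LinearMap.ext; intro p; simp [inrL, fstL]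
      rw [e1, e2]; simp
    have hsy : sndL.lTensor R' y = a := by
      rw [hy, map_add, ← LinearMap.comp_apply, ← LinearMap.comp_apply, ← LinearMap.lTensor_comp,
        ← LinearMap.lTensor_comp]
      have e1 : sndL ∘ₗ inlL = 0 := by
        apply LinearMap.ext; intro p; simp [inlL, sndL]
      have e2 : sndL ∘ₗ inrL = LinearMap.id := by
        apply LinearMap.ext; intro p; simp [inrL, sndL]
      rw [e1, e2]; simp
    have h0 : d.lTensor R' y = 0 := by
      rw [hdT, hfy, hsy]
      exact sub_eq_zero.mpr hba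
    obtain ⟨x, hx⟩ := (hexT y).mp h0
    refine ⟨x, ?_, ?_⟩
    · rw [hfstι, hx, hfy]
    · rw [hsndι, hx, hsy]

end Groth.Agent.S14086
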