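import Groth.Statements.S14088
import Mathlib.Tactic

set_option autoImplicit false
universe u

namespace Groth.Agent.S14088

noncomputable def P {A : Type u} [CommRing A] (h τ : A) (a : ℕ) : A :=
  ∏ i ∈ Finset.range a, (h + (i : A) * τ)

theorem P_succ {A : Type u} [CommRing A] (h τ : A) (a : ℕ) :
    P h τ (a + 1) = P h τ a * (h + (a : A) * τ) := by
  unfold P; rw [Finset.prod_range_succ]

theorem mul_P {A : Type u} [CommRing A] (h τ : A) (n a : ℕ) :
    (h + (n : A) * τ) * P h τ a = P h τ (a + 1) + ((n : A) - a) * τ * P h τ a := by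
  rw [P_succ]; ring

theorem choose_key {A : Type u} [CommRing A] (m t : ℕ) :
    (m.choose t : A) * ((m : A) - t) = ((t : A) + 1) * (m.choose (t + 1) : A) := by
  rcases le_or_gt t m with htm | htm
  · have := Nat.choose_succ_right_eq m t
    have h2 : ((m.choose (t + 1) * (t + 1) : ℕ) : A) = ((m.choose t * (m - t) : ℕ) : A) := by
      rw [this]
    push_cast [Nat.cast_sub htm] at h2
    linear_combination -h2
  · rw [Nat.choose_eq_zero_of_lt htm, Nat.choose_eq_zero_of_lt (Nat.lt_succ_of_lt htm)]
    simp

theorem main {A : Type u} [CommRing A] (h τ : A) (m : ℕ) : ∀ n : ℕ,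
    P h τ n * P h τ m =
      ∑ s ∈ Finset.range (n + 1), (-1 : A) ^ s * (Nat.factorial s : A) * (Nat.choose n s : A) *
        (Nat.choose m s : A) * τ ^ s * P h τ (m + n - s) := by
  intro n
  induction n with
  | zero => simp [P]
  | succ n ih =>
    have e1 : P h τ (n + 1) * P h τ m = (h + (n : A) * τ) * (P h τ n * P h τ m) := by
      rw [P_succ]; ring
    rw [e1, ih, Finset.mul_sum]
    -- rewrite each term
    have e2 : ∀ s ∈ Finset.range (n + 1),
        (h + (n : A) * τ) * ((-1 : A) ^ s * (Nat.factorial s : A) * (Nat.choose n s : A) *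
          (Nat.choose m s : A) * τ ^ s * P h τ (m + n - s)) =
        (-1 : A) ^ s * (Nat.factorial s : A) * (Nat.choose n s : A) *
          (Nat.choose m s : A) * τ ^ s * P h τ (m + (n + 1) - s) +
        (-1 : A) ^ s * (Nat.factorial s : A) * (Nat.choose n s : A) *
          (Nat.choose m s : A) * ((s : A) - m) * τ ^ (s + 1) * P h τ (m + (n + 1) - (s + 1)) := by
      intro s hs
      have hs' : s ≤ n := Nat.lt_succ_iff.mp (Finset.mem_range.mp hs)
      have i1 : m + (n + 1) - s = (m + n - s) + 1 := by omega
      have i2 : m + (n + 1) - (s + 1) = m + n - s := by omega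
      rw [i1, i2]
      have := mul_P h τ n (m + n - s)
      have c : ((m + n - s : ℕ) : A) = (m : A) + n - s := by
        rw [Nat.cast_sub (by omega)]; push_cast; ring
      rw [c] at this
      linear_combination ((-1 : A) ^ s * (Nat.factorial s : A) * (Nat.choose n s : A) *
          (Nat.choose m s : A) * τ ^ s) * this
    rw [Finset.sum_congr rfl e2, Finset.sum_add_distrib]
    -- first sum: extend range
    have e3 : ∑ s ∈ Finset.range (n + 1), (-1 : A) ^ s * (Nat.factorial s : A) * (Nat.choose n s : A) *
          (Nat.choose m s : A) * τ ^ s * P h τ (m + (n + 1) - s) =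
        ∑ s ∈ Finset.range (n + 1 + 1), (-1 : A) ^ s * (Nat.factorial s : A) * (Nat.choose n s : A) *
          (Nat.choose m s : A) * τ ^ s * P h τ (m + (n + 1) - s) := by
      rw [Finset.sum_range_succ _ (n + 1)]
      simp [Nat.choose_succ_self]
    rw [e3, Finset.sum_range_succ' _ (n + 1), Finset.sum_range_succ' _ (n + 1)]
    rw [add_comm _ ((-1 : A) ^ 0 * _ * _ * _ * _ * _), add_assoc, ← Finset.sum_add_distrib]
    rw [add_comm (∑ s ∈ Finset.range (n + 1), _) _]
    congr 1
    · simp
    · apply Finset.sum_congr rfl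
      intro t _
      have key := choose_key (A := A) m t
      push_cast [Nat.factorial_succ, Nat.choose_succ_succ]
      linear_combination (-((-1 : A) ^ t * (t.factorial : A) * (n.choose t : A) * τ ^ (t + 1) *
        P h τ (m + (n + 1) - (t + 1)))) * key

theorem result (A : Type u) [CommRing A] (h τ : A) (n m : ℕ) (hnm : n ≤ m) :
    (∏ i ∈ Finset.range n, (h + (i : A) * τ) ^ 2) * ∏ i ∈ Finset.Ico n m, (h + (i : A) * τ) =
      ∑ s ∈ Finset.range (n + 1), (-1 : A) ^ s * (Nat.factorial s : A) * (Nat.choose n s : A) *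
        (Nat.choose m s : A) * τ ^ s * ∏ i ∈ Finset.range (m + n - s), (h + (i : A) * τ) := by
  have := main h τ m n
  unfold P at this
  rw [← this, ← Finset.prod_range_mul_prod_Ico _ hnm, Finset.prod_pow]
  ring

end Groth.Agent.S14088
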