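import Groth.Statements.S1409
import Groth.Agent.H7.MinPrimesLimit

set_option autoImplicit false
universe u
open FlatMor

namespace Groth.Agent.S1409

/-- Let (R_i) be a directed system of commutative rings whose transition maps are faithfully flat, with
colimit R. Then, counting in the extended natural numbers, the minimal primes of R are exactly as
numerous as the supremum over i of the count of minimal primes of R_i. -/
theorem result {ι : Type u} [Preorder ι] [IsDirected ι (· ≤ ·)] [Nonempty ι] (G : ι → Type u) [∀ i, CommRing (G i)]
    (f : ∀ i j, i ≤ j → G i →+* G j) [DirectedSystem G fun i j h => f i j h]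
    (hf : ∀ i j (h : i ≤ j), letI := (f i j h).toAlgebra
      Module.FaithfullyFlat (G i) (G j)) :
    (minimalPrimes (Ring.DirectLimit G fun i j h => ⇑(f i j h))).encard = ⨆ i, (minimalPrimes (G i)).encard := by
  refine Groth.Agent.H7.encard_minimalPrimes_of_directed G f
    (fun i => Ring.DirectLimit.of G (fun i j h => ⇑(f i j h)) i)
    (fun i j h x => Ring.DirectLimit.of_f h x)
    (fun i j k hij hjk x => DirectedSystem.map_map (f := fun i j h => ⇑(f i j h)) hij hjk x)
    (fun z => Ring.DirectLimit.exists_of z)
    (fun i x hx => Ring.DirectLimit.of.zero_exact hx)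
    hf

end Groth.Agent.S1409
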