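import Groth.Statements.S14091
import Mathlib

set_option autoImplicit false
set_option linter.style.haveILetI false
universe u
open ArSing

namespace Groth.Agent.S14091

open Polynomial in
theorem result (k B : Type u) [Field k] [IsAlgClosed k]
    [CommRing B] [IsLocalRing B] [Algebra k B] [Module.Finite k B]
    (hcurv : Module.finrank (IsLocalRing.ResidueField B) (IsLocalRing.CotangentSpace B) ≤ 1) :
    Nonempty (B ≃ₐ[k] (Polynomial k ⧸ Ideal.span {(X : Polynomial k) ^ Module.finrank k B})) := by
  haveI : IsArtinianRing B := IsArtinianRing.of_finite k B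
  haveI : IsNoetherianRing B := inferInstance
  set m := IsLocalRing.maximalIdeal B with hm
  obtain ⟨t, ht⟩ : ∃ t, m = Ideal.span {t} := by
    have := (IsLocalRing.finrank_cotangentSpace_le_one_iff).1 hcurv
    obtain ⟨t, ht⟩ := this.principal
    exact ⟨t, ht⟩
  obtain ⟨N, hN⟩ : IsNilpotent m := (isArtinianRing_iff_isNilpotent_maximalIdeal B).1 inferInstance
  have hpow : ∀ j, m ^ j = Ideal.span {t ^ j} := fun j => by rw [ht, Ideal.span_singleton_pow]
  -- residue field is k
  have hdec : ∀ b : B, ∃ c : k, b - algebraMap k B c ∈ m := by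
    intro b
    haveI : Module.Finite k (IsLocalRing.ResidueField B) :=
      Module.Finite.of_surjective (IsScalarTower.toAlgHom k B (IsLocalRing.ResidueField B)).toLinearMap
        IsLocalRing.residue_surjective
    have hbij := IsAlgClosed.algebraMap_bijective_of_isIntegral (k := k)
      (K := IsLocalRing.ResidueField B)
    obtain ⟨c, hc⟩ := hbij.2 (IsLocalRing.residue B b)
    refine ⟨c, ?_⟩
    rw [hm, ← IsLocalRing.residue_eq_zero_iff, map_sub, sub_eq_zero, ← hc]
    exact (IsScalarTower.algebraMap_apply k B (IsLocalRing.ResidueField B) c)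
  let φ : Polynomial k →ₐ[k] B := Polynomial.aeval t
  have hφX : φ X = t := Polynomial.aeval_X t
  have happrox : ∀ j : ℕ, ∀ b : B, ∃ f : Polynomial k, b - φ f ∈ m ^ j := by
    intro j
    induction j with
    | zero => intro b; exact ⟨0, by simp⟩
    | succ j ih =>
      intro b
      obtain ⟨f, hf⟩ := ih b
      rw [hpow, Ideal.mem_span_singleton'] at hf
      obtain ⟨b', hb'⟩ := hf
      obtain ⟨c, hc⟩ := hdec b'
      rw [ht, Ideal.mem_span_singleton'] at hc
      obtain ⟨b'', hb''⟩ := hc
      refine ⟨f + C c * X ^ j, ?_⟩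
      rw [hpow, Ideal.mem_span_singleton']
      refine ⟨b'', ?_⟩
      rw [map_add, map_mul, map_pow, hφX, Polynomial.aeval_C, pow_succ]
      have h1 : b = φ f + b' * t ^ j := by rw [hb']; ring
      have h2 : b' = b'' * t + algebraMap k B c := by rw [hb'']; ring
      rw [h1, h2]; ring
  have hsurj : Function.Surjective φ := by
    intro b
    obtain ⟨f, hf⟩ := happrox N b
    rw [hN, Ideal.zero_eq_bot, Ideal.mem_bot, sub_eq_zero] at hf
    exact ⟨f, hf.symm⟩
  set I : Ideal (Polynomial k) := RingHom.ker (φ : Polynomial k →+* B) with hI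
  have hXN : (X : Polynomial k) ^ N ∈ I := by
    rw [hI, RingHom.mem_ker]
    change φ (X ^ N) = 0
    rw [map_pow, hφX]
    have : t ^ N ∈ m ^ N := by rw [hpow]; exact Ideal.subset_span rfl
    rw [hN] at this
    exact this
  have hgen : Ideal.span {Submodule.IsPrincipal.generator I} = I := Ideal.span_singleton_generator I
  have hdvd : Submodule.IsPrincipal.generator I ∣ (X : Polynomial k) ^ N := by
    rw [← Ideal.mem_span_singleton, hgen]; exact hXN
  obtain ⟨j, -, hj⟩ := (dvd_prime_pow Polynomial.prime_X N).1 hdvd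
  have hIj : I = Ideal.span {(X : Polynomial k) ^ j} := by
    rw [← hgen]; exact Ideal.span_singleton_eq_span_singleton.2 hj
  let e : (Polynomial k ⧸ I) ≃ₐ[k] B := Ideal.quotientKerAlgEquivOfSurjective hsurj
  let e' : (Polynomial k ⧸ Ideal.span {(X : Polynomial k) ^ j}) ≃ₐ[k] B :=
    (Ideal.quotientEquivAlgOfEq k hIj.symm).trans e
  have hfin : Module.finrank k B = j := by
    rw [← e'.toLinearEquiv.finrank_eq,
      finrank_quotient_span_eq_natDegree' (Polynomial.monic_X_pow j), Polynomial.natDegree_X_pow]
  rw [hfin]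
  exact ⟨e'.symm⟩

end Groth.Agent.S14091
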