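import Groth.Statements.S14093
import Mathlib
import Groth.Agent.H76.ArSingE

set_option autoImplicit false
universe u
open ArSing

namespace Groth.Agent.S14093

/-- For an algebraically closed field k of characteristic prime to 2 and to r+1 and the involution σ of
A_r = k[[x,y]]/(y^2 - x^(r+1)) with σ(x) = x, σ(y) = -y: the invariant subalgebra is k[[x]] (the
image of t ↦ x from k[[t]]), the inclusion k[[x]] → A_r is faithfully flat (flat, and the maximal
ideal of k[[t]] does not generate the unit ideal of A_r), and the fixed locus (the closed subscheme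
cut out by all σ(a) - a) is a Cartier divisor of length r + 1, i.e. its ideal is generated by one
nonzerodivisor and the quotient has length r + 1. -/
theorem result (k : Type u) [Field k] [IsAlgClosed k] (r : ℕ)
    (h2 : (2 : k) ≠ 0) (hr : ((r + 1 : ℕ) : k) ≠ 0)
    (σ : ArSing.ring k r ≃ₐ[k] ArSing.ring k r) (hx : σ (ArSing.x k r) = ArSing.x k r)
    (hy : σ (ArSing.y k r) = -ArSing.y k r) :
    (∀ a : ArSing.ring k r, σ a = a ↔ a ∈ (ArSing.xMap k r).range) ∧
    ((ArSing.xMap k r).toRingHom.Flat ∧
      Ideal.map (ArSing.xMap k r) (IsLocalRing.maximalIdeal (PowerSeries k)) ≠ ⊤) ∧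
    (∃ g : ArSing.ring k r, g ∈ nonZeroDivisors (ArSing.ring k r) ∧
      Ideal.span (Set.range fun a : ArSing.ring k r => σ a - a) = Ideal.span {g}) ∧
    Module.length (ArSing.ring k r)
      (ArSing.ring k r ⧸ Ideal.span (Set.range fun a : ArSing.ring k r => σ a - a)) = r + 1 := by
  classical
  have hJ := Groth.Agent.H76.ArSing.iInf_mI_pow k r
  have hσx : ∀ f, σ (ArSing.xMap k r f) = ArSing.xMap k r f :=
    Groth.Agent.H76.ArSing.eq_xMap_comp k r (Groth.Agent.H76.ArSing.mI k r) hJ
      (σ : ArSing.ring k r →ₐ[k] ArSing.ring k r) (ArSing.xMap k r)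
      (by rw [Groth.Agent.H76.ArSing.xMap_X]; exact hx.symm)
      (by
        show σ (ArSing.x k r) ∈ _
        rw [hx]
        exact Groth.Agent.H76.ArSing.x_mem_mI k r)
  have hσn : ∀ f g, σ (ArSing.xMap k r f + ArSing.xMap k r g * ArSing.y k r) =
      ArSing.xMap k r f - ArSing.xMap k r g * ArSing.y k r := by
    intro f g
    rw [map_add, map_mul, hσx, hσx, hy]
    ring
  have h2P : ∀ g : PowerSeries k, 2 * g = 0 → g = 0 := by
    intro g hg
    have e2 : (2 : PowerSeries k) = PowerSeries.C (2 : k) := (map_ofNat _ 2).symm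
    rcases mul_eq_zero.mp hg with h | h
    · rw [e2] at h
      have := congrArg PowerSeries.constantCoeff h
      rw [PowerSeries.constantCoeff_C, map_zero] at this
      exact absurd this h2
    · exact h
  have hfix : Ideal.span (Set.range fun a : ArSing.ring k r => σ a - a) =
      Ideal.span {ArSing.y k r} := by
    apply le_antisymm
    · rw [Ideal.span_le]
      rintro _ ⟨a, rfl⟩
      obtain ⟨f, g, rfl⟩ := Groth.Agent.H76.ArSing.exists_normal k r a
      simp only [hσn]
      exact Ideal.mem_span_singleton'.mpr ⟨-2 * ArSing.xMap k r g, by ring⟩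
    · rw [Ideal.span_le, Set.singleton_subset_iff]
      have hc : algebraMap k (ArSing.ring k r) ((-2 : k)⁻¹) * (-2 : ArSing.ring k r) = 1 := by
        have hm : (-2 : ArSing.ring k r) = algebraMap k (ArSing.ring k r) (-2) := by
          rw [map_neg, map_ofNat]
        rw [hm, ← map_mul, inv_mul_cancel₀ (neg_ne_zero.mpr h2), map_one]
      have e : ArSing.y k r = algebraMap k (ArSing.ring k r) ((-2 : k)⁻¹) *
          (σ (ArSing.y k r) - ArSing.y k r) := by
        rw [hy]
        linear_combination (-ArSing.y k r) * hc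
      rw [e]
      exact Ideal.mul_mem_left _ _ (Ideal.subset_span ⟨ArSing.y k r, rfl⟩)
  refine ⟨?_, ⟨Groth.Agent.H76.ArSing.xMap_flat k r,
    Groth.Agent.H76.ArSing.map_xMap_maximalIdeal_ne_top k r⟩,
    ⟨ArSing.y k r, Groth.Agent.H76.ArSing.y_mem_nonZeroDivisors k r, hfix⟩, ?_⟩
  · intro a
    constructor
    · intro ha
      obtain ⟨f, g, rfl⟩ := Groth.Agent.H76.ArSing.exists_normal k r a
      rw [hσn] at ha
      have h0 := Groth.Agent.H76.ArSing.normal_eq_zero k r 0 (2 * g) (by
        rw [map_zero, map_mul, map_ofNat]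
        linear_combination -ha)
      have hg : g = 0 := h2P g h0.2
      exact ⟨f, by rw [hg, map_zero, zero_mul, add_zero]; rfl⟩
    · rintro ⟨f, rfl⟩
      exact hσx f
  · rw [hfix]
    exact Groth.Agent.H76.ArSing.length_quot_span_y k r

end Groth.Agent.S14093
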