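import Groth.Statements.S14094
import Mathlib
import Groth.Agent.H76.ArSingG

set_option autoImplicit false
universe u
open ArSing

namespace Groth.Agent.S14094

/-- K algebraically closed of characteristic prime to 2 and to r+1, r = 2m - 1 with m ≥ 2, σ the
involution x ↦ -x, y ↦ y of A_r = k[[x,y]]/(y^2 - x^(r+1)), and φ : A_(m-1) → A_r the k-algebra map
x ↦ x^2, y ↦ y. Then the invariant subalgebra of σ is the image of φ (so A_r^σ ≅ A_(m-1)), φ is
faithfully flat (flat, and the maximal ideal of A_(m-1) does not generate the unit ideal), and the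
fixed locus of σ is a Cartier divisor of length 2: its ideal, generated by the elements σ(a) - a, is
generated by one nonzerodivisor and has quotient of length 2. -/
theorem result (k : Type u) [Field k] [IsAlgClosed k] (m r : ℕ)
    (hm : 2 ≤ m) (hr : r = 2 * m - 1) (h2 : (2 : k) ≠ 0) (hr1 : ((r + 1 : ℕ) : k) ≠ 0)
    (σ : ArSing.ring k r ≃ₐ[k] ArSing.ring k r) (hx : σ (ArSing.x k r) = -ArSing.x k r)
    (hy : σ (ArSing.y k r) = ArSing.y k r)
    (φ : ArSing.ring k (m - 1) →ₐ[k] ArSing.ring k r) (hφx : φ (ArSing.x k (m - 1)) = ArSing.x k r ^ 2)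
    (hφy : φ (ArSing.y k (m - 1)) = ArSing.y k r) :
    (∀ a : ArSing.ring k r, σ a = a ↔ a ∈ φ.range) ∧
    (φ.toRingHom.Flat ∧ ∀ I : Ideal (ArSing.ring k (m - 1)), I.IsMaximal → Ideal.map φ I ≠ ⊤) ∧
    (∃ g : ArSing.ring k r, g ∈ nonZeroDivisors (ArSing.ring k r) ∧ Ideal.span (Set.range fun a : ArSing.ring k r => σ a - a) = Ideal.span {g}) ∧
    Module.length (ArSing.ring k r) (ArSing.ring k r ⧸ Ideal.span (Set.range fun a : ArSing.ring k r => σ a - a)) = 2 := by
  classical
  have hσx : ∀ f, σ (ArSing.xMap k r f) = ArSing.xMap k r (Groth.Agent.H76.ArSing.ng k f) :=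
    fun f => Groth.Agent.H76.ArSing.sigma_xMap_neg k r (σ : ArSing.ring k r →ₐ[k] ArSing.ring k r) hx f
  have hφF : ∀ F, φ (ArSing.xMap k (m - 1) F) = ArSing.xMap k r (Groth.Agent.H76.ArSing.ev k F) :=
    fun F => Groth.Agent.H76.ArSing.phi_xMap_sq k r (m - 1) φ hφx F
  have hσn : ∀ f g, σ (ArSing.xMap k r f + ArSing.xMap k r g * ArSing.y k r) =
      ArSing.xMap k r (Groth.Agent.H76.ArSing.ng k f) +
        ArSing.xMap k r (Groth.Agent.H76.ArSing.ng k g) * ArSing.y k r := by
    intro f g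
    rw [map_add, map_mul, hσx, hσx, hy]
  have hφn : ∀ F G, φ (ArSing.xMap k (m - 1) F + ArSing.xMap k (m - 1) G * ArSing.y k (m - 1)) =
      ArSing.xMap k r (Groth.Agent.H76.ArSing.ev k F) +
        ArSing.xMap k r (Groth.Agent.H76.ArSing.ev k G) * ArSing.y k r := by
    intro F G
    rw [map_add, map_mul, hφF, hφF, hφy]
  have hfix : Ideal.span (Set.range fun a : ArSing.ring k r => σ a - a) =
      Ideal.span {ArSing.x k r} := by
    apply le_antisymm
    · rw [Ideal.span_le]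
      rintro _ ⟨a, rfl⟩
      obtain ⟨f, g, rfl⟩ := Groth.Agent.H76.ArSing.exists_normal k r a
      simp only [hσn]
      have e : ArSing.xMap k r (Groth.Agent.H76.ArSing.ng k f) +
          ArSing.xMap k r (Groth.Agent.H76.ArSing.ng k g) * ArSing.y k r -
          (ArSing.xMap k r f + ArSing.xMap k r g * ArSing.y k r) =
          ArSing.xMap k r (Groth.Agent.H76.ArSing.ng k f - f) +
          ArSing.xMap k r (Groth.Agent.H76.ArSing.ng k g - g) * ArSing.y k r := by
        rw [map_sub, map_sub]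
        ring
      show _ ∈ Ideal.span {ArSing.x k r}
      rw [e, Groth.Agent.H76.ArSing.mem_span_x_iff]
      exact ⟨Groth.Agent.H76.ArSing.X_dvd_ng_sub k f, Groth.Agent.H76.ArSing.X_dvd_ng_sub k g⟩
    · rw [Ideal.span_le, Set.singleton_subset_iff]
      exact Groth.Agent.H76.ArSing.mem_fix_of_neg h2 σ _ hx
  refine ⟨?_, ⟨?_, ?_⟩, ⟨ArSing.x k r, Groth.Agent.H76.ArSing.x_mem_nonZeroDivisors k r, hfix⟩, ?_⟩
  · intro a
    rw [AlgHom.mem_range]
    constructor
    · intro ha
      obtain ⟨f, g, rfl⟩ := Groth.Agent.H76.ArSing.exists_normal k r a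
      rw [hσn] at ha
      obtain ⟨hf, hg⟩ := Groth.Agent.H76.ArSing.normal_unique k r _ _ _ _ ha
      obtain ⟨F, rfl⟩ := (Groth.Agent.H76.ArSing.ng_eq_self_iff k h2 f).mp hf
      obtain ⟨G, rfl⟩ := (Groth.Agent.H76.ArSing.ng_eq_self_iff k h2 g).mp hg
      exact ⟨ArSing.xMap k (m - 1) F + ArSing.xMap k (m - 1) G * ArSing.y k (m - 1), hφn F G⟩
    · rintro ⟨b, rfl⟩
      obtain ⟨F, G, rfl⟩ := Groth.Agent.H76.ArSing.exists_normal k (m - 1) b
      rw [hφn, hσn, Groth.Agent.H76.ArSing.ng_ev, Groth.Agent.H76.ArSing.ng_ev]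
  · apply Groth.Agent.H76.ArSing.flat_of_basis_two φ.toRingHom (ArSing.x k r)
    · intro b₁ b₂ h
      obtain ⟨F, G, rfl⟩ := Groth.Agent.H76.ArSing.exists_normal k (m - 1) b₁
      obtain ⟨F₁, G₁, rfl⟩ := Groth.Agent.H76.ArSing.exists_normal k (m - 1) b₂
      have h' : φ (ArSing.xMap k (m - 1) F + ArSing.xMap k (m - 1) G * ArSing.y k (m - 1)) +
          φ (ArSing.xMap k (m - 1) F₁ + ArSing.xMap k (m - 1) G₁ * ArSing.y k (m - 1)) *
            ArSing.x k r = 0 := h
      rw [hφn, hφn] at h'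
      have h'' : ArSing.xMap k r (Groth.Agent.H76.ArSing.ev k F +
            PowerSeries.X * Groth.Agent.H76.ArSing.ev k F₁) +
          ArSing.xMap k r (Groth.Agent.H76.ArSing.ev k G +
            PowerSeries.X * Groth.Agent.H76.ArSing.ev k G₁) * ArSing.y k r = 0 := by
        rw [map_add, map_add, map_mul, map_mul, Groth.Agent.H76.ArSing.xMap_X]
        linear_combination h'
      obtain ⟨hA, hB⟩ := Groth.Agent.H76.ArSing.normal_eq_zero k r _ _ h''
      obtain ⟨rfl, rfl⟩ := Groth.Agent.H76.ArSing.evenodd_eq_zero k _ _ hA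
      obtain ⟨rfl, rfl⟩ := Groth.Agent.H76.ArSing.evenodd_eq_zero k _ _ hB
      simp
    · intro a
      obtain ⟨f, g, rfl⟩ := Groth.Agent.H76.ArSing.exists_normal k r a
      obtain ⟨F, F₁, rfl⟩ := Groth.Agent.H76.ArSing.evenodd_exists k f
      obtain ⟨G, G₁, rfl⟩ := Groth.Agent.H76.ArSing.evenodd_exists k g
      refine ⟨ArSing.xMap k (m - 1) F + ArSing.xMap k (m - 1) G * ArSing.y k (m - 1),
        ArSing.xMap k (m - 1) F₁ + ArSing.xMap k (m - 1) G₁ * ArSing.y k (m - 1), ?_⟩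
      show _ = φ _ + φ _ * _
      rw [hφn, hφn, map_add, map_add, map_mul, map_mul, Groth.Agent.H76.ArSing.xMap_X]
      ring
  · intro I hI
    rw [Groth.Agent.H76.ArSing.eq_mI_of_isMaximal k (m - 1) I hI]
    intro htop
    apply Groth.Agent.H76.ArSing.mI_ne_top k r
    rw [eq_top_iff, ← htop, Ideal.map_le_iff_le_comap]
    unfold Groth.Agent.H76.ArSing.mI
    rw [Ideal.span_le]
    rintro z (rfl | rfl)
    · rw [SetLike.mem_coe, Ideal.mem_comap, hφx, pow_two]
      exact Ideal.mul_mem_left _ _ (Ideal.subset_span (by simp))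
    · rw [SetLike.mem_coe, Ideal.mem_comap, hφy]
      exact Ideal.subset_span (by simp)
  · rw [hfix]
    exact Groth.Agent.H76.ArSing.length_quot_span_x k r

end Groth.Agent.S14094
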