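import Groth.Statements.S14095
import Mathlib
import Groth.Agent.H76.ArSingH

set_option autoImplicit false
universe u
open ArSing

namespace Groth.Agent.S14095

/-- K algebraically closed of characteristic prime to 2 and to r+1, r = 2m - 1 with m ≥ 1, σ the
involution x ↦ -x, y ↦ -y of A_r = k[[x,y]]/(y^2 - x^(r+1)), and φ : A_m → A_r the k-algebra map x ↦
x^2, y ↦ xy. Then the invariant subalgebra of σ is the image of φ and φ is injective (so A_r^σ ≅
A_m), φ is not flat, and the fixed locus of σ is the reduced closed point and is not a Cartier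
divisor: the ideal generated by the elements σ(a) - a has quotient of length 1 and is not generated
by one nonzerodivisor. -/
theorem result (k : Type u) [Field k] [IsAlgClosed k] (m r : ℕ)
    (hm : 1 ≤ m) (hr : r = 2 * m - 1) (h2 : (2 : k) ≠ 0) (hr1 : ((r + 1 : ℕ) : k) ≠ 0)
    (σ : ArSing.ring k r ≃ₐ[k] ArSing.ring k r) (hx : σ (ArSing.x k r) = -ArSing.x k r)
    (hy : σ (ArSing.y k r) = -ArSing.y k r)
    (φ : ArSing.ring k m →ₐ[k] ArSing.ring k r) (hφx : φ (ArSing.x k m) = ArSing.x k r ^ 2)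
    (hφy : φ (ArSing.y k m) = ArSing.x k r * ArSing.y k r) :
    (∀ a : ArSing.ring k r, σ a = a ↔ a ∈ φ.range) ∧ Function.Injective φ ∧
    ¬ φ.toRingHom.Flat ∧
    Module.length (ArSing.ring k r) (ArSing.ring k r ⧸ Ideal.span (Set.range fun a : ArSing.ring k r => σ a - a)) = 1 ∧
    ¬ (∃ g : ArSing.ring k r, g ∈ nonZeroDivisors (ArSing.ring k r) ∧ Ideal.span (Set.range fun a : ArSing.ring k r => σ a - a) = Ideal.span {g}) := by
  classical
  have hr1' : 1 ≤ r := by omega
  have hσx : ∀ f, σ (ArSing.xMap k r f) = ArSing.xMap k r (Groth.Agent.H76.ArSing.ng k f) :=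
    fun f => Groth.Agent.H76.ArSing.sigma_xMap_neg k r (σ : ArSing.ring k r →ₐ[k] ArSing.ring k r) hx f
  have hφF : ∀ F, φ (ArSing.xMap k m F) = ArSing.xMap k r (Groth.Agent.H76.ArSing.ev k F) :=
    fun F => Groth.Agent.H76.ArSing.phi_xMap_sq k r m φ hφx F
  have hσn : ∀ f g, σ (ArSing.xMap k r f + ArSing.xMap k r g * ArSing.y k r) =
      ArSing.xMap k r (Groth.Agent.H76.ArSing.ng k f) +
        ArSing.xMap k r (-Groth.Agent.H76.ArSing.ng k g) * ArSing.y k r := by
    intro f g
    rw [map_add, map_mul, hσx, hσx, hy, map_neg]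
    ring
  have hφn : ∀ F G, φ (ArSing.xMap k m F + ArSing.xMap k m G * ArSing.y k m) =
      ArSing.xMap k r (Groth.Agent.H76.ArSing.ev k F) +
        ArSing.xMap k r (PowerSeries.X * Groth.Agent.H76.ArSing.ev k G) * ArSing.y k r := by
    intro F G
    rw [map_add, map_mul, hφF, hφF, hφy, map_mul, Groth.Agent.H76.ArSing.xMap_X]
    ring
  have hfix : Ideal.span (Set.range fun a : ArSing.ring k r => σ a - a) =
      Groth.Agent.H76.ArSing.mI k r := by
    apply le_antisymm
    · rw [Ideal.span_le]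
      rintro _ ⟨a, rfl⟩
      obtain ⟨f, g, rfl⟩ := Groth.Agent.H76.ArSing.exists_normal k r a
      simp only [hσn]
      obtain ⟨q, hq⟩ := Groth.Agent.H76.ArSing.X_dvd_ng_sub k f
      have e : ArSing.xMap k r (Groth.Agent.H76.ArSing.ng k f) +
          ArSing.xMap k r (-Groth.Agent.H76.ArSing.ng k g) * ArSing.y k r -
          (ArSing.xMap k r f + ArSing.xMap k r g * ArSing.y k r) =
          ArSing.xMap k r q * ArSing.x k r +
          ArSing.xMap k r (-Groth.Agent.H76.ArSing.ng k g - g) * ArSing.y k r := by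
        have h1 : ArSing.xMap k r (Groth.Agent.H76.ArSing.ng k f) - ArSing.xMap k r f =
            ArSing.xMap k r q * ArSing.x k r := by
          rw [← map_sub, hq, map_mul, Groth.Agent.H76.ArSing.xMap_X]
          ring
        rw [map_sub]
        linear_combination h1
      show _ ∈ Groth.Agent.H76.ArSing.mI k r
      rw [e]
      exact Ideal.add_mem _ (Ideal.mul_mem_left _ _ (Groth.Agent.H76.ArSing.x_mem_mI k r))
        (Ideal.mul_mem_left _ _ (Groth.Agent.H76.ArSing.y_mem_mI k r))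
    · unfold Groth.Agent.H76.ArSing.mI
      rw [Ideal.span_le]
      rintro z (rfl | rfl)
      · exact Groth.Agent.H76.ArSing.mem_fix_of_neg h2 σ _ hx
      · exact Groth.Agent.H76.ArSing.mem_fix_of_neg h2 σ _ hy
  refine ⟨?_, ?_, ?_, ?_, ?_⟩
  · intro a
    rw [AlgHom.mem_range]
    constructor
    · intro ha
      obtain ⟨f, g, rfl⟩ := Groth.Agent.H76.ArSing.exists_normal k r a
      rw [hσn] at ha
      obtain ⟨hf, hg⟩ := Groth.Agent.H76.ArSing.normal_unique k r _ _ _ _ ha
      obtain ⟨F, rfl⟩ := (Groth.Agent.H76.ArSing.ng_eq_self_iff k h2 f).mp hf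
      obtain ⟨G, rfl⟩ := (Groth.Agent.H76.ArSing.ng_eq_neg_iff k h2 g).mp
        (neg_eq_iff_eq_neg.mp hg)
      exact ⟨ArSing.xMap k m F + ArSing.xMap k m G * ArSing.y k m, hφn F G⟩
    · rintro ⟨b, rfl⟩
      obtain ⟨F, G, rfl⟩ := Groth.Agent.H76.ArSing.exists_normal k m b
      rw [hφn, hσn, Groth.Agent.H76.ArSing.ng_ev, map_mul, Groth.Agent.H76.ArSing.ng_X,
        Groth.Agent.H76.ArSing.ng_ev]
      have e : -(-PowerSeries.X * Groth.Agent.H76.ArSing.ev k G) =
          PowerSeries.X * Groth.Agent.H76.ArSing.ev k G := by ring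
      rw [e]
  · rw [injective_iff_map_eq_zero]
    intro b hb
    obtain ⟨F, G, rfl⟩ := Groth.Agent.H76.ArSing.exists_normal k m b
    rw [hφn] at hb
    obtain ⟨hA, hB⟩ := Groth.Agent.H76.ArSing.normal_eq_zero k r _ _ hb
    have hF : F = 0 := Groth.Agent.H76.ArSing.ev_injective k (by rw [hA, map_zero])
    have hG : G = 0 := by
      have := (mul_eq_zero.mp hB).resolve_left PowerSeries.X_ne_zero
      exact Groth.Agent.H76.ArSing.ev_injective k (by rw [this, map_zero])
    rw [hF, hG]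
    simp
  · apply Groth.Agent.H76.ArSing.not_flat_of_relation φ.toRingHom (ArSing.y k m) (-ArSing.x k m)
      (ArSing.x k r) (ArSing.y k r) ?_ (Groth.Agent.H76.ArSing.mI k m) ?_ ?_
    · show φ (ArSing.y k m) * ArSing.x k r + φ (-ArSing.x k m) * ArSing.y k r = 0
      rw [map_neg, hφx, hφy]
      ring
    · intro a₀ a₁ h
      by_contra hmem
      obtain ⟨u, hu⟩ := Groth.Agent.H76.ArSing.isUnit_of_notMem_mI k m a₀ hmem
      apply Groth.Agent.H76.ArSing.y_notMem_span_x k m
      rw [Ideal.mem_span_singleton]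
      refine ⟨a₁ * (↑u⁻¹ : ArSing.ring k m), ?_⟩
      have hu' : a₀ * (↑u⁻¹ : ArSing.ring k m) = 1 := by rw [← hu]; exact u.mul_inv
      linear_combination (↑u⁻¹ : ArSing.ring k m) * h - ArSing.y k m * hu'
    · unfold Groth.Agent.H76.ArSing.mI
      rw [Ideal.map_span, Set.image_pair]
      show ArSing.x k r ∉ Ideal.span {φ (ArSing.x k m), φ (ArSing.y k m)}
      rw [hφx, hφy]
      exact Groth.Agent.H76.ArSing.x_notMem_span_sq k r
  · rw [hfix]
    exact Groth.Agent.H76.ArSing.length_quot_of_isMaximal _ (Groth.Agent.H76.ArSing.mI_isMaximal k r)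
  · rintro ⟨g, -, hg⟩
    rw [hfix] at hg
    have hgm : g ∈ Groth.Agent.H76.ArSing.mI k r := by
      rw [hg]; exact Ideal.mem_span_singleton_self g
    have hxg : ArSing.x k r ∈ Ideal.span {g} := hg ▸ Groth.Agent.H76.ArSing.x_mem_mI k r
    have hyg : ArSing.y k r ∈ Ideal.span {g} := hg ▸ Groth.Agent.H76.ArSing.y_mem_mI k r
    obtain ⟨a, ha⟩ := Ideal.mem_span_singleton.mp hxg
    obtain ⟨b, hb⟩ := Ideal.mem_span_singleton.mp hyg
    by_cases hmem : a ∈ Groth.Agent.H76.ArSing.mI k r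
    · apply Groth.Agent.H76.ArSing.x_notMem_span_sq k r
      apply Groth.Agent.H76.ArSing.mI_sq_le k r hr1'
      rw [ha]
      exact Ideal.mul_mem_mul hgm hmem
    · obtain ⟨u, hu⟩ := Groth.Agent.H76.ArSing.isUnit_of_notMem_mI k r a hmem
      apply Groth.Agent.H76.ArSing.y_notMem_span_x k r
      rw [Ideal.mem_span_singleton]
      refine ⟨(↑u⁻¹ : ArSing.ring k r) * b, ?_⟩
      have hu' : a * (↑u⁻¹ : ArSing.ring k r) = 1 := by rw [← hu]; exact u.mul_inv
      rw [hb, ha]
      linear_combination (-g * b) * hu'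

end Groth.Agent.S14095
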