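import Groth.Statements.S14096
import Mathlib
import Groth.Agent.H76.ArSingJ

set_option autoImplicit false
universe u
open ArSing

namespace Groth.Agent.S14096

/-- K algebraically closed of characteristic ≠ 2, σ the involution of the node algebra A_1 =
k[[x,y]]/(y^2 - x^2) exchanging x and y, and φ : A_1 → A_1 the k-algebra map with φ(x + y) = x + y
and φ(y - x) = (y - x)^2 (in the branch coordinates u = x + y, v = y - x with uv = 0: u ↦ u, v ↦
v^2). Then the invariant subalgebra of σ is the image of φ and φ is injective (so A_1^σ ≅ A_1), and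
the fixed locus of σ is the branch v = 0: the ideal generated by the elements σ(a) - a is the ideal
(y - x), a minimal prime ideal generated by a zero-divisor (so not a Cartier divisor). Moreover φ is
not flat. (The published statement asserts that this extension is faithfully flat; it is not: as a
module over the invariant subalgebra B = k[[u,w]]/(uw), w = v^2, A_1 is B ⊕ (B/uB)·v, and B/uB is
not flat over B — equivalently the fibre length jumps from 1 on the branch w = 0 to 2 at the closed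
point.) -/
theorem result (k : Type u) [Field k] [IsAlgClosed k]
    (h2 : (2 : k) ≠ 0)
    (σ : ArSing.ring k 1 ≃ₐ[k] ArSing.ring k 1) (hx : σ (ArSing.x k 1) = ArSing.y k 1)
    (hy : σ (ArSing.y k 1) = ArSing.x k 1)
    (φ : ArSing.ring k 1 →ₐ[k] ArSing.ring k 1) (hφu : φ (ArSing.x k 1 + ArSing.y k 1) = ArSing.x k 1 + ArSing.y k 1)
    (hφv : φ (ArSing.y k 1 - ArSing.x k 1) = (ArSing.y k 1 - ArSing.x k 1) ^ 2) :
    (∀ a : ArSing.ring k 1, σ a = a ↔ a ∈ φ.range) ∧ Function.Injective φ ∧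
    Ideal.span (Set.range fun a : ArSing.ring k 1 => σ a - a) = Ideal.span {ArSing.y k 1 - ArSing.x k 1} ∧
    (ArSing.y k 1 - ArSing.x k 1) ∉ nonZeroDivisors (ArSing.ring k 1) ∧
    Ideal.span {ArSing.y k 1 - ArSing.x k 1} ∈ minimalPrimes (ArSing.ring k 1) ∧
    ¬ φ.toRingHom.Flat := by
  classical
  have hβ₁σ : ∀ a, Groth.Agent.H76.ArSing.β₁ k (σ a) = Groth.Agent.H76.ArSing.β₁ k a :=
    fun a => Groth.Agent.H76.ArSing.β₁_swap k (σ : ArSing.ring k 1 →ₐ[k] ArSing.ring k 1) hx hy a
  have hβ₂σ : ∀ a, Groth.Agent.H76.ArSing.β₂ k (σ a) =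
      Groth.Agent.H76.ArSing.ng k (Groth.Agent.H76.ArSing.β₂ k a) :=
    fun a => Groth.Agent.H76.ArSing.β₂_swap k (σ : ArSing.ring k 1 →ₐ[k] ArSing.ring k 1) hx hy a
  have hβ₁φ := Groth.Agent.H76.ArSing.β₁_phi k h2 φ hφu hφv
  have hβ₂φ := Groth.Agent.H76.ArSing.β₂_phi k h2 φ hφu hφv
  have hm2 : (-2 : k) ≠ 0 := neg_ne_zero.mpr h2
  have huv : (ArSing.y k 1 - ArSing.x k 1) * (ArSing.x k 1 + ArSing.y k 1) = 0 := by
    have := Groth.Agent.H76.ArSing.relation k 1
    linear_combination this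
  have h2X : (2 : PowerSeries k) * PowerSeries.X ≠ 0 := by
    intro h
    exact PowerSeries.X_ne_zero (Groth.Agent.H76.ArSing.two_mul_eq_zero k h2 _ h)
  have hβ₁u : Groth.Agent.H76.ArSing.β₁ k (ArSing.x k 1 + ArSing.y k 1) = 2 * PowerSeries.X := by
    rw [map_add, Groth.Agent.H76.ArSing.β₁_x, Groth.Agent.H76.ArSing.β₁_y]
    ring
  have hfix : Ideal.span (Set.range fun a : ArSing.ring k 1 => σ a - a) =
      Ideal.span {ArSing.y k 1 - ArSing.x k 1} := by
    apply le_antisymm
    · rw [Ideal.span_le]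
      rintro _ ⟨a, rfl⟩
      rw [← Groth.Agent.H76.ArSing.ker_β₁, SetLike.mem_coe, RingHom.mem_ker]
      show Groth.Agent.H76.ArSing.β₁ k (σ a - a) = 0
      rw [map_sub, hβ₁σ, sub_self]
    · rw [Ideal.span_le, Set.singleton_subset_iff]
      exact Groth.Agent.H76.ArSing.mem_fix_of_neg h2 σ _ (by rw [map_sub, hx, hy]; ring)
  have hprime : (Ideal.span {ArSing.y k 1 - ArSing.x k 1}).IsPrime := by
    rw [← Groth.Agent.H76.ArSing.ker_β₁]
    exact RingHom.ker_isPrime _
  have hu_notMem : ArSing.x k 1 + ArSing.y k 1 ∉ Ideal.span {ArSing.y k 1 - ArSing.x k 1} := by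
    rw [← Groth.Agent.H76.ArSing.ker_β₁, RingHom.mem_ker, hβ₁u]
    exact h2X
  refine ⟨?_, ?_, hfix, ?_, ?_, ?_⟩
  · intro a
    rw [AlgHom.mem_range]
    constructor
    · intro ha
      have hev : Groth.Agent.H76.ArSing.ng k (Groth.Agent.H76.ArSing.β₂ k a) =
          Groth.Agent.H76.ArSing.β₂ k a := by rw [← hβ₂σ, ha]
      obtain ⟨Q, hQ⟩ := (Groth.Agent.H76.ArSing.ng_eq_self_iff k h2 _).mp hev
      obtain ⟨q', hq'⟩ := Groth.Agent.H76.ArSing.rs_surjective k (-2) hm2 Q
      obtain ⟨b, hb₁, hb₂⟩ := Groth.Agent.H76.ArSing.β_surjective k h2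
        (Groth.Agent.H76.ArSing.β₁ k a) q' (by
          rw [Groth.Agent.H76.ArSing.constantCoeff_β₁_eq, hQ,
            Groth.Agent.H76.ArSing.constantCoeff_ev, ← hq',
            Groth.Agent.H76.ArSing.constantCoeff_rs])
      refine ⟨b, ?_⟩
      apply Groth.Agent.H76.ArSing.β_ext k h2
      · rw [hβ₁φ, hb₁]
      · rw [hβ₂φ, hb₂, hq', hQ]
    · rintro ⟨b, rfl⟩
      apply Groth.Agent.H76.ArSing.β_ext k h2
      · rw [hβ₁σ]
      · rw [hβ₂σ, hβ₂φ, Groth.Agent.H76.ArSing.ng_ev]
  · rw [injective_iff_map_eq_zero]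
    intro b hb
    apply Groth.Agent.H76.ArSing.β_injective k h2
    · rw [← hβ₁φ, hb, map_zero]
    · have h := hβ₂φ b
      rw [hb, map_zero] at h
      have h' : Groth.Agent.H76.ArSing.rs k (-2) (Groth.Agent.H76.ArSing.β₂ k b) = 0 :=
        Groth.Agent.H76.ArSing.ev_injective k (by rw [← h, map_zero])
      exact Groth.Agent.H76.ArSing.rs_injective k (-2) hm2 (by rw [h', map_zero])
  · intro hmem
    rw [mem_nonZeroDivisors_iff_left] at hmem
    have := hmem _ huv
    apply hu_notMem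
    rw [this]
    exact Ideal.zero_mem _
  · rw [minimalPrimes_eq_minimals]
    refine ⟨hprime, ?_⟩
    intro q hq hle
    rw [Ideal.span_le, Set.singleton_subset_iff]
    have h0 : (ArSing.y k 1 - ArSing.x k 1) * (ArSing.x k 1 + ArSing.y k 1) ∈ q := by
      rw [huv]; exact Ideal.zero_mem _
    rcases hq.mem_or_mem h0 with h | h
    · exact h
    · exact absurd (hle h) hu_notMem
  · apply Groth.Agent.H76.ArSing.not_flat_of_relation φ.toRingHom (ArSing.x k 1 + ArSing.y k 1) 0
      (ArSing.y k 1 - ArSing.x k 1) 0 ?_ (Ideal.span {ArSing.y k 1 - ArSing.x k 1}) ?_ ?_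
    · show φ (ArSing.x k 1 + ArSing.y k 1) * (ArSing.y k 1 - ArSing.x k 1) + φ 0 * 0 = 0
      rw [hφu, mul_zero, add_zero]
      linear_combination huv
    · intro a₀ a₁ h
      rw [zero_mul, add_zero] at h
      rw [← Groth.Agent.H76.ArSing.ker_β₁, RingHom.mem_ker]
      have h' := congrArg (Groth.Agent.H76.ArSing.β₁ k) h
      rw [map_mul, hβ₁u, map_zero] at h'
      exact (mul_eq_zero.mp h').resolve_left h2X
    · rw [Ideal.map_span, Set.image_singleton]
      show ArSing.y k 1 - ArSing.x k 1 ∉ Ideal.span {φ (ArSing.y k 1 - ArSing.x k 1)}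
      rw [hφv, Ideal.mem_span_singleton]
      rintro ⟨w, hw⟩
      have h' := congrArg (Groth.Agent.H76.ArSing.β₂ k) hw
      rw [map_mul, map_pow, map_sub, Groth.Agent.H76.ArSing.β₂_x,
        Groth.Agent.H76.ArSing.β₂_y] at h'
      have h'' : PowerSeries.X * ((-2 : PowerSeries k) -
          4 * PowerSeries.X * Groth.Agent.H76.ArSing.β₂ k w) = 0 := by
        linear_combination h'
      have h3 := (mul_eq_zero.mp h'').resolve_left PowerSeries.X_ne_zero
      have h4 := congrArg PowerSeries.constantCoeff h3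
      have hC : (-2 : PowerSeries k) = PowerSeries.C (-2 : k) := by rw [map_neg, map_ofNat]
      rw [map_sub, hC, PowerSeries.constantCoeff_C, mul_assoc, mul_comm, mul_assoc, map_mul,
        PowerSeries.constantCoeff_X, zero_mul, sub_zero, map_zero] at h4
      exact hm2 h4

end Groth.Agent.S14096
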