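import Groth.Statements.S14097
import Mathlib.Tactic

set_option autoImplicit false
universe u

namespace Groth.Agent.S14097

open Multiset in
theorem esymm_cons_succ {A : Type u} [CommRing A] (a : A) (s : Multiset A) (j : ℕ) :
    (a ::ₘ s).esymm (j + 1) = s.esymm (j + 1) + a * s.esymm j := by
  simp only [Multiset.esymm, Multiset.powersetCard_cons, Multiset.map_add, Multiset.sum_add,
    Multiset.map_map, Function.comp_def, Multiset.prod_cons]
  congr 1
  rw [Multiset.sum_map_mul_left]

theorem esymm_zero' {A : Type u} [CommRing A] (s : Multiset A) : s.esymm 0 = 1 := by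
  simp [Multiset.esymm]

theorem esymm_card' {A : Type u} [CommRing A] (s : Multiset A) : s.esymm (Multiset.card s) = s.prod := by
  simp [Multiset.esymm, Multiset.powersetCard_self]

/-- E k j -/
noncomputable def E {A : Type u} [CommRing A] (h : ℕ → A) (k j : ℕ) : A :=
  ((Finset.range k).val.map h).esymm j

theorem E_succ_succ {A : Type u} [CommRing A] (h : ℕ → A) (k j : ℕ) :
    E h (k + 1) (j + 1) = E h k (j + 1) + h k * E h k j := by
  unfold E
  rw [Finset.range_val, Multiset.range_succ, Multiset.map_cons, esymm_cons_succ]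
  rfl

theorem E_zero {A : Type u} [CommRing A] (h : ℕ → A) (k : ℕ) : E h k 0 = 1 := esymm_zero' _

theorem E_self {A : Type u} [CommRing A] (h : ℕ → A) (k : ℕ) :
    E h k k = ∏ i ∈ Finset.range k, h i := by
  unfold E
  have : Multiset.card ((Finset.range k).val.map h) = k := by simp
  have h2 := esymm_card' ((Finset.range k).val.map h)
  rw [this] at h2
  rw [h2]
  rfl

noncomputable def S' {A : Type u} [CommRing A] (τ : A) (h : ℕ → A) (k : ℕ) : A :=
  ∑ j ∈ Finset.range k, τ ^ (k - 1 - j) * E h k j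

theorem S'_succ {A : Type u} [CommRing A] (τ : A) (h : ℕ → A) (k : ℕ) :
    S' τ h (k + 1) = (τ + h k) * S' τ h k + ∏ i ∈ Finset.range k, h i := by
  unfold S'
  rw [Finset.sum_range_succ' _ k]
  simp only [E_succ_succ, E_zero, mul_add, Finset.sum_add_distrib, Nat.add_sub_cancel, Nat.sub_zero,
    mul_one]
  have e1 : ∑ x ∈ Finset.range k, τ ^ (k - (x + 1)) * E h k (x + 1) + τ ^ k
      = ∑ x ∈ Finset.range (k + 1), τ ^ (k - x) * E h k x := by
    rw [Finset.sum_range_succ' _ k]
    simp [E_zero]
  have e2 : ∑ x ∈ Finset.range (k + 1), τ ^ (k - x) * E h k x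
      = τ * ∑ x ∈ Finset.range k, τ ^ (k - 1 - x) * E h k x + ∏ i ∈ Finset.range k, h i := by
    rw [Finset.sum_range_succ, Finset.mul_sum]
    simp only [Nat.sub_self, pow_zero, one_mul, E_self]
    congr 1
    apply Finset.sum_congr rfl
    intro x hx
    have hx' : x < k := Finset.mem_range.mp hx
    have : k - x = (k - 1 - x) + 1 := by omega
    rw [this, pow_succ]; ring
  have e3 : ∑ x ∈ Finset.range k, τ ^ (k - (x + 1)) * (h k * E h k x)
      = h k * ∑ x ∈ Finset.range k, τ ^ (k - 1 - x) * E h k x := by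
    rw [Finset.mul_sum]
    apply Finset.sum_congr rfl
    intro x _
    have : k - (x + 1) = k - 1 - x := by omega
    rw [this]; ring
  calc _ = (∑ x ∈ Finset.range k, τ ^ (k - (x + 1)) * E h k (x + 1) + τ ^ k)
        + ∑ x ∈ Finset.range k, τ ^ (k - (x + 1)) * (h k * E h k x) := by ring
    _ = _ := by rw [e1, e2, e3]; ring

theorem main {A : Type u} [CommRing A] (τ : A) (h : ℕ → A) : ∀ k : ℕ,
    (∀ i, i < k + 1 → h i ^ 2 + τ * h i = 0) →
    ∏ i ∈ Finset.range k, (h i + h (i + 1) + τ) = S' τ h (k + 1) ∧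
      h k * S' τ h (k + 1) = ∏ i ∈ Finset.range (k + 1), h i := by
  intro k
  induction k with
  | zero =>
    intro _
    simp [S', E_zero]
  | succ k ih =>
    intro hrel
    obtain ⟨ih1, ih2⟩ := ih (fun i hi => hrel i (Nat.lt_succ_of_lt hi))
    have hk := hrel (k + 1) (Nat.lt_succ_self _)
    constructor
    · rw [Finset.prod_range_succ, ih1, S'_succ τ h (k + 1), ← ih2]
      ring
    · rw [S'_succ τ h (k + 1), Finset.prod_range_succ _ (k + 1)]
      linear_combination (S' τ h (k + 1)) * hk

theorem result (A : Type u) [CommRing A] (k : ℕ) (hk : 2 ≤ k) (τ : A)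
    (h : ℕ → A) (hrel : ∀ i, i < k → h i ^ 2 + τ * h i = 0) :
    ∏ i ∈ Finset.range (k - 1), (h i + h (i + 1) + τ) =
      ∑ j ∈ Finset.range k, τ ^ (k - 1 - j) * (((Finset.range k).val.map h).esymm j) := by
  obtain ⟨k', rfl⟩ : ∃ k', k = k' + 1 := ⟨k - 1, by omega⟩
  have := (main τ h k' hrel).1
  simpa [S', E] using this

end Groth.Agent.S14097
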