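import Groth.Statements.S14100
import Mathlib.Algebra.Homology.DerivedCategory.FullyFaithful
import Mathlib.CategoryTheory.Triangulated.TStructure.TruncLTGE
import Mathlib.Tactic

set_option autoImplicit false
universe w v u
open DCoh

namespace Groth.Agent.S14100

open CategoryTheory Limits Pretriangulated DerivedCategory

section
variable {C : Type u} [Category.{v} C] [Abelian C] [HasDerivedCategory.{w} C]

/-- maps between objects concentrated in one degree are detected on cohomology -/
theorem eq_zero_of_heart (S T : DerivedCategory C) (b : ℤ) [S.IsGE b] [S.IsLE b] [T.IsGE b] [T.IsLE b]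
    (h : S ⟶ T) (hh : (homologyFunctor C b).map h = 0) : h = 0 := by
  obtain ⟨Z, ⟨eS⟩⟩ := exists_iso_singleFunctor_obj_of_isGE_of_isLE S b
  obtain ⟨Y, ⟨eT⟩⟩ := exists_iso_singleFunctor_obj_of_isGE_of_isLE T b
  obtain ⟨g, hg⟩ := (singleFunctor C b).map_surjective (eS.inv ≫ h ≫ eT.hom)
  have h1 : (homologyFunctor C b).map (eS.inv ≫ h ≫ eT.hom) = 0 := by
    simp [hh]
  have hg0 : g = 0 := by
    have nat := NatIso.naturality_1 (singleFunctorCompHomologyFunctorIso C b) g
    simp only [Functor.comp_map, Functor.id_map] at nat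
    rw [← nat, hg, h1]
    simp
  have h2 : eS.inv ≫ h ≫ eT.hom = 0 := by rw [← hg, hg0, Functor.map_zero]
  have : h = eS.hom ≫ (eS.inv ≫ h ≫ eT.hom) ≫ eT.inv := by simp
  rw [this, h2]; simp

theorem epi_homology_truncGEπ (X : DerivedCategory C) (b : ℤ) :
    Epi ((homologyFunctor C b).map ((TStructure.t.truncGEπ b).app X)) := by
  have hT := TStructure.t.triangleLTGE_distinguished b X
  have := (HomologySequence.epi_homologyMap_mor₂_iff _ hT b (b + 1) rfl).mpr (by
    apply IsZero.eq_of_tgt
    exact isZero_of_isLE ((TStructure.t.truncLT b).obj X) (b - 1) (b + 1) (by omega))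
  exact this

theorem mono_homology_truncLTι (X : DerivedCategory C) (b q : ℤ) (hq : q < b) :
    Mono ((homologyFunctor C q).map ((TStructure.t.truncLTι b).app X)) := by
  have hT := TStructure.t.triangleLTGE_distinguished b X
  have := (HomologySequence.mono_homologyMap_mor₁_iff _ hT (q - 1) q (by omega)).mpr (by
    apply IsZero.eq_of_src
    exact isZero_of_isGE ((TStructure.t.truncGE b).obj X) b (q - 1) (by omega))
  exact this

theorem eq_zero_of_top (X S : DerivedCategory C) (b : ℤ) [X.IsLE b] [S.IsGE b] [S.IsLE b]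
    (f : X ⟶ S) (hf : (homologyFunctor C b).map f = 0) : f = 0 := by
  have h1 := TStructure.t.π_descTruncGE f b
  have := epi_homology_truncGEπ X b
  have h2 : (homologyFunctor C b).map (TStructure.t.descTruncGE f b) = 0 := by
    rw [← cancel_epi ((homologyFunctor C b).map ((TStructure.t.truncGEπ b).app X)),
      ← Functor.map_comp, h1, hf, comp_zero]
  have : ((TStructure.t.truncGE b).obj X).IsLE b := by
    change TStructure.t.IsLE _ b
    infer_instance
  have : ((TStructure.t.truncGE b).obj X).IsGE b := by
    change TStructure.t.IsGE _ b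
    infer_instance
  have h3 := eq_zero_of_heart _ S b (TStructure.t.descTruncGE f b) h2
  rw [← h1, h3, comp_zero]

theorem exists_lift (X Y : DerivedCategory C) (b : ℤ) [X.IsLE b] [Y.IsLE b]
    (f : X ⟶ Y) (hf : (homologyFunctor C b).map f = 0) :
    ∃ f' : X ⟶ (TStructure.t.truncLT b).obj Y, f = f' ≫ (TStructure.t.truncLTι b).app Y := by
  have : ((TStructure.t.truncGE b).obj Y).IsLE b := by
    change TStructure.t.IsLE _ b
    infer_instance
  have : ((TStructure.t.truncGE b).obj Y).IsGE b := by
    change TStructure.t.IsGE _ b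
    infer_instance
  have h0 : f ≫ (TStructure.t.truncGEπ b).app Y = 0 := by
    apply eq_zero_of_top X _ b
    rw [Functor.map_comp, hf, zero_comp]
  exact Triangle.coyoneda_exact₂ _ (TStructure.t.triangleLTGE_distinguished b Y) f h0

theorem homology_truncLT_map_eq_zero {Y Z : DerivedCategory C} (g : Y ⟶ Z) (b : ℤ)
    (hg : ∀ q : ℤ, (homologyFunctor C q).map g = 0) (q : ℤ) :
    (homologyFunctor C q).map ((TStructure.t.truncLT b).map g) = 0 := by
  by_cases hq : q < b
  · have := mono_homology_truncLTι Z b q hq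
    rw [← cancel_mono ((homologyFunctor C q).map ((TStructure.t.truncLTι b).app Z)),
      ← Functor.map_comp, zero_comp]
    have := (TStructure.t.truncLTι b).naturality g
    simp only [Functor.id_map] at this
    rw [this, Functor.map_comp, hg q, comp_zero]
  · apply IsZero.eq_of_tgt
    exact isZero_of_isLE ((TStructure.t.truncLT b).obj Z) (b - 1) q (by omega)

/-- successor functor on `ℕ` -/
def succF : ℕ ⥤ ℕ := Monotone.functor (f := fun i : ℕ => i + 1) (fun _ _ h => Nat.add_le_add_right h 1)

theorem main : ∀ (n : ℕ) (a : ℤ) (K : ℕ ⥤ DerivedCategory C),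
    (∀ i : ℕ, i ≤ n + 1 → (K.obj i).IsGE a) →
    (∀ i : ℕ, i ≤ n + 1 → (K.obj i).IsLE (a + n)) →
    (∀ i : ℕ, i ≤ n → ∀ q : ℤ,
      (DerivedCategory.homologyFunctor C q).map (K.map (homOfLE (Nat.le_succ i))) = 0) →
    K.map (homOfLE (Nat.zero_le (n + 1))) = 0 := by
  intro n
  induction n with
  | zero =>
    intro a K hGE hLE hzero
    have := hGE 0 (by omega)
    have := hGE 1 (by omega)
    have : (K.obj 0).IsLE a := by simpa using hLE 0 (by omega)
    have : (K.obj 1).IsLE a := by simpa using hLE 1 (by omega)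
    exact eq_zero_of_heart _ _ a _ (hzero 0 le_rfl a)
  | succ n ih =>
    intro a K hGE hLE hzero
    set b : ℤ := a + (n + 1 : ℕ) with hb
    have : (K.obj 0).IsLE b := hLE 0 (by omega)
    have : (K.obj 1).IsLE b := hLE 1 (by omega)
    obtain ⟨f', hf'⟩ := exists_lift (K.obj 0) (K.obj 1) b (K.map (homOfLE (Nat.le_succ 0)))
      (hzero 0 (by omega) b)
    let K' : ℕ ⥤ DerivedCategory C := succF ⋙ K ⋙ TStructure.t.truncLT b
    have hK' : K'.map (homOfLE (Nat.zero_le (n + 1))) = 0 := by
      apply ih a K'
      · intro i hi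
        have := hGE (i + 1) (by omega)
        change TStructure.t.IsGE ((TStructure.t.truncLT b).obj (K.obj (i + 1))) a
        infer_instance
      · intro i hi
        change TStructure.t.IsLE ((TStructure.t.truncLT b).obj (K.obj (i + 1))) (a + n)
        exact TStructure.t.isLE_truncLT_obj _ _ _ (by rw [hb]; push_cast; omega)
      · intro i hi q
        change (homologyFunctor C q).map ((TStructure.t.truncLT b).map (K.map _)) = 0
        apply homology_truncLT_map_eq_zero
        intro q'
        exact hzero (i + 1) (by omega) q' 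
    have hK'2 : (TStructure.t.truncLT b).map (K.map (homOfLE (show 1 ≤ n + 1 + 1 by omega))) = 0 := by
      have : K'.map (homOfLE (Nat.zero_le (n + 1))) =
          (TStructure.t.truncLT b).map (K.map (homOfLE (show 1 ≤ n + 1 + 1 by omega))) := by
        change (TStructure.t.truncLT b).map (K.map _) = _
        congr 2
      rw [← this]
      exact hK'
    have hcomp : K.map (homOfLE (Nat.zero_le (n + 1 + 1))) =
        K.map (homOfLE (Nat.le_succ 0)) ≫ K.map (homOfLE (show 1 ≤ n + 1 + 1 by omega)) := by
      rw [← K.map_comp]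
      congr 1
    rw [hcomp, hf', Category.assoc]
    have nat := (TStructure.t.truncLTι b).naturality (K.map (homOfLE (show 1 ≤ n + 1 + 1 by omega)))
    simp only [Functor.id_map] at nat
    rw [← nat, hK'2, zero_comp, comp_zero]

end

open CategoryTheory in
theorem result
    (C : Type u) [Category.{v} C] [Abelian C] [HasDerivedCategory.{w} C]
    (a : ℤ) (n : ℕ) (K : ℕ ⥤ DerivedCategory C)
    (hGE : ∀ i : ℕ, i ≤ n + 1 → (K.obj i).IsGE a)
    (hLE : ∀ i : ℕ, i ≤ n + 1 → (K.obj i).IsLE (a + n))
    (hzero : ∀ i : ℕ, i ≤ n → ∀ q : ℤ,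
      (DerivedCategory.homologyFunctor C q).map (K.map (homOfLE (Nat.le_succ i))) = 0) :
    K.map (homOfLE (Nat.zero_le (n + 1))) = 0 :=
  main n a K hGE hLE hzero

end Groth.Agent.S14100
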