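import Groth.Statements.S14105
import Groth.Agent.H51.FibreStalkBC2

set_option autoImplicit false
universe u
open CategoryTheory CategoryTheory.Limits AlgebraicGeometry Opposite TopologicalSpace
open CInt

namespace Groth.Agent.S14105

/-- Let f : X → S be a morphism and g : S' → S a base change, with X, S, S' and X' = X ×_S S' locally
Noetherian, and let Y be a closed subset of X with preimage Y' under the projection X' → X. Writing
the codimension of a closed subset relative to a morphism as the infimum, over its points, of the
Krull dimension of the local ring of the fibre through that point: the codimension of Y' relative to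
X' → S' is at least the codimension of Y relative to f, and the two are equal when the projection X'
→ X maps Y' onto Y. -/
theorem result {X S S' : Scheme.{u}} (f : X ⟶ S) (g : S' ⟶ S)
    [IsLocallyNoetherian X] [IsLocallyNoetherian S] [IsLocallyNoetherian S']
    [IsLocallyNoetherian (pullback f g)] (Y : Set ↥X) (hY : IsClosed Y) :
    ((⨅ y : Y, ringKrullDim ↑(CInt.fiberStalk f y.1)) ≤
      ⨅ y' : (fun x' => (pullback.fst f g) x') ⁻¹' Y,
        ringKrullDim ↑(CInt.fiberStalk (pullback.snd f g) y'.1)) ∧
    (Y ⊆ Set.range (pullback.fst f g).base →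
      (⨅ y' : (fun x' => (pullback.fst f g) x') ⁻¹' Y,
        ringKrullDim ↑(CInt.fiberStalk (pullback.snd f g) y'.1)) =
        ⨅ y : Y, ringKrullDim ↑(CInt.fiberStalk f y.1)) := by
  have hc : IsPullback (pullback.fst f g) (pullback.snd f g) f g := IsPullback.of_hasPullback f g
  constructor
  · refine le_iInf fun y' => ?_
    refine (iInf_le (fun y : Y => ringKrullDim ↑(CInt.fiberStalk f y.1))
      ⟨(pullback.fst f g) y'.1, y'.2⟩).trans ?_
    exact Groth.Agent.H51.dim_stalk_fibre_le_of_isPullback' f g (pullback.snd f g)
      (pullback.fst f g) hc y'.1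
  · intro hsub
    refine le_antisymm ?_ ?_
    · refine le_iInf fun y => ?_
      obtain ⟨x'₀, hx'₀⟩ := hsub y.2
      have hxy : f y.1 = g ((pullback.snd f g) x'₀) := by
        rw [← hx'₀]
        change f ((pullback.fst f g) x'₀) = _
        rw [← Scheme.Hom.comp_apply, hc.w, Scheme.Hom.comp_apply]
      obtain ⟨x', hx'1, hx'2, hx'3⟩ :=
        Groth.Agent.H51.exists_dim_stalk_fibre_eq_of_isPullback' f g (pullback.snd f g)
          (pullback.fst f g) hc y.1 ((pullback.snd f g) x'₀) hxy
      have hmem : x' ∈ (fun x' => (pullback.fst f g) x') ⁻¹' Y := by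
        change (pullback.fst f g) x' ∈ Y
        rw [hx'1]; exact y.2
      refine (iInf_le (fun y' : (fun x' => (pullback.fst f g) x') ⁻¹' Y =>
        ringKrullDim ↑(CInt.fiberStalk (pullback.snd f g) y'.1)) ⟨x', hmem⟩).trans ?_
      exact hx'3.le
    · refine le_iInf fun y' => ?_
      refine (iInf_le (fun y : Y => ringKrullDim ↑(CInt.fiberStalk f y.1))
        ⟨(pullback.fst f g) y'.1, y'.2⟩).trans ?_
      exact Groth.Agent.H51.dim_stalk_fibre_le_of_isPullback' f g (pullback.snd f g)
        (pullback.fst f g) hc y'.1

end Groth.Agent.S14105
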