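import Groth.Statements.S14106
import Groth.Agent.H51.FibreStalkBC2
import Groth.Agent.H51.SmoothFibreDim
import Groth.Agent.H51.DimIneq
import Groth.Agent.H51.FibreDimTrdeg
import Groth.Agent.H17.ProConsDense
import Groth.Agent.H17.Chev.Main

set_option autoImplicit false
universe u
open CategoryTheory CategoryTheory.Limits AlgebraicGeometry Opposite TopologicalSpace
open CInt

namespace Groth.Agent.S14106

/-- Let S be a locally Noetherian scheme, f : X → S a smooth morphism and i : Y → X a closed immersion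
whose composite with f is smooth. Then the codimension of the image of i relative to f (the infimum
over its points y of the Krull dimension of the local ring at y of the fibre of f through y) equals
its codimension in X (the infimum over the same points of the Krull dimension of O_{X,y}). -/
theorem result {X Y S : Scheme.{u}} [IsLocallyNoetherian X]
    [IsLocallyNoetherian S] (f : X ⟶ S) [Smooth f] (i : Y ⟶ X) [IsClosedImmersion i] [Smooth (i ≫ f)] :
    (⨅ y : Set.range i.base, ringKrullDim ↑(CInt.fiberStalk f y.1)) =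
      ⨅ y : Set.range i.base, ringKrullDim ↑(X.presheaf.stalk y.1) := by
  have hN : IsLocallyNoetherian Y := LocallyOfFiniteType.isLocallyNoetherian (i ≫ f)
  -- pointwise inequality
  have hpt : ∀ y : X, ringKrullDim ↑(CInt.fiberStalk f y) ≤ ringKrullDim ↑(X.presheaf.stalk y) := by
    intro y
    rw [Groth.Agent.H51.ringKrullDim_stalk_eq_add_of_flat f y (Flat.stalkMap f y)]
    have h0 : (0 : WithBot ℕ∞) ≤ ringKrullDim (S.presheaf.stalk (f y)) :=
      ringKrullDim_nonneg_of_nontrivial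
    calc ringKrullDim ↑(CInt.fiberStalk f y) = 0 + ringKrullDim ↑(CInt.fiberStalk f y) :=
          (zero_add _).symm
      _ ≤ _ := by gcongr
  refine le_antisymm (iInf_mono fun y => hpt y.1) ?_
  refine le_iInf fun y => ?_
  obtain ⟨y₀, hy₀⟩ := y.2
  -- maximal generization
  obtain ⟨y'₀, hspec, hmax⟩ := Groth.Agent.H17.exists_maximal_generization y₀
  have hMax : IsMax y'₀ := by
    intro b hb
    have : b ⤳ y'₀ := hb
    rw [hmax b this]
  refine (iInf_le (fun y : Set.range i.base => ringKrullDim ↑(X.presheaf.stalk y.1))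
    ⟨i.base y'₀, y'₀, rfl⟩).trans ?_
  change ringKrullDim ↑(X.presheaf.stalk (i.base y'₀)) ≤ ringKrullDim ↑(CInt.fiberStalk f y.1)
  -- (a) fibre stalk of Y at y'₀ has dim 0
  have ha : ringKrullDim ↑(CInt.fiberStalk (i ≫ f) y'₀) = 0 :=
    Groth.Agent.H51.ringKrullDim_stalk_fiber_eq_zero_of_isMax (i ≫ f) y'₀ hMax
  -- (b) base stalk dim 0
  have hY0 : ringKrullDim ↑(Y.presheaf.stalk y'₀) = 0 := by
    rw [ringKrullDim_stalk_eq_coheight]
    have : Order.coheight y'₀ = 0 := Order.coheight_eq_zero.mpr hMax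
    rw [this]; rfl
  have hb : ringKrullDim ↑(S.presheaf.stalk (f (i y'₀))) = 0 := by
    have h1 := Groth.Agent.H51.ringKrullDim_stalk_eq_add_of_flat (i ≫ f) y'₀
      (Flat.stalkMap (i ≫ f) y'₀)
    rw [hY0] at h1
    change (0 : WithBot ℕ∞) = ringKrullDim ↑(S.presheaf.stalk (f (i y'₀))) + ringKrullDim ↑(CInt.fiberStalk (i ≫ f) y'₀) at h1
    rw [ha, add_zero] at h1
    exact h1.symm
  -- (c)
  have hc : ringKrullDim ↑(X.presheaf.stalk (i.base y'₀)) = ringKrullDim ↑(CInt.fiberStalk f (i.base y'₀)) := by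
    have h1 := Groth.Agent.H51.ringKrullDim_stalk_eq_add_of_flat f (i y'₀) (Flat.stalkMap f (i y'₀))
    rw [hb, zero_add] at h1
    exact h1
  rw [hc]
  -- residue transcendence degrees
  have hsq : (i ≫ f) ≫ 𝟙 S = i ≫ f := Category.comp_id _
  have hR' : Dual3.resTrdeg (i ≫ f) y'₀ = Dual3.resTrdeg f (i y'₀) :=
    Groth.Agent.H51.resTrdeg_eq_of_closedImmersion_square f i (𝟙 S) (i ≫ f) hsq y'₀
  have hR : Dual3.resTrdeg (i ≫ f) y₀ = Dual3.resTrdeg f (i y₀) :=
    Groth.Agent.H51.resTrdeg_eq_of_closedImmersion_square f i (𝟙 S) (i ≫ f) hsq y₀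
  -- local constancy
  have hDf : FlatMor.fibreDimAt f (i y'₀) = FlatMor.fibreDimAt f (i y₀) := by
    obtain ⟨V, n, hxV, hV⟩ := Groth.Agent.H51.exists_open_fibreDimAt_eq_of_smooth f (i y₀)
    have : i y'₀ ∈ V := (hspec.map i.continuous).mem_open V.isOpen hxV
    rw [hV _ this, hV _ hxV]
  have hDY : FlatMor.fibreDimAt (i ≫ f) y'₀ = FlatMor.fibreDimAt (i ≫ f) y₀ := by
    obtain ⟨V, n, hxV, hV⟩ := Groth.Agent.H51.exists_open_fibreDimAt_eq_of_smooth (i ≫ f) y₀
    have : y'₀ ∈ V := hspec.mem_open V.isOpen hxV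
    rw [hV _ this, hV _ hxV]
  -- the four decompositions
  have e1 := Groth.Agent.H51.fibreDimAt_eq_dim_stalk_add_trdeg f (i y'₀)
  have e2 := Groth.Agent.H51.fibreDimAt_eq_dim_stalk_add_trdeg (i ≫ f) y'₀
  have e3 := Groth.Agent.H51.fibreDimAt_eq_dim_stalk_add_trdeg f (i y₀)
  have e4 := Groth.Agent.H51.fibreDimAt_eq_dim_stalk_add_trdeg (i ≫ f) y₀
  change FlatMor.fibreDimAt (i ≫ f) y'₀ = ringKrullDim ↑(CInt.fiberStalk (i ≫ f) y'₀) + _ at e2
  rw [ha, zero_add, hR'] at e2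
  rw [hR] at e4
  obtain ⟨r', hr'⟩ := Groth.Agent.H51.exists_nat_resTrdeg f (i y'₀)
  obtain ⟨r, hr⟩ := Groth.Agent.H51.exists_nat_resTrdeg f (i y₀)
  obtain ⟨dY, hdY⟩ := Groth.Agent.H17.Chev.exists_nat_eq_fibreDimAt (i ≫ f) y₀
  rw [hr'] at e1 e2
  rw [hr] at e3 e4
  rw [hDY, hdY] at e2
  rw [hdY] at e4
  rw [hDf] at e1
  -- e1 : D = E' + r', e2 : dY = r', e3 : D = E + r, e4 : dY = EY + r
  have hr'dY : r' = dY := by exact_mod_cast e2.symm
  have hEY0 : (0 : WithBot ℕ∞) ≤ ringKrullDim ((Scheme.Hom.fiber (i ≫ f) ((i ≫ f) y₀)).presheaf.stalk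
      (Scheme.Hom.asFiber (i ≫ f) y₀)) := ringKrullDim_nonneg_of_nontrivial
  have hrle : r ≤ dY := by
    have : ((r : ℕ) : WithBot ℕ∞) ≤ dY := by
      rw [e4]
      calc ((r : ℕ) : WithBot ℕ∞) = 0 + r := (zero_add _).symm
        _ ≤ _ := by gcongr
    exact_mod_cast this
  have hy : y.1 = i y₀ := hy₀.symm
  rw [hy]
  change ringKrullDim ↑(CInt.fiberStalk f (i y'₀)) ≤ ringKrullDim ↑(CInt.fiberStalk f (i y₀))
  have key : ringKrullDim ↑(CInt.fiberStalk f (i y'₀)) + (r' : WithBot ℕ∞) =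
      ringKrullDim ↑(CInt.fiberStalk f (i y₀)) + (r : WithBot ℕ∞) := e1.symm.trans e3
  rw [hr'dY] at key
  obtain ⟨k, hk⟩ : ∃ k : ℕ, dY = r + k := ⟨dY - r, by omega⟩
  rw [hk] at key
  push_cast at key
  rw [add_comm (r : WithBot ℕ∞) (k : WithBot ℕ∞), ← add_assoc] at key
  have key2 := Groth.Agent.H17.Chev.eq_of_add_natCast_eq_add_natCast key
  rw [← key2]
  calc ringKrullDim ↑(CInt.fiberStalk f (i y'₀)) = ringKrullDim ↑(CInt.fiberStalk f (i y'₀)) + 0 :=
        (add_zero _).symm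
    _ ≤ ringKrullDim ↑(CInt.fiberStalk f (i y'₀)) + (k : WithBot ℕ∞) := by
        gcongr
        exact_mod_cast Nat.zero_le k

end Groth.Agent.S14106
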