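import Groth.Statements.S14109
import Groth.Agent.H49.FibreGeneric

set_option autoImplicit false
universe u
open CategoryTheory CategoryTheory.Limits AlgebraicGeometry Opposite TopologicalSpace
open CInt

namespace Groth.Agent.S14109

/-- Let f : X → S and g : X' → X be morphisms of locally Noetherian schemes with g surjective, Y a
closed subset of X and Y' its preimage under g. Then the codimension of Y' relative to the composite
X' → S (the infimum over y' ∈ Y' of the Krull dimension of the local ring at y' of the fibre of that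
composite through y') is at most the codimension of Y relative to f (the same infimum over y ∈ Y for
the fibres of f). -/
theorem result {X X' S : Scheme.{u}} [IsLocallyNoetherian X]
    [IsLocallyNoetherian X'] [IsLocallyNoetherian S] (f : X ⟶ S) (g : X' ⟶ X) [Surjective g]
    (Y : Set ↥X) (hY : IsClosed Y) :
    (⨅ y' : (fun x' => g x') ⁻¹' Y, ringKrullDim ↑(CInt.fiberStalk (g ≫ f) y'.1)) ≤
      ⨅ y : Y, ringKrullDim ↑(CInt.fiberStalk f y.1) := by
  refine le_iInf fun y => ?_
  obtain ⟨y'', hy''⟩ := g.surjective y.1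
  let z : g.fiber y.1 := (g.fiberHomeo y.1).symm ⟨y'', hy''⟩
  obtain ⟨z', -, hz'⟩ :=
    Groth.Agent.H49.FibreGeneric.exists_specializes_ringKrullDim_stalk_eq_zero (g.fiber y.1) z
  have hgy' : g (g.fiberι y.1 z') = y.1 := (g.range_fiberι y.1).le ⟨z', rfl⟩
  have hmem : g.fiberι y.1 z' ∈ (fun x' => g x') ⁻¹' Y := by
    show g (g.fiberι y.1 z') ∈ Y
    rw [hgy']
    exact y.2
  refine (iInf_le _ ⟨g.fiberι y.1 z', hmem⟩).trans ?_
  have h0 : ringKrullDim (CInt.fiberStalk g (g.fiberι y.1 z')) = 0 := by
    rw [Groth.Agent.H49.FibreDepth.ringKrullDim_fiberStalk_eq,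
      ringKrullDim_eq_of_ringEquiv (Groth.Agent.H49.FibreStalk.quotientEquivStalkFiber g y.1 z')]
    exact hz'
  have h1 := Groth.Agent.H49.FibreGeneric.ringKrullDim_fiberStalk_comp_le g f (g.fiberι y.1 z')
  rw [h0, add_zero] at h1
  refine h1.trans (le_of_eq ?_)
  exact congrArg (fun t => ringKrullDim (CInt.fiberStalk f t)) hgy'

end Groth.Agent.S14109
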