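import Groth.Statements.S14113
import Groth.Agent.H5.KQ.Main
import Groth.Agent.H33.BrownGA.GenSingle

set_option autoImplicit false
universe u
open CategoryTheory CategoryTheory.Limits AlgebraicGeometry Opposite TopologicalSpace
attribute [local instance] HasDerivedCategory.standard
open DCoh

namespace Groth.Agent.S14113

/-- Let X be an affine scheme and E a bounded above cochain complex of finite locally free O_X-modules
(a strictly pseudo-coherent complex). Then E is acyclic if and only if the identity of E is null
homotopic. -/
theorem result {X : Scheme.{u}} [IsAffine X]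
    (E : CochainComplex X.Modules ℤ) (b : ℤ) (hEb : ∀ i : ℤ, b < i → IsZero (E.X i))
    (hE : ∀ i : ℤ, FlatMod.IsFinLocFree (E.X i)) :
    E.Acyclic ↔ Nonempty (Homotopy (𝟙 E) 0) := by
  constructor
  · intro hac
    -- `Q E = 0`
    have hz : IsZero (DerivedCategory.Q.obj E) := by
      refine Groth.Agent.H33.BrownGA.isZero_of_isZero_homology _ (fun n => ?_)
      refine IsZero.of_iso ?_ ((DerivedCategory.homologyFunctorFactors X.Modules n).app E)
      exact (HomologicalComplex.exactAt_iff_isZero_homology E n).1 (hac n)
    have hz' : IsZero ((DerivedCategory.Qh (C := X.Modules)).obj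
        ((HomotopyCategory.quotient X.Modules (ComplexShape.up ℤ)).obj E)) :=
      IsZero.of_iso hz ((DerivedCategory.quotientCompQhIso X.Modules).app E)
    have hinj := (Groth.Agent.H5.KQ.Main.main X E E b hEb hE
      (fun i => Groth.Agent.H5.PerfectPull.isQuasicoherent_of_isFinLocFree _ (hE i))).1
    have h := hinj (a₁ := (HomotopyCategory.quotient X.Modules (ComplexShape.up ℤ)).map (𝟙 E))
      (a₂ := (HomotopyCategory.quotient X.Modules (ComplexShape.up ℤ)).map 0)
      (hz'.eq_of_src _ _)
    exact ⟨HomotopyCategory.homotopyOfEq _ _ h⟩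
  · rintro ⟨ho⟩ i
    rw [HomologicalComplex.exactAt_iff_isZero_homology]
    rw [IsZero.iff_id_eq_zero, ← HomologicalComplex.homologyMap_id, ho.homologyMap_eq i,
      HomologicalComplex.homologyMap_zero]

end Groth.Agent.S14113
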