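import Groth.Statements.S14114
import Groth.Agent.H5.KQ.Main

set_option autoImplicit false
universe u
open CategoryTheory CategoryTheory.Limits AlgebraicGeometry Opposite TopologicalSpace
attribute [local instance] HasDerivedCategory.standard
open DCoh

namespace Groth.Agent.S14114

/-- Let X be an affine scheme, E a bounded above cochain complex of finite locally free O_X-modules, F a
cochain complex of quasi-coherent O_X-modules and G a cochain complex of O_X-modules; let f : E → F
and g : F → G be chain maps such that g is a quasi-isomorphism and the composite of f and g is null
homotopic. Then f is null homotopic. (The published statement only asks the complexes to have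
quasi-coherent cohomology sheaves; that version fails for E = O_X placed in one degree mapping to an
acyclic complex of O_X-modules whose complex of global sections is not exact, with G = 0; the
published statement is placed, without a printed proof, as a consequence of the comparison of
homotopy classes with derived-category morphisms, which holds when F has quasi-coherent terms; this
row takes F with quasi-coherent terms and G arbitrary.) -/
theorem result {X : Scheme.{u}} [IsAffine X]
    (E F G : CochainComplex X.Modules ℤ) (b : ℤ) (hEb : ∀ i : ℤ, b < i → IsZero (E.X i))
    (hE : ∀ i : ℤ, FlatMod.IsFinLocFree (E.X i)) (hF : ∀ i : ℤ, Coh.IsQCoh (F.X i))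
    (f : E ⟶ F) (g : F ⟶ G) [QuasiIso g] (hgf : Nonempty (Homotopy (f ≫ g) 0)) :
    Nonempty (Homotopy f 0) := by
  obtain ⟨ho⟩ := hgf
  let q := HomotopyCategory.quotient X.Modules (ComplexShape.up ℤ)
  have h1 : q.map f ≫ q.map g = 0 := by
    rw [← q.map_comp, HomotopyCategory.eq_of_homotopy _ _ ho, q.map_zero]
  have hiso : IsIso ((DerivedCategory.Qh (C := X.Modules)).map (q.map g)) := by
    have hn := DerivedCategory.quotientCompQhIso_hom_naturality (C := X.Modules) g
    have hQ : IsIso (DerivedCategory.Q.map g) := by
      rw [DerivedCategory.isIso_Q_map_iff_quasiIso]
      infer_instance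
    have h2 : (DerivedCategory.Qh (C := X.Modules)).map (q.map g) =
        (DerivedCategory.quotientCompQhIso X.Modules).hom.app F ≫ DerivedCategory.Q.map g ≫
          (DerivedCategory.quotientCompQhIso X.Modules).inv.app G := by
      rw [← Category.assoc, ← hn, Category.assoc, ← NatTrans.comp_app, Iso.hom_inv_id]
      simp only [NatTrans.id_app, Category.comp_id]
      rfl
    rw [h2]
    infer_instance
  have h3 : (DerivedCategory.Qh (C := X.Modules)).map (q.map f) = 0 := by
    have h4 := congrArg (fun t => (DerivedCategory.Qh (C := X.Modules)).map t) h1
    simp only [Functor.map_comp, Functor.map_zero] at h4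
    exact (cancel_mono ((DerivedCategory.Qh (C := X.Modules)).map (q.map g))).1
      (h4.trans zero_comp.symm)
  have hinj := (Groth.Agent.H5.KQ.Main.main X E F b hEb hE hF).1
  have h := hinj (a₁ := q.map f) (a₂ := q.map 0) (by
    change (DerivedCategory.Qh (C := X.Modules)).map (q.map f) =
      (DerivedCategory.Qh (C := X.Modules)).map (q.map 0)
    rw [h3, q.map_zero, Functor.map_zero])
  exact ⟨HomotopyCategory.homotopyOfEq _ _ h⟩

end Groth.Agent.S14114
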