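import Groth.Statements.S14115
import Mathlib.Tactic

set_option autoImplicit false
universe u v

namespace Groth.Agent.S14115

theorem aux {R : Type u} {S : Type v} [CommRing R] [Ring S]
    [Algebra R S] (n : ℕ) (x : S) : ∀ (y : Fin (n + 1) → S) (r : Fin (n + 1) → R)
    (_ : ∀ i : Fin (n + 1), x * y i + y i * x = algebraMap R S (r i)),
    x * (List.ofFn y).prod + (-1 : S) ^ n * ((List.ofFn y).prod * x) =
      ∑ p : Fin (n + 1), (-1 : S) ^ (p : ℕ) * (r p • (List.ofFn (fun q : Fin n => y (p.succAbove q))).prod) := by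
  induction n with
  | zero =>
    intro y r h
    simp [h 0, Algebra.algebraMap_eq_smul_one]
  | succ n ih =>
    intro y r h
    have ih' := ih (fun i => y i.succ) (fun i => r i.succ) (fun i => h i.succ)
    rw [Fin.sum_univ_succ]
    have h0 := h 0
    rw [List.ofFn_succ, List.prod_cons]
    set Y' := (List.ofFn fun i : Fin (n + 1) => y i.succ).prod with hY'
    have e1 : x * (y 0 * Y') = algebraMap R S (r 0) * Y' - y 0 * (x * Y') := by
      rw [← h0]; noncomm_ring
    have e2 : x * Y' = (∑ p : Fin (n + 1), (-1 : S) ^ (p : ℕ) *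
        ((fun i => r i.succ) p • (List.ofFn (fun q : Fin n => (fun i => y i.succ) (p.succAbove q))).prod))
        - (-1 : S) ^ n * (Y' * x) := by
      rw [← ih']; noncomm_ring
    rw [e1, e2]
    simp only [Fin.val_zero, pow_zero, one_mul, Fin.succAbove_zero, Fin.val_succ]
    have e3 : ∀ p : Fin (n + 1), (List.ofFn fun q : Fin (n + 1) => y (p.succ.succAbove q)).prod
        = y 0 * (List.ofFn fun q : Fin n => y (p.succAbove q).succ).prod := by
      intro p
      rw [List.ofFn_succ, List.prod_cons]
      simp [Fin.succ_succAbove_succ]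
    simp only [e3]
    rw [Algebra.smul_def, mul_sub, Finset.mul_sum]
    have e4 : ∀ p : Fin (n + 1), (-1 : S) ^ ((p : ℕ) + 1) * (r p.succ • (y 0 * (List.ofFn fun q : Fin n => y (p.succAbove q).succ).prod))
        = - (y 0 * ((-1 : S) ^ (p : ℕ) * (r p.succ • (List.ofFn fun q : Fin n => y (p.succAbove q).succ).prod))) := by
      intro p
      have : ∀ (a : S), Commute ((-1 : S) ^ (p : ℕ)) a := fun a => (Commute.neg_one_left a).pow_left _
      calc (-1 : S) ^ ((p : ℕ) + 1) * (r p.succ • (y 0 * (List.ofFn fun q : Fin n => y (p.succAbove q).succ).prod))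
          = -((-1 : S) ^ (p : ℕ) * (r p.succ • (y 0 * (List.ofFn fun q : Fin n => y (p.succAbove q).succ).prod))) := by
            rw [pow_succ]; simp
        _ = -((-1 : S) ^ (p : ℕ) * (y 0 * (r p.succ • (List.ofFn fun q : Fin n => y (p.succAbove q).succ).prod))) := by
            simp only [mul_smul_comm]
        _ = _ := by
            rw [← mul_assoc, (this (y 0)).eq, mul_assoc]
    simp only [e4, Finset.sum_neg_distrib]
    have : ∀ (a : S), Commute ((-1 : S) ^ n) a := fun a => (Commute.neg_one_left a).pow_left _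
    rw [pow_succ]
    have e5 : y 0 * ((-1 : S) ^ n * (Y' * x)) = (-1 : S) ^ n * (y 0 * Y' * x) := by
      rw [← mul_assoc, ← (this (y 0)).eq]; noncomm_ring
    rw [e5]
    noncomm_ring

theorem result {R : Type u} {S : Type v} [CommRing R] [Ring S]
    [Algebra R S] (n : ℕ) (x : S) (y : Fin (n + 1) → S) (r : Fin (n + 1) → R)
    (h : ∀ i : Fin (n + 1), x * y i + y i * x = algebraMap R S (r i)) :
    x * (List.ofFn y).prod + (-1 : S) ^ n * ((List.ofFn y).prod * x) =
      ∑ p : Fin (n + 1), (-1 : S) ^ (p : ℕ) * (r p • (List.ofFn (fun q : Fin n => y (p.succAbove q))).prod) := by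
  exact aux n x y r h

end Groth.Agent.S14115
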