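import Groth.Statements.S14118
import Groth.Agent.H70.SuperTrace

set_option autoImplicit false
universe u v w

namespace Groth.Agent.S14118

open Groth.Agent.H70

theorem result {R : Type u} [CommRing R] {ι : Type v} [Fintype ι] [DecidableEq ι]
    (deg : ι → ℤ) (M : ι → Type w) [∀ i, AddCommGroup (M i)] [∀ i, Module R (M i)]
    [∀ i, Module.Free R (M i)] [∀ i, Module.Finite R (M i)]
    (a b : ℤ) (φ ψ : (Π k, M k) →ₗ[R] (Π k, M k))
    (hφ : ∀ i j : ι, deg j ≠ deg i + a → (LinearMap.proj j) ∘ₗ φ ∘ₗ (LinearMap.single R M i) = 0)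
    (hψ : ∀ i j : ι, deg j ≠ deg i + b → (LinearMap.proj j) ∘ₗ ψ ∘ₗ (LinearMap.single R M i) = 0) :
    LinearMap.trace R (Π k, M k)
      ((∑ i : ι, (LinearMap.single R M i) ∘ₗ (((-1 : R) ^ (deg i).natAbs) • (LinearMap.proj i : (Π k, M k) →ₗ[R] M i))) ∘ₗ (φ ∘ₗ ψ - ((-1 : R) ^ (a * b).natAbs) • (ψ ∘ₗ φ))) = 0 := by
  rw [LinearMap.comp_sub, LinearMap.comp_smul, map_sub, map_smul, sub_eq_zero,
    trace_signed_comp M (fun i => (-1 : R) ^ (deg i).natAbs) (φ ∘ₗ ψ),
    trace_signed_comp M (fun i => (-1 : R) ^ (deg i).natAbs) (ψ ∘ₗ φ)]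
  simp only [trace_block_comp, Finset.mul_sum, Finset.smul_sum]
  rw [Finset.sum_comm]
  apply Finset.sum_congr rfl
  intro j _
  apply Finset.sum_congr rfl
  intro i _
  -- term: (-1)^|deg i| * tr(P_i φ E_j ∘ P_j ψ E_i) vs (-1)^|ab| • ((-1)^|deg j| * tr(P_j ψ E_i ∘ P_i φ E_j))
  rw [LinearMap.trace_comp_comm' ((LinearMap.proj i) ∘ₗ φ ∘ₗ (LinearMap.single R M j))
    ((LinearMap.proj j) ∘ₗ ψ ∘ₗ (LinearMap.single R M i))]
  by_cases h1 : deg i = deg j + a
  · by_cases h2 : deg j = deg i + b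
    · -- signs agree
      have hb : b = -a := by omega
      rw [smul_eq_mul, ← mul_assoc]
      congr 1
      rw [neg_one_pow_natAbs, neg_one_pow_natAbs, neg_one_pow_natAbs]
      subst hb
      have e1 : Even (a * -a) ↔ Even a := by
        rw [Int.even_mul]; simp
      have e2 : Even (deg i) ↔ (Even (deg j) ↔ Even a) := by
        rw [h1, Int.even_add]
      have e1' : Even (a * a) ↔ Even a := by
        rw [Int.even_mul]; simp
      by_cases ha : Even a <;> by_cases hj : Even (deg j) <;> simp [e1', e2, ha, hj]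
    · rw [hψ i j h2]; simp
  · rw [hφ j i h1]; simp

end Groth.Agent.S14118
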