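import Groth.Statements.S14119
import Groth.Agent.H8.CartierProper

set_option autoImplicit false
universe u
open CategoryTheory CategoryTheory.Limits AlgebraicGeometry Opposite TopologicalSpace
open BlowUp

namespace Groth.Agent.S14119

/-- Let X be a locally Noetherian scheme, Y an effective Cartier divisor on X (a quasi-coherent ideal
sheaf which, near every point, is generated on some affine open by one nonzerodivisor; Y is its
support) and Z a closed integral subscheme (a closed immersion i from an integral scheme with
generic point ξ). Assume X irreducible with all local rings catenary (the first of the two printed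
sufficient conditions), and assume that the inverse image ideal sheaf of Y on Z is the ideal of an
effective Cartier divisor on Z. Then Y and Z intersect properly: every point ζ of Y ∩ Z that is
maximal under generization inside Y ∩ Z satisfies dim O_{X,ζ} = codim(Y,X) + codim(Z,X), where
codim(Y,X) is the infimum over y ∈ Y of dim O_{X,y} and codim(Z,X) = dim O_{X,i(ξ)}. (The published
statement also has a second sufficient condition, X biequidimensional, and a fourth equivalent
condition, vanishing of the higher Tor sheaves of O_Y against O_Z; neither is included in this row.) -/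
theorem result {X Z : Scheme.{u}}
    [IsLocallyNoetherian X] [IrreducibleSpace ↥X] (hcat : ∀ x : ↥X, CAlg.IsCatenary ↑(X.presheaf.stalk x))
    (𝓘 : X.IdealSheafData) (hY : BlowUp.IsEffCartierIdeal 𝓘)
    (i : Z ⟶ X) [IsClosedImmersion i] [IsIntegral Z] (hc : BlowUp.IsEffCartierIdeal (𝓘.comap i)) :
    (∀ ζ : ↥X, ζ ∈ (𝓘.support : Set ↥X) ∩ Set.range i.base →
        (∀ ζ' : ↥X, ζ' ∈ (𝓘.support : Set ↥X) ∩ Set.range i.base → ζ' ⤳ ζ → ζ' = ζ) →
        ringKrullDim ↑(X.presheaf.stalk ζ) =
          (⨅ y : (𝓘.support : Set ↥X), ringKrullDim ↑(X.presheaf.stalk y.1)) +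
            ringKrullDim ↑(X.presheaf.stalk (i (genericPoint ↥Z)))) := by
  rintro ζ ⟨hζs, z, rfl⟩ hmax
  have : IsLocallyNoetherian Z := LocallyOfFiniteType.isLocallyNoetherian i
  rw [Groth.Agent.H8.iInf_ringKrullDim_stalk_support 𝓘 hY ⟨_, hζs⟩]
  -- the point `z` is a maximal point of the pulled-back divisor
  have hzs : z ∈ (𝓘.comap i).support := by
    rw [Scheme.IdealSheafData.support_comap]
    exact hζs
  have hzmax : ∀ z' ∈ ((𝓘.comap i).support : Set ↥Z), z' ⤳ z → z' = z := by
    intro z' hz' hsp
    rw [Scheme.IdealSheafData.support_comap] at hz'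
    have h1 := hmax (i z') ⟨hz', z', rfl⟩ (hsp.map i.continuous)
    exact i.isClosedEmbedding.injective h1
  have hdimz := Groth.Agent.H8.ringKrullDim_stalk_eq_one_of_maximal (𝓘.comap i) hc z hzs hzmax
  have hξz : genericPoint ↥Z ⤳ z := genericPoint_specializes z
  have hne : genericPoint ↥Z ≠ z := by
    intro h
    rw [← h] at hdimz
    have h0 : ringKrullDim ↑(Z.presheaf.stalk (genericPoint ↥Z)) = 0 :=
      ringKrullDim_eq_zero_of_field Z.functionField
    rw [h0] at hdimz
    exact zero_ne_one hdimz
  refine Groth.Agent.H8.ringKrullDim_stalk_eq_one_add hcat _ _ (hξz.map i.continuous)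
    (fun h => hne (i.isClosedEmbedding.injective h)) ?_
  intro θ h1 h2
  -- `θ` lies in the closed image of `i`
  have hθ : θ ∈ Set.range i.base :=
    h1.mem_closed i.isClosedEmbedding.isClosed_range ⟨_, rfl⟩
  obtain ⟨t, rfl⟩ := hθ
  have e1 : genericPoint ↥Z ⤳ t := genericPoint_specializes t
  have e2 : t ⤳ z := i.isClosedEmbedding.isInducing.specializes_iff.mp h2
  by_contra hcon
  push Not at hcon
  have h3 := Groth.Agent.H8.two_le_ringKrullDim_stalk_of_chain (genericPoint ↥Z) t z e1 e2
    (fun h => hcon.1 (by rw [h])) (fun h => hcon.2 (by rw [h]))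
  rw [hdimz] at h3
  exact absurd h3 (by norm_num)

end Groth.Agent.S14119
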