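import Groth.Statements.S1412
import Groth.Agent.H10.WeaklyEtaleStalk

set_option autoImplicit false
set_option linter.style.haveILetI false
universe u
open FlatMor

namespace Groth.Agent.S1412

open AlgebraicGeometry CategoryTheory Limits in
/-- A morphism of schemes f : X → Y is weakly étale (flat with flat diagonal) if and only if for every
point x of X the local ring map O_{Y, f(x)} → O_{X, x} is weakly étale, that is, flat and with flat
multiplication map O_{X,x} ⊗_{O_{Y, f(x)}} O_{X,x} → O_{X,x}. -/
theorem result {X Y : Scheme.{u}} (f : X ⟶ Y) :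
    WeaklyEtale f ↔ ∀ x : X, (f.stalkMap x).hom.Flat ∧
      (letI := (f.stalkMap x).hom.toAlgebra
       (Algebra.TensorProduct.lmul' (S := ↑(X.presheaf.stalk x)) (↑(Y.presheaf.stalk (f x)))).toRingHom.Flat) := by
  have key : ∀ {R S : Type u} [CommRing R] [CommRing S] (φ : R →+* S),
      WeaklyEtale (Spec.map (CommRingCat.ofHom φ)) ↔
        (φ.Flat ∧ (letI := φ.toAlgebra
          (Algebra.TensorProduct.lmul' (S := S) R).toRingHom.Flat)) := by
    intro R S _ _ φ
    rw [Groth.Agent.H10.weaklyEtale_SpecMap_iff]
    letI := φ.toAlgebra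
    rw [Algebra.weaklyEtale_iff]
    exact Iff.rfl
  constructor
  · intro hf x
    have h1 := HasRingHomProperty.stalkMap (P := @WeaklyEtale)
      (Q := fun {R S} [CommRing R] [CommRing S] φ => WeaklyEtale (Spec.map (CommRingCat.ofHom φ)))
      (fun {R S} _ _ φ hφ J hJ => by
        haveI := hJ
        rw [Groth.Agent.H10.weaklyEtale_SpecMap_iff] at hφ ⊢
        exact Groth.Agent.H10.weaklyEtale_localRingHom φ hφ J) hf x
    exact (key _).1 h1
  · intro H
    apply HasRingHomProperty.of_stalkMap (P := @WeaklyEtale)
      (Q := fun {R S} [CommRing R] [CommRing S] φ => WeaklyEtale (Spec.map (CommRingCat.ofHom φ)))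
    · intro R S _ _ φ hφ
      rw [Groth.Agent.H10.weaklyEtale_SpecMap_iff]
      apply Groth.Agent.H10.weaklyEtale_of_localRingHom
      intro J hJ
      have := hφ J hJ
      exact (Groth.Agent.H10.weaklyEtale_SpecMap_iff _).1 this
    · intro x
      exact (key _).2 (H x)

end Groth.Agent.S1412
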