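import Groth.Statements.S14122
import Mathlib

set_option autoImplicit false
universe u
open ValCrit

namespace Groth.Agent.S14122

open Module

/-- an element of finite order of `GL_N(K)`, `K` the fraction field of a PID `R`, stabilises an
`R`-lattice, hence is conjugate to an element of `GL_N(R)` -/
theorem core (R : Type u) [CommRing R] [IsDomain R] [IsPrincipalIdealRing R] (K : Type u) [Field K]
    [Algebra R K] [IsFractionRing R K] (N : ℕ) (g : GL (Fin N) K) (hg : IsOfFinOrder g) :
    ∃ (h : GL (Fin N) K) (g' : GL (Fin N) R),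
      h * g * h⁻¹ = Matrix.GeneralLinearGroup.map (algebraMap R K) g' := by
  classical
  obtain ⟨m, hm0, hm⟩ := hg.exists_pow_eq_one
  -- the linear maps
  let φ : (Fin N → K) →ₗ[K] (Fin N → K) := Matrix.toLin' (g : Matrix (Fin N) (Fin N) K)
  let ψ : (Fin N → K) →ₗ[K] (Fin N → K) := Matrix.toLin' ((g⁻¹ : GL (Fin N) K) : Matrix (Fin N) (Fin N) K)
  have hφψ : φ ∘ₗ ψ = LinearMap.id := by
    rw [← Matrix.toLin'_mul, ← Units.val_mul, mul_inv_cancel, Units.val_one, Matrix.toLin'_one]
  have hψφ : ψ ∘ₗ φ = LinearMap.id := by
    rw [← Matrix.toLin'_mul, ← Units.val_mul, inv_mul_cancel, Units.val_one, Matrix.toLin'_one]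
  have hφm : φ ^ m = 1 := by
    have h1 : (g : Matrix (Fin N) (Fin N) K) ^ m = 1 := by
      rw [← Units.val_pow_eq_pow_val, hm, Units.val_one]
    have h2 := congrArg Matrix.toLinAlgEquiv' h1
    rw [map_pow, map_one] at h2
    exact h2
  -- the lattice
  let gen : Fin m × Fin N → (Fin N → K) := fun p => (φ ^ (p.1 : ℕ)) (Pi.single p.2 1)
  let Λ : Submodule R (Fin N → K) := Submodule.span R (Set.range gen)
  have hΛfg : Λ.FG := Submodule.fg_span (Set.finite_range gen)
  -- stability under φ
  have hstab : ∀ v ∈ Λ, φ v ∈ Λ := by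
    intro v hv
    have hle : Λ ≤ Λ.comap (φ.restrictScalars R) := by
      rw [Submodule.span_le]
      rintro _ ⟨⟨i, j⟩, rfl⟩
      change φ ((φ ^ (i : ℕ)) (Pi.single j 1)) ∈ Λ
      rw [← Module.End.mul_apply, ← pow_succ']
      by_cases hi : (i : ℕ) + 1 < m
      · exact Submodule.subset_span ⟨(⟨i + 1, hi⟩, j), rfl⟩
      · have him : (i : ℕ) + 1 = m := by omega
        rw [him, hφm]
        exact Submodule.subset_span ⟨(⟨0, hm0⟩, j), by simp [gen]⟩
    exact hle hv
  have hstabk : ∀ k : ℕ, ∀ v ∈ Λ, (φ ^ k) v ∈ Λ := by
    intro k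
    induction k with
    | zero => intro v hv; simpa using hv
    | succ k ih =>
      intro v hv
      rw [pow_succ', Module.End.mul_apply]
      exact hstab _ (ih v hv)
  have hψeq : ψ = φ ^ (m - 1) := by
    have h1 : φ ^ m = φ * φ ^ (m - 1) := by
      rw [← pow_succ']
      congr 1
      omega
    calc ψ = ψ ∘ₗ (φ ^ m) := by rw [hφm]; rfl
      _ = (ψ ∘ₗ φ) ∘ₗ φ ^ (m - 1) := by rw [h1]; rfl
      _ = φ ^ (m - 1) := by rw [hψφ]; rfl
  have hstabψ : ∀ v ∈ Λ, ψ v ∈ Λ := by
    intro v hv
    rw [hψeq]
    exact hstabk _ v hv
  have hstd : ∀ j : Fin N, (Pi.single j (1 : K) : Fin N → K) ∈ Λ := by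
    intro j
    exact Submodule.subset_span ⟨(⟨0, hm0⟩, j), by simp [gen]⟩
  -- the lattice is free
  haveI : Module.Finite R Λ := Module.Finite.of_fg hΛfg
  haveI : Module.Free R Λ := Module.free_of_finite_type_torsion_free'
  let bΛ := Module.Free.chooseBasis R Λ
  let v : Module.Free.ChooseBasisIndex R Λ → (Fin N → K) := fun i => (bΛ i : Fin N → K)
  have hliR : LinearIndependent R v :=
    bΛ.linearIndependent.map' Λ.subtype (Submodule.ker_subtype _)
  have hliK : LinearIndependent K v := hliR.localization K (nonZeroDivisors R)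
  have hspanR : Submodule.span R (Set.range v) = Λ := by
    have h1 : Set.range v = Λ.subtype '' Set.range bΛ := by
      rw [← Set.range_comp]
      rfl
    rw [h1, ← Submodule.map_span, bΛ.span_eq, Submodule.map_top, Submodule.range_subtype]
  have hspanK : ⊤ ≤ Submodule.span K (Set.range v) := by
    rw [← (Pi.basisFun K (Fin N)).span_eq, Submodule.span_le]
    rintro _ ⟨j, rfl⟩
    have h1 : (Pi.single j (1 : K) : Fin N → K) ∈ Submodule.span R (Set.range v) := by
      rw [hspanR]
      exact hstd j
    rw [Pi.basisFun_apply]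
    exact Submodule.span_le_restrictScalars R K _ h1
  let B₀ : Basis (Module.Free.ChooseBasisIndex R Λ) K (Fin N → K) := Basis.mk hliK hspanK
  have hcard : Fintype.card (Module.Free.ChooseBasisIndex R Λ) = N := by
    rw [← Module.finrank_eq_card_basis B₀, Module.finrank_fin_fun]
  let B : Basis (Fin N) K (Fin N → K) := B₀.reindex (Fintype.equivFinOfCardEq hcard)
  have hBspan : Submodule.span R (Set.range B) = Λ := by
    rw [Basis.range_reindex, Basis.coe_mk, hspanR]
  -- matrices with integral entries
  have hB_mem : ∀ j, B j ∈ Λ := by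
    intro j
    rw [← hBspan]
    exact Submodule.subset_span ⟨j, rfl⟩
  have hentφ : ∀ i j, ∃ c : R, algebraMap R K c = LinearMap.toMatrix B B φ i j := by
    intro i j
    rw [LinearMap.toMatrix_apply]
    have h1 : φ (B j) ∈ Submodule.span R (Set.range B) := by
      rw [hBspan]
      exact hstab _ (hB_mem j)
    exact (B.mem_span_iff_repr_mem R _).mp h1 i
  have hentψ : ∀ i j, ∃ c : R, algebraMap R K c = LinearMap.toMatrix B B ψ i j := by
    intro i j
    rw [LinearMap.toMatrix_apply]
    have h1 : ψ (B j) ∈ Submodule.span R (Set.range B) := by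
      rw [hBspan]
      exact hstabψ _ (hB_mem j)
    exact (B.mem_span_iff_repr_mem R _).mp h1 i
  choose C hC using hentφ
  choose C' hC' using hentψ
  have hCmap : (Matrix.of C).map (algebraMap R K) = LinearMap.toMatrix B B φ := by
    ext i j
    exact hC i j
  have hC'map : (Matrix.of C').map (algebraMap R K) = LinearMap.toMatrix B B ψ := by
    ext i j
    exact hC' i j
  have hinj : Function.Injective (fun M : Matrix (Fin N) (Fin N) R => M.map (algebraMap R K)) :=
    Matrix.map_injective (IsFractionRing.injective R K)
  have hCC' : Matrix.of C * Matrix.of C' = 1 := by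
    apply hinj
    change (Matrix.of C * Matrix.of C').map (algebraMap R K) = (1 : Matrix _ _ R).map (algebraMap R K)
    rw [Matrix.map_mul, hCmap, hC'map, ← LinearMap.toMatrix_comp, hφψ, LinearMap.toMatrix_id,
      Matrix.map_one _ (map_zero _) (map_one _)]
  have hC'C : Matrix.of C' * Matrix.of C = 1 := by
    apply hinj
    change (Matrix.of C' * Matrix.of C).map (algebraMap R K) = (1 : Matrix _ _ R).map (algebraMap R K)
    rw [Matrix.map_mul, hCmap, hC'map, ← LinearMap.toMatrix_comp, hψφ, LinearMap.toMatrix_id,
      Matrix.map_one _ (map_zero _) (map_one _)]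
  let g' : GL (Fin N) R := ⟨Matrix.of C, Matrix.of C', hCC', hC'C⟩
  -- the change of basis
  let e := Pi.basisFun K (Fin N)
  let h : GL (Fin N) K := ⟨B.toMatrix e, e.toMatrix B, Basis.toMatrix_mul_toMatrix_flip B e,
    Basis.toMatrix_mul_toMatrix_flip e B⟩
  refine ⟨h, g', ?_⟩
  apply Units.ext
  change B.toMatrix e * (g : Matrix (Fin N) (Fin N) K) * e.toMatrix B =
    (Matrix.of C).map (algebraMap R K)
  rw [hCmap]
  have h1 : (g : Matrix (Fin N) (Fin N) K) = LinearMap.toMatrix e e φ := by
    rw [LinearMap.toMatrix_eq_toMatrix', LinearMap.toMatrix'_toLin']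
  rw [h1, basis_toMatrix_mul_linearMap_toMatrix_mul_basis_toMatrix]

/-- Let `R` be a discrete valuation ring with fraction field `K` and `g ∈ GL_N(K)` an element of finite
order. Then after passing to a finite extension `K'` of `K` and a discrete valuation ring `R'` of
`K'` dominating `R`, the element `g` becomes conjugate in `GL_N(K')` to an element of `GL_N(R')`.
(The published statement is that the classifying stack of `GL_N` over the integers satisfies a
valuative condition, for discrete valuation rings essentially of finite type over the integers, on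
extending finite-order generic automorphisms along nearby modifications; since vector bundles over a
discrete valuation ring are trivial, that condition is this conjugacy statement for such rings, and
this row states it for every discrete valuation ring, as the printed argument gives.) -/
theorem result
    (R : Type u) [CommRing R] [IsDomain R] [IsDiscreteValuationRing R]
    (K : Type u) [Field K] [Algebra R K] [IsFractionRing R K]
    (N : ℕ) (g : GL (Fin N) K) (hg : IsOfFinOrder g) :
    ∃ (R' : Type u) (_ : CommRing R') (_ : IsDomain R') (_ : IsDiscreteValuationRing R')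
      (K' : Type u) (_ : Field K') (_ : Algebra R' K') (_ : IsFractionRing R' K')
      (_ : Algebra R R') (_ : Algebra K K') (_ : Algebra R K')
      (_ : IsScalarTower R R' K') (_ : IsScalarTower R K K')
      (_ : Module.Finite K K') (_ : IsLocalHom (algebraMap R R'))
      (h : GL (Fin N) K') (g' : GL (Fin N) R'),
      h * Matrix.GeneralLinearGroup.map (algebraMap K K') g * h⁻¹ =
        Matrix.GeneralLinearGroup.map (algebraMap R' K') g' := by
  obtain ⟨h, g', hh⟩ := core R K N g hg
  refine ⟨R, inferInstance, inferInstance, inferInstance, K, inferInstance, inferInstance,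
    inferInstance, Algebra.id R, Algebra.id K, inferInstance, ?_, ?_, ?_, ?_, h, g', ?_⟩
  · exact IsScalarTower.left R
  · exact IsScalarTower.right
  · exact Module.Finite.self K
  · exact isLocalHom_id R
  · rw [← hh]
    congr 2

end Groth.Agent.S14122
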