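import Groth.Statements.S14175
import Mathlib

set_option autoImplicit false
universe u v w
open GalCoh

namespace Groth.Agent.S14175

section
variable {k : Type u} {G : Type v} {V : Type w} [CommRing k] [Group G]
    [AddCommGroup V] [Module k V] (ρ : Representation k G V) (t : G)

/-- partial norm sums -/
def sig (i : ℕ) (v : V) : V := ∑ l ∈ Finset.range i, ρ (t ^ l) v

lemma sig_add (i j : ℕ) (v : V) : sig ρ t (i + j) v = sig ρ t i v + ρ (t ^ i) (sig ρ t j v) := by
  unfold sig
  rw [Finset.sum_range_add, map_sum]
  congr 1
  refine Finset.sum_congr rfl fun l _ => ?_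
  rw [pow_add, map_mul, Module.End.mul_apply]

lemma sig_mul_of_triv (c : ℕ) (hc : ∀ v : V, ρ (t ^ c) v = v) (j : ℕ) (v : V) :
    sig ρ t (j * c) v = j • sig ρ t c v := by
  induction j with
  | zero => simp [sig]
  | succ j ih =>
    have h1 : ρ (t ^ (j * c)) (sig ρ t c v) = sig ρ t c v := by
      rw [mul_comm, pow_mul]
      have : ∀ (j : ℕ) (w : V), ρ ((t ^ c) ^ j) w = w := by
        intro j
        induction j with
        | zero => intro w; simp
        | succ j ih => intro w; rw [pow_succ, map_mul, Module.End.mul_apply, hc, ih]
      exact this j _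
    rw [Nat.succ_mul, sig_add, ih, h1, succ_nsmul]

lemma exists_sub_eq (i : ℕ) (x : V) : ∃ y : V, ρ (t ^ i) x - x = ρ t y - y := by
  induction i with
  | zero => exact ⟨0, by simp⟩
  | succ i ih =>
    obtain ⟨y, hy⟩ := ih
    refine ⟨ρ t y + x, ?_⟩
    have h1 : ρ (t ^ (i + 1)) x = ρ t (ρ (t ^ i) x) := by
      rw [pow_succ', map_mul, Module.End.mul_apply]
    have h2 : ρ (t ^ i) x = ρ t y - y + x := by rw [← hy]; abel
    rw [h1, h2]
    simp only [map_add, map_sub]
    abel

end


/-- Let G be a finite cyclic group generated by t, let m be a natural number dividing the order of G,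
and let ρ be a linear representation of G on a module V over a commutative ring k such that m·V = 0
and every element of G whose m-th power is the identity acts trivially on V. Then evaluating a
crossed homomorphism at t induces a bijection from the first cohomology of G with values in V
(crossed homomorphisms f, i.e. f(gh) = ρ(g)f(h) + f(g), modulo the principal ones g ↦ ρ(g)x − x)
onto the coinvariants V_G (the quotient of V by the span of all ρ(g)v − v): the class of f(t) in V_G
vanishes exactly when f is principal, and every class of V_G is the class of f(t) for some crossed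
homomorphism f. The bijection depends on the choice of the generator t. -/
theorem result
    {k : Type u} {G : Type v} {V : Type w} [CommRing k] [Group G] [Finite G]
    [AddCommGroup V] [Module k V] (ρ : Representation k G V)
    (t : G) (ht : ∀ g : G, g ∈ Subgroup.zpowers t)
    (m : ℕ) (hm : m ∣ Nat.card G) (htors : ∀ v : V, m • v = 0)
    (htriv : ∀ g : G, g ^ m = 1 → ∀ v : V, ρ g v = v) :
    (∀ f : G → V, (∀ g h : G, f (g * h) = ρ g (f h) + f g) →
        (Representation.Coinvariants.mk ρ (f t) = 0 ↔ ∃ x : V, ∀ g : G, f g = ρ g x - x)) ∧
    (∀ v : V, ∃ f : G → V, (∀ g h : G, f (g * h) = ρ g (f h) + f g) ∧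
        Representation.Coinvariants.mk ρ (f t) = Representation.Coinvariants.mk ρ v) := by
  have hpow : ∀ g : G, ∃ i : ℕ, t ^ i = g := by
    intro g
    have h1 := ht g
    rw [← (isOfFinOrder_of_finite t).mem_powers_iff_mem_zpowers] at h1
    exact h1
  have hN : orderOf t = Nat.card G := orderOf_eq_card_of_forall_mem_zpowers ht
  constructor
  · intro f hf
    constructor
    · intro h0
      rw [Representation.Coinvariants.mk_eq_zero] at h0
      have hle : Representation.Coinvariants.ker ρ ≤ LinearMap.range (ρ t - 1) := by
        unfold Representation.Coinvariants.ker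
        rw [Submodule.span_le]
        rintro _ ⟨⟨g, x⟩, rfl⟩
        obtain ⟨i, rfl⟩ := hpow g
        obtain ⟨y, hy⟩ := exists_sub_eq ρ t i x
        exact ⟨y, by simpa using hy.symm⟩
      obtain ⟨x, hx⟩ := hle h0
      have hx' : f t = ρ t x - x := by simpa using hx.symm
      refine ⟨x, ?_⟩
      have hf1 : f 1 = 0 := by
        have := hf 1 1
        simpa using this
      have key : ∀ i : ℕ, f (t ^ i) = ρ (t ^ i) x - x := by
        intro i
        induction i with
        | zero => simp [hf1]
        | succ i ih =>
          rw [pow_succ', hf, ih, hx', map_mul, Module.End.mul_apply]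
          simp only [map_sub]
          abel
      intro g
      obtain ⟨i, rfl⟩ := hpow g
      exact key i
    · rintro ⟨x, hx⟩
      rw [hx t, Representation.Coinvariants.mk_eq_zero]
      exact Representation.Coinvariants.sub_mem_ker t x
  · intro v
    -- N = m * c
    obtain ⟨c, hc⟩ := hm
    have hct : ∀ w : V, ρ (t ^ c) w = w := by
      apply htriv
      rw [← pow_mul, mul_comm, ← hc, ← hN, pow_orderOf_eq_one]
    have hsN : ∀ w : V, sig ρ t (orderOf t) w = 0 := by
      intro w
      rw [hN, hc, sig_mul_of_triv ρ t c hct, htors]
    have hper : Function.Periodic (fun i => sig ρ t i v) (orderOf t) := by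
      intro i
      show sig ρ t (i + orderOf t) v = sig ρ t i v
      rw [sig_add, hsN, map_zero, add_zero]
    have hwd : ∀ i j : ℕ, t ^ i = t ^ j → sig ρ t i v = sig ρ t j v := by
      intro i j hij
      have h1 : i ≡ j [MOD orderOf t] := pow_eq_pow_iff_modEq.mp hij
      have h2 := hper.map_mod_nat i
      have h3 := hper.map_mod_nat j
      rw [← h2, ← h3, h1]
    let f : G → V := fun g => sig ρ t (Classical.choose (hpow g)) v
    have hfi : ∀ i : ℕ, f (t ^ i) = sig ρ t i v := by
      intro i
      exact hwd _ _ (Classical.choose_spec (hpow (t ^ i)))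
    refine ⟨f, ?_, ?_⟩
    · intro g h
      obtain ⟨i, rfl⟩ := hpow g
      obtain ⟨j, rfl⟩ := hpow h
      rw [← pow_add, hfi, hfi, hfi, sig_add, add_comm]
    · have : f t = v := by
        have := hfi 1
        rw [pow_one] at this
        rw [this]
        simp [sig]
      rw [this]

end Groth.Agent.S14175
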