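import Groth.Statements.S14176
import Mathlib

set_option autoImplicit false
set_option linter.unusedSectionVars false
universe u
open Pi1

namespace Groth.Agent.S14176

open W4c1etcurveeff2
open scoped commutatorElement

section zmod
variable (n : ℕ) [NeZero n]

lemma Z_pow_eq_one (x : Multiplicative (ZMod n)) : x ^ n = 1 := by
  have : (n : ℕ) • (Multiplicative.toAdd x) = 0 := by
    rw [nsmul_eq_mul, ZMod.natCast_self, zero_mul]
  exact congrArg Multiplicative.ofAdd this

instance Z_hasEnough : HasEnoughRootsOfUnity (Multiplicative (ZMod n)) n where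
  prim := ⟨Multiplicative.ofAdd 1, by
    have h := IsPrimitiveRoot.orderOf (Multiplicative.ofAdd (1 : ZMod n))
    rwa [orderOf_ofAdd_eq_addOrderOf, ZMod.addOrderOf_one] at h⟩
  cyc := by
    have : IsCyclic (Multiplicative (ZMod n))ˣ :=
      isCyclic_of_surjective (toUnits : Multiplicative (ZMod n) ≃* _) (toUnits.surjective)
    infer_instance

variable {n}
variable {A : Type*} [CommGroup A] [Finite A]

lemma hasEnough_of_pow (hA : ∀ a : A, a ^ n = 1) :
    HasEnoughRootsOfUnity (Multiplicative (ZMod n)) (Monoid.exponent A) :=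
  HasEnoughRootsOfUnity.of_dvd _ (Monoid.exponent_dvd_of_forall_pow_eq_one hA)

lemma exists_char_ne_one (hA : ∀ a : A, a ^ n = 1) {a : A} (ha : a ≠ 1) :
    ∃ ψ : A →* Multiplicative (ZMod n), ψ a ≠ 1 := by
  have := hasEnough_of_pow hA
  obtain ⟨φ, hφ⟩ := CommGroup.exists_apply_ne_one_of_hasEnoughRootsOfUnity A
    (Multiplicative (ZMod n)) ha
  refine ⟨(toUnits (G := Multiplicative (ZMod n))).symm.toMonoidHom.comp φ, ?_⟩
  intro h
  apply hφ
  have h2 : (toUnits (G := Multiplicative (ZMod n))).symm (φ a) = 1 := h
  rwa [MulEquiv.map_eq_one_iff] at h2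

lemma card_char (hA : ∀ a : A, a ^ n = 1) :
    Nat.card (A →* Multiplicative (ZMod n)) = Nat.card A := by
  have := hasEnough_of_pow hA
  rw [← CommGroup.card_monoidHom_of_hasEnoughRootsOfUnity A (Multiplicative (ZMod n))]
  exact Nat.card_congr
    ((toUnits (G := Multiplicative (ZMod n))).monoidHomCongrRight (M := A)).toEquiv

end zmod

section top
variable {G : Type u} [Group G] [TopologicalSpace G] [IsTopologicalGroup G] (n : ℕ)

lemma normal_of_commutator_le (H : Subgroup G) (h : commutator G ≤ H) : H.Normal :=
  ⟨fun x hx g => by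
    have : g * x * g⁻¹ = ⁅g, x⁆ * x := by simp [commutatorElement_def]
    rw [this]
    exact H.mul_mem
      (h (Subgroup.commutator_mem_commutator (Subgroup.mem_top g) (Subgroup.mem_top x))) hx⟩

lemma T0_le {H : Subgroup G} (hpow : ∀ g : G, g ^ n ∈ H) (hcomm : ∀ a b : G, ⁅a, b⁆ ∈ H) :
    Subgroup.closure (Set.range fun g : G => g ^ n) ⊔ commutator G ≤ H := by
  refine sup_le ?_ ?_
  · rw [Subgroup.closure_le]; rintro _ ⟨g, rfl⟩; exact hpow g
  · rw [commutator_def, Subgroup.commutator_le]; intro a _ b _; exact hcomm a b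

lemma pcc_le {H : Subgroup G} (hc : IsClosed (H : Set G)) (hpow : ∀ g : G, g ^ n ∈ H)
    (hcomm : ∀ a b : G, ⁅a, b⁆ ∈ H) : powCommClosure G n ≤ H :=
  Subgroup.topologicalClosure_minimal _ (T0_le n hpow hcomm) hc

lemma pow_mem_pcc (g : G) : g ^ n ∈ powCommClosure G n :=
  Subgroup.le_topologicalClosure _
    ((le_sup_left : _ ≤ Subgroup.closure (Set.range fun g : G => g ^ n) ⊔ commutator G)
      (Subgroup.subset_closure ⟨g, rfl⟩))

lemma comm_le_pcc : commutator G ≤ powCommClosure G n :=
  le_trans le_sup_right (Subgroup.le_topologicalClosure _)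

lemma comm_mem_pcc (a b : G) : ⁅a, b⁆ ∈ powCommClosure G n :=
  comm_le_pcc n (Subgroup.commutator_mem_commutator (Subgroup.mem_top a) (Subgroup.mem_top b))

lemma isClosed_pcc : IsClosed (powCommClosure G n : Set G) :=
  Subgroup.isClosed_topologicalClosure _

instance pcc_normal : (powCommClosure G n).Normal :=
  normal_of_commutator_le _ (comm_le_pcc n)

instance pcc_commGroup : CommGroup (G ⧸ powCommClosure G n) :=
  { QuotientGroup.Quotient.group (powCommClosure G n) with
    mul_comm := fun a b =>
      (Subgroup.Normal.quotient_commutative_iff_commutator_le.mpr (comm_le_pcc n)).is_comm.comm a b }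

lemma quot_pow_eq_one (x : G ⧸ powCommClosure G n) : x ^ n = 1 := by
  obtain ⟨g, rfl⟩ := QuotientGroup.mk_surjective x
  rw [← QuotientGroup.mk_pow, QuotientGroup.eq_one_iff]
  exact pow_mem_pcc n g

lemma finite_quot [NeZero n] (s : Finset G)
    (hs : Dense ((Subgroup.closure (s : Set G) : Subgroup G) : Set G)) :
    Finite (G ⧸ powCommClosure G n) := by
  classical
  have hcl : IsClosed (powCommClosure G n : Set G) := isClosed_pcc n
  let Q₀ : Subgroup (G ⧸ powCommClosure G n) :=
    (Subgroup.closure (s : Set G)).map (QuotientGroup.mk' (powCommClosure G n))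
  have hfg : Group.FG Q₀ := by
    rw [Group.fg_iff_subgroup_fg]
    refine ⟨s.image (QuotientGroup.mk' (powCommClosure G n)), ?_⟩
    rw [Finset.coe_image, ← MonoidHom.map_closure]
  have htors : IsMulTorsion Q₀ := fun x =>
    isOfFinOrder_iff_pow_eq_one.mpr ⟨n, Nat.pos_of_ne_zero (NeZero.ne n),
      Subtype.ext (quot_pow_eq_one n x.1)⟩
  have hfin : Finite Q₀ := CommGroup.finite_of_fg_isMulTorsion Q₀ htors
  have hF : (Q₀ : Set (G ⧸ powCommClosure G n)).Finite := Set.toFinite _
  have hclF : IsClosed ((QuotientGroup.mk : G → G ⧸ powCommClosure G n) ⁻¹' (Q₀ : Set _)) :=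
    hF.isClosed.preimage QuotientGroup.continuous_mk
  have hsub : ((Subgroup.closure (s : Set G) : Subgroup G) : Set G) ⊆
      (QuotientGroup.mk : G → G ⧸ powCommClosure G n) ⁻¹' (Q₀ : Set _) :=
    fun g hg => Subgroup.mem_map_of_mem _ hg
  have huniv : ∀ g : G, (QuotientGroup.mk g : G ⧸ powCommClosure G n) ∈ Q₀ := by
    intro g
    have h1 := (hclF.closure_subset_iff.mpr hsub)
    rw [hs.closure_eq] at h1
    exact h1 (Set.mem_univ g)
  refine Set.finite_univ_iff.mp (hF.subset fun x _ => ?_)
  obtain ⟨g, rfl⟩ := QuotientGroup.mk_surjective x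
  exact huniv g

lemma isOpen_pcc [NeZero n] (s : Finset G)
    (hs : Dense ((Subgroup.closure (s : Set G) : Subgroup G) : Set G)) :
    IsOpen (powCommClosure G n : Set G) := by
  have := finite_quot n s hs
  have : (powCommClosure G n).FiniteIndex := Subgroup.finiteIndex_of_finite_quotient
  exact Subgroup.isOpen_of_isClosed_of_finiteIndex _ (isClosed_pcc n)

end top

section main
variable {G : Type u} [Group G] [TopologicalSpace G] [IsTopologicalGroup G] (n : ℕ) [NeZero n]

local notation "Z" => Multiplicative (ZMod n)

lemma pcc_le_ker (χ : G →* Z) (hχ : IsOpen ((χ.ker : Subgroup G) : Set G)) :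
    powCommClosure G n ≤ χ.ker := by
  refine pcc_le n (Subgroup.isClosed_of_isOpen _ hχ) (fun g => ?_) (fun a b => ?_)
  · rw [MonoidHom.mem_ker, map_pow]; exact Z_pow_eq_one n _
  · rw [MonoidHom.mem_ker, map_commutatorElement, commutatorElement_eq_one_iff_commute]
    exact Commute.all _ _

lemma mem_pcc_iff (s : Finset G)
    (hs : Dense ((Subgroup.closure (s : Set G) : Subgroup G) : Set G)) (g : G) :
    g ∈ powCommClosure G n ↔
      ∀ χ : G →* Z, IsOpen ((χ.ker : Subgroup G) : Set G) → χ g = 1 := by
  constructor
  · intro hg χ hχ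
    exact pcc_le_ker n χ hχ hg
  · intro h
    by_contra hg
    have hfin := finite_quot n s hs
    have hne : (QuotientGroup.mk g : G ⧸ powCommClosure G n) ≠ 1 := by
      rwa [Ne, QuotientGroup.eq_one_iff]
    obtain ⟨ψ, hψ⟩ := exists_char_ne_one (n := n) (quot_pow_eq_one n) hne
    apply hψ
    have := h (ψ.comp (QuotientGroup.mk' (powCommClosure G n))) ?_
    · exact this
    · refine Subgroup.isOpen_mono (H₁ := powCommClosure G n) ?_ (isOpen_pcc n s hs)
      intro x hx
      rw [MonoidHom.mem_ker, MonoidHom.comp_apply, QuotientGroup.mk'_apply,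
        (QuotientGroup.eq_one_iff x).mpr hx, map_one]

/-- evaluation hom `G →* (D →* Z)`. -/
def evG : G →* (ContChar G n →* Z) where
  toFun g :=
    { toFun := fun χ => (χ.1 : G →* Z) g
      map_one' := rfl
      map_mul' := fun _ _ => rfl }
  map_one' := by ext χ; simp
  map_mul' a b := by ext χ; simp

lemma evG_ker (s : Finset G)
    (hs : Dense ((Subgroup.closure (s : Set G) : Subgroup G) : Set G)) :
    (evG (G := G) n).ker = powCommClosure G n := by
  ext g
  rw [mem_pcc_iff n s hs, MonoidHom.mem_ker]
  constructor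
  · intro h χ hχ
    have := DFunLike.congr_fun h ⟨χ, hχ⟩
    exact this
  · intro h
    ext χ
    exact congrArg _ (h χ.1 χ.2)

/-- restriction of characters. -/
def rho (χ : ContChar G n) : (G ⧸ powCommClosure G n) →* Z :=
  QuotientGroup.lift (powCommClosure G n) χ.1 (fun _ hx => pcc_le_ker n χ.1 χ.2 hx)

lemma rho_bij (s : Finset G)
    (hs : Dense ((Subgroup.closure (s : Set G) : Subgroup G) : Set G)) :
    Function.Bijective (rho (G := G) n) := by
  constructor
  · intro χ₁ χ₂ h
    apply Subtype.ext
    ext g
    have := DFunLike.congr_fun h (QuotientGroup.mk g)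
    exact this
  · intro ψ
    refine ⟨⟨ψ.comp (QuotientGroup.mk' (powCommClosure G n)), ?_⟩, ?_⟩
    · refine Subgroup.isOpen_mono (H₁ := powCommClosure G n) ?_ (isOpen_pcc n s hs)
      intro x hx
      rw [MonoidHom.mem_ker, MonoidHom.comp_apply, QuotientGroup.mk'_apply,
        (QuotientGroup.eq_one_iff x).mpr hx, map_one]
    · ext x
      rfl

lemma contChar_pow (χ : ContChar G n) : χ ^ n = 1 := by
  apply Subtype.ext
  ext g
  show ((χ.1 ^ n : G →* Z) g) = 1
  rw [MonoidHom.pow_apply]
  exact Z_pow_eq_one n _

lemma dual_pow {A : Type*} [CommGroup A] (F : A →* Z) : F ^ n = 1 := by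
  ext a
  rw [MonoidHom.pow_apply]
  exact Z_pow_eq_one n _

lemma card_facts (s : Finset G)
    (hs : Dense ((Subgroup.closure (s : Set G) : Subgroup G) : Set G)) :
    Finite (ContChar G n →* Z) ∧
      Nat.card (ContChar G n →* Z) = Nat.card (G ⧸ powCommClosure G n) := by
  have hfin := finite_quot n s hs
  have hfin2 : Finite ((G ⧸ powCommClosure G n) →* Z) :=
    Finite.of_injective _ DFunLike.coe_injective
  have hfinD : Finite (ContChar G n) := Finite.of_injective _ (rho_bij n s hs).1
  have hcardD : Nat.card (ContChar G n) = Nat.card (G ⧸ powCommClosure G n) := by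
    rw [Nat.card_congr (Equiv.ofBijective _ (rho_bij n s hs)),
      card_char (n := n) (quot_pow_eq_one n)]
  refine ⟨Finite.of_injective _ DFunLike.coe_injective, ?_⟩
  rw [card_char (n := n) (contChar_pow n), hcardD]

end main


open W4c1etcurveeff2 in
/-- Let G be a topological group in which some finite subset generates a dense subgroup, let n ≥ 1, and
let S be the closure of the subgroup generated by all n-th powers and all commutators. Write D for
the group of continuous homomorphisms from G to the discrete cyclic group ℤ/n, that is,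
homomorphisms with open kernel (the first cohomology of G with coefficients in the trivial module
ℤ/n), and D^∨ for its ℤ/n-dual, the group of homomorphisms D → ℤ/n. Then: S is carried onto itself
by every group automorphism of G that is a homeomorphism; an element g of G lies in S exactly when
every element of D kills g, and every element of D^∨ is evaluation at some element of G, so that
evaluation identifies G/S with D^∨; and S is the only closed normal subgroup H of G with G/H
isomorphic to D^∨. (The published statement is for a topologically finitely generated group, calls S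
characteristic and does not restrict the competing subgroups H; this row asks the automorphisms to
be homeomorphisms and H to be closed, which is what the argument uses: for the integers with the
p-adic topology times a cyclic group of prime order q ≠ p, the subgroup qℤ × ℤ/q is normal, not
closed, and has quotient isomorphic to D^∨ ≅ ℤ/q, while S = ℤ × 0.) -/
theorem result
    {G : Type u} [Group G] [TopologicalSpace G] [IsTopologicalGroup G]
    (s : Finset G) (hs : Dense ((Subgroup.closure (s : Set G) : Subgroup G) : Set G))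
    (n : ℕ) [NeZero n] (S : Subgroup G) (hS : S = powCommClosure G n) :
    (∀ φ : G ≃* G, Continuous φ → Continuous φ.symm → S.map φ.toMonoidHom = S) ∧
    (∀ g : G, g ∈ S ↔
        ∀ χ : G →* Multiplicative (ZMod n), IsOpen ((χ.ker : Subgroup G) : Set G) → χ g = 1) ∧
    (∀ F : ContChar G n →* Multiplicative (ZMod n), ∃ g : G,
        ∀ χ : ContChar G n, F χ = (χ.1 : G →* Multiplicative (ZMod n)) g) ∧
    (∀ (H : Subgroup G) [H.Normal], IsClosed (H : Set G) →
        Nonempty (G ⧸ H ≃* (ContChar G n →* Multiplicative (ZMod n))) → H = S) := by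
  subst hS
  have hfinQ := finite_quot n s hs
  obtain ⟨hfinDD, hcard⟩ := card_facts n s hs
  -- the key inclusion for continuous endomorphisms
  have key : ∀ ψ : G →* G, Continuous ψ → (powCommClosure G n).map ψ ≤ powCommClosure G n := by
    intro ψ hψ
    rw [Subgroup.map_le_iff_le_comap]
    refine pcc_le n ((isClosed_pcc n).preimage hψ) (fun g => ?_) (fun a b => ?_)
    · rw [Subgroup.mem_comap, map_pow]; exact pow_mem_pcc n _
    · rw [Subgroup.mem_comap, map_commutatorElement]; exact comm_mem_pcc n _ _
  refine ⟨?_, mem_pcc_iff n s hs, ?_, ?_⟩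
  · intro φ hφ hφ'
    refine le_antisymm (key φ.toMonoidHom hφ) ?_
    intro x hx
    refine ⟨φ.symm x, key φ.symm.toMonoidHom hφ' ⟨x, hx, rfl⟩, ?_⟩
    exact φ.apply_symm_apply x
  · -- surjectivity of evaluation
    intro F
    let ev' : (G ⧸ powCommClosure G n) →* (ContChar G n →* Multiplicative (ZMod n)) :=
      QuotientGroup.lift (powCommClosure G n) (evG n)
        (fun x hx => by rw [← evG_ker n s hs] at hx; exact hx)
    have hinj : Function.Injective ev' := by
      rw [injective_iff_map_eq_one]
      intro x hx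
      obtain ⟨g, rfl⟩ := QuotientGroup.mk_surjective x
      rw [QuotientGroup.eq_one_iff, ← evG_ker n s hs]
      exact hx
    have hbij : Function.Bijective ev' :=
      (Nat.bijective_iff_injective_and_card _).mpr ⟨hinj, hcard.symm⟩
    obtain ⟨x, hx⟩ := hbij.2 F
    obtain ⟨g, rfl⟩ := QuotientGroup.mk_surjective x
    refine ⟨g, fun χ => ?_⟩
    rw [← hx]
    rfl
  · intro H _ hHc ⟨e⟩
    have hle : powCommClosure G n ≤ H := by
      refine pcc_le n hHc (fun g => ?_) (fun a b => ?_)
      · rw [← QuotientGroup.eq_one_iff, QuotientGroup.mk_pow, ← e.map_eq_one_iff, map_pow]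
        exact dual_pow n _
      · rw [← QuotientGroup.eq_one_iff]
        have : ((⁅a, b⁆ : G) : G ⧸ H) = QuotientGroup.mk' H ⁅a, b⁆ := rfl
        rw [this, map_commutatorElement, ← e.map_eq_one_iff, map_commutatorElement,
          commutatorElement_eq_one_iff_commute]
        exact Commute.all _ _
    refine le_antisymm ?_ hle
    have hcardH : Nat.card (G ⧸ H) = Nat.card (G ⧸ powCommClosure G n) := by
      rw [Nat.card_congr e.toEquiv, hcard]
    let q : (G ⧸ powCommClosure G n) →* (G ⧸ H) :=
      QuotientGroup.map (powCommClosure G n) H (MonoidHom.id G) hle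
    have hqs : Function.Surjective q := by
      intro y
      obtain ⟨g, rfl⟩ := QuotientGroup.mk_surjective y
      exact ⟨QuotientGroup.mk g, rfl⟩
    have hfinH : Finite (G ⧸ H) := Finite.of_surjective _ hqs
    have hqb : Function.Bijective q :=
      (Nat.bijective_iff_surjective_and_card _).mpr ⟨hqs, hcardH.symm⟩
    intro h hh
    rw [← QuotientGroup.eq_one_iff]
    apply hqb.1
    rw [map_one]
    show ((h : G) : G ⧸ H) = 1
    rwa [QuotientGroup.eq_one_iff]

end Groth.Agent.S14176
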