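import Groth.Statements.S14178
import Mathlib.FieldTheory.KummerExtension
import Mathlib.RingTheory.DedekindDomain.Factorization
import Mathlib.RingTheory.Norm.Transitivity
import Mathlib.Tactic

set_option autoImplicit false
universe u v w
open scoped nonZeroDivisors
open EtAlg

namespace Groth.Agent.S14178

open Polynomial IntermediateField

/-- fractional ideals of a Dedekind domain: `m`-th powers are injective on nonzero ideals -/
theorem fracIdeal_pow_inj {A : Type u} {K : Type v} [CommRing A] [IsDedekindDomain A]
    [Field K] [Algebra A K] [IsFractionRing A K] (J J' : FractionalIdeal A⁰ K) (hJ : J ≠ 0)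
    (hJ' : J' ≠ 0) (m : ℕ) (hm : m ≠ 0) (h : J ^ m = J' ^ m) : J = J' := by
  have hc : ∀ v : IsDedekindDomain.HeightOneSpectrum A,
      FractionalIdeal.count K v J = FractionalIdeal.count K v J' := by
    intro v
    have h1 := FractionalIdeal.count_pow K v m J
    have h2 := FractionalIdeal.count_pow K v m J'
    rw [h] at h1
    have : (m : ℤ) * FractionalIdeal.count K v J = (m : ℤ) * FractionalIdeal.count K v J' := by
      rw [← h1, ← h2]
    exact mul_left_cancel₀ (by exact_mod_cast hm) this
  rw [← FractionalIdeal.finprod_heightOneSpectrum_factorization' (K := K) hJ,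
    ← FractionalIdeal.finprod_heightOneSpectrum_factorization' (K := K) hJ']
  simp_rw [hc]


/-- Let A be a Dedekind domain with fraction field K, let n be a natural number invertible in A such
that K contains a primitive n-th root of unity, let f be a nonzero element of K and I an invertible
fractional ideal of A with (f) = I^n whose class in the ideal class group of A has order exactly n
(the divisor of f is n times a divisor whose class has order n), and let L = K(α) be a field
extension of K generated by a single element α with α^n = f. Then L is Galois over K of degree n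
with cyclic Galois group. (The published statement is for an integral smooth curve over a perfect
field containing a primitive n-th root of unity, with the Picard group of the curve in place of the
class group; this row states it for any Dedekind domain.) -/
theorem result
    {A : Type u} {K : Type v} {L : Type w} [CommRing A] [IsDedekindDomain A]
    [Field K] [Algebra A K] [IsFractionRing A K]
    [Field L] [Algebra K L]
    (n : ℕ) (hn : IsUnit (n : A)) (ζ : K) (hζ : IsPrimitiveRoot ζ n) (f : K) (hf : f ≠ 0)
    (I : (FractionalIdeal A⁰ K)ˣ) (hI : FractionalIdeal.spanSingleton A⁰ f = (I : FractionalIdeal A⁰ K) ^ n)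
    (hord : orderOf (ClassGroup.mk K I) = n)
    (α : L) (hα : α ^ n = algebraMap K L f) (hgen : IntermediateField.adjoin K {α} = ⊤) :
    IsGalois K L ∧ IsCyclic (L ≃ₐ[K] L) ∧ Module.finrank K L = n := by
  classical
  -- basic facts
  have hn0 : n ≠ 0 := by
    rintro rfl
    simp at hn
  have : NeZero n := ⟨hn0⟩
  have hnK : (n : K) ≠ 0 := by
    have := (hn.map (algebraMap A K))
    rw [map_natCast] at this
    exact this.ne_zero
  have hα0 : α ≠ 0 := by
    rintro rfl
    rw [zero_pow hn0] at hα
    exact hf ((algebraMap K L).injective (by rw [← hα, map_zero]))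
  have hζL : IsPrimitiveRoot (algebraMap K L ζ) n := hζ.map_of_injective (algebraMap K L).injective
  have hroot : aeval α (X ^ n - C f : K[X]) = 0 := by
    simp [hα]
  have hne : (X ^ n - C f : K[X]) ≠ 0 := X_pow_sub_C_ne_zero (Nat.pos_of_ne_zero hn0) f
  have hint : IsIntegral K α := ⟨X ^ n - C f, monic_X_pow_sub_C f hn0, by simpa [aeval_def] using hroot⟩
  -- finite dimensional
  have hfd : FiniteDimensional K L := by
    have h1 : FiniteDimensional K K⟮α⟯ := adjoin.finiteDimensional hint
    rw [hgen] at h1
    exact (IntermediateField.topEquiv (F := K) (E := L)).toLinearEquiv.finiteDimensional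
  -- splitting field
  have hsplit : IsSplittingField K L (X ^ n - C f) := by
    constructor
    · rw [Polynomial.map_sub, Polynomial.map_pow, Polynomial.map_C, Polynomial.map_X]
      exact X_pow_sub_C_splits_of_isPrimitiveRoot hζL hα
    · rw [eq_top_iff, ← IntermediateField.top_toSubalgebra, ← hgen,
        IntermediateField.adjoin_simple_toSubalgebra_of_isAlgebraic hint.isAlgebraic]
      apply Algebra.adjoin_mono
      rw [Set.singleton_subset_iff, mem_rootSet_of_ne hne]
      exact hroot
  have hsep : (X ^ n - C f : K[X]).Separable := separable_X_pow_sub_C f hnK hf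
  have hgal : IsGalois K L := IsGalois.of_separable_splitting_field hsep
  -- each automorphism multiplies α by a root of unity from K
  have hσ : ∀ σ : L ≃ₐ[K] L, ∃ i : ℕ, σ α = algebraMap K L (ζ ^ i) * α := by
    intro σ
    have h1 : (σ α / α) ^ n = 1 := by
      rw [div_pow, ← map_pow, hα, AlgEquiv.commutes, div_self]
      rw [← hα]; exact pow_ne_zero _ hα0
    obtain ⟨i, -, hi⟩ := hζL.eq_pow_of_pow_eq_one h1
    refine ⟨i, ?_⟩
    rw [map_pow, hi, div_mul_cancel₀ _ hα0]
  choose e he using hσ
  set d := Module.finrank K L with hd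
  have hcard : Fintype.card (L ≃ₐ[K] L) = d := by
    rw [← Nat.card_eq_fintype_card, IsGalois.card_aut_eq_finrank]
  -- α^d lies in K
  obtain ⟨g, hg⟩ : ∃ g : K, algebraMap K L g = α ^ d := by
    have hnorm := Algebra.norm_eq_prod_automorphisms K α
    simp_rw [he] at hnorm
    rw [Finset.prod_mul_distrib, Finset.prod_const, Finset.card_univ, hcard, ← map_prod] at hnorm
    set c : K := ∏ σ : L ≃ₐ[K] L, ζ ^ e σ with hc
    have hc0 : c ≠ 0 := by
      rw [hc, Finset.prod_ne_zero_iff]
      intro σ _
      exact pow_ne_zero _ (hζ.ne_zero hn0)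
    refine ⟨Algebra.norm K α / c, ?_⟩
    rw [map_div₀, hnorm, mul_div_cancel_left₀]
    rw [Ne, map_eq_zero_iff _ (algebraMap K L).injective]
    exact hc0
  have hd0 : d ≠ 0 := Module.finrank_pos.ne'
  have hg0 : g ≠ 0 := by
    rintro rfl
    rw [map_zero] at hg
    exact pow_ne_zero d hα0 hg.symm
  have hgn : g ^ n = f ^ d := by
    apply (algebraMap K L).injective
    rw [map_pow, map_pow, hg, ← hα, ← pow_mul, ← pow_mul, mul_comm]
  -- ideals
  have hI0 : (I : FractionalIdeal A⁰ K) ≠ 0 := I.ne_zero
  have hideal : FractionalIdeal.spanSingleton A⁰ g = (I : FractionalIdeal A⁰ K) ^ d := by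
    apply fracIdeal_pow_inj _ _ _ (pow_ne_zero _ hI0) n hn0
    · rw [FractionalIdeal.spanSingleton_pow, hgn, ← FractionalIdeal.spanSingleton_pow, hI,
        ← pow_mul, ← pow_mul, mul_comm]
    · rwa [Ne, FractionalIdeal.spanSingleton_eq_zero_iff]
  have hdvd : n ∣ d := by
    rw [← hord, orderOf_dvd_iff_pow_eq_one, ← map_pow, ClassGroup.mk_eq_one_iff]
    refine ⟨⟨g, ?_⟩⟩
    have : ((I ^ d : (FractionalIdeal A⁰ K)ˣ) : FractionalIdeal A⁰ K) = FractionalIdeal.spanSingleton A⁰ g := by
      rw [Units.val_pow_eq_pow_val, hideal]
    rw [this, FractionalIdeal.coe_spanSingleton]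
  have hle : d ≤ n := by
    have h1 : Module.finrank K K⟮α⟯ = (minpoly K α).natDegree := adjoin.finrank hint
    rw [hgen] at h1
    have h2 : Module.finrank K (⊤ : IntermediateField K L) = d := IntermediateField.finrank_top'
    rw [h2] at h1
    rw [h1]
    have h3 : minpoly K α ∣ X ^ n - C f := minpoly.dvd K α hroot
    have := natDegree_le_of_dvd h3 hne
    rwa [natDegree_X_pow_sub_C] at this
  have hdn : d = n := le_antisymm hle (Nat.le_of_dvd (Nat.pos_of_ne_zero hd0) hdvd)
  refine ⟨hgal, ?_, hdn⟩
  have hK : (primitiveRoots (Module.finrank K L) K).Nonempty := by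
    rw [← hd, hdn]
    exact ⟨ζ, (mem_primitiveRoots (Nat.pos_of_ne_zero hn0)).mpr hζ⟩
  have htfae := isCyclic_tfae K L hK
  have h3 : ∃ (α : L), α ^ (Module.finrank K L) ∈ Set.range (algebraMap K L) ∧ K⟮α⟯ = ⊤ :=
    ⟨α, by rw [← hd, hdn, hα]; exact ⟨f, rfl⟩, hgen⟩
  have h31 := (htfae.out 2 0).mp h3
  exact h31.2

end Groth.Agent.S14178
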