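import Groth.Statements.S1418
import Mathlib
import Groth.Agent.H7.WeightingBasic

set_option autoImplicit false
universe u
open FlatMor

namespace Groth.Agent.S1418

open AlgebraicGeometry CategoryTheory Limits in
/-- For a cartesian square with π : U → V locally quasi-finite with finite fibres, base change g : V' →
V and h : U' → U, and a function w on U, the fibre integral of w ∘ h along π' equals the fibre
integral of w along π composed with g. -/
theorem result {U V U' V' : Scheme.{u}} (π : U ⟶ V) [LocallyQuasiFinite π] [LocallyOfFiniteType π] (hfin : ∀ v : V, (π ⁻¹' {v}).Finite)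
    (π' : U' ⟶ V') (h : U' ⟶ U) (g : V' ⟶ V) (hc : IsPullback h π' π g) (w : ↑U → ℤ) (v' : V') :
    MoreMor.fibreIntegral π' (w ∘ ⇑h) v' = MoreMor.fibreIntegral π w (g v') := by
  obtain ⟨Ω, _, _, c', rfl⟩ := H7.exists_geomPoint V' v'
  have hlqf' : LocallyQuasiFinite π' := MorphismProperty.of_isPullback hc ‹LocallyQuasiFinite π›
  have hres : ∀ p, (π.residueFieldMap p).hom.Finite := fun p ↦
    H7.finite_residueFieldMap_of_quasiFiniteAt π p (π.quasiFiniteAt p)
  have hres' : ∀ p, (π'.residueFieldMap p).hom.Finite := fun p ↦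
    H7.finite_residueFieldMap_of_quasiFiniteAt π' p (π'.quasiFiniteAt p)
  have hfinA : Finite {t : Spec (.of Ω) ⟶ U // t ≫ π = c' ≫ g} :=
    H7.finite_geomLift_of_finite_fibre π Ω (c' ≫ g) (fun p _ ↦ hres p) (hfin _)
  let e := H7.geomLiftEquivOfIsPullback hc Ω c'
  have hfinA' : Finite {t' : Spec (.of Ω) ⟶ U' // t' ≫ π' = c'} := Finite.of_equiv _ e.symm
  have hfib' := H7.finite_fibre_of_finite_geomLift π' Ω c' (fun p _ ↦ hres' p) hfinA'
  rw [← H7.finsum_geomLift_eq_fibreIntegral π' Ω c' (w ∘ ⇑h) (fun p _ ↦ hres' p) hfib']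
  have h2 := H7.finsum_geomLift_eq_fibreIntegral π Ω (c' ≫ g) w (fun p _ ↦ hres p) (hfin _)
  rw [Scheme.Hom.comp_apply] at h2
  rw [← h2, ← finsum_comp_equiv e]
  rfl

end Groth.Agent.S1418
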