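import Groth.Statements.S14181
import Mathlib

set_option autoImplicit false
set_option linter.unusedSectionVars false
universe u
open CategoryTheory
open GalCoh

namespace Groth.Agent.S14181

open groupCohomology

section
variable {k G : Type u} [CommRing k] [Group G] (A : Rep.{u} k G) (P : Subgroup G) [P.Normal]
  [Fintype P]

/-- the averaging correction: `T f = ∑_{p ∈ P} f p`. -/
def Tsum : (G → A) →ₗ[k] A where
  toFun f := ∑ p : P, f p
  map_add' f g := by simp [Finset.sum_add_distrib]
  map_smul' c f := by simp [Finset.smul_sum]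

variable {A P}

lemma Tsum_cocycle (f : G → A) (hf : f ∈ cocycles₁ A) (p : P) :
    (Fintype.card P : k) • f p = Tsum A P f - A.ρ p (Tsum A P f) := by
  have h1 : ∑ q : P, f ((p * q : P) : G) = ∑ q : P, f q :=
    Equiv.sum_comp (Equiv.mulLeft p) (fun q : P => f q)
  have h2 : ∀ q : P, f ((p * q : P) : G) = A.ρ p (f q) + f p := fun q => by
    rw [Subgroup.coe_mul, (mem_cocycles₁_iff f).1 hf]
  simp only [Tsum, LinearMap.coe_mk, AddHom.coe_mk]
  rw [map_sum, ← h1]
  simp only [h2, Finset.sum_add_distrib, Finset.sum_const, Finset.card_univ, add_sub_cancel_left]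
  rw [Nat.cast_smul_eq_nsmul]

variable (hP : Function.Bijective fun a : A => (Fintype.card P : k) • a)

/-- inverse of multiplication by `|P|`. -/
noncomputable def uinv : A →ₗ[k] A :=
  ((LinearEquiv.ofBijective (LinearMap.lsmul k A (Fintype.card P : k)) hP).symm :
    A ≃ₗ[k] A).toLinearMap

lemma smul_uinv (x : A) : (Fintype.card P : k) • uinv hP x = x :=
  (LinearEquiv.ofBijective (LinearMap.lsmul k A (Fintype.card P : k)) hP).apply_symm_apply x

/-- the corrected cocycle `f + d(a)`. -/
noncomputable def Psi : cocycles₁ A →ₗ[k] cocycles₁ A :=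
  LinearMap.id + LinearMap.codRestrict (cocycles₁ A)
    ((d₀₁ A).hom ∘ₗ uinv hP ∘ₗ Tsum A P ∘ₗ (cocycles₁ A).subtype)
    (fun _ => d₀₁_apply_mem_cocycles₁ _)

lemma Psi_apply (f : cocycles₁ A) (g : G) :
    (Psi hP f).1 g = f.1 g + (A.ρ g (uinv hP (Tsum A P f.1)) - uinv hP (Tsum A P f.1)) := rfl

lemma Psi_mem (f : cocycles₁ A) (p : P) : (Psi hP f).1 (p : G) = 0 := by
  apply hP.1
  show (Fintype.card P : k) • (Psi hP f).1 (p : G) = (Fintype.card P : k) • (0 : A)
  rw [Psi_apply, smul_zero, smul_add, smul_sub, ← (A.ρ (p : G)).map_smul, smul_uinv,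
    Tsum_cocycle f.1 f.2]
  abel

lemma Psi_cocycle (f : cocycles₁ A) (x y : G) :
    (Psi hP f).1 (x * y) = A.ρ x ((Psi hP f).1 y) + (Psi hP f).1 x :=
  (mem_cocycles₁_iff _).1 (Psi hP f).2 x y

lemma Psi_mul_right (f : cocycles₁ A) (x : G) (p : P) :
    (Psi hP f).1 (x * p) = (Psi hP f).1 x := by
  rw [Psi_cocycle, Psi_mem, map_zero, zero_add]

lemma Psi_inv (f : cocycles₁ A) (x : G) (p : P) :
    A.ρ p ((Psi hP f).1 x) = (Psi hP f).1 x := by
  have h1 := Psi_cocycle hP f (p : G) x
  rw [Psi_mem, add_zero] at h1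
  rw [← h1]
  have : (p : G) * x = x * ((⟨x⁻¹ * p * x, by
      have := Subgroup.Normal.conj_mem ‹P.Normal› p p.2 x⁻¹
      simpa using this⟩ : P) : G) := by
    simp [mul_assoc]
  rw [this, Psi_mul_right]

lemma Psi_out (f : cocycles₁ A) (x : G) :
    (Psi hP f).1 ((QuotientGroup.mk x : G ⧸ P).out) = (Psi hP f).1 x := by
  obtain ⟨h, hh⟩ := QuotientGroup.mk_out_eq_mul P x
  rw [hh, Psi_mul_right]

/-- the retraction -/
noncomputable def r0 : cocycles₁ A →ₗ[k] cocycles₁ (A.quotientToInvariants P) where
  toFun f := ⟨fun q => ⟨(Psi hP f).1 q.out, fun p => Psi_inv hP f q.out p⟩, by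
    rw [mem_cocycles₁_iff]
    intro q₁ q₂
    obtain ⟨x, rfl⟩ := QuotientGroup.mk_surjective q₁
    obtain ⟨y, rfl⟩ := QuotientGroup.mk_surjective q₂
    apply Subtype.ext
    rw [← QuotientGroup.mk_mul]
    show (Psi hP f).1 (QuotientGroup.mk (x * y) : G ⧸ P).out =
      A.ρ x ((Psi hP f).1 (QuotientGroup.mk y : G ⧸ P).out) +
        (Psi hP f).1 (QuotientGroup.mk x : G ⧸ P).out
    rw [Psi_out, Psi_out, Psi_out, Psi_cocycle]⟩
  map_add' f g := by
    apply Subtype.ext
    funext q
    apply Subtype.ext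
    show (Psi hP (f + g)).1 q.out = (Psi hP f).1 q.out + (Psi hP g).1 q.out
    rw [map_add]; rfl
  map_smul' c f := by
    apply Subtype.ext
    funext q
    apply Subtype.ext
    show (Psi hP (c • f)).1 q.out = c • (Psi hP f).1 q.out
    rw [map_smul]; rfl

end


/-- Let G be a group with a finite normal subgroup P, k a commutative ring and A a k-linear
representation of G such that multiplication by the order of P is a bijection of A. Then the
inflation map on 1-cocycles (crossed homomorphisms) Z¹(G/P, A^P) → Z¹(G, A) has a k-linear left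
inverse. (The published statement is for the inertia group of a Galois cover of smooth curves at a
point, its normal Sylow p-subgroup P and a module of n-torsion with n prime to p; the argument uses
only that the order of P acts invertibly, which is the hypothesis taken here.) -/
theorem result
    {k G : Type u} [CommRing k] [Group G] (A : Rep.{u} k G) (P : Subgroup G) [P.Normal] [Finite P]
    (hP : Function.Bijective fun a : A => (Nat.card P : k) • a) :
    ∃ r : ModuleCat.of k (groupCohomology.cocycles₁ A) ⟶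
        ModuleCat.of k (groupCohomology.cocycles₁ (A.quotientToInvariants P)),
      (groupCohomology.mapCocycles₁ (QuotientGroup.mk' P) (Rep.ofHom (A.ρ.quotientToInvariants_lift P)) :
          ModuleCat.of k (groupCohomology.cocycles₁ (A.quotientToInvariants P)) ⟶
            ModuleCat.of k (groupCohomology.cocycles₁ A)) ≫ r = 𝟙 _ := by
  let _ : Fintype P := Fintype.ofFinite P
  have hP' : Function.Bijective fun a : A => (Fintype.card P : k) • a := by
    rw [← Nat.card_eq_fintype_card]; exact hP
  refine ⟨ModuleCat.ofHom (r0 hP'), ?_⟩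
  ext φ q
  show (Psi hP' ((groupCohomology.mapCocycles₁ (QuotientGroup.mk' P)
    (Rep.ofHom (A.ρ.quotientToInvariants_lift P))) φ)).1 q.out = (φ.1 q).1
  set ψ := (groupCohomology.mapCocycles₁ (QuotientGroup.mk' P)
    (Rep.ofHom (A.ρ.quotientToInvariants_lift P))) φ with hψ
  have hψv : ∀ g : G, ψ.1 g = (φ.1 (QuotientGroup.mk g)).1 := fun g => rfl
  have hT : Tsum A P ψ.1 = 0 := by
    show ∑ p : P, ψ.1 p = 0
    refine Finset.sum_eq_zero fun p _ => ?_
    rw [hψv]
    have : (QuotientGroup.mk (p : G) : G ⧸ P) = 1 := (QuotientGroup.eq_one_iff _).mpr p.2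
    rw [this]
    have := cocycles₁_map_one φ
    show ((φ 1 : (A.quotientToInvariants P)) : A) = 0
    rw [this]; rfl
  rw [Psi_apply, hT, map_zero, map_zero, sub_zero, add_zero, hψv, QuotientGroup.out_eq']

end Groth.Agent.S14181
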