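import Groth.Statements.S14192
import Mathlib

set_option autoImplicit false
open PowerSeries
open StackCount

namespace Groth.Agent.S14192

/-- uniqueness for the ODE `h' = h * u` over `ℚ`. -/
lemma ode_unique {h₁ h₂ u : ℚ⟦X⟧} (hc : constantCoeff h₁ = constantCoeff h₂)
    (d₁ : d⁄dX ℚ h₁ = h₁ * u) (d₂ : d⁄dX ℚ h₂ = h₂ * u) : h₁ = h₂ := by
  ext n
  induction n using Nat.strong_induction_on with
  | _ n ih =>
    cases n with
    | zero => simpa [coeff_zero_eq_constantCoeff] using hc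
    | succ n =>
      have e₁ := congrArg (coeff n) d₁
      have e₂ := congrArg (coeff n) d₂
      rw [coeff_derivative, coeff_mul] at e₁ e₂
      have hsum : ∑ p ∈ Finset.HasAntidiagonal.antidiagonal n, coeff p.1 h₁ * coeff p.2 u =
          ∑ p ∈ Finset.HasAntidiagonal.antidiagonal n, coeff p.1 h₂ * coeff p.2 u := by
        refine Finset.sum_congr rfl fun p hp => ?_
        have : p.1 + p.2 = n := Finset.HasAntidiagonal.mem_antidiagonal.mp hp
        rw [ih p.1 (by omega)]
      have h3 : coeff (n + 1) h₁ * ((n : ℚ) + 1) = coeff (n + 1) h₂ * ((n : ℚ) + 1) := by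
        rw [e₁, e₂, hsum]
      have hne : ((n : ℚ) + 1) ≠ 0 := by positivity
      exact mul_right_cancel₀ hne h3

/-- `E f = exp(f)`. -/
noncomputable def E (f : ℚ⟦X⟧) : ℚ⟦X⟧ := (PowerSeries.exp ℚ).subst f

lemma hasSubst_of {f : ℚ⟦X⟧} (hf : constantCoeff f = 0) : HasSubst f :=
  HasSubst.of_constantCoeff_zero' hf

lemma E_const {f : ℚ⟦X⟧} (hf : constantCoeff f = 0) : constantCoeff (E f) = 1 := by
  have hs := hasSubst_of hf
  have h1 : E f = 1 + (PowerSeries.exp ℚ - 1).subst f := by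
    unfold E
    rw [subst_sub hs, ← coe_substAlgHom hs, map_one]
    ring
  rw [h1, map_add, map_one]
  have : constantCoeff ((PowerSeries.exp ℚ - 1).subst f) = 0 :=
    constantCoeff_subst_eq_zero hf _ (by simp)
  rw [this, add_zero]

lemma E_deriv {f : ℚ⟦X⟧} (hf : constantCoeff f = 0) : d⁄dX ℚ (E f) = E f * d⁄dX ℚ f := by
  unfold E
  rw [derivative_subst (hasSubst_of hf), derivative_exp]

lemma E_add {f g : ℚ⟦X⟧} (hf : constantCoeff f = 0) (hg : constantCoeff g = 0) :
    E (f + g) = E f * E g := by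
  have hfg : constantCoeff (f + g) = 0 := by rw [map_add, hf, hg, add_zero]
  refine ode_unique (u := d⁄dX ℚ f + d⁄dX ℚ g) ?_ ?_ ?_
  · rw [E_const hfg, map_mul, E_const hf, E_const hg, one_mul]
  · rw [E_deriv hfg, map_add]
  · rw [Derivation.leibniz, E_deriv hf, E_deriv hg]
    simp only [smul_eq_mul]
    ring

lemma E_zero : E 0 = 1 := by
  refine ode_unique (u := 0) ?_ ?_ ?_
  · rw [E_const (map_zero _), map_one]
  · rw [E_deriv (map_zero _), map_zero]
  · simp

lemma E_nsmul {f : ℚ⟦X⟧} (hf : constantCoeff f = 0) (k : ℕ) : E (k • f) = E f ^ k := by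
  induction k with
  | zero => simp [E_zero]
  | succ k ih =>
    have hk : constantCoeff (k • f) = 0 := by rw [map_nsmul, hf, smul_zero]
    rw [succ_nsmul, E_add hk hf, ih, pow_succ]

lemma E_sum {ι : Type*} (s : Finset ι) (f : ι → ℚ⟦X⟧) (hf : ∀ i ∈ s, constantCoeff (f i) = 0) :
    E (∑ i ∈ s, f i) = ∏ i ∈ s, E (f i) := by
  classical
  induction s using Finset.induction_on with
  | empty => simp [E_zero]
  | insert a s ha ih =>
    have h1 : constantCoeff (f a) = 0 := hf a (Finset.mem_insert_self a s)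
    have h2 : ∀ i ∈ s, constantCoeff (f i) = 0 := fun i hi => hf i (Finset.mem_insert_of_mem hi)
    have h3 : constantCoeff (∑ i ∈ s, f i) = 0 := by
      rw [map_sum]; exact Finset.sum_eq_zero h2
    rw [Finset.sum_insert ha, Finset.prod_insert ha, E_add h1 h3, ih h2]

/-- `L a = ∑_{v ≥ 1} a^v t^v / v`. -/
noncomputable def L (a : ℚ) : ℚ⟦X⟧ :=
  PowerSeries.mk fun v : ℕ => if v = 0 then (0 : ℚ) else a ^ v / (v : ℚ)

lemma L_const (a : ℚ) : constantCoeff (L a) = 0 := by
  rw [← coeff_zero_eq_constantCoeff_apply, L, coeff_mk]; simp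

lemma L_deriv_mul (a : ℚ) : d⁄dX ℚ (L a) * (1 - C a * X) = C a := by
  have hd : d⁄dX ℚ (L a) = PowerSeries.mk fun n : ℕ => a ^ (n + 1) := by
    ext n
    rw [coeff_derivative, L, coeff_mk, coeff_mk, if_neg (Nat.succ_ne_zero n)]
    have : ((n : ℚ) + 1) ≠ 0 := by positivity
    push_cast
    field_simp
  rw [hd]
  ext n
  rw [mul_sub, mul_one, map_sub, coeff_mk, ← mul_assoc, mul_comm _ (C a), mul_assoc, coeff_C_mul]
  cases n with
  | zero => simp
  | succ n =>
    rw [coeff_succ_mul_X, coeff_mk, coeff_C, if_neg (Nat.succ_ne_zero n)]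
    ring

lemma E_L_mul (a : ℚ) : E (L a) * (1 - C a * X) = 1 := by
  refine ode_unique (u := 0) ?_ ?_ ?_
  · rw [map_mul, E_const (L_const a), one_mul, map_sub, map_one, map_mul, constantCoeff_X,
      mul_zero, sub_zero]
  · rw [Derivation.leibniz, E_deriv (L_const a)]
    have hd2 : d⁄dX ℚ (1 - C a * X) = - C a := by
      rw [map_sub, Derivation.map_one_eq_zero, Derivation.leibniz, derivative_X, derivative_C]
      simp
    rw [hd2]
    simp only [smul_eq_mul]
    have := L_deriv_mul a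
    linear_combination (E (L a)) * this
  · simp


/-- Let R = Σ_n r_n X^n be a Laurent polynomial with integer coefficients and q > 1 an integer. In the
ring of formal power series in t over ℚ, the exponential of Σ_{v ≥ 1} R(q^v) t^v / v equals the
finite product Π_n (1 - q^n t)^(-r_n). Stated here with denominators cleared: the exponential series
multiplied by Π_{n : r_n > 0} (1 - q^n t)^(r_n) equals Π_{n : r_n < 0} (1 - q^n t)^(-r_n) (each
factor 1 - q^n t is a unit, so this is equivalent). -/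
theorem result (R : LaurentPolynomial ℤ) (q : ℤ) (hq : 1 < q) :
    (PowerSeries.exp ℚ).subst
        (PowerSeries.mk fun v : ℕ => if v = 0 then (0 : ℚ)
          else (R.coeff.sum fun (n : ℤ) (r : ℤ) => (r : ℚ) * (q : ℚ) ^ (n * (v : ℤ))) / (v : ℚ))
      * ∏ n ∈ R.coeff.support, (1 - PowerSeries.C ((q : ℚ) ^ n) * PowerSeries.X) ^ (R.coeff n).toNat
    = ∏ n ∈ R.coeff.support, (1 - PowerSeries.C ((q : ℚ) ^ n) * PowerSeries.X) ^ (-(R.coeff n)).toNat := by
  have hLt0 : constantCoeff (PowerSeries.mk fun v : ℕ => if v = 0 then (0 : ℚ)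
          else (R.coeff.sum fun (n : ℤ) (r : ℤ) => (r : ℚ) * (q : ℚ) ^ (n * (v : ℤ))) / (v : ℚ)) = 0 := by
    rw [← coeff_zero_eq_constantCoeff_apply, coeff_mk]; simp
  have hLp0 : constantCoeff (∑ n ∈ R.coeff.support, (R.coeff n).toNat • L ((q : ℚ) ^ n)) = 0 := by
    rw [map_sum]
    exact Finset.sum_eq_zero fun n _ => by rw [map_nsmul, L_const, smul_zero]
  have hLm0 : constantCoeff (∑ n ∈ R.coeff.support, (-(R.coeff n)).toNat • L ((q : ℚ) ^ n)) = 0 := by
    rw [map_sum]
    exact Finset.sum_eq_zero fun n _ => by rw [map_nsmul, L_const, smul_zero]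
  have hsum : (PowerSeries.mk fun v : ℕ => if v = 0 then (0 : ℚ)
          else (R.coeff.sum fun (n : ℤ) (r : ℤ) => (r : ℚ) * (q : ℚ) ^ (n * (v : ℤ))) / (v : ℚ))
      + ∑ n ∈ R.coeff.support, (-(R.coeff n)).toNat • L ((q : ℚ) ^ n)
      = ∑ n ∈ R.coeff.support, (R.coeff n).toNat • L ((q : ℚ) ^ n) := by
    ext v
    rw [map_add, map_sum, map_sum, coeff_mk]
    simp only [map_nsmul, L, coeff_mk]
    by_cases hv : v = 0
    · simp [hv]
    · simp only [if_neg hv]
      rw [Finsupp.sum, Finset.sum_div, ← Finset.sum_add_distrib]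
      refine Finset.sum_congr rfl fun n _ => ?_
      have hx : ((q : ℚ) ^ n) ^ v = (q : ℚ) ^ (n * (v : ℤ)) := by
        rw [zpow_mul, zpow_natCast]
      rw [hx, nsmul_eq_mul, nsmul_eq_mul]
      have hr : ((R.coeff n : ℤ) : ℚ) = (((R.coeff n).toNat : ℕ) : ℚ) - (((-(R.coeff n)).toNat : ℕ) : ℚ) := by
        have h2 := Int.toNat_sub_toNat_neg (R.coeff n)
        have h3 := congrArg (Int.cast (R := ℚ)) h2
        push_cast at h3
        exact h3.symm
      rw [hr]
      ring
  have h1 := E_add hLt0 hLm0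
  rw [hsum] at h1
  have hp : E (∑ n ∈ R.coeff.support, (R.coeff n).toNat • L ((q : ℚ) ^ n)) *
      ∏ n ∈ R.coeff.support, (1 - PowerSeries.C ((q : ℚ) ^ n) * PowerSeries.X) ^ (R.coeff n).toNat
      = 1 := by
    rw [E_sum _ _ (fun n _ => by rw [map_nsmul, L_const, smul_zero]), ← Finset.prod_mul_distrib]
    refine Finset.prod_eq_one fun n _ => ?_
    rw [E_nsmul (L_const _), ← mul_pow, E_L_mul, one_pow]
  have hm : E (∑ n ∈ R.coeff.support, (-(R.coeff n)).toNat • L ((q : ℚ) ^ n)) *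
      ∏ n ∈ R.coeff.support, (1 - PowerSeries.C ((q : ℚ) ^ n) * PowerSeries.X) ^ (-(R.coeff n)).toNat
      = 1 := by
    rw [E_sum _ _ (fun n _ => by rw [map_nsmul, L_const, smul_zero]), ← Finset.prod_mul_distrib]
    refine Finset.prod_eq_one fun n _ => ?_
    rw [E_nsmul (L_const _), ← mul_pow, E_L_mul, one_pow]
  show E _ * _ = _
  generalize (∏ n ∈ R.coeff.support,
    (1 - PowerSeries.C ((q : ℚ) ^ n) * PowerSeries.X) ^ (R.coeff n).toNat) = Pp at hp ⊢
  generalize (∏ n ∈ R.coeff.support,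
    (1 - PowerSeries.C ((q : ℚ) ^ n) * PowerSeries.X) ^ (-(R.coeff n)).toNat) = Pm at hm ⊢
  generalize E (∑ n ∈ R.coeff.support, (R.coeff n).toNat • L ((q : ℚ) ^ n)) = Ep at hp h1
  generalize E (∑ n ∈ R.coeff.support, (-(R.coeff n)).toNat • L ((q : ℚ) ^ n)) = Em at hm h1
  generalize E (PowerSeries.mk fun v : ℕ => if v = 0 then (0 : ℚ)
          else (R.coeff.sum fun (n : ℤ) (r : ℤ) => (r : ℚ) * (q : ℚ) ^ (n * (v : ℤ))) / (v : ℚ)) = Et
    at h1 ⊢
  calc Et * Pp = Et * Pp * (Em * Pm) := by rw [hm, mul_one]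
    _ = (Et * Em) * Pp * Pm := by ring
    _ = (Ep * Pp) * Pm := by rw [← h1]
    _ = Pm := by rw [hp, one_mul]

end Groth.Agent.S14192
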