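import Groth.Statements.S1420
import Mathlib
import Groth.Agent.H7.WeightingOpen
import Groth.Agent.S1482

set_option autoImplicit false
universe u
open FlatMor

namespace Groth.Agent.S1420

open AlgebraicGeometry CategoryTheory Limits in
/-- A locally quasi-finite morphism with a weighting taking only positive values is universally open. -/
theorem result {X Y : Scheme.{u}} (f : X ⟶ Y) [LocallyQuasiFinite f] [LocallyOfFiniteType f] (w : ↑X → ℤ) (hw : MoreMor.IsWeighting f w) (hpos : ∀ x, 0 < w x) :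
    UniversallyOpen f := by
  refine ⟨fun X' Y' i₁ i₂ f' hsq ↦ ?_⟩
  intro O' hO'
  rw [isOpen_iff_forall_mem_open]
  rintro _ ⟨x', hx'O, rfl⟩
  -- Step 1: étale localization of `f` at `x = i₁ x'`
  obtain ⟨V, g, v, hget, hgv, J, hJ, Vo, vo, hVo, hinj, hcov⟩ :=
    Groth.Agent.S1482.result f (f (i₁ x')) (fun _ : Unit ↦ i₁ x') (fun _ _ _ ↦ rfl) (fun _ ↦ rfl)
      (fun _ ↦ f.quasiFiniteAt _)
  -- Step 2: geometric points
  obtain ⟨Ω, _, _, ξ', hξ'⟩ := H7.exists_geomPoint X' x'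
  have hc : g v = (ξ' ≫ i₁ ≫ f) (H7.geomPt Ω) := by
    simp only [Scheme.Hom.comp_apply, hξ', hgv]
  obtain ⟨η, hη, hηv⟩ := H7.exists_geomPoint_lift g Ω (ξ' ≫ i₁ ≫ f) v hc
    (H7.finite_residueFieldMap_of_etale g v)
  let a := pullback.fst i₂ g
  let b := pullback.snd i₂ g
  let ρ := pullback.snd f g
  obtain ⟨ζ, hζ1, hζ2⟩ : ∃ ζ : Spec (.of Ω) ⟶ pullback i₂ g, ζ ≫ a = ξ' ≫ f' ∧ ζ ≫ b = η :=
    ⟨pullback.lift (ξ' ≫ f') η (by rw [hη, Category.assoc, hsq.w]), pullback.lift_fst _ _ _,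
      pullback.lift_snd _ _ _⟩
  obtain ⟨τ, hτ1, hτ2⟩ : ∃ τ : Spec (.of Ω) ⟶ pullback f g,
      τ ≫ pullback.fst f g = ξ' ≫ i₁ ∧ τ ≫ ρ = η :=
    ⟨pullback.lift (ξ' ≫ i₁) η (by rw [Category.assoc, hη]), pullback.lift_fst _ _ _,
      pullback.lift_snd _ _ _⟩
  obtain ⟨θ, hθ1, hθ2⟩ : ∃ θ : Spec (.of Ω) ⟶ pullback ρ b,
      θ ≫ pullback.fst ρ b = τ ∧ θ ≫ pullback.snd ρ b = ζ :=
    ⟨pullback.lift τ ζ (by rw [hτ2, hζ2]), pullback.lift_fst _ _ _, pullback.lift_snd _ _ _⟩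
  have hq0 : (pullback.snd ρ b ≫ a) ≫ i₂ = (pullback.fst ρ b ≫ pullback.fst f g) ≫ f := by
    simp only [Category.assoc, a, ρ, b]
    rw [pullback.condition, ← pullback.condition_assoc, pullback.condition]
  obtain ⟨q, hqf', hqi₁⟩ : ∃ q : pullback ρ b ⟶ X', q ≫ f' = pullback.snd ρ b ≫ a ∧
      q ≫ i₁ = pullback.fst ρ b ≫ pullback.fst f g :=
    ⟨hsq.lift _ _ hq0, hsq.lift_fst _ _ _, hsq.lift_snd _ _ _⟩
  have hθq : θ ≫ q = ξ' := by
    apply hsq.hom_ext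
    · rw [Category.assoc, hqf', ← Category.assoc, hθ2, hζ1]
    · rw [Category.assoc, hqi₁, ← Category.assoc, hθ1, hτ1]
  let z := θ (H7.geomPt Ω)
  have hqz : q z = x' := by
    simp only [z]
    rw [← Scheme.Hom.comp_apply, hθq, hξ']
  have ht1 : pullback.fst f g (pullback.fst ρ b z) = i₁ x' := by
    have h1 : θ ≫ pullback.fst ρ b ≫ pullback.fst f g = ξ' ≫ i₁ := by
      rw [← Category.assoc, hθ1, hτ1]
    have h2 := congr($h1 (H7.geomPt Ω))
    simpa only [Scheme.Hom.comp_apply, hξ'] using h2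
  have ht2 : pullback.snd f g (pullback.fst ρ b z) = v := by
    have h1 : θ ≫ pullback.fst ρ b ≫ ρ = η := by
      rw [← Category.assoc, hθ1, hτ2]
    have h2 := congr($h1 (H7.geomPt Ω))
    simpa only [Scheme.Hom.comp_apply, hηv] using h2
  obtain ⟨j, htj⟩ := hcov _ () ht2 ht1
  obtain ⟨hmem, hfin, hsnd, huniq, ⟨hresfin, hpi⟩, hfst⟩ := hVo () j
  -- the local integral on `V`
  have hI := hw V g (Vo () j) hfin
  have hIv := H7.fibreIntegral_ι_comp_eq_of_unique ρ (Vo () j) (fun p ↦ w (pullback.fst f g p)) v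
    (vo () j) hmem hsnd huniq hpi
  rw [hfst] at hIv
  have hN := hI.isOpen_fiber (w (i₁ x'))
  -- base change to `V' = Y' ×_Y V`
  let U' := (pullback.fst ρ b) ⁻¹ᵁ (Vo () j)
  have hzU' : z ∈ U' := by
    change pullback.fst ρ b z ∈ Vo () j
    rw [htj]
    exact hmem
  let ρ' := U'.ι ≫ pullback.snd ρ b
  have hfin' : IsFinite ρ' := H7.isFinite_preimage_piece ρ b (Vo () j) hfin
  have hBC := H7.fibreIntegral_preimage_piece ρ b (Vo () j) hfin (fun p ↦ w (pullback.fst f g p))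
  have huniq' : ∀ z' : ↑(pullback ρ b), z' ∈ U' → pullback.snd ρ b z' = pullback.snd ρ b z →
      z' = z := by
    intro z' hz' hz's
    have h1 : pullback.fst ρ b z' = vo () j := by
      apply huniq _ hz'
      change ρ (pullback.fst ρ b z') = v
      rw [← Scheme.Hom.comp_apply, pullback.condition, Scheme.Hom.comp_apply, hz's,
        ← Scheme.Hom.comp_apply, ← pullback.condition, Scheme.Hom.comp_apply]
      exact ht2
    refine H7.eq_of_fst_eq_of_snd_eq_of_isPurelyInseparable ρ b z' z (h1.trans htj.symm) hz's ?_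
    rw [htj]
    exact hpi
  -- the closed set of points of `U'` not mapping into `O'`
  let C : Set ↥U' := {u | q (U'.ι u) ∉ O'}
  have hC : IsClosed C := by
    have : IsOpen ((U'.ι ≫ q) ⁻¹' O') := hO'.preimage (U'.ι ≫ q).continuous
    exact this.isClosed_compl
  have hρ'C : IsClosed (ρ' '' C) := ρ'.isClosedMap _ hC
  have hvC : pullback.snd ρ b z ∉ ρ' '' C := by
    rintro ⟨u, hu, hu'⟩
    have : U'.ι u = z := huniq' _ u.2 hu'
    apply hu
    change q (U'.ι u) ∈ O'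
    rw [this, hqz]
    exact hx'O
  let N'' : Set ↑(pullback i₂ g) := (ρ' '' C)ᶜ ∩ b ⁻¹' (MoreMor.fibreIntegral
    ((Vo () j).ι ≫ ρ) (fun u ↦ w (pullback.fst f g ((Vo () j).ι u))) ⁻¹' {w (i₁ x')})
  have hN'' : IsOpen N'' := hρ'C.isOpen_compl.inter (hN.preimage b.continuous)
  refine ⟨a '' N'', ?_, a.isOpenMap _ hN'', ⟨pullback.snd ρ b z, ⟨hvC, ?_⟩, ?_⟩⟩
  · rintro _ ⟨v₁, ⟨hv₁C, hv₁N⟩, rfl⟩
    have h1 : MoreMor.fibreIntegral ρ' (fun u ↦ w (pullback.fst f g (pullback.fst ρ b (U'.ι u))))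
        v₁ = w (i₁ x') := by
      rw [hBC v₁]
      exact hv₁N
    obtain ⟨u, hu⟩ := H7.exists_of_fibreIntegral_ne_zero ρ' _ v₁ (h1 ▸ (hpos (i₁ x')).ne')
    have huC : u ∉ C := fun huC ↦ hv₁C ⟨u, huC, hu⟩
    refine ⟨q (U'.ι u), not_not.mp huC, ?_⟩
    rw [← Scheme.Hom.comp_apply, hqf', Scheme.Hom.comp_apply]
    exact congr(a $hu)
  · change MoreMor.fibreIntegral _ _ (b (pullback.snd ρ b z)) = w (i₁ x')
    have : b (pullback.snd ρ b z) = v := by
      rw [← Scheme.Hom.comp_apply, ← pullback.condition, Scheme.Hom.comp_apply]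
      exact ht2
    rw [this]
    exact hIv
  · rw [← Scheme.Hom.comp_apply, ← hqf', Scheme.Hom.comp_apply, hqz]

end Groth.Agent.S1420
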