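import Groth.Statements.S14205
import Groth.Agent.H1.BrTpow

set_option autoImplicit false
universe u v
open scoped TensorProduct
open Brauer

namespace Groth.Agent.S14205

/-- Let A be a finite-dimensional central simple algebra over a field k with period p: p is the least
positive integer for which the p-fold tensor power of A over k is a full matrix algebra over k. Then
for every r ≥ 1 the r-fold tensor power of A has period p / gcd(p, r) (the order of the r-th
multiple of an element of order p). -/
theorem result (k : Type u) [Field k] (A : Type v) [Ring A] [Algebra k A]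
    [Algebra.IsCentral k A] [IsSimpleRing A] [FiniteDimensional k A] (p : ℕ)
    (hp : CSAGal.IsPeriod k A p) (r : ℕ) (hr : 0 < r) :
    CSAGal.IsPeriod k (CSAGal.tpow k A r) (p / Nat.gcd p r) := by
  have h1 := Groth.Agent.H1.isCentral_tpow k A r
  have h2 := Groth.Agent.H1.isSimpleRing_tpow k A r
  have h3 := Groth.Agent.H1.finiteDimensional_tpow k A r
  have hp0 : 0 < p := hp.1
  have hg0 : 0 < Nat.gcd p r := Nat.gcd_pos_of_pos_left r hp0
  have hgp : Nat.gcd p r ∣ p := Nat.gcd_dvd_left p r
  have hgr : Nat.gcd p r ∣ r := Nat.gcd_dvd_right p r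
  have hq0 : 0 < p / Nat.gcd p r := Nat.div_pos (Nat.le_of_dvd hp0 hgp) hg0
  apply Groth.Agent.H1.isPeriod_of_kills_iff_dvd hq0
  intro n
  rw [Groth.Agent.H1.kills_tpow_iff, Groth.Agent.H1.kills_iff_dvd_of_isPeriod hp]
  obtain ⟨p', hp'⟩ := hgp
  obtain ⟨r', hr'⟩ := hgr
  have hcop : Nat.Coprime p' r' := by
    have := Nat.coprime_div_gcd_div_gcd hg0
    rwa [Nat.div_eq_of_eq_mul_right hg0 hp', Nat.div_eq_of_eq_mul_right hg0 hr'] at this
  have hdiv : p / Nat.gcd p r = p' := Nat.div_eq_of_eq_mul_right hg0 hp'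
  rw [hdiv]
  constructor
  · intro h
    have h' : Nat.gcd p r * p' ∣ Nat.gcd p r * (r' * n) := by
      rw [← hp', ← mul_assoc, ← hr']; exact h
    have h'' : p' ∣ r' * n := Nat.dvd_of_mul_dvd_mul_left hg0 h'
    exact hcop.dvd_of_dvd_mul_left h''
  · intro h
    have : Nat.gcd p r * p' ∣ Nat.gcd p r * r' * n := by
      rw [mul_assoc]
      exact Nat.mul_dvd_mul_left _ (h.mul_left r')
    rw [← hp', ← hr'] at this
    exact this

end Groth.Agent.S14205
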