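import Groth.Statements.S14211
import Mathlib
import Groth.Agent.H76.QuatDiv
import Groth.Agent.H1.BrIndex
import Groth.Agent.H1.BrTpow
import Groth.Agent.H1.BrCalc
import Groth.Agent.H1.CSAUnique

set_option autoImplicit false
universe u v
open scoped TensorProduct
open Brauer

namespace Groth.Agent.S14211

/-- Let k be a field in which 2 ≠ 0 and A a finite-dimensional central simple k-algebra. Then A has
period 2 and index 2 (its Severi–Brauer variety has type (2, 2, 2m)) if and only if A is isomorphic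
over k to a matrix algebra M_m(Q), m ≥ 1, over a quaternion algebra Q = (a, b)_k (the k-algebra with
basis 1, i, j, ij, i² = a, j² = b, ij = −ji) which is a division ring; moreover such a quaternion
algebra is unique up to k-isomorphism. -/
theorem result (k : Type u) [Field k] (h2 : (2 : k) ≠ 0)
    (A : Type v) [Ring A] [Algebra k A] [Algebra.IsCentral k A] [IsSimpleRing A]
    [FiniteDimensional k A] :
    ((CSAGal.IsPeriod k A 2 ∧ CSAGal.IsIndex k A 2) ↔
      ∃ (a b : k) (m : ℕ), 0 < m ∧ (∀ x : QuaternionAlgebra k a 0 b, x ≠ 0 → IsUnit x) ∧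
        Nonempty (A ≃ₐ[k] Matrix (Fin m) (Fin m) (QuaternionAlgebra k a 0 b))) ∧
    (∀ (a b a' b' : k) (m m' : ℕ),
      (∀ x : QuaternionAlgebra k a 0 b, x ≠ 0 → IsUnit x) →
      (∀ x : QuaternionAlgebra k a' 0 b', x ≠ 0 → IsUnit x) →
      Nonempty (A ≃ₐ[k] Matrix (Fin m) (Fin m) (QuaternionAlgebra k a 0 b)) →
      Nonempty (A ≃ₐ[k] Matrix (Fin m') (Fin m') (QuaternionAlgebra k a' 0 b')) →
      Nonempty (QuaternionAlgebra k a 0 b ≃ₐ[k] QuaternionAlgebra k a' 0 b')) := by
  classical
  refine ⟨⟨?_, ?_⟩, ?_⟩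
  · -- (⇒)
    rintro ⟨-, hI⟩
    obtain ⟨-, m, D, instD, instAlg, hm, hdim, ⟨f⟩⟩ := hI
    have hfin : FiniteDimensional k D := Module.finite_of_finrank_pos (by rw [hdim]; norm_num)
    have hc : Algebra.IsCentral k (Matrix (Fin m) (Fin m) D) :=
      Groth.Agent.H1.isCentral_of_algEquiv f
    have hcD : Algebra.IsCentral k D := Groth.Agent.H1.isCentral_of_matrix k D m hm.ne'
    obtain ⟨a, b, ⟨e⟩⟩ := Groth.Agent.H76.exists_quaternion_algEquiv k h2 D hdim
    refine ⟨a, b, m, hm, ?_, ⟨f.trans (AlgEquiv.mapMatrix e.symm)⟩⟩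
    intro x hx
    have h1 : e x ≠ 0 := fun h => hx (by simpa using h)
    have h3 : IsUnit (e x) := isUnit_iff_ne_zero.2 h1
    have := h3.map e.symm
    simpa using this
  · -- (⇐)
    rintro ⟨a, b, m, hm, hu, ⟨f⟩⟩
    letI : DivisionRing (QuaternionAlgebra k a 0 b) :=
      DivisionRing.ofIsUnitOrEqZero (fun x => by
        by_cases hx : x = 0
        · exact Or.inr hx
        · exact Or.inl (hu x hx))
    have hc : Algebra.IsCentral k (Matrix (Fin m) (Fin m) (QuaternionAlgebra k a 0 b)) :=
      Groth.Agent.H1.isCentral_of_algEquiv f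
    have hcQ : Algebra.IsCentral k (QuaternionAlgebra k a 0 b) :=
      Groth.Agent.H1.isCentral_of_matrix k _ m hm.ne'
    have hAQ : Groth.Agent.H1.BrEq k A (QuaternionAlgebra k a 0 b) :=
      (Groth.Agent.H1.BrEq.of_algEquiv f).trans (Groth.Agent.H1.BrEq.matrix_left m hm.ne')
    have hfr : Module.finrank k (QuaternionAlgebra k a 0 b) = 2 ^ 2 := by
      rw [QuaternionAlgebra.finrank_eq_four]; norm_num
    have hQQ : Groth.Agent.H1.BrEq k
        (QuaternionAlgebra k a 0 b ⊗[k] QuaternionAlgebra k a 0 b) k :=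
      (Groth.Agent.H1.BrEq.tensor (Groth.Agent.H1.BrEq.refl (QuaternionAlgebra k a 0 b))
        (Groth.Agent.H1.BrEq.of_algEquiv QuaternionAlgebra.starAe)).trans
        (Groth.Agent.H1.brEq_tensor_mop k (QuaternionAlgebra k a 0 b))
    have hk2 : Groth.Agent.H1.Kills k A 2 :=
      (Groth.Agent.H1.brEq_tpow_add k A 1 1).trans
        ((Groth.Agent.H1.BrEq.tensor (Groth.Agent.H1.brEq_tpow_one k A)
          (Groth.Agent.H1.brEq_tpow_one k A)).trans
          ((Groth.Agent.H1.BrEq.tensor hAQ hAQ).trans hQQ))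
    refine ⟨⟨by norm_num, (Groth.Agent.H1.kills_iff_splits k A 2).1 hk2, ?_⟩,
      Groth.Agent.H1.isIndex_of_brEq_division (QuaternionAlgebra k a 0 b) hAQ 2 hfr⟩
    intro e' h0 h1 hs
    have he' : e' = 1 := by omega
    subst he'
    have hk1 : Groth.Agent.H1.Kills k A 1 := (Groth.Agent.H1.kills_iff_splits k A 1).2 hs
    have hQk : Groth.Agent.H1.BrEq k (QuaternionAlgebra k a 0 b) k :=
      hAQ.symm.trans ((Groth.Agent.H1.brEq_tpow_one k A).symm.trans hk1)
    have := Groth.Agent.H1.finrank_eq_of_brEq_division (QuaternionAlgebra k a 0 b) k hQk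
    rw [QuaternionAlgebra.finrank_eq_four, Module.finrank_self] at this
    omega
  · -- uniqueness
    rintro a b a' b' m m' hu hu' ⟨f⟩ ⟨f'⟩
    letI : DivisionRing (QuaternionAlgebra k a 0 b) :=
      DivisionRing.ofIsUnitOrEqZero (fun x => by
        by_cases hx : x = 0
        · exact Or.inr hx
        · exact Or.inl (hu x hx))
    letI : DivisionRing (QuaternionAlgebra k a' 0 b') :=
      DivisionRing.ofIsUnitOrEqZero (fun x => by
        by_cases hx : x = 0
        · exact Or.inr hx
        · exact Or.inl (hu' x hx))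
    have hm : m ≠ 0 := by
      rintro rfl
      have : Subsingleton A := f.injective.subsingleton
      exact not_subsingleton A this
    have hm' : m' ≠ 0 := by
      rintro rfl
      have : Subsingleton A := f'.injective.subsingleton
      exact not_subsingleton A this
    exact Groth.Agent.H1.nonempty_algEquiv_of_matrix_algEquiv k _ _ m m' hm hm' (f.symm.trans f')

end Groth.Agent.S14211
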