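import Groth.Statements.S1425
import Mathlib
import Groth.Agent.H7.WeightingLocal
import Groth.Agent.S1482

set_option autoImplicit false
universe u
open FlatMor

namespace Groth.Agent.S1425

open AlgebraicGeometry CategoryTheory Limits in
/-- A weighting of a locally quasi-finite morphism taking positive values is upper semicontinuous on X. -/
theorem result {X Y : Scheme.{u}} (f : X ⟶ Y) [LocallyQuasiFinite f] [LocallyOfFiniteType f] (w : ↑X → ℤ) (hw : MoreMor.IsWeighting f w) (hpos : ∀ x, 0 < w x) :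
    UpperSemicontinuous w := by
  intro x c hc
  suffices h : ∃ O : Set ↑X, IsOpen O ∧ x ∈ O ∧ ∀ x' ∈ O, w x' ≤ w x by
    obtain ⟨O, hO, hxO, hle⟩ := h
    exact Filter.mem_of_superset (hO.mem_nhds hxO) fun x' hx' ↦ lt_of_le_of_lt (hle x' hx') hc
  obtain ⟨V, g, v, hget, hgv, J, hJ, Vo, vo, hVo, hinj, hcov⟩ :=
    Groth.Agent.S1482.result f (f x) (fun _ : Unit ↦ x) (fun _ _ _ ↦ rfl) (fun _ ↦ rfl)
      (fun _ ↦ f.quasiFiniteAt x)
  obtain ⟨z, hz1, hz2⟩ := Scheme.Pullback.exists_preimage_pullback x v hgv.symm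
  obtain ⟨j, rfl⟩ := hcov z () hz2 hz1
  obtain ⟨hmem, hfin, hsnd, huniq, ⟨hresfin, hpi⟩, hfst⟩ := hVo () j
  have hI := hw V g (Vo () j) hfin
  let ρ := (Vo () j).ι ≫ pullback.snd f g
  let Wt : ↥(Vo () j) → ℤ := fun u ↦ w (pullback.fst f g ((Vo () j).ι u))
  let u₀ : ↥(Vo () j) := ⟨vo () j, hmem⟩
  have hρfib : ∀ b, (ρ ⁻¹' {b}).Finite := fun b ↦ ρ.finite_preimage_singleton b
  have hρres : ∀ p, (ρ.residueFieldMap p).hom.Finite := fun p ↦
    H7.finite_residueFieldMap_of_quasiFiniteAt ρ p (ρ.quasiFiniteAt p)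
  -- the value at `v`
  have hIv : MoreMor.fibreIntegral ρ Wt v = w x := by
    rw [H7.fibreIntegral_eq_of_unique ρ Wt v u₀ hsnd]
    · have h1 : H7.sepDeg ρ u₀ = 1 := by
        rw [H7.sepDeg_comp_of_isOpenImmersion]
        exact H7.sepDeg_eq_one_of_isPurelyInseparable _ _ hpi
      rw [h1]
      simp only [Wt, u₀, Scheme.Opens.ι_apply, hfst, Nat.cast_one, mul_one]
    · intro p hp
      apply Subtype.ext
      exact huniq p.1 p.2 hp
  have hN : IsOpen (MoreMor.fibreIntegral ρ Wt ⁻¹' {w x}) := hI.isOpen_fiber _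
  have hO' : IsOpen (((Vo () j : (pullback f g).Opens) : Set ↑(pullback f g)) ∩
      (pullback.snd f g) ⁻¹' (MoreMor.fibreIntegral ρ Wt ⁻¹' {w x})) :=
    (Vo () j).2.inter (hN.preimage (pullback.snd f g).continuous)
  refine ⟨_, (pullback.fst f g).isOpenMap _ hO', ⟨vo () j, ⟨hmem, ?_⟩, hfst⟩, ?_⟩
  · change MoreMor.fibreIntegral ρ Wt (pullback.snd f g (vo () j)) = w x
    rw [hsnd, hIv]
  · rintro _ ⟨u', ⟨hu'1, hu'2⟩, rfl⟩
    let p : ↥(Vo () j) := ⟨u', hu'1⟩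
    have h1 := H7.le_fibreIntegral ρ Wt (fun q ↦ (hpos _).le) p (hρfib _)
    have h2 : MoreMor.fibreIntegral ρ Wt (ρ p) = w x := hu'2
    have h3 : 1 ≤ (H7.sepDeg ρ p : ℤ) := by
      exact_mod_cast H7.sepDeg_pos_of_finite ρ p (hρres p)
    have h4 : Wt p = w (pullback.fst f g u') := rfl
    have h5 : 0 < Wt p := hpos _
    nlinarith

end Groth.Agent.S1425
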