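import Groth.Statements.S14253
import Groth.Agent.H37.UHCharP
import Groth.Agent.H37.AWNGlue3

set_option autoImplicit false
universe u
open CategoryTheory AlgebraicGeometry
open PerfSch
open Groth.Agent.H37

namespace Groth.Agent.S14253

/-- A universal homeomorphism f : X ⟶ Y between perfect schemes of prime characteristic p (on every open
of X and of Y, p = 0 in the ring of sections and the p-th power map is bijective) is an isomorphism. -/
theorem result (p : ℕ) [Fact p.Prime] {X Y : Scheme.{u}} (f : X ⟶ Y)
    (hX : PerfSch.IsPerfect p X) (hY : PerfSch.IsPerfect p Y) (hf : FlatMor.IsUnivHomeo f) : IsIso f := by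
  have hp : p.Prime := Fact.out
  have hYawn : HTop.IsAWN Y := by
    rw [isAWN_iff_forall]
    intro U
    exact isAWNRing_of_perfect hp (hY U.1).1 (hY U.1).2
  haveI : IsReduced X := by
    constructor
    intro U
    exact isReduced_of_perfect hp (hX U).2
  exact isIso_of_isUnivHomeo_of_isAWN f hf hYawn

end Groth.Agent.S14253
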