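import Groth.Statements.S14254
import Groth.Agent.H69.UnivHomeoCharP
import Mathlib.FieldTheory.IsPerfectClosure

set_option autoImplicit false
universe u
open CategoryTheory AlgebraicGeometry
open FrobAlg

namespace Groth.Agent.S14254

/-- Let p be a prime, φ : A → B a map of commutative rings of characteristic p, i : A → A' and j : B →
B' perfect closures (A' and B' are perfect rings of characteristic p, every element of A' resp. B'
has a p^n-th power in the image of i resp. j, and the kernels of i and j consist of nilpotent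
elements), and φ' : A' → B' the induced map, φ' ∘ i = j ∘ φ. Then Spec φ : Spec B ⟶ Spec A is a
universal homeomorphism if and only if φ' is bijective. (The published statement is for an arbitrary
morphism of schemes over the prime field and its perfection; this row is the case of affine schemes,
the perfection of Spec A being Spec of the perfect closure of A.) -/
theorem result (p : ℕ) [Fact p.Prime]
    {A B A' B' : Type u} [CommRing A] [CommRing B] [CommRing A'] [CommRing B']
    [CharP A p] [CharP B p] [CharP A' p] [CharP B' p] [PerfectRing A' p] [PerfectRing B' p]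
    (φ : A →+* B) (i : A →+* A') (j : B →+* B') [IsPerfectClosure i p] [IsPerfectClosure j p]
    (φ' : A' →+* B') (hφ : φ'.comp i = j.comp φ) :
    FlatMor.IsUnivHomeo (Spec.map (CommRingCat.ofHom φ)) ↔ Function.Bijective φ' := by
  have hp0 : ((p : ℕ) : B) = 0 := CharP.cast_eq_zero B p
  have hpp : p.Prime := Fact.out
  have hred : ∀ (R : Type u) [CommRing R] [CharP R p] [PerfectRing R p], IsReduced R := by
    intro R _ _ _
    refine ⟨fun x hx => ?_⟩
    obtain ⟨k, hk⟩ := hx
    apply (bijective_iterateFrobenius R p k).1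
    rw [iterateFrobenius_def, iterateFrobenius_def, zero_pow (pow_pos hpp.pos k).ne']
    have hle : k ≤ p ^ k := (Nat.lt_pow_self hpp.one_lt).le
    rw [← Nat.sub_add_cancel hle, pow_add, hk, mul_zero]
  haveI : IsReduced A' := hred A'
  haveI : IsReduced B' := hred B'
  have hcomm : ∀ a, φ' (i a) = j (φ a) := fun a => RingHom.congr_fun hφ a
  rw [Groth.Agent.H69.UnivHomeoCharP.isUnivHomeo_iff φ p hp0]
  constructor
  · rintro ⟨hker, hpow⟩
    constructor
    · rw [injective_iff_map_eq_zero]
      intro a' ha'
      obtain ⟨n, a, ha⟩ := IsPRadical.pow_mem i p a'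
      have h1 : j (φ a) = 0 := by
        rw [← hcomm, ha, map_pow, ha', zero_pow (pow_pos (Fact.out : p.Prime).pos n).ne']
      have h2 : φ a ∈ pNilradical B p := IsPRadical.ker_le j p h1
      obtain ⟨m, hm⟩ := mem_pNilradical.1 h2
      have h3 : a ^ p ^ m ∈ RingHom.ker φ := by rw [RingHom.mem_ker, map_pow, hm]
      obtain ⟨k, hk⟩ := hker _ h3
      have h4 : IsNilpotent (i a) := ⟨p ^ m * k, by rw [← map_pow, pow_mul, hk, map_zero]⟩
      have h5 : i a = 0 := IsReduced.eq_zero _ h4
      rw [ha] at h5
      exact IsReduced.eq_zero _ ⟨_, h5⟩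
    · intro b'
      obtain ⟨n, b, hb⟩ := IsPRadical.pow_mem j p b'
      obtain ⟨m, a, ha⟩ := hpow b
      obtain ⟨a'', ha''⟩ := (bijective_iterateFrobenius A' p (n + m)).2 (i a)
      rw [iterateFrobenius_def] at ha''
      refine ⟨a'', ?_⟩
      apply (bijective_iterateFrobenius B' p (n + m)).1
      rw [iterateFrobenius_def, iterateFrobenius_def, ← map_pow, ha'', hcomm, ha, map_pow, hb,
        ← pow_mul, ← pow_add]
  · intro h
    constructor
    · intro a ha
      have h1 : φ' (i a) = 0 := by rw [hcomm, (RingHom.mem_ker).1 ha, map_zero]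
      have h2 : i a = 0 := h.1 (by rw [h1, map_zero])
      have h3 : a ∈ pNilradical A p := IsPRadical.ker_le i p h2
      obtain ⟨n, hn⟩ := mem_pNilradical.1 h3
      exact ⟨_, hn⟩
    · intro b
      obtain ⟨a', ha'⟩ := h.2 (j b)
      obtain ⟨n, a, ha⟩ := IsPRadical.pow_mem i p a'
      have h1 : j (b ^ p ^ n - φ a) = 0 := by
        rw [map_sub, ← hcomm, ha, map_pow, map_pow, ha', sub_self]
      have h2 : b ^ p ^ n - φ a ∈ pNilradical B p := IsPRadical.ker_le j p h1
      obtain ⟨m, hm⟩ := mem_pNilradical.1 h2
      refine ⟨n + m, a ^ p ^ m, ?_⟩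
      rw [sub_pow_char_pow, sub_eq_zero] at hm
      rw [map_pow, ← hm, ← pow_mul, ← pow_add]

end Groth.Agent.S14254
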