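import Groth.Statements.S14257
import Groth.Agent.H69.EtaleRadicial

set_option autoImplicit false
universe u
open TensorProduct
open FrobAlg

namespace Groth.Agent.S14257

/-- Let p be a prime, A a commutative ring of characteristic p, B an etale A-algebra of characteristic
p, A → A' and B → B' perfect closures (A', B' perfect rings of characteristic p, every element of A'
resp. B' has a p^n-th power in the image of A resp. B, and the structure maps have kernels
consisting of nilpotent elements), B' viewed as an A-algebra through B, and φ' : A' → B' a map of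
A-algebras. Then the natural map A' ⊗_A B → B', a ⊗ b ↦ φ'(a) b, is bijective. (The published
statement is for an etale morphism X → Y of schemes over the prime field, where X_perf → X ×_Y
Y_perf is an isomorphism; this row is the affine case.) -/
theorem result (p : ℕ) [Fact p.Prime]
    (A B A' B' : Type u) [CommRing A] [CommRing B] [CommRing A'] [CommRing B']
    [CharP A p] [CharP B p] [CharP A' p] [CharP B' p] [PerfectRing A' p] [PerfectRing B' p]
    [Algebra A B] [Algebra.Etale A B] [Algebra A A'] [Algebra B B'] [Algebra A B'] [IsScalarTower A B B']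
    [IsPerfectClosure (algebraMap A A') p] [IsPerfectClosure (algebraMap B B') p]
    (φ' : A' →ₐ[A] B') :
    Function.Bijective (Algebra.TensorProduct.lift φ' (IsScalarTower.toAlgHom A B B')
      (fun a b => Commute.all (φ' a) (IsScalarTower.toAlgHom A B B' b))) := by
  classical
  have hp : p.Prime := Fact.out
  let T := A' ⊗[A] B
  let i : B →+* T := (Algebra.TensorProduct.includeRight : B →ₐ[A] A' ⊗[A] B).toRingHom
  let j : B →+* B' := algebraMap B B'
  set Φ : T →ₐ[A] B' := Algebra.TensorProduct.lift φ' (IsScalarTower.toAlgHom A B B')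
      (fun a b => Commute.all (φ' a) (IsScalarTower.toAlgHom A B B' b)) with hΦ
  have hi : ∀ b : B, i b = (1 : A') ⊗ₜ[A] b := fun b => rfl
  have hΦi : Φ.toRingHom.comp i = j := by
    ext b
    show Φ ((1 : A') ⊗ₜ[A] b) = algebraMap B B' b
    rw [hΦ, Algebra.TensorProduct.lift_tmul, map_one, one_mul]
    rfl
  -- Spec A' → Spec A is surjective
  have hAsurj : Function.Surjective (PrimeSpectrum.comap (algebraMap A A')) := by
    refine (PrimeSpectrum.isHomeomorph_comap (algebraMap A A') (fun x => ?_) ?_).surjective
    · obtain ⟨n, y, hy⟩ := IsPRadical.pow_mem (algebraMap A A') p x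
      exact ⟨p ^ n, pow_pos hp.pos n, y, hy⟩
    · exact (IsPRadical.ker_le (algebraMap A A') p).trans pNilradical_le_nilradical
  have hTsurj : Function.Surjective (PrimeSpectrum.comap i) :=
    Groth.Agent.H69.EtaleRadicial.comap_includeRight_surjective A A' B hAsurj
  have hker : ∀ b : B, i b = 0 → b ∈ nilradical B := by
    intro b hb
    rw [nilradical_eq_sInf, Ideal.mem_sInf]
    intro q hq
    have hq' : q.IsPrime := hq
    obtain ⟨Q, hQ⟩ := hTsurj ⟨q, hq'⟩
    have : b ∈ (PrimeSpectrum.comap i Q).asIdeal := by
      show i b ∈ Q.asIdeal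
      rw [hb]
      exact Q.asIdeal.zero_mem
    rw [hQ] at this
    exact this
  have hBnt : Nontrivial B := CharP.nontrivial_of_char_ne_one (R := B) hp.ne_one
  have hTnt : Nontrivial T := by
    by_contra hnt
    rw [not_nontrivial_iff_subsingleton] at hnt
    have h1 : (1 : B) ∈ nilradical B := hker 1 (Subsingleton.elim _ _)
    obtain ⟨m, hm⟩ := mem_nilradical.1 h1
    rw [one_pow] at hm
    exact one_ne_zero hm
  have hpT : (p : T) = 0 := by
    have : (p : T) = i (p : B) := by rw [map_natCast]
    rw [this, CharP.cast_eq_zero, map_zero]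
  have hCharT : CharP T p := (CharP.charP_iff_prime_eq_zero hp).2 hpT
  have hFrob : Function.Bijective (frobenius T p) :=
    Groth.Agent.H69.EtaleRadicial.frobenius_bijective_of_etale p A' T
  have hPerfT : PerfectRing T p := ⟨hFrob⟩
  have hRad : IsPRadical i p := by
    refine ⟨fun x => ?_, ?_⟩
    · induction x using TensorProduct.induction_on with
      | zero => exact ⟨0, 0, by simp⟩
      | tmul a' b =>
        obtain ⟨n, a, ha⟩ := IsPRadical.pow_mem (algebraMap A A') p a'
        refine ⟨n, a • b ^ p ^ n, ?_⟩
        rw [hi, Algebra.TensorProduct.tmul_pow, ← ha, Algebra.algebraMap_eq_smul_one,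
          TensorProduct.smul_tmul]
      | add x y hx hy =>
        obtain ⟨n, u, hu⟩ := hx
        obtain ⟨m, v, hv⟩ := hy
        refine ⟨n + m, u ^ p ^ m + v ^ p ^ n, ?_⟩
        rw [add_pow_char_pow, map_add, map_pow, map_pow, hu, hv, ← pow_mul, ← pow_mul,
          ← pow_add, ← pow_add, add_comm m n]
    · intro b hb
      rw [pNilradical_prime hp]
      exact hker b hb
  have hlift : Φ.toRingHom = PerfectRing.lift i j p := by
    rw [← hΦi]
    exact (PerfectRing.comp_lift i Φ.toRingHom p).symm
  have hbij : Function.Bijective (PerfectRing.lift i j p) := by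
    have := (IsPerfectClosure.equiv i j p).bijective
    exact this
  have : Function.Bijective Φ.toRingHom := by rw [hlift]; exact hbij
  exact this

end Groth.Agent.S14257
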