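import Groth.Statements.S14258
import Groth.Agent.H8.HSheafSquare

set_option autoImplicit false
universe u
open HTop

namespace Groth.Agent.S14258

open CategoryTheory CategoryTheory.Limits AlgebraicGeometry Opposite in
/-- Let S be a scheme and F a sheaf of sets on the big h site of S. Let Y be an affine scheme over S, f
: X ⟶ Y a proper surjective morphism of finite presentation over S which is an isomorphism over the
open complement U of a closed subscheme i : Z ⟶ Y of finite presentation, and E = X ×_Y Z with its
projections e : E ⟶ X and π : E ⟶ Z. Then the square of sets of sections F(Y) → F(X), F(Z) → F(E) is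
cartesian: a section over Z and a section over X with the same restriction to E come from exactly
one section over Y. (The published statement is for quasi-compact quasi-separated schemes of finite
presentation over a quasi-compact quasi-separated S and sheaves on those; this row works on all
S-schemes; with Y affine and f proper the four schemes are quasi-compact and quasi-separated.) -/
theorem result (S : Scheme.{u}) (F : HTop.ShH S)
    {E Z X Y : Over S} (e : E ⟶ X) (π : E ⟶ Z) (f : X ⟶ Y) (i : Z ⟶ Y) [IsAffine Y.left]
    [IsProper f.left] [Surjective f.left] [LocallyOfFinitePresentation f.left]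
    [IsClosedImmersion i.left] [LocallyOfFinitePresentation i.left]
    (hsq : IsPullback e.left π.left f.left i.left)
    (U : Y.left.Opens) (hU : (U : Set Y.left) = (Set.range i.left.base)ᶜ) (hiso : IsIso (f.left ∣_ U))
    (t : F.obj.obj (op Z)) (s' : F.obj.obj (op X)) (hts : F.obj.map π.op t = F.obj.map e.op s') :
    ∃! s : F.obj.obj (op Y), F.obj.map i.op s = t ∧ F.obj.map f.op s = s' := by
  refine Groth.Agent.H8.HSheafSquare.existsUnique_section_of_square F e π f i hsq ?_ ?_ t s' hts
  · intro y
    right
    exact Surjective.surj (f := f.left) y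
  · intro T m₁ m₂ h12 hx
    -- both morphisms factor through `f ⁻¹ᵁ U`
    have hm₁ : ∀ x : T, m₁ x ∈ f.left ⁻¹ᵁ U := by
      intro x
      change f.left (m₁ x) ∈ (U : Set Y.left)
      rw [hU]
      have := hx x
      rwa [Scheme.Hom.comp_apply] at this
    have hm₂ : ∀ x : T, m₂ x ∈ f.left ⁻¹ᵁ U := by
      intro x
      change f.left (m₂ x) ∈ (U : Set Y.left)
      rw [hU]
      have := hx x
      rw [h12, Scheme.Hom.comp_apply] at this
      exact this
    have hr₁ : Set.range m₁ ⊆ ((f.left ⁻¹ᵁ U : X.left.Opens) : Set X.left) := by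
      rintro _ ⟨x, rfl⟩; exact hm₁ x
    have hr₂ : Set.range m₂ ⊆ ((f.left ⁻¹ᵁ U : X.left.Opens) : Set X.left) := by
      rintro _ ⟨x, rfl⟩; exact hm₂ x
    have e₁ : IsOpenImmersion.lift (f.left ⁻¹ᵁ U).ι m₁ (by simpa using hr₁) ≫ (f.left ⁻¹ᵁ U).ι = m₁ :=
      IsOpenImmersion.lift_fac _ _ _
    have e₂ : IsOpenImmersion.lift (f.left ⁻¹ᵁ U).ι m₂ (by simpa using hr₂) ≫ (f.left ⁻¹ᵁ U).ι = m₂ :=
      IsOpenImmersion.lift_fac _ _ _
    rw [← e₁, ← e₂]
    congr 1
    have := hiso
    rw [← cancel_mono (f.left ∣_ U), ← cancel_mono U.ι, Category.assoc, Category.assoc,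
      morphismRestrict_ι, ← Category.assoc, ← Category.assoc, e₁, e₂, h12]

end Groth.Agent.S14258
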