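import Groth.Statements.S1426
import Mathlib
import Groth.Agent.H7.WeightingAdd
import Groth.Agent.S9778

set_option autoImplicit false
universe u
open FlatMor

namespace Groth.Agent.S1426

open AlgebraicGeometry CategoryTheory Limits in
/-- Let f : X → Y be a morphism of schemes which is separated, locally of finite type and locally
quasi-finite with finite fibres (finite fibres are assumed so that the fibre integral is a finite
sum), and let w be a weighting of f with w(x) > 0 for all x. Then the fibre integral of w along f is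
a lower semicontinuous function on Y. -/
theorem result {X Y : Scheme.{u}} (f : X ⟶ Y) [LocallyQuasiFinite f] [LocallyOfFiniteType f] [IsSeparated f] (hfin : ∀ y : Y, (f ⁻¹' {y}).Finite)
    (w : ↑X → ℤ) (hw : MoreMor.IsWeighting f w) (hpos : ∀ x, 0 < w x) :
    LowerSemicontinuous (MoreMor.fibreIntegral f w) := by
  intro y c hc
  suffices h : ∃ O : Set ↑Y, IsOpen O ∧ y ∈ O ∧
      ∀ y' ∈ O, MoreMor.fibreIntegral f w y ≤ MoreMor.fibreIntegral f w y' by
    obtain ⟨O, hO, hyO, hle⟩ := h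
    exact Filter.mem_of_superset (hO.mem_nhds hyO) fun y' hy' ↦ lt_of_lt_of_le hc (hle y' hy')
  -- the points of the fibre
  have hfy : Finite (f ⁻¹' {y}) := (hfin y).to_subtype
  let e := Finite.equivFin (f ⁻¹' {y})
  let x : Fin (Nat.card (f ⁻¹' {y})) → ↑X := fun i ↦ (e.symm i).1
  have hxinj : Function.Injective x := fun i i' h ↦ e.symm.injective (Subtype.ext h)
  have hxs : ∀ i, f (x i) = y := fun i ↦ (e.symm i).2
  obtain ⟨V, g, v, hget, hgv, J, hJ, Vo, vo, hclopen, hdisj, hVo, hcov⟩ :=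
    Groth.Agent.S9778.result f y x hxinj hxs (fun i ↦ f.quasiFiniteAt _)
  have : ∀ i, Finite (J i) := hJ
  let ρ := pullback.snd f g
  let W : ↑(pullback f g) → ℤ := fun p ↦ w (pullback.fst f g p)
  have hbc : ∀ v' : V, MoreMor.fibreIntegral ρ W v' = MoreMor.fibreIntegral f w (g v') :=
    fun v' ↦ H7.fibreIntegral_baseChange f hfin ρ (pullback.fst f g) g
      (IsPullback.of_hasPullback f g) w v'
  have hρfib : ∀ v' : V, (ρ ⁻¹' {v'}).Finite := fun v' ↦
    H7.finite_fibre_of_isPullback f hfin ρ (pullback.fst f g) g (IsPullback.of_hasPullback f g) v'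
  let Vk : (Σ i, J i) → (pullback f g).Opens := fun k ↦ Vo k.1 k.2
  let Ik : (Σ i, J i) → V → ℤ := fun k ↦
    MoreMor.fibreIntegral ((Vk k).ι ≫ ρ) (fun u ↦ W ((Vk k).ι u))
  have hIk : ∀ k, IsLocallyConstant (Ik k) := fun k ↦ hw V g (Vk k) (hVo k.1 k.2).2.1
  have hdisj' : ∀ k l, ((Vk k : Set ↑(pullback f g)) ∩ Vk l).Nonempty → k = l := by
    rintro ⟨i, j⟩ ⟨i', j'⟩ h
    obtain ⟨rfl, h2⟩ := hdisj i j i' j' h
    rw [eq_of_heq h2]
  have hNopen : IsOpen (⋂ k, Ik k ⁻¹' {Ik k v}) :=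
    isOpen_iInter_of_finite fun k ↦ (hIk k).isOpen_fiber _
  have hcovv : ∀ p, ρ p = v → ∃ k, p ∈ Vk k := by
    intro p hp
    have h1 : f (pullback.fst f g p) = y := by
      rw [← Scheme.Hom.comp_apply, pullback.condition, Scheme.Hom.comp_apply, hp, hgv]
    have h2 : x (e ⟨pullback.fst f g p, h1⟩) = pullback.fst f g p := by
      simp only [x, Equiv.symm_apply_apply]
    obtain ⟨j, hj⟩ := hcov p (e ⟨pullback.fst f g p, h1⟩) hp h2.symm
    exact ⟨⟨_, j⟩, hj⟩
  refine ⟨g '' (⋂ k, Ik k ⁻¹' {Ik k v}), g.isOpenMap _ hNopen,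
    ⟨v, Set.mem_iInter.mpr fun k ↦ rfl, hgv⟩, ?_⟩
  rintro _ ⟨v', hv', rfl⟩
  rw [← hgv, ← hbc, ← hbc]
  rw [← H7.sum_fibreIntegral_ι_comp_eq ρ Vk hdisj' W v (hρfib v) hcovv]
  refine le_trans (le_of_eq ?_)
    (H7.sum_fibreIntegral_ι_comp_le ρ Vk hdisj' W (fun p ↦ (hpos _).le) v' (hρfib v'))
  refine finsum_congr fun k ↦ ?_
  exact (Set.mem_iInter.mp hv' k).symm

end Groth.Agent.S1426
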