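import Groth.Statements.S14261
import Groth.Agent.H93.PfpSub
import Groth.Agent.H93.PfpQuot
import Groth.Agent.H93.PfpRetract

set_option autoImplicit false
universe u
open CategoryTheory
open FrobAlg

namespace Groth.Agent.S14261

/-- Let p be a prime, B a perfect ring of characteristic p and A a perfect B-algebra (p = 0 in A and the
p-th power map of A is bijective). Suppose A is a finitely presentable object of the category of
perfect B-algebras (the full subcategory of B-algebras on the perfect ones): B-algebra maps from A
into a filtered colimit of perfect B-algebras factor through some term of the system, uniquely after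
passing to a later term. Then A is perfectly finitely presented over B: there are a finitely
presented B-algebra A₀ and a B-algebra homomorphism k : A₀ → A which exhibits A as a perfect closure
of A₀ (every element of A has some p^n-th power in the image of k, and every element of the kernel
of k is nilpotent). (The published statement is the equivalence, for morphisms of quasi-compact
quasi-separated perfect schemes, of perfect finite presentation with a compactness condition ranging
over cofiltered systems of perfect schemes with affine transition maps; this row is the case of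
affine schemes with the compactness condition tested on affine systems only, which is all the
published argument uses.) -/
theorem result (p : ℕ) [Fact p.Prime] (B : CommRingCat.{u})
    [CharP B p] [PerfectRing B p]
    (A : ObjectProperty.FullSubcategory fun Y : Under B => (p : Y.right) = 0 ∧ Function.Bijective fun y : Y.right => y ^ p)
    [IsFinitelyPresentable.{u} A] :
    ∃ (A₀ : Type u) (_ : CommRing A₀) (_ : Algebra B A₀) (_ : Algebra.FinitePresentation B A₀)
      (k : A₀ →+* A.obj.right), k.comp (algebraMap B A₀) = A.obj.hom.hom ∧ IsPRadical k p := by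
  rcases subsingleton_or_nontrivial A.obj.right with hsub | hnt
  · -- the zero ring
    haveI : Subsingleton (B ⧸ (⊤ : Ideal B)) := Ideal.Quotient.subsingleton_iff.2 rfl
    refine ⟨B ⧸ (⊤ : Ideal B), inferInstance, inferInstance,
      Algebra.FinitePresentation.quotient ⟨{1}, by simp⟩,
      Ideal.Quotient.lift ⊤ A.obj.hom.hom (fun a _ => Subsingleton.elim _ _), ?_, ⟨?_, ?_⟩⟩
    · apply RingHom.ext
      intro b
      exact Subsingleton.elim _ _
    · intro x
      exact ⟨0, 0, Subsingleton.elim _ _⟩
    · intro x _
      rw [mem_pNilradical]
      exact ⟨0, Subsingleton.elim _ _⟩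
  · haveI : CharP A.obj.right p := (Groth.Agent.H93.Pfp.perf_obj A).charP
    haveI : PerfectRing A.obj.right p := (Groth.Agent.H93.Pfp.perf_obj A).perfectRing
    obtain ⟨S, hS⟩ := Groth.Agent.H93.Pfp.exists_finset_generating A
    let π : MvPolynomial S B →+* A.obj.right :=
      MvPolynomial.eval₂Hom (Groth.Agent.H93.Pfp.str A) (fun s : S => (s : A.obj.right))
    have hπC : π.comp MvPolynomial.C = Groth.Agent.H93.Pfp.str A := by
      apply RingHom.ext
      intro b
      simp [π]
    have hQ : Groth.Agent.H93.PerfTor.Perf p (PerfectClosure (MvPolynomial S B) p) :=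
      Groth.Agent.H93.PerfTor.Perf.of_classes (bijective_frobenius _ p)
    let β : B →+* PerfectClosure (MvPolynomial S B) p :=
      (PerfectClosure.of (MvPolynomial S B) p).comp MvPolynomial.C
    let ρ : PerfectClosure (MvPolynomial S B) p →+* A.obj.right :=
      PerfectClosure.lift (MvPolynomial S B) p A.obj.right π
    have hρof : ∀ z, ρ (PerfectClosure.of (MvPolynomial S B) p z) = π z :=
      Groth.Agent.H93.Pfp.lift_of p π
    have hρβ : ρ.comp β = Groth.Agent.H93.Pfp.str A := by
      apply RingHom.ext
      intro b
      change ρ (PerfectClosure.of (MvPolynomial S B) p (MvPolynomial.C b)) = _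
      rw [hρof]
      exact RingHom.congr_fun hπC b
    have hρ : Function.Surjective ρ := by
      intro a
      obtain ⟨n, z, hz⟩ := hS a
      obtain ⟨w, hw⟩ := Groth.Agent.H93.Pfp.exists_root_of p (MvPolynomial S B) n z
      refine ⟨w, ?_⟩
      apply (injective_frobenius A.obj.right p).iterate n
      rw [iterate_frobenius, iterate_frobenius, ← map_pow, hw, hρof]
      exact hz
    obtain ⟨T₀, hT₀, hle, σ, hσβ, hσ⟩ :=
      Groth.Agent.H93.Pfp.exists_finite_section A hQ β ρ hρβ hρ
    rw [← hπC] at hσβ
    obtain ⟨T', hT', hker⟩ :=
      Groth.Agent.H93.Pfp.ker_eq_radical_span p π ρ hρof T₀ hT₀ hle σ hσβ hσ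
    obtain ⟨I₀, hI₀, hfg, hrad⟩ := Groth.Agent.H93.Pfp.exists_fp_model p π hS T' hT' hker
    refine ⟨MvPolynomial S B ⧸ I₀, inferInstance, inferInstance,
      Algebra.FinitePresentation.quotient hfg, Ideal.Quotient.lift I₀ π hI₀, ?_, hrad⟩
    apply RingHom.ext
    intro b
    change Ideal.Quotient.lift I₀ π hI₀ (Ideal.Quotient.mk I₀ (MvPolynomial.C b)) = _
    rw [Ideal.Quotient.lift_mk]
    exact RingHom.congr_fun hπC b

end Groth.Agent.S14261
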