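import Groth.Statements.S14262
import Mathlib.RingTheory.Flat.EquationalCriterion
import Mathlib.Tactic

set_option autoImplicit false
universe u
open FrobAlg

namespace Groth.Agent.S14262

/-- Let p be a prime, A a perfect ring of characteristic p and f ∈ A. The radical of the principal ideal
(f) — equivalently the ideal generated by all p^n-th roots of f, n ≥ 0 — is a flat A-module. -/
theorem result (p : ℕ) [Fact p.Prime] (A : Type u) [CommRing A]
    [CharP A p] [PerfectRing A p] (f : A) :
    Module.Flat A ((Ideal.span {f}).radical) := by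
  classical
  have hp : p.Prime := Fact.out
  rw [Module.Flat.iff_forall_isTrivialRelation]
  intro l r x hrel
  -- uniform exponent
  have h1 : ∀ k, ∃ n : ℕ, ((x k : A)) ^ p ^ n ∈ Ideal.span {f} := by
    intro k
    obtain ⟨m, hm⟩ := (x k).2
    refine ⟨m, ?_⟩
    have hle : m ≤ p ^ m := (Nat.lt_pow_self hp.one_lt).le
    rw [← Nat.sub_add_cancel hle, pow_add]
    exact Ideal.mul_mem_left _ _ hm
  choose e he using h1
  set n := Finset.univ.sup e with hn
  have h2 : ∀ k, ∃ d : A, (x k : A) ^ p ^ n = f * d := by
    intro k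
    have hk : e k ≤ n := Finset.le_sup (Finset.mem_univ k)
    have : (x k : A) ^ p ^ n ∈ Ideal.span {f} := by
      rw [← Nat.sub_add_cancel hk, pow_add, pow_mul']
      exact Ideal.pow_mem_of_mem _ (he k) _ (pow_pos hp.pos _)
    obtain ⟨d, hd⟩ := Ideal.mem_span_singleton'.mp this
    exact ⟨d, by rw [← hd, mul_comm]⟩
  choose d hd using h2
  set g : A := (iterateFrobeniusEquiv A p (n + 1)).symm f with hg
  have hgf : g ^ p ^ (n + 1) = f := by
    rw [← iterateFrobeniusEquiv_def, hg, RingEquiv.apply_symm_apply]
  set c : Fin l → A := fun k => (iterateFrobeniusEquiv A p n).symm (d k) with hc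
  have hxc : ∀ k, (x k : A) = g ^ p * c k := by
    intro k
    apply (iterateFrobeniusEquiv A p n).injective
    rw [iterateFrobeniusEquiv_def, hd k, map_mul, hc, RingEquiv.apply_symm_apply,
      iterateFrobeniusEquiv_def, ← pow_mul, ← pow_succ', hgf]
  have hgI : g ∈ (Ideal.span {f}).radical :=
    ⟨p ^ (n + 1), by rw [hgf]; exact Ideal.mem_span_singleton_self f⟩
  -- the relation in A
  have hrelA : (∑ k, r k * c k) * g ^ p = 0 := by
    have := congrArg (Subtype.val) hrel
    simp only [Submodule.coe_sum, Submodule.coe_smul, smul_eq_mul, ZeroMemClass.coe_zero] at this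
    rw [Finset.sum_mul]
    rw [← this]
    refine Finset.sum_congr rfl fun k _ => ?_
    rw [hxc k]; ring
  have hsg : (∑ k, r k * c k) * g = 0 := by
    have h3 : ((∑ k, r k * c k) * g) ^ p = 0 := by
      have h4 : ((∑ k, r k * c k) * g) ^ p = (∑ k, r k * c k) ^ (p - 1) * ((∑ k, r k * c k) * g ^ p) := by
        rw [mul_pow]
        conv_lhs => rw [← Nat.sub_add_cancel hp.pos, pow_succ (∑ k, r k * c k)]
        rw [Nat.sub_add_cancel hp.pos]
        ring
      rw [h4, hrelA, mul_zero]
    apply injective_frobenius A p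
    rw [frobenius_def, h3, map_zero]
  refine ⟨1, fun k _ => c k * g ^ (p - 1), fun _ => ⟨g, hgI⟩, ?_, ?_⟩
  · intro k
    apply Subtype.ext
    simp only [Finset.univ_unique, Finset.sum_singleton, Submodule.coe_smul, smul_eq_mul]
    rw [hxc k, mul_assoc, ← pow_succ, Nat.sub_add_cancel hp.pos]
    ring
  · intro _
    have : ∑ k, r k * (c k * g ^ (p - 1)) = ((∑ k, r k * c k) * g) * g ^ (p - 2) := by
      rw [Finset.sum_mul, Finset.sum_mul]
      refine Finset.sum_congr rfl fun k _ => ?_
      have : p - 1 = (p - 2) + 1 := by have := hp.two_le; omega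
      rw [this, pow_succ]; ring
    rw [this, hsg, zero_mul]

end Groth.Agent.S14262
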