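import Groth.Statements.S14276
import Groth.Agent.S0412

set_option autoImplicit false
universe u
open CategoryTheory AlgebraicGeometry
open NonAbH1

namespace Groth.Agent.S14276

set_option backward.isDefEq.respectTransparency.types false in
/-- Let X be a scheme and G a group scheme over X which is smooth over X. Then every G-torsor for the
fppf topology is locally trivial for the étale topology on X. Here a torsor is an X-scheme with an
action of G which is a pseudo-torsor and acquires sections on the members of some fppf covering
family of X, and the conclusion says that it acquires sections on the members of some étale covering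
family of X. (The published statement is about torsors in the sense of fppf sheaves; this row states
it for torsors that are schemes.) -/
theorem result {X : Scheme.{u}}
    (G : Over X) [GrpObj G] [Smooth G.hom] (P : Over X) (a : AlgGrp.Action G P)
    (h : NonAbH1.IsTorsorFor Scheme.fppfPrecoverage a) :
    NonAbH1.IsLocallyTrivialFor Scheme.etalePrecoverage P := by
  obtain ⟨hpt, R, hR, hsec⟩ := h
  have hR1 : R ∈ Scheme.jointlySurjectivePrecoverage X := hR.1
  have hR2 : ∀ {Y : Scheme.{u}} (f : Y ⟶ X), R f → (Flat f ∧ LocallyOfFinitePresentation f) :=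
    fun f hf => hR.2 hf
  rw [Presieve.mem_comap_jointlySurjectivePrecoverage_iff] at hR1
  choose Y f hf hx using hR1
  choose s hs using fun x => hsec (f x) (hf x)
  have hfl : ∀ x, Flat (f x) := fun x => (hR2 (f x) (hf x)).1
  have hfp : ∀ x, LocallyOfFinitePresentation (f x) := fun x => (hR2 (f x) (hf x)).2
  -- the single fppf cover `t : T ⟶ X` with a section `σ` of `P` over it
  let t : (∐ Y) ⟶ X := Limits.Sigma.desc f
  let σ : (∐ Y) ⟶ P.left := Limits.Sigma.desc s
  have hσ : σ ≫ P.hom = t := by
    apply Limits.Sigma.hom_ext
    intro x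
    simp only [t, σ, Limits.colimit.ι_desc_assoc, Limits.colimit.ι_desc, Limits.Cofan.mk_pt,
      Limits.Cofan.mk_ι_app]
    exact hs x
  have htflat : Flat t := inferInstance
  have htfp : LocallyOfFinitePresentation t := by
    haveI : IsZariskiLocalAtSource @LocallyOfFinitePresentation :=
      HasRingHomProperty.instIsZariskiLocalAtSource (P := @LocallyOfFinitePresentation)
        (Q := RingHom.FinitePresentation)
    exact IsZariskiLocalAtSource.sigmaDesc (fun _ => inferInstance)
  have htsurj : Surjective t := by
    constructor
    intro x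
    obtain ⟨y, hy⟩ := hx x
    refine ⟨(Limits.Sigma.ι Y x) y, ?_⟩
    rw [← Scheme.Hom.comp_apply, Limits.Sigma.ι_desc]
    exact hy
  -- `P ×_X P ⟶ P` is smooth
  have hθ : (CartesianMonoidalCategory.lift a.act (CartesianMonoidalCategory.snd G P)).left ≫ Limits.pullback.snd P.hom P.hom =
      Limits.pullback.snd G.hom P.hom := by
    have := congrArg (fun φ => φ.left) (CartesianMonoidalCategory.lift_snd a.act (CartesianMonoidalCategory.snd G P))
    exact this
  have hiso : IsIso (CartesianMonoidalCategory.lift a.act (CartesianMonoidalCategory.snd G P)).left := by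
    have : IsIso (CartesianMonoidalCategory.lift a.act (CartesianMonoidalCategory.snd G P)) := hpt
    exact inferInstanceAs (IsIso ((Over.forget _).map (CartesianMonoidalCategory.lift a.act (CartesianMonoidalCategory.snd G P))))
  have hsm1 : Smooth (Limits.pullback.snd P.hom P.hom) := by
    have : Limits.pullback.snd P.hom P.hom =
        inv (CartesianMonoidalCategory.lift a.act (CartesianMonoidalCategory.snd G P)).left ≫ Limits.pullback.snd G.hom P.hom := by
      rw [IsIso.eq_inv_comp]; exact hθ
    rw [this]
    infer_instance
  -- hence `P ×_X T ⟶ T` is smooth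
  have hcond : Limits.pullback.fst P.hom t ≫ P.hom =
      (Limits.pullback.snd P.hom t ≫ σ) ≫ P.hom := by
    rw [Category.assoc, hσ, Limits.pullback.condition]
  have hsq : IsPullback (Limits.pullback.lift (Limits.pullback.fst P.hom t)
      (Limits.pullback.snd P.hom t ≫ σ) hcond) (Limits.pullback.snd P.hom t)
      (Limits.pullback.snd P.hom P.hom) σ := by
    refine IsPullback.of_right ?_ (Limits.pullback.lift_snd _ _ _) (IsPullback.of_hasPullback P.hom P.hom)
    rw [Limits.pullback.lift_fst, hσ]
    exact IsPullback.of_hasPullback P.hom t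
  have hsm2 : Smooth (Limits.pullback.snd P.hom t) :=
    MorphismProperty.of_isPullback (P := @Smooth) hsq hsm1
  -- descent
  have hsm : Smooth P.hom :=
    MorphismProperty.of_isPullback_of_descendsAlong (P := @Smooth)
      (Q := @Surjective ⊓ @Flat ⊓ @LocallyOfFinitePresentation)
      (IsPullback.of_hasPullback P.hom t).flip ⟨⟨htsurj, htflat⟩, htfp⟩ hsm2
  have hPsurj : ∀ x : X, x ∈ Set.range P.hom := by
    intro x
    obtain ⟨τ, hτ⟩ := htsurj.surj x
    refine ⟨σ τ, ?_⟩
    rw [← Scheme.Hom.comp_apply, hσ]
    exact hτ
  -- sections étale locally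
  choose S' g s' hEt hgs h' hh' using fun x => Groth.Agent.S0412.result P.hom x (hPsurj x)
  refine ⟨Presieve.ofArrows S' g, ?_, ?_⟩
  · exact (Scheme.ofArrows_mem_precoverage_iff (P := @Etale)).mpr
      ⟨fun x => ⟨x, s' x, hgs x⟩, hEt⟩
  · rintro _ _ ⟨x⟩
    exact ⟨h' x, hh' x⟩

end Groth.Agent.S14276
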