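import Groth.Statements.S1428
import Mathlib
import Groth.Agent.H7.FiniteDescent
import Groth.Agent.S9778
import Groth.Agent.S1426

set_option autoImplicit false
universe u
open FlatMor

namespace Groth.Agent.S1428

open AlgebraicGeometry CategoryTheory Limits in
/-- Let f : X → Y be separated, locally of finite type and locally quasi-finite with finite fibres, w a
positive weighting of f, and suppose the fibre integral of w is at most d at every point of Y and
equals d at some point. Then the set Y_d of points where the integral equals d is open and the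
restriction of f over Y_d is finite. (Finiteness of the fibres, which makes the fibre integral a
finite sum, is carried here as an explicit hypothesis.) -/
theorem result {X Y : Scheme.{u}} (f : X ⟶ Y) [LocallyQuasiFinite f] [LocallyOfFiniteType f] [IsSeparated f] (hfin : ∀ y : Y, (f ⁻¹' {y}).Finite)
    (w : ↑X → ℤ) (hw : MoreMor.IsWeighting f w) (hpos : ∀ x, 0 < w x) (d : ℤ)
    (hmax : ∀ y : Y, MoreMor.fibreIntegral f w y ≤ d) (hatt : ∃ y : Y, MoreMor.fibreIntegral f w y = d) :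
    ∃ hYd : IsOpen {y : ↑Y | MoreMor.fibreIntegral f w y = d}, IsFinite (f ∣_ ⟨{y : ↑Y | MoreMor.fibreIntegral f w y = d}, hYd⟩) := by
  have hlsc := Groth.Agent.S1426.result f hfin w hw hpos
  have hset : {y : ↑Y | MoreMor.fibreIntegral f w y = d} =
      MoreMor.fibreIntegral f w ⁻¹' Set.Ioi (d - 1) := by
    ext y
    simp only [Set.mem_ofPred_eq, Set.mem_preimage, Set.mem_Ioi]
    have := hmax y
    constructor <;> intro h <;> omega
  have hYd : IsOpen {y : ↑Y | MoreMor.fibreIntegral f w y = d} :=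
    hset ▸ hlsc.isOpen_preimage (d - 1)
  refine ⟨hYd, ?_⟩
  apply H7.morphismRestrict_of_forall_mem_exists_le (P := @IsFinite)
  intro y hy
  replace hy : MoreMor.fibreIntegral f w y = d := hy
  -- the points of the fibre
  have hfy : Finite (f ⁻¹' {y}) := (hfin y).to_subtype
  let e := Finite.equivFin (f ⁻¹' {y})
  let x : Fin (Nat.card (f ⁻¹' {y})) → ↑X := fun i ↦ (e.symm i).1
  have hxinj : Function.Injective x := fun i i' h ↦ e.symm.injective (Subtype.ext h)
  have hxs : ∀ i, f (x i) = y := fun i ↦ (e.symm i).2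
  obtain ⟨V, g, v, hget, hgv, J, hJ, Vo, vo, hclopen, hdisj, hVo, hcov⟩ :=
    Groth.Agent.S9778.result f y x hxinj hxs (fun i ↦ f.quasiFiniteAt _)
  have : ∀ i, Finite (J i) := hJ
  let ρ := pullback.snd f g
  let W : ↑(pullback f g) → ℤ := fun p ↦ w (pullback.fst f g p)
  have hbc : ∀ v' : V, MoreMor.fibreIntegral ρ W v' = MoreMor.fibreIntegral f w (g v') :=
    fun v' ↦ H7.fibreIntegral_baseChange f hfin ρ (pullback.fst f g) g
      (IsPullback.of_hasPullback f g) w v'
  have hρfib : ∀ v' : V, (ρ ⁻¹' {v'}).Finite := fun v' ↦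
    H7.finite_fibre_of_isPullback f hfin ρ (pullback.fst f g) g (IsPullback.of_hasPullback f g) v'
  let Vk : (Σ i, J i) → (pullback f g).Opens := fun k ↦ Vo k.1 k.2
  let Ik : (Σ i, J i) → V → ℤ := fun k ↦
    MoreMor.fibreIntegral ((Vk k).ι ≫ ρ) (fun u ↦ W ((Vk k).ι u))
  have hIk : ∀ k, IsLocallyConstant (Ik k) := fun k ↦ hw V g (Vk k) (hVo k.1 k.2).2.1
  have hdisj' : ∀ k l, ((Vk k : Set ↑(pullback f g)) ∩ Vk l).Nonempty → k = l := by
    rintro ⟨i, j⟩ ⟨i', j'⟩ h
    obtain ⟨rfl, h2⟩ := hdisj i j i' j' h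
    rw [eq_of_heq h2]
  have hcovv : ∀ p, ρ p = v → ∃ k, p ∈ Vk k := by
    intro p hp
    have h1 : f (pullback.fst f g p) = y := by
      rw [← Scheme.Hom.comp_apply, pullback.condition, Scheme.Hom.comp_apply, hp, hgv]
    have h2 : x (e ⟨pullback.fst f g p, h1⟩) = pullback.fst f g p := by
      simp only [x, Equiv.symm_apply_apply]
    obtain ⟨j, hj⟩ := hcov p (e ⟨pullback.fst f g p, h1⟩) hp h2.symm
    exact ⟨⟨_, j⟩, hj⟩
  let N₀ : V.Opens := ⟨(⋂ k, Ik k ⁻¹' {Ik k v}) ∩ g ⁻¹' {y | MoreMor.fibreIntegral f w y = d},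
    (isOpen_iInter_of_finite fun k ↦ (hIk k).isOpen_fiber _).inter (hYd.preimage g.continuous)⟩
  have hvN₀ : v ∈ N₀ := ⟨Set.mem_iInter.mpr fun k ↦ rfl, by
    change MoreMor.fibreIntegral f w (g v) = d
    rw [hgv, hy]⟩
  have hlqfρ : LocallyQuasiFinite ρ := inferInstance
  -- over `N₀` every point lies in one of the pieces
  have hkey : ∀ p, ρ p ∈ N₀ → ∃ k, p ∈ Vk k := by
    intro p hp
    by_contra hne
    push_neg at hne
    have h1 := H7.sum_fibreIntegral_ι_comp_add_le ρ Vk hdisj' W (fun p ↦ (hpos _).le) (ρ p)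
      (hρfib _) p rfl hne
    have h2 : MoreMor.fibreIntegral ρ W (ρ p) = d := by
      rw [hbc]
      exact hp.2
    have h3 : ∑ᶠ k, MoreMor.fibreIntegral ((Vk k).ι ≫ ρ) (fun u ↦ W ((Vk k).ι u)) (ρ p) = d := by
      have h4 : ∀ k, Ik k (ρ p) = Ik k v := fun k ↦ Set.mem_iInter.mp hp.1 k
      have h5 := H7.sum_fibreIntegral_ι_comp_eq ρ Vk hdisj' W v (hρfib v) hcovv
      rw [hbc, hgv, hy] at h5
      rw [← h5]
      exact finsum_congr fun k ↦ h4 k
    have h6 : 0 < W p * (H7.sepDeg ρ p : ℤ) := by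
      apply mul_pos (hpos _)
      exact_mod_cast H7.sepDeg_pos_of_finite ρ p
        (H7.finite_residueFieldMap_of_quasiFiniteAt ρ p (ρ.quasiFiniteAt p))
    linarith
  -- finiteness over `N₀`
  classical
  let _ : Fintype (Σ i, J i) := Fintype.ofFinite _
  have hVt : IsFinite ((Finset.univ.sup Vk).ι ≫ ρ) :=
    H7.isFinite_finsetSup_ι_comp ρ Finset.univ Vk fun k ↦ (hVo k.1 k.2).2.1
  have h7 := H7.isFinite_preimage_piece ρ N₀.ι (Finset.univ.sup Vk) hVt
  have h8 : (pullback.fst ρ N₀.ι) ⁻¹ᵁ (Finset.univ.sup Vk) = ⊤ := by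
    rw [eq_top_iff]
    intro z _
    have h9 : ρ (pullback.fst ρ N₀.ι z) ∈ N₀ := by
      rw [← Scheme.Hom.comp_apply, pullback.condition, Scheme.Hom.comp_apply]
      exact (pullback.snd ρ N₀.ι z).2
    obtain ⟨k, hk⟩ := hkey _ h9
    exact (Finset.le_sup (f := Vk) (Finset.mem_univ k)) hk
  have h10 : IsFinite (pullback.snd ρ N₀.ι) := H7.isFinite_of_ι_comp_of_eq_top _ _ h8 h7
  have h11 : IsFinite (pullback.snd f (N₀.ι ≫ g)) := by
    rw [← pullbackLeftPullbackSndIso_inv_snd_snd f g N₀.ι]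
    infer_instance
  let O : Y.Opens := ⟨g '' N₀, g.isOpenMap _ N₀.2⟩
  have hO : (O : Set ↑Y) = Set.range (N₀.ι ≫ g) := by
    rw [Scheme.Hom.comp_base, TopCat.coe_comp, Set.range_comp, Scheme.Opens.range_ι]
    rfl
  refine ⟨O, ⟨v, hvN₀, hgv⟩, ?_, H7.isFinite_morphismRestrict_of_isFinite_snd f (N₀.ι ≫ g) h11 O hO⟩
  rintro _ ⟨v', hv', rfl⟩
  exact hv'.2

end Groth.Agent.S1428
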