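import Groth.Statements.S14280
import Mathlib.LinearAlgebra.Eigenspace.Charpoly
import Mathlib.Analysis.Normed.Ring.InfiniteSum
import Mathlib.Analysis.Complex.Polynomial.Basic
import Mathlib.Tactic

set_option autoImplicit false
universe u
open SpSeq

namespace Groth.Agent.S14280

theorem norm_trace_le {V : Type*} [AddCommGroup V] [Module ℂ V] [FiniteDimensional ℂ V]
    (Φ : V →ₗ[ℂ] V) (B : ℝ) (hB : 0 ≤ B)
    (h : ∀ μ : ℂ, Module.End.HasEigenvalue Φ μ → ‖μ‖ ≤ B) :
    ‖LinearMap.trace ℂ V Φ‖ ≤ (Module.finrank ℂ V : ℝ) * B := by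
  have hs : Φ.charpoly.Splits := IsAlgClosed.splits _
  rw [Module.End.trace_eq_sum_roots_charpoly_of_splits hs]
  have hcard : Multiset.card Φ.charpoly.roots = Module.finrank ℂ V := by
    rw [← hs.natDegree_eq_card_roots, LinearMap.charpoly_natDegree]
  have h1 : ‖Φ.charpoly.roots.sum‖ ≤ (Φ.charpoly.roots.map (fun μ => ‖μ‖)).sum :=
    norm_multiset_sum_le _
  have h2 : (Φ.charpoly.roots.map (fun μ => ‖μ‖)).sum ≤ Multiset.card Φ.charpoly.roots • B := by
    have := Multiset.sum_le_card_nsmul (Φ.charpoly.roots.map (fun μ => ‖μ‖)) B ?_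
    · simpa using this
    · intro x hx
      obtain ⟨μ, hμ, rfl⟩ := Multiset.mem_map.mp hx
      apply h
      rw [Module.End.hasEigenvalue_iff_isRoot_charpoly]
      exact (Polynomial.mem_roots'.mp hμ).2
  rw [hcard, nsmul_eq_mul] at h2
  exact h1.trans h2


/-- Let E^{p,q} (p, q ≥ 0) be finite-dimensional complex vector spaces each carrying an endomorphism Φ,
and suppose that for a natural number N and functions a, c ≥ 0 (real) and b, d (natural numbers) one
has E^{p,q} = 0 for q > N, |μ| ≤ a(q)c(p) for every eigenvalue μ of Φ on E^{p,q}, and dim E^{p,q} ≤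
b(q)d(p). If Σ_p c(p)d(p) converges then the family of traces tr(Φ | E^{p,q}) is absolutely summable
over all pairs (p, q). (The published statement takes a and b defined on {0, …, N} only; here they
are functions on all natural numbers, which changes nothing since E^{p,q} = 0 for q > N.) -/
theorem result
    (E : ℕ → ℕ → Type u) [∀ p q, AddCommGroup (E p q)] [∀ p q, Module ℂ (E p q)]
    [∀ p q, FiniteDimensional ℂ (E p q)] (Φ : ∀ p q, E p q →ₗ[ℂ] E p q)
    (N : ℕ) (a c : ℕ → ℝ) (b d : ℕ → ℕ) (ha : ∀ q, 0 ≤ a q) (hc : ∀ p, 0 ≤ c p)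
    (h1 : ∀ p q, N < q → Subsingleton (E p q))
    (h2 : ∀ p q (μ : ℂ), Module.End.HasEigenvalue (Φ p q) μ → ‖μ‖ ≤ a q * c p)
    (h3 : ∀ p q, Module.finrank ℂ (E p q) ≤ b q * d p)
    (hsum : Summable fun p : ℕ => c p * (d p : ℝ)) :
    Summable fun pq : ℕ × ℕ => ‖LinearMap.trace ℂ (E pq.1 pq.2) (Φ pq.1 pq.2)‖ := by
  classical
  have hsum2 : Summable fun q : ℕ => (if q ≤ N then a q * (b q : ℝ) else 0) := by
    apply summable_of_hasFiniteSupport
    apply (Set.finite_Iic N).subset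
    intro q hq
    simp only [Function.mem_support, ne_eq, ite_eq_right_iff, Classical.not_imp] at hq
    exact hq.1
  have hnn1 : (0 : ℕ → ℝ) ≤ fun p => c p * (d p : ℝ) := by
    intro p; exact mul_nonneg (hc p) (Nat.cast_nonneg _)
  have hnn2 : (0 : ℕ → ℝ) ≤ fun q : ℕ => (if q ≤ N then a q * (b q : ℝ) else 0) := by
    intro q
    dsimp only
    split_ifs
    · exact mul_nonneg (ha q) (Nat.cast_nonneg _)
    · exact le_refl _
  have hgs := Summable.mul_of_nonneg hsum hsum2 hnn1 hnn2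
  refine Summable.of_nonneg_of_le (fun _ => norm_nonneg _) ?_ hgs
  rintro ⟨p, q⟩
  dsimp only
  by_cases hq : q ≤ N
  · rw [if_pos hq]
    have hB : 0 ≤ a q * c p := mul_nonneg (ha q) (hc p)
    have h4 := norm_trace_le (Φ p q) (a q * c p) hB (h2 p q)
    have h5 : (Module.finrank ℂ (E p q) : ℝ) ≤ (b q : ℝ) * (d p : ℝ) := by exact_mod_cast h3 p q
    calc ‖LinearMap.trace ℂ (E p q) (Φ p q)‖ ≤ (Module.finrank ℂ (E p q) : ℝ) * (a q * c p) := h4
      _ ≤ ((b q : ℝ) * (d p : ℝ)) * (a q * c p) := mul_le_mul_of_nonneg_right h5 hB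
      _ = c p * (d p : ℝ) * (a q * (b q : ℝ)) := by ring
  · rw [if_neg hq, mul_zero]
    have hsub : Subsingleton (E p q) := h1 p q (not_le.mp hq)
    have : Φ p q = 0 := Subsingleton.elim _ _
    rw [this, map_zero, norm_zero]

end Groth.Agent.S14280
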