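import Groth.Statements.S14292
import Groth.Agent.H73.EllIso2

set_option autoImplicit false
universe u
open EllLift

namespace Groth.Agent.S14292

/-- Let A be a commutative ring and W₁, W₂ Weierstrass cubics over A with unit discriminants and the
same j-invariant j, such that j and j - 1728 are both units of A (the modular invariant avoids the
special values 0 and 1728 at every point). Then for every prime ideal p of A there exist an étale
A-algebra B with a prime lying over p and a change of variables over B carrying the base change of
W₁ to that of W₂; that is, the two elliptic curves become isomorphic on an étale neighbourhood of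
every point of Spec A. (The published statement is about Weierstrass curves with possibly nodal,
geometrically irreducible fibres over an arbitrary base scheme whose modular invariant avoids 0,
1728 and ∞; this row is the case of unit discriminant over an affine base.) -/
theorem result (A : Type u) [CommRing A]
    (W₁ W₂ : WeierstrassCurve A) [W₁.IsElliptic] [W₂.IsElliptic] (hj : W₁.j = W₂.j)
    (h0 : IsUnit W₁.j) (h1728 : IsUnit (W₁.j - 1728)) (p : PrimeSpectrum A) :
    ∃ (B : Type u) (_ : CommRing B) (_ : Algebra A B), Algebra.Etale A B ∧
      p ∈ Set.range (PrimeSpectrum.comap (algebraMap A B)) ∧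
      ∃ C : WeierstrassCurve.VariableChange B, C • (W₁.map (algebraMap A B)) = W₂.map (algebraMap A B) := by
  obtain ⟨θ, hθ⟩ : ∃ θ : A →+* AlgebraicClosure p.asIdeal.ResidueField,
      θ = (algebraMap p.asIdeal.ResidueField (AlgebraicClosure p.asIdeal.ResidueField)).comp
        (algebraMap A p.asIdeal.ResidueField) := ⟨_, rfl⟩
  have hker : ∀ a, θ a = 0 ↔ a ∈ p.asIdeal := by
    intro a
    rw [hθ, RingHom.comp_apply, map_eq_zero, Ideal.algebraMap_residueField_eq_zero]
  obtain ⟨N, C, hC⟩ := Groth.Agent.H73.EllIso.main (ψ := θ) W₁ W₂
    (Groth.Agent.H73.EllIso.SameJ.of_j W₁ W₂ hj h0 h1728)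
  haveI := N.et
  refine ⟨N.S, N.cr, N.alg, N.et, ⟨⟨RingHom.ker N.ψ, RingHom.ker_isPrime _⟩,
    PrimeSpectrum.ext ?_⟩, C, hC⟩
  ext a
  simp only [PrimeSpectrum.comap_asIdeal, Ideal.mem_comap, RingHom.mem_ker, N.hψ, hker]

end Groth.Agent.S14292
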