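import Groth.Statements.S14295
import Mathlib.Tactic

set_option autoImplicit false
universe u v
open PtDeg

namespace Groth.Agent.S14295

theorem f_zero {A : Type u} {G : Type v} [AddCommGroup A] [AddCommGroup G]
    (f : A → G) (hf : ∀ x y z : A, f (x + y + z) + f x + f y + f z = f (x + y) + f (x + z) + f (y + z)) :
    f 0 = 0 := by
  have h := hf 0 0 0
  simp only [add_zero] at h
  exact add_eq_left.mp h

theorem half_spec (n : ℤ) : 2 * (n * (n + 1) / 2) = n * (n + 1) := by
  have h : (2 : ℤ) ∣ n * (n + 1) := (Int.even_mul_succ_self n).two_dvd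
  exact Int.mul_ediv_cancel' h

theorem half_spec' (n : ℤ) : 2 * (n * (n - 1) / 2) = n * (n - 1) := by
  have h : (2 : ℤ) ∣ n * (n - 1) := by
    have := (Int.even_mul_succ_self (n - 1)).two_dvd
    rw [sub_add_cancel, mul_comm] at this
    exact this
  exact Int.mul_ediv_cancel' h

theorem rec_step {A : Type u} {G : Type v} [AddCommGroup A] [AddCommGroup G]
    (f : A → G) (hf : ∀ x y z : A, f (x + y + z) + f x + f y + f z = f (x + y) + f (x + z) + f (y + z))
    (n : ℤ) (x : A) :
    f ((n + 1) • x) + f ((n - 1) • x) = f (n • x) + f (n • x) + f x + f (-x) := by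
  have h := hf (n • x) x (-x)
  have h0 := f_zero f hf
  have e1 : n • x + x + -x = n • x := by abel
  have e2 : n • x + x = (n + 1) • x := by rw [add_smul, one_smul]
  have e3 : n • x + -x = (n - 1) • x := by rw [sub_smul, one_smul, sub_eq_add_neg]
  have e4 : x + -x = 0 := by abel
  rw [e1, e2, e3, e4, h0, add_zero] at h
  rw [← h]

/-- Let A and G be abelian groups, written additively, and f : A → G a map which is pointed of degree 2,
that is f(x+y+z) + f(x) + f(y) + f(z) = f(x+y) + f(x+z) + f(y+z) for all x, y, z in A. Then for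
every integer n and every x in A one has f(n·x) = (n(n+1)/2)·f(x) + (n(n−1)/2)·f(−x) (the two
coefficients are the integers n(n+1)/2 and n(n−1)/2). -/
theorem result {A : Type u} {G : Type v} [AddCommGroup A] [AddCommGroup G]
    (f : A → G) (hf : ∀ x y z : A, f (x + y + z) + f x + f y + f z = f (x + y) + f (x + z) + f (y + z))
    (n : ℤ) (x : A) :
    f (n • x) = (n * (n + 1) / 2) • f x + (n * (n - 1) / 2) • f (-x) := by
  -- t n = n(n+1)/2, s n = n(n-1)/2
  set t : ℤ → ℤ := fun n => n * (n + 1) / 2 with ht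
  set s : ℤ → ℤ := fun n => n * (n - 1) / 2 with hs
  have ht2 : ∀ n, 2 * t n = n * (n + 1) := fun n => half_spec n
  have hs2 : ∀ n, 2 * s n = n * (n - 1) := fun n => half_spec' n
  have ht_succ : ∀ n, t (n + 1) = t n + n + 1 := by
    intro n
    have h1 := ht2 n; have h2 := ht2 (n + 1)
    nlinarith
  have hs_succ : ∀ n, s (n + 1) = s n + n := by
    intro n
    have h1 := hs2 n; have h2 := hs2 (n + 1)
    nlinarith
  have ht0 : t 0 = 0 := by simp [ht]
  have hs0 : s 0 = 0 := by simp [hs]
  have hrec := rec_step f hf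
  have h0 := f_zero f hf
  -- two-step statement
  have key : ∀ n : ℤ, (f (n • x) = t n • f x + s n • f (-x)) ∧
      (f ((n + 1) • x) = t (n + 1) • f x + s (n + 1) • f (-x)) := by
    intro n
    induction n using Int.induction_on with
    | zero =>
      refine ⟨?_, ?_⟩
      · simp [ht0, hs0, h0]
      · rw [ht_succ, hs_succ, ht0, hs0]; simp
    | succ k ih =>
      obtain ⟨ih1, ih2⟩ := ih
      refine ⟨ih2, ?_⟩
      have hr := hrec ((k : ℤ) + 1) x
      rw [add_sub_cancel_right] at hr
      rw [ih1, ih2] at hr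
      rw [ht_succ ((k : ℤ) + 1), hs_succ ((k : ℤ) + 1)]
      rw [ht_succ (k : ℤ), hs_succ (k : ℤ)] at hr ⊢
      linear_combination (norm := module) hr
    | pred k ih =>
      obtain ⟨ih1, ih2⟩ := ih
      have e : (-(k : ℤ) - 1 + 1) = -(k : ℤ) := by ring
      rw [e]
      refine ⟨?_, ih1⟩
      have hr := hrec (-(k : ℤ)) x
      rw [ih1, ih2] at hr
      have e1 := ht_succ (-(k : ℤ) - 1)
      have e2 := hs_succ (-(k : ℤ) - 1)
      rw [e] at e1 e2
      have e3 := ht_succ (-(k : ℤ))
      have e4 := hs_succ (-(k : ℤ))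
      rw [e3, e4, e1, e2] at hr
      linear_combination (norm := module) hr
  exact (key n).1

end Groth.Agent.S14295
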