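import Groth.Statements.S14294
import Groth.Agent.S14295
import Mathlib.Tactic

set_option autoImplicit false
universe u v
open PtDeg

namespace Groth.Agent.S14294

/-- Let A and G be abelian groups, written additively, and f : A → G a map which is pointed of degree 2,
that is f(x+y+z) + f(x) + f(y) + f(z) = f(x+y) + f(x+z) + f(y+z) for all x, y, z in A. If an integer
n satisfies n·x = 0 for every x in A, then 2n·f(x) = 0 for every x in A, and if moreover n is odd
then n·f(x) = 0 for every x in A. -/
theorem result {A : Type u} {G : Type v} [AddCommGroup A] [AddCommGroup G]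
    (f : A → G) (hf : ∀ x y z : A, f (x + y + z) + f x + f y + f z = f (x + y) + f (x + z) + f (y + z))
    (n : ℤ) (hn : ∀ x : A, n • x = 0) :
    (∀ x : A, (2 * n) • f x = 0) ∧ (Odd n → ∀ x : A, n • f x = 0) := by
  have h0 := Groth.Agent.S14295.f_zero f hf
  have F := Groth.Agent.S14295.result f hf
  have ht2 : ∀ n : ℤ, 2 * (n * (n + 1) / 2) = n * (n + 1) := Groth.Agent.S14295.half_spec
  have hs2 : ∀ n : ℤ, 2 * (n * (n - 1) / 2) = n * (n - 1) := Groth.Agent.S14295.half_spec'
  -- abbreviations
  obtain ⟨t, ht⟩ : ∃ t : ℤ, t = n * (n + 1) / 2 := ⟨_, rfl⟩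
  obtain ⟨s, hs⟩ : ∃ s : ℤ, s = n * (n - 1) / 2 := ⟨_, rfl⟩
  obtain ⟨t', ht'⟩ : ∃ t' : ℤ, t' = (n + 1) * (n + 1 + 1) / 2 := ⟨_, rfl⟩
  have e_t : 2 * t = n * (n + 1) := by rw [ht]; exact ht2 n
  have e_s : 2 * s = n * (n - 1) := by rw [hs]; exact hs2 n
  have e_t' : 2 * t' = (n + 1) * (n + 1 + 1) := by rw [ht']; exact ht2 (n + 1)
  have e_ts : t = s + n := by nlinarith
  have e_t't : t' = t + n + 1 := by nlinarith
  -- the three relations
  have R1 : ∀ x : A, t • f x + s • f (-x) = 0 := by
    intro x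
    have := F n x
    rw [hn x, h0, ← ht, ← hs] at this
    exact this.symm
  have R3 : ∀ x : A, f x = t' • f x + t • f (-x) := by
    intro x
    have := F (n + 1) x
    rw [add_smul, hn x, one_smul, zero_add, ← ht'] at this
    have e : (n + 1) * (n + 1 - 1) / 2 = t := by
      rw [ht]; congr 1; ring
    rw [e] at this
    exact this
  have two : ∀ x : A, (2 * n) • f x = 0 := by
    intro x
    have r1 := R1 (-x)
    rw [neg_neg] at r1
    have r3 := R3 x
    rw [e_t't, e_ts] at r3
    rw [e_ts] at r1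
    linear_combination (norm := module) -r1 - r3
  refine ⟨two, ?_⟩
  rintro ⟨k, hk⟩ x
  have r1 := R1 x
  have r2 := R1 (-x)
  rw [neg_neg] at r2
  have hA := two x
  have e_s' : s = n * k := by
    have : 2 * s = 2 * (n * k) := by rw [e_s, hk]; ring
    linarith
  have e_t'' : t = n * (k + 1) := by rw [e_ts, e_s']; ring
  rw [e_s', e_t''] at r1 r2
  linear_combination (norm := module) r1 + k • (r1 - r2) - k • hA

end Groth.Agent.S14294
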