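import Groth.Statements.S14305
import Groth.Agent.H71.Deviation

set_option autoImplicit false
universe u v
open PtDeg

namespace Groth.Agent.S14305

open Groth.Agent.H71 in
theorem key {A : Type u} {G : Type v} [AddCommGroup A] [AddCommGroup G]
    (f : A → G) (n : ℕ) (j : Fin n) (y : Fin n → A) (a b : A) :
    ∑ I ∈ ((Finset.univ : Finset (Fin (n + 1))).powerset.erase ∅),
        ((-1 : ℤ) ^ (n + 1 + I.card)) • f (∑ i ∈ I, (Fin.cons b (Function.update y j a) : Fin (n + 1) → A) i) =
      ∑ I ∈ ((Finset.univ : Finset (Fin n)).powerset.erase ∅), ((-1 : ℤ) ^ (n + I.card)) • f (∑ i ∈ I, (Function.update y j (a + b)) i) -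
      (∑ I ∈ ((Finset.univ : Finset (Fin n)).powerset.erase ∅), ((-1 : ℤ) ^ (n + I.card)) • f (∑ i ∈ I, (Function.update y j a) i) + ∑ I ∈ ((Finset.univ : Finset (Fin n)).powerset.erase ∅), ((-1 : ℤ) ^ (n + I.card)) • f (∑ i ∈ I, (Function.update y j b) i)) := by
  rw [sum_erase_empty_eq f (n + 1), sum_erase_empty_eq f n, sum_erase_empty_eq f n,
    sum_erase_empty_eq f n, altSum_fin_succ]
  simp only [Fin.cons_succ, Fin.cons_zero]
  rw [altSum_update, altSum_update, altSum_update, altSum_update]
  have e : ∀ d : A, a + b + d = b + (a + d) := fun d => by abel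
  simp only [e]
  rw [pow_succ, mul_smul]
  simp only [neg_smul, one_smul, smul_sub, smul_neg]
  abel

/-- Let A and G be abelian groups, written additively, f : A → G a map and n ≥ 1. For k ≥ 0 the k-th
deviation of f is the map A^k → G, (y_1, …, y_k) ↦ Σ_{∅ ≠ I ⊆ {1,…,k}} (−1)^{k+|I|} f(Σ_{i ∈ I}
y_i). Then f is pointed of degree n, meaning that its (n+1)-st deviation vanishes identically, if
and only if its n-th deviation is additive in each variable separately (with the other variables
fixed). -/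
theorem result {A : Type u} {G : Type v} [AddCommGroup A] [AddCommGroup G]
    (f : A → G) (n : ℕ) (hn : 1 ≤ n) :
    (∀ x : Fin (n + 1) → A, ∑ I ∈ ((Finset.univ : Finset (Fin (n + 1))).powerset.erase ∅), ((-1 : ℤ) ^ (n + 1 + I.card)) • f (∑ i ∈ I, x i) = 0) ↔
      (∀ (j : Fin n) (y : Fin n → A) (a b : A),
        ∑ I ∈ ((Finset.univ : Finset (Fin n)).powerset.erase ∅), ((-1 : ℤ) ^ (n + I.card)) • f (∑ i ∈ I, (Function.update y j (a + b)) i) =
          ∑ I ∈ ((Finset.univ : Finset (Fin n)).powerset.erase ∅), ((-1 : ℤ) ^ (n + I.card)) • f (∑ i ∈ I, (Function.update y j a) i) + ∑ I ∈ ((Finset.univ : Finset (Fin n)).powerset.erase ∅), ((-1 : ℤ) ^ (n + I.card)) • f (∑ i ∈ I, (Function.update y j b) i)) := by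
  constructor
  · intro h j y a b
    have k := key f n j y a b
    rw [h] at k
    exact (sub_eq_zero.mp k.symm)
  · intro h x
    obtain ⟨m, rfl⟩ : ∃ m, n = m + 1 := ⟨n - 1, by omega⟩
    have k := key f (m + 1) 0 (Fin.tail x) (x 1) (x 0)
    have e : (Fin.cons (x 0) (Function.update (Fin.tail x) 0 (x 1)) : Fin (m + 1 + 1) → A) = x := by
      have : Function.update (Fin.tail x) 0 (x 1) = Fin.tail x := by
        apply Function.update_eq_self_iff.mpr
        simp [Fin.tail]
      rw [this, Fin.cons_self_tail]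
    rw [e] at k
    rw [k, h 0 (Fin.tail x) (x 1) (x 0), sub_self]

end Groth.Agent.S14305
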