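import Groth.Statements.S14309
import Mathlib.Tactic

set_option autoImplicit false
universe u v w x y
open CAlg

namespace Groth.Agent.S14309

open MvPolynomial in
theorem decomp {R : Type u} [CommRing R] {σ : Type y} (F : MvPolynomial (Option σ) R) :
    ∃ (F₀ : MvPolynomial σ R) (F₁ : MvPolynomial (Option σ) R),
      F = rename (Option.some : σ → Option σ) F₀ + X none * F₁ := by
  induction F using MvPolynomial.induction_on with
  | C r => exact ⟨C r, 0, by simp⟩
  | add p q hp hq =>
    obtain ⟨p₀, p₁, rfl⟩ := hp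
    obtain ⟨q₀, q₁, rfl⟩ := hq
    exact ⟨p₀ + q₀, p₁ + q₁, by rw [map_add]; ring⟩
  | mul_X p o hp =>
    obtain ⟨p₀, p₁, rfl⟩ := hp
    cases o with
    | none => exact ⟨0, rename (Option.some : σ → Option σ) p₀ + X none * p₁, by rw [map_zero]; ring⟩
    | some s => exact ⟨p₀ * X s, p₁ * X (some s), by rw [map_mul, rename_X]; ring⟩


/-- Let R be a commutative ring; A, B, C commutative R-algebras; i : A → B and j : A → C jointly
injective R-algebra maps; c a non-zero-divisor of B; u : C → B/(c) a ring map with u ∘ j equal to i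
followed by reduction modulo c; ζ in A with i ζ = c and j ζ = 0; η : R[X_σ, Z] → A an R-algebra map
with η(Z) = ζ; a : R[Y_τ] → B a surjective R-algebra map; η_Z : R[X_σ, Z] → R[Y_τ] a surjective
R-algebra map with a ∘ η_Z = i ∘ η. Fix c̃ in R[Y_τ] with a(c̃) = c, a family (p_h) generating the
kernel of the composite R[X_σ] → R[X_σ, Z] → A → C, a family (q'_h) generating the kernel of a
together with lifts q_h along η_Z, a family (v_h) generating the kernel of η_Z, and elements g'_h of
R[Y_τ] with η_Z(p_h) + g'_h c̃ in the ideal (q'_h), together with lifts g_h along η_Z. Then the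
kernel of η is the ideal generated by the elements Z q_h, Z v_h and p_h + Z g_h. (The published
statement is for the rings of cycle classes, with coefficients ℤ[1/6], of a smooth quotient stack, a
smooth closed substack whose normal bundle has top Chern class c a non-zero-divisor, and the open
complement; this row states the ring-theoretic content for any such square of commutative rings in
which A embeds in B × C.) -/
theorem result
    {R : Type u} [CommRing R] {A : Type v} {B : Type w} {C : Type x}
    [CommRing A] [CommRing B] [CommRing C] [Algebra R A] [Algebra R B] [Algebra R C]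
    (i : A →ₐ[R] B) (j : A →ₐ[R] C)
    (hinj : ∀ t : A, i t = 0 → j t = 0 → t = 0)
    (c : B) (hc : c ∈ nonZeroDivisors B) (u : C →+* B ⧸ Ideal.span ({c} : Set B))
    (hu : ∀ t : A, u (j t) = Ideal.Quotient.mk (Ideal.span ({c} : Set B)) (i t))
    (ζ : A) (hiζ : i ζ = c) (hjζ : j ζ = 0)
    {σ τ ιp ιq ιv : Type y}
    (η : MvPolynomial (Option σ) R →ₐ[R] A) (hη : η (MvPolynomial.X none) = ζ)
    (a : MvPolynomial τ R →ₐ[R] B) (ha : Function.Surjective a)
    (ηZ : MvPolynomial (Option σ) R →ₐ[R] MvPolynomial τ R)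
    (hcomm : ∀ t, a (ηZ t) = i (η t)) (hηZ : Function.Surjective ηZ)
    (cZ : MvPolynomial τ R) (hcZ : a cZ = c)
    (p : ιp → MvPolynomial σ R)
    (hp : Ideal.span (Set.range p) =
      RingHom.ker ((j.comp η).comp (MvPolynomial.rename (Option.some : σ → Option σ))))
    (q' : ιq → MvPolynomial τ R) (hq' : Ideal.span (Set.range q') = RingHom.ker a)
    (q : ιq → MvPolynomial (Option σ) R) (hq : ∀ h, ηZ (q h) = q' h)
    (v : ιv → MvPolynomial (Option σ) R) (hv : Ideal.span (Set.range v) = RingHom.ker ηZ)
    (g' : ιp → MvPolynomial τ R)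
    (hg' : ∀ h, ηZ (MvPolynomial.rename (Option.some : σ → Option σ) (p h)) + g' h * cZ ∈
      Ideal.span (Set.range q'))
    (g : ιp → MvPolynomial (Option σ) R) (hg : ∀ h, ηZ (g h) = g' h) :
    RingHom.ker η = Ideal.span
      (Set.range (fun h : ιq => MvPolynomial.X none * q h) ∪
        Set.range (fun h : ιv => MvPolynomial.X none * v h) ∪
        Set.range (fun h : ιp =>
          MvPolynomial.rename (Option.some : σ → Option σ) (p h) + MvPolynomial.X none * g h)) := by
  classical
  set J : Ideal (MvPolynomial (Option σ) R) := Ideal.span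
      (Set.range (fun h : ιq => MvPolynomial.X none * q h) ∪
        Set.range (fun h : ιv => MvPolynomial.X none * v h) ∪
        Set.range (fun h : ιp =>
          MvPolynomial.rename (Option.some : σ → Option σ) (p h) + MvPolynomial.X none * g h)) with hJ
  have hq'mem : ∀ h, q' h ∈ RingHom.ker a := fun h => by
    rw [← hq']; exact Ideal.subset_span ⟨h, rfl⟩
  have hvmem : ∀ h, v h ∈ RingHom.ker ηZ := fun h => by
    rw [← hv]; exact Ideal.subset_span ⟨h, rfl⟩
  have hpmem : ∀ h, p h ∈ RingHom.ker ((j.comp η).comp (MvPolynomial.rename (Option.some : σ → Option σ))) :=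
    fun h => by rw [← hp]; exact Ideal.subset_span ⟨h, rfl⟩
  have hJle : J ≤ RingHom.ker η := by
    rw [hJ, Ideal.span_le]
    rintro _ ((⟨h, rfl⟩ | ⟨h, rfl⟩) | ⟨h, rfl⟩)
    · simp only [SetLike.mem_coe, RingHom.mem_ker]
      apply hinj
      · rw [map_mul, map_mul, ← hcomm (q h), hq h, (RingHom.mem_ker).mp (hq'mem h), mul_zero]
      · rw [map_mul, map_mul, hη, hjζ, zero_mul]
    · simp only [SetLike.mem_coe, RingHom.mem_ker]
      apply hinj
      · rw [map_mul, map_mul, ← hcomm (v h), (RingHom.mem_ker).mp (hvmem h), map_zero, mul_zero]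
      · rw [map_mul, map_mul, hη, hjζ, zero_mul]
    · simp only [SetLike.mem_coe, RingHom.mem_ker]
      apply hinj
      · rw [map_add, map_add, map_mul, map_mul, hη, hiζ, ← hcomm, ← hcomm, hg h, ← hcZ, ← map_mul,
          ← map_add, mul_comm cZ]
        have := hg' h
        rw [hq'] at this
        exact (RingHom.mem_ker).mp this
      · rw [map_add, map_add, map_mul, map_mul, hη, hjζ, zero_mul, add_zero]
        have := (RingHom.mem_ker).mp (hpmem h)
        simpa using this
  apply le_antisymm _ hJle
  intro F hF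
  rw [RingHom.mem_ker] at hF
  obtain ⟨F₀, F₁, rfl⟩ := decomp F
  -- F₀ in span p
  have hF₀ : F₀ ∈ Ideal.span (Set.range p) := by
    rw [hp, RingHom.mem_ker]
    simp only [AlgHom.coe_comp, Function.comp_apply]
    have := congrArg j hF
    rw [map_add, map_add, map_mul, map_mul, hη, hjζ, zero_mul, add_zero, map_zero] at this
    exact this
  -- rename F₀ ≡ Z * G₀ mod J
  have key1 : ∀ F₀ ∈ Ideal.span (Set.range p), ∃ G₀ : MvPolynomial (Option σ) R,
      MvPolynomial.rename (Option.some : σ → Option σ) F₀ - MvPolynomial.X none * G₀ ∈ J := by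
    intro F₀ hF₀
    refine Submodule.span_induction ?_ ?_ ?_ ?_ hF₀
    · rintro _ ⟨h, rfl⟩
      refine ⟨- g h, ?_⟩
      have : MvPolynomial.rename (Option.some : σ → Option σ) (p h) + MvPolynomial.X none * g h ∈ J :=
        Ideal.subset_span (Or.inr ⟨h, rfl⟩)
      convert this using 1
      ring
    · exact ⟨0, by simp⟩
    · rintro x y _ _ ⟨Gx, hx⟩ ⟨Gy, hy⟩
      refine ⟨Gx + Gy, ?_⟩
      have := J.add_mem hx hy
      convert this using 1
      rw [map_add]; ring
    · rintro r x _ ⟨Gx, hx⟩
      refine ⟨MvPolynomial.rename (Option.some : σ → Option σ) r * Gx, ?_⟩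
      have := J.mul_mem_left (MvPolynomial.rename (Option.some : σ → Option σ) r) hx
      convert this using 1
      rw [smul_eq_mul, map_mul]; ring
  obtain ⟨G₀, hG₀⟩ := key1 F₀ hF₀
  set G := G₀ + F₁ with hG
  -- suffices Z * G ∈ J
  suffices hZG : MvPolynomial.X none * G ∈ J by
    have := J.add_mem hG₀ hZG
    convert this using 1
    rw [hG]; ring
  have hηZG : η (MvPolynomial.X none * G) = 0 := by
    have h1 := hJle hG₀
    rw [RingHom.mem_ker, map_sub] at h1
    have h2 : η (MvPolynomial.X none * G) =
        η (MvPolynomial.rename (Option.some : σ → Option σ) F₀ + MvPolynomial.X none * F₁) -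
        (η (MvPolynomial.rename (Option.some : σ → Option σ) F₀) - η (MvPolynomial.X none * G₀)) := by
      rw [hG, mul_add, map_add, map_add]; ring
    rw [h2, hF, h1, sub_zero]
  have haG : a (ηZ G) = 0 := by
    have := congrArg i hηZG
    rw [map_mul, hη, map_mul, hiζ, map_zero, ← hcomm] at this
    have hc' := hc
    rw [mem_nonZeroDivisors_iff] at hc'
    exact hc'.1 _ this
  have hmem : ηZ G ∈ Ideal.span (Set.range q') := by rw [hq', RingHom.mem_ker]; exact haG
  -- lift
  have key2 : ∀ y ∈ Ideal.span (Set.range q'), ∃ w : MvPolynomial (Option σ) R,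
      ηZ w = y ∧ MvPolynomial.X none * w ∈ J := by
    intro y hy
    refine Submodule.span_induction ?_ ?_ ?_ ?_ hy
    · rintro _ ⟨h, rfl⟩
      exact ⟨q h, hq h, Ideal.subset_span (Or.inl (Or.inl ⟨h, rfl⟩))⟩
    · exact ⟨0, by simp, by simp⟩
    · rintro x y _ _ ⟨wx, hx1, hx2⟩ ⟨wy, hy1, hy2⟩
      exact ⟨wx + wy, by rw [map_add, hx1, hy1], by rw [mul_add]; exact J.add_mem hx2 hy2⟩
    · rintro r x _ ⟨wx, hx1, hx2⟩
      obtain ⟨r', rfl⟩ := hηZ r
      refine ⟨r' * wx, by rw [map_mul, hx1, smul_eq_mul], ?_⟩
      have := J.mul_mem_left r' hx2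
      convert this using 1
      ring
  obtain ⟨w, hw1, hw2⟩ := key2 _ hmem
  have hker : G - w ∈ Ideal.span (Set.range v) := by
    rw [hv, RingHom.mem_ker, map_sub, hw1, sub_self]
  have key3 : ∀ z ∈ Ideal.span (Set.range v), MvPolynomial.X none * z ∈ J := by
    intro z hz
    refine Submodule.span_induction ?_ ?_ ?_ ?_ hz
    · rintro _ ⟨h, rfl⟩
      exact Ideal.subset_span (Or.inl (Or.inr ⟨h, rfl⟩))
    · simp
    · rintro x y _ _ hx hy
      rw [mul_add]; exact J.add_mem hx hy
    · rintro r x _ hx
      have := J.mul_mem_left r hx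
      convert this using 1
      rw [smul_eq_mul]; ring
  have := J.add_mem (key3 _ hker) hw2
  convert this using 1
  ring

end Groth.Agent.S14309
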