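import Groth.Statements.S14346
import Mathlib.Tactic

set_option autoImplicit false
universe u v
open TensorProduct
open QuotLF

namespace Groth.Agent.S14346

theorem eq_bot_of_rank {A : Type u} [CommRing A] {P : Type v} [AddCommGroup P] [Module A P]
    [Module.Finite A P] [Module.Projective A P] (k : ℕ)
    (hk : ∀ p : PrimeSpectrum A, Module.rankAtStalk (R := A) P p = k)
    (N : Submodule A P) [Module.Finite A (P ⧸ N)] [Module.Projective A (P ⧸ N)]
    (hN : ∀ p : PrimeSpectrum A, Module.rankAtStalk (R := A) (P ⧸ N) p = k) : N = ⊥ := by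
  obtain ⟨s, hs⟩ := Module.projective_lifting_property N.mkQ LinearMap.id N.mkQ_surjective
  have hs' : ∀ y, N.mkQ (s y) = y := fun y => by
    have := congrArg (fun f => f y) hs
    simpa using this
  let q := LinearMap.range s
  have hc : IsCompl N q := by
    constructor
    · rw [Submodule.disjoint_def]
      rintro x hxN ⟨y, rfl⟩
      have : y = 0 := by
        rw [← hs' y]
        exact (Submodule.Quotient.mk_eq_zero N).mpr hxN
      rw [this, map_zero]
    · rw [codisjoint_iff, eq_top_iff]
      intro x _
      have h1 : x - s (N.mkQ x) ∈ N := by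
        rw [← Submodule.Quotient.mk_eq_zero N, Submodule.Quotient.mk_sub]
        have := hs' (N.mkQ x)
        rw [Submodule.mkQ_apply, Submodule.mkQ_apply] at this
        rw [Submodule.mkQ_apply, this, sub_self]
      have h2 : s (N.mkQ x) ∈ q := ⟨_, rfl⟩
      have := Submodule.add_mem_sup h1 h2
      simpa using this
  let e1 : (N × q) ≃ₗ[A] P := Submodule.prodEquivOfIsCompl N q hc
  let e2 : (P ⧸ N) ≃ₗ[A] q := Submodule.quotientEquivOfIsCompl N q hc
  let e : (N × (P ⧸ N)) ≃ₗ[A] P := (LinearEquiv.prodCongr (LinearEquiv.refl A N) e2).trans e1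
  have hNproj : Module.Projective A N := by
    have : Module.Projective A (N × (P ⧸ N)) := Module.Projective.of_equiv e.symm
    exact Module.Projective.of_split (LinearMap.inl A N (P ⧸ N)) (LinearMap.fst A N (P ⧸ N))
      (by ext; simp)
  have hNfin : Module.Finite A N := by
    have : Module.Finite A (N × (P ⧸ N)) := Module.Finite.equiv e.symm
    exact Module.Finite.of_surjective (LinearMap.fst A N (P ⧸ N)) LinearMap.fst_surjective
  have hrank := Module.rankAtStalk_prod (R := A) N (P ⧸ N)
  have hrank2 := Module.rankAtStalk_eq_of_equiv (R := A) e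
  have h0 : Module.rankAtStalk (R := A) N = 0 := by
    ext p
    have h1 := congrFun hrank p
    have h2 := congrFun hrank2 p
    simp only [Pi.add_apply] at h1
    rw [h2, hk p, hN p] at h1
    simpa using h1.symm
  have hsub : Subsingleton N := Module.rankAtStalk_eq_zero_iff_subsingleton.mp h0
  exact (Submodule.subsingleton_iff_eq_bot).mp hsub

/-- Let R be a commutative ring, M an R-module, k ≥ 0, and A an R-algebra for which A ⊗_R M is finite
projective of constant rank k, i.e. Spec A → Spec R factors through the locally closed stratum where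
M is locally free of rank k. Then A ⊗_R M has exactly one rank-k locally free quotient: the zero
submodule has finite projective quotient of constant rank k, and every submodule with such a
quotient is zero. In other words the Quot scheme of rank-k locally free quotients of M restricted to
that stratum maps isomorphically onto it. -/
theorem result (R : Type u) [CommRing R]
    (M : Type v) [AddCommGroup M] [Module R M] (k : ℕ)
    (A : Type u) [CommRing A] [Algebra R A] [Module.Finite A (A ⊗[R] M)] [Module.Projective A (A ⊗[R] M)]
    (hk : ∀ p : PrimeSpectrum A, Module.rankAtStalk (R := A) (A ⊗[R] M) p = k) :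
    (∃ N : Module.Grassmannian A (A ⊗[R] M) k, N.toSubmodule = ⊥) ∧
      ∀ N : Module.Grassmannian A (A ⊗[R] M) k, N.toSubmodule = ⊥ := by
  constructor
  · let e : ((A ⊗[R] M) ⧸ (⊥ : Submodule A (A ⊗[R] M))) ≃ₗ[A] (A ⊗[R] M) :=
      Submodule.quotEquivOfEqBot ⊥ rfl
    refine ⟨⟨⊥, Module.Finite.equiv e.symm, Module.Projective.of_equiv e.symm, ?_⟩, rfl⟩
    intro p
    rw [Module.rankAtStalk_eq_of_equiv e]
    exact hk p
  · intro N
    exact eq_bot_of_rank k hk N.toSubmodule N.rankAtStalk_eq

end Groth.Agent.S14346
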