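import Groth.Statements.S14357
import Mathlib

set_option autoImplicit false
universe u
open AlgebraicGeometry
open Proj

namespace Groth.Agent.S14357

open CategoryTheory MvPolynomial

section
variable (k : Type u) [Field k]

local notation "𝒜" => CohB1.polyGrading 1 k

lemma X_mem_deg_one (i : Fin (1 + 1)) : (X i : MvPolynomial (Fin (1 + 1)) k) ∈ 𝒜 1 := by
  show (X i : MvPolynomial (Fin (1 + 1)) k) ∈ MvPolynomial.homogeneousSubmodule (Fin (1 + 1)) k 1
  rw [MvPolynomial.mem_homogeneousSubmodule]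
  exact MvPolynomial.isHomogeneous_X k i

lemma X_mem_irrelevant (i : Fin (1 + 1)) :
    (X i : MvPolynomial (Fin (1 + 1)) k) ∈ HomogeneousIdeal.irrelevant 𝒜 :=
  HomogeneousIdeal.mem_irrelevant_of_mem _ Nat.one_pos (X_mem_deg_one k i)

/-- the generic point -/
noncomputable def ptGen : ProjectiveSpectrum 𝒜 where
  asHomogeneousIdeal := ⊥
  isPrime := by
    rw [HomogeneousIdeal.toIdeal_bot]; exact Ideal.isPrime_bot
  not_irrelevant_le := by
    intro h
    have h1 := h (X_mem_irrelevant k 0)
    have h2 : (X 0 : MvPolynomial (Fin (1 + 1)) k) ∈ (⊥ : Ideal _) := h1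
    rw [Ideal.mem_bot] at h2
    exact MvPolynomial.X_ne_zero 0 h2

/-- the point `T₀ = 0`. -/
noncomputable def ptZero : ProjectiveSpectrum 𝒜 where
  asHomogeneousIdeal := ⟨Ideal.span {(X 0 : MvPolynomial (Fin (1 + 1)) k)},
    Ideal.homogeneous_span _ _ (by
      rintro x hx
      rw [Set.mem_singleton_iff] at hx
      subst hx
      exact ⟨1, X_mem_deg_one k 0⟩)⟩
  isPrime := by
    show (Ideal.span {(X 0 : MvPolynomial (Fin (1 + 1)) k)}).IsPrime
    rw [Ideal.span_singleton_prime (MvPolynomial.X_ne_zero 0)]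
    exact MvPolynomial.X_prime
  not_irrelevant_le := by
    intro h
    have h1 := h (X_mem_irrelevant k 1)
    have h2 : (X 1 : MvPolynomial (Fin (1 + 1)) k) ∈ Ideal.span {(X 0 : MvPolynomial (Fin (1 + 1)) k)} := h1
    rw [Ideal.mem_span_singleton] at h2
    obtain ⟨q, hq⟩ := h2
    have := congrArg (MvPolynomial.eval (fun i : Fin (1 + 1) => if i = 0 then (0 : k) else 1)) hq
    simp at this

lemma ptGen_le : ptGen k ≤ ptZero k := by
  rw [← ProjectiveSpectrum.as_ideal_le_as_ideal]
  exact bot_le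

lemma ptGen_ne : ptGen k ≠ ptZero k := by
  intro h
  have h1 : (X 0 : MvPolynomial (Fin (1 + 1)) k) ∈ (ptZero k).asHomogeneousIdeal :=
    Ideal.subset_span rfl
  rw [← h] at h1
  have h2 : (X 0 : MvPolynomial (Fin (1 + 1)) k) ∈ (⊥ : Ideal _) := h1
  rw [Ideal.mem_bot] at h2
  exact MvPolynomial.X_ne_zero 0 h2

lemma deg_zero_eq_C {p : MvPolynomial (Fin (1 + 1)) k} (hp : p ∈ 𝒜 0) : p = C (p.coeff 0) := by
  have h1 : p.IsHomogeneous 0 := (MvPolynomial.mem_homogeneousSubmodule _ _).mp hp
  have h2 : p.totalDegree = 0 := Nat.le_zero.mp h1.totalDegree_le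
  exact MvPolynomial.totalDegree_eq_zero_iff_eq_C.mp h2

instance tower_zero : IsScalarTower k (𝒜 0) (MvPolynomial (Fin (1 + 1)) k) :=
  IsScalarTower.of_algebraMap_eq (R := k) (S := 𝒜 0) (A := MvPolynomial (Fin (1 + 1)) k)
    (fun _ => rfl)

instance finiteType_zero : Algebra.FiniteType (𝒜 0) (MvPolynomial (Fin (1 + 1)) k) :=
  Algebra.FiniteType.of_restrictScalars_finiteType k (𝒜 0) (MvPolynomial (Fin (1 + 1)) k)

lemma algebraMap_zero_surjective : Function.Surjective (algebraMap k (𝒜 0)) := by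
  rintro ⟨p, hp⟩
  refine ⟨p.coeff 0, ?_⟩
  apply Subtype.ext
  show algebraMap k (MvPolynomial (Fin (1 + 1)) k) (p.coeff 0) = p
  rw [MvPolynomial.algebraMap_eq]
  exact (deg_zero_eq_C k hp).symm

end


/-- For a field k the projective line over k is not an affine scheme. (The projective line is taken here
as Proj of the polynomial ring in two variables over k with its standard grading; the book builds it
by gluing two affine lines and identifies the two constructions later.) -/
theorem result (k : Type u) [Field k] :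
    ¬ IsAffine (CohB1.ProjSpace 1 k) := by
  intro haff
  have haff' : IsAffine (Proj (CohB1.polyGrading 1 k)) := haff
  have hfin : IsFinite (Proj.toSpecZero (CohB1.polyGrading 1 k)) :=
    (IsFinite.iff_isProper_and_isAffineHom).mpr ⟨inferInstance, inferInstance⟩
  have hB := (Proj.toSpecZero (CohB1.polyGrading 1 k)).finite_appTop
  -- compose to get a finite ring hom from `k`
  have h1 : (algebraMap k (CohB1.polyGrading 1 k 0)).Finite :=
    RingHom.Finite.of_surjective _ (algebraMap_zero_surjective k)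
  have h2 : ((Scheme.ΓSpecIso (CommRingCat.of (CohB1.polyGrading 1 k 0))).inv.hom).Finite :=
    RingHom.Finite.of_surjective _
      (ConcreteCategory.bijective_of_isIso
        (Scheme.ΓSpecIso (CommRingCat.of (CohB1.polyGrading 1 k 0))).inv).2
  have h3 := (hB.comp h2).comp h1
  set φ := (((Proj.toSpecZero (CohB1.polyGrading 1 k)).appTop.hom).comp
    ((Scheme.ΓSpecIso (CommRingCat.of (CohB1.polyGrading 1 k 0))).inv.hom)).comp
      (algebraMap k (CohB1.polyGrading 1 k 0)) with hφ
  let _ := φ.toAlgebra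
  have hmf : Module.Finite k Γ(Proj (CohB1.polyGrading 1 k), ⊤) := h3
  have hart : IsArtinianRing Γ(Proj (CohB1.polyGrading 1 k), ⊤) := IsArtinianRing.of_finite k _
  have hT1 : T1Space (PrimeSpectrum Γ(Proj (CohB1.polyGrading 1 k), ⊤)) :=
    ⟨fun x => (PrimeSpectrum.isClosed_singleton_iff_isMaximal x).2
      (IsArtinianRing.isMaximal_of_isPrime x.asIdeal)⟩
  have hT1' : T1Space (Proj (CohB1.polyGrading 1 k)) :=
    (Scheme.homeoOfIso (Proj (CohB1.polyGrading 1 k)).isoSpec).isEmbedding.t1Space
  have hle := (ProjectiveSpectrum.le_iff_mem_closure _ (ptGen k) (ptZero k)).mp (ptGen_le k)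
  have hcl : closure ({ptGen k} : Set (ProjectiveSpectrum (CohB1.polyGrading 1 k))) = {ptGen k} :=
    (T1Space.t1 (X := Proj (CohB1.polyGrading 1 k)) (ptGen k)).closure_eq
  rw [hcl, Set.mem_singleton_iff] at hle
  exact ptGen_ne k hle.symm

end Groth.Agent.S14357
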