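import Groth.Statements.S14362
import Groth.Agent.S14361
import Mathlib.AlgebraicGeometry.Properties
import Mathlib.Tactic

set_option autoImplicit false
universe u
open SchImage

namespace Groth.Agent.S14362

open AlgebraicGeometry CategoryTheory Scheme TopologicalSpace Opposite

/-- Let π : X → Y be a morphism of schemes with X reduced. Then the closed subset underlying the
scheme-theoretic image of π, i.e. the support of its kernel ideal sheaf, is the closure of the image
of π. (The published statement allows, as an alternative to X being reduced, that π be
quasi-compact; this row is the reduced case and assumes no quasi-compactness.) -/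
theorem result (X Y : Scheme.{u}) [IsReduced X]
    (π : X ⟶ Y) :
    (π.ker.support : Set Y) = closure (Set.range π) := by
  apply subset_antisymm
  · intro y hy
    by_contra hcl
    let W : Y.Opens := ⟨(closure (Set.range π))ᶜ, isClosed_closure.isOpen_compl⟩
    have hyW : y ∈ W := hcl
    obtain ⟨_, ⟨U, hU, rfl⟩, hyU, -⟩ :=
      Y.isBasis_affineOpens.exists_subset_of_mem_open (Set.mem_univ y) isOpen_univ
    obtain ⟨s, hsW, hys⟩ := IsAffineOpen.exists_basicOpen_le hU ⟨y, hyW⟩ hyU
    have hker : s ∈ RingHom.ker (π.app U).hom := by
      rw [RingHom.mem_ker]
      apply eq_zero_of_basicOpen_eq_bot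
      rw [← Scheme.preimage_basicOpen]
      ext x
      simp only [Opens.coe_bot, Set.mem_empty_iff_false, iff_false]
      intro hx
      have h1 : π x ∈ W := hsW hx
      exact h1 (subset_closure ⟨x, rfl⟩)
    rw [← Groth.Agent.S14361.result X Y π ⟨U, hU⟩] at hker
    have h2 := (IdealSheafData.mem_support_iff_of_mem (I := π.ker) (U := ⟨U, hU⟩) hyU).mp hy
    rw [Scheme.mem_zeroLocus_iff] at h2
    exact h2 s hker hys
  · rw [(IdealSheafData.support _).isClosed.closure_subset_iff]
    exact π.range_subset_ker_support

end Groth.Agent.S14362
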