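import Groth.Statements.S14363
import Mathlib.Tactic

set_option autoImplicit false
universe u
open CAlg

namespace Groth.Agent.S14363

/-- Let A be a Noetherian ring and 0 → M' → M → M'' → 0 a short exact sequence of A-modules. If a prime
p of A is an associated prime of M'' and is not in the support of M', then p is an associated prime
of M. -/
theorem result (A : Type u) [CommRing A] [IsNoetherianRing A]
    (M' M M'' : Type u) [AddCommGroup M'] [Module A M'] [AddCommGroup M] [Module A M]
    [AddCommGroup M''] [Module A M'']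
    (f : M' →ₗ[A] M) (g : M →ₗ[A] M'') (hf : Function.Injective f) (hg : Function.Surjective g)
    (hfg : Function.Exact f g)
    (p : PrimeSpectrum A) (hp : p.asIdeal ∈ associatedPrimes A M'') (hsupp : p ∉ Module.support A M') :
    p.asIdeal ∈ associatedPrimes A M := by
  classical
  rw [AssociatedPrimes.mem_iff, isAssociatedPrime_iff] at hp ⊢
  obtain ⟨hprime, m'', hm''⟩ := hp
  refine ⟨hprime, ?_⟩
  obtain ⟨m, rfl⟩ := hg m''
  rw [Module.notMem_support_iff'] at hsupp
  obtain ⟨S, hS⟩ := (isNoetherianRing_iff_ideal_fg A).mp inferInstance p.asIdeal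
  have hmem : ∀ a : A, a ∈ p.asIdeal ↔ a • g m = 0 := by
    intro a
    rw [hm'', Submodule.mem_colon_singleton, Submodule.mem_bot]
  -- for each generator pick a preimage and a killer
  have h1 : ∀ a : A, ∃ s : A, s ∉ p.asIdeal ∧ (a ∈ p.asIdeal → s • (a • m) = 0) := by
    intro a
    by_cases ha : a ∈ p.asIdeal
    · have : g (a • m) = 0 := by rw [map_smul]; exact (hmem a).mp ha
      obtain ⟨m', hm'⟩ := (hfg (a • m)).mp this
      obtain ⟨s, hs, hs0⟩ := hsupp m'
      refine ⟨s, hs, fun _ => ?_⟩
      rw [← hm', ← map_smul, hs0, map_zero]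
    · exact ⟨1, fun h => ha (by simpa using p.asIdeal.mul_mem_left a h), fun h => absurd h ha⟩
  choose σ hσ1 hσ2 using h1
  let s : A := ∏ a ∈ S, σ a
  have hs : s ∉ p.asIdeal := by
    intro h
    obtain ⟨a, -, ha⟩ := (Ideal.IsPrime.prod_mem_iff).mp h
    exact hσ1 a ha
  refine ⟨s • m, ?_⟩
  apply le_antisymm
  · rw [← hS, Ideal.span_le]
    intro a haS
    have hap : a ∈ p.asIdeal := by rw [← hS]; exact Ideal.subset_span haS
    simp only [SetLike.mem_coe, Submodule.mem_colon_singleton, Submodule.mem_bot]
    obtain ⟨c, hc⟩ := Finset.dvd_prod_of_mem σ haS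
    change s = σ a * c at hc
    rw [smul_comm, hc, mul_comm, mul_smul, hσ2 a hap, smul_zero]
  · intro a ha
    rw [Submodule.mem_colon_singleton, Submodule.mem_bot] at ha
    have : (a * s) • g m = 0 := by
      rw [mul_smul, ← map_smul, ← map_smul, ha, map_zero]
    have h2 := (hmem (a * s)).mpr this
    exact (hprime.mem_or_mem h2).resolve_right hs

end Groth.Agent.S14363
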