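import Groth.Statements.S1438
import Groth.Agent.H8.AffStratSep

set_option autoImplicit false
universe u
open FlatMor

namespace Groth.Agent.S1438

open AlgebraicGeometry CategoryTheory Limits in
/-- A separated scheme with an open covering by n + 1 affine opens has affine stratification number at
most n: it admits an affine stratification with index set {0, …, n}. -/
theorem result (X : Scheme.{u}) [X.IsSeparated] (n : ℕ) (U : Fin (n + 1) → X.Opens)
    (hU : ∀ i, IsAffineOpen (U i)) (hcov : ⨆ i, U i = ⊤) :
    MoreMor.HasAffineStratification X n := by
  rw [Groth.Agent.H8.hasAffineStratification_iff]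
  exact Groth.Agent.H8.hasStratFin_of_separated_cover U hU hcov

end Groth.Agent.S1438
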