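import Mathlib
import Groth.Statements.S14384

set_option autoImplicit false
universe u
open CAlg

namespace Groth.Agent.S14384

/-- Let V be a discrete valuation ring of characteristic zero with uniformizer ϖ, whose residue field is
perfect of characteristic p > 0, let R be a V-algebra of finite type, x'_1, …, x'_d elements of R
defining a morphism f' from Spec R to affine d-space over V, and n ≥ 0 such that p^n Ω_{f'} vanishes
along the closed fibre, written inside Ω_{R/V} as p^n Ω_{R/V} ⊆ ϖ p^n Ω_{R/V} + Σ_i R dx'_i. If y_1,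
…, y_d lie in the subring of R generated by the p^(n+1)-th powers of elements of R, then the
morphism f = f' + (y_1, …, y_d) has the same property: p^n Ω_{R/V} ⊆ ϖ p^n Ω_{R/V} + Σ_i R d(x'_i +
y_i). -/
theorem result (V : Type u) [CommRing V] [IsDomain V] [IsDiscreteValuationRing V] [CharZero V]
    (ϖ : V) (hϖ : Irreducible ϖ) (p : ℕ) [Fact p.Prime] [CharP (IsLocalRing.ResidueField V) p]
    [PerfectField (IsLocalRing.ResidueField V)]
    (R : Type u) [CommRing R] [Algebra V R] [Algebra.FiniteType V R] (d n : ℕ) (x' : Fin d → R)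
    (hx' : Ideal.span {((p : R)) ^ n} • (⊤ : Submodule R (Ω[R⁄V])) ≤
      Ideal.span {algebraMap V R ϖ * (p : R) ^ n} • (⊤ : Submodule R (Ω[R⁄V])) ⊔
        Submodule.span R (Set.range fun i => KaehlerDifferential.D V R (x' i)))
    (y : Fin d → R) (hy : ∀ i, y i ∈ Subring.closure (Set.range fun r : R => r ^ (p ^ (n + 1)))) :
    Ideal.span {((p : R)) ^ n} • (⊤ : Submodule R (Ω[R⁄V])) ≤
      Ideal.span {algebraMap V R ϖ * (p : R) ^ n} • (⊤ : Submodule R (Ω[R⁄V])) ⊔
        Submodule.span R (Set.range fun i => KaehlerDifferential.D V R (x' i + y i)) := by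
  -- p lies in the maximal ideal, hence is a multiple of ϖ
  have hpmem : (p : V) ∈ IsLocalRing.maximalIdeal V := by
    rw [← IsLocalRing.residue_eq_zero_iff]
    rw [map_natCast]
    exact CharP.cast_eq_zero _ p
  rw [hϖ.maximalIdeal_eq, Ideal.mem_span_singleton] at hpmem
  obtain ⟨u, hu⟩ := hpmem
  have hpR : (p : R) = algebraMap V R ϖ * algebraMap V R u := by
    rw [← map_mul, ← hu, map_natCast]
  set W : Submodule R (Ω[R⁄V]) :=
    Ideal.span {algebraMap V R ϖ * (p : R) ^ n} • (⊤ : Submodule R (Ω[R⁄V])) with hW
  have hWmem : ∀ (ω : Ω[R⁄V]), (algebraMap V R ϖ * (p : R) ^ n) • ω ∈ W := by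
    intro ω
    exact Submodule.smul_mem_smul (Ideal.mem_span_singleton_self _) Submodule.mem_top
  -- the differential of an element of the closure lies in W
  have key : ∀ r ∈ Subring.closure (Set.range fun r : R => r ^ (p ^ (n + 1))),
      KaehlerDifferential.D V R r ∈ W := by
    intro r hr
    induction hr using Subring.closure_induction with
    | mem x hx =>
      obtain ⟨r, rfl⟩ := hx
      rw [Derivation.leibniz_pow]
      have : (p ^ (n + 1) : ℕ) • r ^ (p ^ (n + 1) - 1) • (KaehlerDifferential.D V R) r =
          (algebraMap V R ϖ * (p : R) ^ n) •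
            ((algebraMap V R u * r ^ (p ^ (n + 1) - 1)) • (KaehlerDifferential.D V R) r) := by
        rw [← Nat.cast_smul_eq_nsmul R, smul_smul, smul_smul]
        congr 1
        push_cast
        rw [pow_succ, mul_comm ((p : R) ^ n) (p : R)]
        nth_rewrite 1 [hpR]
        ring
      rw [this]
      exact hWmem _
    | zero => simp
    | one => simp
    | add x y _ _ hx hy => rw [map_add]; exact W.add_mem hx hy
    | neg x _ hx => rw [map_neg]; exact W.neg_mem hx
    | mul x y _ _ hx hy =>
      rw [Derivation.leibniz]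
      exact W.add_mem (W.smul_mem _ hy) (W.smul_mem _ hx)
  refine hx'.trans (sup_le le_sup_left ?_)
  rw [Submodule.span_le]
  rintro _ ⟨i, rfl⟩
  have h1 : KaehlerDifferential.D V R (x' i) =
      KaehlerDifferential.D V R (x' i + y i) - KaehlerDifferential.D V R (y i) := by
    rw [map_add]; abel
  change KaehlerDifferential.D V R (x' i) ∈ _
  rw [h1]
  refine Submodule.sub_mem _ ?_ ?_
  · exact Submodule.mem_sup_right (Submodule.subset_span ⟨i, rfl⟩)
  · exact Submodule.mem_sup_left (key _ (hy i))

end Groth.Agent.S14384
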