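import Groth.Statements.S14386
import Groth.Agent.H63.NodeDerF

set_option autoImplicit false
universe u
open CAlg

namespace Groth.Agent.S14386

/-- Let V be a discrete valuation ring of characteristic zero with uniformizer ϖ and perfect residue
field k, let Q = V[x, y]/(xy − ϖ) be the coordinate ring of the standard semistable node over V and
P its closed point x = y = 0 of the closed fibre, let h ∈ Q with h ∉ (x, y), so that B = Q[1/h] is
the ring of an open neighbourhood of P, and let f ∈ B define a morphism to the affine line over V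
which is étale on the generic fibre: B[1/ϖ] is étale over V[T] via T ↦ f. Then df vanishes
identically on one of the two components x = 0, y = 0 of the closed fibre of Spec B: the
differential of the image of f in Ω_{(B/xB)/V} is zero or the differential of the image of f in
Ω_{(B/yB)/V} is zero. If moreover k has characteristic zero, then f contracts that component and the
morphism is not quasi-finite: V[T] → B, T ↦ f, is not a quasi-finite ring map. -/
theorem result (V : Type u) [CommRing V] [IsDomain V] [IsDiscreteValuationRing V] [CharZero V]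
    [PerfectField (IsLocalRing.ResidueField V)] (ϖ : V) (hϖ : Irreducible ϖ)
    (h : (MvPolynomial (Fin 2) V ⧸ Ideal.span {(MvPolynomial.X 0 * MvPolynomial.X 1 - MvPolynomial.C ϖ : MvPolynomial (Fin 2) V)}))
    (hh : h ∉ Ideal.span ({(Ideal.Quotient.mk (Ideal.span {(MvPolynomial.X 0 * MvPolynomial.X 1 - MvPolynomial.C ϖ : MvPolynomial (Fin 2) V)}) (MvPolynomial.X 0 : MvPolynomial (Fin 2) V)), (Ideal.Quotient.mk (Ideal.span {(MvPolynomial.X 0 * MvPolynomial.X 1 - MvPolynomial.C ϖ : MvPolynomial (Fin 2) V)}) (MvPolynomial.X 1 : MvPolynomial (Fin 2) V))} : Set (MvPolynomial (Fin 2) V ⧸ Ideal.span {(MvPolynomial.X 0 * MvPolynomial.X 1 - MvPolynomial.C ϖ : MvPolynomial (Fin 2) V)})))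
    (f : Localization.Away h)
    (hf : ((algebraMap (Localization.Away h)
        (Localization.Away (algebraMap V (Localization.Away h) ϖ))).comp
          (Polynomial.aeval f : Polynomial V →ₐ[V] Localization.Away h).toRingHom).Etale) :
    (KaehlerDifferential.D V (Localization.Away h ⧸ Ideal.span
        ({algebraMap (MvPolynomial (Fin 2) V ⧸ Ideal.span {(MvPolynomial.X 0 * MvPolynomial.X 1 - MvPolynomial.C ϖ : MvPolynomial (Fin 2) V)}) (Localization.Away h) (Ideal.Quotient.mk (Ideal.span {(MvPolynomial.X 0 * MvPolynomial.X 1 - MvPolynomial.C ϖ : MvPolynomial (Fin 2) V)}) (MvPolynomial.X 0 : MvPolynomial (Fin 2) V))} : Set (Localization.Away h)))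
        (Ideal.Quotient.mk _ f) = 0 ∨
     KaehlerDifferential.D V (Localization.Away h ⧸ Ideal.span
        ({algebraMap (MvPolynomial (Fin 2) V ⧸ Ideal.span {(MvPolynomial.X 0 * MvPolynomial.X 1 - MvPolynomial.C ϖ : MvPolynomial (Fin 2) V)}) (Localization.Away h) (Ideal.Quotient.mk (Ideal.span {(MvPolynomial.X 0 * MvPolynomial.X 1 - MvPolynomial.C ϖ : MvPolynomial (Fin 2) V)}) (MvPolynomial.X 1 : MvPolynomial (Fin 2) V))} : Set (Localization.Away h)))
        (Ideal.Quotient.mk _ f) = 0) ∧
    (CharZero (IsLocalRing.ResidueField V) →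
      ¬ (Polynomial.aeval f : Polynomial V →ₐ[V] Localization.Away h).toRingHom.QuasiFinite) := by
  obtain ⟨d, hdx, hdy⟩ := Groth.Agent.H63.NodeDer.exists_eulerB V ϖ h
  have hspan := Groth.Agent.H63.NodeDer.D_mem_span_B V ϖ h
  have hpx := Groth.Agent.H63.NodeDer.spanB_isPrime V ϖ hϖ h hh 0 1 (by decide)
  have hpy := Groth.Agent.H63.NodeDer.spanB_isPrime V ϖ hϖ h hh 1 0 (by decide)
  have hnx := Groth.Agent.H63.NodeDer.xiB_notMem V ϖ hϖ h hh 0 1 (by decide)
  have hny := Groth.Agent.H63.NodeDer.xiB_notMem V ϖ hϖ h hh 1 0 (by decide)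
  have hdvd := Groth.Agent.H63.NodeDer.dvd_or_dvd V (Localization.Away h) _ _ d hdx hdy hspan
    hpx hpy (Groth.Agent.H63.NodeDer.xiB_regular V ϖ hϖ h 0)
    (Groth.Agent.H63.NodeDer.xiB_regular V ϖ hϖ h 1)
    (Groth.Agent.H63.NodeDer.spanB_pair_ne_top V ϖ hϖ h hh) f
    (algebraMap V (Localization.Away h) ϖ) (Groth.Agent.H63.NodeDer.unif_eq V ϖ h) hf
  have hspan' : ∀ g : Localization.Away h, KaehlerDifferential.D V (Localization.Away h) g ∈
      Submodule.span (Localization.Away h)
        {KaehlerDifferential.D V (Localization.Away h)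
            (algebraMap _ (Localization.Away h) (Groth.Agent.H63.NodeDer.xi V ϖ 1)),
          KaehlerDifferential.D V (Localization.Away h)
            (algebraMap _ (Localization.Away h) (Groth.Agent.H63.NodeDer.xi V ϖ 0))} := fun g => by
    rw [Set.pair_comm]; exact hspan g
  have hdx' : (-d) (algebraMap _ (Localization.Away h) (Groth.Agent.H63.NodeDer.xi V ϖ 1)) =
      algebraMap _ (Localization.Away h) (Groth.Agent.H63.NodeDer.xi V ϖ 1) := by
    rw [Derivation.neg_apply, hdy, neg_neg]
  have hdy' : (-d) (algebraMap _ (Localization.Away h) (Groth.Agent.H63.NodeDer.xi V ϖ 0)) =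
      -algebraMap _ (Localization.Away h) (Groth.Agent.H63.NodeDer.xi V ϖ 0) := by
    rw [Derivation.neg_apply, hdx]
  refine ⟨?_, ?_⟩
  · rcases hdvd with hx | hy
    · left
      exact Groth.Agent.H63.NodeDer.D_mk_eq_zero V (Localization.Away h) _ _ d hdx hdy hspan hpx
        hnx f hx
    · right
      exact Groth.Agent.H63.NodeDer.D_mk_eq_zero V (Localization.Away h) _ _ (-d) hdx' hdy' hspan'
        hpy hny f (by rw [Derivation.neg_apply]; exact (dvd_neg).mpr hy)
  · intro hchar hqf
    have hunit := fun n hn => Groth.Agent.H63.NodeDer.natCast_isUnit V ϖ h n hn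
    rcases hdvd with hx | hy
    · exact Groth.Agent.H63.NodeDer.not_quasiFinite V (Localization.Away h) _ _ d hdx hdy hpx hnx
        hunit f hx hqf
    · exact Groth.Agent.H63.NodeDer.not_quasiFinite V (Localization.Away h) _ _ (-d) hdx' hdy' hpy
        hny hunit f (by rw [Derivation.neg_apply]; exact (dvd_neg).mpr hy) hqf

end Groth.Agent.S14386
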