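import Mathlib
import Groth.Statements.S14388
import Groth.Agent.H72.TruncHom
-- import your own Groth.Agent.* helpers here

set_option autoImplicit false
open CategoryTheory CategoryTheory.Limits
universe w v u
open CohDer

namespace Groth.Agent.S14388

/-- Let A be an abelian category, D(A) its derived category with the canonical t-structure and
truncation functors τ_{≥a}, τ_{<b}, and write τ_[a,b] = τ_{≥a} ∘ τ_{<b+1}, so that τ_[q,q] K is
H^q(K) placed in degree q. Let f : K → K' be a morphism in D(A) and q an integer such that the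
induced maps H^(q-1)(K) → H^(q-1)(K') and H^q(K) → H^q(K') are both zero. Then there is a unique
morphism L : τ_[q,q] K → τ_[q-1,q-1] K' such that τ_[q-1,q](f) : τ_[q-1,q] K → τ_[q-1,q] K' is the
composite of the canonical projection τ_[q-1,q] K → τ_[q,q] K, the morphism L, and the canonical
inclusion τ_[q-1,q-1] K' → τ_[q-1,q] K'. (Under τ_[n,n] ≅ H^n(−)[−n] the morphism L corresponds to a
morphism L_f[−q] : H^q(K)[−q] → H^(q-1)(K')[1−q].) -/
theorem result {C : Type u} [Category.{v} C] [Abelian C]
    [HasDerivedCategory.{w} C] {K K' : DerivedCategory C} (f : K ⟶ K') (q : ℤ)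
    (h₁ : (DerivedCategory.homologyFunctor C (q - 1)).map f = 0)
    (h₂ : (DerivedCategory.homologyFunctor C q).map f = 0) :
    ∃! L : ((DerivedCategory.TStructure.t (C := C)).truncGELT q (q + 1)).obj K ⟶
        ((DerivedCategory.TStructure.t (C := C)).truncGELT (q - 1) q).obj K',
      ((DerivedCategory.TStructure.t (C := C)).truncGELT (q - 1) (q + 1)).map f =
        ((DerivedCategory.TStructure.t (C := C)).natTransTruncGEOfLE (q - 1) q (sub_one_lt q).le).app
            (((DerivedCategory.TStructure.t (C := C)).truncLT (q + 1)).obj K) ≫ L ≫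
          ((DerivedCategory.TStructure.t (C := C)).truncGE (q - 1)).map
            (((DerivedCategory.TStructure.t (C := C)).natTransTruncLTOfLE q (q + 1) (lt_add_one q).le).app K') := by
  classical
  let t := (DerivedCategory.TStructure.t (C := C))
  let TF := t.triangleω₁δ ((q - 1 : ℤ) : EInt) (q : ℤ) ((q + 1 : ℤ)) (by simp) (by simp)
  have hT : TF.obj K ∈ Pretriangulated.distinguishedTriangles :=
    t.triangleω₁δ_distinguished _ _ _ _ _ K
  have hT' : TF.obj K' ∈ Pretriangulated.distinguishedTriangles :=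
    t.triangleω₁δ_distinguished _ _ _ _ _ K'
  have hmor₁ : (TF.obj K').mor₁ = (t.truncGE (q - 1)).map
      ((t.natTransTruncLTOfLE q (q + 1) (lt_add_one q).le).app K') := by
    simp [TF]; rfl
  have hmor₂ : (TF.obj K).mor₂ = (t.natTransTruncGEOfLE (q - 1) q (sub_one_lt q).le).app
      ((t.truncLT (q + 1)).obj K) := by
    simp [TF]; rfl
  have hhom₂ : (TF.map f).hom₂ = (t.truncGELT (q - 1) (q + 1)).map f := by
    simp [TF]
  have hhom₁ : (TF.map f).hom₁ = 0 := by
    have : (TF.map f).hom₁ = (t.truncGELT (q - 1) q).map f := by simp [TF]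
    rw [this]
    exact Groth.Agent.H72.truncGELT_map_eq_zero f (q - 1) q (by omega) h₁
  have hhom₃ : (TF.map f).hom₃ = 0 := by
    have : (TF.map f).hom₃ = (t.truncGELT q (q + 1)).map f := by simp [TF]
    rw [this]
    exact Groth.Agent.H72.truncGELT_map_eq_zero f q (q + 1) rfl h₂
  -- t-structure bounds
  have le₁ : t.IsLE (TF.obj K).obj₁ q := by
    have : t.IsLE ((t.truncGELT (q - 1) q).obj K) (q - 1) := by dsimp; infer_instance
    exact t.isLE_of_le ((t.truncGELT (q - 1) q).obj K) (q - 1) q (by omega)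
  have le₂ : t.IsLE (TF.obj K).obj₂ q := by
    change t.IsLE ((t.truncGELT (q - 1) (q + 1)).obj K) q
    dsimp; infer_instance
  have ge₃ : t.IsGE ((TF.obj K').obj₃⟦(-1 : ℤ)⟧) (q + 1) := by
    have : t.IsGE ((t.truncGELT q (q + 1)).obj K') q := by dsimp; infer_instance
    exact t.isGE_shift ((t.truncGELT q (q + 1)).obj K') q (-1) (q + 1) (by omega)
  have le₁' : t.IsLE ((TF.obj K).obj₁⟦(1 : ℤ)⟧) (q - 2) := by
    have : t.IsLE ((t.truncGELT (q - 1) q).obj K) (q - 1) := by dsimp; infer_instance
    exact t.isLE_shift ((t.truncGELT (q - 1) q).obj K) (q - 1) 1 (q - 2) (by omega)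
  have ge₁ : t.IsGE (TF.obj K').obj₁ (q - 1) := by
    change t.IsGE ((t.truncGELT (q - 1) q).obj K') (q - 1)
    infer_instance
  have inj : ∀ (W : DerivedCategory C) (_ : t.IsLE W q) (g : W ⟶ (TF.obj K').obj₁),
      g ≫ (TF.obj K').mor₁ = 0 → g = 0 := by
    intro W hW g hg
    obtain ⟨h, hh⟩ := Pretriangulated.Triangle.coyoneda_exact₂ _
      (Pretriangulated.inv_rot_of_distTriang _ hT') g hg
    have : h = 0 := t.zero_of_isLE_of_isGE h q (q + 1) (by omega) hW ge₃
    rw [hh, this]
    exact zero_comp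
  have key := Groth.Agent.H72.existsUnique_of_triangle_map (TF.obj K) (TF.obj K') hT hT'
    (TF.map f) hhom₁ hhom₃ (inj _ le₁) (inj _ le₂) (by
      intro g hg
      obtain ⟨h, hh⟩ := Pretriangulated.Triangle.yoneda_exact₃ _ hT g hg
      have : h = 0 := t.zero_of_isLE_of_isGE h (q - 2) (q - 1) (by omega) le₁' ge₁
      rw [hh, this]
      exact comp_zero)
  rw [hhom₂, hmor₁, hmor₂] at key
  exact key

end Groth.Agent.S14388
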