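import Mathlib
import Groth.Statements.S14390
-- import your own Groth.Agent.* helpers here

set_option autoImplicit false
open CategoryTheory CategoryTheory.Limits AlgebraicGeometry Opposite
universe u
open CAlg

namespace Groth.Agent.S14390

/-- Let V be a discrete valuation ring of characteristic zero with uniformizer ϖ, whose residue field is
perfect of characteristic p > 0, and let f : X → Y be a morphism of schemes of finite type over S =
Spec V (structure morphisms p_X = f ≫ p_Y) whose underlying continuous map is closed. Write X_η =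
p_X⁻¹(D(ϖ)) and Y_η = p_Y⁻¹(D(ϖ)) for the generic fibres, open subschemes whose complements are the
closed fibres. Suppose f is η-étale: there is an open U of X containing the closed fibre (U ∪ X_η =
X) such that the restriction of f to U ∩ X_η is étale. Then there is an open W of Y containing the
closed fibre of Y (W ∪ Y_η = Y) such that the restriction of f to f⁻¹(W) ∩ X_η is étale, i.e.
f⁻¹(W)_η → W_η is étale. -/
theorem result (V : Type u) [CommRing V] [IsDomain V]
    [IsDiscreteValuationRing V] [CharZero V] (ϖ : V) (hϖ : Irreducible ϖ) (p : ℕ) [Fact p.Prime]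
    [CharP (IsLocalRing.ResidueField V) p] [PerfectField (IsLocalRing.ResidueField V)]
    {X Y : Scheme.{u}} (pX : X ⟶ Spec (CommRingCat.of V)) (pY : Y ⟶ Spec (CommRingCat.of V))
    [LocallyOfFiniteType pX] [QuasiCompact pX] [LocallyOfFiniteType pY] [QuasiCompact pY]
    (f : X ⟶ Y) (w : f ≫ pY = pX) (hcl : IsClosedMap f.base)
    (hη : ∃ U : X.Opens, U ⊔ pX ⁻¹ᵁ (PrimeSpectrum.basicOpen ϖ : (Spec (CommRingCat.of V)).Opens) = ⊤ ∧
      Etale ((U ⊓ pX ⁻¹ᵁ (PrimeSpectrum.basicOpen ϖ : (Spec (CommRingCat.of V)).Opens)).ι ≫ f)) :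
    ∃ W : Y.Opens, W ⊔ pY ⁻¹ᵁ (PrimeSpectrum.basicOpen ϖ : (Spec (CommRingCat.of V)).Opens) = ⊤ ∧
      Etale ((f ⁻¹ᵁ W ⊓ pX ⁻¹ᵁ (PrimeSpectrum.basicOpen ϖ : (Spec (CommRingCat.of V)).Opens)).ι ≫ f) := by
  obtain ⟨U, hU, hUet⟩ := hη
  set Xη : X.Opens := pX ⁻¹ᵁ (PrimeSpectrum.basicOpen ϖ : (Spec (CommRingCat.of V)).Opens)
    with hXη
  set Yη : Y.Opens := pY ⁻¹ᵁ (PrimeSpectrum.basicOpen ϖ : (Spec (CommRingCat.of V)).Opens)
    with hYη
  have hZ : IsClosed ((U : Set X)ᶜ) := U.2.isClosed_compl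
  have hfZ : IsClosed (f.base '' ((U : Set X)ᶜ)) := hcl _ hZ
  let W : Y.Opens := ⟨(f.base '' ((U : Set X)ᶜ))ᶜ, hfZ.isOpen_compl⟩
  have hmemW : ∀ y : Y, y ∈ W ↔ y ∉ f.base '' ((U : Set X)ᶜ) := fun y => Iff.rfl
  have hXηY : ∀ x : X, x ∈ Xη ↔ f.base x ∈ Yη := by
    intro x
    have h1 : pX.base x = pY.base (f.base x) := by
      rw [← w]; rfl
    change pX.base x ∈ (PrimeSpectrum.basicOpen ϖ : (Spec (CommRingCat.of V)).Opens) ↔
      pY.base (f.base x) ∈ (PrimeSpectrum.basicOpen ϖ : (Spec (CommRingCat.of V)).Opens)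
    rw [h1]
  refine ⟨W, ?_, ?_⟩
  · rw [eq_top_iff]
    intro y _
    by_cases hy : y ∈ W
    · exact Or.inl hy
    · right
      rw [hmemW, not_not] at hy
      obtain ⟨x, hxU, rfl⟩ := hy
      have hx : x ∈ U ⊔ Xη := by rw [hU]; trivial
      rcases hx with hx | hx
      · exact absurd hx hxU
      · exact (hXηY x).mp hx
  · have hle : f ⁻¹ᵁ W ⊓ Xη ≤ U ⊓ Xη := by
      intro x hx
      refine ⟨?_, hx.2⟩
      by_contra hxU
      have h1 : f.base x ∈ W := hx.1
      rw [hmemW] at h1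
      exact h1 ⟨x, hxU, rfl⟩
    have h2 : (f ⁻¹ᵁ W ⊓ Xη).ι = X.homOfLE hle ≫ (U ⊓ Xη).ι := (X.homOfLE_ι hle).symm
    rw [h2, Category.assoc]
    infer_instance

end Groth.Agent.S14390
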