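import Mathlib
import Groth.Statements.S14397
-- import your own Groth.Agent.* helpers here

set_option autoImplicit false
universe u
open DualGr

namespace Groth.Agent.S14397

/-- Let (V, E) with endpoint map E → V × V be a finite multigraph (loops and parallel edges allowed; the
order of the two endpoints is an auxiliary orientation), and let D_1, …, D_n be finite sets of edges
such that every edge lies outside at least one D_i. For each i let Γ_i be the multigraph obtained by
contracting the edges of D_i, and let H₁(Γ, ℤ) → H₁(Γ_i, ℤ) be the map of cycle lattices (integer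
edge vectors with zero boundary) given by restriction to the surviving edges. Then the map H₁(Γ, ℤ)
→ ⊕_i H₁(Γ_i, ℤ) has torsion-free cokernel. (The published statement is about the connected labelled
dual graph of the closed fibre of a nodal curve, smooth outside a normal crossing divisor with
components D_1, …, D_n, over a Noetherian regular strictly local base; Γ_i is the dual graph of the
fibre over the generic point of D_i, the lattices are identified with the character groups of the
toric parts of the Picard schemes of these fibres, and the map is the generization map of character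
groups; this row states the assertion about cycle lattices, for any finite multigraph, which is what
the argument establishes.) -/
theorem result
    {V E : Type u} [Fintype V] [Fintype E] [DecidableEq V] [DecidableEq E]
    (ends : E → V × V) {n : ℕ} (D : Fin n → Finset E) (hcover : ∀ e : E, ∃ i : Fin n, e ∉ D i) :
    IsAddTorsionFree (((i : Fin n) → ↥(DualGr.cycleLattice (DualGr.ctrEnds ends (D i)))) ⧸
      LinearMap.range (LinearMap.pi fun i : Fin n => DualGr.genMap ends (D i))) := by
  classical
  refine ⟨fun m hn x y hxy => ?_⟩
  induction x using Submodule.Quotient.induction_on with | _ a =>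
  induction y using Submodule.Quotient.induction_on with | _ b =>
  simp only at hxy
  rw [← Submodule.Quotient.mk_smul, ← Submodule.Quotient.mk_smul, Submodule.Quotient.eq,
    ← nsmul_sub] at hxy
  rw [Submodule.Quotient.eq]
  set c := a - b with hc
  obtain ⟨γ, hγ⟩ := hxy
  have hnZ : (m : ℤ) ≠ 0 := by exact_mod_cast hn
  -- pointwise relation
  have hpt : ∀ (i : Fin n) (e : E) (he : e ∉ D i), (m : ℤ) * (c i).1 ⟨e, he⟩ = γ.1 e := by
    intro i e he
    have h1 := congrFun hγ i
    have h2 : ((DualGr.genMap ends (D i) γ : DualGr.cycleLattice (DualGr.ctrEnds ends (D i))) :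
        DualGr.CtrEdge (D i) → ℤ) ⟨e, he⟩ = γ.1 e := rfl
    have h3 : (LinearMap.pi (fun i : Fin n => DualGr.genMap ends (D i)) γ) i =
        DualGr.genMap ends (D i) γ := rfl
    rw [h3] at h1
    rw [← h2, h1]
    simp
  choose idx hidx using hcover
  let γ' : E → ℤ := fun e => (c (idx e)).1 ⟨e, hidx e⟩
  have hγ' : ∀ e, (m : ℤ) * γ' e = γ.1 e := fun e => hpt (idx e) e (hidx e)
  have hsm : (m : ℤ) • γ' = γ.1 := by
    funext e
    simp only [Pi.smul_apply, smul_eq_mul]
    exact hγ' e
  have hmem : γ' ∈ DualGr.cycleLattice ends := by
    change DualGr.boundaryHom ends γ' = 0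
    have h0 : DualGr.boundaryHom ends γ.1 = 0 := γ.2
    rw [← hsm, map_smul] at h0
    exact (smul_eq_zero.mp h0).resolve_left hnZ
  refine ⟨⟨γ', hmem⟩, ?_⟩
  funext i
  apply Subtype.ext
  funext e
  obtain ⟨e, he⟩ := e
  have h1 : ((LinearMap.pi (fun i : Fin n => DualGr.genMap ends (D i)) ⟨γ', hmem⟩) i).1 ⟨e, he⟩
      = γ' e := rfl
  rw [h1]
  have h2 := hpt i e he
  rw [← hγ' e] at h2
  exact (mul_left_cancel₀ hnZ h2).symm

end Groth.Agent.S14397
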