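import Groth.Statements.S14401
import Groth.Agent.H17.StalkComponents2
import Mathlib.AlgebraicGeometry.Noetherian

set_option autoImplicit false
universe u
open CategoryTheory AlgebraicGeometry
open Props

namespace Groth.Agent.S14401

/-- Let X be a Noetherian scheme all of whose local rings are integral domains. Then each irreducible
component of X is an open subset of X, and each point of X lies on exactly one irreducible component
(so the irreducible components of X are pairwise disjoint, open and closed, and coincide with the
connected components). (The published statement assumes X regular and Noetherian; its argument uses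
only that the local rings of X are domains, which is the hypothesis taken here.) -/
theorem result (X : Scheme.{u}) [AlgebraicGeometry.IsNoetherian X]
    (hX : ∀ x : X, IsDomain (X.presheaf.stalk x)) :
    (∀ Z ∈ irreducibleComponents (X : Type u), IsOpen Z) ∧
      ∀ x : X, ∃! Z, Z ∈ irreducibleComponents (X : Type u) ∧ x ∈ Z := by
  have hprime : ∀ x : X, (nilradical (X.presheaf.stalk x)).IsPrime := by
    intro x
    have := hX x
    rw [nilradical_eq_zero]
    exact Ideal.isPrime_bot
  have hdisj := (Groth.Agent.H17.pairwiseDisjoint_irreducibleComponents_iff X).mpr hprime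
  have hfin : (irreducibleComponents (X : Type u)).Finite :=
    TopologicalSpace.NoetherianSpace.finite_irreducibleComponents
  constructor
  · intro Z hZ
    have hcompl : Z = (⋃ Z' ∈ irreducibleComponents (X : Type u) \ {Z}, Z')ᶜ := by
      ext x
      simp only [Set.mem_compl_iff, Set.mem_iUnion, Set.mem_sdiff, Set.mem_singleton_iff,
        exists_prop, not_exists, not_and, and_imp]
      constructor
      · intro hxZ Z' hZ' hne hxZ'
        exact Set.disjoint_left.mp (hdisj hZ hZ' (Ne.symm hne)) hxZ hxZ'
      · intro h
        have hx : x ∈ ⋃₀ irreducibleComponents (X : Type u) := by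
          rw [sUnion_irreducibleComponents]; trivial
        obtain ⟨Z', hZ', hxZ'⟩ := hx
        by_contra hxZ
        have hne : Z' ≠ Z := by
          rintro rfl
          exact hxZ hxZ'
        exact h Z' hZ' hne hxZ'
    rw [hcompl, isOpen_compl_iff]
    exact (hfin.subset Set.sdiff_subset).isClosed_biUnion fun Z' hZ' =>
      isClosed_of_mem_irreducibleComponents Z' hZ'.1
  · intro x
    have hx : x ∈ ⋃₀ irreducibleComponents (X : Type u) := by
      rw [sUnion_irreducibleComponents]; trivial
    obtain ⟨Z, hZ, hxZ⟩ := hx
    refine ⟨Z, ⟨hZ, hxZ⟩, ?_⟩
    rintro Z' ⟨hZ', hxZ'⟩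
    by_contra hne
    exact Set.disjoint_left.mp (hdisj hZ' hZ hne) hxZ' hxZ

end Groth.Agent.S14401
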