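import Mathlib
import Groth.Statements.S14405
-- import your own Groth.Agent.* helpers here

set_option autoImplicit false
open Polynomial
open HilbNum

namespace Groth.Agent.S14405

/-- Let φ be a function from the integers to the rationals and Q a nonzero polynomial with rational
coefficients of degree d such that φ(m) - φ(m-1) = Q(m) for every integer m. Then there is a
polynomial P with rational coefficients, of degree d + 1, such that φ(m) = P(m) for every integer m.
(The explicit form of P in the binomial basis is not part of this statement.) -/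
theorem result (φ : ℤ → ℚ) (d : ℕ) (Q : ℚ[X]) (hQ : Q ≠ 0)
    (hd : Q.natDegree = d) (h : ∀ m : ℤ, φ m - φ (m - 1) = Q.eval (m : ℚ)) :
    ∃ P : ℚ[X], P.natDegree = d + 1 ∧ ∀ m : ℤ, φ m = P.eval (m : ℚ) := by
  classical
  -- the backward difference operator
  let Δ : ℚ[X] →ₗ[ℚ] ℚ[X] := LinearMap.id - taylor (-1 : ℚ)
  have hΔ : ∀ P : ℚ[X], Δ P = P - taylor (-1 : ℚ) P := fun P => rfl
  have hΔeval : ∀ (P : ℚ[X]) (x : ℚ), (Δ P).eval x = P.eval x - P.eval (x - 1) := by
    intro P x
    rw [hΔ, eval_sub, taylor_eval, sub_eq_add_neg x 1]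
  -- Δ lowers the degree
  have hdeg : ∀ P : ℚ[X], P ≠ 0 → (Δ P).degree < P.degree := by
    intro P hP
    rw [hΔ]
    exact degree_sub_lt_left (degree_taylor P (-1)).symm hP (leadingCoeff_taylor _ _).symm
  -- kernel of Δ consists of constants
  have hker : ∀ P : ℚ[X], Δ P = 0 → P = C (P.eval 0) := by
    intro P hP
    have hstep : ∀ k : ℕ, P.eval (k : ℚ) = P.eval 0 := by
      intro k
      induction k with
      | zero => simp
      | succ k ih =>
        have := hΔeval P ((k + 1 : ℕ) : ℚ)
        rw [hP, eval_zero] at this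
        push_cast at this
        rw [add_sub_cancel_right] at this
        push_cast
        rw [← ih]
        linarith
    apply Polynomial.eq_of_infinite_eval_eq
    refine Set.Infinite.mono ?_ (Set.infinite_range_of_injective (Nat.cast_injective (R := ℚ)))
    rintro _ ⟨k, rfl⟩
    simp [hstep k]
  -- g : P ↦ Δ (X * P) on polynomials of degree < d + 1
  have hmaps : ∀ P ∈ degreeLT ℚ (d + 1), Δ (X * P) ∈ degreeLT ℚ (d + 1) := by
    intro P hP
    rw [mem_degreeLT] at hP ⊢
    by_cases hP0 : P = 0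
    · subst hP0
      simp only [mul_zero, map_zero, degree_zero]
      exact WithBot.bot_lt_coe _
    · have hXP : X * P ≠ 0 := mul_ne_zero X_ne_zero hP0
      have h1 := hdeg _ hXP
      refine lt_of_lt_of_le h1 ?_
      rw [degree_eq_natDegree hXP, natDegree_X_mul hP0]
      have : P.natDegree < d + 1 := (natDegree_lt_iff_degree_lt hP0).mpr hP
      exact_mod_cast this
  let mulX : ℚ[X] →ₗ[ℚ] ℚ[X] := LinearMap.mulLeft ℚ X
  let g : degreeLT ℚ (d + 1) →ₗ[ℚ] degreeLT ℚ (d + 1) :=
    (Δ ∘ₗ mulX).restrict hmaps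
  have hg : ∀ P : degreeLT ℚ (d + 1), ((g P : degreeLT ℚ (d + 1)) : ℚ[X]) = Δ (X * (P : ℚ[X])) := fun P => rfl
  have ginj : Function.Injective g := by
    rw [← LinearMap.ker_eq_bot, LinearMap.ker_eq_bot']
    intro P hP
    have h0 : Δ (X * (P : ℚ[X])) = 0 := by rw [← hg, hP]; rfl
    have h1 := hker _ h0
    simp only [eval_mul, eval_X, zero_mul, map_zero] at h1
    have h2 : (P : ℚ[X]) = 0 := by
      rcases mul_eq_zero.mp h1 with h | h
      · exact absurd h X_ne_zero
      · exact h
    exact Subtype.ext h2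
  have gsurj : Function.Surjective g := LinearMap.injective_iff_surjective.mp ginj
  have hQmem : Q ∈ degreeLT ℚ (d + 1) := by
    rw [mem_degreeLT]
    calc Q.degree ≤ (Q.natDegree : WithBot ℕ) := degree_le_natDegree
      _ < ((d + 1 : ℕ) : WithBot ℕ) := by rw [hd]; exact_mod_cast Nat.lt_succ_self d
  obtain ⟨P0, hP0⟩ := gsurj ⟨Q, hQmem⟩
  have hP0' : Δ (X * (P0 : ℚ[X])) = Q := by rw [← hg, hP0]
  set P1 : ℚ[X] := X * (P0 : ℚ[X]) with hP1
  have hP1ne : P1 ≠ 0 := by
    intro h0
    rw [h0, map_zero] at hP0'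
    exact hQ hP0'.symm
  have hP1deg : P1.natDegree = d + 1 := by
    apply le_antisymm
    · have : (P0 : ℚ[X]).degree < ((d + 1 : ℕ) : WithBot ℕ) := mem_degreeLT.mp P0.2
      have hP0ne : (P0 : ℚ[X]) ≠ 0 := by
        intro h0; apply hP1ne; rw [hP1, h0, mul_zero]
      rw [hP1, natDegree_X_mul hP0ne]
      have : (P0 : ℚ[X]).natDegree < d + 1 := (natDegree_lt_iff_degree_lt hP0ne).mpr this
      omega
    · have h1 := hdeg P1 hP1ne
      rw [hP0', degree_eq_natDegree hQ, degree_eq_natDegree hP1ne, hd] at h1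
      have : d < P1.natDegree := by exact_mod_cast h1
      omega
  -- φ - P1 is constant
  let ψ : ℤ → ℚ := fun m => φ m - P1.eval (m : ℚ)
  have hψ : ∀ m : ℤ, ψ m = ψ (m - 1) := by
    intro m
    have h1 := h m
    have h2 := hΔeval P1 (m : ℚ)
    rw [hP0'] at h2
    simp only [ψ]
    push_cast
    linarith
  have hψ0 : ∀ m : ℤ, ψ m = ψ 0 := by
    intro m
    induction m using Int.induction_on with
    | zero => rfl
    | succ i ih =>
      rw [hψ (i + 1), add_sub_cancel_right, ih]
    | pred i ih =>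
      rw [← ih, hψ (-i)]
  refine ⟨P1 + C (ψ 0), ?_, ?_⟩
  · rw [natDegree_add_C, hP1deg]
  · intro m
    rw [eval_add, eval_C, ← hψ0 m]
    simp only [ψ]
    ring

end Groth.Agent.S14405
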