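import Mathlib
import Groth.Statements.S14410
-- import your own Groth.Agent.* helpers here

set_option autoImplicit false
universe u
open CategoryTheory TopologicalSpace
open CohTop

namespace Groth.Agent.S14410

/-- Let X be a topological space and 0 → F₁ → F₂ → F₃ → 0 a short exact sequence of sheaves of abelian
groups on X. If F₁ and F₃ are flasque (every restriction map is surjective), then F₂ is flasque.
(The published statement is for O_X-modules on a ringed space and is an equivalence; this row states
the implication from the outer terms to the middle term, for the underlying abelian sheaves.) -/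
theorem result (X : TopCat.{u})
    (S : ShortComplex (TopCat.Sheaf AddCommGrpCat.{u} X)) (hS : S.ShortExact)
    [S.X₁.IsFlasque] [S.X₃.IsFlasque] : S.X₂.IsFlasque := by
  refine ⟨fun {U V} i => ?_⟩
  refine (AddCommGrpCat.epi_iff_surjective _).mpr (fun s => ?_)
  -- push s to F₃(V) and lift to F₃(U)
  obtain ⟨t, ht⟩ := (AddCommGrpCat.epi_iff_surjective (S.X₃.obj.map i)).mp inferInstance
    (S.g.hom.app V s)
  -- lift t to F₂(U)
  have hepi : Epi (S.g.hom.app (Opposite.op U.unop)) :=
    TopCat.Sheaf.IsFlasque.epi_of_shortExact hS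
  obtain ⟨s', hs'⟩ := (AddCommGrpCat.epi_iff_surjective _).mp hepi t
  -- the difference lies in the kernel of g over V
  have hker : S.g.hom.app (Opposite.op V.unop) (S.X₂.obj.map i s' - s) = 0 := by
    have hnat := S.g.hom.naturality i
    have h1 : S.g.hom.app V (S.X₂.obj.map i s') = S.X₃.obj.map i (S.g.hom.app U s') := by
      rw [← CategoryTheory.comp_apply, ← CategoryTheory.comp_apply, hnat]
    change S.g.hom.app V (S.X₂.obj.map i s' - s) = 0
    rw [map_sub, h1]
    change S.X₃.obj.map i (S.g.hom.app (Opposite.op U.unop) s') - _ = 0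
    rw [hs', ht, sub_self]
  obtain ⟨r, hr⟩ := TopCat.Sheaf.sections_exact_of_left_exact hS.1 hS.2 _ hker
  -- lift r to F₁(U)
  obtain ⟨r', hr'⟩ := (AddCommGrpCat.epi_iff_surjective (S.X₁.obj.map i)).mp inferInstance r
  refine ⟨s' - S.f.hom.app U r', ?_⟩
  have hnat := S.f.hom.naturality i
  have h2 : S.X₂.obj.map i (S.f.hom.app U r') = S.f.hom.app V (S.X₁.obj.map i r') := by
    rw [← CategoryTheory.comp_apply, ← CategoryTheory.comp_apply, hnat]
  rw [map_sub, h2, hr']
  change _ - S.f.hom.app (Opposite.op V.unop) r = s
  rw [hr]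
  abel

end Groth.Agent.S14410
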