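import Groth.Statements.S14412
import Groth.Agent.H81.ExtLoc

set_option autoImplicit false
universe u
open CategoryTheory
open CAlg

namespace Groth.Agent.S14412

open Groth.Agent.H81.ExtLoc in
theorem aux (R : Type u) [CommRing R] [IsNoetherianRing R]
    (S : Submonoid R) (M N : ModuleCat.{u} R) [Module.Finite R M] [Module.Finite R N] (i : ℕ) :
    (∀ y : Abelian.Ext ((ModuleCat.localizedModuleFunctor.{u} S).obj M) ((ModuleCat.localizedModuleFunctor.{u} S).obj N) i,
        ∃ (e : Abelian.Ext M N i) (s : S),
          algebraMap R (Localization S) (s : R) • y = (ModuleCat.localizedModuleFunctor.{u} S).mapExtAddHom M N i e) ∧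
      (∀ e : Abelian.Ext M N i,
        (ModuleCat.localizedModuleFunctor.{u} S).mapExtAddHom M N i e = 0 ↔ ∃ s : S, (s : R) • e = 0) := by
  obtain ⟨hi, hs⟩ := props S M i N
  refine ⟨?_, ?_⟩
  · intro y
    obtain ⟨s, hsS, x, hx⟩ := hs y
    exact ⟨x, ⟨s, hsS⟩, by rw [Functor.mapExtAddHom_apply, hx]⟩
  · intro e
    rw [Functor.mapExtAddHom_apply]
    constructor
    · intro h
      obtain ⟨s, hsS, hse⟩ := hi e h
      exact ⟨⟨s, hsS⟩, hse⟩
    · rintro ⟨s, hse⟩
      have h1 := mapExactFunctor_smul S M N i (s : R) e
      rw [hse] at h1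
      have h2 : (0 : Abelian.Ext M N i).mapExactFunctor (LF S) = 0 :=
        ((LF S).mapExtAddHom M N i).map_zero
      rw [h2] at h1
      have hu : IsUnit (algebraMap R (Localization S) (s : R)) := IsLocalization.map_units _ s
      obtain ⟨u, hu'⟩ := hu
      have h3 : (u⁻¹ : (Localization S)ˣ).1 • ((algebraMap R (Localization S) (s : R)) •
          e.mapExactFunctor (LF S)) = 0 := by rw [← h1, smul_zero]
      rw [smul_smul, ← hu', Units.inv_mul, one_smul] at h3
      exact h3

/-- Let R be a Noetherian commutative ring, S a multiplicative subset of R, and M, N finitely generated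
R-modules. For i ≥ 0 consider the map Ext^i_R(M, N) → Ext^i_{S⁻¹R}(S⁻¹M, S⁻¹N) induced on Ext groups
(computed in the categories of modules) by the exact localization functor M ↦ S⁻¹M. Then this map
exhibits its target as the localization S⁻¹ Ext^i_R(M, N): every element of the target, after
multiplication by some s ∈ S, is the image of an element of Ext^i_R(M, N), and an element of
Ext^i_R(M, N) maps to zero if and only if it is annihilated by some element of S. (Equivalently, the
induced map identifies S⁻¹Ext^i_R(M, N) with Ext^i_{S⁻¹R}(S⁻¹M, S⁻¹N).) -/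
theorem result (R : Type u) [CommRing R] [IsNoetherianRing R]
    (S : Submonoid R) (M N : ModuleCat.{u} R) [Module.Finite R M] [Module.Finite R N] (i : ℕ) :
    (∀ y : Abelian.Ext ((ModuleCat.localizedModuleFunctor.{u} S).obj M) ((ModuleCat.localizedModuleFunctor.{u} S).obj N) i,
        ∃ (e : Abelian.Ext M N i) (s : S),
          algebraMap R (Localization S) (s : R) • y = (ModuleCat.localizedModuleFunctor.{u} S).mapExtAddHom M N i e) ∧
      (∀ e : Abelian.Ext M N i,
        (ModuleCat.localizedModuleFunctor.{u} S).mapExtAddHom M N i e = 0 ↔ ∃ s : S, (s : R) • e = 0) := by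
  exact aux R S M N i

end Groth.Agent.S14412
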