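import Mathlib
import Groth.Statements.S14416
-- import your own Groth.Agent.* helpers here

set_option autoImplicit false
universe u
open scoped TensorProduct
open CAlg

namespace Groth.Agent.S14416

/-- Let B → A be a ring map with A a finitely generated B-module such that for every prime ideal p of B
the fibre κ(p) ⊗_B A has dimension at most one over the residue field κ(p). Then B → A is
surjective. In scheme language: a finite morphism whose degree at every point of the target is 0 or
1 is a closed immersion. (The published statement assumes the two schemes Noetherian; that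
hypothesis plays no role and is dropped here.) -/
theorem result
    (B A : Type u) [CommRing B] [CommRing A] [Algebra B A] [Module.Finite B A]
    (h : ∀ p : PrimeSpectrum B,
      Module.finrank p.asIdeal.ResidueField (p.asIdeal.ResidueField ⊗[B] A) ≤ 1) :
    Function.Surjective (algebraMap B A) := by
  classical
  -- the image of B in A, as a B-submodule
  set N : Submodule B A := LinearMap.range (Algebra.linearMap B A) with hN
  have h1N : (1 : A) ∈ N := ⟨1, by simp⟩
  -- it suffices to show the cokernel vanishes
  suffices hsub : Subsingleton (A ⧸ N) by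
    have hNtop : N = ⊤ := Submodule.Quotient.subsingleton_iff.mp hsub
    intro a
    have : a ∈ N := hNtop ▸ Submodule.mem_top
    obtain ⟨b, hb⟩ := this
    exact ⟨b, hb⟩
  rw [← Module.support_eq_empty_iff (R := B), Set.eq_empty_iff_forall_notMem]
  intro p
  rw [Module.mem_support_iff_nontrivial_residueField_tensorProduct, not_nontrivial_iff_subsingleton]
  set κ := p.asIdeal.ResidueField with hκ
  -- every element of κ ⊗ A is a κ-multiple of 1 ⊗ 1
  have hone : ∀ x : κ ⊗[B] A, ∃ c : κ, c • ((1 : κ) ⊗ₜ[B] (1 : A)) = x := by
    have hp := h p
    rcases Nat.eq_zero_or_pos (Module.finrank κ (κ ⊗[B] A)) with h0 | hpos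
    · have : Subsingleton (κ ⊗[B] A) := Module.finrank_zero_iff.mp h0
      intro x
      exact ⟨0, Subsingleton.elim _ _⟩
    · have h1 : Module.finrank κ (κ ⊗[B] A) = 1 := le_antisymm hp hpos
      have : Nontrivial (κ ⊗[B] A) := Module.nontrivial_of_finrank_pos (R := κ) hpos
      have hne : ((1 : κ) ⊗ₜ[B] (1 : A)) ≠ 0 := by
        rw [← Algebra.TensorProduct.one_def]
        exact one_ne_zero
      exact (finrank_eq_one_iff_of_nonzero' _ hne).mp h1
  -- the map κ ⊗ A → κ ⊗ (A/N) is surjective and kills everything
  have hsurj : Function.Surjective (LinearMap.lTensor κ N.mkQ) :=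
    LinearMap.lTensor_surjective κ N.mkQ_surjective
  refine ⟨fun x y => ?_⟩
  have hzero : ∀ z : κ ⊗[B] (A ⧸ N), z = 0 := by
    intro z
    obtain ⟨w, rfl⟩ := hsurj z
    obtain ⟨c, rfl⟩ := hone w
    rw [TensorProduct.smul_tmul', LinearMap.lTensor_tmul]
    have : N.mkQ (1 : A) = 0 := by
      rw [Submodule.mkQ_apply, Submodule.Quotient.mk_eq_zero]
      exact h1N
    rw [this, TensorProduct.tmul_zero]
  rw [hzero x, hzero y]

end Groth.Agent.S14416
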