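import Mathlib
import Groth.Statements.S14421
-- import your own Groth.Agent.* helpers here

set_option autoImplicit false
universe u v
open CategoryTheory
open HomAlg

namespace Groth.Agent.S14421

/-- Let φ : K → J be a morphism of cochain complexes of modules over a ring which is surjective in
degree p − 1. Then the map induced on cohomology in degree p is surjective if and only if the map
induced on cocycles in degree p is surjective. (Stated for cochain complexes indexed by the
integers; the published statement is for three-term complexes in degrees p − 1, p, p + 1, which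
embed as such complexes.) -/
theorem result {R : Type u} [Ring R]
    (K J : CochainComplex (ModuleCat.{v} R) ℤ) (φ : K ⟶ J) (p : ℤ) [Epi (φ.f (p - 1))] :
    Epi (HomologicalComplex.homologyMap φ p) ↔ Epi (HomologicalComplex.cyclesMap φ p) := by
  constructor
  · intro hH
    rw [epi_iff_surjective_up_to_refinements]
    intro A z
    obtain ⟨A₁, π₁, hπ₁, h₁, fac₁⟩ :=
      surjective_up_to_refinements_of_epi (HomologicalComplex.homologyMap φ p) (z ≫ J.homologyπ p)
    obtain ⟨A₂, π₂, hπ₂, z', fac₂⟩ :=
      surjective_up_to_refinements_of_epi (K.homologyπ p) h₁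
    have h3 : (π₂ ≫ π₁ ≫ z - z' ≫ HomologicalComplex.cyclesMap φ p) ≫ J.homologyπ p = 0 := by
      rw [Preadditive.sub_comp, sub_eq_zero]
      simp only [Category.assoc]
      rw [← HomologicalComplex.homologyπ_naturality, ← reassoc_of% fac₂, fac₁]
    have hc := J.homologyIsCokernel (p - 1) p (by simp)
    obtain ⟨A₃, π₃, hπ₃, j, fac₃⟩ :=
      (Limits.CokernelCofork.IsColimit.comp_π_eq_zero_iff_up_to_refinements hc _).mp h3
    obtain ⟨A₄, π₄, hπ₄, k, fac₄⟩ :=
      surjective_up_to_refinements_of_epi (φ.f (p - 1)) j
    refine ⟨A₄, π₄ ≫ π₃ ≫ π₂ ≫ π₁, inferInstance,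
      π₄ ≫ π₃ ≫ z' + k ≫ K.toCycles (p - 1) p, ?_⟩
    rw [Preadditive.add_comp]
    simp only [Category.assoc]
    have hnat : K.toCycles (p - 1) p ≫ HomologicalComplex.cyclesMap φ p =
        φ.f (p - 1) ≫ J.toCycles (p - 1) p := by
      rw [← cancel_mono (J.iCycles p)]
      simp
    rw [hnat, ← reassoc_of% fac₄, ← fac₃]
    simp only [Preadditive.comp_sub, Category.assoc]
    abel
  · intro hZ
    have h1 : Epi (K.homologyπ p ≫ HomologicalComplex.homologyMap φ p) := by
      rw [HomologicalComplex.homologyπ_naturality]
      infer_instance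
    exact epi_of_epi (K.homologyπ p) _

end Groth.Agent.S14421
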