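import Mathlib
import Groth.Statements.S14426
import Groth.Agent.H72.KoszulDepth
-- import your own Groth.Agent.* helpers here

set_option autoImplicit false
universe u
open Koszul3

namespace Groth.Agent.S14426

open CategoryTheory CategoryTheory.Limits Groth.Agent.H72 Groth.Agent.H15 Groth.Agent.H26

open CategoryTheory CategoryTheory.Limits in
/-- Let (R, m) be a Noetherian local ring, M a nonzero finitely generated R-module and x_1, …, x_n
elements of m generating the ideal a. Then depth(a, M) ≤ n; the Koszul cohomology H^p(x; M) vanishes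
for every p < depth(a, M); and H^r(x; M) is nonzero for r = depth(a, M). (Cohomological indexing
with H^n(x; M) = M/(x)M; in homological indexing this reads H_i = 0 for i > n − r and H_{n−r} ≠ 0.
Koszul complex realised by iterated mapping cones, as in the prelude.) -/
theorem result {R : Type u} [CommRing R] [IsNoetherianRing R] [IsLocalRing R]
    (M : Type u) [AddCommGroup M] [Module R M] [Module.Finite R M] [Nontrivial M]
    (xs : List R) (hxs : ∀ x ∈ xs, x ∈ IsLocalRing.maximalIdeal R) :
    LocCoh.idealDepth (Ideal.span {x | x ∈ xs}) M ≤ xs.length ∧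
      (∀ p : ℕ, (p : ℕ∞) < LocCoh.idealDepth (Ideal.span {x | x ∈ xs}) M → IsZero (CohIII.koszulH xs (ModuleCat.of R M) p)) ∧
      (∀ r : ℕ, LocCoh.idealDepth (Ideal.span {x | x ∈ xs}) M = r → ¬ IsZero (CohIII.koszulH xs (ModuleCat.of R M) r)) := by
  set a : Ideal R := Ideal.span {x | x ∈ xs} with ha
  have hale : a ≤ IsLocalRing.maximalIdeal R := by
    rw [ha, Ideal.span_le]
    exact fun x hx => hxs x hx
  have hne : a • (⊤ : Submodule R M) ≠ ⊤ := by
    intro h
    apply Submodule.top_ne_ideal_smul_of_le_jacobson_annihilator (R := R) (M := M) (I := a) _ h.symm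
    exact hale.trans (IsLocalRing.maximalIdeal_le_jacobson _)
  obtain ⟨rs, -, hreg, hmem, hmax⟩ := exists_maximal_extension a M hne []
    (RingTheory.Sequence.IsWeaklyRegular.nil R M) (by simp)
  have hd := length_eq_idealDepth_of_maximal a M hne rs hreg hmem hmax
  have hb : (-(xs.length : ℤ)) + xs.length = 0 := by omega
  obtain ⟨k1, k2⟩ := KoszulDepth.koszul_depth_aux xs (-(xs.length : ℤ)) hb rs.length M hne hd.symm
  have hle : rs.length ≤ xs.length := by
    by_contra hcon
    push Not at hcon
    apply k2
    rw [← HomologicalComplex.exactAt_iff_isZero_homology]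
    apply HomologicalComplex.ExactAt.of_isZero
    apply KoszulDepth.isZero_X_of_pos
    omega
  refine ⟨?_, ?_, ?_⟩
  · rw [← hd]
    exact_mod_cast hle
  · intro p hp
    rw [← hd] at hp
    have hp' : p < rs.length := by exact_mod_cast hp
    have := k1 ((p : ℤ) - xs.length) (by omega)
    exact this
  · intro r hr
    rw [← hd] at hr
    have hr' : rs.length = r := by exact_mod_cast hr
    subst hr'
    have : (-(xs.length : ℤ)) + (rs.length : ℕ) = (rs.length : ℤ) - xs.length := by omega
    rw [this] at k2
    exact k2

end Groth.Agent.S14426
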