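import Mathlib
import Groth.Statements.S14425
import Groth.Agent.H72.DepthGen
import Groth.Agent.S14426
-- import your own Groth.Agent.* helpers here

set_option autoImplicit false
universe u
open LocCoh

namespace Groth.Agent.S14425

/-- Let (R, m) be a Noetherian local ring, M a nonzero finitely generated R-module and x_1, …, x_n
elements of m generating the ideal a. Then depth(a, M) = n if and only if x_1, …, x_n is an
M-regular sequence (each x_i a non-zero-divisor on M/(x_1, …, x_{i-1})M; the condition (x)M ≠ M is
automatic here). -/
theorem result {R : Type u} [CommRing R] [IsNoetherianRing R] [IsLocalRing R]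
    {M : Type u} [AddCommGroup M] [Module R M] [Module.Finite R M] [Nontrivial M]
    (xs : List R) (hxs : ∀ x ∈ xs, x ∈ IsLocalRing.maximalIdeal R) :
    LocCoh.idealDepth (Ideal.span {x | x ∈ xs}) M = xs.length ↔ RingTheory.Sequence.IsWeaklyRegular M xs := by
  constructor
  · intro h
    exact Groth.Agent.H72.DepthGen.isWeaklyRegular_of_idealDepth_eq M
      (fun ys hys => (Groth.Agent.S14426.result M ys hys).1) xs hxs h
  · intro h
    exact le_antisymm (Groth.Agent.S14426.result M xs hxs).1
      (Groth.Agent.H15.le_idealDepth _ M h (fun r hr => Ideal.subset_span hr))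

end Groth.Agent.S14425
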