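import Mathlib
import Groth.Statements.S14427
import Groth.Agent.H72.PlaneForms
-- import your own Groth.Agent.* helpers here

set_option autoImplicit false
universe u
open CAlgX

namespace Groth.Agent.S14427

/-- Let k be a field and Λ a set of n ≥ 3 nonzero vectors of k^3 which are pairwise linearly
independent, i.e. n distinct k-rational points of the projective plane. Then the space of
homogeneous forms of degree n − 1 in k[x_0, x_1, x_2] vanishing at every point of Λ — the global
sections of I_Λ(n − 1) — has dimension C(n+1, 2) − n over k, the same for all such Λ. (The published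
statement is over an algebraically closed field; this row allows any field and k-rational points,
which is all its argument uses.) -/
theorem result (k : Type u) [Field k] (n : ℕ) (hn : 3 ≤ n)
    (Λ : Finset (Fin 3 → k)) (hcard : Λ.card = n) (h0 : ∀ v ∈ Λ, v ≠ 0)
    (hdist : ∀ v ∈ Λ, ∀ w ∈ Λ, v ≠ w → LinearIndependent k ![v, w]) :
    Module.finrank k ↥(MvPolynomial.homogeneousSubmodule (Fin 3) k (n - 1) ⊓ ⨅ v ∈ Λ, LinearMap.ker (MvPolynomial.aeval v).toLinearMap) = Nat.choose (n + 1) 2 - n := by
  classical
  have key := Groth.Agent.H72.finrank_vanishingForms_of_sep (k := k) (n - 1) Λ ?_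
  · have h2 : n - 1 + 2 = n + 1 := by omega
    rw [h2, hcard] at key
    have : Module.finrank k ↥(Groth.Agent.H72.vanishingForms (n - 1) Λ) =
        Nat.choose (n + 1) 2 - n := by omega
    exact this
  · intro v hv
    have hex : ∀ w ∈ Λ.erase v, ∃ f : (Fin 3 → k) →ₗ[k] k, f w = 0 ∧ f v ≠ 0 := by
      intro w hw
      rw [Finset.mem_erase] at hw
      exact Groth.Agent.H72.exists_functional_sep (h0 w hw.2)
        (hdist v hv w hw.2 (fun h => hw.1 h.symm))
    choose! f hfw hfv using hex
    refine ⟨∏ w ∈ Λ.erase v, Groth.Agent.H72.linForm (f w), ?_, ?_, ?_⟩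
    · have := Groth.Agent.H72.prod_linForm_isHomogeneous (Λ.erase v) f
      rwa [Finset.card_erase_of_mem hv, hcard] at this
    · intro w hw hwv
      rw [Groth.Agent.H72.aeval_prod_linForm]
      exact Finset.prod_eq_zero (Finset.mem_erase.mpr ⟨hwv, hw⟩) (hfw w (Finset.mem_erase.mpr ⟨hwv, hw⟩))
    · rw [Groth.Agent.H72.aeval_prod_linForm]
      exact Finset.prod_ne_zero_iff.mpr fun w hw => hfv w hw

end Groth.Agent.S14427
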