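import Mathlib
import Groth.Statements.S14434
import Groth.Agent.H72.HalfExact
import Groth.Agent.H72.LeftDerivedSES
-- import your own Groth.Agent.* helpers here

set_option autoImplicit false
universe u
open CAlg

namespace Groth.Agent.S14434

open CategoryTheory MonoidalCategory in
/-- Let R be a commutative ring, M an R-module and x ∈ R a non-zero-divisor on R and on M. Then
Tor_i^R(M, R/(x)) = 0 for all i ≥ 1 (Tor computed as the left derived functors of the tensor product
on R-modules). -/
theorem result {R : Type u} [CommRing R] (M : Type u) [AddCommGroup M] [Module R M]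
    (x : R) (hxR : IsSMulRegular R x) (hxM : IsSMulRegular M x) (i : ℕ) (hi : 1 ≤ i) :
    Subsingleton (DRing.Tor R i M (R ⧸ Ideal.span {x})) := by
  have hfg : Function.Exact (LinearMap.lsmul R R x) (Submodule.mkQ (Ideal.span {x})) := by
    intro y
    rw [Submodule.mkQ_apply, Submodule.Quotient.mk_eq_zero, Ideal.mem_span_singleton']
    simp only [Set.mem_range, LinearMap.lsmul_apply, smul_eq_mul]
    constructor
    · rintro ⟨a, rfl⟩; exact ⟨a, mul_comm _ _⟩
    · rintro ⟨a, rfl⟩; exact ⟨a, mul_comm _ _⟩
  have hS := Groth.Agent.H72.HalfExact.shortExact_of_exact (LinearMap.lsmul R R x)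
    (Submodule.mkQ (Ideal.span {x})) (fun a b h => hxR h) (Submodule.mkQ_surjective _) hfg
  have hproj : Projective (ModuleCat.of R R) := inferInstance
  let _ : Projective (ModuleCat.shortComplexOfCompEqZero (LinearMap.lsmul R R x)
    (Submodule.mkQ (Ideal.span {x})) hfg.linearMap_comp_eq_zero).X₁ := hproj
  let _ : Projective (ModuleCat.shortComplexOfCompEqZero (LinearMap.lsmul R R x)
    (Submodule.mkQ (Ideal.span {x})) hfg.linearMap_comp_eq_zero).X₂ := hproj
  have hmono : Mono (((tensoringLeft (ModuleCat.{u} R)).obj (ModuleCat.of R M)).map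
      (ModuleCat.shortComplexOfCompEqZero (LinearMap.lsmul R R x)
        (Submodule.mkQ (Ideal.span {x})) hfg.linearMap_comp_eq_zero).f) := by
    have h1 : (ModuleCat.shortComplexOfCompEqZero (LinearMap.lsmul R R x)
        (Submodule.mkQ (Ideal.span {x})) hfg.linearMap_comp_eq_zero).f =
        x • 𝟙 (ModuleCat.of R R) := by
      ext
      simp
    rw [h1]
    have h2 : ((tensoringLeft (ModuleCat.{u} R)).obj (ModuleCat.of R M)).map
        (x • 𝟙 (ModuleCat.of R R)) = x • 𝟙 _ := by
      change (tensorLeft (ModuleCat.of R M)).map (x • 𝟙 (ModuleCat.of R R)) = x • 𝟙 _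
      rw [Functor.map_smul, CategoryTheory.Functor.map_id]
    rw [h2, ModuleCat.mono_iff_injective]
    intro a b hab
    have hab' : x • a = x • b := hab
    have h3 : x • (TensorProduct.rid R M a) = x • (TensorProduct.rid R M b) := by
      rw [← map_smul, ← map_smul, hab']
    exact (TensorProduct.rid R M).injective (hxM h3)
  have hz := Groth.Agent.H72.isZero_leftDerived_of_shortExact_projective
    ((tensoringLeft (ModuleCat.{u} R)).obj (ModuleCat.of R M)) hS hmono i hi
  exact ModuleCat.subsingleton_of_isZero hz

end Groth.Agent.S14434
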