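import Mathlib
import Groth.Statements.S14436
-- import your own Groth.Agent.* helpers here

set_option autoImplicit false
universe u
open CAlg

namespace Groth.Agent.S14436

/-- Let L/K be a finitely generated field extension which is separable in the sense that it has a
transcendence basis a_1, …, a_n over which L is a (finite) separable extension of K(a_1, …, a_n).
Then dim_L Ω_{L/K} = n, the transcendence degree of L over K. -/
theorem result (K L : Type u) [Field K] [Field L] [Algebra K L]
    (hfg : ∃ s : Finset L, IntermediateField.adjoin K (s : Set L) = ⊤)
    (n : ℕ) (a : Fin n → L) (ha : IsTranscendenceBasis K a)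
    (hsep : Algebra.IsSeparable ↥(IntermediateField.adjoin K (Set.range a)) L) :
    Module.finrank L (Ω[L⁄K]) = n := by
  classical
  have hx : AlgebraicIndependent K a := ha.1
  -- the intermediate field F = K(a)
  let F := IntermediateField.adjoin K (Set.range a)
  let P := MvPolynomial (Fin n) K
  let a' : Fin n → F := fun i => ⟨a i, IntermediateField.subset_adjoin K _ (Set.mem_range_self i)⟩
  let algPF : Algebra P F := (MvPolynomial.aeval a' : P →ₐ[K] F).toRingHom.toAlgebra
  have halg : ∀ p : P, algebraMap P F p = MvPolynomial.aeval a' p := fun p => rfl
  have : IsScalarTower K P F := IsScalarTower.of_algebraMap_eq fun r => by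
    rw [halg, MvPolynomial.algebraMap_eq, MvPolynomial.aeval_C]
  -- the K-algebra equivalence is P-linear
  have hcoe : ∀ p : P, ((MvPolynomial.aeval a' p : F) : L) = MvPolynomial.aeval a p := by
    intro p
    have h1 : ((MvPolynomial.aeval a' p : F) : L) =
        (IntermediateField.val F) (MvPolynomial.aeval a' p) := rfl
    rw [h1, MvPolynomial.comp_aeval_apply]
    rfl
  let e : FractionRing P ≃ₐ[P] F :=
    AlgEquiv.ofRingEquiv (f := hx.aevalEquivField.toRingEquiv) (fun p => by
      apply Subtype.ext
      rw [halg, hcoe]
      exact hx.aevalEquivField_algebraMap_apply_coe p)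
  have : IsLocalization (nonZeroDivisors P) F :=
    IsLocalization.isLocalization_of_algEquiv (nonZeroDivisors P) e
  -- rank of Ω[F/K]
  have h1 : Module.finrank F (Ω[F⁄K]) = n := by
    have := Module.finrank_of_isLocalizedModule_of_free F (nonZeroDivisors P)
      (KaehlerDifferential.map K K P F)
    rw [this, Module.finrank_eq_card_basis (KaehlerDifferential.mvPolynomialBasis K (Fin n)),
      Fintype.card_fin]
  -- pass to L
  have : Algebra.FormallyEtale F L := Algebra.FormallyEtale.of_isSeparable F L
  have e2 := KaehlerDifferential.tensorKaehlerEquivOfFormallyEtale K F L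
  rw [← e2.finrank_eq, Module.finrank_baseChange, h1]

end Groth.Agent.S14436
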