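import Groth.Statements.S14440
import Groth.Agent.H59.GrCM

set_option autoImplicit false
universe u
open ProjDeg

namespace Groth.Agent.S14440

open MvPolynomial Groth.Agent.H59.GrHilb Groth.Agent.H59.GrHilbPoly Groth.Agent.H59.GrCM

attribute [local instance] MvPolynomial.weightedGradedAlgebra

section aux

variable {k : Type u} [Field k] {N : ℕ}

/-- the Hilbert function as a difference of dimensions. -/
lemma hilb_eq_sub (δ : Fin N → ℕ) (hδ : ∀ i, 0 < δ i) (I : Ideal (MvPolynomial (Fin N) k)) (m : ℕ) :
    hilb (weightedHomogeneousSubmodule k δ) I m =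
      Module.finrank k (weightedHomogeneousSubmodule k δ m) -
        Module.finrank k ↥(I.restrictScalars k ⊓ weightedHomogeneousSubmodule k δ m) := by
  have hfin : Module.Finite k (weightedHomogeneousSubmodule k δ m) := finite_piece δ hδ m
  set φ : MvPolynomial (Fin N) k →ₗ[k] (MvPolynomial (Fin N) k ⧸ I) :=
    (Ideal.Quotient.mkₐ k I).toLinearMap with hφ
  set ψ := φ.domRestrict (weightedHomogeneousSubmodule k δ m) with hψ
  have h1 := LinearMap.finrank_range_add_finrank_ker ψ
  have hrange : LinearMap.range ψ = piece (weightedHomogeneousSubmodule k δ) I m := by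
    unfold piece
    rw [hψ, LinearMap.range_domRestrict]
  have hker : Module.finrank k (LinearMap.ker ψ) =
      Module.finrank k ↥(I.restrictScalars k ⊓ weightedHomogeneousSubmodule k δ m) := by
    have e1 : LinearMap.ker ψ =
        Submodule.comap (weightedHomogeneousSubmodule k δ m).subtype
          (I.restrictScalars k ⊓ weightedHomogeneousSubmodule k δ m) := by
      ext x
      rw [LinearMap.mem_ker, Submodule.mem_comap, Submodule.mem_inf]
      constructor
      · intro hx
        refine ⟨?_, x.2⟩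
        have : Ideal.Quotient.mk I (x : MvPolynomial (Fin N) k) = 0 := hx
        exact Ideal.Quotient.eq_zero_iff_mem.mp this
      · rintro ⟨hx, -⟩
        exact Ideal.Quotient.eq_zero_iff_mem.mpr hx
    rw [e1]
    exact (Submodule.comapSubtypeEquivOfLe (inf_le_right)).finrank_eq
  unfold hilb
  rw [← hrange]
  omega

end aux

/-- Let k be an algebraically closed field and H_1, …, H_n hypersurfaces in P^n given by homogeneous
polynomials f_1, …, f_n of degrees d_1, …, d_n ≥ 1 in S = k[x_0, …, x_n], meeting in finitely many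
points, i.e. S/(f_1, …, f_n) has Krull dimension one. Then the intersection multiplicities of the
H_i at the points of H_1 ∩ ⋯ ∩ H_n add up to d_1 ⋯ d_n; stated here in the form established in the
proof: the Hilbert function of S/(f_1, …, f_n) is eventually the constant Π d_i, i.e. for all large
m, dim_k S_m − dim_k ((f_1, …, f_n) ∩ S_m) = Π d_i (this constant is the degree of O_{H_1} ⊗ ⋯ ⊗
O_{H_n}, the sum of the lengths of its stalks). -/
theorem result (k : Type u) [Field k] [IsAlgClosed k] (n : ℕ)
    (f : Fin n → MvPolynomial (Fin (n + 1)) k) (d : Fin n → ℕ) (hd : ∀ i, 1 ≤ d i)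
    (hf : ∀ i, (f i).IsHomogeneous (d i))
    (hdim : ringKrullDim (MvPolynomial (Fin (n + 1)) k ⧸ Ideal.span (Set.range f)) = 1) :
    ∃ m₀ : ℕ, ∀ m : ℕ, m₀ ≤ m →
      Module.finrank k ↥(MvPolynomial.homogeneousSubmodule (Fin (n + 1)) k m) -
        Module.finrank k ↥((Ideal.span (Set.range f)).restrictScalars k ⊓ MvPolynomial.homogeneousSubmodule (Fin (n + 1)) k m) =
      ∏ i : Fin n, d i := by
  classical
  set δ : Fin (n + 1) → ℕ := fun _ => 1 with hδdef
  have hδ : ∀ i, 0 < δ i := fun _ => Nat.one_pos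
  have hreg : RingTheory.Sequence.IsWeaklyRegular (MvPolynomial (Fin (n + 1)) k) (List.ofFn f) := by
    apply isWeaklyRegular_of_ringKrullDim_le (δ := δ) hδ f d (fun i => hd i) hf
    rw [hdim]
    exact_mod_cast (add_comm 1 n).le
  have hreg' := hreg_of_isWeaklyRegular f hreg
  -- the Hilbert series
  have hH := hilbSeries_span_range (𝒜 := weightedHomogeneousSubmodule k δ) (g := f) (ε := d)
    (finite_piece δ hδ) hf hreg'
  have hH0 := hilbSeries_bot_mul (F := k) δ hδ
  set H := hilbSeries (weightedHomogeneousSubmodule k δ) (Ideal.span (Set.range f)) with hHdef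
  set H0 := hilbSeries (weightedHomogeneousSubmodule k δ)
    (⊥ : Ideal (MvPolynomial (Fin (n + 1)) k)) with hH0def
  -- the polynomial `Q = ∏ (1 + X + ⋯ + X^{d_i - 1})`
  set Qp : Polynomial ℤ := ∏ i : Fin n, ∑ j ∈ Finset.range (d i), (Polynomial.X : Polynomial ℤ) ^ j
    with hQp
  have hgeom : ∀ i : Fin n, (1 - (PowerSeries.X : PowerSeries ℤ) ^ (d i)) =
      (1 - PowerSeries.X) * ∑ j ∈ Finset.range (d i), (PowerSeries.X : PowerSeries ℤ) ^ j := by
    intro i
    rw [mul_comm]
    exact (geom_sum_mul_neg _ _).symm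
  have hQcoe : ((Qp : Polynomial ℤ) : PowerSeries ℤ) =
      ∏ i : Fin n, ∑ j ∈ Finset.range (d i), (PowerSeries.X : PowerSeries ℤ) ^ j := by
    have hc : ((Qp : Polynomial ℤ) : PowerSeries ℤ) = Polynomial.coeToPowerSeries.ringHom Qp := rfl
    rw [hc, hQp, map_prod]
    refine Finset.prod_congr rfl fun i _ => ?_
    rw [map_sum]
    refine Finset.sum_congr rfl fun j _ => ?_
    rw [map_pow]
    congr 1
    exact Polynomial.coe_X
  have hone : (1 - (PowerSeries.X : PowerSeries ℤ)) ≠ 0 := by
    intro h
    have := congrArg (PowerSeries.coeff 0) h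
    simp at this
  have hmain : (1 - PowerSeries.X) * H = ((Qp : Polynomial ℤ) : PowerSeries ℤ) := by
    have h1 : (1 - (PowerSeries.X : PowerSeries ℤ)) ^ (n + 1) * H =
        (1 - PowerSeries.X) ^ n * ((Qp : Polynomial ℤ) : PowerSeries ℤ) := by
      have e1 : ∏ i : Fin (n + 1), (1 - (PowerSeries.X : PowerSeries ℤ) ^ (δ i)) =
          (1 - PowerSeries.X) ^ (n + 1) := by
        simp [hδdef]
      have e2 : ∏ i : Fin n, (1 - (PowerSeries.X : PowerSeries ℤ) ^ (d i)) =
          (1 - PowerSeries.X) ^ n * ((Qp : Polynomial ℤ) : PowerSeries ℤ) := by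
        rw [hQcoe, Finset.prod_congr rfl (fun i _ => hgeom i), Finset.prod_mul_distrib,
          Finset.prod_const, Finset.card_univ, Fintype.card_fin]
      rw [e1] at hH0
      rw [hH, e2]
      linear_combination ((1 - PowerSeries.X) ^ n * ((Qp : Polynomial ℤ) : PowerSeries ℤ)) * hH0
    have h2 : (1 - (PowerSeries.X : PowerSeries ℤ)) ^ n *
        ((1 - PowerSeries.X) * H - ((Qp : Polynomial ℤ) : PowerSeries ℤ)) = 0 := by
      linear_combination h1
    rcases mul_eq_zero.mp h2 with h | h
    · exact absurd (pow_eq_zero_iff (n := n) (by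
        intro hn0
        subst hn0
        simp at h) |>.mp h) hone
    · exact sub_eq_zero.mp h
  have hHeq : H = PowerSeries.mk 1 * ((Qp : Polynomial ℤ) : PowerSeries ℤ) := by
    have := PowerSeries.mk_one_mul_one_sub_eq_one ℤ
    calc H = (PowerSeries.mk 1 * (1 - PowerSeries.X)) * H := by rw [this, one_mul]
      _ = PowerSeries.mk 1 * ((1 - PowerSeries.X) * H) := by ring
      _ = _ := by rw [hmain]
  have heval : Qp.eval 1 = ((∏ i : Fin n, d i : ℕ) : ℤ) := by
    rw [hQp, Polynomial.eval_prod, Nat.cast_prod]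
    refine Finset.prod_congr rfl fun i _ => ?_
    rw [Polynomial.eval_finsetSum]
    simp
  refine ⟨Qp.natDegree, fun m hm => ?_⟩
  have hcoeff : PowerSeries.coeff m H = ((∏ i : Fin n, d i : ℕ) : ℤ) := by
    rw [hHeq, mul_comm, PowerSeries.coeff_mul, Finset.Nat.sum_antidiagonal_eq_sum_range_succ_mk, ← heval,
      Polynomial.eval_eq_sum_range' (Nat.lt_succ_of_le hm)]
    refine Finset.sum_congr rfl fun j _ => ?_
    simp
  have hhilb : PowerSeries.coeff m H =
      (hilb (weightedHomogeneousSubmodule k δ) (Ideal.span (Set.range f)) m : ℤ) := by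
    rw [hHdef]
    unfold hilbSeries
    rw [PowerSeries.coeff_mk]
  rw [hhilb] at hcoeff
  have h3 : hilb (weightedHomogeneousSubmodule k δ) (Ideal.span (Set.range f)) m =
      ∏ i : Fin n, d i := by exact_mod_cast hcoeff
  rw [← h3, hilb_eq_sub δ hδ]
  rfl

end Groth.Agent.S14440
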