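import Mathlib
import Groth.Statements.S14442
-- import your own Groth.Agent.* helpers here

set_option autoImplicit false
universe u
open GrNak

namespace Groth.Agent.S14442

/-- Let R be a commutative ℕ-graded ring with irrelevant ideal R_+ = ⊕_{i>0} R_i, M an ℕ-graded R-module
and N a graded submodule of M (closed under taking homogeneous components). If M = R_+ M + N then N
= M. (The published statement is for finitely generated ℤ-graded modules over a graded quotient of a
polynomial ring, whose degrees are then bounded below; stated here for non-negatively graded modules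
over any ℕ-graded commutative ring, where the same lowest-degree argument applies without finite
generation.) -/
theorem result {R : Type u} [CommRing R] {σ : Type u} [SetLike σ R] [AddSubmonoidClass σ R]
    (𝒜 : ℕ → σ) [GradedRing 𝒜]
    {M : Type u} [AddCommGroup M] [Module R M] {τ : Type u} [SetLike τ M] [AddSubmonoidClass τ M]
    (ℳ : ℕ → τ) [DirectSum.Decomposition ℳ] [SetLike.GradedSMul 𝒜 ℳ]
    (N : Submodule R M) (hN : ∀ x ∈ N, ∀ i : ℕ, (DirectSum.decompose ℳ x i : M) ∈ N)
    (h : (HomogeneousIdeal.irrelevant 𝒜).toIdeal • (⊤ : Submodule R M) ⊔ N = ⊤) :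
    N = ⊤ := by
  classical
  -- every homogeneous element lies in N, by strong induction on the degree
  have key : ∀ i : ℕ, ∀ m ∈ ℳ i, m ∈ N := by
    intro i
    induction i using Nat.strong_induction_on with
    | _ i ih =>
    -- components of elements of R₊ • M lie in N
    have L : ∀ x ∈ (HomogeneousIdeal.irrelevant 𝒜).toIdeal • (⊤ : Submodule R M),
        (DirectSum.decompose ℳ x i : M) ∈ N := by
      intro x hx
      refine Submodule.smul_induction_on hx ?_ ?_
      · intro r hr x _
        have hr0 : (DirectSum.decompose 𝒜 r 0 : R) = 0 := by
          have := (HomogeneousIdeal.mem_irrelevant_iff 𝒜 r).mp hr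
          simpa [GradedRing.proj_apply] using this
        have hrsum := DirectSum.sum_support_decompose 𝒜 r
        have hxsum := DirectSum.sum_support_decompose ℳ x
        have : r • x = ∑ a ∈ (DirectSum.decompose 𝒜 r).support,
            ∑ b ∈ (DirectSum.decompose ℳ x).support,
              (DirectSum.decompose 𝒜 r a : R) • (DirectSum.decompose ℳ x b : M) := by
          conv_lhs => rw [← hrsum, ← hxsum]
          rw [Finset.sum_smul]
          refine Finset.sum_congr rfl fun a _ => ?_
          rw [Finset.smul_sum]
        rw [this, DirectSum.decompose_sum, DFinsupp.finsetSum_apply,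
          AddSubmonoidClass.coe_finsetSum]
        refine N.sum_mem fun a _ => ?_
        rw [DirectSum.decompose_sum, DFinsupp.finsetSum_apply,
          AddSubmonoidClass.coe_finsetSum]
        refine N.sum_mem fun b _ => ?_
        have hmem : (DirectSum.decompose 𝒜 r a : R) • (DirectSum.decompose ℳ x b : M) ∈ ℳ (a + b) :=
          SetLike.GradedSMul.smul_mem (A := 𝒜) (B := ℳ) (i := a) (j := b)
            (SetLike.coe_mem _) (SetLike.coe_mem _)
        by_cases hab : a + b = i
        · rw [DirectSum.decompose_of_mem_same ℳ (hab ▸ hmem)]
          rcases Nat.eq_zero_or_pos a with ha | ha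
          · subst ha
            rw [hr0, zero_smul]
            exact N.zero_mem
          · exact N.smul_mem _ (ih b (by omega) _ (SetLike.coe_mem _))
        · rw [DirectSum.decompose_of_mem_ne ℳ hmem hab]
          exact N.zero_mem
      · intro x y hx hy
        rw [DirectSum.decompose_add, DirectSum.add_apply, AddMemClass.coe_add]
        exact N.add_mem hx hy
    intro m hm
    have hmtop : m ∈ (HomogeneousIdeal.irrelevant 𝒜).toIdeal • (⊤ : Submodule R M) ⊔ N := by
      rw [h]; exact Submodule.mem_top
    obtain ⟨x, hx, n, hn, rfl⟩ := Submodule.mem_sup.mp hmtop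
    have h1 : (DirectSum.decompose ℳ (x + n) i : M) = x + n :=
      DirectSum.decompose_of_mem_same ℳ hm
    rw [← h1, DirectSum.decompose_add, DirectSum.add_apply, AddMemClass.coe_add]
    exact N.add_mem (L x hx) (hN n hn i)
  rw [eq_top_iff]
  intro x _
  rw [← DirectSum.sum_support_decompose ℳ x]
  exact N.sum_mem fun i _ => key i _ (SetLike.coe_mem _)

end Groth.Agent.S14442
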