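import Mathlib
import Groth.Statements.S14447
-- import your own Groth.Agent.* helpers here

set_option autoImplicit false
universe w v u
open AlgGrp

namespace Groth.Agent.S14447

open CategoryTheory CategoryTheory.Limits in
/-- Let C be a category with finite products and with all coproducts indexed by sets, and assume that
for every set I and every object U the canonical arrow ∐_{i∈I} U → (∐_{i∈I} pt) × U, whose i-th
component pairs U → pt → ∐_{i∈I} pt (i-th coprojection) with the identity of U, is an isomorphism.
Then the discrete-object functor from sets to C, I ↦ ∐_{i∈I} pt, preserves finite products. (Sets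
are the types of one fixed universe, the one indexing the coproducts. The published statement asks
only for the coproducts of copies of one object; this row assumes that C has all coproducts indexed
by sets, which Mathlib's discrete-object functor sigmaConst requires.) -/
theorem result {C : Type u} [Category.{v} C]
    [HasFiniteProducts C] [HasCoproducts.{w} C]
    (h : ∀ (I : Type w) (U : C), IsIso (Sigma.desc fun i : I =>
      prod.lift (terminal.from U ≫ Sigma.ι (fun _ : I => ⊤_ C) i) (𝟙 U))) :
    PreservesFiniteProducts (sigmaConst.{w}.obj (⊤_ C)) := by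
  set F : Type w ⥤ C := sigmaConst.{w}.obj (⊤_ C) with hF
  have hFmap : ∀ {I J : Type w} (f : I ⟶ J) (i : I),
      Sigma.ι (fun _ : I => ⊤_ C) i ≫ F.map f = Sigma.ι (fun _ : J => ⊤_ C) (f i) := by
    intro I J f i
    simp [F]
  -- terminal object
  have hterm : PreservesLimitsOfShape (Discrete PEmpty.{1}) F := by
    have hU : Unique (⊤_ (Type w)) := (Types.terminalIso.{w}).toEquiv.unique
    have hT : IsTerminal (F.obj (⊤_ (Type w))) :=
      terminalIsTerminal.ofIso (coproductUniqueIso (fun _ : ⊤_ (Type w) => ⊤_ C)).symm
    have : IsIso (terminalComparison F) := isIso_of_isTerminal hT terminalIsTerminal _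
    have : PreservesLimit (Functor.empty.{0} (Type w)) F := PreservesTerminal.of_iso_comparison F
    exact preservesLimitsOfShape_pempty_of_preservesTerminal F
  -- binary products
  have hbin : PreservesLimitsOfShape (Discrete WalkingPair) F := by
    have key : ∀ {I J : Type w}, IsIso (prodComparison F I J) := by
      intro I J
      -- the maps j ↦ (i, j)
      let t : ∀ i : I, J ⟶ (I ⨯ J : Type w) := fun i => prod.lift (↾fun _ => i) (𝟙 J)
      have ht1 : ∀ (i : I) (j : J), (prod.fst : (I ⨯ J : Type w) ⟶ I) (t i j) = i := by
        intro i j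
        have : t i ≫ (prod.fst : (I ⨯ J : Type w) ⟶ I) = ↾fun _ => i := prod.lift_fst _ _
        exact types_congr_hom this j
      have ht2 : ∀ (i : I) (j : J), (prod.snd : (I ⨯ J : Type w) ⟶ J) (t i j) = j := by
        intro i j
        have : t i ≫ (prod.snd : (I ⨯ J : Type w) ⟶ J) = 𝟙 J := prod.lift_snd _ _
        exact types_congr_hom this j
      have ht3 : ∀ p : (I ⨯ J : Type w),
          t ((prod.fst : (I ⨯ J : Type w) ⟶ I) p) ((prod.snd : (I ⨯ J : Type w) ⟶ J) p) = p := by
        intro p
        apply (Types.binaryProductIso I J).toEquiv.injective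
        apply Prod.ext
        · have := ht1 ((prod.fst : (I ⨯ J : Type w) ⟶ I) p) ((prod.snd : (I ⨯ J : Type w) ⟶ J) p)
          simpa [Types.binaryProductIso_hom_comp_fst] using this
        · have := ht2 ((prod.fst : (I ⨯ J : Type w) ⟶ I) p) ((prod.snd : (I ⨯ J : Type w) ⟶ J) p)
          simpa using this
      let U : C := F.obj J
      let α : (∐ fun _ : I => U) ⟶ F.obj (I ⨯ J : Type w) := Sigma.desc (fun i => F.map (t i))
      let β : F.obj (I ⨯ J : Type w) ⟶ (∐ fun _ : I => U) :=
        Sigma.desc (fun p => Sigma.ι (fun _ : J => ⊤_ C)
          ((prod.snd : (I ⨯ J : Type w) ⟶ J) p) ≫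
            Sigma.ι (fun _ : I => U) ((prod.fst : (I ⨯ J : Type w) ⟶ I) p))
      have hαβ : α ≫ β = 𝟙 _ := by
        apply Sigma.hom_ext
        intro i
        apply Sigma.hom_ext
        intro j
        simp only [α, β, Sigma.ι_desc_assoc, Category.comp_id]
        rw [← Category.assoc, hFmap, Sigma.ι_desc, ht1, ht2]
      have hβα : β ≫ α = 𝟙 _ := by
        apply Sigma.hom_ext
        intro q
        simp only [α, β, Sigma.ι_desc_assoc, Category.assoc, Sigma.ι_desc]
        rw [hFmap, ht3]
        exact (Category.comp_id _).symm
      have hα : IsIso α := ⟨β, hαβ, hβα⟩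
      have hφ := h I U
      have hcomp : α ≫ prodComparison F I J =
          Sigma.desc fun i : I =>
            prod.lift (terminal.from U ≫ Sigma.ι (fun _ : I => ⊤_ C) i) (𝟙 U) := by
        apply Sigma.hom_ext
        intro i
        simp only [α, Sigma.ι_desc_assoc, Sigma.ι_desc]
        apply Limits.prod.hom_ext
        · rw [Category.assoc, prodComparison_fst, prod.lift_fst, ← F.map_comp]
          have h1 : t i ≫ (prod.fst : (I ⨯ J : Type w) ⟶ I) = ↾fun _ => i := prod.lift_fst _ _
          rw [h1]
          apply Sigma.hom_ext
          intro j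
          rw [hFmap]
          have h2 : Sigma.ι (fun _ : J => ⊤_ C) j ≫ terminal.from U = 𝟙 (⊤_ C) :=
            Subsingleton.elim _ _
          rw [← Category.assoc, h2, Category.id_comp]
          rfl
        · rw [Category.assoc, prodComparison_snd, ← F.map_comp]
          have h1 : t i ≫ (prod.snd : (I ⨯ J : Type w) ⟶ J) = 𝟙 J := prod.lift_snd _ _
          rw [h1, F.map_id]
          exact (prod.lift_snd _ _).symm
      have : prodComparison F I J = inv α ≫
          Sigma.desc fun i : I =>
            prod.lift (terminal.from U ≫ Sigma.ι (fun _ : I => ⊤_ C) i) (𝟙 U) := by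
        rw [← hcomp, IsIso.inv_hom_id_assoc]
      rw [this]
      infer_instance
    exact preservesBinaryProducts_of_isIso_prodComparison F
  exact PreservesFiniteProducts.of_preserves_binary_and_terminal F

end Groth.Agent.S14447
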