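import Groth.Statements.S14456
import Groth.Agent.H2.FlatPow

set_option autoImplicit false
universe u
open CAlg

namespace Groth.Agent.S14456

/-- Take a local homomorphism A → B between Noetherian local rings, M a finitely generated B-module and
f an element of the maximal ideal of B. If M/f^(n+1)M is flat over A for every n ≥ 0, then M is flat
over A. -/
theorem result {A B : Type u} [CommRing A] [CommRing B]
    [IsNoetherianRing A] [IsNoetherianRing B] [IsLocalRing A] [IsLocalRing B] [Algebra A B]
    [IsLocalHom (algebraMap A B)] (M : Type u) [AddCommGroup M] [Module B M] [Module A M]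
    [IsScalarTower A B M] [Module.Finite B M] (f : B) (hf : f ∈ IsLocalRing.maximalIdeal B)
    (hflat : ∀ n : ℕ, Module.Flat A (M ⧸ (Ideal.span {f ^ (n + 1)} • (⊤ : Submodule B M)))) :
    Module.Flat A M := by
  rw [Module.Flat.iff_lTensor_injective']
  intro J
  rw [injective_iff_map_eq_zero]
  intro x hx
  have hfin : Module.Finite B (TensorProduct A M J) :=
    Groth.Agent.H2.finite_tensorProduct_of_finite
  have hne : Ideal.span {f} ≠ (⊤ : Ideal B) := by
    intro h
    have h1 : (1 : B) ∈ Ideal.span {f} := by rw [h]; trivial
    have h2 : Ideal.span {f} ≤ IsLocalRing.maximalIdeal B :=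
      (Ideal.span_singleton_le_iff_mem _).2 hf
    exact (Ideal.ne_top_iff_one _).1 (IsLocalRing.maximalIdeal.isMaximal B).ne_top (h2 h1)
  have hkrull := Ideal.iInf_pow_smul_eq_bot_of_isLocalRing (Ideal.span {f})
    (M := TensorProduct A M J) hne
  suffices hx' : x ∈ (⨅ i : ℕ, (Ideal.span {f}) ^ i • ⊤ : Submodule B (TensorProduct A M J)) by
    rw [hkrull] at hx'
    exact (Submodule.mem_bot B).mp hx'
  rw [Submodule.mem_iInf]
  intro i
  cases i with
  | zero => simp
  | succ n =>
    let N : Submodule B M := Ideal.span {f ^ (n + 1)} • (⊤ : Submodule B M)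
    let NA : Submodule A M := N.restrictScalars A
    let q : M →ₗ[A] (M ⧸ N) := N.mkQ.restrictScalars A
    have hq : Function.Surjective q := Submodule.mkQ_surjective N
    have hex : Function.Exact NA.subtype q := by
      intro y
      constructor
      · intro hy
        have : y ∈ N := (Submodule.Quotient.mk_eq_zero N).1 hy
        exact ⟨⟨y, this⟩, rfl⟩
      · rintro ⟨z, rfl⟩
        exact (Submodule.Quotient.mk_eq_zero N).2 z.2
    have hQ : Module.Flat A (M ⧸ N) := hflat n
    have hinj : Function.Injective (LinearMap.lTensor (M ⧸ N) J.subtype) :=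
      Module.Flat.lTensor_preserves_injective_linearMap _ (Submodule.injective_subtype J)
    have hsq : LinearMap.lTensor (M ⧸ N) J.subtype (LinearMap.rTensor J q x) =
        LinearMap.rTensor A q (LinearMap.lTensor M J.subtype x) := by
      rw [← LinearMap.comp_apply, ← LinearMap.comp_apply, LinearMap.lTensor_comp_rTensor,
        LinearMap.rTensor_comp_lTensor]
    rw [hx, map_zero] at hsq
    have hx0 : LinearMap.rTensor J q x = 0 := hinj (by rw [hsq, map_zero])
    have key : ∀ y : TensorProduct A NA J, LinearMap.rTensor J NA.subtype y ∈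
        ((Ideal.span {f}) ^ (n + 1) • ⊤ : Submodule B (TensorProduct A M J)) := by
      intro y
      induction y using TensorProduct.induction_on with
      | zero => simp
      | add a b ha hb =>
        rw [map_add]
        exact Submodule.add_mem _ ha hb
      | tmul m j =>
        obtain ⟨m, hm⟩ := m
        have hm' : ∃ m' : M, f ^ (n + 1) • m' = m := by
          have h0 : m ∈ Ideal.span {f ^ (n + 1)} • (⊤ : Submodule B M) := hm
          rw [Submodule.ideal_span_singleton_smul] at h0
          obtain ⟨m', -, h1⟩ := (Submodule.mem_smul_pointwise_iff_exists _ _ _).1 h0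
          exact ⟨m', h1⟩
        obtain ⟨m', rfl⟩ := hm'
        rw [LinearMap.rTensor_tmul]
        change (f ^ (n + 1) • m') ⊗ₜ[A] j ∈ _
        rw [← TensorProduct.smul_tmul']
        exact Submodule.smul_mem_smul (Ideal.pow_mem_pow (Ideal.mem_span_singleton_self f) _)
          Submodule.mem_top
    obtain ⟨y, rfl⟩ := (rTensor_exact J hex hq x).1 hx0
    exact key y

end Groth.Agent.S14456
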