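import Mathlib
import Groth.Statements.S14457
import Groth.Agent.H72.AdjoinRootEtale
-- import your own Groth.Agent.* helpers here

set_option autoImplicit false
universe u
open CAlg

namespace Groth.Agent.S14457

open Polynomial in
/-- Let A be a commutative ring, a an element of A and n ≥ 1 an integer. The A-algebra A[T]/(T^n − a) is
etale exactly when either n = 1 or the product n·a is a unit of A. (The exponent n is a positive
integer here; for n = 0 the quotient is (A/(1 − a))[T] and the equivalence fails.) -/
theorem result (A : Type u) [CommRing A] (a : A) (n : ℕ) (hn : 1 ≤ n) :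
    Algebra.Etale A (AdjoinRoot ((X : A[X]) ^ n - C a)) ↔ n = 1 ∨ IsUnit ((n : A) * a) := by
  set f : A[X] := X ^ n - C a with hf
  have hmonic : f.Monic := monic_X_pow_sub_C a (by omega)
  have hder : derivative f = C (n : A) * X ^ (n - 1) := by
    rw [hf, derivative_sub, derivative_X_pow, derivative_C, sub_zero]
  constructor
  · intro hE
    by_cases h1 : n = 1
    · exact Or.inl h1
    right
    have hn2 : 2 ≤ n := by omega
    rcases subsingleton_or_nontrivial A with hS | hN
    · exact isUnit_of_subsingleton _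
    have hU := Groth.Agent.H72.isUnit_aeval_root_derivative_of_formallyUnramified f
    rw [hder] at hU
    simp only [map_mul, aeval_C, map_pow, aeval_X] at hU
    set r := AdjoinRoot.root f with hr0
    have hU1 : IsUnit (algebraMap A (AdjoinRoot f) (n : A)) := isUnit_of_mul_isUnit_left hU
    have hU2 : IsUnit (r ^ (n - 1)) := isUnit_of_mul_isUnit_right hU
    have hU3 : IsUnit r := (isUnit_pow_iff (by omega)).mp hU2
    have hr : r ^ n = algebraMap A (AdjoinRoot f) a := by
      have h0 : aeval r f = 0 := by rw [hr0, AdjoinRoot.aeval_eq, AdjoinRoot.mk_self]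
      have h0' : aeval r (X ^ n - C a : A[X]) = 0 := h0
      simp only [map_sub, map_pow, aeval_X, aeval_C] at h0'
      exact sub_eq_zero.mp h0'
    have hU4 : IsUnit (algebraMap A (AdjoinRoot f) ((n : A) * a)) := by
      rw [map_mul, ← hr]
      exact hU1.mul (hU3.pow n)
    refine Groth.Agent.H72.isUnit_of_isUnit_algebraMap_adjoinRoot f hmonic ?_ _ hU4
    rw [hf, natDegree_X_pow_sub_C]; omega
  · rintro (h1 | hU)
    · subst h1
      apply Groth.Agent.H72.etale_adjoinRoot_of_derivative f hmonic 1 0
      rw [hder]; simp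
    · obtain ⟨u, hu⟩ := hU
      obtain ⟨m, rfl⟩ : ∃ m, n = m + 1 := ⟨n - 1, by omega⟩
      apply Groth.Agent.H72.etale_adjoinRoot_of_derivative f hmonic (C (↑u⁻¹ : A) * X)
        (- C (↑u⁻¹ : A) * C ((m + 1 : ℕ) : A))
      rw [hder, hf]
      simp only [Nat.add_sub_cancel]
      calc C ((m + 1 : ℕ) : A) * X ^ m * (C (↑u⁻¹ : A) * X) +
            (X ^ (m + 1) - C a) * (-C (↑u⁻¹ : A) * C ((m + 1 : ℕ) : A))
          = C (↑u⁻¹ : A) * (C ((m + 1 : ℕ) : A) * C a) := by ring
        _ = C ((↑u⁻¹ : A) * (((m + 1 : ℕ) : A) * a)) := by rw [C_mul, C_mul]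
        _ = 1 := by rw [← hu, Units.inv_mul, C_1]

end Groth.Agent.S14457
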