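import Groth.Statements.S14460
import Groth.Agent.H75.FreeAct

set_option autoImplicit false
universe u
open CategoryTheory CategoryTheory.Limits AlgebraicGeometry
open Pi1

namespace Groth.Agent.S14460

/-- Let Y → X be finite étale with Y nonempty and all geometric fibres of the same cardinality n, and
let a finite group G act on Y over X without fixed points (no point of Y with values in a field is
fixed by a non-identity element). Then G has at most n elements, and it has exactly n elements if
and only if the morphism from the disjoint union of copies of Y indexed by G to Y ×_X Y, given on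
the copy indexed by g by the identity and g, is an isomorphism. (For Y empty the bound fails, since
every finite group acts without fixed points on the empty cover, whose fibres have cardinality 0;
this row assumes Y nonempty.) -/
theorem result {X : Scheme.{u}} (Y : FEt.Cat X)
    [Nonempty ↥Y.left] (n : ℕ)
    (hn : ∀ (Ω : Type u) [Field Ω] [IsSepClosed Ω] (ξ : Spec (CommRingCat.of Ω) ⟶ X), Nat.card (FEt.fiberObj ξ Y) = n)
    (G : Type u) [Group G] [Finite G] (ρ : G →* Aut Y)
    (hfree : ∀ g : G, g ≠ 1 → ∀ (K : Type u) [Field K] (y : Spec (CommRingCat.of K) ⟶ Y.left),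
      y ≫ (ρ g).hom.left ≠ y) :
    Nat.card G ≤ n ∧
      (Nat.card G = n ↔ IsIso (Limits.Sigma.desc fun g : G =>
        pullback.lift (𝟙 Y.left) (ρ g).hom.left
          ((Category.id_comp Y.hom).trans (Over.w (ρ g).hom.hom).symm) : (∐ fun _ : G => Y.left) ⟶ pullback Y.hom Y.hom)) := by
  haveI hfin : IsFinite (Y.hom : Y.left ⟶ X) := Y.prop.1
  haveI het : Etale (Y.hom : Y.left ⟶ X) := Y.prop.2
  have hact : Groth.Agent.H75.FreeAct.IsAct (Y.hom : Y.left ⟶ X)
      (fun g : G => (ρ g).hom.left) := by
    refine ⟨?_, ?_, ?_, hfree⟩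
    · change (ρ 1).hom.left = 𝟙 Y.left
      rw [map_one]
      rfl
    · intro g h
      change (ρ (g * h)).hom.left = (ρ h).hom.left ≫ (ρ g).hom.left
      rw [map_mul]
      rfl
    · intro g
      exact MorphismProperty.Over.w (ρ g).hom
  have hn' : ∀ (Ω : Type u) [Field Ω] [IsAlgClosed Ω] (ξ : Spec (CommRingCat.of Ω) ⟶ X),
      Nat.card {t : Spec (CommRingCat.of Ω) ⟶ Y.left // t ≫ (Y.hom : Y.left ⟶ X) = ξ} = n :=
    fun Ω _ _ ξ => hn Ω ξ
  exact ⟨Groth.Agent.H75.FreeAct.card_le (X := X) (Y := Y.left) hact n hn',
    Groth.Agent.H75.FreeAct.card_eq_iff (X := X) (Y := Y.left) hact n hn'⟩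

end Groth.Agent.S14460
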