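import Groth.Statements.S14461
import Groth.Agent.H75.FEtRestrict2

set_option autoImplicit false
universe u
open CategoryTheory CategoryTheory.Limits AlgebraicGeometry
open Pi1

namespace Groth.Agent.S14461

/-- Let X be a Noetherian scheme and X₀ → X a closed immersion such that, for every finite étale Y → X,
the projection Y ×_X X₀ → Y induces a bijection on connected components. Then restriction of finite
étale covers from X to X₀ is full and faithful. -/
theorem result {X X₀ : Scheme.{u}} [IsNoetherian X]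
    (i : X₀ ⟶ X) [IsClosedImmersion i]
    (h : ∀ Y : FEt.Cat X, Function.Bijective (pullback.fst Y.hom i).continuous.connectedComponentsMap) :
    (FEt.restrict i).Full ∧ (FEt.restrict i).Faithful := by
  constructor
  · constructor
    intro Y Z c
    haveI : IsFinite (Y.hom : Y.left ⟶ X) := Y.prop.1
    haveI : Etale (Y.hom : Y.left ⟶ X) := Y.prop.2
    haveI : IsFinite (Z.hom : Z.left ⟶ X) := Z.prop.1
    haveI : Etale (Z.hom : Z.left ⟶ X) := Z.prop.2
    let Wobj : FEt.Cat X := MorphismProperty.Over.mk ⊤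
      (pullback.fst (Y.hom : Y.left ⟶ X) Z.hom ≫ Y.hom) ⟨inferInstance, inferInstance⟩
    obtain ⟨φ, hφ1, hφ2⟩ := Groth.Agent.H75.FEtRestrict.exists_lift_of_pi0 i
      (Y.hom : Y.left ⟶ X) (Z.hom : Z.left ⟶ X) (h Y).2 (h Wobj).1 c.left
      (MorphismProperty.Over.w c)
    refine ⟨MorphismProperty.Over.homMk φ hφ1 trivial, ?_⟩
    apply MorphismProperty.Over.Hom.ext
    apply pullback.hom_ext
    · refine (pullback.lift_fst _ _ _).trans ?_
      exact hφ2
    · refine (pullback.lift_snd _ _ _).trans ?_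
      exact (MorphismProperty.Over.w c).symm
  · constructor
    intro Y Z φ ψ hφψ
    haveI : IsFinite (Z.hom : Z.left ⟶ X) := Z.prop.1
    haveI : Etale (Z.hom : Z.left ⟶ X) := Z.prop.2
    have h1 : ((FEt.restrict i).map φ).left ≫ pullback.fst (Z.hom : Z.left ⟶ X) i =
        pullback.fst (Y.hom : Y.left ⟶ X) i ≫ φ.left := pullback.lift_fst _ _ _
    have h2 : ((FEt.restrict i).map ψ).left ≫ pullback.fst (Z.hom : Z.left ⟶ X) i =
        pullback.fst (Y.hom : Y.left ⟶ X) i ≫ ψ.left := pullback.lift_fst _ _ _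
    rw [hφψ] at h1
    have h3 := Groth.Agent.H75.FEtRestrict.eq_of_pi0 (Y.hom : Y.left ⟶ X) (Z.hom : Z.left ⟶ X)
      (pullback.fst (Y.hom : Y.left ⟶ X) i) (h Y).2 φ.left ψ.left
      (MorphismProperty.Over.w φ) (MorphismProperty.Over.w ψ) (h1.symm.trans h2)
    exact MorphismProperty.Over.Hom.ext h3

end Groth.Agent.S14461
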