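import Mathlib
import Groth.Statements.S14478
import Groth.Agent.H72.CommonCompl
-- import your own Groth.Agent.* helpers here

set_option autoImplicit false
universe u
open CharCyc

namespace Groth.Agent.S14478

/-- Let V be a finite-dimensional vector space over a field k, let W = V × V^∨ with V^∨ the dual space,
and let T ⊆ W be a subspace with dim T = dim V; put V₁ = V ∩ T, where V sits in W as V × 0. Then
there is a complement V₂ of V₁ in V with the following property: for every injective linear map A₁ :
V₁ → V₁^∨, the map A : V → V^∨ extending A₁ by zero along the decompositions V = V₁ ⊕ V₂ and V^∨ =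
V₁^∨ ⊕ V₂^∨ (so A v = A₁(p v) ∘ p, with p : V → V₁ the projection along V₂) has graph Γ ⊆ W with Γ ∩
T = 0. -/
theorem result (k V : Type u) [Field k] [AddCommGroup V] [Module k V]
    [FiniteDimensional k V] (T : Submodule k (V × Module.Dual k V))
    (hT : Module.finrank k T = Module.finrank k V) :
    ∃ (V₂ : Submodule k V) (h : IsCompl (T.comap (LinearMap.inl k V (Module.Dual k V))) V₂),
      ∀ A₁ : T.comap (LinearMap.inl k V (Module.Dual k V)) →ₗ[k]
          Module.Dual k (T.comap (LinearMap.inl k V (Module.Dual k V))),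
        Function.Injective A₁ →
          LinearMap.graph ((Submodule.projectionOnto _ V₂ h).dualMap ∘ₗ A₁ ∘ₗ
              Submodule.projectionOnto _ V₂ h) ⊓ T = ⊥ := by
  classical
  set V₁ : Submodule k V := T.comap (LinearMap.inl k V (Module.Dual k V)) with hV₁
  set Qd : Submodule k (Module.Dual k V) := T.map (LinearMap.snd k V (Module.Dual k V)) with hQd
  set Qc : Submodule k V := Qd.dualCoannihilator with hQc
  -- dimension count
  have hdim1 : Module.finrank k Qd + Module.finrank k Qc = Module.finrank k V :=
    Subspace.finrank_add_finrank_dualCoannihilator_eq Qd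
  let f : T →ₗ[k] Module.Dual k V := (LinearMap.snd k V (Module.Dual k V)).domRestrict T
  have hrange : LinearMap.range f = Qd := LinearMap.range_domRestrict _ _
  let g : V₁ →ₗ[k] T :=
    LinearMap.codRestrict T ((LinearMap.inl k V (Module.Dual k V)).comp V₁.subtype) (fun v => v.2)
  have hginj : Function.Injective g := by
    intro a b hab
    have h1 : ((g a : T) : V × Module.Dual k V) = ((g b : T) : V × Module.Dual k V) := by
      rw [hab]
    have h2 : ((a : V), (0 : Module.Dual k V)) = ((b : V), (0 : Module.Dual k V)) := h1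
    exact Subtype.ext (Prod.mk.inj h2).1
  have hgrange : LinearMap.range g = LinearMap.ker f := by
    ext x
    constructor
    · rintro ⟨v, rfl⟩
      rw [LinearMap.mem_ker]
      rfl
    · intro hx
      rw [LinearMap.mem_ker] at hx
      have hx2 : (x : V × Module.Dual k V).2 = 0 := hx
      have hmem : (x : V × Module.Dual k V).1 ∈ V₁ := by
        rw [hV₁, Submodule.mem_comap]
        have : (LinearMap.inl k V (Module.Dual k V)) (x : V × Module.Dual k V).1 =
            (x : V × Module.Dual k V) := by
          ext <;> simp [hx2]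
        rw [this]
        exact x.2
      refine ⟨⟨_, hmem⟩, ?_⟩
      apply Subtype.ext
      change ((x : V × Module.Dual k V).1, (0 : Module.Dual k V)) = (x : V × Module.Dual k V)
      ext <;> simp [hx2]
  have hdim2 : Module.finrank k Qd + Module.finrank k V₁ = Module.finrank k V := by
    have h1 := LinearMap.finrank_range_add_finrank_ker (K := k) (V := T) (V₂ := Module.Dual k V) f
    rw [hrange, ← hgrange, LinearMap.finrank_range_of_inj hginj, hT] at h1
    exact h1
  have hdim3 : Module.finrank k V₁ = Module.finrank k Qc := by omega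
  obtain ⟨V₂, hc1, hc2⟩ := Groth.Agent.H72.exists_common_isCompl' V₁ Qc hdim3
  refine ⟨V₂, hc1, ?_⟩
  intro A₁ hA₁
  rw [eq_bot_iff]
  rintro ⟨v, ξ⟩ ⟨hgraph, hzT⟩
  rw [SetLike.mem_coe, LinearMap.mem_graph_iff] at hgraph
  simp only at hgraph
  rw [SetLike.mem_coe] at hzT
  set p := Submodule.projectionOnto V₁ V₂ hc1 with hp
  have hξQ : ξ ∈ Qd := ⟨(v, ξ), hzT, rfl⟩
  have hξ0 : ξ = 0 := by
    ext u
    have hu : u ∈ Qc ⊔ V₂ := by rw [hc2.sup_eq_top]; exact Submodule.mem_top
    obtain ⟨a, ha, b, hb, rfl⟩ := Submodule.mem_sup.mp hu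
    rw [map_add, LinearMap.zero_apply]
    have h1 : ξ a = 0 := (Submodule.mem_dualCoannihilator _).mp ha ξ hξQ
    have h2 : ξ b = 0 := by
      rw [hgraph]
      change (A₁ (p v)) (p b) = 0
      have : p b = 0 := (Submodule.projectionOnto_apply_eq_zero_iff hc1).mpr hb
      rw [this, map_zero]
    rw [h1, h2, add_zero]
  subst hξ0
  have hpv : p v = 0 := by
    have h1 : p.dualMap (A₁ (p v)) = 0 := hgraph.symm
    have h2 : A₁ (p v) = 0 := by
      apply LinearMap.dualMap_injective_of_surjective (Submodule.projectionOnto_surjective hc1)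
      rw [h1, map_zero]
    apply hA₁
    rw [h2, map_zero]
  have hv2 : v ∈ V₂ := (Submodule.projectionOnto_apply_eq_zero_iff hc1).mp hpv
  have hv1 : v ∈ V₁ := by
    rw [hV₁, Submodule.mem_comap]
    exact hzT
  have hv0 : v = 0 := by
    have : v ∈ V₁ ⊓ V₂ := ⟨hv1, hv2⟩
    rw [hc1.inf_eq_bot] at this
    exact (Submodule.mem_bot k).mp this
  subst hv0
  exact Submodule.zero_mem _

end Groth.Agent.S14478
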