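import Mathlib
import Groth.Statements.S14479
-- import your own Groth.Agent.* helpers here

set_option autoImplicit false
universe u
open CharCyc

namespace Groth.Agent.S14479

/-- Let V be a finite-dimensional vector space over a field k. If dim V is even or the characteristic of
k is different from 2, there is a bilinear form B on V such that the bilinear form (v, w) ↦ B(v, w)
+ B(w, v) (B plus its transpose, as a map V → V^∨) is nondegenerate. -/
theorem result (k V : Type u) [Field k] [AddCommGroup V] [Module k V]
    [FiniteDimensional k V] (h : Even (Module.finrank k V) ∨ ringChar k ≠ 2) :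
    ∃ B : LinearMap.BilinForm k V, (B + B.flip).Nondegenerate := by
  classical
  rcases h with h | h
  · -- even dimension: hyperbolic form
    obtain ⟨m, hm⟩ := h
    let b0 : Module.Basis (Fin (Module.finrank k V)) k V := Module.finBasis k V
    let b : Module.Basis (Fin m ⊕ Fin m) k V :=
      b0.reindex ((finCongr hm).trans finSumFinEquiv.symm)
    let B : LinearMap.BilinForm k V :=
      ∑ i : Fin m, LinearMap.BilinForm.linMulLin (b.coord (Sum.inl i)) (b.coord (Sum.inr i))
    have hB : ∀ x y, B x y = ∑ i : Fin m, b.repr x (Sum.inl i) * b.repr y (Sum.inr i) := by
      intro x y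
      simp [B, LinearMap.BilinForm.linMulLin_apply, LinearMap.sum_apply]
    have hS : ∀ x y, (B + B.flip) x y =
        ∑ i : Fin m, (b.repr x (Sum.inl i) * b.repr y (Sum.inr i) +
          b.repr y (Sum.inl i) * b.repr x (Sum.inr i)) := by
      intro x y
      rw [LinearMap.add_apply, LinearMap.add_apply, LinearMap.BilinForm.flip_apply, hB, hB,
        Finset.sum_add_distrib]
    have hsymm : ∀ x y, (B + B.flip) x y = (B + B.flip) y x := by
      intro x y
      rw [hS, hS]
      refine Finset.sum_congr rfl fun i _ => ?_
      ring
    have hleft : ∀ x, (∀ y, (B + B.flip) x y = 0) → x = 0 := by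
      intro x hx
      apply b.repr.injective
      rw [map_zero]
      ext j
      rcases j with j | j
      · have := hx (b (Sum.inr j))
        rw [hS] at this
        simpa [Module.Basis.repr_self, Finsupp.single_apply] using this
      · have := hx (b (Sum.inl j))
        rw [hS] at this
        simpa [Module.Basis.repr_self, Finsupp.single_apply] using this
    refine ⟨B, hleft, ?_⟩
    intro y hy
    exact hleft y (fun x => by rw [hsymm]; exact hy x)
  · -- characteristic not two: the standard dot product
    let b : Module.Basis (Fin (Module.finrank k V)) k V := Module.finBasis k V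
    let B : LinearMap.BilinForm k V :=
      ∑ i, LinearMap.BilinForm.linMulLin (b.coord i) (b.coord i)
    have hB : ∀ x y, B x y = ∑ i, b.repr x i * b.repr y i := by
      intro x y
      simp [B, LinearMap.BilinForm.linMulLin_apply, LinearMap.sum_apply]
    have h2 : (2 : k) ≠ 0 := Ring.two_ne_zero h
    have hS : ∀ x y, (B + B.flip) x y = 2 * ∑ i, b.repr x i * b.repr y i := by
      intro x y
      rw [LinearMap.add_apply, LinearMap.add_apply, LinearMap.BilinForm.flip_apply, hB, hB, two_mul]
      congr 1
      refine Finset.sum_congr rfl fun i _ => ?_
      ring
    have hsymm : ∀ x y, (B + B.flip) x y = (B + B.flip) y x := by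
      intro x y
      rw [hS, hS]
      congr 1
      refine Finset.sum_congr rfl fun i _ => ?_
      ring
    have hleft : ∀ x, (∀ y, (B + B.flip) x y = 0) → x = 0 := by
      intro x hx
      apply b.repr.injective
      rw [map_zero]
      ext j
      have := hx (b j)
      rw [hS] at this
      have h3 : ∑ i, b.repr x i * b.repr (b j) i = b.repr x j := by
        simp [Module.Basis.repr_self, Finsupp.single_apply]
      rw [h3] at this
      simpa [h2] using this
    refine ⟨B, hleft, ?_⟩
    intro y hy
    exact hleft y (fun x => by rw [hsymm]; exact hy x)

end Groth.Agent.S14479
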