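import Mathlib
import Groth.Statements.S14497
import Groth.Agent.H72.MLDiv
-- import your own Groth.Agent.* helpers here

set_option autoImplicit false
universe v u
open IndCof

namespace Groth.Agent.S14497

open CategoryTheory CategoryTheory.Limits

open CategoryTheory CategoryTheory.Limits in
/-- Let B be an object of an abelian category and consider the inverse system, indexed by the positive
integers ordered by divisibility, with every term equal to B and transition map from the m-th to the
n-th term (n ∣ m) given by multiplication by m/n. This system is Mittag-Leffler, i.e. for every n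
the images in the n-th term of the transition maps are eventually constant, if and only if B has a
divisible sub-object B' (multiplication by every positive integer is an epimorphism of B') with B/B'
killed by some positive integer. Moreover such a B' is the largest divisible sub-object of B. -/
theorem result
    {V : Type u} [Category.{v} V] [Abelian V] (B : V) :
    ((∀ n : ℕ, 0 < n → ∃ m : ℕ, 0 < m ∧ n ∣ m ∧ ∀ m' : ℕ, 0 < m' → m ∣ m' →
        imageSubobject ((m' / n) • 𝟙 B) = imageSubobject ((m / n) • 𝟙 B)) ↔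
      ∃ B' : Subobject B, (∀ k : ℕ, 0 < k → Epi (k • 𝟙 (B' : V))) ∧
        ∃ M : ℕ, 0 < M ∧ M • 𝟙 (cokernel B'.arrow) = 0) ∧
    (∀ B' : Subobject B, (∀ k : ℕ, 0 < k → Epi (k • 𝟙 (B' : V))) →
      (∃ M : ℕ, 0 < M ∧ M • 𝟙 (cokernel B'.arrow) = 0) →
      ∀ D : Subobject B, (∀ k : ℕ, 0 < k → Epi (k • 𝟙 (D : V))) → D ≤ B') := by
  refine ⟨⟨?_, ?_⟩, ?_⟩
  · intro h
    obtain ⟨m, hm, -, hm'⟩ := h 1 Nat.one_pos
    refine ⟨imageSubobject (m • 𝟙 B), ?_, m, hm, Groth.Agent.H72.MLDiv.smul_cokernel_image m⟩
    intro k hk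
    apply Groth.Agent.H72.MLDiv.epi_smul_image m k
    have := hm' (k * m) (Nat.mul_pos hk hm) (Dvd.intro_left k rfl)
    rwa [Nat.div_one, Nat.div_one] at this
  · rintro ⟨B', hdiv, M, hM, hM0⟩ n hn
    refine ⟨n * M, Nat.mul_pos hn hM, Dvd.intro M rfl, ?_⟩
    intro m' hm' hdvd
    obtain ⟨t, rfl⟩ := hdvd
    have ht : 0 < t := by
      rcases Nat.eq_zero_or_pos t with h | h
      · subst h; simp at hm'
      · exact h
    have e1 : n * M * t / n = M * t := by
      rw [mul_assoc]; exact Nat.mul_div_cancel_left _ hn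
    have e2 : n * M / n = M := Nat.mul_div_cancel_left _ hn
    rw [e1, e2, Groth.Agent.H72.MLDiv.image_smul_eq B' M (M * t) hM0 (Dvd.intro t rfl)
      (hdiv _ (Nat.mul_pos hM ht)),
      Groth.Agent.H72.MLDiv.image_smul_eq B' M M hM0 dvd_rfl (hdiv _ hM)]
  · rintro B' - ⟨M, hM, hM0⟩ D hD
    exact Groth.Agent.H72.MLDiv.le_of_divisible B' D M hM0 (hD M hM)

end Groth.Agent.S14497
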