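import Mathlib
import Groth.Statements.S14498
-- import your own Groth.Agent.* helpers here

set_option autoImplicit false
universe v u
open AbDiag

namespace Groth.Agent.S14498

open CategoryTheory CategoryTheory.Limits in
/-- In an abelian category, let 0 → F → W → E' → 0 (maps a, b) and 0 → E → W → F' → G → G' → 0 (maps c,
d, e, g) be exact sequences such that the composite F → W → F' is a monomorphism. Then the composite
E → W → E' is a monomorphism, and there is a short exact sequence 0 → Coker(E → E') → Coker(F → F')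
→ Ker(G → G') → 0 whose first map is induced by d (through the quotient map b) and whose second map
is induced by e. -/
theorem result
    {V : Type u} [Category.{v} V] [Abelian V] {F W E' E F' G G' : V}
    (a : F ⟶ W) (b : W ⟶ E') (c : E ⟶ W) (d : W ⟶ F') (e : F' ⟶ G) (g : G ⟶ G')
    [Mono a] [Epi b] (wab : a ≫ b = 0) (hab : (ShortComplex.mk a b wab).Exact)
    [Mono c] (wcd : c ≫ d = 0) (hcd : (ShortComplex.mk c d wcd).Exact)
    (wde : d ≫ e = 0) (hde : (ShortComplex.mk d e wde).Exact)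
    (weg : e ≫ g = 0) (heg : (ShortComplex.mk e g weg).Exact) [Epi g]
    (hmono : Mono (a ≫ d)) :
    Mono (c ≫ b) ∧
      ∃ (φ : cokernel (c ≫ b) ⟶ cokernel (a ≫ d)) (ψ : cokernel (a ≫ d) ⟶ kernel g)
        (w : φ ≫ ψ = 0),
        b ≫ cokernel.π (c ≫ b) ≫ φ = d ≫ cokernel.π (a ≫ d) ∧
        cokernel.π (a ≫ d) ≫ ψ ≫ kernel.ι g = e ∧
        (ShortComplex.mk φ ψ w).ShortExact := by
  -- mono (c ≫ b)
  have hmono : Mono (c ≫ b) := by
    apply Preadditive.mono_of_cancel_zero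
    intro A x hx
    have hx' : (x ≫ c) ≫ b = 0 := by rw [Category.assoc]; exact hx
    obtain ⟨A₁, π₁, hπ₁, y, hy⟩ := hab.exact_up_to_refinements (x ≫ c) hx'
    dsimp at y hy
    have hy2 : y ≫ (a ≫ d) = 0 := by
      rw [← Category.assoc, ← hy, Category.assoc, Category.assoc, wcd, comp_zero, comp_zero]
    have hy0 : y = 0 := by
      rw [← cancel_mono (a ≫ d), hy2, zero_comp]
    rw [hy0, zero_comp] at hy
    have h2 : π₁ ≫ x = 0 := by
      rw [← cancel_mono c, Category.assoc, hy, zero_comp]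
    rw [← cancel_epi π₁, h2, comp_zero]
  refine ⟨hmono, ?_⟩
  -- the map d̄ : E' ⟶ coker (a ≫ d)
  have hk : a ≫ d ≫ cokernel.π (a ≫ d) = 0 := by
    rw [← Category.assoc, cokernel.condition]
  let dbar : E' ⟶ cokernel (a ≫ d) := hab.desc (d ≫ cokernel.π (a ≫ d)) hk
  have hdbar : b ≫ dbar = d ≫ cokernel.π (a ≫ d) := hab.g_desc _ hk
  have hφw : (c ≫ b) ≫ dbar = 0 := by
    rw [Category.assoc, hdbar, ← Category.assoc, wcd, zero_comp]
  let φ : cokernel (c ≫ b) ⟶ cokernel (a ≫ d) := cokernel.desc (c ≫ b) dbar hφw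
  have hφ : cokernel.π (c ≫ b) ≫ φ = dbar := cokernel.π_desc _ _ _
  have hψw : (a ≫ d) ≫ e = 0 := by
    rw [Category.assoc, wde, comp_zero]
  let ψ' : cokernel (a ≫ d) ⟶ G := cokernel.desc (a ≫ d) e hψw
  have hψ' : cokernel.π (a ≫ d) ≫ ψ' = e := cokernel.π_desc _ _ _
  have hψ'g : ψ' ≫ g = 0 := by
    rw [← cancel_epi (cokernel.π (a ≫ d)), ← Category.assoc, hψ', weg, comp_zero]
  let ψ : cokernel (a ≫ d) ⟶ kernel g := kernel.lift g ψ' hψ'g
  have hψ : ψ ≫ kernel.ι g = ψ' := kernel.lift_ι _ _ _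
  have e1 : b ≫ cokernel.π (c ≫ b) ≫ φ = d ≫ cokernel.π (a ≫ d) := by
    rw [hφ, hdbar]
  have e2 : cokernel.π (a ≫ d) ≫ ψ ≫ kernel.ι g = e := by
    rw [hψ, hψ']
  have w : φ ≫ ψ = 0 := by
    rw [← cancel_epi (cokernel.π (c ≫ b)), ← cancel_epi b, ← cancel_mono (kernel.ι g)]
    simp only [Category.assoc, comp_zero, zero_comp]
    rw [reassoc_of% hφ, reassoc_of% hdbar, e2, wde]
  refine ⟨φ, ψ, w, e1, e2, ?_⟩
  -- mono φ
  have hφmono : Mono φ := by
    apply Preadditive.mono_of_cancel_zero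
    intro A x hx
    obtain ⟨A₀, π₀, hπ₀, x₀, hx₀⟩ :=
      surjective_up_to_refinements_of_epi (cokernel.π (c ≫ b)) x
    obtain ⟨A₁, π₁, hπ₁, w₁, hw₁⟩ := surjective_up_to_refinements_of_epi b x₀
    have h1 : (w₁ ≫ d) ≫ cokernel.π (a ≫ d) = 0 := by
      rw [Category.assoc, ← e1, ← reassoc_of% hw₁, ← reassoc_of% hx₀, hx, comp_zero, comp_zero]
    obtain ⟨A₂, π₂, hπ₂, y, hy⟩ :=
      (Limits.CokernelCofork.IsColimit.comp_π_eq_zero_iff_up_to_refinements
        (cokernelIsCokernel (a ≫ d)) (w₁ ≫ d)).mp h1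
    have h2 : (π₂ ≫ w₁ - y ≫ a) ≫ d = 0 := by
      rw [Preadditive.sub_comp, Category.assoc, Category.assoc, hy, sub_self]
    obtain ⟨A₃, π₃, hπ₃, z, hz⟩ := hcd.exact_up_to_refinements _ h2
    dsimp at z hz
    have h3 : (π₃ ≫ π₂ ≫ π₁ ≫ π₀) ≫ x = 0 := by
      simp only [Category.assoc]
      rw [hx₀, reassoc_of% hw₁]
      have h4 : π₃ ≫ π₂ ≫ w₁ = z ≫ c + π₃ ≫ y ≫ a := by
        rw [← hz, Preadditive.comp_sub]
        simp
      rw [reassoc_of% h4, Preadditive.add_comp]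
      simp only [Category.assoc]
      rw [reassoc_of% wab, zero_comp, comp_zero, comp_zero, add_zero]
      have : c ≫ b ≫ cokernel.π (c ≫ b) = 0 := by
        rw [← Category.assoc, cokernel.condition]
      rw [this, comp_zero]
    have : Epi (π₃ ≫ π₂ ≫ π₁ ≫ π₀) := inferInstance
    rw [← cancel_epi (π₃ ≫ π₂ ≫ π₁ ≫ π₀), h3, comp_zero]
  -- epi ψ
  have hψepi : Epi ψ := by
    have h1 : Epi (kernel.lift g e weg) :=
      (ShortComplex.exact_iff_epi_kernel_lift (ShortComplex.mk e g weg)).mp heg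
    have h2 : kernel.lift g e weg = cokernel.π (a ≫ d) ≫ ψ := by
      rw [← cancel_mono (kernel.ι g), kernel.lift_ι, Category.assoc, e2]
    rw [h2] at h1
    exact epi_of_epi (cokernel.π (a ≫ d)) ψ
  -- exactness
  have hex : (ShortComplex.mk φ ψ w).Exact := by
    rw [ShortComplex.exact_iff_exact_up_to_refinements]
    intro A x hx
    dsimp at x hx
    obtain ⟨A₁, π₁, hπ₁, f', hf'⟩ :=
      surjective_up_to_refinements_of_epi (cokernel.π (a ≫ d)) x
    have h1 : f' ≫ e = 0 := by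
      rw [← e2, ← reassoc_of% hf', reassoc_of% hx, zero_comp, comp_zero]
    obtain ⟨A₂, π₂, hπ₂, w₂, hw₂⟩ := hde.exact_up_to_refinements f' h1
    dsimp at w₂ hw₂
    refine ⟨A₂, π₂ ≫ π₁, inferInstance, w₂ ≫ b ≫ cokernel.π (c ≫ b), ?_⟩
    dsimp
    simp only [Category.assoc]
    rw [e1, ← reassoc_of% hw₂, hf']
  exact { exact := hex, mono_f := hφmono, epi_g := hψepi }

end Groth.Agent.S14498
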