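import Mathlib
import Groth.Statements.S14501
import Groth.Agent.H72.LatticeLength
-- import your own Groth.Agent.* helpers here

set_option autoImplicit false
universe u
open IntTh

namespace Groth.Agent.S14501

/-- Take a one-dimensional Noetherian local domain A with fraction field K, V a finite-dimensional
K-vector space and M₁, M₂, M₃ lattices in V (finitely generated A-submodules spanning V over K).
Define the distance d(M, M') as length_A(M/(M ∩ M')) − length_A(M'/(M ∩ M')), with the (finite)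
lengths read as natural numbers. Then d(M₁, M₃) = d(M₁, M₂) + d(M₂, M₃). -/
theorem result (A : Type u) [CommRing A] [IsDomain A] [IsNoetherianRing A]
    [IsLocalRing A] (hA : ringKrullDim A = 1) (K : Type u) [Field K] [Algebra A K]
    [IsFractionRing A K] (V : Type u) [AddCommGroup V] [Module K V] [Module A V]
    [IsScalarTower A K V] [FiniteDimensional K V]
    (M₁ M₂ M₃ : Submodule A V) [Submodule.IsLattice K M₁] [Submodule.IsLattice K M₂]
    [Submodule.IsLattice K M₃] :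
    ((Module.length A (↥M₁ ⧸ (M₁ ⊓ M₃).submoduleOf M₁)).toNat : ℤ) -
        ((Module.length A (↥M₃ ⧸ (M₁ ⊓ M₃).submoduleOf M₃)).toNat : ℤ) =
      (((Module.length A (↥M₁ ⧸ (M₁ ⊓ M₂).submoduleOf M₁)).toNat : ℤ) -
        ((Module.length A (↥M₂ ⧸ (M₁ ⊓ M₂).submoduleOf M₂)).toNat : ℤ)) +
      (((Module.length A (↥M₂ ⧸ (M₂ ⊓ M₃).submoduleOf M₂)).toNat : ℤ) -
        ((Module.length A (↥M₃ ⧸ (M₂ ⊓ M₃).submoduleOf M₃)).toNat : ℤ)) := by
  have hdim : Ring.KrullDimLE 1 A := by
    rw [Ring.krullDimLE_iff, hA]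
    exact le_rfl
  have s1 : Submodule.span K (M₁ : Set V) = ⊤ := Submodule.IsLattice.span_eq_top
  have s2 : Submodule.span K (M₂ : Set V) = ⊤ := Submodule.IsLattice.span_eq_top
  have s3 : Submodule.span K (M₃ : Set V) = ⊤ := Submodule.IsLattice.span_eq_top
  have g1 : M₁.FG := Submodule.IsLattice.fg
  have g2 : M₂.FG := Submodule.IsLattice.fg
  have g3 : M₃.FG := Submodule.IsLattice.fg
  have s0 : Submodule.span K ((M₁ ⊓ M₂ ⊓ M₃ : Submodule A V) : Set V) = ⊤ :=
    Groth.Agent.H72.LatticeLength.span_inf_eq_top K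
      (Groth.Agent.H72.LatticeLength.span_inf_eq_top K s1 s2) s3
  have l1 : M₁ ⊓ M₂ ⊓ M₃ ≤ M₁ := inf_le_left.trans inf_le_left
  have l2 : M₁ ⊓ M₂ ⊓ M₃ ≤ M₂ := inf_le_left.trans inf_le_right
  have l3 : M₁ ⊓ M₂ ⊓ M₃ ≤ M₃ := inf_le_right
  have d13 := Groth.Agent.H72.LatticeLength.dist_eq K s1 s3 g1 g3 s0 l1 l3
  have d12 := Groth.Agent.H72.LatticeLength.dist_eq K s1 s2 g1 g2 s0 l1 l2
  have d23 := Groth.Agent.H72.LatticeLength.dist_eq K s2 s3 g2 g3 s0 l2 l3
  unfold Groth.Agent.H72.LatticeLength.rl at d13 d12 d23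
  rw [d13, d12, d23]
  ring

end Groth.Agent.S14501
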