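import Groth.Statements.S14503
import Groth.Agent.H36.LatticeDist

set_option autoImplicit false
universe u
open IntTh

namespace Groth.Agent.S14503

/-- Let A ⊆ B be a module-finite extension of domains with A Noetherian local of Krull dimension one, K
⊆ L their fraction fields, and r ∈ B nonzero. Then B/rB has finite length as an A-module and
length_A(B/rB) equals the order at the closed point of A of the norm N_{L/K}(r), i.e.
length_A(A/(a)) − length_A(A/(b)) for N_{L/K}(r) = a/b. -/
theorem result (A : Type u) [CommRing A] [IsDomain A]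
    [IsNoetherianRing A] [IsLocalRing A] (hA : ringKrullDim A = 1) (B : Type u) [CommRing B]
    [IsDomain B] [Algebra A B] (hinj : Function.Injective (algebraMap A B)) [Module.Finite A B]
    (K L : Type u) [Field K] [Field L] [Algebra A K] [IsFractionRing A K] [Algebra B L]
    [IsFractionRing B L] [Algebra K L] [Algebra A L] [IsScalarTower A B L] [IsScalarTower A K L]
    [FiniteDimensional K L] (r : B) (hr : r ≠ 0) :
    Module.length A (B ⧸ Ideal.span {r}) < ⊤ ∧
      ((Module.length A (B ⧸ Ideal.span {r})).toNat : ℤ) =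
        CycAlg.ordFrac A K (Algebra.norm K (algebraMap B L r)) := by
  classical
  have hdim : Ring.KrullDimLE 1 A := by
    rw [Ring.krullDimLE_iff, hA]
    rfl
  have hinjBL : Function.Injective (algebraMap B L) := IsFractionRing.injective B L
  have hinjK : Function.Injective (algebraMap A K) := IsFractionRing.injective A K
  obtain ⟨r', hr'd⟩ : ∃ r' : L, r' = algebraMap B L r := ⟨_, rfl⟩
  have hr' : r' ≠ 0 := by rw [hr'd]; exact (map_ne_zero_iff _ hinjBL).mpr hr
  -- the lattice `B ⊆ L`
  obtain ⟨j, hj⟩ : ∃ j : B →ₗ[A] L, ∀ b, j b = algebraMap B L b :=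
    ⟨(Algebra.linearMap B L).restrictScalars A, fun b => rfl⟩
  have hjinj : Function.Injective j := fun x y h => hinjBL (by rw [← hj, ← hj]; exact h)
  obtain ⟨M₀, hM₀⟩ : ∃ M₀ : Submodule A L, M₀ = LinearMap.range j := ⟨_, rfl⟩
  have halg : ∀ b : B, IsAlgebraic A b := fun b =>
    (Algebra.IsIntegral.isIntegral (R := A) b).isAlgebraic
  have hlat : Submodule.IsLattice K M₀ := by
    refine ⟨?_, ?_⟩
    · rw [hM₀, LinearMap.range_eq_map]
      exact (Module.Finite.fg_top (R := A) (M := B)).map j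
    · rw [eq_top_iff]
      intro x _
      obtain ⟨b₁, b₂, rfl⟩ := IsLocalization.exists_mk'_eq (nonZeroDivisors B) x
      obtain ⟨a, ha0, c, hc⟩ := (halg (b₂ : B)).exists_nonzero_dvd b₂.2
      have hxa : algebraMap A K a • IsLocalization.mk' L b₁ b₂ = j (b₁ * c) := by
        rw [hj, Algebra.smul_def, ← IsScalarTower.algebraMap_apply A K L,
          IsScalarTower.algebraMap_apply A B L, hc, map_mul, map_mul, mul_right_comm, mul_comm _
            (IsLocalization.mk' L b₁ b₂), IsLocalization.mk'_spec]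
      have ha0' : algebraMap A K a ≠ 0 := (map_ne_zero_iff _ hinjK).mpr ha0
      have : IsLocalization.mk' L b₁ b₂ = (algebraMap A K a)⁻¹ • j (b₁ * c) := by
        rw [← hxa, smul_smul, inv_mul_cancel₀ ha0', one_smul]
      rw [this]
      refine Submodule.smul_mem _ _ (Submodule.subset_span ?_)
      rw [hM₀]
      exact ⟨_, rfl⟩
  -- multiplication by `r'`
  obtain ⟨φ, hφ⟩ : ∃ φ : L ≃ₗ[K] L, ∀ x, φ x = r' * x :=
    ⟨LinearEquiv.ofLinearMap (LinearMap.mulLeft K r') (LinearMap.mulLeft K r'⁻¹)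
      (by ext x; simp [hr']) (by ext x; simp [hr']), fun x => rfl⟩
  have hdet : LinearMap.det φ.toLinearMap = Algebra.norm K r' := by
    rw [Algebra.norm_apply]
    congr 1
    ext x
    change φ x = r' * x
    exact hφ x
  obtain ⟨φM, hφM⟩ : ∃ φM, φM = M₀.map (φ.toLinearMap.restrictScalars A) := ⟨_, rfl⟩
  have hle : φM ≤ M₀ := by
    rw [hφM, hM₀]
    rintro _ ⟨_, ⟨b, rfl⟩, rfl⟩
    refine ⟨r * b, ?_⟩
    change j (r * b) = φ (j b)
    rw [hφ, hj, hj, map_mul, hr'd]
  have key := Groth.Agent.H36.LatticeDist.lattice_dist A K L M₀ φ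
  rw [← hφM, inf_eq_right.mpr hle] at key
  obtain ⟨k1, _, k3⟩ := key
  have hzero : Module.length A (↥φM ⧸ φM.submoduleOf φM) = 0 := by
    rw [Submodule.submoduleOf_self]
    exact Module.length_eq_zero
  rw [hzero, hdet] at k3
  rw [← hr'd]
  -- identify `B ⧸ (r)` with `M₀ ⧸ φM`
  have hlen : Module.length A (B ⧸ Ideal.span {r}) =
      Module.length A (↥M₀ ⧸ φM.submoduleOf M₀) := by
    let g₀ : B →ₗ[A] ↥M₀ := j.codRestrict M₀ (fun b => by rw [hM₀]; exact ⟨b, rfl⟩)
    let g : B →ₗ[A] (↥M₀ ⧸ φM.submoduleOf M₀) := (φM.submoduleOf M₀).mkQ ∘ₗ g₀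
    have hg : Function.Surjective g := by
      intro y
      obtain ⟨⟨x, hx⟩, rfl⟩ := Submodule.Quotient.mk_surjective _ y
      rw [hM₀] at hx
      obtain ⟨b, rfl⟩ := hx
      exact ⟨b, rfl⟩
    have hker : LinearMap.ker g = (Ideal.span {r}).restrictScalars A := by
      ext b
      rw [LinearMap.mem_ker, Submodule.restrictScalars_mem, Ideal.mem_span_singleton']
      change (Submodule.Quotient.mk (g₀ b) : ↥M₀ ⧸ φM.submoduleOf M₀) = 0 ↔ _
      rw [Submodule.Quotient.mk_eq_zero]
      change j b ∈ φM ↔ _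
      rw [hφM]
      constructor
      · rintro ⟨_, hy, hyb⟩
        rw [hM₀] at hy
        obtain ⟨b', rfl⟩ := hy
        refine ⟨b', ?_⟩
        apply hjinj
        have : φ (j b') = j b := hyb
        rw [← this, hφ, hj, hj, map_mul, hr'd, mul_comm]
      · rintro ⟨b', rfl⟩
        refine ⟨j b', by rw [hM₀]; exact ⟨b', rfl⟩, ?_⟩
        change φ (j b') = j (b' * r)
        rw [hφ, hj, hj, map_mul, hr'd, mul_comm]
    rw [← (Submodule.Quotient.restrictScalarsEquiv A (Ideal.span {r})).length_eq,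
      ← (LinearMap.quotKerEquivOfSurjective g hg).length_eq]
    exact (Submodule.quotEquivOfEq _ _ hker).length_eq.symm
  rw [hlen]
  refine ⟨k1, ?_⟩
  rw [← k3]
  simp

end Groth.Agent.S14503
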