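import Mathlib
import Groth.Statements.S14511
-- import your own Groth.Agent.* helpers here

set_option autoImplicit false
universe u
open CAlgX

namespace Groth.Agent.S14511

/-- Let R be a commutative ring and P ∈ R[x_1, …, x_r] a polynomial of total degree at most r. Then the
coefficient of the monomial x_1 ⋯ x_r in P equals Σ_J (−1)^{|J|} P(δ_J), the sum over all subsets J
⊆ {1, …, r} (the empty one included), where δ_J is the point with coordinate −1 at the indices in J
and 0 at the others. -/
theorem result (R : Type u) [CommRing R] (r : ℕ)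
    (P : MvPolynomial (Fin r) R) (hP : P.totalDegree ≤ r) :
    MvPolynomial.coeff (∑ i : Fin r, Finsupp.single i 1) P =
      ∑ J : Finset (Fin r), (-1 : R) ^ J.card * MvPolynomial.eval (fun j => if j ∈ J then (-1 : R) else 0) P := by
  classical
  set one : Fin r →₀ ℕ := ∑ i : Fin r, Finsupp.single i 1 with hone
  have hone_apply : ∀ j : Fin r, one j = 1 := by
    intro j
    simp [hone, Finsupp.finsetSum_apply, Finsupp.single_apply]
  -- the alternating sum on a monomial exponent
  have key : ∀ m : Fin r →₀ ℕ, (m.sum fun _ e => e) ≤ r →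
      ∑ J : Finset (Fin r), (-1 : R) ^ J.card * ∏ j, (if j ∈ J then (-1 : R) else 0) ^ m j =
        if m = one then 1 else 0 := by
    intro m hm
    have h1 : ∀ J : Finset (Fin r),
        (-1 : R) ^ J.card * ∏ j, (if j ∈ J then (-1 : R) else 0) ^ m j =
          (∏ j ∈ J, (-(-1 : R) ^ m j)) * ∏ j ∈ Finset.univ \ J, (0 : R) ^ m j := by
      intro J
      rw [← Finset.prod_mul_prod_compl J (fun j => (if j ∈ J then (-1 : R) else 0) ^ m j),
        ← Finset.prod_const, ← mul_assoc, ← Finset.prod_mul_distrib, Finset.compl_eq_univ_sdiff]
      congr 1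
      · refine Finset.prod_congr rfl fun j hj => ?_
        rw [if_pos hj]; ring
      · refine Finset.prod_congr rfl fun j hj => ?_
        rw [if_neg (Finset.mem_sdiff.mp hj).2]
    rw [Finset.sum_congr rfl (fun J _ => h1 J), ← Finset.powerset_univ, ← Finset.prod_add]
    split_ifs with hmone
    · subst hmone
      refine Finset.prod_eq_one fun j _ => ?_
      rw [hone_apply]; simp
    · -- some coordinate of m is zero
      have hz : ∃ j, m j = 0 := by
        by_contra hcon
        simp only [not_exists] at hcon
        apply hmone
        have hge : ∀ j, 1 ≤ m j := fun j => Nat.one_le_iff_ne_zero.mpr (hcon j)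
        have hsum : (m.sum fun _ e => e) = ∑ j, m j := by
          rw [Finsupp.sum_fintype]; intro; rfl
        rw [hsum] at hm
        have hcard : ∑ _j : Fin r, 1 = r := by simp
        have hle : ∑ j : Fin r, 1 ≤ ∑ j, m j := Finset.sum_le_sum fun j _ => hge j
        have heq : ∑ j : Fin r, 1 = ∑ j, m j := le_antisymm hle (by rw [hcard]; exact hm)
        have hall : ∀ j ∈ (Finset.univ : Finset (Fin r)), 1 = m j :=
          (Finset.sum_eq_sum_iff_of_le (fun j _ => hge j)).mp heq
        ext j
        rw [hone_apply, ← hall j (Finset.mem_univ j)]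
      obtain ⟨j, hj⟩ := hz
      refine Finset.prod_eq_zero (Finset.mem_univ j) ?_
      rw [hj]; simp
  -- expand the evaluation
  have hexp : ∀ J : Finset (Fin r), MvPolynomial.eval (fun j => if j ∈ J then (-1 : R) else 0) P =
      ∑ d ∈ P.support, MvPolynomial.coeff d P * ∏ j, (if j ∈ J then (-1 : R) else 0) ^ d j :=
    fun J => MvPolynomial.eval_eq' _ P
  calc MvPolynomial.coeff one P
      = ∑ d ∈ P.support, MvPolynomial.coeff d P * (if d = one then 1 else 0) := by
        rw [Finset.sum_congr rfl (fun d _ => mul_ite _ _ _ _)]
        simp only [mul_one, mul_zero]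
        rw [Finset.sum_ite_eq']
        split_ifs with h
        · rfl
        · exact MvPolynomial.notMem_support_iff.mp h
    _ = ∑ d ∈ P.support, MvPolynomial.coeff d P *
          ∑ J : Finset (Fin r), (-1 : R) ^ J.card * ∏ j, (if j ∈ J then (-1 : R) else 0) ^ d j := by
        refine Finset.sum_congr rfl fun d hd => ?_
        rw [key d ((MvPolynomial.le_totalDegree hd).trans hP)]
    _ = ∑ J : Finset (Fin r), (-1 : R) ^ J.card *
          MvPolynomial.eval (fun j => if j ∈ J then (-1 : R) else 0) P := by
        simp_rw [hexp, Finset.mul_sum]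
        rw [Finset.sum_comm]
        refine Finset.sum_congr rfl fun J _ => Finset.sum_congr rfl fun d _ => ?_
        ring

end Groth.Agent.S14511
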