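import Groth.Statements.S14515
import Groth.Agent.S2852
import Groth.Agent.H22.ZMTLocalIso
import Groth.Agent.H56.AusBuchUFD
import Groth.Agent.H39.SmoothFibreStalk
import Groth.Agent.H99.FieldDim3
import Groth.Agent.H48.FieldDim

set_option autoImplicit false
universe u
open CategoryTheory CategoryTheory.Limits AlgebraicGeometry
open Variety

namespace Groth.Agent.S14515

/-- Let k be an algebraically closed field and f : X → Y a proper, birational morphism over k between
smooth, irreducible varieties (X, Y integral, separated, of finite type and smooth over k; f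
restricts to an isomorphism over some nonempty open subset of Y). Let Exc(f) ⊆ X be the exceptional
locus: the points x such that f restricts to an isomorphism over no open neighbourhood of f(x). Then
Exc(f) has pure codimension one: every irreducible component of Exc(f) has dimension dim X − 1. -/
theorem result (k : Type u) [Field k] [IsAlgClosed k]
    (X Y : Scheme.{u}) [X.Over (Spec (CommRingCat.of k))] [Y.Over (Spec (CommRingCat.of k))]
    [IsIntegral X] [IsSeparated (X ↘ (Spec (CommRingCat.of k)))] [LocallyOfFiniteType (X ↘ (Spec (CommRingCat.of k)))] [QuasiCompact (X ↘ (Spec (CommRingCat.of k)))] [Smooth (X ↘ (Spec (CommRingCat.of k)))]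
    [IsIntegral Y] [IsSeparated (Y ↘ (Spec (CommRingCat.of k)))] [LocallyOfFiniteType (Y ↘ (Spec (CommRingCat.of k)))] [QuasiCompact (Y ↘ (Spec (CommRingCat.of k)))] [Smooth (Y ↘ (Spec (CommRingCat.of k)))]
    (f : X ⟶ Y) (hf : f ≫ (Y ↘ (Spec (CommRingCat.of k))) = (X ↘ (Spec (CommRingCat.of k)))) [IsProper f]
    (hbir : ∃ V : Y.Opens, (V : Set Y).Nonempty ∧ IsIso (f ∣_ V)) :
    ∀ Z ∈ irreducibleComponents ↥{x : X | ∀ V : Y.Opens, f x ∈ V → ¬ IsIso (f ∣_ V)},
      topologicalKrullDim ↥Z + 1 = topologicalKrullDim X := by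
  classical
  set pX := X ↘ (Spec (CommRingCat.of k)) with hpX
  set pY := Y ↘ (Spec (CommRingCat.of k)) with hpY
  have hXN : IsLocallyNoetherian X := LocallyOfFiniteType.isLocallyNoetherian pX
  have hYN : IsLocallyNoetherian Y := LocallyOfFiniteType.isLocallyNoetherian pY
  -- the local rings of `Y` are factorial
  have hY : ∀ y : Y, UniqueFactorizationMonoid (Y.presheaf.stalk y) := by
    intro y
    have hy : y ∈ pY.smoothLocus := by
      rw [Scheme.Hom.smoothLocus_eq_top]; trivial
    haveI := Groth.Agent.H39.SmoothStalk.isRegularLocalRing_stalk_of_mem_smoothLocus pY y hy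
      (Groth.Agent.H39.SmoothFibreStalk.isRegularLocalRing_stalk_spec_field k _)
    exact Groth.Agent.H56.AusBuchUFD.uniqueFactorizationMonoid _
  obtain ⟨V, hVne, hViso⟩ := hbir
  have hV : ∃ W : X.Opens, (W : Set X).Nonempty ∧ IsOpenImmersion (W.ι ≫ f) := by
    refine ⟨f ⁻¹ᵁ V, ?_, ?_⟩
    · obtain ⟨y, hy⟩ := hVne
      have hsurj : Function.Surjective (f ∣_ V) :=
        (ConcreteCategory.bijective_of_isIso (f ∣_ V).base).2
      obtain ⟨x, hx⟩ := hsurj ⟨y, hy⟩
      exact ⟨x.1, x.2⟩
    · rw [← morphismRestrict_ι]; infer_instance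
  have hstalk : ∀ (x : X) (W' : X.Opens), x ∈ W' → IsOpenImmersion (W'.ι ≫ f) →
      IsIso (f.stalkMap x) := by
    intro x W' hxW' hW'
    let x' : W'.toScheme := ⟨x, hxW'⟩
    have h1 : IsIso ((W'.ι ≫ f).stalkMap x') := inferInstance
    rw [Scheme.Hom.stalkMap_comp] at h1
    have h2 : IsIso (W'.ι.stalkMap x') := inferInstance
    exact @IsIso.of_isIso_comp_right _ _ _ _ _ _ _ h2 h1
  set E : Set X := {x : X | ∀ V : Y.Opens, f x ∈ V → ¬ IsIso (f ∣_ V)} with hEdef
  have hE : ∀ x : X, x ∈ E ↔ ¬ ∃ W : X.Opens, x ∈ W ∧ IsOpenImmersion (W.ι ≫ f) := by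
    intro x
    constructor
    · rintro hx ⟨W, hxW, hW⟩
      have hiso : IsIso (f.stalkMap x) := hstalk x W hxW hW
      obtain ⟨U, hU, hUiso⟩ :=
        Groth.Agent.H22.ZMTLocalIso.exists_isIso_morphismRestrict_of_bijective_stalkMap f x
          ((ConcreteCategory.isIso_iff_bijective _).mp hiso)
      exact hx U hU hUiso
    · intro hx U hU hUiso
      apply hx
      refine ⟨f ⁻¹ᵁ U, hU, ?_⟩
      rw [← morphismRestrict_ι]; infer_instance
  have hEc : IsClosed E := by
    rw [← isOpen_compl_iff, isOpen_iff_forall_mem_open]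
    intro x hx
    rw [Set.mem_compl_iff, hE, not_not] at hx
    obtain ⟨W, hxW, hW⟩ := hx
    refine ⟨W, ?_, W.isOpen, hxW⟩
    intro z hz
    rw [Set.mem_compl_iff, hE, not_not]
    exact ⟨W, hz, hW⟩
  intro Z hZ
  haveI : QuasiSober ↥E := hEc.isClosedEmbedding_subtypeVal.quasiSober
  have hZc : IsClosed Z := isClosed_of_mem_irreducibleComponents Z hZ
  have hZi : IsIrreducible Z := hZ.1
  set ζ' : E := hZi.genericPoint with hζ'def
  have hζ' : IsGenericPoint ζ' Z := hZi.isGenericPoint_genericPoint hZc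
  set ζ : X := ζ'.1 with hζdef
  have hζE : ζ ∈ E := ζ'.2
  have hmax : ∀ η : X, (¬ ∃ W : X.Opens, η ∈ W ∧ IsOpenImmersion (W.ι ≫ f)) → η ⤳ ζ → η = ζ := by
    intro η hη hηζ
    have hηE : η ∈ E := (hE η).mpr hη
    let η' : E := ⟨η, hηE⟩
    have hsp : η' ⤳ ζ' :=
      (Topology.IsInducing.subtypeVal (t := E)).specializes_iff.mp hηζ
    have h1 : Z ⊆ closure {η'} := by
      rw [← hζ'.def]
      exact closure_minimal (Set.singleton_subset_iff.mpr hsp.mem_closure) isClosed_closure
    have h2 : closure {η'} ⊆ Z := hZ.2 isIrreducible_singleton.closure h1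
    have h3 : ζ' ⤳ η' := hζ'.specializes (h2 (subset_closure rfl))
    have h4 : η' = ζ' := (hsp.antisymm h3).eq
    exact congrArg Subtype.val h4
  have hdim1 : ringKrullDim (X.presheaf.stalk ζ) = 1 :=
    Groth.Agent.S2852.result f hY hV ζ ((hE ζ).mp hζE) hmax
  -- dimension of `Z`
  let j : ↥Z → X := fun z => z.1.1
  have hj : Topology.IsEmbedding j :=
    Topology.IsEmbedding.subtypeVal.comp Topology.IsEmbedding.subtypeVal
  have hrange : Set.range j = closure {ζ} := by
    ext x
    constructor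
    · rintro ⟨z, rfl⟩
      have hz : z.1 ∈ closure {ζ'} := by rw [hζ'.def]; exact z.2
      rw [closure_subtype] at hz
      simpa using hz
    · intro hx
      have hxE : x ∈ E := hEc.closure_subset_iff.mpr (Set.singleton_subset_iff.mpr hζE) hx
      have hxZ : (⟨x, hxE⟩ : E) ∈ Z := by
        rw [← hζ'.def, closure_subtype]
        simpa using hx
      exact ⟨⟨⟨x, hxE⟩, hxZ⟩, rfl⟩
  have hdimZ : topologicalKrullDim ↥Z =
      (((Groth.Agent.H48.FieldDim.δ pX ζ).toNat : ℕ∞) : WithBot ℕ∞) := by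
    rw [hj.toHomeomorph.isHomeomorph.topologicalKrullDim_eq, hrange]
    exact Groth.Agent.H48.FieldDim.topologicalKrullDim_closure_eq pX ζ
  set ξ := genericPoint X with hξdef
  have hdimX : topologicalKrullDim X =
      (((Groth.Agent.H48.FieldDim.δ pX ξ).toNat : ℕ∞) : WithBot ℕ∞) := by
    rw [← Groth.Agent.H48.FieldDim.topologicalKrullDim_closure_eq pX ξ,
      (genericPoint_spec X).def]
    exact ((Homeomorph.Set.univ X).isHomeomorph.topologicalKrullDim_eq).symm
  have hformula := Groth.Agent.H99.FieldDim.ringKrullDim_stalk_eq_of_equidim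
    (Groth.Agent.H48.FieldDim.δ pX) (Groth.Agent.H48.FieldDim.isDimFun pX) ζ
    (Groth.Agent.H48.FieldDim.δ pX ξ) (by
      intro ξ' hξ' _
      have : ξ = ξ' := hξ' ξ (genericPoint_specializes ξ')
      rw [this])
  rw [hdim1] at hformula
  have h0 := Groth.Agent.H48.FieldDim.delta_nonneg pX ζ
  have hnat : (Groth.Agent.H48.FieldDim.δ pX ξ - Groth.Agent.H48.FieldDim.δ pX ζ).toNat = 1 := by
    have : ((1 : ℕ) : WithBot ℕ∞) = (((Groth.Agent.H48.FieldDim.δ pX ξ -
        Groth.Agent.H48.FieldDim.δ pX ζ).toNat : ℕ) : WithBot ℕ∞) := by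
      exact_mod_cast hformula
    exact_mod_cast this.symm
  rw [hdimZ, hdimX]
  have hkey : (Groth.Agent.H48.FieldDim.δ pX ζ).toNat + 1 =
      (Groth.Agent.H48.FieldDim.δ pX ξ).toNat := by omega
  exact_mod_cast congrArg (fun n : ℕ => ((n : ℕ∞) : WithBot ℕ∞)) hkey

end Groth.Agent.S14515
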