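import Groth.Statements.S14519
import Groth.Agent.H22.CurveOpenImm
import Groth.Agent.H39.SmoothStalk

set_option autoImplicit false
universe u
open CategoryTheory CategoryTheory.Limits AlgebraicGeometry
open Curves

namespace Groth.Agent.S14519

/-- Let k be an algebraically closed field and f : X → Y a birational morphism over k between smooth
curves (X, Y integral, separated, of finite type and smooth over k, of dimension one; f sends the
generic point of X to that of Y and the induced map of function fields K(Y) → K(X) is bijective).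
Then f is an open immersion. -/
theorem result (k : Type u) [Field k] [IsAlgClosed k]
    (X Y : Scheme.{u}) [X.Over (Spec (CommRingCat.of k))] [Y.Over (Spec (CommRingCat.of k))]
    [IsIntegral X] [IsSeparated (X ↘ (Spec (CommRingCat.of k)))] [LocallyOfFiniteType (X ↘ (Spec (CommRingCat.of k)))] [QuasiCompact (X ↘ (Spec (CommRingCat.of k)))] [Smooth (X ↘ (Spec (CommRingCat.of k)))] (hdimX : topologicalKrullDim X = 1)
    [IsIntegral Y] [IsSeparated (Y ↘ (Spec (CommRingCat.of k)))] [LocallyOfFiniteType (Y ↘ (Spec (CommRingCat.of k)))] [QuasiCompact (Y ↘ (Spec (CommRingCat.of k)))] [Smooth (Y ↘ (Spec (CommRingCat.of k)))] (hdimY : topologicalKrullDim Y = 1)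
    (f : X ⟶ Y) (hf : f ≫ (Y ↘ (Spec (CommRingCat.of k))) = (X ↘ (Spec (CommRingCat.of k))))
    (e : f (genericPoint X) = genericPoint Y)
    (hbir : Function.Bijective (Y.presheaf.stalkSpecializes (specializes_of_eq e) ≫ f.stalkMap (genericPoint X)).hom) :
    IsOpenImmersion f := by
  have hXN : IsLocallyNoetherian X :=
    LocallyOfFiniteType.isLocallyNoetherian (X ↘ (Spec (CommRingCat.of k)))
  have hYN : IsLocallyNoetherian Y :=
    LocallyOfFiniteType.isLocallyNoetherian (Y ↘ (Spec (CommRingCat.of k)))
  have hYc : CompactSpace Y :=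
    QuasiCompact.compactSpace_of_compactSpace (Y ↘ (Spec (CommRingCat.of k)))
  -- properties of `f`
  have hft : LocallyOfFiniteType f := by
    have : LocallyOfFiniteType (f ≫ (Y ↘ (Spec (CommRingCat.of k)))) := hf ▸ inferInstance
    exact locallyOfFiniteType_of_comp f (Y ↘ (Spec (CommRingCat.of k)))
  have hsep : IsSeparated f := by
    have : IsSeparated (f ≫ (Y ↘ (Spec (CommRingCat.of k)))) := hf ▸ inferInstance
    exact IsSeparated.of_comp f (Y ↘ (Spec (CommRingCat.of k)))
  have hqc : QuasiCompact f := by
    have : QuasiCompact (f ≫ (Y ↘ (Spec (CommRingCat.of k)))) := hf ▸ inferInstance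
    exact MorphismProperty.of_postcomp (W := @QuasiCompact) (W' := @QuasiSeparated) f
      (Y ↘ (Spec (CommRingCat.of k))) inferInstance this
  -- `Y` is normal
  have hN : ∀ y : Y, IsIntegrallyClosed (Y.presheaf.stalk y) := by
    intro y
    have hy : y ∈ (Y ↘ (Spec (CommRingCat.of k))).smoothLocus := by
      rw [Scheme.Hom.smoothLocus_eq_top]; trivial
    refine (Groth.Agent.H39.SmoothStalk.normal_stalk_of_mem_smoothLocus
      (Y ↘ (Spec (CommRingCat.of k))) y hy ⟨inferInstance, ?_⟩).2
    set p : Spec (CommRingCat.of k) := (Y ↘ (Spec (CommRingCat.of k))).base y with hp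
    let _ : Algebra (CommRingCat.of k) ((Spec (CommRingCat.of k)).presheaf.stalk p) :=
      StructureSheaf.stalkAlgebra (CommRingCat.of k) p
    have : IsLocalization.AtPrime ((Spec (CommRingCat.of k)).presheaf.stalk p) p.asIdeal :=
      StructureSheaf.IsLocalization.to_stalk (CommRingCat.of k) p
    have : IsIntegrallyClosed (CommRingCat.of k) := inferInstanceAs (IsIntegrallyClosed k)
    exact isIntegrallyClosed_of_isLocalization _ p.asIdeal.primeCompl
      p.asIdeal.primeCompl_le_nonZeroDivisors
  -- the stalk map at the generic point is an isomorphism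
  have hiso : IsIso (f.stalkMap (genericPoint X)) := by
    have h1 : IsIso (Y.presheaf.stalkSpecializes (specializes_of_eq e) ≫
        f.stalkMap (genericPoint X)) := (ConcreteCategory.isIso_iff_bijective _).mpr hbir
    have h2 : IsIso (Y.presheaf.stalkSpecializes (specializes_of_eq e)) :=
      (Y.presheaf.stalkCongr (Inseparable.of_eq e.symm)).isIso_hom
    exact IsIso.of_isIso_comp_left (Y.presheaf.stalkSpecializes (specializes_of_eq e)) _
  exact Groth.Agent.H22.CurveOpenImm.isOpenImmersion_of_birational hdimY.le hN f e hiso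


end Groth.Agent.S14519
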