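import Groth.Statements.S1453
import Groth.Agent.S1326
import Groth.Agent.S1327
import Groth.Agent.H8.GCGeom

set_option autoImplicit false
set_option linter.style.haveILetI false
universe u
open FlatMor

namespace Groth.Agent.S1453

open AlgebraicGeometry CategoryTheory Limits in
/-- Let f : X → Y be flat and of finite presentation with all fibres geometrically reduced, let Z → Y be
finite locally free with a Y-morphism σ : Z → X, and let y be a point with Z_y nonempty and X_y
geometrically connected. Then there is a quasi-compact open X⁰ of X containing the whole fibre X_y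
such that every nonempty fibre of X⁰ → Y is geometrically connected. -/
theorem result {X Y Z : Scheme.{u}} (f : X ⟶ Y) [Flat f] [LocallyOfFinitePresentation f] [QuasiCompact f] [QuasiSeparated f]
    [GeometricallyReduced f] (g : Z ⟶ Y) (hg : Mor2.IsFinLocFree g) (σ : Z ⟶ X) (hσ : σ ≫ f = g) (y : Y) (hZy : y ∈ Set.range ⇑g)
    (hXy : GeometricallyConnected (f.fiberToSpecResidueField y)) :
    ∃ U : X.Opens, IsCompact (U : Set ↑X) ∧ f ⁻¹' {y} ⊆ (U : Set ↑X) ∧
      ∀ y' : Y, (∃ x ∈ U, f x = y') → GeometricallyConnected ((U.ι ≫ f).fiberToSpecResidueField y') := by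
  classical
  obtain ⟨hfin, hflat, hlfp⟩ := hg
  haveI := hfin
  haveI := hflat
  haveI := hlfp
  let p2 := pullback.snd f g
  let pr := pullback.fst f g
  let s := Groth.Agent.H8.GC.sec f g σ hσ
  have hs : s ≫ p2 = 𝟙 Z := Groth.Agent.H8.GC.sec_snd f g σ hσ
  -- the section components upstairs are open
  have hTopen : IsOpen (Groth.Agent.H8.GC.TT f g σ hσ) := by
    have hsub : Groth.Agent.H8.GC.TT f g σ hσ ⊆ interior (Groth.Agent.H8.GC.TT f g σ hσ) := by
      intro w hw
      have hgr : GeometricallyReduced (p2.fiberToSpecResidueField (p2 w)) := inferInstance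
      exact Groth.Agent.S1327.result p2 s hs (p2 w) hgr hw
    exact subset_interior_iff_isOpen.mp hsub
  -- and locally constructible
  have hTlc : Topology.IsLocallyConstructible (Groth.Agent.H8.GC.TT f g σ hσ) :=
    Groth.Agent.S1326.result p2 s hs
  have hU0open : IsOpen (Groth.Agent.H8.GC.U0 f g σ hσ) := by
    rw [Groth.Agent.H8.GC.U0_eq, isOpen_compl_iff]
    exact pr.isClosedMap _ hTopen.isClosed_compl
  have hU0lc : Topology.IsLocallyConstructible (Groth.Agent.H8.GC.U0 f g σ hσ) := by
    rw [Groth.Agent.H8.GC.U0_eq]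
    exact Groth.Agent.H8.GCTopo.isLocallyConstructible_compl
      (pr.isLocallyConstructible_image (Groth.Agent.H8.GCTopo.isLocallyConstructible_compl hTlc))
  have hrange : IsOpen (Set.range g) := g.isOpenMap.isOpen_range
  obtain ⟨W, hWaff, hyW, hWsub⟩ :
      ∃ W : Y.Opens, IsAffineOpen W ∧ y ∈ W ∧ (W : Set Y) ⊆ Set.range g := by
    obtain ⟨_, ⟨W, hW, rfl⟩, hyW, hWsub⟩ :=
      Y.isBasis_affineOpens.exists_subset_of_mem_open hZy hrange
    exact ⟨W, hW, hyW, hWsub⟩
  let U : X.Opens := ⟨f ⁻¹' (W : Set Y) ∩ Groth.Agent.H8.GC.U0 f g σ hσ,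
    (W.isOpen.preimage f.continuous).inter hU0open⟩
  refine ⟨U, ?_, ?_, ?_⟩
  · -- compactness
    let V : X.Opens := f ⁻¹ᵁ W
    haveI : IsAffine W := hWaff
    haveI : CompactSpace ↥(V.toScheme) := QuasiCompact.compactSpace_of_compactSpace (f ∣_ W)
    haveI : QuasiSeparatedSpace ↥(V.toScheme) := quasiSeparatedSpace_of_quasiSeparated (f ∣_ W)
    have hlc : Topology.IsLocallyConstructible (V.ι ⁻¹' Groth.Agent.H8.GC.U0 f g σ hσ) :=
      hU0lc.preimage_of_isOpenEmbedding V.ι.isOpenEmbedding
    have hcomp : IsCompact (V.ι ⁻¹' Groth.Agent.H8.GC.U0 f g σ hσ) :=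
      Groth.Agent.H8.GCTopo.isCompact_of_isConstructible hlc.isConstructible
    have hUeq : (U : Set X) = V.ι '' (V.ι ⁻¹' Groth.Agent.H8.GC.U0 f g σ hσ) := by
      rw [Set.image_preimage_eq_inter_range, Scheme.Opens.range_ι, Set.inter_comm]
      rfl
    rw [hUeq]
    exact hcomp.image V.ι.continuous
  · intro x hx
    refine ⟨?_, Groth.Agent.H8.GC.fibre_subset_U0 f g σ hσ y hXy hx⟩
    have : f x = y := hx
    change f x ∈ W
    rw [this]
    exact hyW
  · rintro y' ⟨x, hxU, rfl⟩
    have hxW : f x ∈ W := hxU.1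
    obtain ⟨z, hz⟩ := hWsub hxW
    have key := Groth.Agent.H8.GC.geometricallyConnected_fiber f g σ hσ U W rfl z
      (by rw [hz]; exact hxW) x hxU hz.symm
    rw [hz] at key
    exact key

end Groth.Agent.S1453
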