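import Groth.Statements.S1454
import Mathlib
import Groth.Agent.H66.UnibranchUO
import Groth.Agent.H24.AffineChart
import Groth.Agent.H13.AssPush
import Groth.Agent.H20.GenericFinite


set_option autoImplicit false
universe u
open FlatMor

namespace Groth.Agent.S1454

open AlgebraicGeometry CategoryTheory Limits in
/-- Consider a locally quasi-finite f : X → Y whose target is locally Noetherian with geometrically
unibranch local rings, and assume every irreducible component of X dominates an irreducible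
component of Y (its generic point maps to a generic point of an irreducible component of Y). Then f
is universally open. -/
theorem result {X Y : Scheme.{u}} (f : X ⟶ Y) [LocallyQuasiFinite f] [LocallyOfFiniteType f] [IsLocallyNoetherian Y]
    (hY : ∀ y : Y, CAlg2.IsGeomUnibranch (Y.presheaf.stalk y))
    (hdom : ∀ Z ∈ irreducibleComponents ↑X, ∀ x : X, IsGenericPoint x Z → ∃ W ∈ irreducibleComponents ↑Y, IsGenericPoint (f x) W) :
    UniversallyOpen f := by
  haveI : MorphismProperty.RespectsRight @UniversallyOpen @IsOpenImmersion :=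
    ⟨fun i hi f hf => by
      haveI : IsOpenImmersion i := hi
      haveI : UniversallyOpen f := hf
      exact (inferInstance : UniversallyOpen (f ≫ i))⟩
  rw [IsZariskiLocalAtSource.iff_exists_resLE (P := @UniversallyOpen)]
  intro x
  obtain ⟨V, U, hV, hU, hxU, hUV⟩ := Groth.Agent.H24.exists_affine_charts f x
  refine ⟨V, U, hxU, hUV, ?_⟩
  letI := (f.appLE V U hUV).hom.toAlgebra
  haveI : IsNoetherianRing Γ(Y, V) := IsLocallyNoetherian.component_noetherian ⟨V, hV⟩
  haveI : Algebra.FiniteType Γ(Y, V) Γ(X, U) := f.finiteType_appLE hV hU hUV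
  haveI : Algebra.FinitePresentation Γ(Y, V) Γ(X, U) :=
    Algebra.FinitePresentation.of_finiteType.mp inferInstance
  haveI : Algebra.QuasiFinite Γ(Y, V) Γ(X, U) := LocallyQuasiFinite.quasiFinite_appLE hV hU hUV
  have hcomap : ∀ (z : X) (hz : z ∈ U), ((hU.primeIdealOf ⟨z, hz⟩).asIdeal).under Γ(Y, V) =
      (hV.primeIdealOf ⟨f z, hUV hz⟩).asIdeal := fun z hz =>
    congrArg PrimeSpectrum.asIdeal (IsAffineOpen.comap_primeIdealOf_appLE V hV U hU hUV hz)
  -- geometric unibranchness of the local rings of `Γ(Y, V)`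
  have hGU : ∀ (𝔭 : Ideal Γ(Y, V)) [𝔭.IsPrime],
      CAlg2.IsGeomUnibranch (Localization.AtPrime 𝔭) := by
    intro 𝔭 h𝔭
    have hyV := Groth.Agent.H24.fromSpec_mem hV ⟨𝔭, h𝔭⟩
    have h1 : (hV.primeIdealOf ⟨hV.fromSpec ⟨𝔭, h𝔭⟩, hyV⟩).asIdeal = 𝔭 :=
      congrArg PrimeSpectrum.asIdeal (Groth.Agent.H24.primeIdealOf_fromSpec hV ⟨𝔭, h𝔭⟩)
    letI := Y.presheaf.algebra_section_stalk ⟨hV.fromSpec ⟨𝔭, h𝔭⟩, hyV⟩
    haveI := hV.isLocalization_stalk ⟨hV.fromSpec ⟨𝔭, h𝔭⟩, hyV⟩
    haveI : Algebra.Smooth Γ(Y, V) Γ(Y, V) := ⟨inferInstance, inferInstance⟩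
    exact Groth.Agent.H66.SmoothGU.gu_smooth Γ(Y, V) Γ(Y, V)
      (hV.primeIdealOf ⟨hV.fromSpec ⟨𝔭, h𝔭⟩, hyV⟩).asIdeal 𝔭
      ((Ideal.comap_id 𝔭).trans h1.symm) (Y.presheaf.stalk (hV.fromSpec ⟨𝔭, h𝔭⟩)) (hY _)
      (Localization.AtPrime 𝔭)
  -- minimal primes go to minimal primes
  have hdomR : ∀ q ∈ minimalPrimes Γ(X, U), q.under Γ(Y, V) ∈ minimalPrimes Γ(Y, V) := by
    intro q hq
    haveI hqprime : q.IsPrime := hq.1.1
    have hξU := Groth.Agent.H24.fromSpec_mem hU ⟨q, hqprime⟩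
    have h1 : (hU.primeIdealOf ⟨hU.fromSpec ⟨q, hqprime⟩, hξU⟩).asIdeal = q :=
      congrArg PrimeSpectrum.asIdeal (Groth.Agent.H24.primeIdealOf_fromSpec hU ⟨q, hqprime⟩)
    -- `ξ` is a maximal point of `X`
    have hmax : ∀ x' : X, x' ⤳ hU.fromSpec ⟨q, hqprime⟩ → x' = hU.fromSpec ⟨q, hqprime⟩ := by
      intro x' hx'
      have hx'U : x' ∈ U := hx'.mem_open U.2 hξU
      have hle := Groth.Agent.H13.primeIdealOf_le_of_specializes hU hξU hx'U hx'
      rw [h1] at hle
      have hge : q ≤ (hU.primeIdealOf ⟨x', hx'U⟩).asIdeal :=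
        hq.2 ⟨(hU.primeIdealOf ⟨x', hx'U⟩).isPrime, bot_le⟩ hle
      apply Groth.Agent.H24.primeIdealOf_injective hU hx'U hξU
      apply PrimeSpectrum.ext
      rw [h1]
      exact le_antisymm hle hge
    have hcomp : closure {hU.fromSpec ⟨q, hqprime⟩} ∈ irreducibleComponents ↑X := by
      refine ⟨isIrreducible_singleton.closure, fun s hs hle => ?_⟩
      have hs' : IsIrreducible (closure s) := hs.closure
      obtain ⟨z, hz⟩ := QuasiSober.sober hs' isClosed_closure
      have hzξ : z ⤳ hU.fromSpec ⟨q, hqprime⟩ := by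
        rw [specializes_iff_mem_closure, hz.def]
        exact subset_closure (hle (subset_closure rfl))
      have := hmax z hzξ
      rw [this] at hz
      rw [hz.def]
      exact subset_closure
    obtain ⟨W, hW, hgen⟩ := hdom _ hcomp (hU.fromSpec ⟨q, hqprime⟩) rfl
    have hW' : closure {f (hU.fromSpec ⟨q, hqprime⟩)} ∈ irreducibleComponents ↑Y := by
      rw [hgen.def]
      exact hW
    have h2 := Groth.Agent.H20.primeIdealOf_mem_minimalPrimes hV hW' (hUV hξU)
    rw [← hcomap _ hξU, h1] at h2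
    exact h2
  have key : UniversallyOpen (Spec.map (CommRingCat.ofHom (algebraMap Γ(Y, V) Γ(X, U)))) :=
    Groth.Agent.H66.UnibranchUO.universallyOpen_SpecMap Γ(Y, V) Γ(X, U) hGU hdomR
  have hiso : Arrow.mk (f.resLE V U hUV) ≅ Arrow.mk (Spec.map (f.appLE V U hUV)) :=
    Arrow.isoMk hU.isoSpec hV.isoSpec (by
      simp only [Arrow.mk_left, Arrow.mk_right, Arrow.mk_hom, IsAffineOpen.isoSpec_hom]
      exact (Scheme.Opens.toSpecΓ_SpecMap_appLE f V U hUV))
  exact (MorphismProperty.arrow_mk_iso_iff @UniversallyOpen hiso).mpr key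

end Groth.Agent.S1454
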