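import Groth.Statements.S14580
import Groth.Agent.H12.Topo
import Groth.Agent.H89.SchemeIdem

set_option autoImplicit false
universe u
open CategoryTheory MonoidalCategory CartesianMonoidalCategory MonObj GrpObj AlgebraicGeometry CategoryTheory.Limits
open AlgGrp

namespace Groth.Agent.S14580

lemma isClopen_basicOpen_of_isIntegral {k R : Type u} [Field k] [CommRing R] (φ : k →+* R)
    (hφ : φ.IsIntegral) (f : R) :
    IsClopen (PrimeSpectrum.basicOpen f : Set (PrimeSpectrum R)) := by
  algebraize [φ]
  have hf : IsIntegral k f := hφ f
  let A := Algebra.adjoin k {f}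
  have : Module.Finite k A := .of_fg hf.fg_adjoin_singleton
  have : IsArtinianRing A := IsArtinianRing.of_finite k A
  let f' : A := ⟨f, Algebra.subset_adjoin rfl⟩
  have h1 : IsClopen (PrimeSpectrum.basicOpen f' : Set (PrimeSpectrum A)) := isClopen_discrete _
  exact h1.preimage (PrimeSpectrum.continuous_comap A.val.toRingHom)

/-- Let k be a field, G a proper k-group scheme of finite type and N ⊆ G the kernel of the affinization
morphism G → Spec O(G), i.e. the fibre over the image of the unit section (the largest anti-affine
subgroup scheme of G). Then the image of N in G is the connected component of the identity: as N is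
smooth, N is the reduced neutral component G⁰_red, which is therefore a smooth connected algebraic
group. -/
theorem result (k : Type u) [Field k]
    (G : Over (Spec (CommRingCat.of k))) [GrpObj G] [IsProper G.hom] (t : ↥((𝟙_ (Over (Spec (CommRingCat.of k)))).left)) :
    Set.range ⇑(pullback.fst G.left.toSpecΓ (η[G].left ≫ G.left.toSpecΓ)).base = connectedComponent ((η[G]).left.base t) := by
  set X := G.left with hX
  set π := X.toSpecΓ with hπ
  set e := (η[G]).left.base t with he
  -- Step 0: range = π ⁻¹' {π e}
  have hrange : Set.range (pullback.fst π (η[G].left ≫ π)).base = π.base ⁻¹' {π.base e} := by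
    rw [Scheme.Pullback.range_fst]
    congr 1
    ext y
    constructor
    · rintro ⟨s, rfl⟩
      have hs : s = t :=
        @Subsingleton.elim _ (inferInstanceAs (Subsingleton (PrimeSpectrum k))) _ _
      subst hs
      simp [he]
    · rintro rfl
      exact ⟨t, by simp [he]⟩
  rw [hrange]
  -- noetherian
  have : CompactSpace X := QuasiCompact.compactSpace_of_compactSpace G.hom
  have : IsLocallyNoetherian X := LocallyOfFiniteType.isLocallyNoetherian G.hom
  have : IsNoetherian X := ⟨⟩
  have hCclopen : IsClopen (connectedComponent e) :=
    ⟨isClosed_connectedComponent, Groth.Agent.H12.isOpen_connectedComponent_of_noetherian e⟩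
  -- integrality
  let φ : k →+* Γ(X, ⊤) :=
    (G.hom.appTop.hom).comp (Scheme.ΓSpecIso (CommRingCat.of k)).inv.hom
  have hφ : φ.IsIntegral := by
    refine RingHom.IsIntegral.trans _ _ ?_ (isIntegral_appTop_of_universallyClosed G.hom)
    apply RingHom.isIntegral_of_surjective
    exact (ConcreteCategory.bijective_of_isIso (Scheme.ΓSpecIso (CommRingCat.of k)).inv).2
  have hbo : ∀ f : Γ(X, ⊤), IsClopen (X.basicOpen f : Set X) := by
    intro f
    have h1 := (isClopen_basicOpen_of_isIntegral φ hφ f).preimage π.base.hom.continuous
    have h2 := congrArg (fun U : X.Opens => (U : Set X)) (Scheme.toSpecΓ_preimage_basicOpen X f)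
    rw [← h2]
    exact h1
  have hmem : ∀ (f : Γ(X, ⊤)) (x : X), x ∈ X.basicOpen f ↔ π.base x ∈ PrimeSpectrum.basicOpen f := by
    intro f x
    rw [← Scheme.toSpecΓ_preimage_basicOpen X f]
    rfl
  ext x
  simp only [Set.mem_preimage, Set.mem_singleton_iff]
  constructor
  · intro hx
    by_contra hxC
    obtain ⟨ε, -, hε⟩ := Groth.Agent.H89.SchemeIdem.exists_idem_of_isClopen X _ hCclopen
    have h1 : e ∈ X.basicOpen ε := by
      show e ∈ (X.basicOpen ε : Set X)
      rw [hε]; exact mem_connectedComponent
    have h2 : x ∉ X.basicOpen ε := by
      intro h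
      apply hxC
      rw [← hε]; exact h
    rw [hmem] at h1 h2
    rw [hx] at h2
    exact h2 h1
  · intro hx
    have key : ∀ f : Γ(X, ⊤), x ∈ X.basicOpen f ↔ e ∈ X.basicOpen f := by
      intro f
      constructor
      · intro h
        have := (hbo f).connectedComponent_subset h
        rw [← connectedComponent_eq hx] at this
        exact this mem_connectedComponent
      · intro h
        exact (hbo f).connectedComponent_subset h hx
    apply PrimeSpectrum.ext
    ext f
    have := key f
    rw [hmem, hmem] at this
    exact not_iff_not.mp this

end Groth.Agent.S14580
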