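import Groth.Statements.S1460
import Mathlib.RingTheory.Extension.Presentation.Core

set_option autoImplicit false
universe u
open FlatMor

namespace Groth.Agent.S1460

open TensorProduct AlgebraicGeometry CategoryTheory Limits in
set_option backward.isDefEq.respectTransparency false in
theorem exists_isPushout_model {A B : CommRingCat.{u}} (φ : A ⟶ B) (hφ : φ.hom.FinitePresentation) :
    ∃ (A₀ B₀ : CommRingCat.{u}) (φ₀ : A₀ ⟶ B₀) (α : A₀ ⟶ A) (β : B₀ ⟶ B),
      IsPushout α φ₀ φ β ∧ Algebra.FiniteType ℤ A₀ ∧ φ₀.hom.FiniteType := by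
  algebraize [φ.hom]
  let P := Algebra.Presentation.ofFinitePresentation A B
  let e := P.tensorModelOfHasCoeffsEquiv P.Core
  have h := CommRingCat.isPushout_tensorProduct P.Core A (P.ModelOfHasCoeffs P.Core)
  refine ⟨.of P.Core, .of (P.ModelOfHasCoeffs P.Core), CommRingCat.ofHom (algebraMap _ _),
    CommRingCat.ofHom (algebraMap P.Core A),
    CommRingCat.ofHom (e.toRingEquiv.toRingHom.comp Algebra.TensorProduct.includeRight.toRingHom),
    ?_, ?_, ?_⟩
  · refine h.of_iso (Iso.refl _) (Iso.refl _) (Iso.refl _) e.toRingEquiv.toCommRingCatIso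
      (by simp) (by simp) ?_ ?_
    · ext x
      simp only [Iso.refl_hom, Category.id_comp]
      change e (x ⊗ₜ 1) = φ.hom x
      exact e.commutes x
    · rw [Iso.refl_hom, Category.id_comp]
      rfl
  · change Algebra.FiniteType ℤ P.Core
    infer_instance
  · change (algebraMap P.Core (P.ModelOfHasCoeffs P.Core)).FiniteType
    rw [RingHom.finiteType_algebraMap]
    infer_instance


open AlgebraicGeometry CategoryTheory Limits in
/-- Let f : X → S be a morphism of finite presentation between affine schemes. Then f is the base change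
of a morphism of finite type f₀ : X₀ → S₀ between affine schemes with S₀ of finite type over ℤ. -/
theorem result {X S : Scheme.{u}} (f : X ⟶ S) [IsAffine X] [IsAffine S] [LocallyOfFinitePresentation f] :
    ∃ (X₀ S₀ : Scheme.{u}) (f₀ : X₀ ⟶ S₀) (g : S ⟶ S₀) (g' : X ⟶ X₀), IsAffine X₀ ∧ IsAffine S₀ ∧ IsPullback g' f f₀ g ∧
      Algebra.FiniteType ℤ Γ(S₀, ⊤) ∧ LocallyOfFiniteType f₀ := by
  have hφ : f.appTop.hom.FinitePresentation :=
    (HasRingHomProperty.iff_of_isAffine (P := @LocallyOfFinitePresentation)).mp inferInstance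
  obtain ⟨A₀, B₀, φ₀, α, β, hpo, hA₀, hφ₀⟩ := exists_isPushout_model f.appTop hφ
  have hpb := (isPullback_SpecMap_of_isPushout α φ₀ f.appTop β hpo).flip
  refine ⟨Spec B₀, Spec A₀, Spec.map φ₀, S.isoSpec.hom ≫ Spec.map α, X.isoSpec.hom ≫ Spec.map β,
    inferInstance, inferInstance, ?_, ?_, ?_⟩
  · have hiso : IsPullback X.isoSpec.hom f (Spec.map f.appTop) S.isoSpec.hom :=
      IsPullback.of_horiz_isIso ⟨Scheme.isoSpec_hom_naturality f⟩
    exact hiso.paste_horiz hpb
  · let e : A₀ ≃+* Γ(Spec A₀, ⊤) := (Scheme.ΓSpecIso A₀).symm.commRingCatIsoToRingEquiv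
    have : Algebra.FiniteType ℤ A₀ := hA₀
    exact Algebra.FiniteType.equiv this (e.toIntAlgEquiv)
  · exact (HasRingHomProperty.Spec_iff (P := @LocallyOfFiniteType)).mpr hφ₀

end Groth.Agent.S1460
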