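import Groth.Statements.S14620
import Groth.Agent.H3.HensIntegralLocalBC
import Mathlib.FieldTheory.PurelyInseparable.Basic

set_option autoImplicit false
universe u
open Hensel

namespace Groth.Agent.S14620

/-- In the strictly henselian case, let f : A → B be a finite local homomorphism of local rings. If A is
strictly henselian (henselian local with separably closed residue field), then so is B. -/
theorem result {A B : Type u} [CommRing A] [IsLocalRing A]
    [CommRing B] [IsLocalRing B] (f : A →+* B) (hf : f.Finite) [IsLocalHom f]
    (hA : EtCoh.IsStrictlyHenselianLocalRing A) : EtCoh.IsStrictlyHenselianLocalRing B := by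
  obtain ⟨hHA, hsep⟩ := hA
  let _ : Algebra A B := f.toAlgebra
  have hloc : IsLocalHom (algebraMap A B) := ‹IsLocalHom f›
  have hfin : Module.Finite A B := hf
  have hint : Algebra.IsIntegral A B := Algebra.IsIntegral.of_finite A B
  have h1 : HenselianRing B ((IsLocalRing.maximalIdeal A).map (algebraMap A B)) :=
    Groth.Agent.H3.henselianRing_of_isIntegral (inferInstance : HenselianRing A _) B
  have h2 : IsLocalRing.maximalIdeal B ≤
      ((IsLocalRing.maximalIdeal A).map (algebraMap A B)).radical := by
    rw [← Groth.Agent.H3.HensIntegralBC.radical_map_maximalIdeal A B]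
    exact Ideal.le_radical
  have h3 : HenselianLocalRing B :=
    Groth.Agent.H3.henselianLocalRing_of_henselianRing B
      (Groth.Agent.H3.henselianRing_of_le_radical h1 h2)
  refine ⟨h3, ?_⟩
  have : Algebra.IsAlgebraic (IsLocalRing.ResidueField A) (IsLocalRing.ResidueField B) :=
    Algebra.IsAlgebraic.of_finite _ _
  exact Algebra.IsAlgebraic.isSepClosed (F := IsLocalRing.ResidueField A)
    (E := IsLocalRing.ResidueField B)

end Groth.Agent.S14620
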