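import Groth.Statements.S14621
import Groth.Agent.H73.FilteredSheaf

set_option autoImplicit false
open CategoryTheory CategoryTheory.Limits
universe u
open CohSite

namespace Groth.Agent.S14621

/-- Let C be a small category with pullbacks and J a Grothendieck topology on C in which every object is
quasi-compact in the site sense (every covering sieve contains finitely many morphisms which already
generate a covering sieve). Then for every small filtered category I the inclusion of sheaves of
sets on (C, J) into presheaves preserves colimits of shape I: filtered colimits of sheaves are
computed objectwise. (Only sheaves of sets are stated; the same holds for sheaves of abelian groups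
or modules. All pullbacks in C are assumed.) -/
theorem result {C : Type u} [SmallCategory C]
    [HasPullbacks C] (J : GrothendieckTopology C) (hJ : ∀ U : C, ToposFin.IsQCSite J U)
    (I : Type u) [SmallCategory I] [IsFiltered I] :
    PreservesColimitsOfShape I (sheafToPresheaf J (Type u)) := by
  constructor
  intro K
  let _ : CreatesColimit K (sheafToPresheaf J (Type u)) :=
    Sheaf.createsColimitOfIsSheaf K (fun c hc => by
      rw [isSheaf_iff_isSheaf_of_type]
      refine Groth.Agent.H73.colim_isSheaf (K ⋙ sheafToPresheaf J (Type u)) c hc J (fun i => ?_) hJ
      exact (isSheaf_iff_isSheaf_of_type J _).mp (K.obj i).property)
  infer_instance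

end Groth.Agent.S14621
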