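import Groth.Statements.S14630
import Groth.Agent.H60.QCCech
-- import your own Groth.Agent.* helpers here

set_option autoImplicit false
open CategoryTheory CategoryTheory.Limits AlgebraicGeometry
universe u
open EtBase

namespace Groth.Agent.S14630

/-- On the small étale site of a quasi-compact quasi-separated scheme, let X be a quasi-compact
quasi-separated scheme, U an étale X-scheme quasi-compact and quasi-separated over X, and (U_i → U)
a finite family of étale U-schemes each quasi-compact and quasi-separated over X. Then for every q
and every small filtered category I, the functor F ↦ Ȟ^q((U_i → U), F) on abelian étale sheaves on X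
preserves colimits of shape I. The finite products of the over category (the fibre products entering
the Čech complex) are carried as an instance hypothesis. (The published statement is for an
arbitrary covering family, reduced to a finite one without argument; this row takes a finite family,
which need not cover U.) -/
theorem result (X : Scheme.{u}) [CompactSpace ↥X]
    [QuasiSeparatedSpace ↥X] (U : X.Etale) [QuasiCompact U.hom] [QuasiSeparated U.hom]
    [HasFiniteProducts (Over U)] (ι : Type (u + 1)) [Finite ι] (Uf : ι → Over U)
    [∀ i, QuasiCompact (Uf i).left.hom] [∀ i, QuasiSeparated (Uf i).left.hom]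
    (q : ℕ) (I : Type (u + 1)) [SmallCategory I] [IsFiltered I] :
    PreservesColimitsOfShape I
      (sheafToPresheaf X.smallEtaleTopology AddCommGrpCat.{u + 1} ⋙ EtCech.cechHFunctor Uf q) := by
  have hU : Groth.Agent.H60.QCEtale.QC U :=
    ⟨@QuasiCompact.compactSpace_of_compactSpace U.left X U.hom inferInstance ‹CompactSpace ↥X›,
      @quasiSeparatedSpace_of_quasiSeparated U.left X U.hom ‹QuasiSeparatedSpace ↥X› inferInstance⟩
  have hUf : ∀ i, Groth.Agent.H60.QCEtale.QC (Uf i).left := fun i =>
    ⟨@QuasiCompact.compactSpace_of_compactSpace (Uf i).left.left X (Uf i).left.hom inferInstance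
        ‹CompactSpace ↥X›,
      @quasiSeparatedSpace_of_quasiSeparated (Uf i).left.left X (Uf i).left.hom
        ‹QuasiSeparatedSpace ↥X› inferInstance⟩
  exact Groth.Agent.H60.QCCech.preservesColimitsOfShape_cechH U hU Uf hUf q I

end Groth.Agent.S14630
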