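import Groth.Statements.S14631
import Mathlib.AlgebraicGeometry.Morphisms.QuasiSeparated
import Mathlib.AlgebraicGeometry.Morphisms.Etale

set_option autoImplicit false
open CategoryTheory AlgebraicGeometry
universe u
open EtBase

namespace Groth.Agent.S14631

/-- Let X be a quasi-separated scheme and U an étale X-scheme. Then there is a jointly surjective family
of étale U-schemes each of which is quasi-compact and quasi-separated, hence of finite presentation,
over X. (Sheaves on the small étale site are therefore determined by their values on étale X-schemes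
of finite presentation; that equivalence is not stated here.) -/
theorem result (X : Scheme.{u})
    [QuasiSeparatedSpace ↥X] (U : X.Etale) :
    ∃ (ι : Type u) (V : ι → Over U), (∀ i, QuasiCompact (V i).left.hom ∧ QuasiSeparated (V i).left.hom) ∧
      ∀ x : ↥(U.left), ∃ (i : ι) (y : ↥((V i).left.left)), (V i).hom.left.base y = x := by
  classical
  refine ⟨U.left.affineOpens, fun V =>
    Over.mk (Y := Scheme.Etale.mk (V.1.ι ≫ U.hom))
      (MorphismProperty.Over.homMk V.1.ι rfl trivial), fun V => ?_, fun x => ?_⟩
  · have : IsAffine (V.1 : Scheme) := V.2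
    exact ⟨@quasiCompact_of_compactSpace (V.1 : Scheme) X (V.1.ι ≫ U.hom) _ ‹QuasiSeparatedSpace ↥X›,
      QuasiSeparated.of_quasiSeparatedSpace (V.1.ι ≫ U.hom)⟩
  · obtain ⟨V, hV, hxV, -⟩ := exists_isAffineOpen_mem_and_subset
      (show x ∈ (⊤ : U.left.Opens) from trivial)
    exact ⟨⟨V, hV⟩, ⟨x, hxV⟩, rfl⟩

end Groth.Agent.S14631
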