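import Groth.Statements.S14641
import Groth.Agent.H40.Cover
import Groth.Agent.H40.ActPts

set_option autoImplicit false
universe u
open CategoryTheory MonoidalCategory CartesianMonoidalCategory MonObj GrpObj AlgebraicGeometry CategoryTheory.Limits
open AlgGrp

namespace Groth.Agent.S14641

/-- Over a field k, let G be a k-group scheme of finite type, i : H → G a closed subgroup scheme, and
(Q, o) the quotient G/H: a k-scheme with a G-action and a rational point o exhibiting it as the
quotient (orbit map flat and surjective, G × H ≅ G ×_Q G). Let n : N → G be a closed subgroup scheme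
which is the kernel of the action of G on Q, i.e. for every k-scheme T, a T-point g of G factors
through N exactly when g acts as the identity on Q_T (on all points of Q over T-schemes). Then N is
normal in G and contained in H, and N is the largest such subgroup: every closed subgroup scheme N'
of G which is normal in G and factors through H factors through N. -/
theorem result (k : Type u) [Field k]
    (G H Q N : Over (Spec (CommRingCat.of k))) [GrpObj G] [LocallyOfFiniteType G.hom] [QuasiCompact G.hom]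
    [GrpObj H] (i : H ⟶ G) [IsMonHom i] [IsClosedImmersion i.left]
    (a : AlgGrp.Action G Q) (o : 𝟙_ (Over (Spec (CommRingCat.of k))) ⟶ Q) (hQ : AGF.IsQuotient i Q a o)
    [GrpObj N] (n : N ⟶ G) [IsMonHom n] [IsClosedImmersion n.left]
    (hN : ∀ (T : Over (Spec (CommRingCat.of k))) (g : T ⟶ G),
      (∃ m : T ⟶ N, m ≫ n = g) ↔
        ∀ (T' : Over (Spec (CommRingCat.of k))) (s : T' ⟶ T) (x : T' ⟶ Q),
          CartesianMonoidalCategory.lift (s ≫ g) x ≫ a.act = x) :
    AlgGrp.IsNormalHom n ∧ (∃ f : N ⟶ H, f ≫ i = n) ∧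
      ∀ (N' : Over (Spec (CommRingCat.of k))) [GrpObj N'] (n' : N' ⟶ G) [IsMonHom n'] [IsClosedImmersion n'.left],
        AlgGrp.IsNormalHom n' → (∃ f : N' ⟶ H, f ≫ i = n') → ∃ f' : N' ⟶ N, f' ≫ n = n' := by
  obtain ⟨hlft, hflat, hsurj, hpb⟩ := hQ
  have hcov : Groth.Agent.H40.IsCov (a.orbitMap o) := Groth.Agent.H40.isCov_of_flat_surjective _
  have hpt : ∀ {T : Over (Spec (CommRingCat.of k))} (m : T ⟶ G ⊗ H),
      m ≫ (G ◁ i) ≫ μ[G] = (m ≫ fst G H) * ((m ≫ snd G H) ≫ i) := by
    intro T m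
    have : m ≫ (G ◁ i) = lift (m ≫ fst G H) ((m ≫ snd G H) ≫ i) := by
      apply CartesianMonoidalCategory.hom_ext <;> simp
    rw [← Category.assoc, this, Hom.mul_def]
  -- H fixes o
  have hfix : ∀ {T : Over (Spec (CommRingCat.of k))} (h : T ⟶ H),
      Groth.Agent.H40.psmul a (h ≫ i) (toUnit T ≫ o) = toUnit T ≫ o := by
    intro T h
    have h1 : lift (1 : T ⟶ G) h ≫ fst G H ≫ a.orbitMap o =
        lift (1 : T ⟶ G) h ≫ ((G ◁ i) ≫ μ[G]) ≫ a.orbitMap o := by rw [hpb.w]
    have e1 : lift (1 : T ⟶ G) h ≫ fst G H ≫ a.orbitMap o = toUnit T ≫ o := by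
      rw [← Category.assoc, lift_fst, Groth.Agent.H40.comp_orbitMap, Groth.Agent.H40.one_psmul]
    have e2 : lift (1 : T ⟶ G) h ≫ ((G ◁ i) ≫ μ[G]) ≫ a.orbitMap o =
        Groth.Agent.H40.psmul a (h ≫ i) (toUnit T ≫ o) := by
      rw [← Category.assoc, hpt, lift_fst, lift_snd, _root_.one_mul,
        Groth.Agent.H40.comp_orbitMap]
    rw [e1, e2] at h1
    exact h1.symm
  -- N acts trivially
  have hNtriv : ∀ {T : Over (Spec (CommRingCat.of k))} (m : T ⟶ N) (x : T ⟶ Q),
      Groth.Agent.H40.psmul a (m ≫ n) x = x := by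
    intro T m x
    have := (hN T (m ≫ n)).mp ⟨m, rfl⟩ T (𝟙 T) x
    rw [Category.id_comp] at this
    exact this
  refine ⟨?_, ?_, ?_⟩
  · intro T g m
    have : ∃ m' : T ⟶ N, m' ≫ n = g * (m ≫ n) * g⁻¹ := by
      rw [hN]
      intro T' s x
      show Groth.Agent.H40.psmul a (s ≫ (g * (m ≫ n) * g⁻¹)) x = x
      rw [MonObj.comp_mul, MonObj.comp_mul, GrpObj.comp_inv, Groth.Agent.H40.mul_psmul,
        Groth.Agent.H40.mul_psmul, ← Category.assoc s m n, hNtriv,
        Groth.Agent.H40.psmul_inv_psmul]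
    obtain ⟨m', hm'⟩ := this
    exact ⟨m', hm'.symm⟩
  · have h1 : (1 : N ⟶ G) ≫ a.orbitMap o = n ≫ a.orbitMap o := by
      rw [Groth.Agent.H40.comp_orbitMap, Groth.Agent.H40.comp_orbitMap,
        Groth.Agent.H40.one_psmul]
      have := hNtriv (𝟙 N) (toUnit N ≫ o)
      rw [Category.id_comp] at this
      exact this.symm
    refine ⟨hpb.lift _ _ h1 ≫ snd G H, ?_⟩
    have h2 := hpb.lift_snd _ _ h1
    rw [hpt, hpb.lift_fst, _root_.one_mul] at h2
    exact h2
  · intro N' _ n' _ _ hN' hf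
    obtain ⟨f, hf⟩ := hf
    rw [hN]
    intro T' s x
    show Groth.Agent.H40.psmul a (s ≫ n') x = x
    obtain ⟨T'', c, g, hc, hg⟩ := hcov.exists_local_lift x
    rw [Groth.Agent.H40.comp_orbitMap] at hg
    have := hc.epi
    rw [← cancel_epi c, Groth.Agent.H40.comp_psmul, ← hg, ← Groth.Agent.H40.mul_psmul]
    obtain ⟨ν', hν'⟩ := hN' T'' g⁻¹ (c ≫ s)
    rw [_root_.inv_inv] at hν'
    have e : (c ≫ s ≫ n') * g = g * ((ν' ≫ f) ≫ i) := by
      rw [Category.assoc ν' f i, hf, ← hν', ← Category.assoc c s n']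
      group
    rw [e, Groth.Agent.H40.mul_psmul, hfix]

end Groth.Agent.S14641
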