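import Mathlib
import Groth.Statements.S14670
import Groth.Agent.H72.Miracle
import Groth.Agent.H72.EquidimFlat
import Groth.Agent.H14.RegularNormal
-- import your own Groth.Agent.* helpers here

set_option autoImplicit false
universe u
open CAlg

namespace Groth.Agent.S14670

open IsLocalRing

/-- Let R be a regular local ring and S an integral domain containing R as a subring over which it is a
finitely generated module, such that the localization of S at each of its maximal ideals is a
Cohen–Macaulay local ring. Then S is a flat R-module. (The published statement does not require S to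
be a domain; in that generality it fails — for a discrete valuation ring R with residue field κ the
ring R × κ contains R diagonally, is finite over R with Cohen–Macaulay localizations, and is not
flat — and the printed argument needs every maximal ideal of S to have height dim R, which holds
when S is a domain by going down.) -/
theorem result (R S : Type u) [CommRing R] [CommRing S]
    [IsRegularLocalRing R] [IsDomain S] [Algebra R S] [Module.Finite R S]
    (hinj : Function.Injective (algebraMap R S))
    (hCM : ∀ (q : Ideal S) [q.IsMaximal], LocCoh.IsCohenMacaulayLocalRing (Localization.AtPrime q)) :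
    Module.Flat R S := by
  have hic : IsIntegrallyClosed R :=
    Groth.Agent.H14.isIntegrallyClosed_of_isRegularLocalRing R
  have hfs : FaithfulSMul R S := (faithfulSMul_iff_algebraMap_injective R S).mpr hinj
  have hint : Algebra.IsIntegral R S := inferInstance
  have hN : IsNoetherianRing S := IsNoetherianRing.of_finite R S
  have hdomR : IsDomain R := Groth.Agent.Lead.RLR.isDomain R
  have hgd : Algebra.HasGoingDown R S := inferInstance
  apply Module.flat_of_isLocalized_maximal S S (fun q _ => Localization.AtPrime q)
    (fun q _ => Algebra.linearMap S (Localization.AtPrime q))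
  intro q hq
  have hcomap : q.comap (algebraMap R S) = maximalIdeal R :=
    IsLocalRing.eq_maximalIdeal (Ideal.isMaximal_comap_of_isIntegral_of_isMaximal q)
  have hlo : q.LiesOver (maximalIdeal R) := ⟨hcomap.symm⟩
  have hloc : IsLocalHom (algebraMap R (Localization.AtPrime q)) := by
    constructor
    intro a ha
    by_contra hna
    have ham : a ∈ maximalIdeal R := (IsLocalRing.mem_maximalIdeal a).mpr hna
    have h1 : algebraMap R S a ∈ q := by
      rw [← hcomap] at ham
      exact ham
    have h2 : algebraMap S (Localization.AtPrime q) (algebraMap R S a) ∈
        maximalIdeal (Localization.AtPrime q) :=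
      (IsLocalization.AtPrime.to_map_mem_maximal_iff (Localization.AtPrime q) q _).mpr h1
    rw [← IsScalarTower.algebraMap_apply] at h2
    exact (IsLocalRing.mem_maximalIdeal _).mp h2 ha
  have hCMq := hCM q
  have hgdT : Algebra.HasGoingDown R (Localization.AtPrime q) :=
    Algebra.HasGoingDown.trans (R := R) (S := S) (Localization.AtPrime q)
  have hloT : (maximalIdeal (Localization.AtPrime q)).LiesOver (maximalIdeal R) :=
    ⟨(IsLocalRing.maximalIdeal_comap (algebraMap R (Localization.AtPrime q))).symm⟩
  -- heights
  have h1 := Ideal.height_eq_height_add_of_liesOver_of_hasGoingDown (maximalIdeal R) q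
  have h2 := Ideal.height_eq_height_add_of_liesOver_of_hasGoingDown (maximalIdeal R)
    (maximalIdeal (Localization.AtPrime q))
  -- the fibre S / m S is Artinian
  have h3 : (q.map (Ideal.Quotient.mk ((maximalIdeal R).map (algebraMap R S)))).height = 0 := by
    let _ : Field (R ⧸ maximalIdeal R) := Ideal.Quotient.field _
    have hfin : Module.Finite (R ⧸ maximalIdeal R) (S ⧸ (maximalIdeal R).map (algebraMap R S)) :=
      Module.Finite.of_restrictScalars_finite R _ _
    have hart : IsArtinianRing (S ⧸ (maximalIdeal R).map (algebraMap R S)) :=
      IsArtinianRing.of_finite (R ⧸ maximalIdeal R) _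
    have hle : (maximalIdeal R).map (algebraMap R S) ≤ q := by
      rw [Ideal.map_le_iff_le_comap, hcomap]
    have hne : q.map (Ideal.Quotient.mk ((maximalIdeal R).map (algebraMap R S))) ≠ ⊤ := by
      intro htop
      have := Ideal.comap_map_of_surjective (Ideal.Quotient.mk ((maximalIdeal R).map (algebraMap R S)))
        Ideal.Quotient.mk_surjective q
      rw [htop, Ideal.comap_top, ← RingHom.ker_eq_comap_bot, Ideal.mk_ker, sup_of_le_left hle] at this
      exact hq.ne_top this.symm
    have h4 := Ideal.height_le_ringKrullDim_of_ne_top hne
    have h5 : ringKrullDim (S ⧸ (maximalIdeal R).map (algebraMap R S)) ≤ 0 :=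
      (Ring.krullDimLE_iff (n := 0)).mp inferInstance
    have h6 : ((q.map (Ideal.Quotient.mk ((maximalIdeal R).map (algebraMap R S)))).height :
        WithBot ℕ∞) ≤ 0 := h4.trans h5
    have h7 : (q.map (Ideal.Quotient.mk ((maximalIdeal R).map (algebraMap R S)))).height ≤ 0 := by
      exact_mod_cast h6
    exact le_antisymm h7 bot_le
  rw [h3, add_zero] at h1
  have h8 : (maximalIdeal (Localization.AtPrime q)).height = q.height := by
    have e1 := IsLocalization.AtPrime.ringKrullDim_eq_height q (Localization.AtPrime q)
    have e2 := IsLocalRing.maximalIdeal_height_eq_ringKrullDim (R := Localization.AtPrime q)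
    rw [e1] at e2
    exact_mod_cast e2
  rw [h8, h1] at h2
  have hfinR : (maximalIdeal R).height ≠ ⊤ := Ideal.height_ne_top (Ideal.IsPrime.ne_top inferInstance)
  have h9 : ((maximalIdeal (Localization.AtPrime q)).map (Ideal.Quotient.mk
      ((maximalIdeal R).map (algebraMap R (Localization.AtPrime q))))).height = 0 := by
    have : (maximalIdeal R).height + 0 = (maximalIdeal R).height + ((maximalIdeal (Localization.AtPrime q)).map (Ideal.Quotient.mk
      ((maximalIdeal R).map (algebraMap R (Localization.AtPrime q))))).height := by
      rw [add_zero]; exact h2
    exact (ENat.add_right_injective_of_ne_top hfinR this).symm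
  apply Groth.Agent.H72.Miracle.flat_of_isCohenMacaulay R (Localization.AtPrime q)
    (Localization.AtPrime q)
  · exact LocCoh.IsCohenMacaulayLocalRing.supportDim_eq_depth
  · have hIne : (maximalIdeal R).map (algebraMap R (Localization.AtPrime q)) ≠ ⊤ := by
      intro htop
      have hle := IsLocalRing.map_maximalIdeal_le (algebraMap R (Localization.AtPrime q))
      rw [htop] at hle
      exact (IsLocalRing.maximalIdeal.isMaximal _).ne_top (top_le_iff.mp hle)
    have hnt : Nontrivial (Localization.AtPrime q ⧸
        (maximalIdeal R).map (algebraMap R (Localization.AtPrime q))) :=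
      Ideal.Quotient.nontrivial_iff.mpr hIne
    have hlq : IsLocalRing (Localization.AtPrime q ⧸
        (maximalIdeal R).map (algebraMap R (Localization.AtPrime q))) :=
      IsLocalRing.of_surjective' (Ideal.Quotient.mk _) Ideal.Quotient.mk_surjective
    have hsm : (maximalIdeal R).map (algebraMap R (Localization.AtPrime q)) •
        (⊤ : Submodule (Localization.AtPrime q) (Localization.AtPrime q)) =
        (maximalIdeal R).map (algebraMap R (Localization.AtPrime q)) := by
      rw [smul_eq_mul, Ideal.mul_top]
    rw [hsm, Module.supportDim_self_eq_ringKrullDim, Module.supportDim_quotient_eq_ringKrullDim,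
      ← IsLocalRing.maximalIdeal_height_eq_ringKrullDim (R := Localization.AtPrime q),
      ← IsLocalRing.maximalIdeal_height_eq_ringKrullDim (R := R),
      ← IsLocalRing.maximalIdeal_height_eq_ringKrullDim (R := Localization.AtPrime q ⧸
        (maximalIdeal R).map (algebraMap R (Localization.AtPrime q))),
      ← Groth.Agent.H72.FlatCM.map_mk_maximalIdeal _ hIne, h9, h8, h1]
    simp

end Groth.Agent.S14670
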