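import Groth.Statements.S14672
import Groth.Agent.H68.FlatSym

set_option autoImplicit false
universe u
open scoped TensorProduct
open SymTen

namespace Groth.Agent.S14672

open Groth.Agent.H68.FV

/-- Let R be a commutative ring, f : M → N a surjective R-linear map whose target N is flat over R, and
n ≥ 0. Then the induced map on symmetric tensors of degree n is surjective: every element of the
n-fold tensor power of N over R which is fixed by every permutation of the factors is the image,
under the n-fold tensor power of f, of an element of the n-fold tensor power of M fixed by every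
permutation of the factors. -/
theorem result (R : Type u) [CommRing R] (M N : Type u) [AddCommGroup M] [Module R M]
    [AddCommGroup N] [Module R N] [Module.Flat R N] (f : M →ₗ[R] N) (hf : Function.Surjective f) (n : ℕ)
    (t : ⨂[R] _ : Fin n, N) (ht : ∀ σ : Equiv.Perm (Fin n), PiTensorProduct.reindex R (fun _ : Fin n => N) σ t = t) :
    ∃ s : ⨂[R] _ : Fin n, M, (∀ σ : Equiv.Perm (Fin n), PiTensorProduct.reindex R (fun _ : Fin n => M) σ s = s) ∧
      PiTensorProduct.map (fun _ : Fin n => f) s = t := by
  classical
  obtain ⟨l, y, W, hW, -, hz⟩ := exists_sym_rep (Q := R) (Q₂ := R) (0 : R →ₗ[R] R) n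
    ((1 : R) ⊗ₜ[R] t) (fun σ => by rw [LinearMap.lTensor_tmul, LinearEquiv.coe_coe, ht σ])
    (by simp)
  have ht' : t = ∑ c', W c' • PiTensorProduct.tprod R (fun i => y (c' i)) := by
    have := congrArg (TensorProduct.lid R (⨂[R] _ : Fin n, N)) hz
    rw [TensorProduct.lid_tmul, one_smul, map_sum] at this
    rw [this]
    refine Finset.sum_congr rfl fun c' _ => ?_
    rw [TensorProduct.lid_tmul]
  choose x hx using fun j => hf (y j)
  refine ⟨∑ c', W c' • PiTensorProduct.tprod R (fun i => x (c' i)), fun σ => ?_, ?_⟩
  · rw [map_sum]
    have e1 : ∀ c' : Fin n → Fin l, PiTensorProduct.reindex R (fun _ : Fin n => M) σ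
        (W c' • PiTensorProduct.tprod R (fun i => x (c' i))) =
        W c' • PiTensorProduct.tprod R (fun i => x (c' (σ.symm i))) := by
      intro c'
      rw [map_smul, PiTensorProduct.reindex_tprod]
    rw [Finset.sum_congr rfl fun c' _ => e1 c', ← (compPerm (Fin l) σ).sum_comp]
    refine Finset.sum_congr rfl fun c' _ => ?_
    simp only [compPerm, Equiv.coe_fn_mk, Equiv.apply_symm_apply]
    rw [hW σ c']
  · rw [map_sum, ht']
    refine Finset.sum_congr rfl fun c' _ => ?_
    rw [map_smul, PiTensorProduct.map_tprod]
    congr 2
    funext i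
    exact hx (c' i)

end Groth.Agent.S14672
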