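import Groth.Statements.S14692
import Groth.Agent.H73.KummerLevelMain

set_option autoImplicit false
universe u
open CAlg

namespace Groth.Agent.S14692

/-- Let R be a discrete valuation ring of characteristic zero and residue characteristic p, with
uniformizer π and a primitive p^n-th root of unity ζ (n ≥ 1), and A a Noetherian integrally closed
domain which is a faithfully flat R-algebra, in which πA is a prime ideal and every element that is
a unit modulo π is a unit (as when A is π-adically complete, or local). Let f, g be units of A, j a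
natural number with π^{p^{n−1}(p−1)(j+1)} dividing p (that is, j is less than the valuation of ζ −
1, so that the polynomials ((1 + π^{j}T)^{p^n} − 1)/π^{jp^n} and ((1 + π^{j+1}T)^{p^n} −
1)/π^{(j+1)p^n} have coefficients in R), and f₀ ∈ A with f·g^{p^n} = 1 + π^{j p^n}·f₀; suppose j is
maximal with this property: there is no unit g' of A with f·g'^{p^n} ≡ 1 modulo π^{(j+1)p^n}.
Suppose moreover that the algebra L = A[1/π][Z]/(Z^{p^n} − f) is an integral domain (the
μ_{p^n}-torsor Z^{p^n} = f is connected on the generic fibre) and that, B denoting the integral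
closure of A in L (the normalization of Spec A in that cover), the ideal πB is radical (the
normalization has reduced special fibre). Then f₀ is not congruent modulo πA to a p^n-th power. (The
published statement phrases the hypothesis on j as: the class of the torsor Z^{p^n} = f lies in
H¹(Spec A, G_{π^j,n}) and not in H¹(Spec A, G_{π^{j+1},n}); the conditions on g and g' are its
ring-theoretic form, which is the first assertion of the same lemma; A is there factorial and
π-adically complete, or normal local, which this row keeps only through the consequences used: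
integrally closed, and units lift modulo π.) -/
theorem result
    (R : Type u) [CommRing R] [IsDomain R] [IsDiscreteValuationRing R] [CharZero R]
    (p : ℕ) [Fact p.Prime] [CharP (IsLocalRing.ResidueField R) p] (ϖ : R) (hϖ : Irreducible ϖ)
    (n : ℕ) (hn : 0 < n) (ζ : R) (hζ : IsPrimitiveRoot ζ (p ^ n))
    (A : Type u) [CommRing A] [IsDomain A] [IsNoetherianRing A] [IsIntegrallyClosed A] [Algebra R A]
    [Module.FaithfullyFlat R A]
    (hprime : (Ideal.span {algebraMap R A ϖ}).IsPrime)
    (hlift : ∀ a : A, IsUnit (Ideal.Quotient.mk (Ideal.span {algebraMap R A ϖ}) a) → IsUnit a)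
    (f g : Aˣ) (j : ℕ) (hj : ϖ ^ (p ^ (n - 1) * (p - 1) * (j + 1)) ∣ (p : R)) (f₀ : A)
    (hfg : (f : A) * (g : A) ^ (p ^ n) = 1 + (algebraMap R A ϖ) ^ (j * p ^ n) * f₀)
    (hmax : ∀ (g' : Aˣ) (c : A), (f : A) * (g' : A) ^ (p ^ n) ≠ 1 + (algebraMap R A ϖ) ^ ((j + 1) * p ^ n) * c)
    [IsDomain (AdjoinRoot (Polynomial.X ^ (p ^ n) - Polynomial.C (algebraMap A (Localization.Away (algebraMap R A ϖ)) (f : A))))]
    (hred : (Ideal.span {algebraMap A (integralClosure A (AdjoinRoot (Polynomial.X ^ (p ^ n) - Polynomial.C (algebraMap A (Localization.Away (algebraMap R A ϖ)) (f : A))))) (algebraMap R A ϖ)}).IsRadical)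
    (g₀ : A) : f₀ - g₀ ^ (p ^ n) ∉ Ideal.span {(algebraMap R A ϖ)} := by
  classical
  have hp : p.Prime := Fact.out
  have hm0 : 0 < p ^ n := pow_pos hp.pos n
  set π : A := algebraMap R A ϖ with hπ
  have hπ0 : π ≠ 0 := by
    rw [hπ, Ne, map_eq_zero_iff _ (FaithfulSMul.algebraMap_injective R A)]
    exact hϖ.ne_zero
  have hdomAπ : IsDomain (Localization.Away π) :=
    IsLocalization.isDomain_localization
      (powers_le_nonZeroDivisors_of_noZeroDivisors hπ0)
  have hinj1 : Function.Injective (algebraMap A (Localization.Away π)) :=
    IsLocalization.injective _ (powers_le_nonZeroDivisors_of_noZeroDivisors hπ0)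
  have hinj2 : Function.Injective (algebraMap (Localization.Away π)
      (AdjoinRoot (Polynomial.X ^ (p ^ n) - Polynomial.C (algebraMap A (Localization.Away π) (f : A))))) := by
    rw [AdjoinRoot.algebraMap_eq]
    apply AdjoinRoot.of.injective_of_degree_ne_zero
    rw [Polynomial.degree_X_pow_sub_C hm0]
    exact_mod_cast hm0.ne'
  have hinj : Function.Injective (algebraMap A
      (AdjoinRoot (Polynomial.X ^ (p ^ n) - Polynomial.C (algebraMap A (Localization.Away π) (f : A))))) := by
    rw [IsScalarTower.algebraMap_eq A (Localization.Away π)]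
    exact hinj2.comp hinj1
  have hπu : IsUnit (algebraMap A
      (AdjoinRoot (Polynomial.X ^ (p ^ n) - Polynomial.C (algebraMap A (Localization.Away π) (f : A)))) π) := by
    rw [IsScalarTower.algebraMap_apply A (Localization.Away π)]
    exact (IsLocalization.Away.algebraMap_isUnit (S := Localization.Away π) π).map (algebraMap (Localization.Away π) (AdjoinRoot _))
  have hjA : π ^ (p ^ (n - 1) * (p - 1) * (j + 1)) ∣ (p : A) := by
    have := map_dvd (algebraMap R A) hj
    simpa [hπ] using this
  have hZ : (AdjoinRoot.root (Polynomial.X ^ (p ^ n) - Polynomial.C (algebraMap A (Localization.Away π) (f : A)))) ^ (p ^ n)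
      = algebraMap A (AdjoinRoot (Polynomial.X ^ (p ^ n) - Polynomial.C (algebraMap A (Localization.Away π) (f : A)))) f := by
    have h1 := AdjoinRoot.mk_self (f := (Polynomial.X ^ (p ^ n) - Polynomial.C (algebraMap A (Localization.Away π) (f : A))))
    rw [map_sub, map_pow, AdjoinRoot.mk_X, AdjoinRoot.mk_C, sub_eq_zero] at h1
    rw [h1]
    exact (IsScalarTower.algebraMap_apply A (Localization.Away π) (AdjoinRoot _) (f : A)).symm
  exact Groth.Agent.H73.KummerLevel.main hinj p π hπ0 hπu n hn hlift f g j hjA f₀ hfg hmax _ hZ hred g₀

end Groth.Agent.S14692
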