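import Groth.Statements.S14695
import Groth.Agent.H40.FiniteTorsSection
import Groth.Agent.H40.SemilinearLift
set_option backward.isDefEq.respectTransparency.types false

set_option autoImplicit false
universe u
open CategoryTheory AlgebraicGeometry
open NonAbH1

namespace Groth.Agent.S14695

/-- In the case where the morphism Y → X is the identity of X: let X be a normal integral scheme
(integral, with every local ring an integrally closed domain), G and G' X-group schemes which are
finite and flat over X, and g : G → G' a homomorphism which becomes an isomorphism after base change
to the spectrum of the function field of X. If an fppf G-torsor P over X becomes trivial after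
extension of the structure group along g — there is an fppf G'-torsor P' over X with a g-equivariant
X-morphism P → P', and P' has a section over X — then P has a section over X. (The published
statement takes G, G' commutative and all schemes Noetherian, allows also composition with the
pull-back along a morphism Y → X admitting a rational section, and is phrased as injectivity of
H¹(X, G) → H¹(Y, G'_Y); this row is the case where Y → X is the identity of X, as the trivial-kernel
assertion the argument establishes, for which commutativity and the Noetherian condition are not
needed.) -/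
theorem result {X : Scheme.{u}} [IsIntegral X]
    (hX : Pi1.IsNormalScheme X) (G G' : Over X) [GrpObj G] [GrpObj G']
    [IsFinite G.hom] [Flat G.hom] [IsFinite G'.hom] [Flat G'.hom]
    (g : G ⟶ G') [IsMonHom g]
    (hg : IsIso ((Over.pullback (X.fromSpecStalk (genericPoint X))).map g))
    (P : Over X) (a : AlgGrp.Action G P) (hP : NonAbH1.IsTorsorFor Scheme.fppfPrecoverage a)
    (P' : Over X) (a' : AlgGrp.Action G' P') (hP' : NonAbH1.IsTorsorFor Scheme.fppfPrecoverage a')
    (hpush : NonAbH1.IsPushforwardAlongSch g a a') (htriv : NonAbH1.HasSectionOver P' (𝟙 X)) :
    NonAbH1.HasSectionOver P (𝟙 X) := by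
  haveI : IsFinite P.hom := H40.isFinite_of_isTorsorFor_fppf a hP
  apply H40.hasSectionOver_of_generic (fun x => (hX x).2) P
  obtain ⟨s, hs⟩ := htriv
  obtain ⟨j, hj⟩ := hpush
  have hPq : NonAbH1.IsTorsorFor Scheme.fpqcPrecoverage a :=
    ⟨hP.1, H40.IsLocallyTrivialFor.mono Scheme.fppfPrecoverage_le_fpqcPrecoverage hP.2⟩
  let T : Over X := Over.mk (X.fromSpecStalk (genericPoint X))
  let p' : T ⟶ P' := Over.homMk (X.fromSpecStalk (genericPoint X) ≫ s) (by
    change (X.fromSpecStalk (genericPoint X) ≫ s) ≫ P'.hom = X.fromSpecStalk (genericPoint X)
    rw [Category.assoc, hs, Category.comp_id])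
  obtain ⟨p, -⟩ := H40.exists_lift_of_semilinear g a hPq a' hP'.1 j hj T
    (fun Z z => H40.bijective_comp_of_factors (X.fromSpecStalk (genericPoint X)) g hg Z z.left
      (Over.w z)) p'
  exact ⟨p.left, Over.w p⟩

end Groth.Agent.S14695
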