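import Groth.Statements.S14728
import Mathlib.RingTheory.Localization.LocalizationLocalization
import Mathlib.RingTheory.Valuation.ValuationRing
import Mathlib.RingTheory.Localization.AtPrime.Basic

set_option autoImplicit false
universe u
open ValPrufer

namespace Groth.Agent.S14728

/-- Let R be a Prüfer domain, i.e. a domain all of whose local rings at primes are valuation rings. (a)
For a multiplicative subset S, any localisation B = S⁻¹R that is a domain (S not containing 0) is a
Prüfer domain. (b) For a prime ideal I, the quotient R/I is a Prüfer domain. -/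
theorem result
    (R : Type u) [CommRing R] [IsDomain R]
    (hR : ∀ (p : Ideal R) [p.IsPrime], ValuationRing (Localization.AtPrime p))
    (S : Submonoid R) (B : Type u) [CommRing B] [IsDomain B] [Algebra R B] [IsLocalization S B]
    (I : Ideal R) [I.IsPrime] :
    (∀ (q : Ideal B) [q.IsPrime], ValuationRing (Localization.AtPrime q)) ∧
      (∀ (q : Ideal (R ⧸ I)) [q.IsPrime], ValuationRing (Localization.AtPrime q)) := by
  refine ⟨fun q hq => ?_, fun q hq => ?_⟩
  · have hloc : IsLocalization.AtPrime (Localization.AtPrime q) (q.comap (algebraMap R B)) :=
      IsLocalization.isLocalization_isLocalization_atPrime_isLocalization S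
        (Localization.AtPrime q) q
    have := hR (q.comap (algebraMap R B))
    let e : Localization.AtPrime (q.comap (algebraMap R B)) ≃ₐ[R] Localization.AtPrime q :=
      IsLocalization.algEquiv (q.comap (algebraMap R B)).primeCompl _ _
    have : IsDomain (Localization.AtPrime q) :=
      IsLocalization.isDomain_localization (le_nonZeroDivisors_of_noZeroDivisors
        (fun h => hq.ne_top ((Ideal.eq_top_iff_one _).mpr (by simp at h))))
    exact Function.Surjective.valuationRing e.toRingEquiv.toRingHom e.surjective
  · have := hR (q.comap (Ideal.Quotient.mk I))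
    have : IsDomain (Localization.AtPrime q) :=
      IsLocalization.isDomain_localization (le_nonZeroDivisors_of_noZeroDivisors
        (fun h => hq.ne_top ((Ideal.eq_top_iff_one _).mpr (by simp at h))))
    refine Function.Surjective.valuationRing
      (Localization.localRingHom (q.comap (Ideal.Quotient.mk I)) q (Ideal.Quotient.mk I) rfl) ?_
    intro x
    obtain ⟨⟨a, s⟩, rfl⟩ := IsLocalization.mk'_surjective q.primeCompl x
    obtain ⟨a', rfl⟩ := Ideal.Quotient.mk_surjective a
    obtain ⟨s', hs'⟩ := Ideal.Quotient.mk_surjective s.1
    have hs'' : s' ∈ (q.comap (Ideal.Quotient.mk I)).primeCompl := by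
      show ¬ (Ideal.Quotient.mk I s' ∈ q)
      rw [hs']
      exact s.2
    refine ⟨IsLocalization.mk' _ a' ⟨s', hs''⟩, ?_⟩
    rw [Localization.localRingHom_mk']
    congr 1
    exact Subtype.ext hs'

end Groth.Agent.S14728
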