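import Groth.Statements.S14738
import Groth.Agent.H73.PruferSpec

set_option autoImplicit false
universe u
open ValPrufer

namespace Groth.Agent.S14738

/-- Let R be a semilocal Prüfer domain (an integral domain with finitely many maximal ideals whose
localisations at primes are valuation rings) of finite Krull dimension, and m a maximal ideal of R.
Then there is a ∈ R with V(a) = {m}, i.e. m is the only prime ideal containing a, and there is b ∉ m
such that R[1/b] is the localisation R_m (every element outside m becomes invertible after inverting
b); consequently the spectra of the local rings R_m form a Zariski open covering of Spec R. (The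
published remark assumes positive Krull dimension to construct a; for R a field the assertions hold
with a = 0 and b = 1. It also takes b to be the product of the elements a_n chosen in the same way
for the other maximal ideals n; that choice fails as soon as a non-maximal prime lies in another
maximal ideal but not in m, e.g. for the intersection of two independent rank-two valuation rings of
a field, so this row asserts only that some such b exists.) -/
theorem result
    (R : Type u) [CommRing R] [IsDomain R]
    (hR : ∀ (p : Ideal R) [p.IsPrime], ValuationRing (Localization.AtPrime p))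
    (hfin : Finite (MaximalSpectrum R)) (hdim : ringKrullDim R < ⊤)
    (m : Ideal R) [m.IsMaximal] :
    (∃ a : R, ∀ (p : Ideal R), p.IsPrime → (a ∈ p ↔ p = m)) ∧
      ∃ b : R, b ∉ m ∧ IsLocalization.AtPrime (Localization.Away b) m := by
  classical
  have hfinite : Finite (PrimeSpectrum R) :=
    Groth.Agent.H73.finite_primeSpectrum_of_prufer R hR hfin hdim
  cases nonempty_fintype (PrimeSpectrum R)
  have hmprime : m.IsPrime := Ideal.IsMaximal.isPrime inferInstance
  let m' : PrimeSpectrum R := ⟨m, hmprime⟩
  constructor
  · -- prime avoidance
    let s : Finset (PrimeSpectrum R) := Finset.univ.filter (fun p => p ≠ m')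
    have hnot : ¬ ((m : Set R) ⊆ ⋃ i ∈ (↑s : Set (PrimeSpectrum R)), (i.asIdeal : Set R)) := by
      intro hsub
      obtain ⟨i, his, hi⟩ := (Ideal.subset_union_prime (f := fun p : PrimeSpectrum R => p.asIdeal)
        m' m' (fun i _ _ _ => i.isPrime)).mp hsub
      have hne : i ≠ m' := (Finset.mem_filter.mp his).2
      apply hne
      apply PrimeSpectrum.ext
      exact (Ideal.IsMaximal.eq_of_le inferInstance i.isPrime.ne_top hi).symm
    obtain ⟨a, ham, ha⟩ := Set.not_subset.mp hnot
    refine ⟨a, fun p hp => ⟨fun hap => ?_, fun h => h ▸ ham⟩⟩
    by_contra hne
    apply ha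
    simp only [Set.mem_iUnion]
    refine ⟨⟨p, hp⟩, ?_, hap⟩
    simp only [Finset.coe_filter, Finset.mem_univ, true_and, Set.mem_ofPred_eq, s]
    intro h
    apply hne
    exact congrArg PrimeSpectrum.asIdeal h
  · let s : Finset (PrimeSpectrum R) := Finset.univ.filter (fun q => ¬ q.asIdeal ≤ m)
    have hnot : ¬ (s.inf (fun q : PrimeSpectrum R => q.asIdeal) ≤ m) := by
      intro hle
      obtain ⟨i, his, hi⟩ := (Ideal.IsPrime.inf_le' hmprime).mp hle
      exact (Finset.mem_filter.mp his).2 hi
    obtain ⟨b, hbs, hbm⟩ := SetLike.not_le_iff_exists.mp hnot
    refine ⟨b, hbm, ?_⟩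
    have hb : ∀ q : Ideal R, q.IsPrime → b ∉ q → q ≤ m := by
      intro q hq hbq
      by_contra hqm
      apply hbq
      have := (Submodule.mem_finsetInf.mp hbs) ⟨q, hq⟩
        (Finset.mem_filter.mpr ⟨Finset.mem_univ _, hqm⟩)
      exact this
    refine IsLocalization.of_le (M := Submonoid.powers b) (S := Localization.Away b)
      m.primeCompl ?_ ?_
    · rw [Submonoid.powers_le]
      exact hbm
    · intro r hr
      by_contra hunit
      obtain ⟨P, hP, hrP⟩ := exists_max_ideal_of_mem_nonunits hunit
      have hPprime : P.IsPrime := hP.isPrime
      have hq : (P.comap (algebraMap R (Localization.Away b))).IsPrime := Ideal.comap_isPrime _ P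
      have hbq : b ∉ P.comap (algebraMap R (Localization.Away b)) := by
        intro hbP
        apply hPprime.ne_top
        exact P.eq_top_of_isUnit_mem hbP (IsLocalization.Away.algebraMap_isUnit b)
      exact hr (hb _ hq hbq hrP)

end Groth.Agent.S14738
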