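import Groth.Statements.S14741
import Groth.Agent.Lead.Coh.AffineOpen
import Groth.Agent.Lead.Coh.ProjSpaceCover
-- import your own Groth.Agent.* helpers here

set_option autoImplicit false
universe u
open CategoryTheory AlgebraicGeometry
open ValPrufer

namespace Groth.Agent.S14741

/-- Let R be a semilocal Prüfer domain (an integral domain with finitely many maximal ideals whose
localisations at primes are valuation rings) of finite Krull dimension, m ≥ 1, X a closed subscheme
of projective (m-1)-space over R which is flat over R, and F a finitely presented (equivalently,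
coherent) O_X-module. Then H^q(X, F) = 0 for all q > m. -/
theorem result
    (R : Type u) [CommRing R] [IsDomain R]
    (hR : ∀ (p : Ideal R) [p.IsPrime], ValuationRing (Localization.AtPrime p))
    (hfin : Finite (MaximalSpectrum R)) (hdim : ringKrullDim R < ⊤)
    (m : ℕ) (hm : 1 ≤ m) (X : Scheme.{u}) (ι : X ⟶ CohB1.ProjSpace (m - 1) R) [IsClosedImmersion ι]
    [Flat (ι ≫ CohB1.ProjSpace.toSpec (m - 1) R)]
    (F : X.Modules) (hF : CohB1.IsFP F) (q : ℕ) (hq : m < q) :
    Subsingleton (Coh.HH X F q) := by
  classical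
  have hqc : F.IsQuasicoherent := by
    have : SheafOfModules.IsFinitePresentation (R := X.ringCatSheaf) F := hF
    infer_instance
  have hsep : X.IsSeparated :=
    ⟨by rw [← Limits.terminal.comp_from ι]; infer_instance⟩
  let U : Fin (m - 1 + 1) → X.Opens := fun i => ι ⁻¹ᵁ (Groth.Agent.Lead.Coh.stdOpen (m - 1) R i)
  have hU : ∀ i ∈ (Finset.univ : Finset (Fin (m - 1 + 1))), IsAffineOpen (U i) := fun i _ =>
    (Groth.Agent.Lead.Coh.isAffineOpen_stdOpen (m - 1) R i).preimage ι
  have hcov : (Finset.univ : Finset (Fin (m - 1 + 1))).sup U = ⊤ := by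
    rw [eq_top_iff]
    intro x _
    have hx : ι x ∈ (⨆ i, Groth.Agent.Lead.Coh.stdOpen (m - 1) R i : (CohB1.ProjSpace (m - 1) R).Opens) := by
      rw [Groth.Agent.Lead.Coh.iSup_stdOpen]; trivial
    obtain ⟨i, hi⟩ := TopologicalSpace.Opens.mem_iSup.mp hx
    exact (Finset.le_sup (f := U) (Finset.mem_univ i)) hi
  apply Groth.Agent.Lead.Coh.subsingleton_HH_of_hVanish_top
  rw [← hcov]
  refine Groth.Agent.Lead.Coh.hVanish_finset_sup X F (fun V W hV hW => hV.inf hW) Finset.univ U hU
    ⟨0, Finset.mem_univ _⟩ q ?_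
  rw [Finset.card_univ, Fintype.card_fin]
  omega

end Groth.Agent.S14741
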