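import Groth.Statements.S14745
import Mathlib.Algebra.BigOperators.GroupWithZero.Action
import Mathlib.RingTheory.Ideal.Operations
import Mathlib.Algebra.Module.BigOperators
import Mathlib.Data.Fintype.BigOperators

set_option autoImplicit false
universe u v w
open CAlg

namespace Groth.Agent.S14745

/-- Let k be a field of characteristic zero, A a commutative k-algebra on which a finite group Γ acts by
k-algebra automorphisms, and I the ideal of A generated by a set of Γ-invariant elements. Then the
Γ-invariants of A map onto the Γ-invariants of A/I: every element of A whose class modulo I is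
Γ-invariant is congruent modulo I to a Γ-invariant element. (The published statement takes A
finitely generated and finitely many invariant generators; neither finiteness is used.) -/
theorem result (k : Type u) [Field k] [CharZero k]
    (A : Type v) [CommRing A] [Algebra k A] (Γ : Type w) [Group Γ] [Finite Γ]
    [MulSemiringAction Γ A] [SMulCommClass Γ k A]
    (S : Set A) (hS : ∀ f ∈ S, ∀ γ : Γ, γ • f = f) (a : A) (ha : ∀ γ : Γ, γ • a - a ∈ Ideal.span S) :
    ∃ b : A, (∀ γ : Γ, γ • b = b) ∧ a - b ∈ Ideal.span S := by
  classical
  have : Fintype Γ := Fintype.ofFinite Γ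
  have hcard : (Fintype.card Γ : k) ≠ 0 := by
    exact_mod_cast (Fintype.card_ne_zero : Fintype.card Γ ≠ 0)
  set c : k := (Fintype.card Γ : k)⁻¹ with hc
  refine ⟨c • ∑ γ : Γ, γ • a, fun γ => ?_, ?_⟩
  · rw [smul_comm, Finset.smul_sum]
    congr 1
    refine Fintype.sum_equiv (Equiv.mulLeft γ) _ _ (fun γ' => ?_)
    rw [Equiv.coe_mulLeft, mul_smul]
  · have h1 : a = c • ∑ _γ : Γ, a := by
      rw [Finset.sum_const, Finset.card_univ, ← Nat.cast_smul_eq_nsmul k, smul_smul, hc,
        inv_mul_cancel₀ hcard, one_smul]
    have h2 : a - c • ∑ γ : Γ, γ • a = c • ∑ γ : Γ, (a - γ • a) := by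
      rw [Finset.sum_sub_distrib, smul_sub, ← h1]
    rw [h2, Algebra.smul_def]
    refine Ideal.mul_mem_left _ _ (Submodule.sum_mem _ fun γ _ => ?_)
    have := ha γ
    rw [← Ideal.neg_mem_iff] at this
    simpa using this

end Groth.Agent.S14745
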