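import Groth.Statements.S14751
import Groth.Agent.H42.AbSubgroup
import Groth.Agent.H42.QuotDesc
import Groth.Agent.H53.ReducedSm
import Groth.Agent.S0348
import Groth.Prelude.Def_WittGrp

set_option autoImplicit false
universe u
open CategoryTheory CategoryTheory.Limits MonoidalCategory CartesianMonoidalCategory MonObj GrpObj AlgebraicGeometry
open AlgGrp

namespace Groth.Agent.S14751

/-- Over an algebraically closed field k let G be a group variety (smooth connected k-group scheme of
finite type), i : N → G an affine closed subgroup scheme which is the kernel of a flat surjective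
homomorphism π : G → Q, and j : A → G an abelian subvariety (a smooth connected proper closed
subgroup scheme) with A · N = G, that is, the multiplication A × N → G is surjective. Then the
multiplication A × N → G is a homomorphism and an isogeny (surjective with finite kernel), and so is
the composite A → G → Q. (In the published statement N is the largest connected affine normal
subgroup variety and Q = G/N the Albanese quotient; only the listed properties are used.) -/
theorem result (k : Type u) [Field k] [IsAlgClosed k]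
    (G N A Q : Over (Spec (CommRingCat.of k))) [GrpObj G] [GrpObj N] [GrpObj A] [GrpObj Q]
    [Smooth G.hom] [QuasiCompact G.hom] [ConnectedSpace ↥G.left]
    (i : N ⟶ G) [IsMonHom i] [IsClosedImmersion i.left] [IsAffine N.left]
    (π : G ⟶ Q) [IsMonHom π] [Flat π.left] [Surjective π.left] (hker : AlgGrp.IsKernel i π)
    (j : A ⟶ G) [IsMonHom j] [IsClosedImmersion j.left] [Smooth A.hom] [ConnectedSpace ↥A.left] [IsProper A.hom]
    (hsurj : Surjective ((j ⊗ₘ i) ≫ μ[G]).left) :
    IsMonHom ((j ⊗ₘ i) ≫ μ[G]) ∧ SGA7.IsIsogenyOver ((j ⊗ₘ i) ≫ μ[G]) ∧ SGA7.IsIsogenyOver (j ≫ π) := by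
  -- preliminaries
  haveI : IsIntegral A.left := by
    haveI : IsReduced A.left := Groth.Agent.H53.isReduced_of_smooth_scheme A.hom
    haveI : IrreducibleSpace A.left := Groth.Agent.S0348.result k A
    exact isIntegral_of_irreducibleSpace_of_isReduced A.left
  have hA := Groth.Agent.H42.AbSub.antiAffine_of_proper_integral k A
  have hcentral := Groth.Agent.H42.AbSub.central_of_antiAffine k A G hA j
  have hm : (j ⊗ₘ i) ≫ μ[G] = (fst A N ≫ j) * (snd A N ≫ i) := by
    rw [Hom.mul_def, lift_fst_comp_snd_comp]
  have hiπ : i ≫ π = toUnit N ≫ η[Q] := hker.w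
  have hmπ : ((j ⊗ₘ i) ≫ μ[G]) ≫ π = fst A N ≫ j ≫ π := by
    rw [hm, MonObj.mul_comp, Category.assoc, Category.assoc, hiπ, ← Category.assoc (snd A N),
      toUnit_unique (snd A N ≫ toUnit N) (toUnit _), ← Hom.one_def, _root_.mul_one]
  -- (1) homomorphism
  have hmon : IsMonHom ((j ⊗ₘ i) ≫ μ[G]) := by
    apply WittGrp.isMonHom_of_comp_mul
    · rw [hm, MonObj.comp_mul, ← Category.assoc, ← Category.assoc, MonObj.one_comp,
        MonObj.one_comp, MonObj.one_comp, MonObj.one_comp, _root_.mul_one]
    · intro T x y
      rw [hm]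
      simp only [MonObj.comp_mul]
      rw [← Category.assoc (x * y), ← Category.assoc (x * y), MonObj.mul_comp _ _ (fst A N),
        MonObj.mul_comp _ _ (snd A N), MonObj.mul_comp _ _ j, MonObj.mul_comp _ _ i]
      have hc := hcentral T (y ≫ fst A N) ((x ≫ snd A N) ≫ i)
      simp only [Category.assoc] at hc ⊢
      calc x ≫ fst A N ≫ j * y ≫ fst A N ≫ j * (x ≫ snd A N ≫ i * y ≫ snd A N ≫ i)
          = x ≫ fst A N ≫ j * (y ≫ fst A N ≫ j * x ≫ snd A N ≫ i) * y ≫ snd A N ≫ i := by
            simp only [_root_.mul_assoc]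
        _ = x ≫ fst A N ≫ j * (x ≫ snd A N ≫ i * y ≫ fst A N ≫ j) * y ≫ snd A N ≫ i := by
            rw [hc]
        _ = _ := by simp only [_root_.mul_assoc]
  refine ⟨hmon, ⟨hsurj, ?_⟩, ⟨?_, ?_⟩⟩
  · -- finite kernel of the multiplication
    intro K κ hK
    have hκ : (κ ≫ fst A N ≫ j) * (κ ≫ snd A N ≫ i) = 1 := by
      have := hK.w
      rw [hm, MonObj.comp_mul, ← Hom.one_def] at this
      exact this
    have sq : IsPullback (κ ≫ fst A N) (κ ≫ snd A N)⁻¹ j i := by
      refine ⟨⟨?_⟩, ⟨PullbackCone.IsLimit.mk _ (fun s => hK.lift (lift s.fst s.snd⁻¹) (toUnit _) ?_)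
        (fun s => ?_) (fun s => ?_) (fun s t h1 h2 => ?_)⟩⟩
      · rw [GrpObj.inv_comp, Category.assoc, Category.assoc]
        exact eq_inv_of_mul_eq_one_left hκ
      · rw [hm, MonObj.comp_mul, lift_fst_assoc, lift_snd_assoc, GrpObj.inv_comp, s.condition,
          mul_inv_cancel, Hom.one_def]
      · rw [← Category.assoc, hK.lift_fst, lift_fst]
      · rw [GrpObj.comp_inv, ← Category.assoc, hK.lift_fst, lift_snd, _root_.inv_inv]
      · apply hK.hom_ext
        · rw [hK.lift_fst]
          apply CartesianMonoidalCategory.hom_ext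
          · rw [Category.assoc, h1, lift_fst]
          · rw [lift_snd, ← h2, GrpObj.comp_inv, _root_.inv_inv, Category.assoc]
        · exact toUnit_unique _ _
    exact Groth.Agent.H42.AbSub.isFinite_of_isPullback j i _ _ sq
  · -- surjectivity of A → Q
    constructor
    intro y
    obtain ⟨g, rfl⟩ := π.left.surjective y
    obtain ⟨x, rfl⟩ := hsurj.surj g
    refine ⟨(fst A N).left.base x, ?_⟩
    have h := congrArg (fun f => f.left.base x) hmπ
    simp only [Over.comp_left, Scheme.Hom.comp_base, TopCat.coe_comp, Function.comp_apply] at h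
    exact h.symm
  · -- finite kernel of A → Q
    intro K κ hK
    have hκ : (κ ≫ j) ≫ π = toUnit K ≫ η[Q] := by
      rw [Category.assoc]
      exact hK.w
    have sq : IsPullback κ (hker.lift (κ ≫ j) (toUnit K) hκ) j i := by
      refine ⟨⟨(hker.lift_fst _ _ _).symm⟩, ⟨PullbackCone.IsLimit.mk _
        (fun s => hK.lift s.fst (toUnit _) ?_)
        (fun s => ?_) (fun s => ?_) (fun s t h1 h2 => ?_)⟩⟩
      · rw [← Category.assoc, s.condition, Category.assoc, hiπ, ← Category.assoc,
          toUnit_unique (s.snd ≫ toUnit N) (toUnit _)]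
      · exact hK.lift_fst _ _ _
      · haveI : Mono i := Groth.Agent.H42.QuotDesc.mono_of_isKernel i π hker
        rw [← cancel_mono i, Category.assoc, hker.lift_fst, ← Category.assoc, hK.lift_fst,
          s.condition]
      · apply hK.hom_ext
        · rw [hK.lift_fst, h1]
        · exact toUnit_unique _ _
    exact Groth.Agent.H42.AbSub.isFinite_of_isPullback j i _ _ sq

end Groth.Agent.S14751
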