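import Groth.Statements.S14765
import Groth.Agent.H73.FlatClosure
import Groth.Agent.H73.GenerizeClosure

set_option autoImplicit false
universe u
open CategoryTheory CategoryTheory.Limits AlgebraicGeometry
open Subtr

namespace Groth.Agent.S14765

/-- Let V be a valuation ring and f : X ⟶ Spec V any morphism of schemes. The following are equivalent:
(a) after every base change, every ordered pair of points of the target (a point and a
specialization of it) lifts to an ordered pair of points of the source; (b) every ordered pair of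
points of Spec V lifts to an ordered pair of points of X; (c) every point of Spec V is the image of
a point of X lying in the closure of the generic fibre; (d) the pair formed by the closed point and
the generic point of Spec V lifts to points x, x' of X with x a specialization of x'; (e) there are
a valuation ring W and a morphism Spec W ⟶ X whose composite with f is surjective; (f) there is a
closed subscheme Z of X such that Z ⟶ Spec V is flat and surjective. (The published list also
contains subtrusiveness and universal subtrusiveness, which add submersiveness for the constructible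
topology, and the lifting of arbitrary chains of points; this row omits those items and keeps the
lifting property alone in (a).) -/
theorem result (V : Type u) [CommRing V] [IsDomain V] [ValuationRing V]
    {X : Scheme.{u}} (f : X ⟶ Spec (CommRingCat.of V)) :
    List.TFAE [
      Subtr.UnivSSubtrusive f,
      Subtr.IsSSubtrusive f,
      ∀ y : Spec (CommRingCat.of V), ∃ x : X,
        x ∈ closure (f ⁻¹' {(⟨⊥, Ideal.isPrime_bot⟩ : PrimeSpectrum V)}) ∧ f x = y,
      ∃ x x' : X, x' ⤳ x ∧ f x = IsLocalRing.closedPoint V ∧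
        f x' = (⟨⊥, Ideal.isPrime_bot⟩ : PrimeSpectrum V),
      ∃ (W : Type u) (_ : CommRing W) (_ : IsDomain W) (_ : ValuationRing W)
        (g : Spec (CommRingCat.of W) ⟶ X), Surjective (g ≫ f),
      ∃ (Z : Scheme.{u}) (i : Z ⟶ X), IsClosedImmersion i ∧ Flat (i ≫ f) ∧ Surjective (i ≫ f)] := by
  have hbot : ∀ z : PrimeSpectrum V, (⟨⊥, Ideal.isPrime_bot⟩ : PrimeSpectrum V) ⤳ z :=
    fun z => (PrimeSpectrum.le_iff_specializes _ z).mp (bot_le (a := z.asIdeal))
  tfae_have 1 → 2 := by
    intro H
    exact H _ _ _ (IsPullback.id_vert f)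
  tfae_have 2 → 4 := by
    intro H
    obtain ⟨x, x', hxx', hx, hx'⟩ := H (Groth.Agent.H73.bot_specializes_closedPoint V)
    exact ⟨x, x', hxx', hx, hx'⟩
  tfae_have 4 → 5 := by
    rintro ⟨x, x', hxx', hx, hx'⟩
    obtain ⟨W, _, _, _, g, hg1, hg2⟩ := Groth.Agent.H73.exists_valuationRing_of_specializes hxx'
    refine ⟨W, inferInstance, inferInstance, inferInstance, g, ⟨?_⟩⟩
    apply Groth.Agent.H73.spec_surjective_of_valuationRing
    · rw [Scheme.Hom.comp_apply, hg1, hx]
    · rw [Scheme.Hom.comp_apply, hg2, hx']
  tfae_have 5 → 3 := by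
    rintro ⟨W, _, _, _, g, hg⟩ y
    obtain ⟨w, hw⟩ := hg.surj y
    obtain ⟨w₀, hw₀⟩ := hg.surj (⟨⊥, Ideal.isPrime_bot⟩ : PrimeSpectrum V)
    let ξ : PrimeSpectrum W := ⟨⊥, Ideal.isPrime_bot⟩
    have hξ : ∀ z : PrimeSpectrum W, ξ ⤳ z :=
      fun z => (PrimeSpectrum.le_iff_specializes _ z).mp (bot_le (a := z.asIdeal))
    have hξη : (g ≫ f) ξ = (⟨⊥, Ideal.isPrime_bot⟩ : PrimeSpectrum V) := by
      have h1 : (g ≫ f) ξ ⤳ (g ≫ f) w₀ := (hξ w₀).map (g ≫ f).continuous
      rw [hw₀] at h1
      have h2 := (PrimeSpectrum.le_iff_specializes _ _).mpr h1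
      apply PrimeSpectrum.ext
      exact le_bot_iff.mp h2
    refine ⟨g w, ?_, ?_⟩
    · have h1 : g ξ ⤳ g w := (hξ w).map g.continuous
      have h2 : g w ∈ closure {g ξ} := specializes_iff_mem_closure.mp h1
      refine closure_mono ?_ h2
      rw [Set.singleton_subset_iff]
      show f (g ξ) = _
      rw [← Scheme.Hom.comp_apply, hξη]
    · rw [← Scheme.Hom.comp_apply, hw]
  tfae_have 3 → 4 := by
    intro H
    obtain ⟨x, hxc, hx⟩ := H (IsLocalRing.closedPoint V)
    obtain ⟨x', hx'x, hx'⟩ :=
      Groth.Agent.H73.exists_generization_of_mem_closure_generic_fibre f x hxc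
    exact ⟨x, x', hx'x, hx, hx'⟩
  tfae_have 4 → 6 := by
    rintro ⟨x, x', hxx', hx, hx'⟩
    exact Groth.Agent.H73.exists_flat_closedSubscheme f x x' hxx' hx hx'
  tfae_have 6 → 1 := by
    rintro ⟨Z, i, _, hflat, hsurj⟩
    exact Groth.Agent.H73.univSSubtrusive_of_comp i f
      (Groth.Agent.H73.univSSubtrusive_of_flat_of_surjective (i ≫ f))
  tfae_finish

end Groth.Agent.S14765
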