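import Groth.Statements.S14783
-- import your own Groth.Agent.* helpers here
import Groth.Agent.H6.SubtrLC

set_option autoImplicit false
universe u
open CategoryTheory CategoryTheory.Limits AlgebraicGeometry
open Subtr

namespace Groth.Agent.S14783

/-- Let f : S' ⟶ S be a quasi-compact morphism of schemes every base change of which has the lifting
property for ordered pairs of points, and E ⊆ S any subset. For E to be both locally closed and
retrocompact it is necessary and sufficient that f⁻¹(E) be both. -/
theorem result {S' S : Scheme.{u}} (f : S' ⟶ S)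
    [QuasiCompact f] (hf : Subtr.UnivSSubtrusive f) (E : Set S) :
    (IsLocallyClosed E ∧ IsRetrocompact E) ↔
      (IsLocallyClosed (f ⁻¹' E) ∧ IsRetrocompact (f ⁻¹' E)) := by
  constructor
  · rintro ⟨h1, h2⟩
    exact Groth.Agent.H6.SubtrLC.preimage_lc_rc f h1 h2
  · rintro ⟨h1, h2⟩
    exact Groth.Agent.H6.SubtrLC.lc_rc_of_preimage f hf h1 h2

end Groth.Agent.S14783
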