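import Groth.Statements.S14801
import Groth.Agent.H74.LabChainSurj

set_option autoImplicit false
universe u
open Finset
open LabGraph

namespace Groth.Agent.S14801

/-- Let (G, β) be a finite multigraph with a multiplicity function and α its matrix (α_{vw} = #edges(v,
w) for v ≠ w, diagonal entries defined by Σ_w β(w) α_{vw} = 0); let L be a connecting chain of
length m (vertices v₀, …, v_m, edges e₁, …, e_m, each connecting) with β(v_i) = m and α_{v_i v_i} =
-2 for all i; let (G', β') be the contraction of L and f : ℤ^{V(G')} → ℤ^{V(G)} the map extending a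
vector by zero along the section of V(G) → V(G') that sends the contracted vertex to v₀. Then f
carries ker β' into ker β, and there is a map h : ℤ^{V(G')} → ℤ^{V(G)} with f ∘ α' = α ∘ h, so that
f induces a homomorphism of component groups ker β'/im α' → ker β/im α; this homomorphism is
surjective. -/
theorem result {V E : Type u} [Fintype V] [Fintype E] [DecidableEq V] [DecidableEq E]
    (ends : E → V × V) (β : V → ℤ) (hβ : LabGraph.IsMultFn ends β)
    (m : ℕ) (f : Fin (m + 1) → V) (e : Fin m → E) (hC : LabGraph.IsChain ends f e)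
    (hconn : ∀ i, LabGraph.IsConnecting ends (e i)) (hβm : ∀ i, β (f i) = m)
    (hα : ∀ i, LabGraph.mfMatrix ends β (f i) (f i) = -2) :
    ∃ φ : LabGraph.CompGrp (DualGr.ctrEnds ends (univ.image e)) (LabGraph.ctrFn ends (univ.image e) β) →+
        LabGraph.CompGrp ends β,
      Function.Surjective φ ∧
      ∀ (x : LinearMap.ker (LabGraph.betaHom (LabGraph.ctrFn ends (univ.image e) β)))
        (y : LinearMap.ker (LabGraph.betaHom β)),
        (y : V → ℤ) = LabGraph.liftAt ends (univ.image e) (f 0) (x : DualGr.CtrVert ends (univ.image e) → ℤ) →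
        φ (Submodule.Quotient.mk x) = Submodule.Quotient.mk y := by
  classical
  let L : (DualGr.CtrVert ends (univ.image e) → ℤ) →ₗ[ℤ] (V → ℤ) :=
    { toFun := LabGraph.liftAt ends (univ.image e) (f 0)
      map_add' := fun a b => by
        funext v
        simp only [LabGraph.liftAt, Pi.add_apply]
        split_ifs <;> simp
      map_smul' := fun c a => by
        funext v
        simp only [LabGraph.liftAt, Pi.smul_apply, RingHom.id_apply]
        split_ifs <;> simp }
  have hLapp : ∀ x, L x = LabGraph.liftAt ends (univ.image e) (f 0) x := fun _ => rfl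
  have hbeta : ∀ x, LabGraph.betaHom β (L x) =
      LabGraph.betaHom (LabGraph.ctrFn ends (univ.image e) β) x := by
    intro x
    simp only [LabGraph.betaHom, Fintype.linearCombination_apply, smul_eq_mul, hLapp]
    exact Groth.Agent.H74.LabChain.sum_liftAt_mul ends f e β hC hβm x
  have hker : ∀ x ∈ LinearMap.ker (LabGraph.betaHom (LabGraph.ctrFn ends (univ.image e) β)),
      L x ∈ LinearMap.ker (LabGraph.betaHom β) := by
    intro x hx
    rw [LinearMap.mem_ker] at hx ⊢
    rw [hbeta, hx]
  have hle : (LinearMap.range (Matrix.mulVecLin (LabGraph.mfMatrix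
        (DualGr.ctrEnds ends (univ.image e)) (LabGraph.ctrFn ends (univ.image e) β)))).comap
        (LinearMap.ker (LabGraph.betaHom (LabGraph.ctrFn ends (univ.image e) β))).subtype ≤
      ((LinearMap.range (Matrix.mulVecLin (LabGraph.mfMatrix ends β))).comap
        (LinearMap.ker (LabGraph.betaHom β)).subtype).comap (L.restrict hker) := by
    rintro ⟨x, hx⟩ ⟨x', hx'⟩
    obtain ⟨u, hu⟩ := Groth.Agent.H74.LabChain.liftAt_mulVec_ctr ends f e β hβ hC hconn hβm hα x'
    refine ⟨u, ?_⟩
    simp only [Matrix.mulVecLin_apply, Submodule.subtype_apply] at hx' ⊢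
    rw [← hu, hx']
    rfl
  refine ⟨(Submodule.mapQ _ _ (L.restrict hker) hle).toAddMonoidHom, ?_, ?_⟩
  · intro q
    obtain ⟨y, rfl⟩ := Submodule.Quotient.mk_surjective _ q
    obtain ⟨u, hu⟩ := Groth.Agent.H74.LabChain.exists_elim ends f e β hC hconn y.1
    have hLx := Groth.Agent.H74.LabChain.liftAt_push ends f e hC _ hu
    have hβα : LabGraph.betaHom β (Matrix.mulVec (LabGraph.mfMatrix ends β) u) = 0 := by
      simp only [LabGraph.betaHom, Fintype.linearCombination_apply, smul_eq_mul]
      exact Groth.Agent.H74.LabFlux.sum_mulVec_mul_beta ends β hβ u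
    have hy : LabGraph.betaHom β y.1 = 0 := y.2
    set x : DualGr.CtrVert ends (univ.image e) → ℤ := fun c =>
      ∑ v ∈ univ.filter (fun v => DualGr.ctrMk ends (univ.image e) v = c),
        (y.1 - Matrix.mulVec (LabGraph.mfMatrix ends β) u) v with hxdef
    have hx : x ∈ LinearMap.ker (LabGraph.betaHom (LabGraph.ctrFn ends (univ.image e) β)) := by
      rw [LinearMap.mem_ker, ← hbeta, hLapp, hLx, map_sub, hy, hβα, sub_zero]
    refine ⟨Submodule.Quotient.mk ⟨x, hx⟩, ?_⟩
    change Submodule.mapQ _ _ (L.restrict hker) hle (Submodule.Quotient.mk ⟨x, hx⟩) = _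
    rw [Submodule.mapQ_apply, Submodule.Quotient.eq]
    refine ⟨-u, ?_⟩
    simp only [Matrix.mulVecLin_apply, Submodule.subtype_apply, Submodule.coe_sub,
      LinearMap.coe_restrict_apply, hLapp, hLx, Matrix.mulVec_neg]
    abel
  · intro x y hxy
    change Submodule.mapQ _ _ (L.restrict hker) hle (Submodule.Quotient.mk x) = _
    rw [Submodule.mapQ_apply]
    congr 1
    exact Subtype.ext hxy.symm

end Groth.Agent.S14801
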