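import Groth.Statements.S14805
import Groth.Agent.H74.CompLat

set_option autoImplicit false
open Finset
open CompLat

namespace Groth.Agent.S14805

/-- Let n ≥ 1 and let D, D' : ℤⁿ → ℤⁿ be given by diagonal matrices with nonzero diagonal entries (rank
n), A : ℤⁿ → ℤⁿ an integer matrix of rank n - 1, S : ℤⁿ → ℤ the sum of the coordinates and Δ : ℤ →
ℤⁿ the diagonal embedding; assume S D A = 0 and A D' Δ = 0, and let d > 0 with dℤ = im(S D), i.e. d
is the greatest common divisor of the diagonal entries of D. Then #(ker(S D)/im A) · |det D| = d ·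
#(ker S/im(D A)). -/
theorem result (n : ℕ) (hn : 0 < n) (δ δ' : Fin n → ℤ) (hδ : ∀ i, δ i ≠ 0) (hδ' : ∀ i, δ' i ≠ 0)
    (A : Matrix (Fin n) (Fin n) ℤ) (hA : A.rank = n - 1)
    (hSDA : (∑ i : Fin n, (LinearMap.proj i : (Fin n → ℤ) →ₗ[ℤ] ℤ)) ∘ₗ
        (Matrix.mulVecLin (Matrix.diagonal δ)) ∘ₗ (Matrix.mulVecLin A) = 0)
    (hADΔ : (Matrix.mulVecLin A) ∘ₗ (Matrix.mulVecLin (Matrix.diagonal δ')) ∘ₗ
        (LinearMap.pi fun _ : Fin n => (LinearMap.id : ℤ →ₗ[ℤ] ℤ)) = 0) :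
    (Nat.card (LinearMap.ker ((∑ i : Fin n, (LinearMap.proj i : (Fin n → ℤ) →ₗ[ℤ] ℤ)) ∘ₗ (Matrix.mulVecLin (Matrix.diagonal δ))) ⧸
          (LinearMap.range (Matrix.mulVecLin A)).comap (LinearMap.ker ((∑ i : Fin n, (LinearMap.proj i : (Fin n → ℤ) →ₗ[ℤ] ℤ)) ∘ₗ (Matrix.mulVecLin (Matrix.diagonal δ)))).subtype) : ℤ) * |∏ i, δ i| =
      (univ.gcd δ) * Nat.card (LinearMap.ker (∑ i : Fin n, (LinearMap.proj i : (Fin n → ℤ) →ₗ[ℤ] ℤ)) ⧸ (LinearMap.range ((Matrix.mulVecLin (Matrix.diagonal δ)) ∘ₗ (Matrix.mulVecLin A))).comap (LinearMap.ker (∑ i : Fin n, (LinearMap.proj i : (Fin n → ℤ) →ₗ[ℤ] ℤ))).subtype) := by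
  classical
  have hR : (LinearMap.range (Matrix.mulVecLin A)).toAddSubgroup ≤
      (LinearMap.ker ((Groth.Agent.H74.CompLat.Sl n) ∘ₗ
        (Matrix.mulVecLin (Matrix.diagonal δ)))).toAddSubgroup := by
    rintro _ ⟨y, rfl⟩
    exact LinearMap.congr_fun hSDA y
  have key := Groth.Agent.H74.CompLat.relIndex_mul_det hn δ hδ _ hR
  have hmap : ((LinearMap.range (Matrix.mulVecLin A)).toAddSubgroup).map
      (Matrix.mulVecLin (Matrix.diagonal δ)).toAddMonoidHom =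
      (LinearMap.range ((Matrix.mulVecLin (Matrix.diagonal δ)) ∘ₗ
        (Matrix.mulVecLin A))).toAddSubgroup := by
    ext x
    simp only [AddSubgroup.mem_map, Submodule.mem_toAddSubgroup, LinearMap.mem_range,
      LinearMap.comp_apply, LinearMap.toAddMonoidHom_coe]
    constructor
    · rintro ⟨_, ⟨y, rfl⟩, rfl⟩; exact ⟨y, rfl⟩
    · rintro ⟨y, rfl⟩; exact ⟨_, ⟨y, rfl⟩, rfl⟩
  rw [hmap] at key
  have hgnn : 0 ≤ Finset.univ.gcd δ := Int.nonneg_of_normalize_eq_self Finset.normalize_gcd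
  rw [Groth.Agent.H74.CompLat.card_quot_comap, Groth.Agent.H74.CompLat.card_quot_comap]
  have key' := congrArg (fun k : ℕ => (k : ℤ)) key
  simp only [Nat.cast_mul, Int.natCast_natAbs, abs_of_nonneg hgnn] at key'
  exact key'

end Groth.Agent.S14805
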