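import Groth.Statements.S14806
import Groth.Agent.H74.CompLat

set_option autoImplicit false
open Finset
open CompLat

namespace Groth.Agent.S14806

/-- Let n ≥ 1, let D, D' : ℤⁿ → ℤⁿ be given by diagonal matrices with nonzero diagonal entries, A : ℤⁿ →
ℤⁿ an integer matrix of rank n - 1, S : ℤⁿ → ℤ the sum of the coordinates and Δ : ℤ → ℤⁿ the
diagonal embedding, with S D A = 0 and A D' Δ = 0; let d, d' be the greatest common divisors of the
diagonal entries of D and of D' (dℤ = im(S D), d'ℤ = im(S D')). Then #(ker(S D)/im A) · |det D| ·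
|det D'| = d d' · #(ker S/im(D A D')). -/
theorem result (n : ℕ) (hn : 0 < n) (δ δ' : Fin n → ℤ) (hδ : ∀ i, δ i ≠ 0) (hδ' : ∀ i, δ' i ≠ 0)
    (A : Matrix (Fin n) (Fin n) ℤ) (hA : A.rank = n - 1)
    (hSDA : (∑ i : Fin n, (LinearMap.proj i : (Fin n → ℤ) →ₗ[ℤ] ℤ)) ∘ₗ
        (Matrix.mulVecLin (Matrix.diagonal δ)) ∘ₗ (Matrix.mulVecLin A) = 0)
    (hADΔ : (Matrix.mulVecLin A) ∘ₗ (Matrix.mulVecLin (Matrix.diagonal δ')) ∘ₗ
        (LinearMap.pi fun _ : Fin n => (LinearMap.id : ℤ →ₗ[ℤ] ℤ)) = 0) :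
    (Nat.card (LinearMap.ker ((∑ i : Fin n, (LinearMap.proj i : (Fin n → ℤ) →ₗ[ℤ] ℤ)) ∘ₗ (Matrix.mulVecLin (Matrix.diagonal δ))) ⧸
          (LinearMap.range (Matrix.mulVecLin A)).comap (LinearMap.ker ((∑ i : Fin n, (LinearMap.proj i : (Fin n → ℤ) →ₗ[ℤ] ℤ)) ∘ₗ (Matrix.mulVecLin (Matrix.diagonal δ)))).subtype) : ℤ) * |∏ i, δ i| * |∏ i, δ' i| =
      (univ.gcd δ) * (univ.gcd δ') * Nat.card (LinearMap.ker (∑ i : Fin n, (LinearMap.proj i : (Fin n → ℤ) →ₗ[ℤ] ℤ)) ⧸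
          (LinearMap.range ((Matrix.mulVecLin (Matrix.diagonal δ)) ∘ₗ (Matrix.mulVecLin A) ∘ₗ (Matrix.mulVecLin (Matrix.diagonal δ')))).comap (LinearMap.ker (∑ i : Fin n, (LinearMap.proj i : (Fin n → ℤ) →ₗ[ℤ] ℤ))).subtype) := by
  classical
  have hAδ' : Matrix.mulVec A δ' = 0 := by
    have h := LinearMap.congr_fun hADΔ (1 : ℤ)
    simp only [LinearMap.comp_apply, Matrix.mulVecLin_apply, LinearMap.zero_apply] at h
    have h2 : Matrix.mulVec (Matrix.diagonal δ')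
        ((LinearMap.pi fun _ : Fin n => (LinearMap.id : ℤ →ₗ[ℤ] ℤ)) 1) = δ' := by
      funext i
      rw [Matrix.mulVec_diagonal]
      simp
    rw [h2] at h
    exact h
  have hRA : (LinearMap.range (Matrix.mulVecLin A)).toAddSubgroup ≤
      (LinearMap.ker ((Groth.Agent.H74.CompLat.Sl n) ∘ₗ
        (Matrix.mulVecLin (Matrix.diagonal δ)))).toAddSubgroup := by
    rintro _ ⟨y, rfl⟩
    exact LinearMap.congr_fun hSDA y
  have hR' : (LinearMap.range ((Matrix.mulVecLin A) ∘ₗ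
      (Matrix.mulVecLin (Matrix.diagonal δ')))).toAddSubgroup ≤
      (LinearMap.ker ((Groth.Agent.H74.CompLat.Sl n) ∘ₗ
        (Matrix.mulVecLin (Matrix.diagonal δ)))).toAddSubgroup := by
    rintro _ ⟨y, rfl⟩
    exact hRA ⟨_, rfl⟩
  have key1 := Groth.Agent.H74.CompLat.relIndex_mul_det hn δ hδ _ hR'
  have key2 := Groth.Agent.H74.CompLat.relIndex_range_comp_diag hn δ' hδ' A hA hAδ' _ hRA
  have hmap : ((LinearMap.range ((Matrix.mulVecLin A) ∘ₗ
      (Matrix.mulVecLin (Matrix.diagonal δ')))).toAddSubgroup).map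
      (Matrix.mulVecLin (Matrix.diagonal δ)).toAddMonoidHom =
      (LinearMap.range ((Matrix.mulVecLin (Matrix.diagonal δ)) ∘ₗ
        (Matrix.mulVecLin A) ∘ₗ (Matrix.mulVecLin (Matrix.diagonal δ')))).toAddSubgroup := by
    ext x
    simp only [AddSubgroup.mem_map, Submodule.mem_toAddSubgroup, LinearMap.mem_range,
      LinearMap.comp_apply, LinearMap.toAddMonoidHom_coe]
    constructor
    · rintro ⟨_, ⟨y, rfl⟩, rfl⟩; exact ⟨y, rfl⟩
    · rintro ⟨y, rfl⟩; exact ⟨_, ⟨y, rfl⟩, rfl⟩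
  rw [hmap] at key1
  have hgnn : 0 ≤ Finset.univ.gcd δ := Int.nonneg_of_normalize_eq_self Finset.normalize_gcd
  have hgnn' : 0 ≤ Finset.univ.gcd δ' := Int.nonneg_of_normalize_eq_self Finset.normalize_gcd
  rw [Groth.Agent.H74.CompLat.card_quot_comap, Groth.Agent.H74.CompLat.card_quot_comap]
  have k1 := congrArg (fun k : ℕ => (k : ℤ)) key1
  have k2 := congrArg (fun k : ℕ => (k : ℤ)) key2
  simp only [Nat.cast_mul, Int.natCast_natAbs, abs_of_nonneg hgnn, abs_of_nonneg hgnn'] at k1 k2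
  calc _ = (((LinearMap.range (Matrix.mulVecLin A)).toAddSubgroup.relIndex
        (LinearMap.ker ((Groth.Agent.H74.CompLat.Sl n) ∘ₗ
          (Matrix.mulVecLin (Matrix.diagonal δ)))).toAddSubgroup : ℕ) : ℤ) * |∏ i, δ' i| *
        |∏ i, δ i| := by ring
    _ = _ := by rw [← k2, mul_right_comm, k1]; ring

end Groth.Agent.S14806
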