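import Groth.Statements.S14807
import Mathlib

set_option autoImplicit false
universe u
open CAlg

namespace Groth.Agent.S14807

/-- Let G be a finite abelian group, written additively, and ℓ a prime number. Every sequence (g_n)_{n ≥
0} of elements of G with ℓ^n · g_n = 0 and ℓ · g_{n+1} = g_n for all n is identically zero; in other
words the inverse limit of the subgroups of ℓ^n-torsion elements, with transition maps
multiplication by ℓ, vanishes. -/
theorem result (G : Type u) [AddCommGroup G] [Finite G]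
    (ℓ : ℕ) (hℓ : ℓ.Prime) (g : ℕ → G) (htor : ∀ n : ℕ, ℓ ^ n • g n = 0)
    (hcomp : ∀ n : ℕ, ℓ • g (n + 1) = g n) (n : ℕ) : g n = 0 := by
  have key : ∀ m : ℕ, g n = ℓ ^ m • g (n + m) := by
    intro m
    induction m with
    | zero => simp
    | succ m ih =>
      rw [ih, pow_succ, mul_smul, ← add_assoc, hcomp]
  set a := (Nat.card G).factorization ℓ with ha
  rw [key a]
  have h1 : addOrderOf (g (n + a)) ∣ ℓ ^ (n + a) := addOrderOf_dvd_of_nsmul_eq_zero (htor _)
  obtain ⟨k, hk, hk'⟩ := (Nat.dvd_prime_pow hℓ).1 h1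
  have h2 : addOrderOf (g (n + a)) ∣ Nat.card G := addOrderOf_dvd_natCard _
  rw [hk'] at h2
  have hpos : Nat.card G ≠ 0 := Nat.card_pos.ne'
  have h3 : k ≤ a := (hℓ.pow_dvd_iff_le_factorization hpos).1 h2
  have h4 : addOrderOf (g (n + a)) ∣ ℓ ^ a := by
    rw [hk']; exact pow_dvd_pow _ h3
  exact addOrderOf_dvd_iff_nsmul_eq_zero.1 h4

end Groth.Agent.S14807
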