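import Groth.Statements.S1481
import Groth.Agent.H68.FibGenVal
-- import your own Groth.Agent.* helpers here

set_option autoImplicit false
universe u
open FlatMor

namespace Groth.Agent.S1481

open AlgebraicGeometry CategoryTheory Limits in
/-- Let f : X → S, y a point of X with image t, Y the closure of y, s a point of S and x a point of Y
over s which is generic in an irreducible component of the fibre of Y over s (fibres as subspaces).
Then there are a valuation ring R and a morphism g : Spec R → S sending the generic point to t and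
the closed point to s, such that, writing X' for the base change with projections g' : X' → X and f'
: X' → Spec R, there is a point y' of X' over the generic point with g' y' = y which is generic in
an irreducible component of the generic fibre of g'⁻¹(Y), and a point x' in the closure of y' over
the closed point with g' x' = x which is generic in an irreducible component of the special fibre of
the closure of y'. -/
theorem result {X S : Scheme.{u}} (f : X ⟶ S) (y : X) (s : S) (x : X)
    (hx : x ∈ closure ({y} : Set ↑X)) (hxs : f x = s)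
    (hgen : ∃ C ∈ irreducibleComponents ↑(closure ({y} : Set ↑X) ∩ f ⁻¹' {s}), IsGenericPoint (⟨x, hx, hxs⟩ : ↑(closure ({y} : Set ↑X) ∩ f ⁻¹' {s})) C) :
    ∃ (R : Type u) (_ : CommRing R) (_ : IsDomain R) (_ : ValuationRing R) (g : Spec (CommRingCat.of R) ⟶ S),
      g (⊥ : PrimeSpectrum R) = f y ∧ g (IsLocalRing.closedPoint R) = s ∧
      ∃ (y' : ↑(pullback f g)) (hy't : pullback.snd f g y' = (⊥ : PrimeSpectrum R)) (hy'Y : pullback.fst f g y' ∈ closure ({y} : Set ↑X)),
        pullback.fst f g y' = y ∧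
        (∃ C ∈ irreducibleComponents ↑((pullback.fst f g) ⁻¹' closure ({y} : Set ↑X) ∩ (pullback.snd f g) ⁻¹' {(⊥ : PrimeSpectrum R)}),
          IsGenericPoint (⟨y', hy'Y, hy't⟩ : ↑((pullback.fst f g) ⁻¹' closure ({y} : Set ↑X) ∩ (pullback.snd f g) ⁻¹' {(⊥ : PrimeSpectrum R)})) C) ∧
        ∃ (x' : ↑(pullback f g)) (hx' : x' ∈ closure ({y'} : Set ↑(pullback f g))) (hx's : pullback.snd f g x' = IsLocalRing.closedPoint R),
          pullback.fst f g x' = x ∧
          ∃ C ∈ irreducibleComponents ↑(closure ({y'} : Set ↑(pullback f g)) ∩ (pullback.snd f g) ⁻¹' {IsLocalRing.closedPoint R}),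
            IsGenericPoint (⟨x', hx', hx's⟩ : ↑(closure ({y'} : Set ↑(pullback f g)) ∩ (pullback.snd f g) ⁻¹' {IsLocalRing.closedPoint R})) C := by
  classical
  have hyx : y ⤳ x := specializes_iff_mem_closure.mpr hx
  obtain ⟨R, hRc, hRd, hRv, g₀, hg₀cl, hg₀gen⟩ :=
    Groth.Agent.H73.exists_valuationRing_of_specializes hyx
  have hbot : (⊥ : PrimeSpectrum R) = ⟨⊥, Ideal.isPrime_bot⟩ := rfl
  have hg₀gen' : g₀ (⊥ : PrimeSpectrum R) = y := hg₀gen
  refine ⟨R, hRc, hRd, hRv, g₀ ≫ f, ?_, ?_, ?_⟩
  · rw [Scheme.Hom.comp_apply, hg₀gen']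
  · rw [Scheme.Hom.comp_apply, hg₀cl, hxs]
  set g := g₀ ≫ f with hg
  let σ : Spec (CommRingCat.of R) ⟶ pullback f g :=
    pullback.lift g₀ (𝟙 _) (by rw [Category.id_comp])
  have hσfst : ∀ r, pullback.fst f g (σ r) = g₀ r := by
    intro r
    rw [← Scheme.Hom.comp_apply, pullback.lift_fst]
  have hσsnd : ∀ r, pullback.snd f g (σ r) = r := by
    intro r
    rw [← Scheme.Hom.comp_apply, pullback.lift_snd]
    rfl
  have hcond : ∀ a, f (pullback.fst f g a) = g (pullback.snd f g a) := by
    intro a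
    rw [← Scheme.Hom.comp_apply, ← Scheme.Hom.comp_apply, pullback.condition]
  -- the generic fibre part
  have hGstable : StableUnderGeneralization
      ((pullback.snd f g) ⁻¹' {(⊥ : PrimeSpectrum R)} : Set ↑(pullback f g)) := by
    intro a b hba ha
    have h1 : pullback.snd f g b ⤳ pullback.snd f g a := hba.map (pullback.snd f g).continuous
    change pullback.snd f g a = (⊥ : PrimeSpectrum R) at ha
    change pullback.snd f g b = (⊥ : PrimeSpectrum R)
    rw [ha] at h1
    have h2 : (⊥ : PrimeSpectrum R) ⤳ pullback.snd f g b := by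
      rw [← PrimeSpectrum.le_iff_specializes]
      exact bot_le
    exact (h1.antisymm h2).eq
  have hAclosed : IsClosed ((pullback.fst f g) ⁻¹' closure ({y} : Set ↑X)) :=
    isClosed_closure.preimage (pullback.fst f g).continuous
  have hQS := Groth.Agent.H68.FGV.quasiSober_inter _ _ hAclosed hGstable
  have ha₀ : σ (⊥ : PrimeSpectrum R) ∈ (pullback.fst f g) ⁻¹' closure ({y} : Set ↑X) ∩
      (pullback.snd f g) ⁻¹' {(⊥ : PrimeSpectrum R)} := by
    refine ⟨?_, ?_⟩
    · rw [Set.mem_preimage, hσfst, hg₀gen']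
      exact subset_closure rfl
    · rw [Set.mem_preimage, hσsnd]
      rfl
  obtain ⟨ξ, hξa₀, C, hC, hξC⟩ := Groth.Agent.H68.FGV.exists_generic_specializes
    (⟨σ (⊥ : PrimeSpectrum R), ha₀⟩ : ↑((pullback.fst f g) ⁻¹' closure ({y} : Set ↑X) ∩
      (pullback.snd f g) ⁻¹' {(⊥ : PrimeSpectrum R)}))
  have hξa₀' : ξ.1 ⤳ σ (⊥ : PrimeSpectrum R) := hξa₀.map continuous_subtype_val
  have hfstξ : pullback.fst f g ξ.1 = y := by
    have h1 : pullback.fst f g ξ.1 ⤳ y := by
      have := hξa₀'.map (pullback.fst f g).continuous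
      rwa [hσfst, hg₀gen'] at this
    have h2 : y ⤳ pullback.fst f g ξ.1 := specializes_iff_mem_closure.mpr ξ.2.1
    exact (h1.antisymm h2).eq
  refine ⟨ξ.1, ξ.2.2, ξ.2.1, hfstξ, ⟨C, hC, hξC⟩, ?_⟩
  -- the special fibre part
  have hclosedpt : IsClosed ({IsLocalRing.closedPoint R} : Set (PrimeSpectrum R)) :=
    IsLocalRing.isClosed_singleton_closedPoint R
  have hZclosed : IsClosed (closure ({ξ.1} : Set ↑(pullback f g)) ∩
      (pullback.snd f g) ⁻¹' {IsLocalRing.closedPoint R}) :=
    isClosed_closure.inter (hclosedpt.preimage (pullback.snd f g).continuous)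
  have hQS' : QuasiSober ↑(closure ({ξ.1} : Set ↑(pullback f g)) ∩
      (pullback.snd f g) ⁻¹' {IsLocalRing.closedPoint R}) :=
    hZclosed.isClosedEmbedding_subtypeVal.quasiSober
  have hb₀ : σ (IsLocalRing.closedPoint R) ∈ closure ({ξ.1} : Set ↑(pullback f g)) ∩
      (pullback.snd f g) ⁻¹' {IsLocalRing.closedPoint R} := by
    refine ⟨?_, ?_⟩
    · rw [← specializes_iff_mem_closure]
      refine hξa₀'.trans ?_
      have := (Groth.Agent.H73.bot_specializes_closedPoint R).map σ.continuous
      exact this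
    · rw [Set.mem_preimage, hσsnd]
      rfl
  obtain ⟨ζ, hζb₀, C', hC', hζC'⟩ := Groth.Agent.H68.FGV.exists_generic_specializes
    (⟨σ (IsLocalRing.closedPoint R), hb₀⟩ : ↑(closure ({ξ.1} : Set ↑(pullback f g)) ∩
      (pullback.snd f g) ⁻¹' {IsLocalRing.closedPoint R}))
  have hζb₀' : ζ.1 ⤳ σ (IsLocalRing.closedPoint R) := hζb₀.map continuous_subtype_val
  refine ⟨ζ.1, ζ.2.1, ζ.2.2, ?_, C', hC', hζC'⟩
  -- `fst ζ = x`
  obtain ⟨D, hD, hxD⟩ := hgen
  have hfstζY : pullback.fst f g ζ.1 ∈ closure ({y} : Set ↑X) := by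
    have h1 : ξ.1 ⤳ ζ.1 := specializes_iff_mem_closure.mpr ζ.2.1
    have h2 := h1.map (pullback.fst f g).continuous
    rw [hfstξ] at h2
    exact specializes_iff_mem_closure.mp h2
  have hfstζs : f (pullback.fst f g ζ.1) = s := by
    rw [hcond, ζ.2.2, hg, Scheme.Hom.comp_apply, hg₀cl, hxs]
  have hspec : (⟨pullback.fst f g ζ.1, hfstζY, hfstζs⟩ :
      ↑(closure ({y} : Set ↑X) ∩ f ⁻¹' {s})) ⤳ ⟨x, hx, hxs⟩ := by
    rw [subtype_specializes_iff]
    have := hζb₀'.map (pullback.fst f g).continuous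
    rwa [hσfst, hg₀cl] at this
  have := Groth.Agent.H68.FGV.eq_of_specializes_generic hD hxD hspec
  exact congrArg Subtype.val this

end Groth.Agent.S1481
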