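import Groth.Statements.S14826
import Groth.Agent.H22.AbRigid

set_option autoImplicit false
universe u
open CategoryTheory MonoidalCategory CartesianMonoidalCategory MonObj GrpObj AlgebraicGeometry
open AbVar

namespace Groth.Agent.S14826

/-- Over a field k (the published statement is over a base scheme S), let X be a proper k-scheme with
H^0(X, O_X) one-dimensional and a k-rational point x₀, and alb : X → A the Albanese morphism (A an
abelian variety — proper, geometrically integral group scheme — with alb(x₀) = 0, universal among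
pointed morphisms from X to geometrically reduced, connected, proper group schemes). Let φ : X → A'
be an arbitrary k-morphism to such an abelian variety A', not necessarily pointed. Then φ factors
through alb by exactly one k-morphism A → A', and that morphism is a homomorphism h followed by the
translation of A' by the k-point φ(x₀): there is a homomorphism h : A → A' with φ = (alb ≫ h) ·
(constant map with value φ(x₀)) in the group of morphisms into A', and every k-morphism g : A → A'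
with alb ≫ g = φ equals h · (constant map A → A' with value φ(x₀)). -/
theorem result (k : Type u) [Field k] (X : Scheme.{u}) [X.Over (Spec (CommRingCat.of k))]
    [IsProper (X ↘ Spec (CommRingCat.of k))] (h0 : Module.finrank k (Coh.HH X (Coh.structureModule X) 0) = 1)
    (x₀ : 𝟙_ (Over (Spec (CommRingCat.of k))) ⟶ Over.mk (X ↘ Spec (CommRingCat.of k)))
    (A : Over (Spec (CommRingCat.of k))) [GrpObj A] [IsProper A.hom] [GeometricallyIntegral A.hom]
    (alb : Over.mk (X ↘ Spec (CommRingCat.of k)) ⟶ A) (halb : x₀ ≫ alb = η[A])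
    (huniv : ∀ (B : Over (Spec (CommRingCat.of k))) [GrpObj B] [IsProper B.hom] [GeometricallyReduced B.hom] [ConnectedSpace ↥B.left]
      (g : Over.mk (X ↘ Spec (CommRingCat.of k)) ⟶ B), x₀ ≫ g = η[B] → ∃! h : A ⟶ B, IsMonHom h ∧ alb ≫ h = g)
    (A' : Over (Spec (CommRingCat.of k))) [GrpObj A'] [IsProper A'.hom] [GeometricallyReduced A'.hom] [ConnectedSpace ↥A'.left]
    (φ : Over.mk (X ↘ Spec (CommRingCat.of k)) ⟶ A') :
    ∃ h : A ⟶ A', IsMonHom h ∧ (alb ≫ h) * (toUnit (Over.mk (X ↘ Spec (CommRingCat.of k))) ≫ x₀ ≫ φ) = φ ∧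
      ∀ g : A ⟶ A', alb ≫ g = φ → g = h * (toUnit A ≫ x₀ ≫ φ) := by
  have hu1 : ∀ (t : 𝟙_ (Over (Spec (CommRingCat.of k))) ⟶ 𝟙_ (Over (Spec (CommRingCat.of k)))),
      t = 𝟙 _ := fun t => toUnit_unique _ _
  have hη1 : (1 : 𝟙_ (Over (Spec (CommRingCat.of k))) ⟶ A') = η[A'] := by
    rw [Hom.one_def, hu1 (toUnit _), Category.id_comp]
  obtain ⟨c, hc⟩ : ∃ c : Over.mk (X ↘ Spec (CommRingCat.of k)) ⟶ A',
    c = toUnit (Over.mk (X ↘ Spec (CommRingCat.of k))) ≫ x₀ ≫ φ := ⟨_, rfl⟩
  have hx₀c : x₀ ≫ c = x₀ ≫ φ := by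
    rw [hc, ← Category.assoc, hu1 (x₀ ≫ toUnit _), Category.id_comp]
  have hφ' : x₀ ≫ (φ * c⁻¹) = η[A'] := by
    rw [MonObj.comp_mul, GrpObj.comp_inv, hx₀c, mul_inv_cancel, hη1]
  obtain ⟨h, ⟨hh1, hh2⟩, huniq⟩ := huniv A' (φ * c⁻¹) hφ'
  refine ⟨h, hh1, ?_, ?_⟩
  · rw [hh2, ← hc, inv_mul_cancel_right]
  · intro g hg
    obtain ⟨cA, hcA⟩ : ∃ cA : A ⟶ A', cA = toUnit A ≫ x₀ ≫ φ := ⟨_, rfl⟩
    rw [← hcA]
    have halbc : alb ≫ cA = c := by
      rw [hcA, hc, ← Category.assoc, toUnit_unique (alb ≫ toUnit A) (toUnit _)]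
    have h1 : alb ≫ (g * cA⁻¹) = φ * c⁻¹ := by
      rw [MonObj.comp_mul, GrpObj.comp_inv, hg, halbc]
    have h2 : η[A] ≫ (g * cA⁻¹) = η[A'] := by
      rw [MonObj.comp_mul, GrpObj.comp_inv]
      have e1 : η[A] ≫ g = x₀ ≫ φ := by rw [← halb, Category.assoc, hg]
      have e2 : η[A] ≫ cA = x₀ ≫ φ := by
        rw [hcA, ← Category.assoc, hu1 (η[A] ≫ toUnit A), Category.id_comp]
      rw [e1, e2, mul_inv_cancel, hη1]
    have h3 : IsMonHom (g * cA⁻¹) := Groth.Agent.H22.AbRigid.isMonHom_of_one_hom A A' _ h2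
    have h4 : g * cA⁻¹ = h := huniq _ ⟨h3, h1⟩
    rw [← h4, inv_mul_cancel_right]


end Groth.Agent.S14826
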