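import Groth.Statements.S1484
import Mathlib

set_option autoImplicit false
universe u
open FlatMor

namespace Groth.Agent.S1484

/-- Let R be a ring, p_1, …, p_r primes of R none of which is contained in another, k_i ⊆ κ(p_i)
subfields over which κ(p_i) is not algebraic, and J an ideal of R contained in none of the p_i. Then
some x ∈ J has image in κ(p_i) transcendental over k_i for every i. -/
theorem result {R : Type u} [CommRing R] {r : ℕ} (p : Fin r → Ideal R) [∀ i, (p i).IsPrime]
    (hp : ∀ i j, i ≠ j → ¬ p i ≤ p j) (k : ∀ i, Subfield (p i).ResidueField)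
    (hk : ∀ i, ¬ Algebra.IsAlgebraic ↥(k i) (p i).ResidueField) (J : Ideal R) (hJ : ∀ i, ¬ J ≤ p i) :
    ∃ x ∈ J, ∀ i, Transcendental ↥(k i) (algebraMap R (p i).ResidueField x) := by
  classical
  -- Step 1: elements `y i ∈ J`, outside `p i`, inside every other `p j`.
  have h1 : ∀ i, ∃ y ∈ J, y ∉ p i ∧ ∀ j, j ≠ i → y ∈ p j := by
    intro i
    obtain ⟨b, hbJ, hbi⟩ := SetLike.not_le_iff_exists.mp (hJ i)
    have : ∀ j, ∃ a : R, a ∉ p i ∧ (j ≠ i → a ∈ p j) := by
      intro j
      by_cases hji : j = i
      · exact ⟨1, fun h ↦ (inferInstance : (p i).IsPrime).ne_top ((Ideal.eq_top_iff_one _).mpr h),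
          fun h ↦ (h hji).elim⟩
      · obtain ⟨a, haj, hai⟩ := SetLike.not_le_iff_exists.mp (hp j i hji)
        exact ⟨a, hai, fun _ ↦ haj⟩
    choose a hai haj using this
    refine ⟨b * ∏ j, a j, J.mul_mem_right _ hbJ, ?_, ?_⟩
    · intro hmem
      rcases (inferInstance : (p i).IsPrime).mem_or_mem hmem with h | h
      · exact hbi h
      · obtain ⟨j, -, hj⟩ := ((inferInstance : (p i).IsPrime).prod_mem_iff).mp h
        exact hai j hj
    · intro j hji
      apply Ideal.mul_mem_left
      exact Ideal.mem_of_dvd _ (Finset.dvd_prod_of_mem a (Finset.mem_univ j)) (haj j hji)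
  choose y hyJ hyi hyj using h1
  -- Step 2: multipliers making the image transcendental.
  have h2 : ∀ i, ∃ z : R, Transcendental ↥(k i)
      (algebraMap R (p i).ResidueField z * algebraMap R (p i).ResidueField (y i)) := by
    intro i
    by_contra hcon
    push Not at hcon
    simp only [Transcendental, not_not] at hcon
    apply hk i
    have hy0 : algebraMap R (p i).ResidueField (y i) ≠ 0 := by
      rw [Ne, Ideal.algebraMap_residueField_eq_zero]
      exact hyi i
    have hyalg : IsAlgebraic ↥(k i) (algebraMap R (p i).ResidueField (y i)) := by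
      simpa using hcon 1
    have hall : ∀ z : R, IsAlgebraic ↥(k i) (algebraMap R (p i).ResidueField z) := by
      intro z
      have := (hcon z).mul hyalg.inv
      rwa [mul_assoc, mul_inv_cancel₀ hy0, mul_one] at this
    constructor
    intro θ
    obtain ⟨u, v, -, rfl⟩ := IsFractionRing.div_surjective (A := R ⧸ p i) θ
    obtain ⟨u, rfl⟩ := Ideal.Quotient.mk_surjective u
    obtain ⟨v, rfl⟩ := Ideal.Quotient.mk_surjective v
    rw [Ideal.algebraMap_quotient_residueField_mk, Ideal.algebraMap_quotient_residueField_mk,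
      div_eq_mul_inv]
    exact (hall u).mul (hall v).inv
  choose z hz using h2
  refine ⟨∑ i, z i * y i, J.sum_mem fun i _ ↦ J.mul_mem_left _ (hyJ i), fun i ↦ ?_⟩
  have : algebraMap R (p i).ResidueField (∑ j, z j * y j) =
      algebraMap R (p i).ResidueField (z i) * algebraMap R (p i).ResidueField (y i) := by
    rw [map_sum, Finset.sum_eq_single i]
    · rw [map_mul]
    · intro j _ hji
      rw [map_mul, Ideal.algebraMap_residueField_eq_zero.mpr (hyj j i hji.symm), mul_zero]
    · intro h; exact (h (Finset.mem_univ i)).elim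
  rw [this]
  exact hz i

end Groth.Agent.S1484
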