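import Groth.Statements.S14840
import Groth.Agent.H40.CD.EqLocus2

set_option autoImplicit false
open CategoryTheory MonoidalCategory CartesianMonoidalCategory AlgebraicGeometry
universe u
open AlgGrp

namespace Groth.Agent.S14840

/-- Let G be a group scheme over a scheme S, affine over S and with structure sheaf locally free over
O_S (each point of S has an affine open neighbourhood U such that the sections of O_G over the
preimage of U form a free module over the sections of O_S over U), acting on an S-scheme Y which is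
separated over S. Then the subfunctor of G-fixed points of Y is a closed subfunctor: there are an
S-scheme Z and a closed immersion i : Z → Y over S such that a T-valued point y of Y factors through
i exactly when it is fixed, i.e. g · y = y for every S-scheme T' over T and every T'-valued point g
of G. -/
theorem result
    {S : Scheme.{u}} (G Y : Over S) [GrpObj G] (a : AlgGrp.Action G Y)
    [IsAffineHom G.hom] [IsSeparated Y.hom]
    (hfree : ∀ s : S, ∃ U : S.affineOpens, s ∈ (U : S.Opens) ∧
      @Module.Free Γ(S, U) Γ(G.left, G.hom ⁻¹ᵁ U) _ _ (G.hom.app U).hom.toAlgebra.toModule) :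
    ∃ (Z : Over S) (i : Z ⟶ Y), IsClosedImmersion i.left ∧
      ∀ (T : Over S) (y : T ⟶ Y),
        (∀ (T' : Over S) (t : T' ⟶ T) (g : T' ⟶ G), lift g (t ≫ y) ≫ a.act = t ≫ y) ↔
          ∃ z : T ⟶ Z, z ≫ i = y := by
  obtain ⟨W, i₀, hi₀, hW⟩ :=
    Groth.Agent.H40.CD.exists_closed_eqLocus_of_affine_free G Y Y a.act (snd G Y) hfree
  refine ⟨Over.mk (i₀ ≫ Y.hom), Over.homMk i₀, hi₀, fun T f => ?_⟩
  have h1 : (∀ (T' : Over S) (t : T' ⟶ T) (g : T' ⟶ G),
      lift g (t ≫ f) ≫ a.act = t ≫ f) ↔ ((G ◁ f) ≫ a.act = (G ◁ f) ≫ snd G Y) := by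
    constructor
    · intro h
      have h2 := h (G ⊗ T) (snd G T) (fst G T)
      have h3 : lift (fst G T) (snd G T ≫ f) = G ◁ f := by
        apply CartesianMonoidalCategory.hom_ext
        · rw [lift_fst, whiskerLeft_fst]
        · rw [lift_snd, whiskerLeft_snd]
      rw [h3] at h2
      rw [h2, whiskerLeft_snd]
    · intro h T' t g
      have h3 : lift g (t ≫ f) = lift g t ≫ (G ◁ f) := by rw [lift_whiskerLeft]
      rw [h3, Category.assoc, h, whiskerLeft_snd, lift_snd_assoc]
  rw [h1, hW]
  constructor
  · rintro ⟨w, hw⟩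
    refine ⟨Over.homMk w ?_, ?_⟩
    · have := Over.w f
      dsimp at this ⊢
      rw [← Category.assoc, hw, this]
    · ext
      exact hw
  · rintro ⟨f', rfl⟩
    exact ⟨f'.left, rfl⟩

end Groth.Agent.S14840
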