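import Groth.Statements.S14842
import Mathlib
import Groth.Agent.H74.SimpleSubcoalg

set_option autoImplicit false
universe u v
open HopfRep

namespace Groth.Agent.S14842

open TensorProduct in
/-- Over a field K, every simple subcoalgebra D of a coalgebra C is the coefficient space of a simple
comodule. Precisely: there is a subspace E of C contained in D which is a simple subcomodule of the
regular right comodule C (E is nonzero, stable under the coaction, and its only subcomodules are 0
and E) and such that D is the least subspace D' of C with comul(E) inside the image of E ⊗ D'. Here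
a subcoalgebra of C is a subspace B whose comultiplication lands in the image of B ⊗ B, and a simple
subcoalgebra is a nonzero subcoalgebra D whose only subcoalgebras contained in D are 0 and D.
(Stated for right comodules; the published statement is for left comodules.) -/
theorem result {K : Type u} {C : Type v} [Field K]
    [AddCommGroup C] [Module K C] [Coalgebra K C]
    (D : Submodule K C) (hD0 : D ≠ ⊥) (hD : (∀ b ∈ D, CoalgebraStruct.comul (R := K) b ∈ LinearMap.range (TensorProduct.map D.subtype D.subtype)))
    (hDs : ∀ B : Submodule K C, B ≤ D → (∀ b ∈ B, CoalgebraStruct.comul (R := K) b ∈ LinearMap.range (TensorProduct.map B.subtype B.subtype)) → B = ⊥ ∨ B = D) :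
    ∃ E : Submodule K C, E ≤ D ∧ E ≠ ⊥ ∧ HopfRep.IsSubcomod (k := K) (A := C) E ∧
      (∀ E' : Submodule K C, E' ≤ E → HopfRep.IsSubcomod (k := K) (A := C) E' → E' = ⊥ ∨ E' = E) ∧
      IsLeast {D' : Submodule K C |
        ∀ e ∈ E, CoalgebraStruct.comul (R := K) e ∈ LinearMap.range (TensorProduct.map E.subtype D'.subtype)} D := by
  classical
  have hDsimple : Groth.Agent.H74.Comod.IsSimpleSub D := ⟨hD0, hD, hDs⟩
  haveI := hDsimple.finite
  have hDst := Groth.Agent.H74.Coalg.IsSubcoalg.isStable hD
  obtain ⟨E, hED, hE0, hEs, hEmin⟩ := Groth.Agent.H74.Comod.exists_minimal_subcomod hDst hD0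
  have hH : Groth.Agent.H74.Comod.lfHull E = D := by
    have hle : Groth.Agent.H74.Comod.lfHull E ≤ D :=
      (Groth.Agent.H74.Comod.lfHull_le_iff E D).2 (fun g x hx => (hDst g).1 x (hED hx))
    rcases hDs _ hle (Groth.Agent.H74.Comod.isStable_lfHull hEs).isSubcoalg with h | h
    · exfalso
      apply hE0
      rw [eq_bot_iff, ← h]
      exact Groth.Agent.H74.Comod.le_lfHull E
    · exact h
  refine ⟨E, hED, hE0, hEs, hEmin, ?_, ?_⟩
  · intro e he
    apply Groth.Agent.H74.Comod.mem_range_map_of_mem
    · exact hEs e he
    · rw [Groth.Agent.H74.Comod.comul_mem_lTensor_iff]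
      intro g
      rw [← hH]
      exact Groth.Agent.H74.Comod.Lf_mem_lfHull E g he
  · intro D' hD'
    rw [← hH, Groth.Agent.H74.Comod.lfHull_le_iff]
    intro g x hx
    obtain ⟨s, hs⟩ := hD' x hx
    rw [Groth.Agent.H74.Coalg.Lf_apply, ← hs]
    have : (TensorProduct.lid K C).toLinearMap ∘ₗ LinearMap.rTensor C g ∘ₗ
        TensorProduct.map E.subtype D'.subtype =
        D'.subtype ∘ₗ (TensorProduct.lid K D').toLinearMap ∘ₗ
          LinearMap.rTensor D' (g ∘ₗ E.subtype) ∘ₗ LinearMap.lTensor E LinearMap.id := by
      ext x y
      simp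
    have h2 := LinearMap.congr_fun this s
    simp only [LinearMap.comp_apply, LinearEquiv.coe_coe] at h2
    rw [h2]
    exact Submodule.coe_mem _

end Groth.Agent.S14842
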