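import Groth.Statements.S14848
import Mathlib

set_option autoImplicit false
universe u v
open McKay

namespace Groth.Agent.S14848

/-- Let K be a field of characteristic zero, L an extension field of K and ξ ∈ L a primitive n-th root
of unity (n ≥ 1) with ξ + ξ⁻¹ ∈ K, say ξ + ξ⁻¹ = 2c with c ∈ K (the character of the natural
two-dimensional representation of the cyclic group of order n takes values in K). Then the cyclic
group of order n is realisable over K as a subgroup of SL(2, K): there is an element of SL(2, K) of
order n. -/
theorem result {K : Type u} {L : Type v} [Field K] [Field L]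
    [CharZero K] [Algebra K L] (n : ℕ) (hn : 1 ≤ n) (ξ : L) (hξ : IsPrimitiveRoot ξ n) (c : K)
    (hc : algebraMap K L (2 * c) = ξ + ξ⁻¹) :
    ∃ M : Matrix.SpecialLinearGroup (Fin 2) K, orderOf M = n := by
  classical
  have hξ0 : ξ ≠ 0 := hξ.ne_zero (by omega)
  rcases Nat.lt_or_ge n 3 with hlt | hge
  · -- small cases
    have h12 : n = 1 ∨ n = 2 := by omega
    rcases h12 with rfl | rfl
    · exact ⟨1, orderOf_one⟩
    · obtain ⟨N, hN⟩ : ∃ N : Matrix.SpecialLinearGroup (Fin 2) K,
          (N : Matrix (Fin 2) (Fin 2) K) = !![-1, 0; 0, -1] :=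
        ⟨⟨!![-1, 0; 0, -1], by simp [Matrix.det_fin_two]⟩, rfl⟩
      refine ⟨N, ?_⟩
      apply orderOf_eq_prime
      · apply Matrix.SpecialLinearGroup.ext
        intro i j
        rw [Matrix.SpecialLinearGroup.coe_pow, hN, pow_two, Matrix.mul_fin_two, Matrix.SpecialLinearGroup.coe_one,
          Matrix.one_fin_two]
        simp
      · intro h
        have h00 : (N : Matrix (Fin 2) (Fin 2) K) 0 0 = (1 : Matrix (Fin 2) (Fin 2) K) 0 0 := by
          rw [h]; rfl
        rw [hN] at h00
        simp at h00
        have : (2 : K) = 0 := by linear_combination -h00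
        exact two_ne_zero this
  · -- generic case
    have hξ2 : ξ ^ 2 ≠ 1 := by
      intro h
      have := (hξ.pow_eq_one_iff_dvd 2).1 h
      have := Nat.le_of_dvd (by omega) this
      omega
    obtain ⟨M, hM⟩ : ∃ M : Matrix.SpecialLinearGroup (Fin 2) K,
        (M : Matrix (Fin 2) (Fin 2) K) = !![0, -1; 1, 2 * c] :=
      ⟨⟨!![0, -1; 1, 2 * c], by simp [Matrix.det_fin_two]⟩, rfl⟩
    refine ⟨M, ?_⟩
    let ML : Matrix (Fin 2) (Fin 2) L := !![0, -1; 1, ξ + ξ⁻¹]
    have hML : (M : Matrix (Fin 2) (Fin 2) K).map (algebraMap K L) = ML := by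
      rw [hM]
      ext i j
      fin_cases i <;> fin_cases j <;> simp [ML, ← hc]
    let P : Matrix (Fin 2) (Fin 2) L := !![1, 1; -ξ, -ξ⁻¹]
    let D : Matrix (Fin 2) (Fin 2) L := Matrix.diagonal ![ξ, ξ⁻¹]
    have hPdet : P.det ≠ 0 := by
      simp only [P, Matrix.det_fin_two_of]
      intro h
      apply hξ2
      have : ξ * ξ = 1 := by
        field_simp at h
        linear_combination h
      rw [pow_two, this]
    have hMP : ML * P = P * D := by
      ext i j
      fin_cases i <;> fin_cases j <;>
        simp [ML, P, D, Matrix.mul_apply, Fin.sum_univ_two, Matrix.diagonal] <;> field_simp <;> ring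
    have hpow : ∀ m : ℕ, ML ^ m * P = P * D ^ m := by
      intro m
      induction m with
      | zero => simp
      | succ m ih => rw [pow_succ', Matrix.mul_assoc, ih, ← Matrix.mul_assoc, hMP, Matrix.mul_assoc, ← pow_succ']
    have hPunit : IsUnit P := (Matrix.isUnit_iff_isUnit_det P).2 (isUnit_iff_ne_zero.2 hPdet)
    have hDpow : ∀ m : ℕ, D ^ m = Matrix.diagonal ![ξ ^ m, (ξ⁻¹) ^ m] := by
      intro m
      simp only [D, Matrix.diagonal_pow]
      congr 1
      ext i; fin_cases i <;> simp
    have key : ∀ m : ℕ, M ^ m = 1 ↔ ξ ^ m = 1 := by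
      intro m
      have h1 : M ^ m = 1 ↔ ML ^ m = 1 := by
        rw [← hML]
        constructor
        · intro h
          have : ((M ^ m : Matrix.SpecialLinearGroup (Fin 2) K) : Matrix (Fin 2) (Fin 2) K) = 1 := by rw [h]; rfl
          rw [Matrix.SpecialLinearGroup.coe_pow] at this
          have h2 : ((M : Matrix (Fin 2) (Fin 2) K) ^ m).map (algebraMap K L) =
              (1 : Matrix (Fin 2) (Fin 2) K).map (algebraMap K L) := by rw [this]
          rw [Matrix.map_pow] at h2
          rw [h2]
          simp
        · intro h
          apply Matrix.SpecialLinearGroup.ext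
          intro i j
          rw [Matrix.SpecialLinearGroup.coe_pow, Matrix.SpecialLinearGroup.coe_one]
          refine congrFun (congrFun ?_ i) j
          have hinj : Function.Injective (fun X : Matrix (Fin 2) (Fin 2) K => X.map (algebraMap K L)) :=
            Matrix.map_injective (algebraMap K L).injective
          apply hinj
          simp only
          rw [Matrix.map_pow, h]
          simp
      rw [h1]
      constructor
      · intro h
        have h2 := hpow m
        rw [h, Matrix.one_mul] at h2
        have h3 : D ^ m = 1 := by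
          obtain ⟨u, hu⟩ := hPunit
          have : (u : Matrix (Fin 2) (Fin 2) L) * 1 = u * D ^ m := by rw [hu, Matrix.mul_one]; exact h2
          exact (Units.mul_right_inj u).1 this |>.symm
        rw [hDpow] at h3
        have h4 := congrFun (congrFun h3 0) 0
        simpa using h4
      · intro h
        have h3 : D ^ m = 1 := by
          rw [hDpow, inv_pow, h]
          ext i j
          fin_cases i <;> fin_cases j <;> simp
        have h2 := hpow m
        rw [h3, Matrix.mul_one] at h2
        obtain ⟨u, hu⟩ := hPunit
        have : ML ^ m * (u : Matrix (Fin 2) (Fin 2) L) = 1 * u := by rw [hu, Matrix.one_mul]; exact h2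
        exact (Units.mul_left_inj u).1 this
    apply Nat.dvd_antisymm
    · rw [orderOf_dvd_iff_pow_eq_one, key]
      exact hξ.pow_eq_one
    · rw [← hξ.pow_eq_one_iff_dvd, ← key]
      exact pow_orderOf_eq_one M

end Groth.Agent.S14848
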