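import Groth.Statements.S14849
import Mathlib
import Groth.Agent.H74.QuatHom
import Groth.Agent.H74.SL2Order

set_option autoImplicit false
universe u v
open McKay

namespace Groth.Agent.S14849

/-- Let K be a field of characteristic zero, L an extension field of K, n ≥ 2, and ξ ∈ L a primitive
2n-th root of unity with ξ + ξ⁻¹ = 2c for some c ∈ K. If the Hilbert symbol of -1 and c² - 1 over K
equals 1, i.e. x² - (c² - 1) y² = -1 has a solution in K, then the binary dihedral group of order 4n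
(generators σ, τ with τ² = σⁿ = (τσ)²) is isomorphic to a subgroup of SL(2, K). (The published
statement is an equivalence; this row is the direction realising the group from a solution of the
conic.) -/
theorem result {K : Type u} {L : Type v}
    [Field K] [Field L] [CharZero K] [Algebra K L] (n : ℕ) (hn : 2 ≤ n) (ξ : L)
    (hξ : IsPrimitiveRoot ξ (2 * n)) (c : K) (hc : algebraMap K L (2 * c) = ξ + ξ⁻¹)
    (hsol : ∃ x y : K, x ^ 2 - (c ^ 2 - 1) * y ^ 2 = -1) :
    ∃ f : QuaternionGroup n →* Matrix.SpecialLinearGroup (Fin 2) K, Function.Injective f := by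
  classical
  obtain ⟨x, y, hxy⟩ := hsol
  have hn0 : NeZero n := ⟨by omega⟩
  have hξ0 : ξ ≠ 0 := hξ.ne_zero (by omega)
  have hξ2 : ξ ^ 2 ≠ 1 := by
    intro h
    have := (hξ.pow_eq_one_iff_dvd 2).1 h
    have := Nat.le_of_dvd (by omega) this
    omega
  obtain ⟨σ, hσ⟩ : ∃ M : Matrix.SpecialLinearGroup (Fin 2) K,
      (M : Matrix (Fin 2) (Fin 2) K) = !![0, -1; 1, 2 * c] :=
    ⟨⟨!![0, -1; 1, 2 * c], by simp [Matrix.det_fin_two]⟩, rfl⟩
  obtain ⟨τ, hτ⟩ : ∃ M : Matrix.SpecialLinearGroup (Fin 2) K,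
      (M : Matrix (Fin 2) (Fin 2) K) =
        !![x + c * y, y; y - 2 * c * (x + c * y), -(x + c * y)] :=
    ⟨⟨!![x + c * y, y; y - 2 * c * (x + c * y), -(x + c * y)], by
      simp only [Matrix.det_fin_two_of]
      linear_combination (-1 : K) * hxy⟩, rfl⟩
  have key := Groth.Agent.H74.sl2_companion_pow σ c hσ ξ hξ0 hξ2 hc
  have hσ2n : σ ^ (2 * n) = 1 := (key (2 * n)).1.2 hξ.pow_eq_one
  have hξn : ξ ^ n = -1 :=
    (hξ.pow (by omega) (by ring : 2 * n = n * 2)).eq_neg_one_of_two_right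
  have hσn := (key n).2 hξn
  have hττ : τ * τ = σ ^ n := by
    apply Matrix.SpecialLinearGroup.ext
    intro i j
    rw [hσn, Matrix.SpecialLinearGroup.coe_mul, hτ, Matrix.mul_fin_two]
    fin_cases i <;> fin_cases j <;> simp [Matrix.neg_apply] <;> first | ring1 | linear_combination hxy
  have hrel : τ * σ * τ⁻¹ = σ⁻¹ := by
    rw [mul_inv_eq_iff_eq_mul, eq_inv_mul_iff_mul_eq]
    apply Matrix.SpecialLinearGroup.ext
    intro i j
    rw [Matrix.SpecialLinearGroup.coe_mul, Matrix.SpecialLinearGroup.coe_mul, hσ, hτ,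
      Matrix.mul_fin_two, Matrix.mul_fin_two]
    fin_cases i <;> fin_cases j <;> simp <;> ring
  refine ⟨Groth.Agent.H74.quatHom σ τ hσ2n hττ hrel, ?_⟩
  rw [injective_iff_map_eq_one]
  rintro (i | i) h
  · rw [Groth.Agent.H74.quatHom_a] at h
    have h1 := (key i.val).1.1 h
    have h2 := (hξ.pow_eq_one_iff_dvd _).1 h1
    have h3 : i.val < 2 * n := ZMod.val_lt i
    have h4 : i.val = 0 := Nat.eq_zero_of_dvd_of_lt h2 h3
    have h5 : i = 0 := (ZMod.val_eq_zero i).1 h4
    rw [h5]; rfl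
  · exfalso
    rw [Groth.Agent.H74.quatHom_xa] at h
    have hτeq : τ = (σ ^ i.val)⁻¹ := eq_inv_of_mul_eq_one_left h
    have hcomm : τ * σ = σ * τ := by
      rw [hτeq]
      have : Commute (σ ^ i.val)⁻¹ σ := ((Commute.refl σ).pow_left _).inv_left
      exact this.eq
    have h1 : σ * τ * τ⁻¹ = σ⁻¹ := by rw [← hcomm]; exact hrel
    rw [mul_inv_cancel_right] at h1
    have h2 : σ ^ 2 = 1 := by
      rw [pow_two]
      nth_rewrite 2 [h1]
      exact mul_inv_cancel σ
    exact hξ2 ((key 2).1.1 h2)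

end Groth.Agent.S14849
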