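import Groth.Statements.S14851
import Mathlib
import Groth.Agent.H74.CoeffSimple

set_option autoImplicit false
universe u v w w'
open HopfRep

namespace Groth.Agent.S14851

open TensorProduct in
/-- The map E ↦ C(E) from isomorphism classes of simple comodules to simple subcoalgebras is injective,
that is: over a field K, two simple right comodules E, E' over a coalgebra C with the same
coefficient space D (the least subspace D' of C such that the coaction lands in E ⊗ D', resp. E' ⊗
D') are isomorphic as comodules. (The published statement is made for a cosemisimple coalgebra and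
for left comodules; the printed argument for this part uses neither restriction.) -/
theorem result {K : Type u} {C : Type v} [Field K]
    [AddCommGroup C] [Module K C] [Coalgebra K C]
    {E : Type w} [AddCommGroup E] [Module K E] [HopfRep.Comod K C E]
    {E' : Type w'} [AddCommGroup E'] [Module K E'] [HopfRep.Comod K C E']
    (hE : HopfRep.IsSimpleComod K C E) (hE' : HopfRep.IsSimpleComod K C E') (D : Submodule K C)
    (hD : IsLeast {D' : Submodule K C |
      ∀ e : E, HopfRep.Comod.coact (k := K) (A := C) e ∈ LinearMap.range (LinearMap.lTensor E D'.subtype)} D)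
    (hD' : IsLeast {D' : Submodule K C |
      ∀ e : E', HopfRep.Comod.coact (k := K) (A := C) e ∈ LinearMap.range (LinearMap.lTensor E' D'.subtype)} D) :
    ∃ e : E ≃ₗ[K] E', Hoch.IsComodHom C e.toLinearMap := by
  classical
  have hDeq := Groth.Agent.H74.Comod.eq_coeffSpace_of_isLeast hD
  have hDeq' := Groth.Agent.H74.Comod.eq_coeffSpace_of_isLeast hD'
  letI := Groth.Agent.H74.Comod.module K C E
  letI := Groth.Agent.H74.Comod.module K C E'
  letI := Groth.Agent.H74.Comod.module K C C
  haveI : IsSimpleModule (Groth.Agent.H74.Comod.Dual K C) E :=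
    Groth.Agent.H74.Comod.isSimpleComod_iff.1 hE
  haveI : IsSimpleModule (Groth.Agent.H74.Comod.Dual K C) E' :=
    Groth.Agent.H74.Comod.isSimpleComod_iff.1 hE'
  -- a nonzero functional on `E'`
  haveI := hE'.1
  obtain ⟨e', he'⟩ := exists_ne (0 : E')
  have : ¬ ∀ φ : Module.Dual K E', φ e' = 0 := by
    rw [Module.forall_dual_apply_eq_zero_iff]; exact he'
  push_neg at this
  obtain ⟨φ, hφ⟩ := this
  have hφ0 : φ ≠ 0 := by
    intro h; rw [h] at hφ; exact hφ rfl
  -- the image of `cf φ` is a simple submodule isomorphic to `E'`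
  let S : Submodule (Groth.Agent.H74.Comod.Dual K C) C :=
    LinearMap.range (Groth.Agent.H74.Comod.cfR (C := C) φ)
  let e1 : E' ≃ₗ[Groth.Agent.H74.Comod.Dual K C] S :=
    LinearEquiv.ofInjective _ (Groth.Agent.H74.Comod.cfR_injective hφ0)
  haveI : IsSimpleModule (Groth.Agent.H74.Comod.Dual K C) S := IsSimpleModule.congr e1.symm
  have hle : S ≤ Groth.Agent.H74.Comod.stableToSub (Groth.Agent.H74.Comod.coeffSpace K C E)
      Groth.Agent.H74.Comod.isStable_coeffSpace := by
    rintro _ ⟨v, rfl⟩
    rw [Groth.Agent.H74.Comod.mem_stableToSub, ← hDeq, hDeq']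
    exact Groth.Agent.H74.Comod.cf_mem_coeffSpace φ v
  obtain ⟨e2⟩ := Groth.Agent.H74.Comod.nonempty_linearEquiv_of_le_coeffSpace (V := E) S hle
  let e3 : E ≃ₗ[Groth.Agent.H74.Comod.Dual K C] E' := (e1.trans e2).symm
  refine ⟨e3.restrictScalars K, ?_⟩
  exact Groth.Agent.H74.Comod.isComodHom_restrictScalars e3.toLinearMap

end Groth.Agent.S14851
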