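import Groth.Statements.S14852
import Mathlib
import Groth.Agent.H74.Coalg

set_option autoImplicit false
universe u v w w'
open HopfRep

namespace Groth.Agent.S14852

open TensorProduct in
/-- Over a field K, let C be a cosemisimple coalgebra and D₁ ≠ D₂ simple subcoalgebras of C. If V is a
right C-comodule whose coaction lands in V ⊗ D₁ and W one whose coaction lands in W ⊗ D₂, then the
only comodule map V → W is zero. Here a subcoalgebra of C is a subspace B whose comultiplication
lands in the image of B ⊗ B, and a simple subcoalgebra is a nonzero subcoalgebra D whose only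
subcoalgebras contained in D are 0 and D; cosemisimple means C is the internal direct sum of a
family of simple subcoalgebras. (The published statement is for quasi-coherent G-sheaves on a scheme
with trivial action of G = Spec C; this row is the statement on spaces of sections to which its
proof reduces.) -/
theorem result {K : Type u} {C : Type v} [Field K]
    [AddCommGroup C] [Module K C] [Coalgebra K C]
    (hC : ∃ (ι : Type v) (D : ι → Submodule K C), iSupIndep D ∧ iSup D = ⊤ ∧ ∀ i,
        D i ≠ ⊥ ∧ (∀ b ∈ (D i), CoalgebraStruct.comul (R := K) b ∈ LinearMap.range (TensorProduct.map (D i).subtype (D i).subtype)) ∧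
        ∀ B : Submodule K C, B ≤ D i → (∀ b ∈ B, CoalgebraStruct.comul (R := K) b ∈ LinearMap.range (TensorProduct.map B.subtype B.subtype)) → B = ⊥ ∨ B = D i)
    (D₁ D₂ : Submodule K C) (hne : D₁ ≠ D₂)
    (h₁ : D₁ ≠ ⊥ ∧ (∀ b ∈ D₁, CoalgebraStruct.comul (R := K) b ∈ LinearMap.range (TensorProduct.map D₁.subtype D₁.subtype)) ∧ ∀ B : Submodule K C, B ≤ D₁ → (∀ b ∈ B, CoalgebraStruct.comul (R := K) b ∈ LinearMap.range (TensorProduct.map B.subtype B.subtype)) → B = ⊥ ∨ B = D₁)
    (h₂ : D₂ ≠ ⊥ ∧ (∀ b ∈ D₂, CoalgebraStruct.comul (R := K) b ∈ LinearMap.range (TensorProduct.map D₂.subtype D₂.subtype)) ∧ ∀ B : Submodule K C, B ≤ D₂ → (∀ b ∈ B, CoalgebraStruct.comul (R := K) b ∈ LinearMap.range (TensorProduct.map B.subtype B.subtype)) → B = ⊥ ∨ B = D₂)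
    {V : Type w} [AddCommGroup V] [Module K V] [HopfRep.Comod K C V]
    {W : Type w'} [AddCommGroup W] [Module K W] [HopfRep.Comod K C W]
    (hV : ∀ v : V, HopfRep.Comod.coact (k := K) (A := C) v ∈ LinearMap.range (LinearMap.lTensor V D₁.subtype))
    (hW : ∀ w : W, HopfRep.Comod.coact (k := K) (A := C) w ∈ LinearMap.range (LinearMap.lTensor W D₂.subtype))
    (φ : V →ₗ[K] W) (hφ : Hoch.IsComodHom C φ) : φ = 0 := by
  classical
  -- `D₁ ⊓ D₂` is a subcoalgebra contained in both, hence zero
  have hinf : Groth.Agent.H74.Coalg.IsSubcoalg (D₁ ⊓ D₂) :=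
    ((Groth.Agent.H74.Coalg.IsSubcoalg.isStable h₁.2.1).inf
      (Groth.Agent.H74.Coalg.IsSubcoalg.isStable h₂.2.1)).isSubcoalg
  have hbot : D₁ ⊓ D₂ = ⊥ := by
    rcases h₁.2.2 _ inf_le_left hinf with h | h
    · exact h
    · rcases h₂.2.2 _ inf_le_right hinf with h' | h'
      · exact h'
      · exact absurd (h.symm.trans h') hne
  -- the composite `D₁ → C → C / D₂` is injective
  have hinj : Function.Injective (D₂.mkQ ∘ₗ D₁.subtype) := by
    rw [← LinearMap.ker_eq_bot, LinearMap.ker_comp, Submodule.ker_mkQ, eq_bot_iff]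
    intro x hx
    rw [Submodule.mem_comap] at hx
    have : (x : C) ∈ D₁ ⊓ D₂ := ⟨x.2, hx⟩
    rw [hbot, Submodule.mem_bot] at this
    exact (Submodule.mem_bot _).2 (Subtype.ext this)
  have hinj2 := Module.Flat.lTensor_preserves_injective_linearMap (M := W) _ hinj
  ext v
  simp only [LinearMap.zero_apply]
  -- coaction of `φ v`
  have hco : HopfRep.Comod.coact (k := K) (A := C) (φ v) =
      φ.rTensor C (HopfRep.Comod.coact (k := K) (A := C) v) := LinearMap.congr_fun hφ v
  obtain ⟨s, hs⟩ := hV v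
  obtain ⟨t, ht⟩ := hW (φ v)
  -- `(φ ⊗ id) s ∈ W ⊗ D₁` maps to `coact (φ v)`
  have h1 : LinearMap.lTensor W D₁.subtype (φ.rTensor D₁ s) =
      HopfRep.Comod.coact (k := K) (A := C) (φ v) := by
    rw [hco, ← hs]
    have : LinearMap.lTensor W D₁.subtype ∘ₗ φ.rTensor D₁ =
        φ.rTensor C ∘ₗ LinearMap.lTensor V D₁.subtype := by
      ext x y; simp
    exact LinearMap.congr_fun this s
  -- applying `id ⊗ mkQ` kills it
  have h2 : LinearMap.lTensor W (D₂.mkQ ∘ₗ D₁.subtype) (φ.rTensor D₁ s) = 0 := by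
    rw [LinearMap.lTensor_comp, LinearMap.comp_apply, h1, ← ht, ← LinearMap.comp_apply,
      ← LinearMap.lTensor_comp]
    have : D₂.mkQ ∘ₗ D₂.subtype = 0 := by
      ext x; simp
    rw [this]; simp
  have h3 : φ.rTensor D₁ s = 0 := hinj2 (by rw [h2, map_zero])
  have h4 : HopfRep.Comod.coact (k := K) (A := C) (φ v) = 0 := by rw [← h1, h3, map_zero]
  have h5 := LinearMap.congr_fun (HopfRep.Comod.counit_comp (k := K) (A := C) (V := W)) (φ v)
  simp only [LinearMap.comp_apply, h4, map_zero, LinearMap.flip_apply, TensorProduct.mk_apply] at h5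
  have h6 := congrArg (TensorProduct.rid K W) h5
  simpa using h6.symm

end Groth.Agent.S14852
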