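import Groth.Statements.S14857
import Mathlib

set_option autoImplicit false
open CAlg

namespace Groth.Agent.S14857

/-- For a prime p, the Teichmüller representative [p^p] of the element p^p of the p-adic integers is
divisible by p in the ring of p-typical Witt vectors W(ℤ_p). -/
theorem result (p : ℕ) [Fact p.Prime] :
    (p : WittVector p ℤ_[p]) ∣ WittVector.teichmuller p ((p : ℤ_[p]) ^ p) := by
  have hp2 : 2 ≤ p := (Fact.out : p.Prime).two_le
  set R := ℤ_[p]
  set t : WittVector p R := WittVector.teichmuller p (p : R) with ht
  -- p - [p] has zero constant coefficient, hence is V z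
  have h0 : ((p : WittVector p R) - t).coeff 0 = 0 := by
    have h1 : ((p : WittVector p R) - t).coeff 0 = WittVector.constantCoeff ((p : WittVector p R) - t) := rfl
    rw [h1, map_sub, map_natCast]
    have h2 : WittVector.constantCoeff t = (p : R) := by
      change t.coeff 0 = _
      rw [ht, WittVector.teichmuller_coeff_zero]
    rw [h2, sub_self]
  obtain ⟨z, hz⟩ : ∃ z : WittVector p R, WittVector.verschiebung z = (p : WittVector p R) - t := by
    refine ⟨((p : WittVector p R) - t).shift 1, ?_⟩
    have := WittVector.verschiebung_shift ((p : WittVector p R) - t) 0 (by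
      intro i hi
      have : i = 0 := by omega
      rw [this]; exact h0)
    rw [this]
    ext k
    rw [WittVector.shift_coeff, zero_add]
  set u := WittVector.verschiebung z with hu
  have htu : t = (p : WittVector p R) - u := by rw [hz]; ring
  -- p divides u^2
  have hu2 : (p : WittVector p R) ∣ u ^ 2 := by
    have : u * u = WittVector.verschiebung (z * (z * (p : WittVector p R))) := by
      rw [← WittVector.frobenius_verschiebung z, WittVector.verschiebung_mul_frobenius]
    have h3 : WittVector.verschiebung (z * (z * (p : WittVector p R))) = WittVector.verschiebung (z * z) * p := by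
      rw [← mul_assoc, ← nsmul_eq_mul', ← nsmul_eq_mul', map_nsmul]
    rw [pow_two, this, h3]
    exact Dvd.intro_left _ rfl
  have hup : (p : WittVector p R) ∣ (-u) ^ p := by
    have : (-u) ^ p = (-u) ^ (p - 2) * u ^ 2 := by
      rw [← neg_pow_two u, ← pow_add]
      congr 1; omega
    rw [this]
    exact Dvd.dvd.mul_left hu2 _
  have hsub : (p : WittVector p R) ∣ t ^ p - (-u) ^ p := by
    have h4 := sub_dvd_pow_sub_pow t (-u) p
    have h5 : t - -u = (p : WittVector p R) := by rw [htu]; ring
    rwa [h5] at h4
  have hfin : (p : WittVector p R) ∣ t ^ p := by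
    have := dvd_add hsub hup
    rwa [sub_add_cancel] at this
  rw [map_pow]
  exact hfin

end Groth.Agent.S14857
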