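import Groth.Statements.S14859
import Mathlib

set_option autoImplicit false
universe u v w
open Disp

namespace Groth.Agent.S14859

/-- Let p be a prime, R a commutative ring with p-typical Witt vectors W = W(R), and (P, Q, F, V⁻¹) a
3n-display over R with a normal decomposition P = L ⊕ T, Q = L + I_R·T. Then V⁻¹ ⊕ F : L ⊕ T → P is
a Frobenius-linear isomorphism; stated here in the case where L and T are free with bases (l_i) and
(t_j): the family consisting of the V⁻¹(l_i) and the F(t_j) is a basis of the W-module P, i.e. it is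
linearly independent over W and spans P. -/
theorem result (p : ℕ) [Fact p.Prime] (R : Type u) [CommRing R]
    (P : Type v) [AddCommGroup P] [Module (WittVector p R) P] (D : W4c1extbt610.Display3n p R P)
    (L T : Submodule (WittVector p R) P) (hLT : IsCompl L T)
    (hQ : D.Q = L ⊔ W4c1extbt610.IV p R • T) (hLQ : L ≤ D.Q)
    (ιL ιT : Type w) (bL : Module.Basis ιL (WittVector p R) L) (bT : Module.Basis ιT (WittVector p R) T) :
    LinearIndependent (WittVector p R)
        (Sum.elim (fun i : ιL => D.Vinv ⟨(bL i : P), hLQ (bL i).2⟩) (fun j : ιT => D.F (bT j : P))) ∧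
      Submodule.span (WittVector p R)
        (Set.range (Sum.elim (fun i : ιL => D.Vinv ⟨(bL i : P), hLQ (bL i).2⟩) (fun j : ιT => D.F (bT j : P)))) = ⊤ := by
  classical
  haveI := D.finite
  set fam : ιL ⊕ ιT → P :=
    Sum.elim (fun i : ιL => D.Vinv ⟨(bL i : P), hLQ (bL i).2⟩) (fun j : ιT => D.F (bT j : P))
    with hfam
  set S : Submodule (WittVector p R) P := Submodule.span (WittVector p R) (Set.range fam) with hS
  -- every element of `IV` is a Verschiebung
  have hIV : ∀ a ∈ W4c1extbt610.IV p R, ∃ w : WittVector p R, a = WittVector.verschiebung w := by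
    intro a ha
    refine Submodule.span_induction (p := fun a _ => ∃ w : WittVector p R,
      a = WittVector.verschiebung w) ?_ ?_ ?_ ?_ ha
    · rintro _ ⟨w, rfl⟩; exact ⟨w, rfl⟩
    · exact ⟨0, (map_zero _).symm⟩
    · rintro x y _ _ ⟨w₁, rfl⟩ ⟨w₂, rfl⟩; exact ⟨w₁ + w₂, (map_add _ _ _).symm⟩
    · rintro c x _ ⟨w, rfl⟩
      refine ⟨w * WittVector.frobenius c, ?_⟩
      rw [WittVector.verschiebung_mul_frobenius, smul_eq_mul, mul_comm]
  -- Claim C : F t ∈ S for t ∈ T
  have hC : ∀ t ∈ T, D.F t ∈ S := by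
    intro t ht
    have hle : (⊤ : Submodule (WittVector p R) T) ≤ Submodule.comap (D.F.comp T.subtype) S := by
      rw [← bT.span_eq, Submodule.span_le]
      rintro _ ⟨j, rfl⟩
      exact Submodule.subset_span ⟨Sum.inr j, rfl⟩
    exact hle (Submodule.mem_top : (⟨t, ht⟩ : T) ∈ ⊤)
  -- Claim A : Vinv l ∈ S for l ∈ L
  have hA : ∀ (l : P) (hl : l ∈ L), D.Vinv ⟨l, hLQ hl⟩ ∈ S := by
    intro l hl
    have hle : (⊤ : Submodule (WittVector p R) L) ≤
        Submodule.comap (D.Vinv.comp (Submodule.inclusion hLQ)) S := by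
      rw [← bL.span_eq, Submodule.span_le]
      rintro _ ⟨i, rfl⟩
      exact Submodule.subset_span ⟨Sum.inl i, rfl⟩
    exact hle (Submodule.mem_top : (⟨l, hl⟩ : L) ∈ ⊤)
  -- Claim B : Vinv z ∈ S for z ∈ IV • T
  have hB : ∀ z ∈ W4c1extbt610.IV p R • T, ∃ hz : z ∈ D.Q, D.Vinv ⟨z, hz⟩ ∈ S := by
    intro z hz
    refine Submodule.smul_induction_on hz ?_ ?_
    · intro a ha t ht
      obtain ⟨w, rfl⟩ := hIV a ha
      refine ⟨D.IV_smul_le (Submodule.smul_mem_smul (W4c1extbt610.verschiebung_mem_IV p R w)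
        Submodule.mem_top), ?_⟩
      rw [D.Vinv_verschiebung_smul w t]
      exact S.smul_mem w (hC t ht)
    · rintro x y ⟨hx, hx'⟩ ⟨hy, hy'⟩
      refine ⟨D.Q.add_mem hx hy, ?_⟩
      have : (⟨x + y, D.Q.add_mem hx hy⟩ : D.Q) = ⟨x, hx⟩ + ⟨y, hy⟩ := rfl
      rw [this, map_add]
      exact S.add_mem hx' hy'
  have hspan : S = ⊤ := by
    rw [eq_top_iff, ← D.span_range_Vinv, Submodule.span_le]
    rintro _ ⟨q, rfl⟩
    have hq : (q : P) ∈ L ⊔ W4c1extbt610.IV p R • T := hQ ▸ q.2
    obtain ⟨l, hl, z, hz, hlz⟩ := Submodule.mem_sup.mp hq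
    obtain ⟨hzQ, hz'⟩ := hB z hz
    have : q = ⟨l, hLQ hl⟩ + ⟨z, hzQ⟩ := Subtype.ext hlz.symm
    rw [this, map_add]
    exact S.add_mem (hA l hl) hz'
  refine ⟨?_, hspan⟩
  -- linear independence via Orzech
  let b : Module.Basis (ιL ⊕ ιT) (WittVector p R) P :=
    (bL.prod bT).map (Submodule.prodEquivOfIsCompl L T hLT)
  let φ : P →ₗ[WittVector p R] P := b.constr (WittVector p R) fam
  have hφ : ∀ k, φ (b k) = fam k := fun k => b.constr_basis (WittVector p R) fam k
  have hsurj : Function.Surjective φ := by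
    rw [← LinearMap.range_eq_top, eq_top_iff, ← hspan, Submodule.span_le]
    rintro _ ⟨k, rfl⟩
    exact ⟨b k, hφ k⟩
  have hinj : Function.Injective φ := OrzechProperty.injective_of_surjective_endomorphism φ hsurj
  have hli : LinearIndependent (WittVector p R) (φ ∘ b) :=
    b.linearIndependent.map' φ (LinearMap.ker_eq_bot.mpr hinj)
  have : φ ∘ b = fam := funext hφ
  rw [this] at hli
  exact hli

end Groth.Agent.S14859
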