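import Groth.Statements.S14864
import Mathlib

set_option autoImplicit false
universe u
open CAlg

namespace Groth.Agent.S14864

/-- Let p be a prime and R a commutative ring in which p is nilpotent; write W = W(R) for the p-typical
Witt vectors, I ⊆ W for the kernel of the projection onto the zeroth component, and I_n ⊆ W for the
kernel of the truncation W → W_n(R). The p-adic topology on W equals its I-adic topology — every
power of the ideal pW contains some power of I and every power of I contains some power of pW — and
this common topology is finer than the V-adic one: every I_n contains some power of pW. -/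
theorem result (p : ℕ) [Fact p.Prime] (R : Type u) [CommRing R]
    (hp : IsNilpotent (p : R)) :
    (∀ n : ℕ, ∃ m : ℕ, (RingHom.ker (WittVector.constantCoeff : WittVector p R →+* R)) ^ m ≤ Ideal.span {(p : WittVector p R)} ^ n) ∧
      (∀ n : ℕ, ∃ m : ℕ, Ideal.span {(p : WittVector p R)} ^ m ≤ (RingHom.ker (WittVector.constantCoeff : WittVector p R →+* R)) ^ n) ∧
        ∀ n : ℕ, ∃ m : ℕ, Ideal.span {(p : WittVector p R)} ^ m ≤ RingHom.ker (WittVector.truncate (p := p) (R := R) n) := by
  classical
  -- notation
  set I : Ideal (WittVector p R) := RingHom.ker (WittVector.constantCoeff : WittVector p R →+* R)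
    with hI
  obtain ⟨N, hN⟩ := hp
  -- every element of `I` is a Verschiebung
  have hIV : ∀ x ∈ I, ∃ y, x = WittVector.verschiebung y := by
    intro x hx
    have h0 : x.coeff 0 = 0 := hx
    refine ⟨x.shift 1, ?_⟩
    have := WittVector.verschiebung_shift x 0 (by intro i hi; interval_cases i; exact h0)
    rw [this]
    ext n
    simp [WittVector.shift_coeff]
  have hVI : ∀ y : WittVector p R, WittVector.verschiebung y ∈ I := by
    intro y
    show WittVector.constantCoeff (WittVector.verschiebung y) = 0
    exact WittVector.verschiebung_coeff_zero y
  -- `V x * V y = p * V (x * y)`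
  have hVV : ∀ x y : WittVector p R, WittVector.verschiebung x * WittVector.verschiebung y =
      (p : WittVector p R) * WittVector.verschiebung (x * y) := by
    intro x y
    rw [← WittVector.verschiebung_mul_frobenius, WittVector.frobenius_verschiebung,
      ← mul_assoc, mul_comm (p : WittVector p R), ← WittVector.verschiebung_mul_frobenius]
    congr 1
    rw [map_natCast]
  -- `I ^ 2 ≤ (p)`
  have hI2 : I ^ 2 ≤ Ideal.span {(p : WittVector p R)} := by
    rw [pow_two, Ideal.mul_le]
    intro a ha b hb
    obtain ⟨a', rfl⟩ := hIV a ha
    obtain ⟨b', rfl⟩ := hIV b hb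
    rw [hVV]
    exact Ideal.mul_mem_right _ _ (Ideal.subset_span rfl)
  -- `p ^ N ∈ I`
  have hpN : (p : WittVector p R) ^ N ∈ I := by
    show WittVector.constantCoeff ((p : WittVector p R) ^ N) = 0
    rw [map_pow, map_natCast, hN]
  refine ⟨?_, ?_, ?_⟩
  · intro n
    refine ⟨2 * n, ?_⟩
    rw [pow_mul]
    exact Ideal.pow_right_mono hI2 n
  · intro n
    refine ⟨N * n, ?_⟩
    rw [pow_mul]
    apply Ideal.pow_right_mono
    rw [Ideal.span_singleton_pow, Ideal.span_singleton_le_iff_mem]
    exact hpN
  · intro n
    refine ⟨N * n, ?_⟩
    induction n with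
    | zero =>
      intro x _
      rw [WittVector.mem_ker_truncate]
      intro i hi
      omega
    | succ n ih =>
      rw [Nat.mul_succ, pow_add, Ideal.mul_le]
      intro a ha b hb
      rw [Ideal.span_singleton_pow, Ideal.mem_span_singleton'] at hb
      obtain ⟨c, rfl⟩ := hb
      obtain ⟨y, hy⟩ := hIV _ hpN
      rw [hy, mul_comm c, ← mul_assoc, mul_comm a, ← WittVector.verschiebung_mul_frobenius,
        ← WittVector.verschiebung_mul_frobenius]
      have hFa : WittVector.frobenius a ∈ Ideal.span {(p : WittVector p R)} ^ (N * n) := by
        rw [Ideal.span_singleton_pow, Ideal.mem_span_singleton'] at ha ⊢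
        obtain ⟨d, rfl⟩ := ha
        refine ⟨WittVector.frobenius d, ?_⟩
        rw [map_mul, map_pow, map_natCast]
      have hmem : y * WittVector.frobenius a * WittVector.frobenius c ∈
          RingHom.ker (WittVector.truncate (p := p) (R := R) n) := by
        apply Ideal.mul_mem_right
        apply Ideal.mul_mem_left
        exact ih hFa
      rw [WittVector.mem_ker_truncate] at hmem ⊢
      intro i hi
      cases i with
      | zero => exact WittVector.verschiebung_coeff_zero _
      | succ i =>
        rw [WittVector.verschiebung_coeff_succ]
        exact hmem i (by omega)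

end Groth.Agent.S14864
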