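import Groth.Statements.S14869
import Mathlib

set_option autoImplicit false
universe u v w
open CAlg

namespace Groth.Agent.S14869

open TensorProduct in
/-- Let S → R be a surjective homomorphism of commutative rings, let π : P_1 → P_2 be a surjective
homomorphism of S-modules with P_2 projective, and let π̄ : R ⊗_S P_1 → R ⊗_S P_2 be its base
change. Then every R-linear section σ̄ of π̄ lifts to a section of π: there is an S-linear map σ :
P_2 → P_1 with π ∘ σ = id whose base change R ⊗_S σ is σ̄. -/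
theorem result (S R : Type u) [CommRing S] [CommRing R] [Algebra S R]
    (hSR : Function.Surjective (algebraMap S R))
    (P₁ : Type v) [AddCommGroup P₁] [Module S P₁]
    (P₂ : Type w) [AddCommGroup P₂] [Module S P₂] [Module.Projective S P₂]
    (π : P₁ →ₗ[S] P₂) (hπ : Function.Surjective π)
    (σ' : R ⊗[S] P₂ →ₗ[R] R ⊗[S] P₁) (hσ' : (π.baseChange R).comp σ' = LinearMap.id) :
    ∃ σ : P₂ →ₗ[S] P₁, π.comp σ = LinearMap.id ∧ σ.baseChange R = σ' := by
  -- a first section
  obtain ⟨σ₀, hσ₀⟩ := Module.projective_lifting_property π LinearMap.id hπ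
  have hσ₀' : ∀ p, π (σ₀ p) = p := fun p => LinearMap.congr_fun hσ₀ p
  -- q : P₁ → R ⊗ P₁ is surjective
  let q : P₁ →ₗ[S] R ⊗[S] P₁ := TensorProduct.mk S R P₁ 1
  have hq : Function.Surjective q := by
    intro y
    induction y using TensorProduct.induction_on with
    | zero => exact ⟨0, map_zero _⟩
    | tmul r p =>
      obtain ⟨s, rfl⟩ := hSR r
      refine ⟨s • p, ?_⟩
      change (1 : R) ⊗ₜ[S] (s • p) = algebraMap S R s ⊗ₜ[S] p
      rw [← TensorProduct.smul_tmul, Algebra.smul_def, mul_one]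
    | add x y hx hy =>
      obtain ⟨a, rfl⟩ := hx
      obtain ⟨b, rfl⟩ := hy
      exact ⟨a + b, map_add _ _ _⟩
  let δ' : R ⊗[S] P₂ →ₗ[R] R ⊗[S] P₁ := σ' - σ₀.baseChange R
  have hδ' : ∀ x, (π.baseChange R) (δ' x) = 0 := by
    intro x
    have h1 : (π.baseChange R) (σ' x) = x := LinearMap.congr_fun hσ' x
    have h2 : (π.baseChange R) ((σ₀.baseChange R) x) = x := by
      rw [← LinearMap.comp_apply, ← LinearMap.baseChange_comp, hσ₀, LinearMap.baseChange_id]
      rfl
    simp only [δ', LinearMap.sub_apply, map_sub, h1, h2, sub_self]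
  let d : P₂ →ₗ[S] R ⊗[S] P₁ := (δ'.restrictScalars S) ∘ₗ (TensorProduct.mk S R P₂ 1)
  obtain ⟨τ₀, hτ₀⟩ := Module.projective_lifting_property q d hq
  have hτ₀' : ∀ p, (1 : R) ⊗ₜ[S] (τ₀ p) = δ' ((1 : R) ⊗ₜ[S] p) := fun p => LinearMap.congr_fun hτ₀ p
  let e : P₁ →ₗ[S] P₁ := LinearMap.id - σ₀ ∘ₗ π
  refine ⟨σ₀ + e ∘ₗ τ₀, ?_, ?_⟩
  · ext p
    simp only [e, LinearMap.comp_apply, LinearMap.add_apply, LinearMap.sub_apply, LinearMap.id_apply,
      map_add, map_sub, hσ₀']
    simp
  · apply TensorProduct.AlgebraTensorModule.ext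
    intro r p
    have hr : (r ⊗ₜ[S] p : R ⊗[S] P₂) = r • ((1 : R) ⊗ₜ[S] p) := by
      rw [TensorProduct.smul_tmul', smul_eq_mul, mul_one]
    rw [hr, map_smul, map_smul]
    congr 1
    simp only [LinearMap.baseChange_tmul, LinearMap.add_apply, LinearMap.comp_apply, e,
      LinearMap.sub_apply, LinearMap.id_apply, TensorProduct.tmul_add, TensorProduct.tmul_sub]
    have h3 : (1 : R) ⊗ₜ[S] (σ₀ (π (τ₀ p))) = (σ₀.baseChange R) ((π.baseChange R) ((1 : R) ⊗ₜ[S] (τ₀ p))) := by
      simp only [LinearMap.baseChange_tmul]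
    rw [h3, hτ₀', hδ', map_zero, sub_zero]
    simp only [δ', LinearMap.sub_apply, LinearMap.baseChange_tmul]
    abel

end Groth.Agent.S14869
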