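import Groth.Statements.S14871
import Mathlib

set_option autoImplicit false
universe u v
open PLie

namespace Groth.Agent.S14871

/-- Let `L` be a finite-dimensional Lie algebra over a field of characteristic `p` equipped with a
`p`-mapping `φ`. Then the solvable radical of `L` is stable under `φ` (it is a `p`-subalgebra). -/
theorem result
    (k : Type u) [Field k] (p : ℕ) [Fact p.Prime] [CharP k p]
    (L : Type v) [LieRing L] [LieAlgebra k L] [Module.Finite k L]
    (φ : PLie.PMap k p L) (x : L) (hx : x ∈ LieAlgebra.radical k L) :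
    φ x ∈ LieAlgebra.radical k L := by
  set R := LieAlgebra.radical k L with hR
  have hp : p ≠ 0 := (Fact.out : p.Prime).ne_zero
  -- powers of ad x land in R
  have hpow : ∀ (n : ℕ) (y : L), n ≠ 0 → ((LieAlgebra.ad k L x) ^ n) y ∈ R := by
    intro n
    induction n with
    | zero => intro y h; exact absurd rfl h
    | succ n ih =>
      intro y _
      rw [pow_succ', Module.End.mul_apply, LieAlgebra.ad_apply]
      exact lie_mem_left k L R x _ hx
  have hφ : ∀ y : L, ⁅φ x, y⁆ ∈ R := by
    intro y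
    have : ⁅φ x, y⁆ = ((LieAlgebra.ad k L x) ^ p) y := by rw [← φ.ad_map x]; rfl
    rw [this]; exact hpow p y hp
  let R' : LieIdeal k L :=
    { toSubmodule := (R : Submodule k L) ⊔ Submodule.span k {φ x}
      lie_mem := by
        intro y m hm
        obtain ⟨r, hr, s, hs, rfl⟩ := Submodule.mem_sup.1 hm
        obtain ⟨c, rfl⟩ := Submodule.mem_span_singleton.1 hs
        rw [lie_add, lie_smul]
        refine Submodule.mem_sup_left (Submodule.add_mem _ (R.lie_mem hr) (Submodule.smul_mem _ _ ?_))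
        rw [← lie_skew]
        exact Submodule.neg_mem _ (hφ y) }
  have hmemR' : ∀ m : L, m ∈ R' ↔ m ∈ (R : Submodule k L) ⊔ Submodule.span k {φ x} := fun m => Iff.rfl
  have hRR' : ⁅R', R'⁆ ≤ R := by
    rw [LieSubmodule.lieIdeal_oper_eq_span, LieSubmodule.lieSpan_le]
    rintro z ⟨⟨a, ha⟩, ⟨b, hb⟩, rfl⟩
    obtain ⟨r, hr, s, hs, rfl⟩ := Submodule.mem_sup.1 ((hmemR' a).1 ha)
    obtain ⟨c, rfl⟩ := Submodule.mem_span_singleton.1 hs
    change ⁅r + c • φ x, b⁆ ∈ R
    rw [add_lie, smul_lie]
    exact R.add_mem (lie_mem_left k L R r b hr) (R.smul_mem c (hφ b))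
  obtain ⟨n, hn⟩ := LieAlgebra.IsSolvable.solvable k R
  rw [LieIdeal.derivedSeries_eq_bot_iff] at hn
  have hsolv : LieAlgebra.IsSolvable R' := by
    apply LieAlgebra.IsSolvable.mk (R := k) (k := n + 1)
    rw [LieIdeal.derivedSeries_eq_bot_iff, LieAlgebra.derivedSeriesOfIdeal_add, ← le_bot_iff, ← hn]
    apply LieAlgebra.derivedSeriesOfIdeal_mono
    rw [LieAlgebra.derivedSeriesOfIdeal_succ, LieAlgebra.derivedSeriesOfIdeal_zero]
    exact hRR'
  have hle : R' ≤ R := (LieAlgebra.LieIdeal.solvable_iff_le_radical (R := k) (L := L) R').1 hsolv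
  apply hle
  rw [hmemR']
  exact Submodule.mem_sup_right (Submodule.mem_span_singleton_self _)

end Groth.Agent.S14871
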