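import Groth.Statements.S14872
import Mathlib

set_option autoImplicit false
universe u v
open PLie

namespace Groth.Agent.S14872

/-- Let `L` be a finite-dimensional Lie algebra over a field of characteristic `p` equipped with a
`p`-mapping `φ`, and let `N` be its nilradical, i.e. the ideal of `L` that is nilpotent as a Lie
ring and contains every ideal of `L` nilpotent as a Lie ring. Then `N` is stable under `φ` (it is a
`p`-subalgebra). (The nilradical is given here through its characterising property; it is not the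
largest submodule on which `L` acts nilpotently.) -/
theorem result
    (k : Type u) [Field k] (p : ℕ) [Fact p.Prime] [CharP k p]
    (L : Type v) [LieRing L] [LieAlgebra k L] [Module.Finite k L]
    (φ : PLie.PMap k p L) (N : LieIdeal k L) (hN : LieRing.IsNilpotent N)
    (hmax : ∀ I : LieIdeal k L, LieRing.IsNilpotent I → I ≤ N)
    (x : L) (hx : x ∈ N) : φ x ∈ N := by
  classical
  have hp : p ≠ 0 := (Fact.out : p.Prime).ne_zero
  -- restricted ad on an ideal
  have hres : ∀ (I : LieIdeal k L) (m : ℕ) (r w : ↥I),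
      (((LieAlgebra.ad k ↥I r) ^ m) w : L) = ((LieAlgebra.ad k L (r : L)) ^ m) (w : L) := by
    intro I m r
    induction m with
    | zero => intro w; simp
    | succ m ih =>
      intro w
      rw [pow_succ, pow_succ, Module.End.mul_apply, Module.End.mul_apply, ih]
      rfl
  -- Step 1: L is a nilpotent N-module
  have hNL : LieModule.IsNilpotent ↥N L := by
    rw [LieModule.isNilpotent_iff_forall' (R := k)]
    intro r
    obtain ⟨m, hm⟩ := LieAlgebra.nilpotent_ad_of_nilpotent_algebra k ↥N
    refine ⟨m + 1, ?_⟩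
    ext y
    have h1 : LieModule.toEnd k ↥N L r = LieAlgebra.ad k L (r : L) := by
      ext y; rfl
    rw [h1, pow_succ, Module.End.mul_apply, LieAlgebra.ad_apply]
    have hmem : ⁅(r : L), y⁆ ∈ N := lie_mem_left k L N _ _ r.2
    have := hres N m r ⟨_, hmem⟩
    rw [hm r] at this
    simpa using this.symm
  obtain ⟨m', hm'⟩ := LieModule.IsNilpotent.nilpotent k ↥N L
  have hC : N.lcs L m' = ⊥ := by
    rw [← LieSubmodule.toSubmodule_inj, LieIdeal.coe_lcs_eq, hm']
    rfl
  -- ad x powers
  have hpowx : ∀ (j : ℕ) (c : L), c ∈ N.lcs L j → ∀ n : ℕ,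
      ((LieAlgebra.ad k L x) ^ n) c ∈ N.lcs L j ∧ ((LieAlgebra.ad k L x) ^ (n + 1)) c ∈ N.lcs L (j + 1) := by
    intro j c hc n
    induction n with
    | zero =>
      refine ⟨by simpa using hc, ?_⟩
      rw [pow_one, LieAlgebra.ad_apply, LieIdeal.lcs_succ]
      exact LieSubmodule.lie_mem_lie hx hc
    | succ n ih =>
      have h1 : ((LieAlgebra.ad k L x) ^ (n + 1)) c ∈ N.lcs L j := by
        rw [pow_succ', Module.End.mul_apply, LieAlgebra.ad_apply]
        exact (N.lcs L j).lie_mem ih.1
      refine ⟨h1, ?_⟩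
      rw [pow_succ', Module.End.mul_apply, LieAlgebra.ad_apply, LieIdeal.lcs_succ]
      exact LieSubmodule.lie_mem_lie hx h1
  have hφ : ∀ (j : ℕ) (c : L), c ∈ N.lcs L j → ⁅φ x, c⁆ ∈ N.lcs L (j + 1) := by
    intro j c hc
    have : ⁅φ x, c⁆ = ((LieAlgebra.ad k L x) ^ p) c := by rw [← φ.ad_map x]; rfl
    rw [this]
    obtain ⟨q, rfl⟩ := Nat.exists_eq_succ_of_ne_zero hp
    exact (hpowx j c hc q).2
  have hφN : ∀ y : L, ⁅φ x, y⁆ ∈ N := by
    intro y
    have := hφ 0 y (by simp)
    rw [LieIdeal.lcs_succ] at this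
    exact LieSubmodule.lie_le_left _ _ this
  let N' : LieIdeal k L :=
    { toSubmodule := (N : Submodule k L) ⊔ Submodule.span k {φ x}
      lie_mem := by
        intro y m hm
        obtain ⟨r, hr, s, hs, rfl⟩ := Submodule.mem_sup.1 hm
        obtain ⟨c, rfl⟩ := Submodule.mem_span_singleton.1 hs
        rw [lie_add, lie_smul]
        refine Submodule.mem_sup_left (Submodule.add_mem _ (N.lie_mem hr) (Submodule.smul_mem _ _ ?_))
        rw [← lie_skew]
        exact Submodule.neg_mem _ (hφN y) }
  have hmemN' : ∀ m : L, m ∈ N' ↔ m ∈ (N : Submodule k L) ⊔ Submodule.span k {φ x} := fun m => Iff.rfl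
  -- every element of N' shifts the filtration
  have hshift : ∀ z ∈ N', ∀ (j : ℕ) (c : L), c ∈ N.lcs L j → ⁅z, c⁆ ∈ N.lcs L (j + 1) := by
    intro z hz j c hc
    obtain ⟨r, hr, s, hs, rfl⟩ := Submodule.mem_sup.1 ((hmemN' z).1 hz)
    obtain ⟨a, rfl⟩ := Submodule.mem_span_singleton.1 hs
    rw [add_lie, smul_lie]
    refine (N.lcs L (j + 1)).add_mem ?_ ((N.lcs L (j + 1)).smul_mem a (hφ j c hc))
    rw [LieIdeal.lcs_succ]
    exact LieSubmodule.lie_mem_lie hr hc
  have hiter : ∀ z ∈ N', ∀ (j : ℕ) (y : L), ((LieAlgebra.ad k L z) ^ j) y ∈ N.lcs L j := by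
    intro z hz j
    induction j with
    | zero => intro y; simp
    | succ j ih =>
      intro y
      rw [pow_succ', Module.End.mul_apply, LieAlgebra.ad_apply]
      exact hshift z hz j _ (ih y)
  have hnilN' : LieRing.IsNilpotent ↥N' := by
    have : IsNoetherian k ↥N' := isNoetherian_submodule' (N' : Submodule k L)
    rw [LieAlgebra.isNilpotent_iff_forall (R := k)]
    intro z
    refine ⟨m', ?_⟩
    ext y
    rw [hres N' m' z y]
    have := hiter (z : L) z.2 m' (y : L)
    rw [hC] at this
    simpa using this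
  have hle : N' ≤ N := hmax N' hnilN'
  apply hle
  rw [hmemN']
  exact Submodule.mem_sup_right (Submodule.mem_span_singleton_self _)

end Groth.Agent.S14872
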