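import Groth.Statements.S14874
import Mathlib
import Groth.Agent.S14872
import Groth.Agent.S14873

set_option autoImplicit false
universe u v
open PLie

namespace Groth.Agent.S14874

/-- Let `L` be a finite-dimensional Lie algebra over a field of characteristic `p` equipped with a
`p`-mapping `φ`. Let `N` be the nilradical of `L` (the ideal nilpotent as a Lie ring that contains
every such ideal) and `P` its `p`-radical (the largest ideal stable under `φ` all of whose elements
are `p`-nilpotent). Then `N = P` if and only if the centre of `L` is contained in `P`. -/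
theorem result
    (k : Type u) [Field k] (p : ℕ) [Fact p.Prime] [CharP k p]
    (L : Type v) [LieRing L] [LieAlgebra k L] [Module.Finite k L]
    (φ : PLie.PMap k p L)
    (N : LieIdeal k L) (hN : LieRing.IsNilpotent N)
    (hNmax : ∀ I : LieIdeal k L, LieRing.IsNilpotent I → I ≤ N)
    (P : LieIdeal k L) (hPsub : ∀ x ∈ P, φ x ∈ P) (hPnil : ∀ x ∈ P, PLie.IsPNilpotent φ x)
    (hPmax : ∀ J : LieIdeal k L, (∀ x ∈ J, φ x ∈ J) → (∀ x ∈ J, PLie.IsPNilpotent φ x) → J ≤ P) :
    N = P ↔ LieAlgebra.center k L ≤ P := by
  classical
  have hp : p ≠ 0 := (Fact.out : p.Prime).ne_zero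
  have hp1 : 1 < p := (Fact.out : p.Prime).one_lt
  constructor
  · intro hNP
    rw [← hNP]
    exact hNmax _ inferInstance
  · intro hcen
    apply le_antisymm
    · -- N ≤ P
      apply hPmax N
      · intro x hx
        exact Groth.Agent.S14872.result k p L φ N hN hNmax x hx
      · intro x hx
        -- ad x is nilpotent on L
        have hres : ∀ (m : ℕ) (r w : ↥N),
            (((LieAlgebra.ad k ↥N r) ^ m) w : L) = ((LieAlgebra.ad k L (r : L)) ^ m) (w : L) := by
          intro m r
          induction m with
          | zero => intro w; simp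
          | succ m ih =>
            intro w
            rw [pow_succ, pow_succ, Module.End.mul_apply, Module.End.mul_apply, ih]
            rfl
        obtain ⟨m, hm⟩ := LieAlgebra.nilpotent_ad_of_nilpotent_algebra k ↥N
        have hadx : (LieAlgebra.ad k L x) ^ (m + 1) = 0 := by
          ext y
          rw [pow_succ, Module.End.mul_apply, LieAlgebra.ad_apply]
          have hmem : ⁅x, y⁆ ∈ N := lie_mem_left k L N _ _ hx
          have := hres m ⟨x, hx⟩ ⟨_, hmem⟩
          rw [hm ⟨x, hx⟩] at this
          simpa using this.symm
        have h1 : ∀ (n : ℕ) (x : L), LieAlgebra.ad k L (φ.toFun^[n] x) = LieAlgebra.ad k L x ^ (p ^ n) := by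
          intro n
          induction n with
          | zero => intro x; simp
          | succ n ih =>
            intro x
            rw [Function.iterate_succ_apply, ih, φ.ad_map, ← pow_mul, pow_succ']
        have hlt : m + 1 ≤ p ^ (m + 1) := (Nat.lt_pow_self hp1).le
        have h2 : LieAlgebra.ad k L (φ.toFun^[m + 1] x) = 0 := by
          rw [h1, ← Nat.sub_add_cancel hlt, pow_add, hadx, mul_zero]
        have h3 : φ.toFun^[m + 1] x ∈ LieAlgebra.center k L := by
          rw [LieAlgebra.center, LieModule.mem_maxTrivSubmodule]
          intro y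
          rw [← lie_skew]
          have : ⁅φ.toFun^[m + 1] x, y⁆ = (LieAlgebra.ad k L (φ.toFun^[m + 1] x)) y := rfl
          rw [this, h2]; simp
        obtain ⟨n', hn'⟩ := hPnil _ (hcen h3)
        exact ⟨n' + (m + 1), by rw [Function.iterate_add_apply]; exact hn'⟩
    · -- P ≤ N
      exact hNmax P (Groth.Agent.S14873.result k p L φ P hPsub hPnil)

end Groth.Agent.S14874
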