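import Groth.Statements.S14875
import Groth.Agent.H74.PLieKilling

set_option autoImplicit false
universe u v
open PLie

namespace Groth.Agent.S14875

/-- Let `L` be a finite-dimensional Lie algebra over a field of characteristic `p` equipped with a
`p`-mapping `φ`, whose Killing form is non-degenerate. Let `U` and `H` be Lie subalgebras of `L`
such that `H` is the normaliser of `U`, `U` is the set of elements of `H` that lie in the solvable
radical of `H` and are `p`-nilpotent, and the orthogonal of `U` for the Killing form is closed under
the bracket. Then `U` is the orthogonal of `H` for the Killing form. (The published statement is for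
the Lie algebra of a reductive group over a field of characteristic `p` with its canonical
`p`-structure; this row states it for any finite-dimensional Lie algebra with a `p`-mapping.) -/
theorem result
    (k : Type u) [Field k] (p : ℕ) [Fact p.Prime] [CharP k p]
    (L : Type v) [LieRing L] [LieAlgebra k L] [Module.Finite k L]
    (φ : PLie.PMap k p L) (hκ : (killingForm k L).Nondegenerate)
    (U H : LieSubalgebra k L) (hH : H = U.normalizer)
    (hU : ∀ x : L, x ∈ U ↔ ∃ hx : x ∈ H, (⟨x, hx⟩ : ↥H) ∈ LieAlgebra.radical k ↥H ∧ PLie.IsPNilpotent φ x)
    (hperp : ∀ a b : L, (∀ y ∈ U, killingForm k L a y = 0) → (∀ y ∈ U, killingForm k L b y = 0) →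
      ∀ y ∈ U, killingForm k L ⁅a, b⁆ y = 0) :
    ∀ x : L, x ∈ U ↔ ∀ h ∈ H, killingForm k L h x = 0 := by
  classical
  have hsymm : ∀ a b : L, killingForm k L a b = killingForm k L b a :=
    fun a b => LieModule.traceForm_comm k L L a b
  have hrefl : (killingForm k L).IsRefl := (LieModule.traceForm_isSymm k L L).isRefl
  -- ad-nilpotency of the elements of `U`
  have key : ∀ (n : ℕ) (y : L),
      LieAlgebra.ad k L (φ.toFun^[n] y) = (LieAlgebra.ad k L y) ^ (p ^ n) := by
    intro n
    induction n with
    | zero => intro y; simp
    | succ n ih =>
      intro y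
      rw [Function.iterate_succ_apply', φ.ad_map, ih, ← pow_mul, pow_succ]
  have hnil : ∀ u ∈ U, IsNilpotent (LieAlgebra.ad k L u) := by
    intro u hu
    obtain ⟨_, _, n, hn⟩ := (hU u).mp hu
    refine ⟨p ^ n, ?_⟩
    rw [← key, hn, map_zero]
  have hnorm : ∀ h ∈ H, ∀ u ∈ U, ⁅h, u⁆ ∈ U := by
    intro h hh u hu
    rw [hH] at hh
    exact (LieSubalgebra.mem_normalizer_iff U h).mp hh u hu
  intro x
  constructor
  · intro hx h hh
    exact Groth.Agent.H74.PLieKilling.killing_eq_zero U hnil h (hnorm h hh) x hx
  · intro hx
    have hUoo : (killingForm k L).orthogonal ((killingForm k L).orthogonal U.toSubmodule) =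
        U.toSubmodule :=
      LinearMap.BilinForm.orthogonal_orthogonal hκ hrefl _
    have hPH : ∀ a : L, a ∈ (killingForm k L).orthogonal U.toSubmodule → a ∈ H := by
      intro a ha
      rw [hH, LieSubalgebra.mem_normalizer_iff]
      intro u hu
      have hmem : ⁅a, u⁆ ∈ (killingForm k L).orthogonal
          ((killingForm k L).orthogonal U.toSubmodule) := by
        rw [LinearMap.BilinForm.mem_orthogonal_iff]
        intro b hb
        show killingForm k L b ⁅a, u⁆ = 0
        rw [LinearMap.BilinForm.mem_orthogonal_iff] at ha hb
        have ha' : ∀ y ∈ U, killingForm k L a y = 0 := fun y hy => by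
          rw [hsymm]; exact ha y hy
        have hb' : ∀ y ∈ U, killingForm k L b y = 0 := fun y hy => by
          rw [hsymm]; exact hb y hy
        have := hperp b a hb' ha' u hu
        rw [← LieModule.traceForm_apply_lie_apply]
        exact this
      rw [hUoo] at hmem
      exact hmem
    have hmem : x ∈ (killingForm k L).orthogonal
        ((killingForm k L).orthogonal U.toSubmodule) := by
      rw [LinearMap.BilinForm.mem_orthogonal_iff]
      intro b hb
      exact hx b (hPH b hb)
    rw [hUoo] at hmem
    exact hmem

end Groth.Agent.S14875
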