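import Groth.Statements.S14879
import Groth.Agent.H74.BlockLaplace

set_option autoImplicit false
universe u
open Finset
open AlgGrp

namespace Groth.Agent.S14879

/-- Let k be a field of characteristic zero, n = p + r with p, r ≥ 1, M an n × n matrix over k, A a set
of p row indices and B a set of r row indices, both listed increasingly. For a permutation π of the
indices, with permutation matrix P_π, let Y_A(M·P_π) be the minor of M·P_π on the rows A and the
first p columns, and Z_B(M·P_π) the minor on the rows B and the last r columns. Then the sum over
all π of sign(π)·Y_A(M·P_π)·Z_B(M·P_π) equals p!·r!·(−1)^N·det M when B is the complement of A,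
where N is the number of pairs (a, b) with a in A, b outside A and b < a, and equals 0 otherwise.
Taking det M = 1 this says that the pairing (f, h) ↦ Σ_π sign(π) f(π) h(π) between the spans of the
left p-minors and of the right r-minors is invariant under left translation by matrices of
determinant one and pairs Y_A with the signed complementary minor to p!·r!. (The published statement
asserts that the two families of minors are dual bases for this pairing, that is, the value 1 in
place of p!·r!; the p!·r! permutations preserving the two column blocks each contribute the same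
signed term, so this row carries that factor, which is 1 only for n = 2.) -/
theorem result (k : Type u) [Field k] [CharZero k]
    (p r : ℕ) (hp : 1 ≤ p) (hr : 1 ≤ r) (M : Matrix (Fin (p + r)) (Fin (p + r)) k)
    (A : Finset (Fin (p + r))) (hA : A.card = p) (B : Finset (Fin (p + r))) (hB : B.card = r) :
    ∑ π : Equiv.Perm (Fin (p + r)), (((Equiv.Perm.sign π : ℤˣ) : ℤ) : k) *
      ((M * π.permMatrix k).submatrix (A.orderEmbOfFin hA) (Fin.castAdd r)).det *
      ((M * π.permMatrix k).submatrix (B.orderEmbOfFin hB) (Fin.natAdd p)).det =
    if B = Aᶜ then ((p.factorial * r.factorial : ℕ) : k) *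
      (-1 : k) ^ ((A ×ˢ Aᶜ).filter (fun ab => ab.2 < ab.1)).card * M.det else 0 := by
  classical
  have hmul : ∀ π : Equiv.Perm (Fin (p + r)), M * π.permMatrix k = M.submatrix id π.symm :=
    fun π => PEquiv.mul_toMatrix_toPEquiv M π
  simp_rw [hmul]
  rw [Groth.Agent.H74.BlockLaplace.sum_sign_mul_det_mul_det M (A.orderEmbOfFin hA)
    (B.orderEmbOfFin hB)]
  set ρ' : Fin (p + r) → Fin (p + r) :=
    Sum.elim (A.orderEmbOfFin hA) (B.orderEmbOfFin hB) ∘ finSumFinEquiv.symm with hρ'
  have hl : ∀ s : Fin p, ρ' (Fin.castAdd r s) = A.orderEmbOfFin hA s := by
    intro s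
    simp only [hρ', Function.comp_apply, finSumFinEquiv_symm_apply_castAdd, Sum.elim_inl]
  have hrr : ∀ t : Fin r, ρ' (Fin.natAdd p t) = B.orderEmbOfFin hB t := by
    intro t
    simp only [hρ', Function.comp_apply, finSumFinEquiv_symm_apply_natAdd, Sum.elim_inr]
  by_cases hBA : B = Aᶜ
  · rw [if_pos hBA]
    have hinj : Function.Injective ρ' := by
      intro i i' h
      induction i using Fin.addCases with
      | left s =>
        induction i' using Fin.addCases with
        | left s' =>
          rw [hl, hl] at h
          rw [(A.orderEmbOfFin hA).injective h]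
        | right t' =>
          exfalso
          rw [hl, hrr] at h
          have h1 : B.orderEmbOfFin hB t' ∈ Aᶜ := hBA ▸ Finset.orderEmbOfFin_mem B hB t'
          rw [← h, Finset.mem_compl] at h1
          exact h1 (Finset.orderEmbOfFin_mem A hA s)
      | right t =>
        induction i' using Fin.addCases with
        | left s' =>
          exfalso
          rw [hl, hrr] at h
          have h1 : B.orderEmbOfFin hB t ∈ Aᶜ := hBA ▸ Finset.orderEmbOfFin_mem B hB t
          rw [h, Finset.mem_compl] at h1
          exact h1 (Finset.orderEmbOfFin_mem A hA s')
        | right t' =>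
          rw [hrr, hrr] at h
          rw [(B.orderEmbOfFin hB).injective h]
    set ρh : Equiv.Perm (Fin (p + r)) :=
      Equiv.ofBijective ρ' (Finite.injective_iff_bijective.mp hinj) with hρh
    have hsub : M.submatrix ρ' id = M.submatrix ρh id := rfl
    rw [hsub, Matrix.det_permute,
      Groth.Agent.H74.BlockLaplace.sign_shuffle A B hA hB hBA ρh (fun i => rfl)]
    push_cast
    ring
  · rw [if_neg hBA]
    have hex : ∃ x, x ∈ A ∧ x ∈ B := by
      by_contra hcon
      simp only [not_exists, not_and] at hcon
      apply hBA
      apply Finset.eq_of_subset_of_card_le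
      · intro x hx
        rw [Finset.mem_compl]
        exact fun hxA => hcon x hxA hx
      · rw [Finset.card_compl, Fintype.card_fin, hA, hB]
        omega
    obtain ⟨x, hxA, hxB⟩ := hex
    have hxA' : x ∈ Set.range (A.orderEmbOfFin hA) := by
      rw [Finset.range_orderEmbOfFin]; exact hxA
    have hxB' : x ∈ Set.range (B.orderEmbOfFin hB) := by
      rw [Finset.range_orderEmbOfFin]; exact hxB
    obtain ⟨s, hs⟩ := hxA'
    obtain ⟨t, ht⟩ := hxB'
    have hne : Fin.castAdd r s ≠ Fin.natAdd p t := by
      intro h
      have := congrArg Fin.val h
      simp only [Fin.val_castAdd, Fin.val_natAdd] at this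
      have := s.isLt
      omega
    rw [Matrix.det_zero_of_row_eq hne, mul_zero]
    funext j
    simp only [Matrix.submatrix_apply, id_eq, hl, hrr, hs, ht]

end Groth.Agent.S14879
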