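import Groth.Statements.S14886
import Groth.Agent.H40.TorsFib
set_option backward.isDefEq.respectTransparency.types false

set_option autoImplicit false
universe u
open CategoryTheory MonoidalCategory CartesianMonoidalCategory MonObj GrpObj AlgebraicGeometry CategoryTheory.Limits
open AlgGrp

namespace Groth.Agent.S14886

/-- Over an algebraically closed field k of characteristic zero, let G be a connected algebraic group (a
smooth connected k-group scheme of finite type) and H an algebraic subgroup (a smooth closed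
subgroup scheme, j : H → G). Let π : G → B be the quotient of G by H (a geometric quotient for the
action h·g = g·h⁻¹ which is a principal H-bundle: (h, g) ↦ (g·h⁻¹, g) is an isomorphism H × G ≅ G
×_B G and π is flat). Let X and Y be varieties (reduced, separated, of finite type over k) with
H-actions, in each of which every finite set of points lies in an affine open subset, and let qX : G
× X → QX, qY : G × Y → QY and qXY : G × (X × Y) → QXY be the associated bundles G_H(X), G_H(Y) and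
G_H(X × Y): geometric quotients (invariant, surjective, open, fibre-pair map surjective on points,
sections = invariant sections) which are principal H-bundles, for the actions h·(g, x) = (g·h⁻¹,
h·x), h·(g, y) = (g·h⁻¹, h·y) and h·(g, x, y) = (g·h⁻¹, h·x, h·y), with QX, QY, QXY varieties over B
= G/H through pX, pY, pXY satisfying p ∘ q = π ∘ pr₁. Let fX : QXY → QX and fY : QXY → QY be the
morphisms over B induced by the projections, fX ∘ qXY = qX ∘ (id × pr₁) and fY ∘ qXY = qY ∘ (id ×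
pr₂). Then the square formed by fX, fY, pX, pY is cartesian: G_H(X × Y) is the fibre product of
G_H(X) and G_H(Y) over G/H. -/
theorem result (k : Type u) [Field k] [IsAlgClosed k] [CharZero k]
    (G H : Over (Spec (CommRingCat.of k))) [GrpObj G] [Smooth G.hom] [QuasiCompact G.hom]
    [ConnectedSpace ↥G.left] [GrpObj H] (j : H ⟶ G) [IsMonHom j] [IsClosedImmersion j.left] [Smooth H.hom]
    (B : Over (Spec (CommRingCat.of k))) [LocallyOfFiniteType B.hom] [QuasiCompact B.hom] [IsSeparated B.hom] [IsReduced B.left]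
    (r : AlgGrp.Action H G) (hr : ∀ (T : Over (Spec (CommRingCat.of k))) (h : T ⟶ H) (g : T ⟶ G),
      lift h g ≫ r.act = g * (h ≫ j)⁻¹)
    (π : G ⟶ B) (hπinv : GIT.IsInvariant r π)
    (hπ : (Function.Surjective π.left.base ∧ IsOpenMap π.left.base ∧
      Function.Surjective (GIT.PsiY r π hπinv).base ∧
      (∀ U : B.left.Opens, Function.Injective (π.left.app U) ∧
        Set.range (π.left.app U) = {f | GIT.IsInvSection r π U f}) ∧
      IsIso (GIT.PsiY r π hπinv) ∧ Flat π.left))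
    (X Y : Over (Spec (CommRingCat.of k))) [LocallyOfFiniteType X.hom] [QuasiCompact X.hom] [IsSeparated X.hom] [IsReduced X.left] [LocallyOfFiniteType Y.hom] [QuasiCompact Y.hom] [IsSeparated Y.hom] [IsReduced Y.left]
    (hFX : ∀ F : Finset ↥X.left, ∃ U : X.left.Opens, IsAffineOpen U ∧ (↑F : Set ↥X.left) ⊆ (U : Set ↥X.left))
    (hFY : ∀ F : Finset ↥Y.left, ∃ U : Y.left.Opens, IsAffineOpen U ∧ (↑F : Set ↥Y.left) ⊆ (U : Set ↥Y.left))
    (aX : AlgGrp.Action H X) (aY : AlgGrp.Action H Y)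
    (b : AlgGrp.Action H (G ⊗ X))
    (hb : ∀ (T : Over (Spec (CommRingCat.of k))) (h : T ⟶ H) (g : T ⟶ G) (x : T ⟶ X),
      lift h (lift g x) ≫ b.act = lift (g * (h ≫ j)⁻¹) (lift h x ≫ aX.act))
    (c : AlgGrp.Action H (G ⊗ Y))
    (hc : ∀ (T : Over (Spec (CommRingCat.of k))) (h : T ⟶ H) (g : T ⟶ G) (x : T ⟶ Y),
      lift h (lift g x) ≫ c.act = lift (g * (h ≫ j)⁻¹) (lift h x ≫ aY.act))
    (d : AlgGrp.Action H (G ⊗ (X ⊗ Y)))
    (hd : ∀ (T : Over (Spec (CommRingCat.of k))) (h : T ⟶ H) (g : T ⟶ G) (x : T ⟶ X) (y : T ⟶ Y),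
      lift h (lift g (lift x y)) ≫ d.act = lift (g * (h ≫ j)⁻¹) (lift (lift h x ≫ aX.act) (lift h y ≫ aY.act)))
    (QX QY QXY : Over (Spec (CommRingCat.of k))) [LocallyOfFiniteType QX.hom] [QuasiCompact QX.hom] [IsSeparated QX.hom] [IsReduced QX.left] [LocallyOfFiniteType QY.hom] [QuasiCompact QY.hom] [IsSeparated QY.hom] [IsReduced QY.left] [LocallyOfFiniteType QXY.hom] [QuasiCompact QXY.hom] [IsSeparated QXY.hom] [IsReduced QXY.left]
    (qX : G ⊗ X ⟶ QX) (hqXinv : GIT.IsInvariant b qX) (hqX : (Function.Surjective qX.left.base ∧ IsOpenMap qX.left.base ∧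
      Function.Surjective (GIT.PsiY b qX hqXinv).base ∧
      (∀ U : QX.left.Opens, Function.Injective (qX.left.app U) ∧
        Set.range (qX.left.app U) = {f | GIT.IsInvSection b qX U f}) ∧
      IsIso (GIT.PsiY b qX hqXinv) ∧ Flat qX.left))
    (qY : G ⊗ Y ⟶ QY) (hqYinv : GIT.IsInvariant c qY) (hqY : (Function.Surjective qY.left.base ∧ IsOpenMap qY.left.base ∧
      Function.Surjective (GIT.PsiY c qY hqYinv).base ∧
      (∀ U : QY.left.Opens, Function.Injective (qY.left.app U) ∧
        Set.range (qY.left.app U) = {f | GIT.IsInvSection c qY U f}) ∧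
      IsIso (GIT.PsiY c qY hqYinv) ∧ Flat qY.left))
    (qXY : G ⊗ (X ⊗ Y) ⟶ QXY) (hqXYinv : GIT.IsInvariant d qXY) (hqXY : (Function.Surjective qXY.left.base ∧ IsOpenMap qXY.left.base ∧
      Function.Surjective (GIT.PsiY d qXY hqXYinv).base ∧
      (∀ U : QXY.left.Opens, Function.Injective (qXY.left.app U) ∧
        Set.range (qXY.left.app U) = {f | GIT.IsInvSection d qXY U f}) ∧
      IsIso (GIT.PsiY d qXY hqXYinv) ∧ Flat qXY.left))
    (pX : QX ⟶ B) (hpX : qX ≫ pX = fst G X ≫ π) (pY : QY ⟶ B) (hpY : qY ≫ pY = fst G Y ≫ π)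
    (pXY : QXY ⟶ B) (hpXY : qXY ≫ pXY = fst G (X ⊗ Y) ≫ π)
    (fX : QXY ⟶ QX) (hfX : qXY ≫ fX = (G ◁ fst X Y) ≫ qX) (hfXp : fX ≫ pX = pXY)
    (fY : QXY ⟶ QY) (hfY : qXY ≫ fY = (G ◁ snd X Y) ≫ qY) (hfYp : fY ≫ pY = pXY) :
    IsPullback fX.left fY.left pX.left pY.left := by
  obtain ⟨hπs, -, -, -, hπiso, hπflat⟩ := hπ
  obtain ⟨hXs, -, -, -, hXiso, hXflat⟩ := hqX
  obtain ⟨hYs, -, -, -, hYiso, hYflat⟩ := hqY
  obtain ⟨hXYs, -, -, -, hXYiso, hXYflat⟩ := hqXY
  have hsqπ : IsPullback r.act (snd H G) π π :=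
    Groth.Agent.H40.isPullback_of_isIso_PsiY r π hπinv hπiso
  have hsqX : IsPullback b.act (snd H (G ⊗ X)) qX qX :=
    Groth.Agent.H40.isPullback_of_isIso_PsiY b qX hqXinv hXiso
  have hsqY : IsPullback c.act (snd H (G ⊗ Y)) qY qY :=
    Groth.Agent.H40.isPullback_of_isIso_PsiY c qY hqYinv hYiso
  have hsqXY : IsPullback d.act (snd H (G ⊗ (X ⊗ Y))) qXY qXY :=
    Groth.Agent.H40.isPullback_of_isIso_PsiY d qXY hqXYinv hXYiso
  have : Surjective qX.left := ⟨hXs⟩
  have : Surjective qY.left := ⟨hYs⟩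
  have : Surjective qXY.left := ⟨hXYs⟩
  have : QuasiCompact (X ⊗ Y).hom := inferInstance
  have : QuasiCompact qX.left := Groth.Agent.H40.quasiCompact_left_of_over qX
  have : QuasiCompact qY.left := Groth.Agent.H40.quasiCompact_left_of_over qY
  have : QuasiCompact qXY.left := Groth.Agent.H40.quasiCompact_left_of_over qXY
  have heqA : AlgGrp.Action.IsEquivariant d b (G ◁ fst X Y) := by
    change d.act ≫ (G ◁ fst X Y) = (H ◁ (G ◁ fst X Y)) ≫ b.act
    apply AlgGrp.Action.hom_ext_lift₂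
    intro T h p
    have hp' : p = lift (p ≫ fst G (X ⊗ Y))
        (lift (p ≫ snd G (X ⊗ Y) ≫ fst X Y) (p ≫ snd G (X ⊗ Y) ≫ snd X Y)) := by
      apply CartesianMonoidalCategory.hom_ext
      · rw [lift_fst]
      · rw [lift_snd]
        apply CartesianMonoidalCategory.hom_ext
        · rw [lift_fst, Category.assoc]
        · rw [lift_snd, Category.assoc]
    obtain ⟨g, x, y, rfl⟩ : ∃ (g : T ⟶ G) (x : T ⟶ X) (y : T ⟶ Y), p = lift g (lift x y) :=
      ⟨_, _, _, hp'⟩
    calc lift h (lift g (lift x y)) ≫ d.act ≫ (G ◁ fst X Y)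
        = (lift h (lift g (lift x y)) ≫ d.act) ≫ (G ◁ fst X Y) := (Category.assoc _ _ _).symm
      _ = lift (g * (h ≫ j)⁻¹) (lift h x ≫ aX.act) := by rw [hd, lift_whiskerLeft, lift_fst]
      _ = lift h (lift g x) ≫ b.act := (hb T h g x).symm
      _ = (lift h (lift g (lift x y)) ≫ (H ◁ (G ◁ fst X Y))) ≫ b.act := by
          rw [lift_whiskerLeft, lift_whiskerLeft, lift_fst]
      _ = lift h (lift g (lift x y)) ≫ (H ◁ (G ◁ fst X Y)) ≫ b.act := Category.assoc _ _ _
  have heqD : AlgGrp.Action.IsEquivariant c r (fst G Y) := by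
    change c.act ≫ fst G Y = (H ◁ fst G Y) ≫ r.act
    apply AlgGrp.Action.hom_ext_lift₂
    intro T h p
    have hp' : p = lift (p ≫ fst G Y) (p ≫ snd G Y) := Groth.Agent.H40.eq_lift_fst_snd p
    rw [hp', ← Category.assoc, hc, lift_fst, ← Category.assoc, lift_whiskerLeft, lift_fst, hr]
  have hA := Groth.Agent.H40.isPullback_of_equivariant_of_torsors d qXY hsqXY
    (Groth.Agent.H40.isLocallyTrivialFor_of_fpqc qXY.left) b qX hsqX (G ◁ fst X Y) heqA fX hfX.symm
  have hD := Groth.Agent.H40.isPullback_of_equivariant_of_torsors c qY hsqY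
    (Groth.Agent.H40.isLocallyTrivialFor_of_fpqc qY.left) r π hsqπ (fst G Y) heqD pY hpY.symm
  have hE := Groth.Agent.H40.isPullback_whiskerLeft_fst_snd G X Y
  have key := Groth.Agent.H40.isPullback_quot_of_isPullback_bundles (G ◁ fst X Y) (G ◁ snd X Y)
    (fst G X) (fst G Y) qXY qX qY π fX fY pX pY hA hD hE hfY hpX (hfXp.trans hfYp.symm)
    (Groth.Agent.H40.isLocallyTrivialFor_of_fpqc qXY.left)
    (Groth.Agent.H40.isLocallyTrivialFor_of_fpqc qX.left)
  exact key.map (Over.forget _)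

end Groth.Agent.S14886
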