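import Groth.Statements.S14887
import Groth.Agent.H68.SpecFibGenMain
import Groth.Agent.H68.SpecFibSch
-- import your own Groth.Agent.* helpers here

set_option autoImplicit false
universe u
open CategoryTheory AlgebraicGeometry
open FlatMor

namespace Groth.Agent.S14887

/-- Let R be a valuation ring and let φ : X → Spec R be flat and locally of finite presentation. Call x
∈ X fibre-generic when it is the generic point of an irreducible component of its fibre, i.e. no
point y ≠ x with φ y = φ x specializes to x. Then every generization of a fibre-generic point is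
fibre-generic. (The published statement allows an arbitrary base scheme and takes φ finitely
presented. Over a two-dimensional base it fails: for the affine line over the affine plane with
coordinates a, b, the closed point u = a/b of the generic fibre specializes to the generic point of
the fibre over a = b = 0, and the chain-lifting step of the published proof does not hold in that
generality. This row takes the base to be the spectrum of a valuation ring, the case in which the
result is applied to relative curves, and assumes only local finite presentation, the property being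
local on X.) -/
theorem result
    (R : Type u) [CommRing R] [IsDomain R] [ValuationRing R] {X : Scheme.{u}}
    (φ : X ⟶ Spec (CommRingCat.of R)) [Flat φ] [LocallyOfFinitePresentation φ]
    (x x' : X) (hgen : x' ⤳ x) (hx : ∀ y : X, y ⤳ x → φ y = φ x → y = x) :
    ∀ y : X, y ⤳ x' → φ y = φ x' → y = x' := by
  intro y hyx' hφy
  open Groth.Agent.H68.SF in
  classical
  have hUS : IsAffineOpen (⊤ : (Spec (CommRingCat.of R)).Opens) := isAffineOpen_top _
  obtain ⟨_, ⟨U, hU : IsAffineOpen U, rfl⟩, hxU, -⟩ :=
    X.isBasis_affineOpens.exists_subset_of_mem_open (Set.mem_univ x) isOpen_univ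
  have e : U ≤ φ ⁻¹ᵁ ⊤ := le_top
  have hx'U : x' ∈ U := hgen.mem_open U.isOpen hxU
  have hyU : y ∈ U := hyx'.mem_open U.isOpen hx'U
  -- algebra
  let A := Γ(Spec (CommRingCat.of R), ⊤)
  let B := Γ(X, U)
  let eA : A ≃+* R := (Scheme.ΓSpecIso (CommRingCat.of R)).commRingCatIsoToRingEquiv
  have hdomA : IsDomain A := MulEquiv.isDomain R eA.toMulEquiv
  have hvalA : ValuationRing A :=
    Function.Surjective.valuationRing (eA.symm : R →+* A) eA.symm.surjective
  let f : A →+* B := (φ.appLE ⊤ U e).hom
  let algAB : Algebra A B := f.toAlgebra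
  have hFT : Algebra.FiniteType A B :=
    HasRingHomProperty.appLE (P := @LocallyOfFiniteType) φ inferInstance ⟨⊤, hUS⟩ ⟨U, hU⟩ e
  have hcomap : ∀ (z : X) (hz : z ∈ U), (hU.primeIdealOf ⟨z, hz⟩).asIdeal.comap (algebraMap A B) =
      (hUS.primeIdealOf ⟨φ z, e hz⟩).asIdeal := fun z hz =>
    congrArg PrimeSpectrum.asIdeal (IsAffineOpen.comap_primeIdealOf_appLE ⊤ hUS U hU e hz)
  have hfeq : ∀ (z w : X) (hz : z ∈ U) (hw : w ∈ U),
      (hU.primeIdealOf ⟨z, hz⟩).asIdeal.comap (algebraMap A B) =
        (hU.primeIdealOf ⟨w, hw⟩).asIdeal.comap (algebraMap A B) ↔ φ z = φ w := by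
    intro z w hz hw
    rw [hcomap z hz, hcomap w hw]
    constructor
    · intro h
      exact primeIdealOf_inj hUS (e hz) (e hw) (PrimeSpectrum.ext h)
    · intro h
      have : (⟨φ z, e hz⟩ : (⊤ : (Spec (CommRingCat.of R)).Opens)) = ⟨φ w, e hw⟩ := Subtype.ext h
      rw [this]
  let q₁ : Ideal B := (hU.primeIdealOf ⟨y, hyU⟩).asIdeal
  let q₂ : Ideal B := (hU.primeIdealOf ⟨x', hx'U⟩).asIdeal
  let Q : Ideal B := (hU.primeIdealOf ⟨x, hxU⟩).asIdeal
  have h12 : q₁ ≤ q₂ := (specializes_iff_le hU hyU hx'U).mp hyx'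
  have h2Q : q₂ ≤ Q := (specializes_iff_le hU hx'U hxU).mp hgen
  have hco : q₁.comap (algebraMap A B) = q₂.comap (algebraMap A B) :=
    (hfeq y x' hyU hx'U).mpr hφy
  have hmin : ∀ Q' : Ideal B, Q'.IsPrime → Q' ≤ Q →
      Q'.comap (algebraMap A B) = Q.comap (algebraMap A B) → Q' = Q := by
    intro Q' hprime hle hcoQ
    let 𝔮 : Spec Γ(X, U) := ⟨Q', hprime⟩
    let z : X := hU.fromSpec 𝔮
    have hzU : z ∈ U := fromSpec_mem hU 𝔮
    have hP : hU.primeIdealOf ⟨z, hzU⟩ = 𝔮 := primeIdealOf_fromSpec hU 𝔮
    have hPq : (hU.primeIdealOf ⟨z, hzU⟩).asIdeal = Q' := congrArg PrimeSpectrum.asIdeal hP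
    have hsp : z ⤳ x := (specializes_iff_le hU hzU hxU).mpr (by rw [hPq]; exact hle)
    have hφz : φ z = φ x := (hfeq z x hzU hxU).mp (by rw [hPq]; exact hcoQ)
    have hzx : z = x := hx z hsp hφz
    have : hU.primeIdealOf ⟨z, hzU⟩ = hU.primeIdealOf ⟨x, hxU⟩ := by
      congr 1; exact Subtype.ext hzx
    rw [← hPq, this]
  have hq : q₁ = q₂ := eq_of_fibreMinimal q₁ q₂ Q h12 h2Q hco hmin
  exact primeIdealOf_inj hU hyU hx'U (PrimeSpectrum.ext hq)

end Groth.Agent.S14887
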