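import Groth.Statements.S14888
import Groth.Agent.H20.FiniteSpecStalk

set_option autoImplicit false
universe u
open CategoryTheory AlgebraicGeometry
open CAlg

namespace Groth.Agent.S14888

/-- Let R be a valuation ring whose spectrum is finite (finite height) and let f : X → Spec R be locally
of finite type with locally quasi-finite fibres. For every x ∈ X the canonical morphism Spec O_{X,x}
→ X is an open immersion, and the composite Spec O_{X,x} → Spec R is locally of finite type; in
particular O_{X,x} is finitely generated as an R-algebra. (The published statement takes X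
quasi-finite over Spec R; the assertions are local at x, so this row assumes only that X is locally
of finite type with discrete fibres.) -/
theorem result
    (R : Type u) [CommRing R] [IsDomain R] [ValuationRing R] [Finite (PrimeSpectrum R)]
    {X : Scheme.{u}} (f : X ⟶ Spec (CommRingCat.of R)) [LocallyOfFiniteType f] [LocallyQuasiFinite f]
    (x : X) :
    IsOpenImmersion (X.fromSpecStalk x) ∧ LocallyOfFiniteType (X.fromSpecStalk x ≫ f) := by
  obtain ⟨_, ⟨U, hU, rfl⟩, hxU, -⟩ :=
    X.isBasis_affineOpens.exists_subset_of_mem_open (Set.mem_univ x) isOpen_univ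
  have hU' : IsAffineOpen U := hU
  have hqf : (f.appLE ⊤ U le_top).hom.QuasiFinite :=
    LocallyQuasiFinite.quasiFinite_appLE (isAffineOpen_top _) hU' _
  have hfinB : Finite (PrimeSpectrum Γ(X, U)) := by
    let _ : Algebra Γ(Spec (CommRingCat.of R), ⊤) Γ(X, U) := (f.appLE ⊤ U le_top).hom.toAlgebra
    have hfinR : Finite (PrimeSpectrum Γ(Spec (CommRingCat.of R), ⊤)) :=
      Finite.of_equiv (PrimeSpectrum R) (PrimeSpectrum.comapEquiv
        (Scheme.ΓSpecIso (CommRingCat.of R)).symm.commRingCatIsoToRingEquiv).toEquiv
    have hqf' : Algebra.QuasiFinite Γ(Spec (CommRingCat.of R), ⊤) Γ(X, U) := hqf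
    have := Algebra.QuasiFinite.finite_comap_preimage (R := Γ(Spec (CommRingCat.of R), ⊤))
      (S := Γ(X, U)) (s := Set.univ) Set.finite_univ
    rw [Set.preimage_univ] at this
    exact Set.finite_univ_iff.mp this
  have h1 : IsOpenImmersion (X.fromSpecStalk x) :=
    Groth.Agent.H20.FiniteSpecStalk.isOpenImmersion_fromSpecStalk hU' x hxU
  exact ⟨h1, inferInstance⟩

end Groth.Agent.S14888
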