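import Groth.Statements.S1489
import Groth.Agent.H8.FormallyEtale

set_option autoImplicit false
universe u
open FlatMor

namespace Groth.Agent.S1489

open AlgebraicGeometry CategoryTheory Limits in
/-- A morphism f : X → S is étale if and only if it is locally of finite presentation and formally
étale, i.e. has the unique lifting property against first order thickenings of affine schemes (rings
in the same universe). -/
theorem result {X S : Scheme.{u}} (f : X ⟶ S) :
    Etale f ↔ LocallyOfFinitePresentation f ∧ MoreMor.IsFormallyEtaleHom f := by
  constructor
  · intro hf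
    refine ⟨⟨fun {U} hU {V} hV e ↦ ?_⟩, ?_⟩
    · have h := hf.etale_appLE hU hV e
      rw [RingHom.Etale] at h
      rw [RingHom.FinitePresentation]
      letI := (f.appLE U V e).hom.toAlgebra
      exact h.finitePresentation
    · apply Groth.Agent.H8.isFormallyEtaleHom_of_formallyEtale_appLE
      intro U V hU hV hUV
      have h := hf.etale_appLE hV hU hUV
      rw [RingHom.Etale] at h
      letI := (f.appLE V U hUV).hom.toAlgebra
      exact h.formallyEtale
  · rintro ⟨hfp, hfe⟩
    refine ⟨fun {U} hU {V} hV e ↦ ?_⟩
    have h1 := hfp.finitePresentation_appLE hU hV e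
    have h2 := Groth.Agent.H8.formallyEtale_appLE_of_isFormallyEtaleHom hfe hV hU e
    rw [RingHom.FinitePresentation] at h1
    rw [RingHom.Etale]
    letI := (f.appLE U V e).hom.toAlgebra
    exact ⟨h2, h1⟩

end Groth.Agent.S1489
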