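import Groth.Statements.S14901
import Mathlib
import Groth.Agent.H48.MaxPoint
import Groth.Agent.H48.FibreMaxSch
import Groth.Agent.H48.ImageDim
import Groth.Agent.H48.CycDim7
import Groth.Agent.H14.DimFormula

set_option autoImplicit false
universe u
open MovLem

namespace Groth.Agent.S14901

open AlgebraicGeometry CategoryTheory in
/-- Let k be a field, let S and X be separated k-schemes of finite type that are locally equidimensional
(all irreducible components passing through a given point have the same dimension), let f : S → X be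
a k-morphism and Z ⊆ X a closed subset. Let d be the dimension of the image f(S), as a subspace of
X. If every point s of S with f(s) ∈ Z satisfies dim O_{S,s} ≥ d + 1 (equivalently: the closed
subset f⁻¹(Z) of S has local codimension at least d + 1 at each of its points), then f⁻¹(Z) is
empty. -/
theorem result (k : Type u) [Field k] (S X : Scheme.{u})
    (pS : S ⟶ Spec (CommRingCat.of k)) (pX : X ⟶ Spec (CommRingCat.of k))
    [IsSeparated pS] [LocallyOfFiniteType pS] [QuasiCompact pS]
    [IsSeparated pX] [LocallyOfFiniteType pX] [QuasiCompact pX]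
    (hS : ∀ (s : S) (A B : Set S), A ∈ irreducibleComponents (S : Type u) → B ∈ irreducibleComponents (S : Type u) →
      s ∈ A → s ∈ B → topologicalKrullDim A = topologicalKrullDim B)
    (hX : ∀ (x : X) (A B : Set X), A ∈ irreducibleComponents (X : Type u) → B ∈ irreducibleComponents (X : Type u) →
      x ∈ A → x ∈ B → topologicalKrullDim A = topologicalKrullDim B)
    (f : S ⟶ X) (hf : f ≫ pX = pS) (Z : Set X) (hZ : IsClosed Z)
    (h : ∀ s : S, f.base s ∈ Z →
      topologicalKrullDim (Set.range f.base) + 1 ≤ ringKrullDim (S.presheaf.stalk s)) :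
    f.base ⁻¹' Z = ∅ := by
  classical
  haveI : LocallyOfFiniteType (f ≫ pX) := by rw [hf]; infer_instance
  haveI : LocallyOfFiniteType f := locallyOfFiniteType_of_comp f pX
  haveI : IsLocallyNoetherian S := LocallyOfFiniteType.isLocallyNoetherian pS
  haveI : IsLocallyNoetherian X := LocallyOfFiniteType.isLocallyNoetherian pX
  by_contra hne
  obtain ⟨s₀, hs₀⟩ := Set.nonempty_iff_ne_empty.mpr hne
  have hT : IsClosed (f.base ⁻¹' Z) := hZ.preimage f.continuous
  obtain ⟨w, hwT, -, hwmax⟩ :=
    Groth.Agent.H48.MaxPoint.exists_maximal_point (f.base ⁻¹' Z) hT s₀ hs₀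
  have hwZ : f.base w ∈ Z := hwT
  have hmax : ∀ s' : S, s' ⤳ w → f s' = f w → s' = w := by
    intro s' hs' hfs
    refine hwmax s' ?_ hs'
    change f s' ∈ Z
    rw [hfs]; exact hwZ
  -- a minimal prime of the stalk computing its dimension
  obtain ⟨p, hpmin, hpdim⟩ :=
    Groth.Agent.H14.DimFormula.exists_minimalPrimes_ringKrullDim_quotient_eq
      (R := S.presheaf.stalk w)
  haveI hpp : p.IsPrime := hpmin.1.1
  let Pp : PrimeSpectrum (S.presheaf.stalk w) := ⟨p, hpp⟩
  set ξ := S.fromSpecStalk w Pp with hξdef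
  have hξ : ξ ⤳ w := by
    have : ξ ∈ Set.range (S.fromSpecStalk w) := ⟨Pp, rfl⟩
    rw [Scheme.range_fromSpecStalk] at this
    exact this
  have hker : RingHom.ker (Cyc.specMap w ξ hξ) = p :=
    Groth.Agent.H48.FibreMaxSch.ker_specMap_of_fromSpecStalk_eq w ξ hξ Pp rfl
  have h1 : ringKrullDim (Cyc.LocQuot w ξ hξ) = ringKrullDim (S.presheaf.stalk w) := by
    rw [← hpdim]
    exact ringKrullDim_eq_of_ringEquiv (Ideal.quotEquivOfEq hker)
  have h2 := Groth.Agent.H48.FibreMaxSch.ringKrullDim_locQuot_le f w ξ hξ hmax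
  have h3 := Groth.Agent.H48.CycDim7.ringKrullDim_locQuot' X (Groth.Agent.H48.FieldDim.δ pX)
    (Groth.Agent.H48.FieldDim.isDimFun pX) (f ξ) (f w) (hξ.map f.continuous)
  have h4 := Groth.Agent.H48.ImageDim.delta_le_topologicalKrullDim_range pX f ξ
  have h5 := h w hwZ
  rw [h1, h3] at h2
  have h6 : ((Groth.Agent.H48.FieldDim.δ pX (f ξ) - Groth.Agent.H48.FieldDim.δ pX (f w)).toNat) ≤
      (Groth.Agent.H48.FieldDim.δ pX (f ξ)).toNat := by
    apply Int.toNat_le_toNat
    have := Groth.Agent.H48.FieldDim.delta_nonneg pX (f w)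
    omega
  set m := (Groth.Agent.H48.FieldDim.δ pX (f ξ)).toNat with hm
  set m' := (Groth.Agent.H48.FieldDim.δ pX (f ξ) - Groth.Agent.H48.FieldDim.δ pX (f w)).toNat with hm'
  have h7 : ringKrullDim (S.presheaf.stalk w) ≤ ((m : ℕ∞) : WithBot ℕ∞) := by
    refine h2.trans ?_
    exact_mod_cast h6
  have h8 : topologicalKrullDim ↥(Set.range f.base) + 1 ≤ ((m : ℕ∞) : WithBot ℕ∞) := h5.trans h7
  have h9 : ((m : ℕ∞) : WithBot ℕ∞) + 1 ≤ ((m : ℕ∞) : WithBot ℕ∞) :=
    (add_le_add_left h4 1).trans h8
  have h10 : ((m + 1 : ℕ) : WithBot ℕ∞) ≤ ((m : ℕ) : WithBot ℕ∞) := by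
    push_cast
    exact h9
  have h11 : m + 1 ≤ m := by exact_mod_cast h10
  omega

end Groth.Agent.S14901
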