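import Groth.Statements.S14909
import Mathlib
import Groth.Agent.H74.PairPow

set_option autoImplicit false
universe u
open Neron

namespace Groth.Agent.S14909

/-- Let R be a discrete valuation ring with uniformizer ϖ, let a₁, a₆ ∈ R with a₁ of valuation v ≥ 1, a₆
of valuation 1, and 2 of valuation at least v (so the residue characteristic is 2; 2 = 0 is
allowed). In the power series ring S = R[[x, y]] let M = (ϖ, x, y) be the maximal ideal and I the
ideal generated by y² + a₁xy − x³ − a₆, 2y + a₁x and 3x² − a₁y, so that S/I is a local ring with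
maximal ideal m = M/I. Then the classes of y^(2v) and x·y^(2v−1) form a basis of the vector space
m^(2v)/m^(2v+1) over the residue field: M^(2v) + I = (y^(2v), x·y^(2v−1)) + I, and whenever a·y^(2v)
+ b·x·y^(2v−1) ∈ M^(2v+1) + I with a, b ∈ R, both a and b lie in the maximal ideal of R. (Generation
holds with any exponent i ≥ 1 in place of 2v: M^i + I = (y^i, x·y^(i−1)) + I.) -/
theorem result (R : Type u) [CommRing R] [IsDomain R] [IsDiscreteValuationRing R]
    (ϖ a₁ a₆ : R) (hϖ : Irreducible ϖ) (v : ℕ) (hv : 1 ≤ v) (u₁ u₆ : Rˣ) (ha₁ : a₁ = u₁ * ϖ ^ v) (ha₆ : a₆ = u₆ * ϖ)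
    (h2 : (2 : R) ∈ IsLocalRing.maximalIdeal R ^ v)
    (x y : MvPowerSeries (Fin 2) R) (hx : x = MvPowerSeries.X 0) (hy : y = MvPowerSeries.X 1)
    (I M : Ideal (MvPowerSeries (Fin 2) R))
    (hI : I = Ideal.span {y ^ 2 + a₁ • (x * y) - x ^ 3 - algebraMap R (MvPowerSeries (Fin 2) R) a₆,
      2 * y + a₁ • x, 3 * x ^ 2 - a₁ • y})
    (hM : M = Ideal.span {algebraMap R (MvPowerSeries (Fin 2) R) ϖ, x, y}) :
    M ^ (2 * v) ⊔ I = Ideal.span {y ^ (2 * v), x * y ^ (2 * v - 1)} ⊔ I ∧
      ∀ a b : R, a • y ^ (2 * v) + b • (x * y ^ (2 * v - 1)) ∈ M ^ (2 * v + 1) ⊔ I →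
        a ∈ IsLocalRing.maximalIdeal R ∧ b ∈ IsLocalRing.maximalIdeal R := by
  classical
  subst hx hy hI hM
  -- basic facts about `R`
  have hm : IsLocalRing.maximalIdeal R = Ideal.span {ϖ} := hϖ.maximalIdeal_eq
  have hϖ0 : ϖ ≠ 0 := hϖ.ne_zero
  obtain ⟨γ, hγ⟩ : ∃ γ : R, γ * ϖ ^ v = 2 := by
    rw [hm, Ideal.span_singleton_pow, Ideal.mem_span_singleton'] at h2
    exact h2
  have h3 : IsUnit (3 : R) := by
    by_contra h
    have h3m : (3 : R) ∈ IsLocalRing.maximalIdeal R := (IsLocalRing.mem_maximalIdeal _).2 h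
    have h2m : (2 : R) ∈ IsLocalRing.maximalIdeal R := Ideal.pow_le_self (by omega) h2
    have : (1 : R) ∈ IsLocalRing.maximalIdeal R := by
      have := Ideal.sub_mem _ h3m h2m
      norm_num at this
    exact (Ideal.ne_top_iff_one _).1 (IsLocalRing.maximalIdeal.isMaximal R).ne_top this
  obtain ⟨t, ht⟩ := h3
  -- the unit `t * u₆` and `θ = -(3 a₆) = -(t u₆) ϖ`
  set w : Rˣ := t * u₆ with hw
  have h3a : 3 * a₆ = (w : R) * ϖ := by
    rw [ha₆, hw, Units.val_mul, ht]; ring
  -- the element `y² + 3 a₆` of `I`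
  set S := MvPowerSeries (Fin 2) R with hS
  set x : S := MvPowerSeries.X 0 with hx
  set y : S := MvPowerSeries.X 1 with hy
  set g₁ : S := y ^ 2 + a₁ • (x * y) - x ^ 3 - algebraMap R S a₆ with hg₁
  set g₂ : S := 2 * y + a₁ • x with hg₂
  set g₃ : S := 3 * x ^ 2 - a₁ • y with hg₃
  set I : Ideal S := Ideal.span {g₁, g₂, g₃} with hI
  set M : Ideal S := Ideal.span {algebraMap R S ϖ, x, y} with hM
  have hid : algebraMap R S 3 * g₁ = -(y ^ 2 + algebraMap R S (3 * a₆)) - x * g₃ + 2 * y * g₂ := by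
    simp only [hg₁, hg₂, hg₃, Algebra.smul_def, map_mul, map_ofNat]
    ring
  have hg₁I : g₁ ∈ I := Ideal.subset_span (by simp)
  have hg₂I : g₂ ∈ I := Ideal.subset_span (by simp)
  have hg₃I : g₃ ∈ I := Ideal.subset_span (by simp)
  have hhI : y ^ 2 + algebraMap R S (3 * a₆) ∈ I := by
    have : y ^ 2 + algebraMap R S (3 * a₆) = -(algebraMap R S 3 * g₁) - x * g₃ + 2 * y * g₂ := by
      rw [hid]; ring
    rw [this]
    exact I.add_mem (I.sub_mem (I.neg_mem (I.mul_mem_left _ hg₁I)) (I.mul_mem_left _ hg₃I))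
      (I.mul_mem_left _ hg₂I)
  refine ⟨?_, ?_⟩
  · -- generation
    set mk := Ideal.Quotient.mk I with hmk
    have hsup : ∀ K : Ideal S, K ⊔ I = Ideal.comap mk (Ideal.map mk K) := by
      intro K
      rw [← Ideal.comap_map_mk (le_sup_right : I ≤ K ⊔ I), Ideal.map_sup, Ideal.map_quotient_self,
        sup_bot_eq]
    have q1 : mk (algebraMap R S ϖ) = -(mk (algebraMap R S ((w⁻¹ : Rˣ) : R))) * mk y ^ 2 := by
      have h0 : mk (y ^ 2 + algebraMap R S (3 * a₆)) = 0 := Ideal.Quotient.eq_zero_iff_mem.2 hhI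
      rw [map_add, map_pow, h3a, map_mul, map_mul] at h0
      have h1 : mk y ^ 2 = -(mk (algebraMap R S (w : R)) * mk (algebraMap R S ϖ)) :=
        eq_neg_of_add_eq_zero_left h0
      rw [h1]
      have : mk (algebraMap R S ((w⁻¹ : Rˣ) : R)) * mk (algebraMap R S (w : R)) = 1 := by
        rw [← map_mul, ← map_mul, Units.inv_mul, map_one, map_one]
      linear_combination (-(mk (algebraMap R S ϖ))) * this
    have q2 : mk x ^ 2 = mk (algebraMap R S (((t⁻¹ : Rˣ) : R) * a₁)) * mk y := by
      have h0 : mk g₃ = 0 := Ideal.Quotient.eq_zero_iff_mem.2 hg₃I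
      rw [hg₃, map_sub, map_mul, map_pow, Algebra.smul_def, map_mul] at h0
      have h3' : (3 : S) = algebraMap R S (t : R) := by rw [ht, map_ofNat]
      rw [h3'] at h0
      have : mk (algebraMap R S ((t⁻¹ : Rˣ) : R)) * mk (algebraMap R S (t : R)) = 1 := by
        rw [← map_mul, ← map_mul, Units.inv_mul, map_one, map_one]
      rw [map_mul, map_mul]
      linear_combination (mk (algebraMap R S ((t⁻¹ : Rˣ) : R))) * h0 - (mk x ^ 2) * this
    have q3 : mk x ^ 2 ∈ Ideal.span {mk y ^ (2 * v), mk x * mk y ^ (2 * v - 1)} := by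
      rw [q2, ha₁, map_mul, map_mul, map_mul, map_mul, map_pow, map_pow, q1]
      refine Ideal.mem_span_pair.2 ⟨mk (algebraMap R S ((t⁻¹ : Rˣ) : R)) *
        mk (algebraMap R S (u₁ : R)) * (-(mk (algebraMap R S ((w⁻¹ : Rˣ) : R)))) ^ v * mk y, 0, ?_⟩
      rw [mul_pow, ← pow_mul]
      ring
    have hmapM : Ideal.map mk M = Ideal.span {mk x, mk y} := by
      rw [hM, Ideal.map_span]
      apply le_antisymm
      · rw [Ideal.span_le]
        rintro _ ⟨z, (rfl | rfl | rfl), rfl⟩
        · rw [q1]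
          exact Ideal.mul_mem_left _ _ (Ideal.pow_mem_of_mem _ (Ideal.subset_span (by simp)) 2
            (by norm_num))
        · exact Ideal.subset_span (by simp)
        · exact Ideal.subset_span (by simp)
      · apply Ideal.span_mono
        rintro _ (rfl | rfl)
        · exact ⟨x, by simp, rfl⟩
        · exact ⟨y, by simp, rfl⟩
    have key : Ideal.map mk (M ^ (2 * v)) =
        Ideal.map mk (Ideal.span {y ^ (2 * v), x * y ^ (2 * v - 1)}) := by
      rw [Ideal.map_pow, hmapM, Ideal.map_span, Set.image_pair, map_pow, map_mul, map_pow]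
      apply le_antisymm
      · refine (Groth.Agent.H74.PairPow.span_pair_pow_le (mk x) (mk y) (2 * v) (by omega)).trans ?_
        refine sup_le le_rfl ?_
        rw [Ideal.span_singleton_le_iff_mem]
        exact q3
      · rw [Ideal.span_le]
        rintro _ (rfl | rfl)
        · exact Ideal.pow_mem_pow (Ideal.subset_span (by simp)) _
        · have e := pow_succ' (Ideal.span {mk x, mk y}) (2 * v - 1)
          have e2 : 2 * v - 1 + 1 = 2 * v := by omega
          rw [e2] at e
          rw [SetLike.mem_coe, e]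
          exact Ideal.mul_mem_mul (Ideal.subset_span (by simp))
            (Ideal.pow_mem_pow (Ideal.subset_span (by simp)) _)
    rw [hsup, hsup, key]
  · intro a b hab
    -- generic model
    have model : ∀ (T : Type u) [CommRing T] [Algebra R T] (X' Y' : T),
        Y' ^ 2 + algebraMap R T (3 * a₆) = 0 → 2 * Y' + a₁ • X' = 0 → 3 * X' ^ 2 - a₁ • Y' = 0 →
        Ideal.span {X', Y'} ^ (2 * v + 1) = ⊥ →
        a • Y' ^ (2 * v) + b • (X' * Y' ^ (2 * v - 1)) = 0 := by
      intro T _ _ X' Y' t1 t2 t3 t4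
      have hnil : ∀ s, IsNilpotent ((![X', Y'] : Fin 2 → T) s) := by
        intro s
        refine ⟨2 * v + 1, ?_⟩
        have hmem : (![X', Y'] : Fin 2 → T) s ∈ Ideal.span {X', Y'} := by
          fin_cases s
          · exact Ideal.subset_span (by simp)
          · exact Ideal.subset_span (by simp)
        have := Ideal.pow_mem_pow hmem (2 * v + 1)
        rwa [t4, Ideal.mem_bot] at this
      obtain ⟨Φ, hΦ⟩ := Groth.Agent.H74.PairPow.exists_evalNil (R := R) ![X', Y'] hnil
      have hΦx : Φ x = X' := hΦ 0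
      have hΦy : Φ y = Y' := hΦ 1
      have hΦc : ∀ r : R, Φ (algebraMap R S r) = algebraMap R T r := fun r => Φ.commutes r
      have e2 : Φ g₂ = 0 := by
        rw [hg₂, map_add, map_mul, map_smul, hΦx, hΦy, map_ofNat]; exact t2
      have e3 : Φ g₃ = 0 := by
        rw [hg₃, map_sub, map_mul, map_pow, map_smul, hΦx, hΦy, map_ofNat]; exact t3
      have eh : Φ (y ^ 2 + algebraMap R S (3 * a₆)) = 0 := by
        rw [map_add, map_pow, hΦy, hΦc]; exact t1
      have e1 : Φ g₁ = 0 := by
        have h := congrArg Φ hid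
        rw [map_mul, hΦc] at h
        have h' : algebraMap R T 3 * Φ g₁ = 0 := by
          rw [h, map_add, map_sub, map_neg, eh, map_mul, e3, map_mul, e2]; ring
        have hu : IsUnit (algebraMap R T 3) := by rw [← ht]; exact t.isUnit.map _
        exact (hu.mul_right_eq_zero).1 h'
      have hI0 : I ≤ RingHom.ker (Φ : S →+* T) := by
        rw [hI, Ideal.span_le]
        rintro _ (rfl | rfl | rfl)
        · exact e1
        · exact e2
        · exact e3
      have hϖT : algebraMap R T ϖ ∈ Ideal.span {X', Y'} := by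
        have h1 : Y' ^ 2 = -(algebraMap R T (w : R) * algebraMap R T ϖ) := by
          rw [h3a, map_mul] at t1
          exact eq_neg_of_add_eq_zero_left t1
        have h2 : algebraMap R T ((w⁻¹ : Rˣ) : R) * algebraMap R T (w : R) = 1 := by
          rw [← map_mul, Units.inv_mul, map_one]
        have h3 : algebraMap R T ϖ = -(algebraMap R T ((w⁻¹ : Rˣ) : R)) * Y' ^ 2 := by
          rw [h1]; linear_combination (-(algebraMap R T ϖ)) * h2
        rw [h3]
        exact Ideal.mul_mem_left _ _ (Ideal.pow_mem_of_mem _ (Ideal.subset_span (by simp)) 2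
          (by norm_num))
      have hM0 : M ^ (2 * v + 1) ≤ RingHom.ker (Φ : S →+* T) := by
        rw [RingHom.ker_eq_comap_bot, ← Ideal.map_le_iff_le_comap, Ideal.map_pow, ← t4]
        apply Ideal.pow_right_mono
        rw [hM, Ideal.map_span, Ideal.span_le]
        rintro _ ⟨z, (rfl | rfl | rfl), rfl⟩
        · change Φ (algebraMap R S ϖ) ∈ _
          rw [hΦc]; exact hϖT
        · change Φ x ∈ _
          rw [hΦx]; exact Ideal.subset_span (by simp)
        · change Φ y ∈ _
          rw [hΦy]; exact Ideal.subset_span (by simp)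
      have h0 : Φ (a • y ^ (2 * v) + b • (x * y ^ (2 * v - 1))) = 0 :=
        (sup_le hM0 hI0) hab
      rw [map_add, map_smul, map_smul, map_mul, map_pow, map_pow, hΦx, hΦy] at h0
      exact h0
    -- the quadratic algebra `Q = R[ω]/(ω² = θ)`, `θ = -(3 a₆)`
    set θ : R := -(3 * a₆) with hθ
    set n : Rˣ := -w with hn
    have hθn : θ = (n : R) * ϖ := by rw [hθ, h3a, hn, Units.val_neg]; ring
    have hθ0 : θ ≠ 0 := by rw [hθn]; exact mul_ne_zero n.ne_zero hϖ0
    have hϖθ : ϖ ^ v = ((n⁻¹ : Rˣ) : R) ^ v * θ ^ v := by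
      rw [← mul_pow, hθn, ← mul_assoc, Units.inv_mul, one_mul]
    have hθadd : θ + 3 * a₆ = 0 := by rw [hθ]; ring
    have hmemϖ : ∀ r d : R, r = θ * d → r ∈ IsLocalRing.maximalIdeal R := by
      intro r d hr
      rw [hm, Ideal.mem_span_singleton']
      exact ⟨(n : R) * d, by rw [hr, hθn]; ring⟩
    let Q := QuadraticAlgebra R θ 0
    let om : Q := QuadraticAlgebra.omega
    have hom2 : om ^ 2 = algebraMap R Q θ := by
      rw [pow_two]; exact Groth.Agent.H74.PairPow.omega_sq θ
    have homE : ∀ k : ℕ, om ^ (2 * k) = algebraMap R Q (θ ^ k) :=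
      Groth.Agent.H74.PairPow.omega_pow_even θ
    have homO : ∀ k : ℕ, om ^ (2 * k + 1) = algebraMap R Q (θ ^ k) * om :=
      Groth.Agent.H74.PairPow.omega_pow_odd θ
    refine ⟨?_, ?_⟩
    · -- first model: `Q / (ω^(2v+1))`, `x ↦ 0`, `y ↦ ω`
      let J : Ideal Q := Ideal.span {om ^ (2 * v + 1)}
      let mkJ := Ideal.Quotient.mk J
      have hkey : ∀ r : R, mkJ (algebraMap R Q (r * ϖ ^ v) * om) = 0 := by
        intro r
        rw [Ideal.Quotient.eq_zero_iff_mem, hϖθ]
        have : algebraMap R Q (r * (((n⁻¹ : Rˣ) : R) ^ v * θ ^ v)) * om =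
            algebraMap R Q (r * ((n⁻¹ : Rˣ) : R) ^ v) * om ^ (2 * v + 1) := by
          rw [homO]; simp only [map_mul, map_pow]; ring
        rw [this]
        exact Ideal.mul_mem_left _ _ (Ideal.subset_span rfl)
      have hres := model (Q ⧸ J) 0 (mkJ om) ?_ ?_ ?_ ?_
      · rw [zero_mul, smul_zero, add_zero, ← map_pow, Algebra.smul_def,
          IsScalarTower.algebraMap_apply R Q (Q ⧸ J), Ideal.Quotient.algebraMap_eq, ← map_mul,
          Ideal.Quotient.eq_zero_iff_mem, Ideal.mem_span_singleton'] at hres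
        obtain ⟨z, hz⟩ := hres
        rw [homO, homE] at hz
        have hre := congrArg QuadraticAlgebra.re hz
        rw [Groth.Agent.H74.PairPow.re_mul_algebraMap_mul_omega,
          Groth.Agent.H74.PairPow.re_algebraMap_mul_algebraMap] at hre
        refine hmemϖ a z.im ?_
        have : θ ^ v * a = θ ^ v * (θ * z.im) := by linear_combination -hre
        exact mul_left_cancel₀ (pow_ne_zero v hθ0) this
      · rw [← map_pow, IsScalarTower.algebraMap_apply R Q (Q ⧸ J), Ideal.Quotient.algebraMap_eq,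
          ← map_add, hom2, ← map_add, hθadd, map_zero, map_zero]
      · rw [smul_zero, add_zero]
        have : (2 : Q ⧸ J) * mkJ om = mkJ (algebraMap R Q (γ * ϖ ^ v) * om) := by
          rw [hγ, map_ofNat, map_mul, map_ofNat]
        rw [this, hkey]
      · have : a₁ • mkJ om = mkJ (algebraMap R Q ((u₁ : R) * ϖ ^ v) * om) := by
          rw [← ha₁, Algebra.smul_def, IsScalarTower.algebraMap_apply R Q (Q ⧸ J),
            Ideal.Quotient.algebraMap_eq, ← map_mul]
        rw [this, hkey]; simp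
      · rw [Ideal.span_insert_zero, Ideal.span_singleton_pow, ← map_pow,
          Ideal.span_singleton_eq_bot, Ideal.Quotient.eq_zero_iff_mem]
        exact Ideal.subset_span rfl
    · -- second model: dual numbers over `Q / (ω^(2v))`, `x ↦ ε`, `y ↦ ω`
      let J : Ideal Q := Ideal.span {om ^ (2 * v)}
      let mkJ := Ideal.Quotient.mk J
      have hkey : ∀ r : R, algebraMap R (Q ⧸ J) (r * ϖ ^ v) = 0 := by
        intro r
        rw [IsScalarTower.algebraMap_apply R Q (Q ⧸ J), Ideal.Quotient.algebraMap_eq,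
          Ideal.Quotient.eq_zero_iff_mem, hϖθ]
        have : algebraMap R Q (r * (((n⁻¹ : Rˣ) : R) ^ v * θ ^ v)) =
            algebraMap R Q (r * ((n⁻¹ : Rˣ) : R) ^ v) * om ^ (2 * v) := by
          rw [homE]; simp only [map_mul, map_pow]; ring
        rw [this]
        exact Ideal.mul_mem_left _ _ (Ideal.subset_span rfl)
      have hkeyT : ∀ r : R, algebraMap R (DualNumber (Q ⧸ J)) (r * ϖ ^ v) = 0 := by
        intro r
        rw [TrivSqZeroExt.algebraMap_eq_inl', hkey, TrivSqZeroExt.inl_zero]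
      have hω0 : mkJ om ^ (2 * v) = 0 := by
        rw [← map_pow, Ideal.Quotient.eq_zero_iff_mem]
        exact Ideal.subset_span rfl
      have hY0 : (TrivSqZeroExt.inl (mkJ om) : DualNumber (Q ⧸ J)) ^ (2 * v) = 0 := by
        rw [TrivSqZeroExt.inl_pow, hω0, TrivSqZeroExt.inl_zero]
      have hε2 : (DualNumber.eps : DualNumber (Q ⧸ J)) ^ 2 = 0 := by
        rw [pow_two, DualNumber.eps_mul_eps]
      have hres := model (DualNumber (Q ⧸ J)) DualNumber.eps (TrivSqZeroExt.inl (mkJ om)) ?_ ?_ ?_ ?_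
      · rw [hY0, smul_zero, zero_add] at hres
        have hsnd := congrArg TrivSqZeroExt.snd hres
        rw [TrivSqZeroExt.snd_smul, TrivSqZeroExt.snd_zero, TrivSqZeroExt.inl_pow] at hsnd
        simp only [TrivSqZeroExt.snd_mul, DualNumber.fst_eps, DualNumber.snd_eps,
          TrivSqZeroExt.fst_inl, TrivSqZeroExt.snd_inl, zero_smul, zero_add,
          MulOpposite.smul_eq_mul_unop, MulOpposite.unop_op, one_mul] at hsnd
        rw [← map_pow, Algebra.smul_def, IsScalarTower.algebraMap_apply R Q (Q ⧸ J),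
          Ideal.Quotient.algebraMap_eq, ← map_mul, Ideal.Quotient.eq_zero_iff_mem,
          Ideal.mem_span_singleton'] at hsnd
        obtain ⟨z, hz⟩ := hsnd
        have e : 2 * v - 1 = 2 * (v - 1) + 1 := by omega
        rw [e, homO, homE] at hz
        have him := congrArg QuadraticAlgebra.im hz
        rw [Groth.Agent.H74.PairPow.im_mul_algebraMap,
          Groth.Agent.H74.PairPow.im_algebraMap_mul_algebraMap_mul_omega] at him
        refine hmemϖ b z.im ?_
        have e' : θ ^ v = θ ^ (v - 1) * θ := by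
          rw [← pow_succ]; congr 1; omega
        rw [e'] at him
        have : θ ^ (v - 1) * b = θ ^ (v - 1) * (θ * z.im) := by linear_combination -him
        exact mul_left_cancel₀ (pow_ne_zero _ hθ0) this
      · rw [TrivSqZeroExt.algebraMap_eq_inl', TrivSqZeroExt.inl_pow, ← TrivSqZeroExt.inl_add,
          ← map_pow, IsScalarTower.algebraMap_apply R Q (Q ⧸ J), Ideal.Quotient.algebraMap_eq,
          ← map_add, hom2, ← map_add, hθadd, map_zero, map_zero, TrivSqZeroExt.inl_zero]
      · have h2T : (2 : DualNumber (Q ⧸ J)) = algebraMap R (DualNumber (Q ⧸ J)) (γ * ϖ ^ v) := by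
          rw [hγ, map_ofNat]
        rw [h2T, hkeyT, zero_mul, zero_add, ha₁, Algebra.smul_def, hkeyT, zero_mul]
      · rw [hε2, mul_zero, zero_sub, neg_eq_zero, ha₁, Algebra.smul_def, hkeyT, zero_mul]
      · rw [eq_bot_iff]
        refine (Groth.Agent.H74.PairPow.span_pair_pow_le _ _ (2 * v + 1) (by omega)).trans ?_
        have e : 2 * v + 1 - 1 = 2 * v := by omega
        rw [e, hY0, pow_succ, hY0, zero_mul, mul_zero, hε2]
        simp

end Groth.Agent.S14909
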