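import Groth.Statements.S1494
import Groth.Agent.H94.KoszulLocusBC
import Groth.Agent.S4848

set_option autoImplicit false
universe u
attribute [local instance] HasDerivedCategory.standard
open FlatMor

namespace Groth.Agent.S1494

open AlgebraicGeometry CategoryTheory Limits in
/-- Let f : X → Y be a morphism over S with X and Y flat and locally of finite presentation over S. Then
the set of points x at which f is Koszul (some affine neighbourhood U of x maps into an affine V of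
Y with O_Y(V) → O_X(U) a local complete intersection homomorphism) is open, and for any base change
S' → S, with f' : X' → Y' the base change of f and X' → X the projection, the corresponding set for
f' is the preimage of the one for f. -/
theorem result {X Y S : Scheme.{u}} (f : X ⟶ Y) (g : Y ⟶ S)
    [Flat (f ≫ g)] [LocallyOfFinitePresentation (f ≫ g)] [Flat g] [LocallyOfFinitePresentation g] :
    IsOpen {x : ↑X | (∃ (U : X.Opens) (V : Y.Opens) (hU : IsAffineOpen U) (hV : IsAffineOpen V) (hUV : U ≤ f ⁻¹ᵁ V), x ∈ U ∧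
          letI := (f.appLE V U hUV).hom.toAlgebra
          LCI.IsLCI Γ(Y, V) Γ(X, U))} ∧
      ∀ {X' Y' S' : Scheme.{u}} (h : S' ⟶ S) (gY : Y' ⟶ Y) (g' : Y' ⟶ S') (hY : IsPullback gY g' g h)
        (gX : X' ⟶ X) (f' : X' ⟶ Y') (hX : IsPullback gX (f' ≫ g') (f ≫ g) h) (w : gX ≫ f = f' ≫ gY),
        {x' : ↑X' | (∃ (U : X'.Opens) (V : Y'.Opens) (hU : IsAffineOpen U) (hV : IsAffineOpen V) (hUV : U ≤ f' ⁻¹ᵁ V), x' ∈ U ∧
          letI := (f'.appLE V U hUV).hom.toAlgebra
          LCI.IsLCI Γ(Y', V) Γ(X', U))} = gX ⁻¹' {x : ↑X | (∃ (U : X.Opens) (V : Y.Opens) (hU : IsAffineOpen U) (hV : IsAffineOpen V) (hUV : U ≤ f ⁻¹ᵁ V), x ∈ U ∧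
          letI := (f.appLE V U hUV).hom.toAlgebra
          LCI.IsLCI Γ(Y, V) Γ(X, U))} := by
  have H : Groth.Agent.H49.FlatApprox.Hyp4848.{u} := by
    intro A₀ _ ι _ G _ _ g A _ _ _ _ hcolim B₀ _ _ _ M₀ _ _ _ _ _
    exact Groth.Agent.S4848.result G g A hcolim (B₀ := B₀) M₀
  have key : ∀ {X Y : Scheme.{u}} (f : X ⟶ Y) (x : X),
      (∃ (U : X.Opens) (V : Y.Opens) (hU : IsAffineOpen U) (hV : IsAffineOpen V)
        (hUV : U ≤ f ⁻¹ᵁ V), x ∈ U ∧
          letI := (f.appLE V U hUV).hom.toAlgebra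
          LCI.IsLCI Γ(Y, V) Γ(X, U)) ↔ Synt.IsKoszulAt f x := by
    intro X Y f x
    constructor
    · rintro ⟨U, V, hU, hV, hUV, hx, hlci⟩
      exact Groth.Agent.H39.KoszulAtBridge2.isKoszulAt_of_isLCIHom_appLE f x U hU V hV hUV hx hlci
    · intro hk
      obtain ⟨V, hV, hxV, -⟩ :=
        (TopologicalSpace.Opens.isBasis_iff_nbhd.mp Y.isBasis_affineOpens)
          (TopologicalSpace.Opens.mem_top (f x))
      obtain ⟨U, hU, e, hxU, hlci⟩ :=
        Groth.Agent.H39.KoszulAtBridge3.exists_isLCIHom_appLE_of_isKoszulAt f x hk V hV hxV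
      exact ⟨U, V, hU, hV, e, hxU, hlci⟩
  refine ⟨?_, ?_⟩
  · rw [isOpen_iff_forall_mem_open]
    rintro x ⟨U, V, hU, hV, hUV, hx, hlci⟩
    exact ⟨U, fun z hz => ⟨U, V, hU, hV, hUV, hz, hlci⟩, U.2, hx⟩
  · intro X' Y' S' h gY g' hY gX f' hX w
    ext x'
    rw [Set.mem_setOf_eq, Set.mem_preimage, Set.mem_setOf_eq, key f' x', key f (gX x')]
    exact Groth.Agent.H94.KoszulLocusBC.isKoszulAt_baseChange_iff H f g h gY g' hY gX f' hX w x'

end Groth.Agent.S1494
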