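import Groth.Statements.S14958
import Groth.Agent.H87.Mil13

set_option autoImplicit false
universe u
open TensorProduct CategoryTheory CategoryTheory.Limits
open EtAlg

namespace Groth.Agent.S14958

/-- Let B' = B ×_A A' be a fibre product of commutative rings with A' → A surjective and L' a B'-module.
Then L' is a fixed point of the glueing adjunction, i.e. the canonical map from L' to the compatible
pairs in (B ⊗_{B'} L') × (A' ⊗_{B'} L') is injective (it is always surjective), if and only if the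
map Tor_1(L', B) ⊕ Tor_1(L', A') → Tor_1(L', A) over B' induced by B → A and A' → A is surjective.
Here Tor_1(L', –) is the first left derived functor of L' ⊗_{B'} – on B'-modules. -/
theorem result (B' B A' A : Type u) [CommRing B'] [CommRing B] [CommRing A'] [CommRing A]
    [Algebra B' B] [Algebra B' A'] [Algebra B A] [Algebra A' A] [Algebra B' A] [IsScalarTower B' B A] [IsScalarTower B' A' A]
    (hsq : EtMil.IsFibreSquare B' B A' A)
    (L' : Type u) [AddCommGroup L'] [Module B' L'] :
    (∀ l : L', ((1 : B) ⊗ₜ[B'] l : B ⊗[B'] L') = 0 → ((1 : A') ⊗ₜ[B'] l : A' ⊗[B'] L') = 0 → l = 0) ↔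
    Epi (biprod.desc
      (((Tor (ModuleCat.{u} B') 1).obj (ModuleCat.of B' L')).map
        (ModuleCat.ofHom (IsScalarTower.toAlgHom B' B A).toLinearMap))
      (((Tor (ModuleCat.{u} B') 1).obj (ModuleCat.of B' L')).map
        (ModuleCat.ofHom (IsScalarTower.toAlgHom B' A' A).toLinearMap))) := by
  classical
  obtain ⟨hsurjA, hfib⟩ := hsq
  let ι : B' →ₗ[B'] B × A' := (Algebra.linearMap B' B).prod (-(Algebra.linearMap B' A'))
  let u₁ : B →ₗ[B'] A := (IsScalarTower.toAlgHom B' B A).toLinearMap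
  let u₂ : A' →ₗ[B'] A := (IsScalarTower.toAlgHom B' A' A).toLinearMap
  have hι_apply : ∀ b' : B', ι b' = (algebraMap B' B b', - algebraMap B' A' b') := fun _ => rfl
  have hu_apply : ∀ (b : B) (a' : A'),
      (u₁.coprod u₂) (b, a') = algebraMap B A b + algebraMap A' A a' := fun _ _ => rfl
  have hι : Function.Injective ι := by
    rw [injective_iff_map_eq_zero]
    intro b' hb'
    rw [hι_apply, Prod.mk_eq_zero, neg_eq_zero] at hb'
    obtain ⟨c, -, hc⟩ := hfib 0 0 (by rw [map_zero, map_zero])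
    rw [hc b' hb', ← hc 0 ⟨map_zero _, map_zero _⟩]
  have hex : Function.Exact ι (u₁.coprod u₂) := by
    rintro ⟨b, a'⟩
    constructor
    · intro h
      rw [hu_apply] at h
      have h' : algebraMap B A b = algebraMap A' A (-a') := by
        rw [map_neg]; exact eq_neg_of_add_eq_zero_left h
      obtain ⟨c, ⟨hc1, hc2⟩, -⟩ := hfib b (-a') h'
      refine ⟨c, ?_⟩
      rw [hι_apply, hc1, hc2, neg_neg]
    · rintro ⟨c, hc⟩
      rw [hι_apply, Prod.mk.injEq] at hc
      rw [hu_apply, ← hc.1, ← hc.2, map_neg, ← IsScalarTower.algebraMap_apply B' B A,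
        ← IsScalarTower.algebraMap_apply B' A' A, add_neg_cancel]
  have hsurj : Function.Surjective (u₁.coprod u₂) := by
    intro a
    obtain ⟨a', rfl⟩ := hsurjA a
    exact ⟨(0, a'), by rw [hu_apply, map_zero, zero_add]⟩
  have key := Groth.Agent.H87.Mil13.epi_tor_desc_iff (R := B') L' B' B A' A ι u₁ u₂ hι hex hsurj
  rw [key]
  -- elementwise description
  have hx : ∀ x : L' ⊗[B'] B', x = (TensorProduct.rid B' L' x) ⊗ₜ[B'] (1 : B') := by
    intro x
    conv_lhs => rw [← (TensorProduct.rid B' L').symm_apply_apply x]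
    rfl
  have hB : ∀ l : L', (TensorProduct.comm B' B L') ((1 : B) ⊗ₜ[B'] l) = l ⊗ₜ[B'] (1 : B) :=
    fun _ => rfl
  have hA' : ∀ l : L', (TensorProduct.comm B' A' L') ((1 : A') ⊗ₜ[B'] l) = l ⊗ₜ[B'] (1 : A') :=
    fun _ => rfl
  have hι1 : ∀ l : L', LinearMap.lTensor L' ι (l ⊗ₜ[B'] (1 : B')) =
      l ⊗ₜ[B'] ((1 : B), (-1 : A')) := by
    intro l
    rw [LinearMap.lTensor_tmul, hι_apply, map_one, map_one]
  constructor
  · intro h
    rw [injective_iff_map_eq_zero]
    intro x hx0
    rw [hx x] at hx0 ⊢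
    set l := TensorProduct.rid B' L' x with hl
    rw [hι1] at hx0
    have h1 : l ⊗ₜ[B'] (1 : B) = 0 := by
      have := congrArg (LinearMap.lTensor L' (LinearMap.fst B' B A')) hx0
      rwa [LinearMap.lTensor_tmul, map_zero] at this
    have h2 : l ⊗ₜ[B'] (1 : A') = 0 := by
      have := congrArg (LinearMap.lTensor L' (LinearMap.snd B' B A')) hx0
      rw [LinearMap.lTensor_tmul, map_zero] at this
      change l ⊗ₜ[B'] (-1 : A') = 0 at this
      rwa [TensorProduct.tmul_neg, neg_eq_zero] at this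
    have h1' : ((1 : B) ⊗ₜ[B'] l : B ⊗[B'] L') = 0 := by
      apply (TensorProduct.comm B' B L').injective
      rw [hB, h1, map_zero]
    have h2' : ((1 : A') ⊗ₜ[B'] l : A' ⊗[B'] L') = 0 := by
      apply (TensorProduct.comm B' A' L').injective
      rw [hA', h2, map_zero]
    rw [h l h1' h2', TensorProduct.zero_tmul]
  · intro h l h1 h2
    have h1' : l ⊗ₜ[B'] (1 : B) = 0 := by rw [← hB, h1, map_zero]
    have h2' : l ⊗ₜ[B'] (1 : A') = 0 := by rw [← hA', h2, map_zero]
    have h3 : LinearMap.lTensor L' ι (l ⊗ₜ[B'] (1 : B')) = 0 := by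
      rw [hι1]
      have : ((1 : B), (-1 : A')) = LinearMap.inl B' B A' 1 - LinearMap.inr B' B A' 1 := by
        ext <;> simp
      rw [this, TensorProduct.tmul_sub, ← LinearMap.lTensor_tmul, ← LinearMap.lTensor_tmul, h1', h2',
        map_zero, map_zero, sub_zero]
    have h4 := h (by rw [h3, map_zero] : LinearMap.lTensor L' ι (l ⊗ₜ[B'] (1 : B')) =
      LinearMap.lTensor L' ι 0)
    have h5 := congrArg (TensorProduct.rid B' L') h4
    rwa [TensorProduct.rid_tmul, one_smul, map_zero] at h5

end Groth.Agent.S14958
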