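import Groth.Statements.S1496
import Groth.Agent.H18.VA.ProjSpaceBasic
import Groth.Agent.S9710

set_option autoImplicit false
universe u
attribute [local instance] HasDerivedCategory.standard
open FlatMor

namespace Groth.Agent.S1496

open AlgebraicGeometry CategoryTheory Limits in
/-- Let S be a scheme carrying an ample invertible sheaf and f : X → S a morphism. Then f is a closed
immersion into some projective space over S (f factors as a closed immersion X → Pⁿ_S followed by
the projection Pⁿ_S → S, for some n) if and only if f is proper and X carries an ample invertible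
sheaf; and the latter holds if and only if f is proper and some O_X-module is ample relative to f. -/
theorem result {X S : Scheme.{u}} (hS : ∃ N : S.Modules, CohB1.IsAmple N) (f : X ⟶ S) :
    ((∃ (n : ℕ) (i : X ⟶ CohB1.ProjSpaceOver n S), IsClosedImmersion i ∧ i ≫ pullback.snd (CohB1.ProjSpace.toSpec n (ULift.{u} ℤ)) (specULiftZIsTerminal.from S) = f) ↔
      (IsProper f ∧ ∃ L : X.Modules, CohB1.IsAmple L)) ∧
    ((IsProper f ∧ ∃ L : X.Modules, CohB1.IsAmple L) ↔ (IsProper f ∧ ∃ L : X.Modules, RelAmple.IsRelAmple f L)) := by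
  obtain ⟨N, hN⟩ := hS
  haveI : CompactSpace S := hN.2.1
  refine ⟨⟨?_, ?_⟩, ⟨?_, ?_⟩⟩
  · rintro ⟨n, i, hi, hcomm⟩
    have hp : IsProper f := by
      rw [← hcomm]
      exact MorphismProperty.comp_mem (W := @IsProper) _ _ inferInstance inferInstance
    refine ⟨hp, ?_⟩
    haveI : CompactSpace X := QuasiCompact.compactSpace_of_compactSpace f
    obtain ⟨M, hM⟩ := Groth.Agent.H18.VA.exists_isAmple_projSpaceOver n hN
    exact ⟨_, Groth.Agent.H67.AmplePullback.isAmple_pullback_of_isEmbedding i
      (Scheme.Hom.isEmbedding i) M hM⟩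
  · rintro ⟨hp, L, hL⟩
    obtain ⟨d₀, -, h⟩ := Groth.Agent.S9710.result f L hL
    obtain ⟨n, i, hi, hcomm, -⟩ := h d₀ le_rfl
    refine ⟨n, i, ?_, hcomm⟩
    haveI : IsProper (i ≫ pullback.snd (CohB1.ProjSpace.toSpec n (ULift.{u} ℤ))
        (specULiftZIsTerminal.from S)) := by rw [hcomm]; exact hp
    haveI : IsProper i := IsProper.of_comp i (pullback.snd (CohB1.ProjSpace.toSpec n (ULift.{u} ℤ))
        (specULiftZIsTerminal.from S))
    exact IsClosedImmersion.of_isPreimmersion i i.isClosedMap.isClosed_range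
  · rintro ⟨hp, L, hL⟩
    refine ⟨hp, L, inferInstance, fun V => ?_⟩
    exact Groth.Agent.H18.STL.isAmple_restrict hL _ (isCompact_iff_compactSpace.1
      (QuasiCompact.isCompact_preimage (f := f) _ V.1.isOpen V.2.isCompact))
  · rintro ⟨hp, L, hL⟩
    refine ⟨hp, ?_⟩
    let g := specULiftZIsTerminal.from S
    haveI : QuasiCompact g := by
      rw [HasAffineProperty.iff_of_isAffine (P := @QuasiCompact)]
      infer_instance
    have hK : RelAmple.IsRelAmple g N :=
      (Groth.Agent.H18.STL.isRelAmple_iff_isAmple_of_isAffine _ _).2 hN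
    obtain ⟨n₀, -, h⟩ :=
      Groth.Agent.H18.STL.exists_isRelAmple_comp_tensorMod_pullback_tensorPow f g hL hK
    have h1 := (Groth.Agent.H18.STL.isRelAmple_iff_isAmple_of_isAffine _ _).1 (h n₀ le_rfl)
    exact ⟨_, h1⟩

end Groth.Agent.S1496
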