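import Groth.Statements.S1497
import Groth.Agent.H18.VA.ProjSpaceBasic
import Groth.Agent.S9710

set_option autoImplicit false
universe u
attribute [local instance] HasDerivedCategory.standard
open FlatMor

namespace Groth.Agent.S1497

open AlgebraicGeometry CategoryTheory Limits in
/-- Let S be a scheme with an ample invertible sheaf and f : X → S a morphism. Then f is a quasi-compact
immersion into some projective space P^n_S over S if and only if f is of finite type and X has an
ample invertible sheaf. -/
theorem result {X S : Scheme.{u}} (hS : ∃ N : S.Modules, CohB1.IsAmple N) (f : X ⟶ S) :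
    (∃ (n : ℕ) (i : X ⟶ CohB1.ProjSpaceOver n S), IsImmersion i ∧ QuasiCompact i ∧ i ≫ pullback.snd (CohB1.ProjSpace.toSpec n (ULift.{u} ℤ)) (specULiftZIsTerminal.from S) = f) ↔
      (LocallyOfFiniteType f ∧ QuasiCompact f ∧ ∃ L : X.Modules, CohB1.IsAmple L) := by
  constructor
  · rintro ⟨n, i, hi, hqc, hcomm⟩
    obtain ⟨N, hN⟩ := hS
    haveI : CompactSpace S := hN.2.1
    have hft : LocallyOfFiniteType f := by
      rw [← hcomm]
      exact MorphismProperty.comp_mem (W := @LocallyOfFiniteType) _ _ inferInstance inferInstance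
    have hqcf : QuasiCompact f := by
      rw [← hcomm]
      exact MorphismProperty.comp_mem (W := @QuasiCompact) _ _ inferInstance inferInstance
    refine ⟨hft, hqcf, ?_⟩
    haveI : CompactSpace X := QuasiCompact.compactSpace_of_compactSpace f
    obtain ⟨M, hM⟩ := Groth.Agent.H18.VA.exists_isAmple_projSpaceOver n hN
    exact ⟨_, Groth.Agent.H67.AmplePullback.isAmple_pullback_of_isEmbedding i
      (Scheme.Hom.isEmbedding i) M hM⟩
  · rintro ⟨hft, hqc, L, hL⟩
    obtain ⟨d₀, -, h⟩ := Groth.Agent.S9710.result f L hL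
    obtain ⟨n, i, hi, hcomm, -⟩ := h d₀ le_rfl
    refine ⟨n, i, hi, ?_, hcomm⟩
    haveI : QuasiCompact (i ≫ pullback.snd (CohB1.ProjSpace.toSpec n (ULift.{u} ℤ))
        (specULiftZIsTerminal.from S)) := by rw [hcomm]; exact hqc
    exact QuasiCompact.of_comp i (pullback.snd (CohB1.ProjSpace.toSpec n (ULift.{u} ℤ))
        (specULiftZIsTerminal.from S))

end Groth.Agent.S1497
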