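import Groth.Statements.S14988
import Groth.Agent.H18.ResProp.RelGen

set_option autoImplicit false
universe u
open CategoryTheory CategoryTheory.Limits AlgebraicGeometry
open ResProp

namespace Groth.Agent.S14988

/-- In the case of schemes, let f : X ⟶ Y be a morphism of quasi-compact quasi-separated schemes. If
every quasi-coherent module on Y is a quotient of a direct sum of finite locally free modules (Y has
the resolution property) and some family (W_i) of finite locally free modules on X is f-generating,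
i.e. every quasi-coherent module on X is a quotient of a direct sum of modules W_i ⊗ f^*N with N
quasi-coherent on Y, then every quasi-coherent module on X is a quotient of a direct sum of finite
locally free modules (X has the resolution property). (The published statement is for quasi-compact
quasi-separated morphisms of algebraic stacks and assumes the family universally f-generating; this
row is the case of schemes and assumes the family only f-generating, which is what the argument
uses.) -/
theorem result {X Y : Scheme.{u}}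
    [CompactSpace X] [QuasiSeparatedSpace X] [CompactSpace Y] [QuasiSeparatedSpace Y] (f : X ⟶ Y)
    (hY : ∀ N : Y.Modules, Coh.IsQCoh N →
      ∃ (κ : Type u) (V : κ → Y.Modules) (π : (∐ V) ⟶ N), (∀ k, FlatMod.IsFinLocFree (V k)) ∧ Epi π)
    {ι : Type u} (W : ι → X.Modules) (hW : ∀ i, FlatMod.IsFinLocFree (W i))
    (hf : ∀ M : X.Modules, Coh.IsQCoh M →
      ∃ (κ : Type u) (j : κ → ι) (N : κ → Y.Modules)
        (π : (∐ fun k => CohB1.tensorMod (W (j k)) ((Scheme.Modules.pullback f).obj (N k))) ⟶ M),
        (∀ k, Coh.IsQCoh (N k)) ∧ Epi π) :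
    ∀ M : X.Modules, Coh.IsQCoh M →
      ∃ (κ : Type u) (E : κ → X.Modules) (π : (∐ E) ⟶ M), (∀ k, FlatMod.IsFinLocFree (E k)) ∧ Epi π := by
  classical
  intro M hM
  obtain ⟨κ, j, N, π, hNq, hπ⟩ := hf M hM
  haveI := hπ
  choose κ' V π' hV hπ' using fun k => hY (N k) (hNq k)
  let π₀ : (∐ fun k => (Groth.Agent.H18.ResProp.twistPull f (W (j k))).obj (N k)) ⟶ M := π
  haveI : Epi π₀ := hπ
  let E : (Σ k, κ' k) → X.Modules := fun p =>
    (Groth.Agent.H18.ResProp.twistPull f (W (j p.1))).obj (V p.1 p.2)
  let ρ : ∀ p : Σ k, κ' k, E p ⟶ M := fun p =>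
    (Groth.Agent.H18.ResProp.twistPull f (W (j p.1))).map (Sigma.ι (V p.1) p.2 ≫ π' p.1) ≫
      Sigma.ι (fun k => (Groth.Agent.H18.ResProp.twistPull f (W (j k))).obj (N k)) p.1 ≫ π₀
  refine ⟨Σ k, κ' k, E, Sigma.desc ρ, ?_, ?_⟩
  · intro p
    exact Groth.Agent.H18.ResProp.isFinLocFree_twistPull f _ (hW _) _ (hV p.1 p.2)
  · refine ⟨fun {Z} g h hgh => ?_⟩
    rw [← cancel_epi π₀]
    apply Sigma.hom_ext
    intro k
    haveI : Epi (π' k) := hπ' k
    haveI : Epi ((Groth.Agent.H18.ResProp.twistPull f (W (j k))).map (π' k)) :=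
      (Groth.Agent.H18.ResProp.twistPull f (W (j k))).map_epi (π' k)
    rw [← cancel_epi ((Groth.Agent.H18.ResProp.twistPull f (W (j k))).map (π' k))]
    refine Groth.Agent.H18.ResProp.twistPull_hom_ext f (W (j k)) (V k) _ _ (fun l => ?_)
    have h1 : Sigma.ι E ⟨k, l⟩ ≫ Sigma.desc ρ ≫ g = Sigma.ι E ⟨k, l⟩ ≫ Sigma.desc ρ ≫ h := by
      rw [hgh]
    rw [Sigma.ι_desc_assoc, Sigma.ι_desc_assoc] at h1
    have h2 : ρ ⟨k, l⟩ = (Groth.Agent.H18.ResProp.twistPull f (W (j k))).map (Sigma.ι (V k) l) ≫
        (Groth.Agent.H18.ResProp.twistPull f (W (j k))).map (π' k) ≫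
      Sigma.ι (fun k => (Groth.Agent.H18.ResProp.twistPull f (W (j k))).obj (N k)) k ≫ π₀ := by
      change (Groth.Agent.H18.ResProp.twistPull f (W (j k))).map (Sigma.ι (V k) l ≫ π' k) ≫ _ = _
      rw [Functor.map_comp, Category.assoc]
    rw [h2] at h1
    simpa only [Category.assoc] using h1

end Groth.Agent.S14988
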