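import Groth.Statements.S1499
import Groth.Agent.H18.STL.TwistExtend
import Groth.Agent.H18.STL.PullQuasiAffine

set_option autoImplicit false
universe u
attribute [local instance] HasDerivedCategory.standard
open FlatMor

namespace Groth.Agent.S1499

open AlgebraicGeometry CategoryTheory Limits in
/-- Let f : X → Y with Y having an ample family of invertible modules, and suppose some O_X-module is
ample relative to f. Then X has an ample family of invertible modules. -/
theorem result {X Y : Scheme.{u}} (f : X ⟶ Y)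
    (hY : MoreMor.HasAmpleFamily Y) (L : X.Modules) (hL : RelAmple.IsRelAmple f L) :
    MoreMor.HasAmpleFamily X := by
  open Groth.Agent.H18 Groth.Agent.H18.PUP Groth.Agent.H18.STL in
  obtain ⟨hYc, hYcov⟩ := hY
  have hLinv := isInvertible_of_isRelAmple f hL
  obtain ⟨hfqc, hA⟩ := hL
  haveI hXc : CompactSpace X := by
    have := QuasiCompact.isCompact_preimage (f := f) _ isOpen_univ hYc.isCompact_univ
    rw [Set.preimage_univ] at this
    exact ⟨this⟩
  choose K n t hKinv hn hyt htaff using hYcov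
  haveI hXqs : QuasiSeparatedSpace X := by
    refine quasiSeparatedSpace_of_qs_cover (fun y : Y => f ⁻¹ᵁ CohB1.genLocus _ (t y))
      (fun x => ⟨f x, hyt (f x)⟩) (fun y => ?_) (fun y y' => ?_)
    · have h1 := hA ⟨_, htaff y⟩
      have hq : QuasiSeparatedSpace ↥(f ⁻¹ᵁ CohB1.genLocus _ (t y) : Scheme.{u}) :=
        quasiSeparatedSpace_of_cover h1.1 h1.2.2
      exact (isQuasiSeparated_iff_quasiSeparatedSpace _ (f ⁻¹ᵁ CohB1.genLocus _ (t y)).isOpen).2 hq
    · have haff : IsAffineOpen (CohB1.genLocus _ (t y) ⊓ CohB1.genLocus _ (t y')) :=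
        isAffineOpen_genLocus_inf (isInvertible_tensorPow (hKinv y) _) (t y) (htaff y')
      exact QuasiCompact.isCompact_preimage (f := f) _
        (CohB1.genLocus _ (t y) ⊓ CohB1.genLocus _ (t y')).isOpen haff.isCompact
  refine ⟨hXc, fun x => ?_⟩
  obtain ⟨𝔘, c, e, h⟩ := exists_cover_cocycle (hKinv (f x))
  have hN : PicF.IsInvertible ((Scheme.Modules.pullback f).obj
      (CohB1.tensorPow (K (f x)) (n (f x)))) := ((h.lpow (n (f x))).pull f).isInvertible
  have hG : CohB1.genLocus ((Scheme.Modules.pullback f).obj (CohB1.tensorPow (K (f x)) (n (f x))))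
      (sectionHom _ (OmegaSh.pullSect f _ ⊤ (Groth.Agent.H54.PB.evOne _ (t (f x))))) =
      f ⁻¹ᵁ CohB1.genLocus _ (t (f x)) := by
    have := Groth.Agent.H67.PullGenLocus.genLocus_sectionHom_pullSect f
      (CohB1.tensorPow (K (f x)) (n (f x))) (isInvertible_tensorPow (hKinv (f x)) _)
      (Groth.Agent.H54.PB.evOne _ (t (f x)))
    rw [Groth.Agent.H67.PullGenLocus.sectionHom_evOne] at this
    exact this
  have hA' : CohB1.IsAmple (L.restrict (CohB1.genLocus
      ((Scheme.Modules.pullback f).obj (CohB1.tensorPow (K (f x)) (n (f x))))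
      (sectionHom _ (OmegaSh.pullSect f _ ⊤ (Groth.Agent.H54.PB.evOne _ (t (f x)))))).ι) := by
    rw [hG]; exact hA ⟨_, htaff (f x)⟩
  have hxG : x ∈ CohB1.genLocus
      ((Scheme.Modules.pullback f).obj (CohB1.tensorPow (K (f x)) (n (f x))))
      (sectionHom _ (OmegaSh.pullSect f _ ⊤ (Groth.Agent.H54.PB.evOne _ (t (f x))))) := by
    rw [hG]; exact hyt (f x)
  obtain ⟨k, s', hz, haff⟩ := hA'.2.2 ⟨x, hxG⟩
  obtain ⟨s, hs⟩ := (exists_transfer_restrict_tensorPow hLinv _ (k + 1)).2 s'
  obtain ⟨m, a, ha⟩ := exists_section_of_restrict_genLocus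
    (isInvertible_tensorPow hLinv (k + 1)) hN _ s
  have h𝓛 : PicF.IsInvertible (CohB1.tensorMod (CohB1.tensorMod (CohB1.tensorPow L (k + 1))
      (CohB1.tensorPow ((Scheme.Modules.pullback f).obj
        (CohB1.tensorPow (K (f x)) (n (f x)))) m))
      ((Scheme.Modules.pullback f).obj (CohB1.tensorPow (K (f x)) (n (f x))))) :=
    isInvertible_tensorMod (isInvertible_tensorMod (isInvertible_tensorPow hLinv (k + 1))
      (isInvertible_tensorPow hN m)) hN
  obtain ⟨𝔄⟩ := nonempty_atlas h𝓛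
  obtain ⟨b, -, hb⟩ := (hasWeight_self 𝔄).exists_transfer (hasWeight_tensorPow 𝔄 (0 + 1)) a
  refine ⟨_, 1, b, h𝓛, le_rfl, ?_, ?_⟩
  · rw [hb, ha, hs]; exact ⟨⟨x, hxG⟩, hz, rfl⟩
  · rw [hb, ha, hs]; exact haff.image_of_isOpenImmersion _

end Groth.Agent.S1499
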