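import Groth.Statements.S14997
import Groth.Agent.H75.LexShift

set_option autoImplicit false
open HilbPol

namespace Groth.Agent.S14997

open Polynomial in
/-- Let d and ℓ be natural numbers with ℓ + 1 ≤ d, let a be a nonzero rational number and let P, Q be
polynomials with rational coefficients, both of degree exactly d. For a polynomial R of degree e
write R(m) = Σ_i α_i(R) m^i / i! (so α_i(R) = i! · coeff_i(R)) and let r_ℓ(R) ∈ ℚ^ℓ be the vector
(α_{e−1}(R)/α_e(R), …, α_{e−ℓ}(R)/α_e(R)) of the ℓ coefficients after the leading one of the reduced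
polynomial R/α_e(R), ordered lexicographically. The polynomials P(m) − P(m − a) and Q(m) − Q(m − a)
have degree d − 1, and r_ℓ(P) ≤ r_ℓ(Q) lexicographically if and only if r_ℓ(P(m) − P(m − a)) ≤
r_ℓ(Q(m) − Q(m − a)) lexicographically (hence the same with strict inequalities, by exchanging P and
Q). When P and Q are the Hilbert polynomials of pure d-dimensional coherent sheaves E → F on a
polarized projective scheme and D is a hypersurface section of degree a containing no associated
point of E or F, the Hilbert polynomials of E|_D and F|_D are P(m) − P(m − a) and Q(m) − Q(m − a),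
and the two sides are the comparisons of the ℓ-truncated reduced Hilbert polynomials p_ℓ(E) ≥ p_ℓ(F)
and p_ℓ(E|_D) ≥ p_ℓ(F|_D). (The published statement is phrased for the sheaves; this row is the
statement about their Hilbert polynomials that the displayed coefficient formula yields.) -/
theorem result (d ℓ : ℕ) (hℓ : ℓ + 1 ≤ d) (a : ℚ) (ha : a ≠ 0)
    (P Q : ℚ[X]) (hP : P.natDegree = d) (hQ : Q.natDegree = d) (hP0 : P ≠ 0) (hQ0 : Q ≠ 0) :
    toLex (fun j : Fin ℓ => ((P).coeff (d - 1 - (j : ℕ)) * (Nat.factorial (d - 1 - (j : ℕ)) : ℚ)) / ((P).coeff (d) * (Nat.factorial (d) : ℚ))) ≤ toLex (fun j : Fin ℓ => ((Q).coeff (d - 1 - (j : ℕ)) * (Nat.factorial (d - 1 - (j : ℕ)) : ℚ)) / ((Q).coeff (d) * (Nat.factorial (d) : ℚ))) ↔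
      toLex (fun j : Fin ℓ => ((P - P.comp (X - C a)).coeff ((d - 1) - 1 - (j : ℕ)) * (Nat.factorial ((d - 1) - 1 - (j : ℕ)) : ℚ)) / ((P - P.comp (X - C a)).coeff ((d - 1)) * (Nat.factorial ((d - 1)) : ℚ))) ≤
        toLex (fun j : Fin ℓ => ((Q - Q.comp (X - C a)).coeff ((d - 1) - 1 - (j : ℕ)) * (Nat.factorial ((d - 1) - 1 - (j : ℕ)) : ℚ)) / ((Q - Q.comp (X - C a)).coeff ((d - 1)) * (Nat.factorial ((d - 1)) : ℚ))) := by
  have hPd : P.coeff d * (d.factorial : ℚ) ≠ 0 := by
    have h1 : P.coeff d ≠ 0 := by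
      rw [← hP]; exact leadingCoeff_ne_zero.mpr hP0
    have h2 : (d.factorial : ℚ) ≠ 0 := by positivity
    exact mul_ne_zero h1 h2
  have hQd : Q.coeff d * (d.factorial : ℚ) ≠ 0 := by
    have h1 : Q.coeff d ≠ 0 := by
      rw [← hQ]; exact leadingCoeff_ne_zero.mpr hQ0
    have h2 : (d.factorial : ℚ) ≠ 0 := by positivity
    exact mul_ne_zero h1 h2
  apply Groth.Agent.H75.lex_le_iff
  intro j hj
  have hj2 : (j : ℕ) + 2 ≤ d := by have := j.2; omega
  show _ / _ - _ / _ = _ / _ - _ / _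
  rw [Groth.Agent.H75.xprime_formula P a d j hj2 hP, Groth.Agent.H75.xprime_formula Q a d j hj2 hQ,
    ← Finset.sum_sub_distrib, Finset.sum_range_succ']
  have e0 : 0 + 1 + (d - 1 - 1 - (j : ℕ)) = d - 1 - (j : ℕ) := by omega
  have hw : (-((-a) ^ (0 + 1) / (((0 + 1).factorial : ℕ) : ℚ)) / a) = 1 := by
    simp only [zero_add, pow_one, Nat.factorial_one, Nat.cast_one, div_one, neg_neg]
    exact div_self ha
  rw [e0, hw, mul_one, mul_one]
  have hzero : ∀ t ∈ Finset.range ((j : ℕ) + 1),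
      (P.coeff (t + 1 + 1 + (d - 1 - 1 - (j : ℕ))) *
          ((t + 1 + 1 + (d - 1 - 1 - (j : ℕ))).factorial : ℚ)) /
            (P.coeff d * (d.factorial : ℚ)) *
            (-((-a) ^ (t + 1 + 1) / ((t + 1 + 1).factorial : ℚ)) / a) -
      (Q.coeff (t + 1 + 1 + (d - 1 - 1 - (j : ℕ))) *
          ((t + 1 + 1 + (d - 1 - 1 - (j : ℕ))).factorial : ℚ)) /
            (Q.coeff d * (d.factorial : ℚ)) *
            (-((-a) ^ (t + 1 + 1) / ((t + 1 + 1).factorial : ℚ)) / a) = 0 := by
    intro t ht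
    rw [Finset.mem_range] at ht
    rw [← sub_mul]
    rcases Nat.lt_or_ge t (j : ℕ) with hlt | hge
    · have hi : (j : ℕ) - t - 1 < ℓ := by have := j.2; omega
      have hij : (⟨(j : ℕ) - t - 1, hi⟩ : Fin ℓ) < j := by
        rw [Fin.lt_def]; show (j : ℕ) - t - 1 < (j : ℕ); omega
      have := hj ⟨(j : ℕ) - t - 1, hi⟩ hij
      have e : t + 1 + 1 + (d - 1 - 1 - (j : ℕ)) = d - 1 - ((j : ℕ) - t - 1) := by omega
      rw [e]
      simp only at this
      rw [this, sub_self, zero_mul]
    · have e : t + 1 + 1 + (d - 1 - 1 - (j : ℕ)) = d := by omega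
      rw [e, div_self hPd, div_self hQd, sub_self, zero_mul]
  rw [Finset.sum_eq_zero hzero, zero_add]

end Groth.Agent.S14997
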