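import Groth.Statements.S15003
import Groth.Agent.H39.FiniteRegularFlat
import Groth.Agent.H75.FibreCountSch

set_option autoImplicit false
universe u
open CategoryTheory CategoryTheory.Limits AlgebraicGeometry
open Harb
open TopologicalSpace

namespace Groth.Agent.S15003

/-- Let k be an algebraically closed field and let π : Y → X be a finite, surjective and unramified
k-morphism of smooth varieties over k (X and Y integral, separated and of finite type over k with
all local rings regular) which sends the generic point of Y to the generic point of X, so that the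
function field k(X) embeds in k(Y). Then for every closed point p of X the fibre π⁻¹(p) consists of
exactly deg π points, where deg π = [k(Y) : k(X)] is the degree of that field extension. -/
theorem result (k : Type u) [Field k] [IsAlgClosed k]
    (X Y : Scheme.{u}) [X.Over (Spec (CommRingCat.of k))] [Y.Over (Spec (CommRingCat.of k))]
    [IsIntegral X] [IsIntegral Y]
    [IsSeparated (X ↘ (Spec (CommRingCat.of k)))] [LocallyOfFiniteType (X ↘ (Spec (CommRingCat.of k)))]
    [QuasiCompact (X ↘ (Spec (CommRingCat.of k)))]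
    [IsSeparated (Y ↘ (Spec (CommRingCat.of k)))] [LocallyOfFiniteType (Y ↘ (Spec (CommRingCat.of k)))]
    [QuasiCompact (Y ↘ (Spec (CommRingCat.of k)))]
    (hregX : ∀ x : X, IsRegularLocalRing (X.presheaf.stalk x))
    (hregY : ∀ y : Y, IsRegularLocalRing (Y.presheaf.stalk y))
    (π : Y ⟶ X) (hπ : π ≫ (X ↘ (Spec (CommRingCat.of k))) = (Y ↘ (Spec (CommRingCat.of k))))
    [AlgebraicGeometry.IsFinite π] [AlgebraicGeometry.Surjective π] [AlgebraicGeometry.FormallyUnramified π]
    (e : π.base (genericPoint Y) = genericPoint X) (p : X) (hp : IsClosed ({p} : Set X)) :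
    Nat.card {q : Y // π.base q = p} =
      Models.homDegree (X.presheaf.stalkSpecializes (specializes_of_eq e) ≫ π.stalkMap (genericPoint Y)).hom := by
  haveI : IsLocallyNoetherian X :=
    LocallyOfFiniteType.isLocallyNoetherian (X ↘ Spec (CommRingCat.of k))
  haveI : IsLocallyNoetherian Y :=
    LocallyOfFiniteType.isLocallyNoetherian (Y ↘ Spec (CommRingCat.of k))
  -- flatness
  haveI : Flat π := by
    refine Groth.Agent.H39.FiniteRegularFlat.flat_of_finite_regular π hregY hregX ?_
    intro Z hZ
    rw [irreducibleComponents_eq_singleton] at hZ ⊢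
    rw [Set.mem_singleton_iff] at hZ ⊢
    rw [hZ, Set.image_univ, π.surjective.range_eq, closure_univ]
  -- affine chart
  obtain ⟨_, ⟨U, hU, rfl⟩, hpU, -⟩ :=
    X.isBasis_affineOpens.exists_subset_of_mem_open (Set.mem_univ p) isOpen_univ
  have hU' : IsAffineOpen U := hU
  have hV : IsAffineOpen (π ⁻¹ᵁ U) := hU'.preimage π
  rw [Groth.Agent.H75.FibreCountSch.card_fibre_eq π hU' hV p hpU]
  haveI : Nonempty U := ⟨⟨p, hpU⟩⟩
  haveI : Nonempty (π ⁻¹ᵁ U) := by
    obtain ⟨q, hq⟩ := π.surjective p
    exact ⟨⟨q, by change π q ∈ U; rw [hq]; exact hpU⟩⟩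
  -- algebra structures
  have hfin : (π.app U).hom.Finite := IsFinite.finite_app π U hU'
  have hflat : (π.app U).hom.Flat := by
    have := π.flat_appLE hU' hV le_rfl
    rwa [Scheme.Hom.appLE_eq_app] at this
  have hunr : (π.app U).hom.FormallyUnramified := by
    have := π.formallyUnramified_appLE hU' hV le_rfl
    rwa [Scheme.Hom.appLE_eq_app] at this
  algebraize [(π.app U).hom]
  -- the k-algebra structure
  let φk : k →+* Γ(X, U) := ((Scheme.ΓSpecIso (CommRingCat.of k)).inv ≫
    (X ↘ Spec (CommRingCat.of k)).appLE ⊤ U le_top).hom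
  have hφk : φk.FiniteType := by
    have h1 := (X ↘ Spec (CommRingCat.of k)).finiteType_appLE (isAffineOpen_top _) hU' le_top
    have h2 : (Scheme.ΓSpecIso (CommRingCat.of k)).inv.hom.FiniteType :=
      RingHom.FiniteType.of_surjective _
        (ConcreteCategory.bijective_of_isIso (Scheme.ΓSpecIso (CommRingCat.of k)).inv).surjective
    exact h1.comp h2
  letI : Algebra k Γ(X, U) := φk.toAlgebra
  haveI : Algebra.FiniteType k Γ(X, U) := hφk
  have hm : (hU'.primeIdealOf ⟨p, hpU⟩).asIdeal.IsMaximal :=
    hU'.primeIdealOf_isMaximal_of_isClosed ⟨p, hpU⟩ hp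
  have hcount := Groth.Agent.H75.FibreCount.card_fibre_eq_finrank k Γ(X, U) Γ(Y, π ⁻¹ᵁ U)
    (hU'.primeIdealOf ⟨p, hpU⟩) hm
  refine hcount.trans ?_
  -- the degree
  unfold Models.homDegree
  letI algKL : Algebra X.functionField Y.functionField :=
    (X.presheaf.stalkSpecializes (specializes_of_eq e) ≫ π.stalkMap (genericPoint Y)).hom.toAlgebra
  letI : Algebra Γ(X, U) Y.functionField :=
    ((algebraMap X.functionField Y.functionField).comp
      (algebraMap Γ(X, U) X.functionField)).toAlgebra
  haveI : IsScalarTower Γ(X, U) X.functionField Y.functionField :=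
    IsScalarTower.of_algebraMap_eq' rfl
  haveI : IsScalarTower Γ(X, U) Γ(Y, π ⁻¹ᵁ U) Y.functionField := by
    refine IsScalarTower.of_algebraMap_eq' ?_
    change ((X.presheaf.stalkSpecializes (specializes_of_eq e) ≫
      π.stalkMap (genericPoint Y)).hom).comp (X.germToFunctionField U).hom =
        (Y.germToFunctionField (π ⁻¹ᵁ U)).hom.comp (π.app U).hom
    rw [← CommRingCat.hom_comp, ← CommRingCat.hom_comp]
    congr 1
    unfold Scheme.germToFunctionField
    rw [← Category.assoc, TopCat.Presheaf.germ_stalkSpecializes, Scheme.Hom.germ_stalkMap]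
  haveI := functionField_isFractionRing_of_isAffineOpen X U hU'
  haveI := functionField_isFractionRing_of_isAffineOpen Y (π ⁻¹ᵁ U) hV
  exact (IsFractionRing.finrank_eq Γ(X, U) X.functionField Γ(Y, π ⁻¹ᵁ U) Y.functionField).symm

end Groth.Agent.S15003
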