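import Groth.Statements.S15004
import Groth.Agent.H75.Incidence
import Mathlib.Tactic

set_option autoImplicit false
universe u v
open Harb

namespace Groth.Agent.S15004

/-- Let C be a finite family of d curves, recorded as an incidence relation between a type of points and
a finite index type, such that any two distinct curves of the family meet in exactly h points; for a
point p write r_p for the number of curves of the family through p. Then for every curve C_i of the
family, Σ_{p ∈ C_i} (r_p − 1) = h (d − 1), the sum being finitely supported. (The published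
statement is for a transversal arrangement of curves on a geometrically ruled surface with invariant
e, all numerically equivalent to a C₀ + b f, where any two of the curves meet transversally in h =
2ab − a²e points; only this common pairwise intersection count enters the proof, and this row states
the identity for an abstract incidence relation.) -/
theorem result (P : Type u) (ι : Type v) [Fintype ι]
    (inc : P → ι → Prop) (h : ℕ)
    (hfin : ∀ i j : ι, i ≠ j → {p : P | inc p i ∧ inc p j}.Finite)
    (hcount : ∀ i j : ι, i ≠ j → {p : P | inc p i ∧ inc p j}.ncard = h) (i : ι) :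
    ∑ᶠ p ∈ {p : P | inc p i}, (Nat.card {j : ι // inc p j} - 1) = h * (Fintype.card ι - 1) := by
  classical
  have hMfin : {p : P | 2 ≤ Nat.card {j : ι // inc p j}}.Finite :=
    Groth.Agent.H75.multi_finite inc hfin
  set Mf := hMfin.toFinset with hMf
  have memM : ∀ p, p ∈ Mf ↔ ∃ i j, i ≠ j ∧ inc p i ∧ inc p j := by
    intro p
    rw [hMf, Set.Finite.mem_toFinset, Set.mem_ofPred_eq, Groth.Agent.H75.two_le_card_iff]
  have hr : ∀ p, Nat.card {j : ι // inc p j} = (Finset.univ.filter (fun j => inc p j)).card :=
    fun p => Groth.Agent.H75.natCard_eq_filter inc p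
  let T : Finset P := Mf.filter (fun p => inc p i)
  have hsupp : {p : P | inc p i} ∩ Function.support (fun p => Nat.card {j : ι // inc p j} - 1) =
      ↑T ∩ Function.support (fun p => Nat.card {j : ι // inc p j} - 1) := by
    ext p
    simp only [Set.mem_inter_iff, Set.mem_ofPred_eq, Function.mem_support, T, Finset.coe_filter,
      hMf, Set.Finite.mem_toFinset]
    constructor
    · rintro ⟨h1, h2⟩
      exact ⟨⟨by omega, h1⟩, h2⟩
    · rintro ⟨⟨_, h1⟩, h2⟩
      exact ⟨h1, h2⟩
  rw [finsum_mem_eq_sum_of_inter_support_eq _ hsupp]
  have hterm : ∀ p ∈ T, Nat.card {j : ι // inc p j} - 1 =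
      ∑ j ∈ Finset.univ.erase i, if inc p j then 1 else 0 := by
    intro p hp
    have hpi : inc p i := (Finset.mem_filter.mp hp).2
    rw [hr, ← Finset.card_filter]
    have : (Finset.univ.erase i).filter (fun j => inc p j) =
        (Finset.univ.filter (fun j => inc p j)).erase i := by
      ext j; simp only [Finset.mem_filter, Finset.mem_erase, Finset.mem_univ, true_and]; tauto
    rw [this, Finset.card_erase_of_mem (by simpa using hpi)]
  rw [Finset.sum_congr rfl hterm, Finset.sum_comm]
  have hinner : ∀ j ∈ Finset.univ.erase i, (∑ p ∈ T, if inc p j then 1 else 0) = h := by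
    intro j hj
    have hij : i ≠ j := fun e => (Finset.mem_erase.mp hj).1 e.symm
    rw [← Finset.card_filter, ← hcount i j hij, Set.ncard_eq_toFinset_card _ (hfin i j hij)]
    apply congrArg Finset.card
    ext p
    simp only [T, Finset.mem_filter, memM, Set.Finite.mem_toFinset, Set.mem_ofPred_eq]
    constructor
    · exact fun hp => ⟨hp.1.2, hp.2⟩
    · exact fun hp => ⟨⟨⟨i, j, hij, hp.1, hp.2⟩, hp.1⟩, hp.2⟩
  rw [Finset.sum_congr rfl hinner, Finset.sum_const, Finset.card_erase_of_mem (Finset.mem_univ i),
    Finset.card_univ, smul_eq_mul, mul_comm]

end Groth.Agent.S15004
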