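import Groth.Statements.S15005
import Groth.Agent.H75.Incidence
import Mathlib.Tactic

set_option autoImplicit false
universe u v
open Harb

namespace Groth.Agent.S15005

/-- Let C be a finite family of d curves, recorded as an incidence relation between a type of points and
a finite index type, such that any two distinct curves of the family meet in exactly h points; let
t_k be the number of k-fold points (points lying on exactly k curves of the family). Then f₂ − f₁ =
Σ_{k ≥ 2} k(k − 1) t_k equals h d(d − 1), where f_i = Σ_{k ≥ 2} k^i t_k. (The published statement is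
for a transversal arrangement of curves on a geometrically ruled surface with invariant e, all
numerically equivalent to a C₀ + b f, where any two of the curves meet transversally in h = 2ab −
a²e points; only this common pairwise intersection count enters the proof, and this row states the
identity for an abstract incidence relation.) -/
theorem result (P : Type u) (ι : Type v) [Fintype ι]
    (inc : P → ι → Prop) (h : ℕ)
    (hfin : ∀ i j : ι, i ≠ j → {p : P | inc p i ∧ inc p j}.Finite)
    (hcount : ∀ i j : ι, i ≠ j → {p : P | inc p i ∧ inc p j}.ncard = h) :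
    ∑ k ∈ Finset.Icc 2 (Fintype.card ι), k * (k - 1) * Nat.card {p : P // Nat.card {j : ι // inc p j} = k} =
      h * (Fintype.card ι * (Fintype.card ι - 1)) := by
  classical
  have hMfin : {p : P | 2 ≤ Nat.card {j : ι // inc p j}}.Finite :=
    Groth.Agent.H75.multi_finite inc hfin
  set Mf := hMfin.toFinset with hMf
  have memM : ∀ p, p ∈ Mf ↔ ∃ i j, i ≠ j ∧ inc p i ∧ inc p j := by
    intro p
    rw [hMf, Set.Finite.mem_toFinset, Set.mem_ofPred_eq, Groth.Agent.H75.two_le_card_iff]
  have hr : ∀ p, Nat.card {j : ι // inc p j} = (Finset.univ.filter (fun j => inc p j)).card :=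
    fun p => Groth.Agent.H75.natCard_eq_filter inc p
  have hrle : ∀ p, Nat.card {j : ι // inc p j} ≤ Fintype.card ι := by
    intro p; rw [hr]; exact Finset.card_le_univ _
  have ht : ∀ k ∈ Finset.Icc 2 (Fintype.card ι),
      Nat.card {p : P // Nat.card {j : ι // inc p j} = k} =
        (Mf.filter (fun p => Nat.card {j : ι // inc p j} = k)).card := by
    intro k hk
    have hk2 : 2 ≤ k := (Finset.mem_Icc.mp hk).1
    change Nat.card ↥{p : P | Nat.card {j : ι // inc p j} = k} = _
    rw [_root_.Nat.card_coe_set_eq, ← Set.ncard_coe_finset]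
    congr 1
    ext p
    simp only [Set.mem_ofPred_eq, Finset.coe_filter, hMf, Set.Finite.mem_toFinset]
    constructor
    · intro h1; exact ⟨by omega, h1⟩
    · exact fun h1 => h1.2
  rw [Finset.sum_congr rfl (fun k hk => by rw [ht k hk])]
  have h1 : ∀ k ∈ Finset.Icc 2 (Fintype.card ι),
      k * (k - 1) * (Mf.filter (fun p => Nat.card {j : ι // inc p j} = k)).card =
        ∑ p ∈ Mf with Nat.card {j : ι // inc p j} = k,
          Nat.card {j : ι // inc p j} * (Nat.card {j : ι // inc p j} - 1) := by
    intro k _
    rw [Finset.sum_congr rfl (g := fun _ => k * (k - 1))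
      (fun p hp => by rw [(Finset.mem_filter.mp hp).2]), Finset.sum_const, smul_eq_mul, mul_comm]
  rw [Finset.sum_congr rfl h1]
  rw [Finset.sum_fiberwise_of_maps_to (g := fun p => Nat.card {j : ι // inc p j})
    (f := fun p => Nat.card {j : ι // inc p j} * (Nat.card {j : ι // inc p j} - 1))]
  swap
  · intro p hp
    rw [hMf, Set.Finite.mem_toFinset] at hp
    exact Finset.mem_Icc.mpr ⟨hp, hrle p⟩
  have h2 : ∀ p, Nat.card {j : ι // inc p j} * (Nat.card {j : ι // inc p j} - 1) =
      ∑ ij ∈ (Finset.univ : Finset ι).offDiag, if inc p ij.1 ∧ inc p ij.2 then 1 else 0 := by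
    intro p
    rw [hr, ← Finset.card_filter]
    have : (Finset.univ : Finset ι).offDiag.filter (fun ij => inc p ij.1 ∧ inc p ij.2) =
        (Finset.univ.filter (fun j => inc p j)).offDiag := by
      ext ⟨a, b⟩
      simp only [Finset.mem_filter, Finset.mem_offDiag, Finset.mem_univ, true_and]
      tauto
    rw [this, Finset.offDiag_card, Nat.mul_sub_one]
  rw [Finset.sum_congr rfl (fun p _ => h2 p), Finset.sum_comm]
  have h3 : ∀ ij ∈ (Finset.univ : Finset ι).offDiag,
      (∑ p ∈ Mf, if inc p ij.1 ∧ inc p ij.2 then 1 else 0) = h := by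
    rintro ⟨i, j⟩ hij
    have hij' : i ≠ j := by simpa using hij
    rw [← Finset.card_filter, ← hcount i j hij', Set.ncard_eq_toFinset_card _ (hfin i j hij')]
    apply congrArg Finset.card
    ext p
    simp only [Finset.mem_filter, memM, Set.Finite.mem_toFinset, Set.mem_ofPred_eq]
    constructor
    · exact fun hp => hp.2
    · exact fun hp => ⟨⟨i, j, hij', hp.1, hp.2⟩, hp⟩
  rw [Finset.sum_congr rfl h3, Finset.sum_const, Finset.offDiag_card, Finset.card_univ,
    smul_eq_mul, Nat.mul_sub_one, mul_comm]

end Groth.Agent.S15005
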