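import Groth.Statements.S15006
import Groth.Agent.H75.Incidence
import Mathlib.LinearAlgebra.Dimension.Finite
import Mathlib.LinearAlgebra.Dimension.Constructions
import Mathlib.LinearAlgebra.FiniteDimensional.Lemmas
import Mathlib.Tactic

set_option autoImplicit false
universe u v
open Harb

namespace Groth.Agent.S15006

/-- Let C be a finite family of d ≥ 2 curves, recorded as an incidence relation between a type of points
and a finite index type, such that any two distinct curves of the family meet in exactly h ≥ 1
points and no point lies on every curve of the family. Then f₀ ≥ d: the number of multiple points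
(points lying on at least two of the curves) is at least the number of curves. (The published
statement is for a transversal arrangement of d ≥ 4 curves on a geometrically ruled surface with
invariant e ≥ 4, all numerically equivalent to a C₀ + b f with a ≥ 1 and b ≥ ae and with no point
common to all of them, satisfying in addition either a ≥ 2, or a = 1 with some four of the curves
having no point in common, where any two of the curves meet transversally in h = 2ab − a²e ≥ 1
points; only d ≥ 2, h ≥ 1 and the absence of a common point enter the proof, and this row states the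
bound for an abstract incidence relation.) -/
theorem result (P : Type u) (ι : Type v) [Fintype ι]
    (inc : P → ι → Prop) (h : ℕ) (hh : 0 < h) (hd : 2 ≤ Fintype.card ι)
    (hfin : ∀ i j : ι, i ≠ j → {p : P | inc p i ∧ inc p j}.Finite)
    (hcount : ∀ i j : ι, i ≠ j → {p : P | inc p i ∧ inc p j}.ncard = h)
    (hnone : ∀ p : P, ∃ i : ι, ¬ inc p i) :
    Fintype.card ι ≤ Nat.card {p : P // 2 ≤ Nat.card {j : ι // inc p j}} := by
  classical
  have hMfin : {p : P | 2 ≤ Nat.card {j : ι // inc p j}}.Finite :=
    Groth.Agent.H75.multi_finite inc hfin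
  change _ ≤ Nat.card ↥{p : P | 2 ≤ Nat.card {j : ι // inc p j}}
  rw [_root_.Nat.card_coe_set_eq, Set.ncard_eq_toFinset_card _ hMfin]
  set Mf := hMfin.toFinset with hMf
  have memM : ∀ p, p ∈ Mf ↔ ∃ i j, i ≠ j ∧ inc p i ∧ inc p j := by
    intro p
    rw [hMf, Set.Finite.mem_toFinset, Set.mem_ofPred_eq, Groth.Agent.H75.two_le_card_iff]
  have hnt : Nontrivial ι := Fintype.one_lt_card_iff_nontrivial.mp (by omega)
  let n : ι → ι → ℕ := fun i j => (Mf.filter (fun p => inc p i ∧ inc p j)).card
  have hn_off : ∀ i j, i ≠ j → n i j = h := by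
    intro i j hij
    rw [← hcount i j hij, Set.ncard_eq_toFinset_card _ (hfin i j hij)]
    change (Mf.filter (fun p => inc p i ∧ inc p j)).card = _
    apply congrArg Finset.card
    ext p
    simp only [Finset.mem_filter, memM, Set.Finite.mem_toFinset, Set.mem_ofPred_eq]
    constructor
    · exact fun hp => hp.2
    · exact fun hp => ⟨⟨i, j, hij, hp.1, hp.2⟩, hp⟩
  have hsub : ∀ i j, Mf.filter (fun p => inc p i ∧ inc p j) ⊆
      Mf.filter (fun p => inc p i ∧ inc p i) := by
    intro i j p hp
    simp only [Finset.mem_filter] at hp ⊢
    exact ⟨hp.1, hp.2.1, hp.2.1⟩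
  have hn_diag : ∀ i, h + 1 ≤ n i i := by
    intro i
    obtain ⟨j, hji⟩ := exists_ne i
    by_contra hlt
    push Not at hlt
    have hle : n i i ≤ h := by omega
    have heq : ∀ k, k ≠ i → Mf.filter (fun p => inc p i ∧ inc p k) =
        Mf.filter (fun p => inc p i ∧ inc p i) := by
      intro k hk
      apply Finset.eq_of_subset_of_card_le (hsub i k)
      change n i i ≤ n i k
      rw [hn_off i k hk.symm]; exact hle
    have hpos : 0 < (Mf.filter (fun p => inc p i ∧ inc p j)).card := by
      change 0 < n i j
      rw [hn_off i j hji.symm]; exact hh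
    obtain ⟨p, hp⟩ := Finset.card_pos.mp hpos
    obtain ⟨k, hk⟩ := hnone p
    have hp' := hp
    simp only [Finset.mem_filter] at hp'
    have hki : k ≠ i := by rintro rfl; exact hk hp'.2.1
    rw [heq j hji, ← heq k hki] at hp
    simp only [Finset.mem_filter] at hp
    exact hk hp.2.2
  -- the linear map
  let φ : (ι → ℚ) →ₗ[ℚ] (↥Mf → ℚ) :=
    { toFun := fun x p => ∑ i, if inc p.1 i then x i else 0
      map_add' := by
        intro x y
        funext p
        simp only [Pi.add_apply, ← Finset.sum_add_distrib]
        refine Finset.sum_congr rfl (fun i _ => ?_)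
        split_ifs <;> simp
      map_smul' := by
        intro c x
        funext p
        simp only [Pi.smul_apply, smul_eq_mul, RingHom.id_apply, Finset.mul_sum]
        refine Finset.sum_congr rfl (fun i _ => ?_)
        split_ifs <;> simp }
  have hinj : Function.Injective φ := by
    rw [injective_iff_map_eq_zero]
    intro x hx
    have hxp : ∀ p ∈ Mf, (∑ i, if inc p i then x i else 0) = 0 := by
      intro p hp
      have := congrFun hx ⟨p, hp⟩
      simpa [φ] using this
    have hQ : ∑ p ∈ Mf, (∑ i, if inc p i then x i else 0) ^ 2 = 0 :=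
      Finset.sum_eq_zero (fun p hp => by rw [hxp p hp]; ring)
    have hQ2 : ∑ p ∈ Mf, (∑ i, if inc p i then x i else 0) ^ 2 =
        ∑ i, ∑ j, x i * x j * (n i j : ℚ) := by
      have h1 : ∀ p, (∑ i, if inc p i then x i else 0) ^ 2 =
          ∑ i, ∑ j, if inc p i ∧ inc p j then x i * x j else 0 := by
        intro p
        rw [sq, Finset.sum_mul_sum]
        refine Finset.sum_congr rfl (fun i _ => Finset.sum_congr rfl (fun j _ => ?_))
        by_cases hi : inc p i <;> by_cases hj : inc p j <;> simp [hi, hj]
      simp_rw [h1]
      rw [Finset.sum_comm]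
      refine Finset.sum_congr rfl (fun i _ => ?_)
      rw [Finset.sum_comm]
      refine Finset.sum_congr rfl (fun j _ => ?_)
      rw [← Finset.sum_filter, Finset.sum_const, nsmul_eq_mul, mul_comm]
    have hQ3 : ∑ i, ∑ j, x i * x j * (n i j : ℚ) =
        ∑ i, ((n i i : ℚ) - h) * x i ^ 2 + h * (∑ i, x i) ^ 2 := by
      have h2 : ∀ i j, x i * x j * (n i j : ℚ) =
          (if i = j then ((n i i : ℚ) - h) * x i ^ 2 else 0) + h * (x i * x j) := by
        intro i j
        by_cases hij : i = j
        · subst hij; simp; ring
        · simp [hij, hn_off i j hij]; ring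
      simp_rw [h2, Finset.sum_add_distrib]
      congr 1
      · refine Finset.sum_congr rfl (fun i _ => ?_)
        simp
      · rw [sq, Finset.sum_mul_sum, Finset.mul_sum]
        refine Finset.sum_congr rfl (fun i _ => ?_)
        rw [Finset.mul_sum]
    rw [hQ2, hQ3] at hQ
    have hnn1 : ∀ i ∈ Finset.univ, 0 ≤ ((n i i : ℚ) - h) * x i ^ 2 := by
      intro i _
      have : (h : ℚ) + 1 ≤ n i i := by exact_mod_cast hn_diag i
      have : 0 ≤ (n i i : ℚ) - h := by linarith
      positivity
    have hnn2 : 0 ≤ (h : ℚ) * (∑ i, x i) ^ 2 := by positivity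
    have hsum0 : ∑ i, ((n i i : ℚ) - h) * x i ^ 2 = 0 := by
      have := Finset.sum_nonneg hnn1
      linarith
    funext i
    have hi := (Finset.sum_eq_zero_iff_of_nonneg hnn1).mp hsum0 i (Finset.mem_univ i)
    have : (h : ℚ) + 1 ≤ n i i := by exact_mod_cast hn_diag i
    have hpos : (n i i : ℚ) - h ≠ 0 := by
      have : 0 < (n i i : ℚ) - h := by linarith
      exact ne_of_gt this
    have := (mul_eq_zero.mp hi).resolve_left hpos
    simpa using this
  have := LinearMap.finrank_le_finrank_of_injective hinj
  simpa using this

end Groth.Agent.S15006
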