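import Groth.Statements.S15007
import Groth.Agent.H75.Incidence

set_option autoImplicit false
universe u v
open Harb

namespace Groth.Agent.S15007

/-- Let C be a finite family of d ≥ 2 curves, recorded as an incidence relation between a type of points
and a finite index type, such that any two distinct curves of the family meet in exactly h ≥ 1
points and no point lies on every curve of the family. Then f₀ ≥ h + 2: the number of multiple
points (points lying on at least two of the curves) is at least h + 2. (The published claim reads f₀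
≥ 2ab − a²e + 2 for a transversal arrangement of d ≥ 4 curves on a geometrically ruled surface with
invariant e ≥ 4, all numerically equivalent to a C₀ + b f with a ≥ 1 and b ≥ ae and with no point
common to all of them, satisfying in addition either a ≥ 2, or a = 1 with some four of the curves
having no point in common, where any two of the curves meet transversally in h = 2ab − a²e ≥ 1
points; only d ≥ 2, h ≥ 1 and the absence of a common point enter the proof, and this row states the
bound for an abstract incidence relation.) -/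
theorem result (P : Type u) (ι : Type v) [Fintype ι]
    (inc : P → ι → Prop) (h : ℕ) (hh : 0 < h) (hd : 2 ≤ Fintype.card ι)
    (hfin : ∀ i j : ι, i ≠ j → {p : P | inc p i ∧ inc p j}.Finite)
    (hcount : ∀ i j : ι, i ≠ j → {p : P | inc p i ∧ inc p j}.ncard = h)
    (hnone : ∀ p : P, ∃ i : ι, ¬ inc p i) :
    h + 2 ≤ Nat.card {p : P // 2 ≤ Nat.card {j : ι // inc p j}} := by
  classical
  have hMfin : {p : P | 2 ≤ Nat.card {j : ι // inc p j}}.Finite :=
    Groth.Agent.H75.multi_finite inc hfin
  change h + 2 ≤ Nat.card ↥{p : P | 2 ≤ Nat.card {j : ι // inc p j}}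
  rw [_root_.Nat.card_coe_set_eq]
  obtain ⟨i, j, hij⟩ : ∃ i j : ι, i ≠ j := Fintype.exists_pair_of_one_lt_card (by omega)
  have hA : {p : P | inc p i ∧ inc p j}.ncard = h := hcount i j hij
  obtain ⟨p, hp⟩ : {p : P | inc p i ∧ inc p j}.Nonempty :=
    (Set.ncard_pos (hfin i j hij)).mp (by omega)
  obtain ⟨k, hk⟩ := hnone p
  have hik : i ≠ k := by rintro rfl; exact hk hp.1
  have hjk : j ≠ k := by rintro rfl; exact hk hp.2
  have hB : {p : P | inc p i ∧ inc p k}.ncard = h := hcount i k hik
  have hC : {p : P | inc p j ∧ inc p k}.ncard = h := hcount j k hjk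
  have hBA : ¬ {p : P | inc p i ∧ inc p k} ⊆ {p : P | inc p i ∧ inc p j} := by
    intro hsub
    have heq := Set.eq_of_subset_of_ncard_le hsub (by rw [hA, hB]) (hfin i j hij)
    have : p ∈ {p : P | inc p i ∧ inc p k} := heq ▸ hp
    exact hk this.2
  have hCA : ¬ {p : P | inc p j ∧ inc p k} ⊆ {p : P | inc p i ∧ inc p j} := by
    intro hsub
    have heq := Set.eq_of_subset_of_ncard_le hsub (by rw [hA, hC]) (hfin i j hij)
    have : p ∈ {p : P | inc p j ∧ inc p k} := heq ▸ hp
    exact hk this.2
  obtain ⟨q, hqB, hqA⟩ := Set.not_subset.mp hBA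
  obtain ⟨q', hqC, hq'A⟩ := Set.not_subset.mp hCA
  have hqq' : q ≠ q' := by
    rintro rfl
    exact hqA ⟨hqB.1, hqC.1⟩
  have hsub : insert q (insert q' {p : P | inc p i ∧ inc p j}) ⊆
      {p : P | 2 ≤ Nat.card {j : ι // inc p j}} := by
    intro x hx
    rw [Set.mem_ofPred_eq, Groth.Agent.H75.two_le_card_iff]
    rcases hx with rfl | rfl | hx
    · exact ⟨i, k, hik, hqB.1, hqB.2⟩
    · exact ⟨j, k, hjk, hqC.1, hqC.2⟩
    · exact ⟨i, j, hij, hx.1, hx.2⟩
  have hcard : (insert q (insert q' {p : P | inc p i ∧ inc p j})).ncard = h + 2 := by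
    have hnm : q ∉ insert q' {p : P | inc p i ∧ inc p j} := by
      rintro (h1 | h1)
      · exact hqq' h1
      · exact hqA h1
    rw [Set.ncard_insert_of_notMem hnm ((hfin i j hij).insert _),
      Set.ncard_insert_of_notMem hq'A (hfin i j hij), hA]
  rw [← hcard]
  exact Set.ncard_le_ncard hsub hMfin

end Groth.Agent.S15007
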