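import Groth.Statements.S15010
import Groth.Agent.H75.LatticeIso

set_option autoImplicit false
universe u
open TFCurv

namespace Groth.Agent.S15010

/-- Let O be a one-dimensional Noetherian local domain with algebraically closed residue field whose
integral closure O~ in its fraction field K is a finite O-module. If M and N are O-submodules of K^n
with O^n ⊆ M ⊆ O~^n and O^n ⊆ N ⊆ O~^n, then every O-linear isomorphism M → N is the restriction of
x ↦ A·x for an invertible n × n matrix A with entries in O~. -/
theorem result (O : Type u) [CommRing O] [IsDomain O] [IsNoetherianRing O] [IsLocalRing O] (hdim : ringKrullDim O = 1) [IsAlgClosed (IsLocalRing.ResidueField O)] (K : Type u) [Field K] [Algebra O K] [IsFractionRing O K] (hfin : Module.Finite O ↥(integralClosure O K)) (n : ℕ) (M N : Submodule O (Fin n → K)) (hM1 : Submodule.pi Set.univ (fun _ : Fin n => (1 : Submodule O K)) ≤ M) (hM2 : M ≤ Submodule.pi Set.univ (fun _ : Fin n => (Subalgebra.toSubmodule (integralClosure O K)))) (hN1 : Submodule.pi Set.univ (fun _ : Fin n => (1 : Submodule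 O K)) ≤ N) (hN2 : N ≤ Submodule.pi Set.univ (fun _ : Fin n => (Subalgebra.toSubmodule (integralClosure O K)))) (φ : ↥M ≃ₗ[O] ↥N) : ∃ A : Matrix (Fin n) (Fin n) ↥(integralClosure O K), IsUnit A ∧ ∀ x : ↥M, ((φ x : ↥N) : Fin n → K) = (A.map (algebraMap ↥(integralClosure O K) K)).mulVec (x : Fin n → K) := by
  classical
  obtain ⟨A, hA⟩ := Groth.Agent.H75.lattice_map_matrix O K n M N hM1 hN2 φ.toLinearMap
  obtain ⟨B, hB⟩ := Groth.Agent.H75.lattice_map_matrix O K n N M hN1 hM2 φ.symm.toLinearMap
  refine ⟨A, ?_, fun x => hA x⟩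
  have hιinj : Function.Injective (algebraMap ↥(integralClosure O K) K) := Subtype.val_injective
  have hsingle : ∀ i : Fin n, (Pi.single i (1 : K) : Fin n → K) ∈ N := by
    intro i
    apply hN1
    rw [Submodule.mem_pi]
    intro j _
    by_cases hj : j = i
    · subst hj
      rw [Pi.single_eq_same]
      exact Submodule.mem_one.mpr ⟨1, map_one _⟩
    · rw [Pi.single_eq_of_ne hj]
      exact Submodule.zero_mem _
  have hAB : A.map (algebraMap ↥(integralClosure O K) K) * B.map (algebraMap ↥(integralClosure O K) K) = 1 := by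
    apply Matrix.toLin'.injective
    apply (Pi.basisFun K (Fin n)).ext
    intro i
    rw [Matrix.toLin'_apply, Matrix.toLin'_one, Pi.basisFun_apply, LinearMap.id_apply,
      ← Matrix.mulVec_mulVec]
    have h1 := hB ⟨_, hsingle i⟩
    simp only [LinearEquiv.coe_coe] at h1
    rw [← h1]
    have h2 := hA (φ.symm ⟨_, hsingle i⟩)
    simp only [LinearEquiv.coe_coe, LinearEquiv.apply_symm_apply] at h2
    rw [← h2]
  have hAB' : A * B = 1 := by
    apply Matrix.map_injective hιinj
    show (A * B).map (algebraMap ↥(integralClosure O K) K) = (1 : Matrix (Fin n) (Fin n) ↥(integralClosure O K)).map (algebraMap ↥(integralClosure O K) K)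
    rw [Matrix.map_mul, hAB, Matrix.map_one _ (map_zero _) (map_one _)]
  exact (Matrix.isUnit_iff_isUnit_det A).mpr (Matrix.isUnit_det_of_right_inverse hAB')

end Groth.Agent.S15010
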