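import Groth.Statements.S15013
import Groth.Agent.H75.TFEmbed

set_option autoImplicit false
universe u
open CategoryTheory
open TFCurv

namespace Groth.Agent.S15013

/-- Let O be a one-dimensional Noetherian local domain with algebraically closed residue field whose
integral closure O~ in its fraction field K is a finite O-module, and let w be a canonical ideal of
O, taken here as a nonzero finitely generated O-submodule of K whose injective dimension as an
O-module is at most one. Then Ext^i_O(M, w) vanishes for all i ≥ 1 and every finitely generated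
torsion-free O-module M. -/
theorem result (O : Type u) [CommRing O] [IsDomain O] [IsNoetherianRing O] [IsLocalRing O] (hdim : ringKrullDim O = 1) [IsAlgClosed (IsLocalRing.ResidueField O)] (K : Type u) [Field K] [Algebra O K] [IsFractionRing O K] (hfin : Module.Finite O ↥(integralClosure O K)) (ω : Submodule O K) (hω0 : ω ≠ ⊥) (hωfg : ω.FG) (hωinj : HasInjectiveDimensionLT (ModuleCat.of O ↥ω) 2) (M : Type u) [AddCommGroup M] [Module O M] [Module.Finite O M] [NoZeroSMulDivisors O M] (i : ℕ) (hi : 1 ≤ i) : Subsingleton (Abelian.Ext (ModuleCat.of O M) (ModuleCat.of O ↥ω) i) := by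
  classical
  by_cases hi2 : 2 ≤ i
  · exact HasInjectiveDimensionLT.subsingleton (ModuleCat.of O ↥ω) 2 i hi2 (ModuleCat.of O M)
  · have hi1 : i = 1 := by omega
    subst hi1
    obtain ⟨n, j, hj⟩ := Groth.Agent.H75.exists_embedding_free (A := O) (Q := M)
    let g : (Fin n → O) →ₗ[O] ((Fin n → O) ⧸ LinearMap.range j) := (LinearMap.range j).mkQ
    let S : ShortComplex (ModuleCat.{u} O) :=
      ModuleCat.shortComplexOfCompEqZero j g (by
        ext x
        simp [g])
    have hS : S.ShortExact := by
      apply ModuleCat.shortComplex_shortExact S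
      · intro y
        show g y = 0 ↔ y ∈ Set.range j
        rw [Submodule.mkQ_apply, Submodule.Quotient.mk_eq_zero]
        rfl
      · exact hj
      · exact Submodule.mkQ_surjective _
    haveI : Projective S.X₂ := by
      show Projective (ModuleCat.of O (Fin n → O))
      infer_instance
    refine ⟨fun x y => ?_⟩
    have hzero : ∀ x : Abelian.Ext (ModuleCat.of O M) (ModuleCat.of O ↥ω) 1, x = 0 := by
      intro x
      have hx : hS.extClass.comp x (show 1 + 1 = 2 by norm_num) = 0 :=
        Abelian.Ext.eq_zero_of_hasInjectiveDimensionLT _ 2 le_rfl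
      obtain ⟨x₂, hx₂⟩ := Abelian.Ext.contravariant_sequence_exact₁ hS (ModuleCat.of O ↥ω) x
        (show 1 + 1 = 2 by norm_num) hx
      have : x₂ = 0 := Abelian.Ext.eq_zero_of_projective x₂
      rw [← hx₂, this, Abelian.Ext.comp_zero]
    rw [hzero x, hzero y]

end Groth.Agent.S15013
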