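import Groth.Statements.S15015
import Groth.Agent.H75.PSGaps

set_option autoImplicit false
universe u
open TFCurv

namespace Groth.Agent.S15015

/-- Let k be an algebraically closed field and A ≠ k[[t]] a k-subalgebra of k[[t]] that is closed in the
t-adic topology, over which k[[t]] is a finite module, and such that every power series is carried
into A by multiplication with some nonzero element of A (so k[[t]] lies in the fraction field of A
and is its normalisation, as for the complete local ring of a unibranch curve singularity), and let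
Γ ⊆ ℕ be the set of t-orders of the nonzero elements of A (its value semigroup). Then ℕ ∖ Γ is
finite and the k-dimension of k[[t]]/A equals the number of gaps of Γ. -/
theorem result (k : Type u) [Field k] [IsAlgClosed k] (A : Subalgebra k (PowerSeries k)) (hA : Module.Finite ↥A (PowerSeries k)) (hcl : ∀ f : PowerSeries k, (∀ n : ℕ, ∃ g ∈ A, (n : ℕ∞) ≤ PowerSeries.order (f - g)) → f ∈ A) (hsing : A ≠ ⊤) (hbir : ∀ f : PowerSeries k, ∃ a ∈ A, a ≠ 0 ∧ a * f ∈ A) (Γ : Set ℕ) (hΓ : ∀ n : ℕ, n ∈ Γ ↔ ∃ f ∈ A, PowerSeries.order f = n) : Γᶜ.Finite ∧ Module.finrank k (PowerSeries k ⧸ Subalgebra.toSubmodule A) = Γᶜ.ncard := by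
  classical
  -- a common denominator
  obtain ⟨S, hS⟩ := (Module.finite_def.mp hA)
  have hden : ∃ a ∈ A, a ≠ 0 ∧ ∀ f : PowerSeries k, a * f ∈ A := by
    have h1 : ∀ T : Finset (PowerSeries k), ∃ a ∈ A, a ≠ 0 ∧ ∀ s ∈ T, a * s ∈ A := by
      intro T
      induction T using Finset.induction_on with
      | empty => exact ⟨1, A.one_mem, one_ne_zero, by simp⟩
      | insert s T _ ih =>
        obtain ⟨a, haA, ha0, haT⟩ := ih
        obtain ⟨b, hbA, hb0, hbs⟩ := hbir s
        refine ⟨a * b, A.mul_mem haA hbA, mul_ne_zero ha0 hb0, ?_⟩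
        intro x hx
        rcases Finset.mem_insert.mp hx with rfl | hx
        · have : a * b * x = a * (b * x) := by ring
          rw [this]
          exact A.mul_mem haA hbs
        · have : a * b * x = b * (a * x) := by ring
          rw [this]
          exact A.mul_mem hbA (haT x hx)
    obtain ⟨a, haA, ha0, haS⟩ := h1 S
    refine ⟨a, haA, ha0, ?_⟩
    intro f
    have hf : f ∈ Submodule.span ↥A (S : Set (PowerSeries k)) := by rw [hS]; trivial
    induction hf using Submodule.span_induction with
    | mem x hx => exact haS x hx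
    | zero => rw [mul_zero]; exact A.zero_mem
    | add x y _ _ hx hy => rw [mul_add]; exact A.add_mem hx hy
    | smul r x _ hx =>
      have : a * (r • x) = (r : PowerSeries k) * (a * x) := by
        rw [Subalgebra.smul_def]
        ring
      rw [this]
      exact A.mul_mem r.2 hx
  obtain ⟨a, haA, ha0, haf⟩ := hden
  obtain ⟨c, hc⟩ : ∃ c : ℕ, PowerSeries.order a = c :=
    ⟨(PowerSeries.order a).toNat, (PowerSeries.coe_toNat_order ha0).symm⟩
  have hcond : ∀ h : PowerSeries k, (c : ℕ∞) ≤ PowerSeries.order h → h ∈ Subalgebra.toSubmodule A := by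
    intro h hh
    exact Groth.Agent.H75.mem_of_order_ge_of_mul_mem (A : Set (PowerSeries k)) a ha0 haf h (hc ▸ hh)
  exact ⟨Groth.Agent.H75.gaps_finite _ c hcond Γ hΓ,
    Groth.Agent.H75.finrank_quot_eq_ncard_gaps _ c hcond Γ hΓ⟩

end Groth.Agent.S15015
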