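import Groth.Statements.S15016
import Groth.Agent.H75.PSOrder

set_option autoImplicit false
universe u
open TFCurv

namespace Groth.Agent.S15016

/-- Let k be an algebraically closed field and A ≠ k[[t]] a k-subalgebra of k[[t]] that is closed in the
t-adic topology and over which k[[t]] is a finite module (as for the complete local ring of a
unibranch curve singularity inside its normalisation), and let Γ ⊆ ℕ be the set of t-orders of the
nonzero elements of A (its value semigroup); let c be the conductor of Γ, so that every n ≥ c lies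
in Γ and c − 1 does not. Then for a power series f, f · k[[t]] ⊆ A holds exactly when the order of f
is at least c: the conductor of A in k[[t]] is t^c · k[[t]], of codimension c. -/
theorem result (k : Type u) [Field k] [IsAlgClosed k] (A : Subalgebra k (PowerSeries k)) (hA : Module.Finite ↥A (PowerSeries k)) (hcl : ∀ f : PowerSeries k, (∀ n : ℕ, ∃ g ∈ A, (n : ℕ∞) ≤ PowerSeries.order (f - g)) → f ∈ A) (hsing : A ≠ ⊤) (Γ : Set ℕ) (hΓ : ∀ n : ℕ, n ∈ Γ ↔ ∃ f ∈ A, PowerSeries.order f = n) (c : ℕ) (hc : ∀ n : ℕ, c ≤ n → n ∈ Γ) (hc0 : c ≠ 0) (hc1 : c - 1 ∉ Γ) (f : PowerSeries k) : (∀ g : PowerSeries k, g * f ∈ A) ↔ (c : ℕ∞) ≤ PowerSeries.order f := by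
  classical
  have key : ∀ h : PowerSeries k, (c : ℕ∞) ≤ PowerSeries.order h → h ∈ A := by
    intro h hh
    apply hcl
    intro n
    obtain ⟨g, hg, _, hgn⟩ := Groth.Agent.H75.approx_of_orders (Subalgebra.toSubmodule A) c
      (fun n hn => (hΓ n).mp (hc n hn)) h hh n
    exact ⟨g, hg, hgn⟩
  constructor
  · intro hf
    by_contra hlt
    have hlt' := not_le.mp hlt
    have hfne : f ≠ 0 := by
      rintro rfl
      simp at hlt'
    obtain ⟨m, hm⟩ : ∃ m : ℕ, PowerSeries.order f = m :=
      ⟨(PowerSeries.order f).toNat, (PowerSeries.coe_toNat_order hfne).symm⟩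
    rw [hm] at hlt'
    have hmc : m < c := by exact_mod_cast hlt'
    apply hc1
    rw [hΓ]
    refine ⟨PowerSeries.X ^ (c - 1 - m) * f, hf _, ?_⟩
    rw [PowerSeries.order_mul, PowerSeries.order_X_pow, hm]
    have : c - 1 - m + m = c - 1 := by omega
    exact_mod_cast this
  · intro hf g
    apply key
    rw [PowerSeries.order_mul]
    exact le_trans hf le_add_self

end Groth.Agent.S15016
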