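import Groth.Statements.S15017
import Groth.Agent.H75.Semigroup

set_option autoImplicit false
open TFCurv

namespace Groth.Agent.S15017

/-- Let Γ be a numerical semigroup (a submonoid of (ℕ, +) with finite complement), Γ ≠ ℕ, with conductor
c (every n ≥ c lies in Γ, c − 1 does not). If Γ is symmetric (for x < c, x is a gap exactly when c −
1 − x ∈ Γ) and has multiplicity greater than 2 (neither 1 nor 2 lies in Γ), then Γ is generated by
its elements smaller than c: every minimal generator of Γ is less than the conductor. -/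
theorem result (Γ : AddSubmonoid ℕ) (c : ℕ) (hc : ∀ n : ℕ, c ≤ n → n ∈ Γ) (hc0 : c ≠ 0) (hc1 : c - 1 ∉ Γ) (hsymm : ∀ x : ℕ, x < c → (x ∉ Γ ↔ c - 1 - x ∈ Γ)) (he : (1 : ℕ) ∉ Γ ∧ (2 : ℕ) ∉ Γ) : AddSubmonoid.closure {γ : ℕ | γ ∈ Γ ∧ γ < c} = Γ := by
  classical
  have hex : ∃ γ, γ ∈ Γ ∧ γ ≠ 0 := ⟨c, hc c le_rfl, hc0⟩
  let e := Nat.find hex
  have hee : e ∈ Γ ∧ e ≠ 0 := Nat.find_spec hex
  have hemin : ∀ γ : ℕ, γ ∈ Γ → γ ≠ 0 → e ≤ γ := fun γ h1 h2 => Nat.find_min' hex ⟨h1, h2⟩
  obtain ⟨a, b, ha, hb, hac, hbc, hab, hea, hae, heb, hbe⟩ :=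
    Groth.Agent.H75.symm_split Γ c hc hc0 hc1 hsymm he.1 he.2 e hee.1 hee.2 hemin
  have hec : e < c := by omega
  apply le_antisymm
  · rw [AddSubmonoid.closure_le]
    rintro γ ⟨h, _⟩
    exact h
  · intro n
    induction n using Nat.strong_induction_on with
    | _ n ih =>
      intro hn
      by_cases hnc : n < c
      · exact AddSubmonoid.subset_closure ⟨hn, hnc⟩
      · push Not at hnc
        have heG : e ∈ AddSubmonoid.closure {γ : ℕ | γ ∈ Γ ∧ γ < c} :=
          AddSubmonoid.subset_closure ⟨hee.1, hec⟩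
        by_cases hne : n - e ∈ Γ
        · have h1 := ih (n - e) (by omega) hne
          have h2 := AddSubmonoid.add_mem _ heG h1
          have h3 : e + (n - e) = n := by omega
          rwa [h3] at h2
        · have hlt : n - e < c := by
            by_contra h
            exact hne (hc _ (not_lt.mp h))
          have h4 := (hsymm _ hlt).mp hne
          have h5 : c - 1 - (n - e) = 0 := by
            by_contra h0
            have := hemin _ h4 h0
            omega
          have h6 : n = a + b := by omega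
          rw [h6]
          exact AddSubmonoid.add_mem _ (AddSubmonoid.subset_closure ⟨ha, hac⟩)
            (AddSubmonoid.subset_closure ⟨hb, hbc⟩)

end Groth.Agent.S15017
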