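import Groth.Statements.S15018
-- import your own Groth.Agent.* helpers here

set_option autoImplicit false
open TFCurv

namespace Groth.Agent.S15018

/-- Let Γ be a numerical semigroup (a submonoid of (ℕ, +) with finite complement), Γ ≠ ℕ, with conductor
c (every n ≥ c lies in Γ, c − 1 does not). Then Γ is symmetric (for x < c, x is a gap exactly when c
− 1 − x ∈ Γ) if and only if there is exactly one gap n of Γ such that Γ ∪ {n} is again stable under
adding elements of Γ, i.e. n + γ ∈ Γ for every nonzero γ ∈ Γ. -/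
theorem result (Γ : AddSubmonoid ℕ) (c : ℕ) (hc : ∀ n : ℕ, c ≤ n → n ∈ Γ) (hc0 : c ≠ 0) (hc1 : c - 1 ∉ Γ) : (∀ x : ℕ, x < c → (x ∉ Γ ↔ c - 1 - x ∈ Γ)) ↔ ∃! n : ℕ, n ∉ Γ ∧ ∀ γ : ℕ, γ ∈ Γ → γ ≠ 0 → n + γ ∈ Γ := by
  have hbdd : ∀ n, n ∉ Γ → n < c := by
    intro n hn
    by_contra h
    exact hn (hc n (not_lt.mp h))
  constructor
  · intro hsymm
    refine ⟨c - 1, ⟨hc1, fun γ _ hγ0 => hc _ (by omega)⟩, ?_⟩
    rintro n ⟨hn, hadd⟩
    have hlt := hbdd n hn
    have h1 : c - 1 - n ∈ Γ := (hsymm n hlt).mp hn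
    by_contra hne
    have h0 : c - 1 - n ≠ 0 := by omega
    have h2 := hadd _ h1 h0
    have h3 : n + (c - 1 - n) = c - 1 := by omega
    rw [h3] at h2
    exact hc1 h2
  · rintro ⟨f, ⟨hf, hfadd⟩, huniq⟩ x hx
    have hfc : f = c - 1 := by
      have := huniq (c - 1) ⟨hc1, fun γ _ hγ0 => hc _ (by omega)⟩
      exact this.symm
    constructor
    · intro hxΓ
      classical
      -- the largest gap of the form x + γ
      have hfin : {m | m ∉ Γ ∧ ∃ γ ∈ Γ, m = x + γ}.Finite :=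
        (Set.finite_lt_nat c).subset (fun m hm => hbdd m hm.1)
      obtain ⟨m, ⟨hmΓ, γ₀, hγ₀, rfl⟩, hmax⟩ := Set.Finite.exists_maximal hfin
        ⟨x, hxΓ, 0, Γ.zero_mem, by simp⟩
      have hPF : x + γ₀ ∉ Γ ∧ ∀ γ : ℕ, γ ∈ Γ → γ ≠ 0 → x + γ₀ + γ ∈ Γ := by
        refine ⟨hmΓ, fun γ hγ hγ0 => ?_⟩
        by_contra hmem
        have hin : x + γ₀ + γ ∈ {m | m ∉ Γ ∧ ∃ γ ∈ Γ, m = x + γ} :=
          ⟨hmem, γ₀ + γ, Γ.add_mem hγ₀ hγ, by omega⟩
        have := hmax hin (by omega)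
        omega
      have := huniq _ hPF
      have h4 : c - 1 - x = γ₀ := by omega
      rw [h4]; exact hγ₀
    · intro h1 hxΓ
      have h2 := Γ.add_mem hxΓ h1
      have h3 : x + (c - 1 - x) = c - 1 := by omega
      rw [h3] at h2
      exact hc1 h2

end Groth.Agent.S15018
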