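import Groth.Statements.S15019
import Mathlib.Order.Interval.Finset.Nat
import Mathlib.Data.Nat.ModEq

set_option autoImplicit false
open TFCurv

namespace Groth.Agent.S15019

/-- Let Γ be a numerical semigroup (a submonoid of (ℕ, +) with finite complement), Γ ≠ ℕ, with conductor
c (every n ≥ c lies in Γ, c − 1 does not), let e be its multiplicity (the least nonzero element of
Γ), and let S ⊆ ℕ be a Γ-module in normal form: 0 ∈ S and γ + s ∈ S for all γ ∈ Γ, s ∈ S. Then the
set of gaps n of S with S ∪ {n} again a Γ-module (n + γ ∈ S for every nonzero γ ∈ Γ) has at most e −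
1 elements, and so does the set of nonzero s ∈ S with S ∖ {s} again a Γ-module (s − γ ∉ S for every
nonzero γ ∈ Γ with γ ≤ s). -/
theorem result (Γ : AddSubmonoid ℕ) (c : ℕ) (hc : ∀ n : ℕ, c ≤ n → n ∈ Γ) (hc0 : c ≠ 0) (hc1 : c - 1 ∉ Γ) (e : ℕ) (he : e ∈ Γ) (he0 : e ≠ 0) (hemin : ∀ γ : ℕ, γ ∈ Γ → γ ≠ 0 → e ≤ γ) (S : Set ℕ) (hS0 : (0 : ℕ) ∈ S) (hS : ∀ γ : ℕ, γ ∈ Γ → ∀ s : ℕ, s ∈ S → γ + s ∈ S) : {n : ℕ | n ∉ S ∧ ∀ γ : ℕ, γ ∈ Γ → γ ≠ 0 → n + γ ∈ S}.encard ≤ ((e - 1 : ℕ) : ℕ∞) ∧ {s : ℕ | s ∈ S ∧ s ≠ 0 ∧ ∀ γ : ℕ, γ ∈ Γ → γ ≠ 0 → γ ≤ s → s - γ ∉ S}.encard ≤ ((e - 1 : ℕ) : ℕ∞) := by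
  have hmul : ∀ k : ℕ, k * e ∈ Γ := fun k => by
    simpa using Γ.nsmul_mem he k
  have hmulS : ∀ k : ℕ, k * e ∈ S := fun k => by simpa using hS _ (hmul k) 0 hS0
  have hepos : 0 < e := Nat.pos_of_ne_zero he0
  have htarget : ((Finset.Ico 1 e : Finset ℕ) : Set ℕ).encard = ((e - 1 : ℕ) : ℕ∞) := by
    rw [Set.encard_coe_eq_coe_finsetCard]; simp
  constructor
  · rw [← htarget]
    refine Set.encard_le_encard_of_injOn (f := fun n => n % e) ?_ ?_
    · rintro n ⟨hn, _⟩
      simp only [Finset.coe_Ico, Set.mem_Ico]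
      refine ⟨?_, Nat.mod_lt _ hepos⟩
      by_contra h0
      have h0' : n % e = 0 := by omega
      obtain ⟨k, hk⟩ := Nat.dvd_of_mod_eq_zero h0'
      exact hn (by rw [hk, mul_comm]; exact hmulS k)
    · rintro n ⟨hn, hnadd⟩ m ⟨hm, hmadd⟩ hmod
      simp only at hmod
      by_contra hne
      rcases Nat.lt_or_gt_of_ne hne with hlt | hlt
      · have hmodeq : n ≡ m [MOD e] := hmod
        obtain ⟨k, hk⟩ := (Nat.modEq_iff_dvd' hlt.le).mp hmodeq
        have hk0 : k ≠ 0 := by rintro rfl; omega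
        have : n + k * e ∈ S := hnadd _ (hmul k) (Nat.mul_ne_zero hk0 he0)
        rw [mul_comm] at this
        rw [← hk] at this
        have h5 : n + (m - n) = m := by omega
        rw [h5] at this
        exact hm this
      · have hmodeq : m ≡ n [MOD e] := hmod.symm
        obtain ⟨k, hk⟩ := (Nat.modEq_iff_dvd' hlt.le).mp hmodeq
        have hk0 : k ≠ 0 := by rintro rfl; omega
        have : m + k * e ∈ S := hmadd _ (hmul k) (Nat.mul_ne_zero hk0 he0)
        rw [mul_comm] at this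
        rw [← hk] at this
        have h5 : m + (n - m) = n := by omega
        rw [h5] at this
        exact hn this
  · rw [← htarget]
    refine Set.encard_le_encard_of_injOn (f := fun n => n % e) ?_ ?_
    · rintro s ⟨hs, hs0, hrem⟩
      simp only [Finset.coe_Ico, Set.mem_Ico]
      refine ⟨?_, Nat.mod_lt _ hepos⟩
      by_contra h0
      have h0' : s % e = 0 := by omega
      obtain ⟨k, hk⟩ := Nat.dvd_of_mod_eq_zero h0'
      have hk0 : k ≠ 0 := by rintro rfl; simp at hk; exact hs0 hk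
      have := hrem (k * e) (hmul k) (Nat.mul_ne_zero hk0 he0) (by rw [hk, mul_comm])
      rw [hk, mul_comm, Nat.sub_self] at this
      exact this hS0
    · rintro n ⟨hn, hn0, hnrem⟩ m ⟨hm, hm0, hmrem⟩ hmod
      simp only at hmod
      by_contra hne
      rcases Nat.lt_or_gt_of_ne hne with hlt | hlt
      · have hmodeq : n ≡ m [MOD e] := hmod
        obtain ⟨k, hk⟩ := (Nat.modEq_iff_dvd' hlt.le).mp hmodeq
        have hk0 : k ≠ 0 := by rintro rfl; omega
        have := hmrem (k * e) (hmul k) (Nat.mul_ne_zero hk0 he0) (by rw [mul_comm, ← hk]; omega)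
        rw [mul_comm, ← hk] at this
        have h5 : m - (m - n) = n := by omega
        rw [h5] at this
        exact this hn
      · have hmodeq : m ≡ n [MOD e] := hmod.symm
        obtain ⟨k, hk⟩ := (Nat.modEq_iff_dvd' hlt.le).mp hmodeq
        have hk0 : k ≠ 0 := by rintro rfl; omega
        have := hnrem (k * e) (hmul k) (Nat.mul_ne_zero hk0 he0) (by rw [mul_comm, ← hk]; omega)
        rw [mul_comm, ← hk] at this
        have h5 : n - (n - m) = m := by omega
        rw [h5] at this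
        exact this hm

end Groth.Agent.S15019
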