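import Groth.Statements.S15029
-- import your own Groth.Agent.* helpers here

set_option autoImplicit false
open TFCurv

namespace Groth.Agent.S15029

/-- Let Γ be a numerical semigroup (a submonoid of (ℕ, +) with finite complement), Γ ≠ ℕ, with conductor
c (every n ≥ c lies in Γ, c − 1 does not), and let S ⊆ ℕ be a Γ-module in normal form (0 ∈ S and γ +
s ∈ S for γ ∈ Γ, s ∈ S). If S ≠ ℕ then some gap n of S can be added (n + γ ∈ S for every nonzero γ ∈
Γ, so S ∪ {n} is a Γ-module), and if S ≠ Γ then some s ∈ S outside Γ can be removed (s − γ ∉ S for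
every nonzero γ ∈ Γ with γ ≤ s, so S ∖ {s} is a Γ-module containing Γ); iterating, S is joined to ℕ
and to Γ by chains in the diagram of Γ-modules, which is therefore connected. -/
theorem result (Γ : AddSubmonoid ℕ) (c : ℕ) (hc : ∀ n : ℕ, c ≤ n → n ∈ Γ) (hc0 : c ≠ 0) (hc1 : c - 1 ∉ Γ) (S : Set ℕ) (hS0 : (0 : ℕ) ∈ S) (hS : ∀ γ : ℕ, γ ∈ Γ → ∀ s : ℕ, s ∈ S → γ + s ∈ S) : (S ≠ Set.univ → ∃ n : ℕ, n ∉ S ∧ ∀ γ : ℕ, γ ∈ Γ → γ ≠ 0 → n + γ ∈ S) ∧ ((↑Γ : Set ℕ) ≠ S → ∃ s : ℕ, s ∈ S ∧ s ∉ Γ ∧ ∀ γ : ℕ, γ ∈ Γ → γ ≠ 0 → γ ≤ s → s - γ ∉ S) := by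
  have hΓS : ∀ n, n ∈ Γ → n ∈ S := fun n hn => by simpa using hS n hn 0 hS0
  constructor
  · intro hne
    have hex : ∃ n, n ∉ S := by
      by_contra h
      push Not at h
      exact hne (Set.eq_univ_of_forall h)
    have hbdd : ∀ n, n ∉ S → n < c := by
      intro n hn
      by_contra h
      exact hn (hΓS n (hc n (not_lt.mp h)))
    classical
    obtain ⟨n, hn, hmax⟩ : ∃ n, n ∉ S ∧ ∀ m, m ∉ S → m ≤ n := by
      have hfin : {n | n ∉ S}.Finite :=
        (Set.finite_lt_nat c).subset (fun n hn => hbdd n hn)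
      obtain ⟨n, hn, hmax⟩ := Set.Finite.exists_maximal hfin (by obtain ⟨n, hn⟩ := hex; exact ⟨n, hn⟩)
      refine ⟨n, hn, fun m hm => ?_⟩
      by_contra hlt
      push Not at hlt
      have := hmax hm hlt.le
      omega
    refine ⟨n, hn, fun γ _ hγ0 => ?_⟩
    by_contra hmem
    have := hmax _ hmem
    omega
  · intro hne
    have hex : ∃ s, s ∈ S ∧ s ∉ Γ := by
      by_contra h
      push Not at h
      exact hne (Set.Subset.antisymm (fun n hn => hΓS n hn) (fun n hn => h n hn))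
    classical
    let s := Nat.find hex
    have hs : s ∈ S ∧ s ∉ Γ := Nat.find_spec hex
    have hmin : ∀ m, m < s → ¬ (m ∈ S ∧ m ∉ Γ) := fun m hm => Nat.find_min hex hm
    refine ⟨s, hs.1, hs.2, fun γ hγ hγ0 hle hmem => ?_⟩
    have hlt : s - γ < s := by omega
    have h1 : s - γ ∈ Γ := by
      by_contra h
      exact hmin _ hlt ⟨hmem, h⟩
    have h2 : γ + (s - γ) ∈ Γ := Γ.add_mem hγ h1
    have h3 : γ + (s - γ) = s := by omega
    rw [h3] at h2
    exact hs.2 h2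

end Groth.Agent.S15029
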