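import Groth.Statements.S15030
import Groth.Agent.H75.TwoGen

set_option autoImplicit false
universe u
open CategoryTheory
open TFCurv

namespace Groth.Agent.S15030

/-- Let k be an algebraically closed field of characteristic zero, δ ≥ 1, and A ⊂ k[[t]] the complete
local ring of the A_{2δ} singularity, i.e. the k-subalgebra of power series all of whose exponents
lie in the semigroup generated by 2 and 2δ + 1 (so A = k[[t², t^{2δ+1}]]). For 0 ≤ i ≤ δ let M_i ⊂
k[[t]] be the A-submodule generated by 1 and t^{2δ+1−2i} (these represent all rank-one torsion-free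
A-modules). Then for 0 ≤ i, j ≤ δ the A-module Ext¹_A(M_i, M_j) has length 2·min(i, j) (length over
A equals k-dimension here). (The published statement also covers the two-branch case n = 2δ − 1 with
the same value; only the one-branch case is stated.) -/
theorem result (k : Type u) [Field k] [IsAlgClosed k] [CharZero k] (δ : ℕ) (hδ : 1 ≤ δ) (A : Subalgebra k (PowerSeries k)) (hmono : ∀ f : PowerSeries k, f ∈ A ↔ ∀ n : ℕ, PowerSeries.coeff n f ≠ 0 → n ∈ AddSubmonoid.closure ({2, 2 * δ + 1} : Set ℕ)) (i j : ℕ) (hi : i ≤ δ) (hj : j ≤ δ) : Module.length ↥A (Abelian.Ext (ModuleCat.of ↥A ↥(Submodule.span ↥A ({1, (PowerSeries.X : PowerSeries k) ^ (2 * δ + 1 - 2 * i)} : Set (PowerSeries k)))) (ModuleCat.of ↥A ↥(Submodule.span ↥A ({1, (PowerSeries.X : PowerSeries k) ^ (2 * δ + 1 - 2 * j)} : Set (PowerSeries k)))) 1) = ((2 * min i j : ℕ) : ℕ∞) := by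
  classical
  set Γ : Set ℕ := ((AddSubmonoid.closure ({2, 2 * δ + 1} : Set ℕ) : AddSubmonoid ℕ) : Set ℕ) with hΓdef
  have hΓ : ∀ e, e ∈ Γ ↔ e % 2 = 0 ∨ 2 * δ + 1 ≤ e := by
    intro e
    constructor
    · intro he
      have he' : e ∈ AddSubmonoid.closure ({2, 2 * δ + 1} : Set ℕ) := he
      clear he
      induction he' using AddSubmonoid.closure_induction with
      | mem x hx =>
        rcases hx with rfl | rfl
        · left; rfl
        · right; exact le_refl _
      | zero => left; rfl
      | add x y _ _ hx hy => omega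
    · rintro (h | h)
      · have h2 : (2 : ℕ) ∈ AddSubmonoid.closure ({2, 2 * δ + 1} : Set ℕ) :=
          AddSubmonoid.subset_closure (by simp)
        have := AddSubmonoid.nsmul_mem _ h2 (e / 2)
        have he : (e / 2) • 2 = e := by
          rw [smul_eq_mul]; omega
        rw [he] at this
        exact this
      · by_cases hpar : e % 2 = 0
        · have h2 : (2 : ℕ) ∈ AddSubmonoid.closure ({2, 2 * δ + 1} : Set ℕ) :=
            AddSubmonoid.subset_closure (by simp)
          have := AddSubmonoid.nsmul_mem _ h2 (e / 2)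
          have he : (e / 2) • 2 = e := by
            rw [smul_eq_mul]; omega
          rw [he] at this
          exact this
        · have h2 : (2 : ℕ) ∈ AddSubmonoid.closure ({2, 2 * δ + 1} : Set ℕ) :=
            AddSubmonoid.subset_closure (by simp)
          have h3 : (2 * δ + 1 : ℕ) ∈ AddSubmonoid.closure ({2, 2 * δ + 1} : Set ℕ) :=
            AddSubmonoid.subset_closure (by simp)
          have h4 := AddSubmonoid.add_mem _ h3 (AddSubmonoid.nsmul_mem _ h2 ((e - (2 * δ + 1)) / 2))
          have he : 2 * δ + 1 + ((e - (2 * δ + 1)) / 2) • 2 = e := by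
            rw [smul_eq_mul]; omega
          rw [he] at h4
          exact h4
  have hmono' : ∀ f : PowerSeries k, f ∈ A ↔ Groth.Agent.H75.CubMono.SuppIn Γ f := hmono
  -- the modules
  have key : ∀ (a : ℕ), a ≤ δ → ∀ f : PowerSeries k,
      f ∈ Submodule.span ↥A ({1, (PowerSeries.X : PowerSeries k) ^ (2 * δ + 1 - 2 * a)} :
        Set (PowerSeries k)) ↔
      Groth.Agent.H75.CubMono.SuppIn {e | e % 2 = 0 ∨ 2 * δ + 1 - 2 * a ≤ e} f := by
    intro a ha f
    constructor
    · intro hf
      obtain ⟨r, s, rfl⟩ := Submodule.mem_span_pair.mp hf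
      apply Groth.Agent.H75.CubMono.suppIn_add
      · change Groth.Agent.H75.CubMono.SuppIn _ ((r : PowerSeries k) * 1)
        rw [mul_one]
        refine Groth.Agent.H75.CubMono.suppIn_mono ?_ ((hmono' _).mp r.2)
        intro e he
        rcases (hΓ e).mp he with h | h
        · exact Or.inl h
        · exact Or.inr (by omega)
      · change Groth.Agent.H75.CubMono.SuppIn _
          ((s : PowerSeries k) * (PowerSeries.X : PowerSeries k) ^ (2 * δ + 1 - 2 * a))
        refine Groth.Agent.H75.CubMono.suppIn_mul (S := Γ) (T := {2 * δ + 1 - 2 * a}) ?_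
          ((hmono' _).mp s.2) ?_
        · intro p hp q hq
          rw [Set.mem_singleton_iff] at hq
          have := (hΓ p).mp hp
          change (p + q) % 2 = 0 ∨ 2 * δ + 1 - 2 * a ≤ p + q
          omega
        · intro e he
          rw [PowerSeries.coeff_X_pow] at he
          split_ifs at he with h
          · exact h
          · exact absurd rfl he
    · intro hf
      set r : PowerSeries k := PowerSeries.mk fun e => if e ∈ Γ then PowerSeries.coeff e f else 0
        with hr
      set g : PowerSeries k := PowerSeries.mk fun e => if e ∈ Γ then 0 else PowerSeries.coeff e f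
        with hg
      have hsum : f = r + g := by
        ext e
        rw [map_add, hr, hg, PowerSeries.coeff_mk, PowerSeries.coeff_mk]
        split_ifs <;> simp
      have hrA : r ∈ A := by
        rw [hmono']
        intro e he
        rw [hr, PowerSeries.coeff_mk] at he
        by_contra hne
        exact he (if_neg hne)
      have hgs : Groth.Agent.H75.CubMono.SuppIn
          (Groth.Agent.H75.TwoGen.Sh (2 * δ + 1 - 2 * a) {e | e % 2 = 0 ∧ e < 2 * a}) g := by
        intro e he
        rw [hg, PowerSeries.coeff_mk] at he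
        by_cases hmem : e ∈ Γ
        · exact absurd (if_pos hmem) he
        · rw [if_neg hmem] at he
          have h1 := hf e he
          rw [hΓ] at hmem
          change e % 2 = 0 ∨ 2 * δ + 1 - 2 * a ≤ e at h1
          refine ⟨by omega, ?_⟩
          change (e - (2 * δ + 1 - 2 * a)) % 2 = 0 ∧ e - (2 * δ + 1 - 2 * a) < 2 * a
          omega
      have hsA : Groth.Agent.H75.TwoGen.sh (2 * δ + 1 - 2 * a) g ∈ A := by
        rw [hmono']
        refine Groth.Agent.H75.CubMono.suppIn_mono ?_ (Groth.Agent.H75.TwoGen.suppIn_sh hgs)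
        intro e he
        exact (hΓ e).mpr (Or.inl he.1)
      have hg2 := Groth.Agent.H75.TwoGen.X_pow_mul_sh _ g
        (Groth.Agent.H75.TwoGen.dvd_of_suppIn_Sh hgs)
      rw [hsum]
      refine Submodule.mem_span_pair.mpr ⟨⟨r, hrA⟩, ⟨_, hsA⟩, ?_⟩
      change r * 1 + Groth.Agent.H75.TwoGen.sh (2 * δ + 1 - 2 * a) g *
        (PowerSeries.X : PowerSeries k) ^ (2 * δ + 1 - 2 * a) = r + g
      rw [mul_one, mul_comm, hg2]
  set di := 2 * δ + 1 - 2 * i with hdi
  set dj := 2 * δ + 1 - 2 * j with hdj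
  set T : Set ℕ := {e | e % 2 = 0 ∨ dj ≤ e} with hT
  have ht₀ : 2 * i ∈ Groth.Agent.H75.TwoGen.VI Γ di := by
    refine ⟨(hΓ _).mpr (Or.inl (by omega)), (hΓ _).mpr (Or.inr (by omega))⟩
  have hTcl : ∀ s ∈ T, ∀ e ∈ Γ, s + e ∈ T := by
    intro s hs e he
    have he' := (hΓ e).mp he
    change s % 2 = 0 ∨ dj ≤ s at hs
    change (s + e) % 2 = 0 ∨ dj ≤ s + e
    omega
  have hN1 : (1 : PowerSeries k) ∈ Submodule.span ↥A
      ({1, (PowerSeries.X : PowerSeries k) ^ di} : Set (PowerSeries k)) :=
    Submodule.subset_span (by simp)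
  have hNd : (PowerSeries.X : PowerSeries k) ^ di ∈ Submodule.span ↥A
      ({1, (PowerSeries.X : PowerSeries k) ^ di} : Set (PowerSeries k)) :=
    Submodule.subset_span (by simp)
  have hNgen : ∀ f ∈ Submodule.span ↥A
      ({1, (PowerSeries.X : PowerSeries k) ^ di} : Set (PowerSeries k)),
      ∃ a b : ↥A, f = (a : PowerSeries k) + (b : PowerSeries k) * PowerSeries.X ^ di := by
    intro f hf
    obtain ⟨r, s, rfl⟩ := Submodule.mem_span_pair.mp hf
    refine ⟨r, s, ?_⟩
    change (r : PowerSeries k) * 1 + (s : PowerSeries k) * PowerSeries.X ^ di = _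
    rw [mul_one]
  have main := Groth.Agent.H75.TwoGen.main Γ A hmono' di (2 * i) ht₀ T hTcl _ (key j hj) _ hN1 hNd
    hNgen (2 * δ + 1) (fun e he => Or.inr (by omega))
  rw [main]
  -- the counting
  have hVI : ∀ q, q ∈ Groth.Agent.H75.TwoGen.VI Γ di ↔
      (q % 2 = 0 ∧ 2 * i ≤ q) ∨ (q % 2 = 1 ∧ 2 * δ + 1 ≤ q) := by
    intro q
    change (q ∈ Γ ∧ q + di ∈ Γ) ↔ _
    rw [hΓ, hΓ]
    omega
  have hSh : ∀ t x, x ∈ Groth.Agent.H75.TwoGen.Sh t T ↔ t ≤ x ∧ ((x - t) % 2 = 0 ∨ dj ≤ x - t) :=
    fun t x => Iff.rfl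
  have hUU : ∀ e, e ∈ Groth.Agent.H75.TwoGen.UU Γ di (2 * i) T ↔
      (e % 2 = 0 ∨ dj ≤ e) ∧ ((e + di) % 2 = 0 ∨ dj ≤ e + di) := by
    intro e
    constructor
    · intro h
      have h1 := (hSh _ _).mp (h (2 * i) ((hVI _).mpr (Or.inl ⟨by omega, le_refl _⟩)))
      have h2 := (hSh _ _).mp (h (2 * δ + 1) ((hVI _).mpr (Or.inr ⟨by omega, le_refl _⟩)))
      omega
    · intro h q hq
      rw [hVI] at hq
      rw [hSh]
      omega
  have hWW : ∀ e, e ∈ Groth.Agent.H75.TwoGen.WW di (2 * i) T ↔
      (2 * i + di ≤ e ∧ ((e - (2 * i + di)) % 2 = 0 ∨ dj ≤ e - (2 * i + di))) ∨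
        (2 * i ≤ e ∧ ((e - 2 * i) % 2 = 0 ∨ dj ≤ e - 2 * i)) := by
    intro e
    change (e ∈ Groth.Agent.H75.TwoGen.Sh (2 * i + di) T ∨ e ∈ Groth.Agent.H75.TwoGen.Sh (2 * i) T) ↔ _
    rw [hSh, hSh]
  set m := min i j with hm
  have hmi : m ≤ i := min_le_left _ _
  have hmj : m ≤ j := min_le_right _ _
  have hmor : m = i ∨ m = j := by
    rcases le_total i j with h | h
    · left; exact min_eq_left h
    · right; exact min_eq_right h
  have hset : Groth.Agent.H75.TwoGen.UU Γ di (2 * i) T \ Groth.Agent.H75.TwoGen.WW di (2 * i) T =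
      ((fun a => 2 * (i - m) + 2 * a) '' (↑(Finset.range m) : Set ℕ)) ∪
        ((fun a => dj + 2 * a) '' (↑(Finset.range m) : Set ℕ)) := by
    ext e
    simp only [Set.mem_diff, hUU, hWW, Set.mem_union, Set.mem_image, Finset.coe_range, Set.mem_Iio]
    constructor
    · intro h
      by_cases hpar : e % 2 = 0
      · left
        refine ⟨(e - 2 * (i - m)) / 2, ?_, ?_⟩ <;> omega
      · right
        refine ⟨(e - dj) / 2, ?_, ?_⟩ <;> omega
    · rintro (⟨a, ha, rfl⟩ | ⟨a, ha, rfl⟩)
      · omega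
      · omega
  have hinj1 : Function.Injective (fun a : ℕ => 2 * (i - m) + 2 * a) := by
    intro a b hab
    have : 2 * (i - m) + 2 * a = 2 * (i - m) + 2 * b := hab
    omega
  have hinj2 : Function.Injective (fun a : ℕ => dj + 2 * a) := by
    intro a b hab
    have : dj + 2 * a = dj + 2 * b := hab
    omega
  have hdisj : Disjoint ((fun a => 2 * (i - m) + 2 * a) '' (↑(Finset.range m) : Set ℕ))
      ((fun a => dj + 2 * a) '' (↑(Finset.range m) : Set ℕ)) := by
    rw [Set.disjoint_left]
    rintro e ⟨a, _, rfl⟩ ⟨b, _, hb⟩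
    have : dj + 2 * b = 2 * (i - m) + 2 * a := hb
    omega
  have hf1 : ((fun a => 2 * (i - m) + 2 * a) '' (↑(Finset.range m) : Set ℕ)).Finite :=
    (Finset.finite_toSet _).image _
  have hf2 : ((fun a => dj + 2 * a) '' (↑(Finset.range m) : Set ℕ)).Finite :=
    (Finset.finite_toSet _).image _
  rw [hset, Set.ncard_union_eq hdisj hf1 hf2, Set.ncard_image_of_injective _ hinj1,
    Set.ncard_image_of_injective _ hinj2, Set.ncard_coe_finset, Finset.card_range]
  push_cast
  ring
end Groth.Agent.S15030
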