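import Groth.Statements.S15031
import Groth.Agent.H75.CubExt
import Groth.Agent.H75.CubSpan

set_option autoImplicit false
universe u
open CategoryTheory
open TFCurv

namespace Groth.Agent.S15031

/-- Let k be an algebraically closed field, n ≥ 2, and A = R_n ⊂ k[[t]] the monomial ring of the cubical
semigroup ⟨n, n+1, …, 2n−1⟩, i.e. the k-subalgebra of power series with no terms of degree 1, …,
n−1. For 0 ≤ i ≤ n − 2 let M_i ⊂ k[[t]] be the A-submodule generated by 1, t, …, t^i (the monomial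
module whose value set is Γ_n together with 1, …, i). Then the A-module Ext¹_A(M_i, M_i) has length
i·(n − 2 − i); as the A-endomorphisms of M_i are the scalars, this number is the invariant χ₁(M_i) =
dim Ext¹(M_i, M_i) − dim(End(M_i)/A). (The published statement asserts the value for every module
with this value set; only the monomial module is stated here.) -/
theorem result (k : Type u) [Field k] [IsAlgClosed k] (n : ℕ) (hn : 2 ≤ n) (A : Subalgebra k (PowerSeries k)) (hmono : ∀ f : PowerSeries k, f ∈ A ↔ ∀ m : ℕ, PowerSeries.coeff m f ≠ 0 → (m = 0 ∨ n ≤ m)) (i : ℕ) (hi : i + 2 ≤ n) : Module.length ↥A (Abelian.Ext (ModuleCat.of ↥A ↥(Submodule.span ↥A ((fun a : ℕ => (PowerSeries.X : PowerSeries k) ^ a) '' Set.Iic i))) (ModuleCat.of ↥A ↥(Submodule.span ↥A ((fun a : ℕ => (PowerSeries.X : PowerSeries k) ^ a) '' Set.Iic i))) 1) = ((i * (n - 2 - i) : ℕ) : ℕ∞) := by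
  classical
  set G : Set ℕ := Set.Iic i with hG
  set S : Set ℕ := G ∪ Set.Ici n with hSdef
  have hS : ∀ e, e ∈ S ↔ e ≤ i ∨ n ≤ e := by
    intro e
    simp only [hSdef, hG, Set.mem_union, Set.mem_Iic, Set.mem_Ici]
  have h0 : 0 ∈ S := (hS 0).mpr (Or.inl (Nat.zero_le i))
  have hSn : ∀ e, n ≤ e → e ∈ S := fun e he => (hS e).mpr (Or.inr he)
  have hN := Groth.Agent.H75.CubMono.mem_span_iff n A hmono G (Set.mem_Iic.mpr (Nat.zero_le i))
  have key := Groth.Agent.H75.CubExt.main n (by omega) A hmono S h0 hSn _ hN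
  have hSC : ∀ e, e ∈ Groth.Agent.H75.CubExt.SC S ↔ n ≤ e := by
    intro e
    constructor
    · intro h
      have h' := (hS _).mp (h (n - 1 - e))
      omega
    · intro h d
      rw [hS]
      omega
  have hSD : ∀ e, e ∈ Groth.Agent.H75.CubExt.SD n S ↔ n ≤ e ∧ (e - n ≤ i ∨ n ≤ e - n) := by
    intro e
    change (n ≤ e ∧ e - n ∈ S) ↔ _
    rw [hS]
  have hSE : ∀ e, e ∈ Groth.Agent.H75.CubExt.SE S ↔ e = 0 ∨ n ≤ e := by
    intro e
    constructor
    · intro h
      have h1 := (hS _).mp (h 0 h0)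
      by_cases he0 : e = 0
      · exact Or.inl he0
      · have h2 := (hS _).mp (h (i + 1 - e) ((hS _).mpr (by omega)))
        omega
    · intro h s hs
      rw [hS] at hs ⊢
      omega
  have h1 : S \ Groth.Agent.H75.CubExt.SE S = ↑(Finset.Icc 1 i) := by
    ext e
    simp only [Set.mem_diff, hS, hSE, Finset.coe_Icc, Set.mem_Icc]
    omega
  have h2 : S \ Groth.Agent.H75.CubMono.Gam n = ↑(Finset.Icc 1 i) := by
    ext e
    simp only [Set.mem_diff, hS, Groth.Agent.H75.CubMono.Gam, Set.mem_setOf_eq, Finset.coe_Icc,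
      Set.mem_Icc]
    omega
  have h3 : Groth.Agent.H75.CubExt.SC S \ Groth.Agent.H75.CubExt.SD n S =
      ↑(Finset.Icc (n + i + 1) (2 * n - 1)) := by
    ext e
    simp only [Set.mem_diff, hSC, hSD, Finset.coe_Icc, Set.mem_Icc]
    omega
  rw [h1, h2, h3, Set.ncard_coe_finset, Set.ncard_coe_finset, Nat.card_Icc, Nat.card_Icc] at key
  have e1 : i + 1 - 1 = i := by omega
  have e2 : 2 * n - 1 + 1 - (n + i + 1) = n - 1 - i := by omega
  rw [e1, e2] at key
  have e3 : ((i : ℕ∞) * ((n - 1 - i : ℕ) : ℕ∞)) = ((i * (n - 2 - i) : ℕ) : ℕ∞) + (i : ℕ∞) := by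
    have : i * (n - 1 - i) = i * (n - 2 - i) + i := by
      have : n - 1 - i = (n - 2 - i) + 1 := by omega
      rw [this, Nat.mul_succ]
    rw [← Nat.cast_mul, this, Nat.cast_add]
  rw [e3] at key
  exact WithTop.add_right_cancel (ENat.coe_ne_top i) key

end Groth.Agent.S15031
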