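import Groth.Statements.S15032
import Groth.Agent.H75.CubExt
import Groth.Agent.H75.CubSpan

set_option autoImplicit false
universe u
open CategoryTheory
open TFCurv

namespace Groth.Agent.S15032

/-- Let k be an algebraically closed field, n ≥ 2, and A = R_n ⊂ k[[t]] the monomial ring of the cubical
semigroup ⟨n, n+1, …, 2n−1⟩, i.e. the k-subalgebra of power series with no terms of degree 1, …,
n−1. For the normalisation R~ = k[[t]] viewed as an A-module, χ₁(R~) = (n − 1)², where χ₁(M) = dim_k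
Ext¹_A(M, M) − dim_k(End_A(M)/A): the length of the A-module Ext¹_A(k[[t]], k[[t]]) equals (n − 1)²
plus the length of the A-linear endomorphisms of k[[t]] modulo multiplications by elements of A. -/
theorem result (k : Type u) [Field k] [IsAlgClosed k] (n : ℕ) (hn : 2 ≤ n) (A : Subalgebra k (PowerSeries k)) (hmono : ∀ f : PowerSeries k, f ∈ A ↔ ∀ m : ℕ, PowerSeries.coeff m f ≠ 0 → (m = 0 ∨ n ≤ m)) : Module.length ↥A (Abelian.Ext (ModuleCat.of ↥A (PowerSeries k)) (ModuleCat.of ↥A (PowerSeries k)) 1) = (((n - 1) ^ 2 : ℕ) : ℕ∞) + Module.length ↥A ((PowerSeries k →ₗ[↥A] PowerSeries k) ⧸ LinearMap.range (Algebra.lsmul ↥A ↥A (PowerSeries k) : ↥A →ₐ[↥A] Module.End ↥A (PowerSeries k)).toLinearMap) := by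
  classical
  haveI := Groth.Agent.H75.CubMono.isLocalRing n A hmono
  have hN : ∀ f : PowerSeries k, f ∈ (⊤ : Submodule ↥A (PowerSeries k)) ↔
      Groth.Agent.H75.CubMono.SuppIn Set.univ f := fun f => ⟨fun _ e _ => trivial, fun _ => trivial⟩
  have key := Groth.Agent.H75.CubExt.main n (by omega) A hmono Set.univ trivial
    (fun _ _ => trivial) ⊤ hN
  have hSE : (Set.univ : Set ℕ) \ Groth.Agent.H75.CubExt.SE Set.univ = ∅ := by
    rw [Set.diff_eq_empty]
    intro e _ s _
    trivial
  have h1 : (Set.univ : Set ℕ) \ Groth.Agent.H75.CubMono.Gam n = ↑(Finset.Icc 1 (n - 1)) := by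
    ext e
    simp only [Set.mem_diff, Set.mem_univ, true_and, Groth.Agent.H75.CubMono.Gam,
      Set.mem_setOf_eq, Finset.coe_Icc, Set.mem_Icc]
    omega
  have h2 : Groth.Agent.H75.CubExt.SC (Set.univ : Set ℕ) \ Groth.Agent.H75.CubExt.SD n Set.univ =
      ↑(Finset.range n) := by
    ext e
    simp only [Set.mem_diff, Groth.Agent.H75.CubExt.SC, Groth.Agent.H75.CubExt.SD, Set.mem_univ,
      Set.mem_setOf_eq, implies_true, and_true, true_and, Finset.coe_range, Set.mem_Iio]
    omega
  rw [hSE, h1, h2, Set.ncard_empty, Set.ncard_coe_finset, Set.ncard_coe_finset, Nat.card_Icc,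
    Finset.card_range, Nat.cast_zero, add_zero] at key
  have e1 : n - 1 + 1 - 1 = n - 1 := by omega
  rw [e1] at key
  -- transport to the module `k⟦X⟧` itself
  let iso : ModuleCat.of ↥A ↥(⊤ : Submodule ↥A (PowerSeries k)) ≅ ModuleCat.of ↥A (PowerSeries k) :=
    (Submodule.topEquiv (R := ↥A) (M := PowerSeries k)).toModuleIso
  rw [Groth.Agent.H75.ExtLen.length_ext_congr iso iso 1] at key
  rw [key]
  -- the endomorphism part
  let A' := Groth.Agent.H75.CubMono.monoSub n A hmono (Groth.Agent.H75.CubMono.Gam n)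
    Groth.Agent.H75.CubExt.closed_Gam
  let Ψ : (PowerSeries k →ₗ[↥A] PowerSeries k) →ₗ[↥A] PowerSeries k :=
    LinearMap.applyₗ (1 : PowerSeries k)
  have hΨ : ∀ φ, Ψ φ = φ 1 := fun φ => rfl
  have hrel : ∀ (φ : PowerSeries k →ₗ[↥A] PowerSeries k) (b : PowerSeries k),
      (PowerSeries.X : PowerSeries k) ^ n * φ b = (PowerSeries.X ^ n * b) * φ 1 := by
    intro φ b
    let a : ↥A := ⟨(PowerSeries.X : PowerSeries k) ^ n * b,
      Groth.Agent.H75.CubMono.mem_of_dvd n A hmono (dvd_mul_right _ _)⟩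
    let τ : ↥A := ⟨(PowerSeries.X : PowerSeries k) ^ n,
      Groth.Agent.H75.CubMono.mem_of_dvd n A hmono (dvd_refl _)⟩
    have h : τ • b = a • (1 : PowerSeries k) := by
      change (PowerSeries.X : PowerSeries k) ^ n * b = (PowerSeries.X ^ n * b) * 1
      rw [mul_one]
    have h2 := congrArg φ h
    rw [map_smul, map_smul] at h2
    exact h2
  have hinj : Function.Injective Ψ := by
    intro φ φ' h
    apply LinearMap.ext
    intro b
    have h1 := hrel φ b
    have h2 := hrel φ' b
    rw [hΨ, hΨ] at h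
    rw [h, ← h2] at h1
    exact mul_left_cancel₀ (pow_ne_zero n PowerSeries.X_ne_zero) h1
  have hC : LinearMap.range Ψ = ⊤ := by
    rw [eq_top_iff]
    intro x _
    let φ : PowerSeries k →ₗ[↥A] PowerSeries k :=
      { toFun := fun b => x * b
        map_add' := fun b b' => mul_add _ _ _
        map_smul' := fun a b => by
          change x * ((a : PowerSeries k) * b) = (a : PowerSeries k) * (x * b)
          ring }
    exact ⟨φ, mul_one x⟩
  have hD : Submodule.map Ψ (LinearMap.range (Algebra.lsmul ↥A ↥A (PowerSeries k) :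
      ↥A →ₐ[↥A] Module.End ↥A (PowerSeries k)).toLinearMap) = A' := by
    ext f
    rw [Groth.Agent.H75.CubMono.mem_monoSub, ← Groth.Agent.H75.CubMono.mem_A_iff n A hmono]
    simp only [Submodule.mem_map, LinearMap.mem_range, exists_exists_eq_and]
    constructor
    · rintro ⟨a, rfl⟩
      change (a : PowerSeries k) * 1 ∈ A
      rw [mul_one]
      exact a.2
    · intro hf
      refine ⟨⟨f, hf⟩, ?_⟩
      change f * 1 = f
      rw [mul_one]
  have F := Groth.Agent.H75.CubExt.length_quot_eq_subQ (R := ↥A) Ψ hinj _ ⊤ A' hC hD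
  have F' := Groth.Agent.H75.CubMono.length_subquot_mono n A hmono ⊤ A' Set.univ
    (Groth.Agent.H75.CubMono.Gam n) n (fun e he => Or.inr he) (Set.subset_univ _) hN
    (fun f => Iff.rfl)
  rw [F'] at F
  rw [F, h1, Set.ncard_coe_finset, Nat.card_Icc, e1]
  have : (n - 1) * n = (n - 1) ^ 2 + (n - 1) := by
    have : n = (n - 1) + 1 := by omega
    nth_rw 2 [this]
    ring
  rw [← Nat.cast_mul, this, Nat.cast_add]

end Groth.Agent.S15032
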