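import Groth.Statements.S15033
import Groth.Agent.H75.CubExt
import Groth.Agent.H75.CubSpan

set_option autoImplicit false
universe u
open CategoryTheory
open TFCurv

namespace Groth.Agent.S15033

/-- Let k be an algebraically closed field, n ≥ 2, and A = R_n ⊂ k[[t]] the monomial ring of the cubical
semigroup ⟨n, n+1, …, 2n−1⟩, i.e. the k-subalgebra of power series with no terms of degree 1, …,
n−1. For 0 ≤ i < n − 1 let R_{n−i} ⊂ k[[t]] be the A-submodule generated by 1, t^{n−i}, t^{n−i+1},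
…, t^{n−1}, i.e. the overring of A consisting of the power series with no terms of degree 1, …, n −
i − 1. Then the A-module Ext¹_A(R_{n−i}, R_{n−i}) has length i·(n − 1). Since the A-endomorphisms of
R_{n−i} are the multiplications by elements of R_{n−i}, of colength i over A, this is the published
value χ₁(R_{n−i}) = i·(n − 2) of χ₁(M) = dim Ext¹(M, M) − dim(End(M)/A). -/
theorem result (k : Type u) [Field k] [IsAlgClosed k] (n : ℕ) (hn : 2 ≤ n) (A : Subalgebra k (PowerSeries k)) (hmono : ∀ f : PowerSeries k, f ∈ A ↔ ∀ m : ℕ, PowerSeries.coeff m f ≠ 0 → (m = 0 ∨ n ≤ m)) (i : ℕ) (hi : i + 2 ≤ n) : Module.length ↥A (Abelian.Ext (ModuleCat.of ↥A ↥(Submodule.span ↥A ((fun a : ℕ => (PowerSeries.X : PowerSeries k) ^ a) '' ({0} ∪ Set.Icc (n - i) (n - 1))))) (ModuleCat.of ↥A ↥(Submodule.span ↥A ((fun a : ℕ => (PowerSeries.X : PowerSeries k) ^ a) '' ({0} ∪ Set.Icc (n - i) (n - 1))))) 1) = ((i * (n - 1) : ℕ) : ℕ∞) := by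
  classical
  set G : Set ℕ := {0} ∪ Set.Icc (n - i) (n - 1) with hG
  set S : Set ℕ := G ∪ Set.Ici n with hSdef
  have hS : ∀ e, e ∈ S ↔ e = 0 ∨ n - i ≤ e := by
    intro e
    simp only [hSdef, hG, Set.mem_union, Set.mem_singleton_iff, Set.mem_Icc, Set.mem_Ici]
    omega
  have h0 : 0 ∈ S := (hS 0).mpr (Or.inl rfl)
  have hSn : ∀ e, n ≤ e → e ∈ S := fun e he => (hS e).mpr (Or.inr (by omega))
  have hN := Groth.Agent.H75.CubMono.mem_span_iff n A hmono G (Or.inl rfl)
  have key := Groth.Agent.H75.CubExt.main n (by omega) A hmono S h0 hSn _ hN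
  have hSC : ∀ e, e ∈ Groth.Agent.H75.CubExt.SC S ↔ n - i ≤ e := by
    intro e
    constructor
    · intro h
      have h0' := (hS _).mp (h 0)
      have h1' := (hS _).mp (h 1)
      omega
    · intro h d
      rw [hS]
      omega
  have hSD : ∀ e, e ∈ Groth.Agent.H75.CubExt.SD n S ↔ n ≤ e ∧ (e - n = 0 ∨ n - i ≤ e - n) := by
    intro e
    change (n ≤ e ∧ e - n ∈ S) ↔ _
    rw [hS]
  have hSE : S \ Groth.Agent.H75.CubExt.SE S = ∅ := by
    rw [Set.diff_eq_empty]
    intro e he s hs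
    rw [hS] at he hs ⊢
    omega
  have h1 : S \ Groth.Agent.H75.CubMono.Gam n = ↑(Finset.Icc (n - i) (n - 1)) := by
    ext e
    simp only [Set.mem_diff, hS, Groth.Agent.H75.CubMono.Gam, Set.mem_setOf_eq, Finset.coe_Icc,
      Set.mem_Icc]
    omega
  have h2 : Groth.Agent.H75.CubExt.SC S \ Groth.Agent.H75.CubExt.SD n S =
      ↑((Finset.Icc (n - i) (2 * n - i - 1)).erase n) := by
    ext e
    simp only [Set.mem_diff, hSC, hSD, Finset.coe_erase, Finset.coe_Icc, Set.mem_Icc,
      Set.mem_singleton_iff]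
    omega
  rw [hSE, h1, h2, Set.ncard_empty, Set.ncard_coe_finset, Set.ncard_coe_finset,
    Finset.card_erase_of_mem (by rw [Finset.mem_Icc]; omega), Nat.card_Icc, Nat.card_Icc] at key
  rw [Nat.cast_zero, add_zero] at key
  rw [key]
  have e1 : n - 1 + 1 - (n - i) = i := by omega
  have e2 : 2 * n - i - 1 + 1 - (n - i) - 1 = n - 1 := by omega
  rw [e1, e2]
  push_cast
  rfl

end Groth.Agent.S15033
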