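import Groth.Statements.S15036
import Groth.Agent.H75.NthCount

set_option autoImplicit false
open TFCurv

namespace Groth.Agent.S15036

/-- Let Γ be a numerical semigroup (a submonoid of (ℕ, +) with finite complement), Γ ≠ ℕ, with conductor
c (every n ≥ c lies in Γ, c − 1 does not); let S ⊆ ℕ be a Γ-module in normal form (0 ∈ S, γ + s ∈ S
for γ ∈ Γ, s ∈ S) with conductor c(S) (all n ≥ c(S) in S, c(S) − 1 ∉ S), and let s be a gap of S
such that S ∪ {s} is again a Γ-module. Enumerate S increasingly as s_0 < s_1 < ⋯ and put τ_i(S) =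
s_i + ℓ(S), where ℓ counts the gaps of Γ filled; since ℓ(S ∪ {s}) = ℓ(S) + 1, the termwise
comparison τ(S) ≤ τ(S ∪ {s}) says that the i-th element of S is at most one more than the i-th
element of S ∪ {s} for every i. This holds if and only if s = c(S) − 1, the largest gap of S. -/
theorem result (Γ : AddSubmonoid ℕ) (c : ℕ) (hc : ∀ n : ℕ, c ≤ n → n ∈ Γ) (hc0 : c ≠ 0) (hc1 : c - 1 ∉ Γ) (S : Set ℕ) (hS0 : (0 : ℕ) ∈ S) (hS : ∀ γ : ℕ, γ ∈ Γ → ∀ s : ℕ, s ∈ S → γ + s ∈ S) (cS : ℕ) (hcS : ∀ n : ℕ, cS ≤ n → n ∈ S) (hcS0 : cS ≠ 0) (hcS1 : cS - 1 ∉ S) (s : ℕ) (hs : s ∉ S) (hs' : ∀ γ : ℕ, γ ∈ Γ → γ ≠ 0 → s + γ ∈ S) : (∀ i : ℕ, Nat.nth (fun m => m ∈ S) i ≤ Nat.nth (fun m => m ∈ insert s S) i + 1) ↔ s + 1 = cS := by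
  classical
  have hinfS := Groth.Agent.H75.infinite_of_conductor S cS hcS
  have hinfT : (Set.ofPred (fun m => m ∈ insert s S)).Infinite :=
    Groth.Agent.H75.infinite_of_conductor (insert s S) cS
      (fun n hn => Set.mem_insert_of_mem _ (hcS n hn))
  have hcnt := Groth.Agent.H75.count_insert' S s hs
  have key : (∀ i : ℕ, Nat.nth (fun m => m ∈ S) i ≤ Nat.nth (fun m => m ∈ insert s S) i + 1) ↔
      ∀ g, s < g → g ∈ S := by
    constructor
    · intro h g hg
      by_contra hgS
      have h1 := h (Nat.count (fun m => m ∈ S) g)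
      have h2 : g ≤ Nat.nth (fun m => m ∈ S) (Nat.count (fun m => m ∈ S) g) :=
        Nat.le_nth_count hinfS g
      have h3 : Nat.nth (fun m => m ∈ S) (Nat.count (fun m => m ∈ S) g) ∈ S :=
        Nat.nth_mem_of_infinite hinfS _
      have h4 : g ≠ Nat.nth (fun m => m ∈ S) (Nat.count (fun m => m ∈ S) g) :=
        fun e => hgS (e ▸ h3)
      have h5 : Nat.nth (fun m => m ∈ insert s S) (Nat.count (fun m => m ∈ S) g) < g := by
        rw [← Nat.lt_nth_iff_count_lt hinfT, hcnt g]
        simp [hg]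
      omega
    · intro h i
      by_contra hlt
      push Not at hlt
      set b := Nat.nth (fun m => m ∈ S) i with hb
      have hbS : b ∈ S := Nat.nth_mem_of_infinite hinfS i
      have hcb : Nat.count (fun m => m ∈ S) b = i := Nat.count_nth_of_infinite hinfS i
      have h1 : Nat.nth (fun m => m ∈ insert s S) i < b - 1 := by omega
      rw [← Nat.lt_nth_iff_count_lt hinfT, hcnt (b - 1)] at h1
      have hb1 : b - 1 + 1 = b := by omega
      have h2 : Nat.count (fun m => m ∈ S) (b - 1) ≤ i := by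
        rw [← hcb]; exact Nat.count_monotone _ (by omega)
      by_cases h3 : s < b - 1
      · have h4 : b - 1 ∈ S := h _ h3
        have h5 : Nat.count (fun m => m ∈ S) (b - 1 + 1) = Nat.count (fun m => m ∈ S) (b - 1) + 1 := by
          rw [Nat.count_succ]; simp [h4]
        rw [hb1, hcb] at h5
        simp only [h3, if_true] at h1
        omega
      · simp only [h3, if_false] at h1
        omega
  rw [key]
  constructor
  · intro h
    have h1 : ¬ s < cS - 1 := fun hlt => hcS1 (h _ hlt)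
    have h2 : s < cS := by
      by_contra hge
      exact hs (hcS s (not_lt.mp hge))
    omega
  · intro h g hg
    exact hcS g (by omega)

end Groth.Agent.S15036
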