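import Groth.Statements.S15038
import Groth.Agent.H75.Semigroup

set_option autoImplicit false
open TFCurv

namespace Groth.Agent.S15038

/-- Let Γ be a numerical semigroup (a submonoid of (ℕ, +) with finite complement), Γ ≠ ℕ, with conductor
c (every n ≥ c lies in Γ, c − 1 does not). If Γ is symmetric (for x < c, x is a gap exactly when c −
1 − x ∈ Γ) and its multiplicity e, the least nonzero element of Γ, is greater than 2, then Γ is
generated as an additive monoid by at most e − 1 elements. -/
theorem result (Γ : AddSubmonoid ℕ) (c : ℕ) (hc : ∀ n : ℕ, c ≤ n → n ∈ Γ) (hc0 : c ≠ 0) (hc1 : c - 1 ∉ Γ) (hsymm : ∀ x : ℕ, x < c → (x ∉ Γ ↔ c - 1 - x ∈ Γ)) (e : ℕ) (he : e ∈ Γ) (he0 : e ≠ 0) (hemin : ∀ γ : ℕ, γ ∈ Γ → γ ≠ 0 → e ≤ γ) (he2 : 2 < e) : ∃ G : Finset ℕ, G.card ≤ e - 1 ∧ AddSubmonoid.closure (↑G : Set ℕ) = Γ := by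
  classical
  have h1 : (1 : ℕ) ∉ Γ := fun h => by have := hemin 1 h one_ne_zero; omega
  have h2 : (2 : ℕ) ∉ Γ := fun h => by have := hemin 2 h two_ne_zero; omega
  obtain ⟨a, b, ha, hb, hac, hbc, hab, hea, hae, heb, hbe⟩ :=
    Groth.Agent.H75.symm_split Γ c hc hc0 hc1 hsymm h1 h2 e he he0 hemin
  have hmul : ∀ k : ℕ, k * e ∈ Γ := fun k => by simpa using Γ.nsmul_mem he k
  have hbdd : ∀ n, n ∉ Γ → n < c := by
    intro n hn
    by_contra h
    exact hn (hc n (not_lt.mp h))
  let Ap : Finset ℕ := (Finset.range (c + e)).filter (fun n => n ∈ Γ ∧ n ≠ 0 ∧ n - e ∉ Γ)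
  have hAp : ∀ n, n ∈ Ap ↔ n ∈ Γ ∧ n ≠ 0 ∧ n - e ∉ Γ := by
    intro n
    simp only [Ap, Finset.mem_filter, Finset.mem_range]
    constructor
    · exact fun h => h.2
    · intro h
      refine ⟨?_, h⟩
      have := hbdd _ h.2.2
      omega
  have hApe : ∀ n, n ∈ Ap → e ≤ n := fun n hn => hemin n ((hAp n).mp hn).1 ((hAp n).mp hn).2.1
  have htop : c - 1 + e ∈ Ap := by
    rw [hAp]
    refine ⟨hc _ (by omega), by omega, ?_⟩
    have : c - 1 + e - e = c - 1 := by omega
    rw [this]; exact hc1
  have hcard : Ap.card ≤ e - 1 := by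
    have : (Finset.Ico 1 e).card = e - 1 := by simp
    rw [← this]
    refine Finset.card_le_card_of_injOn (fun n => n % e) ?_ ?_
    · intro n hn
      have hn' := (hAp n).mp hn
      simp only [Finset.coe_Ico, Set.mem_Ico]
      refine ⟨?_, Nat.mod_lt _ (by omega)⟩
      by_contra h0
      have h0' : n % e = 0 := by omega
      obtain ⟨k, hk⟩ := Nat.dvd_of_mod_eq_zero h0'
      have hk0 : k ≠ 0 := by rintro rfl; simp at hk; exact hn'.2.1 hk
      apply hn'.2.2
      have : n - e = (k - 1) * e := by
        rw [hk, Nat.sub_mul, one_mul, mul_comm]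
      rw [this]; exact hmul _
    · intro n hn m hm hmod
      have hn' := (hAp n).mp hn
      have hm' := (hAp m).mp hm
      simp only at hmod
      by_contra hne
      rcases Nat.lt_or_gt_of_ne hne with hlt | hlt
      · have hmodeq : n ≡ m [MOD e] := hmod
        obtain ⟨k, hk⟩ := (Nat.modEq_iff_dvd' hlt.le).mp hmodeq
        have hk0 : k ≠ 0 := by rintro rfl; omega
        apply hm'.2.2
        have : m - e = n + (k - 1) * e := by
          have : k * e = (k - 1) * e + e := by
            rw [Nat.sub_mul, one_mul]
            have : e ≤ k * e := Nat.le_mul_of_pos_left e (Nat.pos_of_ne_zero hk0)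
            omega
          rw [mul_comm] at hk
          omega
        rw [this]
        exact Γ.add_mem hn'.1 (hmul _)
      · have hmodeq : m ≡ n [MOD e] := hmod.symm
        obtain ⟨k, hk⟩ := (Nat.modEq_iff_dvd' hlt.le).mp hmodeq
        have hk0 : k ≠ 0 := by rintro rfl; omega
        apply hn'.2.2
        have : n - e = m + (k - 1) * e := by
          have : k * e = (k - 1) * e + e := by
            rw [Nat.sub_mul, one_mul]
            have : e ≤ k * e := Nat.le_mul_of_pos_left e (Nat.pos_of_ne_zero hk0)
            omega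
          rw [mul_comm] at hk
          omega
        rw [this]
        exact Γ.add_mem hm'.1 (hmul _)
  refine ⟨insert e (Ap.erase (c - 1 + e)), ?_, ?_⟩
  · calc (insert e (Ap.erase (c - 1 + e))).card ≤ (Ap.erase (c - 1 + e)).card + 1 :=
          Finset.card_insert_le _ _
      _ = Ap.card - 1 + 1 := by rw [Finset.card_erase_of_mem htop]
      _ ≤ e - 1 := by
          have : 0 < Ap.card := Finset.card_pos.mpr ⟨_, htop⟩
          omega
  · apply le_antisymm
    · rw [AddSubmonoid.closure_le]
      intro γ hγ
      simp only [Finset.coe_insert, Finset.coe_erase, Set.mem_insert_iff, Set.mem_sdiff,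
        Finset.mem_coe] at hγ
      rcases hγ with rfl | ⟨hγ, _⟩
      · exact he
      · exact ((hAp γ).mp hγ).1
    · have hsub : ∀ x, x ∈ Ap → x < c →
          x ∈ AddSubmonoid.closure (↑(insert e (Ap.erase (c - 1 + e))) : Set ℕ) := by
        intro x hx hxc
        apply AddSubmonoid.subset_closure
        simp only [Finset.coe_insert, Finset.coe_erase, Set.mem_insert_iff, Set.mem_sdiff,
          Finset.mem_coe, Set.mem_singleton_iff]
        right
        exact ⟨hx, by omega⟩
      have heG : e ∈ AddSubmonoid.closure (↑(insert e (Ap.erase (c - 1 + e))) : Set ℕ) := by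
        apply AddSubmonoid.subset_closure
        simp
      intro n
      induction n using Nat.strong_induction_on with
      | _ n ih =>
        intro hn
        by_cases hn0 : n = 0
        · rw [hn0]; exact AddSubmonoid.zero_mem _
        · have hen : e ≤ n := hemin n hn hn0
          by_cases hne : n - e ∈ Γ
          · have h1 := ih (n - e) (by omega) hne
            have h2 := AddSubmonoid.add_mem _ heG h1
            have h3 : e + (n - e) = n := by omega
            rwa [h3] at h2
          · have hnAp : n ∈ Ap := (hAp n).mpr ⟨hn, hn0, hne⟩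
            by_cases htopn : n = c - 1 + e
            · have h6 : n = a + b := by omega
              rw [h6]
              exact AddSubmonoid.add_mem _
                (hsub a ((hAp a).mpr ⟨ha, by omega, hae⟩) hac)
                (hsub b ((hAp b).mpr ⟨hb, by omega, hbe⟩) hbc)
            · apply AddSubmonoid.subset_closure
              simp only [Finset.coe_insert, Finset.coe_erase, Set.mem_insert_iff, Set.mem_sdiff,
                Finset.mem_coe, Set.mem_singleton_iff]
              right
              exact ⟨hnAp, htopn⟩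

end Groth.Agent.S15038
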