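import Groth.Statements.S15054
import Groth.Agent.H75.KerPts

set_option autoImplicit false
universe u
open CategoryTheory CategoryTheory.Limits MonoidalCategory CartesianMonoidalCategory MonObj GrpObj AlgebraicGeometry
open BTGrp

namespace Groth.Agent.S15054

/-- Let ℓ be a prime and G = (G_ν)_ν an ℓ-divisible (Barsotti–Tate) group of height h over a scheme S,
given as the system of its finite locally free layers G_ν of order ℓ^{νh} with inclusions G_ν →
G_{ν+1} exhibiting G_ν as the ℓ^ν-torsion of G_{ν+1} and projections G_{ν+1} → G_ν (multiplication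
by ℓ). Let i_t : G_1 → G_{t+1} denote the iterated inclusions, pinned by i_0 = id and i_{t+1} = i_t
followed by G_{t+1} → G_{t+2}. Then for every t, i_t identifies G_1 with the kernel of
multiplication by ℓ on G_{t+1}: the ℓ-torsion of every layer is the first layer. (The published
statement identifies G_v with the ℓ^v-torsion of G_{v+t} for all v; this row is its case v = 1. The
published base is the spectrum of a Noetherian ring; the argument is formal and any base scheme is
allowed here.) -/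
theorem result {S : Scheme.{u}} (ℓ h : ℕ) [Fact ℓ.Prime] (G : BTGrp.ProBT ℓ S h)
    (i : (t : ℕ) → (G.G 1 ⟶ G.G (t + 1))) (hi0 : i 0 = 𝟙 (G.G 1))
    (hi : ∀ t : ℕ, i (t + 1) = i t ≫ G.incl (t + 1)) (t : ℕ) :
    AlgGrp.IsKernel (i t) ((𝟙 (G.G (t + 1))) ^ ℓ) := by
  induction t with
  | zero =>
    rw [Groth.Agent.H75.KerPts.isKernel_iff]
    have h0 := ((Groth.Agent.H75.KerPts.isKernel_iff _ _).1 (G.isKernel 0)).1
    rw [pow_zero, pow_one, Category.comp_id] at h0
    have h1 : (𝟙 (G.G (0 + 1))) ^ ℓ = 1 := by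
      rw [← G.proj_incl 0, h0, MonObj.comp_one]
    refine ⟨?_, ?_, ?_⟩
    · rw [hi0, Category.id_comp]
      exact h1
    · rw [hi0]
      infer_instance
    · intro T y _
      exact ⟨y, by rw [hi0]; exact Category.comp_id y⟩
  | succ t ih =>
    rw [Groth.Agent.H75.KerPts.isKernel_iff] at ih ⊢
    obtain ⟨ha, hb, hc⟩ := ih
    obtain ⟨ka, kb, kc⟩ := (Groth.Agent.H75.KerPts.isKernel_iff _ _).1 (G.isKernel (t + 1))
    have hpt : ∀ (ν : ℕ) (T : Over S) (y : T ⟶ G.G ν) (n : ℕ), y ≫ (𝟙 (G.G ν)) ^ n = y ^ n := by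
      intro ν T y n
      rw [MonObj.comp_pow, Category.comp_id]
    refine ⟨?_, ?_, ?_⟩
    · rw [hi, hpt, ← MonObj.pow_comp, ← hpt, ha, MonObj.one_comp]
    · rw [hi]
      exact mono_comp _ _
    · intro T y hy
      rw [hpt] at hy
      have hy2 : y ≫ (𝟙 (G.G (t + 1 + 1))) ^ (ℓ ^ (t + 1)) = 1 := by
        rw [hpt, pow_succ', pow_mul, hy, one_pow]
      obtain ⟨w, hw⟩ := kc T y hy2
      have hw2 : w ≫ (𝟙 (G.G (t + 1))) ^ ℓ = 1 := by
        rw [← cancel_mono (G.incl (t + 1)), hpt, MonObj.pow_comp, hw, hy, MonObj.one_comp]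
      obtain ⟨z, hz⟩ := hc T w hw2
      exact ⟨z, by rw [hi, ← Category.assoc, hz, hw]⟩

end Groth.Agent.S15054
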