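import Groth.Statements.S15067
import Groth.Agent.H78.HopfExt.Basic

set_option autoImplicit false
universe u
open scoped TensorProduct
open Hopf

namespace Groth.Agent.S15067

/-- Let R be a henselian Noetherian local ring, A and A'' commutative Hopf algebras over R which are
finite and flat as R-modules (finite flat R-groups G = Spec A, G'' = Spec A''), and A'' → A an
R-algebra homomorphism compatible with the comultiplications and counits (a homomorphism π : G →
G'') making A a faithfully flat A''-module (π faithfully flat). Let J ⊆ A be the ideal generated by
the image of the augmentation ideal of A'', so that G' = Spec A/J is the kernel of π and 1 → G' → G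
→ G'' → 1 is an exact sequence of finite flat R-groups. Then: (2) if A'' and A/J are local rings
(G'' and G' connected), A is a local ring (G is connected); (3) if A'' and A/J are étale over R (G''
and G' finite étale), A is étale over R (G is finite étale). -/
theorem result (R : Type u) [CommRing R] [HenselianLocalRing R] [IsNoetherianRing R]
    (A A'' : Type u) [CommRing A] [HopfAlgebra R A] [Module.Finite R A] [Module.Flat R A]
    [CommRing A''] [HopfAlgebra R A''] [Module.Finite R A''] [Module.Flat R A'']
    [Algebra A'' A] [IsScalarTower R A'' A] [Module.FaithfullyFlat A'' A]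
    (hΔ : (Bialgebra.comulAlgHom R A).comp (IsScalarTower.toAlgHom R A'' A) =
      (Algebra.TensorProduct.map (IsScalarTower.toAlgHom R A'' A) (IsScalarTower.toAlgHom R A'' A)).comp
        (Bialgebra.comulAlgHom R A''))
    (hε : (Bialgebra.counitAlgHom R A).comp (IsScalarTower.toAlgHom R A'' A) = Bialgebra.counitAlgHom R A'') :
    ((IsLocalRing A'' ∧
        IsLocalRing (A ⧸ (RingHom.ker (Bialgebra.counitAlgHom R A'')).map (algebraMap A'' A))) → IsLocalRing A) ∧
      ((Algebra.Etale R A'' ∧
        Algebra.Etale R (A ⧸ (RingHom.ker (Bialgebra.counitAlgHom R A'')).map (algebraMap A'' A))) →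
        Algebra.Etale R A) := by
  refine ⟨?_, ?_⟩
  · rintro ⟨h1, h2⟩
    haveI : Algebra.IsIntegral R A := Algebra.IsIntegral.of_finite R A
    haveI : Algebra.IsIntegral A'' A := Algebra.IsIntegral.tower_top (R := R) (S := A'') (T := A)
    exact Groth.Agent.H78.HopfExt.isLocalRing_of_ext (A'' := A'') (A := A)
      (RingHom.ker (Bialgebra.counitAlgHom R A'')) (RingHom.ker_ne_top _)
  · rintro ⟨h1, h2⟩
    haveI : Module.FinitePresentation R A := Module.finitePresentation_of_finite R A
    haveI : Module.Projective R A := Module.Flat.projective_of_finitePresentation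
    exact Groth.Agent.H78.HopfExt.etale_of_ext R A A'' hε h1 h2

end Groth.Agent.S15067
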