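import Groth.Statements.S15069
import Groth.Agent.H60.ModShriek
-- import your own Groth.Agent.* helpers here

set_option autoImplicit false
universe u
open CategoryTheory TopologicalSpace
open OrdSurf

namespace Groth.Agent.S15069

/-- Let X be a topological space, A a sheaf of rings on X (not necessarily commutative), I a sheaf of
A-modules which is an injective object of the category of sheaves of A-modules, and U an open subset
of X. Then the restriction of I to the site of opens contained in U is an injective object of the
category of sheaves of modules over the restriction of A. (The published statement is for an order
on a smooth projective surface; this row is stated for any sheaf of rings on any topological space.) -/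
theorem result (X : TopCat.{u})
    (A : Sheaf (Opens.grothendieckTopology X) RingCat.{u}) (I : SheafOfModules.{u} A)
    [Injective I] (U : Opens X) : Injective (I.over U) := by
  have : (SheafOfModules.pullback.{u} (𝟙 (A.over U))).PreservesMonomorphisms :=
    Groth.Agent.H60.ModShriek.preservesMonomorphisms_pullback A U
  exact Injective.injective_of_adjoint (Groth.Agent.H60.ModShriek.adj₀ A U) I

end Groth.Agent.S15069
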