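import Groth.Statements.S15078
import Groth.Agent.H75.TwistLead

set_option autoImplicit false
universe u v
open MovLem

namespace Groth.Agent.S15078

/-- Let k be an infinite perfect field, r, m ≥ 1, and let f be a nonzero polynomial in the variable t
with coefficients in the polynomial ring k[x_1, …, x_r]. Then there are a nonzero polynomial h in
k[x_1, …, x_r] and an integer s₀ such that for every s ≥ s₀, every field K over k and every point g
of K^r with h(g) ≠ 0, the polynomial obtained from f by the substitution x_i ↦ x_i + t^{s(m+1)} g_i,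
t ↦ t has as leading coefficient in t a nonzero constant of K; in particular, after dividing by that
constant it is monic in t over K[x_1, …, x_r]. (The published statement asks for a nonempty open
subset of affine r-space over k, independent of s, such that this holds at each of its points g with
residue field K = k(g); the locus h ≠ 0 used here is such an open subset, and every nonempty open
subset contains one of this form.) -/
theorem result
    {k : Type u} [Field k] [Infinite k] [PerfectField k] (r m : ℕ) (hr : 1 ≤ r) (hm : 1 ≤ m)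
    (f : Polynomial (MvPolynomial (Fin r) k)) (hf : f ≠ 0) :
    ∃ h : MvPolynomial (Fin r) k, h ≠ 0 ∧ ∃ s₀ : ℕ, ∀ s : ℕ, s₀ ≤ s →
      ∀ (K : Type v) [Field K] [Algebra k K] (g : Fin r → K), MvPolynomial.aeval g h ≠ 0 →
        ∃ c : K, c ≠ 0 ∧
          (Polynomial.eval₂ (MvPolynomial.aeval (fun i : Fin r => Polynomial.C (MvPolynomial.X i) + Polynomial.C (MvPolynomial.C (g i)) * Polynomial.X ^ (s * (m + 1))) : MvPolynomial (Fin r) k →ₐ[k] Polynomial (MvPolynomial (Fin r) K)).toRingHom Polynomial.X f).leadingCoeff = MvPolynomial.C c := by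
  classical
  -- degrees of coefficients
  let e : ℕ → ℕ := fun j => (f.coeff j).totalDegree
  have hsupp : f.support.Nonempty := by
    rw [Finset.nonempty_iff_ne_empty, Ne, Polynomial.support_eq_empty]; exact hf
  let E : ℕ := f.support.sup e
  obtain ⟨j₀, hj₀, hj₀E⟩ := Finset.exists_mem_eq_sup f.support hsupp e
  let J' : Finset ℕ := f.support.filter (fun j => e j = E)
  have hJ' : J'.Nonempty := ⟨j₀, Finset.mem_filter.mpr ⟨hj₀, hj₀E.symm⟩⟩
  let js : ℕ := J'.max' hJ'
  have hjs' : js ∈ J' := Finset.max'_mem J' hJ'
  have hjs : js ∈ f.support := (Finset.mem_filter.mp hjs').1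
  have hejs : e js = E := (Finset.mem_filter.mp hjs').2
  have hmax : ∀ j ∈ f.support, e j = E → j ≤ js := fun j hj hje =>
    Finset.le_max' J' j (Finset.mem_filter.mpr ⟨hj, hje⟩)
  have hcoeff : f.coeff js ≠ 0 := Polynomial.mem_support_iff.mp hjs
  let h : MvPolynomial (Fin r) k := MvPolynomial.homogeneousComponent E (f.coeff js)
  have hh : h ≠ 0 := by
    have hs2 : (f.coeff js).support.Nonempty := by
      rw [Finset.nonempty_iff_ne_empty, Ne, MvPolynomial.support_eq_empty]; exact hcoeff
    obtain ⟨d, hd, hdE⟩ := Finset.exists_mem_eq_sup (f.coeff js).support hs2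
      (fun s => s.sum fun _ e => e)
    have hdeg : d.degree = E := by
      rw [← hejs]
      exact hdE.symm
    intro h0
    have hc : MvPolynomial.coeff d h = MvPolynomial.coeff d (f.coeff js) := by
      rw [MvPolynomial.coeff_homogeneousComponent, if_pos hdeg]
    rw [h0, MvPolynomial.coeff_zero] at hc
    exact (MvPolynomial.mem_support_iff.mp hd) hc.symm
  refine ⟨h, hh, f.natDegree + 1, ?_⟩
  intro s hs K _ _ g hg
  refine ⟨MvPolynomial.aeval g h, hg, ?_⟩
  set N : ℕ := s * (m + 1) with hNdef
  have hNs : s ≤ N := by rw [hNdef]; exact Nat.le_mul_of_pos_right s (Nat.succ_pos m)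
  have hNpos : 0 < N := by omega
  let a : Fin r → MvPolynomial (Fin r) K := fun i => MvPolynomial.X i
  let b : Fin r → MvPolynomial (Fin r) K := fun i => MvPolynomial.C (g i)
  have hΦ : (MvPolynomial.aeval (fun i : Fin r => Polynomial.C (MvPolynomial.X i) +
      Polynomial.C (MvPolynomial.C (g i)) * Polynomial.X ^ N) :
        MvPolynomial (Fin r) k →ₐ[k] Polynomial (MvPolynomial (Fin r) K))
      = Groth.Agent.H75.twist a b N := rfl
  rw [hΦ, Polynomial.eval₂_eq_sum, Polynomial.sum_def]
  have hq : ∀ j ∈ f.support,
      Groth.Agent.H75.TopC (Groth.Agent.H75.twist a b N (f.coeff j)) (N * e j)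
        (MvPolynomial.aeval b (MvPolynomial.homogeneousComponent (e j) (f.coeff j))) := by
    intro j _
    refine Groth.Agent.H75.twist_topC a b N hNpos (f.coeff j) (e j) ?_
    intro d hd
    exact MvPolynomial.le_totalDegree hd
  have hmain := Groth.Agent.H75.topC_sum_shift f.support
    (fun j => Groth.Agent.H75.twist a b N (f.coeff j)) e N E js
    (fun j hj => by
      have := Polynomial.le_natDegree_of_mem_supp j hj
      omega)
    (fun j hj => (hq j hj).1)
    (fun j hj => Finset.le_sup (f := e) hj) hjs hmax
  have hval : (Groth.Agent.H75.twist a b N (f.coeff js)).coeff (N * E)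
      = MvPolynomial.C (MvPolynomial.aeval g h) := by
    have h1 := (hq js hjs).2
    rw [hejs] at h1
    rw [h1]
    show MvPolynomial.aeval b h = _
    have hcomp : (MvPolynomial.aeval b : MvPolynomial (Fin r) k →ₐ[k] MvPolynomial (Fin r) K)
        = ((Algebra.ofId K (MvPolynomial (Fin r) K)).restrictScalars k).comp
            (MvPolynomial.aeval g) := by
      apply MvPolynomial.algHom_ext
      intro i
      simp [b, Algebra.ofId_apply, MvPolynomial.algebraMap_eq]
    rw [hcomp]
    simp [Algebra.ofId_apply, MvPolynomial.algebraMap_eq]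
  rw [hval] at hmain
  refine hmain.leadingCoeff ?_
  intro h0
  exact hg (MvPolynomial.C_injective (Fin r) K (by rw [h0, map_zero]))

end Groth.Agent.S15078
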