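import Groth.Statements.S15080
import Groth.Agent.H75.Shuffle

set_option autoImplicit false
open W4c2movlemaddchow

namespace Groth.Agent.S15080

/-- Let r, s, t ≥ 1. For an (r+s, t)-shuffle τ of r+s+t letters and an (r, s)-shuffle σ of the first r+s
letters, the composite τ ∘ (σ × id), where σ × id acts as σ on the first r+s letters and fixes the
last t, is an (r, s, t)-shuffle, and (τ, σ) ↦ τ ∘ (σ × id) is a bijection from such pairs onto the
set of all (r, s, t)-shuffles. (A (p₁, …, p_s)-shuffle is a permutation that is monotone on each of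
the consecutive blocks of sizes p₁, …, p_s; composites apply the right-hand factor first.) -/
theorem result (r s t : ℕ) (hr : 1 ≤ r) (hs : 1 ≤ s) (ht : 1 ≤ t) :
    Set.BijOn
      (fun p : Equiv.Perm (Fin (r + s + t)) × Equiv.Perm (Fin (r + s)) =>
        p.1 * W4c2movlemaddchow.extRight (r + s) t p.2)
      ({τ | W4c2movlemaddchow.IsShuffle₂ (r + s) t τ} ×ˢ {σ | W4c2movlemaddchow.IsShuffle₂ r s σ})
      {ν | W4c2movlemaddchow.IsShuffle₃ r s t ν} := by
  classical
  have hinjE : Function.Injective (Fin.castAdd t : Fin (r + s) → Fin (r + s + t)) :=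
    Fin.castAdd_injective (r + s) t
  refine ⟨?_, ?_, ?_⟩
  · -- MapsTo
    rintro ⟨τ, σ⟩ ⟨hτ, hσ⟩
    simp only [Set.mem_setOf_eq] at hτ hσ ⊢
    refine ⟨?_, ?_, ?_⟩
    · intro i i' hii'
      show τ (W4c2movlemaddchow.extRight (r + s) t σ _) ≤ τ (W4c2movlemaddchow.extRight (r + s) t σ _)
      rw [Groth.Agent.H75.extRight_castAdd, Groth.Agent.H75.extRight_castAdd]
      exact hτ.1 (hσ.1 hii')
    · intro j j' hjj'
      show τ (W4c2movlemaddchow.extRight (r + s) t σ _) ≤ τ (W4c2movlemaddchow.extRight (r + s) t σ _)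
      rw [Groth.Agent.H75.extRight_castAdd, Groth.Agent.H75.extRight_castAdd]
      exact hτ.1 (hσ.2 hjj')
    · intro l l' hll'
      show τ (W4c2movlemaddchow.extRight (r + s) t σ _) ≤ τ (W4c2movlemaddchow.extRight (r + s) t σ _)
      rw [Groth.Agent.H75.extRight_natAdd, Groth.Agent.H75.extRight_natAdd]
      exact hτ.2 hll'
  · -- InjOn
    rintro ⟨τ, σ⟩ ⟨hτ, hσ⟩ ⟨τ', σ'⟩ ⟨hτ', hσ'⟩ h
    simp only [Set.mem_setOf_eq] at hτ hσ hτ' hσ' h
    have hσσ' : σ = σ' := Groth.Agent.H75.shuffle_core_unique (Fin.castAdd t) hinjE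
      (W4c2movlemaddchow.extRight (r + s) t) (fun σ i => Groth.Agent.H75.extRight_castAdd _ _ σ i)
      τ τ' σ σ' hτ.1 hτ'.1 h
    subst hσσ'
    have : τ = τ' := mul_right_cancel h
    rw [this]
  · -- SurjOn
    intro ν hν
    simp only [Set.mem_setOf_eq] at hν
    obtain ⟨ρ, hρ1, hρ2⟩ := Groth.Agent.H75.shuffle_core_exists (Fin.castAdd t) hinjE ν
    refine ⟨(ν * W4c2movlemaddchow.extRight (r + s) t ρ, ρ⁻¹), ⟨?_, ?_⟩, ?_⟩
    · simp only [Set.mem_setOf_eq]
      refine ⟨?_, ?_⟩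
      · intro i i' hii'
        show ν (W4c2movlemaddchow.extRight (r + s) t ρ _) ≤ ν (W4c2movlemaddchow.extRight (r + s) t ρ _)
        rw [Groth.Agent.H75.extRight_castAdd, Groth.Agent.H75.extRight_castAdd]
        exact hρ1 hii'
      · intro l l' hll'
        show ν (W4c2movlemaddchow.extRight (r + s) t ρ _) ≤ ν (W4c2movlemaddchow.extRight (r + s) t ρ _)
        rw [Groth.Agent.H75.extRight_natAdd, Groth.Agent.H75.extRight_natAdd]
        exact hν.2.2 hll'
    · simp only [Set.mem_setOf_eq]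
      exact ⟨hρ2 (fun i : Fin r => Fin.castAdd s i) hν.1, hρ2 (fun j : Fin s => Fin.natAdd r j) hν.2.1⟩
    · show ν * W4c2movlemaddchow.extRight (r + s) t ρ * W4c2movlemaddchow.extRight (r + s) t ρ⁻¹ = ν
      rw [mul_assoc, Groth.Agent.H75.extRight_mul_inv, mul_one]

end Groth.Agent.S15080
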