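import Groth.Statements.S15081
import Groth.Agent.H75.Shuffle2

set_option autoImplicit false
open W4c2movlemaddchow

namespace Groth.Agent.S15081

/-- Let r, s, t ≥ 1. For an (r, s+t)-shuffle τ' of r+s+t letters and an (s, t)-shuffle σ' of the last
s+t letters, the composite τ' ∘ (id × σ'), where id × σ' fixes the first r letters and acts as σ' on
the last s+t, is an (r, s, t)-shuffle, and (τ', σ') ↦ τ' ∘ (id × σ') is a bijection from such pairs
onto the set of all (r, s, t)-shuffles. (Shuffles are permutations monotone on each consecutive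
block; composites apply the right-hand factor first.) -/
theorem result (r s t : ℕ) (hr : 1 ≤ r) (hs : 1 ≤ s) (ht : 1 ≤ t) :
    Set.BijOn
      (fun p : Equiv.Perm (Fin (r + s + t)) × Equiv.Perm (Fin (s + t)) =>
        p.1 * W4c2movlemaddchow.extLeft r s t p.2)
      ({τ | W4c2movlemaddchow.IsShuffle₂ r (s + t) ((finCongr (Nat.add_assoc r s t)).permCongr τ)} ×ˢ
        {σ | W4c2movlemaddchow.IsShuffle₂ s t σ})
      {ν | W4c2movlemaddchow.IsShuffle₃ r s t ν} := by
  classical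
  have hinjE := Groth.Agent.H75.e23_injective r s t
  refine ⟨?_, ?_, ?_⟩
  · -- MapsTo
    rintro ⟨τ, σ⟩ ⟨hτ, hσ⟩
    simp only [Set.mem_setOf_eq] at hτ hσ ⊢
    rw [Groth.Agent.H75.isShuffle₂_permCongr_iff] at hτ
    refine ⟨?_, ?_, ?_⟩
    · intro i i' hii'
      show τ (W4c2movlemaddchow.extLeft r s t σ (Groth.Agent.H75.e1 r s t i)) ≤
        τ (W4c2movlemaddchow.extLeft r s t σ (Groth.Agent.H75.e1 r s t i'))
      rw [Groth.Agent.H75.extLeft_e1, Groth.Agent.H75.extLeft_e1]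
      exact hτ.1 hii'
    · intro j j' hjj'
      show τ (W4c2movlemaddchow.extLeft r s t σ _) ≤ τ (W4c2movlemaddchow.extLeft r s t σ _)
      rw [← Groth.Agent.H75.e23_castAdd, ← Groth.Agent.H75.e23_castAdd,
        Groth.Agent.H75.extLeft_e23, Groth.Agent.H75.extLeft_e23]
      exact hτ.2 (hσ.1 hjj')
    · intro l l' hll'
      show τ (W4c2movlemaddchow.extLeft r s t σ _) ≤ τ (W4c2movlemaddchow.extLeft r s t σ _)
      rw [← Groth.Agent.H75.e23_natAdd, ← Groth.Agent.H75.e23_natAdd,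
        Groth.Agent.H75.extLeft_e23, Groth.Agent.H75.extLeft_e23]
      exact hτ.2 (hσ.2 hll')
  · -- InjOn
    rintro ⟨τ, σ⟩ ⟨hτ, hσ⟩ ⟨τ', σ'⟩ ⟨hτ', hσ'⟩ h
    simp only [Set.mem_setOf_eq] at hτ hσ hτ' hσ' h
    rw [Groth.Agent.H75.isShuffle₂_permCongr_iff] at hτ hτ'
    have hσσ' : σ = σ' := Groth.Agent.H75.shuffle_core_unique (Groth.Agent.H75.e23 r s t) hinjE
      (W4c2movlemaddchow.extLeft r s t) (fun σ i => Groth.Agent.H75.extLeft_e23 _ _ _ σ i)
      τ τ' σ σ' hτ.2 hτ'.2 h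
    subst hσσ'
    have : τ = τ' := mul_right_cancel h
    rw [this]
  · -- SurjOn
    intro ν hν
    simp only [Set.mem_setOf_eq] at hν
    obtain ⟨ρ, hρ1, hρ2⟩ := Groth.Agent.H75.shuffle_core_exists (Groth.Agent.H75.e23 r s t) hinjE ν
    refine ⟨(ν * W4c2movlemaddchow.extLeft r s t ρ, ρ⁻¹), ⟨?_, ?_⟩, ?_⟩
    · simp only [Set.mem_setOf_eq]
      rw [Groth.Agent.H75.isShuffle₂_permCongr_iff]
      refine ⟨?_, ?_⟩
      · intro i i' hii'
        show ν (W4c2movlemaddchow.extLeft r s t ρ _) ≤ ν (W4c2movlemaddchow.extLeft r s t ρ _)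
        rw [Groth.Agent.H75.extLeft_e1, Groth.Agent.H75.extLeft_e1]
        exact hν.1 hii'
      · intro l l' hll'
        show ν (W4c2movlemaddchow.extLeft r s t ρ _) ≤ ν (W4c2movlemaddchow.extLeft r s t ρ _)
        rw [Groth.Agent.H75.extLeft_e23, Groth.Agent.H75.extLeft_e23]
        exact hρ1 hll'
    · simp only [Set.mem_setOf_eq]
      refine ⟨hρ2 (fun j : Fin s => Fin.castAdd t j) ?_, hρ2 (fun l : Fin t => Fin.natAdd s l) ?_⟩
      · intro j j' hjj'
        simp only [Groth.Agent.H75.e23_castAdd]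
        exact hν.2.1 hjj'
      · intro l l' hll'
        simp only [Groth.Agent.H75.e23_natAdd]
        exact hν.2.2 hll'
    · show ν * W4c2movlemaddchow.extLeft r s t ρ * W4c2movlemaddchow.extLeft r s t ρ⁻¹ = ν
      rw [mul_assoc, Groth.Agent.H75.extLeft_mul_inv, mul_one]

end Groth.Agent.S15081
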