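import Groth.Statements.S15083
import Groth.Agent.H75.SLPath

set_option autoImplicit false
universe u
open MovLem

namespace Groth.Agent.S15083

/-- Let K be a field and r ≥ 1. For every element A of the special linear group SL_{r+1}(K) there is an
algebraic path in SL_{r+1} from the identity to A defined over K: a matrix M of determinant 1 with
entries in the polynomial ring K[y] such that M(0) is the identity matrix and M(1) = A. (The
published statement takes K to be the function field of SL_{r+1} over the ground field, A its
generic point viewed as a K-rational point, and the parameter space to be the projective line minus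
the point 1, with endpoints 0 and ∞; this row gives the path for an arbitrary K-point A on the
affine line with endpoints 0 and 1, which is what the published construction provides before
composing with the coordinate change y ↦ y/(y − 1).) -/
theorem result
    (K : Type u) [Field K] (r : ℕ) (hr : 1 ≤ r)
    (A : Matrix.SpecialLinearGroup (Fin (r + 1)) K) :
    ∃ M : Matrix.SpecialLinearGroup (Fin (r + 1)) (Polynomial K),
      Matrix.SpecialLinearGroup.map (Polynomial.evalRingHom (0 : K)) M = 1 ∧
      Matrix.SpecialLinearGroup.map (Polynomial.evalRingHom (1 : K)) M = A := by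
  classical
  haveI : Nontrivial (Fin (r + 1)) := Fin.nontrivial_iff_two_le.mpr (by omega)
  let P : Matrix.SpecialLinearGroup (Fin (r + 1)) K → Prop := fun A =>
    ∃ M : Matrix.SpecialLinearGroup (Fin (r + 1)) (Polynomial K),
      Matrix.SpecialLinearGroup.map (Polynomial.evalRingHom (0 : K)) M = 1 ∧
      Matrix.SpecialLinearGroup.map (Polynomial.evalRingHom (1 : K)) M = A
  have htv : ∀ (i j : Fin (r + 1)) (hij : i ≠ j) (a : K), P (Groth.Agent.H75.tv hij a) := by
    intro i j hij a
    refine ⟨Groth.Agent.H75.tv hij (Polynomial.C a * Polynomial.X), ?_, ?_⟩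
    · rw [Groth.Agent.H75.tv_map]
      have : (Polynomial.evalRingHom (0 : K)) (Polynomial.C a * Polynomial.X) = 0 := by simp
      rw [this, Groth.Agent.H75.tv_zero]
    · rw [Groth.Agent.H75.tv_map]
      have : (Polynomial.evalRingHom (1 : K)) (Polynomial.C a * Polynomial.X) = a := by simp
      rw [this]
  have hmul : ∀ A B, P A → P B → P (A * B) := by
    rintro A B ⟨M, hM0, hM1⟩ ⟨N, hN0, hN1⟩
    exact ⟨M * N, by rw [map_mul, hM0, hN0, mul_one], by rw [map_mul, hM1, hN1]⟩
  show P A
  apply Matrix.SpecialLinearGroup.diagonal_transvection_induction' P A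
  · intro i j hij c hc
    rw [Groth.Agent.H75.diag2n_eq_prod]
    exact hmul _ _ (hmul _ _ (hmul _ _ (htv _ _ _ _) (htv _ _ _ _)) (htv _ _ _ _))
      (hmul _ _ (hmul _ _ (htv _ _ _ _) (htv _ _ _ _)) (htv _ _ _ _))
  · exact htv
  · exact hmul

end Groth.Agent.S15083
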