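import Groth.Statements.S15084
import Mathlib

set_option autoImplicit false
universe u
open MovLem

namespace Groth.Agent.S15084

/-- Let A be a Noetherian integrally closed domain with fraction field K, let B be a domain with
fraction field L, and let A → B be an injective ring homomorphism, with K → L the induced map of
fraction fields, such that Spec B → Spec A is surjective (every prime ideal of A is the contraction
of a prime ideal of B). If a ∈ K is such that its image in L lies in B, then a ∈ A. (The published
statement: for a surjective morphism f : Y → X of normal integral separated schemes of finite type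
over a perfect field and a Cartier divisor D on X, if f^*D is effective then D is effective; a
Cartier divisor is locally the divisor of a nonzero rational function a, effectivity of div(a) on a
normal scheme means that a is a regular function, and this row is that local statement, which is
what the published proof establishes.) -/
theorem result
    (A B K L : Type u) [CommRing A] [IsDomain A] [IsNoetherianRing A] [IsIntegrallyClosed A]
    [CommRing B] [IsDomain B] [Field K] [Field L]
    [Algebra A B] [Algebra A K] [IsFractionRing A K] [Algebra B L] [IsFractionRing B L]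
    [Algebra K L] [Algebra A L] [IsScalarTower A K L] [IsScalarTower A B L]
    (hinj : Function.Injective (algebraMap A B))
    (hsurj : ∀ p : Ideal A, p.IsPrime → ∃ q : Ideal B, q.IsPrime ∧ q.comap (algebraMap A B) = p)
    (a : K) (ha : algebraMap K L a ∈ (algebraMap B L).range) :
    a ∈ (algebraMap A K).range := by
  classical
  by_contra haA
  obtain ⟨b₀, hb₀⟩ := ha
  -- ideal of denominators
  let I : Ideal A :=
    { carrier := {t | ∃ c : A, algebraMap A K t * a = algebraMap A K c}
      add_mem' := by
        rintro t t' ⟨c, hc⟩ ⟨c', hc'⟩
        exact ⟨c + c', by rw [map_add, add_mul, hc, hc', map_add]⟩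
      zero_mem' := ⟨0, by simp⟩
      smul_mem' := by
        rintro r t ⟨c, hc⟩
        exact ⟨r * c, by rw [smul_eq_mul, map_mul, mul_assoc, hc, map_mul]⟩ }
  have hImem : ∀ t, t ∈ I ↔ ∃ c : A, algebraMap A K t * a = algebraMap A K c := fun t => Iff.rfl
  have hI1 : (1 : A) ∉ I := by
    rintro ⟨c, hc⟩
    apply haA
    exact ⟨c, by rw [← hc, map_one, one_mul]⟩
  have hItop : I ≠ ⊤ := fun h => hI1 (h ▸ Submodule.mem_top)
  haveI : Nontrivial (A ⧸ I) := Ideal.Quotient.nontrivial_iff.mpr hItop
  obtain ⟨p, hp⟩ := associatedPrimes.nonempty A (A ⧸ I)
  rw [AssociatedPrimes.mem_iff, isAssociatedPrime_iff] at hp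
  obtain ⟨hpprime, zbar, hpz⟩ := hp
  obtain ⟨z, rfl⟩ := Ideal.Quotient.mk_surjective zbar
  have hpmem : ∀ t, t ∈ p ↔ ∃ c : A, algebraMap A K t * (algebraMap A K z * a) = algebraMap A K c := by
    intro t
    rw [hpz, Submodule.mem_colon_singleton, Submodule.mem_bot]
    have : t • (Ideal.Quotient.mk I z) = Ideal.Quotient.mk I (t * z) := by
      rfl
    rw [this, Ideal.Quotient.eq_zero_iff_mem, hImem, map_mul, mul_assoc]
  set b : K := algebraMap A K z * a with hb
  have hbA : b ∉ (algebraMap A K).range := by
    rintro ⟨c, hc⟩
    have : (1 : A) ∈ p := (hpmem 1).mpr ⟨c, by rw [map_one, one_mul, hc]⟩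
    exact hpprime.ne_top ((Ideal.eq_top_iff_one p).mpr this)
  by_cases hcase : ∀ t ∈ p, ∀ c : A, algebraMap A K t * b = algebraMap A K c → c ∈ p
  · -- b integral
    apply hbA
    have hinjK : Function.Injective (algebraMap A K) := IsFractionRing.injective A K
    let N : Submodule A K := Submodule.map (Algebra.linearMap A K) p
    have hNfg : N.FG := Submodule.FG.map _ (IsNoetherian.noetherian p)
    have hNbot : N ≠ ⊥ := by
      obtain ⟨x, y, hy, hxy⟩ := IsFractionRing.div_surjective (A := A) a
      have hy0 : y ≠ 0 := nonZeroDivisors.ne_zero hy
      have hyK : algebraMap A K y ≠ 0 := fun h => hy0 (hinjK (by rw [h, map_zero]))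
      have hyp : y ∈ p := by
        rw [hpmem]
        refine ⟨z * x, ?_⟩
        rw [hb, ← hxy, map_mul]
        field_simp
      intro hbot
      have : algebraMap A K y ∈ N := Submodule.mem_map_of_mem hyp
      rw [hbot, Submodule.mem_bot] at this
      exact hyK this
    have hint : IsIntegral A b := by
      apply isIntegral_of_smul_mem_submodule N hNbot hNfg b
      rintro n ⟨t, ht, rfl⟩
      obtain ⟨c, hc⟩ := (hpmem t).mp ht
      have hcp := hcase t ht c hc
      refine ⟨c, hcp, ?_⟩
      show algebraMap A K c = b • algebraMap A K t
      rw [smul_eq_mul, mul_comm, hc]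
    exact IsIntegrallyClosed.isIntegral_iff.mp hint
  · push Not at hcase
    obtain ⟨t, htp, c, hc, hcp⟩ := hcase
    obtain ⟨q, hqprime, hq⟩ := hsurj p hpprime
    apply hcp
    rw [← hq, Ideal.mem_comap]
    have hinjL : Function.Injective (algebraMap B L) := IsFractionRing.injective B L
    have e : algebraMap A B c = algebraMap A B t * (algebraMap A B z * b₀) := by
      apply hinjL
      rw [map_mul, map_mul, ← IsScalarTower.algebraMap_apply A B L, ← IsScalarTower.algebraMap_apply A B L,
        ← IsScalarTower.algebraMap_apply A B L, hb₀, IsScalarTower.algebraMap_apply A K L,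
        IsScalarTower.algebraMap_apply A K L t, IsScalarTower.algebraMap_apply A K L z, ← map_mul,
        ← map_mul, ← hc, hb]
    rw [e]
    apply Ideal.mul_mem_right
    rw [← Ideal.mem_comap, hq]
    exact htp

end Groth.Agent.S15084
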