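import Groth.Statements.S15086
import Mathlib
import Groth.Agent.H97.FibCount

set_option autoImplicit false
universe u
open CategoryTheory CategoryTheory.Limits AlgebraicGeometry
open MovLem

namespace Groth.Agent.S15086

/-- Let k be an infinite perfect field with algebraic closure k̄, let φ : X → Y be a finite morphism of
k-schemes locally of finite type, let x be a closed point of X and y = φ(x). Let π_X : X_{k̄} → X
and π_Y : Y_{k̄} → Y be the base-change projections and φ_{k̄} : X_{k̄} → Y_{k̄} the induced
morphism. Then the number of points of π_Y⁻¹(y) is at most the number of points of π_X⁻¹(x);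
equality holds if and only if the residue field extension k(y) → k(x) is an isomorphism; and
equality holds whenever φ_{k̄} is injective on π_X⁻¹(x). (Cardinalities are taken in ℕ ∪ {∞}; both
fibres are in fact finite.) -/
theorem result
    {k : Type u} [Field k] [Infinite k] [PerfectField k] {X Y : Scheme.{u}}
    (sX : X ⟶ Spec (CommRingCat.of k)) (sY : Y ⟶ Spec (CommRingCat.of k))
    [LocallyOfFiniteType sX] [LocallyOfFiniteType sY]
    (φ : X ⟶ Y) (hφ : φ ≫ sY = sX) [IsFinite φ]
    (i : Spec (CommRingCat.of (AlgebraicClosure k)) ⟶ Spec (CommRingCat.of k))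
    (hi : i = Spec.map (CommRingCat.ofHom (algebraMap k (AlgebraicClosure k))))
    (φbar : pullback sX i ⟶ pullback sY i)
    (h1 : φbar ≫ pullback.fst sY i = pullback.fst sX i ≫ φ)
    (h2 : φbar ≫ pullback.snd sY i = pullback.snd sX i)
    (x : X) (hx : IsClosed ({x} : Set X)) :
    ((pullback.fst sY i).base ⁻¹' {φ.base x}).encard ≤ ((pullback.fst sX i).base ⁻¹' {x}).encard ∧
      (((pullback.fst sY i).base ⁻¹' {φ.base x}).encard = ((pullback.fst sX i).base ⁻¹' {x}).encard ↔
          Function.Bijective (φ.residueFieldMap x).hom) ∧
      (Set.InjOn φbar.base ((pullback.fst sX i).base ⁻¹' {x}) →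
        ((pullback.fst sY i).base ⁻¹' {φ.base x}).encard = ((pullback.fst sX i).base ⁻¹' {x}).encard) := by
  subst hi
  letI : X.Over (Spec (CommRingCat.of k)) := ⟨sX⟩
  letI : Y.Over (Spec (CommRingCat.of k)) := ⟨sY⟩
  letI := Curv2.resAlgebra k X x
  letI := Curv2.resAlgebra k Y (φ.base x)
  haveI : LocallyOfFiniteType (X ↘ Spec (CommRingCat.of k)) := ‹LocallyOfFiniteType sX›
  haveI : LocallyOfFiniteType (Y ↘ Spec (CommRingCat.of k)) := ‹LocallyOfFiniteType sY›
  haveI hfx : Module.Finite k (X.residueField x) :=
    Groth.Agent.H97.FibCount.finite_residueField_of_isClosed k X x hx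
  -- the residue field map is `k`-linear
  have hcomm : (φ.residueFieldMap x).hom.comp (Curv2.resMap k Y (φ.base x)) =
      Curv2.resMap k X x := by
    refine Groth.Agent.H25.ResProp.eq_resMap sX x _ ?_
    rw [CommRingCat.ofHom_comp, Spec.map_comp, CommRingCat.ofHom_hom]
    have h1 := Groth.Agent.H25.GenFibre.fromSpecResidueField_comp k Y (φ.base x)
    have h2 := φ.SpecMap_residueFieldMap_fromSpecResidueField x
    have h3 : Spec.map (CommRingCat.ofHom (Curv2.resMap k Y (φ.base x))) =
        Y.fromSpecResidueField (φ.base x) ≫ sY := h1.symm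
    rw [h3, ← Category.assoc, h2, Category.assoc, hφ]
  let g : Y.residueField (φ.base x) →ₐ[k] X.residueField x :=
    { (φ.residueFieldMap x).hom with
      commutes' := fun c => congrArg (fun f => f c) hcomm }
  have hginj : Function.Injective g := (φ.residueFieldMap x).hom.injective
  haveI hfy : Module.Finite k (Y.residueField (φ.base x)) :=
    Module.Finite.of_injective g.toLinearMap hginj
  have eX := Groth.Agent.H97.FibCount.encard_fibre_of_finite k X x
  have eY := Groth.Agent.H97.FibCount.encard_fibre_of_finite k Y (φ.base x)
  have eX' : ((pullback.fst sX (Spec.map (CommRingCat.ofHom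
      (algebraMap k (AlgebraicClosure k))))).base ⁻¹' {x}).encard =
      (Module.finrank k (X.residueField x) : ℕ∞) := eX
  have eY' : ((pullback.fst sY (Spec.map (CommRingCat.ofHom
      (algebraMap k (AlgebraicClosure k))))).base ⁻¹' {φ.base x}).encard =
      (Module.finrank k (Y.residueField (φ.base x)) : ℕ∞) := eY
  have hle : Module.finrank k (Y.residueField (φ.base x)) ≤
      Module.finrank k (X.residueField x) :=
    LinearMap.finrank_le_finrank_of_injective (f := g.toLinearMap) hginj
  have part1 : ((pullback.fst sY (Spec.map (CommRingCat.ofHom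
      (algebraMap k (AlgebraicClosure k))))).base ⁻¹' {φ.base x}).encard ≤
      ((pullback.fst sX (Spec.map (CommRingCat.ofHom
      (algebraMap k (AlgebraicClosure k))))).base ⁻¹' {x}).encard := by
    rw [eX', eY']
    exact_mod_cast hle
  refine ⟨part1, ?_, ?_⟩
  · rw [eX', eY']
    constructor
    · intro h
      have h' : Module.finrank k (Y.residueField (φ.base x)) =
          Module.finrank k (X.residueField x) := by exact_mod_cast h
      refine ⟨hginj, ?_⟩
      exact (LinearMap.injective_iff_surjective_of_finrank_eq_finrank
        (f := g.toLinearMap) h').mp hginj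
    · intro h
      have e : Y.residueField (φ.base x) ≃ₗ[k] X.residueField x :=
        LinearEquiv.ofBijective g.toLinearMap h
      exact_mod_cast e.finrank_eq
  · intro hinj
    refine le_antisymm part1 ?_
    have hsub : φbar.base '' ((pullback.fst sX (Spec.map (CommRingCat.ofHom
        (algebraMap k (AlgebraicClosure k))))).base ⁻¹' {x}) ⊆
        (pullback.fst sY (Spec.map (CommRingCat.ofHom
        (algebraMap k (AlgebraicClosure k))))).base ⁻¹' {φ.base x} := by
      rintro _ ⟨z, hz, rfl⟩
      have hz' : (pullback.fst sX (Spec.map (CommRingCat.ofHom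
        (algebraMap k (AlgebraicClosure k))))).base z = x := hz
      change (pullback.fst sY _).base (φbar.base z) = φ.base x
      rw [← hz', ← Scheme.Hom.comp_apply, ← Scheme.Hom.comp_apply, h1]
    rw [← hinj.encard_image]
    exact Set.encard_le_encard hsub

end Groth.Agent.S15086
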