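import Groth.Statements.S15115
import Groth.Agent.H93.Reynolds
import Groth.Agent.H93.LinRedInt

set_option autoImplicit false
universe u
open HopfRep

namespace Groth.Agent.S15115

open TensorProduct in
/-- Let k be an algebraically closed field, H a finite-dimensional commutative Hopf algebra over k all
of whose finite-dimensional comodules are semisimple (a finite linearly reductive group scheme G
over k), A a commutative k-algebra, and M an A-module with an H-coaction that is A-linear (G acts on
M by A-module maps, A carrying the trivial action). Let A' be a commutative A-algebra and N = A' ⊗_A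
M its base change, exhibited by an A-linear map φ : M → N, with the induced coaction: A'-linear and
compatible with φ. Then invariants commute with this base change: writing M^G for the A-submodule of
coinvariant elements of M, the natural map A' ⊗_A M^G → N, a' ⊗ m ↦ a' φ(m), is injective and its
image is exactly the set of coinvariant elements of N. (The published statement is the isomorphism
ρ^* π_* F → π'_* σ^* F for a tame Deligne–Mumford stack with coarse moduli space π and any base
change ρ of the coarse space; this row is the statement about invariants to which its proof reduces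
it, for modules that need not be finitely generated.) -/
theorem result (k : Type u) [Field k] [IsAlgClosed k]
    (H : Type u) [CommRing H] [HopfAlgebra k H] [Module.Finite k H] (hred : HopfRep.IsLinearlyReductive k H)
    (A : Type u) [CommRing A] [Algebra k A]
    (M : Type u) [AddCommGroup M] [Module k M] [Module A M] [IsScalarTower k A M] [HopfRep.Comod k H M]
    (hlin : ∀ (a : A) (m : M), HopfRep.Comod.coact (k := k) (A := H) (a • m) = a • HopfRep.Comod.coact (k := k) (A := H) m)
    (A' : Type u) [CommRing A'] [Algebra k A'] [Algebra A A'] [IsScalarTower k A A']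
    (N : Type u) [AddCommGroup N] [Module k N] [Module A N] [Module A' N]
    [IsScalarTower k A N] [IsScalarTower A A' N] [IsScalarTower k A' N] [HopfRep.Comod k H N]
    (φ : M →ₗ[A] N) (hφ : IsBaseChange A' φ)
    (hcomp : ∀ m : M, HopfRep.Comod.coact (k := k) (A := H) (φ m) =
      LinearMap.rTensor H (φ.restrictScalars k) (HopfRep.Comod.coact (k := k) (A := H) m))
    (hlinN : ∀ (a' : A') (n : N), HopfRep.Comod.coact (k := k) (A := H) (a' • n) = a' • HopfRep.Comod.coact (k := k) (A := H) n)
    (P : Submodule A M) (hP : (P : Set M) = (HopfRep.fixedPts k H M : Set M)) :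
    Function.Injective (TensorProduct.lift (((Algebra.lsmul A A N : A' →ₐ[A] Module.End A N).toLinearMap).compl₂ (φ ∘ₗ P.subtype))) ∧
      Set.range (TensorProduct.lift (((Algebra.lsmul A A N : A' →ₐ[A] Module.End A N).toLinearMap).compl₂ (φ ∘ₗ P.subtype))) =
        (HopfRep.fixedPts k H N : Set N) := by
  classical
  obtain ⟨α, hαint, h1⟩ := Groth.Agent.H93.exists_integral_of_linRed hred
  have hα := (Groth.Agent.H93.isComodHom_iff_isInt α).2 hαint
  set ψ₀ : H →ₗ[k] k := Groth.Agent.H93.reynFun k H α with hψ₀
  -- slices are linear for the left-factor actions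
  have sliceA : ∀ (a : A) (x : M ⊗[k] H),
      Groth.Agent.H93.slice M ψ₀ (a • x) = a • Groth.Agent.H93.slice M ψ₀ x := by
    intro a x
    induction x using TensorProduct.induction_on with
    | zero => simp
    | add x y hx hy => simp only [smul_add, map_add, hx, hy]
    | tmul m h =>
      rw [TensorProduct.smul_tmul', Groth.Agent.H93.slice_tmul, Groth.Agent.H93.slice_tmul,
        smul_comm]
  have sliceA' : ∀ (a : A') (x : N ⊗[k] H),
      Groth.Agent.H93.slice N ψ₀ (a • x) = a • Groth.Agent.H93.slice N ψ₀ x := by
    intro a x
    induction x using TensorProduct.induction_on with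
    | zero => simp
    | add x y hx hy => simp only [smul_add, map_add, hx, hy]
    | tmul m h =>
      rw [TensorProduct.smul_tmul', Groth.Agent.H93.slice_tmul, Groth.Agent.H93.slice_tmul,
        smul_comm]
  -- the Reynolds operators
  have EMlin : ∀ (a : A) (m : M), Groth.Agent.H93.reyn M α (a • m) = a • Groth.Agent.H93.reyn M α m := by
    intro a m
    change Groth.Agent.H93.slice M ψ₀ (HopfRep.Comod.coact (k := k) (A := H) (a • m)) =
      a • Groth.Agent.H93.slice M ψ₀ (HopfRep.Comod.coact (k := k) (A := H) m)
    rw [hlin, sliceA]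
  have ENlin : ∀ (a : A') (n : N), Groth.Agent.H93.reyn N α (a • n) = a • Groth.Agent.H93.reyn N α n := by
    intro a n
    change Groth.Agent.H93.slice N ψ₀ (HopfRep.Comod.coact (k := k) (A := H) (a • n)) =
      a • Groth.Agent.H93.slice N ψ₀ (HopfRep.Comod.coact (k := k) (A := H) n)
    rw [hlinN, sliceA']
  have Eφ : ∀ m : M, Groth.Agent.H93.reyn N α (φ m) = φ (Groth.Agent.H93.reyn M α m) := by
    intro m
    change Groth.Agent.H93.slice N ψ₀ (HopfRep.Comod.coact (k := k) (A := H) (φ m)) =
      φ (Groth.Agent.H93.slice M ψ₀ (HopfRep.Comod.coact (k := k) (A := H) m))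
    rw [hcomp, Groth.Agent.H93.slice_rTensor_apply]
    rfl
  have memP : ∀ m : M, m ∈ P ↔ m ∈ HopfRep.fixedPts k H M := by
    intro m
    rw [← SetLike.mem_coe, hP, SetLike.mem_coe]
  let EA : M →ₗ[A] M :=
    { toFun := Groth.Agent.H93.reyn M α
      map_add' := fun x y => map_add _ x y
      map_smul' := fun a m => EMlin a m }
  let r : M →ₗ[A] P := EA.codRestrict P
    (fun m => (memP _).2 (Groth.Agent.H93.reyn_mem_fixedPts α hα m))
  have hr : ∀ p : P, r (P.subtype p) = p := by
    intro p
    apply Subtype.ext
    exact Groth.Agent.H93.reyn_of_mem_fixedPts α h1 _ ((memP _).1 p.2)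
  set T := TensorProduct.lift (((Algebra.lsmul A A N : A' →ₐ[A] Module.End A N).toLinearMap).compl₂
    (φ ∘ₗ P.subtype)) with hT
  have T_tmul : ∀ (a' : A') (p : P), T (a' ⊗ₜ[A] p) = a' • φ (p : M) := by
    intro a' p
    rw [hT, TensorProduct.lift.tmul]
    rfl
  have T_eq : ∀ x : A' ⊗[A] P, T x = hφ.equiv (P.subtype.lTensor A' x) := by
    intro x
    induction x using TensorProduct.induction_on with
    | zero => simp
    | add x y hx hy => simp only [map_add, hx, hy]
    | tmul a' p =>
      rw [T_tmul, LinearMap.lTensor_tmul, IsBaseChange.equiv_tmul]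
      rfl
  have T_smul : ∀ (a' : A') (x : A' ⊗[A] P), T (a' • x) = a' • T x := by
    intro a' x
    induction x using TensorProduct.induction_on with
    | zero => simp
    | add x y hx hy => simp only [smul_add, map_add, hx, hy]
    | tmul b p =>
      rw [TensorProduct.smul_tmul', T_tmul, T_tmul, smul_eq_mul, mul_smul]
  refine ⟨?_, ?_⟩
  · -- injectivity
    intro x y hxy
    have h2 : P.subtype.lTensor A' x = P.subtype.lTensor A' y := by
      apply hφ.equiv.injective
      rw [← T_eq, ← T_eq, hxy]
    have h3 : ∀ z : A' ⊗[A] P, r.lTensor A' (P.subtype.lTensor A' z) = z := by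
      intro z
      rw [← LinearMap.comp_apply, ← LinearMap.lTensor_comp]
      have : r ∘ₗ P.subtype = LinearMap.id := LinearMap.ext hr
      rw [this, LinearMap.lTensor_id, LinearMap.id_apply]
    rw [← h3 x, ← h3 y, h2]
  · -- the range
    apply Set.Subset.antisymm
    · rintro _ ⟨x, rfl⟩
      induction x using TensorProduct.induction_on with
      | zero => rw [map_zero]; exact (HopfRep.fixedPts k H N).zero_mem
      | add x y hx hy => rw [map_add]; exact (HopfRep.fixedPts k H N).add_mem hx hy
      | tmul a' p =>
        rw [T_tmul]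
        change HopfRep.Comod.coact (k := k) (A := H) (a' • φ (p : M)) = (a' • φ (p : M)) ⊗ₜ[k] (1 : H)
        have hp : HopfRep.Comod.coact (k := k) (A := H) (p : M) = (p : M) ⊗ₜ[k] (1 : H) :=
          (memP _).1 p.2
        rw [hlinN, hcomp, hp, LinearMap.rTensor_tmul, TensorProduct.smul_tmul']
        rfl
    · intro n hn
      have key : ∀ n : N, Groth.Agent.H93.reyn N α n ∈ Set.range T := by
        intro n
        induction n using hφ.inductionOn with
        | zero => exact ⟨0, by rw [map_zero, map_zero]⟩
        | tmul m =>
          refine ⟨(1 : A') ⊗ₜ[A] r m, ?_⟩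
          rw [T_tmul, one_smul, Eφ]
          rfl
        | smul a' n hn =>
          obtain ⟨x, hx⟩ := hn
          exact ⟨a' • x, by rw [T_smul, hx, ENlin]⟩
        | add n₁ n₂ h₁ h₂ =>
          obtain ⟨x₁, hx₁⟩ := h₁
          obtain ⟨x₂, hx₂⟩ := h₂
          exact ⟨x₁ + x₂, by rw [map_add, hx₁, hx₂, map_add]⟩
      have := key n
      rwa [Groth.Agent.H93.reyn_of_mem_fixedPts α h1 n hn] at this

end Groth.Agent.S15115
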