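import Groth.Statements.S15117
import Mathlib

set_option autoImplicit false
universe u v w
open TensorProduct
open NRGIT

namespace Groth.Agent.S15117

/-- Let k be a field, π : A → B a map of commutative bialgebras over k, W a right A-comodule and V ⊆ W a
subcomodule all of whose elements are coinvariant for the B-coaction induced through π. Then the
coaction of every v ∈ V lies in V ⊗ A' ⊆ W ⊗ A, where A' ⊆ A is the set of elements a with (π ⊗
id)(Δ a) = 1 ⊗ a, i.e. coinvariant for the coaction of B on A through π on the left factor; the row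
states membership in the span of the pure tensors w ⊗ a with w ∈ V and a ∈ A'. (The published
statement is for a linear algebraic group H over an algebraically closed field of characteristic
zero, a normal subgroup N and an H-stable space V of N-invariant sections of a linearised line
bundle, with the coaction landing in O(H)^N ⊗ V, where O(H)^N is the ring of functions on H
invariant under N acting by right multiplication; this row is the comodule form, for any bialgebra
map over a field, where normality of N is not needed.) -/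
theorem result (k : Type u) [Field k]
    (A B : Type v) [CommRing A] [CommRing B] [Bialgebra k A] [Bialgebra k B] (π : A →ₐc[k] B)
    (W : Type w) [AddCommGroup W] [Module k W] [HopfRep.Comod k A W]
    (V : Submodule k W) (hV : HopfRep.IsSubcomod (k := k) (A := A) V)
    (hfix : ∀ v ∈ V, (π.toLinearMap.lTensor W) (HopfRep.Comod.coact (k := k) (A := A) v) = v ⊗ₜ[k] (1 : B))
    (v : W) (hv : v ∈ V) :
    HopfRep.Comod.coact (k := k) (A := A) v ∈
      Submodule.span k {x : W ⊗[k] A | ∃ w ∈ V, ∃ a : A,
        (π.toLinearMap.rTensor A) (Coalgebra.comul (R := k) a) = (1 : B) ⊗ₜ[k] a ∧ x = w ⊗ₜ[k] a} := by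
  classical
  -- the defect map
  let Θ : A →ₗ[k] B ⊗[k] A :=
    (π.toLinearMap.rTensor A) ∘ₗ (Coalgebra.comul (R := k) (A := A)) - (TensorProduct.mk k B A) 1
  have hΘ : ∀ a : A, Θ a = 0 ↔ (π.toLinearMap.rTensor A) (Coalgebra.comul (R := k) a) = (1 : B) ⊗ₜ[k] a := by
    intro a
    simp only [Θ, LinearMap.sub_apply, LinearMap.comp_apply, TensorProduct.mk_apply, sub_eq_zero]
  obtain ⟨ξ, hξ⟩ := hV v hv
  -- naturality identities
  have n1 : (LinearMap.lTensor W (π.toLinearMap.rTensor A)) ∘ₗ (TensorProduct.assoc k W A A).toLinearMap =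
      (TensorProduct.assoc k W B A).toLinearMap ∘ₗ LinearMap.rTensor A (LinearMap.lTensor W π.toLinearMap) := by
    ext w a a'
    simp
  have n2 : (TensorProduct.assoc k W B A).toLinearMap ∘ₗ LinearMap.rTensor A ((TensorProduct.mk k W B).flip 1) =
      LinearMap.lTensor W ((TensorProduct.mk k B A) 1) := by
    ext w a
    simp
  have n3 : (LinearMap.lTensor W π.toLinearMap ∘ₗ HopfRep.Comod.coact (k := k) (A := A)) ∘ₗ V.subtype =
      ((TensorProduct.mk k W B).flip 1) ∘ₗ V.subtype := by
    ext x
    simp only [LinearMap.comp_apply, Submodule.subtype_apply, LinearMap.flip_apply,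
      TensorProduct.mk_apply]
    exact hfix x x.2
  -- key: lTensor W Θ (coact v) = 0
  have key : LinearMap.lTensor W Θ (HopfRep.Comod.coact (k := k) (A := A) v) = 0 := by
    have e1 : LinearMap.lTensor W ((π.toLinearMap.rTensor A) ∘ₗ (Coalgebra.comul (R := k) (A := A))) ∘ₗ
        HopfRep.Comod.coact (k := k) (A := A) =
        (TensorProduct.assoc k W B A).toLinearMap ∘ₗ
          LinearMap.rTensor A (LinearMap.lTensor W π.toLinearMap ∘ₗ HopfRep.Comod.coact (k := k) (A := A)) ∘ₗ
          HopfRep.Comod.coact (k := k) (A := A) := by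
      rw [LinearMap.lTensor_comp, LinearMap.comp_assoc, ← HopfRep.Comod.coassoc, ← LinearMap.comp_assoc, n1,
        LinearMap.rTensor_comp]
      simp only [LinearMap.comp_assoc]
    have h1 : LinearMap.lTensor W ((π.toLinearMap.rTensor A) ∘ₗ (Coalgebra.comul (R := k) (A := A)))
        (HopfRep.Comod.coact (k := k) (A := A) v) =
        LinearMap.lTensor W ((TensorProduct.mk k B A) 1) (HopfRep.Comod.coact (k := k) (A := A) v) := by
      have h2 := LinearMap.congr_fun e1 v
      simp only [LinearMap.comp_apply] at h2
      rw [h2, ← n2, LinearMap.comp_apply]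
      congr 1
      rw [← hξ, ← LinearMap.comp_apply, ← LinearMap.rTensor_comp, n3, LinearMap.rTensor_comp,
        LinearMap.comp_apply]
    show LinearMap.lTensor W ((π.toLinearMap.rTensor A) ∘ₗ (Coalgebra.comul (R := k) (A := A)) -
      (TensorProduct.mk k B A) 1) _ = 0
    rw [LinearMap.lTensor_sub, LinearMap.sub_apply, h1, sub_self]
  -- pull back to V ⊗ A
  have key2 : LinearMap.lTensor V Θ ξ = 0 := by
    have hinj : Function.Injective (LinearMap.rTensor (B ⊗[k] A) V.subtype) :=
      Module.Flat.rTensor_preserves_injective_linearMap _ V.injective_subtype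
    apply hinj
    rw [map_zero, ← LinearMap.comp_apply, LinearMap.rTensor_comp_lTensor, ← LinearMap.lTensor_comp_rTensor,
      LinearMap.comp_apply, hξ, key]
  -- exactness
  have hexact : Function.Exact (LinearMap.ker Θ).subtype Θ := by
    intro a
    rw [← LinearMap.mem_ker]
    simp
  have hex2 := Module.Flat.lTensor_exact V hexact
  have main : ∀ ζ : ↥V ⊗[k] ↥(LinearMap.ker Θ),
      (LinearMap.rTensor A V.subtype) ((LinearMap.lTensor (↥V) (LinearMap.ker Θ).subtype) ζ) ∈
      Submodule.span k {x : W ⊗[k] A | ∃ w ∈ V, ∃ a : A,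
        (π.toLinearMap.rTensor A) (Coalgebra.comul (R := k) a) = (1 : B) ⊗ₜ[k] a ∧ x = w ⊗ₜ[k] a} := by
    intro ζ
    induction ζ using TensorProduct.induction_on with
    | zero => simp
    | tmul x a =>
      apply Submodule.subset_span
      refine ⟨x, x.2, a, (hΘ a).mp a.2, ?_⟩
      simp
    | add x y hx hy =>
      rw [map_add, map_add]
      exact Submodule.add_mem _ hx hy
  obtain ⟨ζ, hζ⟩ := (hex2 ξ).mp key2
  rw [← hξ, ← hζ]
  exact main ζ

end Groth.Agent.S15117
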