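import Groth.Statements.S15121
import Groth.Agent.H75.Slice

set_option autoImplicit false
universe u v w
open InvQ

namespace Groth.Agent.S15121

/-- Let k be a field of characteristic zero and A a commutative k-algebra graded by a finitely generated
free abelian group Λ (the character group of a torus acting on Spec A) whose grading monoid is
positive: if the pieces of degrees w and −w are both non-zero then w = 0. Let δ be a locally
nilpotent k-derivation of A (an action of the additive group) that is homogeneous of degree d, with
the piece of degree d equal to zero (the graded condition on the Lie algebra weight). Suppose that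
no maximal ideal of A contains both all graded pieces of non-zero degree and the image of δ (every
torus-fixed closed point has trivial stabiliser under the additive group). Then δ has a homogeneous
slice: some s of degree −d with δ s = 1. (The published statement is for the coordinate ring of an
affine variety over an algebraically closed field of characteristic zero and concludes moreover that
the quotient map by the additive group is a trivial principal bundle, which follows from the slice
by a standard argument not restated here; this row keeps the algebraic content, for any such graded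
algebra.) -/
theorem result
    (k : Type u) [Field k] [CharZero k]
    (A : Type v) [CommRing A] [Algebra k A]
    (Λ : Type w) [AddCommGroup Λ] [DecidableEq Λ] [Module.Free ℤ Λ] [Module.Finite ℤ Λ]
    (𝒜 : Λ → Submodule k A) [GradedAlgebra 𝒜]
    (hpos : ∀ w : Λ, 𝒜 w ≠ ⊥ → 𝒜 (-w) ≠ ⊥ → w = 0)
    (δ : Derivation k A A) (hnil : ∀ a : A, ∃ n : ℕ, ((δ : A →ₗ[k] A) ^ n) a = 0)
    (d : Λ) (hhom : ∀ (w : Λ) (a : A), a ∈ 𝒜 w → δ a ∈ 𝒜 (w + d)) (hd : 𝒜 d = ⊥)
    (hfix : ∀ m : Ideal A, m.IsMaximal → (∀ w : Λ, w ≠ 0 → (𝒜 w : Set A) ⊆ m) → ¬ (Set.range δ ⊆ m)) :
    ∃ s ∈ 𝒜 (-d), δ s = 1 := by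
  have hpos' : ∀ (p : Λ) (a x : A), a ∈ 𝒜 p → x ∈ 𝒜 (-p) → a * x ≠ 0 → p = 0 := by
    intro p a x ha hx hne
    apply hpos p
    · intro hbot
      rw [hbot] at ha
      rw [(Submodule.mem_bot k).mp ha, zero_mul] at hne
      exact hne rfl
    · intro hbot
      rw [hbot] at hx
      rw [(Submodule.mem_bot k).mp hx, mul_zero] at hne
      exact hne rfl
  exact Groth.Agent.H75.exists_slice k A Λ 𝒜 hpos' δ d hhom hd
    (fun m hm hsub => by
      have := hfix m hm hsub
      rw [Set.not_subset] at this
      obtain ⟨_, ⟨a, rfl⟩, ha⟩ := this
      exact ⟨a, ha⟩)

end Groth.Agent.S15121
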