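import Groth.Statements.S15130
import Groth.Agent.H75.ArtinFlat

set_option autoImplicit false
universe u v
open CAlg

namespace Groth.Agent.S15130

/-- Let A be an Artinian local ring with residue field k and P → Q → R → M → 0 a complex of A-modules
with P, Q, R flat which is exact at R and at M. If the reduced complex k ⊗ P → k ⊗ Q → k ⊗ R is
exact (the rest of the reduced sequence is then automatically exact), then M is flat and the
original complex is exact at Q as well. (The published statement is for local Artinian algebras over
an algebraically closed field of characteristic zero having that field as residue field; this row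
allows any Artinian local ring.) -/
theorem result
    (A : Type u) [CommRing A] [IsLocalRing A] [IsArtinianRing A]
    (P Q R M : Type v) [AddCommGroup P] [Module A P] [AddCommGroup Q] [Module A Q]
    [AddCommGroup R] [Module A R] [AddCommGroup M] [Module A M]
    [Module.Flat A P] [Module.Flat A Q] [Module.Flat A R]
    (f : P →ₗ[A] Q) (g : Q →ₗ[A] R) (h : R →ₗ[A] M)
    (hfg : g ∘ₗ f = 0) (hgh : Function.Exact g h) (hh : Function.Surjective h)
    (hred : Function.Exact (f.lTensor (IsLocalRing.ResidueField A)) (g.lTensor (IsLocalRing.ResidueField A))) :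
    Module.Flat A M ∧ Function.Exact f g := by
  open TensorProduct in
  -- B = range g = ker h
  set k := IsLocalRing.ResidueField A with hkdef
  set B := LinearMap.range g with hB
  have hcomp : B.subtype ∘ₗ g.rangeRestrict = g := LinearMap.subtype_comp_codRestrict _ _ _
  have hgf' : g.rangeRestrict ∘ₗ f = 0 := by
    apply LinearMap.ext
    intro x
    apply Subtype.ext
    have := LinearMap.congr_fun hfg x
    simpa using this
  -- exact sequence B → R → M
  have hBex : Function.Exact B.subtype h := by
    intro x
    rw [hgh x]
    constructor
    · rintro ⟨y, rfl⟩; exact ⟨⟨g y, y, rfl⟩, rfl⟩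
    · rintro ⟨⟨_, y, rfl⟩, rfl⟩; exact ⟨y, rfl⟩
  have hBk : Function.Injective (B.subtype.lTensor k) := by
    rw [injective_iff_map_eq_zero]
    intro x hx
    obtain ⟨y, rfl⟩ := LinearMap.lTensor_surjective k g.surjective_rangeRestrict x
    have h1 : g.lTensor k y = 0 := by
      rw [← hcomp, LinearMap.lTensor_comp]; exact hx
    obtain ⟨z, rfl⟩ := (hred y).mp h1
    rw [← LinearMap.comp_apply, ← LinearMap.lTensor_comp, hgf']
    simp
  have hMflat : Module.Flat A M :=
    Groth.Agent.H75.flat_of_residue_injective B.subtype h hh hBex hBk
  refine ⟨hMflat, ?_⟩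
  have hBflat : Module.Flat A B :=
    Groth.Agent.H75.flat_of_exact_of_flat B.subtype h B.subtype_injective hh hBex
  -- Z = ker g
  set Z := LinearMap.ker g with hZ
  have hZex : Function.Exact Z.subtype g.rangeRestrict := by
    intro x
    constructor
    · intro hx
      refine ⟨⟨x, ?_⟩, rfl⟩
      have := congrArg Subtype.val hx
      rw [hZ, LinearMap.mem_ker]
      simpa using this
    · rintro ⟨y, rfl⟩
      apply Subtype.ext
      simp
  have hZk : Function.Injective (Z.subtype.lTensor k) :=
    LinearMap.lTensor_injective_of_exact_of_flat g.rangeRestrict g.surjective_rangeRestrict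
      Z.subtype Z.subtype_injective hZex _
  -- f' : P → Z
  let f' : P →ₗ[A] Z := f.codRestrict Z (fun x => by
    have h9 := LinearMap.congr_fun hfg x
    rw [hZ, LinearMap.mem_ker]
    simpa using h9)
  have hf' : Z.subtype ∘ₗ f' = f := LinearMap.subtype_comp_codRestrict _ _ _
  have hf'k : Function.Surjective (f'.lTensor k) := by
    intro z
    have h1 : g.lTensor k (Z.subtype.lTensor k z) = 0 := by
      rw [← LinearMap.comp_apply, ← LinearMap.lTensor_comp]
      have : g ∘ₗ Z.subtype = 0 := by
        apply LinearMap.ext; intro x; exact x.2
      rw [this]; simp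
    obtain ⟨w, hw⟩ := (hred _).mp h1
    refine ⟨w, hZk ?_⟩
    rw [← LinearMap.comp_apply, ← LinearMap.lTensor_comp, hf']
    exact hw
  have hf's : Function.Surjective f' := Groth.Agent.H75.surjective_of_residue f' hf'k
  intro y
  constructor
  · intro hy
    obtain ⟨x, hx⟩ := hf's ⟨y, hy⟩
    exact ⟨x, by have := congrArg Subtype.val hx; simpa [f'] using this⟩
  · rintro ⟨x, rfl⟩
    exact LinearMap.congr_fun hfg x

end Groth.Agent.S15130
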