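import Groth.Statements.S15133
import Groth.Agent.H75.ArtinFlat
import Mathlib.Algebra.Homology.ShortComplex.ModuleCat
import Mathlib.Algebra.Category.ModuleCat.EpiMono

set_option autoImplicit false
universe u
open CategoryTheory
open CAlg

namespace Groth.Agent.S15133

/-- Let A be an Artinian local ring with residue field k, n ≥ 1, and 0 → I → P₀ → P₁ → ⋯ → Pₙ a complex
of A-modules with P₀, …, Pₙ flat whose reduction 0 → k ⊗ I → k ⊗ P₀ → ⋯ → k ⊗ Pₙ is exact. Then I
and coker(Pₙ₋₁ → Pₙ) are flat. The complex is written as a cochain complex C indexed by ℕ with C⁰ =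
I and Cⁱ⁺¹ = Pᵢ; its terms in degrees above n + 1 play no role. (The published statement adds that I
maps onto the kernel of k ⊗ P₀ → k ⊗ P₁, which is already part of the exactness hypothesis, and is
for local Artinian algebras over an algebraically closed field of characteristic zero having that
field as residue field; this row allows any Artinian local ring.) -/
theorem result
    (A : Type u) [CommRing A] [IsLocalRing A] [IsArtinianRing A] (n : ℕ) (hn : 0 < n)
    (C : CochainComplex (ModuleCat.{u} A) ℕ)
    (hflat : ∀ i, i ≤ n → Module.Flat A (C.X (i + 1)))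
    (hred : ∀ j, j ≤ n →
      (((MonoidalCategory.tensorLeft (ModuleCat.of A (IsLocalRing.ResidueField A))).mapHomologicalComplex
        (ComplexShape.up ℕ)).obj C).ExactAt j) :
    Module.Flat A (C.X 0) ∧ Module.Flat A (C.X (n + 1) ⧸ LinearMap.range (C.d n (n + 1)).hom) := by
  set k := IsLocalRing.ResidueField A with hk
  set K := ((MonoidalCategory.tensorLeft (ModuleCat.of A k)).mapHomologicalComplex
        (ComplexShape.up ℕ)).obj C with hK
  constructor
  · -- degree 0
    have h0 := hred 0 (Nat.zero_le n)
    rw [HomologicalComplex.exactAt_iff' K 0 0 1 (by simp) (by simp)] at h0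
    rw [ShortComplex.exact_iff_mono _ (K.shape 0 0 (by simp) : (K.sc' 0 0 1).f = 0)] at h0
    rw [ModuleCat.mono_iff_injective] at h0
    have hinj : Function.Injective ((C.d 0 1).hom.lTensor k) := h0
    have := hflat 0 (Nat.zero_le n)
    exact (Groth.Agent.H75.inj_flat_of_residue_injective (C.d 0 1).hom hinj).2.1
  · obtain ⟨m, rfl⟩ : ∃ m, n = m + 1 := ⟨n - 1, by omega⟩
    have h1 := hred (m + 1) le_rfl
    rw [HomologicalComplex.exactAt_iff' K m (m + 1) (m + 2) (by simp) (by simp)] at h1
    rw [ShortComplex.moduleCat_exact_iff] at h1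
    have hex : ∀ y : TensorProduct A k (C.X (m + 1)),
        (C.d (m + 1) (m + 2)).hom.lTensor k y = 0 → ∃ z, (C.d m (m + 1)).hom.lTensor k z = y :=
      fun y hy => h1 y hy
    have := hflat (m + 1) le_rfl
    set d0 := (C.d m (m + 1)).hom with hd0
    set d1 := (C.d (m + 1) (m + 1 + 1)).hom with hd1
    have hdd : d1 ∘ₗ d0 = 0 := by
      have h2 : (C.d m (m + 1) ≫ C.d (m + 1) (m + 1 + 1)).hom = 0 := by
        rw [C.d_comp_d]; rfl
      exact h2
    have hle : LinearMap.range d0 ≤ LinearMap.ker d1 := by
      rintro _ ⟨x, rfl⟩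
      exact LinearMap.congr_fun hdd x
    let dbar : (C.X (m + 1) ⧸ LinearMap.range d0) →ₗ[A] C.X (m + 1 + 1) :=
      (LinearMap.range d0).liftQ d1 hle
    have hdbar : dbar ∘ₗ (LinearMap.range d0).mkQ = d1 := Submodule.liftQ_mkQ _ _ _
    have hmk0 : (LinearMap.range d0).mkQ ∘ₗ d0 = 0 := by
      apply LinearMap.ext; intro x
      simp
    have hinj : Function.Injective (dbar.lTensor k) := by
      rw [injective_iff_map_eq_zero]
      intro x hx
      obtain ⟨y, rfl⟩ := LinearMap.lTensor_surjective k (Submodule.mkQ_surjective (LinearMap.range d0)) x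
      have h3 : d1.lTensor k y = 0 := by
        rw [← hdbar, LinearMap.lTensor_comp]; exact hx
      obtain ⟨z, rfl⟩ := hex y h3
      rw [← LinearMap.comp_apply, ← LinearMap.lTensor_comp, hmk0]
      simp
    have h4 := (Groth.Agent.H75.inj_flat_of_residue_injective dbar hinj).2.2
    have h5 : LinearMap.range dbar = LinearMap.range d1 := Submodule.range_liftQ _ _ _
    rw [h5] at h4
    exact h4

end Groth.Agent.S15133
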