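import Groth.Statements.S15135
-- import your own Groth.Agent.* helpers here

set_option autoImplicit false
universe u v
open Deform

namespace Groth.Agent.S15135

/-- For R-modules M ⊆ N, the first-order embedded deformations of M in N are in canonical bijection with
Hom_R(M, N/M). Writing N ⊗ k[ε] = N ⊕ εN as N × N (the pair (x, y) standing for x + εy), such a
deformation is an R-submodule L of N × N which is stable under multiplication by ε (if (x, y) ∈ L
then (0, x) ∈ L), reduces to M (x ∈ M exactly when (x, y) ∈ L for some y) and is flat over the dual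
numbers, flatness being stated elementwise as: (0, y) ∈ L only if y ∈ M (for a submodule reducing to
M this is the equality of the kernel and the image of ε on L, i.e. flatness over k[ε] when R is an
algebra over a field k). To φ : M → N/M corresponds the submodule of all (x, y) with x ∈ M and y ≡
φ(x) mod M. The first clause says this rule defines exactly one submodule for each φ; the second
says that a submodule has the three properties precisely when its membership is given by this rule
for some φ. (The published statement is a linear isomorphism t_G ≅ Hom_R(M, N/M) for the functor G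
of flat deformations of M inside N ⊗ A over local Artinian algebras A; this row states only the
underlying bijection, and the obstruction half is not stated here.) -/
theorem result
    (R : Type u) [CommRing R] (N : Type v) [AddCommGroup N] [Module R N] (M : Submodule R N) :
    (∀ φ : M →ₗ[R] (N ⧸ M), ∃! L : Submodule R (N × N),
        ∀ x y : N, (x, y) ∈ L ↔ ∃ h : x ∈ M, Submodule.Quotient.mk y = φ ⟨x, h⟩) ∧
    (∀ L : Submodule R (N × N),
      ((∀ x y : N, (x, y) ∈ L → ((0 : N), x) ∈ L) ∧
        (∀ x : N, x ∈ M ↔ ∃ y : N, (x, y) ∈ L) ∧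
        (∀ y : N, ((0 : N), y) ∈ L → y ∈ M)) ↔
      ∃ φ : M →ₗ[R] (N ⧸ M), ∀ x y : N, (x, y) ∈ L ↔ ∃ h : x ∈ M, Submodule.Quotient.mk y = φ ⟨x, h⟩) := by
  constructor
  · intro φ
    let L : Submodule R (N × N) :=
      { carrier := {z | ∃ h : z.1 ∈ M, Submodule.Quotient.mk z.2 = φ ⟨z.1, h⟩}
        zero_mem' := ⟨M.zero_mem, by
          have : (⟨(0 : N × N).1, M.zero_mem⟩ : M) = 0 := rfl
          rw [this, map_zero]; rfl⟩
        add_mem' := by
          rintro ⟨x, y⟩ ⟨x', y'⟩ ⟨h, e⟩ ⟨h', e'⟩
          refine ⟨M.add_mem h h', ?_⟩
          have : (⟨x + x', M.add_mem h h'⟩ : M) = ⟨x, h⟩ + ⟨x', h'⟩ := rfl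
          change Submodule.Quotient.mk (y + y') = φ ⟨x + x', _⟩
          rw [this, map_add, Submodule.Quotient.mk_add]
          change Submodule.Quotient.mk y = φ ⟨x, h⟩ at e
          change Submodule.Quotient.mk y' = φ ⟨x', h'⟩ at e'
          rw [e, e']
        smul_mem' := by
          rintro c ⟨x, y⟩ ⟨h, e⟩
          refine ⟨M.smul_mem c h, ?_⟩
          have : (⟨c • x, M.smul_mem c h⟩ : M) = c • ⟨x, h⟩ := rfl
          change Submodule.Quotient.mk (c • y) = φ ⟨c • x, _⟩
          rw [this, map_smul, Submodule.Quotient.mk_smul]
          change Submodule.Quotient.mk y = φ ⟨x, h⟩ at e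
          rw [e] }
    refine ⟨L, fun x y => Iff.rfl, ?_⟩
    intro L' hL'
    ext ⟨x, y⟩
    rw [hL' x y]
    exact Iff.rfl
  · intro L
    constructor
    · rintro ⟨ha, hb, hc⟩
      have hwd : ∀ x y y', (x, y) ∈ L → (x, y') ∈ L →
          (Submodule.Quotient.mk y : N ⧸ M) = Submodule.Quotient.mk y' := by
        intro x y y' h1 h2
        rw [Submodule.Quotient.eq]
        apply hc
        have := L.sub_mem h1 h2
        simpa using this
      have hex : ∀ x : M, ∃ y : N, ((x : N), y) ∈ L := fun x => (hb x).mp x.2
      let g : M → N := fun x => Classical.choose (hex x)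
      have hg : ∀ x : M, ((x : N), g x) ∈ L := fun x => Classical.choose_spec (hex x)
      let φ : M →ₗ[R] (N ⧸ M) :=
        { toFun := fun x => Submodule.Quotient.mk (g x)
          map_add' := by
            intro x x'
            rw [← Submodule.Quotient.mk_add]
            apply hwd ((x + x' : M) : N)
            · exact hg _
            · have := L.add_mem (hg x) (hg x')
              simpa using this
          map_smul' := by
            intro c x
            rw [RingHom.id_apply, ← Submodule.Quotient.mk_smul]
            apply hwd ((c • x : M) : N)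
            · exact hg _
            · have := L.smul_mem c (hg x)
              simpa using this }
      refine ⟨φ, fun x y => ?_⟩
      constructor
      · intro hxy
        have hx : x ∈ M := (hb x).mpr ⟨y, hxy⟩
        exact ⟨hx, hwd x y (g ⟨x, hx⟩) hxy (hg ⟨x, hx⟩)⟩
      · rintro ⟨hx, e⟩
        change Submodule.Quotient.mk y = Submodule.Quotient.mk (g ⟨x, hx⟩) at e
        rw [Submodule.Quotient.eq] at e
        obtain ⟨z, hz⟩ := (hb _).mp e
        have h0 := ha _ _ hz
        have := L.add_mem (hg ⟨x, hx⟩) h0
        simpa using this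
    · rintro ⟨φ, hφ⟩
      refine ⟨?_, ?_, ?_⟩
      · intro x y hxy
        obtain ⟨hx, _⟩ := (hφ x y).mp hxy
        rw [hφ]
        refine ⟨M.zero_mem, ?_⟩
        have : (⟨0, M.zero_mem⟩ : M) = 0 := rfl
        rw [this, map_zero, Submodule.Quotient.mk_eq_zero]
        exact hx
      · intro x
        constructor
        · intro hx
          obtain ⟨y, hy⟩ := Submodule.Quotient.mk_surjective M (φ ⟨x, hx⟩)
          exact ⟨y, (hφ x y).mpr ⟨hx, hy⟩⟩
        · rintro ⟨y, hy⟩
          exact ((hφ x y).mp hy).1
      · intro y hy
        obtain ⟨h0, e⟩ := (hφ 0 y).mp hy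
        have : (⟨0, h0⟩ : M) = 0 := rfl
        rw [this, map_zero, Submodule.Quotient.mk_eq_zero] at e
        exact e

end Groth.Agent.S15135
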