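import Groth.Statements.S15148
import Groth.Agent.H75.HilbZeta3

set_option autoImplicit false
universe u
open HilbZeta

namespace Groth.Agent.S15148

/-- Let k be a field, s a natural number and R a k-subalgebra of the product of s copies of the power
series ring k[[x]], of finite codimension δ over k and local with residue field k (all components of
an element of R have the same constant term); write v_i for the x-adic order of the i-th component
of an s-tuple, and let c = (c_1, …, c_s) be the conductor exponents, so that an s-tuple f satisfies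
f·g ∈ R for every s-tuple g exactly when v_i(f) ≥ c_i for all i (over an algebraically closed field
such an R is precisely the completed local ring of a reduced curve singularity having s branches
sitting inside its normalisation, δ is its delta invariant and the conductor ideal is generated by
the x_i^{c_i}), and put C = c_1 + ⋯ + c_s. Let I be an ideal of R of finite colength d with
branch-length vector a (for every i the ideal of k[[x]] generated by the i-th components of the
elements of I is (x^{a_i})). Then −δ ≤ d − Σ a_i ≤ C − δ, and the second inequality is strict when R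
is not the whole product (the singularity is not smooth). (The published statement is over an
algebraically closed field; this row allows any field.) -/
theorem result (k : Type u) [Field k] (s : ℕ)
    (R : Subalgebra k (Fin s → PowerSeries k))
    (hfin : Module.Finite k ((Fin s → PowerSeries k) ⧸ Subalgebra.toSubmodule R))
    (hloc : ∀ f ∈ R, ∀ i j : Fin s, PowerSeries.constantCoeff (f i) = PowerSeries.constantCoeff (f j))
    (c : Fin s → ℕ)
    (hc : ∀ f : Fin s → PowerSeries k,
      (∀ g : Fin s → PowerSeries k, g * f ∈ R) ↔ ∀ i, ((c i : ℕ) : ℕ∞) ≤ (f i).order)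
    (I : Ideal ↥R) (hI : Module.Finite k (↥R ⧸ I)) (a : Fin s → ℕ)
    (ha : (∀ i : Fin s, Ideal.map ((Pi.evalAlgHom k (fun _ : Fin s => PowerSeries k) i).comp R.val) I = Ideal.span {PowerSeries.X ^ (a i)})) :
    (∑ i, a i) ≤ Module.finrank k (↥R ⧸ I) + Module.finrank k ((Fin s → PowerSeries k) ⧸ Subalgebra.toSubmodule R) ∧
    Module.finrank k (↥R ⧸ I) + Module.finrank k ((Fin s → PowerSeries k) ⧸ Subalgebra.toSubmodule R) ≤ (∑ i, a i) + ∑ i, c i ∧
    (R ≠ ⊤ → Module.finrank k (↥R ⧸ I) + Module.finrank k ((Fin s → PowerSeries k) ⧸ Subalgebra.toSubmodule R) < (∑ i, a i) + ∑ i, c i) := by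
  classical
  obtain ⟨h1, h2⟩ := Groth.Agent.H75.hz_branch s R I a ha
  have hlow : Groth.Agent.H75.piOrdGE k (fun i => a i + c i) ≤ Groth.Agent.H75.idealImage R I := by
    intro g hg
    rw [Groth.Agent.H75.mem_piOrdGE] at hg
    rw [Groth.Agent.H75.mem_idealImage]
    exact Groth.Agent.H75.hz_mem_ideal_of_order_ge s R c (fun f hf => (hc f).mpr hf) I a h2 g hg
  have hup : Groth.Agent.H75.idealImage R I ≤ Groth.Agent.H75.piOrdGE k a := by
    intro p hp
    rw [Groth.Agent.H75.mem_idealImage] at hp
    obtain ⟨h, hI⟩ := hp
    rw [Groth.Agent.H75.mem_piOrdGE]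
    exact h1 ⟨p, h⟩ hI
  obtain ⟨hfinI, hle1, hlt1⟩ := Groth.Agent.H75.finrank_quot_le_of_le _ _ hlow
  haveI := hfinI
  obtain ⟨_, hle2, _⟩ := Groth.Agent.H75.finrank_quot_le_of_le _ _ hup
  have hadd := Groth.Agent.H75.hz_finrank_add R I
  rw [Groth.Agent.H75.finrank_quot_piOrdGE] at hle1 hle2 hlt1
  have hsum : ∑ i, (a i + c i) = ∑ i, a i + ∑ i, c i := Finset.sum_add_distrib
  refine ⟨by omega, by omega, ?_⟩
  intro hR
  have hne : Groth.Agent.H75.piOrdGE k (fun i => a i + c i) ≠ Groth.Agent.H75.idealImage R I := by
    intro heq
    apply hR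
    have hc0 : ∀ i, c i = 0 := by
      intro i
      obtain ⟨f, hfI, hfo⟩ := h2 i
      have hmem : (f : Fin s → PowerSeries k) ∈ Groth.Agent.H75.idealImage R I :=
        (Groth.Agent.H75.mem_idealImage R I _).mpr ⟨f.2, hfI⟩
      rw [← heq, Groth.Agent.H75.mem_piOrdGE] at hmem
      have h3 := hmem i
      rw [hfo] at h3
      have : a i + c i ≤ a i := by exact_mod_cast h3
      omega
    rw [eq_top_iff]
    intro g _
    have := (hc 1).mpr (fun i => by simp [hc0 i]) g
    simpa using this
  have := hlt1 hne
  omega

end Groth.Agent.S15148
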