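import Groth.Statements.S15149
import Groth.Agent.H75.HilbZeta5

set_option autoImplicit false
universe u
open HilbZeta

namespace Groth.Agent.S15149

/-- Let k be a field, s a natural number and R a k-subalgebra of the product of s copies of the power
series ring k[[x]], of finite codimension δ over k and local with residue field k (all components of
an element of R have the same constant term); write v_i for the x-adic order of the i-th component
of an s-tuple, and let c = (c_1, …, c_s) be the conductor exponents, so that an s-tuple f satisfies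
f·g ∈ R for every s-tuple g exactly when v_i(f) ≥ c_i for all i (over an algebraically closed field
such an R is precisely the completed local ring of a reduced curve singularity having s branches
sitting inside its normalisation, δ is its delta invariant and the conductor ideal is generated by
the x_i^{c_i}). Fix a branch j, a colength d and a branch-length vector a = (a_1, …, a_s) with a_j ≥
c_j, and let ξ be the s-tuple with x in the j-th place and 1 elsewhere. Call an ideal I of R of type
(d, a) when it has colength d and, for every i, the ideal of k[[x]] generated by the i-th components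
of its elements is (x^{a_i}). Then multiplication by ξ is a bijection from the ideals of type (d, a)
onto the ideals of type (d + 1, a + e_j), where a + e_j is a with its j-th entry raised by one: for
every ideal I of type (d, a) the set ξ·I is (the image of) an ideal of type (d + 1, a + e_j), and
every ideal of type (d + 1, a + e_j) is ξ·I for some ideal I of type (d, a). (The published
statement is the equality, in the Grothendieck ring of varieties, of the classes of the two
corresponding branch-length strata of the punctual Hilbert scheme; this row states the bijection on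
ideals underlying it, which is what the argument establishes; the published statement is over an
algebraically closed field, and this row allows any field.) -/
theorem result (k : Type u) [Field k] (s : ℕ)
    (R : Subalgebra k (Fin s → PowerSeries k))
    (hfin : Module.Finite k ((Fin s → PowerSeries k) ⧸ Subalgebra.toSubmodule R))
    (hloc : ∀ f ∈ R, ∀ i j : Fin s, PowerSeries.constantCoeff (f i) = PowerSeries.constantCoeff (f j))
    (c : Fin s → ℕ)
    (hc : ∀ f : Fin s → PowerSeries k,
      (∀ g : Fin s → PowerSeries k, g * f ∈ R) ↔ ∀ i, ((c i : ℕ) : ℕ∞) ≤ (f i).order)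
    (j : Fin s) (d : ℕ) (a : Fin s → ℕ) (hj : c j ≤ a j) :
    (∀ I ∈ {I : Ideal ↥R | Module.Finite k (↥R ⧸ I) ∧ Module.finrank k (↥R ⧸ I) = d ∧ (∀ i : Fin s, Ideal.map ((Pi.evalAlgHom k (fun _ : Fin s => PowerSeries k) i).comp R.val) I = Ideal.span {PowerSeries.X ^ (a i)})},
      ∃ J ∈ {I : Ideal ↥R | Module.Finite k (↥R ⧸ I) ∧ Module.finrank k (↥R ⧸ I) = d + 1 ∧ (∀ i : Fin s, Ideal.map ((Pi.evalAlgHom k (fun _ : Fin s => PowerSeries k) i).comp R.val) I = Ideal.span {PowerSeries.X ^ ((Function.update a j (a j + 1)) i)})},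
        (Subtype.val '' (J : Set ↥R)) = (fun f => Pi.mulSingle j PowerSeries.X * f) '' (Subtype.val '' (I : Set ↥R))) ∧
    (∀ J ∈ {I : Ideal ↥R | Module.Finite k (↥R ⧸ I) ∧ Module.finrank k (↥R ⧸ I) = d + 1 ∧ (∀ i : Fin s, Ideal.map ((Pi.evalAlgHom k (fun _ : Fin s => PowerSeries k) i).comp R.val) I = Ideal.span {PowerSeries.X ^ ((Function.update a j (a j + 1)) i)})},
      ∃ I ∈ {I : Ideal ↥R | Module.Finite k (↥R ⧸ I) ∧ Module.finrank k (↥R ⧸ I) = d ∧ (∀ i : Fin s, Ideal.map ((Pi.evalAlgHom k (fun _ : Fin s => PowerSeries k) i).comp R.val) I = Ideal.span {PowerSeries.X ^ (a i)})},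
        (Subtype.val '' (J : Set ↥R)) = (fun f => Pi.mulSingle j PowerSeries.X * f) '' (Subtype.val '' (I : Set ↥R))) := by
  classical
  have hc' : ∀ f : Fin s → PowerSeries k, (∀ i, ((c i : ℕ) : ℕ∞) ≤ (f i).order) →
      ∀ g : Fin s → PowerSeries k, g * f ∈ R := fun f hf => (hc f).mpr hf
  have hxipow : ∀ i, Groth.Agent.H75.xi k j i * (PowerSeries.X : PowerSeries k) ^ (a i) =
      PowerSeries.X ^ ((Function.update a j (a j + 1)) i) := by
    intro i
    by_cases hi : i = j
    · subst hi
      rw [Groth.Agent.H75.xi_apply_self, Function.update_self, pow_succ']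
    · rw [Groth.Agent.H75.xi_apply_ne j i hi, Function.update_of_ne hi, one_mul]
  constructor
  · rintro I ⟨hIfin, hId, haI⟩
    obtain ⟨h1, h2⟩ := Groth.Agent.H75.hz_branch s R I a haI
    have hmem : ∀ f ∈ I, Groth.Agent.H75.xi k j * (f : Fin s → PowerSeries k) ∈ R := by
      intro f hf
      rw [Groth.Agent.H75.hz_xi_mul_mem_iff R c hc' j _ (le_trans (by exact_mod_cast hj) (h1 f hf j))]
      exact f.2
    let J : Ideal ↥R :=
      { carrier := {r | ∃ f ∈ I, (r : Fin s → PowerSeries k) = Groth.Agent.H75.xi k j * (f : Fin s → PowerSeries k)}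
        add_mem' := by
          rintro x y ⟨f, hf, hx⟩ ⟨g, hg, hy⟩
          refine ⟨f + g, I.add_mem hf hg, ?_⟩
          show (x : Fin s → PowerSeries k) + (y : Fin s → PowerSeries k) = _
          rw [hx, hy]
          show _ = Groth.Agent.H75.xi k j * ((f : Fin s → PowerSeries k) + (g : Fin s → PowerSeries k))
          ring
        zero_mem' := ⟨0, I.zero_mem, by simp⟩
        smul_mem' := by
          rintro r x ⟨f, hf, hx⟩
          refine ⟨r * f, I.mul_mem_left r hf, ?_⟩
          show (r : Fin s → PowerSeries k) * (x : Fin s → PowerSeries k) = _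
          rw [hx]
          show _ = Groth.Agent.H75.xi k j * ((r : Fin s → PowerSeries k) * (f : Fin s → PowerSeries k))
          ring }
    have hIJ : ∀ p, p ∈ Groth.Agent.H75.idealImage R J ↔
        ∃ q ∈ Groth.Agent.H75.idealImage R I, p = Groth.Agent.H75.xi k j * q := by
      intro p
      rw [Groth.Agent.H75.mem_idealImage]
      constructor
      · rintro ⟨h, f, hf, e⟩
        exact ⟨f, (Groth.Agent.H75.mem_idealImage R I _).mpr ⟨f.2, hf⟩, e⟩
      · rintro ⟨q, hq, rfl⟩
        obtain ⟨hqR, hqI⟩ := (Groth.Agent.H75.mem_idealImage R I q).mp hq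
        exact ⟨hmem ⟨q, hqR⟩ hqI, ⟨q, hqR⟩, hqI, rfl⟩
    have haJ : ∀ i, Ideal.map ((Pi.evalAlgHom k (fun _ : Fin s => PowerSeries k) i).comp R.val) J =
        Ideal.span {PowerSeries.X ^ ((Function.update a j (a j + 1)) i)} := by
      intro i
      rw [Groth.Agent.H75.hz_xi_map R j I J hIJ i, haI i, Ideal.span_singleton_mul_span_singleton,
        hxipow i]
    obtain ⟨_, hJfin, hJd⟩ := Groth.Agent.H75.hz_xi_type R c hc' j I J hIJ _ haJ
    refine ⟨J, ⟨hJfin, by rw [hJd, hId], haJ⟩, ?_⟩
    exact (Groth.Agent.H75.hz_image_eq_iff R j I J).mpr hIJ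
  · rintro J ⟨hJfin, hJd, haJ⟩
    obtain ⟨h1, h2⟩ := Groth.Agent.H75.hz_branch s R J _ haJ
    let I : Ideal ↥R :=
      { carrier := {r | ∃ h : Groth.Agent.H75.xi k j * (r : Fin s → PowerSeries k) ∈ R,
          (⟨_, h⟩ : ↥R) ∈ J}
        add_mem' := by
          rintro x y ⟨hx, hxJ⟩ ⟨hy, hyJ⟩
          have e : Groth.Agent.H75.xi k j * ((x + y : ↥R) : Fin s → PowerSeries k) =
              Groth.Agent.H75.xi k j * (x : Fin s → PowerSeries k) +
              Groth.Agent.H75.xi k j * (y : Fin s → PowerSeries k) := by
            show Groth.Agent.H75.xi k j * ((x : Fin s → PowerSeries k) + (y : Fin s → PowerSeries k)) = _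
            ring
          refine ⟨e ▸ R.add_mem hx hy, ?_⟩
          have : (⟨_, e ▸ R.add_mem hx hy⟩ : ↥R) = ⟨_, hx⟩ + ⟨_, hy⟩ := Subtype.ext e
          rw [this]
          exact J.add_mem hxJ hyJ
        zero_mem' := by
          have e : Groth.Agent.H75.xi k j * ((0 : ↥R) : Fin s → PowerSeries k) = 0 := by
            show Groth.Agent.H75.xi k j * (0 : Fin s → PowerSeries k) = 0
            ring
          refine ⟨e ▸ R.zero_mem, ?_⟩
          have : (⟨_, e ▸ R.zero_mem⟩ : ↥R) = 0 := Subtype.ext e
          rw [this]
          exact J.zero_mem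
        smul_mem' := by
          rintro r x ⟨hx, hxJ⟩
          have e : Groth.Agent.H75.xi k j * ((r • x : ↥R) : Fin s → PowerSeries k) =
              (r : Fin s → PowerSeries k) * (Groth.Agent.H75.xi k j * (x : Fin s → PowerSeries k)) := by
            show Groth.Agent.H75.xi k j * ((r : Fin s → PowerSeries k) * (x : Fin s → PowerSeries k)) = _
            ring
          refine ⟨e ▸ R.mul_mem r.2 hx, ?_⟩
          have : (⟨_, e ▸ R.mul_mem r.2 hx⟩ : ↥R) = r * ⟨_, hx⟩ := Subtype.ext e
          rw [this]
          exact J.mul_mem_left r hxJ }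
    have hIJ : ∀ p, p ∈ Groth.Agent.H75.idealImage R J ↔
        ∃ q ∈ Groth.Agent.H75.idealImage R I, p = Groth.Agent.H75.xi k j * q := by
      intro p
      constructor
      · intro hp
        obtain ⟨hpR, hpJ⟩ := (Groth.Agent.H75.mem_idealImage R J p).mp hp
        have hord := h1 ⟨p, hpR⟩ hpJ j
        rw [Function.update_self] at hord
        have hpr : p ∈ Groth.Agent.H75.piOrdGE k (Pi.single j 1) := by
          rw [Groth.Agent.H75.mem_piOrdGE]
          intro i
          by_cases hi : i = j
          · subst hi
            rw [Pi.single_eq_same]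
            refine le_trans ?_ hord
            exact_mod_cast Nat.le_add_left 1 (a i)
          · simp [Pi.single_eq_of_ne hi]
        obtain ⟨q, rfl⟩ := (Groth.Agent.H75.mem_range_xi j p).mpr hpr
        have hqo : ((a j : ℕ) : ℕ∞) ≤ PowerSeries.order (q j) := by
          have : (Groth.Agent.H75.xi k j * q) j = PowerSeries.X * q j := by
            rw [Pi.mul_apply, Groth.Agent.H75.xi_apply_self]
          simp only at hord
          rw [this, PowerSeries.order_mul, PowerSeries.order_X] at hord
          have h3 : (1 : ℕ∞) + (a j : ℕ∞) ≤ 1 + PowerSeries.order (q j) := by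
            rw [add_comm 1 ((a j : ℕ) : ℕ∞)]
            exact_mod_cast hord
          exact (ENat.add_le_add_iff_left (by simp)).mp h3
        have hqR : q ∈ R :=
          (Groth.Agent.H75.hz_xi_mul_mem_iff R c hc' j q (le_trans (by exact_mod_cast hj) hqo)).mp hpR
        exact ⟨q, (Groth.Agent.H75.mem_idealImage R I q).mpr ⟨hqR, hpR, hpJ⟩, rfl⟩
      · rintro ⟨q, hq, rfl⟩
        obtain ⟨hqR, h, hJ⟩ := (Groth.Agent.H75.mem_idealImage R I q).mp hq
        exact (Groth.Agent.H75.mem_idealImage R J _).mpr ⟨h, hJ⟩
    have haI : ∀ i, Ideal.map ((Pi.evalAlgHom k (fun _ : Fin s => PowerSeries k) i).comp R.val) I =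
        Ideal.span {PowerSeries.X ^ (a i)} := by
      intro i
      have h3 := Groth.Agent.H75.hz_xi_map R j I J hIJ i
      rw [haJ i, ← hxipow i, ← Ideal.span_singleton_mul_span_singleton] at h3
      exact ((Ideal.span_singleton_mul_right_inj (Groth.Agent.H75.xi_ne_zero j i)).mp h3).symm
    obtain ⟨hIfin, _, hd⟩ := Groth.Agent.H75.hz_xi_type R c hc' j I J hIJ _ haJ
    refine ⟨I, ⟨hIfin, by omega, haI⟩, ?_⟩
    exact (Groth.Agent.H75.hz_image_eq_iff R j I J).mpr hIJ

end Groth.Agent.S15149
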