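import Groth.Statements.S15155
import Groth.Agent.H75.SympPf

set_option autoImplicit false
open CAlg

namespace Groth.Agent.S15155

/-- Let J be the 2m × 2m block matrix with blocks 0, I_m in the first row and −I_m, 0 in the second,
over the complex numbers. On the set of complex 2m × 2m matrices A with ᵗA · J = J · A (equivalently
ᵗA = J A J⁻¹, J being invertible), the characteristic polynomial is the square of a single
polynomial in the entries of A with coefficients in ℂ[X], and the determinant is the square of a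
single polynomial in the entries of A. -/
theorem result (m : ℕ) :
    (∃ P : MvPolynomial ((Fin m ⊕ Fin m) × (Fin m ⊕ Fin m)) (Polynomial ℂ),
      ∀ A : Matrix (Fin m ⊕ Fin m) (Fin m ⊕ Fin m) ℂ,
        A.transpose * Matrix.fromBlocks 0 1 (-1) 0 = Matrix.fromBlocks 0 1 (-1) 0 * A →
        A.charpoly = (MvPolynomial.eval (fun ij => Polynomial.C (A ij.1 ij.2)) P) ^ 2) ∧
    (∃ Q : MvPolynomial ((Fin m ⊕ Fin m) × (Fin m ⊕ Fin m)) ℂ,
      ∀ A : Matrix (Fin m ⊕ Fin m) (Fin m ⊕ Fin m) ℂ,
        A.transpose * Matrix.fromBlocks 0 1 (-1) 0 = Matrix.fromBlocks 0 1 (-1) 0 * A →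
        A.det = (MvPolynomial.eval (fun ij => A ij.1 ij.2) Q) ^ 2) := by
  classical
  obtain ⟨c, hc⟩ := IsAlgClosed.exists_pow_nat_eq
    (Groth.Agent.H75.SympPf.Jm m ℂ).det (n := 2) (by norm_num)
  have h2 : (2 : ℂ) * (1 / 2) = 1 := by norm_num
  have h2P : (2 : Polynomial ℂ) * Polynomial.C (1 / 2) = 1 := by
    have : (2 : Polynomial ℂ) = Polynomial.C 2 := (map_ofNat Polynomial.C 2).symm
    rw [this, ← map_mul, h2, map_one]
  have hJdet : (Groth.Agent.H75.SympPf.Jm m (Polynomial ℂ)).det = Polynomial.C c ^ 2 := by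
    rw [← map_pow, hc, ← Groth.Agent.H75.SympPf.Jm_map (Polynomial.C : ℂ →+* Polynomial ℂ),
      ← RingHom.mapMatrix_apply, ← RingHom.map_det]
  refine ⟨?_, ?_⟩
  · refine ⟨MvPolynomial.C (Polynomial.C c) * Groth.Agent.H84.pfEval
      (Groth.Agent.H75.SympPf.halfMat (MvPolynomial.C (Polynomial.C (1 / 2)))
        (Matrix.scalar (Fin m ⊕ Fin m) (MvPolynomial.C Polynomial.X) -
          Groth.Agent.H75.SympPf.genM m (Polynomial ℂ))), ?_⟩
    intro A hA
    have hev := Groth.Agent.H75.SympPf.eval_pf (m := m) (Polynomial.C (1 / 2 : ℂ))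
      (Polynomial.C c)
      (Matrix.scalar (Fin m ⊕ Fin m) (MvPolynomial.C Polynomial.X) -
          Groth.Agent.H75.SympPf.genM m (Polynomial ℂ))
      (A.map Polynomial.C)
    rw [Groth.Agent.H75.SympPf.charmatrix_eq_map] at hev
    have hev' : MvPolynomial.eval (fun ij => Polynomial.C (A ij.1 ij.2))
        (MvPolynomial.C (Polynomial.C c) * Groth.Agent.H84.pfEval
          (Groth.Agent.H75.SympPf.halfMat (MvPolynomial.C (Polynomial.C (1 / 2)))
            (Matrix.scalar (Fin m ⊕ Fin m) (MvPolynomial.C Polynomial.X) -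
              Groth.Agent.H75.SympPf.genM m (Polynomial ℂ)))) =
        Polynomial.C c * Groth.Agent.H84.pfEval
          (Groth.Agent.H75.SympPf.halfMat (Polynomial.C (1 / 2)) A.charmatrix) := hev
    rw [hev', mul_pow, ← hJdet, Matrix.charpoly]
    exact Groth.Agent.H75.SympPf.det_eq (Polynomial.C (1 / 2)) h2P A.charmatrix
      (Groth.Agent.H75.SympPf.skew_charmatrix A hA)
  · refine ⟨MvPolynomial.C c * Groth.Agent.H84.pfEval
      (Groth.Agent.H75.SympPf.halfMat (MvPolynomial.C (1 / 2))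
        (Groth.Agent.H75.SympPf.genM m ℂ)), ?_⟩
    intro A hA
    have hev := Groth.Agent.H75.SympPf.eval_pf (m := m) (1 / 2 : ℂ) c
      (Groth.Agent.H75.SympPf.genM m ℂ) A
    rw [Groth.Agent.H75.SympPf.genM_map] at hev
    rw [hev, mul_pow, hc]
    exact Groth.Agent.H75.SympPf.det_eq (1 / 2) h2 A
      (Groth.Agent.H75.SympPf.skew_of_comm A hA)

end Groth.Agent.S15155
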