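import Groth.Statements.S15163
import Groth.Agent.H75.GL2Z

set_option autoImplicit false
open Matrix
open BddFin

namespace Groth.Agent.S15163

/-- Let Γ be a finite subgroup of GL_2(ℤ) and d > 6 an integer. Suppose some vector w of (ℤ/dℤ)², with
m·w ≠ 0 for all 0 < m < d, is fixed by the reduction modulo d of every element of Γ. Then some
non-zero vector of ℤ² is fixed by all of Γ. -/
theorem result
    (Γ : Subgroup (Matrix.GeneralLinearGroup (Fin 2) ℤ)) [Finite Γ] (d : ℕ) (hd : 6 < d)
    (w : Fin 2 → ZMod d) (hw : ∀ m : ℕ, 0 < m → m < d → m • w ≠ 0)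
    (hfix : ∀ γ ∈ Γ, ((γ : Matrix (Fin 2) (Fin 2) ℤ).map (Int.castRingHom (ZMod d))) *ᵥ w = w) :
    ∃ v : Fin 2 → ℤ, v ≠ 0 ∧ ∀ γ ∈ Γ, (γ : Matrix (Fin 2) (Fin 2) ℤ) *ᵥ v = v := by
  classical
  have hd0 : 0 < d := by omega
  haveI : NeZero d := ⟨by omega⟩
  have hcard : 0 < Nat.card Γ := Nat.card_pos
  apply Groth.Agent.H75.gl2z_common_fixed Γ
  intro γ hγ
  set M : Matrix (Fin 2) (Fin 2) ℤ := (γ : Matrix (Fin 2) (Fin 2) ℤ) with hM
  -- finite order
  have hpow : M ^ Nat.card Γ = 1 := by
    have h1 : (⟨γ, hγ⟩ : Γ) ^ Nat.card Γ = 1 := pow_card_eq_one'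
    have h0 := congrArg Subtype.val h1
    rw [Subgroup.coe_pow] at h0
    have h2 := congrArg Units.val h0
    rw [Units.val_pow_eq_pow_val] at h2
    exact h2
  have hdet : |M.det| = 1 := by
    have hu : IsUnit M.det := (Matrix.isUnit_iff_isUnit_det _).mp γ.isUnit
    rcases Int.isUnit_iff.mp hu with h | h <;> rw [h] <;> norm_num
  have htr := Groth.Agent.H75.abs_trace_le_two M hdet _ hcard hpow
  -- bound on det (M - 1)
  have hbound : |(M - 1).det| < (d : ℤ) := by
    rw [Groth.Agent.H75.det_sub_one2]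
    have h1 : |M.det - M.trace + 1| ≤ |M.det| + |M.trace| + 1 := by
      have := abs_add_le (M.det - M.trace) 1
      have h2 := abs_sub M.det M.trace
      simp only [abs_one] at this
      linarith
    have : (6 : ℤ) < d := by exact_mod_cast hd
    linarith
  -- divisibility
  have hdvd : (d : ℤ) ∣ (M - 1).det := by
    have hfix := hfix γ hγ
    set Mb : Matrix (Fin 2) (Fin 2) (ZMod d) := M.map (Int.castRingHom (ZMod d)) with hMb
    have h1 : (Mb - 1) *ᵥ w = 0 := by
      rw [Matrix.sub_mulVec, Matrix.one_mulVec, hfix, sub_self]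
    have h2 : (Mb - 1).det • w = 0 := by
      have := congrArg (fun x => (Matrix.adjugate (Mb - 1)) *ᵥ x) h1
      simp only [Matrix.mulVec_mulVec, Matrix.adjugate_mul, Matrix.mulVec_zero] at this
      rw [Matrix.smul_mulVec, Matrix.one_mulVec] at this
      exact this
    have h3 : (Mb - 1).det = (((M - 1).det : ℤ) : ZMod d) := by
      have : Mb - 1 = (M - 1).map (Int.castRingHom (ZMod d)) := by
        rw [hMb]
        ext i j
        simp [Matrix.map_apply, Matrix.one_apply]
      rw [this]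
      exact (RingHom.map_det (Int.castRingHom (ZMod d)) (M - 1)).symm
    rw [h3] at h2
    by_contra hnd
    set m : ℕ := ((M - 1).det % (d : ℤ)).toNat with hm
    have hmod_nonneg : 0 ≤ (M - 1).det % (d : ℤ) := Int.emod_nonneg _ (by exact_mod_cast hd0.ne')
    have hmod_lt : (M - 1).det % (d : ℤ) < d := Int.emod_lt_of_pos _ (by exact_mod_cast hd0)
    have hmZ : (m : ℤ) = (M - 1).det % (d : ℤ) := Int.toNat_of_nonneg hmod_nonneg
    have hmpos : 0 < m := by
      rcases Nat.eq_zero_or_pos m with h0 | h0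
      · exfalso
        apply hnd
        rw [h0] at hmZ
        exact Int.dvd_of_emod_eq_zero hmZ.symm
      · exact h0
    have hmlt : m < d := by
      have : (m : ℤ) < d := hmZ ▸ hmod_lt
      exact_mod_cast this
    apply hw m hmpos hmlt
    have hcast : ((m : ℕ) : ZMod d) = (((M - 1).det : ℤ) : ZMod d) := by
      have : ((m : ℤ) : ZMod d) = (((M - 1).det % (d : ℤ) : ℤ) : ZMod d) := by rw [hmZ]
      rw [Int.cast_natCast] at this
      rw [this]
      exact ZMod.intCast_mod _ _
    rw [← Nat.cast_smul_eq_nsmul (ZMod d), hcast]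
    exact h2
  exact Int.eq_zero_of_abs_lt_dvd hdvd hbound

end Groth.Agent.S15163
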