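import Groth.Statements.S15164
import Groth.Agent.H75.Aniso

set_option autoImplicit false
universe u v
open BddFin

namespace Groth.Agent.S15164

/-- Let K be a field of characteristic p > 2, V a finite-dimensional K-vector space and q a quadratic
form on V that does not represent zero (q x = 0 only for x = 0). Then the group of K-linear
automorphisms of V preserving q has no element of order p: if g preserves q and g ^ p = 1 then g =
1. (Non-degeneracy of q, also assumed in the published statement, follows from anisotropy since 2 is
invertible, so it is not repeated here.) -/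
theorem result
    (K : Type u) [Field K] (p : ℕ) [Fact p.Prime] [CharP K p] (hp : p ≠ 2)
    (V : Type v) [AddCommGroup V] [Module K V] [FiniteDimensional K V]
    (q : QuadraticForm K V) (hq : q.Anisotropic)
    (g : V ≃ₗ[K] V) (hg : ∀ x : V, q (g x) = q x) (hgp : g ^ p = 1) : g = 1 := by
  by_cases hV : Subsingleton V
  · ext x; exact Subsingleton.elim _ _
  · rw [not_subsingleton_iff_nontrivial] at hV
    have h2 : (2 : K) ≠ 0 := by
      intro h
      have h2' : ((2 : ℕ) : K) = 0 := by exact_mod_cast h
      have hdvd := (CharP.cast_eq_zero_iff K p 2).mp h2'
      have hp2 := (Nat.prime_dvd_prime_iff_eq (Fact.out : p.Prime) Nat.prime_two).mp hdvd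
      exact hp hp2
    have hcharp : CharP (Module.End K V) p :=
      charP_of_injective_algebraMap (FaithfulSMul.algebraMap_injective K (Module.End K V)) p
    set G : Module.End K V := g.toLinearMap with hG
    have hGp : G ^ p = 1 := by
      have : ((g ^ p : V ≃ₗ[K] V) : Module.End K V) = G ^ p :=
        map_pow (LinearEquiv.automorphismGroup.toLinearMapMonoidHom (R := K) (M := V)) g p
      rw [← this, hgp]; rfl
    have hnil : IsNilpotent (G - 1) := by
      refine ⟨p, ?_⟩
      rw [sub_pow_char_of_commute p (Commute.one_right G), hGp, one_pow, sub_self]
    have := Groth.Agent.H75.aniso_unipotent_eq_one h2 q hq G (fun x => hg x) hnil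
    ext x
    have h3 := LinearMap.congr_fun this x
    simpa [hG] using h3

end Groth.Agent.S15164
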