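import Groth.Statements.S15166
import Groth.Agent.H75.Involutions
import Groth.Agent.S15165

set_option autoImplicit false
universe u v
open Polynomial
open BddFin

namespace Groth.Agent.S15166

/-- Let K be a field of characteristic different from 2 such that K contains all roots of unity (for
every n ≥ 1 the polynomial X^n − 1 splits into linear factors over K), V a finite-dimensional
K-vector space and q a quadratic form on V that does not represent zero. Then every finite subgroup
of the group of K-linear automorphisms of V preserving q is abelian and has order at most 2 ^ (dim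
V). (The published statement also covers perfect fields of characteristic 2; this row is the case of
characteristic ≠ 2.) -/
theorem result
    (K : Type u) [Field K] (hK : ∀ n : ℕ, 0 < n → (X ^ n - 1 : K[X]).Splits) (h2 : (2 : K) ≠ 0)
    (V : Type v) [AddCommGroup V] [Module K V] [FiniteDimensional K V]
    (q : QuadraticForm K V) (hq : q.Anisotropic)
    (G : Subgroup (V ≃ₗ[K] V)) [Finite G] (hG : ∀ g ∈ G, ∀ x : V, q (g x) = q x) :
    (∀ g ∈ G, ∀ h ∈ G, g * h = h * g) ∧ Nat.card G ≤ 2 ^ Module.finrank K V := by
  classical
  have hcard : 0 < Nat.card G := Nat.card_pos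
  have hsq : ∀ g ∈ G, g * g = 1 := by
    intro g hg
    have h1 : (⟨g, hg⟩ : G) ^ Nat.card G = 1 := pow_card_eq_one'
    have h2' : g ^ Nat.card G = 1 := by
      have h0 := congrArg Subtype.val h1
      rw [Subgroup.coe_pow] at h0
      exact h0
    have := Groth.Agent.S15165.result K hK h2 V q hq g (hG g hg) (Nat.card G) hcard h2'
    rwa [pow_two] at this
  have hcomm : ∀ g ∈ G, ∀ h ∈ G, g * h = h * g := by
    intro g hg h hh
    have h3 := hsq (g * h) (G.mul_mem hg hh)
    have e1 : g * h = (g * h)⁻¹ := eq_inv_of_mul_eq_one_left h3
    have e2 : h⁻¹ = h := inv_eq_of_mul_eq_one_left (hsq h hh)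
    have e3 : g⁻¹ = g := inv_eq_of_mul_eq_one_left (hsq g hg)
    rw [e1, mul_inv_rev, e2, e3]
  refine ⟨hcomm, ?_⟩
  haveI := Fintype.ofFinite G
  let S : Finset (Module.End K V) :=
    Finset.univ.image (fun g : G => ((g : V ≃ₗ[K] V).toLinearMap : Module.End K V))
  have hScard : S.card = Nat.card G := by
    rw [Finset.card_image_of_injective, Finset.card_univ, Nat.card_eq_fintype_card]
    intro a b hab
    exact Subtype.ext (LinearEquiv.toLinearMap_injective hab)
  rw [← hScard]
  apply Groth.Agent.H75.card_commuting_involutions h2 _ V rfl S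
  · intro g hg
    obtain ⟨g', _, rfl⟩ := Finset.mem_image.mp hg
    have := hsq g' g'.2
    ext x
    have h4 := LinearEquiv.congr_fun this x
    simpa using h4
  · intro g hg h hh
    obtain ⟨g', _, rfl⟩ := Finset.mem_image.mp hg
    obtain ⟨h', _, rfl⟩ := Finset.mem_image.mp hh
    have := hcomm g' g'.2 h' h'.2
    ext x
    have h4 := LinearEquiv.congr_fun this x
    simpa using h4

end Groth.Agent.S15166
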