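import Groth.Statements.S15169
import Groth.Agent.Lead.PAlg
import Groth.Agent.H1.CSAMaxComm

set_option autoImplicit false
universe u v
open BddFin

namespace Groth.Agent.S15169

/-- (1) ⇒ (2): let K be a field with char K = p > 0 and A a central division K-algebra with dim_K A = p
^ 2. If some element of A is not separable over K, then there are v, u in A with v ^ p and u ^ p in
K and v * u - u * v = 1 which generate A as a K-algebra. -/
theorem result
    (K : Type u) [Field K] (p : ℕ) [Fact p.Prime] [CharP K p]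
    (A : Type v) [DivisionRing A] [Algebra K A] [Algebra.IsCentral K A] [FiniteDimensional K A]
    (hA : Module.finrank K A = p ^ 2) (h : ∃ v : A, ¬ IsSeparable K v) :
    ∃ v u : A, v ^ p ∈ (algebraMap K A).range ∧ u ^ p ∈ (algebraMap K A).range ∧ v * u - u * v = 1 ∧
      Algebra.adjoin K {v, u} = ⊤ := by
  classical
  have hp : p.Prime := Fact.out
  obtain ⟨v, hv⟩ := h
  obtain ⟨hvp, hvK⟩ := Groth.Agent.Lead.pow_char_mem_of_not_isSeparable K p A hA v hv
  obtain ⟨t, ht⟩ := Groth.Agent.Lead.exists_shift K p A v hvK hvp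
  have hv0 : v ≠ 0 := by
    rintro rfl
    exact hvK ⟨0, by simp⟩
  have hvu : v * (t * v⁻¹) - (t * v⁻¹) * v = 1 := by
    rw [← mul_assoc, ht, mul_assoc, mul_assoc, mul_inv_cancel₀ hv0, inv_mul_cancel₀ hv0, mul_one,
      mul_one]
    abel
  generalize t * v⁻¹ = u at hvu
  have hnc : u * v ≠ v * u := by
    intro h
    rw [h, sub_self] at hvu
    exact zero_ne_one hvu
  have hvu' : v * u = u * v + 1 := by rw [← hvu]; abel
  have hpowcomm : ∀ n : ℕ, v * u ^ (n + 1) = u ^ (n + 1) * v + ((n + 1 : ℕ) : A) * u ^ n := by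
    intro n
    induction n with
    | zero => simp [hvu']
    | succ n ih =>
      calc v * u ^ (n + 1 + 1) = (v * u ^ (n + 1)) * u := by rw [pow_succ _ (n + 1), mul_assoc]
        _ = (u ^ (n + 1) * v + ((n + 1 : ℕ) : A) * u ^ n) * u := by rw [ih]
        _ = u ^ (n + 1) * (v * u) + ((n + 1 : ℕ) : A) * u ^ (n + 1) := by
            rw [add_mul, mul_assoc, mul_assoc, ← pow_succ]
        _ = u ^ (n + 1 + 1) * v + ((n + 1 + 1 : ℕ) : A) * u ^ (n + 1) := by
            rw [hvu', mul_add, mul_one, ← mul_assoc, ← pow_succ, Nat.cast_succ (n + 1), add_mul,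
              one_mul]
            abel
  haveI : CharP A p := charP_of_injective_algebraMap (algebraMap K A).injective p
  have hup_comm : v * u ^ p = u ^ p * v := by
    obtain ⟨k, hk⟩ : ∃ k, p = k + 1 := ⟨p - 1, by have := hp.pos; omega⟩
    have h1 := hpowcomm k
    rw [← hk, CharP.cast_eq_zero A p, zero_mul, add_zero] at h1
    exact h1
  have hup : u ^ p ∈ (algebraMap K A).range :=
    Groth.Agent.Lead.mem_range_of_commute_of_commute K p A hA v (u ^ p) u hvK hup_comm
      (by rw [← pow_succ, ← pow_succ']) hnc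
  refine ⟨v, u, hvp, hup, hvu, ?_⟩
  haveI : IsSimpleRing (Algebra.adjoin K {v, u}) :=
    Groth.Agent.H1.isSimpleRing_subalgebra (Algebra.adjoin K {v, u})
  have hdim := Groth.Agent.H1.finrank_mul_finrank_centralizer (Algebra.adjoin K {v, u})
  have hC : Subalgebra.centralizer K ((Algebra.adjoin K {v, u} : Subalgebra K A) : Set A) = ⊥ := by
    rw [eq_bot_iff]
    intro w hw
    rw [Subalgebra.mem_centralizer_iff] at hw
    have hwv := hw v (Algebra.subset_adjoin (by simp))
    have hwu := hw u (Algebra.subset_adjoin (by simp))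
    exact Algebra.mem_bot.mpr
      (Groth.Agent.Lead.mem_range_of_commute_of_commute K p A hA v w u hvK hwv hwu.symm hnc)
  rw [hC, Subalgebra.finrank_bot, mul_one] at hdim
  apply Algebra.toSubmodule_eq_top.mp
  apply Submodule.eq_top_of_finrank_eq
  exact hdim.symm

end Groth.Agent.S15169
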