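import Groth.Statements.S1517
import Mathlib.RingTheory.TwoSidedIdeal.Operations
import Mathlib.RingTheory.Ideal.Span

set_option autoImplicit false
universe u
open Brauer

namespace Groth.Agent.S1517

/-- Let A be a ring with no nontrivial two-sided ideals and M a nonzero right ideal, viewed as a right
A-module with endomorphism ring A'. Then every A'-linear endomorphism of M is right multiplication
by exactly one element of A; that is, the natural map from A to the bicommutant of M is a bijection. -/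
theorem result (A : Type u) [Ring A] [IsSimpleRing A]
    (M : Submodule Aᵐᵒᵖ A) (hM : M ≠ ⊥)
    (g : Module.End (Module.End Aᵐᵒᵖ M) M) :
    ∃! a : A, ∀ m : M, (g m : A) = (m : A) * a := by
  classical
  have hmulM : ∀ (m : A) (x : A), m ∈ M → m * x ∈ M := fun m x hm => by
    have := M.smul_mem (MulOpposite.op x) hm
    simpa using this
  -- left multiplication by an element of `M`, as an endomorphism of the right module `M`
  let L : M → Module.End Aᵐᵒᵖ M := fun u =>
    { toFun := fun x => ⟨(u : A) * (x : A), hmulM _ _ u.2⟩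
      map_add' := fun x y => by ext; simp [mul_add]
      map_smul' := fun a x => by ext; simp [mul_assoc] }
  have hL : ∀ (u x : M), ((L u) x : A) = (u : A) * (x : A) := fun u x => rfl
  have hg : ∀ (u x : M), (g ((L u) x) : A) = (u : A) * (g x : A) := fun u x => by
    have h := g.map_smul (L u) x
    rw [Module.End.smul_def, Module.End.smul_def] at h
    rw [h, hL]
  let J : Ideal A := Ideal.span (M : Set A)
  have hJ2 : J.IsTwoSided := ⟨fun {a} b ha => by
    refine Submodule.span_induction (p := fun x _ => x * b ∈ J) ?_ ?_ ?_ ?_ ha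
    · intro x hx; exact Ideal.subset_span (hmulM _ _ hx)
    · simp
    · intro x y _ _ hx hy; rw [add_mul]; exact J.add_mem hx hy
    · intro r x _ hx; rw [smul_eq_mul, mul_assoc]; exact J.mul_mem_left r hx⟩
  have h1 : (1 : A) ∈ J := by
    obtain ⟨x, hxM, hx0⟩ := (Submodule.ne_bot_iff M).mp hM
    have := IsSimpleRing.one_mem_of_ne_zero_mem (J.toTwoSided) hx0 (by
      rw [Ideal.mem_toTwoSided]; exact Ideal.subset_span hxM)
    simpa using this
  -- existence
  have hex : ∀ x ∈ J, ∃ a : A, ∀ m : M, (g ⟨(m : A) * x, hmulM _ _ m.2⟩ : A) = (m : A) * a := by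
    intro x hx
    refine Submodule.span_induction
      (p := fun x _ => ∃ a : A, ∀ m : M, (g ⟨(m : A) * x, hmulM _ _ m.2⟩ : A) = (m : A) * a)
      ?_ ?_ ?_ ?_ hx
    · intro x hx
      exact ⟨(g ⟨x, hx⟩ : A), fun m => hg m ⟨x, hx⟩⟩
    · refine ⟨0, fun m => ?_⟩
      have : (⟨(m : A) * 0, hmulM _ _ m.2⟩ : M) = 0 := by ext; simp
      rw [this, map_zero]; simp
    · rintro x y _ _ ⟨a, ha⟩ ⟨b, hb⟩
      refine ⟨a + b, fun m => ?_⟩
      have : (⟨(m : A) * (x + y), hmulM _ _ m.2⟩ : M) =
          ⟨(m : A) * x, hmulM _ _ m.2⟩ + ⟨(m : A) * y, hmulM _ _ m.2⟩ := by ext; simp [mul_add]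
      rw [this, map_add, Submodule.coe_add, ha, hb, mul_add]
    · rintro r x _ ⟨a, ha⟩
      refine ⟨r * a, fun m => ?_⟩
      have hmr : (m : A) * r ∈ M := hmulM _ _ m.2
      have : (⟨(m : A) * (r • x), hmulM _ _ m.2⟩ : M) =
          ⟨((⟨(m : A) * r, hmr⟩ : M) : A) * x, hmulM _ _ hmr⟩ := by ext; simp [mul_assoc]
      rw [this, ha ⟨(m : A) * r, hmr⟩, mul_assoc]
  obtain ⟨a, ha⟩ := hex 1 h1
  refine ⟨a, fun m => ?_, fun b hb => ?_⟩
  · have : (⟨(m : A) * 1, hmulM _ _ m.2⟩ : M) = m := by ext; simp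
    rw [← ha m, this]
  · -- uniqueness
    have hzero : ∀ x ∈ J, x * (b - a) = 0 := by
      intro x hx
      refine Submodule.span_induction (p := fun x _ => x * (b - a) = 0) ?_ ?_ ?_ ?_ hx
      · intro x hx
        have h1 := hb ⟨x, hx⟩
        have h2 := ha ⟨x, hx⟩
        have h3 : (⟨((⟨x, hx⟩ : M) : A) * 1, hmulM _ _ hx⟩ : M) = ⟨x, hx⟩ := by ext; simp
        rw [h3] at h2
        rw [mul_sub, ← h1, ← h2, sub_self]
      · simp
      · intro x y _ _ hx hy; rw [add_mul, hx, hy, add_zero]
      · intro r x _ hx; rw [smul_eq_mul, mul_assoc, hx, mul_zero]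
    have := hzero 1 h1
    rw [one_mul, sub_eq_zero] at this
    exact this

end Groth.Agent.S1517
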