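import Groth.Statements.S15170
import Groth.Agent.Lead.GaloisSub
import Groth.Agent.Lead.WedderburnCubic

set_option autoImplicit false
universe u v
open BddFin

namespace Groth.Agent.S15170

/-- (2) ⇒ (3): let K be a field with char K = p > 0 and A a central division K-algebra with dim_K A = p
^ 2. If v, u in A satisfy v ^ p ∈ K, u ^ p ∈ K and v * u - u * v = 1, then some Galois extension L
of K with [L : K] = p admits a K-algebra embedding into A (so A has a Galois subfield of degree p
over K). -/
theorem result
    (K : Type u) [Field K] (p : ℕ) [Fact p.Prime] [CharP K p]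
    (A : Type v) [DivisionRing A] [Algebra K A] [Algebra.IsCentral K A] [FiniteDimensional K A]
    (hA : Module.finrank K A = p ^ 2) (v u : A) (hv : v ^ p ∈ (algebraMap K A).range)
    (hu : u ^ p ∈ (algebraMap K A).range) (hvu : v * u - u * v = 1) :
    ∃ (L : Type v) (_ : Field L) (_ : Algebra K L), IsGalois K L ∧ Module.finrank K L = p ∧
      Nonempty (L →ₐ[K] A) := by
  classical
  have hp : p.Prime := Fact.out
  have hv0 : v ≠ 0 := by
    rintro rfl
    simp at hvu
  have hvt : v * (u * v) = (u * v + 1) * v := by
    have h1 : v * u = 1 + u * v := by rw [← hvu]; abel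
    calc v * (u * v) = (v * u) * v := by rw [mul_assoc]
      _ = (1 + u * v) * v := by rw [h1]
      _ = (u * v + 1) * v := by rw [add_comm]
  generalize u * v = t at hvt
  have htK : t ∉ (algebraMap K A).range := by
    rintro ⟨a, ha⟩
    rw [← ha, ← Algebra.commutes, add_mul, one_mul] at hvt
    exact hv0 (by simpa using hvt)
  have hconj : ∀ j : ℕ, v ^ j * t = (t + (j : A)) * v ^ j := by
    intro j
    induction j with
    | zero => simp
    | succ j ih =>
      calc v ^ (j + 1) * t = v ^ j * (v * t) := by rw [pow_succ, mul_assoc]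
        _ = v ^ j * ((t + 1) * v) := by rw [hvt]
        _ = (v ^ j * t + v ^ j) * v := by rw [← mul_assoc, mul_add, mul_one]
        _ = ((t + (j : A)) * v ^ j + v ^ j) * v := by rw [ih]
        _ = (t + ((j + 1 : ℕ) : A)) * v ^ (j + 1) := by
          rw [pow_succ, ← mul_assoc, Nat.cast_succ, ← add_assoc, add_mul (t + (j : A)) 1, one_mul]
  have hroot : ∀ j : ℕ, Polynomial.aeval (t + (j : A)) (minpoly K t) = 0 := by
    intro j
    let uj : Aˣ := Units.mk0 (v ^ j) (pow_ne_zero j hv0)
    have h1 : t + (j : A) = (uj : A) * t * ((uj⁻¹ : Aˣ) : A) := by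
      change t + (j : A) = v ^ j * t * ((uj⁻¹ : Aˣ) : A)
      rw [hconj j, mul_assoc]
      change t + (j : A) = (t + (j : A)) * ((uj : A) * ((uj⁻¹ : Aˣ) : A))
      rw [Units.mul_inv, mul_one]
    rw [h1, Groth.Agent.Lead.Wedderburn.aeval_conj, minpoly.aeval, mul_zero, zero_mul]
  haveI : Fact (Irreducible (minpoly K t)) := ⟨Groth.Agent.Lead.irreducible_minpoly K A t⟩
  have h0 : minpoly K t ≠ 0 := (Groth.Agent.Lead.irreducible_minpoly K A t).ne_zero
  have hinj : Function.Injective (Groth.Agent.Lead.adjoinRootEmb K A t) :=
    (Groth.Agent.Lead.adjoinRootEmb K A t).toRingHom.injective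
  have hdeg : (minpoly K t).natDegree = p := Groth.Agent.Lead.natDegree_minpoly_eq K p A hA t htK
  have hroot' : ∀ j : ℕ, Polynomial.eval (AdjoinRoot.root (minpoly K t) + (j : AdjoinRoot (minpoly K t)))
      ((minpoly K t).map (algebraMap K (AdjoinRoot (minpoly K t)))) = 0 := by
    intro j
    rw [Polynomial.eval_map_algebraMap]
    apply hinj
    rw [map_zero, ← Polynomial.aeval_algHom_apply, map_add, Groth.Agent.Lead.adjoinRootEmb_root,
      map_natCast]
    exact hroot j
  haveI : CharP (AdjoinRoot (minpoly K t)) p :=
    charP_of_injective_algebraMap (algebraMap K (AdjoinRoot (minpoly K t))).injective p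
  have hmap0 : (minpoly K t).map (algebraMap K (AdjoinRoot (minpoly K t))) ≠ 0 :=
    Polynomial.map_ne_zero h0
  let S : Finset (AdjoinRoot (minpoly K t)) :=
    (Finset.range p).image (fun j : ℕ => AdjoinRoot.root (minpoly K t) + (j : AdjoinRoot (minpoly K t)))
  have hScard : S.card = p := by
    rw [Finset.card_image_of_injOn, Finset.card_range]
    intro i hi j hj hij
    have hi' : i ∈ Set.Iio p := by simpa using hi
    have hj' : j ∈ Set.Iio p := by simpa using hj
    exact CharP.natCast_injOn_Iio (AdjoinRoot (minpoly K t)) p hi' hj' (add_left_cancel hij)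
  have hSroots : S.val ≤ ((minpoly K t).map (algebraMap K (AdjoinRoot (minpoly K t)))).roots := by
    rw [Multiset.le_iff_subset S.nodup]
    intro y hy
    rw [Finset.mem_val, Finset.mem_image] at hy
    obtain ⟨j, -, rfl⟩ := hy
    rw [Polynomial.mem_roots hmap0]
    exact hroot' j
  have hcard : ((minpoly K t).map (algebraMap K (AdjoinRoot (minpoly K t)))).roots.card =
      ((minpoly K t).map (algebraMap K (AdjoinRoot (minpoly K t)))).natDegree := by
    apply le_antisymm (Polynomial.card_roots' _)
    rw [Polynomial.natDegree_map, hdeg, ← hScard]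
    exact Multiset.card_le_card hSroots
  have hsplit : ((minpoly K t).map (algebraMap K (AdjoinRoot (minpoly K t)))).Splits :=
    Polynomial.splits_iff_card_roots.mpr hcard
  have hrootsEq : S.val = ((minpoly K t).map (algebraMap K (AdjoinRoot (minpoly K t)))).roots := by
    apply Multiset.eq_of_le_of_card_le hSroots
    rw [hcard, Polynomial.natDegree_map, hdeg]
    exact hScard.ge
  have hsepmap : ((minpoly K t).map (algebraMap K (AdjoinRoot (minpoly K t)))).Separable := by
    rw [← Polynomial.nodup_roots_iff_of_splits hmap0 hsplit, ← hrootsEq]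
    exact S.nodup
  have hsep : (minpoly K t).Separable := (Polynomial.separable_map _).mp hsepmap
  exact Groth.Agent.Lead.exists_galois_subfield_of_splits K p A hA t htK hsep hsplit

end Groth.Agent.S15170
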