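import Groth.Statements.S15172
import Mathlib.Algebra.Polynomial.Roots
import Mathlib.Algebra.Polynomial.AlgebraMap
import Mathlib.Tactic

set_option autoImplicit false
universe u v
open Polynomial
open BddFin

namespace Groth.Agent.S15172

/-- Let L be a field of characteristic p > 0 and s a finite subset of L containing 0 and closed under
addition (a finite additive subgroup). Then the polynomial f = ∏_{a ∈ s} (X - a) is additive: f (x +
y) = f x + f y for all x, y in any commutative L-algebra (equivalently, as an identity of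
polynomials in two variables). -/
theorem result
    (L : Type u) [Field L] (p : ℕ) [Fact p.Prime] [CharP L p] (s : Finset L) (h0 : (0 : L) ∈ s)
    (hadd : ∀ a ∈ s, ∀ b ∈ s, a + b ∈ s) (R : Type v) [CommRing R] [Algebra L R] (x y : R) :
    aeval (x + y) (∏ a ∈ s, (X - C a)) = aeval x (∏ a ∈ s, (X - C a)) + aeval y (∏ a ∈ s, (X - C a)) := by
  classical
  -- the polynomial ring S = L[Y]
  set f : L[X] := ∏ a ∈ s, (X - C a) with hf
  let S := L[X]
  let Y : S := X
  set F : S[X] := f.map (C : L →+* S) with hF
  have hFprod : F = ∏ a ∈ s, (X - C (C a)) := by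
    rw [hF, hf, Polynomial.map_prod]
    refine Finset.prod_congr rfl (fun a _ => ?_)
    simp
  have hn : 0 < s.card := Finset.card_pos.mpr ⟨0, h0⟩
  have hFmonic : F.Monic := by
    rw [hFprod]; exact monic_prod_of_monic _ _ (fun a _ => monic_X_sub_C _)
  have hFdeg : F.natDegree = s.card := by
    rw [hFprod, natDegree_prod_of_monic _ _ (fun a _ => monic_X_sub_C _)]
    simp
  -- translation invariance
  have htrans : ∀ a ∈ s, s.image (fun b => b + a) = s := by
    intro a ha
    apply Finset.eq_of_subset_of_card_le
    · intro c hc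
      obtain ⟨b, hb, rfl⟩ := Finset.mem_image.mp hc
      exact hadd b hb a ha
    · rw [Finset.card_image_of_injective _ (add_left_injective a)]
  have hevalY : F.eval Y = f := by
    rw [hF, eval_map]; exact eval₂_C_X
  have hroot : ∀ a ∈ s, F.eval (C a + Y) = F.eval Y := by
    intro a ha
    rw [hFprod, eval_prod, eval_prod]
    conv_lhs => rw [← htrans a ha]
    rw [Finset.prod_image (fun b _ c _ h => add_left_injective a h)]
    refine Finset.prod_congr rfl (fun b _ => ?_)
    rw [eval_sub, eval_X, eval_C, eval_sub, eval_X, eval_C, C_add]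
    ring
  have hFa : ∀ a ∈ s, F.eval (C a) = 0 := by
    intro a ha
    rw [hFprod, eval_prod]
    exact Finset.prod_eq_zero ha (by simp)
  -- the difference polynomial
  set G : S[X] := F.comp (X + C Y) with hG
  have hGmonic : G.Monic := by
    rw [hG]
    have : (X + C Y : S[X]) = X - C (-Y) := by simp
    rw [this]
    exact hFmonic.comp_X_sub_C _
  have hGdeg : G.natDegree = s.card := by
    rw [hG]
    have : (X + C Y : S[X]) = X - C (-Y) := by simp
    rw [this, natDegree_comp, natDegree_X_sub_C, mul_one, hFdeg]
  set H : S[X] := G - F - C (F.eval Y) with hH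
  have hHdeg : H.natDegree < s.card := by
    have h1 : (G - F).degree < G.degree := by
      apply degree_sub_lt_left
      · rw [degree_eq_natDegree hGmonic.ne_zero, degree_eq_natDegree hFmonic.ne_zero, hGdeg, hFdeg]
      · exact hGmonic.ne_zero
      · rw [hGmonic.leadingCoeff, hFmonic.leadingCoeff]
    have h2 : (G - F).degree < (s.card : WithBot ℕ) := by
      rwa [degree_eq_natDegree hGmonic.ne_zero, hGdeg] at h1
    have h3 : (C (F.eval Y) : S[X]).degree < (s.card : WithBot ℕ) :=
      lt_of_le_of_lt degree_C_le (by exact_mod_cast hn)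
    have h4 : H.degree < (s.card : WithBot ℕ) :=
      lt_of_le_of_lt (degree_sub_le _ _) (max_lt h2 h3)
    by_cases hH0 : H = 0
    · rw [hH0]; simpa using hn
    · rw [degree_eq_natDegree hH0] at h4
      exact_mod_cast h4
  have hHzero : H = 0 := by
    apply Polynomial.eq_zero_of_natDegree_lt_card_of_eval_eq_zero' H (s.image (C : L → S))
    · intro c hc
      obtain ⟨a, ha, rfl⟩ := Finset.mem_image.mp hc
      rw [hH, eval_sub, eval_sub, eval_C, hG, eval_comp, eval_add, eval_X, eval_C, hroot a ha,
        hFa a ha]
      ring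
    · rw [Finset.card_image_of_injective _ C_injective]
      exact hHdeg
  -- specialise
  let ψ : S →+* R := (Polynomial.aeval y : L[X] →ₐ[L] R).toRingHom
  have hψC : ψ.comp (C : L →+* S) = algebraMap L R := by
    ext a
    exact Polynomial.aeval_C y a
  have hψY : ψ Y = y := Polynomial.aeval_X y
  have e1 : eval₂ ψ x F = aeval x f := by
    rw [hF, eval₂_map, hψC]; rfl
  have e2 : eval₂ ψ x G = aeval (x + y) f := by
    rw [hG, eval₂_comp, eval₂_add, eval₂_X, eval₂_C, hψY, hF, eval₂_map, hψC]; rfl
  have e3 : eval₂ ψ x (C (F.eval Y)) = aeval y f := by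
    rw [eval₂_C, hevalY]; rfl
  have := congrArg (eval₂ ψ x) hHzero
  rw [hH, eval₂_sub, eval₂_sub, e1, e2, e3, eval₂_zero] at this
  have h5 : aeval (x + y) f = aeval x f + aeval y f := by
    have h6 := sub_eq_zero.mp this
    have h7 := sub_eq_iff_eq_add.mp h6
    rw [h7]; ring
  exact h5

end Groth.Agent.S15172
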