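import Groth.Statements.S15173
import Groth.Agent.H75.FinIndexComm

set_option autoImplicit false
universe u v
open Polynomial
open BddFin

namespace Groth.Agent.S15173

/-- Let K be a field of characteristic p > 0 such that K contains all roots of unity (for every n ≥ 1
the polynomial X^n − 1 splits into linear factors over K), and A a finite-dimensional central
division algebra over K. If A contains an element w not in K with w ^ p in K, then the quotient of
the unit group of A by that of K has unbounded finite subgroups: for every N there is a subgroup H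
of the units of A containing the units of K as a subgroup of finite index greater than N. (The
published statement assumes only that some element of A is inseparable over K and passes at once to
a purely inseparable subfield of degree p; this row assumes an element generating such a subfield
directly, which is what the rest of the printed argument uses.) -/
theorem result
    (K : Type u) [Field K] (p : ℕ) [Fact p.Prime] [CharP K p] (hK : ∀ n : ℕ, 0 < n → (X ^ n - 1 : K[X]).Splits)
    (A : Type v) [DivisionRing A] [Algebra K A] [Algebra.IsCentral K A] [FiniteDimensional K A]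
    (w : A) (hw : w ^ p ∈ (algebraMap K A).range) (hwK : w ∉ (algebraMap K A).range) (N : ℕ) :
    ∃ H : Subgroup Aˣ, (Units.map (algebraMap K A : K →* A)).range ≤ H ∧
      N < ((Units.map (algebraMap K A : K →* A)).range).relIndex H := by
  classical
  have hp0 : 0 < p := (Fact.out : p.Prime).pos
  have hinjK : Function.Injective (algebraMap K A) := (algebraMap K A).injective
  have hcharA : CharP A p := charP_of_injective_algebraMap hinjK p
  -- linear independence of 1 and w over K
  have hlin : ∀ a b : K, algebraMap K A a + b • w = 0 → a = 0 ∧ b = 0 := by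
    intro a b hab
    have hb : b = 0 := by
      by_contra hb
      apply hwK
      refine ⟨-(b⁻¹ * a), ?_⟩
      have h1 : b • w = -(algebraMap K A a) := eq_neg_of_add_eq_zero_right hab
      have h2 : w = b⁻¹ • (b • w) := by rw [smul_smul, inv_mul_cancel₀ hb, one_smul]
      rw [h2, h1, map_neg, map_mul, Algebra.smul_def, mul_neg]
    subst hb
    rw [zero_smul, add_zero] at hab
    exact ⟨hinjK (by rw [hab, map_zero]), rfl⟩
  -- the units 1 + c w
  have hne : ∀ c : K, (1 + c • w : A) ≠ 0 := by
    intro c hc
    have := hlin 1 c (by rw [map_one]; exact hc)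
    exact one_ne_zero this.1
  let u : K → Aˣ := fun c => Units.mk0 (1 + c • w) (hne c)
  have hu : ∀ c, ((u c : Aˣ) : A) = 1 + c • w := fun c => rfl
  set Z : Subgroup Aˣ := (Units.map (algebraMap K A : K →* A)).range with hZ
  have hmemZ : ∀ x : Aˣ, x ∈ Z ↔ ∃ k : Kˣ, algebraMap K A (k : K) = (x : A) := by
    intro x
    rw [hZ, MonoidHom.mem_range]
    constructor
    · rintro ⟨k, rfl⟩
      exact ⟨k, rfl⟩
    · rintro ⟨k, hk⟩
      exact ⟨k, Units.ext hk⟩
  have hsep : ∀ c c' : K, (u c)⁻¹ * u c' ∈ Z → c = c' := by
    intro c c' h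
    obtain ⟨k, hk⟩ := (hmemZ _).1 h
    have h1 : (u c' : A) = (u c : A) * algebraMap K A k := by
      rw [hk, Units.val_mul, ← mul_assoc, Units.mul_inv, one_mul]
    rw [hu, hu, ← Algebra.commutes, mul_add, mul_one, ← Algebra.smul_def, smul_smul] at h1
    have h2 : algebraMap K A (1 - k) + (c' - k * c) • w = 0 := by
      rw [map_sub, map_one, sub_smul, ← sub_eq_zero.2 h1]
      abel
    obtain ⟨h3, h4⟩ := hlin _ _ h2
    have hk1 : (k : K) = 1 := (sub_eq_zero.1 h3).symm
    rw [hk1, one_mul] at h4
    exact (sub_eq_zero.1 h4).symm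
  -- many distinct scalars
  have hn : 0 < p * N + 1 := Nat.succ_pos _
  have hnK : ((p * N + 1 : ℕ) : K) ≠ 0 := by
    rw [Nat.cast_add, Nat.cast_mul, CharP.cast_eq_zero K p, zero_mul, zero_add, Nat.cast_one]
    exact one_ne_zero
  have hsepP : (X ^ (p * N + 1) - 1 : K[X]).Separable := (X_pow_sub_one_separable_iff).2 hnK
  have hcard : Multiset.card (X ^ (p * N + 1) - 1 : K[X]).roots = p * N + 1 := by
    rw [splits_iff_card_roots.1 (hK _ hn)]
    exact natDegree_X_pow_sub_C
  let C : Finset K := (X ^ (p * N + 1) - 1 : K[X]).roots.toFinset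
  have hC : C.card = p * N + 1 := by
    rw [Multiset.toFinset_card_of_nodup (nodup_roots hsepP), hcard]
  let T : Finset Aˣ := C.image u
  have huinj : Function.Injective u := by
    intro c c' h
    apply hsep
    rw [h, inv_mul_cancel]
    exact Z.one_mem
  have hT : T.card = p * N + 1 := by
    rw [Finset.card_image_of_injective _ huinj, hC]
  -- commutation
  have hcommT : ∀ c c' : K, u c * u c' = u c' * u c := by
    intro c c'
    apply Units.ext
    rw [Units.val_mul, Units.val_mul, hu, hu]
    have : Commute (1 + c • w : A) (1 + c' • w) := by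
      refine Commute.add_left (Commute.one_left _) ?_
      refine Commute.add_right (Commute.one_right _) ?_
      exact ((Commute.refl w).smul_left c).smul_right c'
    exact this
  have hcommZ : ∀ x ∈ Z, ∀ y : Aˣ, x * y = y * x := by
    intro x hx y
    obtain ⟨k, hk⟩ := (hmemZ x).1 hx
    apply Units.ext
    rw [Units.val_mul, Units.val_mul, ← hk]
    exact Algebra.commutes _ _
  have hcomm : ∀ x ∈ (Z : Set Aˣ) ∪ (T : Set Aˣ), ∀ y ∈ (Z : Set Aˣ) ∪ (T : Set Aˣ),
      x * y = y * x := by
    intro x hx y hy
    rcases hx with hx | hx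
    · exact hcommZ x hx y
    · rcases hy with hy | hy
      · exact (hcommZ y hy x).symm
      · obtain ⟨c, -, rfl⟩ := Finset.mem_image.1 (Finset.mem_coe.1 hx)
        obtain ⟨c', -, rfl⟩ := Finset.mem_image.1 (Finset.mem_coe.1 hy)
        exact hcommT c c'
  -- p-th powers
  obtain ⟨a, ha⟩ := hw
  have hpow : ∀ t ∈ T, t ^ p ∈ Z := by
    intro t ht
    obtain ⟨c, -, rfl⟩ := Finset.mem_image.1 ht
    have h1 : ((u c ^ p : Aˣ) : A) = algebraMap K A (1 + c ^ p * a) := by
      rw [Units.val_pow_eq_pow_val, hu,
        add_pow_char_of_commute p (Commute.one_left (c • w)), one_pow, _root_.smul_pow, ← ha,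
        map_add, map_one, map_mul, Algebra.smul_def, map_pow]
    have h2 : (1 + c ^ p * a : K) ≠ 0 := by
      intro h0
      have : ((u c ^ p : Aˣ) : A) = 0 := by rw [h1, h0, map_zero]
      exact (Units.ne_zero _) this
    exact (hmemZ _).2 ⟨Units.mk0 _ h2, h1.symm⟩
  have hinj : ∀ s ∈ T, ∀ t ∈ T, s⁻¹ * t ∈ Z → s = t := by
    intro s hs t ht h
    obtain ⟨c, -, rfl⟩ := Finset.mem_image.1 hs
    obtain ⟨c', -, rfl⟩ := Finset.mem_image.1 ht
    rw [hsep c c' h]
  obtain ⟨H, hZH, hle, -⟩ :=
    Groth.Agent.H75.FinIndexComm.exists_subgroup_relIndex Z p hp0 T hcomm hpow hinj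
  refine ⟨H, hZH, lt_of_lt_of_le ?_ hle⟩
  rw [hT]
  have : N ≤ p * N := Nat.le_mul_of_pos_left N hp0
  omega

end Groth.Agent.S15173
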