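import Groth.Statements.S15183
import Mathlib

set_option autoImplicit false
universe u v
open Polynomial
open BddFin

namespace Groth.Agent.S15183

/-- Let K be a field such that K contains all roots of unity (for every n ≥ 1 the polynomial X^n − 1
splits into linear factors over K), and A a finite-dimensional central simple K-algebra which is not
a division algebra (some non-zero element is not a unit). Then the quotient of the unit group of A
by that of K has elements of every finite order invertible in K: for every d ≥ 1 with d ≠ 0 in K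
there is a unit x of A with x ^ d in K and x ^ k not in K for 0 < k < d. (The published assertion is
phrased for the automorphism group of the Severi–Brauer variety of A, which is isomorphic to the
units of A modulo those of K; this row is the algebra-side statement its proof establishes.) -/
theorem result
    (K : Type u) [Field K] (hK : ∀ n : ℕ, 0 < n → (X ^ n - 1 : K[X]).Splits)
    (A : Type v) [Ring A] [Algebra K A] [Algebra.IsCentral K A] [IsSimpleRing A] [FiniteDimensional K A]
    (hA : ∃ y : A, y ≠ 0 ∧ ¬ IsUnit y) (d : ℕ) (hd : 0 < d) (hdK : (d : K) ≠ 0) :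
    ∃ x : A, IsUnit x ∧ x ^ d ∈ (algebraMap K A).range ∧
      ∀ k : ℕ, 0 < k → k < d → x ^ k ∉ (algebraMap K A).range := by
  classical
  -- a primitive d-th root of unity in K
  have hdne : NeZero (d : K) := ⟨hdK⟩
  obtain ⟨ζ, hζ⟩ : ∃ ζ : K, IsPrimitiveRoot ζ d := by
    have hne : (X ^ d - 1 : K[X]) ≠ 0 := by
      have := Polynomial.X_pow_sub_C_ne_zero hd (1 : K)
      simpa using this
    have hsplit : (cyclotomic d K).Splits :=
      Polynomial.Splits.of_dvd (hK d hd) hne (cyclotomic.dvd_X_pow_sub_one d K)
    have hdeg : (cyclotomic d K).degree ≠ 0 := by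
      rw [degree_cyclotomic]
      exact_mod_cast (Nat.totient_pos.mpr hd).ne'
    obtain ⟨ζ, hζ⟩ := hsplit.exists_eval_eq_zero hdeg
    exact ⟨ζ, (isRoot_cyclotomic_iff).mp hζ⟩
  have : IsArtinianRing A := IsArtinianRing.of_finite K A
  obtain ⟨n, hn, D, _, _, ⟨e⟩⟩ := IsSimpleRing.exists_algEquiv_matrix_divisionRing K A
  obtain ⟨y, hy0, hyu⟩ := hA
  -- n ≥ 2
  obtain _ | _ | m := n
  · exact absurd rfl hn.ne
  · exfalso
    apply hyu
    have hsub : Subsingleton (Fin (0 + 1)) := (inferInstance : Subsingleton (Fin 1))
    have h1 : e y ≠ 0 := by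
      intro h0
      apply hy0
      exact e.injective (by rw [h0, map_zero])
    have h00 : (e y) 0 0 ≠ 0 := by
      intro h0
      apply h1
      ext i j
      rw [Subsingleton.elim i 0, Subsingleton.elim j 0, h0]
      rfl
    have h2 : IsUnit (e y) := by
      rw [isUnit_iff_exists]
      refine ⟨Matrix.of (fun _ _ => ((e y) 0 0)⁻¹), ?_, ?_⟩
      · ext i j
        rw [Subsingleton.elim i 0, Subsingleton.elim j 0]
        simp [Matrix.mul_apply, h00]
      · ext i j
        rw [Subsingleton.elim i 0, Subsingleton.elim j 0]
        simp [Matrix.mul_apply, h00]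
    exact (MulEquiv.isUnit_map e).mp h2
  · -- the diagonal matrix diag(ζ, 1, …, 1)
    let v : Fin (m + 1 + 1) → D := fun i => if i = 0 then algebraMap K D ζ else 1
    let w : Fin (m + 1 + 1) → D := fun i => if i = 0 then algebraMap K D ζ⁻¹ else 1
    have hζ0 : ζ ≠ 0 := hζ.ne_zero hd.ne'
    have hvw : Matrix.diagonal v * Matrix.diagonal w = 1 := by
      rw [Matrix.diagonal_mul_diagonal, ← Matrix.diagonal_one]
      congr 1
      funext i
      by_cases hi : i = 0
      · simp [v, w, hi, hζ0]
      · simp [v, w, hi]
    have hwv : Matrix.diagonal w * Matrix.diagonal v = 1 := by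
      rw [Matrix.diagonal_mul_diagonal, ← Matrix.diagonal_one]
      congr 1
      funext i
      by_cases hi : i = 0
      · simp [v, w, hi, hζ0]
      · simp [v, w, hi]
    have hpow : ∀ k : ℕ, (Matrix.diagonal v) ^ k
        = Matrix.diagonal (fun i => if i = 0 then algebraMap K D (ζ ^ k) else 1) := by
      intro k
      rw [Matrix.diagonal_pow]
      congr 1
      funext i
      by_cases hi : i = 0
      · simp [v, hi]
      · simp [v, hi]
    have hmem : ∀ k : ℕ, (Matrix.diagonal v) ^ k ∈
        (algebraMap K (Matrix (Fin (m + 1 + 1)) (Fin (m + 1 + 1)) D)).range ↔ ζ ^ k = 1 := by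
      intro k
      rw [hpow]
      constructor
      · rintro ⟨c, hc⟩
        rw [Matrix.algebraMap_eq_diagonal] at hc
        have hc' := Matrix.diagonal_injective hc
        have h0 := congrFun hc' 0
        have h1 := congrFun hc' 1
        simp only [Pi.algebraMap_apply, if_true] at h0
        have h10 : (1 : Fin (m + 1 + 1)) ≠ 0 := by
          intro h; exact absurd (congrArg Fin.val h) (by simp)
        simp only [Pi.algebraMap_apply, h10, if_false] at h1
        have : algebraMap K D (ζ ^ k) = algebraMap K D 1 := by rw [← h0, h1, map_one]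
        exact (algebraMap K D).injective this
      · intro h
        refine ⟨1, ?_⟩
        rw [map_one, ← Matrix.diagonal_one]
        congr 1
        funext i
        by_cases hi : i = 0
        · simp [hi, h]
        · simp [hi]
    refine ⟨e.symm (Matrix.diagonal v), ?_, ?_, ?_⟩
    · have : IsUnit (Matrix.diagonal v) := isUnit_iff_exists.mpr ⟨_, hvw, hwv⟩
      exact (MulEquiv.isUnit_map e.symm).mpr this
    · rw [← map_pow]
      obtain ⟨c, hc⟩ := (hmem d).mpr hζ.pow_eq_one
      exact ⟨c, by rw [← hc, AlgEquiv.commutes]⟩
    · intro k hk0 hkd hmemk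
      rw [← map_pow] at hmemk
      obtain ⟨c, hc⟩ := hmemk
      have : (Matrix.diagonal v) ^ k ∈
          (algebraMap K (Matrix (Fin (m + 1 + 1)) (Fin (m + 1 + 1)) D)).range := by
        refine ⟨c, ?_⟩
        apply e.symm.injective
        rw [← hc, AlgEquiv.commutes]
      have h1 := (hmem k).mp this
      have := (hζ.pow_eq_one_iff_dvd k).mp h1
      exact absurd (Nat.le_of_dvd hk0 this) (by omega)

end Groth.Agent.S15183
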