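import Groth.Statements.S15185
import Mathlib
import Groth.Agent.H76.RedNorm
import Groth.Agent.H76.KummerDiv
import Groth.Agent.H1.CSACentralizer

set_option autoImplicit false
universe u v
open Polynomial
open BddFin

namespace Groth.Agent.S15185

/-- Let K be a field of characteristic p > 0 such that K contains all roots of unity (for every n ≥ 1
the polynomial X^n − 1 splits into linear factors over K), A a central division algebra of dimension
n ^ 2 over K, and write n = n' · p ^ m with n' prime to p; let N be the reduced norm of A. Consider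
the kernel of the homomorphism from the units of A modulo those of K to Kˣ/(Kˣ)^(p^m) induced by N.
Every element of finite order of that kernel has order dividing n': if x ≠ 0 in A has x ^ r in K for
some r ≥ 1 and N x is a (p ^ m)-th power of a non-zero element of K, then x ^ n' lies in K. -/
theorem result
    (K : Type u) [Field K] (p : ℕ) [Fact p.Prime] [CharP K p] (hK : ∀ n : ℕ, 0 < n → (X ^ n - 1 : K[X]).Splits)
    (A : Type v) [DivisionRing A] [Algebra K A] [Algebra.IsCentral K A] [FiniteDimensional K A]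
    (n n' m : ℕ) (hA : Module.finrank K A = n ^ 2) (hn : n = n' * p ^ m) (hn' : ¬ p ∣ n')
    (N : A →* K) (hN : CSAGal.IsRedNorm K A N)
    (x : A) (hx : x ≠ 0) (hxr : ∃ r : ℕ, 0 < r ∧ x ^ r ∈ (algebraMap K A).range)
    (hNx : ∃ b : K, b ≠ 0 ∧ N x = b ^ (p ^ m)) :
    x ^ n' ∈ (algebraMap K A).range := by
  classical
  have hp : p.Prime := Fact.out
  obtain ⟨r, hr, a, ha⟩ := hxr
  obtain ⟨b, hb, hNb⟩ := hNx
  -- minimal polynomial
  obtain ⟨c, hμ⟩ := Groth.Agent.H76.exists_minpoly_eq_X_pow_sub_C r hr (hK r hr) x hx a ha.symm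
  have hint : IsIntegral K x := Algebra.IsIntegral.isIntegral x
  set d := (minpoly K x).natDegree with hd
  have hdpos : 0 < d := minpoly.natDegree_pos hint
  have hirr : Irreducible (minpoly K x) := minpoly.irreducible hint
  have hxd : x ^ d = algebraMap K A c := by
    have := minpoly.aeval K x
    rw [hμ] at this
    simpa [sub_eq_zero] using this
  have hc : c ≠ 0 := by
    rintro rfl
    rw [map_zero] at hxd
    exact hx (pow_eq_zero_iff hdpos.ne' |>.1 hxd)
  -- reduced norm facts
  obtain ⟨n1, hn1, hnorm, hscal⟩ := Groth.Agent.H76.exists_of_isRedNorm N hN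
  have e1 : n1 = n := by
    have : n1 ^ 2 = n ^ 2 := by rw [← hn1, hA]
    exact Nat.pow_left_injective (by norm_num) this
  subst e1
  -- norm computation
  have hnormd : (N x ^ n1) ^ d = c ^ (n1 ^ 2) := by
    rw [← hnorm, ← map_pow, hxd, Algebra.norm_algebraMap, hA]
  -- p does not divide d
  have hpd : ¬ p ∣ d := by
    rintro ⟨d', hd'⟩
    have h1 : c ^ ((n' * p ^ m) ^ 2) = b ^ (p ^ m * (n' * p ^ m) * (p * d')) := by
      rw [← hn, ← hd', ← hnormd, hNb, ← pow_mul, ← pow_mul, mul_assoc]
    obtain ⟨γ, hγ⟩ := Groth.Agent.H76.exists_pow_char_eq p n' m d' hn' c b hc h1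
    apply Groth.Agent.H76.not_irreducible_X_pow_sub_C_pow (K := K) p d' γ
    rw [← hγ, ← hd', ← hμ]
    exact hirr
  -- primitive root
  have hdK : (d : K) ≠ 0 := by
    rw [Ne, CharP.cast_eq_zero_iff K p d]
    exact hpd
  obtain ⟨ζ, hζ⟩ := Groth.Agent.H76.exists_isPrimitiveRoot_of_splits d hdK (hK d hdpos)
  -- two embeddings of AdjoinRoot (minpoly K x)
  have : Fact (Irreducible (minpoly K x)) := ⟨hirr⟩
  have hy1 : Polynomial.aeval x (minpoly K x) = 0 := minpoly.aeval K x
  have hy2 : Polynomial.aeval (algebraMap K A ζ * x) (minpoly K x) = 0 := by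
    rw [hμ]
    simp only [map_sub, map_pow, Polynomial.aeval_X, Polynomial.aeval_C]
    rw [(Algebra.commute_algebraMap_left ζ x).mul_pow, ← map_pow, hζ.pow_eq_one, map_one, one_mul, hxd,
      sub_self]
  obtain ⟨y, hy⟩ := Groth.Agent.H1.skolem_noether
    (Groth.Agent.H76.adjoinRootLiftNC (minpoly K x) x hy1)
    (Groth.Agent.H76.adjoinRootLiftNC (minpoly K x) (algebraMap K A ζ * x) hy2)
  have hconj := hy (AdjoinRoot.root _)
  rw [Groth.Agent.H76.adjoinRootLiftNC_root, Groth.Agent.H76.adjoinRootLiftNC_root] at hconj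
  have hNconj := congrArg N hconj
  rw [map_mul, map_mul, map_mul, hscal] at hNconj
  have hNy : N (y : A) * N ((y⁻¹ : Aˣ) : A) = 1 := by
    rw [← map_mul, ← Units.val_mul, mul_inv_cancel, Units.val_one, map_one]
  have hNx0 : N x ≠ 0 := by
    rw [hNb]; exact pow_ne_zero _ hb
  have hζn : ζ ^ n1 = 1 := by
    have h2 : N x = (ζ ^ n1) * N x := by
      calc N x = N (y : A) * (ζ ^ n1 * N x) * N ((y⁻¹ : Aˣ) : A) := hNconj
        _ = (N (y : A) * N ((y⁻¹ : Aˣ) : A)) * (ζ ^ n1 * N x) := by ring
        _ = ζ ^ n1 * N x := by rw [hNy, one_mul]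
    have h3 : (ζ ^ n1 - 1) * N x = 0 := by rw [sub_mul, one_mul, ← h2, sub_self]
    rcases mul_eq_zero.1 h3 with h4 | h4
    · exact sub_eq_zero.1 h4
    · exact absurd h4 hNx0
  have hdn : d ∣ n1 := hζ.dvd_of_pow_eq_one n1 hζn
  have hdn' : d ∣ n' := by
    rw [hn] at hdn
    have hcop : Nat.Coprime d (p ^ m) := by
      apply Nat.Coprime.pow_right
      exact ((Nat.Prime.coprime_iff_not_dvd hp).2 hpd).symm
    exact hcop.dvd_of_dvd_mul_right hdn
  obtain ⟨e, he⟩ := hdn'
  refine ⟨c ^ e, ?_⟩
  rw [he, pow_mul, hxd, map_pow]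

end Groth.Agent.S15185
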