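import Groth.Statements.S15224
import Mathlib

set_option autoImplicit false
open Finset
open W4c2rk2extmaps

namespace Groth.Agent.S15224

/-- In a commutative ℚ-algebra R let y be an element and put c_k = y^k / k! for every k. Then for k ≥ 2,
Σ_{i=1}^{k-1} (-1)^(i-1) c_i c_(k-i) + (-1)^(k-1) c_k = c_k. (The published statement concerns the
Chern classes of a specific vector bundle on a Jacobian, which are of the form c_k = (4θ)^k / k!;
the printed argument establishes the identity for every sequence of this form in a commutative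
ℚ-algebra, which is the form stated here.) -/
theorem result (R : Type*) [CommRing R] [Algebra ℚ R] (y : R)
    (c : ℕ → R) (hc : ∀ k : ℕ, c k = ((Nat.factorial k : ℚ)⁻¹) • y ^ k)
    (k : ℕ) (hk : 2 ≤ k) :
    (∑ i ∈ Finset.Ico 1 k, (-1 : R) ^ (i - 1) * c i * c (k - i)) + (-1 : R) ^ (k - 1) * c k = c k := by
  -- the rational identity
  have key : (∑ i ∈ Finset.Ico 1 k, (-1 : ℚ) ^ (i - 1) * (k.choose i : ℚ)) + (-1 : ℚ) ^ (k - 1) = 1 := by
    have h0 : (∑ i ∈ Finset.range (k + 1), ((-1 : ℤ) ^ i * (k.choose i : ℤ))) = 0 := by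
      rw [Int.alternating_sum_range_choose]; simp; omega
    have h1 : (∑ i ∈ Finset.range (k + 1), ((-1 : ℚ) ^ i * (k.choose i : ℚ))) = 0 := by
      have := congrArg (Int.cast : ℤ → ℚ) h0
      push_cast at this
      exact this
    rw [Finset.sum_range_succ, Finset.range_eq_Ico, Finset.sum_eq_sum_Ico_succ_bot (by omega)] at h1
    simp only [pow_zero, Nat.choose_zero_right, Nat.cast_one, mul_one, Nat.choose_self, zero_add] at h1
    have h2 : ∑ i ∈ Finset.Ico 1 k, (-1 : ℚ) ^ (i - 1) * (k.choose i : ℚ)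
        = - ∑ i ∈ Finset.Ico 1 k, (-1 : ℚ) ^ i * (k.choose i : ℚ) := by
      rw [← Finset.sum_neg_distrib]
      apply Finset.sum_congr rfl
      intro i hi
      rw [Finset.mem_Ico] at hi
      obtain ⟨j, rfl⟩ : ∃ j, i = j + 1 := ⟨i - 1, by omega⟩
      simp [pow_succ]
    obtain ⟨j, rfl⟩ : ∃ j, k = j + 1 := ⟨k - 1, by omega⟩
    rw [h2]
    simp only [Nat.add_sub_cancel]
    rw [pow_succ] at h1
    linarith
  have hterm : ∀ i ∈ Finset.Ico 1 k, (-1 : R) ^ (i - 1) * c i * c (k - i)
      = algebraMap ℚ R (((-1 : ℚ) ^ (i - 1) * (k.choose i : ℚ)) * (Nat.factorial k : ℚ)⁻¹) * y ^ k := by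
    intro i hi
    rw [Finset.mem_Ico] at hi
    have hik : i ≤ k := by omega
    rw [hc i, hc (k - i)]
    have hch : ((k.choose i : ℚ)) * (Nat.factorial k : ℚ)⁻¹
        = (Nat.factorial i : ℚ)⁻¹ * (Nat.factorial (k - i) : ℚ)⁻¹ := by
      rw [Nat.cast_choose ℚ hik]
      have h1 : (Nat.factorial k : ℚ) ≠ 0 := by positivity
      have h2 : (Nat.factorial i : ℚ) ≠ 0 := by positivity
      have h3 : (Nat.factorial (k - i) : ℚ) ≠ 0 := by positivity
      field_simp
    rw [mul_assoc ((-1 : ℚ) ^ (i - 1)), hch, Algebra.smul_def, Algebra.smul_def]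
    have hy : y ^ k = y ^ i * y ^ (k - i) := by rw [← pow_add, Nat.add_sub_cancel' hik]
    rw [hy]
    simp only [map_mul, map_pow, map_neg, map_one]
    ring
  rw [Finset.sum_congr rfl hterm, ← Finset.sum_mul, hc k, Algebra.smul_def, ← map_sum]
  have hlast : (-1 : R) ^ (k - 1) = algebraMap ℚ R ((-1 : ℚ) ^ (k - 1)) := by
    simp
  rw [hlast, ← mul_assoc, ← map_mul, ← add_mul, ← map_add, ← Finset.sum_mul, ← add_mul, key, one_mul]

end Groth.Agent.S15224
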