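import Groth.Statements.S15231
import Groth.Agent.H28.LTensorFinLen

set_option autoImplicit false
universe u
open CategoryTheory CategoryTheory.Limits
attribute [local instance] HasDerivedCategory.standard
open DRing

namespace Groth.Agent.S15231

/-- Let R be a Noetherian local commutative ring with residue field κ, let P be any object of D(R) and
a, b integers. Suppose that H^i(P ⊗^L_R κ) = 0 for every i outside [a, b] (over the field κ this
says exactly that P ⊗^L_R κ has tor amplitude in [a, b] as an object of D(κ)). Then for every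
R-module N of finite length, H^i(P ⊗^L_R N) = 0 for every i outside [a, b]. The derived base change
to κ and the derived tensor products with R-modules are the total left derived functors on D(R),
assumed to exist for every R-module (as they do). -/
theorem result (R : Type u) [CommRing R] [IsNoetherianRing R]
    [IsLocalRing R] [DRing.HasLBaseChange (IsLocalRing.residue R)] [∀ M : ModuleCat.{u} R, DRing.HasLTensor R M]
    (P : Dual.D R) (a b : ℤ)
    (h : ∀ i : ℤ, (i < a ∨ b < i) →
      Subsingleton (Dual.HD (IsLocalRing.ResidueField R) ((DRing.LBaseChange (IsLocalRing.residue R)).obj P) i))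
    (N : Type u) [AddCommGroup N] [Module R N] (hN : IsFiniteLength R N) (i : ℤ) (hi : i < a ∨ b < i) :
    Subsingleton (Dual.HD R ((DRing.LTensor R (ModuleCat.of R N)).obj P) i) := by
  obtain ⟨K', ⟨e₀⟩⟩ : ∃ K' : CochainComplex (ModuleCat.{u} R) ℤ,
      Nonempty (DerivedCategory.Q.obj K' ≅ P) := ⟨_, ⟨DerivedCategory.Q.objObjPreimageIso P⟩⟩
  obtain ⟨F, q, hF, hFfl, hq, -⟩ := Groth.Agent.H35.KF.exists_isKFlat_resolution R K'
  have : IsIso (DerivedCategory.Q.map q) :=
    (DerivedCategory.isIso_Q_map_iff_quasiIso (φ := q)).2 hq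
  let e : DerivedCategory.Q.obj F ≅ P := asIso (DerivedCategory.Q.map q) ≪≫ e₀
  rw [Groth.Agent.H35.LT.subsingleton_HD_LTensor_iff (ModuleCat.of R N) F hF P e i]
  refine Groth.Agent.H28.LTensorFinLen.tensExactAt_of_isFiniteLength F hFfl i ?_ N hN
  rw [← Groth.Agent.H35.KF.tensExactAt_iff_of_iso F
    (Groth.Agent.H35.LT.BAQuotientIso (IsLocalRing.maximalIdeal R)) i]
  have h1 := (Groth.Agent.H35.LT.exactAt_map_extendScalars_iff
    (Ideal.Quotient.mk (IsLocalRing.maximalIdeal R)) F i).1
  apply h1
  rw [HomologicalComplex.exactAt_iff_isZero_homology]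
  have h2 := h i hi
  have h3 : IsZero ((DerivedCategory.homologyFunctor
      (ModuleCat.{u} (IsLocalRing.ResidueField R)) i).obj
        ((DRing.LBaseChange (IsLocalRing.residue R)).obj P)) :=
    ModuleCat.isZero_of_subsingleton _
  exact IsZero.of_iso h3 ((Groth.Agent.H28.PCohLocal.homologyLBaseChangeIso
    (IsLocalRing.residue R) F hF i).symm ≪≫
    (DerivedCategory.homologyFunctor _ i).mapIso
      ((DRing.LBaseChange (IsLocalRing.residue R)).mapIso e))

end Groth.Agent.S15231
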