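import Groth.Statements.S15233
import Mathlib

set_option autoImplicit false
universe u
open CategoryTheory CategoryTheory.Limits Opposite
open CohSite

namespace Groth.Agent.S15233

/-- Let C be a small category with a Grothendieck topology J, and let B be a class of objects forming a
prebasis: for every object V and every covering sieve S of V, the arrows of S whose domain lies in B
generate a covering sieve of V. If F is a presheaf of abelian groups on C such that F(U) = 0 for
every object U in B, then the sheafification of F is zero. -/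
theorem result {C : Type u} [SmallCategory C] (J : GrothendieckTopology C)
    (B : ObjectProperty C)
    (hB : ∀ (V : C) (S : Sieve V), S ∈ J V →
      Sieve.generate (fun (U : C) => {g : U ⟶ V | S.arrows g ∧ B U}) ∈ J V)
    (F : Cᵒᵖ ⥤ AddCommGrpCat.{u}) (hF : ∀ U : C, B U → IsZero (F.obj (op U))) :
    IsZero ((presheafToSheaf J AddCommGrpCat.{u}).obj F) := by
  classical
  -- every morphism from F to a sheaf vanishes
  have key : ∀ (G : Sheaf J AddCommGrpCat.{u}) (φ ψ : F ⟶ G.obj), φ = ψ := by
    intro G φ ψ
    have hG : Presieve.IsSheaf J (G.obj ⋙ forget AddCommGrpCat.{u}) :=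
      (isSheaf_iff_isSheaf_of_type J _).mp
        ((Presheaf.isSheaf_iff_isSheaf_forget J G.obj (forget AddCommGrpCat.{u})).mp G.property)
    ext V s
    induction V using Opposite.rec with | _ V => ?_
    have hcov := hB V ⊤ (J.top_mem V)
    have hsep := (hG _ hcov).isSeparatedFor
    refine hsep.ext (t₁ := (φ.app (op V)) s) (t₂ := (ψ.app (op V)) s) ?_
    intro W h hh
    obtain ⟨U, e, g, ⟨-, hBU⟩, rfl⟩ := hh
    have hsub : Subsingleton (F.obj (op U)) := AddCommGrpCat.subsingleton_of_isZero (hF U hBU)
    have h0 : (F.map g.op) s = 0 := Subsingleton.elim _ _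
    have hφ : (G.obj.map (e ≫ g).op) ((φ.app (op V)) s) = (φ.app (op W)) ((F.map (e ≫ g).op) s) := by
      have := φ.naturality (e ≫ g).op
      exact (congrArg (fun m => m s) this).symm
    have hψ : (G.obj.map (e ≫ g).op) ((ψ.app (op V)) s) = (ψ.app (op W)) ((F.map (e ≫ g).op) s) := by
      have := ψ.naturality (e ≫ g).op
      exact (congrArg (fun m => m s) this).symm
    have hF0 : (F.map (e ≫ g).op) s = 0 := by
      rw [op_comp, F.map_comp]
      show (F.map e.op) ((F.map g.op) s) = 0
      rw [h0, map_zero]
    show (G.obj.map (e ≫ g).op) ((φ.app (op V)) s) = (G.obj.map (e ≫ g).op) ((ψ.app (op V)) s)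
    rw [hφ, hψ, hF0, map_zero, map_zero]
  rw [IsZero.iff_id_eq_zero]
  apply ((sheafificationAdjunction J AddCommGrpCat.{u}).homEquiv F _).injective
  exact key _ _ _

end Groth.Agent.S15233
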