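import Groth.Statements.S15237
import Mathlib
import Groth.Agent.H76.Uncountable

set_option autoImplicit false
open CategoryTheory AlgebraicGeometry
universe u
open Variety

namespace Groth.Agent.S15237

/-- Let k be an uncountable field and X an irreducible k-scheme of finite type. Then the closed points
of X are not covered by countably many closed subsets of X different from X: for every sequence Z₀,
Z₁, … of closed subsets of X with Zₙ ≠ X for all n there is a closed point of X lying in no Zₙ. (The
published statement is for an irreducible quasi-projective variety and says that the variety is not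
a countable union of closed subsets different from it, a variety being read through its closed
points; with the generic point of the scheme that assertion would be immediate, so this row asks for
a closed point, and it assumes only finite type over k.) -/
theorem result (k : Type u) [Field k] [Uncountable k]
    (X : Scheme.{u}) (sX : X ⟶ Spec (CommRingCat.of k)) [IrreducibleSpace X]
    [LocallyOfFiniteType sX] [QuasiCompact sX]
    (Z : ℕ → TopologicalSpace.Closeds X) (hZ : ∀ n, (Z n : Set X) ≠ Set.univ) :
    ∃ x : X, IsClosed ({x} : Set X) ∧ ∀ n, x ∉ Z n := by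
  classical
  have : JacobsonSpace X := LocallyOfFiniteType.jacobsonSpace sX
  have hη : IsGenericPoint (genericPoint X) (⊤ : Set X) := genericPoint_spec X
  obtain ⟨_, ⟨U, hU, rfl⟩, hηU, -⟩ := X.isBasis_affineOpens.exists_subset_of_mem_open
    (Set.mem_univ (genericPoint X)) isOpen_univ
  -- algebra structure on Γ(X, U)
  let ψ : k →+* Γ(X, U) :=
    (sX.appLE ⊤ U le_top).hom.comp (Scheme.ΓSpecIso (CommRingCat.of k)).inv.hom
  have hψ : ψ.FiniteType := by
    have h1 : (sX.appLE ⊤ U le_top).hom.FiniteType :=
      HasRingHomProperty.appLE @LocallyOfFiniteType sX inferInstance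
        ⟨⊤, isAffineOpen_top _⟩ ⟨U, hU⟩ le_top
    have h2 : (Scheme.ΓSpecIso (CommRingCat.of k)).inv.hom.FiniteType := by
      apply RingHom.FiniteType.of_surjective
      exact (ConcreteCategory.bijective_of_isIso (Scheme.ΓSpecIso (CommRingCat.of k)).inv).2
    exact h1.comp h2
  letI : Algebra k Γ(X, U) := ψ.toAlgebra
  have : Algebra.FiniteType k Γ(X, U) := hψ
  obtain ⟨p₀, hp₀⟩ : ∃ p₀ : Spec Γ(X, U), hU.fromSpec p₀ = genericPoint X := by
    have : genericPoint X ∈ Set.range hU.fromSpec := by rw [hU.range_fromSpec]; exact hηU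
    exact this
  have hηZ : ∀ n, genericPoint X ∉ Z n := by
    intro n hn
    apply hZ n
    have h1 : closure {genericPoint X} ⊆ (Z n : Set X) :=
      (Z n).isClosed.closure_subset_iff.2 (Set.singleton_subset_iff.2 hn)
    rw [hη.def] at h1
    exact Set.eq_univ_of_univ_subset h1
  have hex : ∀ n, ∃ b : Γ(X, U), b ∉ (show PrimeSpectrum Γ(X, U) from p₀).asIdeal ∧
      ∀ q : PrimeSpectrum Γ(X, U), hU.fromSpec q ∈ Z n → b ∈ q.asIdeal := by
    intro n
    let C : Set (PrimeSpectrum Γ(X, U)) := hU.fromSpec ⁻¹' (Z n : Set X)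
    have hC : IsClosed C := (Z n).isClosed.preimage hU.fromSpec.continuous
    have hp₀C : (show PrimeSpectrum Γ(X, U) from p₀) ∉ C := by
      change hU.fromSpec p₀ ∉ (Z n : Set X)
      rw [hp₀]; exact hηZ n
    have h1 : (show PrimeSpectrum Γ(X, U) from p₀) ∉
        PrimeSpectrum.zeroLocus (PrimeSpectrum.vanishingIdeal C : Set Γ(X, U)) := by
      rw [PrimeSpectrum.zeroLocus_vanishingIdeal_eq_closure, hC.closure_eq]; exact hp₀C
    rw [PrimeSpectrum.mem_zeroLocus, Set.not_subset] at h1
    obtain ⟨b, hb, hbp⟩ := h1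
    exact ⟨b, hbp, fun q hq => (PrimeSpectrum.mem_vanishingIdeal _ _).1 hb q hq⟩
  choose b hb₁ hb₂ using hex
  have hprime : (show PrimeSpectrum Γ(X, U) from p₀).asIdeal.IsPrime :=
    (show PrimeSpectrum Γ(X, U) from p₀).isPrime
  obtain ⟨m, hm, hmb⟩ := Groth.Agent.H76.exists_maximal_notMem_of_uncountable k
    (Γ(X, U) ⧸ (show PrimeSpectrum Γ(X, U) from p₀).asIdeal)
    (fun n => Ideal.Quotient.mk _ (b n))
    (fun n h => hb₁ n (Ideal.Quotient.eq_zero_iff_mem.1 h))
  have hm' : (m.comap (Ideal.Quotient.mk (show PrimeSpectrum Γ(X, U) from p₀).asIdeal)).IsMaximal :=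
    Ideal.comap_isMaximal_of_surjective _ Ideal.Quotient.mk_surjective
  let xB : PrimeSpectrum Γ(X, U) := ⟨_, hm'.isPrime⟩
  refine ⟨hU.fromSpec xB, ?_, fun n hn => hmb n (hb₂ n xB hn)⟩
  have h1 : xB ∈ closedPoints (PrimeSpectrum Γ(X, U)) :=
    (mem_closedPoints_iff).2 ((PrimeSpectrum.isClosed_singleton_iff_isMaximal xB).2 hm')
  have h2 := hU.fromSpec.isOpenEmbedding.preimage_closedPoints
  have h3 : xB ∈ hU.fromSpec ⁻¹' closedPoints X := by rw [h2]; exact h1
  exact (mem_closedPoints_iff).1 h3

end Groth.Agent.S15237
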