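import Groth.Statements.S15259
import Mathlib
import Groth.Agent.H76.EssFT

set_option autoImplicit false
universe u
open CategoryTheory CategoryTheory.Limits AlgebraicGeometry TopologicalSpace
open W4c2seshadripos

namespace Groth.Agent.S15259

/-- Call f : X → Y locally essentially of finite type when Y has a cover by affine opens U = Spec A such
that each f⁻¹(U) has a cover by affine opens Spec B with A → B essentially of finite type (a
localization of a finite-type A-algebra; Mathlib's RingHom.EssFiniteType), and essentially of finite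
type when moreover f is quasi-compact. Then f is essentially of finite type exactly when every
affine open U = Spec A of Y has f⁻¹(U) covered by finitely many affine opens V = Spec B of X with A
→ B essentially of finite type. -/
theorem result {X Y : Scheme.{u}} (f : X ⟶ Y) :
    ((∃ S : Set Y.affineOpens, (⋃ U ∈ S, ((U : Y.Opens) : Set ↥Y)) = Set.univ ∧
      ∀ U ∈ S, ∃ T : Set X.affineOpens, (⋃ V ∈ T, ((V : X.Opens) : Set ↥X)) = ((f ⁻¹ᵁ (U : Y.Opens)) : Set ↥X) ∧
        ∀ V ∈ T, ∃ e : (V : X.Opens) ≤ f ⁻¹ᵁ (U : Y.Opens), (f.appLE (U : Y.Opens) (V : X.Opens) e).hom.EssFiniteType) ∧ QuasiCompact f) ↔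
    ∀ U : Y.affineOpens, ∃ T : Set X.affineOpens, T.Finite ∧ (⋃ V ∈ T, ((V : X.Opens) : Set ↥X)) = ((f ⁻¹ᵁ (U : Y.Opens)) : Set ↥X) ∧
        ∀ V ∈ T, ∃ e : (V : X.Opens) ≤ f ⁻¹ᵁ (U : Y.Opens), (f.appLE (U : Y.Opens) (V : X.Opens) e).hom.EssFiniteType := by
  classical
  constructor
  · rintro ⟨⟨S, hS, hS'⟩, hqc⟩ U
    -- pointwise property over U
    have hloc : Groth.Agent.H76.LocEssAt f (U : Y.Opens) := by
      intro x hx
      have : f x ∈ (⋃ U ∈ S, ((U : Y.Opens) : Set ↥Y)) := by rw [hS]; trivial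
      simp only [Set.mem_iUnion, exists_prop, SetLike.mem_coe] at this
      obtain ⟨U', hU', hxU'⟩ := this
      have h' : Groth.Agent.H76.LocEssAt f (U' : Y.Opens) :=
        (Groth.Agent.H76.locEssAt_iff_exists_cover f _).mpr (hS' U' hU')
      exact Groth.Agent.H76.locEssAt_transfer f U.2 U'.2 h' x hx hxU'
    have hcpt : IsCompact ((f ⁻¹ᵁ (U : Y.Opens)) : Set ↥X) :=
      quasiCompact_iff_forall_isAffineOpen.mp hqc U U.2
    let ι := {V : X.affineOpens // ∃ e : (V : X.Opens) ≤ f ⁻¹ᵁ (U : Y.Opens),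
      (f.appLE (U : Y.Opens) (V : X.Opens) e).hom.EssFiniteType}
    obtain ⟨t, ht⟩ := hcpt.elim_finite_subcover (fun i : ι => ((i.1 : X.Opens) : Set ↥X))
      (fun i => (i.1 : X.Opens).isOpen) (by
        intro x hx
        obtain ⟨V, hxV, e, he⟩ := hloc x hx
        exact Set.mem_iUnion.mpr ⟨⟨V, e, he⟩, hxV⟩)
    refine ⟨Subtype.val '' (t : Set ι), (t.finite_toSet).image _, ?_, ?_⟩
    · apply Set.Subset.antisymm
      · intro x hx
        simp only [Set.mem_iUnion, exists_prop, SetLike.mem_coe, Set.mem_image] at hx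
        obtain ⟨V, ⟨i, -, rfl⟩, hxV⟩ := hx
        obtain ⟨e, -⟩ := i.2
        exact e hxV
      · intro x hx
        have := ht hx
        simp only [Set.mem_iUnion, exists_prop, SetLike.mem_coe] at this
        obtain ⟨i, hi, hxi⟩ := this
        simp only [Set.mem_iUnion, exists_prop, SetLike.mem_coe, Set.mem_image]
        exact ⟨i.1, ⟨i, hi, rfl⟩, hxi⟩
    · rintro V ⟨i, -, rfl⟩
      exact i.2
  · intro h
    refine ⟨⟨Set.univ, ?_, fun U _ => ?_⟩, ?_⟩
    · ext y
      simp only [Set.mem_iUnion, exists_prop, SetLike.mem_coe, Set.mem_univ, true_and, iff_true]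
      obtain ⟨W, hW, hyW, -⟩ := exists_isAffineOpen_mem_and_subset (X := Y) (x := y) (U := ⊤) trivial
      exact ⟨⟨W, hW⟩, hyW⟩
    · obtain ⟨T, -, hT, hT'⟩ := h U
      exact ⟨T, hT, hT'⟩
    · rw [quasiCompact_iff_forall_isAffineOpen]
      intro U hU
      obtain ⟨T, hfin, hT, -⟩ := h ⟨U, hU⟩
      have : ((f ⁻¹ᵁ U) : Set ↥X) = ⋃ V ∈ T, ((V : X.Opens) : Set ↥X) := hT.symm
      rw [this]
      exact hfin.isCompact_biUnion (fun V _ => V.2.isCompact)

end Groth.Agent.S15259
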