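import Groth.Statements.S15285
import Mathlib

set_option autoImplicit false
universe v v' u u'
open PicCat

namespace Groth.Agent.S15285

open CategoryTheory MonoidalCategory in
/-- Let C and D be Picard categories (monoidal groupoids in which tensoring on either side with any
object is an equivalence of categories) and F : C ⥤ D a lax monoidal functor. If F induces a
bijection on isomorphism classes of objects (it is essentially surjective, and F X ≅ F Y only when X
≅ Y) and a bijection on endomorphisms of the unit object, then F is an equivalence of categories. -/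
theorem result
    {C : Type u} [Category.{v} C] [MonoidalCategory C] [IsGroupoid C]
    {D : Type u'} [Category.{v'} D] [MonoidalCategory D] [IsGroupoid D]
    (hC : ∀ X : C, (tensorLeft X).IsEquivalence ∧ (tensorRight X).IsEquivalence)
    (hD : ∀ X : D, (tensorLeft X).IsEquivalence ∧ (tensorRight X).IsEquivalence)
    (F : C ⥤ D) [F.LaxMonoidal] [F.EssSurj]
    (h0 : ∀ X Y : C, Nonempty (F.obj X ≅ F.obj Y) → Nonempty (X ≅ Y))
    (h1 : Function.Bijective (fun φ : 𝟙_ C ⟶ 𝟙_ C => F.map φ)) :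
    F.IsEquivalence := by
  classical
  have isoC : ∀ {X Y : C} (f : X ⟶ Y), IsIso f := fun f => IsGroupoid.all_isIso f
  have isoD : ∀ {X Y : D} (f : X ⟶ Y), IsIso f := fun f => IsGroupoid.all_isIso f
  -- conjugation by isomorphisms is bijective
  have conj_bij : ∀ {E : Type u'} [Category.{v'} E] {A B A' B' : E} (a : A' ⟶ A) (b : B ⟶ B')
      [IsIso a] [IsIso b], Function.Bijective (fun ψ : A ⟶ B => a ≫ ψ ≫ b) := by
    intro E _ A B A' B' a b _ _
    refine ⟨fun ψ ψ' h => ?_, fun χ => ⟨inv a ≫ χ ≫ inv b, by simp⟩⟩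
    have h' : a ≫ ψ ≫ b = a ≫ ψ' ≫ b := h
    rwa [cancel_epi, cancel_mono] at h'
  have conj_bijC : ∀ {A B A' B' : C} (a : A' ⟶ A) (b : B ⟶ B')
      [IsIso a] [IsIso b], Function.Bijective (fun ψ : A ⟶ B => a ≫ ψ ≫ b) := by
    intro A B A' B' a b _ _
    refine ⟨fun ψ ψ' h => ?_, fun χ => ⟨inv a ≫ χ ≫ inv b, by simp⟩⟩
    have h' : a ≫ ψ ≫ b = a ≫ ψ' ≫ b := h
    rwa [cancel_epi, cancel_mono] at h'
  -- F is bijective on endomorphisms of every object
  have hend : ∀ X : C, Function.Bijective (fun α : X ⟶ X => F.map α) := by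
    intro X
    -- Φ : End(𝟙) → End(X)
    have hTC : (tensorRight X).IsEquivalence := (hC X).2
    have hTD : (tensorRight (F.obj X)).IsEquivalence := (hD (F.obj X)).2
    have hΦ : Function.Bijective (fun φ : 𝟙_ C ⟶ 𝟙_ C => (λ_ X).inv ≫ (φ ▷ X) ≫ (λ_ X).hom) := by
      have h1 : Function.Bijective (fun φ : 𝟙_ C ⟶ 𝟙_ C => φ ▷ X) :=
        ⟨(tensorRight X).map_injective, (tensorRight X).map_surjective⟩
      exact (conj_bijC (λ_ X).inv (λ_ X).hom).comp h1
    -- the composite F ∘ Φ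
    have hμ : IsIso (Functor.LaxMonoidal.μ F (𝟙_ C) X) := isoD _
    have hcomp : Function.Bijective
        (fun φ : 𝟙_ C ⟶ 𝟙_ C => F.map ((λ_ X).inv ≫ (φ ▷ X) ≫ (λ_ X).hom)) := by
      have h2 : Function.Bijective (fun ψ : F.obj (𝟙_ C) ⟶ F.obj (𝟙_ C) =>
          ψ ▷ F.obj X) :=
        ⟨(tensorRight (F.obj X)).map_injective, (tensorRight (F.obj X)).map_surjective⟩
      have h3 := conj_bij (F.map (λ_ X).inv ≫ inv (Functor.LaxMonoidal.μ F (𝟙_ C) X))
        (Functor.LaxMonoidal.μ F (𝟙_ C) X ≫ F.map (λ_ X).hom)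
      have h4 := (h3.comp h2).comp h1
      convert h4 using 1
      funext φ
      simp only [Function.comp, F.map_comp, Category.assoc]
      congr 1
      rw [Functor.LaxMonoidal.μ_natural_left_assoc, IsIso.inv_hom_id_assoc]
    -- conclude
    have : (fun α : X ⟶ X => F.map α) ∘ (fun φ : 𝟙_ C ⟶ 𝟙_ C => (λ_ X).inv ≫ (φ ▷ X) ≫ (λ_ X).hom)
        = (fun φ : 𝟙_ C ⟶ 𝟙_ C => F.map ((λ_ X).inv ≫ (φ ▷ X) ≫ (λ_ X).hom)) := rfl
    exact (Function.Bijective.of_comp_iff _ hΦ).mp (this ▸ hcomp)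
  have hfaithful : F.Faithful := by
    refine ⟨fun {X Y} f g hfg => ?_⟩
    have : IsIso g := isoC g
    have h1 : F.map (f ≫ inv g) = F.map (𝟙 X) := by
      rw [F.map_comp, hfg, ← F.map_comp, IsIso.hom_inv_id]
    have h2 := (hend X).1 h1
    have : f = (f ≫ inv g) ≫ g := by simp
    rw [this, h2, Category.id_comp]
  have hfull : F.Full := by
    refine ⟨fun {X Y} ψ => ?_⟩
    have : IsIso ψ := isoD ψ
    obtain ⟨θ⟩ := h0 X Y ⟨asIso ψ⟩
    obtain ⟨α, hα⟩ := (hend X).2 (ψ ≫ F.map θ.inv)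
    refine ⟨α ≫ θ.hom, ?_⟩
    have hα' : F.map α = ψ ≫ F.map θ.inv := hα
    rw [F.map_comp, hα', Category.assoc, ← F.map_comp, Iso.inv_hom_id, F.map_id, Category.comp_id]
  exact { faithful := hfaithful, full := hfull, essSurj := inferInstance }

end Groth.Agent.S15285
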