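import Groth.Statements.S15286
import Mathlib
import Groth.Agent.H89.PicTorsor

set_option autoImplicit false
universe v v' u u'
open PicCat

namespace Groth.Agent.S15286

open CategoryTheory MonoidalCategory in
/-- Let C be a Picard category, D a commutative (braided) Picard category, F, G : C ⥤ D lax monoidal
functors and θ₀ : F ⟶ G a monoidal natural transformation. Identify an endomorphism φ of the unit of
D with the automorphism λ⁻¹ ≫ (φ ▷ Z) ≫ λ of any object Z. Then the monoidal natural transformations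
F ⟶ G form a torsor under the monoid homomorphisms χ from the monoid of isomorphism classes of C to
End(𝟙_D): every monoidal θ : F ⟶ G is X ↦ θ₀_X ≫ (action of χ[X] on G X) for a unique such χ, and
for every χ this formula defines a monoidal natural transformation. (The published statement allows
D non-commutative; for a non-braided monoidal groupoid the classes so obtained are crossed rather
than plain homomorphisms, so D is taken braided here.) -/
theorem result
    {C : Type u} [Category.{v} C] [MonoidalCategory C] [IsGroupoid C]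
    {D : Type u'} [Category.{v'} D] [MonoidalCategory D] [BraidedCategory D] [IsGroupoid D]
    (hC : ∀ X : C, (tensorLeft X).IsEquivalence ∧ (tensorRight X).IsEquivalence)
    (hD : ∀ X : D, (tensorLeft X).IsEquivalence ∧ (tensorRight X).IsEquivalence)
    (F G : C ⥤ D) [F.LaxMonoidal] [G.LaxMonoidal] (θ₀ : F ⟶ G) [NatTrans.IsMonoidal θ₀] :
    (∀ θ : F ⟶ G, NatTrans.IsMonoidal θ →
      ∃! χ : Skeleton C →* End (𝟙_ D), ∀ X : C,
        θ.app X = θ₀.app X ≫ (λ_ (G.obj X)).inv ≫
          ((χ (toSkeleton X) : 𝟙_ D ⟶ 𝟙_ D) ▷ G.obj X) ≫ (λ_ (G.obj X)).hom) ∧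
    (∀ χ : Skeleton C →* End (𝟙_ D), ∃ θ : F ⟶ G, NatTrans.IsMonoidal θ ∧ ∀ X : C,
        θ.app X = θ₀.app X ≫ (λ_ (G.obj X)).inv ≫
          ((χ (toSkeleton X) : 𝟙_ D ⟶ 𝟙_ D) ▷ G.obj X) ≫ (λ_ (G.obj X)).hom) := by
  refine ⟨fun θ hθ => ?_, fun χ => ?_⟩
  · have := hθ
    refine ⟨Groth.Agent.H89.PicTorsor.chiHom hD F G θ₀ θ,
      fun X => Groth.Agent.H89.PicTorsor.chiHom_spec hD F G θ₀ θ X, fun χ' hχ' => ?_⟩
    apply MonoidHom.ext
    intro s
    obtain ⟨X, rfl⟩ : ∃ X : C, toSkeleton X = s := Quotient.exists_rep s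
    have h1 := hχ' X
    have h2 := Groth.Agent.H89.PicTorsor.chiHom_spec hD F G θ₀ θ X
    rw [h1] at h2
    have h3 := (cancel_epi (θ₀.app X)).1 h2
    exact Groth.Agent.H89.PicTorsor.act_injective (G.obj X) (hD _).2 h3
  · exact ⟨Groth.Agent.H89.PicTorsor.twist F G θ₀ χ,
      Groth.Agent.H89.PicTorsor.twist_isMonoidal F G θ₀ χ, fun X => rfl⟩

end Groth.Agent.S15286
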