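import Groth.Statements.S1529
import Mathlib

set_option autoImplicit false
universe u
open CategoryTheory CategoryTheory.Limits AlgebraicGeometry
open Variety

namespace Groth.Agent.S1529

/-- A scheme of finite type over a field whose underlying topological space has Krull dimension at most
zero is affine, and its structure morphism is finite. -/
theorem result (k : Type u) [Field k] (X : Scheme.{u}) [X.Over (Spec (CommRingCat.of k))]
    [LocallyOfFiniteType (X ↘ (Spec (CommRingCat.of k)))] [QuasiCompact (X ↘ (Spec (CommRingCat.of k)))]
    (hdim : topologicalKrullDim X ≤ 0) :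
    IsAffine X ∧ IsFinite (X ↘ (Spec (CommRingCat.of k))) := by
  let f := X ↘ (Spec (CommRingCat.of k))
  have hN : IsLocallyNoetherian X := LocallyOfFiniteType.isLocallyNoetherian f
  have hA : IsLocallyArtinian X := IsLocallyArtinian.of_topologicalKrullDim_le_zero hdim
  have hC : CompactSpace X := QuasiCompact.compactSpace_of_compactSpace f
  have hAS : IsArtinianScheme X := { }
  have hfin : Finite X := inferInstance
  have hdisc : DiscreteTopology X := inferInstance
  have haff : IsAffine X := inferInstance
  refine ⟨haff, ?_⟩
  rw [HasAffineProperty.iff_of_isAffine (P := @IsFinite)]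
  refine ⟨haff, ?_⟩
  have hft : RingHom.FiniteType f.appTop.hom :=
    (HasRingHomProperty.iff_of_isAffine (P := @LocallyOfFiniteType)).mp inferInstance
  have hart : IsArtinianRing Γ(X, ⊤) := inferInstance
  -- transport along `Γ(Spec k, ⊤) ≅ k`
  let e := (Scheme.ΓSpecIso (CommRingCat.of k)).commRingCatIsoToRingEquiv
  have hJ : IsJacobsonRing Γ(Spec (CommRingCat.of k), ⊤) :=
    (isJacobsonRing_iso e).mpr (inferInstanceAs (IsJacobsonRing k))
  rw [RingHom.Finite]
  letI := f.appTop.hom.toAlgebra
  have : Algebra.FiniteType Γ(Spec (CommRingCat.of k), ⊤) Γ(X, ⊤) := hft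
  exact Module.finite_of_isArtinianRing _ _

end Groth.Agent.S1529
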