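import Groth.Statements.S15295
import Mathlib
import Groth.Agent.H74.ExtPowBC
import Groth.Agent.H76.DeRham

set_option autoImplicit false
universe u
open DeRham

namespace Groth.Agent.S15295

open exteriorPower TensorProduct in
/-- The de Rham complex commutes with base change. Let R → A and R → S be ring maps and B = S ⊗_R A (an
R-algebra over A and S with the pushout property), and let ψ be the induced map of de Rham complexes
from the p-forms of A over R to the p-forms of B over S (additive maps sending b₀ db₁ ∧ … ∧ db_p to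
g(b₀) d(g b₁) ∧ … ∧ d(g b_p), g : A → B the structure map). Then in each degree p the S-linear
extension S ⊗_R ⋀^p Ω_{A/R} → ⋀^p Ω_{B/S}, s ⊗ x ↦ s · ψ_p(x), is bijective. (This row states the
degreewise bijectivity, with the base change written S ⊗_R − rather than − ⊗_R S; the compatibility
of ψ with the differentials, which makes this an isomorphism of complexes, holds for any square of
ring maps.) -/
theorem result (R S A B : Type u) [CommRing R] [CommRing S] [CommRing A] [CommRing B]
    [Algebra R S] [Algebra R A] [Algebra R B] [Algebra A B] [Algebra S B]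
    [IsScalarTower R A B] [IsScalarTower R S B] [Algebra.IsPushout R S A B]
    (ψ : ∀ p : ℕ, ↥(⋀[A]^p (Ω[A⁄R])) →+ ↥(⋀[B]^p (Ω[B⁄S])))
    (hψ : DeRham.IsCxMap (KaehlerDifferential.D R A) (KaehlerDifferential.D S B) (algebraMap A B) ψ)
    (p : ℕ) (Φ : S ⊗[R] ↥(⋀[A]^p (Ω[A⁄R])) →+ ↥(⋀[B]^p (Ω[B⁄S])))
    (hΦ : ∀ (s : S) (x : ↥(⋀[A]^p (Ω[A⁄R]))), Φ (s ⊗ₜ[R] x) = s • ψ p x) :
    Function.Bijective Φ := by
  classical
  -- the three bijections
  let N := ↥(⋀[A]^p (Ω[A⁄R]))
  let e1 : S ⊗[R] N ≃ₗ[S] B ⊗[A] N := (Algebra.IsPushout.cancelBaseChange R S A B N).symm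
  let e2 : B ⊗[A] N →ₗ[B] ↥(⋀[B]^p (B ⊗[A] Ω[A⁄R])) :=
    Groth.Agent.H74.ExtPowBC.powBC A B (Ω[A⁄R]) p
  let te := KaehlerDifferential.tensorKaehlerEquiv R S A B
  let e3 : ↥(⋀[B]^p (B ⊗[A] Ω[A⁄R])) →ₗ[B] ↥(⋀[B]^p (Ω[B⁄S])) :=
    exteriorPower.map p te.toLinearMap
  have he3 : Function.Bijective e3 := by
    have h1 : exteriorPower.map p te.symm.toLinearMap ∘ₗ e3 = LinearMap.id := by
      rw [← exteriorPower.map_comp]
      have : te.symm.toLinearMap ∘ₗ te.toLinearMap = LinearMap.id := by
        ext x; simp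
      rw [this, exteriorPower.map_id]
    have h2 : e3 ∘ₗ exteriorPower.map p te.symm.toLinearMap = LinearMap.id := by
      rw [← exteriorPower.map_comp]
      have : te.toLinearMap ∘ₗ te.symm.toLinearMap = LinearMap.id := by
        ext x; simp
      rw [this, exteriorPower.map_id]
    refine ⟨fun x y h => ?_, fun y => ⟨exteriorPower.map p te.symm.toLinearMap y, ?_⟩⟩
    · have := congrArg (exteriorPower.map p te.symm.toLinearMap) h
      rwa [← LinearMap.comp_apply, ← LinearMap.comp_apply, h1] at this
    · rw [← LinearMap.comp_apply, h2, LinearMap.id_apply]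
  have he2 : Function.Bijective e2 := Groth.Agent.H74.ExtPowBC.powBC_bijective A B (Ω[A⁄R]) p
  -- Φ agrees with the composite
  have key : ∀ z, Φ z = e3 (e2 (e1 z)) := by
    intro z
    induction z using TensorProduct.induction_on with
    | zero => simp
    | add x y hx hy => simp only [map_add, hx, hy]
    | tmul s x =>
      rw [hΦ]
      have he1 : e1 (s ⊗ₜ[R] x) = algebraMap S B s ⊗ₜ[A] x :=
        Algebra.IsPushout.cancelBaseChange_symm_tmul R S A B N s x
      rw [he1]
      refine Groth.Agent.H76.deRham_gen_induction R A p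
        (fun x => s • ψ p x = e3 (e2 (algebraMap S B s ⊗ₜ[A] x))) ?_ ?_ ?_ x
      · simp
      · intro x y hx hy
        simp only [map_add, TensorProduct.tmul_add, smul_add, hx, hy]
      · intro b₀ b
        rw [hψ p b₀ b]
        simp only [DeRham.gen, e2, e3]
        rw [Groth.Agent.H74.ExtPowBC.powBC_tmul, map_smul, map_smul,
          Groth.Agent.H74.ExtPowBC.powBCAux_ιMulti, ← algebraMap_smul B b₀, map_smul,
          exteriorPower.map_apply_ιMulti, algebraMap_smul B s]
        congr 3
        funext i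
        simp only [Function.comp_apply, LinearEquiv.coe_coe, te]
        rw [KaehlerDifferential.tensorKaehlerEquiv_tmul_D, one_smul]
  have hfun : (Φ : _ → _) = e3 ∘ e2 ∘ e1 := funext key
  rw [hfun]
  exact he3.comp (he2.comp e1.bijective)

end Groth.Agent.S15295
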