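import Groth.Statements.S15296
import Mathlib
import Groth.Agent.H74.DeRhamQuot

set_option autoImplicit false
universe u
open DeRham

namespace Groth.Agent.S15296

open exteriorPower in
/-- Let R → A be a ring map, π a surjective A-linear map from the Kähler differentials of A over R onto
an A-module Ω', δ = π ∘ d the induced derivation A → Ω', and d_A a de Rham differential of the
Kähler differentials. Suppose the kernel of π is generated over A by elements ω with π(ω) = 0 whose
differential d_A(ω) is killed by the second exterior power of π. Then the exterior powers of Ω' over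
A carry a de Rham differential for δ: a family of R-linear maps d from p-forms to (p+1)-forms with
d(f₀ δf₁ ∧ … ∧ δf_p) = δf₀ ∧ δf₁ ∧ … ∧ δf_p and d ∘ d = 0; moreover d is compatible with d_A through
the exterior powers of π. -/
theorem result (R A Ω' : Type u) [CommRing R] [CommRing A] [Algebra R A]
    [AddCommGroup Ω'] [Module A Ω'] [Module R Ω'] [IsScalarTower R A Ω']
    (π : Ω[A⁄R] →ₗ[A] Ω') (hπ : Function.Surjective π)
    (dA : ∀ p : ℕ, ↥(⋀[A]^p (Ω[A⁄R])) →ₗ[R] ↥(⋀[A]^(p + 1) (Ω[A⁄R])))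
    (hdA : DeRham.IsDiff (KaehlerDifferential.D R A) dA)
    (hker : LinearMap.ker π ≤ Submodule.span A {ω : Ω[A⁄R] | π ω = 0 ∧
      exteriorPower.map 2 π (dA 1 ((exteriorPower.oneEquiv A (Ω[A⁄R])).symm ω)) = 0}) :
    ∃ d : ∀ p : ℕ, ↥(⋀[A]^p Ω') →ₗ[R] ↥(⋀[A]^(p + 1) Ω'),
      DeRham.IsDiff (π.compDer (KaehlerDifferential.D R A)) d ∧
        ∀ (p : ℕ) (x : ↥(⋀[A]^p (Ω[A⁄R]))),
          d p (exteriorPower.map p π x) = exteriorPower.map (p + 1) π (dA p x) := by
  classical
  -- the quotient maps and the maps to descend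
  let q : ∀ p : ℕ, ↥(⋀[A]^p (Ω[A⁄R])) →ₗ[R] ↥(⋀[A]^p Ω') :=
    fun p => (exteriorPower.map p π).restrictScalars R
  have hq : ∀ p, Function.Surjective (q p) := fun p => exteriorPower.map_surjective hπ
  let f : ∀ p : ℕ, ↥(⋀[A]^p (Ω[A⁄R])) →ₗ[R] ↥(⋀[A]^(p + 1) Ω') :=
    fun p => q (p + 1) ∘ₗ dA p
  have hqf : ∀ p, LinearMap.ker (q p) ≤ LinearMap.ker (f p) := by
    intro p z hz
    rw [LinearMap.mem_ker] at hz ⊢
    exact Groth.Agent.H74.DeRhamQuot.ker_stable π hπ dA hdA hker p z hz
  let d : ∀ p : ℕ, ↥(⋀[A]^p Ω') →ₗ[R] ↥(⋀[A]^(p + 1) Ω') := fun p =>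
    (LinearMap.ker (q p)).liftQ (f p) (hqf p) ∘ₗ
      ((q p).quotKerEquivOfSurjective (hq p)).symm.toLinearMap
  have hd : ∀ (p : ℕ) (x : ↥(⋀[A]^p (Ω[A⁄R]))),
      d p (exteriorPower.map p π x) = exteriorPower.map (p + 1) π (dA p x) := by
    intro p x
    have h1 : ((q p).quotKerEquivOfSurjective (hq p)).symm (exteriorPower.map p π x) =
        Submodule.Quotient.mk x := by
      rw [LinearEquiv.symm_apply_eq]
      rfl
    change (LinearMap.ker (q p)).liftQ (f p) (hqf p)
      (((q p).quotKerEquivOfSurjective (hq p)).symm (exteriorPower.map p π x)) = _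
    rw [h1, Submodule.liftQ_apply]
    rfl
  refine ⟨d, ⟨?_, ?_⟩, hd⟩
  · intro p b₀ b
    have h1 : DeRham.gen (π.compDer (KaehlerDifferential.D R A)) p b₀ b =
        exteriorPower.map p π (DeRham.gen (KaehlerDifferential.D R A) p b₀ b) := by
      simp only [DeRham.gen, map_smul, exteriorPower.map_apply_ιMulti]
      rfl
    rw [h1, hd, hdA.1 p b₀ b, exteriorPower.map_apply_ιMulti]
    congr 1
    funext i
    refine Fin.cases ?_ (fun j => ?_) i <;> simp
  · intro p
    apply LinearMap.ext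
    intro y
    obtain ⟨x, rfl⟩ := hq p y
    change d (p + 1) (d p (exteriorPower.map p π x)) = 0
    rw [hd, hd]
    have := LinearMap.congr_fun (hdA.2 p) x
    rw [LinearMap.comp_apply] at this
    rw [this]
    simp

end Groth.Agent.S15296
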