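import Groth.Statements.S15297
import Mathlib
import Groth.Agent.H76.DeRham

set_option autoImplicit false
universe u
open DeRham

namespace Groth.Agent.S15297

open exteriorPower in
/-- Let R → A be a ring map and d a de Rham differential of the Kähler differentials of A over R. Then
each d from p-forms to (p+1)-forms, an R-linear map between A-modules, is a differential operator of
order at most 1 relative to R → A: every commutator of d with multiplication by an element of A is
A-linear. -/
theorem result (R A : Type u) [CommRing R] [CommRing A] [Algebra R A]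
    (d : ∀ p : ℕ, ↥(⋀[A]^p (Ω[A⁄R])) →ₗ[R] ↥(⋀[A]^(p + 1) (Ω[A⁄R])))
    (hd : DeRham.IsDiff (KaehlerDifferential.D R A) d) (p : ℕ) :
    Diff16.IsDiffOpLE R A ↥(⋀[A]^p (Ω[A⁄R])) ↥(⋀[A]^(p + 1) (Ω[A⁄R])) 1 (d p) := by
  intro a
  -- value of the commutator on generators
  have hcomm : ∀ (b₀ : A) (b : Fin p → A),
      Diff16.commutator R A ↥(⋀[A]^p (Ω[A⁄R])) ↥(⋀[A]^(p + 1) (Ω[A⁄R])) (d p) a
        (DeRham.gen (KaehlerDifferential.D R A) p b₀ b)
      = b₀ • exteriorPower.ιMulti A (p + 1)
          (Fin.cons (KaehlerDifferential.D R A a) (fun i => KaehlerDifferential.D R A (b i))) := by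
    intro b₀ b
    have h1 : a • DeRham.gen (KaehlerDifferential.D R A) p b₀ b
        = DeRham.gen (KaehlerDifferential.D R A) p (a * b₀) b := by
      unfold DeRham.gen; rw [mul_smul]
    simp only [Diff16.commutator, LinearMap.sub_apply, LinearMap.comp_apply,
      LinearMap.restrictScalars_apply, LinearMap.lsmul_apply]
    rw [h1, hd.1 p (a * b₀) b, hd.1 p b₀ b, Derivation.leibniz]
    have := (exteriorPower.ιMulti A (p + 1) (M := Ω[A⁄R])).toMultilinearMap.cons_add
      (fun i => KaehlerDifferential.D R A (b i)) (a • KaehlerDifferential.D R A b₀)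
      (b₀ • KaehlerDifferential.D R A a)
    simp only [AlternatingMap.coe_multilinearMap] at this
    rw [this]
    have h2 := (exteriorPower.ιMulti A (p + 1) (M := Ω[A⁄R])).toMultilinearMap.cons_smul
      (fun i => KaehlerDifferential.D R A (b i)) a (KaehlerDifferential.D R A b₀)
    have h3 := (exteriorPower.ιMulti A (p + 1) (M := Ω[A⁄R])).toMultilinearMap.cons_smul
      (fun i => KaehlerDifferential.D R A (b i)) b₀ (KaehlerDifferential.D R A a)
    simp only [AlternatingMap.coe_multilinearMap] at h2 h3
    rw [h2, h3]
    abel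
  intro c m
  induction m using Groth.Agent.H76.deRham_gen_induction R A p with
  | zero => simp
  | add x y hx hy => rw [smul_add, map_add, map_add, hx, hy, smul_add]
  | gen b₀ b =>
    have h1 : c • DeRham.gen (KaehlerDifferential.D R A) p b₀ b
        = DeRham.gen (KaehlerDifferential.D R A) p (c * b₀) b := by
      unfold DeRham.gen; rw [mul_smul]
    rw [h1, hcomm, hcomm, mul_smul]

end Groth.Agent.S15297
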