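import Groth.Statements.S15319
import Mathlib
import Groth.Agent.H76.NodeAlg

set_option autoImplicit false
universe u
open ArLef ArLef.NodeAlg

namespace Groth.Agent.S15319

/-- Let B be a discrete valuation ring with uniformizer π, N = B[[t, e]]/(te - π) the complete local
ring of a semi-stable arithmetic surface over B at a singular point of the closed fibre, and σ a
ring automorphism of N sending π to π + γ π^j with γ a unit of B and j ≥ 1 (σ lies over an
automorphism τ of B with v(τ(π) - π) = j). Then the fixed-point ideal of σ is not contained in (π^j)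
= (t^j e^j): the two branches through the point cannot both occur with multiplicity j in the
divisorial part of the fixed locus. (The published setting has B complete with algebraically closed
residue field.) -/
theorem result (B : Type u) [CommRing B] [IsDomain B] [IsDiscreteValuationRing B] (π : B) (hπ : Irreducible π)
    (j : ℕ) (hj : 1 ≤ j) (γ : B) (hγ : IsUnit γ)
    (σ : ArLef.NodeAlg B π ≃+* ArLef.NodeAlg B π)
    (hσ : σ (algebraMap B (ArLef.NodeAlg B π) π) = algebraMap B (ArLef.NodeAlg B π) (π + γ * π ^ j)) :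
    ¬ ArLef.fixIdeal σ ≤ Ideal.span ({algebraMap B (ArLef.NodeAlg B π) (π ^ j)} : Set (ArLef.NodeAlg B π)) := by
  classical
  intro hle
  set N := ArLef.NodeAlg B π with hN
  set ϖ : N := algebraMap B N π with hϖ
  have hte : ArLef.NodeAlg.t π * ArLef.NodeAlg.e π = ϖ := Groth.Agent.H76.nodeAlg_t_mul_e B π
  have hpow : algebraMap B N (π ^ j) = ϖ ^ j := by rw [map_pow]
  -- σ t - t and σ e - e are multiples of ϖ ^ j
  have h1 : σ (ArLef.NodeAlg.t π) - ArLef.NodeAlg.t π ∈
      Ideal.span ({algebraMap B N (π ^ j)} : Set N) :=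
    hle (Ideal.subset_span ⟨ArLef.NodeAlg.t π, rfl⟩)
  have h2 : σ (ArLef.NodeAlg.e π) - ArLef.NodeAlg.e π ∈
      Ideal.span ({algebraMap B N (π ^ j)} : Set N) :=
    hle (Ideal.subset_span ⟨ArLef.NodeAlg.e π, rfl⟩)
  obtain ⟨a, ha⟩ := Ideal.mem_span_singleton'.mp h1
  obtain ⟨b, hb⟩ := Ideal.mem_span_singleton'.mp h2
  rw [hpow] at ha hb
  have hσt : σ (ArLef.NodeAlg.t π) = ArLef.NodeAlg.t π + a * ϖ ^ j := by rw [ha]; ring
  have hσe : σ (ArLef.NodeAlg.e π) = ArLef.NodeAlg.e π + b * ϖ ^ j := by rw [hb]; ring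
  have hσϖ : σ ϖ = ϖ + algebraMap B N γ * ϖ ^ j := by
    rw [hϖ, hσ, map_add, map_mul, map_pow]
  have hprod : σ ϖ = σ (ArLef.NodeAlg.t π) * σ (ArLef.NodeAlg.e π) := by
    rw [← map_mul, hte]
  have hkey : algebraMap B N (π ^ j) *
      (a * ArLef.NodeAlg.e π + ArLef.NodeAlg.t π * b + a * b * ϖ ^ j - algebraMap B N γ) = 0 := by
    rw [hpow]
    have := hprod
    rw [hσϖ, hσt, hσe] at this
    have hte' : ArLef.NodeAlg.t π * ArLef.NodeAlg.e π = ϖ := hte
    linear_combination (-1 : N) * this - hte'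
  have hz := Groth.Agent.H76.nodeAlg_pi_pow_mul_eq_zero B π hπ j _ hkey
  -- apply the augmentation
  have haug := congrArg (Groth.Agent.H76.nodeAug B π) hz
  have hϖ0 : Groth.Agent.H76.nodeAug B π ϖ = 0 := by
    rw [hϖ, Groth.Agent.H76.nodeAug_algebraMap, Ideal.Quotient.eq_zero_iff_mem]
    exact Ideal.mem_span_singleton_self π
  have hj0 : (Groth.Agent.H76.nodeAug B π ϖ) ^ j = 0 := by
    rw [hϖ0]; exact zero_pow (by omega)
  simp only [map_sub, map_add, map_mul, map_pow, Groth.Agent.H76.nodeAug_t, Groth.Agent.H76.nodeAug_e,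
    hj0, mul_zero, zero_mul, add_zero, zero_sub, map_zero, neg_eq_zero] at haug
  rw [Groth.Agent.H76.nodeAug_algebraMap] at haug
  -- γ is a unit, so B/(π) would be trivial
  rw [Ideal.Quotient.eq_zero_iff_mem, Ideal.mem_span_singleton] at haug
  exact hπ.not_isUnit (isUnit_of_dvd_unit haug hγ)

end Groth.Agent.S15319
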