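import Groth.Statements.S15322
import Mathlib

set_option autoImplicit false
universe u
open CategoryTheory AlgebraicGeometry
open ArLef

namespace Groth.Agent.S15322

/-- Let f : D → C be a morphism, τ an automorphism of C and σ an automorphism of D with σ f = f τ; call
σ a good lifting of τ when the fixed-point scheme of σ is the full preimage of that of τ, i.e. every
morphism z : Z → D with z f τ = z f has z σ = z. If f is etale, separated and surjective with D
connected and the fixed-point scheme of τ is non-empty (some point of C, with its residue field, is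
fixed by τ), then τ has at most one good lifting. (The published statement is for a finite etale
cover of smooth projective irreducible curves over a field and a non-trivial τ; the argument uses
only the hypotheses stated here.) -/
theorem result {C D : Scheme.{u}} (f : D ⟶ C) [Etale f] [IsSeparated f] [Surjective f]
    [ConnectedSpace D] (τ : C ≅ C) (σ σ' : D ≅ D)
    (hσ : σ.hom ≫ f = f ≫ τ.hom) (hσ' : σ'.hom ≫ f = f ≫ τ.hom)
    (good : ∀ (Z : Scheme.{u}) (z : Z ⟶ D), z ≫ f ≫ τ.hom = z ≫ f → z ≫ σ.hom = z)
    (good' : ∀ (Z : Scheme.{u}) (z : Z ⟶ D), z ≫ f ≫ τ.hom = z ≫ f → z ≫ σ'.hom = z)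
    (x : C) (hx : C.fromSpecResidueField x ≫ τ.hom = C.fromSpecResidueField x) :
    σ = σ' := by
  classical
  -- the pair (σ, σ') as a morphism to the fibre product
  let p : D ⟶ Limits.pullback f f := Limits.pullback.lift σ.hom σ'.hom (hσ.trans hσ'.symm)
  let Δ : D ⟶ Limits.pullback f f := Limits.pullback.diagonal f
  -- the equalizer E
  let e : Limits.pullback p Δ ⟶ D := Limits.pullback.fst p Δ
  have hopen : IsOpenImmersion e := inferInstance
  have hclosed : IsClosedImmersion e := inferInstance
  -- a point of D over x
  obtain ⟨y, rfl⟩ := ‹Surjective f›.surj x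
  let z : Spec (D.residueField y) ⟶ D := D.fromSpecResidueField y
  have hzf : z ≫ f = Spec.map (f.residueFieldMap y) ≫ C.fromSpecResidueField (f y) :=
    (Scheme.Hom.SpecMap_residueFieldMap_fromSpecResidueField f y).symm
  have hz : z ≫ f ≫ τ.hom = z ≫ f := by
    rw [← Category.assoc, hzf, Category.assoc, hx]
  have h1 : z ≫ σ.hom = z := good _ z hz
  have h2 : z ≫ σ'.hom = z := good' _ z hz
  -- z factors through E
  have hzp : z ≫ p = z ≫ Δ := by
    apply Limits.pullback.hom_ext
    · rw [Category.assoc, Category.assoc, Limits.pullback.lift_fst, Limits.pullback.diagonal_fst, h1,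
        Category.comp_id]
    · rw [Category.assoc, Category.assoc, Limits.pullback.lift_snd, Limits.pullback.diagonal_snd, h2,
        Category.comp_id]
  let w : Spec (D.residueField y) ⟶ Limits.pullback p Δ := Limits.pullback.lift z z hzp
  have hw : w ≫ e = z := Limits.pullback.lift_fst _ _ _
  have hne : (Set.range e).Nonempty := by
    have : Nonempty (Spec (D.residueField y)) := inferInstance
    obtain ⟨q⟩ := this
    exact ⟨e (w q), ⟨w q, rfl⟩⟩
  have hclopen : IsClopen (Set.range e) :=
    ⟨(Scheme.Hom.isClosedEmbedding e).isClosed_range, (Scheme.Hom.isOpenEmbedding e).isOpen_range⟩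
  have huniv : Set.range e = Set.univ := hclopen.eq_univ hne
  have hiso : IsIso e := by
    apply isIso_of_isOpenImmersion_of_opensRange_eq_top
    ext1
    simpa using huniv
  -- conclude
  have hcomm : e ≫ p = Limits.pullback.snd p Δ ≫ Δ := Limits.pullback.condition
  have e1 : e ≫ σ.hom = Limits.pullback.snd p Δ := by
    have := congrArg (· ≫ Limits.pullback.fst f f) hcomm
    simp only [Category.assoc] at this
    rw [Limits.pullback.lift_fst, Limits.pullback.diagonal_fst, Category.comp_id] at this
    exact this
  have e2 : e ≫ σ'.hom = Limits.pullback.snd p Δ := by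
    have := congrArg (· ≫ Limits.pullback.snd f f) hcomm
    simp only [Category.assoc] at this
    rw [Limits.pullback.lift_snd, Limits.pullback.diagonal_snd, Category.comp_id] at this
    exact this
  have : σ.hom = σ'.hom := by
    rw [← cancel_epi e, e1, e2]
  exact Iso.ext this

end Groth.Agent.S15322
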