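import Groth.Statements.S15326
import Mathlib

set_option autoImplicit false
universe u
open ArLef

namespace Groth.Agent.S15326

/-- Let A be a commutative ring, t an element generating a prime ideal (a local equation of an
irreducible component C of the closed fibre), v an element outside (t) with π = vt the uniformizer,
and σ a ring automorphism of A with σ(vt) = vt whose fixed-point ideal is contained in (t^i) for
some i ≥ 1 (C has multiplicity at least i in the fixed locus). Then σ(t) - t lies in t^(i+1) A_(t),
the localization at the prime (t): σ - 1 vanishes on (t)/(t^(i+1)) at the generic point of C. -/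
theorem result (A : Type u) [CommRing A] (t v : A)
    [ht : (Ideal.span ({t} : Set A)).IsPrime] (hv : v ∉ Ideal.span ({t} : Set A))
    (σ : A ≃+* A) (hσ : σ (v * t) = v * t) (i : ℕ) (hi : 1 ≤ i)
    (hI : ArLef.fixIdeal σ ≤ Ideal.span ({t ^ i} : Set A)) :
    algebraMap A (Localization.AtPrime (Ideal.span ({t} : Set A))) (σ t - t) ∈
      Ideal.span ({algebraMap A (Localization.AtPrime (Ideal.span ({t} : Set A))) (t ^ (i + 1))} :
        Set (Localization.AtPrime (Ideal.span ({t} : Set A)))) := by
  classical
  set L := Localization.AtPrime (Ideal.span ({t} : Set A)) with hL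
  -- elements of fixIdeal
  have hv' : σ v - v ∈ Ideal.span ({t ^ i} : Set A) :=
    hI (Ideal.subset_span ⟨v, rfl⟩)
  have ht' : σ t - t ∈ Ideal.span ({t ^ i} : Set A) :=
    hI (Ideal.subset_span ⟨t, rfl⟩)
  obtain ⟨a, ha⟩ := Ideal.mem_span_singleton'.mp hv'
  obtain ⟨b, hb⟩ := Ideal.mem_span_singleton'.mp ht'
  obtain ⟨j, rfl⟩ : ∃ j, i = j + 1 := ⟨i - 1, by omega⟩
  have hsv : σ v = v + a * t ^ (j + 1) := by rw [ha]; ring
  have hst : σ t = t + b * t ^ (j + 1) := by rw [hb]; ring
  have hmul : σ v * σ t = v * t := by rw [← map_mul, hσ]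
  -- key identity in A
  have key : v * (σ t - t) = - t ^ (j + 1 + 1) * (a + a * b * t ^ j) := by
    have h1 : (v + a * t ^ (j + 1)) * (t + b * t ^ (j + 1)) = v * t := by rw [← hsv, ← hst, hmul]
    have h2 : σ t - t = b * t ^ (j + 1) := by rw [hst]; ring
    rw [h2]
    linear_combination h1
  have hvunit : IsUnit (algebraMap A L v) := by
    apply IsLocalization.map_units L (⟨v, ?_⟩ : (Ideal.span ({t} : Set A)).primeCompl)
    exact hv
  obtain ⟨u, hu⟩ := hvunit
  rw [Ideal.mem_span_singleton']
  refine ⟨(↑u⁻¹ : L) * algebraMap A L (-(a + a * b * t ^ j)), ?_⟩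
  have key' := congrArg (algebraMap A L) key
  rw [map_mul, ← hu] at key'
  have : algebraMap A L (σ t - t) = (↑u⁻¹ : L) * ((u : L) * algebraMap A L (σ t - t)) := by
    rw [← mul_assoc, Units.inv_mul, one_mul]
  rw [this, key']
  simp only [map_mul, map_neg, map_pow, map_add]
  ring

end Groth.Agent.S15326
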