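import Groth.Statements.S1534
import Groth.Agent.H26.CurveH0

set_option autoImplicit false
universe u
open CategoryTheory CategoryTheory.Limits AlgebraicGeometry
open Curves

namespace Groth.Agent.S1534

/-- A proper scheme of dimension one over a field k whose global functions are k is connected, all of
its local rings are Cohen–Macaulay, and every irreducible component has dimension one. -/
theorem result (k : Type u) [Field k] (X : Scheme.{u}) [X.Over (Spec (CommRingCat.of k))]
    [IsProper (X ↘ (Spec (CommRingCat.of k)))] (hdim : topologicalKrullDim X = 1) (h0 : Module.finrank k (Coh.HH X (Coh.structureModule X) 0) = 1) :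
    ConnectedSpace X ∧ (∀ x : X, LocCoh.IsCohenMacaulayLocalRing (X.presheaf.stalk x)) ∧
      ∀ Z ∈ irreducibleComponents (X : Type u), topologicalKrullDim Z = 1 := by
  classical
  have hF := Groth.Agent.H26.CurveH0.eq_zero_or_isUnit_of_finrank k X h0
  have : IsLocallyNoetherian (Spec (CommRingCat.of k)) := inferInstance
  have : IsLocallyNoetherian X :=
    LocallyOfFiniteType.isLocallyNoetherian (X ↘ Spec (CommRingCat.of k))
  have : CompactSpace X :=
    QuasiCompact.compactSpace_of_compactSpace (X ↘ Spec (CommRingCat.of k))
  have : Nonempty X := by
    by_contra h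
    rw [not_nonempty_iff] at h
    have : IsEmpty (TopologicalSpace.IrreducibleCloseds X) :=
      ⟨fun Z => h.elim Z.2.nonempty.some⟩
    have : topologicalKrullDim X = ⊥ := Order.krullDim_eq_bot
    rw [hdim] at this
    exact absurd this (by decide)
  have hconn : ConnectedSpace X := Groth.Agent.H26.CurveH0.connectedSpace_of_field X hF
  refine ⟨hconn, ?_, ?_⟩
  · intro x
    exact Groth.Agent.H26.CurveH0.isCM_stalk X hdim.le hF x
  · intro Z hZ
    exact Groth.Agent.H26.CurveH0.dim_component X hdim Z hZ

end Groth.Agent.S1534
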