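import Groth.Statements.S15344
import Mathlib
import Groth.Agent.H76.ValLift

set_option autoImplicit false
universe u
open CategoryTheory CategoryTheory.Limits AlgebraicGeometry
open Mor

namespace Groth.Agent.S15344

/-- Let f : Y ⟶ X be a monomorphism of schemes, X quasi-separated. Then the projection Y ×_X X' ⟶ X'
reflects specializations (if the image of y₁ specializes to the image of y₀ then y₁ specializes to
y₀) after every base change X' ⟶ X if and only if, for every valuation ring A with fraction field K
and every commutative square Spec K ⟶ Y, Spec A ⟶ X over f such that, in addition, some morphism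
from the spectrum of the residue field of A to Y lies over Spec A ⟶ X, the square admits a lift Spec
A ⟶ Y. -/
theorem result {X Y : Scheme.{u}} [QuasiSeparatedSpace ↥X]
    (f : Y ⟶ X) [Mono f] :
    (∀ (X' : Scheme.{u}) (g : X' ⟶ X) (y₀ y₁ : ↥(pullback f g)),
        (pullback.snd f g).base y₁ ⤳ (pullback.snd f g).base y₀ → y₁ ⤳ y₀) ↔
      ∀ S : ValuativeCommSq f,
        (∃ l₀ : Spec (CommRingCat.of (IsLocalRing.ResidueField S.R)) ⟶ Y,
            l₀ ≫ f = Spec.map (CommRingCat.ofHom (IsLocalRing.residue S.R)) ≫ S.i₂) →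
          S.commSq.HasLift := by
  classical
  constructor
  · intro H S ⟨l₀, hl₀⟩
    let t₁ : Spec (.of S.K) ⟶ pullback f S.i₂ :=
      pullback.lift S.i₁ (Spec.map (CommRingCat.ofHom (algebraMap S.R S.K))) S.commSq.w
    let t₀ : Spec (.of (IsLocalRing.ResidueField S.R)) ⟶ pullback f S.i₂ :=
      pullback.lift l₀ (Spec.map (CommRingCat.ofHom (IsLocalRing.residue S.R))) hl₀
    let y₁ := t₁ (IsLocalRing.closedPoint S.K)
    let y₀ := t₀ (IsLocalRing.closedPoint (IsLocalRing.ResidueField S.R))
    have hs0 : pullback.snd f S.i₂ y₀ = IsLocalRing.closedPoint S.R := by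
      change (pullback.snd f S.i₂) (t₀ _) = _
      rw [← Scheme.Hom.comp_apply, pullback.lift_snd]
      exact IsLocalRing.comap_closedPoint (IsLocalRing.residue S.R)
    have hsp : y₁ ⤳ y₀ := H _ S.i₂ y₀ y₁ (by
      rw [hs0]; exact IsLocalRing.specializes_closedPoint _)
    let e := pullbackSymmetry f S.i₂
    have he1 : t₁ ≫ e.hom = pullback.lift (Spec.map (CommRingCat.ofHom (algebraMap S.R S.K)))
        S.i₁ S.commSq.w.symm := by
      apply pullback.hom_ext
      · rw [Category.assoc, pullbackSymmetry_hom_comp_fst, pullback.lift_snd, pullback.lift_fst]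
      · rw [Category.assoc, pullbackSymmetry_hom_comp_snd, pullback.lift_fst, pullback.lift_snd]
    obtain ⟨l, hl₁, hl₂⟩ := Groth.Agent.H76.hasLift_of_specializes f S.R S.K S.i₁ S.i₂ S.commSq.w
      (e.hom y₀) (by
        rw [← he1, Scheme.Hom.comp_apply]
        exact hsp.map e.hom.continuous) (by
        rw [← Scheme.Hom.comp_apply, pullbackSymmetry_hom_comp_fst]
        exact hs0)
    exact ⟨⟨⟨l, hl₁, hl₂⟩⟩⟩
  · intro H X' g y₀ y₁ hsp
    have hmono : Mono (pullback.snd f g) := inferInstance
    -- section over the residue field of the image of `y₀`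
    obtain ⟨σ₀, hσ₀⟩ : ∃ σ₀ : Spec (X'.residueField ((pullback.snd f g) y₀)) ⟶ pullback f g,
        σ₀ ≫ pullback.snd f g = X'.fromSpecResidueField ((pullback.snd f g) y₀) := by
      have hne : Nonempty ↥(pullback (pullback.snd f g)
          (X'.fromSpecResidueField ((pullback.snd f g) y₀))) := by
        obtain ⟨z, -, -⟩ := Scheme.Pullback.exists_preimage_pullback (f := pullback.snd f g)
          (g := X'.fromSpecResidueField ((pullback.snd f g) y₀)) y₀
          (IsLocalRing.closedPoint _) (by rw [Scheme.fromSpecResidueField_apply])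
        exact ⟨z⟩
      have hiso : IsIso (pullback.snd (pullback.snd f g)
          (X'.fromSpecResidueField ((pullback.snd f g) y₀))) :=
        Groth.Agent.H76.isIso_of_mono_to_spec_field
          (K := X'.residueField ((pullback.snd f g) y₀)) _
      exact ⟨inv (pullback.snd (pullback.snd f g)
          (X'.fromSpecResidueField ((pullback.snd f g) y₀))) ≫ pullback.fst _ _, by
        rw [Category.assoc, pullback.condition, IsIso.inv_hom_id_assoc]⟩
    let φ : X'.presheaf.stalk ((pullback.snd f g) y₀) ⟶ (pullback f g).residueField y₁ :=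
      X'.presheaf.stalkSpecializes hsp ≫ (pullback.snd f g).stalkMap y₁ ≫
        (pullback f g).residue y₁
    obtain ⟨A, hA, hA_local⟩ := IsLocalRing.exists_factor_valuationRing φ.hom
    let ψ : X'.presheaf.stalk ((pullback.snd f g) y₀) ⟶ .of A :=
      CommRingCat.ofHom (φ.hom.codRestrict _ hA)
    have w : (pullback f g).fromSpecResidueField y₁ ≫ pullback.snd f g =
        Spec.map (CommRingCat.ofHom (algebraMap A ((pullback f g).residueField y₁))) ≫
          Spec.map ψ ≫ X'.fromSpecStalk ((pullback.snd f g) y₀) := by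
      rw [Scheme.fromSpecResidueField, Category.assoc, ← Scheme.SpecMap_stalkMap_fromSpecStalk,
        ← Scheme.SpecMap_stalkSpecializes_fromSpecStalk hsp]
      simp_rw [← Spec.map_comp_assoc]
      rfl
    let S : ValuativeCommSq f :=
      { R := A
        K := (pullback f g).residueField y₁
        i₁ := (pullback f g).fromSpecResidueField y₁ ≫ pullback.fst f g
        i₂ := Spec.map ψ ≫ X'.fromSpecStalk ((pullback.snd f g) y₀) ≫ g
        commSq := ⟨by
          rw [Category.assoc, pullback.condition, reassoc_of% w]⟩ }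
    have : IsLocalHom ψ.hom := hA_local
    let ρ : X'.residueField ((pullback.snd f g) y₀) ⟶ CommRingCat.of (IsLocalRing.ResidueField A) :=
      CommRingCat.ofHom (IsLocalRing.ResidueField.map ψ.hom)
    have hρ : X'.residue ((pullback.snd f g) y₀) ≫ ρ =
        ψ ≫ CommRingCat.ofHom (IsLocalRing.residue A) := rfl
    have h2 : Spec.map ρ ≫ X'.fromSpecResidueField ((pullback.snd f g) y₀) =
        Spec.map (CommRingCat.ofHom (IsLocalRing.residue A)) ≫ Spec.map ψ ≫
          X'.fromSpecStalk ((pullback.snd f g) y₀) := by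
      change _ ≫ (Spec.map (X'.residue _) ≫ X'.fromSpecStalk _) = _
      rw [← Spec.map_comp_assoc, hρ, Spec.map_comp_assoc]
    have hl₀ : ∃ l₀ : Spec (CommRingCat.of (IsLocalRing.ResidueField S.R)) ⟶ Y,
        l₀ ≫ f = Spec.map (CommRingCat.ofHom (IsLocalRing.residue S.R)) ≫ S.i₂ := by
      refine ⟨Spec.map ρ ≫ σ₀ ≫ pullback.fst f g, ?_⟩
      change (Spec.map ρ ≫ σ₀ ≫ pullback.fst f g) ≫ f =
        Spec.map (CommRingCat.ofHom (IsLocalRing.residue A)) ≫ Spec.map ψ ≫
          X'.fromSpecStalk ((pullback.snd f g) y₀) ≫ g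
      rw [Category.assoc, Category.assoc, pullback.condition, reassoc_of% hσ₀, reassoc_of% h2]
    obtain ⟨l, hl₁, hl₂⟩ := (H S hl₀).exists_lift
    let l' : Spec (.of A) ⟶ pullback f g :=
      pullback.lift l (Spec.map ψ ≫ X'.fromSpecStalk ((pullback.snd f g) y₀)) (by
        rw [hl₂]; simp only [Category.assoc, S])
    have hl' : l' ≫ pullback.snd f g = Spec.map ψ ≫ X'.fromSpecStalk ((pullback.snd f g) y₀) :=
      pullback.lift_snd _ _ _
    have e0 : l' (IsLocalRing.closedPoint A) = y₀ := by
      apply (pullback.snd f g).injective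
      rw [← Scheme.Hom.comp_apply, hl', Scheme.Hom.comp_apply]
      have : Spec.map ψ (IsLocalRing.closedPoint A) = IsLocalRing.closedPoint _ :=
        IsLocalRing.comap_closedPoint (S := A) ψ.hom
      rw [this, Scheme.fromSpecStalk_closedPoint]
    have e1 : l' (Spec.map (CommRingCat.ofHom (algebraMap A ((pullback f g).residueField y₁)))
        (IsLocalRing.closedPoint ((pullback f g).residueField y₁))) = y₁ := by
      apply (pullback.snd f g).injective
      rw [← Scheme.Hom.comp_apply, ← Scheme.Hom.comp_apply, hl', ← w,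
        Scheme.Hom.comp_apply, Scheme.fromSpecResidueField_apply]
    have key := (IsLocalRing.specializes_closedPoint (R := A)
      (Spec.map (CommRingCat.ofHom (algebraMap A ((pullback f g).residueField y₁)))
        (IsLocalRing.closedPoint ((pullback f g).residueField y₁)))).map l'.continuous
    exact (specializes_of_eq e1.symm).trans (key.trans (specializes_of_eq e0))

end Groth.Agent.S15344
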