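import Groth.Statements.S15347
import Mathlib

set_option autoImplicit false
universe u
open CategoryTheory CategoryTheory.Limits AlgebraicGeometry
open Mor

namespace Groth.Agent.S15347

/-- Let f : Y ⟶ X be an immersion of schemes. Then: for every valuation ring A with fraction field K and
every commutative square Spec K ⟶ Y, Spec A ⟶ X over f such that some morphism from the spectrum of
the residue field of A to Y lies over Spec A ⟶ X, the square admits a lift; and for every integral
domain A and every morphism s : Spec A ⟶ X such that the points of a dense subset of Spec A lift to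
Y (the residue field of each such point maps to Y over s), there is a nonempty open subscheme U of
Spec A with a morphism U ⟶ Y over s. (The published statement is for a representable, locally
finitely presented morphism of algebraic stacks with locally Noetherian target and a quasi-compact
immersion, and also lists that f is a monomorphism; this row is the case of schemes, for any
immersion and any target.) -/
theorem result {X Y : Scheme.{u}} (f : Y ⟶ X) [IsImmersion f] :
    (∀ S : ValuativeCommSq f,
        (∃ l₀ : Spec (CommRingCat.of (IsLocalRing.ResidueField S.R)) ⟶ Y,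
            l₀ ≫ f = Spec.map (CommRingCat.ofHom (IsLocalRing.residue S.R)) ≫ S.i₂) →
          S.commSq.HasLift) ∧
      ∀ (A : Type u) [CommRing A] [IsDomain A] (s : Spec (CommRingCat.of A) ⟶ X) (D : Set ↥(Spec (CommRingCat.of A))),
        Dense D →
        (∀ p ∈ D, ∃ l : Spec ((Spec (CommRingCat.of A)).residueField p) ⟶ Y,
            l ≫ f = (Spec (CommRingCat.of A)).fromSpecResidueField p ≫ s) →
          ∃ U : (Spec (CommRingCat.of A)).Opens, (U : Set ↥(Spec (CommRingCat.of A))).Nonempty ∧
            ∃ l : (U : Scheme.{u}) ⟶ Y, l ≫ f = U.ι ≫ s := by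
  classical
  have hVf : Set.range f ⊆ (f.coborderRange : Set X) := subset_coborder
  refine ⟨?_, ?_⟩
  · intro S ⟨l₀, hl₀⟩
    -- i₂ factors through the open `coborderRange`
    have hcl : S.i₂ (IsLocalRing.closedPoint S.R) ∈ Set.range f := by
      have h1 := congrArg (fun g => g.base
        (IsLocalRing.closedPoint (IsLocalRing.ResidueField S.R))) hl₀
      simp only [Scheme.Hom.comp_base, TopCat.coe_comp, Function.comp_apply] at h1
      have h2 : (Spec.map (CommRingCat.ofHom (IsLocalRing.residue S.R)))
          (IsLocalRing.closedPoint (IsLocalRing.ResidueField S.R)) = IsLocalRing.closedPoint S.R := by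
        exact IsLocalRing.comap_closedPoint (IsLocalRing.residue S.R)
      refine ⟨l₀ (IsLocalRing.closedPoint (IsLocalRing.ResidueField S.R)), ?_⟩
      rw [← h2]
      exact h1
    have hrange : Set.range S.i₂ ⊆ Set.range f.coborderRange.ι := by
      rw [Scheme.Opens.range_ι]
      rintro _ ⟨x, rfl⟩
      have hx : x ⤳ IsLocalRing.closedPoint S.R := IsLocalRing.specializes_closedPoint x
      exact (hx.map S.i₂.continuous).mem_open f.coborderRange.2 (hVf hcl)
    let j₂ : Spec (.of S.R) ⟶ f.coborderRange := IsOpenImmersion.lift f.coborderRange.ι S.i₂ hrange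
    have hj₂ : j₂ ≫ f.coborderRange.ι = S.i₂ := IsOpenImmersion.lift_fac _ _ _
    have hex : ValuativeCriterion.Existence f.liftCoborder := by
      have : UniversallyClosed f.liftCoborder := inferInstance
      rw [UniversallyClosed.eq_valuativeCriterion] at this
      exact this.1
    have w : S.i₁ ≫ f.liftCoborder =
        Spec.map (CommRingCat.ofHom (algebraMap S.R S.K)) ≫ j₂ := by
      rw [← cancel_mono f.coborderRange.ι]
      simp only [Category.assoc, Scheme.Hom.liftCoborder_ι, hj₂]
      exact S.commSq.w
    obtain ⟨l, hl₁, hl₂⟩ := (hex { R := S.R, K := S.K, i₁ := S.i₁, i₂ := j₂, commSq := ⟨w⟩ }).exists_lift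
    dsimp only at hl₁ hl₂
    refine ⟨⟨⟨l, hl₁, ?_⟩⟩⟩
    calc l ≫ f = l ≫ f.liftCoborder ≫ f.coborderRange.ι := by rw [f.liftCoborder_ι]
      _ = S.i₂ := by rw [← Category.assoc, hl₂, hj₂]
  · intro A _ _ s D hD hlift
    -- every point of D maps into range f
    have hDf : ∀ p ∈ D, s p ∈ Set.range f := by
      intro p hp
      obtain ⟨l, hl⟩ := hlift p hp
      have h1 := congrArg (fun g => g.base
        (IsLocalRing.closedPoint ((Spec (CommRingCat.of A)).residueField p))) hl
      simp only [Scheme.Hom.comp_base, TopCat.coe_comp, Function.comp_apply] at h1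
      rw [Scheme.fromSpecResidueField_apply] at h1
      exact ⟨_, h1⟩
    have hall : ∀ x, s x ∈ closure (Set.range f) := by
      have hcl : IsClosed (s ⁻¹' closure (Set.range f)) := isClosed_closure.preimage s.continuous
      have : D ⊆ s ⁻¹' closure (Set.range f) := fun p hp => subset_closure (hDf p hp)
      have := hD.mono this
      rw [dense_iff_closure_eq, hcl.closure_eq] at this
      intro x
      have hx : x ∈ s ⁻¹' closure (Set.range f) := by rw [this]; trivial
      exact hx
    obtain ⟨p, hp⟩ := hD.nonempty
    let U₀ : (Spec (CommRingCat.of A)).Opens := s ⁻¹ᵁ f.coborderRange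
    have hU₀ : ∀ x ∈ U₀, s x ∈ Set.range f := by
      intro x hx
      have h1 : s x ∈ coborder (Set.range f) := hx
      have h2 := hall x
      by_contra h3
      exact h1 ⟨h2, h3⟩
    refine ⟨U₀, ⟨p, hVf (hDf p hp)⟩, ?_⟩
    let g : (U₀ : Scheme.{u}) ⟶ f.coborderRange := s ∣_ f.coborderRange
    have hg : g ≫ f.coborderRange.ι = U₀.ι ≫ s := morphismRestrict_ι _ _
    have hker : f.liftCoborder.ker ≤ g.ker := by
      have h1 : g.ker = (Scheme.IdealSheafData.vanishingIdeal ⊤).map g := by
        rw [Scheme.IdealSheafData.vanishingIdeal_top, Scheme.nilradical_eq_bot,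
          Scheme.IdealSheafData.map_bot]
      rw [h1, Scheme.IdealSheafData.map_vanishingIdeal,
        ← Scheme.IdealSheafData.le_support_iff_le_vanishingIdeal]
      rw [← SetLike.coe_subset_coe, Scheme.Hom.support_ker]
      simp only [TopologicalSpace.Closeds.coe_closure, TopologicalSpace.Closeds.coe_top,
        Set.image_univ]
      apply closure_mono
      rintro _ ⟨x, rfl⟩
      obtain ⟨y, hy⟩ := hU₀ x.1 x.2
      refine ⟨y, ?_⟩
      apply f.coborderRange.ι.injective
      rw [← Scheme.Hom.comp_apply, f.liftCoborder_ι, hy, ← Scheme.Hom.comp_apply, hg]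
      rfl
    refine ⟨IsClosedImmersion.lift f.liftCoborder g hker, ?_⟩
    calc IsClosedImmersion.lift f.liftCoborder g hker ≫ f
        = IsClosedImmersion.lift f.liftCoborder g hker ≫ f.liftCoborder ≫ f.coborderRange.ι := by
          rw [f.liftCoborder_ι]
      _ = U₀.ι ≫ s := by rw [← Category.assoc, IsClosedImmersion.lift_fac, hg]

end Groth.Agent.S15347
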