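import Groth.Statements.S15349
import Mathlib
import Groth.Agent.H76.MonoField

set_option autoImplicit false
universe u
open CategoryTheory CategoryTheory.Limits AlgebraicGeometry
open Mor

namespace Groth.Agent.S15349

/-- Let X be a locally Noetherian scheme and f : Y ⟶ X a monomorphism locally of finite presentation
such that, for every integral domain A and every morphism s : Spec A ⟶ X for which the points of a
dense subset of Spec A lift to Y (the residue field of each such point maps to Y over s), some
nonempty open subscheme of Spec A maps to Y over s. Then f is quasi-compact. (The published remark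
is for a representable morphism of algebraic stacks; this row is the case of schemes.) -/
theorem result {X Y : Scheme.{u}} [IsLocallyNoetherian X]
    (f : Y ⟶ X) [LocallyOfFinitePresentation f] [Mono f]
    (hc : ∀ (A : Type u) [CommRing A] [IsDomain A] (s : Spec (CommRingCat.of A) ⟶ X) (D : Set ↥(Spec (CommRingCat.of A))),
        Dense D →
        (∀ p ∈ D, ∃ l : Spec ((Spec (CommRingCat.of A)).residueField p) ⟶ Y,
            l ≫ f = (Spec (CommRingCat.of A)).fromSpecResidueField p ≫ s) →
          ∃ U : (Spec (CommRingCat.of A)).Opens, (U : Set ↥(Spec (CommRingCat.of A))).Nonempty ∧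
            ∃ l : (U : Scheme.{u}) ⟶ Y, l ≫ f = U.ι ≫ s) :
    QuasiCompact f := by
  classical
  rw [quasiCompact_iff_forall_isAffineOpen]
  intro V hV
  have hNoeth : IsNoetherianRing Γ(X, V) := IsLocallyNoetherian.component_noetherian ⟨V, hV⟩
  have hjrange : Set.range hV.fromSpec = V := hV.range_fromSpec
  have hfinj : Function.Injective f := f.injective
  have key : ∀ Z : TopologicalSpace.Closeds (Spec Γ(X, V)),
      IsCompact (f ⁻¹' (hV.fromSpec '' (Z : Set (Spec Γ(X, V))))) := by
    intro Z
    induction Z using WellFoundedLT.induction with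
    | ind Z ih =>
    by_cases hZe : (Z : Set (Spec Γ(X, V))) = ∅
    · simp [hZe]
    by_cases hirr : IsPreirreducible (Z : Set (Spec Γ(X, V)))
    · -- irreducible case
      let Zs : Set (PrimeSpectrum Γ(X, V)) := (Z : Set ↥(Spec Γ(X, V)))
      have hZirr : IsIrreducible Zs :=
        ⟨Set.nonempty_iff_ne_empty.2 hZe, hirr⟩
      set p : Ideal Γ(X, V) := PrimeSpectrum.vanishingIdeal Zs with hp
      have hpprime : p.IsPrime := PrimeSpectrum.isIrreducible_iff_vanishingIdeal_isPrime.1 hZirr
      have hZp : Zs = PrimeSpectrum.zeroLocus p := by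
        rw [hp, PrimeSpectrum.zeroLocus_vanishingIdeal_eq_closure]
        exact (IsClosed.closure_eq (show IsClosed Zs from Z.isClosed)).symm
      let q : Spec (CommRingCat.of (Γ(X, V) ⧸ p)) ⟶ Spec Γ(X, V) :=
        Spec.map (CommRingCat.ofHom (Ideal.Quotient.mk p))
      have hqrange : Set.range q = (Z : Set (Spec Γ(X, V))) := by
        change _ = Zs
        rw [hZp]
        have := range_comap_of_surjective _ (Ideal.Quotient.mk p)
          Ideal.Quotient.mk_surjective
        rw [Ideal.mk_ker] at this
        exact this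
      have hqemb : Topology.IsClosedEmbedding q :=
        PrimeSpectrum.isClosedEmbedding_comap_of_surjective _ _ Ideal.Quotient.mk_surjective
      let s : Spec (CommRingCat.of (Γ(X, V) ⧸ p)) ⟶ X := q ≫ hV.fromSpec
      let D : Set ↥(Spec (CommRingCat.of (Γ(X, V) ⧸ p))) := s ⁻¹' (Set.range f)
      have hlift : ∀ x ∈ D, ∃ l : Spec ((Spec (CommRingCat.of (Γ(X, V) ⧸ p))).residueField x) ⟶ Y,
          l ≫ f = (Spec (CommRingCat.of (Γ(X, V) ⧸ p))).fromSpecResidueField x ≫ s := by
        intro x hx
        obtain ⟨y, hy⟩ := hx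
        set t := (Spec (CommRingCat.of (Γ(X, V) ⧸ p))).fromSpecResidueField x ≫ s with ht
        have hne : Nonempty ↥(pullback f t) := by
          obtain ⟨z, -, -⟩ := Scheme.Pullback.exists_preimage_pullback (f := f) (g := t) y
            (IsLocalRing.closedPoint _) (by
              rw [ht, Scheme.Hom.comp_apply, Scheme.fromSpecResidueField_apply]; exact hy)
          exact ⟨z⟩
        have hiso : IsIso (pullback.snd f t) :=
          Groth.Agent.H76.isIso_of_mono_to_spec_field
            (K := (Spec (CommRingCat.of (Γ(X, V) ⧸ p))).residueField x) _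
        exact ⟨inv (pullback.snd f t) ≫ pullback.fst f t, by
          rw [Category.assoc, pullback.condition, IsIso.inv_hom_id_assoc]⟩
      have hsub : ∀ y, f y ∈ hV.fromSpec '' (Z : Set (Spec Γ(X, V))) →
          ∃ x, s x = f y := by
        rintro y ⟨z, hz, hzy⟩
        rw [← hqrange] at hz
        obtain ⟨x, rfl⟩ := hz
        exact ⟨x, hzy⟩
      by_cases hD : Dense D
      · obtain ⟨U, ⟨u₀, hu₀⟩, l, hl⟩ := hc (Γ(X, V) ⧸ p) s D hD hlift
        obtain ⟨W, hWo, hWU⟩ := hqemb.isInducing.isOpen_iff.1 U.2
        let Z' : TopologicalSpace.Closeds (Spec Γ(X, V)) :=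
          ⟨(Z : Set (Spec Γ(X, V))) \ W, Z.isClosed.sdiff hWo⟩
        have hZ'lt : Z' < Z := by
          refine lt_of_le_of_ne (fun z hz => hz.1) ?_
          intro h
          have h1 : q u₀ ∈ (Z : Set (Spec Γ(X, V))) := by rw [← hqrange]; exact ⟨u₀, rfl⟩
          have h2 : q u₀ ∈ W := by
            have : u₀ ∈ q ⁻¹' W := by rw [hWU]; exact hu₀
            exact this
          have h3 : q u₀ ∈ (Z' : Set (Spec Γ(X, V))) := by rw [h]; exact h1
          exact h3.2 h2
        have hUc : CompactSpace ↥(U.toScheme) := isCompact_iff_compactSpace.1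
          (TopologicalSpace.NoetherianSpace.isCompact (U : Set ↥(Spec (CommRingCat.of (Γ(X, V) ⧸ p)))))
        have heq : f ⁻¹' (hV.fromSpec '' (Z : Set (Spec Γ(X, V)))) =
            f ⁻¹' (hV.fromSpec '' (Z' : Set (Spec Γ(X, V)))) ∪ Set.range l := by
          ext y
          constructor
          · rintro ⟨z, hz, hzy⟩
            by_cases hzW : z ∈ W
            · right
              have hz' := hz
              rw [← hqrange] at hz'
              obtain ⟨x, rfl⟩ := hz'
              have hxU : x ∈ U := by
                have : x ∈ q ⁻¹' W := hzW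
                rw [hWU] at this
                exact this
              refine ⟨⟨x, hxU⟩, ?_⟩
              apply hfinj
              have h5 : (l ≫ f) ⟨x, hxU⟩ = (U.ι ≫ s) ⟨x, hxU⟩ := by rw [hl]
              rw [Scheme.Hom.comp_apply] at h5
              rw [h5, ← hzy]
              rfl
            · left
              exact ⟨z, ⟨hz, hzW⟩, hzy⟩
          · rintro (⟨z, hz, hzy⟩ | ⟨u, rfl⟩)
            · exact ⟨z, hz.1, hzy⟩
            · refine ⟨q u.1, by rw [← hqrange]; exact ⟨u.1, rfl⟩, ?_⟩
              have h5 : (l ≫ f) u = (U.ι ≫ s) u := by rw [hl]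
              rw [Scheme.Hom.comp_apply] at h5
              rw [h5]
              rfl
        rw [heq]
        exact (ih Z' hZ'lt).union (isCompact_range l.continuous)
      · -- D not dense
        let Z' : TopologicalSpace.Closeds (Spec Γ(X, V)) :=
          ⟨q '' closure D, hqemb.isClosedMap _ isClosed_closure⟩
        have hZ'le : (Z' : Set (Spec Γ(X, V))) ⊆ Z := by
          rintro _ ⟨x, -, rfl⟩
          rw [← hqrange]; exact ⟨x, rfl⟩
        have hZ'lt : Z' < Z := by
          refine lt_of_le_of_ne hZ'le ?_
          intro h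
          apply hD
          rw [dense_iff_closure_eq]
          ext x
          simp only [Set.mem_univ, iff_true]
          have h1 : q x ∈ (Z : Set (Spec Γ(X, V))) := by rw [← hqrange]; exact ⟨x, rfl⟩
          rw [← h] at h1
          obtain ⟨x', hx', hxx'⟩ := h1
          rwa [← hqemb.injective hxx']
        have heq : f ⁻¹' (hV.fromSpec '' (Z : Set (Spec Γ(X, V)))) =
            f ⁻¹' (hV.fromSpec '' (Z' : Set (Spec Γ(X, V)))) := by
          ext y
          constructor
          · intro hy
            obtain ⟨x, hx⟩ := hsub y hy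
            have hxD : x ∈ D := ⟨y, hx.symm⟩
            exact ⟨q x, ⟨x, subset_closure hxD, rfl⟩, hx⟩
          · rintro ⟨z, hz, hzy⟩
            exact ⟨z, hZ'le hz, hzy⟩
        rw [heq]
        exact ih Z' hZ'lt
    · -- reducible case
      simp only [isPreirreducible_iff_isClosed_union_isClosed, not_forall, not_or] at hirr
      obtain ⟨z₁, z₂, hz₁, hz₂, hsub, hn₁, hn₂⟩ := hirr
      let Z₁ : TopologicalSpace.Closeds (Spec Γ(X, V)) := ⟨Z ∩ z₁, Z.isClosed.inter hz₁⟩
      let Z₂ : TopologicalSpace.Closeds (Spec Γ(X, V)) := ⟨Z ∩ z₂, Z.isClosed.inter hz₂⟩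
      have h1 : Z₁ < Z := lt_of_le_of_ne (fun z hz => hz.1) (fun h => hn₁ (by
        intro z hz
        have : z ∈ (Z₁ : Set (Spec Γ(X, V))) := by rw [h]; exact hz
        exact this.2))
      have h2 : Z₂ < Z := lt_of_le_of_ne (fun z hz => hz.1) (fun h => hn₂ (by
        intro z hz
        have : z ∈ (Z₂ : Set (Spec Γ(X, V))) := by rw [h]; exact hz
        exact this.2))
      have heq : f ⁻¹' (hV.fromSpec '' (Z : Set (Spec Γ(X, V)))) =
          f ⁻¹' (hV.fromSpec '' (Z₁ : Set (Spec Γ(X, V)))) ∪
            f ⁻¹' (hV.fromSpec '' (Z₂ : Set (Spec Γ(X, V)))) := by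
        ext y
        constructor
        · rintro ⟨z, hz, hzy⟩
          rcases hsub hz with h | h
          · left; exact ⟨z, ⟨hz, h⟩, hzy⟩
          · right; exact ⟨z, ⟨hz, h⟩, hzy⟩
        · rintro (⟨z, hz, hzy⟩ | ⟨z, hz, hzy⟩)
          · exact ⟨z, hz.1, hzy⟩
          · exact ⟨z, hz.1, hzy⟩
      rw [heq]
      exact (ih Z₁ h1).union (ih Z₂ h2)
  have := key ⊤
  simpa [hjrange] using this

end Groth.Agent.S15349
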