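import Groth.Statements.S15354
import Mathlib

set_option autoImplicit false
universe u
open CategoryTheory CategoryTheory.Limits AlgebraicGeometry
open Mor

namespace Groth.Agent.S15354

/-- Let f : Y ⟶ X be a morphism of schemes, A a valuation ring with fraction field K and residue field
k, and ξ, η : Spec A ⟶ Y two A-points of Y over the same A-point of X. If ξ and η restrict to the
same K-point and to the same k-point of Y, then ξ = η. (The published statement is an equivalence,
for algebraic spaces locally of finite presentation over a Noetherian scheme, between local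
separatedness of f and conditions (a), (b); this row is the necessity of (a) in the case of schemes,
where no hypothesis on f is needed.) -/
theorem result {X Y : Scheme.{u}} (f : Y ⟶ X)
    (A : Type u) [CommRing A] [IsDomain A] [ValuationRing A] (K : Type u) [Field K] [Algebra A K]
    [IsFractionRing A K] (ξ η : Spec (CommRingCat.of A) ⟶ Y) (hf : ξ ≫ f = η ≫ f)
    (hK : Spec.map (CommRingCat.ofHom (algebraMap A K)) ≫ ξ = Spec.map (CommRingCat.ofHom (algebraMap A K)) ≫ η)
    (hk : Spec.map (CommRingCat.ofHom (IsLocalRing.residue A)) ≫ ξ =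
      Spec.map (CommRingCat.ofHom (IsLocalRing.residue A)) ≫ η) :
    ξ = η := by
  classical
  -- the closed point of Spec A
  set c : ↥(Spec (CommRingCat.of A)) := IsLocalRing.closedPoint A with hc
  -- ξ and η agree at the closed point
  have hpt : ξ c = η c := by
    have hq : Nonempty (↥(Spec (CommRingCat.of (IsLocalRing.ResidueField A)))) := inferInstance
    obtain ⟨q⟩ := hq
    have hres : (Spec.map (CommRingCat.ofHom (IsLocalRing.residue A))) q = c :=
      IsLocalRing.PrimeSpectrum.comap_residue A q
    have := congrArg (fun g : Spec (CommRingCat.of (IsLocalRing.ResidueField A)) ⟶ Y => g q) hk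
    simp only [Scheme.Hom.comp_apply] at this
    rw [hres] at this
    exact this
  -- an affine open neighbourhood
  obtain ⟨V, hV, hyV, -⟩ := exists_isAffineOpen_mem_and_subset (X := Y) (x := ξ c) (U := ⊤) trivial
  have hξV : ξ ⁻¹ᵁ V = ⊤ := Scheme.preimage_eq_top_of_closedPoint_mem ξ hyV
  have hηV : η ⁻¹ᵁ V = ⊤ := Scheme.preimage_eq_top_of_closedPoint_mem η (hpt ▸ hyV)
  have hξr : Set.range ξ ⊆ Set.range V.ι := by
    rintro _ ⟨a, rfl⟩
    have : a ∈ ξ ⁻¹ᵁ V := by rw [hξV]; trivial
    simpa using this
  have hηr : Set.range η ⊆ Set.range V.ι := by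
    rintro _ ⟨a, rfl⟩
    have : a ∈ η ⁻¹ᵁ V := by rw [hηV]; trivial
    simpa using this
  set ξ' := IsOpenImmersion.lift V.ι ξ hξr with hξ'
  set η' := IsOpenImmersion.lift V.ι η hηr with hη'
  have e1 : ξ' ≫ V.ι = ξ := IsOpenImmersion.lift_fac _ _ _
  have e2 : η' ≫ V.ι = η := IsOpenImmersion.lift_fac _ _ _
  have : IsAffine (V : Scheme) := hV
  have hK' : Spec.map (CommRingCat.ofHom (algebraMap A K)) ≫ ξ' =
      Spec.map (CommRingCat.ofHom (algebraMap A K)) ≫ η' := by
    rw [← cancel_mono V.ι, Category.assoc, Category.assoc, e1, e2, hK]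
  have hmono : Mono (Spec.map (CommRingCat.ofHom (algebraMap A K))).appTop := by
    have hinj : Function.Injective (algebraMap A K) := IsFractionRing.injective A K
    have h1 : Mono (CommRingCat.ofHom (algebraMap A K)) :=
      ConcreteCategory.mono_of_injective _ hinj
    have h2 : (Spec.map (CommRingCat.ofHom (algebraMap A K))).appTop
        = (Scheme.ΓSpecIso _).hom ≫ CommRingCat.ofHom (algebraMap A K) ≫ (Scheme.ΓSpecIso _).inv := by
      rw [← Category.assoc, ← Scheme.ΓSpecIso_naturality, Category.assoc, Iso.hom_inv_id,
        Category.comp_id]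
    rw [h2]
    infer_instance
  have happ : ξ'.appTop = η'.appTop := by
    have := congrArg Scheme.Hom.appTop hK'
    rw [Scheme.Hom.comp_appTop, Scheme.Hom.comp_appTop] at this
    exact (cancel_mono _).mp this
  have : ξ' = η' := ext_of_isAffine happ
  rw [← e1, ← e2, this]

end Groth.Agent.S15354
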