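import Groth.Statements.S15355
import Mathlib

set_option autoImplicit false
universe u
open CategoryTheory CategoryTheory.Limits AlgebraicGeometry
open Mor

namespace Groth.Agent.S15355

/-- Let f : Y ⟶ X be a morphism of schemes, A an integral domain and ξ, η : Spec A ⟶ Y two A-points of Y
over the same A-point of X. If ξ and η induce the same κ(p)-point of Y at every point p of some
dense subset of Spec A, then ξ and η agree on a nonempty open subscheme of Spec A. (The published
statement is an equivalence, for algebraic spaces locally of finite presentation over a Noetherian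
scheme, between local separatedness of f and conditions (a), (b); this row is the necessity of (b)
in the case of schemes, where no hypothesis on f is needed.) -/
theorem result {X Y : Scheme.{u}} (f : Y ⟶ X)
    (A : Type u) [CommRing A] [IsDomain A] (ξ η : Spec (CommRingCat.of A) ⟶ Y) (hf : ξ ≫ f = η ≫ f)
    (D : Set ↥(Spec (CommRingCat.of A))) (hD : Dense D)
    (hpt : ∀ p ∈ D, (Spec (CommRingCat.of A)).fromSpecResidueField p ≫ ξ =
      (Spec (CommRingCat.of A)).fromSpecResidueField p ≫ η) :
    ∃ U : (Spec (CommRingCat.of A)).Opens, (U : Set ↥(Spec (CommRingCat.of A))).Nonempty ∧ U.ι ≫ ξ = U.ι ≫ η := by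
  classical
  -- D is nonempty
  have hXne : Nonempty ↥(Spec (CommRingCat.of A)) := inferInstance
  obtain ⟨p₀, hp₀⟩ : D.Nonempty := hD.nonempty
  -- ξ and η agree at p₀
  have hpt0 : ξ p₀ = η p₀ := by
    have hq : Nonempty ↥(Spec ((Spec (CommRingCat.of A)).residueField p₀)) := inferInstance
    obtain ⟨q⟩ := hq
    have := congrArg (fun g : Spec ((Spec (CommRingCat.of A)).residueField p₀) ⟶ Y => g q) (hpt p₀ hp₀)
    simpa only [Scheme.Hom.comp_apply, Scheme.fromSpecResidueField_apply] using this
  obtain ⟨V, hV, hyV, -⟩ := exists_isAffineOpen_mem_and_subset (X := Y) (x := ξ p₀) (U := ⊤) trivial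
  have : IsAffine (V : Scheme) := hV
  set U : (Spec (CommRingCat.of A)).Opens := ξ ⁻¹ᵁ V ⊓ η ⁻¹ᵁ V with hU
  have hp₀U : p₀ ∈ U := ⟨hyV, by show η p₀ ∈ V; rw [← hpt0]; exact hyV⟩
  refine ⟨U, ⟨p₀, hp₀U⟩, ?_⟩
  have hξr : Set.range (U.ι ≫ ξ) ⊆ Set.range V.ι := by
    rintro _ ⟨a, rfl⟩
    have : U.ι a ∈ U := by
      have h := Set.mem_range_self (f := U.ι) a
      rwa [Scheme.Opens.range_ι] at h
    simpa using this.1
  have hηr : Set.range (U.ι ≫ η) ⊆ Set.range V.ι := by
    rintro _ ⟨a, rfl⟩
    have : U.ι a ∈ U := by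
      have h := Set.mem_range_self (f := U.ι) a
      rwa [Scheme.Opens.range_ι] at h
    simpa using this.2
  set ξ' := IsOpenImmersion.lift V.ι (U.ι ≫ ξ) hξr with hξ'
  set η' := IsOpenImmersion.lift V.ι (U.ι ≫ η) hηr with hη'
  have e1 : ξ' ≫ V.ι = U.ι ≫ ξ := IsOpenImmersion.lift_fac _ _ _
  have e2 : η' ≫ V.ι = U.ι ≫ η := IsOpenImmersion.lift_fac _ _ _
  suffices h : ξ' = η' by rw [← e1, ← e2, h]
  apply ext_of_isAffine
  ext b
  rw [← sub_eq_zero]
  set s : Γ((U : Scheme), ⊤) := ξ'.appTop b - η'.appTop b with hs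
  have hred : IsReduced (U : Scheme) := inferInstance
  apply eq_zero_of_basicOpen_eq_bot
  by_contra hne
  -- the basic open of s is nonempty, so its image meets D
  have hne' : ((U : Scheme).basicOpen s : Set ↥(U : Scheme)).Nonempty := by
    rw [Set.nonempty_iff_ne_empty]
    intro h0
    apply hne
    ext1
    simpa using h0
  have hopen : IsOpen (U.ι '' ((U : Scheme).basicOpen s : Set ↥(U : Scheme))) :=
    U.ι.isOpenEmbedding.isOpenMap _ ((U : Scheme).basicOpen s).2
  obtain ⟨p, ⟨q, hq, rfl⟩, hpD⟩ := hD.inter_open_nonempty _ hopen (hne'.image _)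
  -- the residue field point factors through U
  have hjr : Set.range ((Spec (CommRingCat.of A)).fromSpecResidueField (U.ι q)) ⊆ Set.range U.ι := by
    rw [Scheme.range_fromSpecResidueField]
    rintro _ rfl
    exact ⟨q, rfl⟩
  set j := IsOpenImmersion.lift U.ι ((Spec (CommRingCat.of A)).fromSpecResidueField (U.ι q)) hjr with hj
  have ej : j ≫ U.ι = (Spec (CommRingCat.of A)).fromSpecResidueField (U.ι q) := IsOpenImmersion.lift_fac _ _ _
  have hjeq : j ≫ ξ' = j ≫ η' := by
    rw [← cancel_mono V.ι, Category.assoc, Category.assoc, e1, e2, ← Category.assoc, ← Category.assoc,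
      ej, hpt _ hpD]
  have hjs : j.appTop s = 0 := by
    have h1 := congrArg (fun g => g.appTop b) hjeq
    simp only [Scheme.Hom.comp_appTop, CommRingCat.comp_apply] at h1
    rw [hs, map_sub, h1, sub_self]
  have hpre : j ⁻¹ᵁ ((U : Scheme).basicOpen s) = ⊥ := by
    rw [Scheme.preimage_basicOpen_top, hjs, Scheme.basicOpen_zero]
  -- but the point of Spec κ maps into the basic open
  have hq' : Nonempty ↥(Spec ((Spec (CommRingCat.of A)).residueField (U.ι q))) := inferInstance
  obtain ⟨r⟩ := hq'
  have hjr' : j r = q := by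
    apply U.ι.isOpenEmbedding.injective
    have := congrArg (fun g : Spec ((Spec (CommRingCat.of A)).residueField (U.ι q)) ⟶ (Spec (CommRingCat.of A)) => g r) ej
    simpa only [Scheme.Hom.comp_apply, Scheme.fromSpecResidueField_apply] using this
  have : r ∈ j ⁻¹ᵁ ((U : Scheme).basicOpen s) := by
    show j r ∈ (U : Scheme).basicOpen s
    rw [hjr']; exact hq
  rw [hpre] at this
  exact this

end Groth.Agent.S15355
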