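import Groth.Statements.S15361
import Groth.Agent.H15.GL2

set_option autoImplicit false
open GalCoh

namespace Groth.Agent.S15361

/-- Let p be a prime and H a subgroup of GL₂(𝔽_p). Then H = GL₂(𝔽_p) if and only if (i) some non-split
Cartan subgroup lies in H, i.e. some subgroup C ≤ H such that C ∪ {0} is a subfield of the matrix
algebra M₂(𝔽_p) with p² elements, and (ii) p divides the order of H. -/
theorem result (p : ℕ) [Fact p.Prime]
    (H : Subgroup (GL (Fin 2) (ZMod p))) :
    H = ⊤ ↔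
      (∃ (C : Subgroup (GL (Fin 2) (ZMod p))) (E : Subring (Matrix (Fin 2) (Fin 2) (ZMod p))),
          C ≤ H ∧ IsField E ∧ Nat.card E = p ^ 2 ∧
            (E : Set (Matrix (Fin 2) (Fin 2) (ZMod p))) =
              insert 0 ((fun g : GL (Fin 2) (ZMod p) => (g : Matrix (Fin 2) (Fin 2) (ZMod p))) ''
                (C : Set (GL (Fin 2) (ZMod p))))) ∧
        p ∣ Nat.card H := by
  constructor
  · rintro rfl
    obtain ⟨C, E, hE, hcard, hEC⟩ := Groth.Agent.H15.GL2.exists_cartan (p := p)
    exact ⟨⟨C, E.toSubring, le_top, hE, hcard, hEC⟩, Groth.Agent.H15.GL2.dvd_card_top⟩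
  · rintro ⟨⟨C, E, hCH, hE, hcard, hEC⟩, hp⟩
    exact Groth.Agent.H15.GL2.eq_top_of_cartan H (Groth.Agent.H15.GL2.toSubalg E) hE C hCH hcard hEC hp

end Groth.Agent.S15361
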