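import Groth.Statements.S15365
import Mathlib

set_option autoImplicit false
universe u
open scoped BigOperators
open CAlg

namespace Groth.Agent.S15365

/-- Let A be a commutative ring of characteristic p > 0 and (h_{ij})_{1 ≤ i,j ≤ n} a square matrix over
A, the matrix of a commutative p-Lie algebra (L, φ) with L free with basis e_1, …, e_n and φ(e_j) =
Σ_i h_{ij} e_i. The associated finite group scheme Spec A[X_1, …, X_n]/(X_j^p − Σ_i h_{ij} X_i)_{1 ≤
j ≤ n} is étale over A if and only if the matrix (h_{ij}) is invertible, i.e. its determinant is a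
unit of A. Only the algebra structure enters this assertion. -/
theorem result (p : ℕ) [Fact p.Prime]
    (A : Type u) [CommRing A] [CharP A p] (n : ℕ) (h : Matrix (Fin n) (Fin n) A) :
    Algebra.Etale A (MvPolynomial (Fin n) A ⧸ Ideal.span (Set.range fun j : Fin n =>
        (MvPolynomial.X j : MvPolynomial (Fin n) A) ^ p -
          ∑ i : Fin n, MvPolynomial.C (h i j) * MvPolynomial.X i)) ↔
      IsUnit h.det := by
  classical
  have hp2 : 2 ≤ p := (Fact.out : p.Prime).two_le
  constructor
  · -- étale ⇒ det is a unit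
    intro hét
    by_contra hdet
    obtain ⟨m, hm, hmem⟩ := exists_max_ideal_of_mem_nonunits (show h.det ∈ nonunits A from hdet)
    letI : Field (A ⧸ m) := Ideal.Quotient.field m
    let hbar : Matrix (Fin n) (Fin n) (A ⧸ m) := h.map (Ideal.Quotient.mk m)
    have hdetbar : hbar.det = 0 := by
      have : hbar = (Ideal.Quotient.mk m).mapMatrix h := rfl
      rw [this, ← RingHom.map_det]
      exact Ideal.Quotient.eq_zero_iff_mem.2 hmem
    obtain ⟨v, hv0, hv⟩ := Matrix.exists_vecMul_eq_zero_iff.2 hdetbar
    -- two algebra maps to the dual numbers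
    let ε : DualNumber (A ⧸ m) := DualNumber.eps
    have hεε : ε * ε = 0 := DualNumber.eps_mul_eps
    have hpow : ∀ x : A ⧸ m, (x • ε) ^ p = 0 := by
      intro x
      obtain ⟨q, hq⟩ : ∃ q, p = q + 2 := ⟨p - 2, by omega⟩
      have hε : ε ^ p = 0 := by rw [hq, pow_add, pow_two, hεε, mul_zero]
      rw [smul_pow, hε, smul_zero]
    have hkill : ∀ w : Fin n → A ⧸ m, Matrix.vecMul w hbar = 0 →
        ∀ a ∈ Ideal.span (Set.range fun j : Fin n =>
          (MvPolynomial.X j : MvPolynomial (Fin n) A) ^ p -
            ∑ i : Fin n, MvPolynomial.C (h i j) * MvPolynomial.X i),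
          MvPolynomial.aeval (fun i => w i • ε) a = 0 := by
      intro w hw a ha
      have hle : Ideal.span (Set.range fun j : Fin n =>
          (MvPolynomial.X j : MvPolynomial (Fin n) A) ^ p -
            ∑ i : Fin n, MvPolynomial.C (h i j) * MvPolynomial.X i) ≤
          RingHom.ker (MvPolynomial.aeval (R := A) (fun i => w i • ε)).toRingHom := by
        rw [Ideal.span_le]
        rintro _ ⟨j, rfl⟩
        simp only [SetLike.mem_coe, RingHom.mem_ker, AlgHom.toRingHom_eq_coe, RingHom.coe_coe,
          map_sub, map_pow, MvPolynomial.aeval_X, map_sum, map_mul, MvPolynomial.aeval_C, hpow,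
          zero_sub, neg_eq_zero]
        have h1 : ∀ i, (algebraMap A (DualNumber (A ⧸ m))) (h i j) * w i • ε =
            (w i * hbar i j) • ε := by
          intro i
          rw [Algebra.algebraMap_eq_smul_one, smul_mul_assoc, one_mul, mul_comm, mul_smul]
          rfl
        simp_rw [h1, ← Finset.sum_smul]
        have h2 : ∑ i, w i * hbar i j = (Matrix.vecMul w hbar) j := rfl
        rw [h2, hw, Pi.zero_apply, zero_smul]
      exact hle ha
    let g : (w : Fin n → A ⧸ m) → Matrix.vecMul w hbar = 0 → (MvPolynomial (Fin n) A ⧸ Ideal.span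
        (Set.range fun j : Fin n => (MvPolynomial.X j : MvPolynomial (Fin n) A) ^ p -
            ∑ i : Fin n, MvPolynomial.C (h i j) * MvPolynomial.X i)) →ₐ[A] DualNumber (A ⧸ m) :=
      fun w hw => Ideal.Quotient.liftₐ _ (MvPolynomial.aeval (fun i => w i • ε)) (hkill w hw)
    have hgX : ∀ w hw i, g w hw (Ideal.Quotient.mk _ (MvPolynomial.X i)) = w i • ε := by
      intro w hw i
      simp [g]
    have hunr : Algebra.FormallyUnramified A (MvPolynomial (Fin n) A ⧸ Ideal.span
        (Set.range fun j : Fin n => (MvPolynomial.X j : MvPolynomial (Fin n) A) ^ p -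
            ∑ i : Fin n, MvPolynomial.C (h i j) * MvPolynomial.X i)) := inferInstance
    let f : DualNumber (A ⧸ m) →ₐ[A] (A ⧸ m) := TrivSqZeroExt.fstHom A (A ⧸ m) (A ⧸ m)
    have hfnil : IsNilpotent (RingHom.ker (f : DualNumber (A ⧸ m) →+* (A ⧸ m))) := by
      have hsq : RingHom.ker (f : DualNumber (A ⧸ m) →+* (A ⧸ m)) *
          RingHom.ker (f : DualNumber (A ⧸ m) →+* (A ⧸ m)) = 0 := ?_
      · exact ⟨2, by rw [show (2 : ℕ) = 1 + 1 from rfl, Submodule.pow_succ, Submodule.pow_one]; exact hsq⟩
      rw [Ideal.zero_eq_bot, eq_bot_iff, Ideal.mul_le]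
      intro x hx y hy
      rw [RingHom.mem_ker] at hx hy
      have hx' : x.fst = 0 := hx
      have hy' : y.fst = 0 := hy
      rw [Ideal.mem_bot]
      ext <;> simp [hx', hy']
    have h0 : Matrix.vecMul (0 : Fin n → A ⧸ m) hbar = 0 := Matrix.zero_vecMul _
    have hcomp : f.comp (g 0 h0) = f.comp (g v hv) := by
      apply Ideal.Quotient.algHom_ext
      apply MvPolynomial.algHom_ext
      intro i
      simp only [AlgHom.comp_apply, Ideal.Quotient.mkₐ_eq_mk, hgX]
      simp [f, ε]
    have heq := Algebra.FormallyUnramified.lift_unique' f hfnil (g 0 h0) (g v hv) hcomp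
    apply hv0
    funext i
    have h1 := congrArg (fun φ => φ (Ideal.Quotient.mk _ (MvPolynomial.X i))) heq
    simp only [hgX, Pi.zero_apply, zero_smul] at h1
    have h2 := congrArg TrivSqZeroExt.snd h1
    simpa [ε] using h2.symm
  · -- det unit ⇒ étale
    intro hdet
    let P₀ : Algebra.PreSubmersivePresentation A (MvPolynomial (Fin n) A ⧸ Ideal.span
        (Set.range fun j : Fin n => (MvPolynomial.X j : MvPolynomial (Fin n) A) ^ p -
            ∑ i : Fin n, MvPolynomial.C (h i j) * MvPolynomial.X i)) (Fin n) (Fin n) :=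
      Algebra.PreSubmersivePresentation.naive id Function.injective_id
    have hcast : ((p : ℕ) : MvPolynomial (Fin n) A) = 0 := CharP.cast_eq_zero _ p
    have hjac : P₀.jacobiMatrix = -(h.map MvPolynomial.C) := by
      ext i j
      rw [Algebra.PreSubmersivePresentation.jacobiMatrix_naive]
      simp only [id_eq, map_sub, Derivation.leibniz_pow, MvPolynomial.pderiv_X, map_sum,
        MvPolynomial.pderiv_C_mul, Matrix.neg_apply, Matrix.map_apply, nsmul_eq_mul, hcast,
        zero_mul, zero_sub, smul_eq_mul]
      simp [Pi.single_apply]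
    let P : Algebra.SubmersivePresentation A (MvPolynomial (Fin n) A ⧸ Ideal.span
        (Set.range fun j : Fin n => (MvPolynomial.X j : MvPolynomial (Fin n) A) ^ p -
            ∑ i : Fin n, MvPolynomial.C (h i j) * MvPolynomial.X i)) (Fin n) (Fin n) :=
      { toPreSubmersivePresentation := P₀
        jacobian_isUnit := by
          rw [Algebra.PreSubmersivePresentation.jacobian_eq_jacobiMatrix_det, hjac,
            Matrix.det_neg, map_mul, map_pow, map_neg, map_one]
          refine IsUnit.mul (IsUnit.pow _ (IsUnit.of_mul_eq_one (-1) (by ring))) ?_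
          have : (h.map (MvPolynomial.C (σ := Fin n) (R := A))).det =
              MvPolynomial.C (σ := Fin n) h.det := by
            rw [← RingHom.mapMatrix_apply, ← RingHom.map_det]
          rw [this]
          exact (hdet.map (MvPolynomial.C (σ := Fin n) (R := A))).map _ }
    have hdim : P.dimension = 0 := by
      simp [Algebra.Presentation.dimension]
    have := P.isStandardSmoothOfRelativeDimension hdim
    infer_instance

end Groth.Agent.S15365
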