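import Groth.Statements.S15366
import Groth.Agent.H80.ResExtIter
import Groth.Agent.H80.DvrOfPrincipal

set_option autoImplicit false
universe u
open CAlg

namespace Groth.Agent.S15366

/-- Let k be an algebraically closed field of characteristic p > 0, R = k[[t₁, t₂]], and O = R_{(t₁)}
the local ring of Spec R at the generic point x of the divisor t₁ = 0 (a discrete valuation ring,
with uniformizer t₁ and residue field k((t₂))). Then O embeds, by an injective local k-algebra map
φ, into some complete discrete valuation ring A containing k whose residue field is algebraically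
closed and in which φ(t₁) is still a uniformizer. The prime ideal (t₁) is passed as an ideal P equal
to it together with its primality. -/
theorem result
    (p : ℕ) [Fact p.Prime] (k : Type u) [Field k] [IsAlgClosed k] [CharP k p]
    (P : Ideal (MvPowerSeries (Fin 2) k))
    (hP : P = Ideal.span {(MvPowerSeries.X 0 : MvPowerSeries (Fin 2) k)}) [P.IsPrime] :
    ∃ (A : Type u) (_ : CommRing A) (_ : IsDomain A) (_ : IsDiscreteValuationRing A) (_ : Algebra k A)
      (φ : Localization.AtPrime P →ₐ[k] A),
      IsAdicComplete (IsLocalRing.maximalIdeal A) A ∧ IsAlgClosed (IsLocalRing.ResidueField A) ∧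
        Function.Injective φ ∧ IsLocalHom φ.toRingHom ∧
          Irreducible (φ (algebraMap (MvPowerSeries (Fin 2) k) (Localization.AtPrime P)
            (MvPowerSeries.X 0))) := by
  classical
  let O := Localization.AtPrime P
  let K := AlgebraicClosure (IsLocalRing.ResidueField O)
  let φ₀ : O →+* K := (algebraMap (IsLocalRing.ResidueField O) K).comp (IsLocalRing.residue O)
  haveI hφ₀ : IsLocalHom φ₀ := by
    constructor
    intro r hr
    by_contra hnu
    have h0 : IsLocalRing.residue O r = 0 :=
      (IsLocalRing.residue_eq_zero_iff r).mpr ((IsLocalRing.mem_maximalIdeal r).mpr hnu)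
    have h1 : φ₀ r = 0 := by
      change algebraMap (IsLocalRing.ResidueField O) K (IsLocalRing.residue O r) = 0
      rw [h0, map_zero]
    rw [h1] at hr
    exact not_isUnit_zero hr
  haveI : IsNoetherianRing O :=
    IsLocalization.isNoetherianRing P.primeCompl O inferInstance
  obtain ⟨R', _, f, φ', hW, ⟨hloc, hlh⟩, hcomp, hsurj, hN⟩ := Groth.Agent.H80.ResExt.main O φ₀
  haveI : IsNoetherianRing R' := hN inferInstance
  let t : O := algebraMap (MvPowerSeries (Fin 2) k) O (MvPowerSeries.X 0)
  have hmaxO : IsLocalRing.maximalIdeal O = Ideal.span {t} := by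
    have h1 : P.map (algebraMap (MvPowerSeries (Fin 2) k) O) = Ideal.span {t} := by
      have h2 : ∀ I : Ideal (MvPowerSeries (Fin 2) k), I = Ideal.span {MvPowerSeries.X 0} →
          I.map (algebraMap (MvPowerSeries (Fin 2) k) O) = Ideal.span {t} := by
        intro I hI
        rw [hI, Ideal.map_span, Set.image_singleton]
      exact h2 P hP
    rw [← h1]
    exact (Localization.AtPrime.map_eq_maximalIdeal (I := P)).symm
  have ht0 : t ≠ 0 := by
    intro h0
    have h1 : (MvPowerSeries.X 0 : MvPowerSeries (Fin 2) k) = 0 :=
      (IsLocalization.to_map_eq_zero_iff O P.primeCompl_le_nonZeroDivisors).mp h0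
    have h2 := congrArg (MvPowerSeries.coeff (Finsupp.single 0 1)) h1
    rw [MvPowerSeries.coeff_index_single_self_X, map_zero] at h2
    exact one_ne_zero h2
  have hmaxR' : IsLocalRing.maximalIdeal R' = Ideal.span {f t} := by
    rw [← hW.map_maximalIdeal, hmaxO, Ideal.map_span, Set.image_singleton]
  let A := AdicCompletion (IsLocalRing.maximalIdeal R') R'
  let ψ : O →+* A := (algebraMap R' A).comp f
  have hmaxA : IsLocalRing.maximalIdeal A = Ideal.span {ψ t} := by
    have h1 : (IsLocalRing.maximalIdeal R').map (algebraMap R' A) = Ideal.span {ψ t} := by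
      refine (congrArg (Ideal.map (algebraMap R' A)) hmaxR').trans ?_
      rw [Ideal.map_span, Set.image_singleton]
      rfl
    rw [← h1]
    exact AdicCompletion.maximalIdeal_eq_map
  letI algOR' : Algebra O R' := f.toAlgebra
  haveI : Module.Flat O R' := hW.flat
  haveI : Module.Flat O A := Module.Flat.trans O R' A
  have hψ : ∀ x : O, algebraMap O A x = ψ x := fun x => rfl
  have hreg : ψ t ∈ nonZeroDivisors A := by
    have h1 : IsSMulRegular O t := by
      intro a b hab
      exact mul_left_cancel₀ ht0 hab
    have h2 : IsSMulRegular A (algebraMap O A t) := IsSMulRegular.of_flat h1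
    rw [hψ] at h2
    rw [mem_nonZeroDivisors_iff_right]
    intro z hz
    apply h2
    simp only [smul_eq_mul, mul_zero]
    rw [mul_comm]
    exact hz
  haveI : IsNoetherianRing A :=
    Groth.Agent.H20.isNoetherianRing_adicCompletion_of_fg (IsLocalRing.maximalIdeal R')
      (IsNoetherian.noetherian _)
  haveI hdom : IsDomain A := Groth.Agent.H80.DvrOfPrincipal.isDomain (ψ t) hmaxA hreg
  have hdvr : IsDiscreteValuationRing A :=
    Groth.Agent.H80.DvrOfPrincipal.isDiscreteValuationRing (ψ t) hmaxA hreg hdom
  letI algkA : Algebra k A := (ψ.comp (algebraMap k O)).toAlgebra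
  let φ : O →ₐ[k] A := { ψ with commutes' := fun r => rfl }
  haveI hlocf : IsLocalHom (algebraMap O R') := hW.isLocalHom
  haveI : IsLocalHom ψ := by
    haveI : IsLocalHom f := hW.isLocalHom
    exact RingHom.isLocalHom_comp _ _
  refine ⟨A, inferInstance, hdom, hdvr, algkA, φ, inferInstance, ?_, ?_, ?_, ?_⟩
  · -- residue field algebraically closed
    have hbij := AdicCompletion.residueField_map_bijective_of_fg (R := R')
      (IsNoetherian.noetherian (IsLocalRing.maximalIdeal R'))
    let e1 : IsLocalRing.ResidueField R' ≃+* IsLocalRing.ResidueField A :=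
      RingEquiv.ofBijective _ hbij
    let χ : IsLocalRing.ResidueField R' →+* K := IsLocalRing.ResidueField.lift φ'
    have hχbij : Function.Bijective χ := by
      refine ⟨χ.injective, fun y => ?_⟩
      obtain ⟨x, rfl⟩ := hsurj y
      exact ⟨IsLocalRing.residue R' x, IsLocalRing.ResidueField.lift_residue_apply φ' x⟩
    exact IsAlgClosed.of_ringEquiv (k := K) _ ((RingEquiv.ofBijective χ hχbij).symm.trans e1)
  · -- injective
    haveI : Module.FaithfullyFlat O R' := Module.FaithfullyFlat.of_flat_of_isLocalHom
    have h1 : Function.Injective f := FaithfulSMul.algebraMap_injective O R'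
    haveI : Module.FaithfullyFlat R' A := Module.FaithfullyFlat.of_flat_of_isLocalHom
    have h2 : Function.Injective (algebraMap R' A) := FaithfulSMul.algebraMap_injective R' A
    exact h2.comp h1
  · exact inferInstanceAs (IsLocalHom ψ)
  · exact (IsDiscreteValuationRing.irreducible_iff_uniformizer (ψ t)).mpr hmaxA

end Groth.Agent.S15366
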