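import Groth.Statements.S15367
import Mathlib
import Groth.Agent.H76.CyclicHom

set_option autoImplicit false
universe u v
open TensorProduct
open CAlg

namespace Groth.Agent.S15367

/-- Let R be a discrete valuation ring with uniformizer π and residue field k, n ≥ 0, and M₀ a finitely
generated module over R/πⁿR, viewed as an R-module killed by πⁿ; put M₀* = Hom_R(M₀, R/πⁿR). Then
dim_k(M₀*/πM₀*) = dim_k(M₀/πM₀). The published lemma is stated for a finitely presented module over
the quotient of the ring of integers of an algebraic closure of K by the elements of valuation ≥ t,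
with its dual into that quotient ring, and the published proof reduces it by descent to exactly this
statement over the valuation ring of a finite extension of K; the row states that step. -/
theorem result
    (R : Type u) [CommRing R] [IsDomain R] [IsDiscreteValuationRing R] (ϖ : R) (hϖ : Irreducible ϖ) (n : ℕ)
    (M : Type v) [AddCommGroup M] [Module R M] [Module.Finite R M] (hM : ∀ m : M, ϖ ^ n • m = 0) :
    Module.finrank (IsLocalRing.ResidueField R)
        (IsLocalRing.ResidueField R ⊗[R] (M →ₗ[R] (R ⧸ Ideal.span {ϖ ^ n}))) =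
      Module.finrank (IsLocalRing.ResidueField R) (IsLocalRing.ResidueField R ⊗[R] M) := by
  classical
  have hϖn : ϖ ^ n ≠ 0 := pow_ne_zero n hϖ.ne_zero
  have htors : Module.IsTorsion R M := by
    intro m
    exact ⟨⟨ϖ ^ n, mem_nonZeroDivisors_of_ne_zero hϖn⟩, hM m⟩
  obtain ⟨ι, _, p, hp, e, ⟨e₀⟩⟩ := Module.equiv_directSum_of_isTorsion htors
  have hdvd : ∀ i, p i ^ e i ∣ ϖ ^ n := by
    intro i
    have h1 := hM (e₀.symm (DirectSum.lof R ι (fun i => R ⧸ R ∙ p i ^ e i) i
      (Submodule.Quotient.mk 1)))
    rw [← map_smul, ← map_smul] at h1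
    have h2 := e₀.symm.injective (h1.trans (map_zero _).symm)
    have h3 := congrArg (DirectSum.component R ι (fun i => R ⧸ R ∙ p i ^ e i) i) h2
    rw [DirectSum.component.lof_self, map_zero, ← Submodule.Quotient.mk_smul,
      Submodule.Quotient.mk_eq_zero, Submodule.mem_span_singleton] at h3
    obtain ⟨a, ha⟩ := h3
    refine ⟨a, ?_⟩
    simp only [smul_eq_mul, mul_one] at ha
    rw [← ha, mul_comm]
  have hX : ∀ i, Nonempty (((R ⧸ R ∙ p i ^ e i) →ₗ[R] (R ⧸ Submodule.span R {ϖ ^ n})) ≃ₗ[R]
      (R ⧸ R ∙ p i ^ e i)) :=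
    fun i => Groth.Agent.H76.nonempty_hom_cyclic_equiv _ _ hϖn (hdvd i)
  let E : (M →ₗ[R] (R ⧸ Ideal.span {ϖ ^ n})) ≃ₗ[R] M :=
    (LinearEquiv.congrLeft (R ⧸ Ideal.span {ϖ ^ n}) R e₀).trans <|
      (DFinsupp.lsum R).symm.trans <|
        (LinearEquiv.piCongrRight fun i => (hX i).some).trans <|
          (DirectSum.linearEquivFunOnFintype R ι _).symm.trans e₀.symm
  exact LinearEquiv.finrank_eq (TensorProduct.AlgebraTensorModule.congr (LinearEquiv.refl _ _) E)

end Groth.Agent.S15367
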