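import Groth.Statements.S15368
import Mathlib
import Groth.Agent.H76.PidSpan

set_option autoImplicit false
universe u v
open TensorProduct
open CAlg

namespace Groth.Agent.S15368

/-- Let R be a discrete valuation ring with uniformizer π and residue field k, n ≥ 0, M₀ a finitely
generated R-module killed by πⁿ and N₀ a submodule of M₀. Then dim_k(N₀/πN₀) ≤ dim_k(M₀/πM₀). The
published lemma is stated for a finitely presented submodule N of a finitely presented module M over
the quotient of the ring of integers of an algebraic closure of K by the elements of valuation ≥ t,
and the published proof reduces it by descent to exactly this statement over the valuation ring of a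
finite extension of K (comparing π-torsion with π-cotorsion by additivity of length); the row states
that step. -/
theorem result
    (R : Type u) [CommRing R] [IsDomain R] [IsDiscreteValuationRing R] (ϖ : R) (hϖ : Irreducible ϖ) (n : ℕ)
    (M : Type v) [AddCommGroup M] [Module R M] [Module.Finite R M] (hM : ∀ m : M, ϖ ^ n • m = 0)
    (N : Submodule R M) :
    Module.finrank (IsLocalRing.ResidueField R) (IsLocalRing.ResidueField R ⊗[R] N) ≤
      Module.finrank (IsLocalRing.ResidueField R) (IsLocalRing.ResidueField R ⊗[R] M) := by
  classical
  have hNfg : N.FG := IsNoetherian.noetherian N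
  have h1 : Module.finrank (IsLocalRing.ResidueField R) (IsLocalRing.ResidueField R ⊗[R] N)
      = N.spanFinrank := by
    rw [Module.finrank_eq_spanFinrank_of_free, TensorProduct.spanFinrank_top_eq_of_residueField N hNfg]
  have h2 : Module.finrank (IsLocalRing.ResidueField R) (IsLocalRing.ResidueField R ⊗[R] M)
      = (⊤ : Submodule R M).spanFinrank := by
    have e : (IsLocalRing.ResidueField R ⊗[R] (⊤ : Submodule R M)) ≃ₗ[IsLocalRing.ResidueField R]
        (IsLocalRing.ResidueField R ⊗[R] M) :=
      TensorProduct.AlgebraTensorModule.congr (LinearEquiv.refl _ _) Submodule.topEquiv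
    rw [← e.finrank_eq, Module.finrank_eq_spanFinrank_of_free,
      TensorProduct.spanFinrank_top_eq_of_residueField _ Module.Finite.fg_top]
  rw [h1, h2]
  exact Groth.Agent.H76.spanFinrank_le_top_of_pid N

end Groth.Agent.S15368
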