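import Groth.Statements.S15401
import Groth.Agent.H69.EtPicGrp

set_option autoImplicit false
universe u
open CategoryTheory CategoryTheory.Limits AlgebraicGeometry
open PicGrp

namespace Groth.Agent.S15401

/-- Let X be a quasi-compact and quasi-separated scheme and assume the Picard group law on X. Then the
Picard group of X, written additively, is isomorphic as a group to the first cohomology group of the
multiplicative group sheaf G_m on the small étale site of X. (Existence of a group isomorphism only:
the isomorphism induced by sending an invertible module to its sheaf of trivialisations is not named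
here.) -/
theorem result (X : Scheme.{u}) [CompactSpace X] [QuasiSeparatedSpace X]
    [PicGrp.Law X] :
    Nonempty (Additive (PicLoc.PicSet X) ≃+ EtCoh.H X (EtCoh.Gm X) 1) := by
  classical
  let fI : EtCoh.Gm X ⟶ Injective.under (EtCoh.Gm X) := Injective.ι _
  have hS : (ShortComplex.mk fI (cokernel.π fI) (cokernel.condition fI)).ShortExact :=
    { exact := ShortComplex.exact_cokernel fI
      mono_f := inferInstanceAs (Mono (Injective.ι (EtCoh.Gm X)))
      epi_g := inferInstanceAs (Epi (cokernel.π fI)) }
  exact Groth.Agent.H69.EtPicGrp.nonempty_addEquiv fI (cokernel.π fI) (cokernel.condition fI) hS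

end Groth.Agent.S15401
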