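import Groth.Statements.S15412
import Mathlib.Tactic

set_option autoImplicit false
universe w v u
open CategoryTheory Opposite
open Bitors

namespace Groth.Agent.S15412

/-- On a site, let G and H be sheaves of groups and P a sheaf of sets with a left G-action which is
simply transitive on every set of sections P(U). The right H-actions on P that are compatible with
restriction, commute with the G-action and are simply transitive on every P(U) (for P a G-torsor:
the structures of (G, H)-bitorsor on P) correspond exactly to the families of group isomorphisms φ_p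
: H(U) ≃ G(U), one for each section p of P over each U, compatible with restriction and with φ_{g·p}
= g φ_p g⁻¹ (the equivariant maps from P to the sheaf of isomorphisms from H to G); the
correspondence is the rule p · h = φ_p(h) · p, and the statement is that every right structure
arises by this rule from exactly one family and every family from exactly one right structure. (The
published statement takes P a left G-torsor; only the simple transitivity of the G-action on
sections enters, so local existence of sections is not assumed.) -/
theorem result
    {C : Type u} [Category.{v} C] {J : GrothendieckTopology C}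
    (G H : Sheaf J GrpCat.{w}) (P : NonAbH1.GSheaf G) (hP : P.IsPseudoTorsor) :
    (∀ ρ : Bitors.RightStr P H, ∃! φ : Bitors.IsomFamily P H,
        ∀ (U : Cᵒᵖ) (p : P.P.obj.obj U) (h : H.obj.obj U), ρ.rsmul p h = P.smul (φ.φ p h) p) ∧
    (∀ φ : Bitors.IsomFamily P H, ∃! ρ : Bitors.RightStr P H,
        ∀ (U : Cᵒᵖ) (p : P.P.obj.obj U) (h : H.obj.obj U), ρ.rsmul p h = P.smul (φ.φ p h) p) := by
  have cancel : ∀ (U : Cᵒᵖ) (p : P.P.obj.obj U) (g g' : G.obj.obj U),
      P.smul g p = P.smul g' p → g = g' :=
    fun U p g g' e => (hP U p (P.smul g' p)).unique e rfl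
  constructor
  · intro ρ
    have hex : ∀ (U : Cᵒᵖ) (p : P.P.obj.obj U) (h : H.obj.obj U),
        ∃ g : G.obj.obj U, P.smul g p = ρ.rsmul p h := fun U p h => (hP U p _).exists
    choose ψ hψ using hex
    have hex' : ∀ (U : Cᵒᵖ) (p : P.P.obj.obj U) (g : G.obj.obj U),
        ∃ h : H.obj.obj U, ρ.rsmul p h = P.smul g p :=
      fun U p g => (ρ.existsUnique_rsmul p _).exists
    choose χ hχ using hex'
    have rcancel : ∀ (U : Cᵒᵖ) (p : P.P.obj.obj U) (h h' : H.obj.obj U),
        ρ.rsmul p h = ρ.rsmul p h' → h = h' :=
      fun U p h h' e => (ρ.existsUnique_rsmul p (ρ.rsmul p h')).unique e rfl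
    have hmul : ∀ (U : Cᵒᵖ) (p : P.P.obj.obj U) (h h' : H.obj.obj U),
        ψ U p (h * h') = ψ U p h * ψ U p h' := by
      intro U p h h'
      apply cancel U p
      rw [hψ, ρ.rsmul_mul, ← hψ U p h, ρ.smul_rsmul, ← hψ U p h', P.mul_smul]
    let Φ : Bitors.IsomFamily P H :=
      { φ := fun {U} p =>
          { toFun := ψ U p
            invFun := χ U p
            left_inv := fun h => by
              apply rcancel U p
              rw [hχ, hψ]
            right_inv := fun g => by
              apply cancel U p
              rw [hψ, hχ]
            map_mul' := hmul U p }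
        map_φ := fun {U V} f p h => by
          change G.obj.map f (ψ U p h) = ψ V (P.P.obj.map f p) (H.obj.map f h)
          apply cancel V (P.P.obj.map f p)
          rw [← P.map_smul, hψ, hψ, ρ.map_rsmul]
        φ_smul := fun {U} g p h => by
          change ψ U (P.smul g p) h = g * ψ U p h * g⁻¹
          apply cancel U (P.smul g p)
          rw [hψ, ρ.smul_rsmul, ← hψ U p h, ← P.mul_smul, ← P.mul_smul]
          congr 1
          group }
    refine ⟨Φ, fun U p h => (hψ U p h).symm, ?_⟩
    intro φ' hφ'
    rcases φ' with ⟨φf, h1, h2⟩
    have : @φf = @Φ.φ := by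
      funext U p
      apply MulEquiv.ext
      intro h
      apply cancel U p
      have := hφ' U p h
      change P.smul (φf p h) p = P.smul (ψ U p h) p
      rw [hψ, ← this]
    subst this
    rfl
  · intro φ
    have hconj : ∀ (U : Cᵒᵖ) (p : P.P.obj.obj U) (h h' : H.obj.obj U),
        P.smul (φ.φ (P.smul (φ.φ p h) p) h') (P.smul (φ.φ p h) p) = P.smul (φ.φ p h * φ.φ p h') p := by
      intro U p h h'
      rw [φ.φ_smul, ← P.mul_smul]
      congr 1
      group
    let R : Bitors.RightStr P H :=
      { rsmul := fun {U} p h => P.smul (φ.φ p h) p
        rsmul_one := fun {U} p => by rw [map_one, P.one_smul]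
        rsmul_mul := fun {U} p h h' => by
          rw [hconj, map_mul]
        map_rsmul := fun {U V} f p h => by
          rw [P.map_smul, φ.map_φ]
        smul_rsmul := fun {U} g p h => by
          rw [φ.φ_smul, ← P.mul_smul, ← P.mul_smul]
          congr 1
          group
        existsUnique_rsmul := fun {U} p q => by
          obtain ⟨g, hg, hgu⟩ := hP U p q
          refine ⟨(φ.φ p).symm g, ?_, ?_⟩
          · simp only [MulEquiv.apply_symm_apply]
            exact hg
          · intro h hh
            have := hgu _ hh
            rw [← this, MulEquiv.symm_apply_apply] }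
    refine ⟨R, fun U p h => rfl, ?_⟩
    intro ρ' hρ'
    rcases ρ' with ⟨r, h1, h2, h3, h4, h5⟩
    have : @r = @R.rsmul := by
      funext U p h
      exact hρ' U p h
    subst this
    rfl

end Groth.Agent.S15412
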