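import Groth.Statements.S15414
import Mathlib.Tactic

set_option autoImplicit false
universe w v u
open CategoryTheory Opposite
open Bitors

namespace Groth.Agent.S15414

/-- On a site, let G and H be sheaves of groups and P, P' sheaves of sets with left G-actions, simply
transitive on every set of sections, carrying right H-actions ρ, ρ' (compatible with restriction,
commuting with G, simply transitive section-wise) given by families of group isomorphisms φ, φ'
through p · h = φ_p(h) · p and p' · h = φ'_{p'}(h) · p'. Let Y be an object that covers the site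
(for every object U the arrows V → U whose source admits a morphism to Y form a covering sieve), let
p and p' be sections of P and P' over Y, let f : P → P' be a G-equivariant morphism of sheaves and g
a section of G over Y with f(p) = g · p'. Then f commutes with the right H-actions if and only if
φ_{p|V}(h) = g|_V φ'_{p'|V}(h) (g|_V)⁻¹ for every object V with a morphism to Y, along which p, p'
and g are restricted, and every section h of H over V; that is, the isomorphism family of p equals
the conjugate by g of the isomorphism family of p', as isomorphisms between the sheaves H and G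
restricted over Y. (The published statement takes P and P' to be (G, H)-bitorsors trivialised by a
section over a cover Y → S; only the simple transitivity of the G-actions on sections and the
covering property of Y enter.) -/
theorem result
    {C : Type u} [Category.{v} C] {J : GrothendieckTopology C}
    (G H : Sheaf J GrpCat.{w}) (P P' : NonAbH1.GSheaf G)
    (hP : P.IsPseudoTorsor) (hP' : P'.IsPseudoTorsor)
    (ρ : Bitors.RightStr P H) (ρ' : Bitors.RightStr P' H)
    (φ : Bitors.IsomFamily P H) (φ' : Bitors.IsomFamily P' H)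
    (hρ : ∀ (U : Cᵒᵖ) (q : P.P.obj.obj U) (h : H.obj.obj U), ρ.rsmul q h = P.smul (φ.φ q h) q)
    (hρ' : ∀ (U : Cᵒᵖ) (q : P'.P.obj.obj U) (h : H.obj.obj U), ρ'.rsmul q h = P'.smul (φ'.φ q h) q)
    (Y : C) (hY : J.CoversTop (fun _ : PUnit.{w + 1} => Y))
    (p : P.P.obj.obj (op Y)) (p' : P'.P.obj.obj (op Y)) (f : P ⟶ P') (g : G.obj.obj (op Y))
    (hg : f.hom.hom.app (op Y) p = P'.smul g p') :
    (∀ (U : Cᵒᵖ) (q : P.P.obj.obj U) (h : H.obj.obj U),
        f.hom.hom.app U (ρ.rsmul q h) = ρ'.rsmul (f.hom.hom.app U q) h) ↔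
      ∀ (V : C) (t : V ⟶ Y) (h : H.obj.obj (op V)),
        φ.φ (P.P.obj.map t.op p) h =
          G.obj.map t.op g * φ'.φ (P'.P.obj.map t.op p') h * (G.obj.map t.op g)⁻¹ := by
  have cancel' : ∀ (U : Cᵒᵖ) (q : P'.P.obj.obj U) (a b : G.obj.obj U),
      P'.smul a q = P'.smul b q → a = b :=
    fun U q a b e => (hP' U q (P'.smul b q)).unique e rfl
  have nat : ∀ {U V : Cᵒᵖ} (a : U ⟶ V) (q : P.P.obj.obj U),
      f.hom.hom.app V (P.P.obj.map a q) = P'.P.obj.map a (f.hom.hom.app U q) := by
    intro U V a q
    exact NatTrans.naturality_apply f.hom.hom a q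
  have stepA : (∀ (U : Cᵒᵖ) (q : P.P.obj.obj U) (h : H.obj.obj U),
        f.hom.hom.app U (ρ.rsmul q h) = ρ'.rsmul (f.hom.hom.app U q) h) ↔
      ∀ (U : Cᵒᵖ) (q : P.P.obj.obj U) (h : H.obj.obj U),
        φ.φ q h = φ'.φ (f.hom.hom.app U q) h := by
    constructor
    · intro hcomm U q h
      have h1 := hcomm U q h
      rw [hρ, hρ', f.map_smul] at h1
      exact cancel' U _ _ _ h1
    · intro hφ U q h
      rw [hρ, hρ', f.map_smul, hφ]
  rw [stepA]
  have hfp : ∀ (V : C) (t : V ⟶ Y), f.hom.hom.app (op V) (P.P.obj.map t.op p) =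
      P'.smul (G.obj.map t.op g) (P'.P.obj.map t.op p') := by
    intro V t
    rw [nat, hg, P'.map_smul]
  constructor
  · intro hφ V t h
    rw [hφ, hfp, φ'.φ_smul]
  · intro hR U q h
    have hsep := Sheaf.isSeparated G
    refine hsep U.unop _ (hY U.unop) _ _ ?_
    rintro V a ⟨i, ⟨t⟩⟩
    have e1 : G.obj.map a.op (φ.φ q h) = φ.φ (P.P.obj.map a.op q) (H.obj.map a.op h) :=
      φ.map_φ a.op q h
    have e2 : G.obj.map a.op (φ'.φ (f.hom.hom.app U q) h) =
        φ'.φ (f.hom.hom.app (op V) (P.P.obj.map a.op q)) (H.obj.map a.op h) := by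
      rw [nat]
      exact φ'.map_φ a.op _ h
    rw [e1, e2]
    obtain ⟨γ, hγ, -⟩ := hP (op V) (P.P.obj.map t.op p) (P.P.obj.map a.op q)
    rw [← hγ, f.map_smul, φ.φ_smul, φ'.φ_smul, hR, hfp, φ'.φ_smul]

end Groth.Agent.S15414
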