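import Groth.Statements.S15415
import Groth.Agent.H66.SL1

set_option autoImplicit false
universe u v w
open scoped TensorProduct
attribute [local instance] CSAGal.tensorAction GpH1.unitsAction
open GalCoh

namespace Groth.Agent.S15415

/-- For a central simple algebra over a field, the first Galois cohomology set of its norm-one group is
identified with the nonzero scalars modulo the reduced norms of units, by the boundary map of the
sequence norm-one units → units → nonzero scalars. Finite-level form: let k be a field, K a finite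
Galois extension of k whose Galois group acts on K ⊗_k A through the first factor, A a
finite-dimensional central simple k-algebra split by K, N the reduced norm of A over k and N_K the
reduced norm of K ⊗_k A over K. Then (i) every 1-cocycle a with values in the units of K ⊗_k A of
reduced norm one is of the form a σ = b⁻¹ · σ(b) for a unit b whose reduced norm is an element c of
kˣ; and (ii) for units b, b' of K ⊗_k A with reduced norms c, c' in kˣ, the cocycles σ ↦ b⁻¹σ(b) and
σ ↦ b'⁻¹σ(b') are cohomologous through a unit of reduced norm one if and only if c' = N(x) · c for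
some unit x of A. (Since K splits A the reduced norm N_K takes every value in kˣ, so (i) and (ii)
say that c ↦ class of b⁻¹σ(b), N_K b = c, is a well-defined bijection from kˣ/N(Aˣ) onto the
cohomology set of the norm-one units. The published statement is for the absolute Galois group of a
field of characteristic different from 2, an assumption playing no role here; this row is the
finite-level form over a splitting field.) -/
theorem result
    (k : Type u) [Field k] (K : Type v) [Field K] [Algebra k K] [FiniteDimensional k K] [IsGalois k K]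
    (A : Type w) [Ring A] [Algebra k A] [Algebra.IsCentral k A] [IsSimpleRing A] [FiniteDimensional k A]
    (hA : Curves.Splits k A K)
    (N : A →* k) (hN : CSAGal.IsRedNorm k A N)
    (NK : (K ⊗[k] A) →* K) (hNK : CSAGal.IsRedNorm K (K ⊗[k] A) NK) :
    (∀ a : GpH1.OneCocycle (K ≃ₐ[k] K) (K ⊗[k] A)ˣ, (∀ σ, NK (a σ : K ⊗[k] A) = 1) →
        ∃ (c : kˣ) (b : (K ⊗[k] A)ˣ), NK (b : K ⊗[k] A) = algebraMap k K (c : k) ∧
          ∀ σ : K ≃ₐ[k] K, a σ = b⁻¹ * σ • b) ∧
    (∀ (c c' : kˣ) (b b' : (K ⊗[k] A)ˣ),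
        NK (b : K ⊗[k] A) = algebraMap k K (c : k) → NK (b' : K ⊗[k] A) = algebraMap k K (c' : k) →
        ((∃ s : (K ⊗[k] A)ˣ, NK (s : K ⊗[k] A) = 1 ∧
            ∀ σ : K ≃ₐ[k] K, b'⁻¹ * σ • b' = s⁻¹ * (b⁻¹ * σ • b) * σ • s) ↔
          ∃ x : Aˣ, (c' : k) = N (x : A) * (c : k))) := by
  classical
  obtain ⟨n, hn0, ⟨ψ⟩⟩ := hA
  have hsmul := Groth.Agent.H66.SL1.NK_smul NK hNK ψ
  have h1x := Groth.Agent.H66.SL1.NK_one_tmul N hN NK hNK ψ
  have hinv : ∀ b : (K ⊗[k] A)ˣ, NK ((b⁻¹ : (K ⊗[k] A)ˣ) : K ⊗[k] A) * NK (b : K ⊗[k] A) = 1 := by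
    intro b
    rw [← map_mul, Units.inv_mul, map_one]
  have hinv' : ∀ b : (K ⊗[k] A)ˣ, NK (b : K ⊗[k] A) * NK ((b⁻¹ : (K ⊗[k] A)ˣ) : K ⊗[k] A) = 1 := by
    intro b
    rw [← map_mul, Units.mul_inv, map_one]
  have hne : ∀ b : (K ⊗[k] A)ˣ, NK (b : K ⊗[k] A) ≠ 0 := by
    intro b h0
    have := hinv b
    rw [h0, mul_zero] at this
    exact zero_ne_one this
  have hval_smul : ∀ (σ : K ≃ₐ[k] K) (b : (K ⊗[k] A)ˣ),
      ((σ • b : (K ⊗[k] A)ˣ) : K ⊗[k] A) = σ • (b : K ⊗[k] A) := fun _ _ => rfl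
  refine ⟨?_, ?_⟩
  · intro a ha
    have htriv := Groth.Agent.H66.H90Alg.h1_trivial (k := k) (K := K) (A := A) a.cl
    change a.cl = (GpH1.OneCocycle.trivial : GpH1.OneCocycle (K ≃ₐ[k] K) (K ⊗[k] A)ˣ).cl at htriv
    rw [GpH1.OneCocycle.cl_eq_cl_iff] at htriv
    obtain ⟨b, hb⟩ := htriv
    have hb' : ∀ σ : K ≃ₐ[k] K, a σ = b⁻¹ * σ • b := by
      intro σ
      have := hb σ
      change a σ = b⁻¹ * 1 * σ • b at this
      rw [mul_one] at this
      exact this
    have hfix : ∀ σ : K ≃ₐ[k] K, σ (NK (b : K ⊗[k] A)) = NK (b : K ⊗[k] A) := by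
      intro σ
      have h2 := ha σ
      rw [hb' σ, Units.val_mul, map_mul, hval_smul, hsmul] at h2
      calc σ (NK (b : K ⊗[k] A))
          = NK (b : K ⊗[k] A) * (NK ((b⁻¹ : (K ⊗[k] A)ˣ) : K ⊗[k] A) * σ (NK (b : K ⊗[k] A))) := by
            rw [← mul_assoc, hinv', one_mul]
        _ = NK (b : K ⊗[k] A) := by rw [h2, mul_one]
    obtain ⟨c0, hc0⟩ := (IsGalois.mem_range_algebraMap_iff_fixed (NK (b : K ⊗[k] A))).mpr hfix
    have hc0ne : c0 ≠ 0 := by
      rintro rfl
      rw [map_zero] at hc0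
      exact hne b hc0.symm
    exact ⟨Units.mk0 c0 hc0ne, b, hc0.symm, hb'⟩
  · intro c c' b b' hb hb'
    constructor
    · rintro ⟨s, hs, hrel⟩
      -- y = b s b'⁻¹ is fixed
      have hfix : ∀ σ : K ≃ₐ[k] K, σ • ((b * s * b'⁻¹ : (K ⊗[k] A)ˣ) : K ⊗[k] A) =
          ((b * s * b'⁻¹ : (K ⊗[k] A)ˣ) : K ⊗[k] A) := by
        intro σ
        rw [← hval_smul]
        congr 1
        have h1 : σ • b' = b' * s⁻¹ * b⁻¹ * σ • b * σ • s := by
          have := hrel σ
          calc σ • b' = b' * (b'⁻¹ * σ • b') := by group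
            _ = b' * (s⁻¹ * (b⁻¹ * σ • b) * σ • s) := by rw [this]
            _ = b' * s⁻¹ * b⁻¹ * σ • b * σ • s := by group
        rw [smul_mul', smul_mul', smul_inv', h1]
        group
      obtain ⟨x, hx⟩ := Groth.Agent.H66.SL1.exists_unit_of_fixed (b * s * b'⁻¹) hfix
      have h2 : NK (((b * s * b'⁻¹ : (K ⊗[k] A)ˣ)) : K ⊗[k] A) = algebraMap k K (N (x : A)) := by
        rw [hx, h1x]
      rw [Units.val_mul, Units.val_mul, map_mul, map_mul, hs, mul_one, hb] at h2
      -- c * NK(b'⁻¹) = N x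
      have h3 : algebraMap k K (c : k) = algebraMap k K (N (x : A)) * algebraMap k K (c' : k) := by
        rw [← h2, ← hb', mul_assoc, hinv, mul_one]
      have h4 : (c : k) = N (x : A) * (c' : k) := by
        apply (algebraMap k K).injective
        rw [map_mul]
        exact h3
      refine ⟨x⁻¹, ?_⟩
      have h5 : N ((x⁻¹ : Aˣ) : A) * N (x : A) = 1 := by
        rw [← map_mul, Units.inv_mul, map_one]
      rw [h4, ← mul_assoc, h5, one_mul]
    · rintro ⟨x, hx⟩
      -- s = b⁻¹ (1 ⊗ x⁻¹) b'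
      let X : (K ⊗[k] A)ˣ := Units.map
        (Algebra.TensorProduct.includeRight : A →ₐ[k] K ⊗[k] A).toRingHom.toMonoidHom x
      have hXval : (X : K ⊗[k] A) = (1 : K) ⊗ₜ[k] (x : A) := rfl
      have hXfix : ∀ σ : K ≃ₐ[k] K, σ • X = X := by
        intro σ
        apply Units.ext
        rw [hval_smul, hXval, Groth.Agent.H66.smul_tmul_gal, map_one]
      have hNX : NK (X : K ⊗[k] A) = algebraMap k K (N (x : A)) := by rw [hXval, h1x]
      refine ⟨b⁻¹ * X⁻¹ * b', ?_, ?_⟩
      · rw [Units.val_mul, Units.val_mul, map_mul, map_mul, hb']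
        have h6 : NK ((X⁻¹ : (K ⊗[k] A)ˣ) : K ⊗[k] A) * algebraMap k K (N (x : A)) = 1 := by
          rw [← hNX]; exact hinv X
        have h7 : NK ((b⁻¹ : (K ⊗[k] A)ˣ) : K ⊗[k] A) * algebraMap k K (c : k) = 1 := by
          rw [← hb]; exact hinv b
        rw [hx, map_mul]
        calc NK ((b⁻¹ : (K ⊗[k] A)ˣ) : K ⊗[k] A) * NK ((X⁻¹ : (K ⊗[k] A)ˣ) : K ⊗[k] A) *
              (algebraMap k K (N (x : A)) * algebraMap k K (c : k))
            = (NK ((X⁻¹ : (K ⊗[k] A)ˣ) : K ⊗[k] A) * algebraMap k K (N (x : A))) *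
              (NK ((b⁻¹ : (K ⊗[k] A)ˣ) : K ⊗[k] A) * algebraMap k K (c : k)) := by ring
          _ = 1 := by rw [h6, h7, mul_one]
      · intro σ
        rw [smul_mul', smul_mul', smul_inv', smul_inv', hXfix σ]
        group

end Groth.Agent.S15415
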