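import Groth.Statements.S15419
import Groth.Agent.H98.GrStar.QuasiReg
import Groth.Agent.H98.GrStar.ArtinBounded
import Groth.Agent.H98.GrStar.AsGr
import Groth.Agent.H98.GrStar.EndDeg

set_option autoImplicit false
universe u
open GrLC

namespace Groth.Agent.S15419

/-- Let k be a field, S = k[x_0, …, x_r] graded by degree, 𝔪 = (x_0, …, x_r), M a finitely generated
ℤ-graded S-module and x a linear form (x ∈ S_1) that is quasi-regular on M: the submodule of
elements of M killed by x has finite length. Let N = M/xM, given as a graded module with a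
surjective degree-preserving S-linear map π : M → N whose kernel is xM; graded local cohomology of M
and of N is computed from *injective resolutions in the graded category. If M is weakly d-regular,
that is H^i_𝔪(M) vanishes in degree d − i + 1 for every i > 0, then N is weakly d-regular. -/
theorem result (k : Type u) [Field k] (r : ℕ)
    (M : Type u) [AddCommGroup M] [Module k M] [Module (MvPolynomial (Fin (r + 1)) k) M]
    [IsScalarTower k (MvPolynomial (Fin (r + 1)) k) M] [Module.Finite (MvPolynomial (Fin (r + 1)) k) M]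
    (ℳ : ℤ → Submodule k M) [DirectSum.Decomposition ℳ] [SetLike.GradedSMul (GrSyz.stdGr k (Fin (r + 1))) ℳ]
    (x : MvPolynomial (Fin (r + 1)) k) (hx : x ∈ GrSyz.stdGr k (Fin (r + 1)) 1)
    (hq : IsFiniteLength (MvPolynomial (Fin (r + 1)) k) ↥(Submodule.torsionBy (MvPolynomial (Fin (r + 1)) k) M x))
    (N : Type u) [AddCommGroup N] [Module k N] [Module (MvPolynomial (Fin (r + 1)) k) N]
    [IsScalarTower k (MvPolynomial (Fin (r + 1)) k) N] [Module.Finite (MvPolynomial (Fin (r + 1)) k) N]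
    (𝒩 : ℤ → Submodule k N) [DirectSum.Decomposition 𝒩] [SetLike.GradedSMul (GrSyz.stdGr k (Fin (r + 1))) 𝒩]
    (π : M →ₗ[MvPolynomial (Fin (r + 1)) k] N) (hπ : Function.Surjective π) (hπg : GrLC.IsGrHom ℳ 𝒩 π)
    (hker : LinearMap.ker π = LinearMap.range (x • (LinearMap.id : M →ₗ[MvPolynomial (Fin (r + 1)) k] M)))
    (E : GrLC.StarInjRes (GrSyz.stdGr k (Fin (r + 1))) ℳ) (E' : GrLC.StarInjRes (GrSyz.stdGr k (Fin (r + 1))) 𝒩) (d : ℤ)
    (hM : ∀ i : ℕ, 0 < i → E.Hcomp (GrSyz.irrel (GrSyz.stdGr k (Fin (r + 1)))) i (d - (i : ℤ) + 1) = ⊥) (i : ℕ) (hi : 0 < i) :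
    E'.Hcomp (GrSyz.irrel (GrSyz.stdGr k (Fin (r + 1)))) i (d - (i : ℤ) + 1) = ⊥ := by
  classical
  have hpos : ∀ n : ℤ, n < 0 → ∀ p ∈ GrSyz.stdGr k (Fin (r + 1)) n, p = 0 :=
    fun n hn p hp => Groth.Agent.H98.GrStar.stdGr_neg k (Fin (r + 1)) n hn p hp
  have ha := Groth.Agent.H98.GrStar.irrel_toIdeal (GrSyz.stdGr k (Fin (r + 1)))
  have hart : IsArtinian (MvPolynomial (Fin (r + 1)) k)
      ↥(Submodule.torsionBy (MvPolynomial (Fin (r + 1)) k) M x) :=
    (isFiniteLength_iff_isNoetherian_isArtinian.1 hq).2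
  obtain ⟨n₀, hn₀⟩ := Groth.Agent.H98.GrStar.bounded_of_isArtinian (GrSyz.stdGr k (Fin (r + 1)))
    hpos (Groth.Agent.H98.GrStar.asGr ℳ)
    (Submodule.torsionBy (MvPolynomial (Fin (r + 1)) k) M x)
  have hgam := Groth.Agent.H98.GrStar.gam_eq_top_of_bounded (GrSyz.stdGr k (Fin (r + 1))) hpos
    (Groth.Agent.H98.GrStar.Kg (ℳ := Groth.Agent.H98.GrStar.asGr ℳ) x hx).gr
    (GrSyz.irrel (GrSyz.stdGr k (Fin (r + 1)))).toIdeal ha n₀
    (fun n hn y hy => Subtype.ext (hn₀ n hn y.1 y.2 hy))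
  have hK : ∀ m ∈ Submodule.torsionBy (MvPolynomial (Fin (r + 1)) k) M x,
      m ∈ GrLC.gam (GrSyz.irrel (GrSyz.stdGr k (Fin (r + 1)))).toIdeal M := by
    intro m hm
    have h1 : ∀ y : (Groth.Agent.H98.GrStar.Kg (ℳ := Groth.Agent.H98.GrStar.asGr ℳ) x hx).carrier,
        y ∈ GrLC.gam (GrSyz.irrel (GrSyz.stdGr k (Fin (r + 1)))).toIdeal
          (Groth.Agent.H98.GrStar.Kg (ℳ := Groth.Agent.H98.GrStar.asGr ℳ) x hx).carrier := by
      intro y
      rw [hgam]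
      trivial
    obtain ⟨j, hj⟩ := h1 ⟨m, hm⟩
    exact ⟨j, fun c hc => congrArg Subtype.val (hj c hc)⟩
  have hπg' : GrLC.IsGrHom (Groth.Agent.H98.GrStar.asGr ℳ) (Groth.Agent.H98.GrStar.asGr 𝒩) π :=
    fun g m hm => hπg g m hm
  have h1 : (Groth.Agent.H98.GrStar.asRes E).Hgr (GrSyz.irrel (GrSyz.stdGr k (Fin (r + 1)))) i
      (d - (i : ℤ) + 1) = ⊥ :=
    (Groth.Agent.H98.GrStar.Hgr_eq_bot_iff _ _ _ _).2 (hM i hi)
  have h2 : (Groth.Agent.H98.GrStar.asRes E).Hgr (GrSyz.irrel (GrSyz.stdGr k (Fin (r + 1)))) (i + 1)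
      (d - (i : ℤ) + 1 - 1) = ⊥ := by
    have h3 := hM (i + 1) (by omega)
    have h4 : d - ((i + 1 : ℕ) : ℤ) + 1 = d - (i : ℤ) + 1 - 1 := by push_cast; ring
    rw [h4] at h3
    exact (Groth.Agent.H98.GrStar.Hgr_eq_bot_iff _ _ _ _).2 h3
  have h5 := Groth.Agent.H98.GrStar.Hgr_quot_eq_bot (GrSyz.irrel (GrSyz.stdGr k (Fin (r + 1)))) x hx hK
    π hπ hπg' hker (Groth.Agent.H98.GrStar.asRes E) (Groth.Agent.H98.GrStar.asRes E') i
    (d - (i : ℤ) + 1) h1 h2
  exact (Groth.Agent.H98.GrStar.Hgr_eq_bot_iff (Groth.Agent.H98.GrStar.asRes E') _ _ _).1 h5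

end Groth.Agent.S15419
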