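import Groth.Statements.S15420
-- import your own Groth.Agent.* helpers here
import Groth.Agent.H66.GrRegQuot
import Groth.Agent.H66.StdGrIrrel
import Groth.Agent.H98.GrStar.ArtinBounded
import Groth.Agent.H98.GrStar.AsGr
import Groth.Agent.H98.GrStar.EndDeg

set_option autoImplicit false
universe u
open GrLC

namespace Groth.Agent.S15420

/-- Let k be a field, S = k[x_0, …, x_r] graded by degree, 𝔪 = (x_0, …, x_r), M a finitely generated
ℤ-graded S-module, x ∈ S_1 a linear form quasi-regular on M (the elements of M killed by x form a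
submodule of finite length), and N = M/xM, given as a graded module with a surjective
degree-preserving S-linear map π : M → N with kernel xM; graded local cohomology is computed from
*injective resolutions in the graded category. Call a module d-regular when H^0_𝔪 of it has no
nonzero piece in degrees above d and H^i_𝔪 of it vanishes in degree d − i + 1 for every i > 0. Then
M is d-regular if and only if N is d-regular and H^0_𝔪(M) has no nonzero piece in degrees above d. -/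
theorem result (k : Type u) [Field k] (r : ℕ)
    (M : Type u) [AddCommGroup M] [Module k M] [Module (MvPolynomial (Fin (r + 1)) k) M]
    [IsScalarTower k (MvPolynomial (Fin (r + 1)) k) M] [Module.Finite (MvPolynomial (Fin (r + 1)) k) M]
    (ℳ : ℤ → Submodule k M) [DirectSum.Decomposition ℳ] [SetLike.GradedSMul (GrSyz.stdGr k (Fin (r + 1))) ℳ]
    (x : MvPolynomial (Fin (r + 1)) k) (hx : x ∈ GrSyz.stdGr k (Fin (r + 1)) 1)
    (hq : IsFiniteLength (MvPolynomial (Fin (r + 1)) k) ↥(Submodule.torsionBy (MvPolynomial (Fin (r + 1)) k) M x))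
    (N : Type u) [AddCommGroup N] [Module k N] [Module (MvPolynomial (Fin (r + 1)) k) N]
    [IsScalarTower k (MvPolynomial (Fin (r + 1)) k) N] [Module.Finite (MvPolynomial (Fin (r + 1)) k) N]
    (𝒩 : ℤ → Submodule k N) [DirectSum.Decomposition 𝒩] [SetLike.GradedSMul (GrSyz.stdGr k (Fin (r + 1))) 𝒩]
    (π : M →ₗ[MvPolynomial (Fin (r + 1)) k] N) (hπ : Function.Surjective π) (hπg : GrLC.IsGrHom ℳ 𝒩 π)
    (hker : LinearMap.ker π = LinearMap.range (x • (LinearMap.id : M →ₗ[MvPolynomial (Fin (r + 1)) k] M)))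
    (E : GrLC.StarInjRes (GrSyz.stdGr k (Fin (r + 1))) ℳ) (E' : GrLC.StarInjRes (GrSyz.stdGr k (Fin (r + 1))) 𝒩) (d : ℤ) :
    (GrLC.endDeg (E.Hgr (GrSyz.irrel (GrSyz.stdGr k (Fin (r + 1)))) 0) ≤ ((d : WithTop ℤ) : WithBot (WithTop ℤ)) ∧ ∀ i : ℕ, 0 < i → E.Hcomp (GrSyz.irrel (GrSyz.stdGr k (Fin (r + 1)))) i (d - (i : ℤ) + 1) = ⊥) ↔
      ((GrLC.endDeg (E'.Hgr (GrSyz.irrel (GrSyz.stdGr k (Fin (r + 1)))) 0) ≤ ((d : WithTop ℤ) : WithBot (WithTop ℤ)) ∧ ∀ i : ℕ, 0 < i → E'.Hcomp (GrSyz.irrel (GrSyz.stdGr k (Fin (r + 1)))) i (d - (i : ℤ) + 1) = ⊥) ∧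
        GrLC.endDeg (E.Hgr (GrSyz.irrel (GrSyz.stdGr k (Fin (r + 1)))) 0) ≤ ((d : WithTop ℤ) : WithBot (WithTop ℤ))) := by
  classical
  have hpos : ∀ n : ℤ, n < 0 → ∀ p ∈ GrSyz.stdGr k (Fin (r + 1)) n, p = 0 :=
    fun n hn p hp => Groth.Agent.H98.GrStar.stdGr_neg k (Fin (r + 1)) n hn p hp
  have ha := Groth.Agent.H98.GrStar.irrel_toIdeal (GrSyz.stdGr k (Fin (r + 1)))
  have hhom := Groth.Agent.H66.StdGrIrrel.irrel_stdGr_toIdeal k (Fin (r + 1))
  have hart : IsArtinian (MvPolynomial (Fin (r + 1)) k)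
      ↥(Submodule.torsionBy (MvPolynomial (Fin (r + 1)) k) M x) :=
    (isFiniteLength_iff_isNoetherian_isArtinian.1 hq).2
  obtain ⟨n₀, hn₀⟩ := Groth.Agent.H98.GrStar.bounded_of_isArtinian (GrSyz.stdGr k (Fin (r + 1)))
    hpos (Groth.Agent.H98.GrStar.asGr ℳ)
    (Submodule.torsionBy (MvPolynomial (Fin (r + 1)) k) M x)
  have hgam := Groth.Agent.H98.GrStar.gam_eq_top_of_bounded (GrSyz.stdGr k (Fin (r + 1))) hpos
    (Groth.Agent.H98.GrStar.Kg (ℳ := Groth.Agent.H98.GrStar.asGr ℳ) x hx).gr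
    (GrSyz.irrel (GrSyz.stdGr k (Fin (r + 1)))).toIdeal ha n₀
    (fun n hn y hy => Subtype.ext (hn₀ n hn y.1 y.2 hy))
  have hK : ∀ m ∈ Submodule.torsionBy (MvPolynomial (Fin (r + 1)) k) M x,
      m ∈ GrLC.gam (GrSyz.irrel (GrSyz.stdGr k (Fin (r + 1)))).toIdeal M := by
    intro m hm
    have h1 : ∀ y : (Groth.Agent.H98.GrStar.Kg (ℳ := Groth.Agent.H98.GrStar.asGr ℳ) x hx).carrier,
        y ∈ GrLC.gam (GrSyz.irrel (GrSyz.stdGr k (Fin (r + 1)))).toIdeal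
          (Groth.Agent.H98.GrStar.Kg (ℳ := Groth.Agent.H98.GrStar.asGr ℳ) x hx).carrier := by
      intro y
      rw [hgam]
      trivial
    obtain ⟨j, hj⟩ := h1 ⟨m, hm⟩
    exact ⟨j, fun c hc => congrArg Subtype.val (hj c hc)⟩
  have hπg' : GrLC.IsGrHom (Groth.Agent.H98.GrStar.asGr ℳ) (Groth.Agent.H98.GrStar.asGr 𝒩) π :=
    fun g m hm => hπg g m hm
  have key := Groth.Agent.H66.GrRegQuot.dRegular_iff
    (ℳ := Groth.Agent.H98.GrStar.asGr ℳ) (𝒩 := Groth.Agent.H98.GrStar.asGr 𝒩)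
    (GrSyz.irrel (GrSyz.stdGr k (Fin (r + 1)))) x hx hK π hπ hπg' hker hpos ha hhom d
  -- translation between the two formulations
  have tr0M : (∀ e : ℤ, d < e → Groth.Agent.H66.GrVanish.VanishAt
      (GrSyz.irrel (GrSyz.stdGr k (Fin (r + 1))))
      (GrLC.GMod.of (GrSyz.stdGr k (Fin (r + 1))) M (Groth.Agent.H98.GrStar.asGr ℳ)) 0 e) ↔
      GrLC.endDeg (E.Hgr (GrSyz.irrel (GrSyz.stdGr k (Fin (r + 1)))) 0) ≤
        ((d : WithTop ℤ) : WithBot (WithTop ℤ)) := by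
    constructor
    · intro h
      refine Groth.Agent.H98.GrStar.endDeg_le_of_forall _ d (fun n hn => ?_)
      rw [Groth.Agent.H98.GrStar.Hgr_eq_bot_iff]
      exact (Groth.Agent.H66.GrVanish.vanishAt_iff_Hcomp _ _ 0 n
        (Groth.Agent.H98.GrStar.asRes E)).1 (h n hn)
    · intro h e he
      apply (Groth.Agent.H66.GrVanish.vanishAt_iff_Hcomp _ _ 0 e
        (Groth.Agent.H98.GrStar.asRes E)).2
      have h1 := Groth.Agent.H98.GrStar.eq_bot_of_endDeg_add_le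
        (E.Hgr (GrSyz.irrel (GrSyz.stdGr k (Fin (r + 1)))) 0) 0 d e (by simpa using h) (by omega)
      exact (Groth.Agent.H98.GrStar.Hgr_eq_bot_iff E _ _ _).1 h1
  have tr0N : (∀ e : ℤ, d < e → Groth.Agent.H66.GrVanish.VanishAt
      (GrSyz.irrel (GrSyz.stdGr k (Fin (r + 1))))
      (GrLC.GMod.of (GrSyz.stdGr k (Fin (r + 1))) N (Groth.Agent.H98.GrStar.asGr 𝒩)) 0 e) ↔
      GrLC.endDeg (E'.Hgr (GrSyz.irrel (GrSyz.stdGr k (Fin (r + 1)))) 0) ≤
        ((d : WithTop ℤ) : WithBot (WithTop ℤ)) := by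
    constructor
    · intro h
      refine Groth.Agent.H98.GrStar.endDeg_le_of_forall _ d (fun n hn => ?_)
      rw [Groth.Agent.H98.GrStar.Hgr_eq_bot_iff]
      exact (Groth.Agent.H66.GrVanish.vanishAt_iff_Hcomp _ _ 0 n
        (Groth.Agent.H98.GrStar.asRes E')).1 (h n hn)
    · intro h e he
      apply (Groth.Agent.H66.GrVanish.vanishAt_iff_Hcomp _ _ 0 e
        (Groth.Agent.H98.GrStar.asRes E')).2
      have h1 := Groth.Agent.H98.GrStar.eq_bot_of_endDeg_add_le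
        (E'.Hgr (GrSyz.irrel (GrSyz.stdGr k (Fin (r + 1)))) 0) 0 d e (by simpa using h) (by omega)
      exact (Groth.Agent.H98.GrStar.Hgr_eq_bot_iff E' _ _ _).1 h1
  have trM : (∀ i : ℕ, 0 < i → Groth.Agent.H66.GrVanish.VanishAt
      (GrSyz.irrel (GrSyz.stdGr k (Fin (r + 1))))
      (GrLC.GMod.of (GrSyz.stdGr k (Fin (r + 1))) M (Groth.Agent.H98.GrStar.asGr ℳ)) i
        (d - (i : ℤ) + 1)) ↔
      ∀ i : ℕ, 0 < i → E.Hcomp (GrSyz.irrel (GrSyz.stdGr k (Fin (r + 1)))) i (d - (i : ℤ) + 1) = ⊥ :=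
    ⟨fun h i hi => (Groth.Agent.H66.GrVanish.vanishAt_iff_Hcomp _ _ i _
      (Groth.Agent.H98.GrStar.asRes E)).1 (h i hi),
     fun h i hi => (Groth.Agent.H66.GrVanish.vanishAt_iff_Hcomp _ _ i _
      (Groth.Agent.H98.GrStar.asRes E)).2 (h i hi)⟩
  have trN : (∀ i : ℕ, 0 < i → Groth.Agent.H66.GrVanish.VanishAt
      (GrSyz.irrel (GrSyz.stdGr k (Fin (r + 1))))
      (GrLC.GMod.of (GrSyz.stdGr k (Fin (r + 1))) N (Groth.Agent.H98.GrStar.asGr 𝒩)) i
        (d - (i : ℤ) + 1)) ↔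
      ∀ i : ℕ, 0 < i → E'.Hcomp (GrSyz.irrel (GrSyz.stdGr k (Fin (r + 1)))) i (d - (i : ℤ) + 1) = ⊥ :=
    ⟨fun h i hi => (Groth.Agent.H66.GrVanish.vanishAt_iff_Hcomp _ _ i _
      (Groth.Agent.H98.GrStar.asRes E')).1 (h i hi),
     fun h i hi => (Groth.Agent.H66.GrVanish.vanishAt_iff_Hcomp _ _ i _
      (Groth.Agent.H98.GrStar.asRes E')).2 (h i hi)⟩
  rw [← tr0M, ← tr0N, ← trM, ← trN]
  exact key

end Groth.Agent.S15420
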