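import Groth.Statements.S15421
-- import your own Groth.Agent.* helpers here
import Groth.Agent.H66.PolyRegLE
import Groth.Agent.H66.GrRegQuot2
import Groth.Agent.H98.GrStar.ArtinBounded

set_option autoImplicit false
universe u
open GrSyz

namespace Groth.Agent.S15421

/-- Let k be a field, S = k[x_0, …, x_r] graded by degree, 𝔪 = (x_0, …, x_r), M a finitely generated
ℤ-graded S-module, x ∈ S_1 a linear form quasi-regular on M (the elements of M killed by x form a
submodule of finite length) and N = M/xM, given as a graded module with a surjective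
degree-preserving S-linear map π : M → N with kernel xM. Then reg M = max(end H^0_𝔪(M), reg N),
where reg is the Castelnuovo–Mumford regularity in the sense of minimal graded free resolutions (as
an extended integer, −∞ for the zero module) and end H^0_𝔪(M) is the largest degree of a nonzero
piece of the graded local cohomology H^0_𝔪(M), computed from any *injective resolution of M in the
graded category. (The published statement takes x quasi-regular without repeating that it is a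
linear form; a linear form is meant, as in the proposition it rests on.) -/
theorem result (k : Type u) [Field k] (r : ℕ)
    (M : Type u) [AddCommGroup M] [Module k M] [Module (MvPolynomial (Fin (r + 1)) k) M]
    [IsScalarTower k (MvPolynomial (Fin (r + 1)) k) M] [Module.Finite (MvPolynomial (Fin (r + 1)) k) M]
    (ℳ : ℤ → Submodule k M) [DirectSum.Decomposition ℳ] [SetLike.GradedSMul (GrSyz.stdGr k (Fin (r + 1))) ℳ]
    (x : MvPolynomial (Fin (r + 1)) k) (hx : x ∈ GrSyz.stdGr k (Fin (r + 1)) 1)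
    (hq : IsFiniteLength (MvPolynomial (Fin (r + 1)) k) ↥(Submodule.torsionBy (MvPolynomial (Fin (r + 1)) k) M x))
    (N : Type u) [AddCommGroup N] [Module k N] [Module (MvPolynomial (Fin (r + 1)) k) N]
    [IsScalarTower k (MvPolynomial (Fin (r + 1)) k) N] [Module.Finite (MvPolynomial (Fin (r + 1)) k) N]
    (𝒩 : ℤ → Submodule k N) [DirectSum.Decomposition 𝒩] [SetLike.GradedSMul (GrSyz.stdGr k (Fin (r + 1))) 𝒩]
    (π : M →ₗ[MvPolynomial (Fin (r + 1)) k] N) (hπ : Function.Surjective π) (hπg : GrLC.IsGrHom ℳ 𝒩 π)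
    (hker : LinearMap.ker π = LinearMap.range (x • (LinearMap.id : M →ₗ[MvPolynomial (Fin (r + 1)) k] M)))
    (E : GrLC.StarInjRes (GrSyz.stdGr k (Fin (r + 1))) ℳ) :
    GrSyz.reg (GrSyz.stdGr k (Fin (r + 1))) ℳ (GrSyz.irrel (GrSyz.stdGr k (Fin (r + 1)))).toIdeal =
      GrLC.endDeg (E.Hgr (GrSyz.irrel (GrSyz.stdGr k (Fin (r + 1)))) 0) ⊔ GrSyz.reg (GrSyz.stdGr k (Fin (r + 1))) 𝒩 (GrSyz.irrel (GrSyz.stdGr k (Fin (r + 1)))).toIdeal := by
  classical
  have hpos : ∀ n : ℤ, n < 0 → ∀ p ∈ GrSyz.stdGr k (Fin (r + 1)) n, p = 0 :=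
    fun n hn p hp => Groth.Agent.H98.GrStar.stdGr_neg k (Fin (r + 1)) n hn p hp
  have ha := Groth.Agent.H98.GrStar.irrel_toIdeal (GrSyz.stdGr k (Fin (r + 1)))
  have hhom := Groth.Agent.H66.StdGrIrrel.irrel_stdGr_toIdeal k (Fin (r + 1))
  have hart : IsArtinian (MvPolynomial (Fin (r + 1)) k)
      ↥(Submodule.torsionBy (MvPolynomial (Fin (r + 1)) k) M x) :=
    (isFiniteLength_iff_isNoetherian_isArtinian.1 hq).2
  obtain ⟨n₀, hn₀⟩ := Groth.Agent.H98.GrStar.bounded_of_isArtinian (GrSyz.stdGr k (Fin (r + 1)))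
    hpos (Groth.Agent.H98.GrStar.asGr ℳ)
    (Submodule.torsionBy (MvPolynomial (Fin (r + 1)) k) M x)
  have hgam := Groth.Agent.H98.GrStar.gam_eq_top_of_bounded (GrSyz.stdGr k (Fin (r + 1))) hpos
    (Groth.Agent.H98.GrStar.Kg (ℳ := Groth.Agent.H98.GrStar.asGr ℳ) x hx).gr
    (GrSyz.irrel (GrSyz.stdGr k (Fin (r + 1)))).toIdeal ha n₀
    (fun n hn y hy => Subtype.ext (hn₀ n hn y.1 y.2 hy))
  have hK : ∀ m ∈ Submodule.torsionBy (MvPolynomial (Fin (r + 1)) k) M x,
      m ∈ GrLC.gam (GrSyz.irrel (GrSyz.stdGr k (Fin (r + 1)))).toIdeal M := by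
    intro m hm
    have h1 : ∀ y : (Groth.Agent.H98.GrStar.Kg (ℳ := Groth.Agent.H98.GrStar.asGr ℳ) x hx).carrier,
        y ∈ GrLC.gam (GrSyz.irrel (GrSyz.stdGr k (Fin (r + 1)))).toIdeal
          (Groth.Agent.H98.GrStar.Kg (ℳ := Groth.Agent.H98.GrStar.asGr ℳ) x hx).carrier := by
      intro y
      rw [hgam]
      trivial
    obtain ⟨j, hj⟩ := h1 ⟨m, hm⟩
    exact ⟨j, fun c hc => congrArg Subtype.val (hj c hc)⟩
  have hπg' : GrLC.IsGrHom (Groth.Agent.H98.GrStar.asGr ℳ) (Groth.Agent.H98.GrStar.asGr 𝒩) π :=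
    fun g m hm => hπg g m hm
  -- the regularity of `N` through a resolution
  let EN := Groth.Agent.H98.GrStar.res (GrSyz.stdGr k (Fin (r + 1)))
    (Groth.Agent.H66.PolyRegLE.XM k r 𝒩).gr
  have hN : GrSyz.reg (GrSyz.stdGr k (Fin (r + 1))) 𝒩
      (GrSyz.irrel (GrSyz.stdGr k (Fin (r + 1)))).toIdeal =
      ⨆ i : ℕ, (GrLC.endDeg (EN.Hgr (GrSyz.irrel (GrSyz.stdGr k (Fin (r + 1)))) i) +
        ((((i : ℕ) : ℤ) : WithTop ℤ) : WithBot (WithTop ℤ))) := by
    apply Groth.Agent.H66.PolyRegLE.reg_eq_of_forall k r 𝒩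
    intro d
    rw [iSup_le_iff]
    exact Groth.Agent.H66.GrRegEnd.strongReg_iff_endDeg _ (Groth.Agent.H66.PolyRegLE.XM k r 𝒩) EN d
  rw [hN]
  apply Groth.Agent.H66.PolyRegLE.reg_eq_of_forall k r ℳ
  intro d
  rw [sup_le_iff, iSup_le_iff,
    ← Groth.Agent.H66.GrRegEnd.strongReg_iff_endDeg _ (Groth.Agent.H66.PolyRegLE.XM k r 𝒩) EN d,
    Groth.Agent.H66.GrRegQuot2.strongReg_quot_iff
      (ℳ := Groth.Agent.H98.GrStar.asGr ℳ) (𝒩 := Groth.Agent.H98.GrStar.asGr 𝒩)
      (GrSyz.irrel (GrSyz.stdGr k (Fin (r + 1)))) x hx hK π hπ hπg' hker hpos ha hhom d,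
    Groth.Agent.H66.GrRegQuot2.forall_vanishAt_zero_iff_endDeg _
      (GrLC.GMod.of (GrSyz.stdGr k (Fin (r + 1))) M (Groth.Agent.H98.GrStar.asGr ℳ))
      (show GrLC.StarInjRes (GrSyz.stdGr k (Fin (r + 1))) (Groth.Agent.H98.GrStar.asGr ℳ) from
        Groth.Agent.H98.GrStar.asRes E) d]
  exact and_comm

end Groth.Agent.S15421
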