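import Groth.Statements.S15422
-- import your own Groth.Agent.* helpers here
import Groth.Agent.H66.PolyRegLE
import Groth.Agent.H66.GrRegTorsion

set_option autoImplicit false
universe u
open GrSyz

namespace Groth.Agent.S15422

/-- Let k be a field, S = k[x_0, …, x_r] graded by degree, 𝔪 = (x_0, …, x_r) and M a finitely generated
ℤ-graded S-module of finite length. Then the Castelnuovo–Mumford regularity of M, in the sense of
minimal graded free resolutions (an extended integer, −∞ for the zero module), equals the largest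
degree d with M_d ≠ 0. -/
theorem result (k : Type u) [Field k] (r : ℕ)
    (M : Type u) [AddCommGroup M] [Module k M] [Module (MvPolynomial (Fin (r + 1)) k) M]
    [IsScalarTower k (MvPolynomial (Fin (r + 1)) k) M] [Module.Finite (MvPolynomial (Fin (r + 1)) k) M]
    (ℳ : ℤ → Submodule k M) [DirectSum.Decomposition ℳ] [SetLike.GradedSMul (GrSyz.stdGr k (Fin (r + 1))) ℳ]
    (hM : IsFiniteLength (MvPolynomial (Fin (r + 1)) k) M) :
    GrSyz.reg (GrSyz.stdGr k (Fin (r + 1))) ℳ (GrSyz.irrel (GrSyz.stdGr k (Fin (r + 1)))).toIdeal = GrLC.endDeg (fun n => (ℳ n).toAddSubgroup) := by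
  have hpos : ∀ n : ℤ, n < 0 → ∀ p ∈ GrSyz.stdGr k (Fin (r + 1)) n, p = 0 :=
    fun n hn p hp => Groth.Agent.H98.GrStar.stdGr_neg k (Fin (r + 1)) n hn p hp
  have ha := Groth.Agent.H98.GrStar.irrel_toIdeal (GrSyz.stdGr k (Fin (r + 1)))
  haveI hart : IsArtinian (MvPolynomial (Fin (r + 1)) k) (Groth.Agent.H66.PolyRegLE.XM k r ℳ).carrier :=
    (isFiniteLength_iff_isNoetherian_isArtinian.1 hM).2
  have hgam := Groth.Agent.H66.GrRegTorsion.gam_eq_top_of_isArtinian
    (GrSyz.irrel (GrSyz.stdGr k (Fin (r + 1)))) hpos ha (Groth.Agent.H66.PolyRegLE.XM k r ℳ)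
  apply Groth.Agent.H66.PolyRegLE.reg_eq_of_forall k r ℳ
  intro d
  rw [Groth.Agent.H66.GrRegTorsion.strongReg_iff_of_gam_eq_top _ _ hgam d]
  constructor
  · intro h
    refine Groth.Agent.H98.GrStar.endDeg_le_of_forall _ d (fun n hn => ?_)
    rw [AddSubgroup.eq_bot_iff_forall]
    intro m hm
    exact h n hn m hm
  · intro h e he m hm
    have h1 := Groth.Agent.H98.GrStar.eq_bot_of_endDeg_add_le
      (fun n => (ℳ n).toAddSubgroup) 0 d e (by simpa using h) (by omega)
    have h2 : m ∈ (ℳ e).toAddSubgroup := hm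
    rw [h1] at h2
    exact h2

end Groth.Agent.S15422
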