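import Groth.Statements.S15425
-- import your own Groth.Agent.* helpers here
import Groth.Agent.H66.PolyRegLE
import Groth.Agent.H66.GrRegTorsion
import Groth.Agent.H66.GrRegSeqMod
import Groth.Agent.H66.StdGrIrrel

set_option autoImplicit false
universe u
open GrSyz

namespace Groth.Agent.S15425

/-- Let k be a field, S = k[x_0, …, x_r] graded by degree, 𝔪 = (x_0, …, x_r), M a finitely generated
ℤ-graded S-module and y_1, …, y_t linear forms that form a weakly regular sequence on M (each y_j is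
a non-zerodivisor on M/(y_1, …, y_{j−1})M) with N = M/(y_1, …, y_t)M of finite length; N is given as
a graded module with a surjective degree-preserving S-linear map π : M → N whose kernel is (y_1, …,
y_t)M. Then the Castelnuovo–Mumford regularity of M in the sense of minimal graded free resolutions
equals the largest degree d with N_d ≠ 0 (−∞ when N = 0). (The published statement assumes M
Cohen–Macaulay and the regular sequence maximal; for a regular sequence of linear forms this is the
same as the quotient having finite length, the form used here.) -/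
theorem result (k : Type u) [Field k] (r : ℕ)
    (M : Type u) [AddCommGroup M] [Module k M] [Module (MvPolynomial (Fin (r + 1)) k) M]
    [IsScalarTower k (MvPolynomial (Fin (r + 1)) k) M] [Module.Finite (MvPolynomial (Fin (r + 1)) k) M]
    (ℳ : ℤ → Submodule k M) [DirectSum.Decomposition ℳ] [SetLike.GradedSMul (GrSyz.stdGr k (Fin (r + 1))) ℳ]
    (ys : List (MvPolynomial (Fin (r + 1)) k)) (hys : ∀ y ∈ ys, y ∈ GrSyz.stdGr k (Fin (r + 1)) 1)
    (hreg : RingTheory.Sequence.IsWeaklyRegular M ys)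
    (N : Type u) [AddCommGroup N] [Module k N] [Module (MvPolynomial (Fin (r + 1)) k) N]
    [IsScalarTower k (MvPolynomial (Fin (r + 1)) k) N] [Module.Finite (MvPolynomial (Fin (r + 1)) k) N]
    (𝒩 : ℤ → Submodule k N) [DirectSum.Decomposition 𝒩] [SetLike.GradedSMul (GrSyz.stdGr k (Fin (r + 1))) 𝒩]
    (π : M →ₗ[MvPolynomial (Fin (r + 1)) k] N) (hπ : Function.Surjective π) (hπg : GrLC.IsGrHom ℳ 𝒩 π)
    (hker : LinearMap.ker π = Ideal.ofList ys • (⊤ : Submodule (MvPolynomial (Fin (r + 1)) k) M))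
    (hN : IsFiniteLength (MvPolynomial (Fin (r + 1)) k) N) :
    GrSyz.reg (GrSyz.stdGr k (Fin (r + 1))) ℳ (GrSyz.irrel (GrSyz.stdGr k (Fin (r + 1)))).toIdeal = GrLC.endDeg (fun n => (𝒩 n).toAddSubgroup) := by
  have hpos : ∀ n : ℤ, n < 0 → ∀ p ∈ GrSyz.stdGr k (Fin (r + 1)) n, p = 0 :=
    fun n hn p hp => Groth.Agent.H98.GrStar.stdGr_neg k (Fin (r + 1)) n hn p hp
  have ha := Groth.Agent.H98.GrStar.irrel_toIdeal (GrSyz.stdGr k (Fin (r + 1)))
  have hhom := Groth.Agent.H66.StdGrIrrel.irrel_stdGr_toIdeal k (Fin (r + 1))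
  haveI hart : IsArtinian (MvPolynomial (Fin (r + 1)) k) (Groth.Agent.H66.PolyRegLE.XM k r 𝒩).carrier :=
    (isFiniteLength_iff_isNoetherian_isArtinian.1 hN).2
  have hgam := Groth.Agent.H66.GrRegTorsion.gam_eq_top_of_isArtinian
    (GrSyz.irrel (GrSyz.stdGr k (Fin (r + 1)))) hpos ha (Groth.Agent.H66.PolyRegLE.XM k r 𝒩)
  have hπg' : GrLC.IsGrHom (Groth.Agent.H66.PolyRegLE.XM k r ℳ).gr
      (Groth.Agent.H66.PolyRegLE.XM k r 𝒩).gr π :=
    fun g m hm => hπg g m hm
  haveI : Module.Finite (MvPolynomial (Fin (r + 1)) k) (Groth.Agent.H66.PolyRegLE.XM k r ℳ).carrier :=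
    (inferInstance : Module.Finite (MvPolynomial (Fin (r + 1)) k) M)
  apply Groth.Agent.H66.PolyRegLE.reg_eq_of_forall k r ℳ
  intro d
  rw [Groth.Agent.H66.GrRegSeqMod.strongReg_iff_of_isWeaklyRegular
    (GrSyz.irrel (GrSyz.stdGr k (Fin (r + 1)))) hpos ha hhom ys
    (Groth.Agent.H66.PolyRegLE.XM k r ℳ) hys hreg (Groth.Agent.H66.PolyRegLE.XM k r 𝒩) π hπ hπg' hker d,
    Groth.Agent.H66.GrRegTorsion.strongReg_iff_of_gam_eq_top _ _ hgam d]
  constructor
  · intro h
    refine Groth.Agent.H98.GrStar.endDeg_le_of_forall _ d (fun n hn => ?_)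
    rw [AddSubgroup.eq_bot_iff_forall]
    intro m hm
    exact h n hn m hm
  · intro h e he m hm
    have h1 := Groth.Agent.H98.GrStar.eq_bot_of_endDeg_add_le
      (fun n => (𝒩 n).toAddSubgroup) 0 d e (by simpa using h) (by omega)
    have h2 : m ∈ (𝒩 e).toAddSubgroup := hm
    rw [h1] at h2
    exact h2

end Groth.Agent.S15425
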