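import Groth.Statements.S15427
import Groth.Agent.H77.Irrel
import Groth.Agent.H77.Irredundant

set_option autoImplicit false
universe u
open GrSyz

namespace Groth.Agent.S15427

/-- Let k be a field, S = k[x_0, …, x_r] graded by degree, 𝔪 = (x_0, …, x_r), M a finitely generated
ℤ-graded S-module and F a graded free resolution of M by free modules of finite rank with chosen
homogeneous bases, written as matrices d_i : F_{i+1} → F_i together with the images aug b ∈ M of the
basis of F_0. Then F is a minimal complex (every matrix entry lies in 𝔪) if and only if every map of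
the resolution carries its basis to an irredundant (minimal) family of generators of its image: for
each b, aug b is not in the S-span of the remaining aug b', and for each i and each column of d_i,
that column is not in the S-span of the remaining columns. -/
theorem result (k : Type u) [Field k] (r : ℕ)
    (M : Type u) [AddCommGroup M] [Module k M] [Module (MvPolynomial (Fin (r + 1)) k) M]
    [IsScalarTower k (MvPolynomial (Fin (r + 1)) k) M] [Module.Finite (MvPolynomial (Fin (r + 1)) k) M]
    (ℳ : ℤ → Submodule k M) [DirectSum.Decomposition ℳ] [SetLike.GradedSMul (GrSyz.stdGr k (Fin (r + 1))) ℳ]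
    (F : GrSyz.FreeRes (GrSyz.stdGr k (Fin (r + 1))) ℳ) :
    F.IsMinimal (GrSyz.irrel (GrSyz.stdGr k (Fin (r + 1)))).toIdeal ↔
      ((∀ b : Fin (F.rk 0), F.aug b ∉ Submodule.span (MvPolynomial (Fin (r + 1)) k) (F.aug '' {b' | b' ≠ b})) ∧
        ∀ (i : ℕ) (b : Fin (F.rk (i + 1))),
          (fun a => F.d i a b) ∉ Submodule.span (MvPolynomial (Fin (r + 1)) k) ((fun b' a => F.d i a b') '' {b' | b' ≠ b})) := by
  classical
  have h1 : (1 : MvPolynomial (Fin (r + 1)) k) ∉
      (GrSyz.irrel (GrSyz.stdGr k (Fin (r + 1)))).toIdeal := by
    intro h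
    have := Groth.Agent.H77.constantCoeff_eq_zero_of_mem_irrel h
    rw [map_one] at this
    exact one_ne_zero this
  have haug : ∀ b : Fin (F.rk 0), F.augLin (Pi.single b 1) = F.aug b := by
    intro b
    rw [Fintype.linearCombination_apply_single, one_smul]
  have hcol : ∀ (i : ℕ) (b : Fin (F.rk (i + 1))),
      F.dLin i (Pi.single b 1) = fun a => F.d i a b := by
    intro i b
    rw [Matrix.mulVecLin_apply, Matrix.mulVec_single_one]
    rfl
  have haugset : ∀ b : Fin (F.rk 0), (fun b' => F.augLin (Pi.single b' 1)) '' {b' | b' ≠ b} =
      F.aug '' {b' | b' ≠ b} := by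
    intro b
    apply Set.image_congr
    intro b' _
    exact haug b'
  have hcolset : ∀ (i : ℕ) (b : Fin (F.rk (i + 1))),
      (fun b' => F.dLin i (Pi.single b' 1)) '' {b' | b' ≠ b} =
        (fun b' a => F.d i a b') '' {b' | b' ≠ b} := by
    intro i b
    apply Set.image_congr
    intro b' _
    exact hcol i b'
  constructor
  · intro hF
    have hrange : ∀ (i : ℕ) (v : Fin (F.rk i) → MvPolynomial (Fin (r + 1)) k),
        v ∈ LinearMap.range (Matrix.mulVecLin (F.d i)) → ∀ b, v b ∈
          (GrSyz.irrel (GrSyz.stdGr k (Fin (r + 1)))).toIdeal := by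
      rintro i v ⟨w, rfl⟩ b
      rw [Matrix.mulVecLin_apply]
      simp only [Matrix.mulVec, dotProduct]
      apply Ideal.sum_mem
      intro c _
      exact Ideal.mul_mem_right _ _ (hF i b c)
    constructor
    · intro b
      have := Groth.Agent.H77.not_mem_span_of_ker_le _ h1 F.augLin
        (fun v hv => hrange 0 v (F.exact_zero ▸ hv)) b
      rw [haug, haugset] at this
      exact this
    · intro i b
      have := Groth.Agent.H77.not_mem_span_of_ker_le _ h1 (F.dLin i)
        (fun v hv => hrange (i + 1) v (F.exact_succ i ▸ hv)) b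
      rw [hcol, hcolset] at this
      exact this
  · rintro ⟨hA, hD⟩
    intro i a b
    by_contra hnot
    have hu := (Groth.Agent.H77.isUnit_of_mem_stdGr_of_not_mem_irrel (F.d_mem i a b) hnot).1
    have hy : F.dLin i (Pi.single b 1) ∈ LinearMap.range (Matrix.mulVecLin (F.d i)) :=
      ⟨_, rfl⟩
    have hya : IsUnit ((F.dLin i (Pi.single b 1)) a) := by
      rw [hcol]
      exact hu
    cases i with
    | zero =>
      rw [← F.exact_zero] at hy
      have := Groth.Agent.H77.mem_span_of_isUnit F.augLin hy a hya
      rw [haug, haugset] at this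
      exact hA a this
    | succ j =>
      rw [← F.exact_succ j] at hy
      have := Groth.Agent.H77.mem_span_of_isUnit (F.dLin j) hy a hya
      rw [hcol, hcolset] at this
      exact hD j a this

end Groth.Agent.S15427
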