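import Groth.Statements.S15433
-- import your own Groth.Agent.* helpers here
import Groth.Agent.S15425
import Groth.Agent.H66.CyclicCount

set_option autoImplicit false
universe u
open GrSyz

namespace Groth.Agent.S15433

/-- Let k be a field, S = k[x_0, …, x_r] graded by degree, 𝔪 = (x_0, …, x_r), and M = S/I a graded
quotient of S, given with a surjective degree-preserving S-linear map π : S → M whose kernel I
contains no nonzero linear form. Let y_0, …, y_t be linear forms forming a weakly regular sequence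
on M (each a non-zerodivisor modulo the previous ones) and N = M/(y_0, …, y_t)M, given as a graded
module with a surjective degree-preserving S-linear map σ : M → N with kernel (y_0, …, y_t)M, and
suppose N has finite length ℓ. Then reg M + (r − t) ≤ ℓ, reg being the Castelnuovo–Mumford
regularity of M in the sense of minimal graded free resolutions. (The published statement is reg S_X
≤ deg X − codim X for an arithmetically Cohen–Macaulay subvariety X of P^r not contained in a
hyperplane; this row is the algebraic statement its proof establishes, with S_X any graded quotient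
of S by an ideal without linear forms, the maximal regular sequence of linear forms given, deg X
replaced by the length of S_X/(y_0, …, y_t)S_X and codim X by r − t, which agree with the degree and
the codimension in that situation.) -/
theorem result (k : Type u) [Field k] (r : ℕ)
    (M : Type u) [AddCommGroup M] [Module k M] [Module (MvPolynomial (Fin (r + 1)) k) M]
    [IsScalarTower k (MvPolynomial (Fin (r + 1)) k) M] [Module.Finite (MvPolynomial (Fin (r + 1)) k) M]
    (ℳ : ℤ → Submodule k M) [DirectSum.Decomposition ℳ] [SetLike.GradedSMul (GrSyz.stdGr k (Fin (r + 1))) ℳ]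
    (π : MvPolynomial (Fin (r + 1)) k →ₗ[MvPolynomial (Fin (r + 1)) k] M) (hπ : Function.Surjective π)
    (hπg : GrLC.IsGrHom (GrSyz.stdGr k (Fin (r + 1))) ℳ π)
    (hlin : ∀ x : MvPolynomial (Fin (r + 1)) k, x ∈ GrSyz.stdGr k (Fin (r + 1)) 1 → π x = 0 → x = 0)
    (ys : List (MvPolynomial (Fin (r + 1)) k)) (hys : ∀ y ∈ ys, y ∈ GrSyz.stdGr k (Fin (r + 1)) 1)
    (hreg : RingTheory.Sequence.IsWeaklyRegular M ys)
    (N : Type u) [AddCommGroup N] [Module k N] [Module (MvPolynomial (Fin (r + 1)) k) N]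
    [IsScalarTower k (MvPolynomial (Fin (r + 1)) k) N]
    (𝒩 : ℤ → Submodule k N) [DirectSum.Decomposition 𝒩] [SetLike.GradedSMul (GrSyz.stdGr k (Fin (r + 1))) 𝒩]
    (σ : M →ₗ[MvPolynomial (Fin (r + 1)) k] N) (hσ : Function.Surjective σ) (hσg : GrLC.IsGrHom ℳ 𝒩 σ)
    (hker : LinearMap.ker σ = Ideal.ofList ys • (⊤ : Submodule (MvPolynomial (Fin (r + 1)) k) M))
    (ℓ : ℕ) (hℓ : Module.length (MvPolynomial (Fin (r + 1)) k) N = (ℓ : ℕ∞)) :
    GrSyz.reg (GrSyz.stdGr k (Fin (r + 1))) ℳ (GrSyz.irrel (GrSyz.stdGr k (Fin (r + 1)))).toIdeal + ((((r : ℤ) + 1 - (ys.length : ℤ) : ℤ) : WithTop ℤ) : WithBot (WithTop ℤ)) ≤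
      (((ℓ : ℤ) : WithTop ℤ) : WithBot (WithTop ℤ)) := by
  classical
  haveI : Module.Finite (MvPolynomial (Fin (r + 1)) k) N := Module.Finite.of_surjective σ hσ
  have hN : IsFiniteLength (MvPolynomial (Fin (r + 1)) k) N := by
    rw [← Module.length_ne_top_iff, hℓ]
    exact ENat.coe_ne_top ℓ
  haveI hart : IsArtinian (MvPolynomial (Fin (r + 1)) k) N :=
    (isFiniteLength_iff_isNoetherian_isArtinian.1 hN).2
  rw [Groth.Agent.S15425.result k r M ℳ ys hys hreg N 𝒩 σ hσ hσg hker hN]
  -- the composite `S → N`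
  let τ : MvPolynomial (Fin (r + 1)) k →ₗ[MvPolynomial (Fin (r + 1)) k] N := σ ∘ₗ π
  have hτ : Function.Surjective τ := hσ.comp hπ
  have hτg : GrLC.IsGrHom (GrSyz.stdGr k (Fin (r + 1))) 𝒩 τ :=
    fun g x hx => hσg g _ (hπg g x hx)
  have hK : ∀ x ∈ GrSyz.stdGr k (Fin (r + 1)) 1, τ x = 0 →
      x ∈ Submodule.span k {y | y ∈ ys} := by
    intro x hx1 hx0
    apply Groth.Agent.H66.CyclicCount.mem_span_of_map_mem k r ℳ π hπ hπg hlin ys hys x hx1
    rw [← hker]
    exact hx0
  have key : GrLC.endDeg (fun n => (𝒩 n).toAddSubgroup) ≤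
      ((((ℓ : ℤ) - ((r : ℤ) + 1 - (ys.length : ℤ)) : ℤ) : WithTop ℤ) : WithBot (WithTop ℤ)) := by
    refine Groth.Agent.H98.GrStar.endDeg_le_of_forall _ _ (fun n hn => ?_)
    by_contra hne
    have hne' : 𝒩 n ≠ ⊥ := by
      intro h
      apply hne
      rw [h]
      rfl
    have h1 := Groth.Agent.H66.CyclicCount.add_le_length k r 𝒩 τ hτ hτg ys hK n hne'
    rw [hℓ] at h1
    have h2 : n.toNat + (r + 1) ≤ ℓ + ys.length := by exact_mod_cast h1
    have hn0 : 0 ≤ n := by
      by_contra hcon
      exact hne' (Groth.Agent.H66.CyclicCount.piece_eq_bot_of_neg k r 𝒩 τ hτ hτg n (by omega))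
    omega
  calc GrLC.endDeg (fun n => (𝒩 n).toAddSubgroup) +
        ((((r : ℤ) + 1 - (ys.length : ℤ) : ℤ) : WithTop ℤ) : WithBot (WithTop ℤ))
      ≤ ((((ℓ : ℤ) - ((r : ℤ) + 1 - (ys.length : ℤ)) : ℤ) : WithTop ℤ) : WithBot (WithTop ℤ)) +
        ((((r : ℤ) + 1 - (ys.length : ℤ) : ℤ) : WithTop ℤ) : WithBot (WithTop ℤ)) :=
        add_le_add key le_rfl
    _ = (((ℓ : ℤ) : WithTop ℤ) : WithBot (WithTop ℤ)) := by
        rw [← WithBot.coe_add, ← WithTop.coe_add, sub_add_cancel]

end Groth.Agent.S15433
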