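import Groth.Statements.S15437
import Groth.Agent.S15428
import Groth.Agent.H77.Betti

set_option autoImplicit false
universe u
open GrSyz

namespace Groth.Agent.S15437

/-- Let k be a field, S = k[x_0, …, x_r] graded by degree and M a ℤ-graded S-module with a finite graded
free resolution F of length at most m by free modules of finite rank with homogeneous bases; write
β_{i,j} for the number of basis vectors of F_i of degree j (the graded Betti numbers when F is
minimal) and B_j = Σ_{i ≤ m} (−1)^i β_{i,j}. Then for every integer d, dim_k M_d = Σ_j B_j C(r + d −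
j, r), where a binomial with d < j counts as zero and only finitely many j contribute; and the B_j
are recovered from the Hilbert function by B_j = dim_k M_j − Σ_{n < j} B_n C(r + j − n, r). (Stated
for any finite graded free resolution; the published statement takes the minimal one.) -/
theorem result (k : Type u) [Field k] (r : ℕ)
    (M : Type u) [AddCommGroup M] [Module k M] [Module (MvPolynomial (Fin (r + 1)) k) M]
    [IsScalarTower k (MvPolynomial (Fin (r + 1)) k) M] [Module.Finite (MvPolynomial (Fin (r + 1)) k) M]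
    (ℳ : ℤ → Submodule k M) [DirectSum.Decomposition ℳ] [SetLike.GradedSMul (GrSyz.stdGr k (Fin (r + 1))) ℳ]
    (F : GrSyz.FreeRes (GrSyz.stdGr k (Fin (r + 1))) ℳ) (m : ℕ) (hF : F.HasLengthLE m) :
    (∀ d : ℤ, (Module.finrank k ↥(ℳ d) : ℤ) =
        ∑ᶠ j : ℤ, (∑ i ∈ Finset.range (m + 1), (-1 : ℤ) ^ i * (F.betti i j : ℤ)) *
          (if j ≤ d then ((Nat.choose (r + (d - j).toNat) r : ℕ) : ℤ) else 0)) ∧
      ∀ j : ℤ, (∑ i ∈ Finset.range (m + 1), (-1 : ℤ) ^ i * (F.betti i j : ℤ)) =
        (Module.finrank k ↥(ℳ j) : ℤ) -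
          ∑ᶠ n : ℤ, (if n < j then (∑ i ∈ Finset.range (m + 1), (-1 : ℤ) ^ i * (F.betti i n : ℤ)) * ((Nat.choose (r + (j - n).toNat) r : ℕ) : ℤ) else 0) := by
  classical
  have part1 : ∀ d : ℤ, (Module.finrank k ↥(ℳ d) : ℤ) =
      ∑ᶠ j : ℤ, (∑ i ∈ Finset.range (m + 1), (-1 : ℤ) ^ i * (F.betti i j : ℤ)) *
        (if j ≤ d then ((Nat.choose (r + (d - j).toNat) r : ℕ) : ℤ) else 0) := by
    intro d
    rw [Groth.Agent.S15428.result k r M ℳ F m hF d]
    exact (Groth.Agent.H77.finsum_altBetti_mul F m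
      (fun j => if j ≤ d then ((Nat.choose (r + (d - j).toNat) r : ℕ) : ℤ) else 0)).symm
  refine ⟨part1, ?_⟩
  intro j
  rw [part1 j]
  set B : ℤ → ℤ := fun n => ∑ i ∈ Finset.range (m + 1), (-1 : ℤ) ^ i * (F.betti i n : ℤ) with hB
  have hB0 : ∀ n, n ∉ Groth.Agent.H77.degSet F m → B n = 0 :=
    fun n hn => Groth.Agent.H77.altBetti_eq_zero F hn
  set J : Finset ℤ := insert j (Groth.Agent.H77.degSet F m) with hJ
  have hB0' : ∀ n, n ∉ J → B n = 0 := by
    intro n hn
    apply hB0
    intro h
    exact hn (Finset.mem_insert_of_mem h)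
  have e1 : ∑ᶠ n : ℤ, B n * (if n ≤ j then ((Nat.choose (r + (j - n).toNat) r : ℕ) : ℤ) else 0) =
      ∑ n ∈ J, B n * (if n ≤ j then ((Nat.choose (r + (j - n).toNat) r : ℕ) : ℤ) else 0) := by
    apply finsum_eq_sum_of_support_subset
    intro n hn
    by_contra h
    rw [Finset.mem_coe] at h
    rw [Function.mem_support, hB0' n h, zero_mul] at hn
    exact hn rfl
  have e2 : ∑ᶠ n : ℤ, (if n < j then B n * ((Nat.choose (r + (j - n).toNat) r : ℕ) : ℤ) else 0) =
      ∑ n ∈ J, (if n < j then B n * ((Nat.choose (r + (j - n).toNat) r : ℕ) : ℤ) else 0) := by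
    apply finsum_eq_sum_of_support_subset
    intro n hn
    by_contra h
    rw [Finset.mem_coe] at h
    rw [Function.mem_support, hB0' n h, zero_mul] at hn
    simp at hn
  rw [e1, e2, ← Finset.sum_sub_distrib]
  have e3 : ∀ n ∈ J, B n * (if n ≤ j then ((Nat.choose (r + (j - n).toNat) r : ℕ) : ℤ) else 0) -
      (if n < j then B n * ((Nat.choose (r + (j - n).toNat) r : ℕ) : ℤ) else 0) =
      if n = j then B j else 0 := by
    intro n _
    rcases lt_trichotomy n j with h | h | h
    · rw [if_pos h.le, if_pos h, if_neg h.ne, sub_self]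
    · subst h
      rw [if_pos le_rfl, if_neg (lt_irrefl _), if_pos rfl]
      simp
    · rw [if_neg (not_le.mpr h), if_neg (not_lt.mpr h.le), if_neg h.ne']
      simp
  rw [Finset.sum_congr rfl e3, Finset.sum_ite_eq' J j, if_pos (Finset.mem_insert_self _ _)]

end Groth.Agent.S15437
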