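import Groth.Statements.S15442
import Groth.Agent.H77.Weil

set_option autoImplicit false
universe u v
open CategoryTheory AlgebraicGeometry
open WeilCoh

namespace Groth.Agent.S15442

/-- Let H^* be a Weil cohomology theory, with coefficient field K of characteristic zero, on nonsingular
connected projective varieties over the algebraically closed field k, and X such a variety. Then the
structure morphism K → H^0(X) is an isomorphism: c ↦ c · 1 is a bijection from K onto the degree-0
part of the cohomology ring. -/
theorem result (k : Type u) [Field k] [IsAlgClosed k] (K : Type v) [Field K] [CharZero K]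
    (T : WeilCoh.Theory k K) (X : WeilCoh.Var k) :
    Function.Bijective (fun c : K =>
      (⟨c • (1 : T.H X), (T.gr X 0).smul_mem c (SetLike.one_mem_graded (T.gr X))⟩ : ↥(T.gr X 0))) := by
  set n : ℤ := (WeilCoh.dim X.obj.left : ℤ) with hn
  have htr := T.tr_bijective X
  -- nontriviality of H X
  obtain ⟨t, ht⟩ := htr.2 (1 : K)
  have hone : (1 : T.H X) ≠ 0 := by
    intro h
    have h0 : (t : T.H X) = 0 := by rw [← mul_one (t : T.H X), h, mul_zero]
    have : (T.tr X).domRestrict (T.gr X (2 * n)) t = 0 := by
      rw [LinearMap.domRestrict_apply, h0, map_zero]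
    rw [ht] at this
    exact one_ne_zero this
  -- dimension of top degree is one
  let e : T.gr X (2 * n) ≃ₗ[K] K := LinearEquiv.ofBijective _ htr
  have hd2 : Module.finrank K (T.gr X (2 * n)) = 1 := by
    rw [e.finrank_eq, Module.finrank_self]
  have hp := T.duality X 0 (2 * n) (by ring)
  have hd0 : Module.finrank K (T.gr X 0) = 1 := by
    rw [Module.finrank_of_isPerfPair (WeilCoh.pairing K (T.gr X 0) (T.gr X (2 * n)) (T.tr X)), hd2]
  let one0 : T.gr X 0 := ⟨1, SetLike.one_mem_graded (T.gr X)⟩
  have hone0 : one0 ≠ 0 := by
    intro h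
    exact hone (congr_arg Subtype.val h)
  have hspan := (finrank_eq_one_iff_of_nonzero' one0 hone0).mp hd0
  have hfun : (fun c : K => (⟨c • (1 : T.H X),
      (T.gr X 0).smul_mem c (SetLike.one_mem_graded (T.gr X))⟩ : ↥(T.gr X 0))) = fun c => c • one0 := by
    funext c
    rfl
  rw [hfun]
  constructor
  · intro c c' hcc
    have hcc' : c • (1 : T.H X) = c' • (1 : T.H X) := congr_arg Subtype.val hcc
    have h1 : (c - c') • (1 : T.H X) = 0 := by rw [sub_smul, hcc', sub_self]
    rcases smul_eq_zero.mp h1 with h | h
    · exact sub_eq_zero.mp h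
    · exact absurd h hone
  · intro w
    exact hspan w

end Groth.Agent.S15442
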