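import Groth.Statements.S15446
import Groth.Agent.H77.Weil

set_option autoImplicit false
universe u v
open CategoryTheory AlgebraicGeometry
open WeilCoh

namespace Groth.Agent.S15446

/-- For a Weil cohomology theory H^* (coefficients in K of characteristic zero, on nonsingular connected
projective varieties over an algebraically closed field k), a morphism f : X → Y of such varieties,
α ∈ H^i(X) and γ ∈ H^j(Y), one has f_*(α ∪ f^*(γ)) = f_*(α) ∪ γ, where f_* is the push-forward
defined by Tr_Y(f_*(α) ∪ β) = Tr_X(α ∪ f^*(β)). -/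
theorem result (k : Type u) [Field k] [IsAlgClosed k] (K : Type v) [Field K] [CharZero K]
    (T : WeilCoh.Theory k K) (X Y : WeilCoh.Var k) (f : X ⟶ Y) (i j : ℤ)
    (a : ↥(T.gr X i)) (c : ↥(T.gr Y j)) :
    (T.push f (i + j) ⟨(a : T.H X) * T.pull f c, SetLike.mul_mem_graded a.2 (T.pull_mem f j c c.2)⟩ : T.H Y) =
      (T.push f i a : T.H Y) * c := by
  set dX : ℤ := (WeilCoh.dim X.obj.left : ℤ) with hdX
  set dY : ℤ := (WeilCoh.dim Y.obj.left : ℤ) with hdY
  refine Groth.Agent.H77.eq_of_tr_mul_eq T Y (i + j + 2 * dY - 2 * dX) (2 * dX - (i + j)) (by ring)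
    _ _ (Subtype.property _) ?_ ?_
  · have h1 := SetLike.mul_mem_graded (T.push f i a).2 c.2
    have e : i + 2 * dY - 2 * dX + j = i + j + 2 * dY - 2 * dX := by ring
    rw [e] at h1
    exact h1
  · intro b hb
    rw [Groth.Agent.H77.push_spec T f (i + j) _ b hb]
    have hcb : (c : T.H Y) * b ∈ T.gr Y (2 * dX - i) := by
      have h1 := SetLike.mul_mem_graded c.2 hb
      have e : j + (2 * dX - (i + j)) = 2 * dX - i := by ring
      rw [e] at h1
      exact h1
    have h2 : T.tr Y ((T.push f i a : T.H Y) * (c : T.H Y) * b) =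
        T.tr X ((a : T.H X) * T.pull f ((c : T.H Y) * b)) := by
      rw [mul_assoc, Groth.Agent.H77.push_spec T f i a _ hcb]
    rw [h2]
    have h3 : T.pull f ((c : T.H Y) * b) = T.pull f c * T.pull f b := map_mul _ _ _
    rw [h3, ← mul_assoc]

end Groth.Agent.S15446
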