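import Groth.Statements.S15449
import Groth.Agent.H77.Weil

set_option autoImplicit false
universe u v
open CategoryTheory AlgebraicGeometry
open WeilCoh

namespace Groth.Agent.S15449

/-- For a Weil cohomology theory H^* (coefficients in K of characteristic zero, on nonsingular connected
projective varieties over an algebraically closed field k), such varieties X and Y with product X ×
Y and projections p, q, and α ∈ H^i(Y): p_*(q^*(α)) = Tr_Y(α) (as a multiple of 1 ∈ H^0(X)) if i = 2
dim Y, and p_*(q^*(α)) = 0 otherwise. The product is any object Q with morphisms p : Q → X, q : Q →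
Y forming a cartesian square over Spec k; both sides are read in the total cohomology ring of X. -/
theorem result (k : Type u) [Field k] [IsAlgClosed k] (K : Type v) [Field K] [CharZero K]
    (T : WeilCoh.Theory k K) (X Y Q : WeilCoh.Var k) (p : Q ⟶ X) (q : Q ⟶ Y)
    (hQ : WeilCoh.IsProd p q) (i : ℤ) (a : ↥(T.gr Y i)) :
    (i = 2 * (WeilCoh.dim Y.obj.left : ℤ) →
      (T.push p i ⟨T.pull q a, T.pull_mem q i a a.2⟩ : T.H X) = algebraMap K (T.H X) (T.tr Y a)) ∧
    (i ≠ 2 * (WeilCoh.dim Y.obj.left : ℤ) →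
      (T.push p i ⟨T.pull q a, T.pull_mem q i a a.2⟩ : T.H X) = 0) := by
  set dX : ℤ := (WeilCoh.dim X.obj.left : ℤ) with hdX
  set dY : ℤ := (WeilCoh.dim Y.obj.left : ℤ) with hdY
  set dQ : ℤ := (WeilCoh.dim Q.obj.left : ℤ) with hdQ
  -- dimension of the product
  have hdim : dQ = dX + dY := by
    obtain ⟨a0, ha0⟩ := (T.tr_bijective X).2 (1 : K)
    obtain ⟨b0, hb0⟩ := (T.tr_bijective Y).2 (1 : K)
    have h1 := T.tr_prod p q hQ a0 b0 a0.2 b0.2
    rw [LinearMap.domRestrict_apply] at ha0 hb0
    rw [ha0, hb0, mul_one] at h1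
    have hmem : T.pull p a0 * T.pull q b0 ∈ T.gr Q (2 * dX + 2 * dY) :=
      SetLike.mul_mem_graded (T.pull_mem p _ _ a0.2) (T.pull_mem q _ _ b0.2)
    by_contra hne
    have h2 := T.tr_vanish Q (2 * dX + 2 * dY) _ hmem (by omega)
    rw [h1] at h2
    exact one_ne_zero h2
  set x : T.gr Q i := ⟨T.pull q a, T.pull_mem q i a a.2⟩ with hx
  have hpush_mem : (T.push p i x : T.H X) ∈ T.gr X (i + 2 * dX - 2 * dQ) := (T.push p i x).2
  -- key identity
  have key : ∀ b ∈ T.gr X (2 * dQ - i),
      T.tr X ((T.push p i x : T.H X) * b) = T.tr Q (T.pull q a * T.pull p b) := by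
    intro b hb
    exact Groth.Agent.H77.push_spec T p i x b hb
  constructor
  · intro hi
    have h1mem : algebraMap K (T.H X) (T.tr Y a) ∈ T.gr X (i + 2 * dX - 2 * dQ) := by
      rw [Algebra.algebraMap_eq_smul_one]
      apply Submodule.smul_mem
      exact Groth.Agent.H77.mem_gr_of_eq T X (SetLike.one_mem_graded (T.gr X)) (by omega)
    apply Groth.Agent.H77.eq_of_tr_mul_eq T X (i + 2 * dX - 2 * dQ) (2 * dQ - i) (by omega) _ _
      hpush_mem h1mem
    intro b hb
    rw [key b hb]
    have hb' : b ∈ T.gr X (2 * dX) := Groth.Agent.H77.mem_gr_of_eq T X hb (by omega)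
    have ha' : (a : T.H Y) ∈ T.gr Y (2 * dY) := Groth.Agent.H77.mem_gr_of_eq T Y a.2 hi
    have hcomm := T.gradedComm Q (2 * dY) (2 * dX) (T.pull q a) (T.pull p b)
      (T.pull_mem q _ _ ha') (T.pull_mem p _ _ hb')
    have hsign : ((-1 : K) ^ ((2 * dY).natAbs * (2 * dX).natAbs)) = 1 := by
      apply Even.neg_one_pow
      apply Even.mul_right
      rw [Int.natAbs_even]
      exact even_two_mul dY
    rw [hsign, one_smul] at hcomm
    rw [hcomm, T.tr_prod p q hQ b a hb' ha']
    rw [Algebra.algebraMap_eq_smul_one, smul_mul_assoc, one_mul, map_smul, smul_eq_mul, mul_comm]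
  · intro hi
    apply Groth.Agent.H77.eq_of_tr_mul_eq T X (i + 2 * dX - 2 * dQ) (2 * dQ - i) (by omega) _ _
      hpush_mem (Submodule.zero_mem _)
    intro b hb
    rw [key b hb, zero_mul, map_zero]
    rcases lt_or_gt_of_ne hi with hlt | hgt
    · have hbot := T.vanish X (2 * dQ - i) (Or.inr (by omega))
      rw [hbot, Submodule.mem_bot] at hb
      rw [hb, map_zero, mul_zero, map_zero]
    · have hbot := T.vanish Y i (Or.inr (by omega))
      have ha0 : (a : T.H Y) = 0 := by
        have h3 : (a : T.H Y) ∈ (⊥ : Submodule K (T.H Y)) := hbot ▸ a.2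
        exact (Submodule.mem_bot K).mp h3
      rw [ha0, map_zero, zero_mul, map_zero]

end Groth.Agent.S15449
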