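import Groth.Statements.S15488
import Mathlib

set_option autoImplicit false
universe u
open IsoNat

namespace Groth.Agent.S15488

/-- Let A be a nontrivial commutative ring, G a finite group, g an element of G of order ν and l an
element of A with l ^ ν = 1. In the free A-module of functions G → A (the regular representation, g
acting by translation v ↦ v(g·)), the submodule of v with v(g h) = l v(h) for all h is a direct
summand, free of rank |G| / ν (stated as: free, rank · ν = |G|, and a complementary submodule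
exists). (The published statement is over an arbitrary ring and also covers Hom(A^N, −) of the
regular representation, which follows; nontriviality of A is needed for the rank to be meaningful.) -/
theorem result
    (A : Type u) [CommRing A] [Nontrivial A] (G : Type u) [Group G] [Finite G]
    (g : G) (l : A) (hl : l ^ orderOf g = 1) :
    Module.Free A (LinearMap.ker (LinearMap.funLeft A A (fun h : G => g * h) - l • LinearMap.id)) ∧
      Module.finrank A (LinearMap.ker (LinearMap.funLeft A A (fun h : G => g * h) - l • LinearMap.id)) * orderOf g = Nat.card G ∧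
      ∃ E' : Submodule A (G → A), IsCompl (LinearMap.ker (LinearMap.funLeft A A (fun h : G => g * h) - l • LinearMap.id)) E' := by
  classical
  have : Fintype G := Fintype.ofFinite G
  set H : Subgroup G := Subgroup.zpowers g with hH
  have hν : 0 < orderOf g := orderOf_pos g
  set L : Aˣ := Units.ofPowEqOne l (orderOf g) hl hν.ne' with hL
  have hLval : (L : A) = l := rfl
  have hLpow : L ^ orderOf g = 1 := Units.pow_ofPowEqOne hl hν.ne'
  set T : (G → A) →ₗ[A] (G → A) := LinearMap.funLeft A A (fun h : G => g * h) with hT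
  set E : Submodule A (G → A) := LinearMap.ker (T - l • LinearMap.id) with hE
  have hmemE : ∀ v : G → A, v ∈ E ↔ ∀ h, v (g * h) = l * v h := by
    intro v
    rw [hE, LinearMap.mem_ker]
    constructor
    · intro h0 h
      have := congr_fun h0 h
      simp only [LinearMap.sub_apply, LinearMap.smul_apply, LinearMap.id_coe, id_eq, Pi.sub_apply,
        Pi.smul_apply, smul_eq_mul, Pi.zero_apply, sub_eq_zero] at this
      exact this
    · intro h0
      funext h
      simp only [LinearMap.sub_apply, LinearMap.smul_apply, LinearMap.id_coe, id_eq, Pi.sub_apply,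
        Pi.smul_apply, smul_eq_mul, Pi.zero_apply, sub_eq_zero]
      exact h0 h
  -- equal powers of g give equal powers of L
  have hLeq : ∀ k k' : ℤ, g ^ k = g ^ k' → L ^ k = L ^ k' := by
    intro k k' hkk
    have h1 : g ^ (k - k') = 1 := by rw [zpow_sub, hkk, mul_inv_cancel]
    have h2 : (orderOf g : ℤ) ∣ k - k' := orderOf_dvd_iff_zpow_eq_one.mpr h1
    obtain ⟨m, hm⟩ := h2
    have h3 : L ^ (k - k') = 1 := by
      rw [hm, zpow_mul, zpow_natCast, hLpow, one_zpow]
    have : L ^ k = L ^ (k - k') * L ^ k' := by rw [← zpow_add, sub_add_cancel]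
    rw [this, h3, one_mul]
  -- elements of E transform by powers of L
  have hzpow : ∀ v ∈ E, ∀ (k : ℤ) (x : G), v (g ^ k * x) = ((L ^ k : Aˣ) : A) * v x := by
    intro v hv k
    have hv' := (hmemE v).mp hv
    induction k using Int.induction_on with
    | zero => intro x; simp
    | succ k ih =>
      intro x
      have : g ^ ((k : ℤ) + 1) * x = g * (g ^ (k : ℤ) * x) := by
        rw [add_comm, zpow_add, zpow_one, mul_assoc]
      rw [this, hv', ih, ← mul_assoc, ← hLval, ← Units.val_mul, add_comm, zpow_add, zpow_one]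
    | pred k ih =>
      intro x
      have h1 : g * (g ^ (-(k : ℤ) - 1) * x) = g ^ (-(k : ℤ)) * x := by
        rw [← mul_assoc, ← zpow_one_add]; congr 2; ring
      have h2 := hv' (g ^ (-(k : ℤ) - 1) * x)
      rw [h1, ih] at h2
      have h3 : ((L ^ (-(k : ℤ) - 1) : Aˣ) : A) = ((L⁻¹ : Aˣ) : A) * ((L ^ (-(k : ℤ)) : Aˣ) : A) := by
        rw [← Units.val_mul, ← zpow_neg_one, ← zpow_add]; congr 2; ring
      rw [h3, mul_assoc, h2, ← mul_assoc, ← hLval, ← Units.val_mul, inv_mul_cancel, Units.val_one, one_mul]
  -- the quotient map and the exponent function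
  let q : G → G ⧸ H := fun h => ((h⁻¹ : G) : G ⧸ H)
  have hκex : ∀ h : G, ∃ k : ℤ, g ^ k = h * (q h).out := by
    intro h
    obtain ⟨h', hh'⟩ := QuotientGroup.mk_out_eq_mul H h⁻¹
    obtain ⟨k, hk⟩ := Subgroup.mem_zpowers_iff.mp h'.2
    refine ⟨k, ?_⟩
    change g ^ k = h * ((h⁻¹ : G) : G ⧸ H).out
    rw [hh', hk, mul_inv_cancel_left]
  choose κ hκ using hκex
  have hq_g : ∀ h : G, q (g * h) = q h := by
    intro h
    change (((g * h)⁻¹ : G) : G ⧸ H) = ((h⁻¹ : G) : G ⧸ H)
    rw [QuotientGroup.eq]
    have : ((g * h)⁻¹)⁻¹ * h⁻¹ = g := by group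
    rw [this]
    exact Subgroup.mem_zpowers g
  have hκ_g : ∀ h : G, L ^ κ (g * h) = L * L ^ κ h := by
    intro h
    have h1 : g ^ κ (g * h) = g ^ (1 + κ h) := by
      rw [hκ, hq_g, zpow_add, zpow_one, hκ, mul_assoc]
    rw [hLeq _ _ h1, zpow_add, zpow_one]
  let ext : (G ⧸ H → A) →ₗ[A] (G → A) :=
    { toFun := fun w h => ((L ^ κ h : Aˣ) : A) * w (q h)
      map_add' := fun w w' => by funext h; simp [mul_add]
      map_smul' := fun c w => by funext h; simp; ring }
  let res : (G → A) →ₗ[A] (G ⧸ H → A) :=
    { toFun := fun v q' => v ((q'.out)⁻¹)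
      map_add' := fun v v' => rfl
      map_smul' := fun c v => rfl }
  have hext_mem : ∀ w, ext w ∈ E := by
    intro w
    rw [hmemE]
    intro h
    change ((L ^ κ (g * h) : Aˣ) : A) * w (q (g * h)) = l * (((L ^ κ h : Aˣ) : A) * w (q h))
    rw [hκ_g, hq_g, Units.val_mul, hLval, mul_assoc]
  have hq_out : ∀ q' : G ⧸ H, q ((q'.out)⁻¹) = q' := by
    intro q'
    change (((q'.out)⁻¹⁻¹ : G) : G ⧸ H) = q'
    rw [inv_inv]
    exact QuotientGroup.out_eq' q'
  have hres_ext : ∀ w, res (ext w) = w := by
    intro w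
    funext q'
    change ((L ^ κ ((q'.out)⁻¹) : Aˣ) : A) * w (q ((q'.out)⁻¹)) = w q'
    have h1 : g ^ κ ((q'.out)⁻¹) = g ^ (0 : ℤ) := by
      rw [hκ, hq_out, inv_mul_cancel, zpow_zero]
    rw [hLeq _ _ h1, zpow_zero, Units.val_one, one_mul, hq_out]
  have hext_res : ∀ v ∈ E, ext (res v) = v := by
    intro v hv
    funext h
    change ((L ^ κ h : Aˣ) : A) * v (((q h).out)⁻¹) = v h
    rw [← hzpow v hv, hκ, mul_assoc, mul_inv_cancel, mul_one]
  let e : E ≃ₗ[A] (G ⧸ H → A) :=
    { toFun := fun v => res v.1
      map_add' := fun v v' => by simp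
      map_smul' := fun c v => by simp
      invFun := fun w => ⟨ext w, hext_mem w⟩
      left_inv := fun v => Subtype.ext (hext_res v.1 v.2)
      right_inv := fun w => hres_ext w }
  have : Fintype (G ⧸ H) := Fintype.ofFinite _
  refine ⟨Module.Free.of_equiv e.symm, ?_, ?_⟩
  · rw [e.finrank_eq, Module.finrank_fintype_fun_eq_card, ← Nat.card_eq_fintype_card,
      Subgroup.card_eq_card_quotient_mul_card_subgroup H, Nat.card_zpowers]
  · let f : (G → A) →ₗ[A] E := (e.symm : (G ⧸ H → A) →ₗ[A] E).comp res
    exact ⟨LinearMap.ker f, LinearMap.isCompl_of_proj (f := f) (fun x => e.left_inv x)⟩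

end Groth.Agent.S15488
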