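import Groth.Statements.S15494
import Mathlib

set_option autoImplicit false
universe u v
open Dieud

namespace Groth.Agent.S15494

/-- Let W be a commutative ring with a ring endomorphism σ, p a natural number, M a W-module and F an
additive self-map of M with F (w • m) = σ w • F m. Let d ≥ 1, c ≥ 1, h = d + c, and let e_1, …, e_h,
… be vectors of M on which F acts through a display matrix in normal form: F e_i = e_{i+1} for 1 ≤ i
< d; F e_d = Σ_{i=1}^{d} a_{i,d} e_i + e_{d+1}; F e_j = Σ_{i=1}^{d} p a_{i,j} e_i + p e_{j+1} for d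
< j < h; F e_h = Σ_{i=1}^{d} p a_{i,h} e_i. Then F^h e_1 = Σ_{i=1}^{d} Σ_{j=d}^{h} p^{j-d}
σ^{h-j}(a_{i,j}) F^{h+i-j-1} e_1. (The published statement is for the Dieudonné module of a
p-divisible group of dimension d and height h over the Witt ring of a field of characteristic p,
with σ the Frobenius and e_1, …, e_h a basis; this row keeps only the relations which the printed
computation uses, so W, σ, p and the vectors are arbitrary.) -/
theorem result
    (W : Type u) [CommRing W] (σ : W →+* W) (p : ℕ)
    (M : Type v) [AddCommGroup M] [Module W M]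
    (F : M →+ M) (hF : ∀ (w : W) (m : M), F (w • m) = σ w • F m)
    (d c : ℕ) (hd : 0 < d) (hc : 0 < c)
    (a : ℕ → ℕ → W) (e : ℕ → M)
    (h1 : ∀ i : ℕ, 1 ≤ i → i < d → F (e i) = e (i + 1))
    (h2 : F (e d) = (∑ i ∈ Finset.Icc 1 d, a i d • e i) + e (d + 1))
    (h3 : ∀ j : ℕ, d < j → j < d + c →
      F (e j) = (∑ i ∈ Finset.Icc 1 d, ((p : W) * a i j) • e i) + (p : W) • e (j + 1))
    (h4 : F (e (d + c)) = ∑ i ∈ Finset.Icc 1 d, ((p : W) * a i (d + c)) • e i) :
    (⇑F)^[d + c] (e 1) = ∑ i ∈ Finset.Icc 1 d, ∑ j ∈ Finset.Icc d (d + c),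
      ((p : W) ^ (j - d) * (⇑σ)^[d + c - j] (a i j)) • (⇑F)^[d + c + i - j - 1] (e 1) := by
  classical
  -- Step 0: e i = F^[i-1] (e 1) for 1 ≤ i ≤ d
  have he : ∀ i : ℕ, 1 ≤ i → i ≤ d → e i = (⇑F)^[i - 1] (e 1) := by
    intro i
    induction i with
    | zero => intro h; omega
    | succ i ih =>
      intro _ hid
      rcases Nat.eq_zero_or_pos i with h0 | hpos
      · subst h0; simp
      · have := ih hpos (by omega)
        rw [← h1 i hpos (by omega), this]
        have : i + 1 - 1 = (i - 1) + 1 := by omega
        rw [this, Function.iterate_succ_apply']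
  have hσp : ∀ k : ℕ, σ ((p : W) ^ k) = (p : W) ^ k := by
    intro k; rw [map_pow, map_natCast]
  -- the partial sums
  let S : ℕ → M := fun k => ∑ i ∈ Finset.Icc 1 d, ∑ j ∈ Finset.Icc d (d + k),
      ((p : W) ^ (j - d) * (⇑σ)^[d + k - j] (a i j)) • (⇑F)^[d + k + i - j - 1] (e 1)
  let R : ℕ → M := fun k => ∑ i ∈ Finset.Icc 1 d, ((p : W) ^ k * a i (d + k)) • e i
  -- F applied to S k
  have hFS : ∀ k : ℕ, F (S k) + R (k + 1) = S (k + 1) := by
    intro k
    simp only [S, R]
    rw [map_sum, ← Finset.sum_add_distrib]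
    refine Finset.sum_congr rfl fun i hi => ?_
    rw [Finset.mem_Icc] at hi
    have hsplit : d + (k + 1) = (d + k) + 1 := by omega
    rw [hsplit, Finset.sum_Icc_succ_top (by omega : d ≤ d + k + 1), map_sum]
    congr 1
    · refine Finset.sum_congr rfl fun j hj => ?_
      rw [Finset.mem_Icc] at hj
      rw [hF, map_mul, hσp, ← Function.iterate_succ_apply' (⇑σ), ← Function.iterate_succ_apply' (⇑F)]
      have e1 : (d + k - j).succ = d + k + 1 - j := by omega
      have e2 : (d + k + i - j - 1).succ = d + k + 1 + i - j - 1 := by omega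
      rw [e1, e2]
    · have e1 : d + k + 1 - d = k + 1 := by omega
      have e2 : d + k + 1 - (d + k + 1) = 0 := by omega
      have e3 : d + k + 1 + i - (d + k + 1) - 1 = i - 1 := by omega
      rw [e1, e2, e3, Function.iterate_zero, id, ← he i hi.1 hi.2]
  -- the main induction
  have hP : ∀ k : ℕ, k < c → (⇑F)^[d + k] (e 1) = S k + (p : W) ^ k • e (d + k + 1) := by
    intro k
    induction k with
    | zero =>
      intro _
      have hd1 : d = (d - 1) + 1 := by omega
      have : (⇑F)^[d + 0] (e 1) = F (e d) := by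
        rw [add_zero]
        conv_lhs => rw [hd1, Function.iterate_succ_apply', ← he d hd le_rfl]
      rw [this, h2]
      simp only [S, add_zero, Finset.Icc_self, Finset.sum_singleton, pow_zero, one_smul]
      congr 1
      refine Finset.sum_congr rfl fun i hi => ?_
      rw [Finset.mem_Icc] at hi
      have e1 : d - d = 0 := by omega
      have e3 : d + i - d - 1 = i - 1 := by omega
      rw [e1, e3, pow_zero, one_mul, Function.iterate_zero, id, ← he i hi.1 hi.2]
    | succ k ih =>
      intro hk
      have ih' := ih (by omega)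
      have : d + (k + 1) = (d + k) + 1 := by omega
      rw [this, Function.iterate_succ_apply', ih', map_add, hF, hσp, h3 (d + k + 1) (by omega) (by omega),
        smul_add, Finset.smul_sum, ← add_assoc]
      have hR : ∑ i ∈ Finset.Icc 1 d, (p : W) ^ k • ((p : W) * a i (d + k + 1)) • e i = R (k + 1) := by
        simp only [R]
        refine Finset.sum_congr rfl fun i _ => ?_
        rw [smul_smul, ← mul_assoc, ← pow_succ]
        rfl
      rw [hR, hFS k, smul_smul, ← pow_succ]
  -- the final step
  have hc1 : c = (c - 1) + 1 := by omega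
  have hfin := hP (c - 1) (by omega)
  have : d + c = (d + (c - 1)) + 1 := by omega
  have hgoal : (⇑F)^[d + c] (e 1) = S c := by
    conv_lhs => rw [this, Function.iterate_succ_apply', hfin, map_add, hF, hσp]
    have e1 : d + (c - 1) + 1 = d + c := by omega
    rw [e1, h4, Finset.smul_sum]
    have hR : ∑ i ∈ Finset.Icc 1 d, (p : W) ^ (c - 1) • ((p : W) * a i (d + c)) • e i = R c := by
      simp only [R]
      refine Finset.sum_congr rfl fun i _ => ?_
      rw [smul_smul, ← mul_assoc, ← pow_succ]
      congr 3
      omega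
    rw [hR]
    have := hFS (c - 1)
    rw [← hc1] at this
    exact this
  exact hgoal

end Groth.Agent.S15494
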