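import Groth.Statements.S15495
import Mathlib

set_option autoImplicit false
universe u
open CAlg

namespace Groth.Agent.S15495

/-- In an Artinian local ring R whose maximal ideal m contains the prime number p, the multiplicative
group 1 + m is annihilated under some power of p: there is n with (1 + x)^(p^n) = 1 for every x in
m. (The published text makes this assertion inside a proof, for Artinian local algebras over the
Witt ring of a perfect field of characteristic p; only p ∈ m and the nilpotence of m are used.) -/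
theorem result
    (R : Type u) [CommRing R] [IsLocalRing R] [IsArtinianRing R]
    (p : ℕ) (hp : p.Prime) (hpm : (p : R) ∈ IsLocalRing.maximalIdeal R) :
    ∃ n : ℕ, ∀ x ∈ IsLocalRing.maximalIdeal R, (1 + x) ^ (p ^ n) = 1 := by
  set I := IsLocalRing.maximalIdeal R with hI
  obtain ⟨k, hk⟩ : IsNilpotent I := by
    have := IsArtinianRing.isNilpotent_jacobson_bot (R := R)
    rwa [IsLocalRing.jacobson_eq_maximalIdeal ⊥ bot_ne_top] at this
  have key : ∀ n : ℕ, ∀ x ∈ I, (1 + x) ^ (p ^ n) - 1 ∈ I ^ (n + 1) := by
    intro n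
    induction n with
    | zero => intro x hx; simpa using hx
    | succ n ih =>
      intro x hx
      obtain ⟨y, hy⟩ : ∃ y, y = (1 + x) ^ (p ^ n) - 1 := ⟨_, rfl⟩
      have hyI : y ∈ I ^ (n + 1) := hy ▸ ih x hx
      have h1 : (1 + x) ^ (p ^ (n + 1)) = (1 + y) ^ p := by
        rw [pow_succ, pow_mul, hy]; congr 1; ring
      rw [h1, add_pow_prime_eq hp]
      have e1 : y ^ p ∈ I ^ (n + 1 + 1) := by
        have : y ^ p ∈ (I ^ (n + 1)) ^ p := Ideal.pow_mem_pow hyI p
        rw [← pow_mul] at this
        refine Ideal.pow_le_pow_right ?_ this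
        have := hp.two_le
        nlinarith
      have e2 : ∀ z : R, (p : R) * 1 * y * z ∈ I ^ (n + 1 + 1) := by
        intro z
        have : (p : R) * y ∈ I ^ (n + 1 + 1) := by
          rw [pow_succ' I (n + 1)]
          exact Ideal.mul_mem_mul hpm hyI
        have := Ideal.mul_mem_right z _ this
        convert this using 1; ring
      have : (1 : R) ^ p + y ^ p + (p : R) * 1 * y * ∑ k ∈ Finset.Ioo 0 p, 1 ^ (k - 1) * y ^ (p - k - 1) * ((p.choose k / p : ℕ) : R) - 1
          = y ^ p + (p : R) * 1 * y * ∑ k ∈ Finset.Ioo 0 p, 1 ^ (k - 1) * y ^ (p - k - 1) * ((p.choose k / p : ℕ) : R) := by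
        ring
      rw [this]
      exact Ideal.add_mem _ e1 (e2 _)
  refine ⟨k, fun x hx => ?_⟩
  have := key k x hx
  have h2 : I ^ (k + 1) = ⊥ := by rw [pow_succ, hk]; simp
  rw [h2] at this
  exact sub_eq_zero.mp this

end Groth.Agent.S15495
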