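import Groth.Statements.S15505
import Mathlib

set_option autoImplicit false
universe u v w
open FrobAlg

namespace Groth.Agent.S15505

/-- Let k be an algebraically closed field of characteristic p, V a k-vector space, φ a p⁻¹-linear
endomorphism of V (additive, φ(a·v) = a^{1/p}·φ(v)) and b a finite basis of V consisting of vectors
fixed by φ. Then the vectors fixed by φ are exactly the combinations of the b_i with coefficients in
the prime field: v is fixed if and only if v = Σ c_i·b_i with all c_i in the image of ℤ/p. -/
theorem result (p : ℕ) [Fact p.Prime]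
    (k : Type u) [Field k] [CharP k p] [IsAlgClosed k]
    (V : Type v) [AddCommGroup V] [Module k V]
    (φ : V →ₛₗ[((frobeniusEquiv k p).symm : k →+* k)] V)
    {ι : Type w} [Fintype ι] (b : Module.Basis ι k V) (hb : ∀ i, φ (b i) = b i) (v : V) :
    φ v = v ↔ ∃ c : ι → ZMod p, v = ∑ i, (ZMod.castHom (dvd_refl p) k (c i)) • b i := by
  classical
  -- elements of the prime field are exactly the fixed points
  have hfix : ∀ x : k, ((frobeniusEquiv k p).symm : k →+* k) x = x ↔
      ∃ c : ZMod p, ZMod.castHom (dvd_refl p) k c = x := by
    intro x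
    have h1 : ((frobeniusEquiv k p).symm : k →+* k) x = x ↔ x ^ p = x := by
      constructor
      · intro h
        have := frobeniusEquiv_symm_pow_p k p x
        rw [show (frobeniusEquiv k p).symm x = x from h] at this
        exact this
      · intro h
        have := frobeniusEquiv_symm_pow k p x
        rw [h] at this
        exact this
    rw [h1, ← Subfield.mem_bot_iff_pow_eq_self k p, ← ZMod.fieldRange_castHom_eq_bot p]
    rfl
  -- φ on coordinates
  have hφ : ∀ x : ι → k, φ (∑ i, x i • b i) =
      ∑ i, ((frobeniusEquiv k p).symm : k →+* k) (x i) • b i := by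
    intro x
    rw [map_sum]
    refine Finset.sum_congr rfl fun i _ => ?_
    rw [map_smulₛₗ, hb]
  have hinj : ∀ x y : ι → k, (∑ i, x i • b i) = (∑ i, y i • b i) → x = y := by
    intro x y h
    rw [← b.equivFun_symm_apply, ← b.equivFun_symm_apply] at h
    exact b.equivFun.symm.injective h
  constructor
  · intro hv
    have hx : v = ∑ i, b.equivFun v i • b i := (b.sum_equivFun v).symm
    have h1 : φ v = ∑ i, ((frobeniusEquiv k p).symm : k →+* k) (b.equivFun v i) • b i := by
      conv_lhs => rw [hx]
      exact hφ _
    rw [hv] at h1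
    have h2 : (fun i => b.equivFun v i) =
        fun i => ((frobeniusEquiv k p).symm : k →+* k) (b.equivFun v i) :=
      hinj _ _ (hx.symm.trans h1)
    have h3 : ∀ i, ∃ c : ZMod p, ZMod.castHom (dvd_refl p) k c = b.equivFun v i :=
      fun i => (hfix _).mp (congr_fun h2 i).symm
    choose c hc using h3
    refine ⟨c, ?_⟩
    conv_lhs => rw [hx]
    exact Finset.sum_congr rfl fun i _ => by rw [hc]
  · rintro ⟨c, rfl⟩
    rw [hφ]
    refine Finset.sum_congr rfl fun i _ => ?_
    rw [(hfix _).mpr ⟨c i, rfl⟩]

end Groth.Agent.S15505
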