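import Groth.Statements.S15512
import Groth.Agent.Lead.ExtRing
import Groth.Agent.Lead.RegularGlDim

set_option autoImplicit false
universe u
open CategoryTheory
open CAlg

namespace Groth.Agent.S15512

/-- Let A be a Noetherian ring which is regular (its localization at every maximal ideal is a regular
local ring) and of finite Krull dimension, M a finitely generated A-module and d a natural number.
If Ext^i_A(M, A) vanishes for every i > d, then the projective dimension of M is at most d. -/
theorem result (A : Type u) [CommRing A]
    [IsNoetherianRing A] (hreg : ∀ m : MaximalSpectrum A, IsRegularLocalRing (Localization.AtPrime m.asIdeal))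
    (hdim : ringKrullDim A < ⊤) (M : Type u) [AddCommGroup M] [Module A M] [Module.Finite A M] (d : ℕ)
    (h : ∀ i : ℕ, d < i → Subsingleton (Abelian.Ext (ModuleCat.of A M) (ModuleCat.of A A) i)) :
    HasProjectiveDimensionLT (ModuleCat.of A M) (d + 1) := by
  classical
  -- a natural-number bound for the Krull dimension
  obtain ⟨D, hD⟩ : ∃ D : ℕ, ringKrullDim A ≤ (D : WithBot ℕ∞) := by
    generalize ringKrullDim A = x at hdim
    induction x with
    | bot => exact ⟨0, bot_le⟩
    | coe y =>
      induction y with
      | top => exact absurd hdim (lt_irrefl _)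
      | coe n => exact ⟨n, le_rfl⟩
  have hpd : HasProjectiveDimensionLE (ModuleCat.of A M) D := by
    rw [ModuleCat.hasProjectiveDimensionLE_iff_forall_maximalSpectrum]
    intro m
    haveI := hreg m
    obtain ⟨e, he, -⟩ :=
      Groth.Agent.Lead.RLR.exists_ringKrullDim_eq (Localization.AtPrime m.asIdeal)
    have h1 := Groth.Agent.Lead.RLR.hasProjectiveDimensionLT (Localization.AtPrime m.asIdeal) e he
      ((ModuleCat.of A M).localizedModule m.asIdeal.primeCompl)
    have h2 : ringKrullDim (Localization.AtPrime m.asIdeal) ≤ ringKrullDim A := by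
      rw [IsLocalization.AtPrime.ringKrullDim_eq_height m.asIdeal]
      exact Ideal.height_le_ringKrullDim_of_isPrime
    have h3 : e ≤ D := by
      have : ((e : ℕ) : WithBot ℕ∞) ≤ (D : WithBot ℕ∞) := he ▸ h2.trans hD
      exact_mod_cast this
    exact hasProjectiveDimensionLT_of_ge _ (e + 1) (D + 1) (by omega)
  have hpd' : HasProjectiveDimensionLT (ModuleCat.of A M) (d + D + 1) :=
    hasProjectiveDimensionLT_of_ge _ (D + 1) (d + D + 1) (by omega)
  exact Groth.Agent.Lead.ExtRing.hasProjectiveDimensionLT_of_forall_ext_ring_subsingleton A M d h D hpd'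

end Groth.Agent.S15512
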