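import Groth.Statements.S15526
import Mathlib

set_option autoImplicit false
universe u
open MvPolynomial
open CAlg

namespace Groth.Agent.S15526

/-- Let R be a commutative ring, P ∈ R[x] a monic polynomial of degree 2g + 1, and A = R[x, y, z]/(y^2 −
P(x), yz − 1). Then every element of A is a finite sum Σ_n Q_n(x) y^n over integers n, negative
powers of y meaning powers of z, with each Q_n ∈ R[x] of degree at most 2g: the R-submodule of A
spanned by the classes of x^i y^n and x^i z^n with i ≤ 2g and n ≥ 0 is all of A. (The published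
statement takes for R the ring of Witt vectors of a finite field and for P a lift of a separable
polynomial; the argument uses only that P is monic of degree 2g + 1.) -/
theorem result (R : Type u) [CommRing R] (g : ℕ)
    (P : Polynomial R) (hP : P.Monic) (hdeg : P.natDegree = 2 * g + 1) :
    Submodule.span R {a : MvPolynomial (Fin 3) R ⧸
        Ideal.span ({X 1 ^ 2 - Polynomial.aeval (X 0 : MvPolynomial (Fin 3) R) P, X 1 * X 2 - 1} :
          Set (MvPolynomial (Fin 3) R)) |
        ∃ i n : ℕ, i ≤ 2 * g ∧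
          (a = Ideal.Quotient.mk _ (X 0 ^ i * X 1 ^ n) ∨ a = Ideal.Quotient.mk _ (X 0 ^ i * X 2 ^ n))} =
      ⊤ := by
  classical
  set I : Ideal (MvPolynomial (Fin 3) R) :=
    Ideal.span ({X 1 ^ 2 - Polynomial.aeval (X 0 : MvPolynomial (Fin 3) R) P, X 1 * X 2 - 1} :
      Set (MvPolynomial (Fin 3) R)) with hI
  set x : MvPolynomial (Fin 3) R ⧸ I := Ideal.Quotient.mk I (X 0) with hx
  set y : MvPolynomial (Fin 3) R ⧸ I := Ideal.Quotient.mk I (X 1) with hy
  set z : MvPolynomial (Fin 3) R ⧸ I := Ideal.Quotient.mk I (X 2) with hz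
  set S : Set (MvPolynomial (Fin 3) R ⧸ I) := {a | ∃ i n : ℕ, i ≤ 2 * g ∧
      (a = Ideal.Quotient.mk I (X 0 ^ i * X 1 ^ n) ∨ a = Ideal.Quotient.mk I (X 0 ^ i * X 2 ^ n))} with hS
  set N : Submodule R (MvPolynomial (Fin 3) R ⧸ I) := Submodule.span R S with hN
  -- relations
  have hyz : y * z = 1 := by
    have : (X 1 * X 2 - 1 : MvPolynomial (Fin 3) R) ∈ I :=
      Ideal.subset_span (by simp)
    have h2 := Ideal.Quotient.eq_zero_iff_mem.mpr this
    rw [map_sub, map_mul, map_one, sub_eq_zero] at h2
    exact h2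
  have hzy : z * y = 1 := by rw [mul_comm]; exact hyz
  have hy2 : y ^ 2 = Polynomial.aeval x P := by
    have : (X 1 ^ 2 - Polynomial.aeval (X 0 : MvPolynomial (Fin 3) R) P : MvPolynomial (Fin 3) R) ∈ I :=
      Ideal.subset_span (by simp)
    have h2 := Ideal.Quotient.eq_zero_iff_mem.mpr this
    rw [map_sub, map_pow, sub_eq_zero] at h2
    rw [hy, h2]
    have : (Ideal.Quotient.mk I) (Polynomial.aeval (X 0 : MvPolynomial (Fin 3) R) P) =
        Polynomial.aeval (Ideal.Quotient.mk I (X 0)) P := by
      rw [← Ideal.Quotient.mkₐ_eq_mk R, ← Polynomial.aeval_algHom_apply]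
    rw [this]
  have hxtop : x ^ (2 * g + 1) = y ^ 2 - ∑ l ∈ Finset.range (2 * g + 1), P.coeff l • x ^ l := by
    rw [hy2]
    conv_lhs => rw [← sub_add_cancel (x ^ (2 * g + 1)) (Polynomial.aeval x P)]
    have hP' := hP.as_sum
    rw [hdeg] at hP'
    have : Polynomial.aeval x P = x ^ (2 * g + 1) +
        ∑ l ∈ Finset.range (2 * g + 1), P.coeff l • x ^ l := by
      conv_lhs => rw [hP']
      rw [map_add, map_pow, Polynomial.aeval_X, map_sum]
      congr 1
      refine Finset.sum_congr rfl fun l _ => ?_
      rw [map_mul, Polynomial.aeval_C, map_pow, Polynomial.aeval_X, ← Algebra.smul_def]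
    rw [this]
    ring
  -- generators
  have gy : ∀ i n : ℕ, i ≤ 2 * g → x ^ i * y ^ n ∈ N := by
    intro i n hi
    apply Submodule.subset_span
    refine ⟨i, n, hi, Or.inl ?_⟩
    rw [map_mul, map_pow, map_pow]
  have gz : ∀ i n : ℕ, i ≤ 2 * g → x ^ i * z ^ n ∈ N := by
    intro i n hi
    apply Submodule.subset_span
    refine ⟨i, n, hi, Or.inr ?_⟩
    rw [map_mul, map_pow, map_pow]
  -- mixed monomials with integer exponent of y
  have gyz : ∀ i n m : ℕ, i ≤ 2 * g → x ^ i * (y ^ n * z ^ m) ∈ N := by
    intro i n m hi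
    rcases le_total m n with h | h
    · obtain ⟨k, rfl⟩ := Nat.exists_eq_add_of_le h
      have : y ^ (m + k) * z ^ m = y ^ k := by
        rw [pow_add, mul_comm (y ^ m), mul_assoc, ← mul_pow, hyz, one_pow, mul_one]
      rw [this]; exact gy i k hi
    · obtain ⟨k, rfl⟩ := Nat.exists_eq_add_of_le h
      have : y ^ n * z ^ (n + k) = z ^ k := by
        rw [pow_add, ← mul_assoc, ← mul_pow, hyz, one_pow, one_mul]
      rw [this]; exact gz i k hi
  -- all monomials
  have gall : ∀ i n m : ℕ, x ^ i * (y ^ n * z ^ m) ∈ N := by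
    intro i
    induction i using Nat.strong_induction_on with
    | _ i ih =>
      intro n m
      rcases Nat.lt_or_ge i (2 * g + 1) with hi | hi
      · exact gyz i n m (by omega)
      · obtain ⟨k, rfl⟩ := Nat.exists_eq_add_of_le hi
        have e : x ^ (2 * g + 1 + k) * (y ^ n * z ^ m) =
            x ^ k * (y ^ (n + 2) * z ^ m) -
              ∑ l ∈ Finset.range (2 * g + 1), P.coeff l • (x ^ (l + k) * (y ^ n * z ^ m)) := by
          rw [pow_add, hxtop, sub_mul, sub_mul, Finset.sum_mul, Finset.sum_mul]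
          congr 1
          · ring
          · refine Finset.sum_congr rfl fun l _ => ?_
            rw [smul_mul_assoc, smul_mul_assoc, pow_add]
        rw [e]
        refine Submodule.sub_mem _ (ih k (by omega) _ _) (Submodule.sum_mem _ fun l hl => ?_)
        rw [Finset.mem_range] at hl
        exact Submodule.smul_mem _ _ (ih (l + k) (by omega) _ _)
  have hall : ∀ q : MvPolynomial (Fin 3) R, Ideal.Quotient.mk I q ∈ N := by
   intro q
   induction q using MvPolynomial.induction_on' with
  | monomial u c =>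
    have h1 : (MvPolynomial.monomial u c : MvPolynomial (Fin 3) R) = c • MvPolynomial.monomial u 1 := by
      rw [MvPolynomial.smul_monomial, smul_eq_mul, mul_one]
    have h2 : (Ideal.Quotient.mk I) (c • MvPolynomial.monomial u 1) =
        c • (Ideal.Quotient.mk I) (MvPolynomial.monomial u 1) := rfl
    have h3 : (Ideal.Quotient.mk I) (MvPolynomial.monomial u (1 : R)) =
        x ^ (u 0) * (y ^ (u 1) * z ^ (u 2)) := by
      rw [MvPolynomial.monomial_eq, map_one, one_mul,
        Finsupp.prod_fintype _ _ (fun i => by simp), Fin.prod_univ_three, map_mul, map_mul, map_pow,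
        map_pow, map_pow]
      ring
    have : (Ideal.Quotient.mk I) (MvPolynomial.monomial u c) =
        c • (x ^ (u 0) * (y ^ (u 1) * z ^ (u 2))) := by
      rw [h1, h2, h3]
    rw [this]
    exact Submodule.smul_mem _ _ (gall _ _ _)
  | add p q hp hq =>
    rw [map_add]
    exact Submodule.add_mem _ hp hq
  rw [eq_top_iff]
  intro a _
  obtain ⟨q, rfl⟩ := Ideal.Quotient.mk_surjective a
  exact hall q

end Groth.Agent.S15526
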