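import Groth.Statements.S15533
import Groth.Agent.H22.GeomRedSections2
import Groth.Agent.H22.GeomRedDiff

set_option autoImplicit false
universe u
open OmegaSh

namespace Groth.Agent.S15533

open CategoryTheory AlgebraicGeometry in
/-- For a field k and a smooth proper k-scheme X with structure morphism f, the derivation d : O_X →
Ω_{X/k} of f vanishes on global functions: d(s) = 0 in Γ(X, Ω_{X/k}) for every s ∈ Γ(X, O_X). -/
theorem result (k : Type u) [Field k] (X : Scheme.{u})
    (f : X ⟶ Spec (CommRingCat.of k)) [IsProper f] [Smooth f] (s : Γ(X, ⊤)) :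
    (OmegaSh.dOmega f).app ⊤ s = 0 := by
  classical
  haveI : CompactSpace X := (quasiCompact_iff_compactSpace f).mp inferInstance
  haveI : QuasiSeparatedSpace X := (quasiSeparated_iff_quasiSeparatedSpace f).mp inferInstance
  letI alg : Algebra k Γ(X, ⊤) :=
    ((Scheme.ΓSpecIso (CommRingCat.of k)).inv ≫ f.appTop).hom.toAlgebra
  have hred := Groth.Agent.H22.GeomRedSections.isReduced_tensor_sections k f
  -- integrality
  have hint : IsIntegral k s := by
    have h1 : f.appTop.hom.IsIntegral := isIntegral_appTop_of_universallyClosed f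
    have h2 : ((Scheme.ΓSpecIso (CommRingCat.of k)).inv).hom.IsIntegral :=
      RingHom.isIntegral_of_surjective _
        (ConcreteCategory.bijective_of_isIso (Scheme.ΓSpecIso (CommRingCat.of k)).inv).2
    exact (RingHom.IsIntegral.trans _ _ h2 h1) s
  -- the derivation on global sections
  let D0 : Γ(X, ⊤) →+ Γ(Omega.sheaf f, ⊤) := (OmegaSh.dOmega f).app ⊤
  have hmul : ∀ a b : Γ(X, ⊤), D0 (a * b) = a • D0 b + b • D0 a := fun a b =>
    (OmegaSh.dOmega f).d_mul (X := Opposite.op ⊤) a b
  have hk : ∀ c : k, D0 (algebraMap k Γ(X, ⊤) c) = 0 := by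
    intro c
    exact (OmegaSh.dOmega f).d_app (X := Opposite.op ⊤)
      ((Scheme.ΓSpecIso (CommRingCat.of k)).inv c)
  letI : Module k Γ(Omega.sheaf f, ⊤) := Module.compHom _ (algebraMap k Γ(X, ⊤))
  haveI : IsScalarTower k Γ(X, ⊤) Γ(Omega.sheaf f, ⊤) :=
    IsScalarTower.of_algebraMap_smul (fun _ _ => rfl)
  let D : Derivation k Γ(X, ⊤) Γ(Omega.sheaf f, ⊤) :=
    { toFun := D0
      map_add' := D0.map_add
      map_smul' := by
        intro c a
        show D0 (c • a) = (algebraMap k Γ(X, ⊤) c) • D0 a
        rw [Algebra.smul_def, hmul, hk, smul_zero, add_zero]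
      map_one_eq_zero' := by
        show D0 1 = 0
        have := hmul 1 1
        simpa using this
      leibniz' := hmul }
  exact Groth.Agent.H22.GeomRedDiff.derivation_eq_zero k Γ(X, ⊤) Γ(Omega.sheaf f, ⊤) hred D s hint


end Groth.Agent.S15533
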