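import Groth.Statements.S15543
import Groth.Agent.H77.LocConstr

set_option autoImplicit false
open CategoryTheory AlgebraicGeometry
universe u
open ProCons

namespace Groth.Agent.S15543

/-- The ind-constructible case. Let f : X ⟶ Y be any morphism of schemes and T an ind-constructible
subset of Y (locally on Y a union of locally constructible subsets). Then the preimage of T under f
is ind-constructible in X. -/
theorem result {X Y : Scheme.{u}} (f : X ⟶ Y) (T : Set Y)
    (hT : ProCons.IsIndConstructible T) :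
    ProCons.IsIndConstructible (f.base ⁻¹' T) := by
  intro x
  obtain ⟨U, hU, hxU, S, hS, hE⟩ := hT (f.base x)
  let Uo : Y.Opens := ⟨U, hU⟩
  let g : (f ⁻¹ᵁ Uo).toScheme ⟶ Uo.toScheme := f.resLE Uo (f ⁻¹ᵁ Uo) le_rfl
  let g' : ((f ⁻¹ᵁ Uo : X.Opens) : Set X) → U := fun w => ⟨f.base w.1, w.2⟩
  have hgg' : ∀ w, g w = g' w := fun w => Subtype.ext (Scheme.Hom.coe_resLE_apply f le_rfl w)
  have key : ∀ T' : Set U, Topology.IsLocallyConstructible T' →
      Topology.IsLocallyConstructible (g' ⁻¹' T') := by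
    intro T' hT'
    have h1 := Groth.Agent.H77.isLocallyConstructible_preimage g (s := T') hT'
    have h2 : (g' ⁻¹' T') = ((fun w => (g w : U)) ⁻¹' T') := by
      ext w
      have e : (g w : U) = g' w := hgg' w
      change g' w ∈ T' ↔ (g w : U) ∈ T'
      exact e ▸ Iff.rfl
    rw [h2]
    exact h1
  refine ⟨((f ⁻¹ᵁ Uo : X.Opens) : Set X), (f ⁻¹ᵁ Uo).2, hxU, (fun T' : Set U => g' ⁻¹' T') '' S, ?_, ?_⟩
  · rintro _ ⟨T', hT', rfl⟩
    exact key T' (hS T' hT')
  · ext w
    simp only [Set.mem_preimage, Set.sUnion_image, Set.mem_iUnion]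
    have h1 : f.base w.1 ∈ T ↔ (g' w) ∈ (Subtype.val ⁻¹' T : Set U) := Iff.rfl
    rw [h1, hE, Set.mem_sUnion]
    constructor
    · rintro ⟨t, ht, hw⟩
      exact ⟨t, ht, hw⟩
    · rintro ⟨t, ht, hw⟩
      exact ⟨t, ht, hw⟩

end Groth.Agent.S15543
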