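import Groth.Statements.S15546
import Mathlib

set_option autoImplicit false
open scoped TensorProduct
universe u
open Unram

namespace Groth.Agent.S15546

/-- Let E be a finite extension of a field k which is not separable over k, and K an algebraic closure
of k. Then E ⊗_k K has a nonzero nilpotent element. -/
theorem result (k E K : Type u) [Field k] [Field E]
    [Algebra k E] [FiniteDimensional k E] [Field K] [Algebra k K] [IsAlgClosure k K]
    (h : ¬ Algebra.IsSeparable k E) : ∃ x : E ⊗[k] K, x ≠ 0 ∧ IsNilpotent x := by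
  classical
  -- an inseparable element
  obtain ⟨α, hα⟩ : ∃ α : E, ¬ IsSeparable k α := by
    by_contra hc
    push Not at hc
    exact h ⟨hc⟩
  have hint : IsIntegral k α := Algebra.IsIntegral.isIntegral α
  set f := minpoly k α with hf
  have hf0 : f ≠ 0 := minpoly.ne_zero hint
  have hfK0 : f.map (algebraMap k K) ≠ 0 := Polynomial.map_ne_zero hf0
  have : IsAlgClosed K := IsAlgClosure.isAlgClosed k
  have hsplit : (f.map (algebraMap k K)).Splits := IsAlgClosed.splits _
  have hnsep : ¬ (f.map (algebraMap k K)).Separable := by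
    rw [Polynomial.separable_map]
    exact hα
  have hnodup : ¬ (f.map (algebraMap k K)).roots.Nodup := by
    rwa [Polynomial.nodup_roots_iff_of_splits hfK0 hsplit]
  obtain ⟨β, hβ⟩ : ∃ β, 2 ≤ (f.map (algebraMap k K)).roots.count β := by
    rw [Multiset.nodup_iff_count_le_one] at hnodup
    push Not at hnodup
    obtain ⟨β, hβ⟩ := hnodup
    exact ⟨β, hβ⟩
  rw [Polynomial.count_roots] at hβ
  obtain ⟨g, hg⟩ := (Polynomial.le_rootMultiplicity_iff hfK0).mp hβ
  set hp : Polynomial K := (Polynomial.X - Polynomial.C β) * g with hhp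
  have hfh : f.map (algebraMap k K) = (Polynomial.X - Polynomial.C β) * hp := by
    rw [hg, hhp]; ring
  have hp0 : hp ≠ 0 := by
    intro h0
    rw [h0, mul_zero] at hfh
    exact hfK0 hfh
  have hdeg : hp.natDegree < f.natDegree := by
    have h1 : (f.map (algebraMap k K)).natDegree = 1 + hp.natDegree := by
      rw [hfh, Polynomial.natDegree_mul (Polynomial.X_sub_C_ne_zero β) hp0,
        Polynomial.natDegree_X_sub_C]
    rw [Polynomial.natDegree_map] at h1
    omega
  -- the evaluation map
  let incR : K →+* E ⊗[k] K := (Algebra.TensorProduct.includeRight : K →ₐ[k] E ⊗[k] K).toRingHom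
  let φ : Polynomial K →+* E ⊗[k] K := Polynomial.eval₂RingHom incR (α ⊗ₜ[k] (1 : K))
  have hφ : ∀ q : Polynomial K, φ q = Polynomial.eval₂ incR (α ⊗ₜ[k] (1 : K)) q := fun q => rfl
  have hφf : φ (f.map (algebraMap k K)) = 0 := by
    rw [hφ, Polynomial.eval₂_map]
    have e1 : incR.comp (algebraMap k K) =
        ((Algebra.TensorProduct.includeLeft : E →ₐ[k] E ⊗[k] K).toRingHom).comp (algebraMap k E) := by
      ext c
      simp [incR]
    rw [e1]
    have e2 : α ⊗ₜ[k] (1 : K) =
        (Algebra.TensorProduct.includeLeft : E →ₐ[k] E ⊗[k] K).toRingHom α := rfl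
    rw [e2, ← Polynomial.hom_eval₂]
    have : Polynomial.eval₂ (algebraMap k E) α f = 0 := minpoly.aeval k α
    rw [this, map_zero]
  have hnil : φ hp ^ 2 = 0 := by
    rw [← map_pow]
    have : hp ^ 2 = f.map (algebraMap k K) * g := by rw [hg, hhp]; ring
    rw [this, map_mul, hφf, zero_mul]
  refine ⟨φ hp, ?_, 2, hnil⟩
  -- non-vanishing via a linear functional
  have li := linearIndependent_pow (K := k) α
  set d := f.natDegree with hd
  let i0 : Fin (minpoly k α).natDegree := ⟨hp.natDegree, hdeg⟩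
  let ψ₀ : Submodule.span k (Set.range fun i : Fin (minpoly k α).natDegree => α ^ (i : ℕ)) →ₗ[k] k :=
    (Finsupp.lapply i0).comp li.repr
  obtain ⟨ψ, hψ⟩ := LinearMap.exists_extend ψ₀
  have hψpow : ∀ i : Fin (minpoly k α).natDegree, ψ (α ^ (i : ℕ)) = if i = i0 then 1 else 0 := by
    intro i
    have hmem : α ^ (i : ℕ) ∈
        Submodule.span k (Set.range fun i : Fin (minpoly k α).natDegree => α ^ (i : ℕ)) :=
      Submodule.subset_span ⟨i, rfl⟩
    have h1 := LinearMap.congr_fun hψ ⟨α ^ (i : ℕ), hmem⟩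
    simp only [LinearMap.coe_comp, Submodule.coe_subtype, Function.comp_apply] at h1
    rw [h1]
    change (li.repr ⟨α ^ (i : ℕ), hmem⟩) i0 = _
    rw [li.repr_eq_single i ⟨α ^ (i : ℕ), hmem⟩ rfl, Finsupp.single_apply]
  let Ψ : E ⊗[k] K →ₗ[k] K := (TensorProduct.lid k K).toLinearMap ∘ₗ (ψ.rTensor K)
  have hΨ : ∀ (e : E) (c : K), Ψ (e ⊗ₜ[k] c) = ψ e • c := by
    intro e c
    simp [Ψ]
  intro hzero
  have h2 : Ψ (φ hp) = hp.leadingCoeff := by
    rw [hφ, Polynomial.eval₂_eq_sum_range, map_sum]
    have hterm : ∀ i ∈ Finset.range (hp.natDegree + 1),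
        Ψ (incR (hp.coeff i) * (α ⊗ₜ[k] (1 : K)) ^ i) =
          if i = hp.natDegree then hp.coeff i else 0 := by
      intro i hi
      have hi' : i < (minpoly k α).natDegree := by
        have := Finset.mem_range.mp hi
        have hfd : f.natDegree = (minpoly k α).natDegree := rfl
        omega
      have e3 : incR (hp.coeff i) * (α ⊗ₜ[k] (1 : K)) ^ i = (α ^ i) ⊗ₜ[k] (hp.coeff i) := by
        change ((1 : E) ⊗ₜ[k] (hp.coeff i)) * (α ⊗ₜ[k] (1 : K)) ^ i = _
        rw [Algebra.TensorProduct.tmul_pow, one_pow, Algebra.TensorProduct.tmul_mul_tmul, one_mul,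
          mul_one]
      rw [e3, hΨ]
      have := hψpow ⟨i, hi'⟩
      simp only at this
      rw [this]
      by_cases hii : i = hp.natDegree
      · rw [if_pos hii, if_pos (by ext; exact hii), one_smul]
      · rw [if_neg hii, if_neg (by intro hc; exact hii (congr_arg Fin.val hc)), zero_smul]
    rw [Finset.sum_congr rfl hterm, Finset.sum_ite_eq' (Finset.range (hp.natDegree + 1)) hp.natDegree,
      if_pos (Finset.mem_range.mpr (Nat.lt_succ_self _))]
    rfl
  rw [hzero, map_zero] at h2
  exact hp0 (Polynomial.leadingCoeff_eq_zero.mp h2.symm)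

end Groth.Agent.S15546
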