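import Groth.Statements.S15554
import Groth.Agent.H36.HypSmoothC

set_option autoImplicit false
universe u
open CategoryTheory CategoryTheory.Limits AlgebraicGeometry
open SmVar

namespace Groth.Agent.S15554

/-- Let k be an infinite field and X ⊆ P^n_k a smooth projective variety, given as an integral scheme X
with a closed immersion ι into projective n-space over k through which X is smooth over k. Then X
has a smooth hyperplane section defined over k: there is a global section s of the twisting sheaf
O(1) on P^n_k whose zero scheme H, a hyperplane defined over k, does not contain X and for which the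
scheme-theoretic intersection X ∩ H = X ×_{P^n_k} H is smooth over k. (The published statement also
records that X ∩ H has dimension dim X − 1; that is automatic once X is integral and not contained
in H, so this row states smoothness together with X ⊄ H.) -/
theorem result (k : Type u) [Field k] [Infinite k] (n : ℕ)
    (X : Scheme.{u}) [IsIntegral X] (ι : X ⟶ CohB1.ProjSpace n k) [IsClosedImmersion ι]
    [Smooth (ι ≫ CohB1.ProjSpace.toSpec n k)] :
    ∃ s : Coh.structureModule (CohB1.ProjSpace n k) ⟶ Twist.twistProjSpace n k 1,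
      (∃ x : ↥X, ι.base x ∉ (PicF2.zeroScheme (Twist.twistProjSpace n k 1) s).support) ∧
      Smooth (pullback.fst ι (PicF2.zeroScheme (Twist.twistProjSpace n k 1) s).subschemeι ≫ ι ≫
        CohB1.ProjSpace.toSpec n k) := by
  classical
  have hcl : IsClosedImmersion (show X ⟶ Proj (CohB1.polyGrading n k) from ι) := ‹_›
  have hsm' : Smooth ((show X ⟶ Proj (CohB1.polyGrading n k) from ι) ≫
    CohB1.ProjSpace.toSpec n k) := ‹_›
  have hch := fun j : Fin (n + 1) =>
    Groth.Agent.H36.HypSmooth.chart_bertini_smooth k n
      (show X ⟶ Proj (CohB1.polyGrading n k) from ι) j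
  choose G hG0 hG using hch
  obtain ⟨g₀, hg₀0, hg₀⟩ := Groth.Agent.H36.BertiniProj.exists_not_mem k n
    (show X ⟶ Proj (CohB1.polyGrading n k) from ι)
  have hprod : g₀ * ∏ j, G j ≠ 0 :=
    mul_ne_zero hg₀0 (Finset.prod_ne_zero_iff.mpr fun j _ => hG0 j)
  obtain ⟨c, hc⟩ : ∃ c : Fin (n + 1) → k, MvPolynomial.eval c (g₀ * ∏ j, G j) ≠ 0 := by
    by_contra h
    push Not at h
    exact hprod (MvPolynomial.funext fun x => by rw [h x, map_zero])
  rw [map_mul, map_prod] at hc
  have hh0 := left_ne_zero_of_mul hc
  have hhj : ∀ j, MvPolynomial.eval c (G j) ≠ 0 := fun j =>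
    Finset.prod_ne_zero_iff.mp (right_ne_zero_of_mul hc) j (Finset.mem_univ j)
  refine ⟨Groth.Agent.H36.HypZero.secOf k n c, ?_, ?_⟩
  · obtain ⟨x, hx⟩ := hg₀ c hh0
    exact ⟨x, Groth.Agent.H36.HypZero.not_mem_support k n c (ι.base x) hx⟩
  · exact Groth.Agent.H36.HypSmooth.smooth_pullback k n
      (show X ⟶ Proj (CohB1.polyGrading n k) from ι)
      (PicF2.zeroScheme (Twist.twistProjSpace n k 1) (Groth.Agent.H36.HypZero.secOf k n c)) c
      (fun j => Groth.Agent.H36.HypZero.zeroScheme_ideal_chart k n c j)
      (fun j => hG j c (hhj j))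

end Groth.Agent.S15554
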