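import Groth.Statements.S15557
import Mathlib.Tactic

set_option autoImplicit false
universe v u
open CategoryTheory
open CohDer

namespace Groth.Agent.S15557

open CategoryTheory.Pretriangulated in
/-- Let T = (X, Y, Z) and T' = (X', Y', Z') be distinguished triangles in a pretriangulated category and
assume that every morphism X → Z' and every morphism X → Z'[-1] is zero. Then composing with the
first map X' → Y' of T' is a bijection Hom(X, X') → Hom(X, Y'), and composing with the second map Y
→ Z of T is a bijection Hom(Z, Z') → Hom(Y, Z'). (The published lemma is for triangulated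
categories; the octahedral axiom plays no role.) -/
theorem result {D : Type u} [Category.{v} D] [Preadditive D]
    [Limits.HasZeroObject D] [HasShift D ℤ] [∀ n : ℤ, (shiftFunctor D n).Additive] [Pretriangulated D]
    (T T' : Triangle D) (hT : T ∈ distinguishedTriangles) (hT' : T' ∈ distinguishedTriangles)
    (hXZ : ∀ u : T.obj₁ ⟶ T'.obj₃, u = 0)
    (hXZ' : ∀ u : T.obj₁ ⟶ (shiftFunctor D (-1 : ℤ)).obj T'.obj₃, u = 0) :
    Function.Bijective (fun u : T.obj₁ ⟶ T'.obj₁ => u ≫ T'.mor₁) ∧
      Function.Bijective (fun w : T.obj₃ ⟶ T'.obj₃ => T.mor₂ ≫ w) := by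
  constructor
  · constructor
    · intro u u' huu
      have huu' : u ≫ T'.mor₁ = u' ≫ T'.mor₁ := huu
      have h0 : (u - u') ≫ T'.mor₁ = 0 := by
        rw [Preadditive.sub_comp, huu', sub_self]
      have hinv := inv_rot_of_distTriang T' hT'
      obtain ⟨g, hg⟩ := Triangle.coyoneda_exact₂ T'.invRotate hinv (u - u') h0
      have hg0 : g = 0 := hXZ' g
      rw [hg0, Limits.zero_comp] at hg
      exact sub_eq_zero.mp hg
    · intro y
      have h0 : y ≫ T'.mor₂ = 0 := hXZ _
      obtain ⟨g, hg⟩ := Triangle.coyoneda_exact₂ T' hT' y h0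
      exact ⟨g, hg.symm⟩
  · constructor
    · intro w w' hww
      have hww' : T.mor₂ ≫ w = T.mor₂ ≫ w' := hww
      have h0 : T.mor₂ ≫ (w - w') = 0 := by
        rw [Preadditive.comp_sub, hww', sub_self]
      obtain ⟨g, hg⟩ := Triangle.yoneda_exact₃ T hT (w - w') h0
      have hg0 : g = 0 := by
        apply (shiftFunctor D (-1 : ℤ)).map_injective
        rw [Functor.map_zero]
        have h1 := hXZ' ((shiftFunctorCompIsoId D (1 : ℤ) (-1 : ℤ) (by norm_num)).inv.app T.obj₁ ≫
          (shiftFunctor D (-1 : ℤ)).map g)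
        have h2 := congr_arg (fun t => (shiftFunctorCompIsoId D (1 : ℤ) (-1 : ℤ) (by norm_num)).hom.app T.obj₁ ≫ t) h1
        simpa using h2
      rw [hg0, Limits.comp_zero] at hg
      exact sub_eq_zero.mp hg
    · intro y
      have h0 : T.mor₁ ≫ y = 0 := hXZ _
      obtain ⟨g, hg⟩ := Triangle.yoneda_exact₂ T hT y h0
      exact ⟨g, hg.symm⟩

end Groth.Agent.S15557
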