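import Groth.Statements.S15560
import Groth.Agent.H77.Kron

set_option autoImplicit false
universe u v w
open KronMod

namespace Groth.Agent.S15560

/-- Let f be a Kronecker module with n arrows over a field K, from a space V of dimension d₋₁ > 0 to a
space W of dimension d₀ > 0. If n·d₋₁ < d₀ or n·d₀ < d₋₁, then f is not semistable; that is, there
are no semistable Kronecker modules of dimension vector (d₋₁, d₀). (The published statement assumes
K algebraically closed of characteristic zero and n ≥ 2; this row allows any field K and any number
n of arrows.) -/
theorem result (K : Type u) [Field K] (V : Type v) (W : Type w)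
    [AddCommGroup V] [Module K V] [FiniteDimensional K V]
    [AddCommGroup W] [Module K W] [FiniteDimensional K W]
    (n : ℕ) (f : Fin n → (V →ₗ[K] W))
    (hV : 0 < Module.finrank K V) (hW : 0 < Module.finrank K W)
    (h : n * Module.finrank K V < Module.finrank K W ∨ n * Module.finrank K W < Module.finrank K V) :
    ¬ KronMod.IsSemistable f := by
  rintro ⟨_, hss⟩
  rcases h with h | h
  · have hne : LinearMap.range (Groth.Agent.H77.kSum f) ≠ ⊤ := by
      intro e
      have h1 : Module.finrank K (LinearMap.range (Groth.Agent.H77.kSum f)) ≤
          Module.finrank K (Fin n → V) := LinearMap.finrank_range_le _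
      rw [e, finrank_top, Groth.Agent.H77.finrank_fin_fun'] at h1
      omega
    have h1 := hss ⊤ (LinearMap.range (Groth.Agent.H77.kSum f))
      (Groth.Agent.H77.isSubrep_top_range_kSum f)
      (fun h => Groth.Agent.H77.bot_ne_top_of_finrank_pos hV h.1.symm) (fun h => hne h.2)
    rw [finrank_top] at h1
    have h2 : Module.finrank K (LinearMap.range (Groth.Agent.H77.kSum f)) ≤
        n * Module.finrank K V := by
      have := LinearMap.finrank_range_le (Groth.Agent.H77.kSum f)
      rwa [Groth.Agent.H77.finrank_fin_fun'] at this
    have h3 : Module.finrank K V * Module.finrank K (LinearMap.range (Groth.Agent.H77.kSum f)) ≤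
        Module.finrank K V * (n * Module.finrank K V) := Nat.mul_le_mul_left _ h2
    have h4 : Module.finrank K V * (n * Module.finrank K V) <
        Module.finrank K V * Module.finrank K W := Nat.mul_lt_mul_of_pos_left h hV
    have h5 : Module.finrank K W * Module.finrank K V = Module.finrank K V * Module.finrank K W :=
      Nat.mul_comm _ _
    omega
  · have hrk := LinearMap.finrank_range_add_finrank_ker (Groth.Agent.H77.kProd f)
    have h2 : Module.finrank K (LinearMap.range (Groth.Agent.H77.kProd f)) ≤
        n * Module.finrank K W := by
      have := Submodule.finrank_le (LinearMap.range (Groth.Agent.H77.kProd f))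
      rwa [Groth.Agent.H77.finrank_fin_fun'] at this
    have hpos : 0 < Module.finrank K (LinearMap.ker (Groth.Agent.H77.kProd f)) := by omega
    have hne : LinearMap.ker (Groth.Agent.H77.kProd f) ≠ ⊥ := by
      intro e
      rw [e, finrank_bot] at hpos
      exact lt_irrefl _ hpos
    have h1 := hss (LinearMap.ker (Groth.Agent.H77.kProd f)) ⊥
      (Groth.Agent.H77.isSubrep_ker_kProd_bot f)
      (fun h => hne h.1) (fun h => Groth.Agent.H77.bot_ne_top_of_finrank_pos hW h.2)
    rw [finrank_bot, mul_zero] at h1
    have := Nat.mul_pos hW hpos
    omega

end Groth.Agent.S15560
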