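import Groth.Statements.S15563
import Groth.Agent.H77.Kron

set_option autoImplicit false
universe u v w
open KronMod

namespace Groth.Agent.S15563

/-- Let f be a Kronecker module with n arrows over a field K, from V of dimension d₋₁ > 0 to W of
dimension n·d₋₁. Then f is stable if and only if f is semistable and d₋₁ = 1: for d₋₁ = 1 every
semistable module is stable (so the stable locus of K(n; 1, n) is the one point), while for d₋₁ > 1
no module is stable. (The published statement assumes K algebraically closed of characteristic zero
and n ≥ 2; this row allows any field K and any number n of arrows.) -/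
theorem result (K : Type u) [Field K] (V : Type v) (W : Type w)
    [AddCommGroup V] [Module K V] [FiniteDimensional K V]
    [AddCommGroup W] [Module K W] [FiniteDimensional K W]
    (n : ℕ) (f : Fin n → (V →ₗ[K] W))
    (hV : 0 < Module.finrank K V) (hW : Module.finrank K W = n * Module.finrank K V) :
    KronMod.IsStable f ↔ (KronMod.IsSemistable f ∧ Module.finrank K V = 1) := by
  constructor
  · intro hst
    have hss : KronMod.IsSemistable f :=
      ⟨hst.1, fun V' W' h1 h2 h3 => le_of_lt (hst.2 V' W' h1 h2 h3)⟩
    refine ⟨hss, ?_⟩
    have hb := (Groth.Agent.H77.isSemistable_iff_kSum_bijective f hV hW).mp hss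
    by_contra hne
    obtain ⟨v, hv⟩ : ∃ v : V, v ≠ 0 := by
      have : Nontrivial V := Module.finrank_pos_iff.mp hV
      exact exists_ne 0
    let Ψ : (Fin n → K) →ₗ[K] W :=
      (Groth.Agent.H77.kSum f).comp (LinearMap.pi fun j => (LinearMap.toSpanSingleton K V v).comp (LinearMap.proj j))
    have hΨ : ∀ c : Fin n → K, Ψ c = Groth.Agent.H77.kSum f (fun j => c j • v) := fun c => rfl
    have hΨinj : Function.Injective Ψ := by
      intro c c' hcc
      rw [hΨ, hΨ] at hcc
      have := hb.1 hcc
      funext j
      have h2 := congr_fun this j
      exact smul_left_injective K hv h2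
    have hsub : KronMod.IsSubrep f (Submodule.span K {v}) (LinearMap.range Ψ) := by
      intro j w hw
      obtain ⟨x, hx, rfl⟩ := hw
      obtain ⟨c, rfl⟩ := Submodule.mem_span_singleton.mp hx
      refine ⟨Pi.single j c, ?_⟩
      rw [hΨ]
      have : (fun i => (Pi.single j c : Fin n → K) i • v) = Pi.single j (c • v) := by
        funext i
        by_cases hij : i = j
        · subst hij; simp
        · simp [Pi.single_eq_of_ne hij]
      rw [this, Groth.Agent.H77.kSum_single]
    have hfr : Module.finrank K (Submodule.span K {v}) = 1 := finrank_span_singleton hv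
    have hfr2 : Module.finrank K (LinearMap.range Ψ) = n := by
      rw [LinearMap.finrank_range_of_inj hΨinj]
      simp
    have h1 := hst.2 (Submodule.span K {v}) (LinearMap.range Ψ) hsub
      (fun h => by
        have := h.1
        rw [Submodule.span_singleton_eq_bot] at this
        exact hv this)
      (fun h => by
        have := h.1
        rw [this, finrank_top] at hfr
        exact hne hfr)
    rw [hfr, hfr2, hW] at h1
    have : n * Module.finrank K V * 1 = Module.finrank K V * n := by ring
    omega
  · rintro ⟨hss, h1⟩
    have hb := (Groth.Agent.H77.isSemistable_iff_kSum_bijective f hV hW).mp hss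
    refine ⟨hss.1, fun V' W' hsub hnz hnt => ?_⟩
    have hle : Module.finrank K V' ≤ 1 := h1 ▸ Submodule.finrank_le V'
    rcases Nat.eq_zero_or_pos (Module.finrank K V') with h0 | hpos
    · have hV' : V' = ⊥ := Submodule.finrank_eq_zero.mp h0
      have hW' : W' ≠ ⊥ := fun h => hnz ⟨hV', h⟩
      have : 0 < Module.finrank K W' := by
        rcases Nat.eq_zero_or_pos (Module.finrank K W') with h | h
        · exact absurd (Submodule.finrank_eq_zero.mp h) hW'
        · exact h
      rw [h0, h1]
      omega
    · have hV' : V' = ⊤ := Submodule.eq_top_of_finrank_eq (by omega)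
      have hW' : W' = ⊤ := by
        rw [eq_top_iff]
        intro w _
        obtain ⟨x, rfl⟩ := hb.2 w
        exact Groth.Agent.H77.kSum_mem_of_isSubrep hsub x (fun j => hV' ▸ Submodule.mem_top)
      exact absurd ⟨hV', hW'⟩ hnt

end Groth.Agent.S15563
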