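import Groth.Statements.S15564
import Groth.Agent.H77.Kron

set_option autoImplicit false
universe u v w
open KronMod

namespace Groth.Agent.S15564

/-- For a Kronecker module f with n arrows over a field K between one-dimensional spaces V and W,
semistability, stability and f ≠ 0 are equivalent: the semistable locus and the stable locus of
dimension vector (1, 1) are both the complement of the zero module. (The published statement assumes
K algebraically closed of characteristic zero and n ≥ 2; this row allows any field K and any n.) -/
theorem result (K : Type u) [Field K] (V : Type v) (W : Type w)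
    [AddCommGroup V] [Module K V] [FiniteDimensional K V]
    [AddCommGroup W] [Module K W] [FiniteDimensional K W]
    (n : ℕ) (f : Fin n → (V →ₗ[K] W))
    (hV : Module.finrank K V = 1) (hW : Module.finrank K W = 1) :
    (KronMod.IsSemistable f ↔ f ≠ 0) ∧ (KronMod.IsStable f ↔ f ≠ 0) := by
  have hVpos : 0 < Module.finrank K V := by omega
  have hWpos : 0 < Module.finrank K W := by omega
  have h_ss_ne : KronMod.IsSemistable f → f ≠ 0 := by
    rintro ⟨_, hss⟩ rfl
    have hsub : KronMod.IsSubrep (0 : Fin n → (V →ₗ[K] W)) ⊤ ⊥ := by
      intro j w hw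
      obtain ⟨v, -, rfl⟩ := hw
      simp
    have := hss ⊤ ⊥ hsub
      (fun h => Groth.Agent.H77.bot_ne_top_of_finrank_pos hVpos h.1.symm)
      (fun h => Groth.Agent.H77.bot_ne_top_of_finrank_pos hWpos h.2)
    rw [finrank_top, finrank_bot, hV, hW] at this
    omega
  have h_ne_st : f ≠ 0 → KronMod.IsStable f := by
    intro hne
    obtain ⟨j, v, hjv⟩ : ∃ j v, f j v ≠ 0 := by
      by_contra hcon
      push Not at hcon
      apply hne
      funext j
      ext v
      simpa using hcon j v
    refine ⟨by omega, fun V' W' hsub hnz hnt => ?_⟩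
    have hle : Module.finrank K V' ≤ 1 := hV ▸ Submodule.finrank_le V'
    have hleW : Module.finrank K W' ≤ 1 := hW ▸ Submodule.finrank_le W'
    rcases Nat.eq_zero_or_pos (Module.finrank K V') with h0 | hpos
    · have hV' : V' = ⊥ := Submodule.finrank_eq_zero.mp h0
      have hW' : W' ≠ ⊥ := fun h => hnz ⟨hV', h⟩
      have : 0 < Module.finrank K W' := by
        rcases Nat.eq_zero_or_pos (Module.finrank K W') with h | h
        · exact absurd (Submodule.finrank_eq_zero.mp h) hW'
        · exact h
      rw [h0, hV, hW]
      omega
    · have hV' : V' = ⊤ := Submodule.eq_top_of_finrank_eq (by omega)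
      have hmem : f j v ∈ W' := hsub j ⟨v, hV' ▸ Submodule.mem_top, rfl⟩
      have hW'ne : W' ≠ ⊥ := by
        intro h
        rw [h, Submodule.mem_bot] at hmem
        exact hjv hmem
      have : 0 < Module.finrank K W' := by
        rcases Nat.eq_zero_or_pos (Module.finrank K W') with h | h
        · exact absurd (Submodule.finrank_eq_zero.mp h) hW'ne
        · exact h
      have hW' : W' = ⊤ := Submodule.eq_top_of_finrank_eq (by omega)
      exact absurd ⟨hV', hW'⟩ hnt
  have h_st_ss : KronMod.IsStable f → KronMod.IsSemistable f := fun hst =>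
    ⟨hst.1, fun V' W' h1 h2 h3 => le_of_lt (hst.2 V' W' h1 h2 h3)⟩
  exact ⟨⟨h_ss_ne, fun h => h_st_ss (h_ne_st h)⟩, ⟨fun h => h_ss_ne (h_st_ss h), h_ne_st⟩⟩

end Groth.Agent.S15564
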