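import Groth.Statements.S15565
import Groth.Agent.H77.Kron

set_option autoImplicit false
universe u v w
open KronMod

namespace Groth.Agent.S15565

/-- Over an algebraically closed field K, a Kronecker module with two arrows between spaces V and W of
the same dimension k ≥ 2 is never stable: the stable locus of dimension vector (k, k) for the
Kronecker quiver with two arrows is empty. (The published statement also assumes characteristic
zero; this row does not.) -/
theorem result (K : Type u) [Field K] [IsAlgClosed K] (V : Type v) (W : Type w)
    [AddCommGroup V] [Module K V] [FiniteDimensional K V]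
    [AddCommGroup W] [Module K W] [FiniteDimensional K W]
    (f : Fin 2 → (V →ₗ[K] W)) (k : ℕ) (hk : 2 ≤ k)
    (hV : Module.finrank K V = k) (hW : Module.finrank K W = k) :
    ¬ KronMod.IsStable f := by
  intro hst
  have hVpos : 0 < Module.finrank K V := by omega
  have : Nontrivial V := Module.finrank_pos_iff.mp hVpos
  obtain ⟨v, hv, w, h0, h1⟩ : ∃ v : V, v ≠ 0 ∧ ∃ w : W, f 0 v ∈ Submodule.span K {w} ∧
      f 1 v ∈ Submodule.span K {w} := by
    by_cases hinj : Function.Injective (f 1)
    · have hbij : Function.Bijective (f 1) :=
        ⟨hinj, (LinearMap.injective_iff_surjective_of_finrank_eq_finrank (hV.trans hW.symm)).mp hinj⟩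
      let E := LinearEquiv.ofBijective (f 1) hbij
      let T : Module.End K V := (E.symm : W →ₗ[K] V).comp (f 0)
      obtain ⟨μ, hμ⟩ := Module.End.exists_eigenvalue T
      obtain ⟨v, hv⟩ := hμ.exists_hasEigenvector
      refine ⟨v, hv.2, f 1 v, ?_, Submodule.mem_span_singleton_self _⟩
      have h2 : T v = μ • v := hv.apply_eq_smul
      have h3 : E (T v) = f 0 v := E.apply_symm_apply (f 0 v)
      rw [h2, map_smul] at h3
      rw [← h3]
      exact Submodule.smul_mem _ _ (Submodule.mem_span_singleton_self _)
    · have : LinearMap.ker (f 1) ≠ ⊥ := fun h => hinj (LinearMap.ker_eq_bot.mp h)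
      obtain ⟨v, hvk, hv0⟩ := Submodule.exists_mem_ne_zero_of_ne_bot this
      refine ⟨v, hv0, f 0 v, Submodule.mem_span_singleton_self _, ?_⟩
      rw [LinearMap.mem_ker.mp hvk]
      exact Submodule.zero_mem _
  have hsub : KronMod.IsSubrep f (Submodule.span K {v}) (Submodule.span K {w}) := by
    intro j x hx
    obtain ⟨y, hy, rfl⟩ := hx
    obtain ⟨c, rfl⟩ := Submodule.mem_span_singleton.mp hy
    rw [map_smul]
    refine Submodule.smul_mem _ _ ?_
    fin_cases j
    · exact h0
    · exact h1
  have hfr : Module.finrank K (Submodule.span K {v}) = 1 := finrank_span_singleton hv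
  have hfr2 : Module.finrank K (Submodule.span K {w}) ≤ 1 := by
    by_cases hw : w = 0
    · rw [hw, Submodule.span_zero_singleton, finrank_bot]
      exact Nat.zero_le 1
    · rw [finrank_span_singleton hw]
  have h3 := hst.2 (Submodule.span K {v}) (Submodule.span K {w}) hsub
    (fun h => by
      have := h.1
      rw [Submodule.span_singleton_eq_bot] at this
      exact hv this)
    (fun h => by
      have := h.1
      rw [this, finrank_top] at hfr
      omega)
  rw [hfr, hV, hW] at h3
  have : k * Module.finrank K (Submodule.span K {w}) ≤ k * 1 := Nat.mul_le_mul_left _ hfr2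
  omega

end Groth.Agent.S15565
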