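import Groth.Statements.S15570
import Groth.Agent.H77.Kron

set_option autoImplicit false
universe u v w
open KronMod

namespace Groth.Agent.S15570

/-- Let f be a Kronecker module with n arrows over a field K, from V of dimension n·d₀ to W of dimension
d₀ > 0. Then f is stable if and only if f is semistable and d₀ = 1: for d₀ = 1 every semistable
module is stable (the stable locus of K(n; n, 1) is the one point), while for d₀ > 1 no module is
stable. This is the case dual to dimension vector (d₋₁, n·d₋₁). (The published statement assumes K
algebraically closed of characteristic zero and n ≥ 2; this row allows any field K and any number n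
of arrows.) -/
theorem result (K : Type u) [Field K] (V : Type v) (W : Type w)
    [AddCommGroup V] [Module K V] [FiniteDimensional K V]
    [AddCommGroup W] [Module K W] [FiniteDimensional K W]
    (n : ℕ) (f : Fin n → (V →ₗ[K] W))
    (hW : 0 < Module.finrank K W) (hV : Module.finrank K V = n * Module.finrank K W) :
    KronMod.IsStable f ↔ (KronMod.IsSemistable f ∧ Module.finrank K W = 1) := by
  constructor
  · intro hst
    have hss : KronMod.IsSemistable f :=
      ⟨hst.1, fun V' W' h1 h2 h3 => le_of_lt (hst.2 V' W' h1 h2 h3)⟩
    refine ⟨hss, ?_⟩
    have hb := (Groth.Agent.H77.isSemistable_iff_kProd_bijective f hW hV).mp hss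
    by_contra hne
    obtain ⟨w, hw⟩ : ∃ w : W, w ≠ 0 := by
      have : Nontrivial W := Module.finrank_pos_iff.mp hW
      exact exists_ne 0
    let E := LinearEquiv.ofBijective (Groth.Agent.H77.kProd f) hb
    let Ψ : (Fin n → K) →ₗ[K] V :=
      (E.symm : (Fin n → W) →ₗ[K] V).comp
        (LinearMap.pi fun j => (LinearMap.toSpanSingleton K W w).comp (LinearMap.proj j))
    have hΨ : ∀ c : Fin n → K, Ψ c = E.symm (fun j => c j • w) := fun c => rfl
    have hΨinj : Function.Injective Ψ := by
      intro c c' hcc
      rw [hΨ, hΨ] at hcc
      have := E.symm.injective hcc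
      funext j
      have h2 := congr_fun this j
      exact smul_left_injective K hw h2
    have hsub : KronMod.IsSubrep f (LinearMap.range Ψ) (Submodule.span K {w}) := by
      intro j x hx
      obtain ⟨y, hy, rfl⟩ := hx
      obtain ⟨c, rfl⟩ := hy
      rw [hΨ]
      have h1 : Groth.Agent.H77.kProd f (E.symm (fun j => c j • w)) = fun j => c j • w :=
        E.apply_symm_apply _
      have h2 := congr_fun h1 j
      change f j (E.symm fun j => c j • w) ∈ _
      rw [show f j (E.symm fun j => c j • w) = c j • w from h2]
      exact Submodule.smul_mem _ _ (Submodule.mem_span_singleton_self w)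
    have hfr : Module.finrank K (Submodule.span K {w}) = 1 := finrank_span_singleton hw
    have hfr2 : Module.finrank K (LinearMap.range Ψ) = n := by
      rw [LinearMap.finrank_range_of_inj hΨinj]
      simp
    have h1 := hst.2 (LinearMap.range Ψ) (Submodule.span K {w}) hsub
      (fun h => by
        have := h.2
        rw [Submodule.span_singleton_eq_bot] at this
        exact hw this)
      (fun h => by
        have := h.2
        rw [this, finrank_top] at hfr
        exact hne hfr)
    rw [hfr, hfr2, hV] at h1
    have : n * Module.finrank K W * 1 = Module.finrank K W * n := by ring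
    omega
  · rintro ⟨hss, h1⟩
    have hb := (Groth.Agent.H77.isSemistable_iff_kProd_bijective f hW hV).mp hss
    refine ⟨hss.1, fun V' W' hsub hnz hnt => ?_⟩
    have hle : Module.finrank K W' ≤ 1 := h1 ▸ Submodule.finrank_le W'
    rcases Nat.eq_zero_or_pos (Module.finrank K W') with h0 | hpos
    · have hW' : W' = ⊥ := Submodule.finrank_eq_zero.mp h0
      have hV' : V' = ⊥ := by
        rw [eq_bot_iff]
        intro v hv
        rw [Submodule.mem_bot]
        apply hb.1
        funext j
        have := hsub j ⟨v, hv, rfl⟩
        rw [hW', Submodule.mem_bot] at this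
        simpa [Groth.Agent.H77.kProd_apply] using this
      exact absurd ⟨hV', hW'⟩ hnz
    · have hW' : W' = ⊤ := Submodule.eq_top_of_finrank_eq (by omega)
      have hV' : V' ≠ ⊤ := fun h => hnt ⟨h, hW'⟩
      have hlt : Module.finrank K V' < Module.finrank K V := Submodule.finrank_lt hV'
      rw [h1, hW', finrank_top, h1]
      omega

end Groth.Agent.S15570
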