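import Groth.Statements.S15575
import Groth.Agent.S15573
import Groth.Agent.S15574
import Groth.Agent.S15586

set_option autoImplicit false
universe u v
open scoped TensorProduct
open RInv

namespace Groth.Agent.S15575

/-- Let `R` be a commutative ring with an involution `lam` and fixed ring `S` (no finiteness assumed).
If the localisation of `R` at a prime `p` of `S` is quadratic etale over `S_p`, then there is `s ∉
p` with `R[1/s]` quadratic etale over `S[1/s]`; in particular the set of such primes is open in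
`Spec S`. Localisations of `R` are written as base changes `S_p ⊗ R` and `S_s ⊗ R`. -/
theorem result (S : Type u) (R : Type v) [CommRing S] [CommRing R]
    [Algebra S R] (lam : R ≃+* R) (hlam : Function.Involutive lam) (hS : RInv.IsFixedRing S R lam)
    (p : PrimeSpectrum S)
    (hp : RInv.IsQuadEtale (Localization.AtPrime p.asIdeal) (Localization.AtPrime p.asIdeal ⊗[S] R)) :
    ∃ s : S, s ∉ p.asIdeal ∧
      RInv.IsQuadEtale (Localization.Away s) (Localization.Away s ⊗[S] R) := by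
  classical
  have hfix : ∀ s : S, lam (algebraMap S R s) = algebraMap S R s :=
    fun s => (hS.2 _).mpr ⟨s, rfl⟩
  let lamA : R ≃ₐ[S] R := AlgEquiv.ofRingEquiv (f := lam) hfix
  have hlamA : ∀ x, lamA x = lam x := fun x => rfl
  have hlamAinv : Function.Involutive lamA := hlam
  have hSA : RInv.IsFixedRing S R lamA.toRingEquiv := hS
  -- general facts for a flat S-algebra T
  have hΛ : ∀ (T : Type u) [CommRing T] [Algebra S T] [Module.Flat S T],
      Function.Involutive
        (Algebra.TensorProduct.congr (AlgEquiv.refl : T ≃ₐ[S] T) lamA).toRingEquiv ∧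
      RInv.IsFixedRing T (T ⊗[S] R)
        (Algebra.TensorProduct.congr (AlgEquiv.refl : T ≃ₐ[S] T) lamA).toRingEquiv := by
    intro T _ _ _
    refine ⟨?_, Groth.Agent.S15586.result S R T lamA hlamAinv hSA (Or.inl inferInstance)⟩
    intro z
    induction z using TensorProduct.induction_on with
    | zero => simp
    | tmul a b =>
      change (Algebra.TensorProduct.congr (AlgEquiv.refl : T ≃ₐ[S] T) lamA)
        ((Algebra.TensorProduct.congr (AlgEquiv.refl : T ≃ₐ[S] T) lamA) (a ⊗ₜ[S] b)) = a ⊗ₜ[S] b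
      simp only [Algebra.TensorProduct.congr_apply, Algebra.TensorProduct.map_tmul,
        AlgEquiv.coe_toAlgHom, AlgEquiv.coe_refl, id_eq, hlamA, hlam b]
    | add a b ha hb => rw [map_add, map_add, ha, hb]
  set Sp := Localization.AtPrime p.asIdeal with hSp
  obtain ⟨hΛinv, hΛfix⟩ := hΛ Sp
  set Λ := (Algebra.TensorProduct.congr (AlgEquiv.refl : Sp ≃ₐ[S] Sp) lamA).toRingEquiv with hΛdef
  have hΛtmul : ∀ (a : Sp) (x : R), Λ (a ⊗ₜ[S] x) = a ⊗ₜ[S] lam x := by
    intro a x
    change (Algebra.TensorProduct.congr (AlgEquiv.refl : Sp ≃ₐ[S] Sp) lamA) (a ⊗ₜ[S] x) = _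
    simp [hlamA]
  have hΛsmul : ∀ (t : S) (z : Sp ⊗[S] R), Λ (t • z) = t • Λ z := by
    intro t z
    change (Algebra.TensorProduct.congr (AlgEquiv.refl : Sp ≃ₐ[S] Sp) lamA) (t • z) = _
    rw [map_smul]
    rfl
  obtain ⟨ρ, hρ⟩ := Groth.Agent.S15574.result Sp (Sp ⊗[S] R) Λ hΛinv hΛfix hp
  -- localization of the module R
  let f : R →ₗ[S] Sp ⊗[S] R := TensorProduct.mk S Sp R 1
  have hf : ∀ x, f x = (1 : Sp) ⊗ₜ[S] x := fun x => rfl
  have hloc : IsLocalizedModule p.asIdeal.primeCompl f :=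
    (isLocalizedModule_iff_isBaseChange p.asIdeal.primeCompl Sp f).mpr
      (TensorProduct.isBaseChange S R Sp)
  have hsmul_eq : ∀ (t : S) (z : Sp ⊗[S] R),
      t • z = algebraMap Sp (Sp ⊗[S] R) (algebraMap S Sp t) * z := by
    intro t z
    induction z using TensorProduct.induction_on with
    | zero => simp
    | tmul a x =>
      rw [Algebra.TensorProduct.algebraMap_apply, Algebra.algebraMap_self, RingHom.id_apply,
        Algebra.TensorProduct.tmul_mul_tmul, one_mul, TensorProduct.smul_tmul', Algebra.smul_def]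
    | add a b ha hb => rw [smul_add, mul_add, ha, hb]
  have hτ : ∀ t : p.asIdeal.primeCompl,
      IsUnit (algebraMap Sp (Sp ⊗[S] R) (algebraMap S Sp (t : S))) :=
    fun t => (IsLocalization.map_units Sp t).map _
  obtain ⟨⟨x, t⟩, hxt⟩ := IsLocalizedModule.surj p.asIdeal.primeCompl f ρ
  have hxt' : (t : S) • ρ = (1 : Sp) ⊗ₜ[S] x := hxt
  have h1 : (t : S) • (ρ - Λ ρ) = (1 : Sp) ⊗ₜ[S] (x - lam x) := by
    rw [smul_sub, ← hΛsmul, hxt', hΛtmul, ← TensorProduct.tmul_sub]
  have hu1 : IsUnit ((1 : Sp) ⊗ₜ[S] (x - lam x)) := by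
    rw [← h1, hsmul_eq]
    exact (hτ t).mul hρ
  obtain ⟨η, hη⟩ := hu1.exists_right_inv
  obtain ⟨⟨y, t'⟩, hyt⟩ := IsLocalizedModule.surj p.asIdeal.primeCompl f η
  have hyt' : (t' : S) • η = (1 : Sp) ⊗ₜ[S] y := hyt
  have h2 : f ((x - lam x) * y) = f (algebraMap S R (t' : S)) := by
    rw [hf, hf]
    calc (1 : Sp) ⊗ₜ[S] ((x - lam x) * y)
        = ((1 : Sp) ⊗ₜ[S] (x - lam x)) * ((1 : Sp) ⊗ₜ[S] y) := by
          rw [Algebra.TensorProduct.tmul_mul_tmul, one_mul]
      _ = (t' : S) • (((1 : Sp) ⊗ₜ[S] (x - lam x)) * η) := by rw [← hyt', mul_smul_comm]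
      _ = (t' : S) • ((1 : Sp) ⊗ₜ[S] (1 : R)) := by rw [hη, Algebra.TensorProduct.one_def]
      _ = (1 : Sp) ⊗ₜ[S] (algebraMap S R (t' : S)) := by
          rw [TensorProduct.smul_tmul', TensorProduct.smul_tmul, Algebra.algebraMap_eq_smul_one]
  obtain ⟨t'', ht''⟩ := hloc.exists_of_eq h2
  have ht''' : (t'' : S) • ((x - lam x) * y) = algebraMap S R ((t'' : S) * (t' : S)) := by
    have : (t'' : S) • ((x - lam x) * y) = (t'' : S) • algebraMap S R (t' : S) := ht''
    rw [this, Algebra.smul_def, map_mul]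
  set s : S := (t'' : S) * (t' : S) with hs
  have hsp : s ∉ p.asIdeal := (t'' * t').2
  set Ss := Localization.Away s with hSs
  obtain ⟨hΛinv', hΛfix'⟩ := hΛ Ss
  refine ⟨s, hsp, Groth.Agent.S15573.result Ss (Ss ⊗[S] R) _ hΛinv' hΛfix'
    ⟨(1 : Ss) ⊗ₜ[S] x, ?_⟩⟩
  have hΛ'x : (Algebra.TensorProduct.congr (AlgEquiv.refl : Ss ≃ₐ[S] Ss) lamA).toRingEquiv
      ((1 : Ss) ⊗ₜ[S] x) = (1 : Ss) ⊗ₜ[S] lam x := by
    change (Algebra.TensorProduct.congr (AlgEquiv.refl : Ss ≃ₐ[S] Ss) lamA) ((1 : Ss) ⊗ₜ[S] x) = _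
    simp [hlamA]
  rw [hΛ'x, ← TensorProduct.tmul_sub]
  have key : ((1 : Ss) ⊗ₜ[S] (x - lam x)) * ((1 : Ss) ⊗ₜ[S] ((t'' : S) • y)) =
      algebraMap Ss (Ss ⊗[S] R) (algebraMap S Ss s) := by
    rw [Algebra.TensorProduct.tmul_mul_tmul, one_mul, mul_smul_comm, ht''',
      Algebra.TensorProduct.algebraMap_apply, Algebra.algebraMap_self, RingHom.id_apply,
      Algebra.algebraMap_eq_smul_one, Algebra.algebraMap_eq_smul_one, TensorProduct.tmul_smul,
      TensorProduct.smul_tmul']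
  have hunit : IsUnit (algebraMap Ss (Ss ⊗[S] R) (algebraMap S Ss s)) :=
    (IsLocalization.Away.algebraMap_isUnit s).map _
  rw [← key] at hunit
  exact isUnit_of_mul_isUnit_left hunit

end Groth.Agent.S15575
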