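import Groth.Statements.S15578
import Groth.Agent.H78.HensInt.TwoMax

set_option autoImplicit false
universe u v
open RInv

namespace Groth.Agent.S15578

/-- Let `R` be a commutative ring with an involution `lam` whose fixed ring `S` is strictly henselian
(henselian local with separably closed residue field). Then `R` is isomorphic to a product of
finitely many strictly henselian local rings (existence of a ring isomorphism with such a product). -/
theorem result (S : Type u) (R : Type v) [CommRing S] [CommRing R]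
    [Algebra S R] (lam : R ≃+* R) (hlam : Function.Involutive lam) (hS : RInv.IsFixedRing S R lam)
    [HenselianLocalRing S] [IsSepClosed (IsLocalRing.ResidueField S)] :
    ∃ (ι : Type) (_ : Fintype ι) (T : ι → Type v) (_ : ∀ i, CommRing (T i))
      (_ : ∀ i, HenselianLocalRing (T i)),
      (∀ i, IsSepClosed (IsLocalRing.ResidueField (T i))) ∧ Nonempty (R ≃+* (∀ i, T i)) := by
  classical
  obtain ⟨hinj, hfix⟩ := hS
  -- integrality
  haveI : Algebra.IsIntegral S R := by
    constructor
    intro r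
    obtain ⟨st, hst⟩ := (hfix (r + lam r)).mp (by rw [map_add, hlam r]; ring)
    obtain ⟨sn, hsn⟩ := (hfix (r * lam r)).mp (by rw [map_mul, hlam r]; ring)
    refine ⟨Polynomial.X ^ 2 + (Polynomial.C (-st) * Polynomial.X + Polynomial.C sn), ?_, ?_⟩
    · apply Polynomial.monic_X_pow_add
      exact lt_of_le_of_lt (Polynomial.degree_linear_le) (by norm_num)
    · rw [Polynomial.eval₂_add, Polynomial.eval₂_add, Polynomial.eval₂_mul, Polynomial.eval₂_pow,
        Polynomial.eval₂_X, Polynomial.eval₂_C, Polynomial.eval₂_C, map_neg, hst, hsn]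
      ring
  haveI : Nontrivial R := hinj.nontrivial
  obtain ⟨𝔪₁, h₁⟩ := Ideal.exists_maximal R
  set 𝔪₂ : Ideal R := 𝔪₁.comap (lam : R →+* R) with h𝔪₂
  have h₂ : 𝔪₂.IsMaximal := Ideal.comap_isMaximal_of_surjective (lam : R →+* R) lam.surjective
  have hall : ∀ M : Ideal R, M.IsMaximal → M = 𝔪₁ ∨ M = 𝔪₂ := by
    intro M hM
    by_contra hcon
    push Not at hcon
    have hn1 : ¬ M ≤ 𝔪₁ := fun h => hcon.1 (hM.eq_of_le h₁.ne_top h)
    have hn2 : ¬ M ≤ 𝔪₂ := fun h => hcon.2 (hM.eq_of_le h₂.ne_top h)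
    have hnot : ¬ ((M : Set R) ⊆ 𝔪₁ ∪ 𝔪₂) := by
      rw [Ideal.subset_union]
      push Not
      exact ⟨hn1, hn2⟩
    obtain ⟨r, hrM, hr⟩ := Set.not_subset.mp hnot
    obtain ⟨sn, hsn⟩ := (hfix (r * lam r)).mp (by rw [map_mul, hlam r]; ring)
    have hM_S : M.comap (algebraMap S R) = IsLocalRing.maximalIdeal S :=
      IsLocalRing.eq_maximalIdeal (Ideal.isMaximal_comap_of_isIntegral_of_isMaximal M)
    have h1_S : 𝔪₁.comap (algebraMap S R) = IsLocalRing.maximalIdeal S :=
      IsLocalRing.eq_maximalIdeal (Ideal.isMaximal_comap_of_isIntegral_of_isMaximal 𝔪₁)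
    have hsnM : sn ∈ M.comap (algebraMap S R) := by
      rw [Ideal.mem_comap, hsn]
      exact M.mul_mem_right _ hrM
    have hsn1 : sn ∈ 𝔪₁.comap (algebraMap S R) := by rw [h1_S, ← hM_S]; exact hsnM
    have hmem : r * lam r ∈ 𝔪₁ := by
      rw [← hsn]; exact hsn1
    rcases h₁.isPrime.mem_or_mem hmem with h | h
    · exact hr (Or.inl h)
    · exact hr (Or.inr h)
  exact Groth.Agent.H78.HensInt.exists_pi_of_two_maximal S R 𝔪₁ 𝔪₂ h₁ h₂ hall

end Groth.Agent.S15578
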