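import Groth.Statements.S15579
import Mathlib

set_option autoImplicit false
universe u v
open RInv

namespace Groth.Agent.S15579

/-- For a local ring `S` with maximal ideal `m` and a quadratic etale `S`-algebra `R`, the Jacobson
radical of `R` is `mR`. -/
theorem result (S : Type u) (R : Type v) [CommRing S]
    [CommRing R] [Algebra S R] [IsLocalRing S] (hq : RInv.IsQuadEtale S R) :
    Ring.jacobson R = (IsLocalRing.maximalIdeal S).map (algebraMap S R) := by
  obtain ⟨hfin, hproj, hunr, hrank⟩ := hq
  have : Algebra.IsIntegral S R := Algebra.IsIntegral.of_finite S R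
  apply le_antisymm
  · have hrad := Algebra.FormallyUnramified.isRadical_map_isMaximal (A := S) R
      (IsLocalRing.maximalIdeal S)
    rw [← hrad.radical, Ideal.radical_eq_sInf, le_sInf_iff]
    rintro P ⟨hmP, hP⟩
    have hcomap : P.comap (algebraMap S R) = IsLocalRing.maximalIdeal S :=
      le_antisymm (IsLocalRing.le_maximalIdeal (Ideal.comap_ne_top _ hP.ne_top))
        (Ideal.map_le_iff_le_comap.mp hmP)
    have hPmax : P.IsMaximal :=
      Ideal.isMaximal_of_isIntegral_of_isMaximal_comap P (by rw [hcomap]; infer_instance)
    exact Ring.jacobson_le_of_isMaximal P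
  · rw [Ring.jacobson_eq_sInf_isMaximal, le_sInf_iff]
    intro M hM
    have hM' : M.IsMaximal := hM
    rw [Ideal.map_le_iff_le_comap]
    have : (M.comap (algebraMap S R)).IsMaximal :=
      Ideal.isMaximal_comap_of_isIntegral_of_isMaximal M
    rw [IsLocalRing.eq_maximalIdeal this]

end Groth.Agent.S15579
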