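import Groth.Statements.S15580
import Groth.Agent.S15574
import Groth.Agent.H77.RInvBasic

set_option autoImplicit false
universe u v
open RInv

namespace Groth.Agent.S15580

/-- Let `S` be a local ring, `R` a quadratic etale `S`-algebra and `lam` an involution of `R` with fixed
ring `S`. Then every unit `r` of `R` with `lam r * r = 1` can be written `a⁻¹ * lam a` for a unit
`a` of `R`. -/
theorem result (S : Type u) (R : Type v) [CommRing S] [CommRing R]
    [Algebra S R] (lam : R ≃+* R) (hlam : Function.Involutive lam) (hS : RInv.IsFixedRing S R lam)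
    [IsLocalRing S] (hq : RInv.IsQuadEtale S R) (r : Rˣ) (hr : lam r * r = 1) :
    ∃ a : Rˣ, (r : R) = (a⁻¹ : Rˣ) * lam a := by
  classical
  obtain ⟨z, hz⟩ := Groth.Agent.S15574.result S R lam hlam hS hq
  have hrlu : IsUnit (lam (r : R)) := r.isUnit.map lam
  -- candidates
  set a₁ : R := 1 + lam r with ha₁
  set a₂ : R := z + lam z * lam r with ha₂
  have hrel : ∀ c : R, (c + lam c * lam r) * r = lam (c + lam c * lam r) := by
    intro c
    rw [map_add, map_mul, hlam c, hlam (r : R), add_mul, mul_assoc, hr, mul_one, add_comm]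
  have hv : IsUnit (a₂ - z * a₁) := by
    have : a₂ - z * a₁ = lam r * -(z - lam z) := by rw [ha₁, ha₂]; ring
    rw [this]
    exact hrlu.mul hz.neg
  -- at most one of a₁, a₂, a₁ + a₂ lies in a given maximal ideal
  have h12 : ∀ M : Ideal R, M.IsMaximal → a₁ ∈ M → a₂ ∈ M → False := by
    intro M hM h1 h2
    exact hM.ne_top (Ideal.eq_top_of_isUnit_mem _ (M.sub_mem h2 (M.mul_mem_left z h1)) hv)
  have h13 : ∀ M : Ideal R, M.IsMaximal → a₁ ∈ M → a₁ + a₂ ∈ M → False := by
    intro M hM h1 h3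
    exact h12 M hM h1 (by simpa using M.sub_mem h3 h1)
  have h23 : ∀ M : Ideal R, M.IsMaximal → a₂ ∈ M → a₁ + a₂ ∈ M → False := by
    intro M hM h2 h3
    exact h12 M hM (by simpa using M.sub_mem h3 h2) h2
  -- one of the three is a unit
  have hexu : ∃ c : R, IsUnit (c + lam c * lam r) := by
    by_contra hcon
    push Not at hcon
    have hn1 : ¬ IsUnit a₁ := by
      have := hcon 1
      rwa [map_one, one_mul] at this
    have hn2 : ¬ IsUnit a₂ := hcon z
    have hn3 : ¬ IsUnit (a₁ + a₂) := by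
      have := hcon (1 + z)
      have e : (1 + z) + lam (1 + z) * lam r = a₁ + a₂ := by
        rw [ha₁, ha₂, map_add, map_one]; ring
      rwa [e] at this
    obtain ⟨M₁, hM₁, h1⟩ := exists_max_ideal_of_mem_nonunits hn1
    obtain ⟨M₂, hM₂, h2⟩ := exists_max_ideal_of_mem_nonunits hn2
    obtain ⟨M₃, hM₃, h3⟩ := exists_max_ideal_of_mem_nonunits hn3
    have e2 := Groth.Agent.H77.RInvB.eq_or_eq_comap_of_isMaximal lam hlam hS M₁ M₂
    have e3 := Groth.Agent.H77.RInvB.eq_or_eq_comap_of_isMaximal lam hlam hS M₁ M₃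
    rcases e2 with e2 | e2
    · exact h12 M₁ hM₁ h1 (e2 ▸ h2)
    · rcases e3 with e3 | e3
      · exact h13 M₁ hM₁ h1 (e3 ▸ h3)
      · exact h23 M₂ hM₂ h2 (e2 ▸ e3 ▸ h3)
  obtain ⟨c, hc⟩ := hexu
  obtain ⟨a, ha⟩ := hc
  refine ⟨a, ?_⟩
  have := hrel c
  rw [← ha] at this
  calc (r : R) = ↑a⁻¹ * (↑a * r) := by rw [← mul_assoc, Units.inv_mul, one_mul]
    _ = ↑a⁻¹ * lam a := by rw [this]

end Groth.Agent.S15580
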