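import Groth.Statements.S15581
import Mathlib

set_option autoImplicit false
universe u v
open RInv

namespace Groth.Agent.S15581

/-- Let `A` be a commutative ring with an involution `lam` whose fixed ring `B` is local with `2`
invertible. Then `Jac(A)^2 ⊆ Jac(B) A`. -/
theorem result (B : Type u) (A : Type v) [CommRing B]
    [CommRing A] [Algebra B A] (lam : A ≃+* A) (hlam : Function.Involutive lam)
    (hB : RInv.IsFixedRing B A lam) [IsLocalRing B] (h2 : IsUnit (2 : B)) :
    (Ring.jacobson A) ^ 2 ≤ (IsLocalRing.maximalIdeal B).map (algebraMap B A) := by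
  classical
  set J := Ring.jacobson A with hJ
  set mA := (IsLocalRing.maximalIdeal B).map (algebraMap B A) with hmA
  have : Nontrivial A := by
    refine ⟨⟨0, 1, ?_⟩⟩
    intro h01
    have : algebraMap B A 0 = algebraMap B A 1 := by rw [map_zero, map_one]; exact h01
    exact zero_ne_one (hB.1 this)
  have hJtop : J ≠ ⊤ := (Ring.jacobson_lt_top A).ne
  have hJmem : ∀ x : A, x ∈ J ↔ ∀ y, IsUnit (x * y + 1) := by
    intro x
    rw [hJ, ← Ideal.jacobson_bot]
    exact Ideal.mem_jacobson_bot
  -- stability under the involution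
  have hstab : ∀ x ∈ J, lam x ∈ J := by
    intro x hx
    rw [hJmem] at hx ⊢
    intro y
    have := (hx (lam y)).map lam
    rwa [map_add, map_mul, hlam y, map_one] at this
  -- fixed elements of J come from the maximal ideal of B
  have hfix : ∀ w ∈ J, lam w = w → w ∈ mA := by
    intro w hw hlw
    obtain ⟨b, rfl⟩ := (hB.2 w).mp hlw
    apply Ideal.mem_map_of_mem
    by_contra hb
    have hbu : IsUnit b := by
      by_contra hnu
      exact hb ((IsLocalRing.mem_maximalIdeal b).mpr hnu)
    exact hJtop (Ideal.eq_top_of_isUnit_mem _ hw (hbu.map (algebraMap B A)))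
  rw [pow_two, Ideal.mul_le]
  intro x hx y hy
  have hxp : x + lam x ∈ mA := hfix _ (J.add_mem hx (hstab x hx)) (by rw [map_add, hlam x, add_comm])
  have hyp : y + lam y ∈ mA := hfix _ (J.add_mem hy (hstab y hy)) (by rw [map_add, hlam y, add_comm])
  have hxm : x - lam x ∈ J := J.sub_mem hx (hstab x hx)
  have hmm : (x - lam x) * (y - lam y) ∈ mA := by
    apply hfix _ (J.mul_mem_right _ hxm)
    rw [map_mul, map_sub, map_sub, hlam x, hlam y]
    ring
  obtain ⟨c, hc⟩ := h2.exists_left_inv
  have h4 : (4 : A) * (x * y) ∈ mA := by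
    have e : (4 : A) * (x * y) = (x + lam x) * (y + lam y) + (x + lam x) * (y - lam y) +
        (x - lam x) * (y + lam y) + (x - lam x) * (y - lam y) := by ring
    rw [e]
    exact mA.add_mem (mA.add_mem (mA.add_mem (mA.mul_mem_right _ hxp) (mA.mul_mem_right _ hxp))
      (mA.mul_mem_left _ hyp)) hmm
  have hcA : (algebraMap B A c) * 2 = 1 := by
    have := congr_arg (algebraMap B A) hc
    rwa [map_mul, map_ofNat, map_one] at this
  have e2 : x * y = (algebraMap B A c) * (algebraMap B A c) * ((4 : A) * (x * y)) := by
    have : (algebraMap B A c) * (algebraMap B A c) * (4 : A) = 1 := by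
      have h22 : (4 : A) = 2 * 2 := by norm_num
      rw [h22]
      calc algebraMap B A c * algebraMap B A c * (2 * 2)
          = (algebraMap B A c * 2) * (algebraMap B A c * 2) := by ring
        _ = 1 := by rw [hcA, one_mul]
    rw [← mul_assoc, this, one_mul]
  rw [e2]
  exact mA.mul_mem_left _ h4

end Groth.Agent.S15581
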