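import Groth.Statements.S15585
import Groth.Agent.H77.QuadAlg

set_option autoImplicit false
universe u v
open RInv

namespace Groth.Agent.S15585

/-- For a local ring `S` (maximal ideal `m`, residue field `k`) and a quadratic etale `S`-algebra `R`,
the ring `R/mR` is a field that is a separable extension of `k` of degree 2, or else it is
isomorphic as a `k`-algebra to `k × k`. -/
theorem result (S : Type u) (R : Type v) [CommRing S]
    [CommRing R] [Algebra S R] [IsLocalRing S] (hq : RInv.IsQuadEtale S R) :
    (IsField (R ⧸ (IsLocalRing.maximalIdeal S).map (algebraMap S R)) ∧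
      Module.finrank (S ⧸ IsLocalRing.maximalIdeal S)
        (R ⧸ (IsLocalRing.maximalIdeal S).map (algebraMap S R)) = 2 ∧
      Algebra.IsSeparable (S ⧸ IsLocalRing.maximalIdeal S)
        (R ⧸ (IsLocalRing.maximalIdeal S).map (algebraMap S R))) ∨
    Nonempty ((R ⧸ (IsLocalRing.maximalIdeal S).map (algebraMap S R)) ≃ₐ[S ⧸ IsLocalRing.maximalIdeal S]
      ((S ⧸ IsLocalRing.maximalIdeal S) × (S ⧸ IsLocalRing.maximalIdeal S))) := by
  classical
  obtain ⟨hfin, hproj, hunr, hrank⟩ := hq
  letI : Field (S ⧸ IsLocalRing.maximalIdeal S) := Ideal.Quotient.field (IsLocalRing.maximalIdeal S)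
  have hfree : Module.Free S R := Module.free_of_flat_of_isLocalRing
  have hfr : Module.finrank S R = 2 := by
    have := hrank (IsLocalRing.closedPoint S)
    rw [Module.rankAtStalk_eq_finrank_of_free] at this
    simpa using this
  have hfinrank : Module.finrank (S ⧸ IsLocalRing.maximalIdeal S)
      (R ⧸ (IsLocalRing.maximalIdeal S).map (algebraMap S R)) = 2 := by
    rw [IsLocalRing.finrank_quotient_map, hfr]
  have h1 : Algebra.FormallyUnramified S (R ⧸ (IsLocalRing.maximalIdeal S).map (algebraMap S R)) :=
    Algebra.FormallyUnramified.of_surjective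
      (Ideal.Quotient.mkₐ S ((IsLocalRing.maximalIdeal S).map (algebraMap S R)))
      Ideal.Quotient.mk_surjective
  have h2 : Algebra.FormallyUnramified (S ⧸ IsLocalRing.maximalIdeal S)
      (R ⧸ (IsLocalRing.maximalIdeal S).map (algebraMap S R)) := .of_restrictScalars S _ _
  have h3 : Module.Finite (S ⧸ IsLocalRing.maximalIdeal S)
      (R ⧸ (IsLocalRing.maximalIdeal S).map (algebraMap S R)) :=
    Module.Finite.of_restrictScalars_finite S _ _
  have h4 : IsReduced (R ⧸ (IsLocalRing.maximalIdeal S).map (algebraMap S R)) :=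
    Algebra.FormallyUnramified.isReduced_of_field (S ⧸ IsLocalRing.maximalIdeal S) _
  by_cases hfield : IsField (R ⧸ (IsLocalRing.maximalIdeal S).map (algebraMap S R))
  · left
    refine ⟨hfield, hfinrank, ?_⟩
    letI := hfield.toField
    exact Algebra.FormallyUnramified.isSeparable (S ⧸ IsLocalRing.maximalIdeal S)
      (R ⧸ (IsLocalRing.maximalIdeal S).map (algebraMap S R))
  · right
    exact Groth.Agent.H77.nonempty_algEquiv_prod_of_finrank_two hfinrank hfield

end Groth.Agent.S15585
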