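import Groth.Statements.S15590
import Mathlib

set_option autoImplicit false
universe u v
open CAlg

namespace Groth.Agent.S15590

/-- Let A → B be an injective homomorphism of commutative rings which makes B a finite flat A-module,
and suppose B is a Dedekind domain (Noetherian, integrally closed, of Krull dimension at most one; a
field is allowed). Then A is a Dedekind domain. -/
theorem result (A : Type u) (B : Type v)
    [CommRing A] [CommRing B] [Algebra A B] [IsDedekindDomain B]
    (hinj : Function.Injective (algebraMap A B)) [Module.Finite A B] [Module.Flat A B] :
    IsDedekindDomain A := by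
  classical
  have : FaithfulSMul A B := (faithfulSMul_iff_algebraMap_injective A B).mpr hinj
  have : Algebra.IsIntegral A B := Algebra.IsIntegral.of_finite A B
  have hdomA : IsDomain A := hinj.isDomain (algebraMap A B)
  have hff : Module.FaithfullyFlat A B := inferInstance
  rw [isDedekindDomain_iff (A := A) (FractionRing A)]
  refine ⟨hdomA, ?_, ?_, ?_⟩
  · -- Noetherian
    let emb : Ideal A ↪o Ideal B :=
      OrderEmbedding.ofMapLEIff (Ideal.map (algebraMap A B)) (by
        intro I J
        constructor
        · intro h
          have := Ideal.comap_mono (f := algebraMap A B) h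
          rwa [Ideal.comap_map_eq_self_of_faithfullyFlat, Ideal.comap_map_eq_self_of_faithfullyFlat]
            at this
        · exact fun h => Ideal.map_mono h)
    have hB : IsNoetherianRing B := inferInstance
    rw [isNoetherianRing_iff, isNoetherian_iff'] at hB ⊢
    exact emb.wellFoundedGT
  · -- dimension ≤ 1
    constructor
    intro p hp0 hpprime
    obtain ⟨Q, hQprime, hQp⟩ := Ideal.exists_isPrime_liesOver_of_faithfullyFlat (B := B) p
    have hQp' : Q.comap (algebraMap A B) = p := hQp.over.symm
    have hQ0 : Q ≠ ⊥ := by
      intro h
      apply hp0
      rw [← hQp', h]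
      rw [← RingHom.ker_eq_comap_bot]
      exact (RingHom.injective_iff_ker_eq_bot _).mp hinj
    have : Q.IsMaximal := hQprime.isMaximal hQ0
    rw [← hQp']
    exact Ideal.isMaximal_comap_of_isIntegral_of_isMaximal (R := A) Q
  · -- integrally closed
    intro x hx
    have : FaithfulSMul A (FractionRing B) :=
      (faithfulSMul_iff_algebraMap_injective A (FractionRing B)).mpr (by
        rw [IsScalarTower.algebraMap_eq A B (FractionRing B)]
        exact (IsFractionRing.injective B (FractionRing B)).comp hinj)
    let _ := FractionRing.liftAlgebra A (FractionRing B)
    have := FractionRing.isScalarTower_liftAlgebra A (FractionRing B)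
    have hx' : IsIntegral A (algebraMap (FractionRing A) (FractionRing B) x) :=
      hx.map (IsScalarTower.toAlgHom A (FractionRing A) (FractionRing B))
    have hx'' : IsIntegral B (algebraMap (FractionRing A) (FractionRing B) x) := hx'.tower_top
    obtain ⟨b, hb⟩ := (isIntegrallyClosed_iff (FractionRing B)).mp inferInstance hx''
    obtain ⟨a, s, hs, rfl⟩ := IsFractionRing.div_surjective (A := A) x
    have hs0 : s ≠ 0 := nonZeroDivisors.ne_zero hs
    have hsK : algebraMap A (FractionRing A) s ≠ 0 := by
      intro h
      exact hs0 ((IsFractionRing.injective A (FractionRing A)) (by rw [h, map_zero]))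
    have hsL : algebraMap A (FractionRing B) s ≠ 0 := by
      intro h
      exact hs0 ((FaithfulSMul.algebraMap_injective A (FractionRing B)) (by rw [h, map_zero]))
    -- a = s * b in B
    have hab : algebraMap A B a = algebraMap A B s * b := by
      apply IsFractionRing.injective B (FractionRing B)
      rw [map_mul, hb, map_div₀, ← IsScalarTower.algebraMap_apply A (FractionRing A) (FractionRing B),
        ← IsScalarTower.algebraMap_apply A (FractionRing A) (FractionRing B),
        ← IsScalarTower.algebraMap_apply A B (FractionRing B),
        ← IsScalarTower.algebraMap_apply A B (FractionRing B)]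
      field_simp
    have hmem : a ∈ (Ideal.map (algebraMap A B) (Ideal.span {s})).comap (algebraMap A B) := by
      rw [Ideal.mem_comap, hab]
      exact Ideal.mul_mem_right _ _ (Ideal.mem_map_of_mem _ (Ideal.subset_span rfl))
    rw [Ideal.comap_map_eq_self_of_faithfullyFlat, Ideal.mem_span_singleton'] at hmem
    obtain ⟨a', rfl⟩ := hmem
    refine ⟨a', ?_⟩
    rw [map_mul]
    field_simp

end Groth.Agent.S15590
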