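import Groth.Statements.S15595
import Groth.Agent.H20.EtaleRegular

set_option autoImplicit false
universe u
open TensorProduct
attribute [local instance] RingHom.ker_isPrime
open CAlg

namespace Groth.Agent.S15595

/-- Let k ⊆ K be a field extension and A a Noetherian local k-algebra with residue field k, recorded by
a k-algebra map π : A → k whose kernel is the maximal ideal. Let π_K : K ⊗_k A → K be the induced
K-algebra map, m' its kernel, and A' the localization of K ⊗_k A at m'. Assume A' is Noetherian.
Then A is a regular local ring if and only if A' is a regular local ring. -/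
theorem result (k K A : Type u) [Field k] [Field K]
    [Algebra k K] [CommRing A] [Algebra k A] [IsLocalRing A] [IsNoetherianRing A]
    (π : A →ₐ[k] k) (hπ : RingHom.ker π = IsLocalRing.maximalIdeal A)
    [IsNoetherianRing (Localization.AtPrime (RingHom.ker
      ((Algebra.TensorProduct.rid k K K).toAlgHom.comp (Algebra.TensorProduct.map (AlgHom.id K K) π))))] :
    IsRegularLocalRing A ↔ IsRegularLocalRing (Localization.AtPrime (RingHom.ker
      ((Algebra.TensorProduct.rid k K K).toAlgHom.comp (Algebra.TensorProduct.map (AlgHom.id K K) π)))) := by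
  classical
  -- notation
  set πK : K ⊗[k] A →ₐ[K] K :=
    (Algebra.TensorProduct.rid k K K).toAlgHom.comp (Algebra.TensorProduct.map (AlgHom.id K K) π)
    with hπK
  set P : Ideal (K ⊗[k] A) := RingHom.ker πK with hP
  have hπKt : ∀ (c : K) (a : A), πK (c ⊗ₜ[k] a) = π a • c := by
    intro c a
    simp [hπK]
  set incR : A →+* K ⊗[k] A :=
    (Algebra.TensorProduct.includeRight : A →ₐ[k] K ⊗[k] A).toRingHom with hincR
  have hincR_apply : ∀ a : A, incR a = (1 : K) ⊗ₜ[k] a := fun a => rfl
  set mT : Ideal (K ⊗[k] A) := Ideal.map incR (IsLocalRing.maximalIdeal A) with hmT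
  -- every element is congruent to a constant modulo `mT`
  have hcong : ∀ x : K ⊗[k] A, x - (πK x) ⊗ₜ[k] (1 : A) ∈ mT := by
    intro x
    induction x using TensorProduct.induction_on with
    | zero => simp
    | add x y hx hy =>
      have : x + y - (πK (x + y)) ⊗ₜ[k] (1 : A) =
          (x - (πK x) ⊗ₜ[k] (1 : A)) + (y - (πK y) ⊗ₜ[k] (1 : A)) := by
        rw [map_add, TensorProduct.add_tmul]; ring
      rw [this]; exact Ideal.add_mem _ hx hy
    | tmul c a =>
      rw [hπKt]
      have h1 : a - algebraMap k A (π a) ∈ IsLocalRing.maximalIdeal A := by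
        rw [← hπ, RingHom.mem_ker, map_sub, AlgHom.commutes, Algebra.algebraMap_self_apply,
          sub_self]
      have h2 : c ⊗ₜ[k] a - (π a • c) ⊗ₜ[k] (1 : A) =
          (c ⊗ₜ[k] (1 : A)) * incR (a - algebraMap k A (π a)) := by
        rw [hincR_apply, Algebra.TensorProduct.tmul_mul_tmul, mul_one, one_mul,
          TensorProduct.tmul_sub, TensorProduct.smul_tmul, Algebra.algebraMap_eq_smul_one]
      rw [h2]
      exact Ideal.mul_mem_left _ _ (Ideal.mem_map_of_mem _ h1)
  have hPm : P = mT := by
    apply le_antisymm
    · intro x hx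
      have := hcong x
      rw [hP, RingHom.mem_ker] at hx
      rwa [hx, TensorProduct.zero_tmul, sub_zero] at this
    · rw [hmT, Ideal.map_le_iff_le_comap]
      intro a ha
      rw [Ideal.mem_comap, hP, RingHom.mem_ker, hincR_apply, hπKt]
      rw [← hπ, RingHom.mem_ker] at ha
      rw [ha, zero_smul]
  -- the algebra structures
  letI algAT : Algebra A (K ⊗[k] A) := incR.toAlgebra
  -- flatness
  haveI flatAT : Module.Flat A (K ⊗[k] A) := by
    let e : (K ⊗[k] A) ≃ₗ[A] (A ⊗[k] K) :=
      { toFun := Algebra.TensorProduct.comm k K A
        invFun := (Algebra.TensorProduct.comm k K A).symm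
        map_add' := fun x y => map_add _ x y
        map_smul' := by
          intro a x
          show Algebra.TensorProduct.comm k K A (incR a * x) =
            a • Algebra.TensorProduct.comm k K A x
          rw [map_mul, hincR_apply, Algebra.TensorProduct.comm_tmul, Algebra.smul_def]
          rfl
        left_inv := fun x => (Algebra.TensorProduct.comm k K A).symm_apply_apply x
        right_inv := fun x => (Algebra.TensorProduct.comm k K A).apply_symm_apply x }
    exact Module.Flat.of_linearEquiv e
  haveI : Module.Flat (K ⊗[k] A) (Localization.AtPrime P) :=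
    IsLocalization.flat _ P.primeCompl
  haveI : Module.Flat A (Localization.AtPrime P) := Module.Flat.trans A (K ⊗[k] A) _
  -- maximal ideal
  have hmax : (IsLocalRing.maximalIdeal A).map (algebraMap A (Localization.AtPrime P)) =
      IsLocalRing.maximalIdeal (Localization.AtPrime P) := by
    have h1 : Ideal.map (algebraMap (K ⊗[k] A) (Localization.AtPrime P)) P =
        Ideal.map (algebraMap (K ⊗[k] A) (Localization.AtPrime P)) mT :=
      congrArg (fun I => Ideal.map (algebraMap (K ⊗[k] A) (Localization.AtPrime P)) I) hPm
    rw [← Localization.AtPrime.map_eq_maximalIdeal, h1, hmT, Ideal.map_map,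
      IsScalarTower.algebraMap_eq A (K ⊗[k] A) (Localization.AtPrime P)]
    rfl
  haveI : IsLocalHom (algebraMap A (Localization.AtPrime P)) := by
    constructor
    intro a ha
    by_contra hna
    have h1 : a ∈ IsLocalRing.maximalIdeal A := (IsLocalRing.mem_maximalIdeal a).mpr hna
    have h2 : algebraMap A (Localization.AtPrime P) a ∈
        IsLocalRing.maximalIdeal (Localization.AtPrime P) := by
      rw [← hmax]; exact Ideal.mem_map_of_mem _ h1
    exact (IsLocalRing.mem_maximalIdeal _).mp h2 ha
  exact (Groth.Agent.H20.isRegularLocalRing_iff_of_flat_of_map_maximalIdeal hmax).symm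

end Groth.Agent.S15595
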