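import Groth.Statements.S1561
import Groth.Agent.H47.SmoothLocusField

set_option autoImplicit false
universe u
open CategoryTheory CategoryTheory.Limits AlgebraicGeometry
open Variety

namespace Groth.Agent.S1561

/-- Let X be reduced and locally of finite type over a perfect field k. Then a point lies in the smooth
locus of X → Spec k exactly when its local ring is regular, and this locus is dense in X. -/
theorem result (k : Type u) [Field k] (X : Scheme.{u}) [X.Over (Spec (CommRingCat.of k))] [PerfectField k] [IsReduced X]
    [LocallyOfFinitePresentation (X ↘ (Spec (CommRingCat.of k)))] :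
    (∀ x : X, x ∈ (X ↘ (Spec (CommRingCat.of k))).smoothLocus ↔ IsRegularLocalRing (X.presheaf.stalk x)) ∧
      Dense ((X ↘ (Spec (CommRingCat.of k))).smoothLocus : Set X) := by
  exact ⟨fun x => Groth.Agent.H47.SLF.mem_smoothLocus_iff_isRegularLocalRing_of_perfectField k
      (X ↘ (Spec (CommRingCat.of k))) x,
    Scheme.Hom.dense_smoothLocus_of_perfectField (X ↘ (Spec (CommRingCat.of k)))⟩

end Groth.Agent.S1561
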