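import Groth.Statements.S15617
import Groth.Agent.H78.SchFin.Affine

set_option autoImplicit false
universe u
open SchFin SchFin.OMod

namespace Groth.Agent.S15617

open SchFin in
/-- Let X be a finite space (Noetherian rings and flat restriction maps), x a point, U an up-closed
subset of the minimal open set of x which is affine, and M a quasi-coherent module. Then restriction
from the value of M at x to the sections of M over U exhibits the module of sections over U as the
base change of the value at x along the ring map from the ring of x to the ring of sections over U.
(The published statement does not carry the hypothesis that the product of the rings of the points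
of U is faithfully flat over the ring of sections over U; this holds for every affine finite space
by a result the published proof uses and recalls without proof, and this row carries it explicitly.) -/
theorem result (X : RSpace.{u}) (hX : X.IsFinSp) (x : X.pt) (U : Set X.pt)
    (hU : U ⊆ X.up x) (hU' : IsUpperSet U) (hUa : (X.restrict U).IsAffine)
    (hff : Module.FaithfullyFlat (X.sectRing U) ((q : ↥U) → X.ring q.1)) (M : OMod X) (hM : M.IsQcoh) :
    IsBCAlong (X.resSect x U hU) (M.resSect x U hU) := by
  have hι : (X.sectRing U).subtype.FaithfullyFlat := hff
  let F : M.carrier x →ₛₗ[(X.sectRing U).subtype.comp (X.resSect x U hU)]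
      ((q : U) → M.carrier q.1) :=
    { toFun := fun m q => M.res (hU q.2) m
      map_add' := fun a b => funext fun q => map_add _ _ _
      map_smul' := fun a m => funext fun q => LinearMap.map_smulₛₗ _ _ _ }
  refine Groth.Agent.H78.SF.IsBCAlong.of_faithfullyFlat_comp (X.resSect x U hU)
    (X.sectRing U).subtype hι (M.resSect x U hU) (Groth.Agent.H78.SF.sectIncl U M) F
    (fun m => rfl) (Groth.Agent.H78.SF.isBCAlong_sectIncl U M hUa hM) ?_
  exact Groth.Agent.H78.SF.IsBCAlong.pi (fun q : U => X.ring q.1) (fun q => X.res (hU q.2))
    (fun q : U => M.carrier q.1) (fun q => M.res (hU q.2)) (fun q => hM x q.1 (hU q.2)) _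
    (fun _ _ => rfl) F (fun _ _ => rfl)

end Groth.Agent.S15617
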