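import Groth.Statements.S15618
import Groth.Agent.H78.SchFin.AffineAlg

set_option autoImplicit false
universe u
open SchFin SchFin.Alg

namespace Groth.Agent.S15618

open SchFin in
/-- Let X be a schematic finite space, A a quasi-coherent algebra on X and U an affine up-closed set of
points. Then the value of A at every point of U is flat over the ring of that point if and only if
the ring map from the sections of the rings over U to the sections of A over U is flat. (The
published statement ranges over affine open subsets; this row states the criterion for one affine
up-closed subset and carries explicitly the hypotheses that the product of the rings of the points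
of U is faithfully flat over the ring of sections of the rings over U, and likewise for the algebra;
these hold for every affine open subset and every quasi-coherent algebra by results the published
proof uses and recalls without proof.) -/
theorem result (X : RSpace.{u}) (hX : X.IsSchematic) (A : Alg X) (hA : A.IsQcoh)
    (U : Set X.pt) (hU' : IsUpperSet U) (hUa : (X.restrict U).IsAffine)
    (hφ : Module.FaithfullyFlat (X.sectRing U) ((q : ↥U) → X.ring q.1))
    (hψ : (A.total.sectRing U).subtype.FaithfullyFlat) :
    (∀ q : X.pt, q ∈ U → Module.Flat (X.ring q) (A.carrier q)) ↔ (A.sectMap U).Flat := by
  have hι : (X.sectRing U).subtype.FaithfullyFlat := hφ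
  have key := Groth.Agent.H78.SF.forall_iff_sectMap A U
    (Pp := fun {R S : Type u} [CommRing R] [CommRing S] (f : R →+* S) => f.Flat)
    RingHom.Flat.isStableUnderBaseChange Groth.Agent.H78.SF.flat_codescendsAlong_faithfullyFlat
    (fun T N _ _ a h => Groth.Agent.H78.SF.piMap_flat T N a h) hUa hA hι
  rw [← key]
  exact forall₂_congr fun q _ => RingHom.flat_algebraMap_iff.symm

end Groth.Agent.S15618
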