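import Groth.Statements.S1567
import Groth.Agent.H8.AffineLocal

set_option autoImplicit false
universe u
open CategoryTheory CategoryTheory.Limits AlgebraicGeometry
open Divisors

namespace Groth.Agent.S1567

set_option backward.isDefEq.respectTransparency false in
/-- Let X be locally Noetherian and D a locally principal closed subscheme. At a point ξ of D that is
maximal in D under generisation (a generic point of a component of D), the local ring of X has
dimension at most one. -/
theorem result (X : Scheme.{u}) [IsLocallyNoetherian X]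
    (D : X.IdealSheafData) (hD : Curv2.IsLocPrincipal D) (ξ : X)
    (hξ : ξ ∈ (D.support : Set X)) (hgen : ∀ y ∈ (D.support : Set X), y ⤳ ξ → y = ξ) :
    ringKrullDim (X.presheaf.stalk ξ) ≤ 1 := by
  obtain ⟨U, hxU, f, hf⟩ := hD ξ hξ
  have hU : IsAffineOpen U.1 := U.2
  have hN : IsNoetherianRing Γ(X, U.1) := IsLocallyNoetherian.component_noetherian U
  have hmin := Groth.Agent.H8.primeIdealOf_mem_minimalPrimes D hU ξ hxU hξ hgen
  have hmin' : (hU.primeIdealOf ⟨ξ, hxU⟩).asIdeal ∈ (Ideal.span {f}).minimalPrimes := by
    rw [← hf]; exact hmin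
  have hprin : (Ideal.span {f}).IsPrincipal := ⟨⟨f, rfl⟩⟩
  have hht := Ideal.height_le_one_of_isPrincipal_of_mem_minimalPrimes _ _ hmin'
  rw [Groth.Agent.H8.ringKrullDim_stalk_eq_height hU ξ hxU]
  exact_mod_cast hht

end Groth.Agent.S1567
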