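import Groth.Statements.S15678
-- import your own Groth.Agent.* helpers here
import Groth.Agent.H66.PolyRegLE

set_option autoImplicit false
universe u
open GrSyz

namespace Groth.Agent.S15678

/-- Let k be an algebraically closed field of characteristic zero (the published statement is over the
complex numbers; this row allows any algebraically closed field of characteristic zero), S = k[x_0,
…, x_n] graded by degree with irrelevant ideal 𝔪 = (x_0, …, x_n), and 0 → M₁ → M₂ → M₃ → 0 a short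
exact sequence of finitely generated ℤ-graded S-modules: f : M₁ → M₂ and g : M₂ → M₃ are S-linear
and degree-preserving, f is injective, g is surjective and the image of f is the kernel of g. Write
reg M ≤ r when M admits a graded free resolution by finite-rank free modules, minimal with respect
to 𝔪, whose i-th term is generated in degrees at most r + i for every i (Castelnuovo–Mumford
regularity via the minimal graded free resolution). Then for every integer r: (1) if reg M₂ ≤ r and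
reg M₃ ≤ r - 1 then reg M₁ ≤ r; (2) if reg M₁ ≤ r and reg M₃ ≤ r then reg M₂ ≤ r; (3) if reg M₁ ≤ r
+ 1 and reg M₂ ≤ r then reg M₃ ≤ r. In words: reg M₁ ≤ max(reg M₂, reg M₃ + 1), reg M₂ ≤ max(reg M₁,
reg M₃) and reg M₃ ≤ max(reg M₁ - 1, reg M₂). -/
theorem result (k : Type u) [Field k] [IsAlgClosed k] [CharZero k] (n : ℕ)
    (M₁ : Type u) [AddCommGroup M₁] [Module k M₁] [Module (MvPolynomial (Fin (n + 1)) k) M₁]
    [IsScalarTower k (MvPolynomial (Fin (n + 1)) k) M₁] [Module.Finite (MvPolynomial (Fin (n + 1)) k) M₁]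
    (ℳ₁ : ℤ → Submodule k M₁) [DirectSum.Decomposition ℳ₁] [SetLike.GradedSMul (GrSyz.stdGr k (Fin (n + 1))) ℳ₁]
    (M₂ : Type u) [AddCommGroup M₂] [Module k M₂] [Module (MvPolynomial (Fin (n + 1)) k) M₂]
    [IsScalarTower k (MvPolynomial (Fin (n + 1)) k) M₂] [Module.Finite (MvPolynomial (Fin (n + 1)) k) M₂]
    (ℳ₂ : ℤ → Submodule k M₂) [DirectSum.Decomposition ℳ₂] [SetLike.GradedSMul (GrSyz.stdGr k (Fin (n + 1))) ℳ₂]
    (M₃ : Type u) [AddCommGroup M₃] [Module k M₃] [Module (MvPolynomial (Fin (n + 1)) k) M₃]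
    [IsScalarTower k (MvPolynomial (Fin (n + 1)) k) M₃] [Module.Finite (MvPolynomial (Fin (n + 1)) k) M₃]
    (ℳ₃ : ℤ → Submodule k M₃) [DirectSum.Decomposition ℳ₃] [SetLike.GradedSMul (GrSyz.stdGr k (Fin (n + 1))) ℳ₃]
    (f : M₁ →ₗ[MvPolynomial (Fin (n + 1)) k] M₂) (g : M₂ →ₗ[MvPolynomial (Fin (n + 1)) k] M₃)
    (hf : Function.Injective f) (hg : Function.Surjective g) (hfg : LinearMap.range f = LinearMap.ker g)
    (hfgr : GrLC.IsGrHom ℳ₁ ℳ₂ f) (hggr : GrLC.IsGrHom ℳ₂ ℳ₃ g) (r : ℤ) :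
    (GrSyz.IsRegLE (GrSyz.stdGr k (Fin (n + 1))) ℳ₂ (GrSyz.irrel (GrSyz.stdGr k (Fin (n + 1)))).toIdeal r → GrSyz.IsRegLE (GrSyz.stdGr k (Fin (n + 1))) ℳ₃ (GrSyz.irrel (GrSyz.stdGr k (Fin (n + 1)))).toIdeal (r - 1) →
        GrSyz.IsRegLE (GrSyz.stdGr k (Fin (n + 1))) ℳ₁ (GrSyz.irrel (GrSyz.stdGr k (Fin (n + 1)))).toIdeal r) ∧
    (GrSyz.IsRegLE (GrSyz.stdGr k (Fin (n + 1))) ℳ₁ (GrSyz.irrel (GrSyz.stdGr k (Fin (n + 1)))).toIdeal r → GrSyz.IsRegLE (GrSyz.stdGr k (Fin (n + 1))) ℳ₃ (GrSyz.irrel (GrSyz.stdGr k (Fin (n + 1)))).toIdeal r →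
        GrSyz.IsRegLE (GrSyz.stdGr k (Fin (n + 1))) ℳ₂ (GrSyz.irrel (GrSyz.stdGr k (Fin (n + 1)))).toIdeal r) ∧
    (GrSyz.IsRegLE (GrSyz.stdGr k (Fin (n + 1))) ℳ₁ (GrSyz.irrel (GrSyz.stdGr k (Fin (n + 1)))).toIdeal (r + 1) → GrSyz.IsRegLE (GrSyz.stdGr k (Fin (n + 1))) ℳ₂ (GrSyz.irrel (GrSyz.stdGr k (Fin (n + 1)))).toIdeal r →
        GrSyz.IsRegLE (GrSyz.stdGr k (Fin (n + 1))) ℳ₃ (GrSyz.irrel (GrSyz.stdGr k (Fin (n + 1)))).toIdeal r) := by
  open Groth.Agent.H66.GrVanish Groth.Agent.H66.GrRegFree Groth.Agent.H98.GrStar in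
  let T : GrSES (R := MvPolynomial (Fin (n + 1)) k) (asGr ℳ₁) (asGr ℳ₂) (asGr ℳ₃) :=
    { u := f
      v := g
      u_gr := fun e m hm => hfgr e m hm
      v_gr := fun e m hm => hggr e m hm
      inj := hf
      surj := hg
      exact := fun y => by
        rw [← LinearMap.mem_ker, ← hfg]
        rfl }
  simp only [Groth.Agent.H66.PolyRegLE.isRegLE_iff_strongReg]
  refine ⟨?_, ?_, ?_⟩
  · intro h2 h3 j e he
    rcases Nat.eq_zero_or_pos j with hj | hj
    · subst hj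
      exact Groth.Agent.H66.GrRegFree.vanishAt_zero_of_injective _
        (K := Groth.Agent.H66.PolyRegLE.XM k n ℳ₁) (F := Groth.Agent.H66.PolyRegLE.XM k n ℳ₂)
        f (fun e m hm => hfgr e m hm) hf e (h2 0 e he)
    · obtain ⟨i, rfl⟩ : ∃ i, j = i + 1 := ⟨j - 1, by omega⟩
      exact Groth.Agent.H66.GrVanish.vanishAt_left _
        (X' := Groth.Agent.H66.PolyRegLE.XM k n ℳ₁) (X := Groth.Agent.H66.PolyRegLE.XM k n ℳ₂)
        (X'' := Groth.Agent.H66.PolyRegLE.XM k n ℳ₃) T i e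
        (h3 i e (by push_cast at he; omega)) (h2 (i + 1) e he)
  · intro h1 h3 j e he
    exact Groth.Agent.H66.GrVanish.vanishAt_mid _
      (X' := Groth.Agent.H66.PolyRegLE.XM k n ℳ₁) (X := Groth.Agent.H66.PolyRegLE.XM k n ℳ₂)
      (X'' := Groth.Agent.H66.PolyRegLE.XM k n ℳ₃) T j e (h1 j e he) (h3 j e he)
  · intro h1 h2 j e he
    exact Groth.Agent.H66.GrVanish.vanishAt_right _
      (X' := Groth.Agent.H66.PolyRegLE.XM k n ℳ₁) (X := Groth.Agent.H66.PolyRegLE.XM k n ℳ₂)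
      (X'' := Groth.Agent.H66.PolyRegLE.XM k n ℳ₃) T j e (h2 j e he)
      (h1 (j + 1) e (by push_cast; omega))

end Groth.Agent.S15678
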