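import Groth.Statements.S1569
import Groth.Agent.H8.AffineLocal
import Groth.Agent.H8.DVR

set_option autoImplicit false
universe u
open CategoryTheory CategoryTheory.Limits AlgebraicGeometry
open Divisors

namespace Groth.Agent.S1569

set_option backward.isDefEq.respectTransparency false in
/-- On a Noetherian scheme, an effective Cartier divisor which is integral as a closed subscheme has a
discrete valuation ring as the local ring of the ambient scheme at its generic point. -/
theorem result (X : Scheme.{u}) [IsNoetherian X]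
    (D : X.IdealSheafData) (hD : BlowUp.IsEffCartierIdeal D) [IsIntegral D.subscheme]
    (ξ : X) (hξ : IsGenericPoint ξ (D.support : Set X)) :
    ∃ _ : IsDomain (X.presheaf.stalk ξ), IsDiscreteValuationRing (X.presheaf.stalk ξ) := by
  obtain ⟨U, hxU, f, hfnz, hf⟩ := hD ξ
  have hU : IsAffineOpen U.1 := U.2
  have hN : IsNoetherianRing Γ(X, U.1) := IsLocallyNoetherian.component_noetherian U
  have hξs : ξ ∈ (D.support : Set X) := hξ.mem
  have hgen : ∀ y ∈ (D.support : Set X), y ⤳ ξ → y = ξ := by
    intro y hy hyξ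
    have : ξ ⤳ y := by
      rw [specializes_iff_mem_closure, hξ.def]; exact hy
    exact (hyξ.antisymm this).eq
  have hmin := Groth.Agent.H8.primeIdealOf_mem_minimalPrimes D hU ξ hxU hξs hgen
  -- the ideal of `D` on `U` is prime
  have hne : Nonempty (D.subschemeι ⁻¹ᵁ U.1) := by
    have : ξ ∈ Set.range D.subschemeι := by rw [D.range_subschemeι]; exact hξs
    obtain ⟨z, hz⟩ := this
    exact ⟨⟨z, by change D.subschemeι z ∈ U.1; rw [hz]; exact hxU⟩⟩
  have hdom : IsDomain Γ(D.subscheme, D.subschemeι ⁻¹ᵁ U.1) := inferInstance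
  have hdomq : IsDomain (Γ(X, U.1) ⧸ D.ideal U) :=
    MulEquiv.isDomain _ (D.subschemeObjIso U).commRingCatIsoToRingEquiv.symm.toMulEquiv
  have hprime : (D.ideal U).IsPrime := (Ideal.Quotient.isDomain_iff_prime _).mp hdomq
  rw [Ideal.minimalPrimes_eq_subsingleton_self, Set.mem_singleton_iff] at hmin
  -- the stalk as a localization
  let _ := X.presheaf.algebra_section_stalk ⟨ξ, hxU⟩
  have hloc := hU.isLocalization_stalk ⟨ξ, hxU⟩
  have hNs : IsNoetherianRing (X.presheaf.stalk ξ) :=
    IsLocalization.isNoetherianRing (hU.primeIdealOf ⟨ξ, hxU⟩).asIdeal.primeCompl _ hN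
  have hmax : IsLocalRing.maximalIdeal (X.presheaf.stalk ξ) =
      Ideal.span {algebraMap Γ(X, U.1) (X.presheaf.stalk ξ) f} := by
    rw [← IsLocalization.AtPrime.map_eq_maximalIdeal (hU.primeIdealOf ⟨ξ, hxU⟩).asIdeal
      (X.presheaf.stalk ξ), hmin, hf, Ideal.map_span, Set.image_singleton]
  have hnzd : algebraMap Γ(X, U.1) (X.presheaf.stalk ξ) f ∈ nonZeroDivisors (X.presheaf.stalk ξ) :=
    IsLocalization.map_nonZeroDivisors_le (hU.primeIdealOf ⟨ξ, hxU⟩).asIdeal.primeCompl _
      (Submonoid.mem_map_of_mem _ hfnz)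
  exact Groth.Agent.H8.isDiscreteValuationRing_of_maximalIdeal_eq_span _ hnzd hmax

end Groth.Agent.S1569
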