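import Groth.Statements.S15696
import Groth.Agent.H1.NoName4

set_option autoImplicit false
universe u
open InvFld

namespace Groth.Agent.S15696

/-- Let k be a characteristic-zero field and suppose a finite group has two faithful finite-dimensional
linear representations V and W over k. Then the fields of invariants k(V)^G and k(W)^G are stably
equivalent. Stated with V = k^n, W = k^m: G and H are finite groups of k-algebra automorphisms of
k(x_1, ..., x_n) and of k(y_1, ..., y_m), each element sending every variable to a k-linear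
combination of the variables, and G, H are isomorphic as abstract groups; then for some r, s the
purely transcendental extension in r variables of the fixed field of G is k-isomorphic to the purely
transcendental extension in s variables of the fixed field of H (existence of an isomorphism only). -/
theorem result (k : Type u) [Field k] [CharZero k] (n m : ℕ)
    (G : Subgroup (InvFld.Fld (Fin n) k ≃ₐ[k] InvFld.Fld (Fin n) k)) [Finite G]
    (H : Subgroup (InvFld.Fld (Fin m) k ≃ₐ[k] InvFld.Fld (Fin m) k)) [Finite H] (e : G ≃* H)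
    (hG : ∀ σ ∈ G, ∀ i : Fin n, σ (InvFld.X i) ∈ Submodule.span k (Set.range fun j : Fin n => (InvFld.X j : InvFld.Fld (Fin n) k)))
    (hH : ∀ τ ∈ H, ∀ i : Fin m, τ (InvFld.X i) ∈ Submodule.span k (Set.range fun j : Fin m => (InvFld.X j : InvFld.Fld (Fin m) k))) :
    ∃ r s : ℕ, Nonempty (InvFld.Fld (Fin r) (IntermediateField.fixedField G) ≃ₐ[k]
      InvFld.Fld (Fin s) (IntermediateField.fixedField H)) := by
  classical
  let _ : Fintype G := Fintype.ofFinite G
  let ρ : G →* (InvFld.Fld (Fin m) k ≃ₐ[k] InvFld.Fld (Fin m) k) := H.subtype.comp e.toMonoidHom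
  let _ : MulSemiringAction G (InvFld.Fld (Fin m) k) := MulSemiringAction.compHom _ ρ
  have hsmul₁ : ∀ (σ : G) (b : InvFld.Fld (Fin n) k),
      σ • b = (σ : InvFld.Fld (Fin n) k ≃ₐ[k] InvFld.Fld (Fin n) k) b := fun _ _ => rfl
  have hsmul₂ : ∀ (σ : G) (b : InvFld.Fld (Fin m) k),
      σ • b = ((e σ : H) : InvFld.Fld (Fin m) k ≃ₐ[k] InvFld.Fld (Fin m) k) b := fun _ _ => rfl
  have : SMulCommClass G k (InvFld.Fld (Fin n) k) :=
    ⟨fun σ c b => by
      rw [hsmul₁, hsmul₁, Algebra.smul_def, map_mul, AlgEquiv.commutes, ← Algebra.smul_def]⟩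
  have : SMulCommClass G k (InvFld.Fld (Fin m) k) :=
    ⟨fun σ c b => by
      rw [hsmul₂, hsmul₂, Algebra.smul_def, map_mul, AlgEquiv.commutes, ← Algebra.smul_def]⟩
  have h₁ : ∀ (σ : G) (i : Fin n), σ • (Groth.Agent.H1.NoName.FX i : InvFld.Fld (Fin n) k) ∈
      Submodule.span k (Set.range fun j : Fin n =>
        (Groth.Agent.H1.NoName.FX j : InvFld.Fld (Fin n) k)) := fun σ i => hG σ σ.2 i
  have h₂ : ∀ (σ : G) (i : Fin m), σ • (Groth.Agent.H1.NoName.FX i : InvFld.Fld (Fin m) k) ∈
      Submodule.span k (Set.range fun j : Fin m =>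
        (Groth.Agent.H1.NoName.FX j : InvFld.Fld (Fin m) k)) := fun σ i => hH (e σ) (e σ).2 i
  have hone : ∀ (N : ℕ) (τ : InvFld.Fld (Fin N) k ≃ₐ[k] InvFld.Fld (Fin N) k),
      (∀ i : Fin N, τ (Groth.Agent.H1.NoName.FX i) = Groth.Agent.H1.NoName.FX i) → τ = 1 := by
    intro N τ hτ
    have := Groth.Agent.H1.NoName.ringHom_ext_FX (τ : InvFld.Fld (Fin N) k →+* InvFld.Fld (Fin N) k)
      (RingHom.id _) (fun c => by simp) (fun i => by simpa using hτ i)
    ext b
    exact RingHom.congr_fun this b
  have hf₁ : ∀ σ : G, (∀ i : Fin n, σ • (Groth.Agent.H1.NoName.FX i : InvFld.Fld (Fin n) k) =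
      Groth.Agent.H1.NoName.FX i) → σ = 1 := by
    intro σ hσ
    exact Subtype.ext (hone n σ hσ)
  have hf₂ : ∀ σ : G, (∀ i : Fin m, σ • (Groth.Agent.H1.NoName.FX i : InvFld.Fld (Fin m) k) =
      Groth.Agent.H1.NoName.FX i) → σ = 1 := by
    intro σ hσ
    have h1 : (e σ : H) = 1 := Subtype.ext (hone m (e σ) hσ)
    exact (MulEquiv.map_eq_one_iff e).mp h1
  refine ⟨m, n, ?_⟩
  refine Groth.Agent.H1.NoName.nonempty_algEquiv_of_linear h₁ h₂ hf₁ hf₂
    (IntermediateField.fixedField G) ?_ (IntermediateField.fixedField H) ?_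
  · intro b
    rw [IntermediateField.mem_fixedField_iff]
    exact ⟨fun h σ => h σ σ.2, fun h σ hσ => h ⟨σ, hσ⟩⟩
  · intro b
    rw [IntermediateField.mem_fixedField_iff]
    constructor
    · intro h σ
      exact h (e σ) (e σ).2
    · intro h τ hτ
      have := h (e.symm ⟨τ, hτ⟩)
      rwa [hsmul₂, MulEquiv.apply_symm_apply] at this

end Groth.Agent.S15696
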