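import Groth.Statements.S15697
import Groth.Agent.H1.NoName

set_option autoImplicit false
universe u
open InvFld

namespace Groth.Agent.S15697

/-- Let k be a characteristic-zero field and suppose a finite group acts k-linearly on
finite-dimensional k-vector spaces V and W, faithfully on V. Then k(V ⊕ W)^G is purely
transcendental over k(V)^G, of transcendence degree dim W. Stated with V = k^n, W = k^m inside L =
k(x_1, ..., x_n, y_1, ..., y_m): G is a finite group of k-algebra automorphisms of L sending each
x_i into the k-span of the x's and each y_j into the k-span of the y's, such that an element of G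
fixing every x_i is trivial; F is the intersection of k(x_1, ..., x_n) with the fixed field of G;
then there are y'_1, ..., y'_m in L, algebraically independent over F, with F(y'_1, ..., y'_m) equal
to the fixed field of G. -/
theorem result (k : Type u) [Field k] [CharZero k] (n m : ℕ)
    (G : Subgroup (InvFld.Fld (Fin n ⊕ Fin m) k ≃ₐ[k] InvFld.Fld (Fin n ⊕ Fin m) k)) [Finite G]
    (hx : ∀ σ ∈ G, ∀ i : Fin n, σ (InvFld.X (Sum.inl i)) ∈ Submodule.span k (Set.range fun j : Fin n => (InvFld.X (Sum.inl j) : InvFld.Fld (Fin n ⊕ Fin m) k)))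
    (hy : ∀ σ ∈ G, ∀ i : Fin m, σ (InvFld.X (Sum.inr i)) ∈ Submodule.span k (Set.range fun j : Fin m => (InvFld.X (Sum.inr j) : InvFld.Fld (Fin n ⊕ Fin m) k)))
    (hfaith : ∀ σ ∈ G, (∀ i : Fin n, σ (InvFld.X (Sum.inl i)) = InvFld.X (Sum.inl i)) → σ = 1) :
    ∃ t : Fin m → InvFld.Fld (Fin n ⊕ Fin m) k,
      AlgebraicIndependent (↥(IntermediateField.adjoin k (Set.range fun j : Fin n => (InvFld.X (Sum.inl j) : InvFld.Fld (Fin n ⊕ Fin m) k)) ⊓ IntermediateField.fixedField G)) t ∧
      IntermediateField.restrictScalars k (IntermediateField.adjoin (↥(IntermediateField.adjoin k (Set.range fun j : Fin n => (InvFld.X (Sum.inl j) : InvFld.Fld (Fin n ⊕ Fin m) k)) ⊓ IntermediateField.fixedField G)) (Set.range t)) =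
        IntermediateField.fixedField G := by
  classical
  let _ : Fintype G := Fintype.ofFinite G
  set L := InvFld.Fld (Fin n ⊕ Fin m) k with hL
  set xs : Fin n → L := fun j => InvFld.X (Sum.inl j) with hxs
  set ys : Fin m → L := fun j => InvFld.X (Sum.inr j) with hys
  set Kx : IntermediateField k L := IntermediateField.adjoin k (Set.range xs) with hKx
  set F : IntermediateField k L := Kx ⊓ IntermediateField.fixedField G with hF
  have hsmul : ∀ (σ : G) (a : L), σ • a = (σ : L ≃ₐ[k] L) a := fun _ _ => rfl
  -- stability of `Kx`
  have hKstab : ∀ (σ : G) (a : L), a ∈ Kx.toSubfield → σ • a ∈ Kx.toSubfield := by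
    intro σ a ha
    have h1 : Kx.map ((σ : L ≃ₐ[k] L) : L →ₐ[k] L) ≤ Kx := by
      rw [hKx, IntermediateField.adjoin_map, IntermediateField.adjoin_le_iff]
      rintro _ ⟨_, ⟨i, rfl⟩, rfl⟩
      have h2 := hx σ σ.2 i
      have h3 : Submodule.span k (Set.range xs) ≤
          (IntermediateField.adjoin k (Set.range xs)).toSubalgebra.toSubmodule := by
        rw [Submodule.span_le]
        exact IntermediateField.subset_adjoin k _
      exact h3 h2
    exact h1 ⟨a, ha, rfl⟩
  have hfaith' : ∀ σ : G, (∀ a ∈ Kx.toSubfield, σ • a = a) → σ = 1 := by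
    intro σ h
    apply Subtype.ext
    apply hfaith σ σ.2
    intro i
    exact h _ (IntermediateField.subset_adjoin k _ ⟨i, rfl⟩)
  have hcard : (Fintype.card G : L) ≠ 0 := by
    have : CharZero L := charZero_of_injective_algebraMap (algebraMap k L).injective
    exact Nat.cast_ne_zero.mpr Fintype.card_ne_zero
  -- span stability
  have hspan_le : ∀ z : L, z ∈ Submodule.span k (Set.range ys) →
      z ∈ Submodule.span Kx.toSubfield (Set.range ys) := by
    intro z hz
    induction hz using Submodule.span_induction with
    | mem x hx => exact Submodule.subset_span hx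
    | zero => exact Submodule.zero_mem _
    | add x y _ _ hx hy => exact Submodule.add_mem _ hx hy
    | smul c x _ hx =>
      have : c • x = (⟨algebraMap k L c, Kx.algebraMap_mem c⟩ : Kx.toSubfield) • x := by
        rw [Subfield.smul_def, Algebra.smul_def, smul_eq_mul]
      rw [this]
      exact Submodule.smul_mem _ _ hx
  have hW : ∀ (σ : G) j, σ • ys j ∈ Submodule.span Kx.toSubfield (Set.range ys) :=
    fun σ j => hspan_le _ (hy σ σ.2 j)
  -- algebraic independence
  have hX : AlgebraicIndependent k (fun i : Fin n ⊕ Fin m => (InvFld.X i : L)) :=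
    (MvPolynomial.algebraicIndependent_X (Fin n ⊕ Fin m) k).map'
      (f := IsScalarTower.toAlgHom k (MvPolynomial (Fin n ⊕ Fin m) k) L)
      (IsFractionRing.injective _ _)
  have hys_ai : AlgebraicIndependent Kx ys := by
    have h1 : AlgebraicIndependent k (Sum.elim ys xs) := by
      have := hX.comp (Sum.swap : Fin m ⊕ Fin n → Fin n ⊕ Fin m) (Equiv.sumComm (Fin m) (Fin n)).injective
      convert this using 1
      funext i
      cases i <;> rfl
    have h2 := (AlgebraicIndependent.sumElim_iff.mp h1).2
    exact IntermediateField.algebraicIndependent_adjoin_iff.mpr h2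
  have hys_ai' : AlgebraicIndependent Kx.toSubfield ys := hys_ai
  -- generation
  have hgen : Subfield.closure ((Kx.toSubfield : Set L) ∪ Set.range ys) = ⊤ := by
    rw [eq_top_iff]
    intro f _
    have hpoly : ∀ p : MvPolynomial (Fin n ⊕ Fin m) k,
        algebraMap (MvPolynomial (Fin n ⊕ Fin m) k) L p ∈
          Subfield.closure ((Kx.toSubfield : Set L) ∪ Set.range ys) := by
      intro p
      induction p using MvPolynomial.induction_on with
      | C a =>
        apply Subfield.subset_closure
        left
        have : algebraMap (MvPolynomial (Fin n ⊕ Fin m) k) L (MvPolynomial.C a) =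
            algebraMap k L a := by
          rw [← MvPolynomial.algebraMap_eq, ← IsScalarTower.algebraMap_apply]
        rw [this]
        exact Kx.algebraMap_mem a
      | add p q hp hq => rw [map_add]; exact Subfield.add_mem _ hp hq
      | mul_X p i hp =>
        rw [map_mul]
        refine Subfield.mul_mem _ hp ?_
        apply Subfield.subset_closure
        cases i with
        | inl i => left; exact IntermediateField.subset_adjoin k _ ⟨i, rfl⟩
        | inr j => right; exact ⟨j, rfl⟩
    obtain ⟨p, q, hq, rfl⟩ := IsFractionRing.div_surjective (A := MvPolynomial (Fin n ⊕ Fin m) k) f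
    exact Subfield.div_mem _ (hpoly p) (hpoly q)
  obtain ⟨t, htfix, htai, htgen⟩ := Groth.Agent.H1.NoName.exists_fixed_generators Kx.toSubfield hKstab hfaith' hcard ys
    hys_ai' hW hgen
  refine ⟨t, ?_, ?_⟩
  · -- restrict scalars from `Kx` to `F`
    let ι : F →+* Kx := Subring.inclusion (show F.toSubfield.toSubring ≤ Kx.toSubfield.toSubring from
      fun a ha => (inf_le_left : F ≤ Kx) ha)
    let _ : Algebra F Kx := ι.toAlgebra
    have : IsScalarTower F Kx L := IsScalarTower.of_algebraMap_eq (fun _ => rfl)
    have htai' : AlgebraicIndependent Kx t := htai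
    exact htai'.restrictScalars (K := Kx) (fun a b hab => Subtype.ext (show (a : L) = b from congrArg (fun z : Kx => (z : L)) hab))
  · apply le_antisymm
    · intro z hz
      rw [IntermediateField.mem_restrictScalars] at hz
      rw [IntermediateField.mem_fixedField_iff]
      intro σ hσ
      induction hz using IntermediateField.adjoin_induction with
      | mem x hx =>
        obtain ⟨i, rfl⟩ := hx
        exact htfix i ⟨σ, hσ⟩
      | algebraMap a =>
        exact (IntermediateField.mem_fixedField_iff _ _).mp
          ((inf_le_right : F ≤ IntermediateField.fixedField G) a.2) σ hσ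
      | add x y _ _ hx hy => rw [map_add, hx, hy]
      | inv x _ hx => rw [map_inv₀, hx]
      | mul x y _ _ hx hy => rw [map_mul, hx, hy]
    · intro z hz
      rw [IntermediateField.mem_restrictScalars]
      have hzfix : ∀ σ : G, σ • z = z :=
        fun σ => (IntermediateField.mem_fixedField_iff _ _).mp hz σ σ.2
      have h1 := htgen z hzfix
      have h2 : Subfield.closure ({a : L | a ∈ Kx.toSubfield ∧ ∀ σ : G, σ • a = a} ∪ Set.range t) ≤
          (IntermediateField.adjoin F (Set.range t)).toSubfield := by
        rw [Subfield.closure_le]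
        rintro a (⟨haK, hafix⟩ | ⟨i, rfl⟩)
        · have haF : a ∈ F :=
            ⟨haK, (IntermediateField.mem_fixedField_iff _ _).mpr fun σ hσ => hafix ⟨σ, hσ⟩⟩
          exact (IntermediateField.adjoin F (Set.range t)).algebraMap_mem ⟨a, haF⟩
        · exact IntermediateField.subset_adjoin _ _ ⟨i, rfl⟩
      exact h2 h1

end Groth.Agent.S15697
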