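import Groth.Statements.S15698
import Groth.Agent.H1.NoName6

set_option autoImplicit false
universe u
open InvFld

namespace Groth.Agent.S15698

/-- Let k be a characteristic-zero field; for each faithful finite-dimensional linear representation V
of the symmetric group S_n over k, the field of invariants k(V)^{S_n} is stably pure over k. Stated
with V = k^m: G is a finite group of k-algebra automorphisms of k(x_1, ..., x_m), each sending every
variable to a k-linear combination of the variables, isomorphic as an abstract group to the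
symmetric group on n letters; then for some r the rational function field in r variables over the
fixed field of G is generated over k by finitely many algebraically independent elements. -/
theorem result (k : Type u) [Field k] [CharZero k] (n m : ℕ)
    (G : Subgroup (InvFld.Fld (Fin m) k ≃ₐ[k] InvFld.Fld (Fin m) k)) [Finite G] (e : G ≃* Equiv.Perm (Fin n))
    (hG : ∀ σ ∈ G, ∀ i : Fin m, σ (InvFld.X i) ∈ Submodule.span k (Set.range fun j : Fin m => (InvFld.X j : InvFld.Fld (Fin m) k))) :
    ∃ (r N : ℕ) (t : Fin N → InvFld.Fld (Fin r) (IntermediateField.fixedField G)),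
      AlgebraicIndependent k t ∧ IntermediateField.adjoin k (Set.range t) = ⊤ := by
  classical
  let _ : Fintype G := Fintype.ofFinite G
  have hsmul₁ : ∀ (σ : G) (b : InvFld.Fld (Fin m) k),
      σ • b = (σ : InvFld.Fld (Fin m) k ≃ₐ[k] InvFld.Fld (Fin m) k) b := fun _ _ => rfl
  have : SMulCommClass G k (InvFld.Fld (Fin m) k) :=
    ⟨fun σ c b => by
      rw [hsmul₁, hsmul₁, Algebra.smul_def, map_mul, AlgEquiv.commutes, ← Algebra.smul_def]⟩
  have h₁ : ∀ (σ : G) (i : Fin m), σ • (Groth.Agent.H1.NoName.FX i : InvFld.Fld (Fin m) k) ∈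
      Submodule.span k (Set.range fun j : Fin m =>
        (Groth.Agent.H1.NoName.FX j : InvFld.Fld (Fin m) k)) := fun σ i => hG σ σ.2 i
  have hf₁ : ∀ σ : G, (∀ i : Fin m, σ • (Groth.Agent.H1.NoName.FX i : InvFld.Fld (Fin m) k) =
      Groth.Agent.H1.NoName.FX i) → σ = 1 := by
    intro σ hσ
    apply Subtype.ext
    have := Groth.Agent.H1.NoName.ringHom_ext_FX
      ((σ : InvFld.Fld (Fin m) k ≃ₐ[k] InvFld.Fld (Fin m) k) :
        InvFld.Fld (Fin m) k →+* InvFld.Fld (Fin m) k)
      (RingHom.id _) (fun c => by simp) (fun i => hσ i)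
    ext b
    exact RingHom.congr_fun this b
  obtain ⟨N, t, ht, htgen⟩ := Groth.Agent.H1.NoName.exists_generators_of_perm h₁ hf₁ e
    (IntermediateField.fixedField G) (fun b => by
      rw [IntermediateField.mem_fixedField_iff]
      exact ⟨fun h σ => h σ σ.2, fun h σ hσ => h ⟨σ, hσ⟩⟩)
  exact ⟨n, N, t, ht, htgen⟩

end Groth.Agent.S15698
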