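import Groth.Statements.S1570
import Groth.Agent.H8.AffineLocal
import Groth.Agent.H8.PrincipalSpread

set_option autoImplicit false
universe u
open CategoryTheory CategoryTheory.Limits AlgebraicGeometry
open Divisors

namespace Groth.Agent.S1570

set_option backward.isDefEq.respectTransparency false in
/-- Let X be locally Noetherian and D a closed subscheme with ideal sheaf I. If for every point x of D
the ideal generated by I in the local ring at x is generated by one nonzerodivisor, then D is an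
effective Cartier divisor. -/
theorem result (X : Scheme.{u}) [IsLocallyNoetherian X]
    (D : X.IdealSheafData)
    (h : ∀ x ∈ D.support, ∀ (U : X.affineOpens) (hx : x ∈ (U : X.Opens)),
      ∃ g : X.presheaf.stalk x, g ∈ nonZeroDivisors (X.presheaf.stalk x) ∧
        (D.ideal U).map (X.presheaf.germ U x hx).hom = Ideal.span {g}) :
    BlowUp.IsEffCartierIdeal D := by
  intro x
  by_cases hxD : x ∈ D.support
  · obtain ⟨_, ⟨U, hU, rfl⟩, hxU, -⟩ :=
      X.isBasis_affineOpens.exists_subset_of_mem_open (Set.mem_univ x) isOpen_univ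
    obtain ⟨g, hg, hgI⟩ := h x hxD ⟨U, hU⟩ hxU
    let _ := X.presheaf.algebra_section_stalk ⟨x, hxU⟩
    have := hU.isLocalization_stalk ⟨x, hxU⟩
    have : IsNoetherianRing Γ(X, U) := IsLocallyNoetherian.component_noetherian ⟨U, hU⟩
    obtain ⟨f, hf, hfA⟩ := Groth.Agent.H8.exists_away_principal_nonZeroDivisor
      (D.ideal ⟨U, hU⟩) (hU.primeIdealOf ⟨x, hxU⟩).asIdeal (X.presheaf.stalk x) g hg hgI
    refine ⟨X.affineBasicOpen (U := ⟨U, hU⟩) f, ?_, ?_⟩
    · change x ∈ X.basicOpen f
      have h1 : x = hU.fromSpec (hU.primeIdealOf ⟨x, hxU⟩) :=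
        (hU.fromSpec_primeIdealOf ⟨x, hxU⟩).symm
      rw [h1]
      change hU.primeIdealOf ⟨x, hxU⟩ ∈ hU.fromSpec ⁻¹ᵁ X.basicOpen f
      rw [hU.fromSpec_preimage_basicOpen f]
      exact hf
    · let _ := (X.presheaf.map (homOfLE <| X.basicOpen_le f).op).hom.toAlgebra
      have := hU.isLocalization_basicOpen f
      obtain ⟨h', hh', hI'⟩ := hfA Γ(X, X.basicOpen f)
      refine ⟨h', hh', ?_⟩
      rw [← D.map_ideal_basicOpen ⟨U, hU⟩ f]
      exact hI'
  · obtain ⟨_, ⟨U, hU, rfl⟩, hxU, hUs⟩ :=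
      X.isBasis_affineOpens.exists_subset_of_mem_open
        (show x ∈ (D.support : Set X)ᶜ from hxD) D.support.isClosed.isOpen_compl
    refine ⟨⟨U, hU⟩, hxU, 1, one_mem _, ?_⟩
    rw [Ideal.span_singleton_one]
    by_contra hne
    obtain ⟨m, hm, hIm⟩ := Ideal.exists_le_maximal _ hne
    let q : PrimeSpectrum Γ(X, U) := ⟨m, hm.isPrime⟩
    have hq : hU.fromSpec q ∈ D.support := by
      rw [Groth.Agent.H8.mem_support_iff_le_primeIdealOf D hU _ (Groth.Agent.H8.fromSpec_mem hU q),
        Groth.Agent.H8.primeIdealOf_fromSpec]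
      exact hIm
    exact hUs (Groth.Agent.H8.fromSpec_mem hU q) hq

end Groth.Agent.S1570
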