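import Groth.Statements.S15701
-- import your own Groth.Agent.* helpers here

set_option autoImplicit false
universe u
open CategoryTheory AlgebraicGeometry
open CategoryTheory.Limits
open RatVar

namespace Groth.Agent.S15701

/-- A faithful action of a finite group on a geometrically integral variety is almost free. Here k is a
field of characteristic zero, X is an integral separated scheme of finite type over k, and the
finite group G acts on X by k-automorphisms through an injective homomorphism to Aut X; the
conclusion is a non-empty G-stable open subscheme U of X such that for every field K and every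
morphism Spec K → X whose image lies in U, an element of G fixing that K-point is the identity. (X
is taken separated: for the affine line with a doubled origin and the involution exchanging the two
origins the action is faithful while every point off the origins is fixed, so no such U exists;
integrality replaces geometric integrality, which is all the codimension argument uses.) -/
theorem result (k : Type u) [Field k] [CharZero k]
    (X : Scheme.{u}) (f : X ⟶ Spec (CommRingCat.of k)) [IsIntegral X] [LocallyOfFiniteType f]
    [QuasiCompact f] [IsSeparated f]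
    (G : Type u) [Group G] [Finite G] (ρ : G →* Aut X)
    (hρ : ∀ g : G, (ρ g).hom ≫ f = f) (hfaith : Function.Injective ρ) :
    ∃ U : X.Opens, (U : Set X).Nonempty ∧ (∀ g : G, (ρ g).hom ⁻¹ᵁ U = U) ∧
      ∀ (K : Type u) [Field K] (x : Spec (CommRingCat.of K) ⟶ X),
        Set.range x.base ⊆ (U : Set X) → ∀ g : G, x ≫ (ρ g).hom = x → g = 1 := by
  classical
  have hsep : X.IsSeparated := by
    have h1 : terminal.from X = f ≫ terminal.from _ := (terminal.comp_from f).symm
    constructor
    rw [h1]
    infer_instance
  let a : G → (X ⟶ X) := fun g => (ρ g).hom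
  have ha_mul : ∀ g h : G, a g ≫ a h = a (h * g) := by
    intro g h
    show (ρ g).hom ≫ (ρ h).hom = (ρ (h * g)).hom
    rw [map_mul]
    rfl
  let Z : G → Set X := fun g => Set.range (equalizer.ι (a g) (𝟙 X)).base
  have hZc : ∀ g, IsClosed (Z g) := fun g =>
    (equalizer.ι (a g) (𝟙 X)).isClosedEmbedding.isClosed_range
  have hZne : ∀ g, g ≠ 1 → Z g ≠ Set.univ := by
    intro g hg hZ
    apply hg
    have hsurj : Surjective (equalizer.ι (a g) (𝟙 X)) := ⟨by
      rw [← Set.range_eq_univ]; exact hZ⟩
    have hag : a g = 𝟙 X :=
      ext_of_isDominant_of_isSeparated (terminal.from X) (Subsingleton.elim _ _)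
        (equalizer.ι (a g) (𝟙 X)) (equalizer.condition _ _)
    apply hfaith
    rw [map_one]
    apply Iso.ext
    exact hag
  let memU : X → Prop := fun x => ∀ h g : G, g ≠ 1 → (a h).base x ∉ Z g
  have hopen : IsOpen {x | memU x} := by
    have : {x | memU x} = ⋂ (h : G) (g : G) (_ : g ≠ 1), (a h).base ⁻¹' (Z g)ᶜ := by
      ext x
      simp only [Set.mem_ofPred_eq, Set.mem_iInter, Set.mem_preimage, Set.mem_compl_iff, memU]
    rw [this]
    refine isOpen_iInter_of_finite fun h => isOpen_iInter_of_finite fun g =>
      isOpen_iInter_of_finite fun _ => ?_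
    exact (hZc g).isOpen_compl.preimage (a h).continuous
  have hne : {x | memU x}.Nonempty := by
    have : Fintype G := Fintype.ofFinite G
    let W : G × G → Set X := fun p => if p.2 = 1 then Set.univ else (a p.1).base ⁻¹' (Z p.2)ᶜ
    have hirr : IsIrreducible (Set.univ : Set X) := IrreducibleSpace.isIrreducible_univ X
    have key := isIrreducible_iff_sInter.mp hirr (Finset.univ.image W) ?_ ?_
    · obtain ⟨x, -, hx⟩ := key
      refine ⟨x, fun h g hg => ?_⟩
      have hx' : x ∈ W (h, g) := by
        apply Set.mem_sInter.mp hx
        simp only [Finset.coe_image, Finset.coe_univ, Set.image_univ, Set.mem_range]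
        exact ⟨(h, g), rfl⟩
      simp only [W, if_neg hg] at hx'
      exact hx'
    · intro u hu
      simp only [Finset.mem_image, Finset.mem_univ, true_and] at hu
      obtain ⟨p, rfl⟩ := hu
      by_cases hp : p.2 = 1
      · simp only [W, if_pos hp]; exact isOpen_univ
      · simp only [W, if_neg hp]
        exact (hZc p.2).isOpen_compl.preimage (a p.1).continuous
    · intro u hu
      simp only [Finset.mem_image, Finset.mem_univ, true_and] at hu
      obtain ⟨p, rfl⟩ := hu
      rw [Set.univ_inter]
      by_cases hp : p.2 = 1
      · simp only [W, if_pos hp]; exact Set.univ_nonempty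
      · simp only [W, if_neg hp]
        obtain ⟨y, hy⟩ := Set.nonempty_compl.mpr (hZne p.2 hp)
        have hiso : IsIso (a p.1) := (ρ p.1).isIso_hom
        have hs : Function.Surjective (a p.1).base := (a p.1).surjective
        obtain ⟨x, rfl⟩ := hs y
        exact ⟨x, hy⟩
  refine ⟨⟨{x | memU x}, hopen⟩, hne, ?_, ?_⟩
  · intro g'
    ext x
    show memU ((a g').base x) ↔ memU x
    constructor
    · intro hx h g hg
      have := hx (h * g'⁻¹) g hg
      rw [← Scheme.Hom.comp_apply, ha_mul] at this
      simpa using this
    · intro hx h g hg
      have := hx (h * g') g hg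
      rw [← Scheme.Hom.comp_apply, ha_mul]
      exact this
  · intro K _ x hxU g hgx
    by_contra hg
    let pt : Spec (CommRingCat.of K) := default
    have hmem : x.base pt ∈ {x | memU x} := hxU ⟨pt, rfl⟩
    have h1 := hmem 1 g hg
    apply h1
    have ha1 : a 1 = 𝟙 X := by
      show (ρ 1).hom = 𝟙 X
      rw [map_one]; rfl
    rw [ha1]
    have hlift : x ≫ a g = x ≫ 𝟙 X := by rw [Category.comp_id]; exact hgx
    refine ⟨(equalizer.lift x hlift).base pt, ?_⟩
    rw [← Scheme.Hom.comp_apply, equalizer.lift_ι]
    rfl

end Groth.Agent.S15701
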