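import Groth.Statements.S15717
import Groth.Agent.S5671

set_option autoImplicit false
universe u
open CAlg

namespace Groth.Agent.S15717

open IsLocalRing RingTheory.Sequence Groth.Agent.H29.CML

theorem result (R : Type u) [CommRing R]
    [LocCoh.IsCohenMacaulayLocalRing R] (I : Ideal R)
    (hI : ∀ p ∈ I.minimalPrimes, ringKrullDim (R ⧸ p) = ringKrullDim (R ⧸ I)) :
    ∃ rs : List R, RingTheory.Sequence.IsWeaklyRegular R rs ∧ Ideal.ofList rs ≤ I ∧
      ringKrullDim (R ⧸ Ideal.ofList rs) = ringKrullDim (R ⧸ I) ∧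
      I.minimalPrimes ⊆ (Ideal.ofList rs).minimalPrimes := by
  by_cases hItop : I = ⊤
  · subst hItop
    have h1 : Ideal.ofList ([1] : List R) = ⊤ := by
      rw [Ideal.ofList_singleton, Ideal.span_singleton_one]
    refine ⟨[1], ?_, le_top, by rw [h1], ?_⟩
    · rw [isWeaklyRegular_cons_iff]
      exact ⟨IsSMulRegular.one R, IsWeaklyRegular.nil R _⟩
    · rw [Ideal.minimalPrimes_top]
      exact Set.empty_subset _
  · have hCM : LocCoh.IsCohenMacaulayModule R R :=
      LocCoh.IsCohenMacaulayLocalRing.supportDim_eq_depth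
    haveI : Nontrivial (R ⧸ I) := Ideal.Quotient.nontrivial_iff.mpr hItop
    obtain ⟨d, hd⟩ := exists_nat_supportDim_eq (A := R) R
    have hle : ringKrullDim (R ⧸ I) ≤ (d : WithBot ℕ∞) := by
      rw [← hd, Module.supportDim_self_eq_ringKrullDim]
      exact ringKrullDim_quotient_le I
    obtain ⟨e, he⟩ : ∃ e : ℕ, ringKrullDim (R ⧸ I) = e := by
      have h0 : ringKrullDim (R ⧸ I) ≠ ⊥ :=
        ne_bot_of_le_ne_bot (by simp) (ringKrullDim_nonneg_of_nontrivial (R := R ⧸ I))
      exact Groth.Agent.H29.DimL.exists_nat_eq _ h0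
        (ne_top_of_le_ne_top (WithBot.coe_lt_coe.mpr (ENat.natCast_lt_top d)).ne hle)
    rw [he] at hle
    have hed : e ≤ d := by exact_mod_cast hle
    obtain ⟨rs, hlen, hmem, hreg⟩ := Groth.Agent.S5671.exists_isRegular (d - e) R hCM I hItop (by
      rw [he, hd]
      exact_mod_cast (by omega : e + (d - e) ≤ d))
    have hrsI : Ideal.ofList rs ≤ I := by
      rw [Ideal.ofList, Ideal.span_le]
      intro r hr
      exact hmem r hr
    have hdim : ringKrullDim (R ⧸ Ideal.ofList rs) = e := by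
      have h := Module.supportDim_add_length_eq_supportDim_of_isRegular rs hreg
      have h2 : (Ideal.ofList rs • ⊤ : Submodule R R) = Ideal.ofList rs := by
        rw [smul_eq_mul, Ideal.mul_top]
      rw [h2, Module.supportDim_quotient_eq_ringKrullDim, hd, hlen] at h
      have hnt : Nontrivial (R ⧸ Ideal.ofList rs) :=
        Ideal.Quotient.nontrivial_iff.mpr (ne_top_of_le_ne_top hItop hrsI)
      obtain ⟨c, hc⟩ : ∃ c : ℕ, ringKrullDim (R ⧸ Ideal.ofList rs) = c := by
        have h0 : ringKrullDim (R ⧸ Ideal.ofList rs) ≠ ⊥ :=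
          ne_bot_of_le_ne_bot (by simp)
            (ringKrullDim_nonneg_of_nontrivial (R := R ⧸ Ideal.ofList rs))
        have h1 : ringKrullDim (R ⧸ Ideal.ofList rs) ≤ (d : WithBot ℕ∞) := by
          rw [← hd, Module.supportDim_self_eq_ringKrullDim]
          exact ringKrullDim_quotient_le _
        exact Groth.Agent.H29.DimL.exists_nat_eq _ h0
          (ne_top_of_le_ne_top (WithBot.coe_lt_coe.mpr (ENat.natCast_lt_top d)).ne h1)
      rw [hc] at h ⊢
      have : c + (d - e) = d := by exact_mod_cast h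
      exact_mod_cast (by omega : c = e)
    refine ⟨rs, hreg.toIsWeaklyRegular, hrsI, by rw [hdim, he], ?_⟩
    intro p hp
    have hpI := hI p hp
    obtain ⟨⟨hpprime, hIp⟩, hpmin⟩ := hp
    refine ⟨⟨hpprime, hrsI.trans hIp⟩, ?_⟩
    rintro q ⟨hqprime, hrsq⟩ hqp
    by_contra hpq
    have hlt : q < p := lt_of_le_not_ge hqp hpq
    have h1 := ringKrullDim_quotient_add_one_le_of_lt q p hlt
    have h2 : ringKrullDim (R ⧸ q) ≤ ringKrullDim (R ⧸ Ideal.ofList rs) :=
      ringKrullDim_le_of_surjective (Ideal.Quotient.factor hrsq)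
        (Ideal.Quotient.factor_surjective hrsq)
    rw [hpI, he] at h1
    rw [hdim] at h2
    have h3 : ((e + 1 : ℕ) : WithBot ℕ∞) ≤ (e : WithBot ℕ∞) := by
      refine le_trans ?_ h2
      exact_mod_cast h1
    have : e + 1 ≤ e := by exact_mod_cast h3
    omega

end Groth.Agent.S15717
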