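import Groth.Statements.S15725
import Groth.Agent.H78.WH

set_option autoImplicit false
universe u
open W4c2invhilbsl2

namespace Groth.Agent.S15725

/-- Grade the polynomial ring k[X₀,X₁,X₂] over a field k by ℤ × ℤ/m, giving X₀ weight (1,0), X₁ weight
(−p,−1) and X₂ weight (q,1), where 0 < p < q are coprime integers and m ≥ 1 (this three-variable
ring stands for the subring k[X₀,X₁,Xⱼ], j = 3 or 4, of the five-variable ring with the same
weights). Then every polynomial homogeneous of weight (q−p, 0) can be written a·X₀^(q−p) + b·X₁X₂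
with a and b homogeneous of weight zero; in other words the weight-(q−p, 0) piece is generated by
X₀^(q−p) and X₁X₂ as a module over the weight-zero subring. -/
theorem result (k : Type u) [Field k] (p q m : ℕ) (hp : 0 < p) (hpq : p < q) (hcop : Nat.Coprime p q) (hm : 0 < m) (f : MvPolynomial (Fin 3) k)
    (hf : f ∈ MvPolynomial.weightedHomogeneousSubmodule k (W4c2invhilbsl2.wt3 p q m) ((q : ℤ) - (p : ℤ), (0 : ZMod m))) :
    ∃ a b : MvPolynomial (Fin 3) k, a ∈ MvPolynomial.weightedHomogeneousSubmodule k (W4c2invhilbsl2.wt3 p q m) 0 ∧ b ∈ MvPolynomial.weightedHomogeneousSubmodule k (W4c2invhilbsl2.wt3 p q m) 0 ∧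
      f = a * MvPolynomial.X (0 : Fin 3) ^ (q - p) + b * (MvPolynomial.X (1 : Fin 3) * MvPolynomial.X (2 : Fin 3)) := by
  rw [MvPolynomial.mem_weightedHomogeneousSubmodule] at hf
  have hqpZ : ((q - p : ℕ) : ℤ) = (q : ℤ) - p := by omega
  refine MvPolynomial.IsWeightedHomogeneous.induction_on
    (motive := fun f _ => ∃ a b : MvPolynomial (Fin 3) k,
      a ∈ MvPolynomial.weightedHomogeneousSubmodule k (W4c2invhilbsl2.wt3 p q m) 0 ∧
      b ∈ MvPolynomial.weightedHomogeneousSubmodule k (W4c2invhilbsl2.wt3 p q m) 0 ∧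
      f = a * MvPolynomial.X (0 : Fin 3) ^ (q - p) + b * (MvPolynomial.X (1 : Fin 3) * MvPolynomial.X (2 : Fin 3)))
    ?_ ?_ ?_ hf
  · exact ⟨0, 0, Submodule.zero_mem _, Submodule.zero_mem _, by simp⟩
  · rintro f g _ _ ⟨a, b, ha, hb, rfl⟩ ⟨a', b', ha', hb', rfl⟩
    exact ⟨a + a', b + b', Submodule.add_mem _ ha ha', Submodule.add_mem _ hb hb', by ring⟩
  · intro d r hd
    have h1 := Groth.Agent.H78.wt3_weight_fst p q m d
    rw [hd] at h1
    simp only at h1
    by_cases h0 : q - p ≤ d 0
    · refine ⟨MvPolynomial.monomial (d - Finsupp.single 0 (q - p)) r, 0, ?_, Submodule.zero_mem _, ?_⟩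
      · rw [MvPolynomial.mem_weightedHomogeneousSubmodule]
        apply MvPolynomial.isWeightedHomogeneous_monomial
        have := Groth.Agent.H78.split_weight (W4c2invhilbsl2.wt3 p q m) d 0 (q - p) h0
        rw [hd, Groth.Agent.H78.wt3_zero] at this
        have e : (q - p) • (((1 : ℤ), (0 : ZMod m)) : ℤ × ZMod m) = ((q : ℤ) - p, (0 : ZMod m)) := by
          ext <;> simp [hqpZ]
        rw [e] at this
        exact (add_eq_right.mp this.symm)
      · rw [zero_mul, add_zero]
        exact Groth.Agent.H78.split_monomial d 0 (q - p) h0 r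
    · have h0' : (d 0 : ℤ) < (q : ℤ) - p := by omega
      have hqp' : (p : ℤ) < q := by exact_mod_cast hpq
      have hp' : (0 : ℤ) < p := by exact_mod_cast hp
      have hd1 : 1 ≤ d 1 := by
        by_contra h
        have h10 : d 1 = 0 := by omega
        rw [h10] at h1
        simp only [Nat.cast_zero, mul_zero, sub_zero] at h1
        rcases Nat.eq_zero_or_pos (d 2) with h2 | h2
        · rw [h2] at h1; simp at h1; omega
        · have : (q : ℤ) * 1 ≤ (q : ℤ) * (d 2 : ℤ) := mul_le_mul_of_nonneg_left (by exact_mod_cast h2) (by omega)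
          have : (0 : ℤ) ≤ d 0 := Int.natCast_nonneg _
          linarith
      have hd2 : 1 ≤ d 2 := by
        by_contra h
        have h20 : d 2 = 0 := by omega
        rw [h20] at h1
        simp only [Nat.cast_zero, mul_zero, add_zero] at h1
        have : (0 : ℤ) ≤ (p : ℤ) * (d 1 : ℤ) := mul_nonneg hp'.le (Int.natCast_nonneg _)
        linarith
      set d' := d - Finsupp.single 1 1 with hd'
      have hd'2 : 1 ≤ d' 2 := by
        rw [hd']; simp [Finsupp.single_apply]; exact hd2
      refine ⟨0, MvPolynomial.monomial (d' - Finsupp.single 2 1) r, Submodule.zero_mem _, ?_, ?_⟩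
      · rw [MvPolynomial.mem_weightedHomogeneousSubmodule]
        apply MvPolynomial.isWeightedHomogeneous_monomial
        have e1 := Groth.Agent.H78.split_weight (W4c2invhilbsl2.wt3 p q m) d 1 1 hd1
        have e2 := Groth.Agent.H78.split_weight (W4c2invhilbsl2.wt3 p q m) d' 2 1 hd'2
        rw [← hd', e2, hd, Groth.Agent.H78.wt3_one, Groth.Agent.H78.wt3_two] at e1
        have e : (Finsupp.weight (W4c2invhilbsl2.wt3 p q m)) (d' - Finsupp.single 2 1) + 1 • ((q : ℤ), (1 : ZMod m)) + 1 • (-(p : ℤ), (-1 : ZMod m)) =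
            (Finsupp.weight (W4c2invhilbsl2.wt3 p q m)) (d' - Finsupp.single 2 1) + ((q : ℤ) - p, (0 : ZMod m)) := by
          rw [add_assoc]; congr 1; ext <;> simp; ring
        rw [e] at e1
        exact (add_eq_right.mp e1.symm)
      · rw [zero_mul, zero_add]
        rw [Groth.Agent.H78.split_monomial d 1 1 hd1 r, ← hd', Groth.Agent.H78.split_monomial d' 2 1 hd'2 r]
        ring

end Groth.Agent.S15725
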