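import Groth.Statements.S15734
import Groth.Agent.H78.HJLattice

set_option autoImplicit false
open W4c2invhilbsl2

namespace Groth.Agent.S15734

/-- Let 0 < p < q be coprime integers and m ≥ 1 such that q − p does not divide m; put g = gcd(m, q−p),
b = (q−p)/g, α = ⌊mp/(q−p)⌋, β = the remainder of mp modulo q−p and t = (q−p−β)/g, so that 1 ≤ t <
b, and let b/t = c₁ − 1/(c₂ − 1/(⋯ − 1/c_r)) be the negative-regular (Hirzebruch–Jung) continued
fraction expansion with every cᵢ ≥ 2; set P₀ = 0, P₁ = 1, Q₀ = −1, Q₁ = 0, Pᵢ = cᵢ₋₁Pᵢ₋₁ − Pᵢ₋₂, Qᵢ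
= cᵢ₋₁Qᵢ₋₁ − Qᵢ₋₂ for 2 ≤ i ≤ r+1, and eᵢ = (α+1+m)Pᵢ − Qᵢ, lᵢ = (α+1)Pᵢ − Qᵢ, nᵢ = q·lᵢ − p·eᵢ,
which are non-negative integers for 0 ≤ i ≤ r+1; moreover g divides every nᵢ, and write tᵢ = nᵢ/g
(so t₁ = t). Then (a) for every 1 ≤ i ≤ r the remainder of t·Pᵢ on division by b equals tᵢ, and (b)
for every 1 < i ≤ r and every integer x with 0 < x < Pᵢ the remainder ρ of t·x on division by b
satisfies tᵢ₋₁ ≤ ρ ≤ b + tᵢ − tᵢ₋₁. -/
theorem result (p q m : ℕ) (hp : 0 < p) (hpq : p < q) (hcop : Nat.Coprime p q) (hm : 0 < m) (hnt : ¬ (q - p ∣ m)) (c : List ℤ) (hc : W4c2invhilbsl2.IsHJDigits p q m c) :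
    (∀ i : ℕ, 1 ≤ i → i ≤ c.length →
      Int.emod ((W4c2invhilbsl2.tT p q m : ℤ) * W4c2invhilbsl2.hjP c i) (W4c2invhilbsl2.bB p q m : ℤ) = W4c2invhilbsl2.nN p q m c i / (W4c2invhilbsl2.gcdK p q m : ℤ)) ∧
    (∀ i : ℕ, 1 < i → i ≤ c.length → ∀ x : ℤ, 0 < x → x < W4c2invhilbsl2.hjP c i →
      W4c2invhilbsl2.nN p q m c (i - 1) / (W4c2invhilbsl2.gcdK p q m : ℤ) ≤ Int.emod ((W4c2invhilbsl2.tT p q m : ℤ) * x) (W4c2invhilbsl2.bB p q m : ℤ) ∧
      Int.emod ((W4c2invhilbsl2.tT p q m : ℤ) * x) (W4c2invhilbsl2.bB p q m : ℤ) ≤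
        (W4c2invhilbsl2.bB p q m : ℤ) + W4c2invhilbsl2.nN p q m c i / (W4c2invhilbsl2.gcdK p q m : ℤ) - W4c2invhilbsl2.nN p q m c (i - 1) / (W4c2invhilbsl2.gcdK p q m : ℤ)) := by
  have hg := Groth.Agent.H78.gcdK_pos p q m hpq
  have hgZ : (gcdK p q m : ℤ) ≠ 0 := by exact_mod_cast (ne_of_gt hg)
  have hnd : ∀ i, nN p q m c i / (gcdK p q m : ℤ) = Groth.Agent.H78.hjR c (bB p q m) (tT p q m) i := by
    intro i
    rw [Groth.Agent.H78.nN_eq_hjR p q m hpq, Int.mul_ediv_cancel_left _ hgZ]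
  have hbpos : (0 : ℤ) < (bB p q m : ℤ) := by
    have := Groth.Agent.H78.tT_lt_bB p q m hpq hcop hnt
    have h0 : 0 < bB p q m := by omega
    exact_mod_cast h0
  have hTi : ∀ i, 1 ≤ i → i ≤ c.length →
      Int.emod ((tT p q m : ℤ) * hjP c i) (bB p q m : ℤ) = Groth.Agent.H78.hjR c (bB p q m) (tT p q m) i := by
    intro i hi1 hir
    have h1 := Groth.Agent.H78.hjT_pos p q m hp hpq hcop hm hnt c hc i hir
    have h2 := Groth.Agent.H78.hjT_lt_b p q m hp hpq hcop hm hnt c hc i hi1 (by omega)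
    have e : (tT p q m : ℤ) * hjP c i = Groth.Agent.H78.hjR c (bB p q m) (tT p q m) i + (bB p q m : ℤ) * hjQ c i := by
      rw [Groth.Agent.H78.hjR_bt]; ring
    rw [e]
    show (Groth.Agent.H78.hjR c (bB p q m) (tT p q m) i + (bB p q m : ℤ) * hjQ c i) % (bB p q m : ℤ) = _
    rw [Int.add_mul_emod_self_left]
    exact Int.emod_eq_of_lt (by linarith) h2
  refine ⟨fun i hi1 hir => by rw [hnd]; exact hTi i hi1 hir, ?_⟩
  intro i hi hir x hx0 hx
  rw [hnd, hnd]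
  have hlow := Groth.Agent.H78.hj_lower p q m hp hpq hcop hm hnt c hc i hi hir x hx0 hx
  refine ⟨hlow, ?_⟩
  -- symmetric point
  have hx' : 0 < hjP c i - x := by linarith
  have hx'' : hjP c i - x < hjP c i := by linarith
  have hlow' := Groth.Agent.H78.hj_lower p q m hp hpq hcop hm hnt c hc i hi hir (hjP c i - x) hx' hx''
  set b : ℤ := (bB p q m : ℤ) with hb
  set t : ℤ := (tT p q m : ℤ) with ht
  set T := Groth.Agent.H78.hjR c b t with hT
  have hd1 : b * ((t * x) / b) + Int.emod (t * x) b = t * x := Int.mul_ediv_add_emod (t * x) b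
  have hd2 : b * ((t * (hjP c i - x)) / b) + Int.emod (t * (hjP c i - x)) b = t * (hjP c i - x) :=
    Int.mul_ediv_add_emod _ b
  have hr1 : Int.emod (t * x) b < b := Int.emod_lt_of_pos _ hbpos
  have hr2 : Int.emod (t * (hjP c i - x)) b < b := Int.emod_lt_of_pos _ hbpos
  have hTeq : t * hjP c i = T i + b * hjQ c i := by
    rw [hT, Groth.Agent.H78.hjR_bt]; ring
  have hTi0 : 1 ≤ T i := Groth.Agent.H78.hjT_pos p q m hp hpq hcop hm hnt c hc i hir
  -- s := Q_i - k - k'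
  set s := hjQ c i - (t * x) / b - (t * (hjP c i - x)) / b with hs
  have hsum : Int.emod (t * x) b + Int.emod (t * (hjP c i - x)) b = T i + b * s := by
    rw [hs]
    have : t * x + t * (hjP c i - x) = t * hjP c i := by ring
    linarith
  have hs2 : s ≤ 1 := by
    by_contra h
    have h' : 2 ≤ s := by omega
    have : b * 2 ≤ b * s := mul_le_mul_of_nonneg_left h' hbpos.le
    linarith
  have : b * s ≤ b * 1 := mul_le_mul_of_nonneg_left hs2 hbpos.le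
  linarith

end Groth.Agent.S15734
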