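import Groth.Statements.S15738
import Groth.Agent.H78.Mono3

set_option autoImplicit false
universe u
open W4c2invhilbsl2

namespace Groth.Agent.S15738

/-- Let k be a field and m ≥ 1; for a monomial X₀^d₀X₁^d₁X₂^d₂ of the polynomial ring in X₀, X₁, X₂ (X₂
standing for Xⱼ, j = 3 or 4, of the five-variable ring) put n = d₀ − p·d₁ + q·d₂ (its weight for the
torus diag(t, t^(−p), t^q)), c = d₁ − d₂ and ω = p·d₁ − q·d₂, so that d₀ = n + ω; here 0 < p < q are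
coprime integers. Take two monomials X₀^d₀X₁^d₁X₂^d₂ and X₀^e₀X₁^e₁X₂^e₂ with the same n and with
values c, c' of c congruent modulo m (so both lie in the same ℤ × ℤ/m-weight piece for the weights
(1,0), (−p,−1), (q,1)). Then: (i) if c = c', the difference of the two monomials lies in the
principal ideal (X₀^(q−p) − X₁X₂); (ii) if c' < c, the monomial X₀^d₀X₁^d₁X₂^d₂ lies in the ideal
(X₀^(q−p) − X₁X₂, X₀^(mp)X₁^m); (iii) in all cases the difference lies in the ideal (X₀^(q−p) −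
X₁X₂, 1 − X₀^(mp)X₁^m). -/
theorem result (k : Type u) [Field k] (p q m : ℕ) (hp : 0 < p) (hpq : p < q) (hcop : Nat.Coprime p q) (hm : 0 < m)
    (d0 d1 d2 e0 e1 e2 : ℕ) (hn : (e0 : ℤ) - (p : ℤ) * e1 + (q : ℤ) * e2 = (d0 : ℤ) - (p : ℤ) * d1 + (q : ℤ) * d2)
    (hc : (m : ℤ) ∣ ((d1 : ℤ) - d2) - ((e1 : ℤ) - e2)) :
    ((d1 : ℤ) - d2 = (e1 : ℤ) - e2 →
      (MvPolynomial.X (0 : Fin 3) ^ d0 * MvPolynomial.X (1 : Fin 3) ^ d1 * MvPolynomial.X (2 : Fin 3) ^ d2 - MvPolynomial.X (0 : Fin 3) ^ e0 * MvPolynomial.X (1 : Fin 3) ^ e1 * MvPolynomial.X (2 : Fin 3) ^ e2 : MvPolynomial (Fin 3) k) ∈ Ideal.span {MvPolynomial.X (0 : Fin 3) ^ (q - p) - MvPolynomial.X (1 : Fin 3) * MvPolynomial.X (2 : Fin 3)}) ∧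
    ((e1 : ℤ) - e2 < (d1 : ℤ) - d2 →
      (MvPolynomial.X (0 : Fin 3) ^ d0 * MvPolynomial.X (1 : Fin 3) ^ d1 * MvPolynomial.X (2 : Fin 3) ^ d2 : MvPolynomial (Fin 3) k) ∈ Ideal.span {MvPolynomial.X (0 : Fin 3) ^ (q - p) - MvPolynomial.X (1 : Fin 3) * MvPolynomial.X (2 : Fin 3), MvPolynomial.X (0 : Fin 3) ^ (m * p) * MvPolynomial.X (1 : Fin 3) ^ m}) ∧
    ((MvPolynomial.X (0 : Fin 3) ^ d0 * MvPolynomial.X (1 : Fin 3) ^ d1 * MvPolynomial.X (2 : Fin 3) ^ d2 - MvPolynomial.X (0 : Fin 3) ^ e0 * MvPolynomial.X (1 : Fin 3) ^ e1 * MvPolynomial.X (2 : Fin 3) ^ e2 : MvPolynomial (Fin 3) k) ∈ Ideal.span {MvPolynomial.X (0 : Fin 3) ^ (q - p) - MvPolynomial.X (1 : Fin 3) * MvPolynomial.X (2 : Fin 3), 1 - MvPolynomial.X (0 : Fin 3) ^ (m * p) * MvPolynomial.X (1 : Fin 3) ^ m}) := by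
  have hspan1 : Ideal.span {(MvPolynomial.X (0 : Fin 3) ^ (q - p) - MvPolynomial.X (1 : Fin 3) * MvPolynomial.X (2 : Fin 3) : MvPolynomial (Fin 3) k)} ≤
      Ideal.span {MvPolynomial.X (0 : Fin 3) ^ (q - p) - MvPolynomial.X (1 : Fin 3) * MvPolynomial.X (2 : Fin 3), MvPolynomial.X (0 : Fin 3) ^ (m * p) * MvPolynomial.X (1 : Fin 3) ^ m} :=
    Ideal.span_mono (by intro x hx; simp only [Set.mem_singleton_iff] at hx; subst hx; simp)
  have hspan2 : Ideal.span {(MvPolynomial.X (0 : Fin 3) ^ (q - p) - MvPolynomial.X (1 : Fin 3) * MvPolynomial.X (2 : Fin 3) : MvPolynomial (Fin 3) k)} ≤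
      Ideal.span {MvPolynomial.X (0 : Fin 3) ^ (q - p) - MvPolynomial.X (1 : Fin 3) * MvPolynomial.X (2 : Fin 3), 1 - MvPolynomial.X (0 : Fin 3) ^ (m * p) * MvPolynomial.X (1 : Fin 3) ^ m} :=
    Ideal.span_mono (by intro x hx; simp only [Set.mem_singleton_iff] at hx; subst hx; simp)
  -- general shifting fact: if c - c' = m * s with s ≥ 0 then mon_d ≡ mon_e * G^s mod F
  have shift : ∀ (d0 d1 d2 e0 e1 e2 s : ℕ),
      (e0 : ℤ) - (p : ℤ) * e1 + (q : ℤ) * e2 = (d0 : ℤ) - (p : ℤ) * d1 + (q : ℤ) * d2 →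
      ((d1 : ℤ) - d2) - ((e1 : ℤ) - e2) = (m : ℤ) * s →
      (Groth.Agent.H78.mon3 k d0 d1 d2 - Groth.Agent.H78.mon3 k e0 e1 e2 *
          (MvPolynomial.X (0 : Fin 3) ^ (m * p) * MvPolynomial.X (1 : Fin 3) ^ m) ^ s) ∈
        Ideal.span {(MvPolynomial.X (0 : Fin 3) ^ (q - p) - MvPolynomial.X (1 : Fin 3) * MvPolynomial.X (2 : Fin 3) : MvPolynomial (Fin 3) k)} := by
    intro d0 d1 d2 e0 e1 e2 s hn' hs
    have e : Groth.Agent.H78.mon3 k e0 e1 e2 *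
          (MvPolynomial.X (0 : Fin 3) ^ (m * p) * MvPolynomial.X (1 : Fin 3) ^ m) ^ s =
        Groth.Agent.H78.mon3 k (e0 + m * p * s) (e1 + m * s) e2 := by
      simp only [Groth.Agent.H78.mon3]
      ring
    rw [e]
    apply Groth.Agent.H78.mon3_sub_mem p q hpq
    · push_cast; linarith
    · push_cast; linarith
  refine ⟨?_, ?_, ?_⟩
  · intro hceq
    exact Groth.Agent.H78.mon3_sub_mem p q hpq d0 d1 d2 e0 e1 e2 hn hceq
  · intro hlt
    obtain ⟨s', hs'⟩ := hc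
    have hmZ : (0 : ℤ) < m := by exact_mod_cast hm
    have hs'pos : 0 < s' := by
      by_contra h
      have : s' ≤ 0 := by omega
      have : (m : ℤ) * s' ≤ 0 := mul_nonpos_of_nonneg_of_nonpos hmZ.le this
      linarith
    obtain ⟨s, rfl⟩ : ∃ s : ℕ, s' = s := ⟨s'.toNat, by omega⟩
    have hs1 : 1 ≤ s := by omega
    have h1 := shift d0 d1 d2 e0 e1 e2 s hn hs'
    have h2 : Groth.Agent.H78.mon3 k e0 e1 e2 *
          (MvPolynomial.X (0 : Fin 3) ^ (m * p) * MvPolynomial.X (1 : Fin 3) ^ m) ^ s ∈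
        Ideal.span {MvPolynomial.X (0 : Fin 3) ^ (q - p) - MvPolynomial.X (1 : Fin 3) * MvPolynomial.X (2 : Fin 3), MvPolynomial.X (0 : Fin 3) ^ (m * p) * MvPolynomial.X (1 : Fin 3) ^ m} := by
      apply Ideal.mul_mem_left
      obtain ⟨s0, rfl⟩ : ∃ s0, s = s0 + 1 := ⟨s - 1, by omega⟩
      rw [pow_succ]
      apply Ideal.mul_mem_left
      exact Ideal.subset_span (by simp)
    have := Ideal.add_mem _ (hspan1 h1) h2
    simpa [Groth.Agent.H78.mon3] using this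
  · -- general case
    have main : ∀ (d0 d1 d2 e0 e1 e2 : ℕ),
        (e0 : ℤ) - (p : ℤ) * e1 + (q : ℤ) * e2 = (d0 : ℤ) - (p : ℤ) * d1 + (q : ℤ) * d2 →
        (m : ℤ) ∣ ((d1 : ℤ) - d2) - ((e1 : ℤ) - e2) → (e1 : ℤ) - e2 ≤ (d1 : ℤ) - d2 →
        (Groth.Agent.H78.mon3 k d0 d1 d2 - Groth.Agent.H78.mon3 k e0 e1 e2) ∈
          Ideal.span {MvPolynomial.X (0 : Fin 3) ^ (q - p) - MvPolynomial.X (1 : Fin 3) * MvPolynomial.X (2 : Fin 3), 1 - MvPolynomial.X (0 : Fin 3) ^ (m * p) * MvPolynomial.X (1 : Fin 3) ^ m} := by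
      intro d0 d1 d2 e0 e1 e2 hn' hc' hle
      obtain ⟨s', hs'⟩ := hc'
      have hmZ : (0 : ℤ) < m := by exact_mod_cast hm
      have hs'pos : 0 ≤ s' := by
        by_contra h
        have : s' ≤ -1 := by omega
        have : (m : ℤ) * s' ≤ (m : ℤ) * (-1) := mul_le_mul_of_nonneg_left this hmZ.le
        linarith
      obtain ⟨s, rfl⟩ : ∃ s : ℕ, s' = s := ⟨s'.toNat, by omega⟩
      have h1 := shift d0 d1 d2 e0 e1 e2 s hn' hs'
      have h2 : Groth.Agent.H78.mon3 k e0 e1 e2 *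
            (MvPolynomial.X (0 : Fin 3) ^ (m * p) * MvPolynomial.X (1 : Fin 3) ^ m) ^ s -
            Groth.Agent.H78.mon3 k e0 e1 e2 ∈
          Ideal.span {MvPolynomial.X (0 : Fin 3) ^ (q - p) - MvPolynomial.X (1 : Fin 3) * MvPolynomial.X (2 : Fin 3), 1 - MvPolynomial.X (0 : Fin 3) ^ (m * p) * MvPolynomial.X (1 : Fin 3) ^ m} := by
        obtain ⟨r, hr⟩ := sub_dvd_pow_sub_pow (1 : MvPolynomial (Fin 3) k)
          (MvPolynomial.X (0 : Fin 3) ^ (m * p) * MvPolynomial.X (1 : Fin 3) ^ m) s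
        have : Groth.Agent.H78.mon3 k e0 e1 e2 *
            (MvPolynomial.X (0 : Fin 3) ^ (m * p) * MvPolynomial.X (1 : Fin 3) ^ m) ^ s -
            Groth.Agent.H78.mon3 k e0 e1 e2 = (-(Groth.Agent.H78.mon3 k e0 e1 e2) * r) *
              (1 - MvPolynomial.X (0 : Fin 3) ^ (m * p) * MvPolynomial.X (1 : Fin 3) ^ m) := by
          rw [one_pow] at hr
          linear_combination (-(Groth.Agent.H78.mon3 k e0 e1 e2)) * hr
        rw [this]
        apply Ideal.mul_mem_left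
        exact Ideal.subset_span (by simp)
      have := Ideal.add_mem _ (hspan2 h1) h2
      simpa using this
    rcases le_total ((e1 : ℤ) - e2) ((d1 : ℤ) - d2) with h | h
    · exact main d0 d1 d2 e0 e1 e2 hn hc h
    · have := main e0 e1 e2 d0 d1 d2 hn.symm (by rw [← neg_sub] at hc; exact (dvd_neg.mp hc)) h
      have e : Groth.Agent.H78.mon3 k d0 d1 d2 - Groth.Agent.H78.mon3 k e0 e1 e2 =
          -(Groth.Agent.H78.mon3 k e0 e1 e2 - Groth.Agent.H78.mon3 k d0 d1 d2) := by ring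
      show Groth.Agent.H78.mon3 k d0 d1 d2 - Groth.Agent.H78.mon3 k e0 e1 e2 ∈ _
      rw [e]
      exact (Ideal.neg_mem_iff _).mpr this

end Groth.Agent.S15738
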