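import Groth.Statements.S15739
import Mathlib.Tactic

set_option autoImplicit false
universe u
open W4c2invhilbsl2

namespace Groth.Agent.S15739

/-- Let k be a field and m ≥ 1, put g = gcd(m, q−p), a = m/g and b = (q−p)/g; for a monomial
X₀^d₀X₁^d₁X₂^d₂ of the polynomial ring in X₀, X₁, X₂ (X₂ standing for Xⱼ, j = 3 or 4, of the
five-variable ring) put n = d₀ − p·d₁ + q·d₂ (its weight for the torus diag(t, t^(−p), t^q)), c = d₁
− d₂ and ω = p·d₁ − q·d₂, so that d₀ = n + ω; here 0 < p < q are coprime integers. Take two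
monomials X₀^d₀X₁^d₁X₂^d₂ and X₀^e₀X₁^e₁X₂^e₂ with the same n, where 0 ≤ n < q − p, whose values c
and c' of c are both divisible by m, and with d₀ < g and e₀ < g (so each has the least ω for its
pair (n, c), as g ≤ q − p). Then: (i) d₀ = e₀, i.e. the two values of ω agree, and m·b divides c −
c'; (ii) if c < c', then X₀^e₀X₁^e₁X₂^e₂ is a multiple of X₀^d₀X₁^d₁X₂^d₂ · X₁^(aq)X₂^(ap); (iii)
the difference of the two monomials lies in the principal ideal (1 − X₁^(aq)X₂^(ap)). -/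
theorem result (k : Type u) [Field k] (p q m : ℕ) (hp : 0 < p) (hpq : p < q) (hcop : Nat.Coprime p q) (hm : 0 < m)
    (d0 d1 d2 e0 e1 e2 : ℕ) (hn : (e0 : ℤ) - (p : ℤ) * e1 + (q : ℤ) * e2 = (d0 : ℤ) - (p : ℤ) * d1 + (q : ℤ) * d2)
    (hn0 : 0 ≤ (d0 : ℤ) - (p : ℤ) * d1 + (q : ℤ) * d2) (hnq : (d0 : ℤ) - (p : ℤ) * d1 + (q : ℤ) * d2 < (q : ℤ) - p)
    (hcd : (m : ℤ) ∣ (d1 : ℤ) - d2) (hce : (m : ℤ) ∣ (e1 : ℤ) - e2)
    (hd0 : d0 < Nat.gcd m (q - p)) (he0 : e0 < Nat.gcd m (q - p)) :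
    (d0 = e0 ∧ ((m : ℤ) * ((q - p) / Nat.gcd m (q - p) : ℕ)) ∣ ((d1 : ℤ) - d2) - ((e1 : ℤ) - e2)) ∧
    ((d1 : ℤ) - d2 < (e1 : ℤ) - e2 →
      (MvPolynomial.X (0 : Fin 3) ^ d0 * MvPolynomial.X (1 : Fin 3) ^ d1 * MvPolynomial.X (2 : Fin 3) ^ d2 * (MvPolynomial.X (1 : Fin 3) ^ (m / Nat.gcd m (q - p) * q) * MvPolynomial.X (2 : Fin 3) ^ (m / Nat.gcd m (q - p) * p)) : MvPolynomial (Fin 3) k) ∣ MvPolynomial.X (0 : Fin 3) ^ e0 * MvPolynomial.X (1 : Fin 3) ^ e1 * MvPolynomial.X (2 : Fin 3) ^ e2) ∧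
    ((MvPolynomial.X (0 : Fin 3) ^ e0 * MvPolynomial.X (1 : Fin 3) ^ e1 * MvPolynomial.X (2 : Fin 3) ^ e2 - MvPolynomial.X (0 : Fin 3) ^ d0 * MvPolynomial.X (1 : Fin 3) ^ d1 * MvPolynomial.X (2 : Fin 3) ^ d2 : MvPolynomial (Fin 3) k) ∈
      Ideal.span {(1 : MvPolynomial (Fin 3) k) - MvPolynomial.X (1 : Fin 3) ^ (m / Nat.gcd m (q - p) * q) * MvPolynomial.X (2 : Fin 3) ^ (m / Nat.gcd m (q - p) * p)}) := by
  set g := Nat.gcd m (q - p) with hgdef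
  set a := m / g with hadef
  set b := (q - p) / g with hbdef
  have hgpos : 0 < g := Nat.gcd_pos_of_pos_left _ hm
  have hma : m = g * a := (Nat.mul_div_cancel' (Nat.gcd_dvd_left m (q - p))).symm
  have hqb : q - p = g * b := (Nat.mul_div_cancel' (Nat.gcd_dvd_right m (q - p))).symm
  have hbpos : 0 < b := by
    rcases Nat.eq_zero_or_pos b with h | h
    · rw [h, mul_zero] at hqb; omega
    · exact h
  have hab : Nat.Coprime a b := Nat.coprime_div_gcd_div_gcd hgpos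
  have hQp : Nat.Coprime (q - p) p := by
    have : Nat.Coprime p (q - p) := by
      rw [Nat.Coprime, ← Nat.gcd_add_self_right, Nat.sub_add_cancel hpq.le]
      exact hcop
    exact this.symm
  have hbp : Nat.Coprime b p := Nat.Coprime.coprime_dvd_left ⟨g, by rw [hqb, mul_comm]⟩ hQp
  have hbpa : IsCoprime (b : ℤ) ((p : ℤ) * a) := by
    have : Nat.Coprime b (p * a) := Nat.Coprime.mul_right hbp hab.symm
    have := Nat.isCoprime_iff_coprime.mpr this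
    simpa using this
  have hqpZ : ((q - p : ℕ) : ℤ) = (q : ℤ) - p := by omega
  have hqbZ : (q : ℤ) - p = (g : ℤ) * b := by rw [← hqpZ, hqb]; push_cast; ring
  have hmaZ : (m : ℤ) = (g : ℤ) * a := by rw [hma]; push_cast; ring
  have hgZ : (0 : ℤ) < g := by exact_mod_cast hgpos
  have hbZ : (0 : ℤ) < b := by exact_mod_cast hbpos
  -- key structural fact
  have key : ∀ (d0 d1 d2 e0 e1 e2 : ℕ),
      (e0 : ℤ) - (p : ℤ) * e1 + (q : ℤ) * e2 = (d0 : ℤ) - (p : ℤ) * d1 + (q : ℤ) * d2 →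
      (m : ℤ) ∣ (d1 : ℤ) - d2 → (m : ℤ) ∣ (e1 : ℤ) - e2 → d0 < g → e0 < g →
      (d1 : ℤ) - d2 ≤ (e1 : ℤ) - e2 →
      ∃ s : ℕ, e0 = d0 ∧ e1 = d1 + a * q * s ∧ e2 = d2 + a * p * s ∧
        ((e1 : ℤ) - e2) - ((d1 : ℤ) - d2) = (m : ℤ) * b * s := by
    intro d0 d1 d2 e0 e1 e2 hn hcd hce hd0 he0 hle
    obtain ⟨u1, hu1⟩ := hcd
    obtain ⟨u2, hu2⟩ := hce
    have hdiff : (d0 : ℤ) - e0 = (g : ℤ) * ((p : ℤ) * a * (u1 - u2) - b * ((d2 : ℤ) - e2)) := by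
      have h1 : (d0 : ℤ) - e0 = (p : ℤ) * (((d1 : ℤ) - d2) - ((e1 : ℤ) - e2)) - ((q : ℤ) - p) * ((d2 : ℤ) - e2) := by
        linarith
      rw [h1, hu1, hu2, hqbZ, hmaZ]; ring
    have hz : (p : ℤ) * a * (u1 - u2) - b * ((d2 : ℤ) - e2) = 0 := by
      have hdvd : (g : ℤ) ∣ (d0 : ℤ) - e0 := ⟨_, hdiff⟩
      have habs : |(d0 : ℤ) - e0| < g := by
        rw [abs_lt]; constructor <;> omega
      have h0 := Int.eq_zero_of_abs_lt_dvd hdvd habs
      rw [h0] at hdiff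
      rcases mul_eq_zero.mp hdiff.symm with h | h
      · omega
      · exact h
    have hde : e0 = d0 := by
      have : (d0 : ℤ) - e0 = 0 := by rw [hdiff, hz, mul_zero]
      omega
    -- b ∣ u2 - u1
    have hbdvd : (b : ℤ) ∣ (u2 - u1) := by
      apply hbpa.dvd_of_dvd_mul_left
      refine ⟨(e2 : ℤ) - d2, ?_⟩
      linarith
    obtain ⟨s', hs'⟩ := hbdvd
    have hmZ : (0 : ℤ) < m := by exact_mod_cast hm
    have hs'0 : 0 ≤ s' := by
      by_contra h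
      have h1 : s' ≤ -1 := by omega
      have h2 : (b : ℤ) * s' ≤ (b : ℤ) * (-1) := mul_le_mul_of_nonneg_left h1 hbZ.le
      have h3 : u2 - u1 ≤ -1 := by linarith
      have h4 : (m : ℤ) * (u2 - u1) ≤ (m : ℤ) * (-1) := mul_le_mul_of_nonneg_left h3 hmZ.le
      have : ((e1 : ℤ) - e2) - ((d1 : ℤ) - d2) = (m : ℤ) * (u2 - u1) := by rw [hu1, hu2]; ring
      linarith
    obtain ⟨s, rfl⟩ : ∃ s : ℕ, s' = s := ⟨s'.toNat, by omega⟩
    have he2 : (e2 : ℤ) - d2 = (p : ℤ) * a * s := by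
      have : (b : ℤ) * ((e2 : ℤ) - d2) = (b : ℤ) * ((p : ℤ) * a * s) := by
        have : u1 - u2 = -((b : ℤ) * s) := by linarith
        rw [this] at hz
        linarith
      exact mul_left_cancel₀ (ne_of_gt hbZ) this
    have hcc : ((e1 : ℤ) - e2) - ((d1 : ℤ) - d2) = (m : ℤ) * b * s := by
      rw [hu1, hu2]
      have : u2 - u1 = (b : ℤ) * s := hs'
      linear_combination (m : ℤ) * this
    have he1 : (e1 : ℤ) - d1 = (a : ℤ) * q * s := by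
      have : (e1 : ℤ) - d1 = (m : ℤ) * b * s + (p : ℤ) * a * s := by linarith
      rw [this, hmaZ]
      have : (q : ℤ) = (g : ℤ) * b + p := by linarith
      rw [this]; ring
    refine ⟨s, hde, ?_, ?_, hcc⟩
    · have : (e1 : ℤ) = ((d1 + a * q * s : ℕ) : ℤ) := by push_cast; linarith
      exact_mod_cast this
    · have : (e2 : ℤ) = ((d2 + a * p * s : ℕ) : ℤ) := by push_cast; linarith
      exact_mod_cast this
  -- the ideal membership for the ordered case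
  have memb : ∀ (d0 d1 d2 s : ℕ),
      (MvPolynomial.X (0 : Fin 3) ^ d0 * MvPolynomial.X (1 : Fin 3) ^ (d1 + a * q * s) * MvPolynomial.X (2 : Fin 3) ^ (d2 + a * p * s) - MvPolynomial.X (0 : Fin 3) ^ d0 * MvPolynomial.X (1 : Fin 3) ^ d1 * MvPolynomial.X (2 : Fin 3) ^ d2 : MvPolynomial (Fin 3) k) ∈
      Ideal.span {(1 : MvPolynomial (Fin 3) k) - MvPolynomial.X (1 : Fin 3) ^ (a * q) * MvPolynomial.X (2 : Fin 3) ^ (a * p)} := by
    intro d0 d1 d2 s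
    obtain ⟨r, hr⟩ := sub_dvd_pow_sub_pow (1 : MvPolynomial (Fin 3) k)
      (MvPolynomial.X (1 : Fin 3) ^ (a * q) * MvPolynomial.X (2 : Fin 3) ^ (a * p)) s
    rw [one_pow] at hr
    have : (MvPolynomial.X (0 : Fin 3) ^ d0 * MvPolynomial.X (1 : Fin 3) ^ (d1 + a * q * s) * MvPolynomial.X (2 : Fin 3) ^ (d2 + a * p * s) - MvPolynomial.X (0 : Fin 3) ^ d0 * MvPolynomial.X (1 : Fin 3) ^ d1 * MvPolynomial.X (2 : Fin 3) ^ d2 : MvPolynomial (Fin 3) k) =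
        (-(MvPolynomial.X (0 : Fin 3) ^ d0 * MvPolynomial.X (1 : Fin 3) ^ d1 * MvPolynomial.X (2 : Fin 3) ^ d2) * r) *
          (1 - MvPolynomial.X (1 : Fin 3) ^ (a * q) * MvPolynomial.X (2 : Fin 3) ^ (a * p)) := by
      have e : (MvPolynomial.X (0 : Fin 3) ^ d0 * MvPolynomial.X (1 : Fin 3) ^ (d1 + a * q * s) * MvPolynomial.X (2 : Fin 3) ^ (d2 + a * p * s) : MvPolynomial (Fin 3) k) =
          (MvPolynomial.X (0 : Fin 3) ^ d0 * MvPolynomial.X (1 : Fin 3) ^ d1 * MvPolynomial.X (2 : Fin 3) ^ d2) *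
            (MvPolynomial.X (1 : Fin 3) ^ (a * q) * MvPolynomial.X (2 : Fin 3) ^ (a * p)) ^ s := by ring
      rw [e]
      linear_combination (-(MvPolynomial.X (0 : Fin 3) ^ d0 * MvPolynomial.X (1 : Fin 3) ^ d1 * MvPolynomial.X (2 : Fin 3) ^ d2 : MvPolynomial (Fin 3) k)) * hr
    rw [this]
    apply Ideal.mul_mem_left
    exact Ideal.subset_span rfl
  refine ⟨?_, ?_, ?_⟩
  · rcases le_total ((d1 : ℤ) - d2) ((e1 : ℤ) - e2) with h | h
    · obtain ⟨s, h0, _, _, hcc⟩ := key d0 d1 d2 e0 e1 e2 hn hcd hce hd0 he0 h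
      refine ⟨h0.symm, ⟨-(s : ℤ), ?_⟩⟩
      linarith
    · obtain ⟨s, h0, _, _, hcc⟩ := key e0 e1 e2 d0 d1 d2 hn.symm hce hcd he0 hd0 h
      exact ⟨h0, ⟨(s : ℤ), by linarith⟩⟩
  · intro hlt
    obtain ⟨s, h0, h1, h2, hcc⟩ := key d0 d1 d2 e0 e1 e2 hn hcd hce hd0 he0 hlt.le
    have hs : 1 ≤ s := by
      by_contra h
      have : s = 0 := by omega
      rw [this] at hcc
      simp at hcc
      linarith
    obtain ⟨s0, rfl⟩ : ∃ s0, s = s0 + 1 := ⟨s - 1, by omega⟩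
    rw [h0, h1, h2]
    refine ⟨MvPolynomial.X (1 : Fin 3) ^ (a * q * s0) * MvPolynomial.X (2 : Fin 3) ^ (a * p * s0), ?_⟩
    ring
  · rcases le_total ((d1 : ℤ) - d2) ((e1 : ℤ) - e2) with h | h
    · obtain ⟨s, h0, h1, h2, _⟩ := key d0 d1 d2 e0 e1 e2 hn hcd hce hd0 he0 h
      rw [h0, h1, h2]
      exact memb d0 d1 d2 s
    · obtain ⟨s, h0, h1, h2, _⟩ := key e0 e1 e2 d0 d1 d2 hn.symm hce hcd he0 hd0 h
      rw [h0, h1, h2]
      have := memb e0 e1 e2 s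
      have e : (MvPolynomial.X (0 : Fin 3) ^ e0 * MvPolynomial.X (1 : Fin 3) ^ e1 * MvPolynomial.X (2 : Fin 3) ^ e2 - MvPolynomial.X (0 : Fin 3) ^ e0 * MvPolynomial.X (1 : Fin 3) ^ (e1 + a * q * s) * MvPolynomial.X (2 : Fin 3) ^ (e2 + a * p * s) : MvPolynomial (Fin 3) k) =
          -(MvPolynomial.X (0 : Fin 3) ^ e0 * MvPolynomial.X (1 : Fin 3) ^ (e1 + a * q * s) * MvPolynomial.X (2 : Fin 3) ^ (e2 + a * p * s) - MvPolynomial.X (0 : Fin 3) ^ e0 * MvPolynomial.X (1 : Fin 3) ^ e1 * MvPolynomial.X (2 : Fin 3) ^ e2) := by ring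
      rw [e]
      exact (Ideal.neg_mem_iff _).mpr this

end Groth.Agent.S15739
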