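import Groth.Statements.S15740
import Mathlib.Tactic

set_option autoImplicit false
open W4c2invhilbsl2

namespace Groth.Agent.S15740

/-- For a monomial X₀^d₀X₁^d₁X₂^d₂ of the polynomial ring in X₀, X₁, X₂ (X₂ standing for Xⱼ, j = 3 or 4,
of the five-variable ring) put n = d₀ − p·d₁ + q·d₂ (its weight for the torus diag(t, t^(−p), t^q)),
c = d₁ − d₂ and ω = p·d₁ − q·d₂, so that d₀ = n + ω; here 0 < p < q are coprime integers. Suppose n
≥ 0, c > 0 and d₀ < q − p (the last condition says that ω is the least value of ω for the pair (n,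
c)). Then ω ≥ 0 if and only if the remainder of p·c on division by q − p, plus n, is less than q −
p. -/
theorem result (p q : ℕ) (hp : 0 < p) (hpq : p < q) (hcop : Nat.Coprime p q) (d0 d1 d2 : ℕ)
    (hn : 0 ≤ (d0 : ℤ) - (p : ℤ) * d1 + (q : ℤ) * d2) (hc : (d2 : ℤ) < d1) (hd0 : d0 < q - p) :
    0 ≤ (p : ℤ) * d1 - (q : ℤ) * d2 ↔
      Int.emod ((p : ℤ) * ((d1 : ℤ) - d2)) ((q : ℤ) - p) + ((d0 : ℤ) - (p : ℤ) * d1 + (q : ℤ) * d2) < (q : ℤ) - p := by
  have hqp : (p : ℤ) < q := by exact_mod_cast hpq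
  have hcast : ((q - p : ℕ) : ℤ) = (q : ℤ) - p := by omega
  have hd0' : (d0 : ℤ) < (q : ℤ) - p := by rw [← hcast]; exact_mod_cast hd0
  have hd0n : (0 : ℤ) ≤ d0 := Int.natCast_nonneg d0
  have hd2n : (0 : ℤ) ≤ d2 := Int.natCast_nonneg d2
  set Q : ℤ := (q : ℤ) - p with hQ
  have hQpos : 0 < Q := by linarith
  set c : ℤ := (d1 : ℤ) - d2 with hcdef
  set r : ℤ := Int.emod ((p : ℤ) * c) Q with hr
  set k : ℤ := ((p : ℤ) * c) / Q with hk
  have hdiv : Q * k + r = (p : ℤ) * c := Int.mul_ediv_add_emod ((p : ℤ) * c) Q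
  have hr0 : 0 ≤ r := Int.emod_nonneg _ (ne_of_gt hQpos)
  have hrQ : r < Q := Int.emod_lt_of_pos _ hQpos
  -- ω = p c - Q d2
  have hω : (p : ℤ) * d1 - (q : ℤ) * d2 = (p : ℤ) * c - Q * d2 := by rw [hcdef, hQ]; ring
  have hn' : (d0 : ℤ) - (p : ℤ) * d1 + (q : ℤ) * d2 = d0 - ((p : ℤ) * c - Q * d2) := by rw [hcdef, hQ]; ring
  rw [hω, hn']
  rw [hn'] at hn
  constructor
  · intro h
    -- Q*k + r ≥ Q*d2 → k ≥ d2
    have hk2 : (d2 : ℤ) ≤ k := by
      by_contra hlt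
      have hlt' : k + 1 ≤ d2 := by omega
      have : Q * (k + 1) ≤ Q * d2 := mul_le_mul_of_nonneg_left hlt' hQpos.le
      nlinarith
    -- from hn: d0 - (Q k + r - Q d2) ≥ 0 → Q (k - d2) ≤ d0 - r < Q → k ≤ d2
    have hk3 : k ≤ d2 := by
      by_contra hlt
      have hlt' : (d2 : ℤ) + 1 ≤ k := by omega
      have : Q * ((d2 : ℤ) + 1) ≤ Q * k := mul_le_mul_of_nonneg_left hlt' hQpos.le
      nlinarith
    have hkeq : k = d2 := le_antisymm hk3 hk2
    rw [← hdiv, hkeq]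
    linarith
  · intro h
    rw [← hdiv] at h ⊢
    by_contra hlt
    have hlt' : Q * k + r - Q * d2 < 0 := by linarith
    have hk2 : k + 1 ≤ d2 := by
      by_contra hh
      have hh' : (d2 : ℤ) ≤ k := by omega
      have : Q * d2 ≤ Q * k := mul_le_mul_of_nonneg_left hh' hQpos.le
      linarith
    have : Q * (k + 1) ≤ Q * d2 := mul_le_mul_of_nonneg_left hk2 hQpos.le
    nlinarith

end Groth.Agent.S15740
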