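import Groth.Statements.S15743
import Groth.Agent.H18.STL.GenLocus
import Groth.Agent.H18.QCohLocalize
import Groth.Agent.H8.FreeGen

set_option autoImplicit false
universe u
open QCohSup

namespace Groth.Agent.S15743

open AlgebraicGeometry in
open CategoryTheory in
open Opposite in
/-- Let `X` be a scheme whose underlying space is quasi-compact, `L` an invertible `O_X`-module, `s` a
global section of `L` and `X_s` the open where `s` generates `L`, `F` a quasi-coherent `O_X`-module
and `t` a global section of `F` whose restriction to `X_s` is zero. Then `t ⊗ s^{⊗ n} = 0` in `Γ(X,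
F ⊗ L^{⊗ n})` for some integer `n > 0`. (The published statement assumes the underlying space
Noetherian, or the scheme separated with quasi-compact underlying space; the published proof of this
part uses only quasi-compactness, so only that is assumed here.) -/
theorem result
    (X : Scheme.{u}) [CompactSpace X] (L : X.Modules) (hL : PicF.IsInvertible L)
    (s : Coh.structureModule X ⟶ L) (F : X.Modules) [Coh.IsQCoh F]
    (t : F.val.obj (op ⊤))
    (ht : F.val.map (homOfLE (le_top : CohB1.genLocus L s ≤ ⊤)).op t = 0) :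
    ∃ n : ℕ, 0 < n ∧ SecTwist.twist s n F ⊤ t = 0 := by
  classical
  open Groth.Agent.H18 Groth.Agent.H18.PUP Groth.Agent.H18.STL in
  have ht' : mres F (le_top : CohB1.genLocus L s ≤ ⊤) t = 0 := ht
  open Groth.Agent.H18 Groth.Agent.H18.PUP Groth.Agent.H18.STL in
  have hloc : ∀ x : X, ∃ (V : X.Opens), x ∈ V ∧ ∃ n : ℕ, ∀ m, n ≤ m →
      mres (CohB1.tensorMod F (CohB1.tensorPow L m)) (le_top : V ≤ ⊤)
        (SecTwist.twist s m F ⊤ t) = 0 := by
    intro x
    obtain ⟨U, hxU, σ, hσ'⟩ := Groth.Agent.H8.exists_isFreeGen_of_isInvertible hL x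
    have hσ : IsBasisOn L U σ := hσ'
    obtain ⟨V, hVaff, hxV, hVU⟩ := TopologicalSpace.Opens.isBasis_iff_nbhd.1 X.isBasis_affineOpens hxU
    have he : IsBasisOn L V (mres L hVU σ) := hσ.mono hVU
    set e := mres L hVU σ with he_def
    set f := he.coord le_rfl (SecTwist.val s V) with hf_def
    have hf : SecTwist.val s V = f • e := by
      have := he.coord_smul le_rfl (SecTwist.val s V)
      rw [mres_self] at this
      exact this.symm
    have hB : X.basicOpen f ≤ CohB1.genLocus L s := basicOpen_le_genLocus s he f hf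
    have ht0 : mres F (X.basicOpen_le f) (mres F (le_top : V ≤ ⊤) t) = 0 := by
      rw [mres_mres]
      have h1 := congrArg (mres F hB) ht'
      rw [mres_mres, map_zero] at h1
      exact h1
    obtain ⟨n, hn⟩ := exists_pow_smul_eq_zero_of_isQuasicoherent F hVaff f _ ht0
    refine ⟨V, hxV, n, fun m hm => ?_⟩
    rw [mres_twist, twist_eq_tmul_lpow s V e f hf m F]
    have h2 : f ^ m • mres F (le_top : V ≤ ⊤) t = 0 := by
      obtain ⟨k, rfl⟩ := Nat.exists_eq_add_of_le hm
      rw [pow_add, mul_comm, mul_smul, hn, smul_zero]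
    rw [h2]
    exact tmul_zero_left F (CohB1.tensorPow L m) V _
  choose V hxV n hn using hloc
  obtain ⟨T, hT⟩ := CompactSpace.elim_nhds_subcover (fun x => (V x : Set X))
    (fun x => (V x).isOpen.mem_nhds (hxV x))
  refine ⟨T.sup n + 1, Nat.succ_pos _, ?_⟩
  open Groth.Agent.H18 Groth.Agent.H18.PUP Groth.Agent.H18.STL in
  refine modules_eq_of_locally_eq (CohB1.tensorMod F (CohB1.tensorPow L (T.sup n + 1))) (W := ⊤)
    _ _ (fun x _ => ?_)
  obtain ⟨y, hyT, hxy⟩ : ∃ y ∈ T, x ∈ V y := by
    have : x ∈ ⋃ y ∈ T, (V y : Set X) := hT ▸ Set.mem_univ x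
    simpa using this
  refine ⟨V y, le_top, hxy, ?_⟩
  rw [hn y (T.sup n + 1) (le_trans (Finset.le_sup hyT) (Nat.le_succ _))]
  exact (map_zero _).symm

end Groth.Agent.S15743
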