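import Groth.Statements.S15752
import Groth.Agent.H3.WPrepMain

set_option autoImplicit false
universe u
open Polynomial
open CAlg

namespace Groth.Agent.S15752

/-- Let R be a Henselian local ring with maximal ideal m and let B be a henselization of R[t] along (t).
Every f ∈ B outside mB factors as f = P · u for a unique pair (P, u) with P ∈ R[t] monic whose
non-leading coefficients lie in m and u a unit of B; moreover the natural map R[t]/(P) → B/(f) is
bijective, stated as: every element of B is congruent to (the image of) a polynomial modulo f, and a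
polynomial whose image lies in fB lies in P·R[t]. -/
theorem result (R : Type u) [CommRing R]
    [HenselianLocalRing R] (B : Type u) [CommRing B] [Algebra R B] [Algebra R[X] B]
    [IsScalarTower R R[X] B] (hB : Hens2.IsPairHenselization R[X] (Ideal.span {(X : R[X])}) B)
    (f : B) (hf : f ∉ (IsLocalRing.maximalIdeal R).map (algebraMap R B)) :
    (∃! Pu : R[X] × Bˣ, Pu.1.Monic ∧ (∀ i : ℕ, i < Pu.1.natDegree → Pu.1.coeff i ∈ IsLocalRing.maximalIdeal R) ∧
        f = algebraMap R[X] B Pu.1 * (Pu.2 : B)) ∧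
    (∀ (P : R[X]) (u : Bˣ), P.Monic → (∀ i : ℕ, i < P.natDegree → P.coeff i ∈ IsLocalRing.maximalIdeal R) →
        f = algebraMap R[X] B P * (u : B) →
      (∀ b : B, ∃ q : R[X], algebraMap R[X] B q - b ∈ Ideal.span {f}) ∧
      (∀ q : R[X], algebraMap R[X] B q ∈ Ideal.span {f} → q ∈ Ideal.span {P})) := by
  have hB' : Hens2.IsPairHenselization R[X] (Groth.Agent.H3.WPrep.IX R) B := hB
  obtain ⟨P₀, u₀, hW₀, hf₀⟩ := Groth.Agent.H3.WPrep.exists_factor hB' f hf
  have hspan : ∀ (P : R[X]) (u : Bˣ), f = algebraMap R[X] B P * (u : B) →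
      Ideal.span {f} = Ideal.span {algebraMap R[X] B P} := by
    intro P u hPu
    rw [hPu]
    exact Ideal.span_singleton_mul_right_unit u.isUnit _
  refine ⟨⟨(P₀, u₀), ⟨hW₀.1, hW₀.2, hf₀⟩, ?_⟩, ?_⟩
  · rintro ⟨P, u⟩ ⟨hP1, hP2, hP3⟩
    have hW : Groth.Agent.H3.WPrep.IsWeier P := ⟨hP1, hP2⟩
    have h1 : P = P₀ := Groth.Agent.H3.WPrep.weier_unique hB' P P₀ hW hW₀ (by
      rw [← hspan P u hP3, ← hspan P₀ u₀ hf₀])
    subst h1
    have hflat : Module.Flat R[X] B := Groth.Agent.H3.HensFlatMain.flat hB'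
    have hreg : IsSMulRegular B (algebraMap R[X] B P) :=
      IsSMulRegular.of_flat (hP1.isRegular.left.isSMulRegular)
    have h2 : (u : B) = (u₀ : B) := by
      apply hreg
      simp only [smul_eq_mul]
      rw [← hP3, ← hf₀]
    have h3 : u = u₀ := Units.ext h2
    rw [h3]
  · intro P u hP1 hP2 hP3
    have hW : Groth.Agent.H3.WPrep.IsWeier P := ⟨hP1, hP2⟩
    rw [hspan P u hP3]
    exact Groth.Agent.H3.WPrep.quotient_bijective hB' P hW

end Groth.Agent.S15752
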