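import Groth.Statements.S15754
import Groth.Agent.H36.HorrocksSeries

set_option autoImplicit false
universe u
open TensorProduct
open CAlg

namespace Groth.Agent.S15754

/-- For an arbitrary commutative ring R, non-isomorphic finitely generated projective R-modules cannot
become isomorphic over the Laurent series ring R((t)): for an R-algebra L that is R-isomorphic to
R((t)), if L ⊗_R M ≅ L ⊗_R N as L-modules then M ≅ N. (L is R((t)) up to an R-algebra isomorphism;
it is kept abstract only so that the L-module structure on L ⊗_R M elaborates.) -/
theorem result (R : Type u) [CommRing R]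
    (L : Type u) [CommRing L] [Algebra R L] (eL : L ≃ₐ[R] LaurentSeries R)
    (M N : Type u) [AddCommGroup M] [Module R M] [Module.Finite R M] [Module.Projective R M]
    [AddCommGroup N] [Module R N] [Module.Finite R N] [Module.Projective R N]
    (e : L ⊗[R] M ≃ₗ[L] L ⊗[R] N) :
    Nonempty (M ≃ₗ[R] N) := by
  letI alg : Algebra (PowerSeries R) L :=
    ((eL.symm : LaurentSeries R →+* L).comp
      (algebraMap (PowerSeries R) (LaurentSeries R))).toAlgebra
  haveI : IsScalarTower R (PowerSeries R) L := IsScalarTower.of_algebraMap_eq fun r => by
    rw [RingHom.algebraMap_toAlgebra, RingHom.comp_apply]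
    have h1 : algebraMap (PowerSeries R) (LaurentSeries R) (algebraMap R (PowerSeries R) r) =
        algebraMap R (LaurentSeries R) r := (HahnSeries.algebraMap_apply' (Γ := ℤ) (R := R) r).symm
    rw [h1]
    exact (eL.symm.commutes r).symm
  let eK : LaurentSeries R ≃ₐ[PowerSeries R] L :=
    AlgEquiv.ofRingEquiv (f := eL.symm.toRingEquiv) (fun x => rfl)
  haveI : IsLocalization (Submonoid.powers (PowerSeries.X : PowerSeries R)) L :=
    IsLocalization.isLocalization_of_algEquiv _ eK
  exact Groth.Agent.H36.equiv_of_powerSeries_localization_equiv L M N e

end Groth.Agent.S15754
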