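import Groth.Statements.S1576
import Groth.Agent.H8.AssPoints
import Groth.Agent.H44.FiniteSections

set_option autoImplicit false
universe u
open CategoryTheory CategoryTheory.Limits AlgebraicGeometry
open Divisors

namespace Groth.Agent.S1576

/-- Weakly associated primes of a finite module over a Noetherian ring are associated primes,
hence finite in number. -/
lemma weakAss_finite (R : Type u) [CommRing R] [IsNoetherianRing R] (M : Type u) [AddCommGroup M]
    [Module R M] [Module.Finite R M] : (FlatCA.weakAss R M).Finite := by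
  refine (associatedPrimes.finite R M).subset ?_
  rintro p ⟨m, hm⟩
  have h1 : p ∈ associatedPrimes R (Submodule.span R {m}) :=
    Module.associatedPrimes.minimalPrimes_annihilator_subset_associatedPrimes R
      (Submodule.span R {m}) hm
  exact associatedPrimes.subset_of_injective (f := Submodule.subtype _) Subtype.val_injective h1

set_option backward.isDefEq.respectTransparency false in
lemma finite_on_affine (X : Scheme.{u}) [IsLocallyNoetherian X]
    (F : X.Modules) (hF : Coh.IsCoh F) {V : X.Opens} (hV : IsAffineOpen V) :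
    {x : X | x ∈ V ∧ Curv2.IsAssPoint F x}.Finite := by
  have : F.IsQuasicoherent := hF.1
  have : SheafOfModules.IsFiniteType (R := X.ringCatSheaf) F := hF.2
  have hN : IsNoetherianRing Γ(X, V) := IsLocallyNoetherian.component_noetherian ⟨V, hV⟩
  have hfin : Module.Finite Γ(X, V) Γ(F, V) := Groth.Agent.H44.finite_sections_of_isFiniteType F hV
  have hW := weakAss_finite Γ(X, V) Γ(F, V)
  -- the map x ↦ primeIdealOf x
  let g : V → Ideal Γ(X, V) := fun x => (hV.primeIdealOf x).asIdeal
  have hg : Function.Injective g := by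
    intro x y hxy
    have h1 : hV.primeIdealOf x = hV.primeIdealOf y := PrimeSpectrum.ext hxy
    have h2 := congrArg (fun z => hV.fromSpec z) h1
    simp only [IsAffineOpen.fromSpec_primeIdealOf] at h2
    exact Subtype.ext h2
  have h3 : {x : V | Curv2.IsAssPoint F x.1}.Finite := by
    refine Set.Finite.of_finite_image (f := g) (hW.subset ?_) hg.injOn
    rintro _ ⟨x, hx, rfl⟩
    have hx' : Curv2.IsWeakAssPoint F x.1 := (Groth.Agent.H8.isAssPoint_iff_isWeakAssPoint F x.1).mp hx
    exact (Groth.Agent.H8.isWeakAssPoint_iff_mem_weakAss F hV x.2).mp hx'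
  refine (h3.image Subtype.val).subset ?_
  rintro x ⟨hxV, hx⟩
  exact ⟨⟨x, hxV⟩, hx, rfl⟩

/-- Let X be locally Noetherian and F coherent. Then the associated points of F lying in any
quasi-compact open subset form a finite set. -/
theorem result (X : Scheme.{u}) [IsLocallyNoetherian X]
    (F : X.Modules) (hF : Coh.IsCoh F) (U : X.Opens) (hU : IsCompact (U : Set X)) :
    {x : X | x ∈ U ∧ Curv2.IsAssPoint F x}.Finite := by
  obtain ⟨s, hs, rfl⟩ := isCompact_iff_finite_and_eq_biUnion_affineOpens.mp hU
  have h1 : (⋃ i ∈ s, {x : X | x ∈ (i : X.Opens) ∧ Curv2.IsAssPoint F x}).Finite :=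
    hs.biUnion fun i _ => finite_on_affine X F hF i.2
  refine h1.subset ?_
  rintro x ⟨hxU, hx⟩
  simp only [TopologicalSpace.Opens.mem_iSup] at hxU
  obtain ⟨i, hi, hxi⟩ := hxU
  exact Set.mem_biUnion hi ⟨hxi, hx⟩

end Groth.Agent.S1576
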