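import Groth.Statements.S15768
import Groth.Agent.H3.PairHens
import Groth.Agent.H78.Idem.PSIdem
import Groth.Agent.H78.Idem.Newton

set_option autoImplicit false
universe u
open Polynomial
open CAlg

namespace Groth.Agent.S15768

/-- For any ring R and a henselization B of R[t] along (t), every idempotent of B[1/t] comes from a
unique idempotent of R under R → R[t] → B → B[1/t]. -/
theorem result (R : Type u) [CommRing R]
    (B : Type u) [CommRing B] [Algebra R[X] B] (hB : Hens2.IsPairHenselization R[X] (Ideal.span {(X : R[X])}) B)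
    (e : Localization.Away (algebraMap R[X] B X)) (he : IsIdempotentElem e) :
    ∃! r : R, IsIdempotentElem r ∧
      algebraMap B (Localization.Away (algebraMap R[X] B X)) (algebraMap R[X] B (Polynomial.C r)) = e := by
  classical
  revert e he
  set ι := algebraMap R[X] B with hι
  set t : B := ι X with ht
  set j := algebraMap B (Localization.Away t) with hj
  have hmap : (Ideal.span {(X : R[X])}).map ι = Ideal.span {t} := by
    rw [Ideal.map_span, Set.image_singleton]
  have hBhens : HenselianRing B (Ideal.span {t}) := hmap ▸ hB.1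
  have htj : t ∈ (⊥ : Ideal B).jacobson :=
    hBhens.jac (Ideal.subset_span (Set.mem_singleton t))
  have hjt : IsUnit (j t) := IsLocalization.Away.algebraMap_isUnit t
  -- the comparison map to power series
  have hle : (Ideal.span {(X : R[X])}).map (Polynomial.coeToPowerSeries.ringHom (R := R)) ≤
      Ideal.span {(PowerSeries.X : PowerSeries R)} := by
    rw [Ideal.map_span, Set.image_singleton]
    apply le_of_eq
    congr 2
    exact Polynomial.coe_X
  obtain ⟨θ, hθ, -⟩ := hB.2 (PowerSeries R) (Ideal.span {(PowerSeries.X : PowerSeries R)})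
    (Polynomial.coeToPowerSeries.ringHom (R := R)) inferInstance hle
  have hθι : ∀ p : R[X], θ (ι p) = (p : PowerSeries R) := fun p => RingHom.congr_fun hθ p
  have hθt : θ t = PowerSeries.X := by rw [ht, hθι]; exact Polynomial.coe_X
  -- decomposition b = ι p + t^k b'
  have hdec : ∀ (k : ℕ) (b : B), ∃ (p : R[X]) (b' : B), b = ι p + t ^ k * b' := by
    intro k
    induction k with
    | zero => intro b; exact ⟨0, b, by simp⟩
    | succ k ih =>
      intro b
      obtain ⟨p, b', hb⟩ := ih b
      obtain ⟨q, hq⟩ := Groth.Agent.H3.PairHens.exists_sub_mem hB b'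
      rw [hmap, Ideal.mem_span_singleton'] at hq
      obtain ⟨b'', hb''⟩ := hq
      refine ⟨p + X ^ k * q, b'', ?_⟩
      rw [hb, map_add, map_mul, map_pow]
      have : b' = ι q + b'' * t := by rw [hb'']; ring
      rw [this]; ring
  -- the kernel of θ is t-divisible
  have hker : ∀ (k : ℕ) (b : B), θ b = 0 → ∃ b' : B, b = t ^ k * b' := by
    intro k b hb
    obtain ⟨p, b', hpb⟩ := hdec k b
    have h1 : (p : PowerSeries R) = -(PowerSeries.X ^ k * θ b') := by
      have : θ b = (p : PowerSeries R) + PowerSeries.X ^ k * θ b' := by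
        rw [hpb, map_add, map_mul, map_pow, hθι, hθt]
      rw [hb] at this
      linear_combination -this
    have h2 : X ^ k ∣ p := by
      rw [Polynomial.X_pow_dvd_iff]
      intro d hd
      have := congrArg (PowerSeries.coeff d) h1
      rw [Polynomial.coeff_coe, map_neg, PowerSeries.coeff_X_pow_mul', if_neg (by omega),
        neg_zero] at this
      exact this
    obtain ⟨q, rfl⟩ := h2
    exact ⟨ι q + b', by rw [hpb, map_mul, map_pow]; ring⟩
  -- uniqueness
  have huniq : ∀ r r' : R, j (ι (C r)) = j (ι (C r')) → r = r' := by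
    intro r r' h
    obtain ⟨⟨_, k, rfl⟩, hk⟩ := (IsLocalization.eq_iff_exists (Submonoid.powers t) _).mp h
    simp only at hk
    have := congrArg θ hk
    rw [map_mul, map_mul, map_pow, hθt, hθι, hθι, Polynomial.coe_C, Polynomial.coe_C] at this
    exact PowerSeries.C_injective (PowerSeries.X_pow_mul_cancel this)
  intro e he
  -- normalise the numerator
  obtain ⟨⟨a', s⟩, hs⟩ := IsLocalization.surj (Submonoid.powers t) e
  obtain ⟨n₀, hn₀⟩ := s.2
  simp only at hs
  have hs' : e * j t ^ n₀ = j a' := by rw [← hs, ← hn₀, map_pow]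
  have h1 : j (a' ^ 2) = j (t ^ n₀ * a') := by
    have he' : e * e = e := he
    rw [map_pow, map_mul, map_pow, ← hs']
    linear_combination (j t ^ n₀) ^ 2 * he'
  obtain ⟨⟨_, k, rfl⟩, hk⟩ := (IsLocalization.eq_iff_exists (Submonoid.powers t) _).mp h1
  simp only at hk
  set n : ℕ := n₀ + k with hn
  set b := t ^ k * a' with hb
  have H1 : b ^ 2 = t ^ n * b := by
    rw [hb, hn]
    linear_combination t ^ k * hk
  have H2 : e * j t ^ n = j b := by
    rw [hb, hn, pow_add, ← mul_assoc, hs', map_mul, map_pow]; ring
  -- the power series side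
  have H3 : (θ b) ^ 2 = PowerSeries.X ^ n * θ b := by
    rw [← map_pow, H1, map_mul, map_pow, hθt]
  obtain ⟨r, hr, hθb⟩ := Groth.Agent.H78.Idem.PS.exists_idem_of_sq_eq H3
  have H4 : θ (b - t ^ n * ι (C r)) = 0 := by
    have h : θ (t ^ n * ι (C r)) = PowerSeries.X ^ n * PowerSeries.C r := by
      rw [map_mul, map_pow, hθt, hθι, Polynomial.coe_C]
    rw [map_sub, h, hθb, sub_self]
  obtain ⟨g, hg⟩ := hker (n + 1) _ H4
  have hidem : IsIdempotentElem (j (ι (C r))) := by
    show j (ι (C r)) * j (ι (C r)) = j (ι (C r))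
    rw [← map_mul, ← map_mul, ← map_mul]
    exact congrArg _ (congrArg _ (congrArg _ hr))
  have hex : j (ι (C r)) = e := by
    apply Groth.Agent.H78.Idem.idem_eq_of_isUnit hidem he
    have h7 : j (ι (C r)) - e = j (t * (-g)) := by
      have hu' : IsUnit (j t ^ n) := hjt.pow _
      apply hu'.mul_left_injective
      show (j (ι (C r)) - e) * j t ^ n = j (t * (-g)) * j t ^ n
      rw [sub_mul, H2]
      have : b = t ^ n * ι (C r) + t ^ (n + 1) * g := by rw [← hg]; ring
      rw [this]
      simp only [map_add, map_mul, map_pow, map_neg]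
      ring
    rw [h7]
    have := Groth.Agent.H78.Idem.isUnit_one_sub_sq htj (-g)
    have h4 : j (1 - (t * (-g)) ^ 2) = 1 - (j (t * (-g))) ^ 2 := by simp
    rw [← h4]
    exact this.map j
  refine ⟨r, ⟨?_, ?_⟩, ?_⟩
  · exact hr
  · exact hex
  · rintro r' ⟨-, h'2⟩
    exact huniq _ _ (h'2.trans hex.symm)

end Groth.Agent.S15768
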