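import Groth.Statements.S1577
import Groth.Agent.H8.QCohStalk

set_option autoImplicit false
universe u
open CategoryTheory CategoryTheory.Limits AlgebraicGeometry
open Divisors

namespace Groth.Agent.S1577

/-- Let X be locally Noetherian and F quasi-coherent. A point of the support of F which is not a
specialisation of a different point of the support is an associated point of F. -/
theorem result (X : Scheme.{u}) [IsLocallyNoetherian X]
    (F : X.Modules) (hF : Coh.IsQCoh F) (x : X) (hx : x ∈ CohB1.support F)
    (hmax : ∀ y ∈ CohB1.support F, y ⤳ x → y = x) : Curv2.IsAssPoint F x := by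
  have : F.IsQuasicoherent := hF
  have hnt : Nontrivial (F.presheaf.stalk x) := not_subsingleton_iff_nontrivial.mp hx
  obtain ⟨m, hm⟩ := exists_ne (0 : F.presheaf.stalk x)
  refine ⟨inferInstance, m, ?_⟩
  set I : Ideal (X.presheaf.stalk x) := Submodule.colon ⊥ {m} with hI
  have hmem : ∀ a : X.presheaf.stalk x, a ∈ I ↔ a • m = 0 := by
    intro a
    simp [hI, Submodule.mem_colon_singleton]
  have hne : I ≠ ⊤ := by
    intro h
    have : (1 : X.presheaf.stalk x) ∈ I := h ▸ Submodule.mem_top
    rw [hmem, one_smul] at this
    exact hm this
  apply le_antisymm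
  · -- every prime containing `I` is the maximal ideal
    rw [Ideal.radical_eq_sInf]
    refine le_sInf ?_
    rintro q ⟨hIq, hqp⟩
    let q' : Spec (X.presheaf.stalk x) := ⟨q, hqp⟩
    have hsupp := Groth.Agent.H8.not_subsingleton_stalk_of_annihilator_le F x m q'
      (fun a ha => hIq ((hmem a).mpr ha))
    have hy := hmax _ hsupp (Groth.Agent.H8.fromSpecStalk_specializes x q')
    have hinj : Function.Injective (X.fromSpecStalk x) :=
      (X.fromSpecStalk x).isEmbedding.injective
    have h2 : q' = IsLocalRing.closedPoint (X.presheaf.stalk x) := by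
      apply hinj
      rw [hy, Scheme.fromSpecStalk_closedPoint]
    have h3 : q = IsLocalRing.maximalIdeal (X.presheaf.stalk x) := by
      exact congrArg PrimeSpectrum.asIdeal h2
    rw [h3]
  · exact (Ideal.radical_mono (IsLocalRing.le_maximalIdeal hne)).trans
      (Ideal.IsPrime.radical inferInstance).le

end Groth.Agent.S1577
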