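import Groth.Statements.S15770
import Mathlib

set_option autoImplicit false
universe u
open CAlg

namespace Groth.Agent.S15770

/-- Let B be a topological ring with Bˣ ⊂ B open and M, M' finitely generated projective B-modules, and
endow Hom_B(M, M') with the module topology (the canonical topology of a finite module). Then the
set of surjective B-linear maps M → M' is open. -/
theorem result (B : Type u) [CommRing B] [TopologicalSpace B]
    [IsTopologicalRing B] (hB : IsOpen {b : B | IsUnit b})
    (M M' : Type u) [AddCommGroup M] [Module B M] [Module.Finite B M] [Module.Projective B M]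
    [AddCommGroup M'] [Module B M'] [Module.Finite B M'] [Module.Projective B M']
    [TopologicalSpace (M →ₗ[B] M')] [IsModuleTopology B (M →ₗ[B] M')] :
    IsOpen {f : M →ₗ[B] M' | Function.Surjective f} := by
  classical
  rw [isOpen_iff_forall_mem_open]
  intro f₀ hf₀
  have hf₀ : Function.Surjective f₀ := hf₀
  -- section of f₀
  obtain ⟨σ, hσ⟩ := Module.projective_lifting_property f₀ LinearMap.id hf₀
  -- M' as a retract of B^n
  obtain ⟨n, π, ι, hπ, -, hπι⟩ := Module.Finite.exists_comp_eq_id_of_projective B M'
  -- T f = ι f σ π + (id - ι π)
  let T : (M →ₗ[B] M') → ((Fin n → B) →ₗ[B] (Fin n → B)) :=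
    fun f => ι ∘ₗ f ∘ₗ σ ∘ₗ π + (LinearMap.id - ι ∘ₗ π)
  let D : (M →ₗ[B] M') → B := fun f => (LinearMap.toMatrix' (T f)).det
  have hDc : Continuous D := by
    apply Continuous.matrix_det
    apply continuous_matrix
    intro a b
    -- entry is linear part + const
    let L : (M →ₗ[B] M') →ₗ[B] B :=
      (LinearMap.proj a) ∘ₗ ι ∘ₗ (LinearMap.applyₗ (σ (π (Pi.single b 1))))
    have hL : Continuous L := IsModuleTopology.continuous_of_linearMap L
    have : (fun f => LinearMap.toMatrix' (T f) a b) =
        fun f => L f + LinearMap.toMatrix' (LinearMap.id - ι ∘ₗ π) a b := by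
      funext f
      simp only [T, map_add, Matrix.add_apply]
      congr 1
    rw [this]
    exact hL.add continuous_const
  refine ⟨D ⁻¹' {b | IsUnit b}, ?_, hB.preimage hDc, ?_⟩
  · intro f hf
    have hf : IsUnit (LinearMap.toMatrix' (T f)).det := hf
    have hunit : IsUnit (LinearMap.toMatrix' (T f)) := (Matrix.isUnit_iff_isUnit_det _).mpr hf
    have hsurj : Function.Surjective (T f) := by
      have := Matrix.mulVec_surjective_iff_isUnit.mpr hunit
      intro y
      obtain ⟨x, hx⟩ := this y
      refine ⟨x, ?_⟩
      rw [← hx, LinearMap.toMatrix'_mulVec]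
    show Function.Surjective f
    intro y
    obtain ⟨x, hx⟩ := hsurj (ι y)
    refine ⟨σ (π x), ?_⟩
    have h1 : π (ι y) = y := by
      have := congrArg (fun g => g y) hπι
      simpa using this
    have h2 : π (T f x) = f (σ (π x)) := by
      simp only [T, LinearMap.add_apply, LinearMap.comp_apply, LinearMap.sub_apply,
        LinearMap.id_apply, map_add, map_sub]
      have h3 : ∀ z, π (ι z) = z := by
        intro z
        have := congrArg (fun g => g z) hπι
        simpa using this
      rw [h3, h3]
      abel
    rw [← h2, hx, h1]
  · show IsUnit (LinearMap.toMatrix' (T f₀)).det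
    have : T f₀ = LinearMap.id := by
      have h3 : f₀ ∘ₗ σ = LinearMap.id := hσ
      apply LinearMap.ext
      intro v
      simp only [T, LinearMap.add_apply, LinearMap.comp_apply, LinearMap.sub_apply,
        LinearMap.id_apply]
      have : f₀ (σ (π v)) = π v := by
        have := congrArg (fun g => g (π v)) h3
        simpa using this
      rw [this]
      abel
    rw [this, LinearMap.toMatrix'_id, Matrix.det_one]
    exact isUnit_one

end Groth.Agent.S15770
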