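import Groth.Statements.S15771
import Mathlib

set_option autoImplicit false
universe u
open TensorProduct
open CAlg

namespace Groth.Agent.S15771

/-- For a ring map B₀ → B with dense image into a topological ring B, a finitely generated B₀-module M₀
and any topological B-module structure on M = B ⊗_{B₀} M₀, the natural map M₀ → M has dense image. -/
theorem result (B₀ B : Type u) [CommRing B₀] [CommRing B] [Algebra B₀ B]
    [TopologicalSpace B] [IsTopologicalRing B] (hφ : DenseRange (algebraMap B₀ B))
    (M₀ : Type u) [AddCommGroup M₀] [Module B₀ M₀] [Module.Finite B₀ M₀]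
    [TopologicalSpace (B ⊗[B₀] M₀)] [IsTopologicalAddGroup (B ⊗[B₀] M₀)] [ContinuousSMul B (B ⊗[B₀] M₀)] :
    DenseRange (fun m : M₀ => (1 : B) ⊗ₜ[B₀] m) := by
  classical
  obtain ⟨n, s, hs⟩ := Module.Finite.exists_fin (R := B₀) (M := M₀)
  -- the continuous surjection B^n → B ⊗ M₀
  set ψ : (Fin n → B) → B ⊗[B₀] M₀ := fun b => ∑ i, b i • ((1 : B) ⊗ₜ[B₀] s i) with hψ
  have hψc : Continuous ψ := by
    apply continuous_finsetSum
    intro i _
    exact Continuous.smul (continuous_apply i) (continuous_const (y := (1 : B) ⊗ₜ[B₀] s i))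
  have hψs : Function.Surjective ψ := by
    intro x
    induction x using TensorProduct.induction_on with
    | zero => exact ⟨0, by simp [hψ]⟩
    | tmul b m =>
      have hm : m ∈ Submodule.span B₀ (Set.range s) := by rw [hs]; trivial
      obtain ⟨a, rfl⟩ := (Submodule.mem_span_range_iff_exists_fun B₀).mp hm
      refine ⟨fun i => b * algebraMap B₀ B (a i), ?_⟩
      simp only [hψ]
      rw [TensorProduct.tmul_sum]
      apply Finset.sum_congr rfl
      intro i _
      rw [TensorProduct.smul_tmul', smul_eq_mul, mul_one, TensorProduct.tmul_smul,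
        TensorProduct.smul_tmul', Algebra.smul_def, mul_comm]
    | add x y hx hy =>
      obtain ⟨bx, rfl⟩ := hx
      obtain ⟨by', rfl⟩ := hy
      refine ⟨bx + by', ?_⟩
      simp only [hψ, Pi.add_apply, add_smul, Finset.sum_add_distrib]
  -- dense range of B₀^n → B^n
  have hd : DenseRange (fun a : Fin n → B₀ => fun i => algebraMap B₀ B (a i)) := by
    have := DenseRange.piMap (fun _ : Fin n => hφ)
    exact this
  have hcomp : DenseRange (ψ ∘ fun a : Fin n → B₀ => fun i => algebraMap B₀ B (a i)) :=
    DenseRange.comp hψs.denseRange hd hψc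
  refine hcomp.mono ?_
  rintro _ ⟨a, rfl⟩
  refine ⟨∑ i, a i • s i, ?_⟩
  simp only [Function.comp, hψ]
  rw [TensorProduct.tmul_sum]
  apply Finset.sum_congr rfl
  intro i _
  rw [TensorProduct.tmul_smul, TensorProduct.smul_tmul', TensorProduct.smul_tmul', smul_eq_mul,
    mul_one, Algebra.smul_def, mul_one]

end Groth.Agent.S15771
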