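import Groth.Statements.S1578
import Mathlib

set_option autoImplicit false
universe u
open CategoryTheory CategoryTheory.Limits AlgebraicGeometry
open Divisors

namespace Groth.Agent.S1578

set_option backward.isDefEq.respectTransparency false in
/-- Let M be a module over a ring A, F the associated quasi-coherent module on Spec A, and p a prime of
A. If p is an associated prime of M then p is an associated point of F; the converse holds when p is
finitely generated. -/
theorem result (A : CommRingCat.{u}) (M : ModuleCat.{u} A)
    (p : Spec A) :
    (p.asIdeal ∈ associatedPrimes A M → Curv2.IsAssPoint (tilde M) p) ∧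
    (p.asIdeal.FG → Curv2.IsAssPoint (tilde M) p → p.asIdeal ∈ associatedPrimes A M) := by
  let R' := (Spec A).presheaf.stalk p
  let M' := (tilde M).presheaf.stalk p
  let i1 : Algebra A R' := StructureSheaf.stalkAlgebra A p
  let i2 : Module A M' := inferInstanceAs (Module A ((tilde M).presheaf.stalk p))
  let i3 : Module R' M' := inferInstance
  have i5 : IsLocalization.AtPrime R' p.asIdeal := StructureSheaf.IsLocalization.to_stalk A p
  have i6 : IsLocalizedModule p.asIdeal.primeCompl (tilde.toStalk M p).hom := inferInstance
  have i4 : IsScalarTower A R' M' := by
    refine .of_algebraMap_smul fun r m => ?_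
    rfl
  have hcomap : (IsLocalRing.maximalIdeal R').comap (algebraMap A R') = p.asIdeal :=
    IsLocalization.AtPrime.under_maximalIdeal R' p.asIdeal
  constructor
  · intro h
    have := Module.associatedPrimes.mem_associatedPrimes_of_comap_mem_associatedPrimes_of_isLocalizedModule
      p.asIdeal.primeCompl (tilde.toStalk M p).hom (IsLocalRing.maximalIdeal R') (hcomap ▸ h)
    exact this
  · intro hfg h
    have := Module.associatedPrimes.comap_mem_associatedPrimes_of_mem_associatedPrimes_of_isLocalizedModule_of_fg
      p.asIdeal.primeCompl (tilde.toStalk M p).hom (IsLocalRing.maximalIdeal R') h (hcomap ▸ hfg)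
    rw [hcomap] at this
    exact this

end Groth.Agent.S1578
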