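import Groth.Statements.S15784
import Mathlib

set_option autoImplicit false
universe u
open Neron

namespace Groth.Agent.S15784

/-- Let O be a discrete valuation ring with fraction field L and uniformizer ϖ', let ϖ be an element of
the maximal ideal of O, let q = u·ϖ'^n with u a unit of O and n ≥ 1, and let m ≥ 1 be a divisor of
n. Then the following are equivalent: (i) there is a nonzero element z = w·ϖ'^a of L, with w a unit
of O and a an integer congruent to n/m modulo n, and an integer j such that z^m·q^j lies in 1 + ϖO;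
(ii) ϖ'^n/q is an m-th power in the group of units of O/ϖO, that is, u·(y^m + ϖ·r) = 1 for some y, r
∈ O. (The published statement phrases (i) geometrically, as the existence of a point of order m in
the special fibre of the Néron model of the Weil restriction of the Tate curve with parameter q from
L down to a subfield over which L is totally ramified with ϖ a uniformizer of the subfield, whose
image in the component group also has order m; this row states the equivalence between (i) and (ii)
that the printed argument establishes.) -/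
theorem result
    (O : Type u) [CommRing O] [IsDomain O] [IsDiscreteValuationRing O]
    (L : Type u) [Field L] [Algebra O L] [IsFractionRing O L]
    (ϖ' : O) (hϖ' : Irreducible ϖ') (ϖ : O) (hϖ : ϖ ∈ IsLocalRing.maximalIdeal O)
    (n : ℕ) (hn : 1 ≤ n) (u : Oˣ) (q : O) (hq : q = u * ϖ' ^ n)
    (m : ℕ) (hm : 1 ≤ m) (hmn : m ∣ n) :
    (∃ (w : Oˣ) (a j t : ℤ) (r : O), a = (n / m : ℕ) + t * n ∧
        (algebraMap O L w * algebraMap O L ϖ' ^ a) ^ m * algebraMap O L q ^ j = algebraMap O L (1 + ϖ * r)) ↔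
      ∃ y r : O, (u : O) * (y ^ m + ϖ * r) = 1 := by
  classical
  have hinj : Function.Injective (algebraMap O L) := IsFractionRing.injective O L
  have hP0 : algebraMap O L ϖ' ≠ 0 := by
    intro h
    exact hϖ'.ne_zero (hinj (by rw [h, map_zero]))
  have hϖ'nu : ¬ IsUnit ϖ' := hϖ'.not_isUnit
  -- 1 + ϖ r is a unit
  have hU : ∀ r : O, IsUnit (1 + ϖ * r) := by
    intro r
    by_contra hnu
    have h1 : 1 + ϖ * r ∈ IsLocalRing.maximalIdeal O := (IsLocalRing.mem_maximalIdeal _).mpr hnu
    have h2 : ϖ * r ∈ IsLocalRing.maximalIdeal O := Ideal.mul_mem_right _ _ hϖ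
    have h3 : (1 : O) ∈ IsLocalRing.maximalIdeal O := by
      have := Ideal.sub_mem _ h1 h2
      simpa using this
    exact (IsLocalRing.maximalIdeal.isMaximal O).ne_top ((Ideal.eq_top_iff_one _).mpr h3)
  let φ : Oˣ →* Lˣ := Units.map (algebraMap O L : O →* L)
  have hφinj : Function.Injective φ := Units.map_injective hinj
  let P : Lˣ := Units.mk0 _ hP0
  -- a power of P in the range of φ is trivial
  have hPpow : ∀ (k : ℕ) (v : Oˣ), P ^ (k + 1) = φ v → False := by
    intro k v h
    have h1 : algebraMap O L (ϖ' ^ (k + 1)) = algebraMap O L v := by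
      have := congrArg Units.val h
      simpa [P, φ] using this
    have h2 : ϖ' ^ (k + 1) = v := hinj h1
    have h3 : IsUnit (ϖ' ^ (k + 1)) := by rw [h2]; exact v.isUnit
    exact hϖ'nu (isUnit_of_dvd_unit (dvd_pow_self ϖ' (Nat.succ_ne_zero k)) h3)
  have hPz : ∀ (e : ℤ) (v : Oˣ), P ^ e = φ v → e = 0 := by
    intro e v h
    rcases lt_trichotomy e 0 with hlt | heq | hgt
    · exfalso
      obtain ⟨k, hk⟩ : ∃ k : ℕ, e = -((k : ℤ) + 1) := ⟨(-e - 1).toNat, by
        rw [Int.toNat_of_nonneg (by omega)]; ring⟩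
      rw [hk, zpow_neg] at h
      have h' : P ^ (k + 1) = φ v⁻¹ := by
        rw [map_inv, ← h, inv_inv]
        norm_cast
      exact hPpow k _ h'
    · exact heq
    · exfalso
      obtain ⟨k, hk⟩ : ∃ k : ℕ, e = (k : ℤ) + 1 := ⟨(e - 1).toNat, by
        rw [Int.toNat_of_nonneg (by omega)]; ring⟩
      rw [hk] at h
      have h' : P ^ (k + 1) = φ v := by
        rw [← h]; norm_cast
      exact hPpow k _ h'
  have hnm : ((n / m : ℕ) : ℤ) * m = n := by
    exact_mod_cast Nat.div_mul_cancel hmn
  constructor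
  · rintro ⟨w, a, j, t, r, ha, hE⟩
    set U : Oˣ := (hU r).unit with hUdef
    have hUval : (U : O) = 1 + ϖ * r := IsUnit.unit_spec _
    -- the equation in Lˣ
    have hE' : (φ w * P ^ a) ^ m * (φ u * P ^ n) ^ j = φ U := by
      apply Units.ext
      simp only [Units.val_mul, Units.val_pow_eq_pow_val, Units.val_zpow_eq_zpow_val, φ, P,
        Units.coe_map, MonoidHom.coe_coe, Units.val_mk0]
      rw [hUval, ← hE, hq, map_mul, map_pow]
    have hE2 : P ^ (a * m + n * j) = φ (U * (w ^ m)⁻¹ * (u ^ j)⁻¹) := by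
      rw [map_mul, map_mul, map_inv, map_inv, map_pow, map_zpow, ← hE', mul_pow, mul_zpow,
        zpow_add, zpow_mul, zpow_mul]
      simp only [zpow_natCast]
      have : ∀ x y z w' : Lˣ, x * y * (z * w') * x⁻¹ * z⁻¹ = y * w' := by
        intro x y z w'
        calc x * y * (z * w') * x⁻¹ * z⁻¹ = (x * x⁻¹) * (z * z⁻¹) * (y * w') := by
              simp only [mul_comm, mul_left_comm, mul_assoc]
          _ = y * w' := by rw [mul_inv_cancel, mul_inv_cancel, one_mul, one_mul]
      rw [this]
    have he0 := hPz _ _ hE2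
    -- j = -1 - t m
    have hj : j = -1 - t * m := by
      have hn0 : (n : ℤ) ≠ 0 := by exact_mod_cast (by omega : n ≠ 0)
      have : (n : ℤ) * (1 + t * m + j) = 0 := by
        rw [ha] at he0
        linear_combination he0 - hnm
      rcases mul_eq_zero.mp this with h | h
      · exact absurd h hn0
      · linarith
    -- w^m * u^j = U in Oˣ
    have hwu : w ^ m * u ^ j = U := by
      apply hφinj
      rw [map_mul, map_pow, map_zpow, ← hE', mul_pow, mul_zpow]
      have hP1 : (P ^ a) ^ m * (P ^ n) ^ j = 1 := by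
        rw [← zpow_natCast (P ^ a) m, ← zpow_mul, ← zpow_natCast P n, ← zpow_mul, ← zpow_add, he0,
          zpow_zero]
      calc φ w ^ m * φ u ^ j = φ w ^ m * φ u ^ j * ((P ^ a) ^ m * (P ^ n) ^ j) := by
            rw [hP1, mul_one]
        _ = _ := by simp only [mul_comm, mul_left_comm, mul_assoc]
    have hy0 : (w * u ^ (-t)) ^ m = U * u := by
      rw [← hwu, mul_pow, ← zpow_natCast (u ^ (-t)) m, ← zpow_mul, mul_assoc, ← zpow_add_one, hj]
      congr 2
      ring
    have hym : ((w * u ^ (-t))⁻¹ ^ m : Oˣ) = U⁻¹ * u⁻¹ := by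
      rw [inv_pow, hy0, mul_inv]
    refine ⟨((w * u ^ (-t))⁻¹ : Oˣ), ((u⁻¹ : Oˣ) : O) * r * ((U⁻¹ : Oˣ) : O), ?_⟩
    have hym' : (((w * u ^ (-t))⁻¹ : Oˣ) : O) ^ m = ((U⁻¹ : Oˣ) : O) * ((u⁻¹ : Oˣ) : O) := by
      rw [← Units.val_pow_eq_pow_val, hym, Units.val_mul]
    rw [hym']
    have h1 : (u : O) * ((u⁻¹ : Oˣ) : O) = 1 := Units.mul_inv u
    have h2 : ((U⁻¹ : Oˣ) : O) * (1 + ϖ * r) = 1 := by
      rw [← hUval]; exact Units.inv_mul U
    linear_combination (((U⁻¹ : Oˣ) : O) * (1 + ϖ * r)) * h1 + h2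
  · rintro ⟨y, r, h⟩
    have hyu : IsUnit y := by
      by_contra hnu
      have h1 : y ∈ IsLocalRing.maximalIdeal O := (IsLocalRing.mem_maximalIdeal _).mpr hnu
      have h2 : y ^ m ∈ IsLocalRing.maximalIdeal O := Ideal.pow_mem_of_mem _ h1 m (by omega)
      have h3 : ϖ * r ∈ IsLocalRing.maximalIdeal O := Ideal.mul_mem_right _ _ hϖ
      have h4 : (1 : O) ∈ IsLocalRing.maximalIdeal O := by
        rw [← h]
        exact Ideal.mul_mem_left _ _ (Ideal.add_mem _ h2 h3)
      exact (IsLocalRing.maximalIdeal.isMaximal O).ne_top ((Ideal.eq_top_iff_one _).mpr h4)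
    set Y : Oˣ := hyu.unit with hY
    have hYval : (Y : O) = y := IsUnit.unit_spec _
    set z : O := ((Y⁻¹ ^ m : Oˣ) : O) with hz
    have hzy : y ^ m * z = 1 := by
      rw [hz, ← hYval, ← Units.val_pow_eq_pow_val, ← Units.val_mul, inv_pow, mul_inv_cancel]
      rfl
    have key : z = (1 + ϖ * (r * z)) * u := by
      linear_combination (-z) * h + (u : O) * hzy
    refine ⟨Y⁻¹, ((n / m : ℕ) : ℤ), -1, 0, r * z, by simp, ?_⟩
    have hu0 : algebraMap O L u ≠ 0 := by
      intro h0
      exact u.ne_zero (hinj (by rw [h0, map_zero]))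
    have hPn : algebraMap O L ϖ' ^ n ≠ 0 := pow_ne_zero _ hP0
    have hz' : algebraMap O L ((Y⁻¹ : Oˣ) : O) ^ m = algebraMap O L z := by
      rw [hz, Units.val_pow_eq_pow_val, map_pow]
    have hz'' : algebraMap O L z = algebraMap O L (1 + ϖ * (r * z)) * algebraMap O L u := by
      conv_lhs => rw [key]
      rw [map_mul]
    rw [zpow_natCast, mul_pow, ← pow_mul, Nat.div_mul_cancel hmn, zpow_neg_one, hq, map_mul, map_pow,
      hz', hz'']
    field_simp

end Groth.Agent.S15784
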