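import Groth.Statements.S15788
import Groth.Agent.H78.ASFam.Main
import Groth.Agent.H61.PSDim
import Groth.Agent.H61.PSComplete

set_option autoImplicit false
universe u
open WildQuot

namespace Groth.Agent.S15788

open MvPolynomial in
/-- Let `k` be a field of characteristic `p > 0`, `n ≥ 2`, `R = k[[x_1, …, x_n]]`, `a_1, …, a_n ∈ R`
with zero constant term, and `A = R[u_1, …, u_n] / (u_i ^ p - a_i ^ (p-1) u_i - x_i : i = 1..n)`.
Then `A` is a free `R`-module of rank `p ^ n`, `A` is complete and separated for the adic topology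
of the ideal generated by the classes of the `u_i` (which is its maximal ideal), and `A` is an
integral domain. (The published statement also assumes each `a_i` nonzero; that is not needed for
this part.) -/
theorem result
    (p : ℕ) [Fact p.Prime] (k : Type u) [Field k] [CharP k p] (n : ℕ) (hn : 2 ≤ n)
    (a : Fin n → MvPowerSeries (Fin n) k)
    (ham : ∀ i, MvPowerSeries.constantCoeff (a i) = 0) :
    let I : Ideal (MvPolynomial (Fin n) (MvPowerSeries (Fin n) k)) :=
      Ideal.span (Set.range fun i : Fin n =>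
        X i ^ p - C (a i ^ (p - 1)) * X i - C (MvPowerSeries.X i))
    Module.Free (MvPowerSeries (Fin n) k) (MvPolynomial (Fin n) (MvPowerSeries (Fin n) k) ⧸ I) ∧
      Module.finrank (MvPowerSeries (Fin n) k) (MvPolynomial (Fin n) (MvPowerSeries (Fin n) k) ⧸ I) = p ^ n ∧
      IsAdicComplete (Ideal.map (Ideal.Quotient.mk I)
          (Ideal.span (Set.range (X : Fin n → MvPolynomial (Fin n) (MvPowerSeries (Fin n) k)))))
        (MvPolynomial (Fin n) (MvPowerSeries (Fin n) k) ⧸ I) ∧
      IsDomain (MvPolynomial (Fin n) (MvPowerSeries (Fin n) k) ⧸ I) := by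
  intro I
  have hI : I = Groth.Agent.H78.ASFam.sepIdeal (Groth.Agent.H78.ASFam.asPoly p n
      (fun i => a i ^ (p - 1)) (MvPowerSeries.X : Fin n → MvPowerSeries (Fin n) k)) :=
    Groth.Agent.H78.ASFam.ideal_eq p n _ _
  clear_value I
  subst hI
  have hp2 : 2 ≤ p := (Fact.out : p.Prime).two_le
  have hc : ∀ i, a i ^ (p - 1) ∈ IsLocalRing.maximalIdeal (MvPowerSeries (Fin n) k) := by
    intro i
    apply Ideal.pow_mem_of_mem _ _ _ (by omega)
    rw [IsLocalRing.mem_maximalIdeal, mem_nonunits_iff, MvPowerSeries.isUnit_iff_constantCoeff, ham i]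
    exact not_isUnit_zero
  have hxm := Groth.Agent.H61.maximalIdeal_ps_eq_span_X k n
  have hdim := Groth.Agent.H61.ringKrullDim_ps k n
  haveI : IsAdicComplete (IsLocalRing.maximalIdeal k) k := by
    rw [IsLocalRing.maximalIdeal_eq_bot]; infer_instance
  haveI : IsAdicComplete (IsLocalRing.maximalIdeal (MvPowerSeries (Fin n) k))
      (MvPowerSeries (Fin n) k) := Groth.Agent.H61.ps_isAdicComplete n
  refine ⟨Groth.Agent.H78.ASFam.free_AS p n _ _ hp2, Groth.Agent.H78.ASFam.finrank_AS p n _ _ hp2, ?_,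
    Groth.Agent.H78.ASFam.isDomain_AS p n _ _ hp2 hc hxm hdim⟩
  have hmap : Ideal.map (Ideal.Quotient.mk (Groth.Agent.H78.ASFam.sepIdeal (Groth.Agent.H78.ASFam.asPoly p n
      (fun i => a i ^ (p - 1)) (MvPowerSeries.X : Fin n → MvPowerSeries (Fin n) k))))
      (Ideal.span (Set.range (X : Fin n → MvPolynomial (Fin n) (MvPowerSeries (Fin n) k)))) =
      Ideal.span (Set.range (Groth.Agent.H78.ASFam.uu p n (fun i => a i ^ (p - 1))
        (MvPowerSeries.X : Fin n → MvPowerSeries (Fin n) k))) := by
    rw [Ideal.map_span, ← Set.range_comp]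
    rfl
  rw [hmap]
  exact Groth.Agent.H78.ASFam.isAdicComplete_AS p n _ _ hp2 hc hxm

end Groth.Agent.S15788
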