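import Groth.Statements.S15791
import Groth.Agent.H78.LenNorm

set_option autoImplicit false
universe u v
open WildQuot

namespace Groth.Agent.S15791

/-- Let `A` be a regular local ring of Krull dimension `n` with maximal ideal `m`, let a finite group
`G` of order `g` act on `A` by ring automorphisms, and let `u_1, …, u_n` be an admissible regular
system of parameters: for every choice `σ_1, …, σ_n ∈ G`, the elements `σ_1 u_1, …, σ_n u_n`
generate `m`. With `x_i = ∏_{σ ∈ G} σ u_i` the norms, the length of `A / (x_1, …, x_n)` is at most
`g ^ n`. (The published statement is for a complete regular local ring containing a `G`-fixed field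
of representatives and asserts that the length equals `g ^ n`; this row states the upper bound for
any regular local ring.) -/
theorem result
    (A : Type u) [CommRing A] [IsRegularLocalRing A]
    (G : Type v) [Group G] [Fintype G] [MulSemiringAction G A]
    (n : ℕ) (hn : ringKrullDim A = n) (u : Fin n → A)
    (hu : ∀ τ : Fin n → G,
      Ideal.span (Set.range fun i => τ i • u i) = IsLocalRing.maximalIdeal A) :
    Module.length A (A ⧸ Ideal.span (Set.range fun i => ∏ σ : G, σ • u i)) ≤
      (Fintype.card G ^ n : ℕ) := by
  classical
  have hmax : Module.length A (A ⧸ IsLocalRing.maximalIdeal A) = 1 := by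
    rw [Module.length_eq_one_iff, isSimpleModule_iff_isCoatom, ← Ideal.isMaximal_def]
    infer_instance
  have key := Groth.Agent.H78.length_quot_norms_le (A := A) (ι := Fin n) (G := G)
    (fun i σ => σ • u i) 1 Finset.univ ⊥ (by
      intro τ
      have e : (⊥ : Ideal A) ⊔ Ideal.span ((fun i => (fun i σ => σ • u i) i (τ i)) ''
          ((Finset.univ : Finset (Fin n)) : Set (Fin n))) = IsLocalRing.maximalIdeal A := by
        rw [bot_sup_eq, Finset.coe_univ, Set.image_univ]
        exact hu τ
      rw [Groth.Agent.H78.length_quot_congr e, hmax])
  have e : (⊥ : Ideal A) ⊔ Ideal.span ((fun i => ∏ σ : G, (fun i σ => σ • u i) i σ) ''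
      ((Finset.univ : Finset (Fin n)) : Set (Fin n))) =
      Ideal.span (Set.range fun i => ∏ σ : G, σ • u i) := by
    rw [bot_sup_eq, Finset.coe_univ, Set.image_univ]
  rw [Groth.Agent.H78.length_quot_congr e] at key
  refine key.trans ?_
  simp

end Groth.Agent.S15791
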