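import Groth.Statements.S15793
import Groth.Agent.H80.FixedGen
import Groth.Agent.Lead.RegularLocal3

set_option autoImplicit false
universe u v w
open WildQuot

namespace Groth.Agent.S15793

/-- Let `A` be a complete regular local ring of Krull dimension at least `2` and prime characteristic
`p`, with maximal ideal `m`; let `k` be a field with a ring map `k → A` whose composite with `A →
A/m` is onto (a field of representatives); let `G` be a group of order `p` acting on `A` by ring
automorphisms that fix the image of `k`, ramified precisely at the origin: for every prime `P ≠ m`,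
the inertia subgroup of `P` (the elements of `G` fixing every element of `A` modulo `P`) is trivial.
Then no element of `m` outside `m ^ 2` is fixed by every element of `G`; in particular the action is
not linear in any regular system of parameters. -/
theorem result
    (p : ℕ) [Fact p.Prime] (A : Type u) [CommRing A] [IsRegularLocalRing A] [CharP A p]
    [IsAdicComplete (IsLocalRing.maximalIdeal A) A] (hdim : 2 ≤ ringKrullDim A)
    (k : Type v) [Field k] [Algebra k A]
    (hk : Function.Surjective (IsLocalRing.residue A ∘ algebraMap k A))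
    (G : Type w) [Group G] [Finite G] [MulSemiringAction G A] (hcard : Nat.card G = p)
    (hGk : ∀ (σ : G) (c : k), σ • algebraMap k A c = algebraMap k A c)
    (hram : ∀ P : Ideal A, P.IsPrime → P ≠ IsLocalRing.maximalIdeal A → P.inertia G = ⊥)
    (v : A) (hv : v ∈ IsLocalRing.maximalIdeal A) (hv2 : v ∉ IsLocalRing.maximalIdeal A ^ 2) :
    ∃ σ : G, σ • v ≠ v := by
  classical
  by_contra hcon
  push Not at hcon
  have hp := (Fact.out : p.Prime)
  -- a nontrivial element
  obtain ⟨σ, hσ⟩ : ∃ σ : G, σ ≠ 1 := by
    by_contra h
    push Not at h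
    haveI : Subsingleton G := ⟨fun a b => (h a).trans (h b).symm⟩
    have : Nat.card G ≤ 1 := Finite.card_le_one_iff_subsingleton.mpr inferInstance
    rw [hcard] at this
    exact absurd hp.two_le (by omega)
  obtain ⟨t, htcard, htspan⟩ := Groth.Agent.Lead.RLR.exists_finset_span_insert A v hv hv2
  set J : Ideal A := Ideal.span ((t.image (fun s => σ • s - s) : Finset A) : Set A) with hJ
  have key : ∀ a : A, σ • a - a ∈ J := by
    intro a
    refine Groth.Agent.H80.FixedGen.map_sub_mem hk (MulSemiringAction.toRingHom G A σ)
      (fun c => hGk σ c) (insert v (t : Set A)) htspan J ?_ a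
    intro g hg
    rcases hg with rfl | hg
    · change σ • g - g ∈ J
      rw [hcon σ, sub_self]
      exact zero_mem _
    · change σ • g - g ∈ J
      apply Ideal.subset_span
      rw [Finset.mem_coe, Finset.mem_image]
      exact ⟨g, hg, rfl⟩
  -- `σ` preserves the maximal ideal
  have hσm : ∀ a ∈ IsLocalRing.maximalIdeal A, σ • a ∈ IsLocalRing.maximalIdeal A := by
    intro a ha
    rw [IsLocalRing.mem_maximalIdeal, mem_nonunits_iff] at ha ⊢
    intro hu
    apply ha
    have := hu.map (MulSemiringAction.toRingHom G A σ⁻¹)
    simpa using this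
  have hJm : J ≤ IsLocalRing.maximalIdeal A := by
    rw [hJ, Ideal.span_le]
    intro x hx
    rw [Finset.mem_coe, Finset.mem_image] at hx
    obtain ⟨s, hs, rfl⟩ := hx
    have hsm : s ∈ IsLocalRing.maximalIdeal A := by
      rw [← htspan]
      exact Ideal.subset_span (Set.mem_insert_of_mem _ hs)
    exact sub_mem (hσm s hsm) hsm
  obtain ⟨Q, hQ, hQm⟩ := Ideal.exists_minimalPrimes_le hJm
  haveI : Q.IsPrime := hQ.1.1
  have hσQ : σ ∈ Q.inertia G := fun a => hQ.1.2 (key a)
  by_cases hQeq : Q = IsLocalRing.maximalIdeal A
  · -- height contradiction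
    rw [hQeq] at hQ
    have h1 := Ideal.height_le_card_of_mem_minimalPrimes_span_finset hQ
    have h2 : ((t.image (fun s => σ • s - s)).card : ℕ∞) ≤ t.card := by
      exact_mod_cast Finset.card_image_le
    have h3 : ((IsLocalRing.maximalIdeal A).height : WithBot ℕ∞) = ringKrullDim A :=
      IsLocalRing.maximalIdeal_height_eq_ringKrullDim
    have h4 : ((IsLocalRing.maximalIdeal A).spanFinrank : WithBot ℕ∞) = ringKrullDim A :=
      IsRegularLocalRing.spanFinrank_maximalIdeal
    rw [← h3, ← htcard] at h4
    have h5 : ((t.card + 1 : ℕ) : ℕ∞) = (IsLocalRing.maximalIdeal A).height := by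
      exact_mod_cast h4
    have h6 := (h1.trans h2)
    rw [← h5] at h6
    have : t.card + 1 ≤ t.card := by exact_mod_cast h6
    omega
  · have := hram Q inferInstance hQeq
    rw [this, Subgroup.mem_bot] at hσQ
    exact hσ hσQ

end Groth.Agent.S15793
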