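import Groth.Statements.S15796
import Mathlib
-- import your own Groth.Agent.* helpers here

set_option autoImplicit false
universe u v
open WildQuot

namespace Groth.Agent.S15796

/-- Let `A` be a Noetherian local ring of Krull dimension `n` whose maximal ideal `m` is generated by
`u_1, …, u_n`, and let a finite group `G` act on `A` by ring automorphisms. If some `σ ∈ G` maps
some `u_i` into the ideal generated by the `u_j` with `j ≠ i`, then the system `u` is not weakly
admissible: for some choice `σ_1, …, σ_n ∈ G` the radical of `(σ_1 u_1, …, σ_n u_n)` does not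
contain `m`. (The published statement is for a linear action on `k[[u_1, …, u_n]]` whose matrix has
a zero diagonal entry; this row assumes instead that some `σ u_i` lies in the ideal generated by the
other `u_j`.) -/
theorem result
    (A : Type u) [CommRing A] [IsLocalRing A] [IsNoetherianRing A]
    (G : Type v) [Group G] [Finite G] [MulSemiringAction G A]
    (n : ℕ) (hn : ringKrullDim A = n) (u : Fin n → A)
    (hu : Ideal.span (Set.range u) = IsLocalRing.maximalIdeal A)
    (σ : G) (i : Fin n) (hσ : σ • u i ∈ Ideal.span (u '' {j | j ≠ i})) :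
    ∃ τ : Fin n → G,
      ¬ IsLocalRing.maximalIdeal A ≤ (Ideal.span (Set.range fun j => τ j • u j)).radical := by
  classical
  refine ⟨fun j => if j = i then σ else 1, ?_⟩
  intro hle
  set m := IsLocalRing.maximalIdeal A with hm
  set I₀ := Ideal.span (u '' {j | j ≠ i}) with hI₀
  have hJ : Ideal.span (Set.range fun j => (if j = i then σ else 1 : G) • u j) ≤ I₀ := by
    rw [Ideal.span_le]
    rintro _ ⟨j, rfl⟩
    by_cases hj : j = i
    · subst hj
      simpa using hσ
    · simp only [hj, if_false, one_smul]
      exact Ideal.subset_span ⟨j, hj, rfl⟩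
  have hI₀m : I₀ ≤ m := by
    rw [hI₀, Ideal.span_le, ← hu]
    rintro _ ⟨j, -, rfl⟩
    exact Ideal.subset_span ⟨j, rfl⟩
  have hmrad : m ≤ I₀.radical := hle.trans (Ideal.radical_mono hJ)
  have hmin : m ∈ I₀.minimalPrimes := by
    refine ⟨⟨IsLocalRing.maximalIdeal.isMaximal A |>.isPrime, hI₀m⟩, ?_⟩
    rintro q ⟨hq, hIq⟩ -
    exact hmrad.trans (hq.radical_le_iff.2 hIq)
  have hfin : (u '' {j | j ≠ i}).Finite := Set.toFinite _
  have hht := Ideal.height_le_card_of_mem_minimalPrimes_span hfin hmin
  have hcard : (u '' {j | j ≠ i}).ncard ≤ n - 1 := by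
    refine (Set.ncard_image_le (Set.toFinite _)).trans ?_
    have : {j : Fin n | j ≠ i} = ({i} : Set (Fin n))ᶜ := by ext; simp
    rw [this, Set.ncard_compl]
    simp
  have hdim : (m.height : WithBot ℕ∞) = n := by
    rw [hm, IsLocalRing.maximalIdeal_height_eq_ringKrullDim, hn]
  have h1 : m.height ≤ ((n - 1 : ℕ) : ℕ∞) := hht.trans (by exact_mod_cast hcard)
  have h2 : (m.height : WithBot ℕ∞) ≤ ((n - 1 : ℕ) : ℕ∞) := by exact_mod_cast h1
  rw [hdim] at h2
  have h3 : (n : ℕ∞) ≤ ((n - 1 : ℕ) : ℕ∞) := by exact_mod_cast h2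
  have h4 : n ≤ n - 1 := by exact_mod_cast h3
  have := i.pos
  omega

end Groth.Agent.S15796
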