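import Groth.Statements.S15804
import Groth.Agent.H36.WildQuotE

set_option autoImplicit false
universe u v w
open WildQuot

namespace Groth.Agent.S15804

/-- Let `R` be a regular local ring and `A` a normal local domain, finite over `R` (with `R → A`
injective) and with the same residue field; let a finite group `H` act faithfully on `A` by
`R`-algebra automorphisms with ring of invariants exactly `R` (so `Frac(A)/Frac(R)` is Galois with
group `H`); assume `A` has Krull dimension `2`, `H` has order `p ^ 2` for a prime `p`, and `Γ ≤ H`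
is a subgroup of order `p` whose intersection with the inertia subgroup of every non-maximal prime
of `A` is trivial (the action of `Γ` is ramified precisely at the origin). Then every nontrivial
inertia subgroup of a height-one prime of `A` has order `p`, and `H` is commutative with every
element satisfying `h ^ p = 1`, i.e. elementary abelian of order `p ^ 2`. (The published statement
is for `A` a complete regular local ring with an action ramified precisely at the origin, `R =
k[[x_1, …, x_n]]` a norm subring and `H` the Galois group of `Frac(A)/Frac(R)`, when that extension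
is Galois; this row assumes only the hypotheses listed above.) -/
theorem result
    (p : ℕ) [Fact p.Prime] (R : Type u) [CommRing R] [IsRegularLocalRing R]
    (A : Type v) [CommRing A] [IsDomain A] [IsIntegrallyClosed A] [IsLocalRing A]
    [Algebra R A] [Module.Finite R A] (hinj : Function.Injective (algebraMap R A))
    (hres : Function.Surjective (IsLocalRing.residue A ∘ algebraMap R A))
    (H : Type w) [Group H] [Finite H] [MulSemiringAction H A] [SMulCommClass H R A] [FaithfulSMul H A]
    (hfix : ∀ a : A, (∀ h : H, h • a = a) → a ∈ Set.range (algebraMap R A))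
    (hdim : ringKrullDim A = 2) (hcard : Nat.card H = p ^ 2)
    (Γ : Subgroup H) (hΓ : Nat.card Γ = p)
    (hram : ∀ P : Ideal A, P.IsPrime → P ≠ IsLocalRing.maximalIdeal A → P.inertia H ⊓ Γ = ⊥) :
    (∀ P : Ideal A, P.IsPrime → P.height = 1 → P.inertia H ≠ ⊥ → Nat.card (P.inertia H) = p) ∧
      (∀ g h : H, g * h = h * g) ∧ ∀ h : H, h ^ p = 1 := by
  classical
  have hp : p.Prime := Fact.out
  cases nonempty_fintype H
  have hmht : (IsLocalRing.maximalIdeal A).height = (2 : ℕ∞) := by
    have h2 : ((IsLocalRing.maximalIdeal A).height : WithBot ℕ∞) = ((2 : ℕ∞) : WithBot ℕ∞) := by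
      rw [IsLocalRing.maximalIdeal_height_eq_ringKrullDim, hdim]
      rfl
    exact WithBot.coe_injective h2
  have hne_max : ∀ P : Ideal A, P.height = 1 → P ≠ IsLocalRing.maximalIdeal A := by
    rintro P hP1 rfl
    rw [hmht] at hP1
    norm_num at hP1
  have hdisj : ∀ P : Ideal A, P.IsPrime → P.height = 1 → Disjoint (P.inertia H) Γ :=
    fun P hP hP1 => disjoint_iff.mpr (hram P hP (hne_max P hP1))
  have h1 : ∀ P : Ideal A, P.IsPrime → P.height = 1 → P.inertia H ≠ ⊥ →
      Nat.card (P.inertia H) = p := by
    intro P hP hP1 hne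
    have hinj' := Subgroup.mul_injective_of_disjoint (hdisj P hP hP1)
    have hle := Nat.card_le_card_of_injective _ hinj'
    rw [Nat.card_prod, hΓ, hcard, pow_two] at hle
    have hle' : Nat.card (P.inertia H) ≤ p := Nat.le_of_mul_le_mul_right hle hp.pos
    have hdvd : Nat.card (P.inertia H) ∣ p ^ 2 := hcard ▸ Subgroup.card_subgroup_dvd_card _
    obtain ⟨m, hm, hm'⟩ := (Nat.dvd_prime_pow hp).mp hdvd
    have hm0 : m ≠ 0 := by
      rintro rfl
      rw [pow_zero] at hm'
      exact hne (Subgroup.card_eq_one.mp hm')
    have hm1 : m ≤ 1 := by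
      by_contra hcon
      have h2 : m = 2 := by omega
      rw [hm', h2, pow_two] at hle'
      have := hp.one_lt
      nlinarith
    have : m = 1 := by omega
    rw [hm', this, pow_one]
  refine ⟨h1, (IsPGroup.isMulCommutative_of_card_eq_prime_sq hcard).is_comm.comm, ?_⟩
  by_contra hcon
  push Not at hcon
  obtain ⟨h, hh⟩ := hcon
  have hord : orderOf h = p ^ 2 := by
    have hdvd : orderOf h ∣ p ^ 2 := hcard ▸ orderOf_dvd_natCard h
    obtain ⟨m, hm, hm'⟩ := (Nat.dvd_prime_pow hp).mp hdvd
    have hm2 : m = 2 := by
      by_contra hcon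
      have hm1 : m ≤ 1 := by omega
      apply hh
      have : orderOf h ∣ p := by
        rw [hm']
        calc p ^ m ∣ p ^ 1 := pow_dvd_pow p hm1
          _ = p := pow_one p
      exact orderOf_dvd_iff_pow_eq_one.mp this
    rw [hm', hm2]
  have : IsCyclic H := isCyclic_of_orderOf_eq_card h (by rw [hord, hcard])
  have hcount := IsCyclic.card_pow_eq_one_le (α := H) hp.pos
  have hΓpow : ∀ γ ∈ Γ, γ ^ p = 1 := by
    intro γ hγ
    have := pow_card_eq_one' (G := Γ) (x := ⟨γ, hγ⟩)
    rw [hΓ] at this
    exact congrArg Subtype.val this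
  have hΓall : ∀ a : H, a ^ p = 1 → a ∈ Γ := by
    intro a ha
    have hsub : Finset.univ.image (fun γ : Γ => (γ : H)) ⊆
        Finset.univ.filter (fun a : H => a ^ p = 1) := by
      intro x hx
      obtain ⟨γ, -, rfl⟩ := Finset.mem_image.mp hx
      exact Finset.mem_filter.mpr ⟨Finset.mem_univ _, hΓpow γ γ.2⟩
    have hcardimg : (Finset.univ.image (fun γ : Γ => (γ : H))).card = p := by
      rw [Finset.card_image_of_injective _ Subtype.val_injective, Finset.card_univ,
        ← Nat.card_eq_fintype_card, hΓ]
    have heq := Finset.eq_of_subset_of_card_le hsub (by rw [hcardimg]; exact hcount)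
    have hmem : a ∈ Finset.univ.filter (fun a : H => a ^ p = 1) :=
      Finset.mem_filter.mpr ⟨Finset.mem_univ _, ha⟩
    rw [← heq] at hmem
    obtain ⟨γ, -, rfl⟩ := Finset.mem_image.mp hmem
    exact γ.2
  have htriv : ∀ P : Ideal A, P.IsPrime → P.height = 1 → P.inertia H = ⊥ := by
    intro P hP hP1
    have hd := hram P hP (hne_max P hP1)
    rw [eq_bot_iff]
    intro g hg
    have key : ∀ a ∈ P.inertia H, a ^ p = 1 → a = 1 := by
      intro a ha hap
      have : a ∈ P.inertia H ⊓ Γ := ⟨ha, hΓall a hap⟩
      rw [hd] at this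
      exact Subgroup.mem_bot.mp this
    have hgp : g ^ p = 1 := by
      apply key _ (Subgroup.pow_mem _ hg p)
      rw [← pow_mul, ← pow_two, ← hcard]
      exact pow_card_eq_one'
    exact Subgroup.mem_bot.mpr (key g hg hgp)
  have := Groth.Agent.H36.WildQuot.eq_one_of_inertia_heightOne_eq_bot R A H hinj hres hfix hdim
    htriv h
  rw [this, one_pow] at hh
  exact hh rfl

end Groth.Agent.S15804
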