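import Groth.Statements.S15809
import Groth.Agent.H22.FibreIso

set_option autoImplicit false
universe u
open CategoryTheory MonoidalCategory CartesianMonoidalCategory AlgebraicGeometry Limits
open WildQuot

namespace Groth.Agent.S15809

/-- Let `S` be a Noetherian scheme, `G` a finite flat `S`-group scheme and `Y` a finite flat `S`-scheme
with an action of `G`; let `Ψ : G ×_S Y → Y ×_S Y` be `(g, y) ↦ (g y, y)`. Suppose that for every
point `s ∈ S` of codimension at most `1` (local ring of dimension `≤ 1`) the fibre `Y_s` is a torsor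
under `G_s`: it is nonempty and the base change of `Ψ` to `Spec κ(s)` is an isomorphism. Then `Y` is
a `G`-torsor: `Ψ` is an isomorphism and `Y → S` is surjective (so the finite flat cover `Y → S`
itself trivialises `Y`). -/
theorem result
    (S : Scheme.{u}) [AlgebraicGeometry.IsNoetherian S]
    (G Y : Over S) [GrpObj G]
    [AlgebraicGeometry.IsFinite G.hom] [AlgebraicGeometry.Flat G.hom]
    [AlgebraicGeometry.IsFinite Y.hom] [AlgebraicGeometry.Flat Y.hom]
    (a : AlgGrp.Action G Y)
    (hfib : ∀ s : S, ringKrullDim (S.presheaf.stalk s) ≤ 1 →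
      s ∈ Set.range Y.hom.base ∧
      IsIso (pullback.map (G ⊗ Y).hom (S.fromSpecResidueField s) (Y ⊗ Y).hom (S.fromSpecResidueField s)
        (CartesianMonoidalCategory.lift a.act (CartesianMonoidalCategory.snd G Y)).left
        (𝟙 _) (𝟙 S)
        ((Category.comp_id _).trans
          (Over.w (CartesianMonoidalCategory.lift a.act (CartesianMonoidalCategory.snd G Y))).symm)
        ((Category.comp_id _).trans (Category.id_comp _).symm))) :
    IsIso (CartesianMonoidalCategory.lift a.act (CartesianMonoidalCategory.snd G Y)).left ∧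
      Function.Surjective Y.hom.base := by
  have hGY : IsFinite (G ⊗ Y).hom ∧ Flat (G ⊗ Y).hom := by
    have : (G ⊗ Y).hom = pullback.fst G.hom Y.hom ≫ G.hom := rfl
    rw [this]
    exact ⟨inferInstance, inferInstance⟩
  have hYY : IsFinite (Y ⊗ Y).hom ∧ Flat (Y ⊗ Y).hom := by
    have : (Y ⊗ Y).hom = pullback.fst Y.hom Y.hom ≫ Y.hom := rfl
    rw [this]
    exact ⟨inferInstance, inferInstance⟩
  haveI := hGY.1
  haveI := hGY.2
  haveI := hYY.1
  haveI := hYY.2
  refine ⟨?_, ?_⟩
  · apply Groth.Agent.H22.FibreIso.isIso_of_fibres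
      (CartesianMonoidalCategory.lift a.act (CartesianMonoidalCategory.snd G Y)).left
      (Y ⊗ Y).hom (G ⊗ Y).hom
      (Over.w (CartesianMonoidalCategory.lift a.act (CartesianMonoidalCategory.snd G Y)))
    intro s hs
    exact (hfib s hs).2
  · intro x
    have hcl : IsClosed (Set.range Y.hom.base) := Y.hom.isClosedMap.isClosed_range
    exact Groth.Agent.H22.FibreIso.eq_univ_of_isClosed_of_codim_zero _ hcl
      (fun s hs => (hfib s hs).1) x


end Groth.Agent.S15809
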