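import Groth.Statements.S1581
import Groth.Agent.H8.Descent

set_option autoImplicit false
universe u
open CategoryTheory CategoryTheory.Limits AlgebraicGeometry
open Variety

namespace Groth.Agent.S1581

set_option backward.isDefEq.respectTransparency.types false in
/-- Let X be a scheme over a field k and K a field extension of k. If X_K is proper over K then X is
proper over k. -/
theorem result (k : Type u) [Field k] (X : Scheme.{u}) [X.Over (Spec (CommRingCat.of k))] (K : Type u) [Field K] [Algebra k K]
    [IsProper (Curv2.bcSnd k X K)] : IsProper (X ↘ (Spec (CommRingCat.of k))) := by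
  have hsurj : Surjective (Spec.map (CommRingCat.ofHom (algebraMap k K))) :=
    ⟨fun x => ⟨Classical.arbitrary _, Subsingleton.elim _ _⟩⟩
  have hflat : Flat (Spec.map (CommRingCat.ofHom (algebraMap k K))) := by
    rw [HasRingHomProperty.Spec_iff (P := @Flat)]
    exact RingHom.Flat.of_isField (Field.toIsField k) _ 
  have hqc : QuasiCompact (Spec.map (CommRingCat.ofHom (algebraMap k K))) := inferInstance
  have hQ : (@Surjective ⊓ @Flat ⊓ @QuasiCompact : MorphismProperty Scheme.{u})
      (Spec.map (CommRingCat.ofHom (algebraMap k K))) := ⟨⟨hsurj, hflat⟩, hqc⟩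
  have h1 : IsSeparated (X ↘ (Spec (CommRingCat.of k))) :=
    MorphismProperty.of_pullback_snd_of_descendsAlong (P := @IsSeparated) hQ
      (inferInstanceAs (IsSeparated (Curv2.bcSnd k X K)))
  have h2 : UniversallyClosed (X ↘ (Spec (CommRingCat.of k))) :=
    MorphismProperty.of_pullback_snd_of_descendsAlong (P := @UniversallyClosed) hQ
      (inferInstanceAs (UniversallyClosed (Curv2.bcSnd k X K)))
  have h3 : LocallyOfFiniteType (X ↘ (Spec (CommRingCat.of k))) :=
    MorphismProperty.of_pullback_snd_of_descendsAlong (P := @LocallyOfFiniteType) hQ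
      (inferInstanceAs (LocallyOfFiniteType (Curv2.bcSnd k X K)))
  exact { }

end Groth.Agent.S1581
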