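import Groth.Statements.S15811
import Mathlib
-- import your own Groth.Agent.* helpers here

set_option autoImplicit false
universe u
open WildQuot

namespace Groth.Agent.S15811

/-- Let `R` be an integrally closed domain of prime characteristic `p` with fraction field `K`, and `α ∈
R`. Then `α ≠ 0` and the polynomial `T ^ p - α T` splits into linear factors over `K` — which says
that the finite flat group scheme `Spec R[T]/(T ^ p - α T)` of order `p` has constant generic fibre
(its `p` roots are then distinct) — if and only if `α = a ^ (p-1)` for some nonzero `a ∈ R`. (The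
published statement is that the generic fibre of the finite flat group scheme of order `p` with
parameters `α, β` satisfying `α β = 0`, whose underlying scheme is `Spec R[T]/(T ^ p - α T)`, is
constant if and only if `β = 0` and `α` is the `(p-1)`-th power of a nonzero element of `R`; this
row states the polynomial condition, in which `α ≠ 0` already forces `β = 0` over a domain.) -/
theorem result
    (p : ℕ) [Fact p.Prime] (R : Type u) [CommRing R] [IsDomain R] [IsIntegrallyClosed R]
    [CharP R p] (α : R) :
    (α ≠ 0 ∧ (Polynomial.map (algebraMap R (FractionRing R))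
        (Polynomial.X ^ p - Polynomial.C α * Polynomial.X)).Splits) ↔
      ∃ a : R, a ≠ 0 ∧ α = a ^ (p - 1) := by
  classical
  have hp : p.Prime := Fact.out
  let K := FractionRing R
  have hinj : Function.Injective (algebraMap R K) := IsFractionRing.injective R K
  have hK : CharP K p := charP_of_injective_algebraMap hinj p
  have hp1 : 1 ≤ p - 1 := by have := hp.two_le; omega
  have hpp : p - 1 + 1 = p := by have := hp.two_le; omega
  constructor
  · rintro ⟨hα, hs⟩
    have hαK : algebraMap R K α ≠ 0 := by simpa using hinj.ne hα
    have hfac : Polynomial.map (algebraMap R K) (Polynomial.X ^ p - Polynomial.C α * Polynomial.X)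
        = Polynomial.X * (Polynomial.X ^ (p - 1) - Polynomial.C (algebraMap R K α)) := by
      simp only [Polynomial.map_sub, Polynomial.map_pow, Polynomial.map_X, Polynomial.map_mul,
        Polynomial.map_C]
      rw [mul_sub, ← pow_succ', hpp]
      ring
    rw [hfac, Polynomial.splits_X_mul] at hs
    have hdeg : (Polynomial.X ^ (p - 1) - Polynomial.C (algebraMap R K α)).degree ≠ 0 := by
      rw [Polynomial.degree_X_pow_sub_C (by omega)]
      exact_mod_cast (by omega : p - 1 ≠ 0)
    obtain ⟨t, ht⟩ := hs.exists_eval_eq_zero hdeg
    simp only [Polynomial.eval_sub, Polynomial.eval_pow, Polynomial.eval_X, Polynomial.eval_C,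
      sub_eq_zero] at ht
    have hint : IsIntegral R t := by
      refine ⟨Polynomial.X ^ (p - 1) - Polynomial.C α,
        Polynomial.monic_X_pow_sub_C α (by omega), ?_⟩
      rw [Polynomial.eval₂_sub, Polynomial.eval₂_pow, Polynomial.eval₂_X, Polynomial.eval₂_C, ht]
      exact sub_self _
    obtain ⟨a, ha⟩ := IsIntegrallyClosed.isIntegral_iff.1 hint
    refine ⟨a, ?_, ?_⟩
    · rintro rfl
      rw [map_zero] at ha
      rw [← ha, zero_pow (by omega)] at ht
      exact hαK ht.symm
    · apply hinj
      rw [map_pow, ha, ht]
  · rintro ⟨a, ha, rfl⟩
    refine ⟨pow_ne_zero _ ha, ?_⟩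
    set b := algebraMap R K a with hb
    have hbK : b ≠ 0 := (map_ne_zero_iff (algebraMap R K) hinj).2 ha
    have hg : (Polynomial.C b * Polynomial.X : Polynomial K).natDegree = 1 := by
      rw [Polynomial.natDegree_C_mul hbK, Polynomial.natDegree_X]
    rw [Polynomial.splits_iff_comp_splits_of_natDegree_eq_one hg]
    have hcomp : (Polynomial.map (algebraMap R K)
        (Polynomial.X ^ p - Polynomial.C (a ^ (p - 1)) * Polynomial.X)).comp
          (Polynomial.C b * Polynomial.X)
        = Polynomial.C (b ^ p) * (Polynomial.map (ZMod.castHom (dvd_refl p) K)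
            (Polynomial.X ^ p - Polynomial.X)) := by
      simp only [Polynomial.map_sub, Polynomial.map_pow, Polynomial.map_X, Polynomial.map_mul,
        Polynomial.map_C, Polynomial.sub_comp, Polynomial.pow_comp, Polynomial.X_comp,
        Polynomial.mul_comp, Polynomial.C_comp, map_pow]
      rw [← hb, mul_pow, mul_sub, ← Polynomial.C_pow, ← Polynomial.C_pow]
      congr 1
      rw [← mul_assoc, ← Polynomial.C_mul, ← pow_succ, hpp]
    rw [hcomp]
    apply Polynomial.Splits.C_mul
    apply Polynomial.Splits.map
    rw [Polynomial.splits_iff_card_roots]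
    have h1 := FiniteField.roots_X_pow_card_sub_X (ZMod p)
    rw [ZMod.card] at h1
    rw [h1, FiniteField.X_pow_card_sub_X_natDegree_eq _ hp.one_lt]
    simp [ZMod.card]

end Groth.Agent.S15811
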