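import Groth.Statements.S15813
import Groth.Agent.H79.ASCond

set_option autoImplicit false
universe u
open WildQuot

namespace Groth.Agent.S15813

/-- Let `k` be a field of characteristic `p > 0`, `A = k[[u]]`, and `σ` a `k`-algebra automorphism of
`A` of order exactly `p`, with ramification break `m`: `σ u - u` has order `m + 1`. Let `x = ∏_{i <
p} σ^i u` be the norm of `u`, let `f ∈ A` be `σ`-invariant with nonzero constant term (a unit of the
invariant ring `k[[x]]`), let `μ > 0` be prime to `p`, and let `z ∈ Frac(A)` satisfy the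
Artin–Schreier equation `z ^ p - z = f / x ^ μ`. Then `μ = m`. (The published statement also records
that `Frac(A) = Frac(A^σ)(z)`; that follows from the equation since `p` does not divide `μ`, so it
is not repeated as a hypothesis.) -/
theorem result
    (p : ℕ) [Fact p.Prime] (k : Type u) [Field k] [CharP k p]
    (σ : PowerSeries k ≃ₐ[k] PowerSeries k) (hσp : σ ^ p = 1) (hσ1 : σ ≠ 1)
    (m : ℕ) (hm : (σ PowerSeries.X - PowerSeries.X).order = ((m + 1 : ℕ) : ℕ∞))
    (f : PowerSeries k) (hfσ : σ f = f) (hf0 : PowerSeries.constantCoeff f ≠ 0)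
    (μ : ℕ) (hμ : 0 < μ) (hpμ : ¬ p ∣ μ)
    (z : FractionRing (PowerSeries k))
    (hz : z ^ p - z = algebraMap (PowerSeries k) (FractionRing (PowerSeries k)) f /
      algebraMap (PowerSeries k) (FractionRing (PowerSeries k))
        (∏ i ∈ Finset.range p, (σ ^ i) PowerSeries.X) ^ μ) :
    μ = m := by
  obtain ⟨a, b, hb, rfl⟩ := IsFractionRing.div_surjective (A := PowerSeries k) z
  have hb0 : b ≠ 0 := nonZeroDivisors.ne_zero hb
  obtain ⟨q, rfl⟩ : ∃ q, p = q + 1 := ⟨p - 1, by have := (Fact.out : p.Prime).pos; omega⟩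
  have hinj := IsFractionRing.injective (PowerSeries k) (FractionRing (PowerSeries k))
  have hx0 : (∏ i ∈ Finset.range (q + 1), (σ ^ i) PowerSeries.X : PowerSeries k) ≠ 0 := by
    rw [Finset.prod_ne_zero_iff]
    intro i _
    exact (EmbeddingLike.map_ne_zero_iff (f := σ ^ i)).2 PowerSeries.X_ne_zero
  refine Groth.Agent.H79.AS.main_aux (q + 1) q rfl σ hσp m hm f hfσ hf0 μ hμ hpμ a b hb0 ?_
  apply hinj
  have hb' : algebraMap (PowerSeries k) (FractionRing (PowerSeries k)) b ≠ 0 := by
    rwa [ne_eq, map_eq_zero_iff _ hinj]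
  have hx' : algebraMap (PowerSeries k) (FractionRing (PowerSeries k))
      (∏ i ∈ Finset.range (q + 1), (σ ^ i) PowerSeries.X) ≠ 0 := by
    rwa [ne_eq, map_eq_zero_iff _ hinj]
  rw [div_pow, div_sub_div _ _ (pow_ne_zero _ hb') hb', div_eq_div_iff (mul_ne_zero (pow_ne_zero _ hb') hb') (pow_ne_zero _ hx')] at hz
  simp only [map_mul, map_sub, map_pow]
  have h2 : algebraMap (PowerSeries k) (FractionRing (PowerSeries k)) b *
      ((algebraMap (PowerSeries k) (FractionRing (PowerSeries k)) a ^ (q + 1) -
        algebraMap (PowerSeries k) (FractionRing (PowerSeries k)) a *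
          algebraMap (PowerSeries k) (FractionRing (PowerSeries k)) b ^ q) *
        algebraMap (PowerSeries k) (FractionRing (PowerSeries k))
          (∏ i ∈ Finset.range (q + 1), (σ ^ i) PowerSeries.X) ^ μ) =
      algebraMap (PowerSeries k) (FractionRing (PowerSeries k)) b *
      (algebraMap (PowerSeries k) (FractionRing (PowerSeries k)) f *
        algebraMap (PowerSeries k) (FractionRing (PowerSeries k)) b ^ (q + 1)) := by
    linear_combination hz
  exact mul_left_cancel₀ hb' h2

end Groth.Agent.S15813
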