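import Groth.Statements.S15817
import Groth.Agent.H79.ModPullback

set_option autoImplicit false
universe u v
open CategoryTheory
open CAlg

namespace Groth.Agent.S15817

/-- Let A be a commutative ring, M an A-module and P, Q submodules of M. Then the commuting square of
quotient projections with corners M/(P ∩ Q), M/P, M/Q and M/(P + Q) is cartesian in the category of
A-modules: M/(P ∩ Q) is the fibre product of M/P and M/Q over M/(P + Q). -/
theorem result (A : Type u) [CommRing A] (M : Type v) [AddCommGroup M] [Module A M]
    (P Q : Submodule A M) :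
    IsPullback (ModuleCat.ofHom (Submodule.factor (inf_le_left : P ⊓ Q ≤ P)))
      (ModuleCat.ofHom (Submodule.factor (inf_le_right : P ⊓ Q ≤ Q)))
      (ModuleCat.ofHom (Submodule.factor (le_sup_left : P ≤ P ⊔ Q)))
      (ModuleCat.ofHom (Submodule.factor (le_sup_right : Q ≤ P ⊔ Q))) := by
  apply Groth.Agent.H79.modulecat_isPullback_of_elementwise
  · ext x
    rfl
  · intro x y h1 h2
    obtain ⟨x, rfl⟩ := Submodule.Quotient.mk_surjective _ x
    obtain ⟨y, rfl⟩ := Submodule.Quotient.mk_surjective _ y
    change Submodule.Quotient.mk x = Submodule.Quotient.mk y at h1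
    change Submodule.Quotient.mk x = Submodule.Quotient.mk y at h2
    rw [Submodule.Quotient.eq] at h1 h2 ⊢
    exact ⟨h1, h2⟩
  · intro x₂ x₃ h
    obtain ⟨x, rfl⟩ := Submodule.Quotient.mk_surjective _ x₂
    obtain ⟨y, rfl⟩ := Submodule.Quotient.mk_surjective _ x₃
    change Submodule.Quotient.mk x = Submodule.Quotient.mk y at h
    rw [Submodule.Quotient.eq, Submodule.mem_sup] at h
    obtain ⟨p, hp, q, hq, hpq⟩ := h
    refine ⟨Submodule.Quotient.mk (x - p), ?_, ?_⟩
    · change Submodule.Quotient.mk (x - p) = Submodule.Quotient.mk x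
      rw [Submodule.Quotient.eq]
      simpa using P.neg_mem hp
    · change Submodule.Quotient.mk (x - p) = Submodule.Quotient.mk y
      rw [Submodule.Quotient.eq]
      have : x - p - y = q := by
        have h3 : x - p - y = (x - y) - p := by abel
        rw [h3, ← hpq]; abel
      rw [this]; exact hq

end Groth.Agent.S15817
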