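import Groth.Statements.S15822
import Groth.Agent.H79.KoszulSplit

set_option autoImplicit false
universe u
open CategoryTheory
open Koszul

namespace Groth.Agent.S15822

/-- Let A be a commutative ring, M an A-module, x = (x_1, …, x_s) a sequence in A and y_1, …, y_r
elements of the ideal (x_1, …, x_s). Then for every integer m, the m-th cohomology module of the
complex K(x_1, …, x_s, y_1, …, y_r) ⊗_A M (Koszul complex of the concatenated sequence in the
iterated mapping-cone model, tensored termwise with M) is isomorphic as an A-module to the direct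
sum over j = 0, …, r of (r choose j) copies of the (m + j)-th cohomology module of K(x_1, …, x_s)
⊗_A M (existence of an A-linear isomorphism). In the published indexing: H^{-q}(K(x, y) ⊗ M) ≅
⊕_{i+j=q} H^{-i}(K(x) ⊗ M) ⊗ ∧^j A^r. -/
theorem result (A : Type u) [CommRing A] (M : ModuleCat.{u} A)
    (xs ys : List A) (hy : ∀ y ∈ ys, y ∈ Ideal.span {a | a ∈ xs}) (m : ℤ) :
    Nonempty ((DRing.tensorCx (Koszul.koszul A (xs ++ ys)) M).homology m ≅
      ModuleCat.of A ((j : Fin (ys.length + 1)) → Fin (ys.length.choose j) →
        (DRing.tensorCx (Koszul.koszul A xs) M).homology (m + j))) := by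
  obtain ⟨e1⟩ := Groth.Agent.H79.KoszulEuler.nonempty_tensorCx_iso M (xs ++ ys)
  obtain ⟨e2⟩ := Groth.Agent.H79.KoszulEuler.nonempty_tensorCx_iso M xs
  obtain ⟨e⟩ := Groth.Agent.H79.KoszulSplit.nonempty_equiv_pi M xs ys hy m
  have E1 := ((HomologicalComplex.homologyFunctor (ModuleCat.{u} A) (ComplexShape.up ℤ)
    m).mapIso e1).toLinearEquiv
  have E2 : ((j : Fin (ys.length + 1)) → Fin (ys.length.choose j) →
      (CohIII.koszulCx M xs).homology (m + j)) ≃ₗ[A]
      ((j : Fin (ys.length + 1)) → Fin (ys.length.choose j) →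
        (DRing.tensorCx (Koszul.koszul A xs) M).homology (m + j)) :=
    LinearEquiv.piCongrRight (fun j => LinearEquiv.piCongrRight (fun _ =>
      ((HomologicalComplex.homologyFunctor (ModuleCat.{u} A) (ComplexShape.up ℤ)
        (m + j)).mapIso e2).toLinearEquiv.symm))
  exact ⟨(E1.trans (e.trans E2)).toModuleIso⟩

end Groth.Agent.S15822
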