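import Groth.Statements.S15832
import Groth.Agent.H79.Nonarch

set_option autoImplicit false
universe u
open TopGrp

namespace Groth.Agent.S15832

/-- For a group T with a topology, let B be the family of two-sided translates x Γ y, where Γ runs over
the subgroups of T open in the given topology and x, y over T; the topology generated by B makes T a
topological group in which every neighbourhood of the identity contains a subgroup open for that
topology. (The published statement is for the free topological product of two Noohi groups whose
open subgroups form a basis of neighbourhoods of the identity; the argument uses only the group
structure and the chosen family of subgroups, so the row is stated for an arbitrary group with a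
topology. The published conventions include Hausdorffness in the word topological group; this row
does not assert it, and the published argument does not prove it.) -/
theorem result (T : Type u) [Group T]
    [TopologicalSpace T] :
    @NonarchimedeanGroup T _ (TopologicalSpace.generateFrom
      {S : Set T | ∃ (Γ : OpenSubgroup T) (x y : T), S = (fun g : T => x * g * y) '' (Γ : Set T)}) := by
  have h : {S : Set T | ∃ (Γ : OpenSubgroup T) (x y : T), S = (fun g : T => x * g * y) '' (Γ : Set T)} =
      Groth.Agent.H79.translates T {H : Subgroup T | IsOpen (H : Set T)} := by
    ext S
    constructor
    · rintro ⟨Γ, x, y, rfl⟩
      exact ⟨Γ.toSubgroup, Γ.isOpen, x, y, rfl⟩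
    · rintro ⟨H, hH, x, y, rfl⟩
      exact ⟨⟨H, hH⟩, x, y, rfl⟩
  rw [h]
  exact Groth.Agent.H79.nonarch_of_translates T _

end Groth.Agent.S15832
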