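import Groth.Statements.S15833
import Mathlib
-- import your own Groth.Agent.* helpers here

set_option autoImplicit false
universe u
open EtBase

namespace Groth.Agent.S15833

open CategoryTheory CategoryTheory.Limits AlgebraicGeometry in
/-- Let i : X₀ ⟶ X be a surjective closed immersion of schemes and f : Y ⟶ X a morphism. Then f
satisfies the valuative criterion (existence and uniqueness of a lift in every valuative square,
over arbitrary valuation rings) if and only if its base change Y ×_X X₀ ⟶ X₀ does. (The published
statement takes X locally Noetherian and connected, X₀ the reduced closed subscheme with the same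
underlying space and f étale, and combines this step with the equivalence between étale schemes over
X and over X₀ to identify the geometric coverings, i.e. the étale morphisms satisfying the valuative
criterion, of X and of X₀; the argument for this step uses only that X₀ ⟶ X is a surjective closed
immersion and that valuation rings are reduced.) -/
theorem result {X X₀ Y : Scheme.{u}} (i : X₀ ⟶ X)
    [IsClosedImmersion i] [Surjective i] (f : Y ⟶ X) :
    ValuativeCriterion f ↔ ValuativeCriterion (pullback.snd f i) := by
  constructor
  · -- base change
    intro hf
    rw [ValuativeCriterion.iff] at hf ⊢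
    refine ⟨MorphismProperty.pullback_snd (P := ValuativeCriterion.Existence) f i hf.1, ?_⟩
    intro S
    constructor
    intro l l'
    let S' : ValuativeCommSq f :=
      { R := S.R
        K := S.K
        i₁ := S.i₁ ≫ pullback.fst f i
        i₂ := S.i₂ ≫ i
        commSq := ⟨by
          rw [Category.assoc, pullback.condition, ← Category.assoc, S.commSq.w, Category.assoc]⟩ }
    have hsub := hf.2 S'
    let m : S'.commSq.LiftStruct :=
      { l := l.l ≫ pullback.fst f i
        fac_left := by rw [← Category.assoc, l.fac_left]
        fac_right := by
          rw [Category.assoc, pullback.condition, ← Category.assoc, l.fac_right] }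
    let m' : S'.commSq.LiftStruct :=
      { l := l'.l ≫ pullback.fst f i
        fac_left := by rw [← Category.assoc, l'.fac_left]
        fac_right := by
          rw [Category.assoc, pullback.condition, ← Category.assoc, l'.fac_right] }
    have hmm : m = m' := Subsingleton.elim m m'
    have h1 : l.l ≫ pullback.fst f i = l'.l ≫ pullback.fst f i := congrArg CommSq.LiftStruct.l hmm
    have h2 : l.l ≫ pullback.snd f i = l'.l ≫ pullback.snd f i := by
      rw [l.fac_right, l'.fac_right]
    apply CommSq.LiftStruct.ext
    exact pullback.hom_ext h1 h2
  · intro hf'
    intro S
    -- factor `S.i₂` through `i`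
    have : IsIso (pullback.fst S.i₂ i) := isIso_of_isClosedImmersion_of_surjective _
    let j₂ : Spec (.of S.R) ⟶ X₀ := inv (pullback.fst S.i₂ i) ≫ pullback.snd S.i₂ i
    have hj₂ : j₂ ≫ i = S.i₂ := by
      rw [Category.assoc, ← pullback.condition, IsIso.inv_hom_id_assoc]
    let i₁' : Spec (.of S.K) ⟶ pullback f i :=
      pullback.lift S.i₁ (Spec.map (CommRingCat.ofHom (algebraMap S.R S.K)) ≫ j₂) (by
        rw [Category.assoc, hj₂, S.commSq.w])
    let S' : ValuativeCommSq (pullback.snd f i) :=
      { R := S.R
        K := S.K
        i₁ := i₁'
        i₂ := j₂
        commSq := ⟨by rw [pullback.lift_snd]⟩ }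
    obtain ⟨u⟩ := hf' S'
    let l' : S'.commSq.LiftStruct := u.default
    refine ⟨{ default := ?_, uniq := ?_ }⟩
    · exact {
        l := l'.l ≫ pullback.fst f i
        fac_left := by
          have := l'.fac_left
          rw [← Category.assoc, this]
          exact pullback.lift_fst _ _ _
        fac_right := by
          rw [Category.assoc, pullback.condition, ← Category.assoc, l'.fac_right]
          exact hj₂ }
    · intro l
      let m : S'.commSq.LiftStruct :=
        { l := pullback.lift l.l j₂ (by rw [l.fac_right, hj₂])
          fac_left := by
            apply pullback.hom_ext
            · rw [Category.assoc, pullback.lift_fst, l.fac_left]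
              exact (pullback.lift_fst _ _ _).symm
            · rw [Category.assoc, pullback.lift_snd]
              exact (pullback.lift_snd _ _ _).symm
          fac_right := pullback.lift_snd _ _ _ }
      have hm : m = l' := u.uniq m
      apply CommSq.LiftStruct.ext
      change l.l = l'.l ≫ pullback.fst f i
      rw [← hm]
      exact (pullback.lift_fst _ _ _).symm

end Groth.Agent.S15833
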