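import Groth.Statements.S15835
import Mathlib
-- import your own Groth.Agent.* helpers here

set_option autoImplicit false
universe u
open SprIso

namespace Groth.Agent.S15835

/-- Over a commutative ring R of prime characteristic p, let n ≥ 1 and let p^m be the largest power of p
dividing n. The locus of n × n matrices with characteristic polynomial t^n is stable under adding a
scalar matrix a·1 with n·a = 0 exactly when a^(p^m) = 0: for X with characteristic polynomial t^n
and such an a, the matrix X + a·1 has characteristic polynomial t^n if and only if a^(p^m) = 0.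
(Stated on points with values in an arbitrary ring of characteristic p; the scheme-theoretic
assertion about the nilpotent scheme of SL_n is this statement for all such rings.) -/
theorem result (p : ℕ) [Fact p.Prime] (R : Type u) [CommRing R]
    [CharP R p] (n : ℕ) (hn : 0 < n) (X : Matrix (Fin n) (Fin n) R) (hX : X.charpoly = Polynomial.X ^ n)
    (a : R) (ha : (n : R) * a = 0) :
    (X + Matrix.scalar (Fin n) a).charpoly = Polynomial.X ^ n ↔ a ^ (p ^ padicValNat p n) = 0 := by
  have hp : p.Prime := Fact.out
  set q := p ^ padicValNat p n with hq
  have hqpos : 0 < q := pow_pos hp.pos _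
  obtain ⟨m, hm⟩ : q ∣ n := pow_padicValNat_dvd
  have hmpos : 0 < m := by
    rcases Nat.eq_zero_or_pos m with h | h
    · subst h; simp at hm; omega
    · exact h
  have hpm : ¬ p ∣ m := by
    intro hdvd
    have h1 : p ^ (padicValNat p n + 1) ∣ n := by
      have h2 : q * p ∣ q * m := Nat.mul_dvd_mul_left q hdvd
      rw [pow_succ]
      exact h2.trans (dvd_of_eq hm.symm)
    exact pow_succ_padicValNat_not_dvd hn.ne' h1
  have hchar : (X + Matrix.scalar (Fin n) a).charpoly =
      Polynomial.expand R q ((Polynomial.X + Polynomial.C (-(a ^ q))) ^ m) := by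
    have h1 : X + Matrix.scalar (Fin n) a = X - Matrix.scalar (Fin n) (-a) := by
      rw [map_neg, sub_neg_eq_add]
    rw [h1, Matrix.charpoly_sub_scalar, hX, Polynomial.pow_comp, Polynomial.X_comp]
    conv_lhs => rw [hm, pow_mul, hq, add_pow_char_pow, ← hq]
    rw [map_pow, map_add, Polynomial.expand_X, Polynomial.expand_C, ← Polynomial.C_pow]
    congr 3
    rcases hp.eq_two_or_odd' with h2 | hodd
    · have : (-1 : R) = 1 := by
        have h2' : (2 : R) = 0 := by
          have := CharP.cast_eq_zero R p
          rw [h2] at this; exact_mod_cast this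
        linear_combination -h2'
      rw [neg_pow, this, one_pow, one_mul, neg_eq_neg_one_mul, this, one_mul]
    · rw [Odd.neg_pow (hodd.pow)]
  rw [hchar]
  constructor
  · intro h
    have hc := congrArg (fun f => Polynomial.coeff f (q * (m - 1))) h
    simp only [Polynomial.coeff_expand hqpos, dvd_mul_right, if_true,
      Nat.mul_div_cancel_left _ hqpos, Polynomial.coeff_X_add_C_pow, Polynomial.coeff_X_pow] at hc
    have hne : q * (m - 1) ≠ n := by
      rw [hm]
      intro h'
      have := Nat.eq_of_mul_eq_mul_left hqpos h'
      omega
    rw [if_neg hne] at hc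
    have hsub : m - (m - 1) = 1 := by omega
    rw [Nat.choose_symm (by omega : 1 ≤ m), Nat.choose_one_right] at hc
    have hunit : IsUnit (m : R) := (CharP.isUnit_natCast_iff hp).2 hpm
    have := hunit.mul_left_eq_zero.1 hc
    rw [hsub, pow_one] at this
    exact neg_eq_zero.1 this
  · intro h
    rw [h, neg_zero, map_zero, add_zero, map_pow, Polynomial.expand_X, ← pow_mul, ← hm]

end Groth.Agent.S15835
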