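import Groth.Statements.S15837
import Groth.Agent.H40.CD.ProjChartsFinite
import Groth.Agent.H40.CD.EqLocusFp

set_option autoImplicit false
universe u
open CategoryTheory MonoidalCategory CartesianMonoidalCategory MonObj GrpObj AlgebraicGeometry
open SprIso

namespace Groth.Agent.S15837

/-- Let S be a scheme, G an S-group scheme of finite presentation acting on an S-scheme X which is
affine and of finite presentation over S, and Y a closed subscheme of X which is finite, flat and of
finite presentation over S. Then the functorial stabilizer of Y in G — whose points with values in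
an S-scheme T are the points g of G such that g acts as the identity on every point of Y with values
in a scheme over T — is represented by a closed subscheme of G whose inclusion is of finite
presentation. -/
theorem result (S : Scheme.{u}) (G X Y : Over S) [GrpObj G]
    [LocallyOfFinitePresentation G.hom] [QuasiCompact G.hom] [QuasiSeparated G.hom]
    [IsAffineHom X.hom] [LocallyOfFinitePresentation X.hom] (a : AlgGrp.Action G X)
    (i : Y ⟶ X) [IsClosedImmersion i.left] [IsFinite Y.hom] [Flat Y.hom] [LocallyOfFinitePresentation Y.hom] :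
    ∃ (Z : Over S) (j : Z ⟶ G), IsClosedImmersion j.left ∧ LocallyOfFinitePresentation j.left ∧
      ∀ (T : Over S) (g : T ⟶ G), (∃ z : T ⟶ Z, z ≫ j = g) ↔
        ∀ (T' : Over S) (t : T' ⟶ T) (y : T' ⟶ Y), lift (t ≫ g) (y ≫ i) ≫ a.act = y ≫ i := by
  haveI : IsSeparated X.hom := inferInstance
  let α : Y ⊗ G ⟶ X := lift (snd Y G) (fst Y G ≫ i) ≫ a.act
  let β : Y ⊗ G ⟶ X := fst Y G ≫ i
  obtain ⟨E, jE, hjE, hE, hEfp⟩ := Groth.Agent.H40.CD.exists_closed_eq_locus α β
  haveI : LocallyOfFinitePresentation jE := hEfp inferInstance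
  obtain ⟨W, cW, hcW, hW, hfp⟩ := Groth.Agent.H40.CD.exists_closed_locus_of_hasProjCharts Y G jE
    (Groth.Agent.H40.CD.hasProjCharts_of_finite_flat Y.hom)
  refine ⟨Over.mk (cW ≫ G.hom), Over.homMk cW rfl, hcW, hfp inferInstance, fun T g => ?_⟩
  rw [Groth.Agent.H40.CD.over_factors_iff, ← hW]
  have key : ∀ (T' : Over S) (t : T' ⟶ T) (y : T' ⟶ Y),
      (∃ z : T'.left ⟶ E, z ≫ jE = (lift y (t ≫ g)).left) ↔
        lift (t ≫ g) (y ≫ i) ≫ a.act = y ≫ i := by
    intro T' t y
    rw [hE, ← Over.comp_left, ← Over.comp_left]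
    have h1 : lift y (t ≫ g) ≫ α = lift (t ≫ g) (y ≫ i) ≫ a.act := by
      change lift y (t ≫ g) ≫ lift (snd Y G) (fst Y G ≫ i) ≫ a.act = _
      rw [← Category.assoc, comp_lift, lift_snd, lift_fst_assoc]
    have h2 : lift y (t ≫ g) ≫ β = y ≫ i := by
      change lift y (t ≫ g) ≫ fst Y G ≫ i = _
      rw [lift_fst_assoc]
    rw [h1, h2]
    constructor
    · intro h
      ext
      exact h
    · intro h
      rw [h]
  constructor
  · intro h T' t y
    exact (key T' t y).mp (h T' t y)
  · intro h T' t y
    exact (key T' t y).mpr (h T' t y)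

end Groth.Agent.S15837
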