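import Groth.Statements.S15841
import Mathlib.Tactic
-- import your own Groth.Agent.* helpers here

set_option autoImplicit false
universe u
open scoped TensorProduct
open SprIso

namespace Groth.Agent.S15841

/-- For a connected reductive group G with maximal torus T whose derived group is simply connected, and
a Coxeter element w (the product of the simple reflections, each once, in any order), an element of
Lie T = k ⊗ X_*(T) fixed by Ad(w) is killed by the differential of every simple root, i.e. lies in
the centre of Lie G. In root-datum form: let P be a root pairing over ℤ with character lattice M and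
cocharacter lattice N, b a base, and suppose each simple coroot has a dual character ω_i in M with
⟨ω_i, α_i^∨⟩ = 1 and ⟨ω_i, α_j^∨⟩ = 0 for every other simple j (the simply connected derived group
hypothesis). If l lists the simple roots without repetition, w^∨ is the composite of the
coreflections along l acting on N, k is a field and H in k ⊗ N satisfies w^∨_k H = H, then (α_i)_k H
= 0 for every simple root α_i, where (α_i)_k is the base change to k of the functional ⟨α_i, −⟩ on
N. (Stated for an arbitrary field k; the published setting is an algebraically closed field, and the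
argument does not depend on k.) -/
theorem result {ι M N : Type u} [AddCommGroup M] [AddCommGroup N]
    (P : RootPairing ι ℤ M N) (b : P.Base)
    (hsc : ∀ i ∈ b.support, ∃ ω : M, P.coroot' i ω = 1 ∧ ∀ j ∈ b.support, j ≠ i → P.coroot' j ω = 0)
    (l : List ι) (hl : l.Nodup) (hlb : ∀ i : ι, i ∈ l ↔ i ∈ b.support)
    (k : Type u) [Field k] (H : k ⊗[ℤ] N)
    (hH : ((l.map (fun i => ((P.coreflection i : N ≃ₗ[ℤ] N) : N →ₗ[ℤ] N))).prod).baseChange k H = H) :
    ∀ i ∈ b.support, (P.root' i).baseChange k H = 0 := by
  classical
  -- the scalar-valued functionals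
  let rid : k ⊗[ℤ] ℤ ≃ₗ[k] k := TensorProduct.AlgebraTensorModule.rid ℤ k k
  have hrid : ∀ (c : k) (m : ℤ), rid (c ⊗ₜ[ℤ] m) = m • c := fun c m => by
    simp [rid]
  -- reflection formula after base change
  have hrefl : ∀ (i : ι) (X : k ⊗[ℤ] N),
      ((P.coreflection i : N ≃ₗ[ℤ] N) : N →ₗ[ℤ] N).baseChange k X =
        X - rid ((P.root' i).baseChange k X) • ((1 : k) ⊗ₜ[ℤ] P.coroot i) := by
    intro i X
    induction X using TensorProduct.induction_on with
    | zero => simp
    | tmul c y =>
      rw [LinearMap.baseChange_tmul, LinearMap.baseChange_tmul, hrid]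
      change c ⊗ₜ[ℤ] (P.coreflection i y) = _
      rw [RootPairing.coreflection_apply, TensorProduct.tmul_sub, TensorProduct.tmul_smul,
        TensorProduct.smul_tmul', TensorProduct.smul_tmul', smul_eq_mul, mul_one]
    | add X Y hX hY =>
      rw [map_add, hX, hY, map_add, map_add, add_smul]
      abel
  -- functionals from characters
  let F : M → (k ⊗[ℤ] N →ₗ[k] k) := fun ω =>
    rid.toLinearMap ∘ₗ (P.toLinearMap ω).baseChange k
  have hF : ∀ (ω : M) (j : ι), F ω ((1 : k) ⊗ₜ[ℤ] P.coroot j) = ((P.coroot' j ω : ℤ) : k) := by
    intro ω j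
    change rid ((P.toLinearMap ω).baseChange k ((1 : k) ⊗ₜ[ℤ] P.coroot j)) = _
    rw [LinearMap.baseChange_tmul, hrid]
    simp [RootPairing.coroot']
  -- Lemma A
  have hA : ∀ (l' : List ι) (f : k ⊗[ℤ] N →ₗ[k] k),
      (∀ j ∈ l', f ((1 : k) ⊗ₜ[ℤ] P.coroot j) = 0) → ∀ X : k ⊗[ℤ] N,
      f (((l'.map (fun i => ((P.coreflection i : N ≃ₗ[ℤ] N) : N →ₗ[ℤ] N))).prod).baseChange k X)
        = f X := by
    intro l'
    induction l' with
    | nil =>
      intro f _ X
      simp [LinearMap.baseChange_one]
    | cons i l' ih =>
      intro f hf X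
      rw [List.map_cons, List.prod_cons, LinearMap.baseChange_mul, Module.End.mul_apply, hrefl,
        map_sub, map_smul, hf i (List.mem_cons_self), smul_zero, sub_zero]
      exact ih f (fun j hj => hf j (List.mem_cons_of_mem _ hj)) X
  -- main induction
  have main : ∀ (l' : List ι), l'.Nodup → (∀ i ∈ l', i ∈ b.support) → ∀ X : k ⊗[ℤ] N,
      ((l'.map (fun i => ((P.coreflection i : N ≃ₗ[ℤ] N) : N →ₗ[ℤ] N))).prod).baseChange k X = X →
      ∀ i ∈ l', (P.root' i).baseChange k X = 0 := by
    intro l'
    induction l' with
    | nil => intro _ _ X _ i hi; simp at hi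
    | cons i l' ih =>
      intro hnd hsupp X hX
      rw [List.map_cons, List.prod_cons, LinearMap.baseChange_mul, Module.End.mul_apply, hrefl] at hX
      set X' := ((l'.map (fun i => ((P.coreflection i : N ≃ₗ[ℤ] N) : N →ₗ[ℤ] N))).prod).baseChange k X
        with hX'
      obtain ⟨ω, hω1, hω0⟩ := hsc i (hsupp i List.mem_cons_self)
      have hnd' := List.nodup_cons.1 hnd
      have h1 : F ω X' = F ω X := by
        apply hA l' (F ω)
        intro j hj
        rw [hF, hω0 j (hsupp j (List.mem_cons_of_mem _ hj)) (fun h => hnd'.1 (h ▸ hj))]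
        simp
      have h2 := congrArg (F ω) hX
      rw [map_sub, map_smul, hF, hω1, h1] at h2
      have hc : rid ((P.root' i).baseChange k X') = 0 := by
        simpa using h2
      have hc' : (P.root' i).baseChange k X' = 0 := by
        simpa using hc
      rw [hc, zero_smul, sub_zero] at hX
      intro j hj
      rcases List.mem_cons.1 hj with rfl | hj'
      · rw [← hX]; exact hc'
      · exact ih hnd'.2 (fun i hi => hsupp i (List.mem_cons_of_mem _ hi)) X hX j hj'
  intro i hi
  exact main l hl (fun i hi => (hlb i).1 hi) H hH i ((hlb i).2 hi)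

end Groth.Agent.S15841
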