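import Groth.Statements.S15845
import Groth.Agent.H79.Centralizer

set_option autoImplicit false
universe u
open SprIso

namespace Groth.Agent.S15845

/-- General linear group case: this is the case G = GL_n with its upper-triangular Borel subgroup B
(derived group SL_n simply connected, all primes good, so the hypotheses on the characteristic
hold), together with the companion statement for a regular nilpotent element of Lie B. Let k be a
field and u an n × n upper-triangular matrix over k whose diagonal entries are all equal and whose
superdiagonal entries u_{i,i+1} are all non-zero — for diagonal 1 this is a regular unipotent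
element of B(k), for diagonal 0 a regular nilpotent element of Lie B. Then the centralizer of u in
GL_n is contained in B and is the product of the centre with the centralizer in the unipotent
radical: for every commutative k-algebra R and every invertible x ∈ M_n(R) commuting with u_R, x is
upper triangular and its diagonal entries are all equal. (The smoothness of the centralizer in the
unipotent radical, also part of the published statement, is not stated here.) -/
theorem result (k : Type u) [Field k] (n : ℕ)
    (u : Matrix (Fin n) (Fin n) k) (htri : ∀ i j : Fin n, j < i → u i j = 0) (hdiag : ∀ i j : Fin n, u i i = u j j)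
    (hreg : ∀ (i j : Fin n), j.val = i.val + 1 → u i j ≠ 0)
    (R : Type u) [CommRing R] [Algebra k R] (x : Matrix (Fin n) (Fin n) R) (hx : IsUnit x)
    (hxu : x * u.map (algebraMap k R) = u.map (algebraMap k R) * x) :
    (∀ i j : Fin n, j < i → x i j = 0) ∧ (∀ i j : Fin n, x i i = x j j) := by
  have htri' : ∀ i j : Fin n, j < i → (u.map (algebraMap k R)) i j = 0 := by
    intro i j hij
    rw [Matrix.map_apply, htri i j hij, map_zero]
  have hdiag' : ∀ i j : Fin n, (u.map (algebraMap k R)) i i = (u.map (algebraMap k R)) j j := by
    intro i j
    rw [Matrix.map_apply, Matrix.map_apply, hdiag i j]
  have hreg' : ∀ (i j : Fin n), j.val = i.val + 1 → IsUnit ((u.map (algebraMap k R)) i j) := by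
    intro i j hij
    rw [Matrix.map_apply]
    exact (IsUnit.mk0 _ (hreg i j hij)).map (algebraMap k R)
  exact ⟨Groth.Agent.H79.centr_lower_zero _ x htri' hdiag' hreg' hxu,
    Groth.Agent.H79.centr_diag _ x htri' hdiag' hreg' hxu⟩

end Groth.Agent.S15845
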