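import Groth.Statements.S15888
import Groth.Agent.H79.BMCohBig

set_option autoImplicit false
universe u
open CategoryTheory AlgebraicGeometry Opposite
open BMCoh

namespace Groth.Agent.S15888

/-- Let T be a twisted Borel–Moore cohomology theory with coefficients in A on a constructible class V
of Noetherian schemes, X an object of V whose underlying scheme is integral, and f : U → X a
morphism of V (an open immersion with dim U = dim X) whose image is a big open subset: every point
of X outside the image has codimension at least 2 in X, that is, its closure has dimension less than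
dim X − 1. Then for every coefficient module M and every integer n the restriction map H^2(X, M(n))
→ H^2(U, M(n)) along f is bijective. (The published remark is made for the rank-one Tate-twisted
coefficients of an ℓ-adic theory; the exactness-and-vanishing argument it indicates involves neither
the coefficient module nor the twist, and the statement is made here for all of them.) -/
theorem result (V : ObjectProperty Scheme.{u}) [BMCoh.IsConstructible V] (R : Type u) [CommRing R] (A : BMCoh.Coefs R) (T : BMCoh.TheoryOn V R A) {U X : BMCoh.Obj V} [IsIntegral X.scheme] (f : U ⟶ X) (hbig : ∀ x : X.scheme, x ∉ Set.range f.hom → 2 ≤ WeilCoh.codim X.scheme x) (M : A.Cat) (n : ℤ) : Function.Bijective (T.pull f M 2 n).hom := by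
  have hdU₀ : WeilCoh.dim (f.hom.opensRange : Scheme.{u}) = WeilCoh.dim U.scheme :=
    (BMCoh.dim_eq_of_iso f.hom.isoOpensRange).symm
  have hdU₀X : WeilCoh.dim (f.hom.opensRange : Scheme.{u}) = WeilCoh.dim X.scheme :=
    hdU₀.trans f.dim_eq
  -- the isomorphism of `U` with its image
  let e : U ⟶ X.res f.hom.opensRange := ⟨f.hom.isoOpensRange.hom, inferInstance, hdU₀.symm⟩
  let einv : X.res f.hom.opensRange ⟶ U := ⟨f.hom.isoOpensRange.inv, inferInstance, hdU₀⟩
  have he1 : e ≫ einv = 𝟙 U := BMCoh.Hom.ext f.hom.isoOpensRange.hom_inv_id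
  have he2 : einv ≫ e = 𝟙 (X.res f.hom.opensRange) :=
    BMCoh.Hom.ext f.hom.isoOpensRange.inv_hom_id
  have hebij : Function.Bijective (T.toPreTheory.pull e M 2 n).hom := by
    refine Function.bijective_iff_has_inverse.mpr ⟨(T.toPreTheory.pull einv M 2 n).hom, ?_, ?_⟩
    · intro c
      rw [← Groth.Agent.H79.BMCohSeqRes.pull_comp_apply, he2,
        Groth.Agent.H79.BMCohSeqPush.pull_id_apply]
    · intro c
      rw [← Groth.Agent.H79.BMCohSeqRes.pull_comp_apply, he1,
        Groth.Agent.H79.BMCohSeqPush.pull_id_apply]
  have hdtop : WeilCoh.dim (f.hom.opensRange : Scheme.{u}) =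
      WeilCoh.dim ((⊤ : X.scheme.Opens) : Scheme.{u}) := hdU₀X.trans (BMCoh.dim_top X.scheme).symm
  have hfac : f = e ≫ X.resLE (le_top : f.hom.opensRange ≤ ⊤) hdtop ≫ X.resTop := by
    refine BMCoh.Hom.ext ?_
    change f.hom = f.hom.isoOpensRange.hom ≫ X.scheme.homOfLE le_top ≫ (⊤ : X.scheme.Opens).ι
    rw [Scheme.homOfLE_ι, Scheme.Hom.isoOpensRange_hom_ι]
  have hU₀ : BMCoh.ContainsFj X 0 f.hom.opensRange := by
    intro y hy
    by_contra hyU
    have h1 := hbig y (fun h => hyU h)
    omega
  have hmid : Function.Bijective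
      (T.toPreTheory.pull (X.resLE (le_top : f.hom.opensRange ≤ ⊤) hdtop) M (1 + 1) n).hom := by
    refine Groth.Agent.H79.BMCohBig.pull_bijective_of_isZero T.toPreTheory M 1 n ⊤
      f.hom.opensRange hU₀ le_top hdtop ?_
    intro m x _ hxU
    have h1 : 2 ≤ WeilCoh.codim X.scheme x.1 := hbig x.1 (fun h => hxU h)
    have h2 : WeilCoh.codim X.scheme x.1 = m := x.2
    constructor
    · exact T.pt_vanish X x.1 M _ _ (by omega)
    · exact T.pt_vanish X x.1 M _ _ (by omega)
  have htop := Groth.Agent.H79.BMCohToFj.pull_resTop_bijective T.toPreTheory X M 2 n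
  have hall : ((T.toPreTheory.pull f M 2 n).hom : T.toPreTheory.gp X M 2 n →
      T.toPreTheory.gp U M 2 n) = (T.toPreTheory.pull e M 2 n).hom ∘
        ((T.toPreTheory.pull (X.resLE (le_top : f.hom.opensRange ≤ ⊤) hdtop) M 2 n).hom ∘
          (T.toPreTheory.pull X.resTop M 2 n).hom) := by
    funext c
    refine (congrArg (fun g => (T.toPreTheory.pull g M 2 n).hom c) hfac).trans ?_
    rw [Groth.Agent.H79.BMCohSeqRes.pull_comp_apply,
      Groth.Agent.H79.BMCohSeqRes.pull_comp_apply]
    rfl
  rw [hall]
  exact hebij.comp (hmid.comp htop)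

end Groth.Agent.S15888
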