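import Groth.Statements.S15896
import Groth.Agent.H78.HopfExt.ConnEt
import Groth.Agent.H92.QuotFactor
import Groth.Agent.H92.HopfInt

set_option autoImplicit false
universe u
open scoped TensorProduct
open Hopf

namespace Groth.Agent.S15896

/-- Let R be a henselian Noetherian local ring and A a commutative and cocommutative Hopf algebra over R
which is finitely generated and projective as an R-module (a finite flat commutative R-group G =
Spec A). Let e ∈ A be an idempotent with ε(e) = 1 such that the ideal (1 − e) is a Hopf ideal and A⁰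
= A/(1 − e) is a local ring, projective over R, with cocommutative quotient structure (G⁰ = Spec A⁰
is the connected component of the unit section). Let B = Hom_R(A⁰, R) be the dual Hopf algebra (the
Cartier dual (G⁰)^D) and e' ∈ B an idempotent with ε(e') = 1 and B/(1 − e') local (the unit
component of (G⁰)^D). Say that x ∈ B is invariant when (id ⊗ (multiplication by e'))(Δ x) = x ⊗ e',
i.e. x is invariant under translation by the unit component of (G⁰)^D, so that the invariant
elements form the Hopf algebra of the maximal étale quotient of (G⁰)^D; the ideal in A⁰ of the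
closed subgroup G_μ ⊆ G⁰ ⊆ G consists of the elements annihilated by every invariant x (G_μ is the
Cartier dual of the étale quotient of (G⁰)^D, a connected multiplicative subgroup of G). Then G_μ is
the largest connected multiplicative closed subgroup of G: for every Hopf ideal J of A such that A/J
is a local ring, projective over R, cocommutative, and has étale dual Hopf algebra Hom_R(A/J, R) (H
= Spec A/J a connected closed subgroup with étale Cartier dual), every a ∈ A whose image in A⁰ is
annihilated by all invariant x lies in J, i.e. H ⊆ G_μ. -/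
theorem result (R : Type u) [CommRing R]
    [HenselianLocalRing R] [IsNoetherianRing R] (A : Type u) [CommRing A] [HopfAlgebra R A] [Coalgebra.IsCocomm R A]
    [Module.Finite R A] [Module.Projective R A] (e : A) (he : IsIdempotentElem e)
    (hε : Bialgebra.counitAlgHom R A e = 1) [(Ideal.span ({1 - e} : Set A)).IsHopfIdeal R] [IsLocalRing (A ⧸ Ideal.span ({1 - e} : Set A))]
    [Module.Projective R (A ⧸ Ideal.span ({1 - e} : Set A))] [Coalgebra.IsCocomm R (A ⧸ Ideal.span ({1 - e} : Set A))]
    (e' : CartDual.D R (A ⧸ Ideal.span ({1 - e} : Set A))) (he' : IsIdempotentElem e')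
    (hε' : Bialgebra.counitAlgHom R (CartDual.D R (A ⧸ Ideal.span ({1 - e} : Set A))) e' = 1)
    [IsLocalRing (CartDual.D R (A ⧸ Ideal.span ({1 - e} : Set A)) ⧸ Ideal.span ({1 - e'} : Set (CartDual.D R (A ⧸ Ideal.span ({1 - e} : Set A)))))]
    (J : Ideal A) [J.IsHopfIdeal R] [IsLocalRing (A ⧸ J)] [Module.Projective R (A ⧸ J)]
    [Coalgebra.IsCocomm R (A ⧸ J)] [Algebra.Etale R (CartDual.D R (A ⧸ J))]
    (a : A) (ha : ∀ x : CartDual.D R (A ⧸ Ideal.span ({1 - e} : Set A)), LinearMap.lTensor (CartDual.D R (A ⧸ Ideal.span ({1 - e} : Set A))) (LinearMap.mulLeft R e') (Coalgebra.comul (R := R) x) = x ⊗ₜ[R] e' → x (Ideal.Quotient.mk (Ideal.span ({1 - e} : Set A)) a) = 0) :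
    a ∈ J := by
  classical
  -- Step 1: the unit component contains the connected subgroup
  have h1 : (1 : A) - e ∈ J := by
    have hψ : Ideal.Quotient.mk J e = 1 := by
      refine Groth.Agent.H78.HopfExt.idem_eq_one_of_map_eq_one
        (Bialgebra.counitAlgHom R (A ⧸ J)).toRingHom (Ideal.Quotient.mk J e) ?_ ?_
      · change _ * _ = _
        rw [← map_mul, he.eq]
      · exact hε
    rw [← Ideal.Quotient.eq_zero_iff_mem, map_sub, map_one, hψ, sub_self]
  have hKJ : Ideal.span ({1 - e} : Set A) ≤ J := by
    rw [Ideal.span_le, Set.singleton_subset_iff]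
    exact h1
  -- Step 2: the quotient map and its transpose
  let q : (A ⧸ Ideal.span ({1 - e} : Set A)) →ₐc[R] (A ⧸ J) :=
    Groth.Agent.H92.QuotFactor.factor (R := R) _ J hKJ
  let φ : CartDual.D R (A ⧸ J) →ₐc[R] CartDual.D R (A ⧸ Ideal.span ({1 - e} : Set A)) :=
    CartDual.transpose R q
  -- Step 3: functionals on A/J vanish at the class of a
  have key : ∀ χ : CartDual.D R (A ⧸ J), χ (Ideal.Quotient.mk J a) = 0 := by
    intro χ
    have hK' : Ideal.span ({1 - e'} : Set (CartDual.D R (A ⧸ Ideal.span ({1 - e} : Set A)))) ≤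
        RingHom.ker (Bialgebra.counitAlgHom R (CartDual.D R (A ⧸ Ideal.span ({1 - e} : Set A)))) := by
      rw [Ideal.span_le, Set.singleton_subset_iff]
      change 1 - e' ∈ RingHom.ker _
      rw [RingHom.mem_ker, map_sub, map_one, hε', sub_self]
    have hmem := Groth.Agent.H78.HopfExt.map_mem_equalizer R
      (CartDual.D R (A ⧸ Ideal.span ({1 - e} : Set A)))
      (Ideal.span ({1 - e'} : Set (CartDual.D R (A ⧸ Ideal.span ({1 - e} : Set A))))) hK'
      (CartDual.D R (A ⧸ J)) φ χ
    rw [AlgHom.mem_equalizer] at hmem
    -- multiplication by e' on the quotient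
    have hle : Ideal.span ({1 - e'} : Set (CartDual.D R (A ⧸ Ideal.span ({1 - e} : Set A)))) ≤
        LinearMap.ker (LinearMap.mulLeft (CartDual.D R (A ⧸ Ideal.span ({1 - e} : Set A))) e') := by
      intro b hb
      obtain ⟨c, rfl⟩ := Ideal.mem_span_singleton'.mp hb
      rw [LinearMap.mem_ker, LinearMap.mulLeft_apply]
      have := he'.eq
      linear_combination (-c) * this
    let m : (CartDual.D R (A ⧸ Ideal.span ({1 - e} : Set A)) ⧸
        Ideal.span ({1 - e'} : Set (CartDual.D R (A ⧸ Ideal.span ({1 - e} : Set A))))) →ₗ[R]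
        CartDual.D R (A ⧸ Ideal.span ({1 - e} : Set A)) :=
      ((Ideal.span ({1 - e'} : Set (CartDual.D R (A ⧸ Ideal.span ({1 - e} : Set A))))).liftQ
        (LinearMap.mulLeft (CartDual.D R (A ⧸ Ideal.span ({1 - e} : Set A))) e') hle).restrictScalars R
    have hm : ∀ b, m (Ideal.Quotient.mk _ b) = e' * b := fun b => rfl
    have hL : ∀ w : CartDual.D R (A ⧸ Ideal.span ({1 - e} : Set A)) ⊗[R]
        CartDual.D R (A ⧸ Ideal.span ({1 - e} : Set A)),
        LinearMap.lTensor _ m ((Algebra.TensorProduct.map
          (AlgHom.id R (CartDual.D R (A ⧸ Ideal.span ({1 - e} : Set A))))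
          (Ideal.Quotient.mkₐ R (Ideal.span ({1 - e'} :
            Set (CartDual.D R (A ⧸ Ideal.span ({1 - e} : Set A))))))) w) =
        LinearMap.lTensor _ (LinearMap.mulLeft R e') w := by
      intro w
      induction w using TensorProduct.induction_on with
      | zero => simp
      | add z w hz hw => simp only [map_add, hz, hw]
      | tmul b₁ b₂ =>
        rw [Algebra.TensorProduct.map_tmul, LinearMap.lTensor_tmul, LinearMap.lTensor_tmul]
        rfl
    have hinv := congrArg (LinearMap.lTensor _ m) hmem
    rw [AlgHom.comp_apply, hL, Algebra.TensorProduct.includeLeft_apply, LinearMap.lTensor_tmul] at hinv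
    have hm1 : m 1 = e' := by
      have := hm 1
      rw [mul_one] at this
      exact this
    rw [hm1] at hinv
    have := ha (φ χ) hinv
    exact this
  -- Step 4: the dual separates points
  obtain ⟨n, ee, es, hee⟩ := Groth.Agent.H92.HopfInt.exists_dual_basis R (A ⧸ J)
  rw [← Ideal.Quotient.eq_zero_iff_mem, hee (Ideal.Quotient.mk J a)]
  refine Finset.sum_eq_zero (fun i _ => ?_)
  have := key (WithConv.toConv (es i))
  change es i (Ideal.Quotient.mk J a) = 0 at this
  rw [this, zero_smul]

end Groth.Agent.S15896
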