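import Groth.Statements.S15908
import Groth.Agent.H79.E8Conic

set_option autoImplicit false
open Surf

namespace Groth.Agent.S15908

open W4c3severiratdp in
/-- Work in the lattice of vectors (a; b_1, …, b_δ), standing for divisor classes a ℓ − Σ b_i e_i on the
blow-up of the projective plane at δ points written in a standard basis, with intersection form a a'
− Σ b_i b_i' and canonical class K = (−3; −1, …, −1); a conic class is a class Q with Q·Q = 0 and
K·Q = −2, an exceptional class (the class of a (−1)-curve) is a class E with E·E = −1 and K·E = −1,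
and the Weyl group W_δ is the group of additive automorphisms of the lattice preserving the form and
fixing K. For δ = 8 the ordered pairs (Q_1, Q_2) of conic classes with Q_1·Q_2 = 4 form exactly two
W_8-orbits: there are two such pairs that no element of W_8 carries one to the other, and every such
pair is carried by an element of W_8 to one of these two. -/
theorem result :
    ∃ p₁ p₂ q₁ q₂ : DP 8, IsConic p₁ ∧ IsConic p₂ ∧ IsConic q₁ ∧ IsConic q₂ ∧ form p₁ p₂ = 4 ∧ form q₁ q₂ = 4 ∧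
      (¬ ∃ g : DP 8 ≃ₗ[ℤ] DP 8, IsWeyl g ∧ g p₁ = q₁ ∧ g p₂ = q₂) ∧
      ∀ v₁ v₂ : DP 8, IsConic v₁ → IsConic v₂ → form v₁ v₂ = 4 →
        ∃ g : DP 8 ≃ₗ[ℤ] DP 8, IsWeyl g ∧ ((g v₁ = p₁ ∧ g v₂ = p₂) ∨ (g v₁ = q₁ ∧ g v₂ = q₂)) := by
  have hl0 : (Groth.Agent.H79.E8.conQ0 8).length = 8 + 1 := by decide
  have hl1 : (Groth.Agent.H79.E8.conTab 8 4).length = 8 + 1 := by decide
  have hl2 : (Groth.Agent.H79.E8.conTab4').length = 8 + 1 := by decide
  refine ⟨Groth.Agent.H79.E8.ofL (Groth.Agent.H79.E8.conQ0 8),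
    Groth.Agent.H79.E8.ofL (Groth.Agent.H79.E8.conTab 8 4),
    Groth.Agent.H79.E8.ofL (Groth.Agent.H79.E8.conQ0 8),
    Groth.Agent.H79.E8.ofL Groth.Agent.H79.E8.conTab4',
    Groth.Agent.H79.E8.isConic_ofL _ hl0 (by decide) (by decide),
    Groth.Agent.H79.E8.isConic_ofL _ hl1 (by decide) (by decide),
    Groth.Agent.H79.E8.isConic_ofL _ hl0 (by decide) (by decide),
    Groth.Agent.H79.E8.isConic_ofL _ hl2 (by decide) (by decide), ?_, ?_, ?_, ?_⟩
  · rw [← Groth.Agent.H79.E8.dotL_toL, Groth.Agent.H79.E8.toL_ofL _ hl0,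
      Groth.Agent.H79.E8.toL_ofL _ hl1]
    decide
  · rw [← Groth.Agent.H79.E8.dotL_toL, Groth.Agent.H79.E8.toL_ofL _ hl0,
      Groth.Agent.H79.E8.toL_ofL _ hl2]
    decide
  · rintro ⟨g, _, h1, h2⟩
    have hx : (Groth.Agent.H79.E8.ofL (Groth.Agent.H79.E8.conQ0 8) : DP 8) +
        Groth.Agent.H79.E8.ofL (Groth.Agent.H79.E8.conTab 8 4) =
        (2 : ℤ) • (Groth.Agent.H79.E8.ofL [3,1,1,1,1,1,1,1,0] : DP 8) := by decide
    have h3 := congrArg g hx
    rw [map_add, h1, h2, map_smul] at h3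
    have h4 := congrFun h3 0
    have h5 : ((Groth.Agent.H79.E8.ofL (Groth.Agent.H79.E8.conQ0 8) : DP 8) +
        (Groth.Agent.H79.E8.ofL Groth.Agent.H79.E8.conTab4' : DP 8)) 0 = 5 := by decide
    rw [h5] at h4
    simp only [Pi.smul_apply, smul_eq_mul] at h4
    omega
  · intro v₁ v₂ hv₁ hv₂ h4
    obtain ⟨g, hg, ha, hb⟩ := Groth.Agent.H79.E8.conic_pair_normal_form (by norm_num)
      Groth.Agent.H79.E8.conicCert8 v₁ v₂ hv₁ hv₂
    refine ⟨g, hg, ?_⟩
    have e1 : g v₁ = Groth.Agent.H79.E8.ofL (Groth.Agent.H79.E8.conQ0 8) :=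
      Groth.Agent.H79.E8.toL_injective (ha.trans (Groth.Agent.H79.E8.toL_ofL _ hl0).symm)
    rcases hb with hb | ⟨_, _, hb⟩
    · left
      rw [h4] at hb
      exact ⟨e1, Groth.Agent.H79.E8.toL_injective (hb.trans (Groth.Agent.H79.E8.toL_ofL _ hl1).symm)⟩
    · right
      exact ⟨e1, Groth.Agent.H79.E8.toL_injective (hb.trans (Groth.Agent.H79.E8.toL_ofL _ hl2).symm)⟩

end Groth.Agent.S15908
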