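import Groth.Statements.S15932
import Groth.Agent.H79.BMCohRes

set_option autoImplicit false
universe u
open CategoryTheory AlgebraicGeometry Opposite
open BMCoh

namespace Groth.Agent.S15932

/-- Let T be a twisted Borel–Moore cohomology theory with coefficients in A (a full subcategory of
R-modules containing R) on a constructible class V of Noetherian schemes, X an object of V and j a
natural number; H^i(F_kX, M(n)) denotes the colimit of H^i(U, M(n)) over the open subschemes U of X
containing every point of codimension at most k (codimension of a point = dim X minus the dimension
of its closure), and H^i(x, M(n)) the group of a point x (colimit over the nonempty opens of its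
reduced closure). A residue datum for X at level j consists of maps ∂_x : H^i(F_jX, M(n)) →
H^{i'}(x, M(n')), (i', n') = (i + 1 − 2(j+1), n − (j+1)), for every point x of codimension j + 1,
every coefficient module M and all i, n, each class having only finitely many nonzero ∂_x, such
that: for every object Y with a morphism of V into X, every decomposition of Y into a closed part Z
and an open complement U' of the dimension of Y, every nonempty open W of the reduced closure of x
(of its dimension) with a morphism of V into Z over X, and every open U of X containing the points
of codimension at most j (of the dimension of X) with a morphism of V into U' over X, the composite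
H^i(U') → H^i(U) → H^i(F_jX) → H^{i'}(x) equals the residue map of the decomposition followed by
restriction to W and the canonical map H^{i'}(W) → H^{i'}(x). There is at most one such datum. -/
theorem result (V : ObjectProperty Scheme.{u}) [BMCoh.IsConstructible V] (R : Type u) [CommRing R] (A : BMCoh.Coefs R) (T : BMCoh.TheoryOn V R A) (X : BMCoh.Obj V) (j : ℕ) : Subsingleton (T.ResData X j) := by
  constructor
  intro Q Q'
  have hcpt : Q.cpt = Q'.cpt := by
    funext x M i n i' n' hi hn
    apply Groth.Agent.H79.BMCohDim.ocolim_hom_ext
    intro U
    obtain ⟨U', hle, hxU'⟩ := Groth.Agent.H79.BMCohRes.exists_shrink X j x U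
    have hU' : (T.ocolimι X (BMCoh.ContainsFj X j) i n U').app M ≫ Q.cpt x M i n i' n' hi hn =
        (T.ocolimι X (BMCoh.ContainsFj X j) i n U').app M ≫ Q'.cpt x M i n i' n' hi hn := by
      obtain ⟨Y, e, D, W, g, h, hg, hh, hcod, hiso⟩ :=
        Groth.Agent.H79.BMCohRes.exists_res_witness X j x U' hxU'
      have k1 := Q.cpt_spec x M i n i' n' hi hn e D W g hg U' h hh (by rw [hcod]; exact hi)
        (by rw [hcod]; exact hn)
      have k2 := Q'.cpt_spec x M i n i' n' hi hn e D W g hg U' h hh (by rw [hcod]; exact hi)
        (by rw [hcod]; exact hn)
      have hisoP : IsIso (T.pull h M i n) := by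
        change IsIso (((T.H i n).map h.op).app M)
        infer_instance
      rw [← cancel_epi (T.pull h M i n)]
      exact k1.trans k2.symm
    rw [Groth.Agent.H79.BMCohDim.ocolimι_le T.toPreTheory X _ i n M U' U hle]
    exact (Category.assoc _ _ _).trans
      ((congrArg (fun φ => T.pull ((BMCoh.idxDiag X (BMCoh.ContainsFj X j)).map (homOfLE hle)) M i n ≫ φ)
        hU').trans (Category.assoc _ _ _).symm)
  cases Q
  cases Q'
  simp only at hcpt
  subst hcpt
  rfl

end Groth.Agent.S15932
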