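import Groth.Statements.S15941
import Mathlib
-- import your own Groth.Agent.* helpers here

set_option autoImplicit false
universe u
open HTop

namespace Groth.Agent.S15941

/-- An integrally closed integral domain is a seminormal ring, that is, whenever x^3 = y^2 there is
exactly one element a with x = a^2 and y = a^3. (The published statement is for a normal Noetherian
scheme and reduces at once to this affine integral case; the Noetherian hypothesis plays no role.) -/
theorem result (A : Type u) [CommRing A] [IsDomain A]
    [IsIntegrallyClosed A] : HTop.IsSeminormalRing A := by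
  intro x y hxy
  by_cases hx : x = 0
  · subst hx
    have hy : y = 0 := by
      have : y ^ 2 = 0 := by rw [← hxy]; ring
      exact pow_eq_zero_iff (by norm_num) |>.1 this
    subst hy
    refine ⟨0, by simp, ?_⟩
    rintro a ⟨ha, -⟩
    exact pow_eq_zero_iff (n := 2) (by norm_num) |>.1 ha.symm
  · let K := FractionRing A
    have hxK : algebraMap A K x ≠ 0 := by
      simpa using (IsFractionRing.injective A K).ne hx
    set t : K := algebraMap A K y / algebraMap A K x with ht
    have ht2 : t ^ 2 = algebraMap A K x := by
      rw [ht, div_pow, ← map_pow, ← hxy, map_pow]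
      rw [div_eq_iff (pow_ne_zero 2 hxK)]
      ring
    have hint : IsIntegral A t := by
      refine ⟨Polynomial.X ^ 2 - Polynomial.C x, Polynomial.monic_X_pow_sub_C x (by norm_num), ?_⟩
      simp [ht2]
    obtain ⟨a, ha⟩ := IsIntegrallyClosed.isIntegral_iff.1 hint
    have ha2 : a ^ 2 = x := by
      apply IsFractionRing.injective A K
      rw [map_pow, ha, ht2]
    have ha3 : a ^ 3 = y := by
      apply IsFractionRing.injective A K
      rw [map_pow, ha, pow_succ, ht2, ht]
      rw [mul_div_cancel₀ _ hxK]
    refine ⟨a, ⟨ha2.symm, ha3.symm⟩, ?_⟩
    rintro c ⟨hc2, hc3⟩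
    have hc : c ≠ 0 := by
      rintro rfl
      apply hx
      simpa using hc2
    have h1 : c * x = y := by rw [hc2, hc3]; ring
    have h2 : a * x = y := by rw [← ha2, ← ha3]; ring
    exact mul_right_cancel₀ hx (h1.trans h2.symm)

end Groth.Agent.S15941
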