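import Groth.Statements.S15943
import Groth.Agent.H87.FerrScheme
import Groth.Agent.H87.FerrMatch

set_option autoImplicit false
universe u
open Pinch

namespace Groth.Agent.S15943

open CategoryTheory AlgebraicGeometry in
/-- Let Y be a scheme, f : X → Y a morphism, t : T → Y a scheme affine over Y, ξ : Z → T a morphism with
Z affine over Y via ξ followed by t, and ι : Z → X a closed immersion over Y; assume every point of
Y has an affine open neighbourhood U together with an affine open V of X inside the preimage of U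
containing the image under ι of the part of Z over U. Then the push-out of X and T along Z exists in
the category of schemes. (The published statement adds that this push-out is the push-out of ringed
spaces and, with its evident map to Y, the push-out of schemes over Y; those clauses are not
restated.) -/
theorem result {X Y T Z : Scheme.{u}} (f : X ⟶ Y) (t : T ⟶ Y) (ξ : Z ⟶ T) (ι : Z ⟶ X)
    [IsAffineHom t] [IsAffineHom (ξ ≫ t)] [IsClosedImmersion ι] (hsq : ι ≫ f = ξ ≫ t)
    (hstd : ∀ y : Y, ∃ U : Y.Opens, IsAffineOpen U ∧ y ∈ U ∧ ∃ V : X.Opens, IsAffineOpen V ∧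
      V ≤ f ⁻¹ᵁ U ∧ ∀ z : Z, (ξ ≫ t).base z ∈ U → ι.base z ∈ V) :
    ∃ (P : Scheme.{u}) (a : X ⟶ P) (b : T ⟶ P), IsPushout ι ξ a b := by
  have h : CategoryTheory.IsPushout ι.toLRSHom ξ.toLRSHom (CategoryTheory.Limits.pushout.inl ι.toLRSHom ξ.toLRSHom)
      (CategoryTheory.Limits.pushout.inr ι.toLRSHom ξ.toLRSHom) := CategoryTheory.IsPushout.of_hasPushout _ _
  -- the matched pair over a point of `Y`
  have hpair : ∀ y : Y, ∃ (V : X.Opens) (W : T.Opens), IsAffineOpen V ∧ IsAffineOpen W ∧
      ι ⁻¹ᵁ V = ξ ⁻¹ᵁ W ∧ (∀ τ : T, t.base τ = y → τ ∈ W) ∧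
      (∀ z : Z, (ξ ≫ t).base z = y → ι.base z ∈ V) := by
    intro y
    obtain ⟨U, hU, hyU, V, hV, hVU, hZV⟩ := hstd y
    refine ⟨V, t ⁻¹ᵁ U, hV, hU.preimage t, ?_, ?_, ?_⟩
    · ext z
      constructor
      · intro hz
        have h1 : ι.base z ∈ f ⁻¹ᵁ U := hVU hz
        have h2 : (ι ≫ f).base z ∈ U := h1
        rw [hsq] at h2
        exact h2
      · intro hz
        exact hZV z hz
    · intro τ hτ
      change t.base τ ∈ U
      rw [hτ]
      exact hyU
    · intro z hz
      apply hZV z
      rw [hz]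
      exact hyU
  have hcov : Groth.Agent.H87.FerrScheme.Covered (CategoryTheory.Limits.pushout.inl ι.toLRSHom ξ.toLRSHom)
      (CategoryTheory.Limits.pushout.inr ι.toLRSHom ξ.toLRSHom) := by
    apply Groth.Agent.H87.FerrScheme.covered_of_pairs h
    · intro x
      by_cases hx : x ∈ Set.range ι.base
      · obtain ⟨z, rfl⟩ := hx
        obtain ⟨V, W, hV, hW, hVW, -, hz⟩ := hpair ((ξ ≫ t).base z)
        exact ⟨V, W, hV, hW, hVW, hz z rfl⟩
      · exact Groth.Agent.H87.FerrMatch.exists_matched_left ι ξ x hx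
    · intro τ
      obtain ⟨V, W, hV, hW, hVW, hτ, -⟩ := hpair (t.base τ)
      exact ⟨V, W, hV, hW, hVW, hτ τ rfl⟩
  exact ⟨Groth.Agent.H87.FerrScheme.scheme h hcov, Groth.Agent.H87.FerrScheme.inl h hcov,
    Groth.Agent.H87.FerrScheme.inr h hcov, Groth.Agent.H87.FerrScheme.isPushout h hcov⟩

end Groth.Agent.S15943
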