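import Groth.Statements.S1598
import Groth.Agent.H13.ComplFibreSch
import Groth.Agent.H20.ComplNoeth2

set_option autoImplicit false
universe u
open CategoryTheory CategoryTheory.Limits AlgebraicGeometry
open Resolve

namespace Groth.Agent.S1598

/-- Let A be a Noetherian local ring with completion A^, X locally of finite type over Spec A, Y its
base change to Spec A^, and y a point of Y lying over the closed point of Spec A^ with image x in X.
Then the local ring of Y at y is regular if and only if the local ring of X at x is regular. -/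
theorem result (A : Type u) [CommRing A] [IsLocalRing A] [IsNoetherianRing A]
    (X : Scheme.{u}) (f : X ⟶ Spec (CommRingCat.of A)) [LocallyOfFiniteType f]
    (y : Curv2.bcCpl A f) (hy : (Curv2.bcCplSnd A f).base y = IsLocalRing.closedPoint (Curv2.cpl A)) :
    IsRegularLocalRing ((Curv2.bcCpl A f).presheaf.stalk y) ↔
      IsRegularLocalRing (X.presheaf.stalk ((Curv2.bcCplFst A f).base y)) := by
  have hNÂ : IsNoetherianRing (Curv2.cpl A) :=
    Groth.Agent.H20.isNoetherianRing_adicCompletion (IsLocalRing.maximalIdeal A)
  have hflatÂ : Module.Flat A (Curv2.cpl A) := inferInstance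
  have hX : IsLocallyNoetherian X := LocallyOfFiniteType.isLocallyNoetherian f
  have hY : IsLocallyNoetherian (Curv2.bcCpl A f) :=
    LocallyOfFiniteType.isLocallyNoetherian (Curv2.bcCplSnd A f)
  have hc : Flat (Spec.map (CommRingCat.ofHom (algebraMap A (Curv2.cpl A)))) := by
    rw [Flat.SpecMap_iff]
    exact (RingHom.flat_algebraMap_iff).mpr hflatÂ
  have hg : Flat (Curv2.bcCplFst A f) := inferInstance
  have hfl := Flat.stalkMap (Curv2.bcCplFst A f) y
  let _ : Algebra (X.presheaf.stalk ((Curv2.bcCplFst A f).base y))
      ((Curv2.bcCpl A f).presheaf.stalk y) := ((Curv2.bcCplFst A f).stalkMap y).hom.toAlgebra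
  have : Module.Flat (X.presheaf.stalk ((Curv2.bcCplFst A f).base y))
      ((Curv2.bcCpl A f).presheaf.stalk y) := hfl
  have : IsLocalHom (algebraMap (X.presheaf.stalk ((Curv2.bcCplFst A f).base y))
      ((Curv2.bcCpl A f).presheaf.stalk y)) := (Curv2.bcCplFst A f).toLRSHom.prop y
  exact Groth.Agent.H20.isRegularLocalRing_iff_of_flat_of_map_maximalIdeal
    (Groth.Agent.H13.ComplFibre.fibreIdeal_eq_maximalIdeal A f y hy)

end Groth.Agent.S1598
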