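import Groth.Statements.S1597
import Groth.Agent.S1598
import Groth.Agent.H13.RegSpecializes

set_option autoImplicit false
universe u
open CategoryTheory CategoryTheory.Limits AlgebraicGeometry
open Resolve

namespace Groth.Agent.S1597

/-- Let A be a Noetherian local ring with completion A^, X a scheme proper over Spec A and Y its base
change to Spec A^. Then all local rings of X are regular if and only if all local rings of Y are
regular. -/
theorem result (A : Type u) [CommRing A] [IsLocalRing A] [IsNoetherianRing A]
    (X : Scheme.{u}) (f : X ⟶ Spec (CommRingCat.of A)) [IsProper f] :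
    (∀ x : X, IsRegularLocalRing (X.presheaf.stalk x)) ↔
      ∀ y : Curv2.bcCpl A f, IsRegularLocalRing ((Curv2.bcCpl A f).presheaf.stalk y) := by
  have hflatÂ : Module.Flat A (Curv2.cpl A) := inferInstance
  have hc : Flat (Spec.map (CommRingCat.ofHom (algebraMap A (Curv2.cpl A)))) := by
    rw [Flat.SpecMap_iff]
    exact (RingHom.flat_algebraMap_iff).mpr hflatÂ
  have hg : Flat (Curv2.bcCplFst A f) := inferInstance
  constructor
  · intro hX y
    have hprop : IsProper (Curv2.bcCplSnd A f) := inferInstance
    have hcomp : CompactSpace ↥(Curv2.bcCpl A f) :=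
      QuasiCompact.compactSpace_of_compactSpace (Curv2.bcCplSnd A f)
    obtain ⟨y₀, hy₀, hcl⟩ := IsClosed.exists_closed_singleton
      (isClosed_closure (s := ({y} : Set ↥(Curv2.bcCpl A f)))) ⟨y, subset_closure rfl⟩
    have hspec : y ⤳ y₀ := specializes_iff_mem_closure.mpr hy₀
    have himg : IsClosed ({(Curv2.bcCplSnd A f).base y₀} : Set ↥(Spec (CommRingCat.of (Curv2.cpl A)))) := by
      have h1 := (Curv2.bcCplSnd A f).isClosedMap _ hcl
      rwa [Set.image_singleton] at h1
    have hpt : (Curv2.bcCplSnd A f).base y₀ = IsLocalRing.closedPoint (Curv2.cpl A) := by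
      have h2 := (PrimeSpectrum.isClosed_singleton_iff_isMaximal _).mp himg
      exact PrimeSpectrum.ext (IsLocalRing.eq_maximalIdeal h2)
    exact Groth.Agent.H13.RegSpec.isRegularLocalRing_stalk_of_specializes hspec
      ((Groth.Agent.S1598.result A X f y₀ hpt).mpr (hX _))
  · intro hY x
    have hff : Module.FaithfullyFlat A (Curv2.cpl A) := Module.FaithfullyFlat.of_flat_of_isLocalHom
    have hsurjc : Surjective (Spec.map (CommRingCat.ofHom (algebraMap A (Curv2.cpl A)))) :=
      ⟨PrimeSpectrum.comap_surjective_of_faithfullyFlat⟩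
    have hsurj : Surjective (Curv2.bcCplFst A f) := inferInstance
    obtain ⟨y, rfl⟩ := (Curv2.bcCplFst A f).surjective x
    have hXN : IsLocallyNoetherian X := LocallyOfFiniteType.isLocallyNoetherian f
    exact Groth.Agent.H53.isRegularLocalRing_stalk_of_flat (Curv2.bcCplFst A f) y (hY y)

end Groth.Agent.S1597
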