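import Groth.Statements.S15987
import Groth.Agent.H79.DualNum

set_option autoImplicit false
universe u v
open Deform

namespace Groth.Agent.S15987

open TrivSqZeroExt in
/-- Let k be a field, A a commutative k-algebra and q_i : A → k (i ∈ ι) k-algebra maps (marked k-points
of Spec A). The k-algebra automorphisms φ of the ring of dual numbers A[ε] that fix ε (so are
k[ε]-linear), are the identity modulo ε, and satisfy q_i((φ x)_ε) = q_i(x_ε) for all i and x
(compatibility with the trivial lifts A[ε] → k[ε] of the marked points) are in bijection with the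
k-derivations D : A → A such that q_i ∘ D = 0 for every i, the bijection sending φ to a ↦ (φ(a))_ε.
(The source identifies the right-hand side with the global vector fields vanishing at the marked
points; the condition the computation yields is q_i ∘ D = 0, which is the same for Spec A smooth
over k but is weaker in general, e.g. for A = k[x]/(x^2) with 2 invertible in k.) -/
theorem result
    (k : Type u) [Field k] (A : Type u) [CommRing A] [Algebra k A] {ι : Type v} (q : ι → (A →ₐ[k] k)) :
    ∃ e : {φ : DualNumber A ≃ₐ[k] DualNumber A //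
            φ DualNumber.eps = DualNumber.eps ∧ (∀ x, (φ x).fst = x.fst) ∧
              ∀ i x, q i (φ x).snd = q i x.snd} ≃
          {D : Derivation k A A // ∀ i a, q i (D a) = 0},
      ∀ φ (a : A), (e φ).1 a = (φ.1 (inl a : DualNumber A)).snd := by
  refine ⟨{
    toFun := fun φ => ⟨Groth.Agent.H79.derivOfAut φ.1 φ.2.2.1, fun i a => ?_⟩
    invFun := fun D => ⟨Groth.Agent.H79.dualAut D.1, ?_, ?_, ?_⟩
    left_inv := ?_
    right_inv := ?_ }, ?_⟩
  · -- marked points
    have h := φ.2.2.2 i (inl a : DualNumber A)
    rw [Groth.Agent.H79.derivOfAut_apply]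
    simpa using h
  · rw [Groth.Agent.H79.dualAut_apply]
    ext
    · rw [Groth.Agent.H79.dualAutHom_fst]
    · rw [Groth.Agent.H79.dualAutHom_snd]; simp
  · intro x
    rw [Groth.Agent.H79.dualAut_apply, Groth.Agent.H79.dualAutHom_fst]
  · intro i x
    rw [Groth.Agent.H79.dualAut_apply, Groth.Agent.H79.dualAutHom_snd, map_add, D.2 i, add_zero]
  · intro φ
    apply Subtype.ext
    apply AlgEquiv.ext
    intro x
    change Groth.Agent.H79.dualAut (Groth.Agent.H79.derivOfAut φ.1 φ.2.2.1) x = φ.1 x
    rw [Groth.Agent.H79.dualAut_apply]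
    ext
    · rw [Groth.Agent.H79.dualAutHom_fst, φ.2.2.1]
    · rw [Groth.Agent.H79.dualAutHom_snd, Groth.Agent.H79.aut_snd φ.1 φ.2.1 φ.2.2.1,
        Groth.Agent.H79.derivOfAut_apply]
  · intro D
    apply Subtype.ext
    apply Derivation.ext
    intro a
    change (Groth.Agent.H79.dualAut D.1 (inl a : DualNumber A)).snd = D.1 a
    rw [Groth.Agent.H79.dualAut_apply, Groth.Agent.H79.dualAutHom_snd]
    simp
  · intro φ a
    rfl

end Groth.Agent.S15987
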