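import Groth.Statements.S1599
import Groth.Agent.H13.ComplNormalSub
-- import your own Groth.Agent.* helpers here

set_option autoImplicit false
set_option linter.style.haveILetI false
universe u
open CategoryTheory CategoryTheory.Limits AlgebraicGeometry
open Resolve

namespace Groth.Agent.S1599

/-- Let A be a Noetherian local ring with maximal ideal m and B ⊆ C finite A-algebras. If B is a normal
ring and the m-adic completion of C is a normal ring, then the m-adic completion of B is a normal
ring. -/
theorem result (A : Type u) [CommRing A] [IsLocalRing A] [IsNoetherianRing A]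
    (B C : Type u) [CommRing B] [CommRing C] [Algebra A B] [Algebra A C] [Algebra B C] [IsScalarTower A B C]
    [Module.Finite A B] [Module.Finite A C] (hinj : Function.Injective (algebraMap B C))
    (hB : EGA4.IsNormalRing B)
    (hC : EGA4.IsNormalRing (AdicCompletion ((IsLocalRing.maximalIdeal A).map (algebraMap A C)) C)) :
    EGA4.IsNormalRing (AdicCompletion ((IsLocalRing.maximalIdeal A).map (algebraMap A B)) B) := by
  classical
  let m := IsLocalRing.maximalIdeal A
  let Â := AdicCompletion m A
  haveI : IsNoetherianRing Â := inferInstance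
  haveI : Module.Flat A Â := inferInstance
  haveI : Module.FaithfullyFlat A Â := Module.FaithfullyFlat.of_flat_of_isLocalHom
  haveI : IsNoetherianRing B := IsNoetherianRing.of_finite A B
  haveI : Module.Finite B C := Module.Finite.of_restrictScalars_finite A B C
  haveI : Algebra.IsIntegral B C := Algebra.IsIntegral.of_finite B C
  obtain ⟨eB⟩ := Groth.Agent.H72.FinRedCpl.nonempty_ringEquiv_adicCompletion A B
    (m.map (algebraMap A B)) le_rfl 0 (by rw [zero_add, pow_one])
  obtain ⟨eC⟩ := Groth.Agent.H72.FinRedCpl.nonempty_ringEquiv_adicCompletion A C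
    (m.map (algebraMap A C)) le_rfl 0 (by rw [zero_add, pow_one])
  have hC₁ : EGA4.IsNormalRing (TensorProduct A C Â) :=
    Groth.Agent.H47.isNormalRing_of_ringEquiv eC hC
  have hCn : EGA4.IsNormalRing C :=
    Groth.Agent.H47.SN.isNormalRing_of_faithfullyFlat C (TensorProduct A C Â) hC₁
  haveI : IsNoetherianRing (AdicCompletion (m.map (algebraMap A B)) B) := inferInstance
  haveI : IsNoetherianRing (TensorProduct A B Â) := isNoetherianRing_of_ringEquiv _ eB
  let e₁ : TensorProduct B (TensorProduct A B Â) C ≃+* TensorProduct A C Â :=
    ((Algebra.TensorProduct.comm B (TensorProduct A B Â) C).trans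
      (Algebra.TensorProduct.cancelBaseChange A B B C Â)).toRingEquiv
  have hC₂ : EGA4.IsNormalRing (TensorProduct B (TensorProduct A B Â) C) :=
    Groth.Agent.H47.isNormalRing_of_ringEquiv e₁.symm hC₁
  have hB' : EGA4.IsNormalRing (TensorProduct A B Â) :=
    Groth.Agent.H13.ComplNormalSub.isNormalRing_of_tensor B (TensorProduct A B Â) C hinj hB hCn hC₂
  exact Groth.Agent.H47.isNormalRing_of_ringEquiv eB.symm hB'

end Groth.Agent.S1599
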