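import Groth.Statements.S15990
import Groth.Agent.H11.SectionReg

set_option autoImplicit false
universe u
open SDiv

namespace Groth.Agent.S15990

open AlgebraicGeometry CategoryTheory in
/-- Let f : X → Y be separated and smooth of relative dimension 1 and let σ : Y → X be a section of f.
Then σ(Y) is a relative effective Cartier divisor on X/Y: the kernel ideal sheaf of the closed
immersion σ is the ideal sheaf of an effective Cartier divisor (locally on affine opens generated by
one nonzerodivisor) and the closed subscheme it defines is flat over Y. (The source adds the special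
case of the diagonal of X ×_Y X, a section of the first projection.) -/
theorem result
    {X Y : Scheme.{u}} (f : X ⟶ Y) [IsSeparated f] [SmoothOfRelativeDimension 1 f]
    (σ : Y ⟶ X) (hσ : σ ≫ f = 𝟙 Y) :
    BlowUp.IsEffCartierIdeal σ.ker ∧ Flat (σ.ker.subschemeι ≫ f) := by
  haveI : IsClosedImmersion (σ ≫ f) := by rw [hσ]; infer_instance
  haveI hcl : IsClosedImmersion σ := IsClosedImmersion.of_comp σ f
  constructor
  · intro x
    by_cases hx : x ∈ Set.range σ.base
    · obtain ⟨y, rfl⟩ := hx
      obtain ⟨U, hU, hyU, rs, hreg, hker⟩ :=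
        Groth.Agent.H11.SectionReg.exists_regular_of_etale f (𝟙 Y) 1 σ hσ y
      refine ⟨⟨U, hU⟩, hyU, rs 0, ?_, ?_⟩
      · have h1 : List.ofFn rs = [rs 0] := by simp [List.ofFn_succ]
        rw [h1, RingTheory.Sequence.isWeaklyRegular_cons_iff] at hreg
        have h2 : IsSMulRegular Γ(X, U) (rs 0) := hreg.1
        have h3 : IsLeftRegular (rs 0) := h2.isLeftRegular
        exact ((Commute.isRegular_iff (fun b => Commute.all _ b)).mpr h3).mem_nonZeroDivisors
      · rw [Scheme.Hom.ker_apply, hker]
        congr 1
        ext t
        constructor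
        · rintro ⟨k, rfl⟩
          rw [Subsingleton.elim k 0]; rfl
        · rintro rfl
          exact ⟨0, rfl⟩
    · have hclosed : IsClosed (Set.range σ.base) := σ.isClosedEmbedding.isClosed_range
      obtain ⟨_, ⟨U, hU, rfl⟩, hxU, hUle⟩ :=
        X.isBasis_affineOpens.exists_subset_of_mem_open hx hclosed.isOpen_compl
      refine ⟨⟨U, hU⟩, hxU, 1, one_mem _, ?_⟩
      rw [Ideal.span_singleton_one, Scheme.Hom.ker_apply]
      have hbot : σ ⁻¹ᵁ U = ⊥ := by
        ext z
        simp only [TopologicalSpace.Opens.coe_bot, Set.mem_empty_iff_false, iff_false]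
        intro hz
        exact hUle hz ⟨z, rfl⟩
      haveI : Subsingleton Γ(Y, σ ⁻¹ᵁ U) := by
        rw [hbot]
        exact CommRingCat.subsingleton_of_isTerminal Y.sheaf.isTerminalOfEmpty
      rw [Ideal.eq_top_iff_one, RingHom.mem_ker]
      exact Subsingleton.elim _ _
  · have h1 : σ.ker.subschemeι ≫ f = inv σ.toImage := by
      rw [← cancel_epi σ.toImage, ← Category.assoc]
      have h2 : σ.toImage ≫ σ.ker.subschemeι = σ := σ.toImage_imageι
      rw [h2, hσ, IsIso.hom_inv_id]
    rw [h1]
    infer_instance


end Groth.Agent.S15990
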