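import Groth.Statements.S16001
import Mathlib.RingTheory.Ideal.Quotient.Operations

set_option autoImplicit false
universe u
open FrobAlg

namespace Groth.Agent.S16001

open TensorProduct

/-- A copy of `C` carrying the `A`-algebra structure twisted by Frobenius. -/
def TwC (_p : ℕ) (C : Type u) : Type u := C

instance (p : ℕ) (C : Type u) [CommRing C] : CommRing (TwC p C) := inferInstanceAs (CommRing C)

/-- identity of underlying rings -/
def toTwC (p : ℕ) (C : Type u) [CommRing C] : C ≃+* TwC p C := RingEquiv.refl C

instance (p : ℕ) [Fact p.Prime] (A : Type u) [CommRing A] (C : Type u) [CommRing C] [Algebra A C]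
    [CharP C p] : Algebra A (TwC p C) :=
  ((toTwC p C : C →+* TwC p C).comp ((frobenius C p).comp (algebraMap A C))).toAlgebra

theorem algebraMap_TwC (p : ℕ) [Fact p.Prime] (A : Type u) [CommRing A] (C : Type u) [CommRing C]
    [Algebra A C] [CharP C p] (a : A) :
    algebraMap A (TwC p C) a = toTwC p C ((algebraMap A C a) ^ p) := rfl

theorem relFrob_tmul (p : ℕ) [Fact p.Prime] (A : Type u) [CommRing A] [CharP A p]
    (B : Type u) [CommRing B] [Algebra A B] [CharP B p] (b : B) (a : Twist p A) :
    FrobAlg.relFrob p A B (b ⊗ₜ[A] a) = b ^ p * algebraMap A B ((toTwist p A).symm a) := by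
  simp only [relFrob, AlgHom.toRingHom_eq_coe, RingHom.coe_comp, RingHom.coe_coe,
    Function.comp_apply, Algebra.TensorProduct.lift_tmul, map_mul]
  rfl

/-- Let A be a commutative ring of prime characteristic p and B a commutative A-algebra of
characteristic p such that the relative Frobenius B ⊗_{A,Frob} A → B, b ⊗ a ↦ b^p a, is bijective
(that is, Spec B → Spec A is relatively perfect; no finiteness condition is imposed). Then B is
formally étale over A. (The source proves that every perfect algebraic stack over an algebraic space
of characteristic p is formally étale over it; this is the case of an affine scheme over an affine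
base.) -/
theorem result (p : ℕ) [Fact p.Prime] (A : Type u) [CommRing A] [CharP A p]
    (B : Type u) [CommRing B] [Algebra A B] [CharP B p]
    (h : Function.Bijective (FrobAlg.relFrob p A B)) : Algebra.FormallyEtale A B := by
  rw [Algebra.FormallyEtale.iff_comp_bijective]
  intro C _ _ J hJ
  rcases subsingleton_or_nontrivial C with hC | hC
  · constructor
    · intro f g _
      ext b
      exact Subsingleton.elim _ _
    · intro f
      have hbij : Function.Bijective (Ideal.Quotient.mkₐ A J) :=
        ⟨fun x y _ => Subsingleton.elim _ _, Ideal.Quotient.mkₐ_surjective A J⟩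
      refine ⟨((AlgEquiv.ofBijective (Ideal.Quotient.mkₐ A J) hbij).symm : (C ⧸ J) →ₐ[A] C).comp f, ?_⟩
      ext b
      simp only [AlgHom.comp_apply]
      exact (AlgEquiv.ofBijective (Ideal.Quotient.mkₐ A J) hbij).apply_symm_apply (f b)
  have hp : (p : C) = 0 := by
    rw [← map_natCast (algebraMap A C) p, CharP.cast_eq_zero, map_zero]
  have : CharP C p := (CharP.charP_iff_prime_eq_zero (Fact.out : p.Prime)).2 hp
  have hp2 : 2 ≤ p := (Fact.out : p.Prime).two_le
  have hJp : ∀ j ∈ J, (frobenius C p) j = 0 := by
    intro j hj
    have h2 : j ^ 2 ∈ J ^ 2 := Ideal.pow_mem_pow hj 2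
    rw [hJ, Ideal.mem_bot] at h2
    rw [frobenius_def, ← Nat.sub_add_cancel hp2, pow_add, h2, mul_zero]
  let φ : C ⧸ J →+* C := Ideal.Quotient.lift J (frobenius C p) hJp
  have hφ : ∀ c : C, φ (Ideal.Quotient.mk J c) = c ^ p := fun c => by
    simp only [φ, Ideal.Quotient.lift_mk, frobenius_def]
  have hφmk : ∀ y : C ⧸ J, Ideal.Quotient.mk J (φ y) = y ^ p := by
    intro y
    obtain ⟨c, rfl⟩ := Ideal.Quotient.mk_surjective y
    rw [hφ, map_pow]
  have hφeq : ∀ c d : C, Ideal.Quotient.mk J c = Ideal.Quotient.mk J d → c ^ p = d ^ p := by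
    intro c d hcd
    rw [← hφ c, ← hφ d, hcd]
  constructor
  · -- injectivity
    intro g₁ g₂ hg
    have hg' : ∀ b : B, Ideal.Quotient.mk J (g₁ b) = Ideal.Quotient.mk J (g₂ b) := by
      intro b
      exact congrArg (fun f : B →ₐ[A] C ⧸ J => f b) hg
    have key : ∀ x : FrobAlg.BaseChange p A B,
        g₁ (FrobAlg.relFrob p A B x) = g₂ (FrobAlg.relFrob p A B x) := by
      intro x
      induction x using TensorProduct.induction_on with
      | zero => simp
      | tmul b a =>
        rw [relFrob_tmul, map_mul, map_mul, map_pow, map_pow, AlgHom.commutes, AlgHom.commutes,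
          hφeq _ _ (hg' b)]
      | add x y hx hy => rw [map_add, map_add, map_add, hx, hy]
    ext b
    obtain ⟨x, rfl⟩ := h.2 b
    exact key x
  · -- surjectivity
    intro gbar
    let f₁ : B →ₐ[A] TwC p C :=
      { toRingHom := (toTwC p C : C →+* TwC p C).comp (φ.comp gbar.toRingHom)
        commutes' := by
          intro a
          change toTwC p C (φ (gbar (algebraMap A B a))) = _
          rw [AlgHom.commutes, algebraMap_TwC, ← Ideal.Quotient.mk_algebraMap, hφ] }
    let f₂ : Twist p A →ₐ[A] TwC p C :=
      { toRingHom := (toTwC p C : C →+* TwC p C).comp ((algebraMap A C).comp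
          ((toTwist p A).symm : Twist p A →+* A))
        commutes' := by
          intro a
          change toTwC p C (algebraMap A C ((toTwist p A).symm (algebraMap A (Twist p A) a))) = _
          rw [algebraMap_twist, algebraMap_TwC, RingEquiv.symm_apply_apply, map_pow] }
    let hl : FrobAlg.BaseChange p A B →ₐ[A] TwC p C :=
      Algebra.TensorProduct.lift f₁ f₂ (fun _ _ => Commute.all _ _)
    let hl' : FrobAlg.BaseChange p A B →+* C :=
      ((toTwC p C).symm : TwC p C →+* C).comp hl.toRingHom
    have hl'_tmul : ∀ (b : B) (a : Twist p A),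
        hl' (b ⊗ₜ[A] a) = φ (gbar b) * algebraMap A C ((toTwist p A).symm a) := by
      intro b a
      simp only [hl', hl, AlgHom.toRingHom_eq_coe, RingHom.coe_comp, RingHom.coe_coe,
        Function.comp_apply, Algebra.TensorProduct.lift_tmul, map_mul]
      rfl
    let e : FrobAlg.BaseChange p A B ≃+* B := RingEquiv.ofBijective (FrobAlg.relFrob p A B) h
    have he : ∀ x, e x = FrobAlg.relFrob p A B x := fun x => rfl
    have key : ∀ x : FrobAlg.BaseChange p A B,
        Ideal.Quotient.mk J (hl' x) = gbar (FrobAlg.relFrob p A B x) := by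
      intro x
      induction x using TensorProduct.induction_on with
      | zero => simp
      | tmul b a =>
        rw [hl'_tmul, relFrob_tmul, map_mul, map_mul, hφmk, map_pow, AlgHom.commutes,
          Ideal.Quotient.mk_algebraMap]
      | add x y hx hy => rw [map_add, map_add, map_add, map_add, hx, hy]
    let g : B →ₐ[A] C :=
      { toRingHom := hl'.comp (e.symm : B →+* FrobAlg.BaseChange p A B)
        commutes' := by
          intro a
          change hl' (e.symm (algebraMap A B a)) = _
          have h1 : e ((1 : B) ⊗ₜ[A] (toTwist p A a)) = algebraMap A B a := by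
            rw [he, relFrob_tmul, one_pow, one_mul, RingEquiv.symm_apply_apply]
          rw [← h1, RingEquiv.symm_apply_apply, hl'_tmul, map_one, map_one, one_mul,
            RingEquiv.symm_apply_apply] }
    refine ⟨g, ?_⟩
    ext b
    change Ideal.Quotient.mk J (hl' (e.symm b)) = gbar b
    rw [key, ← he, RingEquiv.apply_symm_apply]

end Groth.Agent.S16001
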