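import Groth.Statements.S16014
import Mathlib.Algebra.BigOperators.Ring.Finset
import Mathlib.Algebra.BigOperators.Intervals
import Mathlib.Tactic.Ring
import Mathlib.Tactic.Linarith
import Mathlib.Tactic.Push

set_option autoImplicit false
universe u
open W4c3ghconstell

namespace Groth.Agent.S16014

/-- Let B = ⊕_{n ∈ ℤ} ⊕_τ B^n_τ be a bigraded finite-dimensional vector space, τ running over a finite
index set, with B^n = 0 for n < −N and for n > M (N, M integers); put d(n, τ) = dim B^n_τ. For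
rational numbers φ_τ write φ(C) = Σ_τ φ_τ dim C_τ for a τ-graded piece C, and let B^{≥n} = ⊕_{m ≥ n}
B^m, so that dim B^{≥n}_τ = Σ_{n ≤ m ≤ M} d(m, τ). Then Σ_{−N ≤ n ≤ M} n · φ(B^n) = Σ_{−N+1 ≤ n ≤ M}
φ(B^{≥n}) − N · φ(B). (Stated directly on the dimension function d.) -/
theorem result {τ : Type u} [Fintype τ] (d : ℤ → τ → ℕ) (φ : τ → ℚ) (N M : ℤ)
    (hN : ∀ n, n < -N → d n = 0) (hM : ∀ n, M < n → d n = 0) :
    ∑ n ∈ Finset.Icc (-N) M, (n : ℚ) * (∑ t, φ t * (d n t : ℚ)) =
      ∑ n ∈ Finset.Icc (-N + 1) M, (∑ t, φ t * (∑ m ∈ Finset.Icc n M, (d m t : ℚ))) -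
        (N : ℚ) * (∑ t, φ t * (∑ m ∈ Finset.Icc (-N) M, (d m t : ℚ))) := by
  classical
  set e : ℤ → ℚ := fun n => ∑ t, φ t * (d n t : ℚ) with he
  have hswap : ∀ I : Finset ℤ, (∑ t, φ t * (∑ m ∈ I, (d m t : ℚ))) = ∑ m ∈ I, e m := by
    intro I
    simp only [he, Finset.mul_sum]
    rw [Finset.sum_comm]
  have key : ∀ (a b : ℤ), ∑ n ∈ Finset.Icc (a + 1) b, ∑ m ∈ Finset.Icc n b, e m =
      ∑ m ∈ Finset.Icc a b, ((m : ℚ) - a) * e m := by
    intro a b
    rw [Finset.sum_comm' (s' := fun m => Finset.Icc (a + 1) m) (t' := Finset.Icc (a + 1) b)]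
    · simp only [Finset.sum_const, nsmul_eq_mul, Int.card_Icc]
      by_cases hab : a ≤ b
      · have : Finset.Icc a b = insert a (Finset.Icc (a + 1) b) := by
          ext x; simp only [Finset.mem_Icc, Finset.mem_insert]; omega
        rw [this, Finset.sum_insert (by simp)]
        simp only [sub_self, zero_mul, zero_add]
        refine Finset.sum_congr rfl fun m hm => ?_
        rw [Finset.mem_Icc] at hm
        have : ((m + 1 - (a + 1)).toNat : ℤ) = m - a := by omega
        have h2 : (((m + 1 - (a + 1)).toNat : ℕ) : ℚ) = (m : ℚ) - a := by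
          rw [← Int.cast_natCast, this]; push_cast; ring
        rw [h2]
      · have h1 : Finset.Icc a b = ∅ := Finset.Icc_eq_empty (by omega)
        have h2 : Finset.Icc (a + 1) b = ∅ := Finset.Icc_eq_empty (by omega)
        rw [h1, h2]; simp
    · intro x y
      simp only [Finset.mem_Icc]; omega
  simp only [hswap]
  rw [key (-N) M]
  rw [Finset.mul_sum, ← Finset.sum_sub_distrib]
  refine Finset.sum_congr rfl fun m _ => ?_
  push_cast
  ring

end Groth.Agent.S16014
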