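import Groth.Statements.S16015
import Mathlib.RingTheory.Ideal.Quotient.Operations
import Mathlib.LinearAlgebra.TensorProduct.Tower
open scoped TensorProduct

set_option autoImplicit false
universe u v w
open W4c3ghconstell

namespace Groth.Agent.S16015

/-- Let B be a commutative ring, E a B-module, F a finitely generated projective B-module and β : E → F
a B-linear map. Then there is a unique ideal I of B such that for every commutative B-algebra C the
base change β_C : C ⊗ E → C ⊗ F is zero if and only if the structure map B → C kills I. (The
published statement is for a homomorphism of modules on a scheme T into a locally free module and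
produces a closed subscheme T₀ through which a morphism factors exactly when the pulled-back
homomorphism vanishes; this row is the case of an affine T with affine test schemes and F of finite
rank, to which it reduces.) -/
theorem result {B : Type u} [CommRing B]
    {E : Type v} [AddCommGroup E] [Module B E]
    {F : Type w} [AddCommGroup F] [Module B F] [Module.Finite B F] [Module.Projective B F]
    (β : E →ₗ[B] F) :
    ∃! I : Ideal B, ∀ (C : Type u) [CommRing C] [Algebra B C],
      LinearMap.baseChange C β = 0 ↔ I ≤ RingHom.ker (algebraMap B C) := by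
  classical
  -- the content ideal of β
  let I : Ideal B := Ideal.span {b : B | ∃ (ψ : F →ₗ[B] B) (e : E), ψ (β e) = b}
  have hI : ∀ (C : Type u) [CommRing C] [Algebra B C],
      LinearMap.baseChange C β = 0 ↔ I ≤ RingHom.ker (algebraMap B C) := by
    intro C _ _
    constructor
    · intro h0
      refine Ideal.span_le.2 ?_
      rintro _ ⟨ψ, e, rfl⟩
      rw [SetLike.mem_coe, RingHom.mem_ker]
      have h1 : (LinearMap.baseChange C ψ) ((LinearMap.baseChange C β) ((1 : C) ⊗ₜ[B] e)) = 0 := by
        rw [h0]; simp
      rw [LinearMap.baseChange_tmul, LinearMap.baseChange_tmul] at h1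
      have h2 := congrArg (TensorProduct.rid B C) h1
      rw [TensorProduct.rid_tmul, map_zero] at h2
      rw [Algebra.algebraMap_eq_smul_one]
      exact h2
    · intro hle
      obtain ⟨s, hs⟩ := (Module.Projective.out : ∃ s : F →ₗ[B] F →₀ B,
        Function.LeftInverse (Finsupp.linearCombination B id) s)
      apply TensorProduct.AlgebraTensorModule.ext
      intro c e
      rw [LinearMap.baseChange_tmul, LinearMap.zero_apply]
      have hβe : β e = ∑ y ∈ (s (β e)).support, (s (β e) y) • y := by
        conv_lhs => rw [← hs (β e)]
        rw [Finsupp.linearCombination_apply, Finsupp.sum]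
        rfl
      rw [hβe, TensorProduct.tmul_sum]
      refine Finset.sum_eq_zero fun y _ => ?_
      rw [← TensorProduct.smul_tmul]
      have hmem : s (β e) y ∈ I := by
        refine Ideal.subset_span ⟨(Finsupp.lapply y).comp s, e, ?_⟩
        simp
      have := hle hmem
      rw [RingHom.mem_ker] at this
      rw [Algebra.smul_def, this, zero_mul, TensorProduct.zero_tmul]
  refine ⟨I, hI, ?_⟩
  intro I' hI'
  apply le_antisymm
  · -- I' ≤ I : test on B ⧸ I
    have h1 : LinearMap.baseChange (B ⧸ I) β = 0 := (hI (B ⧸ I)).2 (by
      rw [Ideal.Quotient.algebraMap_eq, Ideal.mk_ker])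
    have h2 := (hI' (B ⧸ I)).1 h1
    rwa [Ideal.Quotient.algebraMap_eq, Ideal.mk_ker] at h2
  · have h1 : LinearMap.baseChange (B ⧸ I') β = 0 := (hI' (B ⧸ I')).2 (by
      rw [Ideal.Quotient.algebraMap_eq, Ideal.mk_ker])
    have h2 := (hI (B ⧸ I')).1 h1
    rwa [Ideal.Quotient.algebraMap_eq, Ideal.mk_ker] at h2

end Groth.Agent.S16015
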