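import Groth.Statements.S16016
import Mathlib.Tactic.FinCases
import Mathlib.Tactic.Ring
import Mathlib.LinearAlgebra.Span.Basic

set_option autoImplicit false
universe u
open W4c3ghconstell

namespace Groth.Agent.S16016

/-- Let k be a field with 2 ≠ 0, index k⁶ by two copies of {0,1,2} (basis vectors p₁, p₂, p₃ in the
first copy and p₄, p₅, p₆ in the second), let Q be the symmetric matrix with blocks ((0, 1), (1,
0)), so that the form it defines pairs pᵢ with pᵢ₊₃, and let W₀ be the span of p₁ and p₂. Then a 6 ×
6 matrix A satisfies AᵀQ + QA = 0 (A lies in the orthogonal Lie algebra of Q) and has the image of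
Aᵀ contained in W₀ if and only if A = a · (E₄₂ − E₅₁) for some scalar a, where Eᵢⱼ is the matrix
unit. (The lemma in the source concludes that the set of such A inside a certain nilpotent orbit
closure of this Lie algebra is one-dimensional; this row is the computation its proof performs,
which determines all such A in the Lie algebra. Characteristic 2 is excluded: there E₁₄ᵀ also
qualifies.) -/
theorem result (k : Type u) [Field k] (h2 : (2 : k) ≠ 0)
    (A : Matrix (Fin 3 ⊕ Fin 3) (Fin 3 ⊕ Fin 3) k) :
    (A.transpose * Matrix.fromBlocks (0 : Matrix (Fin 3) (Fin 3) k) 1 1 0 +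
        Matrix.fromBlocks (0 : Matrix (Fin 3) (Fin 3) k) 1 1 0 * A = 0 ∧
      LinearMap.range (Matrix.mulVecLin A.transpose) ≤
        Submodule.span k {Pi.single (Sum.inl 0 : Fin 3 ⊕ Fin 3) (1 : k), Pi.single (Sum.inl 1 : Fin 3 ⊕ Fin 3) (1 : k)}) ↔
    ∃ a : k, A = a • (Matrix.single (Sum.inr 0) (Sum.inl 1) (1 : k) - Matrix.single (Sum.inr 1) (Sum.inl 0) (1 : k)) := by
  classical
  -- description of Q
  have hQ : ∀ l j : Fin 3 ⊕ Fin 3,
      Matrix.fromBlocks (0 : Matrix (Fin 3) (Fin 3) k) 1 1 0 l j = if l = j.swap then 1 else 0 := by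
    intro l j
    rcases l with a | a <;> rcases j with b | b <;> simp [Matrix.one_apply]
  have hentry : ∀ i j : Fin 3 ⊕ Fin 3,
      (A.transpose * Matrix.fromBlocks (0 : Matrix (Fin 3) (Fin 3) k) 1 1 0 +
        Matrix.fromBlocks (0 : Matrix (Fin 3) (Fin 3) k) 1 1 0 * A :
          Matrix (Fin 3 ⊕ Fin 3) (Fin 3 ⊕ Fin 3) k) i j =
      A j.swap i + A i.swap j := by
    intro i j
    rw [Matrix.add_apply, Matrix.mul_apply, Matrix.mul_apply]
    congr 1
    · simp only [hQ, Matrix.transpose_apply, mul_ite, mul_one, mul_zero]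
      rw [Finset.sum_ite_eq' Finset.univ j.swap]
      simp
    · simp only [hQ, ite_mul, one_mul, zero_mul]
      have : ∀ x : Fin 3 ⊕ Fin 3, (i = x.swap) = (x = i.swap) := by
        intro x
        apply propext
        constructor
        · intro h; rw [h, Sum.swap_swap]
        · intro h; rw [h, Sum.swap_swap]
      simp only [this]
      rw [Finset.sum_ite_eq' Finset.univ i.swap]
      simp
  constructor
  · rintro ⟨heq, hrange⟩
    have hE : ∀ i j : Fin 3 ⊕ Fin 3, A j.swap i + A i.swap j = 0 := by
      intro i j
      rw [← hentry, heq]; rfl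
    -- rows of A lie in the span
    have hrow : ∀ i j : Fin 3 ⊕ Fin 3, j ≠ Sum.inl 0 → j ≠ Sum.inl 1 → A i j = 0 := by
      intro i j hj0 hj1
      have hmem : A.transpose.mulVec (Pi.single i 1) ∈
          Submodule.span k {Pi.single (Sum.inl 0 : Fin 3 ⊕ Fin 3) (1 : k),
            Pi.single (Sum.inl 1 : Fin 3 ⊕ Fin 3) (1 : k)} :=
        hrange ⟨Pi.single i 1, rfl⟩
      rw [Submodule.mem_span_pair] at hmem
      obtain ⟨c, d, hcd⟩ := hmem
      have := congrFun hcd j
      rw [Matrix.mulVec_single_one] at this
      simp only [Pi.add_apply, Pi.smul_apply, Pi.single_apply, hj0, hj1, if_false, smul_zero,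
        add_zero, Matrix.col_apply, Matrix.transpose_apply] at this
      exact this.symm
    have hcolr : ∀ i b, A i (Sum.inr b) = 0 := fun i b => hrow i _ (by simp) (by simp)
    have hcol2 : ∀ i, A i (Sum.inl 2) = 0 := fun i => hrow i _ (by simp) (by simp)
    have hll : ∀ a b, A (Sum.inl a) (Sum.inl b) = 0 := by
      intro a b
      have := hE (Sum.inr a) (Sum.inl b)
      simp only [Sum.swap_inl, Sum.swap_inr, hcolr, zero_add] at this
      exact this
    have hdiag : ∀ a, A (Sum.inr a) (Sum.inl a) = 0 := by
      intro a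
      have := hE (Sum.inl a) (Sum.inl a)
      simp only [Sum.swap_inl] at this
      have h2' : (2 : k) * A (Sum.inr a) (Sum.inl a) = 0 := by rw [two_mul]; exact this
      exact (mul_eq_zero.1 h2').resolve_left h2
    have hr2 : ∀ a, A (Sum.inr 2) (Sum.inl a) = 0 := by
      intro a
      have := hE (Sum.inl a) (Sum.inl 2)
      simp only [Sum.swap_inl, hcol2, add_zero] at this
      exact this
    have h10 : A (Sum.inr 1) (Sum.inl 0) = - A (Sum.inr 0) (Sum.inl 1) := by
      have := hE (Sum.inl 0) (Sum.inl 1)
      simp only [Sum.swap_inl] at this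
      exact eq_neg_of_add_eq_zero_left this
    refine ⟨A (Sum.inr 0) (Sum.inl 1), ?_⟩
    ext i j
    rcases i with a | a <;> rcases j with b | b
    · simp [hll, Matrix.single_apply]
    · simp [hcolr, Matrix.single_apply]
    · fin_cases a <;> fin_cases b <;>
        simp [hdiag, hr2, hcol2, h10, Matrix.single_apply]
    · simp [hcolr, Matrix.single_apply]
  · rintro ⟨a, rfl⟩
    constructor
    · ext i j
      rw [hentry]
      rcases i with a' | a' <;> rcases j with b | b <;> fin_cases a' <;> fin_cases b <;>
        simp [Matrix.single_apply]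
    · rintro _ ⟨v, rfl⟩
      rw [Submodule.mem_span_pair]
      refine ⟨-(a * v (Sum.inr 1)), a * v (Sum.inr 0), ?_⟩
      ext j
      rcases j with b | b
      · fin_cases b <;>
          simp [Matrix.mulVec, dotProduct, Fintype.sum_sum_type, Fin.sum_univ_three,
            Matrix.single_apply]
      · simp [Matrix.mulVec, dotProduct, Fintype.sum_sum_type, Fin.sum_univ_three,
            Matrix.single_apply]

end Groth.Agent.S16016
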