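import Groth.Statements.S16017
import Mathlib.Analysis.Normed.Group.InfiniteSum
import Mathlib.Analysis.SpecificLimits.Basic
import Mathlib.Analysis.Normed.Field.Basic

set_option autoImplicit false
universe u
open W4c3ghconstell

namespace Groth.Agent.S16017

/-- Let ι index the irreducible representations, θ : ι → ℚ a weight negative at only finitely many
indices (the finite set D₋), h h' : ι → ℕ with h' ≤ h pointwise (the isotypic dimensions of an
object and of a sub-object) and Σ_i θ_i h_i summable. For a finite set D of indices put S_D = Σ_{i ∉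
D} θ_i h_i, d = #(D ∖ D₋), and θ̃_D = Σ_{i ∈ D} θ_i h'_i + (S_D / d) · Σ_{i ∈ D ∖ D₋} h'_i / h_i,
the modified weight attached to the parameters chosen for D (for D ⊇ D₋ the first sum is the
negative part plus the part over D ∖ D₋). Then θ̃_D tends to Σ_i θ_i h'_i as D grows through the
finite subsets of ι. (Here D runs over all finite sets of indices and a quotient by zero is zero;
the source lets D run over the finite subsets of the locus θ ≠ 0 containing D₋, and the same tail
estimate gives both.) -/
theorem result {ι : Type u} [DecidableEq ι] (θ : ι → ℚ) (h h' : ι → ℕ)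
    (hle : ∀ i, h' i ≤ h i) (hfin : {i | θ i < 0}.Finite)
    (hsum : Summable (fun i => (θ i : ℝ) * (h i : ℝ))) :
    Filter.Tendsto
      (fun D : Finset ι =>
        (∑ i ∈ D, (θ i : ℝ) * (h' i : ℝ)) +
          ((∑' i, if i ∈ D then (0 : ℝ) else (θ i : ℝ) * (h i : ℝ)) / ((D \ hfin.toFinset).card : ℝ)) *
            ∑ i ∈ D \ hfin.toFinset, ((h' i : ℝ) / (h i : ℝ)))
      Filter.atTop (nhds (∑' i, (θ i : ℝ) * (h' i : ℝ))) := by
  classical
  set f : ι → ℝ := fun i => (θ i : ℝ) * (h i : ℝ) with hf
  set f' : ι → ℝ := fun i => (θ i : ℝ) * (h' i : ℝ) with hf'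
  -- summability of the sub-object series
  have hsum' : Summable f' := by
    refine Summable.of_norm_bounded (g := fun i => |f i|) hsum.abs ?_
    intro i
    simp only [hf, hf', Real.norm_eq_abs, abs_mul]
    refine mul_le_mul_of_nonneg_left ?_ (abs_nonneg _)
    rw [Nat.abs_cast, Nat.abs_cast]
    exact_mod_cast hle i
  -- the tails tend to zero
  have htail_eq : ∀ D : Finset ι,
      (∑' i, if i ∈ D then (0 : ℝ) else f i) = (∑' i, f i) - ∑ i ∈ D, f i := by
    intro D
    have hg : Summable (fun i => if i ∈ D then f i else 0) :=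
      summable_of_ne_finset_zero (s := D) (fun i hi => by simp [hi])
    have hgsum : (∑' i, if i ∈ D then f i else 0) = ∑ i ∈ D, f i := by
      rw [tsum_eq_sum (s := D) (fun i hi => by simp [hi])]
      exact Finset.sum_congr rfl fun i hi => by simp [hi]
    rw [← hgsum, ← Summable.tsum_sub hsum hg]
    congr 1
    funext i
    by_cases hi : i ∈ D <;> simp [hi]
  have htail : Filter.Tendsto (fun D : Finset ι => ∑' i, if i ∈ D then (0 : ℝ) else f i)
      Filter.atTop (nhds 0) := by
    simp_rw [htail_eq]
    have h1 : Filter.Tendsto (fun D : Finset ι => ∑ i ∈ D, f i) Filter.atTop (nhds (∑' i, f i)) :=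
      hsum.hasSum
    have h2 := (tendsto_const_nhds (x := ∑' i, f i) (f := Filter.atTop (α := Finset ι))).sub h1
    simpa using h2
  -- the correction term is bounded by the tail
  have hbound : ∀ D : Finset ι,
      ‖((∑' i, if i ∈ D then (0 : ℝ) else f i) / ((D \ hfin.toFinset).card : ℝ)) *
          ∑ i ∈ D \ hfin.toFinset, ((h' i : ℝ) / (h i : ℝ))‖ ≤
        ‖∑' i, if i ∈ D then (0 : ℝ) else f i‖ := by
    intro D
    set S := ∑' i, if i ∈ D then (0 : ℝ) else f i
    set E := D \ hfin.toFinset
    set T := ∑ i ∈ E, ((h' i : ℝ) / (h i : ℝ))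
    have hterm : ∀ i, 0 ≤ (h' i : ℝ) / (h i : ℝ) ∧ (h' i : ℝ) / (h i : ℝ) ≤ 1 := by
      intro i
      constructor
      · positivity
      · by_cases hi : h i = 0
        · simp [hi]
        · have hpos : (0 : ℝ) < (h i : ℝ) := by exact_mod_cast Nat.pos_of_ne_zero hi
          rw [div_le_one hpos]
          exact_mod_cast hle i
    have hT0 : 0 ≤ T := Finset.sum_nonneg fun i _ => (hterm i).1
    have hTd : T ≤ (E.card : ℝ) := by
      have : T ≤ ∑ _i ∈ E, (1 : ℝ) := Finset.sum_le_sum fun i _ => (hterm i).2
      simpa using this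
    have hratio0 : 0 ≤ T / (E.card : ℝ) := by positivity
    have hratio1 : T / (E.card : ℝ) ≤ 1 := by
      by_cases hd : E.card = 0
      · simp [hd]
      · have hpos : (0 : ℝ) < (E.card : ℝ) := by exact_mod_cast Nat.pos_of_ne_zero hd
        rw [div_le_one hpos]; exact hTd
    have hrew : S / (E.card : ℝ) * T = S * (T / (E.card : ℝ)) := by ring
    rw [hrew, norm_mul, Real.norm_of_nonneg hratio0]
    calc ‖S‖ * (T / (E.card : ℝ)) ≤ ‖S‖ * 1 :=
          mul_le_mul_of_nonneg_left hratio1 (norm_nonneg _)
      _ = ‖S‖ := mul_one _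
  have hcorr : Filter.Tendsto (fun D : Finset ι =>
      ((∑' i, if i ∈ D then (0 : ℝ) else f i) / ((D \ hfin.toFinset).card : ℝ)) *
          ∑ i ∈ D \ hfin.toFinset, ((h' i : ℝ) / (h i : ℝ))) Filter.atTop (nhds 0) := by
    refine squeeze_zero_norm hbound ?_
    have := htail.norm
    simpa using this
  have hmain : Filter.Tendsto (fun D : Finset ι => ∑ i ∈ D, f' i) Filter.atTop
      (nhds (∑' i, f' i)) := hsum'.hasSum
  have := hmain.add hcorr
  simpa using this

end Groth.Agent.S16017
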