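import Groth.Statements.S16018
import Groth.Agent.H80.Comod

set_option autoImplicit false
universe u v w x
open W4c3ghconstell
open Groth.Agent.H80

namespace Groth.Agent.S16018

/-- Let k be an algebraically closed field of characteristic zero, A a commutative Hopf algebra over k
which is a finitely generated domain and linearly reductive (the coordinate ring of a connected
reductive group G; irreducible representations of G are indexed by the simple subcoalgebras D of A),
R a Noetherian commutative k-algebra with a multiplicative A-coaction (an affine G-scheme X = Spec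
R), and M an R-module with a compatible A-coaction (a G-equivariant quasi-coherent module on X)
which is finite over R, is the sum of its isotypic components M_D, and has dim_k M_D = h(D) < ∞ for
every simple subcoalgebra D. Fix a weight θ from simple subcoalgebras to ℚ, negative at only
finitely many D, with Σ_D θ(D) h(D) = 0 (a convergent real series) and with θ(D) ≠ 0, h(D) ≠ 0 for
some D; the weight of a k-subspace N of M is the real series Σ_D θ(D) · dim_k (N ∩ M_D). Assume
moreover that θ(D) ≠ 0 for every simple subcoalgebra D. If M is θ-semistable, i.e. M has weight 0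
and every R-submodule of M stable under the coaction has weight ≥ 0, then M is generated as an
R-module by its isotypic components M_D with θ(D) < 0 (the generation property of θ-stable objects
thus extends to θ-semistable ones when θ vanishes nowhere). (Multiplicities are recorded as
dimensions of isotypic components, a rescaling of θ.) -/
theorem result (k : Type u) [Field k] [IsAlgClosed k] [CharZero k]
    (A : Type v) [CommRing A] [IsDomain A] [HopfAlgebra k A] [Algebra.FiniteType k A]
    (hred : HopfRep.IsLinearlyReductive k A)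
    (R : Type w) [CommRing R] [Algebra k R] [IsNoetherianRing R] [HopfRep.Comod k A R] [GLin.IsCoactAlg k A R]
    (M : Type x) [AddCommGroup M] [Module k M] [Module R M] [IsScalarTower k R M]
    [HopfRep.Comod k A M] [TameAct.IsHopfMod k A R M]
    (h : W4c3ghconstell.SimpSub k A → ℕ) (θ : W4c3ghconstell.SimpSub k A → ℚ)
    (hfin : {D | θ D < 0}.Finite) (hsum : HasSum (fun D => (θ D : ℝ) * (h D : ℝ)) 0)
    (hne : ∃ D, θ D ≠ 0 ∧ h D ≠ 0)
    (hM : W4c3ghconstell.IsConstellation k A R M h)
    (hθ : ∀ D, θ D ≠ 0)
    (hss : W4c3ghconstell.IsThetaSemistable k A R M θ) :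
    W4c3ghconstell.genIn k A R M {D | θ D < 0} ⊤ = ⊤ := by
  obtain ⟨-, hMsup, hMD⟩ := hM
  have hfinD : ∀ D : SimpSub k A, Module.Finite k ↥(isoComp M D.1) := fun D => (hMD D).1
  have hh : ∀ D : SimpSub k A, Module.finrank k ↥(isoComp M D.1) = h D := fun D => (hMD D).2
  obtain ⟨h0, hss⟩ := hss
  have hNsub : HopfRep.IsSubcomod (k := k) (A := A)
      ((genIn k A R M {D | θ D < 0} ⊤).restrictScalars k) :=
    Comod.isSubcomod_genIn _ ⊤ Comod.isSubcomod_top
  have htop : ((⊤ : Submodule R M).restrictScalars k) = ⊤ := Submodule.restrictScalars_top k R M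
  have hterm : ∀ D : SimpSub k A,
      (θ D : ℝ) * (hilbAt M ((genIn k A R M {D | θ D < 0} ⊤).restrictScalars k) D : ℝ) ≤
        (θ D : ℝ) * (hilbAt M ⊤ D : ℝ) := by
    intro D
    by_cases hD : θ D < 0
    · have : hilbAt M ((genIn k A R M {D | θ D < 0} ⊤).restrictScalars k) D = hilbAt M ⊤ D := by
        apply Comod.hilbAt_congr
        rw [Comod.genIn_inf_isoComp ⊤ (show D ∈ {D | θ D < 0} from hD), htop]
      rw [this]
    · push Not at hD
      have := hfinD D
      apply mul_le_mul_of_nonneg_left _ (by exact_mod_cast hD)
      exact_mod_cast Comod.hilbAt_mono le_top D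
  have hNle : theta M θ ((genIn k A R M {D | θ D < 0} ⊤).restrictScalars k) ≤ theta M θ ⊤ :=
    Comod.theta_le_theta hfinD h hh θ hsum.summable hterm
  have hNge := hss _ hNsub
  have hNeq : theta M θ ((genIn k A R M {D | θ D < 0} ⊤).restrictScalars k) = theta M θ ⊤ := by
    rw [h0] at hNle ⊢
    exact le_antisymm hNle hNge
  have hs1 := (Comod.summable_theta hfinD h hh θ hsum.summable
    ((genIn k A R M {D | θ D < 0} ⊤).restrictScalars k)).hasSum
  have hs2 := (Comod.summable_theta hfinD h hh θ hsum.summable (⊤ : Submodule k M)).hasSum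
  have hs3 := hs2.sub hs1
  have hzero : (∑' D : SimpSub k A, (θ D : ℝ) * (hilbAt M ⊤ D : ℝ)) -
      ∑' D : SimpSub k A, (θ D : ℝ) * (hilbAt M ((genIn k A R M {D | θ D < 0} ⊤).restrictScalars k) D : ℝ) = 0 := by
    have : theta M θ ⊤ - theta M θ ((genIn k A R M {D | θ D < 0} ⊤).restrictScalars k) = 0 := by
      rw [hNeq, sub_self]
    exact this
  rw [hzero] at hs3
  have hall := (hasSum_zero_iff_of_nonneg (fun D => sub_nonneg.mpr (hterm D))).mp hs3
  have hle : ∀ D : SimpSub k A, isoComp M D.1 ≤ (genIn k A R M {D | θ D < 0} ⊤).restrictScalars k := by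
    intro D
    have := hfinD D
    apply Comod.le_of_hilbAt_eq D
    have h1 := congrFun hall D
    simp only [Pi.zero_apply, ← mul_sub, mul_eq_zero, Rat.cast_eq_zero] at h1
    rcases h1 with h1 | h1
    · exact absurd h1 (hθ D)
    · rw [sub_eq_zero] at h1
      rw [← Comod.hilbAt_top]
      exact_mod_cast h1.symm
  rw [eq_top_iff]
  intro m _
  have hm : m ∈ (⨆ D : SimpSub k A, isoComp M D.1) := by rw [hMsup]; trivial
  have hle' : (⨆ D : SimpSub k A, isoComp M D.1) ≤ (genIn k A R M {D | θ D < 0} ⊤).restrictScalars k :=
    iSup_le hle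
  exact hle' hm

end Groth.Agent.S16018
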