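import Groth.Statements.S16030
import Mathlib.RingTheory.Ideal.Operations

set_option autoImplicit false
universe u
open CAlg

namespace Groth.Agent.S16030

/-- For a finite set F of points of the spectrum of a commutative ring A and an open subset U containing
F, some basic open D(a) contains F and is contained in U. -/
theorem result
    (A : Type u) [CommRing A] (F : Set (PrimeSpectrum A)) (hF : F.Finite)
    (U : TopologicalSpace.Opens (PrimeSpectrum A)) (hFU : F ⊆ (U : Set (PrimeSpectrum A))) :
    ∃ a : A, F ⊆ (PrimeSpectrum.basicOpen a : Set (PrimeSpectrum A)) ∧ PrimeSpectrum.basicOpen a ≤ U := by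
  classical
  rcases F.eq_empty_or_nonempty with hemp | ⟨x₀, hx₀⟩
  · refine ⟨0, by simp [hemp], ?_⟩
    rw [PrimeSpectrum.basicOpen_zero]; exact bot_le
  obtain ⟨s, hs⟩ := (PrimeSpectrum.isClosed_iff_zeroLocus_ideal _).1 U.2.isClosed_compl
  -- s is an ideal with zeroLocus s = Uᶜ
  have hnot : ¬ ((s : Set A) ⊆ ⋃ x ∈ (hF.toFinset : Set (PrimeSpectrum A)), (x.asIdeal : Set A)) := by
    intro hsub
    rw [Ideal.subset_union_prime (s := hF.toFinset) (f := fun x : PrimeSpectrum A => x.asIdeal)
      x₀ x₀ (fun i _ _ _ => i.2)] at hsub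
    obtain ⟨x, hx, hle⟩ := hsub
    have hxF : x ∈ F := by simpa using hx
    have : x ∈ PrimeSpectrum.zeroLocus (s : Set A) := by
      rw [PrimeSpectrum.mem_zeroLocus]; exact hle
    rw [← hs] at this
    exact this (hFU hxF)
  rw [Set.not_subset] at hnot
  obtain ⟨a, has, hna⟩ := hnot
  refine ⟨a, ?_, ?_⟩
  · intro x hx
    simp only [Set.mem_iUnion, not_exists] at hna
    have := hna x (by simpa using hx)
    simpa [PrimeSpectrum.mem_basicOpen] using this
  · intro x hx
    by_contra hxU
    have hx' : x ∈ U.carrierᶜ := hxU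
    rw [hs, PrimeSpectrum.mem_zeroLocus] at hx'
    exact (PrimeSpectrum.mem_basicOpen _ _).1 hx (hx' has)

end Groth.Agent.S16030
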