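import Groth.Statements.S16057
import Groth.Agent.H85.ReesMain

set_option autoImplicit false
universe u
open GrLC

namespace Groth.Agent.S16057

/-- Let A be a Noetherian local ring with maximal ideal m, and I an ideal of A whose radical is m (an
m-primary ideal), and M a finitely generated A-module; let R(I) = ⊕_{n ≥ 0} Iⁿ Xⁿ ⊆ A[X] be the Rees
algebra, graded by the powers of X, with irrelevant ideal R(I)_+ = ⊕_{n ≥ 1} Iⁿ Xⁿ, and M* = ⊕_{n ≥
0} IⁿM Xⁿ the Rees module of M, a graded R(I)-module; let P ∈ ℚ[t] be the Hilbert–Samuel polynomial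
of M with respect to I, that is, P(n) = ℓ_A(M/IⁿM) for all sufficiently large n. Then for every
integer n ≥ 0, writing H^i_{R(I)_+}(M*)_n for the degree-n homogeneous piece of the i-th graded
local cohomology module of M* with support in R(I)_+ (computed from any *injective resolution of M*
in the category of graded R(I)-modules), a module over R(I)_0 = A: each H^i_{R(I)_+}(M*)_n has
finite length, only finitely many of them are nonzero, and P(n) − ℓ_A(M/IⁿM) = Σ_{i ≥ 0} (−1)^i
ℓ(H^i_{R(I)_+}(M*)_n). -/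
theorem result (A : Type u) [CommRing A]
    [IsNoetherianRing A] [IsLocalRing A] (I : Ideal A) (hI : I.radical = IsLocalRing.maximalIdeal A)
    (M : Type u) [AddCommGroup M] [Module A M] [Module.Finite A M] (P : Polynomial ℚ)
    (hP : ∃ N : ℕ, ∀ n : ℕ, N ≤ n →
      P.eval (n : ℚ) = ((Module.length A (M ⧸ (I ^ n • (⊤ : Submodule A M)))).toNat : ℚ))
    (E : GrLC.StarInjRes (Rees.degZ (reesAlgebra I)) (Rees.mdegZ (Rees.powFilt I M))) (n : ℕ) :
    (∀ i : ℕ, IsFiniteLength (GrLC.deg0 (Rees.degZ (reesAlgebra I))) (E.Hcomp (GrSyz.irrel (Rees.degZ (reesAlgebra I))) i (n : ℤ))) ∧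
      Set.Finite {i : ℕ | E.Hcomp (GrSyz.irrel (Rees.degZ (reesAlgebra I))) i (n : ℤ) ≠ ⊥} ∧
      P.eval (n : ℚ) - ((Module.length A (M ⧸ (I ^ n • (⊤ : Submodule A M)))).toNat : ℚ) =
        finsum (fun i : ℕ => (-1 : ℚ) ^ i *
          ((Module.length (GrLC.deg0 (Rees.degZ (reesAlgebra I))) (E.Hcomp (GrSyz.irrel (Rees.degZ (reesAlgebra I))) i (n : ℤ))).toNat : ℚ)) := by
  classical
  let E' := Groth.Agent.H85.GrConv.resAGM (Rees.degZ (reesAlgebra I))
    (Rees.mdegZ (Rees.powFilt I M)) E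
  obtain ⟨d, hd, hmain⟩ := Groth.Agent.H85.ReesMain.main (I := I) hI (M := M) P hP E'
  obtain ⟨hfin, heq⟩ := hmain n
  have hvan : ∀ i : ℕ, d < i →
      E.Hcomp (GrSyz.irrel (Rees.degZ (reesAlgebra I))) i (n : ℤ) = ⊥ := by
    intro i hi
    have hsub : Subsingleton (E'.H (Groth.Agent.H85.ReesGr.irr I) i) := hd i hi
    rw [eq_bot_iff]
    intro x _
    rw [Submodule.mem_bot]
    exact @Subsingleton.elim _ hsub x 0
  have hlen : ∀ i : ℕ, Module.length (GrLC.deg0 (Rees.degZ (reesAlgebra I)))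
      (E.Hcomp (GrSyz.irrel (Rees.degZ (reesAlgebra I))) i (n : ℤ)) ≠ ⊤ := fun i => hfin i
  refine ⟨fun i => Module.length_ne_top_iff.mp (hlen i), ?_, ?_⟩
  · apply Set.Finite.subset (Finset.range (d + 1)).finite_toSet
    intro i hi
    rw [Finset.mem_coe, Finset.mem_range]
    by_contra hcon
    exact hi (hvan i (by omega))
  · rw [heq]
    have hsupp : (Function.support (fun i : ℕ => (-1 : ℚ) ^ i *
        ((Module.length (GrLC.deg0 (Rees.degZ (reesAlgebra I)))
          (E.Hcomp (GrSyz.irrel (Rees.degZ (reesAlgebra I))) i (n : ℤ))).toNat : ℚ))) ⊆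
        ((Finset.range (d + 1) : Finset ℕ) : Set ℕ) := by
      intro i hi
      rw [Finset.mem_coe, Finset.mem_range]
      by_contra hcon
      apply hi
      have h0 := hvan i (by omega)
      have hsub : Subsingleton (E.Hcomp (GrSyz.irrel (Rees.degZ (reesAlgebra I))) i (n : ℤ)) := by
        rw [h0]
        infer_instance
      have hzero : Module.length (GrLC.deg0 (Rees.degZ (reesAlgebra I)))
          (E.Hcomp (GrSyz.irrel (Rees.degZ (reesAlgebra I))) i (n : ℤ)) = 0 :=
        Module.length_eq_zero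
      change (-1 : ℚ) ^ i * ((Module.length (GrLC.deg0 (Rees.degZ (reesAlgebra I)))
          (E.Hcomp (GrSyz.irrel (Rees.degZ (reesAlgebra I))) i (n : ℤ))).toNat : ℚ) = 0
      rw [hzero]
      simp
    rw [finsum_eq_sum_of_support_subset _ hsupp]
    unfold Groth.Agent.H85.Serre.chi Groth.Agent.H85.Serre.hl
    push_cast
    rfl

end Groth.Agent.S16057
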