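import Groth.Statements.S16072
import Mathlib

set_option autoImplicit false
universe u
open Hopf

namespace Groth.Agent.S16072

/-- Let p be a prime and R a commutative ring of characteristic p (p = 0 in R, R nonzero). Then the
constant group scheme ℤ/p and the group scheme μ_p of p-th roots of unity over Spec R are not
isomorphic: there is no R-bialgebra isomorphism between the Hopf algebra Maps(ℤ/p, R) of functions
on the cyclic group of order p and the group algebra R[ℤ/p]. (Any nonzero commutative base ring of
characteristic p is allowed. The published statement allows any ring R with p·R = 0; over the zero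
ring both Hopf algebras are the zero ring and hence isomorphic, so R is assumed nonzero here.) -/
theorem result (p : ℕ) [Fact p.Prime] (R : Type u) [CommRing R]
    [CharP R p] :
    IsEmpty (ConstGrp.F R (Multiplicative (ZMod p)) ≃ₐc[R] MonoidAlgebra R (Multiplicative (ZMod p))) := by
  refine ⟨fun e => ?_⟩
  have : Nontrivial R := CharP.nontrivial_of_char_ne_one (R := R) (v := p) (Fact.out : p.Prime).ne_one
  obtain ⟨m, hm⟩ := Ideal.exists_maximal R
  have := hm
  let _ : Field (R ⧸ m) := Ideal.Quotient.field m
  have hk : (p : R ⧸ m) = 0 := by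
    rw [← map_natCast (Ideal.Quotient.mk m), CharP.cast_eq_zero, map_zero]
  have hchar : ringChar (R ⧸ m) = p := CharP.ringChar_of_prime_eq_zero Fact.out hk
  have : CharP (R ⧸ m) p := ringChar.of_eq hchar
  have : Nontrivial (ZMod p) := ZMod.nontrivial_iff.mpr (Fact.out : p.Prime).ne_one
  let G := Multiplicative (ZMod p)
  let g0 : G := Multiplicative.ofAdd 0
  let g1 : G := Multiplicative.ofAdd 1
  have hne : g1 ≠ g0 := by
    intro h
    exact one_ne_zero (Multiplicative.ofAdd.injective h)
  let ψ : G → (MonoidAlgebra R G →ₐ[R] R ⧸ m) := fun g =>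
    (Ideal.Quotient.mkₐ R m).comp ((ConstGrp.ev R g).comp (e.symm : MonoidAlgebra R G →ₐ[R] _))
  have hpow : ∀ h : G, h ^ p = 1 := by
    intro h
    apply Multiplicative.toAdd.injective
    rw [toAdd_pow, toAdd_one, nsmul_eq_mul, CharP.cast_eq_zero, zero_mul]
  have hψ : ∀ g h, ψ g (MonoidAlgebra.single h 1) = 1 := by
    intro g h
    have h1 : (ψ g (MonoidAlgebra.single h 1)) ^ p = 1 ^ p := by
      rw [← map_pow, MonoidAlgebra.single_pow, hpow, one_pow, one_pow, ← MonoidAlgebra.one_def, map_one]
    exact frobenius_inj (R ⧸ m) p h1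
  have heq : ψ g0 = ψ g1 := by
    refine MonoidAlgebra.algHom_ext (fun h => ?_) ?_
    · rw [hψ, hψ]
    · ext
  have h1 : ψ g0 (e (ConstGrp.e R g0)) = 1 := by
    simp [ψ]
  have h2 : ψ g1 (e (ConstGrp.e R g0)) = 0 := by
    simp [ψ, ConstGrp.e_apply_of_ne hne]
  rw [heq, h2] at h1
  exact zero_ne_one h1

end Groth.Agent.S16072
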