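import Groth.Statements.S16074
import Groth.Agent.S16070
import Groth.Agent.S16071
import Groth.Agent.S16073
import Groth.Prelude.Def_CartDual2

set_option autoImplicit false
universe u
open Hopf

namespace Groth.Agent.S16074

/-- Let p be a prime and R a commutative ring of characteristic p (p = 0 in R, R nonzero). Then μ_p and
α_p over Spec R are not isomorphic: there is no R-bialgebra isomorphism between the group algebra
R[ℤ/p] of the cyclic group of order p (group elements group-like) and the Hopf algebra R[X]/(X^p) of
α_p (X primitive), although the underlying R-algebras R[ℤ/p] = R[Y]/(Y^p) and R[X]/(X^p) are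
isomorphic. (Any nonzero commutative base ring of characteristic p is allowed. The published
statement allows any ring R with p·R = 0; over the zero ring both Hopf algebras are the zero ring
and hence isomorphic, so R is assumed nonzero here.) -/
theorem result (p : ℕ) [Fact p.Prime] (R : Type u) [CommRing R] [CharP R p] :
    IsEmpty (MonoidAlgebra R (Multiplicative (ZMod p)) ≃ₐc[R] AlphaP.A p R) := by
  refine ⟨fun e => ?_⟩
  obtain ⟨e1, -⟩ := Groth.Agent.S16070.result R (Multiplicative (ZMod p))
  obtain ⟨e2, -⟩ := Groth.Agent.S16071.result p R
  let t : CartDual.D R (AlphaP.A p R) ≃ₐc[R] CartDual.D R (MonoidAlgebra R (Multiplicative (ZMod p))) :=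
    BialgEquiv.ofBialgHom (CartDual.transpose R (e : _ →ₐc[R] _))
      (CartDual.transpose R (e.symm : _ →ₐc[R] _))
      (by
        apply BialgHom.ext
        intro y
        apply WithConv.ext
        apply LinearMap.ext
        intro a
        change y (e.symm (e a)) = y a
        rw [BialgEquiv.symm_apply_apply])
      (by
        apply BialgHom.ext
        intro y
        apply WithConv.ext
        apply LinearMap.ext
        intro a
        change y (e (e.symm a)) = y a
        rw [BialgEquiv.apply_symm_apply])
  exact (Groth.Agent.S16073.result p R).false ((e1.symm.trans t.symm).trans e2)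

end Groth.Agent.S16074
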