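import Groth.Statements.S16075
import Groth.Agent.H80.AlphaPLib

set_option autoImplicit false
universe u
open Hopf
open Groth.Agent.H80
open scoped TensorProduct

namespace Groth.Agent.S16075

/-- Let p be a prime, T a commutative ring of characteristic p (p = 0 in T, T nonzero) and A =
T[X]/(X^p) the Hopf algebra of α_p over Spec T, with X primitive. Then the endomorphisms of the
T-group α_{p,T} are exactly the scalings: every T-bialgebra endomorphism f of A has f(X) = λ·X for a
unique λ ∈ T, and for every λ ∈ T there is a T-bialgebra endomorphism f of A with f(X) = λ·X. So the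
endomorphisms of α_{p,T} correspond bijectively to the elements of T. (Only this bijection is
stated; that it turns addition and composition of endomorphisms into addition and multiplication in
T, and its naturality in T, are not stated here. The zero ring, allowed as T in the published
statement, is excluded by the characteristic hypothesis here.) -/
theorem result (p : ℕ) [Fact p.Prime] (T : Type u) [CommRing T] [CharP T p] :
    (∀ f : AlphaP.A p T →ₐc[T] AlphaP.A p T, ∃! c : T, f (AlphaP.x p T) = c • AlphaP.x p T) ∧
      (∀ c : T, ∃ f : AlphaP.A p T →ₐc[T] AlphaP.A p T, f (AlphaP.x p T) = c • AlphaP.x p T) := by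
  have hnt : Nontrivial T := Groth.Agent.H80.AlphaPLib.nontrivial_of_charP p T
  have hp : p.Prime := Fact.out
  have hp2 : 2 ≤ p := hp.two_le
  constructor
  · intro f
    set u := f (AlphaP.x p T) with hu
    have hcounit : Coalgebra.counit (R := T) u = 0 := by
      rw [hu, CoalgHomClass.counit_comp_apply, AlphaP.counit_x]
    have hcomul : Coalgebra.comul (R := T) u = u ⊗ₜ[T] 1 + 1 ⊗ₜ[T] u := by
      rw [hu, ← CoalgHomClass.map_comp_comul_apply, AlphaP.comul_x, map_add,
        TensorProduct.map_tmul, TensorProduct.map_tmul]
      simp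
    have hconv : ∀ y y' : CartDual.D T (AlphaP.A p T),
        (y * y') u = y u * y' 1 + y 1 * y' u := by
      intro y y'
      rw [LinearMap.convMul_apply, hcomul, map_add, map_add, TensorProduct.map_tmul,
        TensorProduct.map_tmul, LinearMap.mul'_apply, LinearMap.mul'_apply]
    have hcoord : ∀ k, 2 ≤ k → AlphaPLib.coord p T k u = 0 := by
      intro k hk
      by_cases hkp : k < p
      · obtain ⟨j, rfl⟩ : ∃ j, k = 1 + j := ⟨k - 1, by omega⟩
        have h1 := hconv (AlphaPLib.δ p T 1) (AlphaPLib.δ p T j)
        rw [AlphaPLib.δ_mul_δ] at h1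
        have e1 : AlphaPLib.δ p T j 1 = 0 := by
          rw [← pow_zero (AlphaP.x p T), AlphaPLib.δ_x_pow p T j 0 hp.pos, if_neg (by omega)]
        have e2 : AlphaPLib.δ p T 1 1 = 0 := by
          rw [← pow_zero (AlphaP.x p T), AlphaPLib.δ_x_pow p T 1 0 hp.pos, if_neg (by omega)]
        rw [e1, e2, mul_zero, zero_mul, add_zero, Nat.choose_one_right] at h1
        change (((1 + j : ℕ) : T)) • AlphaPLib.coord p T (1 + j) u = 0 at h1
        rw [smul_eq_mul, (AlphaPLib.isUnit_natCast_of_lt p T (by omega) hkp).mul_right_eq_zero] at h1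
        exact h1
      · rw [AlphaPLib.coord_of_le p T k (by omega)]; rfl
    have hcoord0 : AlphaPLib.coord p T 0 u = 0 := by
      rw [AlphaPLib.coord_zero_eq_counit]; exact hcounit
    have hu1 : u = AlphaPLib.coord p T 1 u • AlphaP.x p T := by
      conv_lhs => rw [AlphaPLib.eq_sum p T u]
      rw [Finset.sum_eq_single 1]
      · rw [pow_one]
      · intro k _ hk
        by_cases hk0 : k = 0
        · subst hk0; rw [hcoord0, zero_smul]
        · rw [hcoord k (by omega), zero_smul]
      · intro h; exact absurd (Finset.mem_range.mpr (by omega)) h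
    refine ⟨AlphaPLib.coord p T 1 u, hu1, ?_⟩
    intro c hc
    have := congrArg (AlphaPLib.coord p T 1) hc
    rw [map_smul, ← pow_one (AlphaP.x p T), AlphaPLib.coord_x_pow p T 1 1 (by omega), if_pos rfl,
      smul_eq_mul, mul_one] at this
    exact this.symm
  · intro c
    have hc : (c • AlphaP.x p T) ^ p = 0 := by rw [smul_pow, AlphaP.x_pow, smul_zero]
    refine ⟨BialgHom.ofAlgHom (AlphaP.lift p T (c • AlphaP.x p T) hc) ?_ ?_, ?_⟩
    · apply AlphaP.algHom_ext
      rw [AlgHom.comp_apply, AlphaP.lift_x]
      change Coalgebra.counit (R := T) (c • AlphaP.x p T) = Coalgebra.counit (R := T) (AlphaP.x p T)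
      rw [map_smul, AlphaP.counit_x, smul_zero]
    · apply AlphaP.algHom_ext
      rw [AlgHom.comp_apply, AlgHom.comp_apply, AlphaP.lift_x]
      change Algebra.TensorProduct.map _ _ (Coalgebra.comul (R := T) (AlphaP.x p T)) =
        Coalgebra.comul (R := T) (c • AlphaP.x p T)
      rw [map_smul, AlphaP.comul_x, map_add, Algebra.TensorProduct.map_tmul,
        Algebra.TensorProduct.map_tmul, AlphaP.lift_x, map_one, smul_add, TensorProduct.smul_tmul',
        TensorProduct.tmul_smul]
    · change AlphaP.lift p T (c • AlphaP.x p T) hc (AlphaP.x p T) = _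
      rw [AlphaP.lift_x]

end Groth.Agent.S16075
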