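import Groth.Statements.S16078
import Groth.Agent.H80.UnitComp3

set_option autoImplicit false
universe u
open scoped TensorProduct
open Hopf

namespace Groth.Agent.S16078

/-- Let R be a henselian Noetherian local ring, A and A'' commutative Hopf algebras over R which are
finite and flat as R-modules, and A'' → A an R-algebra homomorphism compatible with
comultiplications and counits making A faithfully flat over A'' (a faithfully flat homomorphism π :
G → G'' of finite flat R-groups); let J ⊆ A be the ideal generated by the image of the augmentation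
ideal of A'' (G' = Spec A/J = ker π, so that 1 → G' → G → G'' → 1 is exact). Let e ∈ A and e'' ∈ A''
be idempotents with ε(e) = 1, ε(e'') = 1 and A/(1 − e), A''/(1 − e'') local rings (the unit
components G⁰ and G''⁰), and let e' ∈ A be an element whose image in A/J is an idempotent, with
ε(e') = 1 and A/(J + (1 − e')) local (so G'⁰ = Spec (A/J)/(1 − e') is the unit component of G').
Suppose g : A''/(1 − e'') → A/(1 − e) is the ring homomorphism induced by A'' → A (the restriction
π⁰ : G⁰ → G''⁰ of π, which exists because G⁰ is connected). Then g is faithfully flat, and e ≡ e'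
modulo J, i.e. J + (1 − e) = J + (1 − e') and the kernel of π⁰, which is cut out in G⁰ by J, is
exactly G'⁰: the sequence 1 → G'⁰ → G⁰ → G''⁰ → 1 is exact. (The published statement also asserts
exactness of the maximal étale quotient G ↦ G^ét, not stated here.) -/
theorem result (R : Type u) [CommRing R] [HenselianLocalRing R]
    [IsNoetherianRing R] (A A'' : Type u) [CommRing A] [HopfAlgebra R A] [Module.Finite R A] [Module.Flat R A]
    [CommRing A''] [HopfAlgebra R A''] [Module.Finite R A''] [Module.Flat R A'']
    [Algebra A'' A] [IsScalarTower R A'' A] [Module.FaithfullyFlat A'' A]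
    (hΔ : (Bialgebra.comulAlgHom R A).comp (IsScalarTower.toAlgHom R A'' A) =
      (Algebra.TensorProduct.map (IsScalarTower.toAlgHom R A'' A) (IsScalarTower.toAlgHom R A'' A)).comp
        (Bialgebra.comulAlgHom R A''))
    (hε : (Bialgebra.counitAlgHom R A).comp (IsScalarTower.toAlgHom R A'' A) = Bialgebra.counitAlgHom R A'')
    (e : A) (he : IsIdempotentElem e) (heε : Bialgebra.counitAlgHom R A e = 1)
    [IsLocalRing (A ⧸ Ideal.span ({1 - e} : Set A))]
    (e'' : A'') (he'' : IsIdempotentElem e'') (he''ε : Bialgebra.counitAlgHom R A'' e'' = 1)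
    [IsLocalRing (A'' ⧸ Ideal.span ({1 - e''} : Set A''))]
    (e' : A) (he' : IsIdempotentElem (Ideal.Quotient.mk ((RingHom.ker (Bialgebra.counitAlgHom R A'')).map (algebraMap A'' A)) e'))
    (he'ε : Bialgebra.counitAlgHom R A e' = 1)
    [IsLocalRing (A ⧸ (((RingHom.ker (Bialgebra.counitAlgHom R A'')).map (algebraMap A'' A)) ⊔ Ideal.span ({1 - e'} : Set A)))]
    (g : (A'' ⧸ Ideal.span ({1 - e''} : Set A'')) →+* (A ⧸ Ideal.span ({1 - e} : Set A)))
    (hg : g.comp (Ideal.Quotient.mk (Ideal.span ({1 - e''} : Set A''))) =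
      (Ideal.Quotient.mk (Ideal.span ({1 - e} : Set A))).comp (algebraMap A'' A)) :
    g.FaithfullyFlat ∧
      Ideal.Quotient.mk ((RingHom.ker (Bialgebra.counitAlgHom R A'')).map (algebraMap A'' A)) e = Ideal.Quotient.mk ((RingHom.ker (Bialgebra.counitAlgHom R A'')).map (algebraMap A'' A)) e' := by
  have hI : ∀ a ∈ Ideal.span ({1 - e} : Set A), (Bialgebra.counitAlgHom R A).toRingHom a = 0 := by
    intro a ha
    obtain ⟨c, rfl⟩ := Ideal.mem_span_singleton'.mp ha
    rw [map_mul, map_sub, map_one]
    have : (Bialgebra.counitAlgHom R A).toRingHom e = 1 := heε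
    rw [this, sub_self, mul_zero]
  have hI'' : ∀ a ∈ Ideal.span ({1 - e''} : Set A''), (Bialgebra.counitAlgHom R A'').toRingHom a = 0 := by
    intro a ha
    obtain ⟨c, rfl⟩ := Ideal.mem_span_singleton'.mp ha
    rw [map_mul, map_sub, map_one]
    have : (Bialgebra.counitAlgHom R A'').toRingHom e'' = 1 := he''ε
    rw [this, sub_self, mul_zero]
  let χ : A ⧸ Ideal.span ({1 - e} : Set A) →+* R :=
    Ideal.Quotient.lift _ (Bialgebra.counitAlgHom R A).toRingHom hI
  let χ'' : A'' ⧸ Ideal.span ({1 - e''} : Set A'') →+* R :=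
    Ideal.Quotient.lift _ (Bialgebra.counitAlgHom R A'').toRingHom hI''
  have hsurj : Function.Surjective χ'' := by
    intro r
    refine ⟨Ideal.Quotient.mk _ (algebraMap R A'' r), ?_⟩
    change (Bialgebra.counitAlgHom R A'') (algebraMap R A'' r) = r
    rw [AlgHom.commutes]
    rfl
  have hεapp : ∀ a : A'', Bialgebra.counitAlgHom R A (algebraMap A'' A a) =
      Bialgebra.counitAlgHom R A'' a := fun a => AlgHom.congr_fun hε a
  have hcomp : χ.comp g = χ'' := by
    apply Ideal.Quotient.ringHom_ext
    ext a
    have h1 := RingHom.congr_fun hg a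
    simp only [RingHom.comp_apply] at h1 ⊢
    rw [h1]
    change Bialgebra.counitAlgHom R A (algebraMap A'' A a) = Bialgebra.counitAlgHom R A'' a
    exact hεapp a
  have hlocal : IsLocalHom g :=
    Groth.Agent.H80.UnitComp.isLocalHom_of_augmentation χ'' hsurj χ g hcomp
  constructor
  · unfold RingHom.FaithfullyFlat
    letI := g.toAlgebra
    have hflat : Module.Flat (A'' ⧸ Ideal.span ({1 - e''} : Set A'')) (A ⧸ Ideal.span ({1 - e} : Set A)) :=
      Groth.Agent.H80.UnitComp.flat_idem_quotient e'' he'' e he g hg
    have hloc2 : IsLocalHom (algebraMap (A'' ⧸ Ideal.span ({1 - e''} : Set A''))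
        (A ⧸ Ideal.span ({1 - e} : Set A))) := hlocal
    exact Module.FaithfullyFlat.of_flat_of_isLocalHom
  · have hJ : ∀ a ∈ (RingHom.ker (Bialgebra.counitAlgHom R A'')).map (algebraMap A'' A),
        (Bialgebra.counitAlgHom R A).toRingHom a = 0 := by
      have hle : (RingHom.ker (Bialgebra.counitAlgHom R A'')).map (algebraMap A'' A) ≤
          RingHom.ker (Bialgebra.counitAlgHom R A).toRingHom := by
        rw [Ideal.map_le_iff_le_comap]
        intro a ha
        rw [Ideal.mem_comap, RingHom.mem_ker]
        change Bialgebra.counitAlgHom R A (algebraMap A'' A a) = 0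
        rw [hεapp a]
        exact ha
      intro a ha
      exact hle ha
    let χJ : A ⧸ (RingHom.ker (Bialgebra.counitAlgHom R A'')).map (algebraMap A'' A) →+* R :=
      Ideal.Quotient.lift _ (Bialgebra.counitAlgHom R A).toRingHom hJ
    have hχJ : ∀ a : A, χJ (Ideal.Quotient.mk _ a) = Bialgebra.counitAlgHom R A a := fun a => rfl
    have hē : IsIdempotentElem
        (Ideal.Quotient.mk ((RingHom.ker (Bialgebra.counitAlgHom R A'')).map (algebraMap A'' A)) e) :=
      he.map _
    have hloc1 : IsLocalRing ((A ⧸ (RingHom.ker (Bialgebra.counitAlgHom R A'')).map (algebraMap A'' A)) ⧸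
        Ideal.span ({1 - Ideal.Quotient.mk _ e} : Set (A ⧸ (RingHom.ker (Bialgebra.counitAlgHom R A'')).map (algebraMap A'' A)))) := by
      have hnt := Groth.Agent.H80.UnitComp.nontrivial_quotient χJ
        (Ideal.Quotient.mk _ e) (by rw [hχJ]; exact heε)
      let π : A ⧸ Ideal.span ({1 - e} : Set A) →+*
          ((A ⧸ (RingHom.ker (Bialgebra.counitAlgHom R A'')).map (algebraMap A'' A)) ⧸
          Ideal.span ({1 - Ideal.Quotient.mk _ e} : Set (A ⧸ (RingHom.ker (Bialgebra.counitAlgHom R A'')).map (algebraMap A'' A)))) :=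
        Ideal.Quotient.lift _ ((Ideal.Quotient.mk _).comp (Ideal.Quotient.mk _)) (by
          intro a ha
          obtain ⟨c, rfl⟩ := Ideal.mem_span_singleton'.mp ha
          rw [RingHom.comp_apply, map_mul, map_mul]
          have : (Ideal.Quotient.mk (Ideal.span ({1 - Ideal.Quotient.mk _ e} : Set (A ⧸ (RingHom.ker (Bialgebra.counitAlgHom R A'')).map (algebraMap A'' A)))))
              (Ideal.Quotient.mk ((RingHom.ker (Bialgebra.counitAlgHom R A'')).map (algebraMap A'' A)) (1 - e)) = 0 := by
            rw [Ideal.Quotient.eq_zero_iff_mem, map_sub, map_one]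
            exact Ideal.subset_span rfl
          rw [this, mul_zero])
      have hπ : Function.Surjective π := by
        intro y
        obtain ⟨y, rfl⟩ := Ideal.Quotient.mk_surjective y
        obtain ⟨y, rfl⟩ := Ideal.Quotient.mk_surjective y
        exact ⟨Ideal.Quotient.mk _ y, rfl⟩
      exact IsLocalRing.of_surjective' π hπ
    have hloc2 : IsLocalRing ((A ⧸ (RingHom.ker (Bialgebra.counitAlgHom R A'')).map (algebraMap A'' A)) ⧸
        Ideal.span ({1 - Ideal.Quotient.mk _ e'} : Set (A ⧸ (RingHom.ker (Bialgebra.counitAlgHom R A'')).map (algebraMap A'' A)))) := by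
      have hnt := Groth.Agent.H80.UnitComp.nontrivial_quotient χJ
        (Ideal.Quotient.mk _ e') (by rw [hχJ]; exact he'ε)
      let π : A ⧸ (((RingHom.ker (Bialgebra.counitAlgHom R A'')).map (algebraMap A'' A)) ⊔ Ideal.span ({1 - e'} : Set A)) →+*
          ((A ⧸ (RingHom.ker (Bialgebra.counitAlgHom R A'')).map (algebraMap A'' A)) ⧸
          Ideal.span ({1 - Ideal.Quotient.mk _ e'} : Set (A ⧸ (RingHom.ker (Bialgebra.counitAlgHom R A'')).map (algebraMap A'' A)))) :=
        Ideal.Quotient.lift _ ((Ideal.Quotient.mk _).comp (Ideal.Quotient.mk _)) (by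
          intro a ha
          rw [← RingHom.mem_ker]
          revert a
          change _ ≤ RingHom.ker _
          refine sup_le ?_ ?_
          · intro a ha
            rw [RingHom.mem_ker, RingHom.comp_apply, Ideal.Quotient.eq_zero_iff_mem.mpr ha, map_zero]
          · rw [Ideal.span_le]
            intro a ha
            rw [Set.mem_singleton_iff] at ha
            subst ha
            rw [SetLike.mem_coe, RingHom.mem_ker, RingHom.comp_apply, Ideal.Quotient.eq_zero_iff_mem,
              map_sub, map_one]
            exact Ideal.subset_span rfl)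
      have hπ : Function.Surjective π := by
        intro y
        obtain ⟨y, rfl⟩ := Ideal.Quotient.mk_surjective y
        obtain ⟨y, rfl⟩ := Ideal.Quotient.mk_surjective y
        exact ⟨Ideal.Quotient.mk _ y, rfl⟩
      exact IsLocalRing.of_surjective' π hπ
    exact Groth.Agent.H80.UnitComp.idem_unique χJ _ _ hē he' (by rw [hχJ]; exact heε)
      (by rw [hχJ]; exact he'ε)

end Groth.Agent.S16078
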