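import Groth.Statements.S1609

set_option autoImplicit false
universe u
open CategoryTheory CategoryTheory.Limits AlgebraicGeometry
open Variety

namespace Groth.Agent.S1609

/-- Geometric irreducibility of a k-scheme can be checked after an arbitrary extension of the base
field. -/
theorem result (k : Type u) [Field k] (X : Scheme.{u}) [X.Over (Spec (CommRingCat.of k))] (k' : Type u) [Field k'] [Algebra k k']
    [GeometricallyIrreducible (Curv2.bcSnd k X k')] : GeometricallyIrreducible (X ↘ (Spec (CommRingCat.of k))) := by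
  classical
  refine ⟨(geometrically_iff_of_commRing_of_isClosedUnderIsomorphisms).mpr fun K _ _ => ?_⟩
  -- a common field extension `Ω` of `K` and `k'` over `k`
  obtain ⟨m, hm⟩ := Ideal.exists_maximal (TensorProduct k K k')
  let _ : Field (TensorProduct k K k' ⧸ m) := Ideal.Quotient.field m
  let φK : K →+* (TensorProduct k K k' ⧸ m) :=
    (Ideal.Quotient.mk m).comp (Algebra.TensorProduct.includeLeft : K →ₐ[k] TensorProduct k K k').toRingHom
  let φk' : k' →+* (TensorProduct k K k' ⧸ m) :=
    (Ideal.Quotient.mk m).comp (Algebra.TensorProduct.includeRight : k' →ₐ[k] TensorProduct k K k').toRingHom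
  have hφ : φK.comp (algebraMap k K) = φk'.comp (algebraMap k k') := by
    ext x
    simp only [φK, φk', RingHom.comp_apply, AlgHom.toRingHom_eq_coe, RingHom.coe_coe, AlgHom.commutes]
  have hcomp : Spec.map (CommRingCat.ofHom φK) ≫ Spec.map (CommRingCat.ofHom (algebraMap k K)) =
      Spec.map (CommRingCat.ofHom φk') ≫ Spec.map (CommRingCat.ofHom (algebraMap k k')) := by
    rw [← Spec.map_comp, ← Spec.map_comp, ← CommRingCat.ofHom_comp, ← CommRingCat.ofHom_comp, hφ]
  -- the base change to `Ω`
  let Z := pullback (X ↘ (Spec (CommRingCat.of k)))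
    (Spec.map (CommRingCat.ofHom φk') ≫ Spec.map (CommRingCat.ofHom (algebraMap k k')))
  have s' : IsPullback (pullback.fst _ _ : Z ⟶ X) (pullback.snd _ _) (X ↘ (Spec (CommRingCat.of k)))
    (Spec.map (CommRingCat.ofHom φk') ≫ Spec.map (CommRingCat.ofHom (algebraMap k k'))) :=
    IsPullback.of_hasPullback _ _
  have sK : IsPullback (pullback.fst _ _ : Z ⟶ X) (pullback.snd _ _) (X ↘ (Spec (CommRingCat.of k)))
    (Spec.map (CommRingCat.ofHom φK) ≫ Spec.map (CommRingCat.ofHom (algebraMap k K))) := hcomp ▸ s'
  have t' := IsPullback.of_right' s' (IsPullback.of_hasPullback (X ↘ (Spec (CommRingCat.of k)))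
    (Spec.map (CommRingCat.ofHom (algebraMap k k'))))
  have tK := IsPullback.of_right' sK (IsPullback.of_hasPullback (X ↘ (Spec (CommRingCat.of k)))
    (Spec.map (CommRingCat.ofHom (algebraMap k K))))
  -- `Z` is irreducible
  have hZ : IrreducibleSpace Z :=
    GeometricallyIrreducible.geometrically_irreducibleSpace (f := Curv2.bcSnd k X k') _ _ _ t'
  -- `Z ⟶ X_K` is surjective
  have hsurj : Surjective (Spec.map (CommRingCat.ofHom φK)) := by
    constructor
    intro x
    exact ⟨Classical.arbitrary _, Subsingleton.elim _ _⟩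
  have hsurj' := MorphismProperty.of_isPullback (P := @Surjective) tK.flip hsurj
  have hcont := (IsPullback.lift (IsPullback.of_hasPullback (X ↘ (Spec (CommRingCat.of k)))
    (Spec.map (CommRingCat.ofHom (algebraMap k K)))) (pullback.fst _ _ : Z ⟶ X)
      (pullback.snd _ _ ≫ Spec.map (CommRingCat.ofHom φK)) (by rw [Category.assoc, sK.w])).continuous
  have := (IrreducibleSpace.isIrreducible_univ Z).image _ hcont.continuousOn
  rw [Set.image_univ, Set.range_eq_univ.mpr hsurj'.surj] at this
  exact (irreducibleSpace_def _).mpr this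

end Groth.Agent.S1609
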