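import Groth.Statements.S16090
-- import your own Groth.Agent.* helpers here
import Groth.Agent.H6.Ref1Tensor

set_option autoImplicit false
universe u
open CategoryTheory CategoryTheory.Limits AlgebraicGeometry TopologicalSpace
open SDiv

namespace Groth.Agent.S16090

/-- The class map is additive for the reflexive tensor product: suppose X is a scheme that is integral,
normal and locally Noetherian, write η for its generic point, and take F and G to be rank one
coherent reflexive O_X-modules with s ∈ F_η, t ∈ G_η nonzero rational sections, with orders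
ord_{x,F}(s), ord_{x,G}(t) at the points x of codimension 1 taken with respect to generators of the
free rank one stalks. Then the reflexive hull (F ⊗_{O_X} G)^** admits a nonzero rational section w
whose order at every codimension-1 point x is ord_{x,F}(s) + ord_{x,G}(t); so the Weil divisor class
of (F ⊗ G)^** is the sum of the classes of F and G. -/
theorem result (X : Scheme.{u}) [IsIntegral X] [IsLocallyNoetherian X]
    (hX : Pi1.IsNormalScheme X) (F G : X.Modules) (hF : RefHull.IsRef1 F) (hG : RefHull.IsRef1 G)
    (s : Cyc.secFibre F (genericPoint ↥X)) (hs : s ≠ 0) (t : Cyc.secFibre G (genericPoint ↥X)) (ht : t ≠ 0) :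
    ∃ w : Cyc.secFibre (RefHull.ddual (CohB1.tensorMod F G)) (genericPoint ↥X), w ≠ 0 ∧
      ∀ (x : ↥X), Order.coheight x = 1 →
        Cyc.secOrdAt (RefHull.ddual (CohB1.tensorMod F G)) (genericPoint ↥X) x
            ((genericPoint_spec ↥X).specializes (Set.mem_univ x)) w =
          Cyc.secOrdAt F (genericPoint ↥X) x ((genericPoint_spec ↥X).specializes (Set.mem_univ x)) s +
            Cyc.secOrdAt G (genericPoint ↥X) x ((genericPoint_spec ↥X).specializes (Set.mem_univ x)) t := by
  obtain ⟨s', rfl⟩ := Submodule.Quotient.mk_surjective _ s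
  obtain ⟨t', rfl⟩ := Submodule.Quotient.mk_surjective _ t
  have hs' : s' ≠ 0 := by
    rintro rfl
    exact hs rfl
  have ht' : t' ≠ 0 := by
    rintro rfl
    exact ht rfl
  obtain ⟨h1, h2⟩ := Groth.Agent.H6.Ref1.refTensor_data hX F G hF hG s' hs' t' ht'
  refine ⟨Submodule.Quotient.mk (RefHull.stalkMapₗ (RefHull.bidualMap (CohB1.tensorMod F G))
    (genericPoint X) (Groth.Agent.H5.Stalk.Tensor.b (genericPoint X) F G s' t')), ?_, h2⟩
  intro h0
  have h3 : (Submodule.Quotient.mk (RefHull.stalkMapₗ (RefHull.bidualMap (CohB1.tensorMod F G))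
      (genericPoint X) (Groth.Agent.H5.Stalk.Tensor.b (genericPoint X) F G s' t')) :
      Cyc.secFibre (RefHull.ddual (CohB1.tensorMod F G)) (genericPoint X)) =
      Submodule.Quotient.mk 0 := h0
  rw [Groth.Agent.H54.SecOrd.mk_eq_mk_iff] at h3
  have h4 : (fun a : X.presheaf.stalk (genericPoint X) =>
      a • RefHull.stalkMapₗ (RefHull.bidualMap (CohB1.tensorMod F G)) (genericPoint X)
        (Groth.Agent.H5.Stalk.Tensor.b (genericPoint X) F G s' t')) 1 =
      (fun a : X.presheaf.stalk (genericPoint X) =>
      a • RefHull.stalkMapₗ (RefHull.bidualMap (CohB1.tensorMod F G)) (genericPoint X)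
        (Groth.Agent.H5.Stalk.Tensor.b (genericPoint X) F G s' t')) 0 := by
    simp only [h3, smul_zero]
  exact one_ne_zero (h1.1 h4)

end Groth.Agent.S16090
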