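import Groth.Statements.S16104
import Mathlib.RingTheory.HopkinsLevitzki
import Mathlib.RingTheory.Nakayama
import Mathlib.RingTheory.LocalRing.RingHom.Basic
import Mathlib.RingTheory.Ideal.Quotient.Noetherian
import Mathlib.LinearAlgebra.Isomorphisms

set_option autoImplicit false
universe u v
open LunaSt

namespace Groth.Agent.S16104

open IsLocalRing

/-- Over a Noetherian local ring the quotient by a power of the maximal ideal has finite length. -/
theorem length_quot_pow_ne_top (R : Type*) [CommRing R] [IsLocalRing R] [IsNoetherianRing R]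
    (n : ℕ) : Module.length R (R ⧸ maximalIdeal R ^ (n + 1)) ≠ ⊤ := by
  set I := maximalIdeal R ^ (n + 1) with hI
  have hIle : I ≤ maximalIdeal R := Ideal.pow_le_self (Nat.succ_ne_zero n)
  have hItop : I ≠ ⊤ := fun h => (maximalIdeal.isMaximal R).ne_top (top_le_iff.1 (h ▸ hIle))
  have : Nontrivial (R ⧸ I) := Ideal.Quotient.nontrivial_iff.2 hItop
  have : IsLocalRing (R ⧸ I) :=
    IsLocalRing.of_surjective' (Ideal.Quotient.mk I) Ideal.Quotient.mk_surjective
  have hmax : maximalIdeal (R ⧸ I) = (maximalIdeal R).map (Ideal.Quotient.mk I) :=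
    (map_maximalIdeal_of_surjective (Ideal.Quotient.mk I) Ideal.Quotient.mk_surjective).symm
  have hnil : IsNilpotent (maximalIdeal (R ⧸ I)) := by
    refine ⟨n + 1, ?_⟩
    rw [hmax, ← Ideal.map_pow, Ideal.zero_eq_bot, Ideal.map_eq_bot_iff_le_ker, Ideal.mk_ker]
  have : IsArtinianRing (R ⧸ I) := (isArtinianRing_iff_isNilpotent_maximalIdeal _).2 hnil
  rw [Module.length_eq_of_surjective (S := R) (R := R ⧸ I) (M := R ⧸ I)
    Ideal.Quotient.mk_surjective]
  exact Module.length_ne_top

/-- Case of local rings. Let φ : A → B be a local homomorphism of Noetherian local rings whose composite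
A → B/m_B² is surjective (the first infinitesimal neighbourhoods give a closed immersion), and
assume that A/m_A^(n+1) and B/m_B^(n+1) have the same length for every n (the associated graded
modules of the two maximal ideals have pieces of the same dimension over the common residue field).
Then for every n the composite A → B/m_B^(n+1) is surjective with kernel m_A^(n+1): φ identifies all
infinitesimal neighbourhoods. (The published statement is for a pointed morphism of Noetherian local
algebraic stacks; its proof reduces to this case of local rings.) -/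
theorem result
    (A : Type u) (B : Type v) [CommRing A] [CommRing B] [IsLocalRing A] [IsLocalRing B]
    [IsNoetherianRing A] [IsNoetherianRing B] (φ : A →+* B) [IsLocalHom φ]
    (h1 : Function.Surjective ((Ideal.Quotient.mk (IsLocalRing.maximalIdeal B ^ 2)).comp φ))
    (hlen : ∀ n : ℕ, Module.length A (A ⧸ IsLocalRing.maximalIdeal A ^ (n + 1)) =
      Module.length B (B ⧸ IsLocalRing.maximalIdeal B ^ (n + 1))) (n : ℕ) :
    Function.Surjective ((Ideal.Quotient.mk (IsLocalRing.maximalIdeal B ^ (n + 1))).comp φ) ∧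
      RingHom.ker ((Ideal.Quotient.mk (IsLocalRing.maximalIdeal B ^ (n + 1))).comp φ) =
        IsLocalRing.maximalIdeal A ^ (n + 1) := by
  classical
  -- approximation modulo m_B^2
  have happ2 : ∀ b : B, ∃ a : A, b - φ a ∈ maximalIdeal B ^ 2 := by
    intro b
    obtain ⟨a, ha⟩ := h1 (Ideal.Quotient.mk _ b)
    refine ⟨a, ?_⟩
    rw [RingHom.comp_apply, Ideal.Quotient.eq] at ha
    have := Ideal.neg_mem_iff _ |>.2 ha
    simpa using this
  have hsq_le : maximalIdeal B ^ 2 ≤ maximalIdeal B := Ideal.pow_le_self (by norm_num)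
  -- m_B = φ(m_A) B
  have hmap : (maximalIdeal A).map φ = maximalIdeal B := by
    apply le_antisymm (map_maximalIdeal_le φ)
    have hfg : (maximalIdeal B).FG := IsNoetherian.noetherian _
    refine Submodule.le_of_le_smul_of_le_jacobson_bot hfg
      (IsLocalRing.jacobson_eq_maximalIdeal (⊥ : Ideal B) bot_ne_top).ge ?_
    intro b hb
    obtain ⟨a, ha⟩ := happ2 b
    have hφa : φ a ∈ maximalIdeal B := by
      have : φ a = b - (b - φ a) := by ring
      rw [this]
      exact Ideal.sub_mem _ hb (hsq_le ha)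
    have haA : a ∈ maximalIdeal A := by
      rw [← maximalIdeal_comap φ]; exact hφa
    have : b = φ a + (b - φ a) := by ring
    rw [this]
    refine Submodule.add_mem_sup (Ideal.mem_map_of_mem φ haA) ?_
    rw [smul_eq_mul, ← pow_two]; exact ha
  -- approximation modulo m_B
  have happ1 : ∀ b : B, ∃ a : A, b - φ a ∈ maximalIdeal B := fun b => by
    obtain ⟨a, ha⟩ := happ2 b
    exact ⟨a, hsq_le ha⟩
  -- refinement step
  have hstep : ∀ m : ℕ, ∀ c ∈ maximalIdeal B ^ (m + 1),
      ∃ a ∈ maximalIdeal A ^ (m + 1), c - φ a ∈ maximalIdeal B ^ (m + 2) := by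
    intro m c hc
    have hc' : c ∈ Ideal.map φ (maximalIdeal A ^ (m + 1)) := by
      rw [Ideal.map_pow, hmap]; exact hc
    have hmapm : Ideal.map φ (maximalIdeal A ^ (m + 1)) = maximalIdeal B ^ (m + 1) := by
      rw [Ideal.map_pow, hmap]
    suffices hsuff : c ∈ maximalIdeal B ^ (m + 1) ∧
        ∃ a ∈ maximalIdeal A ^ (m + 1), c - φ a ∈ maximalIdeal B ^ (m + 2) from hsuff.2
    refine Submodule.span_induction (p := fun c _ => c ∈ maximalIdeal B ^ (m + 1) ∧
        ∃ a ∈ maximalIdeal A ^ (m + 1), c - φ a ∈ maximalIdeal B ^ (m + 2)) ?_ ?_ ?_ ?_ hc'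
    · rintro _ ⟨x, hx, rfl⟩
      refine ⟨?_, x, hx, by simp⟩
      rw [← hmapm]; exact Ideal.mem_map_of_mem φ hx
    · exact ⟨Ideal.zero_mem _, 0, Ideal.zero_mem _, by simp⟩
    · rintro x y _ _ ⟨hx, a, ha, hxa⟩ ⟨hy, a', ha', hya'⟩
      refine ⟨Ideal.add_mem _ hx hy, a + a', Ideal.add_mem _ ha ha', ?_⟩
      have : x + y - φ (a + a') = (x - φ a) + (y - φ a') := by rw [map_add]; ring
      rw [this]; exact Ideal.add_mem _ hxa hya'
    · rintro b x _ ⟨hx, a, ha, hxa⟩
      obtain ⟨a₀, ha₀⟩ := happ1 b
      refine ⟨Ideal.mul_mem_left _ b hx, a₀ * a, Ideal.mul_mem_left _ a₀ ha, ?_⟩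
      have : b • x - φ (a₀ * a) = φ a₀ * (x - φ a) + (b - φ a₀) * x := by
        rw [map_mul, smul_eq_mul]; ring
      rw [this]
      refine Ideal.add_mem _ (Ideal.mul_mem_left _ _ hxa) ?_
      have : maximalIdeal B ^ (m + 2) = maximalIdeal B * maximalIdeal B ^ (m + 1) := by
        rw [← pow_succ']
      rw [this]
      exact Ideal.mul_mem_mul ha₀ hx
  -- approximation modulo all powers
  have happ : ∀ m : ℕ, ∀ b : B, ∃ a : A, b - φ a ∈ maximalIdeal B ^ (m + 1) := by
    intro m
    induction m with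
    | zero => intro b; simpa using happ1 b
    | succ m ih =>
      intro b
      obtain ⟨a, ha⟩ := ih b
      obtain ⟨a', _, ha'⟩ := hstep m _ ha
      refine ⟨a + a', ?_⟩
      have : b - φ (a + a') = b - φ a - φ a' := by rw [map_add]; ring
      rw [this]; exact ha'
  have hsurj : Function.Surjective
      ((Ideal.Quotient.mk (maximalIdeal B ^ (n + 1))).comp φ) := by
    intro y
    obtain ⟨b, rfl⟩ := Ideal.Quotient.mk_surjective y
    obtain ⟨a, ha⟩ := happ n b
    refine ⟨a, ?_⟩
    rw [RingHom.comp_apply, Ideal.Quotient.eq]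
    have := Ideal.neg_mem_iff _ |>.2 ha
    simpa using this
  refine ⟨hsurj, ?_⟩
  -- the kernel
  set ψ : A →+* B ⧸ maximalIdeal B ^ (n + 1) :=
    (Ideal.Quotient.mk (maximalIdeal B ^ (n + 1))).comp φ with hψ
  set K := RingHom.ker ψ with hK
  have hle : maximalIdeal A ^ (n + 1) ≤ K := by
    intro a ha
    rw [hK, RingHom.mem_ker, hψ, RingHom.comp_apply, Ideal.Quotient.eq_zero_iff_mem]
    have : φ a ∈ Ideal.map φ (maximalIdeal A ^ (n + 1)) := Ideal.mem_map_of_mem φ ha
    rwa [Ideal.map_pow, hmap] at this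
  apply le_antisymm _ hle
  -- lengths
  let _ : Algebra A (B ⧸ maximalIdeal B ^ (n + 1)) := ψ.toAlgebra
  have hlenB : Module.length A (B ⧸ maximalIdeal B ^ (n + 1)) =
      Module.length (B ⧸ maximalIdeal B ^ (n + 1)) (B ⧸ maximalIdeal B ^ (n + 1)) :=
    Module.length_eq_of_surjective (S := A) (R := B ⧸ maximalIdeal B ^ (n + 1))
      (M := B ⧸ maximalIdeal B ^ (n + 1)) hsurj
  have hlenB' : Module.length B (B ⧸ maximalIdeal B ^ (n + 1)) =
      Module.length (B ⧸ maximalIdeal B ^ (n + 1)) (B ⧸ maximalIdeal B ^ (n + 1)) :=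
    Module.length_eq_of_surjective (S := B) (R := B ⧸ maximalIdeal B ^ (n + 1))
      (M := B ⧸ maximalIdeal B ^ (n + 1)) Ideal.Quotient.mk_surjective
  -- A ⧸ K ≃ B ⧸ m^(n+1) as A-modules
  let e : (A ⧸ K) ≃ₗ[A] (B ⧸ maximalIdeal B ^ (n + 1)) :=
    { (RingHom.quotientKerEquivOfSurjective hsurj : (A ⧸ K) ≃+* _) with
      map_smul' := by
        intro a x
        obtain ⟨x, rfl⟩ := Ideal.Quotient.mk_surjective x
        change (RingHom.quotientKerEquivOfSurjective hsurj) (a • Ideal.Quotient.mk K x) =
          a • (RingHom.quotientKerEquivOfSurjective hsurj) (Ideal.Quotient.mk K x)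
        rw [Algebra.smul_def, Algebra.smul_def, map_mul]
        rfl }
  have hlenK : Module.length A (A ⧸ K) = Module.length A (B ⧸ maximalIdeal B ^ (n + 1)) :=
    e.length_eq
  -- exact sequence 0 → K/m^(n+1) → A/m^(n+1) → A/K → 0
  set I := maximalIdeal A ^ (n + 1) with hIdef
  let N : Submodule A (A ⧸ I) := Submodule.map (Submodule.mkQ I) K
  have hexact := Module.length_eq_add_of_exact (R := A) N.subtype N.mkQ
    N.injective_subtype N.mkQ_surjective (LinearMap.exact_subtype_mkQ N)
  have hquot : Module.length A ((A ⧸ I) ⧸ N) = Module.length A (A ⧸ K) :=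
    (Submodule.quotientQuotientEquivQuotient I K hle).length_eq
  have hfin : Module.length A (A ⧸ I) ≠ ⊤ := length_quot_pow_ne_top A n
  have htot : Module.length A (A ⧸ I) = Module.length A (A ⧸ K) := by
    rw [hlenK, hlenB, ← hlenB']
    exact hlen n
  have hN0 : Module.length A N = 0 := by
    rw [hquot, ← htot] at hexact
    have h2 : (0 : ℕ∞) + Module.length A (A ⧸ I) = Module.length A N + Module.length A (A ⧸ I) := by
      rw [zero_add]; exact hexact
    exact (ENat.add_left_injective_of_ne_top hfin h2).symm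
  have hNbot : N = ⊥ := by
    rw [Module.length_eq_zero_iff] at hN0
    exact (Submodule.subsingleton_iff_eq_bot).1 hN0
  intro a ha
  have : Submodule.mkQ I a ∈ N := Submodule.mem_map_of_mem ha
  rw [hNbot, Submodule.mem_bot, Submodule.mkQ_apply, Submodule.Quotient.mk_eq_zero] at this
  exact this

end Groth.Agent.S16104
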