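import Groth.Statements.S16127
import Groth.Agent.H40.TorsProp
set_option backward.isDefEq.respectTransparency.types false

set_option autoImplicit false
universe u
open CategoryTheory MonoidalCategory CartesianMonoidalCategory MonObj GrpObj AlgebraicGeometry CategoryTheory.Limits
open AlgGrp

namespace Groth.Agent.S16127

/-- Over an algebraically closed field k, let G be an algebraic group (a smooth k-group scheme of finite
type) acting by σ on a variety X, and let f : X → Y be a principal G-bundle over a variety Y (X, Y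
reduced separated k-schemes of finite type; f flat and surjective, the square σ, p₂ : G × X → X, f,
f cartesian). Then f^* identifies Γ(Y, O_Y) with the invariants Γ(X, O_X)^G: f^* on global sections
is injective and its range is the set of global functions s on X with σ^*(s) = p₂^*(s). -/
theorem result (k : Type u) [Field k] [IsAlgClosed k]
    (G X Y : Over (Spec (CommRingCat.of k))) [GrpObj G] [Smooth G.hom] [QuasiCompact G.hom]
    [IsReduced X.left] [IsSeparated X.hom] [LocallyOfFiniteType X.hom] [QuasiCompact X.hom]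
    [IsReduced Y.left] [IsSeparated Y.hom] [LocallyOfFiniteType Y.hom] [QuasiCompact Y.hom]
    (a : AlgGrp.Action G X) (f : X ⟶ Y) [Flat f.left] [Surjective f.left]
    (hsq : IsPullback a.act.left (snd G X).left f.left f.left) :
    Function.Injective (f.left.appTop) ∧
      Set.range (f.left.appTop) = {s : Γ(X.left, ⊤) | a.act.left.appTop s = (snd G X).left.appTop s} := by
  have hqc : QuasiCompact f.left := Groth.Agent.H40.quasiCompact_left_of_over f
  have hsq' : IsPullback a.act (snd G X) f f :=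
    IsPullback.of_map (Over.forget _) (by
      ext
      exact hsq.w) hsq
  have hinv : GIT.IsInvariant a f := hsq'.w
  have hiso : IsIso (GIT.PsiY a f hinv) := by
    have : GIT.PsiY a f hinv = hsq.isoPullback.hom := by
      apply Limits.pullback.hom_ext
      · rw [IsPullback.isoPullback_hom_fst]
        exact Limits.pullback.lift_fst _ _ _
      · rw [IsPullback.isoPullback_hom_snd]
        exact Limits.pullback.lift_snd _ _ _
    rw [this]
    infer_instance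
  have hgq := Groth.Agent.H40.isGeomQuot_of_isIso_PsiY a f hinv hiso
  obtain ⟨hinj, hrange⟩ := hgq.sections ⊤
  refine ⟨hinj, ?_⟩
  have hr : Set.range (f.left.appTop) = Set.range (f.left.app ⊤) := rfl
  rw [hr, hrange]
  ext s
  simp only [Set.mem_ofPred_eq]
  constructor
  · intro hs
    have hs' : a.act.left.appLE (f.left ⁻¹ᵁ ⊤)
        (a.act.left ⁻¹ᵁ (f.left ⁻¹ᵁ ⊤) ⊓ (snd G X).left ⁻¹ᵁ (f.left ⁻¹ᵁ ⊤)) inf_le_left s =
      (snd G X).left.appLE (f.left ⁻¹ᵁ ⊤)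
        (a.act.left ⁻¹ᵁ (f.left ⁻¹ᵁ ⊤) ⊓ (snd G X).left ⁻¹ᵁ (f.left ⁻¹ᵁ ⊤)) inf_le_right s := hs
    have htop : (a.act.left ⁻¹ᵁ (f.left ⁻¹ᵁ ⊤) ⊓ (snd G X).left ⁻¹ᵁ (f.left ⁻¹ᵁ ⊤) :
        (G ⊗ X).left.Opens) = ⊤ := by
      ext x
      simp
    have key : ∀ (g : (G ⊗ X).left ⟶ X.left)
        (hle : (a.act.left ⁻¹ᵁ (f.left ⁻¹ᵁ ⊤) ⊓ (snd G X).left ⁻¹ᵁ (f.left ⁻¹ᵁ ⊤) :
          (G ⊗ X).left.Opens) ≤ g ⁻¹ᵁ (f.left ⁻¹ᵁ ⊤)),
        g.appLE (f.left ⁻¹ᵁ ⊤) _ hle s =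
          (G ⊗ X).left.presheaf.map (homOfLE le_top).op (g.appTop s) := by
      intro g hle
      rw [Scheme.Hom.appLE]
      rfl
    rw [key, key] at hs'
    have hinj' : Function.Injective ((G ⊗ X).left.presheaf.map (homOfLE (le_top :
        (a.act.left ⁻¹ᵁ (f.left ⁻¹ᵁ ⊤) ⊓ (snd G X).left ⁻¹ᵁ (f.left ⁻¹ᵁ ⊤) :
          (G ⊗ X).left.Opens) ≤ ⊤)).op) := by
      have : IsIso ((G ⊗ X).left.presheaf.map (homOfLE (le_top :
        (a.act.left ⁻¹ᵁ (f.left ⁻¹ᵁ ⊤) ⊓ (snd G X).left ⁻¹ᵁ (f.left ⁻¹ᵁ ⊤) :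
          (G ⊗ X).left.Opens) ≤ ⊤)).op) := by
        have : IsIso (homOfLE (le_top :
          (a.act.left ⁻¹ᵁ (f.left ⁻¹ᵁ ⊤) ⊓ (snd G X).left ⁻¹ᵁ (f.left ⁻¹ᵁ ⊤) :
            (G ⊗ X).left.Opens) ≤ ⊤)) :=
          ⟨homOfLE (by rw [htop]), Subsingleton.elim _ _, Subsingleton.elim _ _⟩
        infer_instance
      exact ((ConcreteCategory.isIso_iff_bijective _).1 this).1
    exact hinj' hs'
  · intro hs
    change a.act.left.appLE (f.left ⁻¹ᵁ ⊤)
        (a.act.left ⁻¹ᵁ (f.left ⁻¹ᵁ ⊤) ⊓ (snd G X).left ⁻¹ᵁ (f.left ⁻¹ᵁ ⊤)) inf_le_left s =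
      (snd G X).left.appLE (f.left ⁻¹ᵁ ⊤)
        (a.act.left ⁻¹ᵁ (f.left ⁻¹ᵁ ⊤) ⊓ (snd G X).left ⁻¹ᵁ (f.left ⁻¹ᵁ ⊤)) inf_le_right s
    have key : ∀ (g : (G ⊗ X).left ⟶ X.left)
        (hle : (a.act.left ⁻¹ᵁ (f.left ⁻¹ᵁ ⊤) ⊓ (snd G X).left ⁻¹ᵁ (f.left ⁻¹ᵁ ⊤) :
          (G ⊗ X).left.Opens) ≤ g ⁻¹ᵁ (f.left ⁻¹ᵁ ⊤)),
        g.appLE (f.left ⁻¹ᵁ ⊤) _ hle s =
          (G ⊗ X).left.presheaf.map (homOfLE le_top).op (g.appTop s) := by
      intro g hle
      rw [Scheme.Hom.appLE]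
      rfl
    rw [key, key, hs]

end Groth.Agent.S16127
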