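import Groth.Statements.S16133
import Groth.Agent.H40.AssocBundleMain
import Groth.Agent.H40.TorsProp
import Groth.Agent.H1.Descent
import Groth.Agent.H90.PerfectProdReduced
import Groth.Agent.H38.FlatDescentStalk

set_option autoImplicit false
universe u
open CategoryTheory MonoidalCategory CartesianMonoidalCategory MonObj GrpObj AlgebraicGeometry CategoryTheory.Limits
open AlgGrp

namespace Groth.Agent.S16133

/-- Over an algebraically closed field k, let G be an algebraic group (a smooth k-group scheme of finite
type), f : X → Y a principal G-bundle between varieties (X, Y reduced separated k-schemes of finite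
type; σ the action on X; f flat and surjective with the square σ, p₂, f, f cartesian), and Z an
affine variety with an action τ of G. Then the associated fibre bundle X ×^G Z → Y exists: there are
a variety W (reduced, separated, of finite type over k), a morphism φ : X × Z → W which is invariant
for the diagonal action g · (x, z) = (g · x, g · z), and a morphism ψ : W → Y such that the square
formed by p₁ : X × Z → X, φ, f and ψ is cartesian. (The published statement covers every
G-quasi-projective Z; affine G-varieties are G-quasi-projective, and only that case is stated here.) -/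
theorem result (k : Type u) [Field k] [IsAlgClosed k]
    (G X Y Z : Over (Spec (CommRingCat.of k))) [GrpObj G] [Smooth G.hom] [QuasiCompact G.hom]
    [IsReduced X.left] [IsSeparated X.hom] [LocallyOfFiniteType X.hom] [QuasiCompact X.hom]
    [IsReduced Y.left] [IsSeparated Y.hom] [LocallyOfFiniteType Y.hom] [QuasiCompact Y.hom]
    [IsReduced Z.left] [IsAffine Z.left] [LocallyOfFiniteType Z.hom]
    (a : AlgGrp.Action G X) (f : X ⟶ Y) [Flat f.left] [Surjective f.left]
    (hsq : IsPullback a.act.left (snd G X).left f.left f.left) (b : AlgGrp.Action G Z) :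
    ∃ (W : Over (Spec (CommRingCat.of k))) (φ : X ⊗ Z ⟶ W) (ψ : W ⟶ Y),
      IsReduced W.left ∧ IsSeparated W.hom ∧ LocallyOfFiniteType W.hom ∧ QuasiCompact W.hom ∧
      lift ((G ◁ fst X Z) ≫ a.act) ((G ◁ snd X Z) ≫ b.act) ≫ φ = snd G (X ⊗ Z) ≫ φ ∧
      IsPullback (fst X Z).left φ.left f.left ψ.left := by
  have hw : a.act ≫ f = snd G X ≫ f := by
    apply Over.OverMorphism.ext
    exact hsq.w
  have hcart : IsPullback a.act (snd G X) f f := IsPullback.of_map (Over.forget _) hw hsq
  have hqc : QuasiCompact f.left := Groth.Agent.H40.quasiCompact_left_of_over f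
  have hZ0 : IsAffineHom Z.hom := by
    have : IsAffine ((Functor.fromPUnit (Spec (CommRingCat.of k))).obj Z.right) :=
      inferInstanceAs (IsAffine (Spec (CommRingCat.of k)))
    exact isAffineHom_of_isAffine _
  have hF : IsAffineHom (fst X Z).left := by
    change IsAffineHom (Limits.pullback.fst X.hom Z.hom)
    exact MorphismProperty.pullback_fst (P := @IsAffineHom) _ _ hZ0
  have hfstLFT : LocallyOfFiniteType (fst X Z).left := by
    change LocallyOfFiniteType (Limits.pullback.fst X.hom Z.hom)
    infer_instance
  obtain ⟨W, q, r, hqr, hpb, htors⟩ := Groth.Agent.H40.AssocBundle.exists_assocBundle a f hcart b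
  have hleft : IsPullback (fst X Z).left q.left f.left r.left := hpb.map (Over.forget _)
  have hfpqc : (@Surjective ⊓ @Flat ⊓ @QuasiCompact : MorphismProperty Scheme.{u}) f.left :=
    ⟨⟨inferInstance, inferInstance⟩, hqc⟩
  have hr_aff : IsAffineHom r.left :=
    MorphismProperty.DescendsAlong.of_isPullback (P := @IsAffineHom)
      (Q := (@Surjective ⊓ @Flat ⊓ @QuasiCompact : MorphismProperty Scheme.{u}))
      (self := Groth.Agent.H1.isAffineHom_descendsAlong_fpqc) hleft hfpqc hF
  have hr_lft : LocallyOfFiniteType r.left :=
    MorphismProperty.DescendsAlong.of_isPullback (P := @LocallyOfFiniteType)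
      (Q := (@Surjective ⊓ @Flat ⊓ @QuasiCompact : MorphismProperty Scheme.{u})) hleft hfpqc hfstLFT
  have hWhom : W.hom = r.left ≫ Y.hom := (Over.w r).symm
  refine ⟨W, q, r, ?_, ?_, ?_, ?_, htors.w, hleft⟩
  · have hq_flat : Flat q.left :=
      MorphismProperty.of_isPullback (P := @Flat) hleft inferInstance
    have hq_surj : Surjective q.left :=
      MorphismProperty.of_isPullback (P := @Surjective) hleft inferInstance
    have hXZ : IsReduced (X ⊗ Z).left :=
      Groth.Agent.H90.isReduced_pullback_of_perfectField k X.hom Z.hom
    apply +allowSynthFailures isReduced_of_isReduced_stalk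
    intro w
    obtain ⟨p, rfl⟩ := q.left.surjective w
    exact Groth.Agent.H38.FlatDescentStalk.reduced_stalk_of_flat q.left p inferInstance
  · rw [hWhom]; infer_instance
  · rw [hWhom]; infer_instance
  · rw [hWhom]; infer_instance

end Groth.Agent.S16133
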