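import Groth.Statements.S1614
import Groth.Agent.H18.TwistTriv

set_option autoImplicit false
universe u
open CategoryTheory CategoryTheory.Limits AlgebraicGeometry
open Constr

namespace Groth.Agent.S1614

/-- Let A be a graded ring, X = Proj A, and f homogeneous of degree d > 0. For every integer n the
restriction of the twisting sheaf O(nd) to the standard open D_+(f) is isomorphic to the structure
sheaf (in particular invertible). -/
theorem result {R A : Type u} [CommRing R] [CommRing A] [Algebra R A] (𝒜 : ℕ → Submodule R A) [GradedAlgebra 𝒜]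
    (d : ℕ) (hd : 0 < d) (f : A) (hf : f ∈ 𝒜 d) (n : ℤ) :
    Nonempty ((Twist.twist 𝒜 (n * d)).restrict (Proj.basicOpen 𝒜 f).ι ≅ Coh.structureModule ↑(Proj.basicOpen 𝒜 f)) := by
  have hone : ∀ x : ProjectiveSpectrum 𝒜, x ∈ Proj.basicOpen 𝒜 f → (1 : A) ∉ x.asHomogeneousIdeal :=
    fun x _ h => x.isPrime.ne_top ((Ideal.eq_top_iff_one _).mpr h)
  have hpow : ∀ k : ℕ, ∀ x : ProjectiveSpectrum 𝒜, x ∈ Proj.basicOpen 𝒜 f → f ^ k ∉ x.asHomogeneousIdeal :=
    fun k x hx h => hx (x.isPrime.mem_of_pow_mem k h)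
  have hpm : ∀ k : ℕ, f ^ k ∈ 𝒜 (k * d) := by
    intro k
    have := SetLike.pow_mem_graded k hf
    simpa [smul_eq_mul] using this
  rcases le_or_gt 0 n with hn | hn
  · obtain ⟨k, rfl⟩ := Int.eq_ofNat_of_zero_le hn
    exact Groth.Agent.H18.nonempty_twist_restrict_iso 𝒜 (hpm k)
      (SetLike.GradedOne.one_mem : (1 : A) ∈ 𝒜 0) (by push_cast; ring) _ (hpow k) hone
  · obtain ⟨k, hk⟩ := Int.eq_ofNat_of_zero_le (by omega : 0 ≤ -n)
    have hn' : n = -(k : ℤ) := by omega
    subst hn'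
    exact Groth.Agent.H18.nonempty_twist_restrict_iso 𝒜
      (SetLike.GradedOne.one_mem : (1 : A) ∈ 𝒜 0) (hpm k) (by push_cast; ring) _ hone (hpow k)

end Groth.Agent.S1614
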