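import Groth.Statements.S1615
-- import your own Groth.Agent.* helpers here

set_option autoImplicit false
universe u
open CategoryTheory CategoryTheory.Limits AlgebraicGeometry
open Constr

namespace Groth.Agent.S1615

/-- For a graded ring A, quasi-compactness of Proj A is equivalent to the existence of finitely many
homogeneous elements of positive degree generating an ideal whose radical contains the irrelevant
ideal A_+. -/
theorem result {R A : Type u} [CommRing R] [CommRing A] [Algebra R A] (𝒜 : ℕ → Submodule R A) [GradedAlgebra 𝒜] :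
    CompactSpace ↥(Proj 𝒜) ↔ ∃ s : Finset A, (∀ f ∈ s, ∃ d : ℕ, 0 < d ∧ f ∈ 𝒜 d) ∧
      (HomogeneousIdeal.irrelevant 𝒜).toIdeal ≤ (Ideal.span (s : Set A)).radical := by
  classical
  constructor
  · intro hc
    -- cover by all D₊(f), f homogeneous of positive degree
    let ι := Σ i : PNat, 𝒜 i
    let g : ι → A := fun i ↦ i.2
    have hg : (HomogeneousIdeal.irrelevant 𝒜).toIdeal ≤ Ideal.span (Set.range g) := by
      intro z hz
      rw [← DirectSum.sum_support_decompose 𝒜 z]
      refine Ideal.sum_mem _ fun c hc ↦ if hc0 : c = 0 then ?_ else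
        Ideal.subset_span ⟨⟨⟨c, Nat.pos_iff_ne_zero.mpr hc0⟩, _⟩, rfl⟩
      convert Ideal.zero_mem _
      subst hc0
      exact hz
    have hcov := Proj.iSup_basicOpen_eq_top 𝒜 g hg
    have hcov' : (Set.univ : Set (Proj 𝒜)) ⊆ ⋃ i, (Proj.basicOpen 𝒜 (g i) : Set (Proj 𝒜)) := by
      intro x _
      have hx : x ∈ (⨆ i, Proj.basicOpen 𝒜 (g i)) := by rw [hcov]; trivial
      rw [TopologicalSpace.Opens.mem_iSup] at hx
      exact Set.mem_iUnion.mpr hx
    obtain ⟨t, ht⟩ := isCompact_univ.elim_finite_subcover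
      (fun i ↦ (Proj.basicOpen 𝒜 (g i) : Set (Proj 𝒜)))
      (fun i ↦ (Proj.basicOpen 𝒜 (g i)).2) hcov'
    refine ⟨t.image g, ?_, ?_⟩
    · intro f hf
      obtain ⟨i, _, rfl⟩ := Finset.mem_image.mp hf
      exact ⟨i.1, i.1.2, i.2.2⟩
    · have hhom : (Ideal.span ((t.image g : Finset A) : Set A)).IsHomogeneous 𝒜 := by
        apply Ideal.homogeneous_span
        intro x hx
        obtain ⟨i, _, rfl⟩ := Finset.mem_image.mp (Finset.mem_coe.mp hx)
        exact ⟨i.1, i.2.2⟩
      rw [hhom.radical_eq]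
      refine le_sInf ?_
      rintro J ⟨hJh, hJle, hJp⟩
      by_contra hnot
      let x : Proj 𝒜 := (⟨⟨J, hJh⟩, hJp, fun h ↦ hnot h⟩ : ProjectiveSpectrum 𝒜)
      obtain ⟨i, hi, hxi⟩ : ∃ i ∈ t, x ∈ (Proj.basicOpen 𝒜 (g i) : Set (Proj 𝒜)) := by
        have := ht (Set.mem_univ x)
        simpa using this
      apply hxi
      change g i ∈ J
      exact hJle (Ideal.subset_span (Finset.mem_coe.mpr (Finset.mem_image_of_mem g hi)))
  · rintro ⟨s, hs, hle⟩
    have hcov : (Set.univ : Set (Proj 𝒜)) = ⋃ f ∈ s, (Proj.basicOpen 𝒜 f : Set (Proj 𝒜)) := by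
      symm
      rw [Set.eq_univ_iff_forall]
      intro x
      by_contra hx
      simp only [Set.mem_iUnion, not_exists] at hx
      apply x.not_irrelevant_le
      have hspan : Ideal.span (s : Set A) ≤ x.asHomogeneousIdeal.toIdeal := by
        rw [Ideal.span_le]
        intro f hf
        by_contra hfx
        exact hx f (Finset.mem_coe.mp hf) hfx
      intro z hz
      have := hle hz
      exact (Ideal.IsPrime.radical_le_iff x.isPrime).mpr hspan this
    constructor
    rw [hcov]
    apply s.isCompact_biUnion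
    intro f hf
    obtain ⟨d, hd, hfd⟩ := hs f hf
    exact (Proj.isAffineOpen_basicOpen 𝒜 f hfd hd).isCompact

end Groth.Agent.S1615
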