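import Groth.Statements.S16156
import Mathlib.Tactic.Ring
import Mathlib.Tactic.Linarith
import Mathlib.Tactic.Positivity
import Mathlib.Tactic.Push

set_option autoImplicit false
universe u
open MukaiVec

namespace Groth.Agent.S16156

/-- Let N be an abelian group with a symmetric integer-valued bilinear form and H an element with H·H =
2n for some n > 0 such that every x with x·H = 0 satisfies x·x ≤ 0 (the Hodge index inequality). Fix
integers r ≥ 2, d > 0 and χ < 0 (a Mukai vector v = (r, dH, χ)) and an isotropic Mukai vector u =
(p, η, q), p ≥ 0, η ∈ N, η·η = 2pq, whose pairing ⟨v, u⟩ = d(H·η) − rq − χp has absolute value 1 or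
2. Exclude the case d = 1, χ = −1, H·η = 1, η·η = 0, and when r = 2 also the case p = 0, H·η = 0.
Then the pairings of u∨ = (p, −η, q) with w₀ = (0, rH, −2nd) and with w₁ = (2nd, −χH, 0) are both
non-negative or both negative: 2ndp − r(H·η) ≥ 0 holds if and only if χ(H·η) − 2ndq ≥ 0 holds. -/
theorem result
    (N : Type u) [AddCommGroup N] (B : LinearMap.BilinForm ℤ N) (hB : ∀ x y : N, B x y = B y x)
    (H : N) (n : ℤ) (hn : 0 < n) (hH : B H H = 2 * n) (hodge : ∀ x : N, B x H = 0 → B x x ≤ 0)
    (r d χ p q : ℤ) (η : N) (hr : 2 ≤ r) (hd : 0 < d) (hχ : χ < 0) (hp : 0 ≤ p)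
    (hiso : B η η = 2 * p * q)
    (hvu : 1 ≤ |d * B H η - r * q - χ * p| ∧ |d * B H η - r * q - χ * p| ≤ 2)
    (hexc : ¬ (d = 1 ∧ χ = -1 ∧ B H η = 1 ∧ B η η = 0))
    (hr2 : r = 2 → ¬ (p = 0 ∧ B H η = 0)) :
    (0 ≤ 2 * n * d * p - r * B H η ↔ 0 ≤ χ * B H η - 2 * n * d * q) := by
  obtain ⟨t, ht⟩ : ∃ t : ℤ, t = B H η := ⟨_, rfl⟩
  rw [← ht] at hvu hexc hr2 ⊢
  -- Hodge index inequality
  have hhodge : 4 * n * p * q ≤ t * t := by
    have h0 : B ((2 * n) • η - t • H) H = 0 := by
      simp only [map_sub, map_smul, LinearMap.sub_apply, LinearMap.smul_apply, smul_eq_mul]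
      rw [hB η H, ← ht, hH]; ring
    have h1 := hodge _ h0
    have hexp : B ((2 * n) • η - t • H) ((2 * n) • η - t • H) =
        (2 * n) * (2 * n) * B η η - 2 * (2 * n) * t * B H η + t * t * B H H := by
      simp only [map_sub, map_smul, LinearMap.sub_apply, LinearMap.smul_apply, smul_eq_mul]
      rw [hB η H]; ring
    rw [hexp, hiso, ← ht, hH] at h1
    -- 2n * (4 n p q - t t) ≤ 0
    by_contra hcon
    push Not at hcon
    have : 0 < (2 * n) * (4 * n * p * q - t * t) := mul_pos (by linarith) (by linarith)
    nlinarith
  obtain ⟨hm1, hm2⟩ := hvu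
  have hmle : d * t - r * q - χ * p ≤ 2 := (abs_le.1 hm2).2
  have hmge : -2 ≤ d * t - r * q - χ * p := (abs_le.1 hm2).1
  have hr0 : 0 < r := by linarith
  have hχp : 0 ≤ -χ * p := mul_nonneg (by linarith) hp
  constructor
  · intro hα
    by_contra hβ
    push Not at hβ
    rcases lt_trichotomy t 0 with htneg | ht0 | htpos
    · -- t < 0
      have hχt : 0 < χ * t := mul_pos_of_neg_of_neg hχ htneg
      have hq : 0 < q := by
        by_contra hq
        push Not at hq
        have : 2 * n * d * q ≤ 0 := by
          have : 0 ≤ 2 * n * d := by positivity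
          nlinarith
        linarith
      have hdt : d * t ≤ -1 := by nlinarith
      have hrq : 2 ≤ r * q := by nlinarith
      rcases hp.eq_or_lt with hp0 | hppos
      · rw [← hp0] at hmge
        linarith
      · -- d t < 2 p χ
        have h1 : 2 * p * (χ * t) < 2 * p * (2 * n * d * q) :=
          mul_lt_mul_of_pos_left (by linarith) (by linarith)
        have h2 : d * (4 * n * p * q) ≤ d * (t * t) := mul_le_mul_of_nonneg_left hhodge hd.le
        have h3 : t * (2 * p * χ) < t * (d * t) := by nlinarith
        have h4 : d * t < 2 * p * χ := lt_of_mul_lt_mul_of_nonpos_left h3 htneg.le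
        have h5 : p * χ ≤ -1 := by nlinarith
        linarith
    · -- t = 0
      subst ht0
      have hq : 0 < q := by
        by_contra hq
        push Not at hq
        have : 2 * n * d * q ≤ 0 := by
          have : 0 ≤ 2 * n * d := by positivity
          nlinarith
        linarith
      have hp0 : p = 0 := by
        by_contra hne
        have hppos : 0 < p := lt_of_le_of_ne hp (Ne.symm hne)
        have : 0 < 4 * n * p * q := by positivity
        linarith
      subst hp0
      have hrq : r * q ≤ 2 := by linarith
      have hq1 : q = 1 := by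
        by_contra hne
        have : 2 ≤ q := by omega
        nlinarith
      subst hq1
      have hr2' : r = 2 := by linarith
      exact hr2 hr2' ⟨rfl, rfl⟩
    · -- t > 0
      have hppos : 0 < p := by
        by_contra hne
        push Not at hne
        have hp0 : p = 0 := le_antisymm hne hp
        subst hp0
        have : 0 < r * t := mul_pos hr0 htpos
        linarith
      have hdt : 1 ≤ d * t := by nlinarith
      have hχp1 : 1 ≤ -χ * p := by nlinarith
      rcases lt_trichotomy q 0 with hqneg | hq0 | hqpos
      · have : r ≤ -(r * q) := by nlinarith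
        linarith
      · subst hq0
        -- d t = 1 and -χ p = 1
        have hdt1 : d * t = 1 := by linarith
        have hχp1' : -χ * p = 1 := by linarith
        have hd1 : d = 1 := by
          by_contra hne
          have : 2 ≤ d := by omega
          nlinarith
        have ht1 : t = 1 := by rw [hd1] at hdt1; linarith
        have hχ1 : χ = -1 := by
          by_contra hne
          have : χ ≤ -2 := by omega
          nlinarith
        exact hexc ⟨hd1, hχ1, ht1, by rw [hiso]; ring⟩
      · -- q > 0 : d t ≥ 2 r q
        have h1 : 2 * q * (r * t) ≤ 2 * q * (2 * n * d * p) :=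
          mul_le_mul_of_nonneg_left (by linarith) (by linarith)
        have h2 : d * (4 * n * p * q) ≤ d * (t * t) := mul_le_mul_of_nonneg_left hhodge hd.le
        have h3 : t * (2 * r * q) ≤ t * (d * t) := by nlinarith
        have h4 : 2 * r * q ≤ d * t := le_of_mul_le_mul_left h3 htpos
        have h5 : 2 ≤ r * q := by nlinarith
        linarith
  · intro hβ
    by_contra hα
    push Not at hα
    have hndp : 0 ≤ 2 * n * d * p := by positivity
    have htpos : 0 < t := by
      by_contra hne
      push Not at hne
      have : r * t ≤ 0 := by nlinarith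
      linarith
    have hχt : χ * t < 0 := mul_neg_of_neg_of_pos hχ htpos
    have hq : q ≤ -1 := by
      by_contra hne
      push Not at hne
      have hq0 : 0 ≤ q := by omega
      have : 0 ≤ 2 * n * d * q := by positivity
      linarith
    have hdt : 1 ≤ d * t := by nlinarith
    have : r ≤ -(r * q) := by nlinarith
    linarith

end Groth.Agent.S16156
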