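import Groth.Statements.S16158
import Mathlib.RingTheory.Ideal.AssociatedPrime.Finiteness
import Mathlib.Algebra.Module.Torsion.Basic
import Mathlib.LinearAlgebra.Dimension.Finite
import Mathlib.LinearAlgebra.DFinsupp
import Mathlib.Order.SupIndep
import Mathlib.LinearAlgebra.FreeModule.StrongRankCondition

set_option autoImplicit false
universe u v w
open MadRed

namespace Groth.Agent.S16158

/-- Let R be a commutative Noetherian ring and M a finitely generated R-module. Then there is a natural
number n such that in every decomposition of M as an internal direct sum of a family of submodules,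
at most n of the summands are nonzero (the nonzero summands are indexed by a finite set of size at
most n). -/
theorem result (R : Type u) [CommRing R] [IsNoetherianRing R]
    (M : Type v) [AddCommGroup M] [Module R M] [Module.Finite R M] :
    ∃ n : ℕ, ∀ (ι : Type w) [DecidableEq ι] (N : ι → Submodule R M), DirectSum.IsInternal N →
      ∃ s : Finset ι, s.card ≤ n ∧ ∀ i, N i ≠ ⊥ → i ∈ s := by
  classical
  have : IsNoetherian R M := isNoetherian_of_isNoetherianRing_of_finite R M
  have hA : (associatedPrimes R M).Finite := associatedPrimes.finite R M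
  refine ⟨∑ p ∈ hA.toFinset, Module.finrank (R ⧸ p) (Submodule.torsionBySet R M (p : Set R)), ?_⟩
  intro ι _ N hN
  have hind : iSupIndep N := hN.submodule_iSupIndep
  have hfin : {i | N i ≠ ⊥}.Finite := WellFoundedGT.finite_ne_bot_of_iSupIndep hind
  -- choose an associated prime and a witness in each nonzero summand
  have hchoose : ∀ i, N i ≠ ⊥ → ∃ (p : Ideal R) (x : M), p.IsPrime ∧ x ∈ N i ∧
      p ∈ associatedPrimes R M ∧ ∀ r : R, r ∈ p ↔ r • x = 0 := by
    intro i hi
    have : Nontrivial (N i) := Submodule.nontrivial_iff_ne_bot.2 hi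
    obtain ⟨p, hp⟩ := associatedPrimes.nonempty R (N i)
    obtain ⟨hpp, x, hx⟩ := (isAssociatedPrime_iff).1 hp
    refine ⟨p, (x : M), hpp, x.2, ?_, ?_⟩
    · exact associatedPrimes.subset_of_injective (f := (N i).subtype) (N i).injective_subtype hp
    · intro r
      rw [hx, Submodule.mem_colon_singleton, Submodule.mem_bot]
      rw [← Submodule.coe_smul, ← Submodule.coe_zero (p := N i), Subtype.ext_iff]
  choose! P X hPprime hXmem hPass hPX using hchoose
  refine ⟨hfin.toFinset, ?_, fun i hi => by simpa using hi⟩
  have hmaps : ∀ i ∈ hfin.toFinset, P i ∈ hA.toFinset := by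
    intro i hi
    simp only [Set.Finite.mem_toFinset, Set.mem_ofPred_eq] at hi
    simpa using hPass i hi
  rw [Finset.card_eq_sum_card_fiberwise hmaps]
  refine Finset.sum_le_sum fun p hp => ?_
  have hpA : p ∈ associatedPrimes R M := by simpa using hp
  have hpprime : p.IsPrime := hpA.isPrime
  -- the family of witnesses in the fibre over p
  set F := hfin.toFinset.filter (fun i => P i = p) with hF
  have hFmem : ∀ i : F, N i.1 ≠ ⊥ ∧ P i.1 = p := by
    intro i
    have := i.2
    simp only [hF, Finset.mem_filter, Set.Finite.mem_toFinset, Set.mem_ofPred_eq] at this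
    exact this
  let v : F → Submodule.torsionBySet R M (p : Set R) := fun i =>
    ⟨X i.1, by
      rw [Submodule.mem_torsionBySet_iff]
      intro a
      have := (hPX i.1 (hFmem i).1 a.1).1 (by rw [(hFmem i).2]; exact a.2)
      exact this⟩
  have hli : LinearIndependent (R ⧸ p) v := by
    rw [linearIndependent_iff']
    intro s g hg i hi
    obtain ⟨r, hr⟩ : ∃ r : F → R, ∀ j, Ideal.Quotient.mk p (r j) = g j :=
      ⟨fun j => (Ideal.Quotient.mk_surjective (g j)).choose,
        fun j => (Ideal.Quotient.mk_surjective (g j)).choose_spec⟩
    have hsum : ∑ j ∈ s, r j • X j.1 = 0 := by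
      have := congrArg (Subtype.val) hg
      simp only [Submodule.coe_sum, Submodule.coe_zero] at this
      rw [← this]
      refine Finset.sum_congr rfl fun j _ => ?_
      rw [← hr j]
      rfl
    -- transfer to a sum over ι
    have hsum' : ∑ j ∈ s.map (Function.Embedding.subtype _),
        (if h : j ∈ F then r ⟨j, h⟩ • X j else 0) = 0 := by
      rw [Finset.sum_map]
      rw [← hsum]
      refine Finset.sum_congr rfl fun j _ => ?_
      simp [j.2]
    have hzero := (iSupIndep_iff_finsetSum_eq_zero_imp_eq_zero N).1 hind
      (s.map (Function.Embedding.subtype _))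
      (fun j => if h : j ∈ F then r ⟨j, h⟩ • X j else 0)
      (by
        intro j _
        by_cases h : j ∈ F
        · simp only [h, dite_true]
          exact (N j).smul_mem _ (hXmem j (hFmem ⟨j, h⟩).1)
        · simp [h])
      hsum' i.1 (by simpa using hi)
    simp only [i.2, dite_true] at hzero
    have hrp : r i ∈ p := by
      have := (hPX i.1 (hFmem i).1 (r i)).2 hzero
      rwa [(hFmem i).2] at this
    rw [← hr i]
    exact Ideal.Quotient.eq_zero_iff_mem.2 hrp
  have : Module.Finite R (Submodule.torsionBySet R M (p : Set R)) :=
    Module.IsNoetherian.finite R _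
  have : Module.Finite (R ⧸ p) (Submodule.torsionBySet R M (p : Set R)) :=
    Module.Finite.of_restrictScalars_finite R (R ⧸ p) _
  have : Nontrivial (R ⧸ p) := Ideal.Quotient.nontrivial_iff.2 hpprime.ne_top
  have := hli.fintype_card_le_finrank
  simpa using this

end Groth.Agent.S16158
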