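import Groth.Statements.S16159
import Groth.Agent.H80.SimDiag

set_option autoImplicit false
universe u v w x
open MadRed

namespace Groth.Agent.S16159

/-- Let k be a field, R a commutative Noetherian k-algebra and V an R-module, viewed also as a k-vector
space through k → R. Let (f_i) be a family of pairwise commuting R-linear endomorphisms of V such
that each f_i, as a k-linear map, is diagonalizable over k (its eigenspaces span V), and such that
every vector of V lies in a finitely generated R-submodule stable under every f_i. Then the family
is simultaneously diagonalizable over k: the common eigenspaces ⨅_i Eig(f_i, χ(i)), over all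
assignments χ of eigenvalues in k, span V. The source states this for the endomorphisms given by an
abelian group acting R-linearly; the row takes any commuting family, which is what the argument
uses, and neither k algebraically closed nor of characteristic zero is needed. -/
theorem result
    (k : Type u) [Field k] (R : Type v) [CommRing R] [Algebra k R] [IsNoetherianRing R]
    (V : Type w) [AddCommGroup V] [Module R V] [Module k V] [IsScalarTower k R V]
    (ι : Type x) (f : ι → Module.End R V)
    (hcomm : ∀ i j, Commute (f i) (f j))
    (hdiag : ∀ i, ⨆ μ : k, Module.End.eigenspace ((f i).restrictScalars k) μ = ⊤)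
    (hfin : ∀ v : V, ∃ W : Submodule R V, v ∈ W ∧ W.FG ∧ ∀ i, ∀ w ∈ W, f i w ∈ W) :
    ⨆ χ : ι → k, ⨅ i, Module.End.eigenspace ((f i).restrictScalars k) (χ i) = ⊤ := by
  classical
  rw [eq_top_iff]
  intro v _
  obtain ⟨W, hvW, hWfg, hWstab⟩ := hfin v
  have : IsNoetherian R W := isNoetherian_of_fg_of_noetherian W hWfg
  let g : ι → Module.End R W := fun i => (f i).restrict (hWstab i)
  have hgapp : ∀ i (w : W), ((g i w : W) : V) = f i (w : V) := fun i w => rfl
  have hgcomm : ∀ i j, Commute (g i) (g j) := by
    intro i j
    ext w
    have := congrArg (fun φ : Module.End R V => φ (w : V)) (hcomm i j).eq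
    simpa [hgapp] using this
  have hgdiag : ∀ i, ⨆ μ : k, Module.End.eigenspace ((g i).restrictScalars k) μ = ⊤ := by
    intro i
    rw [eq_top_iff]
    intro w _
    have h1 := Groth.Agent.H80.le_iSup_inf_eigenspace ((f i).restrictScalars k)
      (W.restrictScalars k) (fun x hx => hWstab i x hx) (hdiag i) w.2
    have key : ∃ h : (w : V) ∈ W, (⟨(w : V), h⟩ : W) ∈
        ⨆ μ : k, Module.End.eigenspace ((g i).restrictScalars k) μ := by
      refine Submodule.iSup_induction (fun μ : k => W.restrictScalars k ⊓
          Module.End.eigenspace ((f i).restrictScalars k) μ)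
          (motive := fun x => ∃ h : x ∈ W, (⟨x, h⟩ : W) ∈
            ⨆ μ : k, Module.End.eigenspace ((g i).restrictScalars k) μ) h1 ?_ ?_ ?_
      · intro μ x hx
        refine ⟨hx.1, Submodule.mem_iSup_of_mem μ ?_⟩
        rw [Module.End.mem_eigenspace_iff]
        apply Subtype.ext
        have := Module.End.mem_eigenspace_iff.1 hx.2
        exact this
      · exact ⟨W.zero_mem, Submodule.zero_mem _⟩
      · rintro x y ⟨hx, hx'⟩ ⟨hy, hy'⟩
        exact ⟨W.add_mem hx hy, Submodule.add_mem _ hx' hy'⟩
    obtain ⟨_, h2⟩ := key
    exact h2
  have hmain := Groth.Agent.H80.simDiag (k := k) g hgcomm hgdiag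
  have hvmem : (⟨v, hvW⟩ : W) ∈ ⨆ χ : ι → k, ⨅ i,
      Module.End.eigenspace ((g i).restrictScalars k) (χ i) := by
    rw [hmain]; trivial
  refine Submodule.iSup_induction (fun χ : ι → k => ⨅ i,
      Module.End.eigenspace ((g i).restrictScalars k) (χ i))
      (motive := fun x => (x : V) ∈ ⨆ χ : ι → k, ⨅ i,
        Module.End.eigenspace ((f i).restrictScalars k) (χ i)) hvmem ?_ ?_ ?_
  · intro χ x hx
    refine Submodule.mem_iSup_of_mem χ ?_
    rw [Submodule.mem_iInf] at hx ⊢
    intro i
    have := Module.End.mem_eigenspace_iff.1 (hx i)
    rw [Module.End.mem_eigenspace_iff]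
    exact congrArg Subtype.val this
  · exact Submodule.zero_mem _
  · intro x y hx hy
    exact Submodule.add_mem _ hx hy

end Groth.Agent.S16159
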