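import Groth.Statements.S16160
import Groth.Agent.S16159
import Groth.Agent.H41.Subcoalg
import Mathlib

set_option autoImplicit false
universe u v w
open scoped TensorProduct
open MadRed

namespace Groth.Agent.S16160

/-- Let k be a field, G = Spec A an affine k-group with A a commutative Hopf algebra over k, and R a
commutative Noetherian k-algebra, so that R ⊗ A is the coordinate ring of the base change G_R and
the k-algebra maps A → R are its R-valued points. Let H be a set of R-valued points which pairwise
commute for the convolution product of G(R) (the case of an abelian subgroup of G(R)). If every g in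
H is diagonalizable over k on R ⊗ A, meaning that the eigenspaces of right translation by g, for
eigenvalues in k, span R ⊗ A, then H is simultaneously diagonalizable over k on R ⊗ A: the common
eigenspaces of the right translations by all g in H span R ⊗ A. The standing assumptions of the
source at this point (k algebraically closed of characteristic zero, G reductive) are not used. -/
theorem result (k : Type u) [Field k]
    (A : Type v) [CommRing A] [HopfAlgebra k A] (R : Type w) [CommRing R] [Algebra k R]
    [IsNoetherianRing R] (H : Set (A →ₐ[k] R))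
    (hcomm : ∀ g ∈ H, ∀ h ∈ H,
      WithConv.toConv g * WithConv.toConv h = WithConv.toConv h * WithConv.toConv g)
    (hdiag : ∀ g ∈ H, ⨆ μ : k,
      Module.End.eigenspace (((MadRed.ptAct k A R g).toLinearMap).restrictScalars k) μ = ⊤) :
    ⨆ χ : H → k, ⨅ g : H,
      Module.End.eigenspace (((MadRed.ptAct k A R g.1).toLinearMap).restrictScalars k) (χ g) = ⊤ := by
  classical
  -- formula for the translation on pure tensors
  have htr : ∀ (g : A →ₐ[k] R) (r : R) (a : A) {ι : Type v} (𝓡 : Coalgebra.Repr k a ι),
      MadRed.ptAct k A R g (r ⊗ₜ[k] a) = ∑ i ∈ 𝓡.index, (r * g (𝓡.right i)) ⊗ₜ[k] 𝓡.left i := by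
    intro g r a ι 𝓡
    unfold MadRed.ptAct MadRed.translAux
    rw [Algebra.TensorProduct.lift_tmul]
    simp only [AlgHom.comp_apply, AlgEquiv.coe_toAlgHom, Bialgebra.comulAlgHom_apply]
    rw [← 𝓡.eq, map_sum, map_sum, Finset.mul_sum]
    refine Finset.sum_congr rfl fun i _ => ?_
    simp [Algebra.TensorProduct.tmul_mul_tmul]
  -- composition of translations
  have hcomp : ∀ (g h : A →ₐ[k] R),
      (MadRed.ptAct k A R h).comp (MadRed.ptAct k A R g) =
        MadRed.ptAct k A R (WithConv.toConv h * WithConv.toConv g).ofConv := by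
    intro g h
    apply Algebra.TensorProduct.ext
    · ext
    · ext a
      simp only [AlgHom.comp_apply, AlgHom.coe_restrictScalars', Algebra.TensorProduct.includeRight_apply]
      let 𝓡 := Coalgebra.Repr.arbitrary k a
      let 𝓡₁ := fun i => Coalgebra.Repr.arbitrary k (𝓡.left i)
      let 𝓡₂ := fun i => Coalgebra.Repr.arbitrary k (𝓡.right i)
      rw [htr g 1 a 𝓡, map_sum, htr _ 1 a 𝓡]
      have h1 : ∀ i ∈ 𝓡.index, MadRed.ptAct k A R h ((1 * g (𝓡.right i)) ⊗ₜ[k] 𝓡.left i) =
          ∑ j ∈ (𝓡₁ i).index, (h ((𝓡₁ i).right j) * g (𝓡.right i)) ⊗ₜ[k] (𝓡₁ i).left j := by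
        intro i _
        rw [htr h _ _ (𝓡₁ i)]
        refine Finset.sum_congr rfl fun j _ => ?_
        rw [one_mul, mul_comm]
      rw [Finset.sum_congr rfl h1]
      have h2 : ∀ i ∈ 𝓡.index, (1 * (WithConv.toConv h * WithConv.toConv g).ofConv (𝓡.right i)) ⊗ₜ[k] 𝓡.left i =
          ∑ l ∈ (𝓡₂ i).index, (h ((𝓡₂ i).left l) * g ((𝓡₂ i).right l)) ⊗ₜ[k] 𝓡.left i := by
        intro i _
        rw [one_mul]
        have : (WithConv.toConv h * WithConv.toConv g).ofConv (𝓡.right i) =
            ∑ l ∈ (𝓡₂ i).index, h ((𝓡₂ i).left l) * g ((𝓡₂ i).right l) := by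
          have := AlgHom.convMul_apply (WithConv.toConv h) (WithConv.toConv g) (𝓡.right i)
          rw [← (𝓡₂ i).eq, map_sum] at this
          simpa [Algebra.TensorProduct.lift_tmul] using this
        rw [this, TensorProduct.sum_tmul]
      rw [Finset.sum_congr rfl h2]
      let Φ : A ⊗[k] (A ⊗[k] A) →ₗ[k] R ⊗[k] A :=
        (TensorProduct.comm k A R).toLinearMap ∘ₗ
          LinearMap.lTensor A (LinearMap.mul' k R ∘ₗ TensorProduct.map h.toLinearMap g.toLinearMap)
      have hΦ : ∀ x y z : A, Φ (x ⊗ₜ[k] (y ⊗ₜ[k] z)) = (h y * g z) ⊗ₜ[k] x := by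
        intro x y z
        simp [Φ]
      have hco := congrArg Φ (Coalgebra.sum_tmul_tmul_eq 𝓡 𝓡₁ 𝓡₂)
      simp only [map_sum, hΦ] at hco
      exact hco
  -- commutation
  have hcommute : ∀ g ∈ H, ∀ h ∈ H, Commute (MadRed.ptAct k A R g).toLinearMap
      (MadRed.ptAct k A R h).toLinearMap := by
    intro g hg h hh
    have e1 := hcomp h g
    have e2 := hcomp g h
    rw [hcomm g hg h hh] at e1
    have e3 : (MadRed.ptAct k A R g).comp (MadRed.ptAct k A R h) =
        (MadRed.ptAct k A R h).comp (MadRed.ptAct k A R g) := e1.trans e2.symm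
    change (MadRed.ptAct k A R g).toLinearMap ∘ₗ (MadRed.ptAct k A R h).toLinearMap =
      (MadRed.ptAct k A R h).toLinearMap ∘ₗ (MadRed.ptAct k A R g).toLinearMap
    exact congrArg AlgHom.toLinearMap e3
  -- local finiteness
  have hfin : ∀ v : R ⊗[k] A, ∃ W : Submodule R (R ⊗[k] A), v ∈ W ∧ W.FG ∧
      ∀ g : H, ∀ w ∈ W, (MadRed.ptAct k A R g.1).toLinearMap w ∈ W := by
    intro v
    -- reduce to: exists finite-dim subcoalgebra B with v in the image of R ⊗ B
    obtain ⟨S, hS⟩ := TensorProduct.exists_finset v
    let U : Submodule k A := Submodule.span k ((fun x : R × A => x.2) '' (S : Set (R × A)))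
    have hU : U.FG := Submodule.fg_span (Set.Finite.image _ S.finite_toSet)
    obtain ⟨B, hBfg, hUB, hB⟩ := Groth.Agent.H41.exists_finite_subcoalgebra U hU
    obtain ⟨T, hT⟩ := hBfg
    let W : Submodule R (R ⊗[k] A) := Submodule.span R ((fun b : A => (1 : R) ⊗ₜ[k] b) '' (T : Set A))
    have hWB : ∀ b ∈ B, ∀ r : R, r ⊗ₜ[k] b ∈ W := by
      intro b hb r
      rw [← hT] at hb
      have h1 : (1 : R) ⊗ₜ[k] b ∈ W := by
        refine Submodule.span_induction (p := fun b _ => (1 : R) ⊗ₜ[k] b ∈ W) ?_ ?_ ?_ ?_ hb
        · intro x hx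
          exact Submodule.subset_span ⟨x, hx, rfl⟩
        · rw [TensorProduct.tmul_zero]; exact W.zero_mem
        · intro x y _ _ hx hy
          rw [TensorProduct.tmul_add]; exact W.add_mem hx hy
        · intro c x _ hx
          rw [TensorProduct.tmul_smul]
          have : c • ((1 : R) ⊗ₜ[k] x) = (algebraMap k R c) • ((1 : R) ⊗ₜ[k] x) := by
            rw [algebraMap_smul]
          rw [this]
          exact W.smul_mem _ hx
      have : r ⊗ₜ[k] b = r • ((1 : R) ⊗ₜ[k] b) := by
        rw [TensorProduct.smul_tmul', smul_eq_mul, mul_one]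
      rw [this]
      exact W.smul_mem _ h1
    refine ⟨W, ?_, Submodule.fg_span (Set.Finite.image _ T.finite_toSet), ?_⟩
    · rw [hS]
      refine Submodule.sum_mem _ fun x hx => ?_
      apply hWB
      apply hUB
      exact Submodule.subset_span ⟨x, hx, rfl⟩
    · intro g w hw
      refine Submodule.span_induction (p := fun w _ => (MadRed.ptAct k A R g.1).toLinearMap w ∈ W)
        ?_ ?_ ?_ ?_ hw
      · rintro _ ⟨b, hbT, rfl⟩
        have hbB : b ∈ B := by rw [← hT]; exact Submodule.subset_span hbT
        obtain ⟨t, ht⟩ := hB b hbB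
        change MadRed.ptAct k A R g.1 ((1 : R) ⊗ₜ[k] b) ∈ W
        unfold MadRed.ptAct MadRed.translAux
        rw [Algebra.TensorProduct.lift_tmul]
        simp only [AlgHom.comp_apply, AlgEquiv.coe_toAlgHom, Bialgebra.comulAlgHom_apply, map_one, one_mul]
        have hgen : ∀ t : ↥B ⊗[k] ↥B, (Algebra.TensorProduct.map (g.1) (AlgHom.id k A))
            ((Algebra.TensorProduct.comm k A A) ((TensorProduct.map B.subtype B.subtype) t)) ∈ W := by
          intro t
          induction t using TensorProduct.induction_on with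
          | zero => simp
          | tmul x y =>
            simp only [TensorProduct.map_tmul, Submodule.subtype_apply, Algebra.TensorProduct.comm_tmul,
              Algebra.TensorProduct.map_tmul, AlgHom.id_apply]
            exact hWB _ x.2 _
          | add x y hx hy =>
            simp only [map_add]
            exact W.add_mem hx hy
        rw [← ht]
        exact hgen t
      · rw [map_zero]; exact W.zero_mem
      · intro x y _ _ hx hy
        rw [map_add]; exact W.add_mem hx hy
      · intro c x _ hx
        rw [map_smul]; exact W.smul_mem _ hx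
  exact Groth.Agent.S16159.result k R (R ⊗[k] A) H (fun g => (MadRed.ptAct k A R g.1).toLinearMap)
    (fun g h => hcommute g.1 g.2 h.1 h.2) (fun g => hdiag g.1 g.2) hfin

end Groth.Agent.S16160
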