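import Groth.Statements.S16161
import Mathlib

set_option autoImplicit false
universe u v
open MadRed

namespace Groth.Agent.S16161

/-- Let k be an algebraically closed field of characteristic zero and R a reduced finitely generated
commutative k-algebra whose spectrum is connected (R has no idempotents besides 0 and 1); let W =
R^n be a free R-module of finite rank and g an R-linear endomorphism of W of finite order, g^m = 1
with m > 0 (an element of finite order of GL(W)(R)). Then the action of g on W is diagonalizable
over k: viewing g as a k-linear map, its eigenspaces for eigenvalues in k span W. The source also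
assumes that g is diagonalizable over k on every fibre W ⊗ k(x), x a point of Spec R; for g of
finite order this holds automatically (k is algebraically closed of characteristic zero), as the
source itself notes, so that hypothesis is omitted. -/
theorem result
    (k : Type u) [Field k] [IsAlgClosed k] [CharZero k]
    (R : Type v) [CommRing R] [Algebra k R] [IsReduced R] [Algebra.FiniteType k R]
    (hconn : ∀ e : R, IsIdempotentElem e → e = 0 ∨ e = 1)
    (n : ℕ) (g : Module.End R (Fin n → R)) (m : ℕ) (hm : 0 < m) (hg : g ^ m = 1) :
    ⨆ μ : k, Module.End.eigenspace (g.restrictScalars k) μ = ⊤ := by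
  classical
  have hmk : NeZero ((m : ℕ) : k) := ⟨Nat.cast_ne_zero.mpr hm.ne'⟩
  obtain ⟨ζ, hζ⟩ := HasEnoughRootsOfUnity.exists_primitiveRoot k m
  set f : Module.End k (Fin n → R) := g.restrictScalars k with hf
  have hfm : f ^ m = 1 := by
    apply LinearMap.ext
    intro v
    have h1 : ∀ j : ℕ, (f ^ j) v = (g ^ j) v := by
      intro j
      induction j generalizing v with
      | zero => rfl
      | succ j ih =>
        rw [pow_succ, pow_succ, Module.End.mul_apply, Module.End.mul_apply, ih]
        rfl
    rw [h1, hg]
    rfl
  -- kernel decomposition
  have key : ∀ s : Finset k,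
      LinearMap.ker (Polynomial.aeval f (∏ a ∈ s, (Polynomial.X - Polynomial.C a))) ≤
        ⨆ μ : k, Module.End.eigenspace f μ := by
    intro s
    induction s using Finset.induction_on with
    | empty =>
      intro v hv
      simp only [Finset.prod_empty, map_one, LinearMap.mem_ker, Module.End.one_apply] at hv
      rw [hv]; exact zero_mem _
    | insert a s ha ih =>
      rw [Finset.prod_insert ha]
      have hcop : IsCoprime (Polynomial.X - Polynomial.C a)
          (∏ b ∈ s, (Polynomial.X - Polynomial.C b)) := by
        apply IsCoprime.prod_right
        intro b hb
        apply Polynomial.isCoprime_X_sub_C_of_isUnit_sub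
        exact (sub_ne_zero_of_ne (fun h : a = b => ha (by rw [h]; exact hb))).isUnit
      rw [← Polynomial.sup_ker_aeval_eq_ker_aeval_mul_of_coprime f hcop]
      refine sup_le ?_ ih
      refine le_trans ?_ (le_iSup _ a)
      intro v hv
      rw [Module.End.mem_eigenspace_iff]
      simp only [map_sub, Polynomial.aeval_X, Polynomial.aeval_C, LinearMap.mem_ker,
        LinearMap.sub_apply, Module.algebraMap_end_apply] at hv
      exact sub_eq_zero.mp hv
  rw [eq_top_iff]
  refine le_trans ?_ (key (Polynomial.nthRootsFinset m (1 : k)))
  rw [← Polynomial.X_pow_sub_one_eq_prod hm hζ]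
  intro v _
  simp only [map_sub, map_pow, Polynomial.aeval_X, map_one, LinearMap.mem_ker, hfm, sub_self,
    LinearMap.zero_apply]

end Groth.Agent.S16161
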