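import Groth.Statements.S16170
import Mathlib.Tactic.Ring
import Mathlib.Tactic.Linarith
import Mathlib.Tactic.Abel

set_option autoImplicit false
open Neron

namespace Groth.Agent.S16170

/-- Let M and N be symmetric positive-semidefinite integer matrices on the same finite index set whose
sum M + N is positive definite, and let χ₁, χ₂ be integer matrices with χ₁ + χ₂ = 1 and M χ₂ = N χ₁.
Then χ₁ and χ₂ are idempotent. (In the intended application M = Pᵀ Ψ₁ P and N = Qᵀ Ψ₂ Q for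
surjective integer matrices P, Q and positive-definite Ψ₁, Ψ₂.) -/
theorem result
    {ι : Type} [Fintype ι] [DecidableEq ι]
    (M N χ₁ χ₂ : Matrix ι ι ℤ) (hM : M.IsSymm) (hN : N.IsSymm)
    (hMpos : ∀ v : ι → ℤ, 0 ≤ v ⬝ᵥ M.mulVec v) (hNpos : ∀ v : ι → ℤ, 0 ≤ v ⬝ᵥ N.mulVec v)
    (hpos : ∀ v : ι → ℤ, v ≠ 0 → 0 < v ⬝ᵥ (M + N).mulVec v)
    (hsum : χ₁ + χ₂ = 1) (hrel : M * χ₂ = N * χ₁) :
    χ₁ * χ₁ = χ₁ ∧ χ₂ * χ₂ = χ₂ := by
  classical
  -- basic identity for dot products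
  have dot : ∀ (A B : Matrix ι ι ℤ) (v w : ι → ℤ),
      (A.mulVec v) ⬝ᵥ (B.mulVec w) = v ⬝ᵥ (A.transpose * B).mulVec w := by
    intro A B v w
    rw [← Matrix.vecMul_transpose, ← Matrix.dotProduct_mulVec, Matrix.mulVec_mulVec]
  have hχ₂ : χ₂ = 1 - χ₁ := by rw [← hsum]; simp
  have hcomm : χ₁ * χ₂ = χ₂ * χ₁ := by
    rw [hχ₂]; simp [mul_sub, sub_mul]
  have hMt : M.transpose = M := hM
  have hNt : N.transpose = N := hN
  have hS1 : (M + N) * χ₁ = M := by
    have : M * χ₂ = M - M * χ₁ := by rw [hχ₂]; simp [mul_sub]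
    rw [add_mul, ← hrel, this]; abel
  have hS2 : (M + N) * χ₂ = N := by
    have : N * χ₁ = N - N * χ₂ := by
      have : χ₁ = 1 - χ₂ := by rw [← hsum]; simp
      rw [this]; simp [mul_sub]
    rw [add_mul, hrel, this]; abel
  -- transposed versions
  have hS1t : χ₁.transpose * (M + N) = M := by
    have := congrArg Matrix.transpose hS1
    rwa [Matrix.transpose_mul, Matrix.transpose_add, hMt, hNt] at this
  have hS2t : χ₂.transpose * (M + N) = N := by
    have := congrArg Matrix.transpose hS2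
    rwa [Matrix.transpose_mul, Matrix.transpose_add, hMt, hNt] at this
  have h1N : χ₁.transpose * N = N * χ₁ := by
    rw [← hS2, ← Matrix.mul_assoc, hS1t, hrel, hS2]
  have h2M : χ₂.transpose * M = M * χ₂ := by
    rw [← hS1, ← Matrix.mul_assoc, hS2t, ← hrel, hS1]
  obtain ⟨K, hK⟩ : ∃ K, K = χ₁ * χ₂ := ⟨_, rfl⟩
  obtain ⟨P, hP⟩ : ∃ P, P = M * χ₂ := ⟨_, rfl⟩
  have hP' : P = N * χ₁ := by rw [hP, hrel]
  have hSK : (M + N) * K = P := by rw [hK, ← Matrix.mul_assoc, hS1, hP]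
  have hPdecomp : P = χ₁.transpose * N * χ₁ + χ₂.transpose * M * χ₂ := by
    rw [h1N, h2M]
    calc P = P * (χ₁ + χ₂) := by rw [hsum, Matrix.mul_one]
      _ = P * χ₁ + P * χ₂ := by rw [Matrix.mul_add]
      _ = N * χ₁ * χ₁ + M * χ₂ * χ₂ := by rw [← hP', ← hP]
  have hPpos : ∀ v : ι → ℤ, 0 ≤ v ⬝ᵥ P.mulVec v := by
    intro v
    rw [hPdecomp, Matrix.add_mulVec, dotProduct_add]
    have e1 : v ⬝ᵥ (χ₁.transpose * N * χ₁).mulVec v = (χ₁.mulVec v) ⬝ᵥ N.mulVec (χ₁.mulVec v) := by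
      rw [Matrix.mulVec_mulVec, dot, Matrix.mul_assoc]
    have e2 : v ⬝ᵥ (χ₂.transpose * M * χ₂).mulVec v = (χ₂.mulVec v) ⬝ᵥ M.mulVec (χ₂.mulVec v) := by
      rw [Matrix.mulVec_mulVec, dot, Matrix.mul_assoc]
    rw [e1, e2]
    exact add_nonneg (hNpos _) (hMpos _)
  obtain ⟨q, hq⟩ : ∃ q : (ι → ℤ) → ℤ, ∀ v, q v = v ⬝ᵥ (M + N).mulVec v := ⟨_, fun _ => rfl⟩
  have hqsplit : ∀ v, q (χ₁.mulVec v) + q (χ₂.mulVec v) ≤ q v := by
    intro v
    have hv : v = χ₁.mulVec v + χ₂.mulVec v := by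
      rw [← Matrix.add_mulVec, hsum, Matrix.one_mulVec]
    have hcross : (χ₁.mulVec v) ⬝ᵥ (M + N).mulVec (χ₂.mulVec v) = v ⬝ᵥ P.mulVec v := by
      rw [Matrix.mulVec_mulVec, dot, ← Matrix.mul_assoc, hS1t, hP]
    have hcross' : (χ₂.mulVec v) ⬝ᵥ (M + N).mulVec (χ₁.mulVec v) = v ⬝ᵥ P.mulVec v := by
      rw [Matrix.mulVec_mulVec, dot, ← Matrix.mul_assoc, hS2t, hP']
    have : q v = q (χ₁.mulVec v) + q (χ₂.mulVec v) + 2 * (v ⬝ᵥ P.mulVec v) := by
      simp only [hq]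
      conv_lhs => rw [hv]
      rw [Matrix.mulVec_add, dotProduct_add, add_dotProduct, add_dotProduct, hcross, hcross']
      ring
    have := hPpos v
    linarith
  have hqpos : ∀ v, 0 ≤ q v := by
    intro v
    by_cases hv : v = 0
    · simp [hq, hv]
    · rw [hq]; exact (hpos v hv).le
  have hKv : ∀ v, K.mulVec v = χ₁.mulVec (χ₂.mulVec v) := by
    intro v; rw [Matrix.mulVec_mulVec, hK]
  have hKv' : ∀ v, K.mulVec v = χ₂.mulVec (χ₁.mulVec v) := by
    intro v; rw [Matrix.mulVec_mulVec, ← hcomm, hK]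
  have hqK : ∀ v, 2 * q (K.mulVec v) ≤ q v := by
    intro v
    have h1 := hqsplit (χ₂.mulVec v)
    have h2 := hqsplit (χ₁.mulVec v)
    have h3 := hqsplit v
    rw [← hKv] at h1
    rw [← hKv'] at h2
    have := hqpos (χ₂.mulVec (χ₂.mulVec v))
    have := hqpos (χ₁.mulVec (χ₁.mulVec v))
    linarith
  have hPt : P.transpose = P := by
    rw [hP, Matrix.transpose_mul, hMt, h2M]
  have hKtS : K.transpose * (M + N) = P := by
    have := congrArg Matrix.transpose hSK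
    rwa [Matrix.transpose_mul, Matrix.transpose_add, hMt, hNt, hPt] at this
  have hqpd : ∀ v, v ≠ 0 → 0 < q v := by
    intro v hv; rw [hq]; exact hpos v hv
  have hmain : ∀ (n : ℕ) (v : ι → ℤ), (q v).toNat ≤ n → K.mulVec v = 0 := by
    intro n
    induction n with
    | zero =>
      intro v hv
      have hv0 : v = 0 := by
        by_contra hne
        have := hqpd v hne
        have h0 : q v ≤ 0 := Int.toNat_eq_zero.1 (Nat.le_zero.1 hv)
        exact absurd this (not_lt.2 h0)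
      rw [hv0, Matrix.mulVec_zero]
    | succ n ih =>
      intro v hv
      by_cases hv0 : v = 0
      · rw [hv0, Matrix.mulVec_zero]
      have hqv : 0 < q v := hqpd v hv0
      have hw := hqK v
      have hwn : (q (K.mulVec v)).toNat ≤ n := by
        have := hqpos (K.mulVec v)
        omega
      have hKw := ih _ hwn
      -- q (K v) = v ⬝ S K (K v) = 0
      have hq0 : q (K.mulVec v) = 0 := by
        rw [hq, dot, hKtS, ← hSK, ← Matrix.mulVec_mulVec, hKw,
          Matrix.mulVec_zero, dotProduct_zero]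
      by_contra hne
      have := hqpd _ hne
      exact absurd hq0 this.ne'
  have hK0 : K = 0 := by
    rw [Matrix.ext_iff_mulVec]
    intro v
    rw [hmain _ v le_rfl, Matrix.zero_mulVec]
  constructor
  · have h1 : χ₁ = 1 - χ₂ := by rw [← hsum]; simp
    have : χ₁ * χ₁ = χ₁ * (1 - χ₂) := by rw [← h1]
    rw [this, mul_sub, ← hK, hK0]; simp
  · have : χ₂ * χ₂ = (1 - χ₁) * χ₂ := by rw [← hχ₂]
    rw [this, sub_mul, ← hK, hK0]; simp

end Groth.Agent.S16170
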