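import Groth.Statements.S16164
import Groth.Agent.S16170
import Mathlib.Data.Matrix.ColumnRowPartitioned

set_option autoImplicit false
open Neron

namespace Groth.Agent.S16164

/-- Let X, Y₁, Y₂ be finitely generated free abelian groups with chosen bases, so that homomorphisms are
integer matrices acting on column vectors and each group is identified with its dual; let P : X → Y₁
and Q : X → Y₂ be surjective with A = (P over Q) : X → Y₁ ⊕ Y₂ injective, and let Ψ₁, Ψ₂ be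
symmetric positive-definite integer matrices on Y₁ and Y₂, Ψ their block-diagonal sum. If the image
of Aᵀ Ψ : Y₁ ⊕ Y₂ → X coincides with the image of Aᵀ Ψ A : X → X (the reverse inclusion always
holds), then A is bijective. (In the source X, Y₁, Y₂ are character groups of maximal tori, P and Q
specialization maps, Ψ₁ and Ψ₂ monodromy pairings, and the hypothesis expresses that two groups of
components coincide.) -/
theorem result
    {ι κ₁ κ₂ : Type} [Fintype ι] [Fintype κ₁] [Fintype κ₂]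
    (P : Matrix κ₁ ι ℤ) (Q : Matrix κ₂ ι ℤ)
    (hP : Function.Surjective P.mulVec) (hQ : Function.Surjective Q.mulVec)
    (hA : Function.Injective (Matrix.fromRows P Q).mulVec)
    (Ψ₁ : Matrix κ₁ κ₁ ℤ) (Ψ₂ : Matrix κ₂ κ₂ ℤ) (hΨ₁ : Ψ₁.IsSymm) (hΨ₂ : Ψ₂.IsSymm)
    (hΨ₁pos : ∀ y : κ₁ → ℤ, y ≠ 0 → 0 < y ⬝ᵥ Ψ₁.mulVec y)
    (hΨ₂pos : ∀ y : κ₂ → ℤ, y ≠ 0 → 0 < y ⬝ᵥ Ψ₂.mulVec y)
    (himage : LinearMap.range ((Matrix.fromRows P Q).transpose * Matrix.fromBlocks Ψ₁ 0 0 Ψ₂).mulVecLin =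
      LinearMap.range ((Matrix.fromRows P Q).transpose * Matrix.fromBlocks Ψ₁ 0 0 Ψ₂ * Matrix.fromRows P Q).mulVecLin) :
    Function.Bijective (Matrix.fromRows P Q).mulVec := by
  classical
  -- notation
  obtain ⟨M, hMdef⟩ : ∃ M, M = P.transpose * Ψ₁ * P := ⟨_, rfl⟩
  obtain ⟨N, hNdef⟩ : ∃ N, N = Q.transpose * Ψ₂ * Q := ⟨_, rfl⟩
  have hΨ₁t : Ψ₁.transpose = Ψ₁ := hΨ₁
  have hΨ₂t : Ψ₂.transpose = Ψ₂ := hΨ₂
  have hAΨ : (Matrix.fromRows P Q).transpose * Matrix.fromBlocks Ψ₁ 0 0 Ψ₂ =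
      Matrix.fromCols (P.transpose * Ψ₁) (Q.transpose * Ψ₂) := by
    rw [Matrix.transpose_fromRows, Matrix.fromCols_mul_fromBlocks]
    simp
  have hAΨA : (Matrix.fromRows P Q).transpose * Matrix.fromBlocks Ψ₁ 0 0 Ψ₂ * Matrix.fromRows P Q =
      M + N := by
    rw [hAΨ, Matrix.fromCols_mul_fromRows, hMdef, hNdef]
  rw [hAΨA, hAΨ] at himage
  have dot : ∀ {α β : Type} [Fintype α] [Fintype β] (A : Matrix α β ℤ) (B : Matrix α β ℤ)
      (v w : β → ℤ), (A.mulVec v) ⬝ᵥ (B.mulVec w) = v ⬝ᵥ (A.transpose * B).mulVec w := by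
    intro α β _ _ A B v w
    rw [← Matrix.vecMul_transpose, ← Matrix.dotProduct_mulVec, Matrix.mulVec_mulVec]
  have hMq : ∀ v : ι → ℤ, v ⬝ᵥ M.mulVec v = (P.mulVec v) ⬝ᵥ Ψ₁.mulVec (P.mulVec v) := by
    intro v
    rw [Matrix.mulVec_mulVec, dot, hMdef, Matrix.mul_assoc]
  have hNq : ∀ v : ι → ℤ, v ⬝ᵥ N.mulVec v = (Q.mulVec v) ⬝ᵥ Ψ₂.mulVec (Q.mulVec v) := by
    intro v
    rw [Matrix.mulVec_mulVec, dot, hNdef, Matrix.mul_assoc]
  have hΨ₁nn : ∀ y : κ₁ → ℤ, 0 ≤ y ⬝ᵥ Ψ₁.mulVec y := by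
    intro y
    by_cases hy : y = 0
    · simp [hy]
    · exact (hΨ₁pos y hy).le
  have hΨ₂nn : ∀ y : κ₂ → ℤ, 0 ≤ y ⬝ᵥ Ψ₂.mulVec y := by
    intro y
    by_cases hy : y = 0
    · simp [hy]
    · exact (hΨ₂pos y hy).le
  have hMsymm : M.IsSymm := by
    rw [Matrix.IsSymm, hMdef, Matrix.transpose_mul, Matrix.transpose_mul, Matrix.transpose_transpose,
      hΨ₁t, Matrix.mul_assoc]
  have hNsymm : N.IsSymm := by
    rw [Matrix.IsSymm, hNdef, Matrix.transpose_mul, Matrix.transpose_mul, Matrix.transpose_transpose,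
      hΨ₂t, Matrix.mul_assoc]
  have hMpos : ∀ v : ι → ℤ, 0 ≤ v ⬝ᵥ M.mulVec v := fun v => by rw [hMq]; exact hΨ₁nn _
  have hNpos : ∀ v : ι → ℤ, 0 ≤ v ⬝ᵥ N.mulVec v := fun v => by rw [hNq]; exact hΨ₂nn _
  have hSpos : ∀ v : ι → ℤ, v ≠ 0 → 0 < v ⬝ᵥ (M + N).mulVec v := by
    intro v hv
    rw [Matrix.add_mulVec, dotProduct_add, hMq, hNq]
    have hAv : (Matrix.fromRows P Q).mulVec v ≠ 0 := by
      intro h0
      apply hv
      apply hA
      rw [h0, Matrix.mulVec_zero]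
    rw [Matrix.fromRows_mulVec] at hAv
    by_cases hPv : P.mulVec v = 0
    · have hQv : Q.mulVec v ≠ 0 := by
        intro hQv
        apply hAv
        rw [hPv, hQv]
        ext (i | i) <;> rfl
      have := hΨ₂pos _ hQv
      have := hΨ₁nn (P.mulVec v)
      linarith
    · have := hΨ₁pos _ hPv
      have := hΨ₂nn (Q.mulVec v)
      linarith
  have hSinj : ∀ v : ι → ℤ, (M + N).mulVec v = 0 → v = 0 := by
    intro v hv
    by_contra hne
    have := hSpos v hne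
    rw [hv, dotProduct_zero] at this
    exact lt_irrefl _ this
  -- columns of M and N lie in the range of M + N
  have hMcol : ∀ j : ι, ∃ x : ι → ℤ, (M + N).mulVec x = M.mulVec (Pi.single j 1) := by
    intro j
    have : M.mulVec (Pi.single j 1) ∈
        LinearMap.range (Matrix.fromCols (P.transpose * Ψ₁) (Q.transpose * Ψ₂)).mulVecLin := by
      refine ⟨Sum.elim (P.mulVec (Pi.single j 1)) 0, ?_⟩
      rw [Matrix.mulVecLin_apply, Matrix.fromCols_mulVec_sumElim, Matrix.mulVec_zero, add_zero,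
        Matrix.mulVec_mulVec, hMdef]
    rw [himage] at this
    obtain ⟨x, hx⟩ := this
    exact ⟨x, hx⟩
  have hNcol : ∀ j : ι, ∃ x : ι → ℤ, (M + N).mulVec x = N.mulVec (Pi.single j 1) := by
    intro j
    have : N.mulVec (Pi.single j 1) ∈
        LinearMap.range (Matrix.fromCols (P.transpose * Ψ₁) (Q.transpose * Ψ₂)).mulVecLin := by
      refine ⟨Sum.elim 0 (Q.mulVec (Pi.single j 1)), ?_⟩
      rw [Matrix.mulVecLin_apply, Matrix.fromCols_mulVec_sumElim, Matrix.mulVec_zero, zero_add,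
        Matrix.mulVec_mulVec, hNdef]
    rw [himage] at this
    obtain ⟨x, hx⟩ := this
    exact ⟨x, hx⟩
  choose x₁ hx₁ using hMcol
  choose x₂ hx₂ using hNcol
  obtain ⟨χ₁, hχ₁def⟩ : ∃ χ₁ : Matrix ι ι ℤ, χ₁ = Matrix.of (fun i j => x₁ j i) := ⟨_, rfl⟩
  obtain ⟨χ₂, hχ₂def⟩ : ∃ χ₂ : Matrix ι ι ℤ, χ₂ = Matrix.of (fun i j => x₂ j i) := ⟨_, rfl⟩
  have hSχ₁ : (M + N) * χ₁ = M := by
    ext i j
    have := congrFun (hx₁ j) i
    rw [Matrix.mulVec_single_one] at this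
    subst hχ₁def
    simpa [Matrix.mulVec, dotProduct, Matrix.col_apply, Matrix.mul_apply] using this
  have hSχ₂ : (M + N) * χ₂ = N := by
    ext i j
    have := congrFun (hx₂ j) i
    rw [Matrix.mulVec_single_one] at this
    subst hχ₂def
    simpa [Matrix.mulVec, dotProduct, Matrix.col_apply, Matrix.mul_apply] using this
  have hScancel : ∀ B C : Matrix ι ι ℤ, (M + N) * B = (M + N) * C → B = C := by
    intro B C h
    rw [Matrix.ext_iff_mulVec]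
    intro v
    have h1 : (M + N).mulVec (B.mulVec v - C.mulVec v) = 0 := by
      rw [Matrix.mulVec_sub, Matrix.mulVec_mulVec, Matrix.mulVec_mulVec, h, sub_self]
    exact sub_eq_zero.1 (hSinj _ h1)
  have hsum : χ₁ + χ₂ = 1 := by
    apply hScancel
    rw [Matrix.mul_add, hSχ₁, hSχ₂, Matrix.mul_one]
  have hχ₂ : χ₂ = 1 - χ₁ := by rw [← hsum]; simp
  have hcomm : χ₁ * χ₂ = χ₂ * χ₁ := by
    rw [hχ₂]; simp [mul_sub, sub_mul]
  have hrel : M * χ₂ = N * χ₁ := by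
    calc M * χ₂ = ((M + N) * χ₁) * χ₂ := by rw [hSχ₁]
      _ = (M + N) * (χ₁ * χ₂) := Matrix.mul_assoc _ _ _
      _ = (M + N) * (χ₂ * χ₁) := by rw [hcomm]
      _ = ((M + N) * χ₂) * χ₁ := (Matrix.mul_assoc _ _ _).symm
      _ = N * χ₁ := by rw [hSχ₂]
  obtain ⟨hid₁, hid₂⟩ := Groth.Agent.S16170.result M N χ₁ χ₂ hMsymm hNsymm hMpos hNpos hSpos hsum hrel
  have hχ₁₂ : χ₁ * χ₂ = 0 := by
    rw [hχ₂, mul_sub, mul_one, hid₁, sub_self]
  have hχ₂₁ : χ₂ * χ₁ = 0 := by rw [← hcomm, hχ₁₂]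
  have hMχ₂ : M * χ₂ = 0 := by
    calc M * χ₂ = ((M + N) * χ₁) * χ₂ := by rw [hSχ₁]
      _ = (M + N) * (χ₁ * χ₂) := Matrix.mul_assoc _ _ _
      _ = 0 := by rw [hχ₁₂, Matrix.mul_zero]
  have hNχ₁ : N * χ₁ = 0 := by
    calc N * χ₁ = ((M + N) * χ₂) * χ₁ := by rw [hSχ₂]
      _ = (M + N) * (χ₂ * χ₁) := Matrix.mul_assoc _ _ _
      _ = 0 := by rw [hχ₂₁, Matrix.mul_zero]
  have hPχ₂ : ∀ v : ι → ℤ, P.mulVec (χ₂.mulVec v) = 0 := by
    intro v
    by_contra hne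
    have h1 := hΨ₁pos _ hne
    rw [← hMq, Matrix.mulVec_mulVec, hMχ₂, Matrix.zero_mulVec, dotProduct_zero] at h1
    exact lt_irrefl _ h1
  have hQχ₁ : ∀ v : ι → ℤ, Q.mulVec (χ₁.mulVec v) = 0 := by
    intro v
    by_contra hne
    have h1 := hΨ₂pos _ hne
    rw [← hNq, Matrix.mulVec_mulVec, hNχ₁, Matrix.zero_mulVec, dotProduct_zero] at h1
    exact lt_irrefl _ h1
  have hsplit : ∀ v : ι → ℤ, v = χ₁.mulVec v + χ₂.mulVec v := by
    intro v
    rw [← Matrix.add_mulVec, hsum, Matrix.one_mulVec]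
  refine ⟨hA, ?_⟩
  intro y
  obtain ⟨u₁, hu₁⟩ := hP (y ∘ Sum.inl)
  obtain ⟨u₂, hu₂⟩ := hQ (y ∘ Sum.inr)
  refine ⟨χ₁.mulVec u₁ + χ₂.mulVec u₂, ?_⟩
  rw [Matrix.fromRows_mulVec, Matrix.mulVec_add, Matrix.mulVec_add, hPχ₂, hQχ₁, add_zero, zero_add]
  have e1 : P.mulVec (χ₁.mulVec u₁) = y ∘ Sum.inl := by
    rw [← hu₁]
    conv_rhs => rw [hsplit u₁, Matrix.mulVec_add, hPχ₂, add_zero]
  have e2 : Q.mulVec (χ₂.mulVec u₂) = y ∘ Sum.inr := by
    rw [← hu₂]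
    conv_rhs => rw [hsplit u₂, Matrix.mulVec_add, hQχ₁, zero_add]
  rw [e1, e2]
  ext (i | i) <;> rfl

end Groth.Agent.S16164
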