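import Groth.Statements.S1618
import Groth.Agent.H79.SchDim

set_option autoImplicit false
universe u
open CategoryTheory CategoryTheory.Limits AlgebraicGeometry
open Variety

namespace Groth.Agent.S1618

/-- Let X be irreducible and locally of finite type over a field k. Then every nonempty open subset of X
has the same Krull dimension as X. -/
theorem result (k : Type u) [Field k] (X : Scheme.{u}) [X.Over (Spec (CommRingCat.of k))] [LocallyOfFiniteType (X ↘ (Spec (CommRingCat.of k)))] [IrreducibleSpace X]
    (U : X.Opens) (hU : (U : Set X).Nonempty) : topologicalKrullDim U = topologicalKrullDim X := by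
  obtain ⟨n, hn⟩ := Groth.Agent.H79.SchChart.exists_trdeg_eq (k := k) (genericPoint X)
  have hX : topologicalKrullDim X = n := by
    have h := Groth.Agent.H79.SchDim.topologicalKrullDim_closure_eq k (genericPoint X) n hn
    have hcl : closure ({genericPoint X} : Set X) = Set.univ := (genericPoint_spec X).def
    rw [hcl] at h
    rw [← h]
    exact ((Homeomorph.Set.univ X).isHomeomorph.topologicalKrullDim_eq).symm
  have hmem : genericPoint X ∈ U := by
    obtain ⟨y, hy⟩ := hU
    exact ((genericPoint_spec X).mem_open_set_iff U.2).mpr ⟨y, trivial, hy⟩
  apply le_antisymm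
  · exact topologicalKrullDim_subspace_le X (U : Set X)
  · rw [hX]
    exact Groth.Agent.H79.SchDim.le_topologicalKrullDim_opens k U (genericPoint X) hmem n hn

end Groth.Agent.S1618
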