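import Groth.Statements.S16185
import Groth.Agent.H26.GorFibreField

set_option autoImplicit false
universe u
open CategoryTheory CategoryTheory.Limits AlgebraicGeometry
open Dual3

namespace Groth.Agent.S16185

/-- Let A be an Artinian local ring with maximal ideal m and let f : P → Spec A be a flat morphism of
schemes whose closed fibre X = P ×_{Spec A} Spec (A/m) is a Gorenstein scheme (locally Noetherian,
all local rings Gorenstein). Then f is a Gorenstein morphism: flat at every point with Gorenstein
local rings on its fibres. (The source takes A to be a local Artinian algebra over a field k with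
residue field k and X a k-scheme deformed flatly over A; the k-algebra structure plays no role, so
the residue field of A is used directly.) -/
theorem result
    {A : Type u} [CommRing A] [IsArtinianRing A] [IsLocalRing A]
    {P X : Scheme.{u}} (f : P ⟶ Spec (CommRingCat.of A)) [Flat f]
    (i : X ⟶ P) (q : X ⟶ Spec (CommRingCat.of (IsLocalRing.ResidueField A)))
    (hsq : IsPullback i q f (Spec.map (CommRingCat.ofHom (IsLocalRing.residue A))))
    (hX : Dual3.IsGorenstein X) : Dual3.IsGorensteinMor f := by
  classical
  let K := IsLocalRing.ResidueField A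
  let Y : Scheme.{u} := Spec (CommRingCat.of A)
  let σ : Spec (CommRingCat.of K) ⟶ Y := Spec.map (CommRingCat.ofHom (IsLocalRing.residue A))
  set y : Y := σ (IsLocalRing.closedPoint K) with hy
  let φ : Y.residueField y ⟶ CommRingCat.of K := Y.descResidueField (Scheme.stalkClosedPointTo σ)
  have hσ : Spec.map φ ≫ Y.fromSpecResidueField y = σ :=
    Scheme.descResidueField_stalkClosedPointTo_fromSpecResidueField K Y σ
  -- φ is surjective
  have hcomp : CommRingCat.ofHom (IsLocalRing.residue A) =
      (StructureSheaf.toStalk A y ≫ Y.residue y) ≫ φ := by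
    apply Spec.map_injective
    rw [Spec.map_comp, Spec.map_comp]
    have := hσ
    rw [Scheme.fromSpecResidueField, Spec.fromSpecStalk_eq'] at this
    exact this.symm
  have hφsurj : Function.Surjective φ.hom := by
    intro k
    obtain ⟨a, ha⟩ := IsLocalRing.residue_surjective k
    refine ⟨(StructureSheaf.toStalk A y ≫ Y.residue y).hom a, ?_⟩
    have := congrArg (fun g => g.hom a) hcomp
    simp only [CommRingCat.hom_ofHom, CommRingCat.hom_comp, RingHom.coe_comp,
      Function.comp_apply] at this ⊢
    rw [← ha]
    exact this.symm
  have hφbij : Function.Bijective φ.hom := ⟨φ.hom.injective, hφsurj⟩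
  have hφiso : IsIso φ := by
    rw [ConcreteCategory.isIso_iff_bijective]
    exact hφbij
  have hess : φ.hom.EssFiniteType :=
    RingHom.FiniteType.essFiniteType (RingHom.FiniteType.of_surjective _ hφsurj)
  -- X ≅ fibre
  have hw : i ≫ f = (q ≫ Spec.map φ) ≫ Y.fromSpecResidueField y := by
    rw [Category.assoc, hσ, hsq.w]
  let c : X ⟶ f.fiber y := pullback.lift i (q ≫ Spec.map φ) hw
  have hc1 : c ≫ f.fiberι y = i := pullback.lift_fst _ _ _
  have hc2 : c ≫ f.fiberToSpecResidueField y = q ≫ Spec.map φ := pullback.lift_snd _ _ _
  have hbig : IsPullback (f.fiberι y) (f.fiberToSpecResidueField y) f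
      (Y.fromSpecResidueField y) := IsPullback.of_hasPullback _ _
  have hsq' : IsPullback c q (f.fiberToSpecResidueField y) (Spec.map φ) := by
    refine IsPullback.of_right ?_ hc2 hbig
    rw [hc1, hσ]
    exact hsq
  have hciso : IsIso c := hsq'.isIso_fst_of_isIso
  have hXN : IsLocallyNoetherian X := hX.1
  have hN : IsLocallyNoetherian (f.fiber y) :=
    isLocallyNoetherian_of_isOpenImmersion (inv c)
  -- i surjective
  have hσsurj : Function.Surjective σ := by
    intro z
    refine ⟨IsLocalRing.closedPoint K, ?_⟩
    have hsub : ∀ z' : PrimeSpectrum A, z' = IsLocalRing.closedPoint A := by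
      intro z'
      apply PrimeSpectrum.ext
      have : z'.asIdeal.IsMaximal := IsArtinianRing.isMaximal_of_isPrime z'.asIdeal
      exact IsLocalRing.eq_maximalIdeal this
    exact (hsub _).trans (hsub z).symm
  have hisurj : Function.Surjective i := by
    have : Surjective σ := ⟨hσsurj⟩
    have : Surjective i := MorphismProperty.of_isPullback hsq.flip ‹_›
    exact this.1
  intro x
  obtain ⟨w, rfl⟩ := hisurj x
  refine ⟨Flat.stalkMap f (i w), ?_⟩
  have := Groth.Agent.H26.GorFibreField.gor_stalk_pullback_field_iff f K σ i q hsq
    (Or.inr hess) w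
  exact this.mp (hX.2 w)

end Groth.Agent.S16185
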