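import Groth.Statements.S16188
import Mathlib.AlgebraicGeometry.Morphisms.ClosedImmersion

set_option autoImplicit false
universe u
open CategoryTheory AlgebraicGeometry TopologicalSpace
open SchMor

namespace Groth.Agent.S16188

/-- Let f : X → Y be a morphism of schemes with X reduced and irreducible. Then f factors through an
irreducible component of Y carrying its reduced closed-subscheme structure: there are an irreducible
component Z of Y and a morphism g from X to the closed subscheme of Y cut out by the vanishing ideal
sheaf of Z with g followed by the inclusion equal to f; that closed subscheme is integral. -/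
theorem result
    {X Y : Scheme.{u}} (f : X ⟶ Y) [IsReduced X] [IrreducibleSpace X] :
    ∃ (Z : Closeds Y) (_ : (Z : Set Y) ∈ irreducibleComponents Y)
      (_ : IsIntegral (Scheme.IdealSheafData.vanishingIdeal Z).subscheme)
      (g : X ⟶ (Scheme.IdealSheafData.vanishingIdeal Z).subscheme),
      g ≫ (Scheme.IdealSheafData.vanishingIdeal Z).subschemeι = f := by
  classical
  -- an irreducible component containing the image of f
  have hirr : IsIrreducible (Set.range f) := by
    rw [← Set.image_univ]
    exact (IrreducibleSpace.isIrreducible_univ X).image f f.continuous.continuousOn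
  obtain ⟨t, ht, hsub, hmax⟩ := exists_preirreducible (Set.range f) hirr.isPreirreducible
  have htirr : IsIrreducible t := ⟨hirr.nonempty.mono hsub, ht⟩
  have htcomp : t ∈ irreducibleComponents Y := by
    refine ⟨htirr, ?_⟩
    intro u hu htu
    exact (hmax u hu.isPreirreducible htu).le
  have htclosed : IsClosed t := isClosed_of_mem_irreducibleComponents t htcomp
  refine ⟨⟨t, htclosed⟩, htcomp, ?_, ?_⟩
  · -- integrality
    set I := Scheme.IdealSheafData.vanishingIdeal ⟨t, htclosed⟩ with hI
    have : IrreducibleSpace I.subscheme := by
      have hsupp : (I.support : Set Y) = t := by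
        rw [hI, Scheme.IdealSheafData.coe_support_vanishingIdeal]
        rfl
      have : IsIrreducible (I.support : Set Y) := hsupp ▸ htirr
      exact Subtype.irreducibleSpace this
    have : IsReduced I.subscheme := by
      have hred' : ∀ U : Y.affineOpens,
          IsReduced (Spec (.of (Γ(Y, U.1) ⧸ I.ideal U))) := by
        intro U
        have hrad : (I.ideal U).IsRadical := by
          rw [hI, Scheme.IdealSheafData.vanishingIdeal_ideal]
          exact PrimeSpectrum.isRadical_vanishingIdeal _
        have : _root_.IsReduced (Γ(Y, U) ⧸ I.ideal U) :=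
          (Ideal.isRadical_iff_quotient_reduced _).1 hrad
        infer_instance
      have hred : ∀ i : I.subschemeCover.openCover.I₀,
          IsReduced (I.subschemeCover.openCover.X i) := fun i => hred' i
      exact @IsReduced.of_openCover _ I.subschemeCover.openCover hred
    exact isIntegral_of_irreducibleSpace_of_isReduced _
  · -- factorization
    set I := Scheme.IdealSheafData.vanishingIdeal ⟨t, htclosed⟩ with hI
    have hle : I.subschemeι.ker ≤ f.ker := by
      rw [Scheme.IdealSheafData.ker_subschemeι]
      refine Scheme.IdealSheafData.le_ofIdeals_iff.2 ?_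
      intro U s hs
      rw [hI, Scheme.IdealSheafData.vanishingIdeal_ideal] at hs
      rw [RingHom.mem_ker]
      rw [← basicOpen_eq_bot_iff]
      erw [← Scheme.preimage_basicOpen f s]
      ext x
      simp only [TopologicalSpace.Opens.coe_bot, Set.mem_empty_iff_false, iff_false]
      intro hx
      have hxs : f x ∈ Y.basicOpen s := hx
      have hxU : f x ∈ U.1 := Y.basicOpen_le s hxs
      set 𝔭 := U.2.primeIdealOf ⟨f x, hxU⟩ with h𝔭
      have hfrom : U.2.fromSpec 𝔭 = f x := U.2.fromSpec_primeIdealOf ⟨f x, hxU⟩
      have hmem : 𝔭 ∈ U.2.fromSpec ⁻¹' (t : Set Y) := by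
        change U.2.fromSpec 𝔭 ∈ t
        rw [hfrom]; exact hsub ⟨x, rfl⟩
      have h1 : s ∈ 𝔭.asIdeal := (PrimeSpectrum.mem_vanishingIdeal _ _).1 hs 𝔭 hmem
      have h2 : 𝔭 ∈ U.2.fromSpec ⁻¹ᵁ (Y.basicOpen s) := by
        change U.2.fromSpec 𝔭 ∈ Y.basicOpen s
        rw [hfrom]; exact hxs
      rw [U.2.fromSpec_preimage_basicOpen] at h2
      exact h2 h1
    exact ⟨IsClosedImmersion.lift I.subschemeι f hle, IsClosedImmersion.lift_fac _ _ _⟩

end Groth.Agent.S16188
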