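import Groth.Statements.S16196
import Mathlib.Algebra.Module.BigOperators
import Mathlib.Algebra.BigOperators.GroupWithZero.Action

set_option autoImplicit false
universe u v
open DivAlg

namespace Groth.Agent.S16196

/-- Let R be a ring (associative, unital, not necessarily commutative) and M a left R-module which is a
generator, in the form: for some n there is an R-linear surjection from M^n onto R. Then the natural
ring homomorphism from R to the double endomorphism ring BiEnd_R(M) = End_{End_R(M)}(M)
(endomorphisms of M commuting with every R-linear endomorphism), r ↦ multiplication by r, is
bijective. (The printed form takes R an algebra over a commutative ring k, embeds R in E = End_k(M)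
and asserts R = C_E(C_E(R)); the double centralizer there is BiEnd_R(M).) -/
theorem result {R : Type u} [Ring R] (M : Type v)
    [AddCommGroup M] [Module R M]
    (hgen : ∃ (n : ℕ) (f : (Fin n → M) →ₗ[R] R), Function.Surjective f) :
    Function.Bijective (Module.toModuleEnd (Module.End R M) (S := R) M) := by
  obtain ⟨n, f, hf⟩ := hgen
  obtain ⟨m, hm⟩ := hf 1
  -- components of f
  have hsum : ∀ y : Fin n → M, f y = ∑ i, f (Pi.single i (y i)) := by
    intro y
    conv_lhs => rw [← Finset.univ_sum_single y]
    rw [map_sum]
  constructor
  · -- injective
    rw [injective_iff_map_eq_zero]
    intro r hr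
    have hr' : ∀ x : M, r • x = 0 := by
      intro x
      have := congrArg (fun T : Module.End (Module.End R M) M => T x) hr
      simpa using this
    have : r • (1 : R) = 0 := by
      rw [← hm, ← map_smul]
      have : r • m = 0 := by
        funext i
        simp [hr']
      rw [this, map_zero]
    simpa using this
  · -- surjective
    intro T
    have hT : ∀ (φ : Module.End R M) (x : M), T (φ x) = φ (T x) := by
      intro φ x
      have := T.map_smul φ x
      simpa using this
    refine ⟨∑ i, f (Pi.single i (T (m i))), ?_⟩
    ext x
    simp only [Module.toModuleEnd_apply, DistribSMul.toLinearMap_apply]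
    rw [Finset.sum_smul]
    have hphi : ∀ i, T (f (Pi.single i (m i)) • x) = f (Pi.single i (T (m i))) • x := by
      intro i
      have := hT ((LinearMap.toSpanSingleton R M x).comp
        (f.comp (LinearMap.single R (fun _ : Fin n => M) i))) (m i)
      simpa using this
    have hx : x = ∑ i, f (Pi.single i (m i)) • x := by
      rw [← Finset.sum_smul, ← hsum, hm, one_smul]
    conv_rhs => rw [hx, map_sum]
    exact Finset.sum_congr rfl fun i _ => (hphi i).symm

end Groth.Agent.S16196
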