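import Groth.Statements.S16197
import Mathlib
-- import your own Groth.Agent.* helpers here

set_option autoImplicit false
universe u v w
open DivAlg

namespace Groth.Agent.S16197

/-- Let R be a ring (associative, unital, not necessarily commutative) and M a left R-module which is a
generator, used here only through the existence of an R-linear surjection from a direct sum of
copies of M, indexed by an arbitrary type, onto R. Then some finite power M^n decomposes as R × Q
for a submodule Q of M^n. (The published statement is an equivalence; this row states only the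
implication from the existence of such a surjection to the splitting.) -/
theorem result {R : Type u} [Ring R] (M : Type v)
    [AddCommGroup M] [Module R M]
    (hgen : ∃ (ι : Type w) (f : (ι →₀ M) →ₗ[R] R), Function.Surjective f) :
    ∃ (n : ℕ) (Q : Submodule R (Fin n → M)), Nonempty ((Fin n → M) ≃ₗ[R] (R × Q)) := by
  classical
  obtain ⟨ι, f, hf⟩ := hgen
  obtain ⟨x, hx⟩ := hf 1
  let s := x.support
  let n := s.card
  let idx : Fin n ≃ s := s.equivFin.symm
  -- the map `(Fin n → M) → R`
  let g : (Fin n → M) →ₗ[R] R :=
    ∑ i : Fin n, (f ∘ₗ Finsupp.lsingle (idx i : ι)) ∘ₗ LinearMap.proj i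
  let v₀ : Fin n → M := fun i => x (idx i)
  have hg : ∀ v, g v = ∑ i : Fin n, f (Finsupp.single (idx i : ι) (v i)) := by
    intro v
    simp only [g, LinearMap.sum_apply, LinearMap.comp_apply, LinearMap.proj_apply,
      Finsupp.lsingle_apply]
  have hgv₀ : g v₀ = 1 := by
    rw [hg, ← map_sum, ← hx]
    congr 1
    have : ∑ i : Fin n, Finsupp.single (idx i : ι) (v₀ i) = ∑ j : s, Finsupp.single (j : ι) (x j) :=
      Fintype.sum_equiv idx _ _ (fun i => rfl)
    rw [this, Finset.sum_coe_sort s (fun j => Finsupp.single j (x j))]
    exact x.sum_single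
  refine ⟨n, LinearMap.ker g, ⟨?_⟩⟩
  refine
    { toFun := fun v => (g v, ⟨v - g v • v₀, ?_⟩)
      map_add' := ?_
      map_smul' := ?_
      invFun := fun q => q.1 • v₀ + (q.2 : Fin n → M)
      left_inv := ?_
      right_inv := ?_ }
  · rw [LinearMap.mem_ker, map_sub, map_smul, hgv₀, smul_eq_mul, mul_one, sub_self]
  · intro v w
    ext : 1
    · simp
    · ext : 1
      simp only [map_add, add_smul, Submodule.coe_add, Prod.snd_add]
      abel
  · intro r v
    ext : 1
    · simp
    · ext : 1
      simp only [map_smul, smul_eq_mul, RingHom.id_apply, Prod.smul_snd, Submodule.coe_smul,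
        smul_sub, mul_smul]
  · intro v
    simp
  · rintro ⟨r, q, hq⟩
    rw [LinearMap.mem_ker] at hq
    ext : 1
    · simp [hq, hgv₀]
    · ext : 1
      simp [hq, hgv₀]

end Groth.Agent.S16197
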