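import Groth.Statements.S16211
import Mathlib
-- import your own Groth.Agent.* helpers here

set_option autoImplicit false
universe u v
open InvTh

namespace Groth.Agent.S16211

/-- Let R be a commutative ring, O a formally smooth R-algebra and G a finite group whose order is
invertible in R, acting on O by R-algebra automorphisms. Then the largest quotient algebra of O on
which G acts trivially, namely the quotient of O by the ideal generated by all g • f - f (the
coordinate ring of the subscheme of G-fixed points of Spec O), is again formally smooth over R: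
invariant homomorphisms lift along square-zero extensions. The published statement is about a scheme
X smooth and of finite presentation over the base and concludes that its fixed-point scheme is
smooth; this row, the affine step of its proof, assumes only that O is formally smooth over R and
concludes only formal smoothness. -/
theorem result (R : Type u) [CommRing R]
    (O : Type u) [CommRing O] [Algebra R O] [Algebra.FormallySmooth R O]
    (G : Type v) [Group G] [Finite G] [MulSemiringAction G O] [SMulCommClass G R O]
    (hG : IsUnit (Nat.card G : R)) :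
    Algebra.FormallySmooth R (O ⧸ Ideal.span {x : O | ∃ (g : G) (f : O), x = g • f - f}) := by
  classical
  have := Fintype.ofFinite G
  set I : Ideal O := Ideal.span {x : O | ∃ (g : G) (f : O), x = g • f - f} with hI
  obtain ⟨c, hc⟩ := hG.exists_left_inv
  refine Algebra.FormallySmooth.of_comp_surjective (fun B _ _ J hJ f => ?_)
  -- lift the composite `O → O ⧸ I → B ⧸ J`
  obtain ⟨h, hh⟩ := Algebra.FormallySmooth.comp_surjective R O J hJ
    (f.comp (Ideal.Quotient.mkₐ R I))
  have hJ2 : ∀ a ∈ J, ∀ b ∈ J, a * b = 0 := by
    intro a ha b hb
    have : a * b ∈ J ^ 2 := by rw [pow_two]; exact Ideal.mul_mem_mul ha hb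
    rwa [hJ] at this
  have hmk : ∀ x : O, Ideal.Quotient.mk J (h x) = f (Ideal.Quotient.mk I x) := by
    intro x
    exact congrArg (fun φ : O →ₐ[R] B ⧸ J => φ x) hh
  have hdiff : ∀ (g : G) (x : O), h (g • x) - h x ∈ J := by
    intro g x
    rw [← Ideal.Quotient.eq_zero_iff_mem, map_sub, hmk, hmk, sub_eq_zero]
    congr 1
    rw [Ideal.Quotient.eq]
    exact Ideal.subset_span ⟨g, x, rfl⟩
  have hcard : ∀ b : B, c • ∑ _g : G, b = b := by
    intro b
    rw [Finset.sum_const, Finset.card_univ, ← Nat.card_eq_fintype_card,
      ← Nat.cast_smul_eq_nsmul R, smul_smul, hc, one_smul]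
  let δ : O → B := fun x => c • ∑ g : G, (h (g • x) - h x)
  have hδJ : ∀ x, δ x ∈ J := fun x =>
    Submodule.smul_of_tower_mem _ c (Ideal.sum_mem _ (fun g _ => hdiff g x))
  have hδ : ∀ x, h x + δ x = c • ∑ g : G, h (g • x) := by
    intro x
    simp only [δ, Finset.sum_sub_distrib, smul_sub, hcard]
    ring
  have hδmul : ∀ x y, δ (x * y) = h x * δ y + h y * δ x := by
    intro x y
    simp only [δ]
    rw [mul_smul_comm, mul_smul_comm, ← smul_add, Finset.mul_sum, Finset.mul_sum,
      ← Finset.sum_add_distrib]
    congr 1
    refine Finset.sum_congr rfl (fun g _ => ?_)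
    have := hJ2 _ (hdiff g x) _ (hdiff g y)
    rw [smul_mul', map_mul, map_mul]
    linear_combination this
  have hδadd : ∀ x y, δ (x + y) = δ x + δ y := by
    intro x y
    simp only [δ]
    rw [← smul_add, ← Finset.sum_add_distrib]
    congr 1
    refine Finset.sum_congr rfl (fun g _ => ?_)
    rw [smul_add, map_add, map_add]
    ring
  have hδalg : ∀ r : R, δ (algebraMap R O r) = 0 := by
    intro r
    simp only [δ, smul_algebraMap, sub_self, Finset.sum_const_zero, smul_zero]
  let h' : O →ₐ[R] B :=
    { toFun := fun x => h x + δ x
      map_one' := by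
        have := hδalg 1
        rw [map_one] at this
        rw [this, add_zero, map_one]
      map_mul' := fun x y => by
        have := hJ2 _ (hδJ x) _ (hδJ y)
        rw [hδmul, map_mul]
        linear_combination -this
      map_zero' := by
        have := hδalg 0
        rw [map_zero] at this
        rw [this, add_zero, map_zero]
      map_add' := fun x y => by
        rw [hδadd, map_add]
        ring
      commutes' := fun r => by
        rw [hδalg, add_zero, AlgHom.commutes] }
  have h'apply : ∀ x, h' x = h x + δ x := fun x => rfl
  have hker : ∀ a ∈ I, h' a = 0 := by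
    intro a ha
    have hle : I ≤ RingHom.ker (h' : O →+* B) := by
      rw [hI, Ideal.span_le]
      rintro _ ⟨g, x, rfl⟩
      rw [SetLike.mem_coe, RingHom.mem_ker]
      change h' (g • x - x) = 0
      rw [map_sub, sub_eq_zero, h'apply, h'apply, hδ, hδ]
      congr 1
      exact Fintype.sum_equiv (Equiv.mulRight g) _ _ (fun k => by simp [mul_smul])
    exact hle ha
  refine ⟨Ideal.Quotient.liftₐ I h' hker, ?_⟩
  refine Ideal.Quotient.algHom_ext _ ?_
  ext x
  change Ideal.Quotient.mk J (h' x) = f (Ideal.Quotient.mk I x)
  rw [h'apply, map_add, hmk, Ideal.Quotient.eq_zero_iff_mem.mpr (hδJ x), add_zero]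

end Groth.Agent.S16211
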