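import Groth.Statements.S16220
import Mathlib
-- import your own Groth.Agent.* helpers here

set_option autoImplicit false
universe u v
open Disp

namespace Groth.Agent.S16220

/-- Let p be a prime and k a perfect ring of characteristic p, so that the Frobenius σ of W = W(k) is
bijective, W has no p-torsion and W/p^n W = W_n(k) (the ideal p^n W is the kernel of the truncation
to length n). Let n ≥ 2 and let M be a truncated Dieudonné module of level n over k: a W-module on
which W acts through W/p^n W, finitely generated and projective over W/p^n W, with a σ-semilinear F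
: M → M and a σ⁻¹-semilinear V : M → M such that FV = VF = p. Then on M/pM the kernel of F is the
image of V and the kernel of V is the image of F; stated inside M: the preimage of pM under F is VM
+ pM, and the preimage of pM under V is FM + pM. -/
theorem result (p : ℕ) [Fact p.Prime] (k : Type u) [CommRing k]
    [CharP k p] [PerfectRing k p] (n : ℕ) (hn : 2 ≤ n)
    (M : Type v) [AddCommGroup M] [Module (WittVector p k) M]
    [Module (WittVector p k ⧸ Ideal.span {(p : WittVector p k) ^ n}) M] [IsScalarTower (WittVector p k) (WittVector p k ⧸ Ideal.span {(p : WittVector p k) ^ n}) M]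
    [Module.Finite (WittVector p k ⧸ Ideal.span {(p : WittVector p k) ^ n}) M] [Module.Projective (WittVector p k ⧸ Ideal.span {(p : WittVector p k) ^ n}) M]
    (F : M →ₛₗ[(WittVector.frobenius : WittVector p k →+* WittVector p k)] M)
    (V : M →ₛₗ[((WittVector.frobeniusEquiv p k).symm : WittVector p k →+* WittVector p k)] M)
    (hFV : ∀ m : M, F (V m) = (p : WittVector p k) • m) (hVF : ∀ m : M, V (F m) = (p : WittVector p k) • m) :
    (Ideal.span {(p : WittVector p k)} • (⊤ : Submodule (WittVector p k) M)).comap F =
        Submodule.span (WittVector p k) (Set.range V) ⊔ Ideal.span {(p : WittVector p k)} • (⊤ : Submodule (WittVector p k) M) ∧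
      (Ideal.span {(p : WittVector p k)} • (⊤ : Submodule (WittVector p k) M)).comap V =
        Submodule.span (WittVector p k) (Set.range F) ⊔ Ideal.span {(p : WittVector p k)} • (⊤ : Submodule (WittVector p k) M) := by
  classical
  -- `p` is a nonzerodivisor of `W(k)`
  have hpinj : ∀ x : WittVector p k, (p : WittVector p k) * x = 0 → x = 0 := by
    intro x hx
    ext i
    have h1 := WittVector.mul_charP_coeff_succ (p := p) x i
    rw [mul_comm, hx, WittVector.zero_coeff] at h1
    have h2 : frobenius k p (x.coeff i) = frobenius k p 0 := by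
      rw [frobenius_def, frobenius_def, ← h1, zero_pow (Fact.out : p.Prime).ne_zero]
    rw [WittVector.zero_coeff]
    exact injective_frobenius k p h2
  -- elements of the quotient ring killed by `p`
  have hR : ∀ c : WittVector p k ⧸ Ideal.span {(p : WittVector p k) ^ n},
      Ideal.Quotient.mk _ (p : WittVector p k) * c = 0 →
      ∃ d, c = Ideal.Quotient.mk _ ((p : WittVector p k) ^ (n - 1)) * d := by
    intro c hc
    obtain ⟨w, rfl⟩ := Ideal.Quotient.mk_surjective c
    rw [← map_mul, Ideal.Quotient.eq_zero_iff_mem, Ideal.mem_span_singleton'] at hc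
    obtain ⟨u, hu⟩ := hc
    have h1 : (p : WittVector p k) * (w - (p : WittVector p k) ^ (n - 1) * u) = 0 := by
      have : (p : WittVector p k) ^ n = p * p ^ (n - 1) := by
        rw [← pow_succ']
        congr 1
        omega
      rw [mul_sub, ← hu, this]
      ring
    have h2 := sub_eq_zero.mp (hpinj _ h1)
    exact ⟨Ideal.Quotient.mk _ u, by rw [h2, map_mul]⟩
  -- scalar compatibility
  have hsm : ∀ (w : WittVector p k) (m : M),
      (Ideal.Quotient.mk (Ideal.span {(p : WittVector p k) ^ n}) w) • m = w • m := by
    intro w m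
    have := smul_assoc w (1 : WittVector p k ⧸ Ideal.span {(p : WittVector p k) ^ n}) m
    rw [one_smul] at this
    rw [← this]
    congr 1
    rw [Algebra.smul_def, mul_one]
    rfl
  -- the `p`-torsion of `M` lies in `pM`
  have hker : ∀ m : M, (p : WittVector p k) • m = 0 → ∃ m'', m = (p : WittVector p k) • m'' := by
    intro m hm
    obtain ⟨s, hs⟩ := (Module.projective_def'
      (R := WittVector p k ⧸ Ideal.span {(p : WittVector p k) ^ n}) (P := M)).mp inferInstance
    have hs' : ∀ x : M, Finsupp.linearCombination _ id (s x) = x := fun x =>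
      LinearMap.congr_fun hs x
    have h1 : ∀ j : M, Ideal.Quotient.mk _ (p : WittVector p k) * (s m) j = 0 := by
      intro j
      have h2 : s ((Ideal.Quotient.mk (Ideal.span {(p : WittVector p k) ^ n})
          (p : WittVector p k)) • m) = 0 := by
        rw [hsm, hm, map_zero]
      rw [map_smul] at h2
      have h3 := congrArg (fun ψ => ψ j) h2
      simpa using h3
    have h4 : ∀ j : M, ∃ d, (s m) j = Ideal.Quotient.mk _ ((p : WittVector p k) ^ (n - 1)) * d :=
      fun j => hR _ (h1 j)
    choose d hd using h4
    have h5 : m = (Ideal.Quotient.mk (Ideal.span {(p : WittVector p k) ^ n})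
        ((p : WittVector p k) ^ (n - 1))) • ∑ j ∈ (s m).support, d j • j := by
      conv_lhs => rw [← hs' m]
      rw [Finsupp.linearCombination_apply, Finsupp.sum, Finset.smul_sum]
      apply Finset.sum_congr rfl
      intro j _
      rw [hd j, mul_smul]
      rfl
    obtain ⟨z, hz⟩ : ∃ z : M, m = (Ideal.Quotient.mk (Ideal.span {(p : WittVector p k) ^ n})
        ((p : WittVector p k) ^ (n - 1))) • z := ⟨_, h5⟩
    refine ⟨(p : WittVector p k) ^ (n - 2) • z, ?_⟩
    rw [hz, hsm, show n - 1 = (n - 2) + 1 by omega, pow_succ', mul_smul]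
  -- membership in `pM`
  have mem_pM : ∀ m : M, m ∈ Ideal.span {(p : WittVector p k)} •
      (⊤ : Submodule (WittVector p k) M) ↔ ∃ m', m = (p : WittVector p k) • m' := by
    intro m
    rw [Submodule.ideal_span_singleton_smul, Submodule.mem_smul_pointwise_iff_exists]
    constructor
    · rintro ⟨b, _, rfl⟩
      exact ⟨b, rfl⟩
    · rintro ⟨b, rfl⟩
      exact ⟨b, Submodule.mem_top, rfl⟩
  have hFp : ∀ m : M, F ((p : WittVector p k) • m) = (p : WittVector p k) • F m := by
    intro m
    rw [F.map_smulₛₗ, map_natCast]
  have hVp : ∀ m : M, V ((p : WittVector p k) • m) = (p : WittVector p k) • V m := by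
    intro m
    rw [V.map_smulₛₗ, map_natCast]
  constructor
  · apply le_antisymm
    · intro m hm
      rw [Submodule.mem_comap, mem_pM] at hm
      obtain ⟨m', hm'⟩ := hm
      have h1 : (p : WittVector p k) • (m - V m') = 0 := by
        rw [smul_sub, ← hVF m, hm', hVp, sub_self]
      obtain ⟨m'', hm''⟩ := hker _ h1
      rw [Submodule.mem_sup]
      refine ⟨V m', Submodule.subset_span ⟨m', rfl⟩, (p : WittVector p k) • m'',
        (mem_pM _).mpr ⟨m'', rfl⟩, ?_⟩
      rw [← hm'']
      abel
    · apply sup_le
      · rw [Submodule.span_le]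
        rintro _ ⟨m, rfl⟩
        rw [SetLike.mem_coe, Submodule.mem_comap, hFV]
        exact (mem_pM _).mpr ⟨m, rfl⟩
      · intro m hm
        obtain ⟨m', rfl⟩ := (mem_pM m).mp hm
        rw [Submodule.mem_comap, hFp]
        exact (mem_pM _).mpr ⟨_, rfl⟩
  · apply le_antisymm
    · intro m hm
      rw [Submodule.mem_comap, mem_pM] at hm
      obtain ⟨m', hm'⟩ := hm
      have h1 : (p : WittVector p k) • (m - F m') = 0 := by
        rw [smul_sub, ← hFV m, hm', hFp, sub_self]
      obtain ⟨m'', hm''⟩ := hker _ h1
      rw [Submodule.mem_sup]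
      refine ⟨F m', Submodule.subset_span ⟨m', rfl⟩, (p : WittVector p k) • m'',
        (mem_pM _).mpr ⟨m'', rfl⟩, ?_⟩
      rw [← hm'']
      abel
    · apply sup_le
      · rw [Submodule.span_le]
        rintro _ ⟨m, rfl⟩
        rw [SetLike.mem_coe, Submodule.mem_comap, hVF]
        exact (mem_pM _).mpr ⟨m, rfl⟩
      · intro m hm
        obtain ⟨m', rfl⟩ := (mem_pM m).mp hm
        rw [Submodule.mem_comap, hVp]
        exact (mem_pM _).mpr ⟨_, rfl⟩

end Groth.Agent.S16220
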