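import Groth.Statements.S16234
import Mathlib
-- import your own Groth.Agent.* helpers here

set_option autoImplicit false
universe u v
open CAlg

namespace Groth.Agent.S16234

/-- For a finitely generated module M over a Noetherian commutative ring A, every prime ideal in the
support of M is a maximal ideal if and only if M has finite length. -/
theorem result (A : Type u) [CommRing A] [IsNoetherianRing A]
    (M : Type v) [AddCommGroup M] [Module A M] [Module.Finite A M] :
    (∀ p ∈ Module.support A M, p.asIdeal.IsMaximal) ↔ IsFiniteLength A M := by
  classical
  set I := Module.annihilator A M with hI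
  have hsurj : Function.Surjective (Ideal.Quotient.mk I) := Ideal.Quotient.mk_surjective
  have hker : RingHom.ker (Ideal.Quotient.mk I) = I := Ideal.mk_ker
  constructor
  · intro h
    let : Module (A ⧸ I) M := Module.quotientAnnihilator
    have : IsScalarTower A (A ⧸ I) M :=
      IsScalarTower.of_algebraMap_smul (fun r m => rfl)
    -- `A ⧸ I` has Krull dimension `≤ 0`
    have : Ring.KrullDimLE 0 (A ⧸ I) := by
      rw [Ring.krullDimLE_zero_iff]
      intro P hP
      have hmem : (⟨P.comap (Ideal.Quotient.mk I), inferInstance⟩ : PrimeSpectrum A) ∈
          Module.support A M := by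
        rw [Module.mem_support_iff_of_finite]
        intro a ha
        rw [Ideal.mem_comap, Ideal.Quotient.eq_zero_iff_mem.mpr ha]
        exact zero_mem _
      have hmax : (P.comap (Ideal.Quotient.mk I)).IsMaximal := h _ hmem
      have := Ideal.map_eq_top_or_isMaximal_of_surjective (Ideal.Quotient.mk I) hsurj hmax
      rw [Ideal.map_comap_of_surjective _ hsurj] at this
      exact this.resolve_left hP.ne_top
    have : IsArtinianRing (A ⧸ I) := IsNoetherianRing.isArtinianRing_of_krullDimLE_zero
    have : Module.Finite (A ⧸ I) M := Module.Finite.of_restrictScalars_finite A (A ⧸ I) M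
    rw [isFiniteLength_iff_isNoetherian_isArtinian]
    refine ⟨inferInstance, ?_⟩
    exact isArtinian_of_surjective_algebraMap (R := A ⧸ I) (S := A) (M := M) hsurj
  · intro h p hp
    rw [Module.mem_support_iff_of_finite] at hp
    rw [isFiniteLength_iff_isNoetherian_isArtinian] at h
    obtain ⟨-, hart⟩ := h
    obtain ⟨n, s, hs⟩ := Module.Finite.exists_fin (R := A) (M := M)
    let φ : A →ₗ[A] (Fin n → M) := LinearMap.pi (fun i => LinearMap.toSpanSingleton A M (s i))
    have hφ : LinearMap.ker φ = I := by
      ext a
      simp only [LinearMap.mem_ker, φ]
      rw [hI, Module.mem_annihilator]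
      constructor
      · intro ha m
        have hm : m ∈ Submodule.span A (Set.range s) := hs ▸ Submodule.mem_top
        induction hm using Submodule.span_induction with
        | mem x hx =>
          obtain ⟨i, rfl⟩ := hx
          have := congrFun ha i
          simpa using this
        | zero => simp
        | add x y _ _ hx hy => rw [smul_add, hx, hy, add_zero]
        | smul r x _ hx => rw [smul_comm, hx, smul_zero]
      · intro ha
        ext i
        simpa using ha (s i)
    have : IsArtinian A (A ⧸ I) := by
      have hle : I ≤ LinearMap.ker φ := hφ.ge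
      refine isArtinian_of_injective (Submodule.liftQ I φ hle) ?_
      rw [← LinearMap.ker_eq_bot, Submodule.ker_liftQ, hφ, Submodule.mkQ_map_self]
    have : IsArtinianRing (A ⧸ I) := isArtinian_of_tower A inferInstance
    have : (p.asIdeal.map (Ideal.Quotient.mk I)).IsPrime :=
      Ideal.map_isPrime_of_surjective hsurj (by rw [hker]; exact hp)
    have hmax : (p.asIdeal.map (Ideal.Quotient.mk I)).IsMaximal :=
      IsArtinianRing.isMaximal_of_isPrime _
    have := Ideal.comap_isMaximal_of_surjective (Ideal.Quotient.mk I) hsurj (K := p.asIdeal.map (Ideal.Quotient.mk I))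
    rwa [Ideal.comap_map_of_surjective' _ hsurj, hker, sup_eq_left.mpr hp] at this

end Groth.Agent.S16234
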