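import Groth.Statements.S16235
import Mathlib
-- import your own Groth.Agent.* helpers here

set_option autoImplicit false
universe u
open CAlg

namespace Groth.Agent.S16235

/-- Let A be a Noetherian commutative ring and x_1, …, x_r a regular sequence on A (each x_i a
non-zero-divisor on A/(x_1, …, x_{i-1})) generating an ideal I ≠ A. Then the height of I, the
infimum of the heights of the minimal primes over I, equals r. -/
theorem result (A : Type u) [CommRing A] [IsNoetherianRing A]
    (r : ℕ) (x : Fin r → A) (hx : RingTheory.Sequence.IsWeaklyRegular A (List.ofFn x))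
    (hI : Ideal.span (Set.range x) ≠ ⊤) :
    (Ideal.span (Set.range x)).height = r := by
  classical
  set I := Ideal.span (Set.range x) with hIdef
  have hofList : Ideal.ofList (List.ofFn x) = I := by
    rw [hIdef, Ideal.ofList]
    congr 1
    ext a
    simp [List.mem_ofFn]
  apply le_antisymm
  · -- upper bound: Krull's height theorem
    obtain ⟨J, hJ⟩ := Ideal.nonempty_minimalPrimes hI
    rw [I.height_eq_inf_minimalPrimes]
    refine (iInf₂_le J hJ).trans ?_
    have hfin : (Set.range x).Finite := Set.finite_range x
    refine (Ideal.height_le_card_of_mem_minimalPrimes_span hfin hJ).trans ?_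
    have : (Set.range x).ncard ≤ r := by
      rw [Set.ncard_eq_toFinset_card', Set.toFinset_range]
      exact Finset.card_image_le.trans (by simp)
    exact_mod_cast this
  · -- lower bound: localize at a minimal prime
    rw [I.height_eq_inf_minimalPrimes]
    refine le_iInf₂ (fun p hp => ?_)
    have : p.IsPrime := hp.1.1
    have hIp : I ≤ p := hp.1.2
    have hmem : ∀ a ∈ List.ofFn x, a ∈ p := by
      intro a ha
      rw [List.mem_ofFn] at ha
      obtain ⟨i, rfl⟩ := ha
      exact hIp (Ideal.subset_span ⟨i, rfl⟩)
    have hreg := hx.isRegular_of_isLocalization_of_mem (Localization.AtPrime p) p hmem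
    have hdim := ringKrullDim_add_length_eq_ringKrullDim_of_isRegular _ hreg
    rw [IsLocalization.AtPrime.ringKrullDim_eq_height p (Localization.AtPrime p)] at hdim
    simp only [List.length_map, List.length_ofFn] at hdim
    -- the quotient ring is nontrivial, so its dimension is nonnegative
    have hne : Ideal.ofList (List.map (algebraMap A (Localization.AtPrime p)) (List.ofFn x)) ≠ ⊤ := by
      have := hreg.2
      simpa using this.symm
    have : Nontrivial (Localization.AtPrime p ⧸
        Ideal.ofList (List.map (algebraMap A (Localization.AtPrime p)) (List.ofFn x))) :=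
      Ideal.Quotient.nontrivial_iff.mpr hne
    have hnonneg := ringKrullDim_nonneg_of_nontrivial (R := Localization.AtPrime p ⧸
        Ideal.ofList (List.map (algebraMap A (Localization.AtPrime p)) (List.ofFn x)))
    have : ((r : ℕ∞) : WithBot ℕ∞) ≤ (p.height : WithBot ℕ∞) := by
      rw [← hdim]
      calc ((r : ℕ∞) : WithBot ℕ∞) = 0 + (r : WithBot ℕ∞) := by simp
        _ ≤ _ := by gcongr
    exact_mod_cast this

end Groth.Agent.S16235
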