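import Groth.Statements.S16242
import Groth.Agent.H16.NodeK0

set_option autoImplicit false
universe u
open CategoryTheory
open KZero

namespace Groth.Agent.S16242

open Polynomial

section Iso

variable (k : Type u) [Field k]

abbrev Rk := MvPolynomial (Fin 2) k
noncomputable abbrev Ik : Ideal (Rk k) :=
  Ideal.span {(MvPolynomial.X 0 * MvPolynomial.X 1 : MvPolynomial (Fin 2) k)}
abbrev Ak := Rk k ⧸ Ik k

/-- the class of a variable -/
noncomputable abbrev tk (i : Fin 2) : Ak k := Ideal.Quotient.mk (Ik k) (MvPolynomial.X i)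

abbrev Dk (i : Fin 2) := Ak k ⧸ Ideal.span {tk k i}

/-- kill the variable `i`, send the other to `T` -/
noncomputable def f0 (i : Fin 2) : Rk k →ₐ[k] k[X] :=
  MvPolynomial.aeval (fun l => if l = i then 0 else (X : k[X]))

theorem f0_rel (i : Fin 2) : f0 k i (MvPolynomial.X 0 * MvPolynomial.X 1) = 0 := by
  fin_cases i <;> simp [f0]

noncomputable def f1 (i : Fin 2) : Ak k →+* k[X] :=
  Ideal.Quotient.lift (Ik k) (f0 k i).toRingHom (by
    intro a ha
    rw [Ideal.mem_span_singleton] at ha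
    obtain ⟨c, rfl⟩ := ha
    change f0 k i (_ * c) = 0
    rw [map_mul, f0_rel, zero_mul])

theorem f1_mk (i : Fin 2) (p : Rk k) : f1 k i (Ideal.Quotient.mk _ p) = f0 k i p := rfl

noncomputable def f2 (i : Fin 2) : Dk k i →+* k[X] :=
  Ideal.Quotient.lift _ (f1 k i) (by
    intro a ha
    rw [Ideal.mem_span_singleton] at ha
    obtain ⟨c, rfl⟩ := ha
    rw [map_mul, f1_mk]
    simp [f0])

theorem f2_mk (i : Fin 2) (p : Rk k) :
    f2 k i (Ideal.Quotient.mk _ (Ideal.Quotient.mk _ p)) = f0 k i p := rfl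

noncomputable def g2 (i : Fin 2) : k[X] →+* Dk k i :=
  (Polynomial.aeval (R := k) (Ideal.Quotient.mk (Ideal.span {tk k i}) (tk k (1 - i)))).toRingHom

theorem f2_g2 (i : Fin 2) : (f2 k i).comp (g2 k i) = RingHom.id _ := by
  apply Polynomial.ringHom_ext
  · intro a
    change f2 k i (Polynomial.aeval _ (C a)) = C a
    rw [Polynomial.aeval_C]
    change f0 k i (algebraMap k (Rk k) a) = C a
    rw [AlgHom.commutes]
    rfl
  · change f2 k i (Polynomial.aeval _ X) = X
    rw [Polynomial.aeval_X]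
    change f0 k i (MvPolynomial.X (1 - i)) = X
    fin_cases i <;> simp [f0]

theorem g2_f2 (i : Fin 2) : (g2 k i).comp (f2 k i) = RingHom.id _ := by
  apply Ideal.Quotient.ringHom_ext
  apply Ideal.Quotient.ringHom_ext
  apply MvPolynomial.ringHom_ext
  · intro a
    change g2 k i (f0 k i (MvPolynomial.C a)) = _
    have : (MvPolynomial.C a : Rk k) = algebraMap k (Rk k) a := rfl
    rw [this, AlgHom.commutes]
    change Polynomial.aeval _ (C a) = _
    rw [Polynomial.aeval_C]
    rfl
  · intro l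
    change g2 k i (f0 k i (MvPolynomial.X l)) = Ideal.Quotient.mk _ (tk k l)
    by_cases hl : l = i
    · subst hl
      have h1 : f0 k l (MvPolynomial.X l) = 0 := by simp [f0]
      rw [h1, map_zero]
      symm
      rw [Ideal.Quotient.eq_zero_iff_mem]
      exact Ideal.mem_span_singleton_self _
    · have h1 : f0 k i (MvPolynomial.X l) = X := by simp [f0, hl]
      rw [h1]
      change Polynomial.aeval _ X = _
      rw [Polynomial.aeval_X]
      have : 1 - i = l := by
        fin_cases i <;> fin_cases l <;> simp_all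
      rw [this]

/-- each branch of the node is a polynomial ring in one variable -/
noncomputable def equivD (i : Fin 2) : Dk k i ≃+* k[X] :=
  RingEquiv.ofRingHom (f2 k i) (g2 k i) (f2_g2 k i) (g2_f2 k i)

instance (i : Fin 2) : IsDomain (Dk k i) := (equivD k i).toMulEquiv.isDomain

instance (i : Fin 2) : IsPrincipalIdealRing (Dk k i) :=
  IsPrincipalIdealRing.of_surjective (equivD k i).symm.toRingHom (equivD k i).symm.surjective

theorem tk_mul : tk k 0 * tk k 1 = 0 := by
  change Ideal.Quotient.mk (Ik k) (MvPolynomial.X 0) * Ideal.Quotient.mk (Ik k) (MvPolynomial.X 1) = 0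
  rw [← map_mul, Ideal.Quotient.eq_zero_iff_mem]
  exact Ideal.mem_span_singleton_self _

theorem tk_not_mem (i : Fin 2) : tk k (1 - i) ∉ Ideal.span {tk k i} := by
  intro h
  have h0 : Ideal.Quotient.mk (Ideal.span {tk k i}) (tk k (1 - i)) = 0 :=
    Ideal.Quotient.eq_zero_iff_mem.mpr h
  have h1 := congrArg (f2 k i) h0
  rw [map_zero] at h1
  change f0 k i (MvPolynomial.X (1 - i)) = 0 at h1
  have h2 : f0 k i (MvPolynomial.X (1 - i)) = X := by
    fin_cases i <;> simp [f0]
  rw [h2] at h1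
  exact Polynomial.X_ne_zero h1

end Iso

/-- Let k be a field and A = k[x, y]/(xy) (polynomial ring in two variables x = X_0, y = X_1 modulo xy).
In the Grothendieck group of finitely generated A-modules (free abelian group on them modulo short
exact sequences), the classes of A/(x) ≅ k[y] and A/(y) ≅ k[x] form a basis: the homomorphism ℤ × ℤ
⟶ K₀ sending (a, b) to a·[A/(x)] + b·[A/(y)] is bijective. -/
theorem result (k : Type u) [Field k] :
    Function.Bijective (fun p : ℤ × ℤ =>
      p.1 • KZero.clSub (fun M : ModuleCat.{u} (MvPolynomial (Fin 2) k ⧸ Ideal.span {(MvPolynomial.X 0 * MvPolynomial.X 1 : MvPolynomial (Fin 2) k)}) => Module.Finite (MvPolynomial (Fin 2) k ⧸ Ideal.span {(MvPolynomial.X 0 * MvPolynomial.X 1 : MvPolynomial (Fin 2) k)}) M)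
          (ModuleCat.of (MvPolynomial (Fin 2) k ⧸ Ideal.span {(MvPolynomial.X 0 * MvPolynomial.X 1 : MvPolynomial (Fin 2) k)}) ((MvPolynomial (Fin 2) k ⧸ Ideal.span {(MvPolynomial.X 0 * MvPolynomial.X 1 : MvPolynomial (Fin 2) k)}) ⧸ Ideal.span {Ideal.Quotient.mk (Ideal.span {(MvPolynomial.X 0 * MvPolynomial.X 1 : MvPolynomial (Fin 2) k)}) (MvPolynomial.X 0)})) +
        p.2 • KZero.clSub (fun M : ModuleCat.{u} (MvPolynomial (Fin 2) k ⧸ Ideal.span {(MvPolynomial.X 0 * MvPolynomial.X 1 : MvPolynomial (Fin 2) k)}) => Module.Finite (MvPolynomial (Fin 2) k ⧸ Ideal.span {(MvPolynomial.X 0 * MvPolynomial.X 1 : MvPolynomial (Fin 2) k)}) M)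
          (ModuleCat.of (MvPolynomial (Fin 2) k ⧸ Ideal.span {(MvPolynomial.X 0 * MvPolynomial.X 1 : MvPolynomial (Fin 2) k)}) ((MvPolynomial (Fin 2) k ⧸ Ideal.span {(MvPolynomial.X 0 * MvPolynomial.X 1 : MvPolynomial (Fin 2) k)}) ⧸ Ideal.span {Ideal.Quotient.mk (Ideal.span {(MvPolynomial.X 0 * MvPolynomial.X 1 : MvPolynomial (Fin 2) k)}) (MvPolynomial.X 1)}))) := by
  exact Groth.Agent.H16.NodeK0.bijective_of_branches (tk k 0) (tk k 1) (tk_mul k)
    (tk_not_mem k 0) (tk_not_mem k 1)

end Groth.Agent.S16242
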