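import Groth.Statements.S16244
import Mathlib
-- import your own Groth.Agent.* helpers here

set_option autoImplicit false
universe u
open Curves

namespace Groth.Agent.S16244

/-- Let k be an algebraically closed field in which 2 and 3 are nonzero, and W a short Weierstrass
equation y² = x³ + a₄x + a₆ over k with nonzero discriminant. The admissible changes of variables
(u, r, s, t) that fix W form a cyclic group, of order 6 when a₄ = 0, of order 4 when a₆ = 0, and of
order 2 when a₄ and a₆ are both nonzero. (The published statement says the automorphism group of the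
elliptic curve is cyclic of order 2, 4 or 6; the automorphisms are rendered here as the changes of
variables preserving the equation, and the case distinction is the one the computation gives.) -/
theorem result
    (k : Type u) [Field k] [IsAlgClosed k] (h2 : (2 : k) ≠ 0) (h3 : (3 : k) ≠ 0)
    (W : WeierstrassCurve k) [W.IsShortNF] (hΔ : W.Δ ≠ 0) :
    IsCyclic ↥(MulAction.stabilizer (WeierstrassCurve.VariableChange k) W) ∧
      (W.a₄ = 0 → Nat.card ↥(MulAction.stabilizer (WeierstrassCurve.VariableChange k) W) = 6) ∧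
      (W.a₆ = 0 → Nat.card ↥(MulAction.stabilizer (WeierstrassCurve.VariableChange k) W) = 4) ∧
      (W.a₄ ≠ 0 → W.a₆ ≠ 0 → Nat.card ↥(MulAction.stabilizer (WeierstrassCurve.VariableChange k) W) = 2) := by
  have ha1 : W.a₁ = 0 := WeierstrassCurve.IsShortNF.a₁
  have ha2 : W.a₂ = 0 := WeierstrassCurve.IsShortNF.a₂
  have ha3 : W.a₃ = 0 := WeierstrassCurve.IsShortNF.a₃
  -- facts about elements of the stabilizer
  have hst : ∀ C : WeierstrassCurve.VariableChange k, C • W = W →
      C.r = 0 ∧ C.s = 0 ∧ C.t = 0 ∧ ((C.u⁻¹ : kˣ) : k) ^ 4 * W.a₄ = W.a₄ ∧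
        ((C.u⁻¹ : kˣ) : k) ^ 6 * W.a₆ = W.a₆ := by
    intro C hC
    have hu : ((C.u⁻¹ : kˣ) : k) ≠ 0 := Units.ne_zero _
    have h1 := congrArg WeierstrassCurve.a₁ hC
    have h2' := congrArg WeierstrassCurve.a₂ hC
    have h3' := congrArg WeierstrassCurve.a₃ hC
    have h4 := congrArg WeierstrassCurve.a₄ hC
    have h6 := congrArg WeierstrassCurve.a₆ hC
    rw [WeierstrassCurve.variableChange_a₁, ha1, zero_add] at h1
    have hs : C.s = 0 := by
      rcases mul_eq_zero.mp h1 with h | h
      · exact absurd h hu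
      · exact (mul_eq_zero.mp h).resolve_left h2
    rw [WeierstrassCurve.variableChange_a₂, ha1, ha2, hs] at h2'
    have hr : C.r = 0 := by
      rcases mul_eq_zero.mp h2' with h | h
      · exact absurd h (pow_ne_zero _ hu)
      · have : 3 * C.r = 0 := by linear_combination h
        exact (mul_eq_zero.mp this).resolve_left h3
    rw [WeierstrassCurve.variableChange_a₃, ha1, ha3, hr] at h3'
    have ht : C.t = 0 := by
      rcases mul_eq_zero.mp h3' with h | h
      · exact absurd h (pow_ne_zero _ hu)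
      · have : 2 * C.t = 0 := by linear_combination h
        exact (mul_eq_zero.mp this).resolve_left h2
    rw [WeierstrassCurve.variableChange_a₄, ha1, ha2, ha3, hr, hs, ht] at h4
    rw [WeierstrassCurve.variableChange_a₆, ha1, ha2, ha3, hr, ht] at h6
    refine ⟨hr, hs, ht, ?_, ?_⟩
    · linear_combination h4
    · linear_combination h6
  -- elements of the stabilizer from units
  have hmk : ∀ u : kˣ, ((u⁻¹ : kˣ) : k) ^ 4 * W.a₄ = W.a₄ → ((u⁻¹ : kˣ) : k) ^ 6 * W.a₆ = W.a₆ →
      (⟨u, 0, 0, 0⟩ : WeierstrassCurve.VariableChange k) • W = W := by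
    intro u h4 h6
    ext
    · rw [WeierstrassCurve.variableChange_a₁, ha1]; simp
    · rw [WeierstrassCurve.variableChange_a₂, ha1, ha2]; simp
    · rw [WeierstrassCurve.variableChange_a₃, ha1, ha3]; simp
    · rw [WeierstrassCurve.variableChange_a₄, ha1, ha2, ha3]
      simp only [mul_zero, sub_zero, zero_mul, add_zero, ne_eq, OfNat.ofNat_ne_zero,
        not_false_eq_true, zero_pow]
      exact h4
    · rw [WeierstrassCurve.variableChange_a₆, ha1, ha2, ha3]
      simp only [mul_zero, sub_zero, zero_mul, add_zero, ne_eq, OfNat.ofNat_ne_zero,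
        not_false_eq_true, zero_pow]
      exact h6
  -- the general equivalence
  have hequiv : ∀ N : ℕ, (∀ u : kˣ, (((u⁻¹ : kˣ) : k) ^ 4 * W.a₄ = W.a₄ ∧
      ((u⁻¹ : kˣ) : k) ^ 6 * W.a₆ = W.a₆) ↔ u ^ N = 1) →
      Nonempty (↥(MulAction.stabilizer (WeierstrassCurve.VariableChange k) W) ≃* rootsOfUnity N k) := by
    intro N hN
    refine ⟨{ toFun := fun C => ⟨C.1.u, (mem_rootsOfUnity _ _).mpr ((hN _).mp
                  ⟨(hst C.1 (MulAction.mem_stabilizer_iff.mp C.2)).2.2.2.1,
                   (hst C.1 (MulAction.mem_stabilizer_iff.mp C.2)).2.2.2.2⟩)⟩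
              invFun := fun ζ => ⟨⟨ζ.1, 0, 0, 0⟩, MulAction.mem_stabilizer_iff.mpr
                  (hmk ζ.1 ((hN _).mpr ((mem_rootsOfUnity _ _).mp ζ.2)).1
                    ((hN _).mpr ((mem_rootsOfUnity _ _).mp ζ.2)).2)⟩
              left_inv := ?_
              right_inv := ?_
              map_mul' := ?_ }⟩
    · intro C
      obtain ⟨hr, hs, ht, -, -⟩ := hst C.1 (MulAction.mem_stabilizer_iff.mp C.2)
      apply Subtype.ext
      ext
      · rfl
      · exact hr.symm
      · exact hs.symm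
      · exact ht.symm
    · intro ζ
      rfl
    · intro C C'
      rfl
  have hΔ' : 4 * W.a₄ ^ 3 + 27 * W.a₆ ^ 2 ≠ 0 := by
    intro h
    apply hΔ
    rw [WeierstrassCurve.Δ_of_isShortNF, h, mul_zero]
  have h6ne : NeZero ((6 : ℕ) : k) := ⟨by
    have : ((6 : ℕ) : k) = 2 * 3 := by norm_num
    rw [this]; exact mul_ne_zero h2 h3⟩
  have h4ne : NeZero ((4 : ℕ) : k) := ⟨by
    have : ((4 : ℕ) : k) = 2 * 2 := by norm_num
    rw [this]; exact mul_ne_zero h2 h2⟩
  have h2ne : NeZero ((2 : ℕ) : k) := ⟨by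
    have : ((2 : ℕ) : k) = 2 := by norm_num
    rw [this]; exact h2⟩
  have hinv : ∀ (u : kˣ) (n : ℕ), ((u⁻¹ : kˣ) : k) ^ n = 1 ↔ u ^ n = 1 := by
    intro u n
    rw [← Units.val_pow_eq_pow_val, Units.val_eq_one, inv_pow, inv_eq_one]
  -- the three cases
  have case6 : W.a₄ = 0 → Nonempty (↥(MulAction.stabilizer (WeierstrassCurve.VariableChange k) W) ≃*
      rootsOfUnity 6 k) := by
    intro h4
    have h6 : W.a₆ ≠ 0 := by
      intro h
      apply hΔ'
      rw [h4, h]; ring
    apply hequiv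
    intro u
    rw [h4, mul_zero, ← hinv u 6]
    constructor
    · rintro ⟨-, h⟩
      exact mul_right_cancel₀ h6 (h.trans (one_mul _).symm)
    · intro h
      exact ⟨rfl, by rw [h, one_mul]⟩
  have case4 : W.a₆ = 0 → Nonempty (↥(MulAction.stabilizer (WeierstrassCurve.VariableChange k) W) ≃*
      rootsOfUnity 4 k) := by
    intro h6
    have h4 : W.a₄ ≠ 0 := by
      intro h
      apply hΔ'
      rw [h6, h]; ring
    apply hequiv
    intro u
    rw [h6, mul_zero, ← hinv u 4]
    constructor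
    · rintro ⟨h, -⟩
      exact mul_right_cancel₀ h4 (h.trans (one_mul _).symm)
    · intro h
      exact ⟨by rw [h, one_mul], rfl⟩
  have case2 : W.a₄ ≠ 0 → W.a₆ ≠ 0 →
      Nonempty (↥(MulAction.stabilizer (WeierstrassCurve.VariableChange k) W) ≃* rootsOfUnity 2 k) := by
    intro h4 h6
    apply hequiv
    intro u
    rw [← hinv u 2]
    constructor
    · rintro ⟨h, h'⟩
      have e4 : ((u⁻¹ : kˣ) : k) ^ 4 = 1 := mul_right_cancel₀ h4 (h.trans (one_mul _).symm)
      have e6 : ((u⁻¹ : kˣ) : k) ^ 6 = 1 := mul_right_cancel₀ h6 (h'.trans (one_mul _).symm)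
      have : ((u⁻¹ : kˣ) : k) ^ 6 = ((u⁻¹ : kˣ) : k) ^ 4 * ((u⁻¹ : kˣ) : k) ^ 2 := by ring
      rw [e6, e4, one_mul] at this
      exact this.symm
    · intro h
      have e4 : ((u⁻¹ : kˣ) : k) ^ 4 = 1 := by
        have : ((u⁻¹ : kˣ) : k) ^ 4 = (((u⁻¹ : kˣ) : k) ^ 2) ^ 2 := by ring
        rw [this, h, one_pow]
      have e6 : ((u⁻¹ : kˣ) : k) ^ 6 = 1 := by
        have : ((u⁻¹ : kˣ) : k) ^ 6 = (((u⁻¹ : kˣ) : k) ^ 2) ^ 3 := by ring
        rw [this, h, one_pow]
      exact ⟨by rw [e4, one_mul], by rw [e6, one_mul]⟩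
  refine ⟨?_, ?_, ?_, ?_⟩
  · by_cases h4 : W.a₄ = 0
    · obtain ⟨e⟩ := case6 h4
      exact isCyclic_of_injective e.toMonoidHom e.injective
    · by_cases h6 : W.a₆ = 0
      · obtain ⟨e⟩ := case4 h6
        exact isCyclic_of_injective e.toMonoidHom e.injective
      · obtain ⟨e⟩ := case2 h4 h6
        exact isCyclic_of_injective e.toMonoidHom e.injective
  · intro h4
    obtain ⟨e⟩ := case6 h4
    rw [Nat.card_congr e.toEquiv]
    exact HasEnoughRootsOfUnity.natCard_rootsOfUnity k 6
  · intro h6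
    obtain ⟨e⟩ := case4 h6
    rw [Nat.card_congr e.toEquiv]
    exact HasEnoughRootsOfUnity.natCard_rootsOfUnity k 4
  · intro h4 h6
    obtain ⟨e⟩ := case2 h4 h6
    rw [Nat.card_congr e.toEquiv]
    exact HasEnoughRootsOfUnity.natCard_rootsOfUnity k 2

end Groth.Agent.S16244
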