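import Groth.Statements.S16253
import Groth.Agent.S8874
import Groth.Agent.H44.OmegaFitting
import Groth.Agent.H11.FittSmoothSch

set_option autoImplicit false
universe u
open CategoryTheory CategoryTheory.Limits AlgebraicGeometry TopologicalSpace
open SDiv

namespace Groth.Agent.S16253

/-- Let f : X ⟶ Y be locally of finite presentation and quasi-separated and p ≥ 0, and let J^p(X/Y) ⊆ X
be the closed subset cut out by the p-th Fitting ideal of the module of differentials Ω_{X/Y} (the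
p-th Jacobian locus). Then a point x of X lies outside J^p(X/Y) if and only if x has an open
neighbourhood U admitting a closed immersion over Y into a Y-scheme U' which is smooth of relative
dimension p over Y. (The published statement takes f of finite presentation and asks U' smooth over
Y with fibre dimension p at x; after shrinking U' this is smoothness of relative dimension p.
Quasi-separatedness of f is assumed because the module Ω_{X/Y} used here is defined for such f.) -/
theorem result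
    {X Y : Scheme.{u}} (f : X ⟶ Y) [LocallyOfFinitePresentation f] [QuasiSeparated f] (p : ℕ) (x : ↥X) :
    x ∉ (Fitt.sheafIdeal (Omega.sheaf f) p).support ↔
      ∃ (U : X.Opens) (U' : Scheme.{u}) (i : (U : Scheme.{u}) ⟶ U') (g : U' ⟶ Y),
        x ∈ U ∧ IsClosedImmersion i ∧ SmoothOfRelativeDimension p g ∧ i ≫ g = U.ι ≫ f := by
  have hS := Groth.Agent.S8874.result X (Omega.sheaf f) inferInstance inferInstance x p
  rw [← hS]
  haveI hlft : LocallyOfFiniteType f := inferInstance
  constructor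
  · rintro ⟨U, hxU, π, hπ⟩
    obtain ⟨_, ⟨V₁, hV₁, rfl⟩, hxV₁, -⟩ :=
      Y.isBasis_affineOpens.exists_subset_of_mem_open (Set.mem_univ (f x)) isOpen_univ
    obtain ⟨V, hV, hxV⟩ : ∃ V : Y.Opens, IsAffineOpen V ∧ f x ∈ V := ⟨V₁, hV₁, hxV₁⟩
    obtain ⟨_, ⟨U₁, hU₁, rfl⟩, hxU₁, hU₁le⟩ := X.isBasis_affineOpens.exists_subset_of_mem_open
      (show x ∈ U ⊓ f ⁻¹ᵁ V from ⟨hxU, hxV⟩) (U ⊓ f ⁻¹ᵁ V).2
    obtain ⟨U₀, hU₀, hxU₀, hU₀le⟩ : ∃ U₀ : X.Opens, IsAffineOpen U₀ ∧ x ∈ U₀ ∧
        U₀ ≤ U ⊓ f ⁻¹ᵁ V := ⟨U₁, hU₁, hxU₁, hU₁le⟩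
    have hU₀U : U₀ ≤ U := fun y hy ↦ (hU₀le hy).1
    have e₀ : U₀ ≤ f ⁻¹ᵁ V := fun y hy ↦ (hU₀le hy).2
    obtain ⟨y, hy⟩ := Groth.Agent.H44.exists_span_of_epi_freeMod (Omega.sheaf f) hU₀ hU₀U π
    letI := (f.appLE V U₀ e₀).hom.toAlgebra
    let Φ := Groth.Agent.H44.omegaSectionsEquiv f hU₀ hV e₀
    have hsp : Submodule.span Γ(X, U₀) (Set.range fun i => Φ (y i)) = ⊤ := by
      have h1 := congrArg (Submodule.map Φ.toLinearMap) hy
      rw [Submodule.map_span, Submodule.map_top, LinearEquiv.range, ← Set.range_comp] at h1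
      exact h1
    exact Groth.Agent.H11.FittSmoothSch.forward f hV hU₀ e₀ x hxU₀ p ⟨fun i => Φ (y i), hsp⟩
  · rintro ⟨U, U', i, g, hxU, hi, hg, w⟩
    haveI := hi
    haveI := hg
    exact Groth.Agent.H11.FittSmoothSch.backward f p x U U' i g hxU w


end Groth.Agent.S16253
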