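import Groth.Statements.S16259
import Mathlib
import Groth.Agent.H81.ConsecCoeff

set_option autoImplicit false
open W4c3wronskmg

namespace Groth.Agent.S16259


open Polynomial in
theorem coeff_lin_pow {k : Type*} [Field k] (c : k) (j v : ℕ) :
    ((1 + C c * X : k[X]) ^ j).coeff v = (j.choose v : k) * c ^ v := by
  have : (1 + C c * X : k[X]) ^ j = ((1 + X : k[X]) ^ j).comp (C c * X) := by
    simp
  rw [this, comp_C_mul_X_coeff, coeff_one_add_X_pow]

open Polynomial in
theorem coeff_formula {k : Type*} [Field k] (c : k) (i j n : ℕ) :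
    ((1 + X : k[X]) ^ i * (1 + C c * X) ^ j).coeff n =
      ∑ l ∈ Finset.range (n + 1), (i.choose l : k) * ((j.choose (n - l) : k) * c ^ (n - l)) := by
  rw [coeff_mul, Finset.Nat.sum_antidiagonal_eq_sum_range_succ_mk]
  refine Finset.sum_congr rfl (fun l _ => ?_)
  rw [coeff_one_add_X_pow, coeff_lin_pow]

open Polynomial in
/-- Over a field of characteristic zero, for positive integers `i, j` and a natural number `n`, the
polynomial `h(W) = ∑_{l=0}^{n} (i choose l) (j choose (n-l)) W^(n-l)`, the coefficient of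
`X^(i+j-n)` in `(X+1)^i (X+W)^j`, has no multiple root other than possibly `0` and `1`: every `c ≠
0, 1` has root multiplicity at most one. -/
theorem result
    (k : Type*) [Field k] [CharZero k] (i j n : ℕ) (hi : 0 < i) (hj : 0 < j) (c : k) (hc0 : c ≠ 0) (hc1 : c ≠ 1) :
    Polynomial.rootMultiplicity c
      (∑ l ∈ Finset.range (n + 1),
        Polynomial.C (((i.choose l) * (j.choose (n - l)) : ℕ) : k) * Polynomial.X ^ (n - l)) ≤ 1 := by
  classical
  obtain ⟨j', rfl⟩ : ∃ j', j = j' + 1 := ⟨j - 1, by omega⟩
  by_contra hlt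
  push_neg at hlt
  have hne : (∑ l ∈ Finset.range (n + 1),
        Polynomial.C (((i.choose l) * ((j' + 1).choose (n - l)) : ℕ) : k) * Polynomial.X ^ (n - l)) ≠ 0 := by
    intro h0
    rw [h0, rootMultiplicity_zero] at hlt
    omega
  obtain ⟨hr, hdr⟩ := (one_lt_rootMultiplicity_iff_isRoot hne).mp hlt
  -- evaluate
  have E1 : ((1 + X : k[X]) ^ i * (1 + C c * X) ^ (j' + 1)).coeff n = 0 := by
    rw [coeff_formula]
    rw [IsRoot.def, eval_finset_sum] at hr
    rw [← hr]
    refine Finset.sum_congr rfl (fun l _ => ?_)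
    simp only [eval_mul, eval_C, eval_pow, eval_X]
    push_cast
    ring
  -- n > i + j impossible since polynomial nonzero ; n = i + j impossible by leading coefficient
  have hn : n < i + (j' + 1) := by
    by_contra hge
    push_neg at hge
    rcases hge.lt_or_eq with hgt | heq
    · apply hne
      refine Finset.sum_eq_zero (fun l hl => ?_)
      rw [Finset.mem_range] at hl
      by_cases hli : i < l
      · rw [Nat.choose_eq_zero_of_lt hli]; simp
      · rw [Nat.choose_eq_zero_of_lt (show j' + 1 < n - l by omega)]; simp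
    · -- leading coefficient
      have hlc : ((1 + X : k[X]) ^ i * (1 + C c * X) ^ (j' + 1)).leadingCoeff = c ^ (j' + 1) := by
        rw [leadingCoeff_mul, leadingCoeff_pow, leadingCoeff_pow]
        have h1 : (1 + X : k[X]).leadingCoeff = 1 := by
          rw [add_comm, ← C_1]; exact leadingCoeff_X_add_C 1
        have h2 : (1 + C c * X : k[X]).leadingCoeff = c := by
          rw [add_comm, ← C_1]; exact leadingCoeff_linear hc0
        rw [h1, h2, one_pow, one_mul]
      have hnd : ((1 + X : k[X]) ^ i * (1 + C c * X) ^ (j' + 1)).natDegree = i + (j' + 1) := by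
        have h1 : (1 + X : k[X]).natDegree = 1 := by
          rw [add_comm, ← C_1]; exact natDegree_X_add_C 1
        have h2 : (1 + C c * X : k[X]).natDegree = 1 := by
          rw [add_comm, ← C_1]; exact natDegree_linear hc0
        have n1 : (1 + X : k[X]) ≠ 0 := by
          intro h; rw [h] at h1; simp at h1
        have n2 : (1 + C c * X : k[X]) ≠ 0 := by
          intro h; rw [h] at h2; simp at h2
        rw [natDegree_mul (pow_ne_zero _ n1) (pow_ne_zero _ n2), natDegree_pow, natDegree_pow,
          h1, h2, mul_one, mul_one]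
      rw [← heq, ← hnd, coeff_natDegree, hlc] at E1
      exact pow_ne_zero _ hc0 E1
  -- n ≥ 1
  obtain ⟨n', rfl⟩ : ∃ n', n = n' + 1 := by
    rcases n with _ | n'
    · exfalso
      rw [IsRoot.def] at hr
      simp at hr
    · exact ⟨n', rfl⟩
  -- derivative
  have E2 : ((1 + X : k[X]) ^ i * (1 + C c * X) ^ j').coeff n' = 0 := by
    have hj0 : ((j' + 1 : ℕ) : k) ≠ 0 := Nat.cast_ne_zero.mpr (Nat.succ_ne_zero _)
    have : ((j' + 1 : ℕ) : k) * ((1 + X : k[X]) ^ i * (1 + C c * X) ^ j').coeff n' = 0 := by
      rw [coeff_formula, Finset.mul_sum]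
      rw [IsRoot.def, derivative_sum, eval_finset_sum, Finset.sum_range_succ] at hdr
      simp only [Nat.sub_self, pow_zero, mul_one, derivative_C, eval_zero, add_zero] at hdr
      rw [← hdr]
      refine Finset.sum_congr rfl (fun l hl => ?_)
      rw [Finset.mem_range] at hl
      obtain ⟨v, hv⟩ : ∃ v, n' + 1 - l = v + 1 := ⟨n' - l, by omega⟩
      have hv' : n' - l = v := by omega
      rw [hv, hv']
      simp only [derivative_mul, derivative_C, zero_mul, zero_add, derivative_X_pow, eval_mul,
        eval_C, eval_pow, eval_X, Nat.add_sub_cancel]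
      have := Nat.add_one_mul_choose_eq j' v
      have hk : ((j' + 1 : ℕ) : k) * (j'.choose v : k) = ((j' + 1).choose (v + 1) : k) * ((v + 1 : ℕ) : k) := by
        exact_mod_cast congrArg (Nat.cast (R := k)) this
      push_cast at hk ⊢
      linear_combination (i.choose l : k) * c ^ v * hk
    exact (mul_eq_zero.mp this).resolve_left hj0
  -- H = H' * (1 + c X)
  have E3 : ((1 + X : k[X]) ^ i * (1 + C c * X) ^ j').coeff (n' + 1) = 0 := by
    have hmul : (1 + X : k[X]) ^ i * (1 + C c * X) ^ (j' + 1) =
        (1 + X : k[X]) ^ i * (1 + C c * X) ^ j' +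
          C c * (((1 + X : k[X]) ^ i * (1 + C c * X) ^ j') * X) := by
      rw [pow_succ]; ring
    rw [hmul, coeff_add, coeff_C_mul, coeff_mul_X, E2, mul_zero, add_zero] at E1
    exact E1
  exact Groth.Agent.H81.ConsecCoeff.no_consecutive_zero hc0 i j' n' (by omega) ⟨E2, E3⟩

end Groth.Agent.S16259
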