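import Groth.Statements.S16260
import Mathlib
import Groth.Agent.H81.WronskD

set_option autoImplicit false
open W4c3wronskmg

namespace Groth.Agent.S16260

open Polynomial in
/-- Let `k` be a field of characteristic zero, `a, b, i` positive integers with `i ≤ a + b`, and `j = a
+ b + 2 - i`. On the projective line with three marked points `A = 0`, `B = 1`, `C = ∞`, the
`(a+b+1)`-dimensional linear system `V = H⁰(ω((1+a)A)) ⊕ H⁰(ω((1+b)B)) ⊕ H⁰(ω(2C)) ⊆ H⁰(ω((1+a)A +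
(1+b)B + 2C)) ≅ H⁰(O(a+b+2))` becomes, in the affine coordinate, the span of the multiples of
`X^(a+1)` of degree at most `a+b`, the multiples of `(X-1)^(b+1)` of degree at most `a+b`, and
`X^(a+1) (X-1)^(b+1)`; and `V(-iP-jQ)` is the subspace of members divisible by `(X-p)^i (X-q)^j`.
Then there are no points `P = p`, `Q = q` other than `A, B, C` (that is, `p, q ∉ {0, 1}`; `p = q`
allowed) with both `dim V(-iP-jQ) ≥ 1` and `dim V(-(i-1)P-(j-1)Q) ≥ 2`. (The published statement is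
over the complex numbers.) -/
theorem result
    (k : Type*) [Field k] [CharZero k] (a b i j : ℕ) (ha : 0 < a) (hb : 0 < b) (hi : 0 < i) (hiab : i ≤ a + b)
    (hj : i + j = a + b + 2)
    (V : Submodule k (Polynomial k))
    (hV : V = ((Ideal.span {(X : Polynomial k) ^ (a + 1)}).restrictScalars k ⊓ Polynomial.degreeLE k ↑(a + b)) ⊔
      ((Ideal.span {((X : Polynomial k) - 1) ^ (b + 1)}).restrictScalars k ⊓ Polynomial.degreeLE k ↑(a + b)) ⊔
      Submodule.span k {(X : Polynomial k) ^ (a + 1) * (X - 1) ^ (b + 1)})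
    (p q : k) (hp0 : p ≠ 0) (hp1 : p ≠ 1) (hq0 : q ≠ 0) (hq1 : q ≠ 1) :
    ¬ (1 ≤ Module.finrank k ↥(V ⊓ (Ideal.span {(X - C p) ^ i * (X - C q) ^ j}).restrictScalars k) ∧
       2 ≤ Module.finrank k ↥(V ⊓ (Ideal.span {(X - C p) ^ (i - 1) * (X - C q) ^ (j - 1)}).restrictScalars k)) := by
  classical
  subst hV
  rintro ⟨h1, h2⟩
  have hVle := @Groth.Agent.H81.WronskD.V_le k _ _ a b
  -- first hypothesis: a nonzero member divisible by (X-p)^i (X-q)^j
  have hpos : 0 < Module.finrank k ↥((((Ideal.span {(X : k[X]) ^ (a + 1)}).restrictScalars k ⊓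
      degreeLE k ↑(a + b)) ⊔
      ((Ideal.span {((X : k[X]) - 1) ^ (b + 1)}).restrictScalars k ⊓ degreeLE k ↑(a + b)) ⊔
      Submodule.span k {(X : k[X]) ^ (a + 1) * (X - 1) ^ (b + 1)}) ⊓
      (Ideal.span {((X : k[X]) - C p) ^ i * (X - C q) ^ j}).restrictScalars k) := by omega
  haveI := Module.nontrivial_of_finrank_pos hpos
  obtain ⟨⟨G, hGV, hGJ⟩, hGne⟩ := exists_ne (0 : ↥((((Ideal.span {(X : k[X]) ^ (a + 1)}).restrictScalars k ⊓
      degreeLE k ↑(a + b)) ⊔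
      ((Ideal.span {((X : k[X]) - 1) ^ (b + 1)}).restrictScalars k ⊓ degreeLE k ↑(a + b)) ⊔
      Submodule.span k {(X : k[X]) ^ (a + 1) * (X - 1) ^ (b + 1)}) ⊓
      (Ideal.span {((X : k[X]) - C p) ^ i * (X - C q) ^ j}).restrictScalars k))
  have hG0 : G ≠ 0 := fun h => hGne (Subtype.ext h)
  rw [SetLike.mem_coe, Submodule.restrictScalars_mem, Ideal.mem_span_singleton] at hGJ
  obtain ⟨N₁, hN₁deg, hN₁⟩ := hVle hGV
  rw [SetLike.mem_coe, mem_degreeLE] at hN₁deg
  -- the polynomial M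
  have hMdeg : ((X : k[X]) ^ a * (X - 1) ^ b).degree ≤ ((a + b + 1 : ℕ) : WithBot ℕ) := by
    have hX1 : ((X : k[X]) - 1) = X - C 1 := by rw [C_1]
    have hdegb : (((X : k[X]) - 1) ^ b).degree = ((b : ℕ) : WithBot ℕ) := by
      rw [hX1, degree_pow, degree_X_sub_C]; simp
    rw [degree_mul, degree_X_pow, hdegb]
    have : a + b ≤ a + b + 1 := by omega
    exact_mod_cast this
  have hXp : ∀ r : k, ((X : k[X]) - C r) ≠ 0 := X_sub_C_ne_zero
  have degree_C_mul_le : ∀ (c : k) (P : k[X]), (C c * P).degree ≤ P.degree := fun c P => by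
    rw [← smul_eq_C_mul]; exact degree_smul_le c P
  have hdegpow : ∀ (r : k) (n : ℕ), (((X : k[X]) - C r) ^ n).degree = ((n : ℕ) : WithBot ℕ) := by
    intro r n
    rw [degree_pow, degree_X_sub_C]; simp
  by_cases hpq : p = q
  · -- p = q : (X-p)^(i+j) divides G
    subst hpq
    rw [← pow_add] at hGJ
    obtain ⟨γ, hγ⟩ := Groth.Agent.H81.WronskD.root_lemma a b hp0 hp1 N₁
    have hdvd := hγ (i + j) (hN₁ ▸ hGJ)
    have hz : N₁ - C γ * (X ^ a * (X - 1) ^ b) = 0 := by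
      refine eq_zero_of_dvd_of_degree_lt hdvd ?_
      rw [hdegpow]
      refine lt_of_le_of_lt ((degree_sub_le _ _).trans (max_le hN₁deg ?_)) ?_
      · exact (degree_C_mul_le _ _).trans hMdeg
      · have : a + b + 1 < i + j + 1 := by omega
        exact_mod_cast this
    apply hG0
    rw [← hN₁, sub_eq_zero.mp hz, Groth.Agent.H81.WronskD.D_C_mul, Groth.Agent.H81.WronskD.D_M,
      mul_zero]
  · -- p ≠ q
    have hi1 : i - 1 + 1 = i := by omega
    have hj1 : j - 1 + 1 = j := by omega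
    have hGspan : Module.finrank k ↥(Submodule.span k {G}) = 1 := finrank_span_singleton hG0
    -- second member
    have hex : ∃ G₂, G₂ ∈ ((((Ideal.span {(X : k[X]) ^ (a + 1)}).restrictScalars k ⊓
        degreeLE k ↑(a + b)) ⊔
        ((Ideal.span {((X : k[X]) - 1) ^ (b + 1)}).restrictScalars k ⊓ degreeLE k ↑(a + b)) ⊔
        Submodule.span k {(X : k[X]) ^ (a + 1) * (X - 1) ^ (b + 1)}) ⊓
        (Ideal.span {((X : k[X]) - C p) ^ (i - 1) * (X - C q) ^ (j - 1)}).restrictScalars k) ∧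
        G₂ ∉ Submodule.span k {G} := by
      by_contra hcon
      push_neg at hcon
      have hle : ((((Ideal.span {(X : k[X]) ^ (a + 1)}).restrictScalars k ⊓
        degreeLE k ↑(a + b)) ⊔
        ((Ideal.span {((X : k[X]) - 1) ^ (b + 1)}).restrictScalars k ⊓ degreeLE k ↑(a + b)) ⊔
        Submodule.span k {(X : k[X]) ^ (a + 1) * (X - 1) ^ (b + 1)}) ⊓
        (Ideal.span {((X : k[X]) - C p) ^ (i - 1) * (X - C q) ^ (j - 1)}).restrictScalars k) ≤
        Submodule.span k {G} := fun x hx => hcon x hx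
      have := Submodule.finrank_mono hle
      omega
    obtain ⟨G₂, ⟨hG₂V, hG₂J⟩, hG₂span⟩ := hex
    rw [SetLike.mem_coe, Submodule.restrictScalars_mem, Ideal.mem_span_singleton] at hG₂J
    obtain ⟨N₂, hN₂deg, hN₂⟩ := hVle hG₂V
    rw [SetLike.mem_coe, mem_degreeLE] at hN₂deg
    obtain ⟨γ₁, hγ₁⟩ := Groth.Agent.H81.WronskD.root_lemma a b hp0 hp1 N₁
    obtain ⟨γ₂, hγ₂⟩ := Groth.Agent.H81.WronskD.root_lemma a b hp0 hp1 N₂
    obtain ⟨δ₁, hδ₁⟩ := Groth.Agent.H81.WronskD.root_lemma a b hq0 hq1 N₁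
    obtain ⟨δ₂, hδ₂⟩ := Groth.Agent.H81.WronskD.root_lemma a b hq0 hq1 N₂
    have e1 : (X - C p) ^ i ∣ N₁ - C γ₁ * (X ^ a * (X - 1) ^ b) := by
      have := hγ₁ (i - 1) (hN₁ ▸ ((dvd_mul_right _ _).trans
        ((mul_dvd_mul (pow_dvd_pow _ (Nat.sub_le i 1)) (pow_dvd_pow _ (Nat.sub_le j 1))).trans hGJ)))
      rwa [hi1] at this
    have e2 : (X - C p) ^ i ∣ N₂ - C γ₂ * (X ^ a * (X - 1) ^ b) := by
      have := hγ₂ (i - 1) (hN₂ ▸ ((dvd_mul_right _ _).trans hG₂J))
      rwa [hi1] at this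
    have f1 : (X - C q) ^ j ∣ N₁ - C δ₁ * (X ^ a * (X - 1) ^ b) := by
      have := hδ₁ (j - 1) (hN₁ ▸ ((dvd_mul_left _ _).trans
        ((mul_dvd_mul (pow_dvd_pow _ (Nat.sub_le i 1)) (pow_dvd_pow _ (Nat.sub_le j 1))).trans hGJ)))
      rwa [hj1] at this
    have f2 : (X - C q) ^ j ∣ N₂ - C δ₂ * (X ^ a * (X - 1) ^ b) := by
      have := hδ₂ (j - 1) (hN₂ ▸ ((dvd_mul_left _ _).trans hG₂J))
      rwa [hj1] at this
    -- choose (α, β) ≠ 0 with α (γ₁ - δ₁) + β (γ₂ - δ₂) = 0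
    obtain ⟨α, β, hαβ, hrel⟩ : ∃ α β : k, (α ≠ 0 ∨ β ≠ 0) ∧ α * (γ₁ - δ₁) + β * (γ₂ - δ₂) = 0 := by
      by_cases h0 : γ₁ - δ₁ = 0
      · exact ⟨1, 0, Or.inl one_ne_zero, by rw [h0]; ring⟩
      · exact ⟨-(γ₂ - δ₂), γ₁ - δ₁, Or.inr h0, by ring⟩
    have hcop : IsCoprime (((X : k[X]) - C p) ^ i) ((X - C q) ^ j) :=
      (isCoprime_X_sub_C_of_isUnit_sub (sub_ne_zero.mpr hpq).isUnit).pow
    have hNz : C α * N₁ + C β * N₂ - C (α * γ₁ + β * γ₂) * (X ^ a * (X - 1) ^ b) = 0 := by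
      refine eq_zero_of_dvd_of_degree_lt (hcop.mul_dvd ?_ ?_) ?_
      · have : C α * N₁ + C β * N₂ - C (α * γ₁ + β * γ₂) * (X ^ a * (X - 1) ^ b) =
            C α * (N₁ - C γ₁ * (X ^ a * (X - 1) ^ b)) + C β * (N₂ - C γ₂ * (X ^ a * (X - 1) ^ b)) := by
          simp only [C_add, C_mul]; ring
        rw [this]
        exact dvd_add (Dvd.dvd.mul_left e1 _) (Dvd.dvd.mul_left e2 _)
      · have hrel' : α * γ₁ + β * γ₂ = α * δ₁ + β * δ₂ := by linear_combination hrel
        have : C α * N₁ + C β * N₂ - C (α * γ₁ + β * γ₂) * (X ^ a * (X - 1) ^ b) =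
            C α * (N₁ - C δ₁ * (X ^ a * (X - 1) ^ b)) + C β * (N₂ - C δ₂ * (X ^ a * (X - 1) ^ b)) := by
          rw [hrel']; simp only [C_add, C_mul]; ring
        rw [this]
        exact dvd_add (Dvd.dvd.mul_left f1 _) (Dvd.dvd.mul_left f2 _)
      · rw [degree_mul, hdegpow, hdegpow]
        refine lt_of_le_of_lt ((degree_sub_le _ _).trans (max_le
          ((degree_add_le _ _).trans (max_le ((degree_C_mul_le _ _).trans hN₁deg)
            ((degree_C_mul_le _ _).trans hN₂deg))) ((degree_C_mul_le _ _).trans hMdeg))) ?_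
        have : a + b + 1 < i + j := by omega
        exact_mod_cast this
    have hDz := congrArg (Groth.Agent.H81.WronskD.D a b) hNz
    rw [map_sub, map_add, Groth.Agent.H81.WronskD.D_C_mul, Groth.Agent.H81.WronskD.D_C_mul,
      Groth.Agent.H81.WronskD.D_C_mul, Groth.Agent.H81.WronskD.D_M, mul_zero, sub_zero, map_zero,
      hN₁, hN₂] at hDz
    by_cases hβ : β = 0
    · have hα : α ≠ 0 := hαβ.resolve_right (not_not.mpr hβ)
      rw [hβ, C_0, zero_mul, add_zero] at hDz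
      rcases mul_eq_zero.mp hDz with h | h
      · exact hα (C_eq_zero.mp h)
      · exact hG0 h
    · apply hG₂span
      rw [Submodule.mem_span_singleton]
      refine ⟨-(α / β), ?_⟩
      have hCβ : (C β : k[X]) ≠ 0 := fun h => hβ (C_eq_zero.mp h)
      apply mul_left_cancel₀ hCβ
      rw [smul_eq_C_mul, ← mul_assoc, ← C_mul]
      have : β * -(α / β) = -α := by field_simp
      rw [this, C_neg]
      linear_combination -hDz

end Groth.Agent.S16260
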