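import Groth.Statements.S16261
import Mathlib
import Groth.Agent.H81.WronskD2

set_option autoImplicit false
open W4c3wronskmg

namespace Groth.Agent.S16261

open Polynomial in
/-- With `k` of characteristic zero, `a, b, i` positive, `i ≤ a + b`, `j = a + b + 2 - i` and `V ⊆ k[X]`
the linear system of the first assertion (marked points `A = 0`, `B = 1`, `C = ∞`; `V` spanned by
the multiples of `X^(a+1)` of degree at most `a+b`, the multiples of `(X-1)^(b+1)` of degree at most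
`a+b`, and `X^(a+1) (X-1)^(b+1)`): if the point `P` is put at `A` and `Q = q` is any point other
than `C`, and both `dim V(-iA-jQ) ≥ 1` and `dim V(-(i-1)A-(j-1)Q) ≥ 2` hold, then `i ≥ a + 1`. (The
published statement is over the complex numbers.) -/
theorem result
    (k : Type*) [Field k] [CharZero k] (a b i j : ℕ) (ha : 0 < a) (hb : 0 < b) (hi : 0 < i) (hiab : i ≤ a + b)
    (hj : i + j = a + b + 2)
    (V : Submodule k (Polynomial k))
    (hV : V = ((Ideal.span {(X : Polynomial k) ^ (a + 1)}).restrictScalars k ⊓ Polynomial.degreeLE k ↑(a + b)) ⊔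
      ((Ideal.span {((X : Polynomial k) - 1) ^ (b + 1)}).restrictScalars k ⊓ Polynomial.degreeLE k ↑(a + b)) ⊔
      Submodule.span k {(X : Polynomial k) ^ (a + 1) * (X - 1) ^ (b + 1)})
    (q : k)
    (h1 : 1 ≤ Module.finrank k ↥(V ⊓ (Ideal.span {(X : Polynomial k) ^ i * (X - C q) ^ j}).restrictScalars k))
    (h2 : 2 ≤ Module.finrank k ↥(V ⊓ (Ideal.span {(X : Polynomial k) ^ (i - 1) * (X - C q) ^ (j - 1)}).restrictScalars k)) :
    a + 1 ≤ i := by
  classical
  subst hV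
  by_contra hlt
  have hia : i ≤ a := by omega
  have hVle := @Groth.Agent.H81.WronskD.V_le k _ _ a b
  have hpos : 0 < Module.finrank k ↥((((Ideal.span {(X : k[X]) ^ (a + 1)}).restrictScalars k ⊓
      degreeLE k ↑(a + b)) ⊔
      ((Ideal.span {((X : k[X]) - 1) ^ (b + 1)}).restrictScalars k ⊓ degreeLE k ↑(a + b)) ⊔
      Submodule.span k {(X : k[X]) ^ (a + 1) * (X - 1) ^ (b + 1)}) ⊓
      (Ideal.span {(X : k[X]) ^ i * (X - C q) ^ j}).restrictScalars k) := by omega
  haveI := Module.nontrivial_of_finrank_pos hpos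
  obtain ⟨⟨G, hGV, hGJ⟩, hGne⟩ := exists_ne (0 : ↥((((Ideal.span {(X : k[X]) ^ (a + 1)}).restrictScalars k ⊓
      degreeLE k ↑(a + b)) ⊔
      ((Ideal.span {((X : k[X]) - 1) ^ (b + 1)}).restrictScalars k ⊓ degreeLE k ↑(a + b)) ⊔
      Submodule.span k {(X : k[X]) ^ (a + 1) * (X - 1) ^ (b + 1)}) ⊓
      (Ideal.span {(X : k[X]) ^ i * (X - C q) ^ j}).restrictScalars k))
  have hG0 : G ≠ 0 := fun h => hGne (Subtype.ext h)
  rw [SetLike.mem_coe, Submodule.restrictScalars_mem, Ideal.mem_span_singleton] at hGJ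
  by_cases hq0 : q = 0
  · subst hq0
    rw [C_0, sub_zero, ← pow_add, hj] at hGJ
    exact hG0 (Groth.Agent.H81.WronskD.eq_zero_of_X_pow_dvd a b hGV hGJ)
  by_cases hq1 : q = 1
  · subst hq1
    rw [C_1] at hGJ
    exact hG0 (Groth.Agent.H81.WronskD.eq_zero_of_X_pow_mul_X_sub_one_pow_dvd a b i j hia hj hGV hGJ)
  -- generic q
  obtain ⟨N₁, hN₁deg, hN₁⟩ := hVle hGV
  rw [SetLike.mem_coe, mem_degreeLE] at hN₁deg
  have degree_C_mul_le : ∀ (c : k) (P : k[X]), (C c * P).degree ≤ P.degree := fun c P => by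
    rw [← smul_eq_C_mul]; exact degree_smul_le c P
  have hMdeg : ((X : k[X]) ^ a * (X - 1) ^ b).degree ≤ ((a + b + 1 : ℕ) : WithBot ℕ) := by
    have hX1 : ((X : k[X]) - 1) = X - C 1 := by rw [C_1]
    have hdegb : (((X : k[X]) - 1) ^ b).degree = ((b : ℕ) : WithBot ℕ) := by
      rw [hX1, degree_pow, degree_X_sub_C]; simp
    rw [degree_mul, degree_X_pow, hdegb]
    have : a + b ≤ a + b + 1 := by omega
    exact_mod_cast this
  have hdegpow : ∀ (r : k) (n : ℕ), (((X : k[X]) - C r) ^ n).degree = ((n : ℕ) : WithBot ℕ) := by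
    intro r n
    rw [degree_pow, degree_X_sub_C]; simp
  have hXi : (X : k[X]) ^ i ∣ N₁ :=
    Groth.Agent.H81.WronskD.root_lemma_zero a b N₁ i hia (hN₁ ▸ ((dvd_mul_right _ _).trans hGJ))
  obtain ⟨γ, hγ⟩ := Groth.Agent.H81.WronskD.root_lemma a b hq0 hq1 N₁
  have hq := hγ j (hN₁ ▸ ((dvd_mul_left _ _).trans hGJ))
  have hXi' : (X : k[X]) ^ i ∣ N₁ - C γ * (X ^ a * (X - 1) ^ b) := by
    refine dvd_sub hXi (Dvd.dvd.mul_left ((pow_dvd_pow _ hia).trans (dvd_mul_right _ _)) _)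
  have hcop : IsCoprime ((X : k[X]) ^ i) ((X - C q) ^ (j + 1)) := by
    have h : IsCoprime ((X : k[X]) - C 0) (X - C q) :=
      isCoprime_X_sub_C_of_isUnit_sub (sub_ne_zero.mpr (Ne.symm hq0)).isUnit
    rw [C_0, sub_zero] at h
    exact h.pow
  have hz : N₁ - C γ * (X ^ a * (X - 1) ^ b) = 0 := by
    refine eq_zero_of_dvd_of_degree_lt (hcop.mul_dvd hXi' hq) ?_
    rw [degree_mul, degree_X_pow, hdegpow]
    refine lt_of_le_of_lt ((degree_sub_le _ _).trans (max_le hN₁deg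
      ((degree_C_mul_le _ _).trans hMdeg))) ?_
    have : a + b + 1 < i + (j + 1) := by omega
    exact_mod_cast this
  apply hG0
  rw [← hN₁, sub_eq_zero.mp hz, Groth.Agent.H81.WronskD.D_C_mul, Groth.Agent.H81.WronskD.D_M,
    mul_zero]

end Groth.Agent.S16261
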