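import Groth.Statements.S16262
import Mathlib
import Groth.Agent.H81.Wronsk
import Groth.Agent.H81.ConsecCoeff

set_option autoImplicit false
open W4c3wronskmg

namespace Groth.Agent.S16262

open Polynomial in
/-- Let `k` be a field of characteristic zero and `a, b, i` positive integers with `i < a + b`. On the
projective line with `A = 0`, `B = ∞`, `P = -1`, the system `V_{a,b} = H⁰(ω((1+a)A)) ⊕ H⁰(ω((1+b)B))
⊆ H⁰(O(a+b))` is the space of polynomials of degree at most `a+b` with vanishing coefficient of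
`X^a`, and `V = V_{a,b}(-iP)` (divided by `(X+1)^i`) is the space of `G` of degree at most `a+b-i`
such that the coefficient of `X^a` in `(X+1)^i G` vanishes; it is a linear system of dimension and
degree `a+b-i`. Then no point of the projective line other than `A` and `B` is a special
ramification point of `V` (a point of weight at least two); for such a system a point `q` of the
affine line is special exactly when two independent members are divisible by `(X-q)^(a+b-i-1)`, so
the statement is that this fails for every `q ≠ 0`. (The published statement does not except `A` and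
`B`, but `A` has weight `max(b-i, 0)` in `V`, which is `2` for `a = 1, b = 3, i = 1`: there `X^3`
and `X^2` both lie in `V`. It is stated over the complex numbers.) -/
theorem result
    (k : Type*) [Field k] [CharZero k] (a b i : ℕ) (ha : 0 < a) (hb : 0 < b) (hi : 0 < i) (hiab : i < a + b)
    (V : Submodule k (Polynomial k))
    (hV : V = Polynomial.degreeLE k ↑(a + b - i) ⊓
      LinearMap.ker ((Polynomial.lcoeff k a).comp (LinearMap.mulLeft k (((X : Polynomial k) + 1) ^ i))))
    (q : k) (hq : q ≠ 0) :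
    Module.finrank k ↥(V ⊓ (Ideal.span {(X - C q) ^ (a + b - i - 1)}).restrictScalars k) ≤ 1 := by
  subst hV
  obtain ⟨a', rfl⟩ : ∃ a', a = a' + 1 := ⟨a - 1, by omega⟩
  obtain ⟨n, hn⟩ : ∃ n, a' + 1 + b - i = n + 1 := ⟨a' + 1 + b - i - 1, by omega⟩
  rw [hn, Nat.add_sub_cancel]
  have hP : ((X : k[X]) - C q) ^ n ≠ 0 := pow_ne_zero _ (X_sub_C_ne_zero q)
  have hd : (((X : k[X]) - C q) ^ n).natDegree = n := by
    rw [natDegree_pow, natDegree_X_sub_C, mul_one]
  have hle : (degreeLE k ↑(n + 1) ⊓
      LinearMap.ker ((lcoeff k (a' + 1)).comp (LinearMap.mulLeft k (((X : k[X]) + 1) ^ i)))) ⊓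
      (Ideal.span {((X : k[X]) - C q) ^ n}).restrictScalars k ≤
      LinearMap.range (Groth.Agent.H81.Wronsk.mulT (((X : k[X]) - C q) ^ n) 2) := by
    rintro G ⟨⟨hG1, _⟩, hG2⟩
    rw [SetLike.mem_coe, Submodule.restrictScalars_mem, Ideal.mem_span_singleton] at hG2
    rw [SetLike.mem_coe, mem_degreeLE] at hG1
    exact Groth.Agent.H81.Wronsk.mem_range_mulT hP hd hG2 hG1
  have hlt : (degreeLE k ↑(n + 1) ⊓
      LinearMap.ker ((lcoeff k (a' + 1)).comp (LinearMap.mulLeft k (((X : k[X]) + 1) ^ i)))) ⊓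
      (Ideal.span {((X : k[X]) - C q) ^ n}).restrictScalars k <
      LinearMap.range (Groth.Agent.H81.Wronsk.mulT (((X : k[X]) - C q) ^ n) 2) := by
    refine lt_of_le_of_ne hle ?_
    intro heq
    have h1 : ((X : k[X]) - C q) ^ n * 1 ∈
        LinearMap.range (Groth.Agent.H81.Wronsk.mulT (((X : k[X]) - C q) ^ n) 2) :=
      ⟨⟨1, by rw [mem_degreeLT, degree_one]; exact_mod_cast Nat.zero_lt_two⟩,
        Groth.Agent.H81.Wronsk.mulT_apply _ _ _⟩
    have h2 : ((X : k[X]) - C q) ^ n * X ∈
        LinearMap.range (Groth.Agent.H81.Wronsk.mulT (((X : k[X]) - C q) ^ n) 2) :=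
      ⟨⟨X, by rw [mem_degreeLT, degree_X]; exact_mod_cast Nat.one_lt_two⟩,
        Groth.Agent.H81.Wronsk.mulT_apply _ _ _⟩
    rw [← heq] at h1 h2
    have e1 := h1.1.2
    have e2 := h2.1.2
    rw [SetLike.mem_coe, LinearMap.mem_ker, LinearMap.comp_apply, LinearMap.mulLeft_apply,
      lcoeff_apply] at e1 e2
    have hfac : (X : k[X]) - C q = C (-q) * (1 + C (-q⁻¹) * X) := by
      rw [mul_add, mul_one, ← mul_assoc, ← C_mul]
      have : -q * -q⁻¹ = 1 := by field_simp
      rw [this, C_1, one_mul, C_neg]; ring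
    have hH : ((X : k[X]) + 1) ^ i * (X - C q) ^ n =
        C ((-q) ^ n) * ((1 + X) ^ i * (1 + C (-q⁻¹) * X) ^ n) := by
      rw [hfac, mul_pow, ← C_pow]; ring
    have hκ : (-q) ^ n ≠ 0 := pow_ne_zero _ (neg_ne_zero.mpr hq)
    rw [mul_one, hH, coeff_C_mul] at e1
    rw [← mul_assoc, hH, coeff_mul_X, coeff_C_mul] at e2
    have e1' := (mul_eq_zero.mp e1).resolve_left hκ
    have e2' := (mul_eq_zero.mp e2).resolve_left hκ
    have hc : -q⁻¹ ≠ 0 := neg_ne_zero.mpr (inv_ne_zero hq)
    exact Groth.Agent.H81.ConsecCoeff.no_consecutive_zero hc i n a' (by omega) ⟨e2', e1'⟩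
  have := Submodule.finrank_lt_finrank_of_lt hlt
  rw [Groth.Agent.H81.Wronsk.finrank_range_mulT hP] at this
  omega

end Groth.Agent.S16262
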