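import Groth.Statements.S16263
import Mathlib
import Groth.Agent.H81.Wronsk

set_option autoImplicit false
open W4c3wronskmg

namespace Groth.Agent.S16263

open Polynomial in
/-- Let `k` be a field of characteristic zero and `a` a positive integer. On the projective line with `A
= 0`, `B = -1`, `C = ∞`, the `(a+1)`-dimensional system `V = H⁰(ω((1+a)C)) ⊕ H⁰(ω(A+B)) ⊆
H⁰(ω((1+a)C + A + B)) ≅ H⁰(O(a+1))` is, in the affine coordinate, the space of polynomials `c + X
(X+1) F` with `c` a constant and `deg F ≤ a - 1`. Then `V` has no special ramification point (no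
point of weight at least two): since the members have degree at most `a + 1`, this says that for
every point `p` of the affine line at most a one-dimensional subspace of `V` is divisible by
`(X-p)^a`, and at `C` that at most a one-dimensional subspace has degree at most one (degree less
than two). (The published statement carries two further positive integers `i, j` with `i + j = a -
1`, used only in its second assertion, and is over the complex numbers.) -/
theorem result
    (k : Type*) [Field k] [CharZero k] (a : ℕ) (ha : 0 < a)
    (V : Submodule k (Polynomial k))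
    (hV : V = Submodule.span k {(1 : Polynomial k)} ⊔
      ((Ideal.span {(X : Polynomial k) * (X + 1)}).restrictScalars k ⊓ Polynomial.degreeLE k ↑(a + 1))) :
    (∀ p : k, Module.finrank k ↥(V ⊓ (Ideal.span {(X - C p) ^ a}).restrictScalars k) ≤ 1) ∧
      Module.finrank k ↥(V ⊓ Polynomial.degreeLT k 2) ≤ 1 := by
  subst hV
  have hmem := @Groth.Agent.H81.Wronsk.mem_V_imp k _ a
  constructor
  · intro p
    have hP : ((X : k[X]) - C p) ^ a ≠ 0 := pow_ne_zero _ (X_sub_C_ne_zero p)
    have hd : (((X : k[X]) - C p) ^ a).natDegree = a := by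
      rw [natDegree_pow, natDegree_X_sub_C, mul_one]
    have hle : (Submodule.span k {(1 : k[X])} ⊔
        ((Ideal.span {(X : k[X]) * (X + 1)}).restrictScalars k ⊓ degreeLE k ↑(a + 1))) ⊓
        (Ideal.span {((X : k[X]) - C p) ^ a}).restrictScalars k ≤
        LinearMap.range (Groth.Agent.H81.Wronsk.mulT (((X : k[X]) - C p) ^ a) 2) := by
      rintro G ⟨hG1, hG2⟩
      rw [SetLike.mem_coe, Submodule.restrictScalars_mem, Ideal.mem_span_singleton] at hG2
      exact Groth.Agent.H81.Wronsk.mem_range_mulT hP hd hG2 (hmem hG1).1
    have hlt : (Submodule.span k {(1 : k[X])} ⊔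
        ((Ideal.span {(X : k[X]) * (X + 1)}).restrictScalars k ⊓ degreeLE k ↑(a + 1))) ⊓
        (Ideal.span {((X : k[X]) - C p) ^ a}).restrictScalars k <
        LinearMap.range (Groth.Agent.H81.Wronsk.mulT (((X : k[X]) - C p) ^ a) 2) := by
      refine lt_of_le_of_ne hle ?_
      intro heq
      by_cases hp0 : p = 0
      · -- element X^a * 1
        have h1 : ((X : k[X]) - C p) ^ a * 1 ∈
            LinearMap.range (Groth.Agent.H81.Wronsk.mulT (((X : k[X]) - C p) ^ a) 2) :=
          ⟨⟨1, by rw [mem_degreeLT, degree_one]; exact_mod_cast Nat.zero_lt_two⟩,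
            Groth.Agent.H81.Wronsk.mulT_apply _ _ _⟩
        rw [← heq] at h1
        have h2 := (hmem h1.1).2
        subst hp0
        simp only [mul_one, map_zero, sub_zero, eval_pow, eval_X] at h2
        rw [zero_pow ha.ne'] at h2
        exact pow_ne_zero a (neg_ne_zero.mpr one_ne_zero) h2.symm
      · have h1 : ((X : k[X]) - C p) ^ a * (X + 1) ∈
            LinearMap.range (Groth.Agent.H81.Wronsk.mulT (((X : k[X]) - C p) ^ a) 2) :=
          ⟨⟨X + 1, by
            rw [mem_degreeLT]
            have : ((X : k[X]) + 1).degree = 1 := by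
              rw [← C_1]; exact degree_X_add_C 1
            rw [this]; exact_mod_cast Nat.one_lt_two⟩,
            Groth.Agent.H81.Wronsk.mulT_apply _ _ _⟩
        rw [← heq] at h1
        have h2 := (hmem h1.1).2
        simp only [eval_mul, eval_pow, eval_sub, eval_X, eval_C, eval_add, eval_one,
          neg_add_cancel, mul_zero, zero_sub, zero_add, mul_one] at h2
        exact pow_ne_zero a (neg_ne_zero.mpr hp0) h2
    have := Submodule.finrank_lt_finrank_of_lt hlt
    rw [Groth.Agent.H81.Wronsk.finrank_range_mulT hP] at this
    omega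
  · have hle : (Submodule.span k {(1 : k[X])} ⊔
        ((Ideal.span {(X : k[X]) * (X + 1)}).restrictScalars k ⊓ degreeLE k ↑(a + 1))) ⊓
        degreeLT k 2 ≤ degreeLT k 2 := inf_le_right
    have hlt : (Submodule.span k {(1 : k[X])} ⊔
        ((Ideal.span {(X : k[X]) * (X + 1)}).restrictScalars k ⊓ degreeLE k ↑(a + 1))) ⊓
        degreeLT k 2 < degreeLT k 2 := by
      refine lt_of_le_of_ne hle ?_
      intro heq
      have h1 : (X : k[X]) ∈ degreeLT k 2 := by
        rw [mem_degreeLT, degree_X]; exact_mod_cast Nat.one_lt_two
      rw [← heq] at h1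
      have h2 := (hmem h1.1).2
      simp only [eval_X] at h2
      exact one_ne_zero (neg_eq_zero.mp h2.symm)
    have := Submodule.finrank_lt_finrank_of_lt hlt
    rw [Groth.Agent.H81.Wronsk.finrank_degreeLT] at this
    omega

end Groth.Agent.S16263
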