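import Groth.Statements.S16264
import Mathlib
import Groth.Agent.H81.Wronsk

set_option autoImplicit false
open W4c3wronskmg

namespace Groth.Agent.S16264

open Polynomial in
/-- Let `k` be a field of characteristic zero and `a, i, j` positive integers with `i + j = a - 1`. With
`A = 0`, `B = -1`, `C = ∞` on the projective line and `V` the `(a+1)`-dimensional system of
polynomials `c + X (X+1) F`, `deg F ≤ a - 1` (that is, `H⁰(ω((1+a)C)) ⊕ H⁰(ω(A+B)) ⊆ H⁰(O(a+1))`),
the pairs of points `(P, Q) = (p, q)` of the affine line with `dim V(-iP-jQ) ≥ 3`, i.e. with at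
least a three-dimensional subspace of `V` divisible by `(X-p)^i (X-q)^j`, are exactly `(A, B)` and
`(B, A)`. (Here `P, Q` range over the points other than `C`; when one of them is `C` the dimension
is at most two for degree reasons. The published statement is over the complex numbers.) -/
theorem result
    (k : Type*) [Field k] [CharZero k] (a i j : ℕ) (hi : 0 < i) (hj : 0 < j) (hij : i + j + 1 = a)
    (V : Submodule k (Polynomial k))
    (hV : V = Submodule.span k {(1 : Polynomial k)} ⊔
      ((Ideal.span {(X : Polynomial k) * (X + 1)}).restrictScalars k ⊓ Polynomial.degreeLE k ↑(a + 1)))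
    (p q : k) :
    3 ≤ Module.finrank k ↥(V ⊓ (Ideal.span {(X - C p) ^ i * (X - C q) ^ j}).restrictScalars k) ↔
      (p = 0 ∧ q = -1) ∨ (p = -1 ∧ q = 0) := by
  subst hV
  have hmem := @Groth.Agent.H81.Wronsk.mem_V_imp k _ a
  have hXp : ∀ r : k, ((X : k[X]) - C r) ≠ 0 := X_sub_C_ne_zero
  have hP : ((X : k[X]) - C p) ^ i * (X - C q) ^ j ≠ 0 :=
    mul_ne_zero (pow_ne_zero _ (hXp p)) (pow_ne_zero _ (hXp q))
  have hd : (((X : k[X]) - C p) ^ i * (X - C q) ^ j).natDegree = i + j := by
    rw [natDegree_mul (pow_ne_zero _ (hXp p)) (pow_ne_zero _ (hXp q)), natDegree_pow,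
      natDegree_pow, natDegree_X_sub_C, natDegree_X_sub_C, mul_one, mul_one]
  have hle : (Submodule.span k {(1 : k[X])} ⊔
      ((Ideal.span {(X : k[X]) * (X + 1)}).restrictScalars k ⊓ degreeLE k ↑(a + 1))) ⊓
      (Ideal.span {((X : k[X]) - C p) ^ i * (X - C q) ^ j}).restrictScalars k ≤
      LinearMap.range (Groth.Agent.H81.Wronsk.mulT (((X : k[X]) - C p) ^ i * (X - C q) ^ j) 3) := by
    rintro G ⟨hG1, hG2⟩
    rw [SetLike.mem_coe, Submodule.restrictScalars_mem, Ideal.mem_span_singleton] at hG2
    refine Groth.Agent.H81.Wronsk.mem_range_mulT (m := 2) hP hd hG2 ?_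
    have := (hmem hG1).1
    rwa [show a + 1 = i + j + 2 by omega] at this
  have hdegX1 : ((X : k[X]) + 1).degree = 1 := by
    rw [← C_1]; exact degree_X_add_C 1
  constructor
  · intro h3
    have heq := Submodule.eq_of_le_of_finrank_le hle
      (by rw [Groth.Agent.H81.Wronsk.finrank_range_mulT hP]; exact h3)
    -- test element P * (X + 1)
    have h1 : (((X : k[X]) - C p) ^ i * (X - C q) ^ j) * (X + 1) ∈
        LinearMap.range (Groth.Agent.H81.Wronsk.mulT (((X : k[X]) - C p) ^ i * (X - C q) ^ j) 3) :=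
      ⟨⟨X + 1, by
        rw [mem_degreeLT, hdegX1]; exact_mod_cast (by norm_num : (1 : ℕ) < 3)⟩,
        Groth.Agent.H81.Wronsk.mulT_apply _ _ _⟩
    have h2 : (((X : k[X]) - C p) ^ i * (X - C q) ^ j) * X ∈
        LinearMap.range (Groth.Agent.H81.Wronsk.mulT (((X : k[X]) - C p) ^ i * (X - C q) ^ j) 3) :=
      ⟨⟨X, by
        rw [mem_degreeLT, degree_X]; exact_mod_cast (by norm_num : (1 : ℕ) < 3)⟩,
        Groth.Agent.H81.Wronsk.mulT_apply _ _ _⟩
    rw [← heq] at h1 h2
    have e1 := (hmem h1.1).2
    have e2 := (hmem h2.1).2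
    simp only [eval_mul, eval_pow, eval_sub, eval_X, eval_C, eval_add, eval_one,
      neg_add_cancel, mul_zero, zero_sub, zero_add, mul_one] at e1 e2
    -- e1 : (-p)^i * (-q)^j = 0 ; e2 : 0 = (-1-p)^i * (-1-q)^j * (-1)
    have e1' : p = 0 ∨ q = 0 := by
      rcases mul_eq_zero.mp e1 with h | h
      · left; exact neg_eq_zero.mp (pow_eq_zero_iff hi.ne' |>.mp h)
      · right; exact neg_eq_zero.mp (pow_eq_zero_iff hj.ne' |>.mp h)
    have e2' : p = -1 ∨ q = -1 := by
      have e2'' : (-1 - p) ^ i * (-1 - q) ^ j = 0 := by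
        rcases mul_eq_zero.mp e2.symm with h | h
        · exact h
        · exact absurd h (neg_ne_zero.mpr one_ne_zero)
      rcases mul_eq_zero.mp e2'' with h | h
      · left
        have := pow_eq_zero_iff hi.ne' |>.mp h
        linear_combination -this
      · right
        have := pow_eq_zero_iff hj.ne' |>.mp h
        linear_combination -this
    have h01 : (0 : k) ≠ -1 := fun h => one_ne_zero (neg_eq_zero.mp h.symm)
    rcases e1' with hp | hq
    · rcases e2' with hp' | hq'
      · exact absurd (hp.symm.trans hp') h01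
      · exact Or.inl ⟨hp, hq'⟩
    · rcases e2' with hp' | hq'
      · exact Or.inr ⟨hp', hq⟩
      · exact absurd (hq.symm.trans hq') h01
  · intro hpq
    have hge : LinearMap.range
        (Groth.Agent.H81.Wronsk.mulT (((X : k[X]) - C p) ^ i * (X - C q) ^ j) 3) ≤
        (Submodule.span k {(1 : k[X])} ⊔
        ((Ideal.span {(X : k[X]) * (X + 1)}).restrictScalars k ⊓ degreeLE k ↑(a + 1))) ⊓
        (Ideal.span {((X : k[X]) - C p) ^ i * (X - C q) ^ j}).restrictScalars k := by
      rintro G ⟨L, rfl⟩
      rw [Groth.Agent.H81.Wronsk.mulT_apply]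
      have hL := L.2
      rw [mem_degreeLT] at hL
      refine ⟨Submodule.mem_sup_right ⟨?_, ?_⟩, ?_⟩
      · rw [SetLike.mem_coe, Submodule.restrictScalars_mem, Ideal.mem_span_singleton]
        obtain ⟨i', rfl⟩ : ∃ i', i = i' + 1 := ⟨i - 1, by omega⟩
        obtain ⟨j', rfl⟩ : ∃ j', j = j' + 1 := ⟨j - 1, by omega⟩
        rcases hpq with ⟨rfl, rfl⟩ | ⟨rfl, rfl⟩
        · refine ⟨X ^ i' * (X + 1) ^ j' * (L : k[X]), ?_⟩
          simp only [map_zero, sub_zero, map_neg, map_one, sub_neg_eq_add]
          ring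
        · refine ⟨(X + 1) ^ i' * X ^ j' * (L : k[X]), ?_⟩
          simp only [map_zero, sub_zero, map_neg, map_one, sub_neg_eq_add]
          ring
      · rw [SetLike.mem_coe, mem_degreeLE]
        by_cases hL0 : (L : k[X]) = 0
        · rw [hL0, mul_zero, degree_zero]; exact bot_le
        · rw [degree_mul, degree_eq_natDegree hP, hd, degree_eq_natDegree hL0]
          rw [degree_eq_natDegree hL0] at hL
          have : (L : k[X]).natDegree < 3 := by exact_mod_cast hL
          have : i + j + (L : k[X]).natDegree ≤ a + 1 := by omega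
          exact_mod_cast this
      · rw [SetLike.mem_coe, Submodule.restrictScalars_mem, Ideal.mem_span_singleton]
        exact Dvd.intro _ rfl
    haveI := Submodule.finiteDimensional_of_le hle
    have := Submodule.finrank_mono (R := k) hge
    rwa [Groth.Agent.H81.Wronsk.finrank_range_mulT hP] at this

end Groth.Agent.S16264
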