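import Groth.Statements.S16265
import Mathlib
import Groth.Agent.H86.LLS1

set_option autoImplicit false
open FunFld

namespace Groth.Agent.S16265

/-- Let `K/k` be a function field of one variable over an algebraically closed field `k` of
characteristic zero (the function field of a smooth projective curve), `D` a divisor and `V ⊆ L(D)`
a linear system of dimension `r + 1`; write `V(-mP-nQ) = V ∩ L(D - mP - nQ)` for the members
vanishing to the indicated orders. Assume `V` has no special ramification point, i.e. no place of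
weight at least two: for every place `R`, `dim V(-rR) ≤ 1` and `V(-(r+2)R) = 0`. Let `P ≠ Q` be
places and `a, b ≥ 1` with `a + b = r + 1` (so that `V(-aP)` and `V(-bQ)` have dimensions `b` and
`a`). Then the following are equivalent: (1) the system `V(-aP)` has weight at least two at `Q`,
that is `dim V(-aP-(b-1)Q) ≥ 2` or `dim V(-aP-(b+1)Q) ≥ 1`, and the system `V(-bQ)` has weight at
least two at `P`, that is `dim V(-(a-1)P-bQ) ≥ 2` or `dim V(-(a+1)P-bQ) ≥ 1`; (2) one of (a) `dim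
V(-(a+1)P-(b+1)Q) ≥ 1`, (b) `dim V(-(a-1)P-(b-1)Q) ≥ 3`, (c) `dim V(-aP-(b+1)Q) ≥ 1` and `dim
V(-(a-1)P-bQ) ≥ 2`, (d) `dim V(-(a+1)P-bQ) ≥ 1` and `dim V(-aP-(b-1)Q) ≥ 2`. (The published
statement is for a smooth curve over the complex numbers.) -/
theorem result
    (k K : Type*) [Field k] [IsAlgClosed k] [CharZero k] [Field K] [Algebra k K]
    (hK : FunFld.IsFunctionField k K) (D : FunFld.Divisor k K)
    (V : Submodule k K) (hVD : V ≤ FunFld.L D) (r : ℕ) (hr : Module.finrank k ↥V = r + 1)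
    (hns : ∀ R : FunFld.Place k K,
      Module.finrank k ↥(V ⊓ FunFld.L (D - Finsupp.single R (r : ℤ))) ≤ 1 ∧
        V ⊓ FunFld.L (D - Finsupp.single R ((r : ℤ) + 2)) = ⊥)
    (P Q : FunFld.Place k K) (hPQ : P ≠ Q) (a b : ℕ) (ha : 1 ≤ a) (hb : 1 ≤ b) (hab : a + b = r + 1) :
    ((2 ≤ Module.finrank k ↥(V ⊓ FunFld.L (D - Finsupp.single P (a : ℤ) - Finsupp.single Q ((b : ℤ) - 1 : ℤ))) ∨
        1 ≤ Module.finrank k ↥(V ⊓ FunFld.L (D - Finsupp.single P (a : ℤ) - Finsupp.single Q ((b : ℤ) + 1 : ℤ)))) ∧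
      (2 ≤ Module.finrank k ↥(V ⊓ FunFld.L (D - Finsupp.single P ((a : ℤ) - 1 : ℤ) - Finsupp.single Q (b : ℤ))) ∨
        1 ≤ Module.finrank k ↥(V ⊓ FunFld.L (D - Finsupp.single P ((a : ℤ) + 1 : ℤ) - Finsupp.single Q (b : ℤ))))) ↔
    (1 ≤ Module.finrank k ↥(V ⊓ FunFld.L (D - Finsupp.single P ((a : ℤ) + 1 : ℤ) - Finsupp.single Q ((b : ℤ) + 1 : ℤ))) ∨
      3 ≤ Module.finrank k ↥(V ⊓ FunFld.L (D - Finsupp.single P ((a : ℤ) - 1 : ℤ) - Finsupp.single Q ((b : ℤ) - 1 : ℤ))) ∨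
      (1 ≤ Module.finrank k ↥(V ⊓ FunFld.L (D - Finsupp.single P (a : ℤ) - Finsupp.single Q ((b : ℤ) + 1 : ℤ))) ∧
        2 ≤ Module.finrank k ↥(V ⊓ FunFld.L (D - Finsupp.single P ((a : ℤ) - 1 : ℤ) - Finsupp.single Q (b : ℤ)))) ∨
      (1 ≤ Module.finrank k ↥(V ⊓ FunFld.L (D - Finsupp.single P ((a : ℤ) + 1 : ℤ) - Finsupp.single Q (b : ℤ))) ∧
        2 ≤ Module.finrank k ↥(V ⊓ FunFld.L (D - Finsupp.single P (a : ℤ) - Finsupp.single Q ((b : ℤ) - 1 : ℤ))))) := by
  classical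
  -- notation
  have hfin : ∀ m n : ℤ, Module.Finite k
      ↥(V ⊓ FunFld.L (D - Finsupp.single P m - Finsupp.single Q n)) :=
    fun m n => Groth.Agent.H86.FF.finite_inf_L hK V _
  have hdivle : ∀ {m m' n n' : ℤ}, m ≤ m' → n ≤ n' →
      D - Finsupp.single P m' - Finsupp.single Q n' ≤ D - Finsupp.single P m - Finsupp.single Q n := by
    intro m m' n n' hm hn R
    simp only [Finsupp.coe_sub, Pi.sub_apply, Finsupp.single_apply]
    split_ifs <;> omega
  have hWle : ∀ {m m' n n' : ℤ}, m ≤ m' → n ≤ n' →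
      V ⊓ FunFld.L (D - Finsupp.single P m' - Finsupp.single Q n') ≤
        V ⊓ FunFld.L (D - Finsupp.single P m - Finsupp.single Q n) :=
    fun hm hn => inf_le_inf_left V (Groth.Agent.H55.L_mono (hdivle hm hn))
  have hM : ∀ {m m' n n' : ℤ}, m ≤ m' → n ≤ n' →
      Module.finrank k ↥(V ⊓ FunFld.L (D - Finsupp.single P m' - Finsupp.single Q n')) ≤
        Module.finrank k ↥(V ⊓ FunFld.L (D - Finsupp.single P m - Finsupp.single Q n)) := by
    intro m m' n n' hm hn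
    haveI := hfin m n
    exact Submodule.finrank_mono (hWle hm hn)
  have hJQ : ∀ (m n n' : ℤ), n' = n + 1 →
      Module.finrank k ↥(V ⊓ FunFld.L (D - Finsupp.single P m - Finsupp.single Q n)) ≤
        Module.finrank k ↥(V ⊓ FunFld.L (D - Finsupp.single P m - Finsupp.single Q n')) + 1 := by
    intro m n n' hn'
    subst hn'
    exact Groth.Agent.H86.FF.vdim_succ hK V (D - Finsupp.single P m) Q n
  have hJP : ∀ (m m' n : ℤ), m' = m + 1 →
      Module.finrank k ↥(V ⊓ FunFld.L (D - Finsupp.single P m - Finsupp.single Q n)) ≤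
        Module.finrank k ↥(V ⊓ FunFld.L (D - Finsupp.single P m' - Finsupp.single Q n)) + 1 := by
    intro m m' n hm'
    subst hm'
    have := Groth.Agent.H86.FF.vdim_succ hK V (D - Finsupp.single Q n) P m
    unfold Groth.Agent.H86.FF.vdim at this
    rwa [sub_right_comm D (Finsupp.single Q n) (Finsupp.single P m),
      sub_right_comm D (Finsupp.single Q n) (Finsupp.single P (m + 1))] at this
  have hI : ∀ (m n : ℤ), FunFld.L (D - Finsupp.single P (m + 1) - Finsupp.single Q n) ⊓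
      FunFld.L (D - Finsupp.single P m - Finsupp.single Q (n + 1)) ≤
      FunFld.L (D - Finsupp.single P (m + 1) - Finsupp.single Q (n + 1)) := by
    intro m n
    apply Groth.Agent.H86.FF.L_inf_le
    intro R
    simp only [Finsupp.coe_sub, Pi.sub_apply, Finsupp.single_apply]
    by_cases h1 : P = R <;> by_cases h2 : Q = R
    · exact absurd (h1.trans h2.symm) hPQ
    · simp [h1, h2]
    · simp [h1, h2]
    · simp [h1, h2]
  constructor
  · rintro ⟨hA, hB⟩
    rcases hA with hA | hA <;> rcases hB with hB | hB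
    · -- C1
      by_cases h3 : 3 ≤ Module.finrank k ↥(V ⊓ FunFld.L (D - Finsupp.single P ((a : ℤ) - 1 : ℤ) -
          Finsupp.single Q ((b : ℤ) - 1 : ℤ)))
      · exact Or.inr (Or.inl h3)
      · push_neg at h3
        haveI := hfin ((a : ℤ) - 1) ((b : ℤ) - 1)
        have e1 : V ⊓ FunFld.L (D - Finsupp.single P (a : ℤ) - Finsupp.single Q ((b : ℤ) - 1 : ℤ)) =
            V ⊓ FunFld.L (D - Finsupp.single P ((a : ℤ) - 1 : ℤ) - Finsupp.single Q ((b : ℤ) - 1 : ℤ)) :=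
          Submodule.eq_of_le_of_finrank_le (hWle (by omega) le_rfl) (by omega)
        have e2 : V ⊓ FunFld.L (D - Finsupp.single P ((a : ℤ) - 1 : ℤ) - Finsupp.single Q (b : ℤ)) =
            V ⊓ FunFld.L (D - Finsupp.single P ((a : ℤ) - 1 : ℤ) - Finsupp.single Q ((b : ℤ) - 1 : ℤ)) :=
          Submodule.eq_of_le_of_finrank_le (hWle le_rfl (by omega)) (by omega)
        have hle : V ⊓ FunFld.L (D - Finsupp.single P (a : ℤ) - Finsupp.single Q ((b : ℤ) - 1 : ℤ)) ≤
            V ⊓ FunFld.L (D - Finsupp.single P (a : ℤ) - Finsupp.single Q (b : ℤ)) := by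
          intro x hx
          have hx2 : x ∈ V ⊓ FunFld.L (D - Finsupp.single P ((a : ℤ) - 1 : ℤ) - Finsupp.single Q (b : ℤ)) := by
            rw [e2, ← e1]; exact hx
          refine ⟨hx.1, ?_⟩
          have := hI ((a : ℤ) - 1) ((b : ℤ) - 1)
          rw [sub_add_cancel, sub_add_cancel] at this
          exact this ⟨hx.2, hx2.2⟩
        haveI := hfin (a : ℤ) (b : ℤ)
        have h2 := Submodule.finrank_mono hle
        have h4 := hJP (a : ℤ) ((a : ℤ) + 1) (b : ℤ) rfl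
        exact Or.inr (Or.inr (Or.inr ⟨by omega, hA⟩))
    · exact Or.inr (Or.inr (Or.inr ⟨hB, hA⟩))
    · exact Or.inr (Or.inr (Or.inl ⟨hA, hB⟩))
    · -- C4
      by_cases h2 : 2 ≤ Module.finrank k ↥(V ⊓ FunFld.L (D - Finsupp.single P (a : ℤ) -
          Finsupp.single Q (b : ℤ)))
      · have := hM (m := (a : ℤ)) (m' := (a : ℤ)) (n := (b : ℤ) - 1) (n' := (b : ℤ)) le_rfl (by omega)
        exact Or.inr (Or.inr (Or.inr ⟨hB, by omega⟩))
      · push_neg at h2
        left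
        haveI := hfin (a : ℤ) ((b : ℤ) + 1)
        haveI := hfin ((a : ℤ) + 1) (b : ℤ)
        haveI := hfin (a : ℤ) (b : ℤ)
        haveI := hfin ((a : ℤ) + 1) ((b : ℤ) + 1)
        obtain ⟨⟨s₁, hs₁⟩, hs₁0⟩ := (Module.finrank_pos_iff_exists_ne_zero
          (R := k) (M := ↥(V ⊓ FunFld.L (D - Finsupp.single P (a : ℤ) - Finsupp.single Q ((b : ℤ) + 1 : ℤ))))).mp
          (by omega)
        obtain ⟨⟨s₂, hs₂⟩, hs₂0⟩ := (Module.finrank_pos_iff_exists_ne_zero
          (R := k) (M := ↥(V ⊓ FunFld.L (D - Finsupp.single P ((a : ℤ) + 1 : ℤ) - Finsupp.single Q (b : ℤ))))).mp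
          (by omega)
        have hs₁W : s₁ ∈ V ⊓ FunFld.L (D - Finsupp.single P (a : ℤ) - Finsupp.single Q (b : ℤ)) :=
          hWle le_rfl (by omega) hs₁
        have hs₂W : s₂ ∈ V ⊓ FunFld.L (D - Finsupp.single P (a : ℤ) - Finsupp.single Q (b : ℤ)) :=
          hWle (by omega) le_rfl hs₂
        obtain ⟨v, hv⟩ := finrank_le_one_iff.mp (show Module.finrank k
          ↥(V ⊓ FunFld.L (D - Finsupp.single P (a : ℤ) - Finsupp.single Q (b : ℤ))) ≤ 1 by omega)
        obtain ⟨c₁, hc₁⟩ := hv ⟨s₁, hs₁W⟩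
        obtain ⟨c₂, hc₂⟩ := hv ⟨s₂, hs₂W⟩
        have hc₁' : c₁ • (v : K) = s₁ := congrArg Subtype.val hc₁
        have hc₂' : c₂ • (v : K) = s₂ := congrArg Subtype.val hc₂
        have hs₂ne : s₂ ≠ 0 := fun h => hs₂0 (Subtype.ext h)
        have hs₁ne : s₁ ≠ 0 := fun h => hs₁0 (Subtype.ext h)
        have hc₂0 : c₂ ≠ 0 := by
          rintro rfl
          rw [zero_smul] at hc₂'
          exact hs₂ne hc₂'.symm
        have hs₁s₂ : s₁ = (c₁ * c₂⁻¹) • s₂ := by
          rw [← hc₂', ← hc₁', smul_smul, mul_assoc, inv_mul_cancel₀ hc₂0, mul_one]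
        have hs₁L : s₁ ∈ FunFld.L (D - Finsupp.single P ((a : ℤ) + 1 : ℤ) - Finsupp.single Q (b : ℤ)) := by
          rw [hs₁s₂]
          exact Submodule.smul_mem _ _ hs₂.2
        have hmem : s₁ ∈ V ⊓ FunFld.L (D - Finsupp.single P ((a : ℤ) + 1 : ℤ) -
            Finsupp.single Q ((b : ℤ) + 1 : ℤ)) :=
          ⟨hs₁.1, hI (a : ℤ) (b : ℤ) ⟨hs₁L, hs₁.2⟩⟩
        have : 0 < Module.finrank k ↥(V ⊓ FunFld.L (D - Finsupp.single P ((a : ℤ) + 1 : ℤ) -
            Finsupp.single Q ((b : ℤ) + 1 : ℤ))) :=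
          Module.finrank_pos_iff_exists_ne_zero.mpr ⟨⟨s₁, hmem⟩, fun h => hs₁ne (congrArg Subtype.val h)⟩
        omega
  · rintro (h | h | ⟨h, h'⟩ | ⟨h, h'⟩)
    · have h1 := hM (m := (a : ℤ)) (m' := (a : ℤ) + 1) (n := (b : ℤ) + 1) (n' := (b : ℤ) + 1)
        (by omega) le_rfl
      have h2 := hM (m := (a : ℤ) + 1) (m' := (a : ℤ) + 1) (n := (b : ℤ)) (n' := (b : ℤ) + 1)
        le_rfl (by omega)
      exact ⟨Or.inr (by omega), Or.inr (by omega)⟩
    · have h1 := hJP ((a : ℤ) - 1) (a : ℤ) ((b : ℤ) - 1) (by ring)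
      have h2 := hJQ ((a : ℤ) - 1) ((b : ℤ) - 1) (b : ℤ) (by ring)
      exact ⟨Or.inl (by omega), Or.inl (by omega)⟩
    · exact ⟨Or.inr h, Or.inl h'⟩
    · exact ⟨Or.inl h', Or.inr h⟩

end Groth.Agent.S16265
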