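import Groth.Statements.S16266
import Mathlib
-- import your own Groth.Agent.* helpers here

set_option autoImplicit false
open FunFld

namespace Groth.Agent.S16266

/-- Let `K/k` be a function field of one variable over an algebraically closed field `k` of
characteristic zero, `D` a divisor, `V ⊆ L(D)` a linear system of dimension `r + 1` with `r ≥ 1`,
and `P` a place with `V' = V(-P) = V ∩ L(D - P) ≠ V`, an `r`-dimensional system in `L(D - P)`.
Assume that neither `V` nor `V'` has a special ramification point (a place of weight at least two):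
for every place `R`, `dim V ∩ L(D - rR) ≤ 1`, `V ∩ L(D - (r+2)R) = 0`, `dim V' ∩ L(D - P - (r-1)R) ≤
1` and `V' ∩ L(D - P - (r+1)R) = 0`. Then no place `Q ≠ P` is a ramification point of both `V` and
`V'`: for no such `Q` are both `V ∩ L(D - (r+1)Q)` and `V' ∩ L(D - P - rQ)` nonzero. (The published
statement is for a smooth curve over the complex numbers.) -/
theorem result
    (k K : Type*) [Field k] [IsAlgClosed k] [CharZero k] [Field K] [Algebra k K]
    (hK : FunFld.IsFunctionField k K) (D : FunFld.Divisor k K)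
    (V : Submodule k K) (hVD : V ≤ FunFld.L D) (r : ℕ) (hr : Module.finrank k ↥V = r + 1) (hr1 : 1 ≤ r)
    (P : FunFld.Place k K) (hP : V ⊓ FunFld.L (D - Finsupp.single P 1) ≠ V)
    (hns : ∀ R : FunFld.Place k K,
      Module.finrank k ↥(V ⊓ FunFld.L (D - Finsupp.single R (r : ℤ))) ≤ 1 ∧
        V ⊓ FunFld.L (D - Finsupp.single R ((r : ℤ) + 2)) = ⊥)
    (hns' : ∀ R : FunFld.Place k K,
      Module.finrank k ↥(V ⊓ FunFld.L (D - Finsupp.single P 1 - Finsupp.single R ((r : ℤ) - 1))) ≤ 1 ∧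
        V ⊓ FunFld.L (D - Finsupp.single P 1 - Finsupp.single R ((r : ℤ) + 1)) = ⊥)
    (Q : FunFld.Place k K) (hQP : Q ≠ P) :
    ¬ (V ⊓ FunFld.L (D - Finsupp.single Q ((r : ℤ) + 1)) ≠ ⊥ ∧
       V ⊓ FunFld.L (D - Finsupp.single P 1 - Finsupp.single Q (r : ℤ)) ≠ ⊥) := by
  classical
  rintro ⟨h1, h2⟩
  obtain ⟨s₁, hs₁, hs₁0⟩ := Submodule.exists_mem_ne_zero_of_ne_bot h1
  obtain ⟨s₂, hs₂, hs₂0⟩ := Submodule.exists_mem_ne_zero_of_ne_bot h2
  haveI : Module.Finite k V := Module.finite_of_finrank_pos (by omega)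
  have hQ := (hns Q).1
  have hQ' := (hns' Q).2
  have hmono : ∀ {E₁ E₂ : FunFld.Divisor k K}, E₁ ≤ E₂ → FunFld.L E₁ ≤ FunFld.L E₂ := by
    intro E₁ E₂ hE x hx R
    exact (hx R).trans (WithZero.exp_le_exp.mpr (hE R))
  -- both lie in W = V ⊓ L(D - rQ)
  have hs₁W : s₁ ∈ V ⊓ FunFld.L (D - Finsupp.single Q (r : ℤ)) := by
    refine ⟨hs₁.1, hmono ?_ hs₁.2⟩
    intro R
    simp only [Finsupp.coe_sub, Pi.sub_apply, Finsupp.single_apply]
    split_ifs <;> omega
  have hs₂W : s₂ ∈ V ⊓ FunFld.L (D - Finsupp.single Q (r : ℤ)) := by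
    refine ⟨hs₂.1, hmono ?_ hs₂.2⟩
    intro R
    simp only [Finsupp.coe_sub, Pi.sub_apply, Finsupp.single_apply]
    split_ifs <;> omega
  haveI : Module.Finite k ↥(V ⊓ FunFld.L (D - Finsupp.single Q (r : ℤ))) :=
    Submodule.finiteDimensional_of_le inf_le_left
  obtain ⟨v, hv⟩ := finrank_le_one_iff.mp hQ
  obtain ⟨c₁, hc₁⟩ := hv ⟨s₁, hs₁W⟩
  obtain ⟨c₂, hc₂⟩ := hv ⟨s₂, hs₂W⟩
  have hc₁' : c₁ • (v : K) = s₁ := congrArg Subtype.val hc₁
  have hc₂' : c₂ • (v : K) = s₂ := congrArg Subtype.val hc₂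
  have hc₂0 : c₂ ≠ 0 := by
    rintro rfl
    rw [zero_smul] at hc₂'
    exact hs₂0 hc₂'.symm
  have hs₁s₂ : s₁ = (c₁ * c₂⁻¹) • s₂ := by
    rw [← hc₂', ← hc₁', smul_smul, mul_assoc, inv_mul_cancel₀ hc₂0, mul_one]
  have hs₁L : s₁ ∈ FunFld.L (D - Finsupp.single P 1 - Finsupp.single Q (r : ℤ)) := by
    rw [hs₁s₂]
    exact Submodule.smul_mem _ _ hs₂.2
  have hs₁bot : s₁ ∈ V ⊓ FunFld.L (D - Finsupp.single P 1 - Finsupp.single Q ((r : ℤ) + 1)) := by
    refine ⟨hs₁.1, ?_⟩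
    intro R
    by_cases hRQ : R = Q
    · subst hRQ
      refine (hs₁.2 R).trans (le_of_eq ?_)
      congr 1
      simp only [Finsupp.coe_sub, Pi.sub_apply, Finsupp.single_apply]
      rw [if_neg (Ne.symm hQP)]
      simp
    · refine (hs₁L R).trans (le_of_eq ?_)
      congr 1
      simp only [Finsupp.coe_sub, Pi.sub_apply, Finsupp.single_apply]
      rw [if_neg (Ne.symm hRQ), if_neg (Ne.symm hRQ)]
  rw [hQ', Submodule.mem_bot] at hs₁bot
  exact hs₁0 hs₁bot

end Groth.Agent.S16266
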