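import Groth.Statements.S16268
import Mathlib
-- import your own Groth.Agent.* helpers here

set_option autoImplicit false
universe u w
open CategoryTheory CategoryTheory.Limits AlgebraicGeometry Opposite
open EtCore

namespace Groth.Agent.S16268

/-- Let X be a scheme, Y an etale X-scheme with Y -> X surjective, and G a finite group acting on Y by
X-automorphisms such that the morphisms (id, g) : Y -> Y x_X Y exhibit Y x_X Y as the coproduct of
copies of Y indexed by G (Y -> X is a Galois covering with group G). Let P be a presheaf of sets on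
the small etale site of X which takes this coproduct to a product: s |-> (g |-> (id, g)^* s) is a
bijection from P(Y x_X Y) onto the G-indexed families in P(Y). Then P satisfies the sheaf condition
for the covering consisting of the single morphism Y -> X if and only if the restriction P(X) ->
P(Y) is injective and its image is the set of G-invariant elements of P(Y). -/
theorem result (X : Scheme.{u})
    (Y : X.Etale) (hY : Function.Surjective Y.hom.base)
    {G : Type u} [Group G] [Finite G] (σ : G →* Aut Y)
    (hgal : Nonempty (IsColimit (Cofan.mk (Y ⨯ Y) (fun g : G => prod.lift (𝟙 Y) (σ g).hom))))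
    (P : X.Etaleᵒᵖ ⥤ Type w)
    (hP : Function.Bijective (fun s : P.obj (op (Y ⨯ Y)) => fun g : G => P.map (prod.lift (𝟙 Y) (σ g).hom).op s)) :
    Presieve.IsSheafFor P (Presieve.singleton ((EtCore.topIsTerminal X).from Y)) ↔
      (Function.Injective (P.map ((EtCore.topIsTerminal X).from Y).op) ∧
        Set.range (P.map ((EtCore.topIsTerminal X).from Y).op) = {s | ∀ g : G, P.map (σ g).hom.op s = s}) := by
  have hfeq : ∀ {Z : X.Etale} (a b : Z ⟶ EtCoh.top X), a = b :=
    fun a b => (EtCore.topIsTerminal X).hom_ext a b
  rw [Presieve.isSheafFor_singleton]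
  constructor
  · intro H
    refine ⟨?_, ?_⟩
    · intro t₁ t₂ h
      have hx : ∀ {Z : X.Etale} (p₁ p₂ : Z ⟶ Y),
          p₁ ≫ (EtCore.topIsTerminal X).from Y = p₂ ≫ (EtCore.topIsTerminal X).from Y →
          P.map p₁.op (P.map ((EtCore.topIsTerminal X).from Y).op t₁) =
            P.map p₂.op (P.map ((EtCore.topIsTerminal X).from Y).op t₁) := by
        intro Z p₁ p₂ h12
        rw [← FunctorToTypes.map_comp_apply, ← FunctorToTypes.map_comp_apply, ← op_comp,
          ← op_comp, h12]
      obtain ⟨t, _, huniq⟩ := H (P.map ((EtCore.topIsTerminal X).from Y).op t₁) hx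
      rw [huniq t₁ rfl, huniq t₂ h.symm]
    · ext x
      simp only [Set.mem_range, Set.mem_setOf_eq]
      constructor
      · rintro ⟨t, rfl⟩ g
        rw [← FunctorToTypes.map_comp_apply, ← op_comp,
          hfeq ((σ g).hom ≫ (EtCore.topIsTerminal X).from Y) ((EtCore.topIsTerminal X).from Y)]
      · intro hinv
        have key : P.map (prod.fst : Y ⨯ Y ⟶ Y).op x = P.map (prod.snd : Y ⨯ Y ⟶ Y).op x := by
          apply hP.1
          funext g
          simp only
          rw [← FunctorToTypes.map_comp_apply, ← FunctorToTypes.map_comp_apply, ← op_comp,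
            ← op_comp, prod.lift_fst, prod.lift_snd, op_id, FunctorToTypes.map_id_apply]
          exact (hinv g).symm
        have hx : ∀ {Z : X.Etale} (p₁ p₂ : Z ⟶ Y),
            p₁ ≫ (EtCore.topIsTerminal X).from Y = p₂ ≫ (EtCore.topIsTerminal X).from Y →
            P.map p₁.op x = P.map p₂.op x := by
          intro Z p₁ p₂ _
          have h1 : P.map p₁.op x = P.map (prod.lift p₁ p₂).op (P.map (prod.fst : Y ⨯ Y ⟶ Y).op x) := by
            rw [← FunctorToTypes.map_comp_apply, ← op_comp, prod.lift_fst]
          have h2 : P.map p₂.op x = P.map (prod.lift p₁ p₂).op (P.map (prod.snd : Y ⨯ Y ⟶ Y).op x) := by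
            rw [← FunctorToTypes.map_comp_apply, ← op_comp, prod.lift_snd]
          rw [h1, h2, key]
        obtain ⟨t, ht, _⟩ := H x hx
        exact ⟨t, ht⟩
  · rintro ⟨hinj, hrange⟩ x hx
    have hxinv : x ∈ {s | ∀ g : G, P.map (σ g).hom.op s = s} := by
      intro g
      have := hx ((σ g).hom) (𝟙 Y) (hfeq _ _)
      rw [this, op_id, FunctorToTypes.map_id_apply]
    rw [← hrange] at hxinv
    obtain ⟨t, ht⟩ := hxinv
    exact ⟨t, ht, fun t' ht' => hinj (ht'.trans ht.symm)⟩

end Groth.Agent.S16268
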