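import Groth.Statements.S16269
import Mathlib
-- import your own Groth.Agent.* helpers here

set_option autoImplicit false
universe u w
open CategoryTheory CategoryTheory.Limits AlgebraicGeometry Opposite
open EtCore

namespace Groth.Agent.S16269

set_option backward.isDefEq.respectTransparency.types false in
/-- A colimit cofan in the small étale site is jointly surjective. -/
lemma jointly_surjective_of_isColimit {X : Scheme.{u}} {G : Type u} (Y : G → X.Etale)
    (Z : X.Etale) (ι : ∀ g, Y g ⟶ Z) (hc : IsColimit (Cofan.mk Z ι)) (z : Z.left) :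
    ∃ (g : G) (y : (Y g).left), (ι g).left y = z := by
  -- the open union of the images
  have hopen : ∀ g, IsOpen (Set.range (ι g).left.base) := fun g =>
    (ι g).left.isOpenMap.isOpen_range
  let W : Z.left.Opens := ⟨⋃ g, Set.range (ι g).left.base, isOpen_iUnion hopen⟩
  let W' : X.Etale := Scheme.Etale.mk (W.ι ≫ Z.hom)
  let j : W' ⟶ Z := MorphismProperty.Over.homMk W.ι rfl trivial
  have hsub : ∀ g, Set.range (ι g).left.base ⊆ Set.range W.ι.base := by
    intro g
    rw [Scheme.Opens.range_ι]
    exact Set.subset_iUnion (fun g => Set.range (ι g).left.base) g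
  let l : ∀ g, (Y g).left ⟶ (W : Scheme.{u}) := fun g =>
    IsOpenImmersion.lift W.ι (ι g).left (hsub g)
  have hl : ∀ g, l g ≫ W.ι = (ι g).left := fun g =>
    IsOpenImmersion.lift_fac W.ι (ι g).left (hsub g)
  let ι' : ∀ g, Y g ⟶ W' := fun g => MorphismProperty.Over.homMk (l g) (by
    show l g ≫ W.ι ≫ Z.hom = (Y g).hom
    rw [← Category.assoc, hl g]
    exact MorphismProperty.Over.w (ι g)) trivial
  have hι' : ∀ g, ι' g ≫ j = ι g := by
    intro g
    apply MorphismProperty.Over.Hom.ext
    exact hl g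
  let r : Z ⟶ W' := Cofan.IsColimit.desc hc ι'
  have hr : ∀ g, ι g ≫ r = ι' g := fun g => Cofan.IsColimit.fac hc ι' g
  have hrj : r ≫ j = 𝟙 Z := by
    apply Cofan.IsColimit.hom_ext hc
    intro g
    show ι g ≫ r ≫ j = ι g ≫ 𝟙 Z
    rw [← Category.assoc, hr g, hι' g, Category.comp_id]
  have hz : z ∈ (W : Set Z.left) := by
    have h1 : (r ≫ j).left z = z := by rw [hrj]; rfl
    have h2 : (r ≫ j).left z = W.ι (r.left z) := rfl
    rw [← h1, h2]
    exact (r.left z).2
  obtain ⟨g, y, hy⟩ := Set.mem_iUnion.1 hz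
  exact ⟨g, y, hy⟩

set_option backward.isDefEq.respectTransparency.types false in
/-- A sieve which is pointwise hit is covering for the small étale topology. -/
lemma mem_smallEtale_of_pointwise {X : Scheme.{u}} (U : X.Etale) (R : Sieve U)
    (h : ∀ x : U.left, ∃ (V : X.Etale) (f : V ⟶ U) (y : V.left), R f ∧ f.left y = x) :
    R ∈ X.smallEtaleTopology U := by
  have eX : X.smallEtaleTopology =
      (X.smallPretopology (P := EtCoh.etaleMP) (Q := EtCoh.etaleMP)).toGrothendieck :=
    Scheme.smallGrothendieckTopology_eq_toGrothendieck_smallPretopology X le_rfl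
  rw [eX]
  refine (Scheme.mem_toGrothendieck_smallPretopology U R).2 ?_
  intro x
  obtain ⟨V, f, y, hf, hy⟩ := h x
  exact ⟨V, f, y, hf, inferInstance, hy⟩

lemma map_comp_apply {X : Scheme.{u}} (F : EtCoh.Ab X) {U V W : X.Etale} (k : W ⟶ V) (h : V ⟶ U)
    (s : EtCoh.sect F U) :
    F.obj.map (k ≫ h).op s = F.obj.map k.op (F.obj.map h.op s) := by
  rw [op_comp, Functor.map_comp]
  rfl

lemma isSheaf_type {X : Scheme.{u}} (F : EtCoh.Ab X) :
    Presieve.IsSheaf X.smallEtaleTopology (F.obj ⋙ forget AddCommGrpCat.{u + 1}) :=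
  (isSheaf_iff_isSheaf_of_type _ _).1
    ((Presheaf.isSheaf_iff_isSheaf_forget _ F.obj (forget _)).1 F.property)

lemma sect_ext {X : Scheme.{u}} (F : EtCoh.Ab X) {U : X.Etale} (R : Sieve U)
    (hR : R ∈ X.smallEtaleTopology U) (s s' : EtCoh.sect F U)
    (h : ∀ ⦃V : X.Etale⦄ (f : V ⟶ U), R f → F.obj.map f.op s = F.obj.map f.op s') : s = s' :=
  ((isSheaf_type F) R hR).isSeparatedFor.ext (fun _ f hf => h f hf)

/-- Key lemma: an invariant section has the same pullback along any two maps to `Y`. -/
lemma pull_eq_of_invariant {X : Scheme.{u}} (Y : X.Etale) {G : Type u} [Group G]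
    (σ : G →* Aut Y)
    (hgal : IsColimit (Cofan.mk (Y ⨯ Y) (fun g : G => prod.lift (𝟙 Y) (σ g).hom)))
    (F : EtCoh.Ab X) (s : EtCoh.sect F Y) (hs : ∀ g : G, F.obj.map (σ g).hom.op s = s)
    {V : X.Etale} (h h' : V ⟶ Y) : F.obj.map h.op s = F.obj.map h'.op s := by
  let ι : ∀ g : G, Y ⟶ Y ⨯ Y := fun g => prod.lift (𝟙 Y) (σ g).hom
  let T : Sieve (Y ⨯ Y) := Sieve.ofArrows (fun _ : G => Y) ι
  have hT : T ∈ X.smallEtaleTopology (Y ⨯ Y) := by
    apply mem_smallEtale_of_pointwise
    intro z
    obtain ⟨g, y, hy⟩ := jointly_surjective_of_isColimit (fun _ : G => Y) (Y ⨯ Y) ι hgal z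
    exact ⟨Y, ι g, y, Sieve.ofArrows_mk _ _ g, hy⟩
  let p : V ⟶ Y ⨯ Y := prod.lift h h'
  have hTp : T.pullback p ∈ X.smallEtaleTopology V :=
    X.smallEtaleTopology.pullback_stable p hT
  apply sect_ext F (T.pullback p) hTp
  intro W k hk
  obtain ⟨g, l, hl⟩ := (Sieve.mem_ofArrows_iff _ _ _).1 hk
  have h1 : l = k ≫ h := by
    have e := congrArg (fun q => q ≫ prod.fst) hl
    dsimp only [ι, p] at e
    rw [Category.assoc, Category.assoc, prod.lift_fst, prod.lift_fst, Category.comp_id] at e
    exact e.symm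
  have h2 : l ≫ (σ g).hom = k ≫ h' := by
    have e := congrArg (fun q => q ≫ prod.snd) hl
    dsimp only [ι, p] at e
    rw [Category.assoc, Category.assoc, prod.lift_snd, prod.lift_snd] at e
    exact e.symm
  rw [← map_comp_apply, ← map_comp_apply, ← h2, ← h1, map_comp_apply F l (σ g).hom, hs g]

set_option backward.isDefEq.respectTransparency.types false in
theorem main (X : Scheme.{u})
    (Y : X.Etale) (hY : Function.Surjective Y.hom.base)
    {G : Type u} [Group G] (σ : G →* Aut Y)
    (hgal : Nonempty (IsColimit (Cofan.mk (Y ⨯ Y) (fun g : G => prod.lift (𝟙 Y) (σ g).hom))))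
    (F : EtCoh.Ab X) :
    Function.Injective (F.obj.map ((EtCore.topIsTerminal X).from Y).op) ∧
      Set.range (F.obj.map ((EtCore.topIsTerminal X).from Y).op) =
        {s : EtCoh.sect F Y | ∀ g : G, F.obj.map (σ g).hom.op s = s} := by
  classical
  obtain ⟨hgal⟩ := hgal
  set π : Y ⟶ EtCoh.top X := (EtCore.topIsTerminal X).from Y with hπ
  -- the covering sieve generated by `π`
  let R : Sieve (EtCoh.top X) :=
    { arrows := fun V _ => Nonempty (V ⟶ Y)
      downward_closed := by
        rintro V W f ⟨h⟩ k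
        exact ⟨k ≫ h⟩ }
  have hR : R ∈ X.smallEtaleTopology (EtCoh.top X) := by
    apply mem_smallEtale_of_pointwise
    intro x
    obtain ⟨y, hy⟩ := hY x
    refine ⟨Y, π, y, ⟨𝟙 Y⟩, ?_⟩
    have hw : π.left ≫ (EtCoh.top X).hom = Y.hom := MorphismProperty.Over.w π
    have hw' : π.left = Y.hom := (Category.comp_id π.left).symm.trans hw
    rw [hw']
    exact hy
  have hfac : ∀ ⦃V : X.Etale⦄ (f : V ⟶ EtCoh.top X) (h : V ⟶ Y), f = h ≫ π :=
    fun V f h => (EtCore.topIsTerminal X).hom_ext _ _
  refine ⟨?_, ?_⟩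
  · intro s s' hss
    apply sect_ext F R hR
    rintro V f ⟨h⟩
    rw [hfac f h, map_comp_apply, map_comp_apply]
    exact congrArg _ hss
  · ext s
    constructor
    · rintro ⟨t, rfl⟩ g
      rw [← map_comp_apply, show (σ g).hom ≫ π = π from (EtCore.topIsTerminal X).hom_ext _ _]
    · intro hs
      have hs' : ∀ g : G, F.obj.map (σ g).hom.op s = s := hs
      -- the compatible family
      let x : Presieve.FamilyOfElements (F.obj ⋙ forget AddCommGrpCat.{u + 1}) R.arrows :=
        fun V f hf => F.obj.map hf.some.op s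
      have hx : x.Compatible := by
        rw [Presieve.compatible_iff_sieveCompatible]
        intro V W f k hf
        show F.obj.map _ s = F.obj.map k.op (F.obj.map hf.some.op s)
        rw [← map_comp_apply]
        exact pull_eq_of_invariant Y σ hgal F s hs' _ _
      obtain ⟨t, ht, -⟩ := (isSheaf_type F) R hR x hx
      refine ⟨t, ?_⟩
      have h1 := ht π ⟨𝟙 Y⟩
      have h2 : x π ⟨𝟙 Y⟩ = s := by
        show F.obj.map _ s = s
        have := pull_eq_of_invariant Y σ hgal F s hs' (Nonempty.some (⟨𝟙 Y⟩ : Nonempty (Y ⟶ Y))) (𝟙 Y)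
        rw [this]
        simp
      exact h1.trans h2


/-- Let X be a scheme, Y an etale X-scheme with Y -> X surjective, and G a finite group acting on Y by
X-automorphisms such that the morphisms (id, g) : Y -> Y x_X Y exhibit Y x_X Y as the coproduct of
copies of Y indexed by G (a Galois covering with group G). For an abelian sheaf F on the small etale
site of X, the restriction map F(X) -> F(Y) is injective and its image is the set of sections of F
over Y fixed by every element of G. -/
theorem result (X : Scheme.{u})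
    (Y : X.Etale) (hY : Function.Surjective Y.hom.base)
    {G : Type u} [Group G] [Finite G] (σ : G →* Aut Y)
    (hgal : Nonempty (IsColimit (Cofan.mk (Y ⨯ Y) (fun g : G => prod.lift (𝟙 Y) (σ g).hom))))
    (F : EtCoh.Ab X) :
    Function.Injective (F.obj.map ((EtCore.topIsTerminal X).from Y).op) ∧
      Set.range (F.obj.map ((EtCore.topIsTerminal X).from Y).op) =
        {s : EtCoh.sect F Y | ∀ g : G, F.obj.map (σ g).hom.op s = s} := by
  exact main X Y hY σ hgal F

end Groth.Agent.S16269
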