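import Groth.Statements.S16272
import Mathlib
-- import your own Groth.Agent.* helpers here

set_option autoImplicit false
universe w' w v u
open CategoryTheory
open NonAbH1

namespace Groth.Agent.S16272

/-- The class map is well defined: let C be a category with a Grothendieck topology J, G a sheaf of
groups and U a family of objects. A G-torsor P with a section over every U_i has exactly one Cech
class on U: choosing sections s_i of P over the U_i cuts out a 1-cocycle of G on U, and its class in
the Cech cohomology set H^1(U, G) does not depend on the choice. (The published statement is for an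
etale covering of a scheme; this row is stated for any family of objects of any site.) -/
theorem result {C : Type u} [Category.{v} C]
    {J : GrothendieckTopology C} {G : Sheaf J GrpCat.{w}} (P : NonAbH1.Torsor G)
    {I : Type w'} (U : I → C) (hP : P.TrivialisedBy U) :
    ∃! c : PresheafOfGroups.H1 G.obj U, P.HasCechClass U c := by
  classical
  have hpt : P.toGSheaf.IsPseudoTorsor := P.isTorsor.1
  -- free action
  have hfree : ∀ (V : Cᵒᵖ) (p : P.P.obj.obj V) (g g' : G.obj.obj V),
      P.smul g p = P.smul g' p → g = g' := by
    intro V p g g' h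
    obtain ⟨g₀, -, hu⟩ := hpt V p (P.smul g p)
    rw [hu g rfl, hu g' h.symm]
  have hmapcomp : ∀ {X Y Z : Cᵒᵖ} (f : X ⟶ Y) (g : Y ⟶ Z) (p : P.P.obj.obj X),
      P.P.obj.map g (P.P.obj.map f p) = P.P.obj.map (f ≫ g) p := by
    intro X Y Z f g p
    rw [Functor.map_comp]
    rfl
  have s : ∀ i, P.P.obj.obj (Opposite.op (U i)) := fun i => (hP i).some
  -- the cocycle attached to a family of sections
  have hex : ∀ (t : ∀ i, P.P.obj.obj (Opposite.op (U i))),
      ∃ γ : PresheafOfGroups.OneCocycle G.obj U, P.IsCocycleOf U t γ := by
    intro t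
    choose ev hev huniq using fun (i j : I) (T : C) (a : T ⟶ U i) (b : T ⟶ U j) =>
      hpt (Opposite.op T) (P.P.obj.map b.op (t j)) (P.P.obj.map a.op (t i))
    refine ⟨{ ev := fun i j T a b => ev i j T a b
              ev_precomp := ?_
              ev_trans := ?_ }, ?_⟩
    · intro i j T T' φ a b
      apply huniq
      have := congrArg (P.P.obj.map φ.op) (hev i j T' a b)
      rw [P.map_smul, hmapcomp, hmapcomp] at this
      simpa using this
    · intro i j k T a b c
      apply huniq
      rw [P.mul_smul, hev, hev]
    · intro i j T a b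
      exact hev i j T a b
  obtain ⟨γ₀, hγ₀⟩ := hex s
  refine ⟨γ₀.class, ⟨s, γ₀, hγ₀, rfl⟩, ?_⟩
  rintro c ⟨t, γ, hγ, rfl⟩
  rw [PresheafOfGroups.OneCocycle.class_eq_iff]
  -- the zero cochain comparing the two families of sections
  choose α hα hαu using fun i => hpt (Opposite.op (U i)) (t i) (s i)
  refine ⟨α, ?_⟩
  intro i j T a b
  apply hfree (Opposite.op T) (P.P.obj.map b.op (t j))
  rw [P.mul_smul, P.mul_smul, hγ i j a b, ← P.map_smul, hα, ← P.map_smul, hα, hγ₀ i j a b]

end Groth.Agent.S16272
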