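import Groth.Statements.S16288
import Mathlib
import Groth.Agent.H12.DRank
-- import your own Groth.Agent.* helpers here

set_option autoImplicit false
universe u
open CategoryTheory
open FlatCx

namespace Groth.Agent.S16288

open Groth.Agent.H12 Groth.Agent.H12.TCx in
/-- the fibre dimension of the cokernel of `d : P_i → P_j`. -/
noncomputable def C {A : Type u} [CommRing A] (P : ChainComplex (ModuleCat.{u} A) ℤ) (i j : ℤ)
    (x : PrimeSpectrum A) : ℕ :=
  fibDim (P.X j ⧸ LinearMap.range (P.d i j).hom) x

open Groth.Agent.H12 Groth.Agent.H12.TCx in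
/-- the fibre dimension of the term `P_j`. -/
noncomputable def R {A : Type u} [CommRing A] (P : ChainComplex (ModuleCat.{u} A) ℤ) (j : ℤ)
    (x : PrimeSpectrum A) : ℕ :=
  fibDim (P.X j) x

open Groth.Agent.H12 Groth.Agent.H12.TCx in
theorem key {A : Type u} [CommRing A] (P : ChainComplex (ModuleCat.{u} A) ℤ)
    (hfin : ∀ i, Module.Finite A (P.X i)) (q : ℤ) (x : PrimeSpectrum A) :
    CohIII.dRank P q x + R P (q - 1) x = C P (q + 1) q x + C P q (q - 1) x := by
  have h := Groth.Agent.H12.DRank.finrank_homology_add x.asIdeal.ResidueField P q hfin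
  have hn : (ComplexShape.down ℤ).next q = q - 1 :=
    (ComplexShape.down ℤ).next_eq' (by simp)
  have hp : (ComplexShape.down ℤ).prev q = q + 1 :=
    (ComplexShape.down ℤ).prev_eq' (by simp)
  have h' : CohIII.dRank P q x + R P ((ComplexShape.down ℤ).next q) x =
      C P ((ComplexShape.down ℤ).prev q) q x + C P q ((ComplexShape.down ℤ).next q) x := h
  rw [hn, hp] at h'
  exact h'

open Groth.Agent.H12 in
theorem eventually_C_le {A : Type u} [CommRing A] (P : ChainComplex (ModuleCat.{u} A) ℤ)
    (hfin : ∀ i, Module.Finite A (P.X i)) (i j : ℤ) (z : PrimeSpectrum A) :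
    ∀ᶠ x in nhds z, C P i j x ≤ C P i j z := by
  have := hfin j
  exact eventually_fibDim_le (P.X j ⧸ LinearMap.range (P.d i j).hom) z

open Groth.Agent.H12 in
theorem eventually_R_eq {A : Type u} [CommRing A] [IsNoetherianRing A]
    (P : ChainComplex (ModuleCat.{u} A) ℤ)
    (hP : ∀ i, Module.Finite A (P.X i) ∧ Module.Flat A (P.X i)) (j : ℤ) (z : PrimeSpectrum A) :
    ∀ᶠ x in nhds z, R P j x = R P j z := by
  have : Module.Finite A (P.X j) := (hP j).1
  have : Module.Flat A (P.X j) := (hP j).2
  have : Module.FinitePresentation A (P.X j) := Module.finitePresentation_of_finite A _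
  have hloc : ∀ x : PrimeSpectrum A, R P j x = Module.rankAtStalk (P.X j) x :=
    fun x => (Module.rankAtStalk_eq x).symm
  have h3 := (Module.isLocallyConstant_rankAtStalk (R := A) (M := P.X j)).eventually_eq z
  filter_upwards [h3] with x hx
  rw [hloc, hloc, hx]

/-- Let A be a Noetherian ring and P a chain complex of finitely generated flat A-modules, and for p and
a point x of Spec A let d_p(x) = dim_{k(x)} H_p(P ⊗_A k(x)). Fix p and a point z. If d_{p-1} and
d_{p+1} are constant on some neighbourhood of z, then d_p is constant on some neighbourhood of z.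
(The published assertion concerns the function y ↦ dim H^p(X_y, F_y) for a coherent sheaf F flat
over a projective morphism of Noetherian schemes X → Y: if it is not constant near a point, then the
functions for p - 1 and p + 1 are not both constant near that point. Stated here is the
corresponding property for any chain complex of finitely generated flat modules over a Noetherian
ring, from which the published form follows by applying it to a finite complex of such modules
computing the cohomology of the fibres.) -/
theorem result {A : Type u} [CommRing A] [IsNoetherianRing A]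
    (P : ChainComplex (ModuleCat.{u} A) ℤ) (hP : ∀ i, Module.Finite A (P.X i) ∧ Module.Flat A (P.X i))
    (p : ℤ) (z : PrimeSpectrum A)
    (hlo : ∀ᶠ x in nhds z, CohIII.dRank P (p - 1) x = CohIII.dRank P (p - 1) z)
    (hhi : ∀ᶠ x in nhds z, CohIII.dRank P (p + 1) x = CohIII.dRank P (p + 1) z) :
    ∀ᶠ x in nhds z, CohIII.dRank P p x = CohIII.dRank P p z := by
  have hfin : ∀ i, Module.Finite A (P.X i) := fun i => (hP i).1
  have k0 := key P hfin p
  have k1 := key P hfin (p + 1)
  have k2 := key P hfin (p - 1)
  rw [add_sub_cancel_right] at k1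
  rw [sub_add_cancel] at k2
  filter_upwards [hlo, hhi, eventually_C_le P hfin (p + 1 + 1) (p + 1) z,
    eventually_C_le P hfin (p + 1) p z, eventually_C_le P hfin p (p - 1) z,
    eventually_C_le P hfin (p - 1) (p - 1 - 1) z,
    eventually_R_eq P hP p z, eventually_R_eq P hP (p - 1) z,
    eventually_R_eq P hP (p - 1 - 1) z] with x h1 h2 c1 c2 c3 c4 r1 r2 r3
  have a0 := k0 x
  have b0 := k0 z
  have a1 := k1 x
  have b1 := k1 z
  have a2 := k2 x
  have b2 := k2 z
  omega

end Groth.Agent.S16288
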