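import Groth.Statements.S1630
import Mathlib.AlgebraicGeometry.Morphisms.UnderlyingMap

set_option autoImplicit false
universe u
open CategoryTheory CategoryTheory.Limits AlgebraicGeometry
open Variety

namespace Groth.Agent.S1630


lemma irreducibleSpace_of_open_cover {Z : Type u} [TopologicalSpace Z] {ι : Type u} [Nonempty ι]
    (W : ι → Set Z) (hopen : ∀ i, IsOpen (W i)) (hcov : ⋃ i, W i = Set.univ)
    (hirr : ∀ i, IsIrreducible (W i)) (hmeet : ∀ i j, (W i ∩ W j).Nonempty) :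
    IrreducibleSpace Z := by
  have hne : Nonempty Z := by
    obtain ⟨i⟩ := (inferInstance : Nonempty ι)
    obtain ⟨z, -⟩ := (hirr i).nonempty
    exact ⟨z⟩
  refine { toNonempty := hne, isPreirreducible_univ := ?_ }
  rintro A B hA hB ⟨a, -, haA⟩ ⟨b, -, hbB⟩
  have ha : a ∈ ⋃ i, W i := hcov ▸ Set.mem_univ a
  have hb : b ∈ ⋃ i, W i := hcov ▸ Set.mem_univ b
  obtain ⟨i, hai⟩ := Set.mem_iUnion.1 ha
  obtain ⟨j, hbj⟩ := Set.mem_iUnion.1 hb
  -- in W i: A and W j meet
  obtain ⟨c, hci, hcA, hcj⟩ := (hirr i).2 A (W j) hA (hopen j) ⟨a, hai, haA⟩ (hmeet i j)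
  obtain ⟨d, hdj, hdA, hdB⟩ := (hirr j).2 A B hA hB ⟨c, hcj, hcA⟩ ⟨b, hbj, hbB⟩
  exact ⟨d, Set.mem_univ d, hdA, hdB⟩

/-- Let X be a scheme over k. If X has a cover by a nonempty family of open subschemes, each
geometrically irreducible over k and any two of which meet, then X is geometrically irreducible over
k. -/
theorem result (k : Type u) [Field k] (X : Scheme.{u}) [X.Over (Spec (CommRingCat.of k))]
    (ι : Type u) (U : ι → X.Opens) (hne : Nonempty ι) (hcov : (⨆ i, U i) = ⊤)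
    (hmeet : ∀ i j, ((U i : Set X) ∩ (U j : Set X)).Nonempty)
    (hU : ∀ i, GeometricallyIrreducible ((U i).ι ≫ (X ↘ (Spec (CommRingCat.of k))))) : GeometricallyIrreducible (X ↘ (Spec (CommRingCat.of k))) := by
  refine ⟨fun K _ y Z fst snd h => ?_⟩
  -- `fst` is surjective
  have hysurj : Surjective y := by
    refine ⟨fun p => ?_⟩
    obtain ⟨q⟩ := (inferInstance : Nonempty (Spec (CommRingCat.of K)))
    exact ⟨q, Subsingleton.elim _ _⟩
  have hfst : Surjective fst := MorphismProperty.of_isPullback h.flip hysurj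
  let W : ι → Set Z := fun i => ((fst ⁻¹ᵁ (U i) : Z.Opens) : Set Z)
  have hirr : ∀ i, IsIrreducible (W i) := by
    intro i
    have hpb : IsPullback (fst ∣_ (U i)) ((fst ⁻¹ᵁ (U i)).ι ≫ snd)
        ((U i).ι ≫ (X ↘ (Spec (CommRingCat.of k)))) y :=
      (isPullback_morphismRestrict fst (U i)).paste_vert h
    have : IrreducibleSpace ((fst ⁻¹ᵁ (U i) : Z.Opens)) :=
      (hU i).geometrically_irreducibleSpace y _ _ hpb
    exact isIrreducible_iff_irreducibleSpace.2 this
  have := irreducibleSpace_of_open_cover W (fun i => (fst ⁻¹ᵁ (U i)).isOpen) ?_ hirr ?_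
  · exact this
  · rw [Set.eq_univ_iff_forall]
    intro z
    have : fst z ∈ (⨆ i, U i : X.Opens) := hcov ▸ trivial
    obtain ⟨i, hi⟩ := TopologicalSpace.Opens.mem_iSup.1 this
    exact Set.mem_iUnion.2 ⟨i, hi⟩
  · intro i j
    obtain ⟨x, hxi, hxj⟩ := hmeet i j
    obtain ⟨z, rfl⟩ := hfst.surj x
    exact ⟨z, hxi, hxj⟩

end Groth.Agent.S1630
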