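import Groth.Statements.S16312
import Mathlib
-- import your own Groth.Agent.* helpers here

set_option autoImplicit false
universe u
open W4c3irrattreebun

namespace Groth.Agent.S16312

/-- Let N be a closed cone in real n-space, f a function continuous on N, positive at the nonzero points
of N and homogeneous of degree one under scaling by nonnegative reals, and Λ a discrete additive
subgroup. Then for every real c the set of points H of Λ lying in N with f(H) ≤ c is finite. (The
published statement takes Λ to be a lattice; this row allows any discrete additive subgroup.) -/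
theorem result (n : ℕ)
    (N : Set (EuclideanSpace ℝ (Fin n))) (hN : IsClosed N)
    (hcone : ∀ x ∈ N, ∀ r : ℝ, 0 ≤ r → r • x ∈ N)
    (f : EuclideanSpace ℝ (Fin n) → ℝ) (hf : ContinuousOn f N)
    (hpos : ∀ x ∈ N, x ≠ 0 → 0 < f x)
    (hhom : ∀ x ∈ N, ∀ r : ℝ, 0 ≤ r → f (r • x) = r * f x)
    (Λ : Submodule ℤ (EuclideanSpace ℝ (Fin n))) [DiscreteTopology Λ] (c : ℝ) :
    ({x : EuclideanSpace ℝ (Fin n) | x ∈ N ∧ f x ≤ c} ∩ (Λ : Set (EuclideanSpace ℝ (Fin n)))).Finite := by
  classical
  have HΛ : IsClosed (X := EuclideanSpace ℝ (Fin n)) Λ := @AddSubgroup.isClosed_of_discrete _ _ _ _ _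
    Λ.toAddSubgroup (inferInstanceAs (DiscreteTopology Λ))
  have hdisc : IsDiscrete (Λ : Set (EuclideanSpace ℝ (Fin n))) := DiscreteTopology.isDiscrete
  -- it suffices to bound the norm
  suffices hbd : ∃ R : ℝ, ∀ x ∈ N, f x ≤ c → ‖x‖ ≤ R by
    obtain ⟨R, hR⟩ := hbd
    refine (Metric.finite_isBounded_inter_isClosed hdisc
      (Metric.isBounded_closedBall (x := (0 : EuclideanSpace ℝ (Fin n))) (r := R)) HΛ).subset ?_
    rintro x ⟨⟨hxN, hxc⟩, hxΛ⟩
    exact ⟨by simpa using hR x hxN hxc, hxΛ⟩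
  -- the compact set `N ∩ sphere`
  set K := N ∩ Metric.sphere (0 : EuclideanSpace ℝ (Fin n)) 1 with hK
  have hKc : IsCompact K := (isCompact_sphere _ _).inter_left hN
  rcases K.eq_empty_or_nonempty with hKe | hKne
  · -- then `N ⊆ {0}`
    refine ⟨0, fun x hxN _ => ?_⟩
    by_contra hx
    have hx0 : x ≠ 0 := by
      intro h; apply hx; simp [h]
    have hnorm : 0 < ‖x‖ := norm_pos_iff.mpr hx0
    have : (‖x‖⁻¹ • x) ∈ K := by
      refine ⟨hcone x hxN _ (inv_nonneg.mpr hnorm.le), ?_⟩
      simp [norm_smul, hnorm.ne']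
    rw [hKe] at this
    exact this
  · obtain ⟨y, hyK, hymin⟩ := hKc.exists_isMinOn hKne (hf.mono Set.inter_subset_left)
    have hy0 : y ≠ 0 := by
      intro h
      have : ‖y‖ = 1 := by simpa using hyK.2
      rw [h, norm_zero] at this
      exact zero_ne_one this
    have hm : 0 < f y := hpos y hyK.1 hy0
    refine ⟨c / f y, fun x hxN hxc => ?_⟩
    rcases eq_or_ne x 0 with rfl | hx0
    · rw [norm_zero]
      have h0 : f (0 : EuclideanSpace ℝ (Fin n)) = 0 := by
        have := hhom 0 hxN 0 le_rfl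
        simpa using this
      rw [h0] at hxc
      exact div_nonneg hxc hm.le
    · have hnorm : 0 < ‖x‖ := norm_pos_iff.mpr hx0
      have hxK : (‖x‖⁻¹ • x) ∈ K := by
        refine ⟨hcone x hxN _ (inv_nonneg.mpr hnorm.le), ?_⟩
        simp [norm_smul, hnorm.ne']
      have h1 : f y ≤ f (‖x‖⁻¹ • x) := hymin hxK
      rw [hhom x hxN _ (inv_nonneg.mpr hnorm.le)] at h1
      rw [le_div_iff₀ hm]
      have h2 : ‖x‖ * f y ≤ ‖x‖ * (‖x‖⁻¹ * f x) := mul_le_mul_of_nonneg_left h1 hnorm.le
      rw [← mul_assoc, mul_inv_cancel₀ hnorm.ne', one_mul] at h2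
      exact h2.trans hxc

end Groth.Agent.S16312
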