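import Groth.Statements.S16325
import Mathlib
import Groth.Agent.H81.Chain

set_option autoImplicit false
universe u v
open CategoryTheory
open W4c3biextchow

namespace Groth.Agent.S16325

/-- Let f : C ⟶ D be a chain map of ℕ-indexed chain complexes of modules over a ring R, and consider the
functor it induces between the groupoids attached to C and D (objects: degree-0 elements; morphisms
a ⟶ b: degree-1 elements with boundary b - a, modulo boundaries of degree-2 elements). This functor
is faithful if and only if f is injective on homology in degree 1. (The published statement is for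
complexes of abelian groups; this row allows modules over any ring R.) -/
theorem result
    (R : Type u) [Ring R] (C D : ChainComplex (ModuleCat.{v} R) ℕ) (f : C ⟶ D) :
    (W4c3biextchow.cxFunctor f).Faithful ↔ Mono (HomologicalComplex.homologyMap f 1) := by
  rw [Groth.Agent.H81.mono_homologyMap_iff f 2 1 0 (ChainComplex.prev ℕ 1) (by simp)]
  constructor
  · intro hF x hx ⟨y, hy⟩
    let a : Obj C := ⟨0⟩
    let φ : a ⟶ a := ⟨Submodule.Quotient.mk x, by simp [a, hx]⟩
    have hφ : (cxFunctor f).map φ = (cxFunctor f).map (𝟙 a) := by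
      apply Hom.ext
      rw [cxFunctor_map_cl, cxFunctor_map_cl]
      change q1Map f (Submodule.Quotient.mk x) = q1Map f 0
      rw [q1Map_mk, map_zero, hy, Submodule.Quotient.mk_eq_zero]
      exact ⟨y, rfl⟩
    have h := hF.map_injective hφ
    have h2 : (Submodule.Quotient.mk x : Q1 C) = 0 := congrArg Hom.cl h
    rw [Submodule.Quotient.mk_eq_zero] at h2
    obtain ⟨x₁, hx₁⟩ := h2
    exact ⟨x₁, hx₁.symm⟩
  · intro H
    refine ⟨?_⟩
    intro a b φ ψ hφψ
    have h1 : q1Map f (φ : Hom C a b).cl = q1Map f (ψ : Hom C a b).cl := congrArg Hom.cl hφψ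
    apply Hom.ext
    obtain ⟨u, hu⟩ := Submodule.Quotient.mk_surjective _ (φ : Hom C a b).cl
    obtain ⟨w, hw⟩ := Submodule.Quotient.mk_surjective _ (ψ : Hom C a b).cl
    have hdu : (C.d 1 0).hom u = b.pt - a.pt := by
      rw [← delta_mk, hu]; exact (φ : Hom C a b).delta_cl
    have hdw : (C.d 1 0).hom w = b.pt - a.pt := by
      rw [← delta_mk, hw]; exact (ψ : Hom C a b).delta_cl
    rw [← hu, ← hw, q1Map_mk, q1Map_mk, Submodule.Quotient.eq] at h1
    obtain ⟨y, hy⟩ := h1
    obtain ⟨x₁, hx₁⟩ := H (u - w) (by rw [map_sub, hdu, hdw, sub_self]) ⟨y, by rw [map_sub, hy]⟩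
    rw [← hu, ← hw, Submodule.Quotient.eq]
    exact ⟨x₁, hx₁.symm⟩

end Groth.Agent.S16325
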