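import Groth.Statements.S16326
import Mathlib
import Groth.Agent.H81.Chain

set_option autoImplicit false
universe u v
open CategoryTheory
open W4c3biextchow

namespace Groth.Agent.S16326

/-- Let f : C ⟶ D be a chain map of ℕ-indexed chain complexes of modules over a ring R, and consider the
functor it induces between the groupoids attached to C and D (objects: degree-0 elements; morphisms
a ⟶ b: degree-1 elements with boundary b - a, modulo boundaries of degree-2 elements). This functor
is full if and only if f is surjective on homology in degree 1 and injective on homology in degree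
0. (The published statement is for complexes of abelian groups; this row allows modules over any
ring R.) -/
theorem result
    (R : Type u) [Ring R] (C D : ChainComplex (ModuleCat.{v} R) ℕ) (f : C ⟶ D) :
    (W4c3biextchow.cxFunctor f).Full ↔
      Epi (HomologicalComplex.homologyMap f 1) ∧ Mono (HomologicalComplex.homologyMap f 0) := by
  rw [Groth.Agent.H81.epi_homologyMap_iff f 2 1 0 (ChainComplex.prev ℕ 1) (by simp),
    Groth.Agent.H81.mono_homologyMap_iff f 1 0 0 (ChainComplex.prev ℕ 0) (by simp)]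
  have hcomm : ∀ x : C.X 1, (f.f 0).hom ((C.d 1 0).hom x) = (D.d 1 0).hom ((f.f 1).hom x) := by
    intro x
    have h := congrArg (fun φ => φ.hom x) (f.comm 1 0)
    simpa only [ModuleCat.hom_comp, LinearMap.comp_apply] using h.symm
  constructor
  · intro hF
    constructor
    · intro y hy
      let a : Obj C := ⟨0⟩
      let ψ : (cxFunctor f).obj a ⟶ (cxFunctor f).obj a :=
        ⟨Submodule.Quotient.mk y, by rw [delta_mk, hy, sub_self]⟩
      obtain ⟨φ, hφ⟩ := hF.map_surjective ψ
      obtain ⟨x, hx⟩ := Submodule.Quotient.mk_surjective _ (φ : Hom C a a).cl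
      have hdx : (C.d 1 0).hom x = 0 := by
        rw [← delta_mk, hx, (φ : Hom C a a).delta_cl, sub_self]
      have h1 : q1Map f (φ : Hom C a a).cl = Submodule.Quotient.mk y := congrArg Hom.cl hφ
      rw [← hx, q1Map_mk, Submodule.Quotient.eq] at h1
      obtain ⟨y₁, hy₁⟩ := h1
      refine ⟨x, hdx, -y₁, ?_⟩
      rw [map_neg, hy₁]; abel
    · intro x _ ⟨y, hy⟩
      let a : Obj C := ⟨0⟩
      let b : Obj C := ⟨x⟩
      let ψ : (cxFunctor f).obj a ⟶ (cxFunctor f).obj b :=
        ⟨Submodule.Quotient.mk y, by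
          rw [delta_mk, cxFunctor_obj_pt, cxFunctor_obj_pt, ← hy]; simp [a, b]⟩
      obtain ⟨φ, _⟩ := hF.map_surjective ψ
      obtain ⟨x₁, hx₁⟩ := Submodule.Quotient.mk_surjective _ (φ : Hom C a b).cl
      refine ⟨x₁, ?_⟩
      rw [← delta_mk, hx₁, (φ : Hom C a b).delta_cl]
      simp [a, b]
  · rintro ⟨hE, hM⟩
    refine ⟨?_⟩
    intro a b ψ
    obtain ⟨y, hy⟩ := Submodule.Quotient.mk_surjective _ (ψ : Hom D _ _).cl
    have hdy : (D.d 1 0).hom y = (f.f 0).hom (b.pt - a.pt) := by
      rw [← delta_mk, hy, (ψ : Hom D _ _).delta_cl, map_sub]; rfl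
    obtain ⟨x₁, hx₁⟩ := hM (b.pt - a.pt) (by rw [C.shape 0 0 (by simp)]; rfl) ⟨y, hdy.symm⟩
    obtain ⟨x, hx, y₁, hy₁⟩ := hE (y - (f.f 1).hom x₁) (by
      rw [map_sub, ← hcomm, ← hx₁, hdy, sub_self])
    refine ⟨⟨Submodule.Quotient.mk (x₁ + x), ?_⟩, ?_⟩
    · rw [delta_mk, map_add, hx, add_zero, ← hx₁]
    · apply Hom.ext
      rw [cxFunctor_map_cl]
      change q1Map f (Submodule.Quotient.mk (x₁ + x)) = _
      rw [q1Map_mk, ← hy, Submodule.Quotient.eq]
      refine ⟨-y₁, ?_⟩
      have : y = (f.f 1).hom x₁ + ((f.f 1).hom x + (D.d 2 1).hom y₁) := by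
        rw [← hy₁]; abel
      rw [map_neg, map_add]
      nth_rewrite 1 [this]
      abel

end Groth.Agent.S16326
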