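import Groth.Statements.S16327
import Mathlib
import Groth.Agent.H81.Chain

set_option autoImplicit false
universe u v
open CategoryTheory
open W4c3biextchow

namespace Groth.Agent.S16327

/-- Let f : C ⟶ D be a chain map of ℕ-indexed chain complexes of modules over a ring R, and consider the
functor it induces between the groupoids attached to C and D (objects: degree-0 elements; morphisms
a ⟶ b: degree-1 elements with boundary b - a, modulo boundaries of degree-2 elements). This functor
is essentially surjective if and only if f is surjective on homology in degree 0. (The published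
statement is for complexes of abelian groups; this row allows modules over any ring R.) -/
theorem result
    (R : Type u) [Ring R] (C D : ChainComplex (ModuleCat.{v} R) ℕ) (f : C ⟶ D) :
    (W4c3biextchow.cxFunctor f).EssSurj ↔ Epi (HomologicalComplex.homologyMap f 0) := by
  rw [Groth.Agent.H81.epi_homologyMap_iff f 1 0 0 (ChainComplex.prev ℕ 0) (by simp)]
  constructor
  · intro hF y _
    obtain ⟨X, ⟨e⟩⟩ := hF.mem_essImage (⟨y⟩ : Obj D)
    obtain ⟨u, hu⟩ := Submodule.Quotient.mk_surjective _ (e.hom : Hom D _ _).cl
    have hdu : (D.d 1 0).hom u = y - (f.f 0).hom X.pt := by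
      rw [← delta_mk, hu]; exact (e.hom : Hom D _ _).delta_cl
    refine ⟨X.pt, ?_, u, ?_⟩
    · rw [C.shape 0 0 (by simp)]; rfl
    · rw [hdu]; abel
  · intro H
    refine ⟨?_⟩
    intro Y
    obtain ⟨x, _, y₁, hy₁⟩ := H Y.pt (by rw [D.shape 0 0 (by simp)]; rfl)
    refine ⟨⟨x⟩, ⟨?_⟩⟩
    refine ⟨⟨Submodule.Quotient.mk y₁, ?_⟩, ⟨-Submodule.Quotient.mk y₁, ?_⟩, ?_, ?_⟩
    · rw [delta_mk, cxFunctor_obj_pt, hy₁]; abel
    · rw [map_neg, delta_mk, cxFunctor_obj_pt, hy₁]; abel
    · apply Hom.ext
      rw [comp_cl, id_cl]
      exact add_neg_cancel _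
    · apply Hom.ext
      rw [comp_cl, id_cl]
      exact neg_add_cancel _

end Groth.Agent.S16327
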