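import Groth.Statements.S16335
import Mathlib
-- import your own Groth.Agent.* helpers here

set_option autoImplicit false
universe u v w w'
open TensorProduct
open InvTh

namespace Groth.Agent.S16335

/-- Let `R` be a commutative ring with an action of a finite group `Γ` by ring automorphisms such that
the order of `Γ` is invertible in `R`, and let `A → R` be injective with image exactly the
invariants `R^Γ`, the action being `A`-linear. Then for every commutative `A`-algebra `S`, with `Γ`
acting on `S ⊗_A R` through the factor `R`, the map `S → S ⊗_A R`, `s ↦ s ⊗ 1`, is injective and its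
image is exactly the set of `Γ`-fixed elements: `S ≅ (S ⊗_A R)^Γ`. No flatness of `S` over `A` is
assumed; the invertibility of the order of `Γ` replaces it. This is the affine statement that for a
tame quotient the coarse space commutes with arbitrary base change. (The published lemma is the
statement that the coarse moduli space of a tame Deligne–Mumford stack commutes with arbitrary base
change, whose proof reduces to this ring statement. The published lemma also asserts the analogous
statement for the reduced fibre product when the base-change scheme is reduced; that clause is not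
part of this row.) -/
theorem result
    (A : Type u) [CommRing A] (R : Type v) [CommRing R] [Algebra A R]
    (Γ : Type w) [Group Γ] [Finite Γ] [MulSemiringAction Γ R] [SMulCommClass Γ A R]
    [Algebra.IsInvariant A R Γ] (hinj : Function.Injective (algebraMap A R))
    (hΓ : IsUnit (Nat.card Γ : R))
    (S : Type w') [CommRing S] [Algebra A S] :
    Function.Injective (fun s : S => s ⊗ₜ[A] (1 : R)) ∧
      ∀ x : S ⊗[A] R,
        (∀ γ : Γ, Algebra.TensorProduct.map (AlgHom.id A S) (MulSemiringAction.toAlgHom A R γ) x = x) →
          x ∈ Set.range (fun s : S => s ⊗ₜ[A] (1 : R)) := by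
  classical
  have := Fintype.ofFinite Γ
  obtain ⟨c, hc⟩ := hΓ.exists_left_inv
  -- the averaging operator
  let sm : R →ₗ[A] R := ∑ g : Γ, (MulSemiringAction.toAlgHom A R g).toLinearMap
  let e : R →ₗ[A] R := (LinearMap.mulLeft A c) ∘ₗ sm
  have hsm : ∀ r, sm r = ∑ g : Γ, g • r := by
    intro r
    simp only [sm, LinearMap.sum_apply]
    rfl
  have he : ∀ r, e r = c * ∑ g : Γ, g • r := by
    intro r
    simp only [e, LinearMap.comp_apply, hsm]
    rfl
  have hcfix : ∀ γ : Γ, γ • c = c := by
    intro γ
    have h1 : γ • c * (Nat.card Γ : R) = 1 := by
      have := congrArg (MulSemiringAction.toRingHom Γ R γ) hc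
      rw [map_mul, map_natCast, map_one] at this
      exact this
    calc γ • c = γ • c * (c * (Nat.card Γ : R)) := by rw [hc, mul_one]
      _ = (γ • c * (Nat.card Γ : R)) * c := by ring
      _ = c := by rw [h1, one_mul]
  have hefix : ∀ r (γ : Γ), γ • e r = e r := by
    intro r γ
    rw [he, smul_mul', hcfix, Finset.smul_sum]
    congr 1
    exact Fintype.sum_equiv (Equiv.mulLeft γ) _ _ (fun x => by simp [mul_smul])
  have hex : ∀ r, ∃ a : A, algebraMap A R a = e r := fun r =>
    Algebra.IsInvariant.isInvariant (A := A) (B := R) (G := Γ) (e r) (hefix r)
  have he1 : e 1 = 1 := by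
    rw [he]
    simp only [smul_one, Finset.sum_const, Finset.card_univ, ← Nat.card_eq_fintype_card,
      nsmul_eq_mul, mul_one]
    exact hc
  choose ρ hρ using hex
  let ρl : R →ₗ[A] A :=
    { toFun := ρ
      map_add' := fun r s => hinj (by rw [map_add, hρ, hρ, hρ, map_add])
      map_smul' := fun a r => hinj (by
        rw [hρ, map_smul, RingHom.id_apply, Algebra.smul_def, Algebra.smul_def, map_mul, hρ]
        rfl) }
  have hρ1 : ρ 1 = 1 := hinj (by rw [hρ, he1, map_one])
  refine ⟨?_, ?_⟩
  · -- injectivity via the retraction
    intro s s' hss
    have key : ∀ t : S, (TensorProduct.rid A S) (LinearMap.lTensor S ρl (t ⊗ₜ[A] (1 : R))) = t := by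
      intro t
      simp only [LinearMap.lTensor_tmul, TensorProduct.rid_tmul]
      change ρ 1 • t = t
      rw [hρ1, one_smul]
    have := congrArg (fun y => (TensorProduct.rid A S) (LinearMap.lTensor S ρl y)) hss
    simpa only [key] using this
  · intro x hx
    -- `lTensor S e x = x`
    have h1 : LinearMap.lTensor S e x = x := by
      have hcomp : e = (LinearMap.mulLeft A c) ∘ₗ sm := rfl
      rw [hcomp, LinearMap.lTensor_comp, LinearMap.comp_apply]
      have hlt : ∀ g : Γ, LinearMap.lTensor S (MulSemiringAction.toAlgHom A R g).toLinearMap =
          (Algebra.TensorProduct.map (AlgHom.id A S) (MulSemiringAction.toAlgHom A R g)).toLinearMap := by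
        intro g
        refine TensorProduct.ext' (fun s r => ?_)
        simp
      have h2 : LinearMap.lTensor S sm x = (Nat.card Γ : ℕ) • x := by
        have : LinearMap.lTensor S sm =
            ∑ g : Γ, LinearMap.lTensor S (MulSemiringAction.toAlgHom A R g).toLinearMap := by
          rw [← LinearMap.coe_lTensorHom (R := A)]
          exact map_sum _ _ _
        rw [this, LinearMap.sum_apply]
        have : ∀ g : Γ, LinearMap.lTensor S (MulSemiringAction.toAlgHom A R g).toLinearMap x = x := by
          intro g
          rw [hlt]
          exact hx g
        simp only [this, Finset.sum_const, Finset.card_univ, Nat.card_eq_fintype_card]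
      rw [h2, map_nsmul, ← Nat.cast_smul_eq_nsmul A, ← LinearMap.smul_apply,
        ← LinearMap.lTensor_smul]
      have : ((Nat.card Γ : ℕ) : A) • LinearMap.mulLeft A c = LinearMap.id := by
        refine LinearMap.ext (fun r => ?_)
        rw [LinearMap.smul_apply, LinearMap.mulLeft_apply, LinearMap.id_apply, Algebra.smul_def,
          map_natCast, ← mul_assoc, mul_comm _ c, hc, one_mul]
      rw [this, LinearMap.lTensor_id, LinearMap.id_apply]
    rw [← h1]
    -- now everything in the range
    have h3 : ∀ y : S ⊗[A] R, LinearMap.lTensor S e y ∈ Set.range (fun s : S => s ⊗ₜ[A] (1 : R)) := by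
      intro y
      induction y using TensorProduct.induction_on with
      | zero => exact ⟨0, by simp⟩
      | tmul s r =>
        refine ⟨ρ r • s, ?_⟩
        simp only [LinearMap.lTensor_tmul]
        rw [← hρ r, TensorProduct.smul_tmul, Algebra.smul_def, mul_one]
      | add y z hy hz =>
        obtain ⟨s, hs⟩ := hy
        obtain ⟨t, ht⟩ := hz
        refine ⟨s + t, ?_⟩
        simp only at hs ht ⊢
        rw [map_add, TensorProduct.add_tmul, hs, ht]
    exact h3 x

end Groth.Agent.S16335
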