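import Groth.Statements.S16337
import Mathlib
-- import your own Groth.Agent.* helpers here

set_option autoImplicit false
universe u v w
open InvTh

namespace Groth.Agent.S16337

/-- Let `A` be a commutative ring, `Γ` a finite group whose order is invertible in `A`, `M` an
`A`-module with an `A`-linear action of `Γ`, and `I` an ideal of `A`. Then reduction modulo `I`
induces a bijection `M^Γ / I·M^Γ ≅ (M / IM)^Γ`: (a) an element of `M` fixed by `Γ` modulo `IM` is
congruent modulo `IM` to a `Γ`-fixed element, and (b) a `Γ`-fixed element lying in `IM` lies in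
`I·M^Γ`, where `M^Γ` is the submodule of `Γ`-fixed elements. (The published lemma says that
push-forward to the coarse space of a tame stack over a complete local base commutes with reduction
modulo powers of the maximal ideal; this row is the module statement its proof establishes, for an
arbitrary ideal.) -/
theorem result
    (A : Type u) [CommRing A] (Γ : Type v) [Group Γ] [Finite Γ] (hΓ : IsUnit (Nat.card Γ : A))
    (M : Type w) [AddCommGroup M] [Module A M] [DistribMulAction Γ M] [SMulCommClass Γ A M]
    (I : Ideal A) :
    (∀ x : M, (∀ γ : Γ, γ • x - x ∈ I • (⊤ : Submodule A M)) →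
        ∃ y : M, (∀ γ : Γ, γ • y = y) ∧ x - y ∈ I • (⊤ : Submodule A M)) ∧
      ∀ y : M, (∀ γ : Γ, γ • y = y) → y ∈ I • (⊤ : Submodule A M) →
        y ∈ I • Submodule.span A {m : M | ∀ γ : Γ, γ • m = m} := by
  classical
  have := Fintype.ofFinite Γ
  obtain ⟨c, hc⟩ := hΓ.exists_left_inv
  have hcard : ∀ m : M, c • ∑ _γ : Γ, m = m := by
    intro m
    rw [Finset.sum_const, Finset.card_univ, ← Nat.card_eq_fintype_card,
      ← Nat.cast_smul_eq_nsmul A, smul_smul, hc, one_smul]
  have hfix : ∀ (m : M) (γ : Γ), γ • (c • ∑ g : Γ, g • m) = c • ∑ g : Γ, g • m := by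
    intro m γ
    rw [smul_comm, Finset.smul_sum]
    congr 1
    exact Fintype.sum_equiv (Equiv.mulLeft γ) _ _ (fun x => by simp [mul_smul])
  refine ⟨?_, ?_⟩
  · intro x hx
    refine ⟨c • ∑ g : Γ, g • x, hfix x, ?_⟩
    have : x - c • ∑ g : Γ, g • x = c • ∑ g : Γ, (x - g • x) := by
      rw [Finset.sum_sub_distrib, smul_sub, hcard]
    rw [this]
    refine Submodule.smul_mem _ _ (Submodule.sum_mem _ (fun g _ => ?_))
    have := Submodule.neg_mem _ (hx g)
    rwa [neg_sub] at this
  · intro y hy hyI
    let avg : M →ₗ[A] M :=
      c • ∑ g : Γ, (DistribSMul.toLinearMap A M g)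
    have havg : ∀ m, avg m = c • ∑ g : Γ, g • m := by
      intro m
      simp only [avg, LinearMap.smul_apply, LinearMap.sum_apply]
      rfl
    have hy' : avg y = y := by
      rw [havg]
      simp only [hy]
      exact hcard y
    have h1 : avg y ∈ Submodule.map avg (I • (⊤ : Submodule A M)) := Submodule.mem_map_of_mem hyI
    rw [Submodule.map_smul'', hy'] at h1
    refine Submodule.smul_mono le_rfl ?_ h1
    rintro _ ⟨m, -, rfl⟩
    refine Submodule.subset_span ?_
    intro γ
    simp only [havg]
    exact hfix m γ

end Groth.Agent.S16337
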