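import Groth.Statements.S16343
import Mathlib
-- import your own Groth.Agent.* helpers here

set_option autoImplicit false
open KatoHom

namespace Groth.Agent.S16343

lemma bezout_smul {M : Type*} [AddCommGroup M] (a b : ℕ) (h : Nat.Coprime a b) (t : M) :
    t = a • (Nat.gcdA a b • t) + b • (Nat.gcdB a b • t) := by
  have h1 : (1 : ℤ) = a * Nat.gcdA a b + b * Nat.gcdB a b := by
    have := Nat.gcd_eq_gcd_ab a b
    rw [Nat.Coprime.gcd_eq_one h] at this
    simpa using this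
  calc t = (1 : ℤ) • t := (one_zsmul t).symm
    _ = ((a : ℤ) * Nat.gcdA a b + b * Nat.gcdB a b) • t := by rw [← h1]
    _ = _ := by rw [add_smul, mul_smul, mul_smul, natCast_zsmul, natCast_zsmul]

/-- Let P be a set of primes and π : A → T a surjection of abelian groups whose kernel is ℓ-divisible
for every ℓ ∈ P, with T a torsion group; let T(P) be the subgroup of elements of T killed by a
positive integer all of whose prime factors lie in P, and T' the subgroup of elements killed by a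
positive integer none of whose prime factors lies in P. Then the preimage π⁻¹(T') is ℓ-divisible for
every ℓ ∈ P, and π has a section s over T(P) for which (d, t) ↦ d + s(t) is a bijection from π⁻¹(T')
× T(P) onto A, so that A is the direct sum of π⁻¹(T') and a copy of T(P). (The decomposition is
expressed through a section of π over T(P).) -/
theorem result
    {A T : Type*} [AddCommGroup A] [AddCommGroup T] (P : Set ℕ) (hP : ∀ p ∈ P, p.Prime)
    (π : A →+ T) (hπ : Function.Surjective π) (hT : ∀ t : T, ∃ n : ℕ, 0 < n ∧ n • t = 0)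
    (hD : ∀ ℓ ∈ P, ∀ x ∈ π.ker, ∃ y ∈ π.ker, ℓ • y = x)
    (TP T' : AddSubgroup T)
    (hTP : ∀ t, t ∈ TP ↔ ∃ n : ℕ, 0 < n ∧ (∀ p : ℕ, p.Prime → p ∣ n → p ∈ P) ∧ n • t = 0)
    (hT' : ∀ t, t ∈ T' ↔ ∃ n : ℕ, 0 < n ∧ (∀ p : ℕ, p.Prime → p ∣ n → p ∉ P) ∧ n • t = 0) :
    (∀ ℓ ∈ P, ∀ x ∈ T'.comap π, ∃ y ∈ T'.comap π, ℓ • y = x) ∧
    ∃ s : TP →+ A, (∀ t : TP, π (s t) = (t : T)) ∧
      Function.Bijective (fun q : (T'.comap π) × TP => (q.1 : A) + s q.2) := by
  classical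
  -- `P`-smooth and `P`-free positive integers
  let Sm : ℕ → Prop := fun n => 0 < n ∧ ∀ p : ℕ, p.Prime → p ∣ n → p ∈ P
  let Fr : ℕ → Prop := fun n => 0 < n ∧ ∀ p : ℕ, p.Prime → p ∣ n → p ∉ P
  have Sm_one : Sm 1 := ⟨Nat.one_pos, fun p hp h => absurd (Nat.dvd_one.mp h) hp.ne_one⟩
  have Sm_mul : ∀ a b, Sm a → Sm b → Sm (a * b) := by
    intro a b ha hb
    refine ⟨Nat.mul_pos ha.1 hb.1, fun p hp h => ?_⟩
    rcases (Nat.Prime.dvd_mul hp).mp h with h | h
    · exact ha.2 p hp h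
    · exact hb.2 p hp h
  have Sm_prime : ∀ ℓ ∈ P, Sm ℓ := fun ℓ hℓ =>
    ⟨(hP ℓ hℓ).pos, fun p hp hpl => by
      rw [(Nat.prime_dvd_prime_iff_eq hp (hP ℓ hℓ)).mp hpl]; exact hℓ⟩
  have cop : ∀ a b, Sm a → Fr b → Nat.Coprime a b := fun a b ha hb =>
    Nat.coprime_of_dvd (fun k hk hka hkb => hb.2 k hk hkb (ha.2 k hk hka))
  -- the kernel is divisible by smooth integers
  have Kdiv : ∀ n, Sm n → ∀ x ∈ π.ker, ∃ y ∈ π.ker, n • y = x := by
    intro n
    induction n using induction_on_primes with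
    | zero => intro h; exact absurd h.1 (lt_irrefl 0)
    | one => intro _ x hx; exact ⟨x, hx, one_smul _ x⟩
    | prime_mul p a hp ih =>
      intro h x hx
      have hpP : p ∈ P := h.2 p hp (dvd_mul_right p a)
      have ha : Sm a := ⟨Nat.pos_of_ne_zero (by rintro rfl; exact absurd h.1 (by simp)),
        fun q hq hqa => h.2 q hq (dvd_mul_of_dvd_right hqa p)⟩
      obtain ⟨y, hy, hyx⟩ := hD p hpP x hx
      obtain ⟨z, hz, hzy⟩ := ih ha y hy
      exact ⟨z, hz, by rw [mul_smul, hzy, hyx]⟩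
  -- first part
  have part1 : ∀ ℓ ∈ P, ∀ x ∈ T'.comap π, ∃ y ∈ T'.comap π, ℓ • y = x := by
    intro ℓ hℓ x hx
    rw [AddSubgroup.mem_comap] at hx
    obtain ⟨n', hn'0, hn'f, hn't⟩ := (hT' _).mp hx
    have hc : Nat.Coprime ℓ n' := cop ℓ n' (Sm_prime ℓ hℓ) ⟨hn'0, hn'f⟩
    have hb := bezout_smul ℓ n' hc x
    have hw : n' • (Nat.gcdB ℓ n' • x) ∈ π.ker := by
      rw [AddMonoidHom.mem_ker, map_nsmul, map_zsmul, smul_comm, hn't, smul_zero]
    obtain ⟨z, hz, hzw⟩ := hD ℓ hℓ _ hw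
    refine ⟨Nat.gcdA ℓ n' • x + z, ?_, ?_⟩
    · rw [AddSubgroup.mem_comap, map_add, map_zsmul, AddMonoidHom.mem_ker.mp hz, add_zero]
      exact T'.zsmul_mem hx _
    · rw [smul_add, hzw]
      exact hb.symm
  refine ⟨part1, ?_⟩
  -- decomposition of torsion elements
  have dec : ∀ n, 0 < n → ∀ t : T, n • t = 0 → ∃ t' ∈ T', ∃ t₁ ∈ TP, t = t' + t₁ := by
    intro n
    induction n using Nat.recOnPosPrimePosCoprime with
    | prime_pow p k hp hk =>
      intro _ t ht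
      by_cases hpP : p ∈ P
      · refine ⟨0, T'.zero_mem, t, (hTP t).mpr ⟨p ^ k, pow_pos hp.pos k, fun q hq hqd => ?_, ht⟩,
          (zero_add t).symm⟩
        rw [(Nat.prime_dvd_prime_iff_eq hq hp).mp (hq.dvd_of_dvd_pow hqd)]
        exact hpP
      · refine ⟨t, (hT' t).mpr ⟨p ^ k, pow_pos hp.pos k, fun q hq hqd => ?_, ht⟩, 0, TP.zero_mem,
          (add_zero t).symm⟩
        rw [(Nat.prime_dvd_prime_iff_eq hq hp).mp (hq.dvd_of_dvd_pow hqd)]
        exact hpP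
    | zero => intro h; exact absurd h (lt_irrefl 0)
    | one =>
      intro _ t ht
      rw [one_smul] at ht
      exact ⟨0, T'.zero_mem, 0, TP.zero_mem, by rw [ht, add_zero]⟩
    | coprime a b ha hb hab iha ihb =>
      intro _ t ht
      have hbz := bezout_smul a b hab t
      have h1 : b • (a • (Nat.gcdA a b • t)) = 0 := by
        rw [← mul_smul, mul_comm, smul_comm, ht, smul_zero]
      have h2 : a • (b • (Nat.gcdB a b • t)) = 0 := by
        rw [← mul_smul, smul_comm, ht, smul_zero]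
      obtain ⟨s', hs', s₁, hs₁, e1⟩ := ihb (by omega) _ h1
      obtain ⟨r', hr', r₁, hr₁, e2⟩ := iha (by omega) _ h2
      refine ⟨s' + r', T'.add_mem hs' hr', s₁ + r₁, TP.add_mem hs₁ hr₁, ?_⟩
      rw [hbz, e1, e2]
      abel
  have disj : ∀ t, t ∈ T' → t ∈ TP → t = 0 := by
    intro t h' hP'
    obtain ⟨n', hn'0, hn'f, hn't⟩ := (hT' t).mp h'
    obtain ⟨n, hn0, hns, hnt⟩ := (hTP t).mp hP'
    have hc := cop n n' ⟨hn0, hns⟩ ⟨hn'0, hn'f⟩
    have e1 : n • (Nat.gcdA n n' • t) = 0 := by rw [smul_comm, hnt, smul_zero]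
    have e2 : n' • (Nat.gcdB n n' • t) = 0 := by rw [smul_comm, hn't, smul_zero]
    rw [bezout_smul n n' hc t, e1, e2, add_zero]
  -- the `P`-primary torsion subgroup of `A`
  let AP : AddSubgroup A :=
    { carrier := {a | ∃ n, Sm n ∧ n • a = 0}
      zero_mem' := ⟨1, Sm_one, smul_zero _⟩
      add_mem' := by
        rintro a b ⟨n, hn, ha⟩ ⟨m, hm, hb⟩
        refine ⟨n * m, Sm_mul n m hn hm, ?_⟩
        have h1 : (n * m) • a = 0 := by rw [mul_comm, mul_smul, ha, smul_zero]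
        have h2 : (n * m) • b = 0 := by rw [mul_smul, hb, smul_zero]
        rw [smul_add, h1, h2, add_zero]
      neg_mem' := by
        rintro a ⟨n, hn, ha⟩
        exact ⟨n, hn, by rw [smul_neg, ha, neg_zero]⟩ }
  have memAP : ∀ a : A, a ∈ AP ↔ ∃ n, Sm n ∧ n • a = 0 := fun a => Iff.rfl
  let KP : AddSubgroup A := π.ker ⊓ AP
  have KPdiv_prime : ∀ p : ℕ, p.Prime → ∀ a ∈ KP, ∃ b ∈ KP, p • b = a := by
    rintro p hp a ⟨haK, N₀, hN₀, haN⟩
    by_cases hpP : p ∈ P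
    · obtain ⟨y, hy, hya⟩ := hD p hpP a haK
      refine ⟨y, ⟨hy, N₀ * p, Sm_mul N₀ p hN₀ (Sm_prime p hpP), ?_⟩, hya⟩
      rw [mul_smul, hya, haN]
    · have hc : Nat.Coprime p N₀ := (cop N₀ p hN₀ ⟨hp.pos, fun q hq hqp => by
        rw [(Nat.prime_dvd_prime_iff_eq hq hp).mp hqp]; exact hpP⟩).symm
      have hb := bezout_smul p N₀ hc a
      have h0 : N₀ • (Nat.gcdB p N₀ • a) = 0 := by rw [smul_comm, haN, smul_zero]
      rw [h0, add_zero] at hb
      refine ⟨Nat.gcdA p N₀ • a, ⟨π.ker.zsmul_mem haK _, N₀, hN₀, ?_⟩, hb.symm⟩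
      rw [smul_comm, haN, smul_zero]
  have KPdiv : ∀ n, 0 < n → ∀ a ∈ KP, ∃ b ∈ KP, n • b = a := by
    intro n
    induction n using induction_on_primes with
    | zero => intro h; exact absurd h (lt_irrefl 0)
    | one => intro _ a ha; exact ⟨a, ha, one_smul _ a⟩
    | prime_mul p m hp ih =>
      intro hpm a ha
      have hm : 0 < m := Nat.pos_of_ne_zero (by rintro rfl; simp at hpm)
      obtain ⟨y, hy, hya⟩ := KPdiv_prime p hp a ha
      obtain ⟨z, hz, hzy⟩ := ih hm y hy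
      exact ⟨z, hz, by rw [mul_smul, hzy, hya]⟩
  haveI : DivisibleBy KP ℤ := divisibleByOfSMulRightSurj KP ℤ (by
    intro n hn a
    obtain ⟨b, hb, hba⟩ := KPdiv n.natAbs (Int.natAbs_pos.mpr hn) a.1 a.2
    rcases Int.natAbs_eq n with h | h
    · refine ⟨⟨b, hb⟩, Subtype.ext ?_⟩
      change n • b = a.1
      rw [h, natCast_zsmul]
      exact hba
    · refine ⟨⟨-b, KP.neg_mem hb⟩, Subtype.ext ?_⟩
      change n • (-b) = a.1
      rw [h, neg_smul, smul_neg, neg_neg, natCast_zsmul]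
      exact hba)
  have hBaer : Module.Baer ℤ KP := Module.Baer.of_divisible KP
  have hle : KP ≤ AP := inf_le_right
  obtain ⟨r, hr⟩ := hBaer.extension_property_addMonoidHom (AddSubgroup.inclusion hle)
    (AddSubgroup.inclusion_injective hle) (AddMonoidHom.id KP)
  have hr' : ∀ (a : AP) (ha : (a : A) ∈ π.ker), ((r a : KP) : A) = a := by
    intro a ha
    have h1 : r (AddSubgroup.inclusion hle ⟨a.1, ⟨ha, a.2⟩⟩) = ⟨a.1, ⟨ha, a.2⟩⟩ :=
      congrArg (fun ψ => ψ ⟨a.1, ⟨ha, a.2⟩⟩) hr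
    have h2 : AddSubgroup.inclusion hle ⟨a.1, ⟨ha, a.2⟩⟩ = a := Subtype.ext rfl
    rw [h2] at h1
    rw [h1]
  -- `e = id - r` on `AP`
  let e : AP →+ A := AP.subtype - (KP.subtype.comp r)
  have he : ∀ a : AP, e a = (a : A) - ((r a : KP) : A) := fun a => rfl
  have he0 : ∀ a : AP, (a : A) ∈ π.ker → e a = 0 := by
    intro a ha
    rw [he, hr' a ha, sub_self]
  have hπe : ∀ a : AP, π (e a) = π a := by
    intro a
    rw [he, map_sub]
    have : ((r a : KP) : A) ∈ π.ker := (r a).2.1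
    rw [AddMonoidHom.mem_ker.mp this, sub_zero]
  have hsurjP : ∀ t : TP, ∃ a : AP, π a = t := by
    intro t
    obtain ⟨n, hn0, hns, hnt⟩ := (hTP t).mp t.2
    obtain ⟨a, ha⟩ := hπ t
    have hna : n • a ∈ π.ker := by rw [AddMonoidHom.mem_ker, map_nsmul, ha, hnt]
    obtain ⟨z, hz, hzn⟩ := Kdiv n ⟨hn0, hns⟩ _ hna
    refine ⟨⟨a - z, n, ⟨hn0, hns⟩, by rw [smul_sub, hzn, sub_self]⟩, ?_⟩
    change π (a - z) = t
    rw [map_sub, ha, AddMonoidHom.mem_ker.mp hz, sub_zero]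
  choose lift hlift using hsurjP
  let s : TP →+ A := AddMonoidHom.mk' (fun t => e (lift t)) (by
    intro t₁ t₂
    have hk : ((lift (t₁ + t₂) - lift t₁ - lift t₂ : AP) : A) ∈ π.ker := by
      rw [AddMonoidHom.mem_ker]
      push_cast
      rw [map_sub, map_sub, hlift, hlift, hlift]
      push_cast
      abel
    have := he0 _ hk
    rw [map_sub, map_sub] at this
    rw [← sub_eq_zero, ← this]
    abel)
  have hs : ∀ t : TP, s t = e (lift t) := fun t => rfl
  have hπs : ∀ t : TP, π (s t) = (t : T) := fun t => by rw [hs, hπe, hlift]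
  refine ⟨s, hπs, ?_, ?_⟩
  · rintro ⟨d₁, t₁⟩ ⟨d₂, t₂⟩ h
    change (d₁ : A) + s t₁ = (d₂ : A) + s t₂ at h
    have h1 := congrArg π h
    rw [map_add, map_add, hπs, hπs] at h1
    have h2 : (t₁ : T) - t₂ = π d₂ - π d₁ := by
      rw [sub_eq_sub_iff_add_eq_add, add_comm, h1, add_comm]
    have h3 : (t₁ : T) - t₂ = 0 := by
      apply disj
      · rw [h2]
        exact T'.sub_mem d₂.2 d₁.2
      · exact TP.sub_mem t₁.2 t₂.2
    have h4 : t₁ = t₂ := Subtype.ext (sub_eq_zero.mp h3)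
    subst h4
    have h5 : (d₁ : A) = d₂ := add_right_cancel h
    rw [Subtype.ext h5]
  · intro a
    obtain ⟨n, hn0, hnt⟩ := hT (π a)
    obtain ⟨t', ht', t₁, ht₁, hdec⟩ := dec n hn0 (π a) hnt
    refine ⟨(⟨a - s ⟨t₁, ht₁⟩, ?_⟩, ⟨t₁, ht₁⟩), ?_⟩
    · rw [AddSubgroup.mem_comap, map_sub, hπs, hdec]
      simpa using ht'
    · change a - s ⟨t₁, ht₁⟩ + s ⟨t₁, ht₁⟩ = a
      rw [sub_add_cancel]

end Groth.Agent.S16343
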