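import Groth.Statements.S16344
import Mathlib
-- import your own Groth.Agent.* helpers here

set_option autoImplicit false
universe u v
open IdeleMod

namespace Groth.Agent.S16344

/-- A compatible family in an inverse system of nonempty closed subsets of compact Hausdorff
spaces over a directed preorder. -/
theorem exists_compatible {ι : Type u} [Preorder ι] [IsDirected ι (· ≤ ·)]
    (G : ι → Type v) [∀ i, TopologicalSpace (G i)] [∀ i, CompactSpace (G i)]
    [∀ i, T2Space (G i)]
    (f : ∀ ⦃i j : ι⦄, i ≤ j → (G j → G i)) (hf : ∀ i j (h : i ≤ j), Continuous (f h))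
    (hcomp : ∀ i j k (hij : i ≤ j) (hjk : j ≤ k) (x : G k), f hij (f hjk x) = f (hij.trans hjk) x)
    (S : ∀ i, Set (G i)) (hS : ∀ i, IsClosed (S i)) (hne : ∀ i, (S i).Nonempty)
    (hmap : ∀ i j (h : i ≤ j), ∀ x ∈ S j, f h x ∈ S i) :
    ∃ z : ∀ i, G i, (∀ i j (h : i ≤ j), f h (z j) = z i) ∧ ∀ i, z i ∈ S i := by
  classical
  rcases isEmpty_or_nonempty ι with hι | hι
  · exact ⟨fun i => isEmptyElim i, fun i => isEmptyElim i, fun i => isEmptyElim i⟩
  let T := {p : ι × ι // p.1 ≤ p.2}
  let C : T → Set (∀ i, G i) := fun t =>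
    {z | f t.2 (z t.1.2) = z t.1.1 ∧ z t.1.1 ∈ S t.1.1}
  have hC : ∀ t, IsClosed (C t) := by
    intro t
    apply IsClosed.inter
    · exact isClosed_eq ((hf _ _ t.2).comp (continuous_apply _)) (continuous_apply _)
    · exact (hS _).preimage (continuous_apply _)
  have hfin : ∀ u : Finset T, ((Set.univ : Set (∀ i, G i)) ∩ ⋂ t ∈ u, C t).Nonempty := by
    intro u
    obtain ⟨N, hN⟩ := Finset.exists_le (u.image fun t : T => t.1.2)
    obtain ⟨sN, hsN⟩ := hne N
    let z : ∀ i, G i := fun i => if h : i ≤ N then f h sN else (hne i).some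
    refine ⟨z, Set.mem_univ _, ?_⟩
    simp only [Set.mem_iInter]
    intro t ht
    have h2 : t.1.2 ≤ N := hN _ (Finset.mem_image_of_mem _ ht)
    have h1 : t.1.1 ≤ N := t.2.trans h2
    refine ⟨?_, ?_⟩
    · simp only [z, dif_pos h1, dif_pos h2]
      exact hcomp _ _ _ _ _ _
    · simp only [z, dif_pos h1]
      exact hmap _ _ _ _ hsN
  obtain ⟨z, -, hz⟩ := isCompact_univ.inter_iInter_nonempty C hC hfin
  simp only [Set.mem_iInter] at hz
  refine ⟨z, fun i j h => (hz ⟨(i, j), h⟩).1, fun i => (hz ⟨(i, i), le_refl i⟩).2⟩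

/-- Let (G_i) be an inverse system, indexed by a directed preorder, of compact Hausdorff topological
abelian groups with continuous surjective transition maps, let G be its limit (the group of
compatible families) and let m be a natural number. Then the canonical map G/mG → lim G_i/mG_i is
bijective: a compatible family that lies in mG_i at every index is m times a compatible family
(injectivity), and every family that is compatible modulo m agrees modulo m, index by index, with a
compatible family (surjectivity). -/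
theorem result
    {ι : Type u} [Preorder ι] [IsDirected ι (· ≤ ·)]
    (G : ι → Type v) [∀ i, AddCommGroup (G i)] [∀ i, TopologicalSpace (G i)]
    [∀ i, IsTopologicalAddGroup (G i)] [∀ i, CompactSpace (G i)] [∀ i, T2Space (G i)]
    (f : ∀ ⦃i j : ι⦄, i ≤ j → (G j →+ G i)) (hf : ∀ i j (h : i ≤ j), Continuous (f h))
    (hid : ∀ i (x : G i), f (le_refl i) x = x)
    (hcomp : ∀ i j k (hij : i ≤ j) (hjk : j ≤ k) (x : G k), f hij (f hjk x) = f (hij.trans hjk) x)
    (hsurj : ∀ i j (h : i ≤ j), Function.Surjective (f h)) (m : ℕ) :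
    (∀ x : ∀ i, G i, (∀ i j (h : i ≤ j), f h (x j) = x i) → (∀ i, ∃ y : G i, m • y = x i) →
        ∃ z : ∀ i, G i, (∀ i j (h : i ≤ j), f h (z j) = z i) ∧ ∀ i, m • z i = x i) ∧
    (∀ y : ∀ i, G i, (∀ i j (h : i ≤ j), ∃ w : G i, f h (y j) - y i = m • w) →
        ∃ x : ∀ i, G i, (∀ i j (h : i ≤ j), f h (x j) = x i) ∧ ∀ i, ∃ w : G i, x i - y i = m • w) := by
  constructor
  · intro x hx hdiv
    obtain ⟨z, hz1, hz2⟩ := exists_compatible G (fun i j h => (f h : G j → G i)) hf hcomp
      (fun i => {y | m • y = x i})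
      (fun i => isClosed_eq (continuous_nsmul m) continuous_const)
      (fun i => hdiv i)
      (by
        intro i j h y hy
        change m • f h y = x i
        rw [← map_nsmul, show m • y = x j from hy, hx])
    exact ⟨z, hz1, hz2⟩
  · intro y hy
    obtain ⟨x, hx1, hx2⟩ := exists_compatible G (fun i j h => (f h : G j → G i)) hf hcomp
      (fun i => Set.range fun w : G i => y i + m • w)
      (fun i => (isCompact_range
        (continuous_const.add (continuous_nsmul m))).isClosed)
      (fun i => Set.range_nonempty _)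
      (by
        rintro i j h _ ⟨w, rfl⟩
        obtain ⟨w', hw'⟩ := hy i j h
        refine ⟨f h w + w', ?_⟩
        change y i + m • (f h w + w') = f h (y j + m • w)
        rw [map_add, map_nsmul, smul_add, ← hw']
        abel)
    refine ⟨x, hx1, fun i => ?_⟩
    obtain ⟨w, hw⟩ := hx2 i
    refine ⟨w, ?_⟩
    change y i + m • w = x i at hw
    rw [← hw, add_sub_cancel_left]

end Groth.Agent.S16344
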