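import Groth.Statements.S16351
import Mathlib
-- import your own Groth.Agent.* helpers here

set_option autoImplicit false
universe u
open Cubic

namespace Groth.Agent.S16351

/-- Let K be a field of characteristic zero and S = V(F) ⊂ P^3_K a cone over a plane cubic curve C,
normalised so that the vertex is [1 : 0 : 0 : 0], i.e. F is a homogeneous cubic in K[x_0, …, x_3]
not involving x_0 and C = V(F) in the plane P^2 of the coordinates x_1, x_2, x_3. If C has five
K-rational points no three of which are collinear, then S has five K-rational points in general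
position (no four coplanar: any four representing vectors linearly independent). -/
theorem result (K : Type u) [Field K] [CharZero K]
    (G : MvPolynomial (Fin 3) K) (hG : G.IsHomogeneous 3) (F : MvPolynomial (Fin 4) K)
    (hF : F = MvPolynomial.rename Fin.succ G)
    (b : Fin 5 → (Fin 3 → K)) (hb : ∀ j : Fin 5, MvPolynomial.eval (b j) G = 0)
    (h3 : ∀ i j l : Fin 5, i ≠ j → j ≠ l → i ≠ l → LinearIndependent K ![b i, b j, b l]) :
    ∃ p : Fin 5 → (Fin 4 → K), (∀ j : Fin 5, MvPolynomial.eval (p j) F = 0) ∧
      ∀ j : Fin 5, LinearIndependent K (fun i : Fin 4 => p (j.succAbove i)) := by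
  classical
  -- the 3 × 3 minors
  let minor : Fin 5 → Fin 4 → Matrix (Fin 3) (Fin 3) K :=
    fun j i => Matrix.of (fun l m => b (j.succAbove (i.succAbove l)) m)
  have hminor : ∀ j i, (minor j i).det ≠ 0 := by
    intro j i
    have hinj : Function.Injective (fun l : Fin 3 => j.succAbove (i.succAbove l)) :=
      (Fin.succAbove_right_injective).comp (Fin.succAbove_right_injective)
    have hli : LinearIndependent K (minor j i).row := by
      have := h3 (j.succAbove (i.succAbove 0)) (j.succAbove (i.succAbove 1))
        (j.succAbove (i.succAbove 2)) (fun h => by simpa using hinj h)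
        (fun h => by simpa using hinj h) (fun h => by simpa using hinj h)
      convert this using 1
      ext l m
      fin_cases l <;> rfl
    rw [Matrix.linearIndependent_rows_iff_isUnit, Matrix.isUnit_iff_isUnit_det] at hli
    exact hli.ne_zero
  -- the linear functionals
  let D : Fin 5 → Module.Dual K (Fin 5 → K) := fun j =>
    ∑ i : Fin 4, ((-1 : K) ^ (i : ℕ) * (minor j i).det) • LinearMap.proj (j.succAbove i)
  have hD : ∀ j t, D j t = ∑ i : Fin 4, (-1 : K) ^ (i : ℕ) * t (j.succAbove i) * (minor j i).det := by
    intro j t
    simp only [D, LinearMap.sum_apply, LinearMap.smul_apply, LinearMap.proj_apply, smul_eq_mul]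
    refine Finset.sum_congr rfl (fun i _ => ?_)
    ring
  have hDne : ∀ j, ∃ t, D j t ≠ 0 := by
    intro j
    refine ⟨Pi.single (j.succAbove 0) 1, ?_⟩
    rw [hD, Finset.sum_eq_single (0 : Fin 4)]
    · simpa using hminor j 0
    · intro i _ hi
      have : j.succAbove i ≠ j.succAbove 0 := fun h => hi (Fin.succAbove_right_injective h)
      simp [Pi.single_apply, this]
    · intro h; exact absurd (Finset.mem_univ _) h
  obtain ⟨t, ht⟩ := Module.Dual.exists_forall_ne_zero_of_forall_exists D hDne
  refine ⟨fun j => Fin.cons (t j) (b j), ?_, ?_⟩
  · intro j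
    rw [hF, MvPolynomial.eval_rename]
    have : (Fin.cons (t j) (b j) : Fin 4 → K) ∘ Fin.succ = b j := by
      ext m; simp
    rw [this]
    exact hb j
  · intro j
    let M : Matrix (Fin 4) (Fin 4) K := Matrix.of (fun i => (Fin.cons (t (j.succAbove i)) (b (j.succAbove i)) : Fin 4 → K))
    have hM : M.det ≠ 0 := by
      rw [Matrix.det_succ_column_zero]
      have := ht j
      rw [hD] at this
      convert this using 1
      refine Finset.sum_congr rfl (fun i _ => ?_)
      congr 1
    have hli : LinearIndependent K M.row := by
      rw [Matrix.linearIndependent_rows_iff_isUnit, Matrix.isUnit_iff_isUnit_det]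
      exact isUnit_iff_ne_zero.mpr hM
    exact hli

end Groth.Agent.S16351
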