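import Groth.Statements.S16352
import Groth.Agent.H99.CubicK

set_option autoImplicit false
universe u
open Cubic

namespace Groth.Agent.S16352

/-- Let K be an algebraically closed field of characteristic zero and S = V(F) ⊂ P^3_K a cubic surface
which is irreducible and not a cone (no nonzero vector v has Σ_i v_i ∂F/∂x_i = 0). Let a be a smooth
point of S which is not a T-point: with ℓ = Σ_i ∂F/∂x_i(a) · x_i the (nonzero) linear form of the
tangent plane T_a S, F is not congruent modulo ℓ to a product of three linear forms (i.e. T_a S ∩ S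
is not set-theoretically a union of lines). Let P = Σ_i a_i ∂F/∂x_i be the first polar of a. Then
V(P) ∩ T_a S is a union of at most two lines through a, and every line through a lying on S lies in
V(P) ∩ T_a S; lines are 2-dimensional subspaces of K^4 and T_a S is the 3-dimensional subspace where
ℓ vanishes. -/
theorem result (K : Type u) [Field K] [IsAlgClosed K] [CharZero K]
    (F : MvPolynomial (Fin 4) K) (hF : F.IsHomogeneous 3) (hirr : Irreducible F)
    (hcone : ¬ ∃ v : Fin 4 → K, v ≠ 0 ∧ ∑ i : Fin 4, v i • MvPolynomial.pderiv i F = 0)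
    (a : Fin 4 → K) (ha : a ≠ 0) (hFa : MvPolynomial.eval a F = 0)
    (hsm : ∃ i : Fin 4, MvPolynomial.eval a (MvPolynomial.pderiv i F) ≠ 0)
    (ℓ : MvPolynomial (Fin 4) K)
    (hℓ : ℓ = ∑ i : Fin 4, MvPolynomial.C (MvPolynomial.eval a (MvPolynomial.pderiv i F)) * MvPolynomial.X i)
    (hT : ¬ ∃ L₁ L₂ L₃ : MvPolynomial (Fin 4) K, L₁.IsHomogeneous 1 ∧ L₂.IsHomogeneous 1 ∧ L₃.IsHomogeneous 1 ∧
      F - L₁ * L₂ * L₃ ∈ Ideal.span {ℓ})
    (P : MvPolynomial (Fin 4) K) (hP : P = ∑ i : Fin 4, a i • MvPolynomial.pderiv i F)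
    (H : Submodule K (Fin 4 → K)) (hH : ∀ x : Fin 4 → K, x ∈ H ↔ MvPolynomial.eval x ℓ = 0) :
    (∃ U₁ U₂ : Submodule K (Fin 4 → K), Module.finrank K ↥U₁ = 2 ∧ Module.finrank K ↥U₂ = 2 ∧ a ∈ U₁ ∧ a ∈ U₂ ∧
        U₁ ≤ H ∧ U₂ ≤ H ∧ {x : Fin 4 → K | x ∈ H ∧ MvPolynomial.eval x P = 0} = (U₁ : Set (Fin 4 → K)) ∪ (U₂ : Set (Fin 4 → K))) ∧
      ∀ U : Submodule K (Fin 4 → K), a ∈ U → Module.finrank K ↥U = 2 → (∀ u ∈ U, MvPolynomial.eval u F = 0) →
        U ≤ H ∧ ∀ u ∈ U, MvPolynomial.eval u P = 0 := by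
  classical
  have hsymm : Groth.Agent.H99.Cubic.IsSymm (Groth.Agent.H99.Cubic.TT F) :=
    ⟨Groth.Agent.H99.Cubic.TT_swap12 F, Groth.Agent.H99.Cubic.TT_swap23 F⟩
  have hV : Module.finrank K (Fin 4 → K) = 4 := by simp
  have h3 : (3 : K) ≠ 0 := by norm_num
  have hℓform : ℓ = Groth.Agent.H99.Cubic.formPoly
      ((3 : K) • Groth.Agent.H99.Cubic.ell (Groth.Agent.H99.Cubic.TT F) a) := by
    rw [hℓ]
    unfold Groth.Agent.H99.Cubic.formPoly
    apply Finset.sum_congr rfl
    intro i _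
    rw [Groth.Agent.H99.Cubic.eval_pderiv_eq_TT hF]
    simp
  have hℓeval : ∀ x, MvPolynomial.eval x ℓ = 3 * Groth.Agent.H99.Cubic.TT F x a a := by
    intro x
    rw [hℓform, Groth.Agent.H99.Cubic.eval_formPoly]
    simp
  have hPeval : ∀ x, MvPolynomial.eval x P = 3 * Groth.Agent.H99.Cubic.TT F a x x := by
    intro x
    have := Groth.Agent.H99.Cubic.eval_formPoly
      ((3 : K) • Groth.Agent.H99.Cubic.ell (Groth.Agent.H99.Cubic.TT F) x) a
    unfold Groth.Agent.H99.Cubic.formPoly at this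
    rw [map_sum] at this
    simp only [map_mul, MvPolynomial.eval_C, MvPolynomial.eval_X, LinearMap.smul_apply,
      Groth.Agent.H99.Cubic.ell_apply, smul_eq_mul] at this
    rw [hP, map_sum, ← this]
    apply Finset.sum_congr rfl
    intro i _
    rw [MvPolynomial.smul_eval, Groth.Agent.H99.Cubic.eval_pderiv_eq_TT hF]
    ring
  have haaa : Groth.Agent.H99.Cubic.TT F a a a = 0 := by
    rw [← Groth.Agent.H99.Cubic.eval_eq_TT hF]; exact hFa
  have hHT : ∀ x, x ∈ H ↔ Groth.Agent.H99.Cubic.TT F x a a = 0 := by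
    intro x
    rw [hH, hℓeval]
    constructor
    · intro h0
      exact (mul_eq_zero.mp h0).resolve_left h3
    · intro h0
      rw [h0, mul_zero]
  have hℓne : Groth.Agent.H99.Cubic.ell (Groth.Agent.H99.Cubic.TT F) a ≠ 0 := by
    obtain ⟨i, hi⟩ := hsm
    intro h0
    apply hi
    rw [Groth.Agent.H99.Cubic.eval_pderiv_eq_TT hF,
      ← Groth.Agent.H99.Cubic.ell_apply (T := Groth.Agent.H99.Cubic.TT F), h0]
    simp
  have hHker : H = LinearMap.ker (Groth.Agent.H99.Cubic.ell (Groth.Agent.H99.Cubic.TT F) a) := by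
    ext x
    rw [hHT, LinearMap.mem_ker, Groth.Agent.H99.Cubic.ell_apply]
  have hH3 : Module.finrank K H = 3 := by
    rw [hHker]
    have := Module.Dual.finrank_ker_add_one_of_ne_zero hℓne
    rw [hV] at this
    omega
  refine ⟨?_, ?_⟩
  · by_cases hQ : ∃ x ∈ H, Groth.Agent.H99.Cubic.TT F a x x ≠ 0
    · obtain ⟨U₁, U₂, h1, h2, h3', h4, h5, h6, h7⟩ :=
        Groth.Agent.H99.Cubic.polar_zero_set_two_lines hsymm ha haaa hHT hH3 hQ
      refine ⟨U₁, U₂, h1, h2, h3', h4, h5, h6, ?_⟩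
      rw [← h7]
      ext x
      simp only [Set.mem_setOf_eq, hPeval]
      constructor
      · rintro ⟨hx, h0⟩
        exact ⟨hx, (mul_eq_zero.mp h0).resolve_left h3⟩
      · rintro ⟨hx, h0⟩
        exact ⟨hx, by rw [h0, mul_zero]⟩
    · exfalso
      push Not at hQ
      obtain ⟨l₁, l₂, l₃, hl⟩ :=
        Groth.Agent.H99.Cubic.cubic_on_tangent_factor hsymm ha haaa hHT hH3 hQ
      apply hT
      refine ⟨Groth.Agent.H99.Cubic.formPoly l₁, Groth.Agent.H99.Cubic.formPoly l₂,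
        Groth.Agent.H99.Cubic.formPoly l₃, Groth.Agent.H99.Cubic.formPoly_isHomogeneous _,
        Groth.Agent.H99.Cubic.formPoly_isHomogeneous _,
        Groth.Agent.H99.Cubic.formPoly_isHomogeneous _, ?_⟩
      obtain ⟨j, hj⟩ := hsm
      rw [hℓ]
      apply Groth.Agent.H99.Cubic.mem_span_of_vanish
        (fun i => MvPolynomial.eval a (MvPolynomial.pderiv i F)) j hj
      intro x hx
      have hxH : x ∈ H := by rw [hH, hℓ]; exact hx
      rw [map_sub, map_mul, map_mul, Groth.Agent.H99.Cubic.eval_formPoly,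
        Groth.Agent.H99.Cubic.eval_formPoly, Groth.Agent.H99.Cubic.eval_formPoly,
        Groth.Agent.H99.Cubic.eval_eq_TT hF, hl x hxH, sub_self]
  · intro U haU hU2 hUF
    have hU' : ∀ u ∈ U, Groth.Agent.H99.Cubic.TT F u u u = 0 := fun u hu => by
      rw [← Groth.Agent.H99.Cubic.eval_eq_TT hF]; exact hUF u hu
    refine ⟨fun u hu => (hHT u).2 (Groth.Agent.H99.Cubic.line_data hsymm haU hU' hu).2,
      fun u hu => ?_⟩
    rw [hPeval, hsymm.pxx a u, (Groth.Agent.H99.Cubic.line_data hsymm haU hU' hu).1, mul_zero]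

end Groth.Agent.S16352
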