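import Groth.Statements.S16353
import Mathlib
-- import your own Groth.Agent.* helpers here

set_option autoImplicit false
universe u
open DegLoci

namespace Groth.Agent.S16353

open MvPolynomial in
/-- Coefficients of a contraction. -/
lemma coeff_contract {k : Type*} [CommSemiring k] {σ : Type*} (D G : MvPolynomial σ k)
    (γ : σ →₀ ℕ) :
    coeff γ (W4c3degenlocivb.contract D G) =
      ∑ α ∈ D.support, coeff α D * coeff (α + γ) G *
        (((α + γ).support.prod fun i => Nat.descFactorial ((α + γ) i) (α i) : ℕ) : k) := by
  classical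
  unfold W4c3degenlocivb.contract
  rw [coeff_sum]
  apply Finset.sum_congr rfl
  intro α _
  rw [coeff_sum]
  have key : ∀ β ∈ G.support,
      coeff γ (if α ≤ β then monomial (β - α)
        (coeff α D * coeff β G * ((β.support.prod fun i => Nat.descFactorial (β i) (α i) : ℕ) : k))
        else 0) =
      if β = α + γ then coeff α D * coeff (α + γ) G *
        (((α + γ).support.prod fun i => Nat.descFactorial ((α + γ) i) (α i) : ℕ) : k) else 0 := by
    intro β _
    by_cases h1 : α ≤ β
    · rw [if_pos h1]
      by_cases h2 : β = α + γ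
      · rw [if_pos h2]
        subst h2
        rw [coeff_monomial, if_pos (add_tsub_cancel_left α γ)]
      · rw [if_neg h2, coeff_monomial, if_neg]
        intro h
        apply h2
        rw [← h, add_tsub_cancel_of_le h1]
    · rw [if_neg h1, coeff_zero, if_neg]
      intro h
      apply h1
      rw [h]
      exact le_self_add
  rw [Finset.sum_congr rfl key, Finset.sum_ite_eq']
  split_ifs with h
  · rfl
  · rw [notMem_support_iff.mp h, mul_zero, zero_mul]

lemma prod_support_eq {m : ℕ} (α γ : Fin m →₀ ℕ) :
    ((α + γ).support.prod fun i => Nat.descFactorial ((α + γ) i) (α i)) =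
      ∏ i : Fin m, Nat.descFactorial (α i + γ i) (α i) := by
  rw [Finset.prod_subset (Finset.subset_univ _)]
  · apply Finset.prod_congr rfl
    intro i _
    rw [Finsupp.add_apply]
  · intro i _ hi
    rw [Finsupp.notMem_support_iff, Finsupp.add_apply] at hi
    have h1 : α i = 0 := by omega
    rw [Finsupp.add_apply, hi, h1]
    rfl

/-- Let k be a field of characteristic zero, R = k[y_0, …, y_{m−1}] acting on S = k[∂_0, …, ∂_{m−1}] by
apolarity (y_i acts as the derivative with respect to ∂_i), F ∈ S homogeneous of degree e and d ≤ e.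
Then the degree-d part of the apolar ideal of F is the orthogonal complement of the partial
derivatives of F of order e − d: a homogeneous D ∈ R_d satisfies D(F) = 0 if and only if D(y^α(F)) =
0 for every multi-index α with |α| = e − d (each D(y^α(F)) being a constant, the value of the
apolarity pairing of D with y^α(F)). -/
theorem result (k : Type u) [Field k] [CharZero k] (m : ℕ)
    (F : MvPolynomial (Fin m) k) (e : ℕ) (hF : F.IsHomogeneous e) (d : ℕ) (hd : d ≤ e)
    (D : MvPolynomial (Fin m) k) (hD : D.IsHomogeneous d) :
    W4c3degenlocivb.contract D F = 0 ↔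
      ∀ α : Fin m →₀ ℕ, α.degree = e - d → W4c3degenlocivb.contract D (W4c3degenlocivb.contract (MvPolynomial.monomial α 1) F) = 0 := by
  classical
  let fac : (Fin m →₀ ℕ) → ℕ := fun δ => ∏ i : Fin m, (δ i).factorial
  have hfac : ∀ δ, ((fac δ : ℕ) : k) ≠ 0 := fun δ =>
    Nat.cast_ne_zero.mpr (Finset.prod_ne_zero_iff.mpr fun i _ => Nat.factorial_ne_zero _)
  have hE : ∀ δ ε : Fin m →₀ ℕ,
      MvPolynomial.coeff ε (W4c3degenlocivb.contract (MvPolynomial.monomial δ 1) F) =
        MvPolynomial.coeff (δ + ε) F *
          ((∏ i : Fin m, Nat.descFactorial (δ i + ε i) (δ i) : ℕ) : k) := by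
    intro δ ε
    rw [coeff_contract, MvPolynomial.support_monomial, if_neg one_ne_zero, Finset.sum_singleton,
      MvPolynomial.coeff_monomial, if_pos rfl, one_mul, prod_support_eq]
  have hsupp : ∀ α ∈ D.support, α.degree = d := by
    intro α hα
    by_contra h
    exact (MvPolynomial.mem_support_iff.mp hα) (hD.coeff_eq_zero h)
  have hkey : ∀ δ : Fin m →₀ ℕ,
      MvPolynomial.coeff 0 (W4c3degenlocivb.contract D
        (W4c3degenlocivb.contract (MvPolynomial.monomial δ 1) F)) =
      (fac δ : k) * MvPolynomial.coeff δ (W4c3degenlocivb.contract D F) := by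
    intro δ
    rw [coeff_contract, coeff_contract, Finset.mul_sum]
    apply Finset.sum_congr rfl
    intro α _
    rw [hE, prod_support_eq, prod_support_eq, add_zero]
    have hnat : (∏ i : Fin m, Nat.descFactorial (δ i + α i) (δ i)) *
        (∏ i : Fin m, Nat.descFactorial (α i + (0 : Fin m →₀ ℕ) i) (α i)) =
        fac δ * ∏ i : Fin m, Nat.descFactorial (α i + δ i) (α i) := by
      simp only [fac, ← Finset.prod_mul_distrib]
      apply Finset.prod_congr rfl
      intro i _
      have e1 := Nat.factorial_mul_descFactorial (Nat.le_add_right (δ i) (α i))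
      have e2 := Nat.factorial_mul_descFactorial (Nat.le_add_right (α i) (δ i))
      rw [Nat.add_sub_cancel_left] at e1 e2
      rw [Finsupp.zero_apply, add_zero, Nat.descFactorial_self, mul_comm, e1, e2, add_comm]
    have hcast := congrArg (Nat.cast : ℕ → k) hnat
    push_cast at hcast
    rw [add_comm δ α]
    push_cast
    linear_combination (MvPolynomial.coeff α D * MvPolynomial.coeff (α + δ) F) * hcast
  constructor
  · intro h0 δ hδ
    ext γ
    rw [MvPolynomial.coeff_zero]
    by_cases hγ : γ = 0
    · subst hγ
      rw [hkey, h0, MvPolynomial.coeff_zero, mul_zero]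
    · rw [coeff_contract]
      apply Finset.sum_eq_zero
      intro α hα
      have hαd := hsupp α hα
      have hne : (δ + (α + γ)).degree ≠ e := by
        rw [map_add, map_add, hδ, hαd]
        have : γ.degree ≠ 0 := fun h => hγ ((Finsupp.degree_eq_zero_iff γ).mp h)
        omega
      rw [hE, hF.coeff_eq_zero hne, zero_mul, mul_zero, zero_mul]
  · intro h
    ext γ
    rw [MvPolynomial.coeff_zero]
    by_cases hγ : γ.degree = e - d
    · have h1 := hkey γ
      rw [h γ hγ, MvPolynomial.coeff_zero] at h1
      exact (mul_eq_zero.mp h1.symm).resolve_left (hfac γ)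
    · rw [coeff_contract]
      apply Finset.sum_eq_zero
      intro α hα
      have hαd := hsupp α hα
      have hne : (α + γ).degree ≠ e := by
        rw [map_add, hαd]
        omega
      rw [hF.coeff_eq_zero hne, mul_zero, zero_mul]

end Groth.Agent.S16353
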