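import Groth.Statements.S16356
import Mathlib
-- import your own Groth.Agent.* helpers here

set_option autoImplicit false
universe u
open OrdAV

namespace Groth.Agent.S16356

/-- For an odd prime p and a perfect field k of characteristic p, a root of unity in the ring of Witt
vectors W(k) whose residue in k is 1 is itself 1: if x ^ n = 1 with n ≥ 1 and the zeroth Witt
component of x is 1, then x = 1. (For p = 2 this fails: -1 in W(F_2).) -/
theorem result (p : ℕ) [Fact p.Prime] (hp : p ≠ 2)
    (k : Type u) [Field k] [CharP k p] [PerfectRing k p]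
    (x : WittVector p k) (n : ℕ) (hn : 0 < n) (hx : x ^ n = 1) (h0 : x.coeff 0 = 1) : x = 1 := by
  classical
  have hpp : p.Prime := Fact.out
  let c : WittVector p k →+* k := WittVector.constantCoeff
  have hc : ∀ z : WittVector p k, c z = z.coeff 0 := fun z => rfl
  have hpW : (p : WittVector p k) ≠ 0 := WittVector.p_nonzero p k
  have hcp : c (p : WittVector p k) = 0 := by
    rw [hc]; exact WittVector.coeff_p_zero p k
  -- `y ≡ 1` modulo `p`
  have hdiv : ∀ y : WittVector p k, y.coeff 0 = 1 → (p : WittVector p k) ∣ y - 1 := by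
    intro y hy
    by_cases h : y - 1 = 0
    · rw [h]; exact dvd_zero _
    obtain ⟨m, b, hb, hm⟩ := WittVector.exists_eq_pow_p_mul (y - 1) h
    rcases m with _ | m
    · exfalso
      apply hb
      rw [pow_zero, one_mul] at hm
      rw [← hm, ← hc, map_sub, map_one, hc, hy, sub_self]
    · rw [hm, pow_succ', mul_assoc]
      exact dvd_mul_right _ _
  -- the case of prime exponent
  have hprime : ∀ ℓ : ℕ, ℓ.Prime → ∀ y : WittVector p k, y.coeff 0 = 1 → y ^ ℓ = 1 → y = 1 := by
    intro ℓ hℓ y hy hyl
    obtain ⟨b, hb⟩ := hdiv y hy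
    have hy' : y = 1 + p * b := by rw [← hb]; ring
    have hgeom : (∑ i ∈ Finset.range ℓ, y ^ i) * (y - 1) = 0 := by
      rw [geom_sum_mul, hyl, sub_self]
    rcases mul_eq_zero.mp hgeom with h | h
    · exfalso
      by_cases hlp : ℓ = p
      · subst hlp
        have hodd : Odd ℓ := hℓ.odd_of_ne_two hp
        have h2 := odd_sq_dvd_geom_sum₂_sub (R := WittVector ℓ k) 1 b hodd
        simp only [one_pow, mul_one] at h2
        rw [← hy', h, zero_sub] at h2
        obtain ⟨w, hw⟩ := h2
        have h3 : (ℓ : WittVector ℓ k) * (1 + ℓ * w) = 0 := by linear_combination -hw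
        rcases mul_eq_zero.mp h3 with h1 | h1
        · exact hpW h1
        · have h4 := congrArg c h1
          rw [map_add, map_mul, hcp, zero_mul, map_one, map_zero, add_zero] at h4
          exact one_ne_zero h4
      · have h4 := congrArg c h
        rw [map_sum, map_zero] at h4
        have hci : ∀ i ∈ Finset.range ℓ, c (y ^ i) = 1 := fun i _ => by
          rw [map_pow, hc, hy, one_pow]
        rw [Finset.sum_congr rfl hci, Finset.sum_const, Finset.card_range, nsmul_eq_mul,
          mul_one] at h4
        have h5 : p ∣ ℓ := (CharP.cast_eq_zero_iff k p ℓ).mp h4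
        exact hlp ((Nat.prime_dvd_prime_iff_eq hpp hℓ).mp h5).symm
    · exact sub_eq_zero.mp h
  -- induction on the exponent
  induction n using Nat.strong_induction_on generalizing x with
  | _ n ih =>
    by_cases hn1 : n = 1
    · subst hn1
      simpa using hx
    obtain ⟨ℓ, hℓ, hdvd⟩ := Nat.exists_prime_and_dvd hn1
    obtain ⟨m, rfl⟩ := hdvd
    have hm : 0 < m := Nat.pos_of_ne_zero (by rintro rfl; simp at hn)
    have hy : (x ^ m) ^ ℓ = 1 := by rw [← pow_mul, mul_comm]; exact hx
    have hy0 : (x ^ m).coeff 0 = 1 := by rw [← hc, map_pow, hc, h0, one_pow]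
    have h1 := hprime ℓ hℓ (x ^ m) hy0 hy
    have hlt : m < ℓ * m := by
      have := hℓ.two_le
      nlinarith
    exact ih m hlt x hm h1 h0

end Groth.Agent.S16356
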