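import Groth.Statements.S16357
import Mathlib
-- import your own Groth.Agent.* helpers here

set_option autoImplicit false
universe u
open OrdAV

namespace Groth.Agent.S16357

/-- Over a field L of characteristic zero, a monic polynomial h whose square has rational coefficients
has rational coefficients itself. -/
theorem result (L : Type u) [Field L] [CharZero L]
    (h : Polynomial L) (hm : h.Monic) (f : Polynomial ℚ)
    (hf : h ^ 2 = Polynomial.map (algebraMap ℚ L) f) :
    ∃ g : Polynomial ℚ, Polynomial.map (algebraMap ℚ L) g = h := by
  classical
  set n := h.natDegree with hn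
  -- the rational elements form a subring
  let Q : Subring L := (algebraMap ℚ L).range
  have hQ2 : ∀ a : L, 2 * a ∈ Q → a ∈ Q := by
    rintro a ⟨q, hq⟩
    refine ⟨q / 2, ?_⟩
    rw [map_div₀, hq, map_ofNat]
    field_simp
  have hcoeff : ∀ m : ℕ, (h ^ 2).coeff m ∈ Q := by
    intro m
    rw [hf, Polynomial.coeff_map]
    exact ⟨_, rfl⟩
  have key : ∀ d k : ℕ, n ≤ k + d → h.coeff k ∈ Q := by
    intro d
    induction d with
    | zero =>
      intro k hk
      rcases Nat.lt_or_ge n k with hlt | hge
      · rw [Polynomial.coeff_eq_zero_of_natDegree_lt hlt]
        exact Q.zero_mem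
      · have : k = n := le_antisymm hge (by simpa using hk)
        rw [this, hn, hm.coeff_natDegree]
        exact Q.one_mem
    | succ d ih =>
      intro k hk
      rcases Nat.lt_or_ge n (k + d + 1) with hlt | hge
      · exact ih k (by omega)
      · have hkn : k + d + 1 = n := le_antisymm hge (by omega)
        have hklt : k < n := by omega
        -- look at the coefficient of degree `n + k` of `h ^ 2`
        have h1 := hcoeff (n + k)
        rw [pow_two, Polynomial.coeff_mul] at h1
        have hmem1 : (n, k) ∈ Finset.HasAntidiagonal.antidiagonal (n + k) := by simp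
        have hmem2 : (k, n) ∈ (Finset.HasAntidiagonal.antidiagonal (n + k)).erase (n, k) := by
          rw [Finset.mem_erase]
          refine ⟨?_, by simp [add_comm]⟩
          intro heq
          have := congrArg Prod.fst heq
          simp at this
          omega
        rw [← Finset.add_sum_erase _ _ hmem1, ← Finset.add_sum_erase _ _ hmem2] at h1
        have hrest : ∑ x ∈ ((Finset.HasAntidiagonal.antidiagonal (n + k)).erase (n, k)).erase (k, n),
            h.coeff x.1 * h.coeff x.2 ∈ Q := by
          refine Q.sum_mem (fun x hx => ?_)
          rw [Finset.mem_erase, Finset.mem_erase, Finset.HasAntidiagonal.mem_antidiagonal] at hx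
          obtain ⟨hx1, hx2, hx3⟩ := hx
          rcases Nat.lt_or_ge n x.1 with h4 | h4
          · rw [Polynomial.coeff_eq_zero_of_natDegree_lt h4, zero_mul]
            exact Q.zero_mem
          rcases Nat.lt_or_ge n x.2 with h5 | h5
          · rw [Polynomial.coeff_eq_zero_of_natDegree_lt h5, mul_zero]
            exact Q.zero_mem
          have h6 : x.1 ≠ n := by
            intro h6
            apply hx2
            ext <;> simp <;> omega
          have h7 : x.2 ≠ n := by
            intro h7
            apply hx1
            ext <;> simp <;> omega
          exact Q.mul_mem (ih _ (by omega)) (ih _ (by omega))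
        have hnn : h.coeff n = 1 := by rw [hn]; exact hm.coeff_natDegree
        rw [hnn, one_mul, mul_one, ← add_assoc, ← two_mul] at h1
        apply hQ2
        have := Q.sub_mem h1 hrest
        rwa [add_sub_cancel_right] at this
  have : h ∈ Polynomial.lifts (algebraMap ℚ L) := by
    rw [Polynomial.lifts_iff_coeff_lifts]
    intro k
    exact key n k (by omega)
  rw [Polynomial.mem_lifts] at this
  exact this

end Groth.Agent.S16357
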