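import Groth.Statements.S16358
import Mathlib
-- import your own Groth.Agent.* helpers here

set_option autoImplicit false
universe u v w
open OrdAV

namespace Groth.Agent.S16358

/-- Let k be a perfect field of characteristic p > 0 and W = W(k); let M be a finitely generated free
W-module on which a finite group G acts W-linearly, with invariant submodule M^G. Then the map
(W/pW) ⊗ M^G → (W/pW) ⊗ M induced by the inclusion is injective. Since M^G is free, this implies
rank_W M^G ≤ dim_k (M/pM)^G; the published statement is that inequality, and this row states the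
stronger injectivity. -/
theorem result (p : ℕ) [Fact p.Prime]
    (k : Type u) [Field k] [CharP k p] [PerfectRing k p]
    (M : Type v) [AddCommGroup M] [Module (WittVector p k) M]
    [Module.Free (WittVector p k) M] [Module.Finite (WittVector p k) M]
    (G : Type w) [Group G] [Finite G] (ρ : Representation (WittVector p k) G M) :
    Function.Injective
      (LinearMap.lTensor (WittVector p k ⧸ Ideal.span {(p : WittVector p k)}) ρ.invariants.subtype) := by
  classical
  set I : Ideal (WittVector p k) := Ideal.span {(p : WittVector p k)} with hI
  set N := ρ.invariants with hN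
  have hp0 : (p : WittVector p k) ≠ 0 := WittVector.p_nonzero p k
  rw [injective_iff_map_eq_zero]
  intro x hx
  -- write `x = 1 ⊗ n`
  obtain ⟨n, hn⟩ := Submodule.Quotient.mk_surjective _ (TensorProduct.quotTensorEquivQuotSMul N I x)
  have hx1 : x = (1 : WittVector p k ⧸ I) ⊗ₜ[WittVector p k] n := by
    rw [← TensorProduct.quotTensorEquivQuotSMul_symm_mk, hn, LinearEquiv.symm_apply_apply]
  rw [hx1, LinearMap.lTensor_tmul] at hx
  have hx2 := congrArg (TensorProduct.quotTensorEquivQuotSMul M I) hx
  rw [TensorProduct.quotTensorEquivQuotSMul_mk_one_tmul, map_zero,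
    Submodule.Quotient.mk_eq_zero, hI, Submodule.ideal_span_singleton_smul] at hx2
  obtain ⟨m, -, hm⟩ := hx2
  have hm' : (p : WittVector p k) • m = (n : M) := hm
  -- `m` is invariant
  have hmN : m ∈ N := by
    rw [hN, Representation.mem_invariants]
    intro g
    have h1 : (p : WittVector p k) • (ρ g m - m) = 0 := by
      rw [smul_sub, ← map_smul, hm', sub_eq_zero]
      exact (Representation.mem_invariants ρ _).mp n.2 g
    rcases smul_eq_zero.mp h1 with h2 | h2
    · exact absurd h2 hp0
    · exact sub_eq_zero.mp h2
  have hn' : n = (p : WittVector p k) • (⟨m, hmN⟩ : N) := by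
    ext
    exact hm'.symm
  have : (p : WittVector p k) • (1 : WittVector p k ⧸ I) = 0 := by
    rw [Algebra.smul_def, mul_one, Ideal.Quotient.algebraMap_eq, Ideal.Quotient.eq_zero_iff_mem, hI]
    exact Ideal.subset_span rfl
  rw [hx1, hn', TensorProduct.tmul_smul, TensorProduct.smul_tmul', this, TensorProduct.zero_tmul]

end Groth.Agent.S16358
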