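import Groth.Statements.S16361
import Mathlib
import Groth.Agent.S6416
import Groth.Agent.H32.FibBasic
-- import your own Groth.Agent.* helpers here

set_option autoImplicit false
universe v u
open CategoryTheory CategoryTheory.Limits
open FibCat

namespace Groth.Agent.S16361

section aux
universe v₁ u₁ v₂ u₂ v₃ u₃
variable {A : Type u₁} [Category.{v₁} A] {B : Type u₂} [Category.{v₂} B]
  {D : Type u₃} [Category.{v₃} D]

lemma isHomLift_map_of_comp (F : A ⥤ B) (G : B ⥤ D) {R S : D} (f : R ⟶ S) {a b : A}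
    (φ : a ⟶ b) (h : (F ⋙ G).IsHomLift f φ) : G.IsHomLift f (F.map φ) := by
  obtain ⟨⟩ := h
  exact IsHomLift.map G (F.map φ)

/-- In a category fibred in groupoids, a lift `ψ` of `p(θ)` with the same target as `θ` differs
from `θ` by an isomorphism of the sources. -/
lemma exists_iso_of_lift (p : B ⥤ D) (hp : IsFibGrpd p) {a b c : B} (θ : a ⟶ b) (ψ : c ⟶ b)
    (h : p.IsHomLift (p.map θ) ψ) : ∃ χ : a ≅ c, χ.hom ≫ ψ = θ := by
  have hs : p.IsStronglyCartesian (p.map θ) ψ :=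
    Groth.Agent.H32.isStronglyCartesian_of_fibGrpd p hp (p.map θ) ψ
  let χ := Functor.IsStronglyCartesian.map p (p.map θ) ψ (g := 𝟙 (p.obj a)) (f' := p.map θ)
    (Category.id_comp _).symm θ
  have hχ : p.IsHomLift (𝟙 (p.obj a)) χ := inferInstance
  have : IsIso χ := Groth.Agent.H32.isIso_of_fibGrpd' p hp (𝟙 (p.obj a)) χ
  exact ⟨asIso χ, Functor.IsStronglyCartesian.fac p (p.map θ) ψ (g := 𝟙 (p.obj a))
    (f' := p.map θ) (Category.id_comp _).symm θ⟩

section keys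
variable {X : Type*} [Category X]

lemma key1 {a₁ a₂ a₃ b₁ b₂ b₃ : X} (e₁ : a₁ ≅ b₁) (e₂ : a₂ ≅ b₂) (e₃ : a₃ ≅ b₃)
    (mf : a₁ ⟶ a₂) (ms : b₁ ⟶ b₂) (nf : a₃ ⟶ a₂) (ns : b₃ ⟶ b₂) (g : b₃ ⟶ b₁)
    (mw : mf ≫ e₂.hom = e₁.hom ≫ ms) (nw : nf ≫ e₂.hom = e₃.hom ≫ ns) (hsnd : g ≫ ms = ns) :
    (e₃.hom ≫ g ≫ e₁.inv) ≫ mf = nf := by
  have h1 : e₁.inv ≫ mf = ms ≫ e₂.inv := by
    rw [Iso.inv_comp_eq, ← Category.assoc, ← mw, Category.assoc, Iso.hom_inv_id, Category.comp_id]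
  have h2 : nf = e₃.hom ≫ ns ≫ e₂.inv := by
    rw [← Category.assoc, ← nw, Category.assoc, Iso.hom_inv_id, Category.comp_id]
  rw [h2, ← hsnd]
  simp only [Category.assoc, h1]

lemma key2 {a₁ a₃ b₁ b₃ : X} (e₁ : a₁ ≅ b₁) (e₃ : a₃ ≅ b₃) (g : b₃ ⟶ b₁) (c : a₃ ⟶ a₁) :
    c ≫ e₁.hom = e₃.hom ≫ g ↔ c = e₃.hom ≫ g ≫ e₁.inv := by
  rw [← Category.assoc, Iso.eq_comp_inv]

lemma key3 {V a' a b : X} (χ : V ≅ a') (ψ' : a' ⟶ a) (e : a ≅ b) (f : V ⟶ b)
    (h : χ.hom ≫ ψ' = f ≫ e.inv) : ψ' ≫ e.hom = χ.inv ≫ f := by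
  have e' : ψ' = χ.inv ≫ f ≫ e.inv := (Iso.eq_inv_comp χ).mpr h
  rw [e', Category.assoc, Category.assoc, Iso.inv_hom_id, Category.comp_id]

end keys

end aux

section main
variable {S : Type u} [Category.{v} S] {X : Type u} [Category.{v} X]
  {Y : Type u} [Category.{v} Y]

theorem isFibGrpd_π₂ (πX : X ⥤ S) (hX : FibCat.IsFibGrpd πX) (F : Y ⥤ X)
    (hY : FibCat.IsFibGrpd (F ⋙ πX)) :
    FibCat.IsFibGrpd (CategoricalPullback.π₂ F (𝟭 X)) := by
  refine ⟨?_, ?_⟩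
  · intro z V f
    change V ⟶ z.snd at f
    let θ : V ⟶ F.obj z.fst := f ≫ z.iso.inv
    obtain ⟨y', ψ, hψ⟩ := hY.exists_lift (x := z.fst) (πX.map θ)
    have hψ' : πX.IsHomLift (πX.map θ) (F.map ψ) := isHomLift_map_of_comp F πX _ ψ hψ
    obtain ⟨χ, hχ⟩ := exists_iso_of_lift πX hX θ (F.map ψ) hψ'
    let z' : CategoricalPullback F (𝟭 X) := ⟨y', V, χ.symm⟩
    have w : F.map ψ ≫ z.iso.hom = z'.iso.hom ≫ (𝟭 X).map f :=
      key3 χ (F.map ψ) z.iso f hχ
    let m : z' ⟶ z := ⟨ψ, f, w⟩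
    exact ⟨z', m, IsHomLift.map (CategoricalPullback.π₂ F (𝟭 X)) m⟩
  · intro z₁ z₂ m
    refine { toIsHomLift := IsHomLift.map _ m, universal_property' := ?_ }
    intro z₃ g n hn
    have hsnd : g ≫ m.snd = n.snd :=
      IsHomLift.eq_of_isHomLift (CategoricalPullback.π₂ F (𝟭 X))
        (g ≫ (CategoricalPullback.π₂ F (𝟭 X)).map m) n
    -- the candidate in `X`
    let β : F.obj z₃.fst ⟶ F.obj z₁.fst := z₃.iso.hom ≫ g ≫ z₁.iso.inv
    have hβ : β ≫ F.map m.fst = F.map n.fst :=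
      key1 z₁.iso z₂.iso z₃.iso (F.map m.fst) m.snd (F.map n.fst) n.snd g m.w n.w hsnd
    have hf' : (F ⋙ πX).map n.fst = πX.map β ≫ (F ⋙ πX).map m.fst := by
      show πX.map (F.map n.fst) = πX.map β ≫ πX.map (F.map m.fst)
      rw [← πX.map_comp, hβ]
    have hsY := hY.isStronglyCartesian m.fst
    have hsX := hX.isStronglyCartesian (F.map m.fst)
    let χ₁ : z₃.fst ⟶ z₁.fst := Functor.IsStronglyCartesian.map (F ⋙ πX) ((F ⋙ πX).map m.fst)
      m.fst (g := πX.map β) hf' n.fst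
    have hχ₁lift : (F ⋙ πX).IsHomLift (πX.map β) χ₁ := inferInstance
    have hχ₁fac : χ₁ ≫ m.fst = n.fst :=
      Functor.IsStronglyCartesian.fac (F ⋙ πX) ((F ⋙ πX).map m.fst) m.fst (g := πX.map β) hf' n.fst
    have hFχ₁ : F.map χ₁ = β := by
      have l1 : πX.IsHomLift (πX.map β) (F.map χ₁) := isHomLift_map_of_comp F πX _ χ₁ hχ₁lift
      have l2 : πX.IsHomLift (πX.map β) β := IsHomLift.map πX β
      apply Functor.IsStronglyCartesian.ext πX (πX.map (F.map m.fst)) (F.map m.fst) (πX.map β)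
      rw [← F.map_comp, hχ₁fac, hβ]
    have w : F.map χ₁ ≫ z₁.iso.hom = z₃.iso.hom ≫ (𝟭 X).map g :=
      (key2 z₁.iso z₃.iso g (F.map χ₁)).mpr hFχ₁
    let χ : z₃ ⟶ z₁ := ⟨χ₁, g, w⟩
    refine ⟨χ, ⟨IsHomLift.map (CategoricalPullback.π₂ F (𝟭 X)) χ, ?_⟩, ?_⟩
    · exact CategoricalPullback.hom_ext hχ₁fac hsnd
    · rintro χ' ⟨hχ'lift, hχ'fac⟩
      have hs' : g = χ'.snd :=
        IsHomLift.eq_of_isHomLift (CategoricalPullback.π₂ F (𝟭 X)) g χ'
      have hfst : χ'.fst ≫ m.fst = n.fst := by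
        rw [← CategoricalPullback.comp_fst, hχ'fac]
      have hFχ' : F.map χ'.fst = β := by
        have h3 := (key2 z₁.iso z₃.iso χ'.snd (F.map χ'.fst)).mp χ'.w
        rw [← hs'] at h3
        exact h3
      have hlift' : (F ⋙ πX).IsHomLift (πX.map β) χ'.fst := by
        rw [← hFχ']
        exact IsHomLift.map (F ⋙ πX) χ'.fst
      have := Functor.IsStronglyCartesian.map_uniq (F ⋙ πX) ((F ⋙ πX).map m.fst) m.fst
        (g := πX.map β) hf' n.fst χ'.fst hfst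
      exact CategoricalPullback.hom_ext this hs'.symm

end main


/-- Let S be a category, π_X : X ⥤ S and π_Y : Y ⥤ S be fibred in groupoids, and F : Y ⥤ X a functor
with F ⋙ π_X = π_Y. Consider the category of triples (y, x, φ) with φ : F y ≅ x an arbitrary
isomorphism of X and morphisms the compatible pairs of morphisms (the categorical pullback of F and
the identity of X; the isomorphism φ is not required to lie over an identity of S). Its projection
to X is fibred in groupoids over X, and the composite of that projection with π_X is fibred in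
groupoids over S. (The published statement also asserts that y ↦ (y, F y, id) and (y, x, φ) ↦ y form
an equivalence over S; that is not asserted here.) -/
theorem result {S : Type u} [Category.{v} S] {X : Type u} [Category.{v} X]
    {Y : Type u} [Category.{v} Y] (πX : X ⥤ S) (πY : Y ⥤ S) (hX : FibCat.IsFibGrpd πX) (hY : FibCat.IsFibGrpd πY)
    (F : Y ⥤ X) (hF : F ⋙ πX = πY) :
    FibCat.IsFibGrpd (CategoricalPullback.π₂ F (𝟭 X)) ∧
      FibCat.IsFibGrpd (CategoricalPullback.π₂ F (𝟭 X) ⋙ πX) := by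
  subst hF
  have h1 := isFibGrpd_π₂ πX hX F hY
  exact ⟨h1, Groth.Agent.S6416.result _ _ h1 hX⟩

end Groth.Agent.S16361
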