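import Groth.Statements.S16362
import Mathlib
-- import your own Groth.Agent.* helpers here

set_option autoImplicit false
universe u
open MovLem

namespace Groth.Agent.S16362

theorem aux {R K : Type*} [CommRing R] [IsDomain R] [Field K] [Algebra R K] [IsFractionRing R K]
    (z w : R) (hw : w ≠ 0) :
    IsIntegral R (algebraMap R K z / algebraMap R K w) ↔
      ∃ (N : ℕ) (b : ℕ → R), z ^ N + ∑ i ∈ Finset.Icc 1 N, b i * z ^ (N - i) * w ^ i = 0 := by
  classical
  have hw0 : algebraMap R K w ≠ 0 := by
    rwa [Ne, map_eq_zero_iff _ (IsFractionRing.injective R K)]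
  have hfield : ∀ (c z w : K) (N i : ℕ), w ≠ 0 → i ≤ N →
      c * z ^ (N - i) * w ^ i = w ^ N * (c * (z ^ (N - i) / w ^ (N - i))) := by
    intro c z w N i hw hi
    have : w ^ N = w ^ (N - i) * w ^ i := by rw [← pow_add]; congr 1; omega
    rw [this]
    field_simp
  -- key identity
  have key : ∀ (N : ℕ) (b : ℕ → R),
      algebraMap R K (z ^ N + ∑ i ∈ Finset.Icc 1 N, b i * z ^ (N - i) * w ^ i) =
        (algebraMap R K w) ^ N * ((algebraMap R K z / algebraMap R K w) ^ N + ∑ i ∈ Finset.Icc 1 N,
          algebraMap R K (b i) * (algebraMap R K z / algebraMap R K w) ^ (N - i)) := by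
    intro N b
    rw [map_add, map_pow, mul_add, Finset.mul_sum, map_sum, div_pow,
      mul_div_cancel₀ _ (pow_ne_zero N hw0)]
    congr 1
    refine Finset.sum_congr rfl (fun i hi => ?_)
    rw [Finset.mem_Icc] at hi
    rw [map_mul, map_mul, map_pow, map_pow, div_pow]
    exact hfield _ _ _ _ _ hw0 hi.2
  -- the monic polynomial attached to `b`
  have hmonic : ∀ (N : ℕ) (b : ℕ → R),
      (Polynomial.X ^ N + ∑ i ∈ Finset.Icc 1 N, Polynomial.C (b i) * Polynomial.X ^ (N - i) :
        Polynomial R).Monic := by
    intro N b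
    apply Polynomial.monic_X_pow_add
    refine (Polynomial.degree_sum_le _ _).trans_lt ?_
    refine (Finset.sup_lt_iff (WithBot.bot_lt_coe N)).2 ?_
    intro i hi
    rw [Finset.mem_Icc] at hi
    refine (Polynomial.degree_C_mul_X_pow_le _ _).trans_lt ?_
    exact WithBot.coe_lt_coe.mpr (by omega : N - i < N)
  have heval : ∀ (N : ℕ) (b : ℕ → R) (x : K),
      Polynomial.eval₂ (algebraMap R K) x
        (Polynomial.X ^ N + ∑ i ∈ Finset.Icc 1 N, Polynomial.C (b i) * Polynomial.X ^ (N - i)) =
        x ^ N + ∑ i ∈ Finset.Icc 1 N, algebraMap R K (b i) * x ^ (N - i) := by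
    intro N b x
    simp [Polynomial.eval₂_add, Polynomial.eval₂_finsetSum]
  constructor
  · rintro ⟨g, hg, hgx⟩
    set N := g.natDegree with hN
    refine ⟨N, fun i => g.coeff (N - i), ?_⟩
    rw [← map_eq_zero_iff _ (IsFractionRing.injective R K), key]
    have hg' : g = Polynomial.X ^ N + ∑ i ∈ Finset.Icc 1 N,
        Polynomial.C (g.coeff (N - i)) * Polynomial.X ^ (N - i) := by
      conv_lhs => rw [hg.as_sum]
      congr 1
      refine Finset.sum_nbij' (fun j => N - j) (fun i => N - i) ?_ ?_ ?_ ?_ ?_
      · intro j hj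
        rw [Finset.mem_range] at hj
        rw [Finset.mem_Icc]; omega
      · intro i hi
        rw [Finset.mem_Icc] at hi
        rw [Finset.mem_range]; omega
      · intro j hj
        rw [Finset.mem_range] at hj
        show N - (N - j) = j
        omega
      · intro i hi
        rw [Finset.mem_Icc] at hi
        show N - (N - i) = i
        omega
      · intro j hj
        rw [Finset.mem_range] at hj
        have : N - (N - j) = j := by omega
        simp only [this]
    rw [← heval N (fun i => g.coeff (N - i)), ← hg', hgx, mul_zero]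
  · rintro ⟨N, b, hb⟩
    refine ⟨_, hmonic N b, ?_⟩
    rw [heval]
    have := key N b
    rw [hb, map_zero] at this
    exact (mul_eq_zero.mp this.symm).resolve_left (pow_ne_zero N hw0)

/-- Let A be a commutative ring, p a prime ideal of A, and ζ, u elements of A with u not in p. Then the
quotient of the classes of ζ and u in the fraction field of the domain A ⧸ p is integral over A ⧸ p
if and only if there exist a natural number N and elements a_1, …, a_N of A such that ζ^N + a_1
ζ^(N-1) u + ⋯ + a_N u^N lies in p; equivalently, some binary form of degree N with coefficients in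
A, monic in the first variable, evaluated at (ζ, u), lies in p. -/
theorem result
    {A : Type u} [CommRing A] (p : Ideal A) [p.IsPrime] (ζ u : A) (hu : u ∉ p) :
    IsIntegral (A ⧸ p)
        (algebraMap (A ⧸ p) (FractionRing (A ⧸ p)) (Ideal.Quotient.mk p ζ) /
          algebraMap (A ⧸ p) (FractionRing (A ⧸ p)) (Ideal.Quotient.mk p u)) ↔
      ∃ (N : ℕ) (a : ℕ → A),
        ζ ^ N + ∑ i ∈ Finset.Icc 1 N, a i * ζ ^ (N - i) * u ^ i ∈ p := by
  classical
  have hu' : Ideal.Quotient.mk p u ≠ 0 := by
    rwa [Ne, Ideal.Quotient.eq_zero_iff_mem]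
  rw [aux (K := FractionRing (A ⧸ p)) (Ideal.Quotient.mk p ζ) (Ideal.Quotient.mk p u) hu']
  constructor
  · rintro ⟨N, b, hb⟩
    obtain ⟨lift, hlift⟩ :=
      Function.Surjective.hasRightInverse (Ideal.Quotient.mk_surjective (I := p))
    refine ⟨N, fun i => lift (b i), ?_⟩
    rw [← Ideal.Quotient.eq_zero_iff_mem, map_add, map_sum, map_pow]
    simp only [map_mul, map_pow, hlift _]
    exact hb
  · rintro ⟨N, a, ha⟩
    refine ⟨N, fun i => Ideal.Quotient.mk p (a i), ?_⟩
    rw [← Ideal.Quotient.eq_zero_iff_mem, map_add, map_sum, map_pow] at ha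
    simpa only [map_mul, map_pow] using ha

end Groth.Agent.S16362
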