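import Groth.Statements.S16368
import Mathlib
import Groth.Agent.H81.FittSemilinear

set_option autoImplicit false
universe u v
open TensorProduct
open FrobAlg

namespace Groth.Agent.S16368

/-- Let R be a local ring of prime characteristic p and M a finitely presented R-module. Write R' for R
regarded as an R-algebra through its Frobenius a ↦ a^p, so that R' ⊗_R M is the pull-back of M along
the absolute Frobenius of Spec R, an R'-module. If this pull-back is isomorphic to M — there is a
bijective map e : R' ⊗_R M → M, additive and semilinear for the identification R' = R — then M is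
free. -/
theorem result
    (p : ℕ) [Fact p.Prime] (R : Type u) [CommRing R] [IsLocalRing R] [CharP R p]
    (M : Type v) [AddCommGroup M] [Module R M] [Module.FinitePresentation R M]
    (e : (FrobAlg.Twist p R ⊗[R] M) →ₛₗ[((FrobAlg.toTwist p R).symm : FrobAlg.Twist p R →+* R)] M)
    (he : Function.Bijective e) :
    Module.Free R M := by
  classical
  haveI : Module.Finite R M := inferInstance
  -- Step 1: the Fitting ideals are stable under the Frobenius power
  have hfix : ∀ k, (Fitt.ideal R M k).map (frobenius R p) = Fitt.ideal R M k := by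
    intro k
    have h1 := Groth.Agent.Lead.fitt_ideal_baseChange (R := R) (R' := FrobAlg.Twist p R) (M := M) k
    have h2 := Groth.Agent.H81.FittSemilinear.map_eq
      ((FrobAlg.toTwist p R).symm : FrobAlg.Twist p R →+* R) (FrobAlg.toTwist p R).symm.bijective e he k
    rw [h1, Ideal.map_map] at h2
    have h3 : ((FrobAlg.toTwist p R).symm : FrobAlg.Twist p R →+* R).comp
        (algebraMap R (FrobAlg.Twist p R)) = frobenius R p := by
      ext a
      rfl
    rw [h3] at h2
    exact h2
  -- Step 2: each Fitting ideal is 0 or everything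
  have h01 : ∀ k, Fitt.ideal R M k = ⊥ ∨ Fitt.ideal R M k = ⊤ := by
    intro k
    by_cases htop : Fitt.ideal R M k = ⊤
    · exact Or.inr htop
    · left
      have hle : Fitt.ideal R M k ≤ IsLocalRing.maximalIdeal R := IsLocalRing.le_maximalIdeal htop
      have hfg : (Fitt.ideal R M k).FG := Groth.Agent.Lead.fitt_ideal_fg k
      refine Submodule.eq_bot_of_le_smul_of_le_jacobson_bot (IsLocalRing.maximalIdeal R)
        (Fitt.ideal R M k) hfg ?_ ?_
      · rw [smul_eq_mul]
        have hp2 : 2 ≤ p := (Fact.out : p.Prime).two_le
        calc Fitt.ideal R M k = (Fitt.ideal R M k).map (frobenius R p) := (hfix k).symm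
          _ ≤ IsLocalRing.maximalIdeal R * Fitt.ideal R M k := by
            rw [Ideal.map_le_iff_le_comap]
            intro a ha
            rw [Ideal.mem_comap, frobenius_def]
            obtain ⟨q, rfl⟩ : ∃ q, p = q + 1 := ⟨p - 1, by omega⟩
            rw [pow_succ]
            exact Ideal.mul_mem_mul (Ideal.pow_mem_of_mem _ (hle ha) q (by omega)) ha
      · rw [IsLocalRing.jacobson_eq_maximalIdeal ⊥ bot_ne_top]
  -- Step 3: minimal index with Fitt = ⊤
  obtain ⟨n, x, hx⟩ := Module.Finite.exists_fin (R := R) (M := M)
  have hn : Fitt.ideal R M n = ⊤ := Groth.Agent.Lead.fitt_ideal_eq_top_of_le x hx le_rfl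
  have hex : ∃ r, Fitt.ideal R M r = ⊤ := ⟨n, hn⟩
  have hr : Fitt.ideal R M (Nat.find hex) = ⊤ := Nat.find_spec hex
  have hr' : Nat.find hex = 0 ∨ Fitt.ideal R M (Nat.find hex - 1) = ⊥ := by
    by_cases h0 : Nat.find hex = 0
    · exact Or.inl h0
    · right
      rcases h01 (Nat.find hex - 1) with h | h
      · exact h
      · exact absurd h (Nat.find_min hex (by omega))
  -- Step 4: Nat.find hex generators
  have hgen : ∃ g : Fin (Nat.find hex) → M, Submodule.span R (Set.range g) = ⊤ := by
    have hfit := Groth.Agent.Lead.fitt_ideal_eq_minorIdeal x hx (Nat.find hex)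
    rw [hr] at hfit
    have hunit : ∃ (z : Fin (n - Nat.find hex) → (Fin n → R)) (ee : Fin (n - Nat.find hex) → Fin n),
        (∀ b, z b ∈ Groth.Agent.Lead.relations R x) ∧
          IsUnit (Matrix.of fun a b => z b (ee a)).det := by
      by_contra hcon
      push_neg at hcon
      have hle : Groth.Agent.Lead.minorIdeal (Groth.Agent.Lead.relations R x) (n - Nat.find hex) ≤
          IsLocalRing.maximalIdeal R := by
        rw [Groth.Agent.Lead.minorIdeal_le_iff]
        intro z ee hz
        rw [IsLocalRing.mem_maximalIdeal, mem_nonunits_iff]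
        exact hcon z ee hz
      rw [← hfit] at hle
      exact (IsLocalRing.maximalIdeal.isMaximal R).ne_top (top_le_iff.mp hle)
    obtain ⟨z, ee, hz, hu⟩ := hunit
    have hee : Function.Injective ee := by
      by_contra hinj
      rw [Function.Injective] at hinj
      push_neg at hinj
      obtain ⟨a1, a2, h12, hne⟩ := hinj
      have h0 : (Matrix.of fun a b => z b (ee a)).det = 0 := by
        apply Matrix.det_zero_of_row_eq hne
        funext b
        simp [h12]
      rw [h0] at hu
      exact not_isUnit_zero hu
    obtain ⟨g, hg⟩ := Groth.Agent.Lead.exists_span_quotient_of_minor_dvd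
      (k := Nat.find hex) (by omega) x hx z hz ee hee
      (fun e' => hu.dvd) (⊥ : Submodule R M) (fun y hy => by
        rw [Submodule.mem_bot]
        exact (hu.smul_left_cancel).mp (by rw [hy, smul_zero]))
    let φ : (M ⧸ (⊥ : Submodule R M)) →ₗ[R] M :=
      (Submodule.quotEquivOfEqBot (⊥ : Submodule R M) rfl).toLinearMap
    have hφ : Function.Surjective φ := (Submodule.quotEquivOfEqBot (⊥ : Submodule R M) rfl).surjective
    refine ⟨fun i => φ (g i), ?_⟩
    have h1 : Set.range (fun i => φ (g i)) = φ '' Set.range g := by
      ext y; constructor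
      · rintro ⟨j, rfl⟩; exact ⟨g j, ⟨j, rfl⟩, rfl⟩
      · rintro ⟨_, ⟨j, rfl⟩, rfl⟩; exact ⟨j, rfl⟩
    rw [h1, ← Submodule.map_span, hg, Submodule.map_top, LinearMap.range_eq_top]
    exact hφ
  obtain ⟨g, hg⟩ := hgen
  have hli := Groth.Agent.Lead.linearIndependent_of_fitt_ideal_eq_bot g hg hr'
  exact Module.Free.of_basis (Module.Basis.mk hli (by rw [hg]))

end Groth.Agent.S16368
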