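import Groth.Statements.S16370
import Mathlib
-- import your own Groth.Agent.* helpers here

set_option autoImplicit false
universe u
open CategoryTheory AlgebraicGeometry Opposite
open FrobSch

namespace Groth.Agent.S16370

/-- (ii) ⇒ (iii): let X be a reduced scheme of prime characteristic p, φ the p-th power map on the sheaf
of additive groups underlying O_X (a monomorphism, X being reduced) and B its cokernel in abelian
sheaves. If H^i(X, B) = 0 for all i ≥ 0, then the endomorphism of H^i(X, O_X) induced by φ — the
Hasse–Witt operation — is bijective for all i. (The source has X normal and proper over a perfect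
field; only reducedness enters this implication.) -/
theorem result
    (p : ℕ) [Fact p.Prime] (X : Scheme.{u}) [IsReduced X] (hp : (p : Γ(X, ⊤)) = 0)
    (φ : Coh.toAb (Coh.structureModule X) ⟶ Coh.toAb (Coh.structureModule X))
    (hφ : ∀ (U : X.Opens) (t : Γ(X, U)), φ.hom.app (op U) t = t ^ p)
    (hB : ∀ i : ℕ, Subsingleton (Sheaf.H (Limits.cokernel φ) i))
    (i : ℕ) : Function.Bijective (Sheaf.H.map φ i) := by
  have hmono : Mono φ := by
    haveI : ∀ U, Mono (φ.hom.app U) := by
      intro U
      rw [AddCommGrpCat.mono_iff_injective]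
      rw [injective_iff_map_eq_zero]
      intro (t : Γ(X, U.unop)) ht
      have h1 := hφ U.unop t
      have h2 : t ^ p = 0 := by
        rw [← h1]
        exact ht
      have h3 : t = 0 := IsNilpotent.eq_zero ⟨p, h2⟩
      exact h3
    haveI : Mono φ.hom := NatTrans.mono_of_mono_app φ.hom
    exact Sheaf.Hom.mono_of_presheaf_mono _ _ φ
  let S : ShortComplex (Sheaf (Opens.grothendieckTopology X) AddCommGrpCat.{u}) :=
    ShortComplex.mk φ (Limits.cokernel.π φ) (Limits.cokernel.condition φ)
  have hS : S.ShortExact := by
    refine ShortComplex.ShortExact.mk' (ShortComplex.exact_cokernel φ) ?_ ?_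
    · exact hmono
    · exact inferInstanceAs (Epi (Limits.cokernel.π φ))
  constructor
  · rw [injective_iff_map_eq_zero]
    intro x hx
    rcases i with _ | n
    · exact (injective_iff_map_eq_zero _).mp
        (Abelian.Ext.postcomp_mk₀_injective_of_mono _ φ) x hx
    · obtain ⟨x₃, hx₃⟩ := Abelian.Ext.covariant_sequence_exact₁ _ hS x hx rfl
      haveI := hB n
      rw [← hx₃, Subsingleton.elim x₃ 0, Abelian.Ext.zero_comp]
  · intro x₂
    haveI := hB i
    obtain ⟨x₁, hx₁⟩ := Abelian.Ext.covariant_sequence_exact₂ _ hS x₂ (Subsingleton.elim _ _)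
    exact ⟨x₁, hx₁⟩

end Groth.Agent.S16370
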