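import Groth.Statements.S16373
import Mathlib
import Groth.Agent.S16372

set_option autoImplicit false
universe u
open FrobAlg

namespace Groth.Agent.S16373

/-- Let p be a prime, m ≥ 1, R a commutative ring with p = 0 in R and σ : W_m(R) → R a quasi-F-splitting
of level m (additive, σ(1) = 1, σ(F(x)·y) = x₀·σ(y) with F the componentwise p-th power). Let I ⊆
W_{m+1}(R) be the ideal generated by the shifts V(x) of the x with σ(x) = 0, and Q = W_{m+1}(R)/I.
Then Q is a flat lifting of R modulo p²: an element of Q lies in pQ exactly when the first Witt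
component of a representative vanishes (so Q/pQ is R through the first component), and an element of
Q is killed by p exactly when it lies in pQ. (Stated for a ring; the source has a scheme over the
prime field. For m = 1 this is the lifting attached to a Frobenius splitting.) -/
theorem result
    (p : ℕ) [Fact p.Prime] (m : ℕ) (hm : 0 < m) (R : Type u) [CommRing R] (hp : (p : R) = 0)
    (σ : TruncatedWittVector p m R →+ R) (h1 : σ 1 = 1)
    (hF : ∀ x y : TruncatedWittVector p m R, σ (WittGrp.frob p m hp x * y) = x.coeff ⟨0, hm⟩ * σ y)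
    (I : Ideal (TruncatedWittVector p (m + 1) R))
    (hI : I = Ideal.span (WittGrp.shift p (Nat.le_succ m) '' {x : TruncatedWittVector p m R | σ x = 0})) :
    (∀ w : TruncatedWittVector p (m + 1) R,
        Ideal.Quotient.mk I w ∈ Ideal.span ({(p : TruncatedWittVector p (m + 1) R ⧸ I)} : Set _) ↔
          w.coeff 0 = 0) ∧
    (∀ q : TruncatedWittVector p (m + 1) R ⧸ I,
        (p : TruncatedWittVector p (m + 1) R ⧸ I) * q = 0 ↔
          q ∈ Ideal.span ({(p : TruncatedWittVector p (m + 1) R ⧸ I)} : Set _)) := by
  rcases subsingleton_or_nontrivial R with hR | hR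
  · haveI : Subsingleton (TruncatedWittVector p (m + 1) R) :=
      ⟨fun a b => TruncatedWittVector.ext fun i => Subsingleton.elim _ _⟩
    haveI : Subsingleton (TruncatedWittVector p (m + 1) R ⧸ I) :=
      Function.Surjective.subsingleton Ideal.Quotient.mk_surjective
    refine ⟨fun w => ⟨fun _ => Subsingleton.elim _ _, fun _ => ?_⟩,
      fun q => ⟨fun _ => ?_, fun _ => Subsingleton.elim _ _⟩⟩
    · rw [Subsingleton.elim (Ideal.Quotient.mk I w) 0]; exact zero_mem _
    · rw [Subsingleton.elim q 0]; exact zero_mem _
  haveI : CharP R p := (CharP.charP_iff_prime_eq_zero Fact.out).mpr hp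
  -- notation
  let V : TruncatedWittVector p m R →+ TruncatedWittVector p (m + 1) R :=
    WittGrp.shift p (Nat.le_succ m)
  let F : TruncatedWittVector p m R →+* TruncatedWittVector p m R := WittGrp.frob p m hp
  let tr : TruncatedWittVector p (m + 1) R →+* TruncatedWittVector p m R :=
    TruncatedWittVector.truncate (Nat.le_succ m)
  -- the zeroth component is a ring homomorphism
  let c0 : TruncatedWittVector p (m + 1) R →+* R :=
    { toFun := fun w => w.coeff 0
      map_one' := by
        rw [← map_one (WittVector.truncate (p := p) (R := R) (m + 1)), WittVector.coeff_truncate]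
        exact WittVector.one_coeff_zero p R
      map_zero' := TruncatedWittVector.coeff_zero p _ R _
      map_mul' := by
        intro x y
        obtain ⟨X, rfl⟩ := WittVector.truncate_surjective p (m + 1) R x
        obtain ⟨Y, rfl⟩ := WittVector.truncate_surjective p (m + 1) R y
        rw [← map_mul, WittVector.coeff_truncate, WittVector.coeff_truncate,
          WittVector.coeff_truncate]
        exact WittVector.mul_coeff_zero X Y
      map_add' := by
        intro x y
        obtain ⟨X, rfl⟩ := WittVector.truncate_surjective p (m + 1) R x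
        obtain ⟨Y, rfl⟩ := WittVector.truncate_surjective p (m + 1) R y
        rw [← map_add, WittVector.coeff_truncate, WittVector.coeff_truncate,
          WittVector.coeff_truncate]
        exact WittVector.add_coeff_zero X Y }
  have hc0 : ∀ w, c0 w = w.coeff 0 := fun w => rfl
  -- `p = V F` on `W_{m+1}`
  have hpV : ∀ w : TruncatedWittVector p (m + 1) R,
      (p : TruncatedWittVector p (m + 1) R) * w = V (F (tr w)) := by
    intro w
    obtain ⟨X, rfl⟩ := WittVector.truncate_surjective p (m + 1) R w
    have e : m.succ - m = 1 := by omega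
    change _ = WittGrp.shift p (Nat.le_succ m) (WittGrp.frob p m hp
      (TruncatedWittVector.truncate (Nat.le_succ m) (WittVector.truncate (m + 1) X)))
    rw [TruncatedWittVector.truncate_wittVector_truncate, WittGrp.frob_truncate,
      WittGrp.shift_truncate, e, Function.iterate_one, WittVector.verschiebung_frobenius,
      map_mul, map_natCast, mul_comm]
  have hc0V : ∀ x, (V x).coeff 0 = 0 := by
    intro x
    change (WittGrp.shift p (Nat.le_succ m) x).coeff 0 = 0
    rw [WittGrp.coeff_shift, dif_neg]
    simp
  have hVsurj : ∀ w : TruncatedWittVector p (m + 1) R, w.coeff 0 = 0 → ∃ u, V u = w := by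
    intro w hw
    refine ⟨TruncatedWittVector.mk p fun i => w.coeff i.succ, TruncatedWittVector.ext fun i => ?_⟩
    change (WittGrp.shift p (Nat.le_succ m) _).coeff i = _
    rw [WittGrp.coeff_shift]
    split_ifs with hi
    · rw [TruncatedWittVector.coeff_mk]
      congr 1
      apply Fin.ext
      simp only [Fin.val_succ]
      omega
    · have : i = 0 := by
        apply Fin.ext
        simp only [Fin.val_zero]
        omega
      rw [this, hw]
  have hVinj : Function.Injective V := by
    intro x y hxy
    apply TruncatedWittVector.ext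
    intro j
    have h := congrArg (fun w => w.coeff j.succ) hxy
    change (WittGrp.shift p (Nat.le_succ m) x).coeff j.succ =
      (WittGrp.shift p (Nat.le_succ m) y).coeff j.succ at h
    rw [WittGrp.coeff_shift, WittGrp.coeff_shift, dif_pos (by simp),
      dif_pos (by simp)] at h
    convert h using 2 <;> (apply Fin.ext; simp)
  have hσF : ∀ t : TruncatedWittVector p m R, σ (F t) = t.coeff ⟨0, hm⟩ := by
    intro t
    have := hF t 1
    rw [mul_one, h1, mul_one] at this
    exact this
  have htr0 : ∀ w : TruncatedWittVector p (m + 1) R, (tr w).coeff ⟨0, hm⟩ = w.coeff 0 := by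
    intro w
    change (TruncatedWittVector.truncate (Nat.le_succ m) w).coeff ⟨0, hm⟩ = _
    rw [TruncatedWittVector.coeff_truncate]
    rfl
  -- description of `I`
  have hVI : ∀ x, σ x = 0 → V x ∈ I := by
    intro x hx
    rw [hI]
    exact Ideal.subset_span ⟨x, hx, rfl⟩
  have hIV : ∀ w ∈ I, ∃ x, σ x = 0 ∧ w = V x := by
    intro w hw
    rw [hI] at hw
    induction hw using Submodule.span_induction with
    | mem w hw =>
      obtain ⟨x, hx, rfl⟩ := hw
      exact ⟨x, hx, rfl⟩
    | zero => exact ⟨0, map_zero σ, (map_zero V).symm⟩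
    | add a b _ _ iha ihb =>
      obtain ⟨x, hx, rfl⟩ := iha
      obtain ⟨y, hy, rfl⟩ := ihb
      exact ⟨x + y, by rw [map_add, hx, hy, add_zero], (map_add V x y).symm⟩
    | smul a b _ ihb =>
      obtain ⟨x, hx, rfl⟩ := ihb
      obtain ⟨x', hx', h⟩ := Groth.Agent.S16372.result p m hm R hp σ h1 hF a x hx
      exact ⟨x', hx', h⟩
  have hIc0 : ∀ w ∈ I, w.coeff 0 = 0 := by
    intro w hw
    obtain ⟨x, _, rfl⟩ := hIV w hw
    exact hc0V x
  have hpc0 : c0 (p : TruncatedWittVector p (m + 1) R) = 0 := by
    rw [map_natCast]; exact hp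
  -- first claim
  have claim1 : ∀ w : TruncatedWittVector p (m + 1) R,
      Ideal.Quotient.mk I w ∈ Ideal.span ({(p : TruncatedWittVector p (m + 1) R ⧸ I)} : Set _) ↔
        w.coeff 0 = 0 := by
    intro w
    constructor
    · intro h
      obtain ⟨a, ha⟩ := Ideal.mem_span_singleton'.mp h
      obtain ⟨w', rfl⟩ := Ideal.Quotient.mk_surjective a
      have h2 : w' * (p : TruncatedWittVector p (m + 1) R) - w ∈ I := by
        rw [← Ideal.Quotient.eq, map_mul, map_natCast]
        exact ha
      have h3 := hIc0 _ h2
      rw [← hc0, map_sub, map_mul, hpc0, mul_zero, zero_sub, neg_eq_zero] at h3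
      exact h3
    · intro hw
      obtain ⟨u, rfl⟩ := hVsurj w hw
      -- `u = F t + (u - F t)` with `t₀ = σ u`
      let t : TruncatedWittVector p m R := TruncatedWittVector.mk p fun _ => σ u
      have ht : t.coeff ⟨0, hm⟩ = σ u := TruncatedWittVector.coeff_mk _ _
      obtain ⟨w', hw'⟩ := TruncatedWittVector.truncate_surjective (p := p) (R := R) (Nat.le_succ m) t
      have h4 : V (u - F t) ∈ I := hVI _ (by rw [map_sub, hσF, ht, sub_self])
      have h5 : V u = (p : TruncatedWittVector p (m + 1) R) * w' + V (u - F t) := by
        rw [hpV, show tr w' = t from hw', ← map_add]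
        congr 1
        abel
      rw [h5, map_add, Ideal.Quotient.eq_zero_iff_mem.mpr h4, add_zero, map_mul, map_natCast]
      exact Ideal.mul_mem_right _ _ (Ideal.subset_span rfl)
  refine ⟨claim1, ?_⟩
  intro q
  obtain ⟨w, rfl⟩ := Ideal.Quotient.mk_surjective q
  constructor
  · intro h
    rw [claim1]
    have h2 : (p : TruncatedWittVector p (m + 1) R) * w ∈ I := by
      rw [← Ideal.Quotient.eq_zero_iff_mem, map_mul, map_natCast]
      exact h
    obtain ⟨x, hx, hxe⟩ := hIV _ h2
    rw [hpV] at hxe
    have h3 := hVinj hxe
    rw [← htr0, ← hσF, h3, hx]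
  · intro h
    obtain ⟨a, ha⟩ := Ideal.mem_span_singleton'.mp h
    obtain ⟨w', rfl⟩ := Ideal.Quotient.mk_surjective a
    rw [← ha, ← map_natCast (Ideal.Quotient.mk I), ← map_mul, ← map_mul,
      Ideal.Quotient.eq_zero_iff_mem]
    -- `p * (w' * p) = V (p * F (tr w'))`
    have h6 : (p : TruncatedWittVector p (m + 1) R) * (w' * (p : TruncatedWittVector p (m + 1) R)) =
        V ((p : TruncatedWittVector p m R) * F (tr w')) := by
      rw [hpV, map_mul, map_natCast, map_mul, map_natCast, mul_comm]
    rw [h6]
    apply hVI
    have h7 : σ (F (tr w') * (p : TruncatedWittVector p m R)) = 0 := by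
      have := hF (tr w') (p : TruncatedWittVector p m R)
      change σ (F (tr w') * _) = _ at this
      rw [this]
      have h8 : σ (p : TruncatedWittVector p m R) = 0 := by
        have : (p : TruncatedWittVector p m R) = p • (1 : TruncatedWittVector p m R) := by
          rw [nsmul_eq_mul, mul_one]
        rw [this, map_nsmul, h1, nsmul_eq_mul, mul_one, hp]
      rw [h8, mul_zero]
    rw [mul_comm]
    exact h7

end Groth.Agent.S16373
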