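import Groth.Statements.S16374
import Mathlib
-- import your own Groth.Agent.* helpers here

set_option autoImplicit false
universe u v w
open FrobAlg

namespace Groth.Agent.S16374

/-- Let p be a prime, A a commutative ring, B and C commutative A-algebras with p² = 0 in B, and g : C →
B an A-algebra map such that every g(c) is congruent modulo p to an element of the A-subalgebra of B
generated by the p-th powers (g lifts a relative Frobenius). Then d(g(x)) = 0 in the module of
Kähler differentials of B over A for every x ∈ C that is congruent modulo p to an element of the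
A-subalgebra of C generated by the p-th powers. (The source works with a lifting of the relative
Frobenius of a smooth scheme over a ℤ/p²-thickening and the subsheaf of functions whose reduction
comes from the Frobenius twist; smoothness is not needed for this vanishing.) -/
theorem result
    (p : ℕ) [Fact p.Prime] (A : Type u) [CommRing A] (B : Type v) [CommRing B] [Algebra A B]
    (C : Type w) [CommRing C] [Algebra A C] (hp : (p : B) ^ 2 = 0)
    (g : C →ₐ[A] B)
    (hg : ∀ c : C, ∃ u ∈ Algebra.adjoin A (Set.range fun b : B => b ^ p),
      g c - u ∈ Ideal.span ({(p : B)} : Set B))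
    (x y : C) (hy : y ∈ Algebra.adjoin A (Set.range fun c : C => c ^ p))
    (hxy : x - y ∈ Ideal.span ({(p : C)} : Set C)) :
    KaehlerDifferential.D A B (g x) = 0 := by
  have hpow : ∀ a b : B, a - b ∈ Ideal.span ({(p : B)} : Set B) → a ^ p = b ^ p := by
    intro a b hab
    rw [Ideal.mem_span_singleton] at hab
    have := dvd_sub_pow_of_dvd_sub hab 1
    rw [pow_one, hp, zero_dvd_iff, sub_eq_zero] at this
    exact this
  have hpp : ∀ ω : Ω[B⁄A], (p : B) • (p : B) • ω = 0 := by
    intro ω
    rw [smul_smul, ← pow_two, hp, zero_smul]
  -- the subalgebra of `B` of elements whose differential is divisible by `p`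
  let S : Subalgebra A B :=
    { carrier := {b | ∃ ω : Ω[B⁄A], KaehlerDifferential.D A B b = (p : B) • ω}
      mul_mem' := by
        rintro a b ⟨ω, hω⟩ ⟨η, hη⟩
        refine ⟨a • η + b • ω, ?_⟩
        rw [Derivation.leibniz, hω, hη, smul_add, smul_comm a, smul_comm b]
      add_mem' := by
        rintro a b ⟨ω, hω⟩ ⟨η, hη⟩
        exact ⟨ω + η, by rw [map_add, hω, hη, smul_add]⟩
      algebraMap_mem' := fun a => ⟨0, by simp⟩ }
  have hS : Algebra.adjoin A (Set.range fun b : B => b ^ p) ≤ S := by
    refine Algebra.adjoin_le ?_
    rintro _ ⟨b, rfl⟩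
    refine ⟨b ^ (p - 1) • KaehlerDifferential.D A B b, ?_⟩
    rw [Derivation.leibniz_pow, ← Nat.cast_smul_eq_nsmul B]
  -- the differential of `g (c ^ p)` vanishes
  have hDpow : ∀ c : C, KaehlerDifferential.D A B (g (c ^ p)) = 0 := by
    intro c
    obtain ⟨u, hu, hcu⟩ := hg c
    obtain ⟨ω, hω⟩ := hS hu
    rw [map_pow, hpow _ _ hcu, Derivation.leibniz_pow, hω, ← Nat.cast_smul_eq_nsmul B,
      smul_comm (u ^ (p - 1)) (p : B) ω, hpp]
  -- the subalgebra of `C` on which `D ∘ g` vanishes
  let T : Subalgebra A C :=
    { carrier := {c | KaehlerDifferential.D A B (g c) = 0}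
      mul_mem' := by
        intro a b ha hb
        change KaehlerDifferential.D A B (g (a * b)) = 0
        rw [map_mul, Derivation.leibniz, show KaehlerDifferential.D A B (g a) = 0 from ha,
          show KaehlerDifferential.D A B (g b) = 0 from hb, smul_zero, smul_zero, add_zero]
      add_mem' := by
        intro a b ha hb
        change KaehlerDifferential.D A B (g (a + b)) = 0
        rw [map_add, map_add, show KaehlerDifferential.D A B (g a) = 0 from ha,
          show KaehlerDifferential.D A B (g b) = 0 from hb, add_zero]
      algebraMap_mem' := fun a => by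
        change KaehlerDifferential.D A B (g (algebraMap A C a)) = 0
        rw [AlgHom.commutes, Derivation.map_algebraMap] }
  have hT : Algebra.adjoin A (Set.range fun c : C => c ^ p) ≤ T := by
    refine Algebra.adjoin_le ?_
    rintro _ ⟨c, rfl⟩
    exact hDpow c
  have hy' : KaehlerDifferential.D A B (g y) = 0 := hT hy
  rw [Ideal.mem_span_singleton] at hxy
  obtain ⟨c, hc⟩ := hxy
  have hx : x = y + (p : C) * c := by rw [← hc]; ring
  obtain ⟨u, hu, hcu⟩ := hg c
  obtain ⟨ω, hω⟩ := hS hu
  rw [Ideal.mem_span_singleton] at hcu
  obtain ⟨b, hb⟩ := hcu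
  have hgc : g c = u + (p : B) * b := by rw [← hb]; ring
  rw [hx, map_add, map_add, hy', zero_add, map_mul, map_natCast, Derivation.leibniz,
    Derivation.map_natCast, smul_zero, add_zero, hgc, map_add, hω, Derivation.leibniz,
    Derivation.map_natCast, smul_zero, add_zero, smul_add, hpp, hpp, add_zero]

end Groth.Agent.S16374
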