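import Groth.Statements.S1638
import Mathlib.RingTheory.Flat.Basic
import Mathlib.RingTheory.Flat.FaithfullyFlat.Basic
import Mathlib.LinearAlgebra.FreeModule.Basic
import Mathlib.LinearAlgebra.Basis.VectorSpace

set_option autoImplicit false
universe u
open Brauer

namespace Groth.Agent.S1638

open TensorProduct in
/-- Let A and A' be algebras over a field k with subalgebras B ⊆ A and B' ⊆ A' having centralizers C and
C'. Then the centralizer of the image of B ⊗ B' in A ⊗_k A' is the image of C ⊗_k C'. -/
theorem result (k : Type u) [Field k] (A A' : Type u) [Ring A] [Ring A'] [Algebra k A] [Algebra k A']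
    (B : Subalgebra k A) (B' : Subalgebra k A') :
    Subalgebra.centralizer k ((Algebra.TensorProduct.map B.val B'.val).range : Set (TensorProduct k A A')) =
      (Algebra.TensorProduct.map (Subalgebra.centralizer k (B : Set A)).val (Subalgebra.centralizer k (B' : Set A')).val).range := by
  set C := Subalgebra.centralizer k (B : Set A) with hC
  set C' := Subalgebra.centralizer k (B' : Set A') with hC'
  apply le_antisymm
  · intro w hw
    -- w commutes with B ⊗ 1
    have hw1 : w ∈ Subalgebra.centralizer k
        ((Algebra.TensorProduct.includeLeft (S := k) : A →ₐ[k] A ⊗[k] A') '' (B : Set A)) := by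
      rw [Subalgebra.mem_centralizer_iff] at hw ⊢
      rintro _ ⟨b, hb, rfl⟩
      exact hw _ ⟨(⟨b, hb⟩ : B) ⊗ₜ[k] (1 : B'), by simp⟩
    rw [Subalgebra.centralizer_coe_image_includeLeft_eq_center_tensorProduct k A A' (B : Set A)] at hw1
    obtain ⟨w₁, rfl⟩ := hw1
    -- now w₁ ∈ C ⊗ A' commutes with 1 ⊗ B'
    have hinj : Function.Injective
        (Algebra.TensorProduct.map C.val (AlgHom.id k A')) := by
      have := Module.Flat.rTensor_preserves_injective_linearMap (M := A') C.val.toLinearMap
        Subtype.val_injective
      intro x y hxy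
      apply this
      exact hxy
    have hw2 : w₁ ∈ Subalgebra.centralizer k
        ((Algebra.TensorProduct.includeRight : A' →ₐ[k] C ⊗[k] A') '' (B' : Set A')) := by
      rw [Subalgebra.mem_centralizer_iff] at hw ⊢
      rintro _ ⟨b', hb', rfl⟩
      apply hinj
      have := hw ((1 : A) ⊗ₜ[k] b') ⟨(1 : B) ⊗ₜ[k] (⟨b', hb'⟩ : B'), by simp⟩
      simpa [map_mul] using this
    rw [Subalgebra.centralizer_coe_image_includeRight_eq_center_tensorProduct k C A' (B' : Set A')] at hw2
    obtain ⟨w₂, rfl⟩ := hw2
    refine ⟨w₂, ?_⟩
    have : (Algebra.TensorProduct.map C.val (AlgHom.id k A')).comp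
        (Algebra.TensorProduct.map (AlgHom.id k C) C'.val) =
        Algebra.TensorProduct.map C.val C'.val := by
      ext <;> simp
    exact (DFunLike.congr_fun this w₂).symm
  · rintro _ ⟨w, rfl⟩
    rw [Subalgebra.mem_centralizer_iff]
    rintro _ ⟨x, rfl⟩
    induction w using TensorProduct.induction_on with
    | zero => simp
    | add y z hy hz => rw [map_add, mul_add, hy, hz, add_mul]
    | tmul c c' =>
      induction x using TensorProduct.induction_on with
      | zero => simp
      | add y z hy hz => rw [map_add, mul_add, ← hy, ← hz, add_mul]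
      | tmul b b' =>
        have h1 := (Subalgebra.mem_centralizer_iff k).1 c.2 b b.2
        have h2 := (Subalgebra.mem_centralizer_iff k).1 c'.2 b' b'.2
        simp [Algebra.TensorProduct.tmul_mul_tmul, h1, h2]

end Groth.Agent.S1638
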