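import Groth.Statements.S1639
import Groth.Agent.H18.Norm.Bundle
import Groth.Agent.H67.NormNormal
import Groth.Agent.H22.CompLift
import Groth.Agent.H18.STL.PullQuasiAffine

set_option autoImplicit false
universe u
open CategoryTheory CategoryTheory.Limits AlgebraicGeometry
open Divisors

namespace Groth.Agent.S1639

/-- Let π : X → Y be finite and surjective, with Y integral and normal. If X has an ample invertible
module then so does Y. -/
theorem result {X Y : Scheme.{u}} (π : X ⟶ Y) [IsFinite π] [Surjective π]
    [IsIntegral Y] (hY : Pi1.IsNormalScheme Y) (L : X.Modules) (hL : CohB1.IsAmple L) :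
    ∃ M : Y.Modules, CohB1.IsAmple M := by
  classical
  -- a point over the generic point of `Y`
  obtain ⟨x, hx⟩ := Surjective.surj (f := π) (genericPoint Y)
  let T : TopologicalSpace.Closeds X := ⟨closure {x}, isClosed_closure⟩
  have hT : IsIrreducible (T : Set X) := isIrreducible_singleton.closure
  haveI hint : IsIntegral (Scheme.IdealSheafData.vanishingIdeal T).subscheme :=
    Groth.Agent.H22.CompLift.isIntegral_subscheme_vanishingIdeal T hT
  let i := (Scheme.IdealSheafData.vanishingIdeal T).subschemeι
  have hrange : Set.range i = (T : Set X) :=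
    Groth.Agent.H22.CompLift.range_subschemeι_vanishingIdeal T
  -- the composite is finite and surjective
  haveI : IsFinite (i ≫ π) := inferInstance
  haveI : Surjective (i ≫ π) := by
    refine ⟨?_⟩
    have hcl : IsClosed (Set.range (i ≫ π)) := (i ≫ π).isClosedMap.isClosed_range
    have hmem : genericPoint Y ∈ Set.range (i ≫ π) := by
      have hxT : x ∈ Set.range i := by
        rw [hrange]
        exact subset_closure rfl
      obtain ⟨z, hz⟩ := hxT
      refine ⟨z, ?_⟩
      rw [Scheme.Hom.comp_apply, hz, hx]
    have h1 : closure {genericPoint Y} ⊆ Set.range (i ≫ π) :=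
      hcl.closure_subset_iff.2 (Set.singleton_subset_iff.2 hmem)
    rw [genericPoint_spec Y] at h1
    intro y
    exact h1 (Set.mem_univ y)
  -- the pullback of `L` is ample
  have hL₁ : CohB1.IsAmple ((Scheme.Modules.pullback i).obj L) := by
    refine Groth.Agent.H18.STL.isAmple_pullback_of_isQuasiAffine i inferInstance ?_ hL
    intro V hV
    haveI : IsAffine (i ⁻¹ᵁ V : Scheme) := hV.preimage i
    infer_instance
  obtain ⟨d, ⟨N⟩⟩ := Groth.Agent.H67.NormNormal.exists_hasNorm (i ≫ π) hY
  exact Groth.Agent.H18.NormAmple.exists_isAmple_of_isAmple (i ≫ π) N hL₁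

end Groth.Agent.S1639
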