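import Groth.Statements.S16390
import Mathlib
-- import your own Groth.Agent.* helpers here

set_option autoImplicit false
open AbVar

namespace Groth.Agent.S16390

/-- Let p be a prime number, r > 2 and q = p^r. The polynomial x² − p x + q is irreducible over ℚ, each
of its complex roots has absolute value √q (so its roots are Weil q-numbers), and it has two
distinct roots in ℚ_p, of p-adic valuations 1 and r − 1. The published lemma also computes the index
of the endomorphism algebra of the simple abelian variety attached to a root; this row does not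
state that part. -/
theorem result (p r : ℕ) [Fact p.Prime] (hr : 2 < r) :
    Irreducible (Polynomial.X ^ 2 - Polynomial.C (p : ℚ) * Polynomial.X + Polynomial.C ((p : ℚ) ^ r)) ∧
      (∀ π : ℂ, π ^ 2 - (p : ℂ) * π + (p : ℂ) ^ r = 0 → ‖π‖ = Real.sqrt ((p : ℝ) ^ r)) ∧
      ∃ a b : ℚ_[p], a ≠ b ∧ a ^ 2 - (p : ℚ_[p]) * a + (p : ℚ_[p]) ^ r = 0 ∧
        b ^ 2 - (p : ℚ_[p]) * b + (p : ℚ_[p]) ^ r = 0 ∧ a.valuation = 1 ∧ b.valuation = (r : ℤ) - 1 := by
  have hp : p.Prime := Fact.out
  have hp2 : (2 : ℝ) ≤ p := by exact_mod_cast hp.two_le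
  -- negativity of the discriminant
  have hdiscR : (p : ℝ) ^ 2 < 4 * (p : ℝ) ^ r := by
    have h1 : (p : ℝ) ^ 2 ≤ (p : ℝ) ^ r := pow_le_pow_right₀ (by linarith) (by omega)
    have h2 : (0 : ℝ) < (p : ℝ) ^ 2 := by positivity
    linarith
  refine ⟨?_, ?_, ?_⟩
  · -- irreducibility over ℚ
    apply Polynomial.irreducible_of_degree_le_three_of_not_isRoot
    · have hdeg : (Polynomial.X ^ 2 - Polynomial.C (p : ℚ) * Polynomial.X +
          Polynomial.C ((p : ℚ) ^ r)).natDegree = 2 := by
        compute_degree!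
      rw [hdeg]
      decide
    · intro x hx
      rw [Polynomial.IsRoot.def] at hx
      simp only [Polynomial.eval_add, Polynomial.eval_sub, Polynomial.eval_pow, Polynomial.eval_X,
        Polynomial.eval_mul, Polynomial.eval_C] at hx
      have hdiscQ : (p : ℚ) ^ 2 < 4 * (p : ℚ) ^ r := by exact_mod_cast hdiscR
      nlinarith [sq_nonneg (2 * x - (p : ℚ))]
  · -- complex roots
    intro π hπ
    have hre := congrArg Complex.re hπ
    have him := congrArg Complex.im hπ
    have hpr : ((p : ℂ) ^ r) = (((p : ℝ) ^ r : ℝ) : ℂ) := by push_cast; rfl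
    rw [hpr] at hre him
    have hpc : (p : ℂ) = ((p : ℝ) : ℂ) := by push_cast; rfl
    rw [hpc] at hre him
    simp only [Complex.add_re, Complex.sub_re, Complex.add_im, Complex.sub_im, Complex.mul_re,
      Complex.mul_im, Complex.ofReal_re, Complex.ofReal_im, pow_two, Complex.zero_re,
      Complex.zero_im, zero_mul, sub_zero, add_zero] at hre him
    have hy : π.im ≠ 0 := by
      intro hy
      rw [hy] at hre
      nlinarith [sq_nonneg (2 * π.re - (p : ℝ))]
    have hx : 2 * π.re = p := by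
      have : π.im * (2 * π.re - p) = 0 := by linear_combination him
      rcases mul_eq_zero.mp this with h | h
      · exact absurd h hy
      · linarith
    have hnorm : ‖π‖ ^ 2 = (p : ℝ) ^ r := by
      rw [Complex.sq_norm, Complex.normSq_apply]
      nlinarith
    rw [← hnorm, Real.sqrt_sq (norm_nonneg π)]
  · -- p-adic roots
    have hr2 : r - 2 ≠ 0 := by omega
    have hp1 : (1 : ℝ) < p := by linarith
    let F : Polynomial ℤ := Polynomial.X ^ 2 - Polynomial.X + Polynomial.C ((p : ℤ) ^ (r - 2))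
    have hF0 : Polynomial.aeval (0 : ℤ_[p]) F = (p : ℤ_[p]) ^ (r - 2) := by
      simp [F]
    have hF'0 : Polynomial.aeval (0 : ℤ_[p]) (Polynomial.derivative F) = -1 := by
      simp only [F, Polynomial.derivative_add, Polynomial.derivative_sub,
        Polynomial.derivative_X_pow, Polynomial.derivative_X, Polynomial.derivative_C]
      simp
    have hnorm : ‖Polynomial.aeval (0 : ℤ_[p]) F‖ <
        ‖Polynomial.aeval (0 : ℤ_[p]) (Polynomial.derivative F)‖ ^ 2 := by
      rw [hF0, hF'0, norm_neg, norm_one, one_pow, norm_pow, PadicInt.norm_p]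
      apply pow_lt_one₀ (by positivity) _ hr2
      exact inv_lt_one_of_one_lt₀ hp1
    obtain ⟨z, hz0, hz1, -, -⟩ := hensels_lemma hnorm
    have hz : z ^ 2 - z + (p : ℤ_[p]) ^ (r - 2) = 0 := by
      simpa [F] using hz0
    have hzn : ‖z‖ < 1 := by
      simpa [hF'0] using hz1
    -- `1 - z` has norm one
    have hy1 : ‖1 - z‖ = 1 := by
      apply le_antisymm (PadicInt.norm_le_one _)
      have h1 : ‖(1 - z) + z‖ ≤ max ‖1 - z‖ ‖z‖ := PadicInt.nonarchimedean _ _
      rw [sub_add_cancel, norm_one] at h1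
      rcases le_max_iff.mp h1 with h | h
      · exact h
      · linarith
    have hprod : z * (1 - z) = (p : ℤ_[p]) ^ (r - 2) := by linear_combination -hz
    have hpne : (p : ℚ_[p]) ≠ 0 := by exact_mod_cast hp.ne_zero
    have hpne' : (p : ℤ_[p]) ≠ 0 := by exact_mod_cast hp.ne_zero
    have hzne : z ≠ 0 := by
      intro h
      rw [h, zero_mul] at hprod
      exact pow_ne_zero _ hpne' hprod.symm
    have hy1ne : (1 - z : ℤ_[p]) ≠ 0 := by
      intro h
      rw [h, norm_zero] at hy1
      exact zero_ne_one hy1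
    have hzneQ : (z : ℚ_[p]) ≠ 0 := PadicInt.coe_ne_zero.2 hzne
    have hy1neQ : ((1 - z : ℤ_[p]) : ℚ_[p]) ≠ 0 := PadicInt.coe_ne_zero.2 hy1ne
    -- valuations
    have hv1 : ((1 - z : ℤ_[p]) : ℚ_[p]).valuation = 0 := by
      have h1 := Padic.norm_eq_zpow_neg_valuation hy1neQ
      rw [← PadicInt.norm_def, hy1] at h1
      have h2 := (zpow_eq_one_iff_right₀ (by positivity : (0 : ℝ) ≤ p) (ne_of_gt hp1)).mp h1.symm
      omega
    have hprodQ : (z : ℚ_[p]) * ((1 - z : ℤ_[p]) : ℚ_[p]) = (p : ℚ_[p]) ^ (r - 2) := by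
      exact_mod_cast congrArg (fun w : ℤ_[p] => (w : ℚ_[p])) hprod
    have hv0 : (z : ℚ_[p]).valuation = (r : ℤ) - 2 := by
      have h1 := congrArg Padic.valuation hprodQ
      rw [Padic.valuation_mul hzneQ hy1neQ, hv1, add_zero, Padic.valuation_pow,
        Padic.valuation_p, mul_one] at h1
      rw [h1]
      omega
    refine ⟨(p : ℚ_[p]) * ((1 - z : ℤ_[p]) : ℚ_[p]), (p : ℚ_[p]) * (z : ℚ_[p]), ?_, ?_, ?_, ?_, ?_⟩
    · intro h
      have h1 := congrArg Padic.valuation h
      rw [Padic.valuation_mul hpne hy1neQ, Padic.valuation_mul hpne hzneQ, hv1, hv0,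
        Padic.valuation_p] at h1
      omega
    · have hzQ : (z : ℚ_[p]) ^ 2 - (z : ℚ_[p]) + (p : ℚ_[p]) ^ (r - 2) = 0 := by
        exact_mod_cast congrArg (fun w : ℤ_[p] => (w : ℚ_[p])) hz
      have hpr : (p : ℚ_[p]) ^ r = (p : ℚ_[p]) ^ 2 * (p : ℚ_[p]) ^ (r - 2) := by
        rw [← pow_add]
        congr 1
        omega
      rw [hpr]
      push_cast
      linear_combination (p : ℚ_[p]) ^ 2 * hzQ
    · have hzQ : (z : ℚ_[p]) ^ 2 - (z : ℚ_[p]) + (p : ℚ_[p]) ^ (r - 2) = 0 := by
        exact_mod_cast congrArg (fun w : ℤ_[p] => (w : ℚ_[p])) hz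
      have hpr : (p : ℚ_[p]) ^ r = (p : ℚ_[p]) ^ 2 * (p : ℚ_[p]) ^ (r - 2) := by
        rw [← pow_add]
        congr 1
        omega
      rw [hpr]
      linear_combination (p : ℚ_[p]) ^ 2 * hzQ
    · rw [Padic.valuation_mul hpne hy1neQ, hv1, Padic.valuation_p, add_zero]
    · rw [Padic.valuation_mul hpne hzneQ, hv0, Padic.valuation_p]
      ring

end Groth.Agent.S16390
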