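import Groth.Statements.S16396
import Mathlib
-- import your own Groth.Agent.* helpers here

set_option autoImplicit false
universe u
open CAlg

namespace Groth.Agent.S16396

open Polynomial in
/-- For a commutative ℚ-algebra A, a ℚ-subalgebra B of the polynomial algebra A[X] that contains X and
is closed under d/dX consists exactly of the polynomials each of whose coefficients is the value at
0 of some element of B; in other words B = ev(B)[X], with ev the evaluation at 0. -/
theorem result
    (A : Type u) [CommRing A] [Algebra ℚ A] (B : Subalgebra ℚ A[X])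
    (hX : (X : A[X]) ∈ B) (hD : ∀ P ∈ B, Polynomial.derivative P ∈ B) (P : A[X]) :
    P ∈ B ↔ ∀ i : ℕ, ∃ Q ∈ B, Polynomial.eval 0 Q = P.coeff i := by
  classical
  -- every coefficient of an element of `B`, as a constant polynomial, lies in `B`
  have key : ∀ n : ℕ, ∀ Q ∈ B, Q.natDegree ≤ n → ∀ i : ℕ, Polynomial.C (Q.coeff i) ∈ B := by
    intro n
    induction n with
    | zero =>
      intro Q hQ hdeg i
      have hQC : Q = Polynomial.C (Q.coeff 0) := Polynomial.eq_C_of_natDegree_le_zero hdeg
      rcases Nat.eq_zero_or_pos i with rfl | hi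
      · rw [← hQC]; exact hQ
      · rw [hQC, Polynomial.coeff_C, if_neg hi.ne', map_zero]
        exact B.zero_mem
    | succ n ih =>
      intro Q hQ hdeg
      have hder : ∀ i, Polynomial.C (Q.coeff (i + 1)) ∈ B := by
        intro i
        have h1 := ih (Polynomial.derivative Q) (hD Q hQ)
          ((Polynomial.natDegree_derivative_le Q).trans (by omega)) i
        rw [Polynomial.coeff_derivative] at h1
        have h2 : Polynomial.C (Q.coeff (i + 1)) =
            ((i + 1 : ℚ)⁻¹) • Polynomial.C (Q.coeff (i + 1) * ((i : A) + 1)) := by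
          rw [Polynomial.smul_C]
          congr 1
          have : ((i + 1 : ℚ)⁻¹) • ((i : A) + 1) = 1 := by
            have h3 : ((i : A) + 1) = ((i + 1 : ℚ)) • (1 : A) := by
              rw [add_smul, one_smul]
              congr 1
              rw [Nat.cast_smul_eq_nsmul ℚ, nsmul_eq_mul, mul_one]
            rw [h3, smul_smul, inv_mul_cancel₀ (by positivity), one_smul]
          rw [← mul_smul_comm, this, mul_one]
        rw [h2]
        exact B.smul_mem h1 _
      have hall : ∀ i, 0 < i → Polynomial.C (Q.coeff i) ∈ B := by
        intro i hi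
        obtain ⟨j, rfl⟩ := Nat.exists_eq_succ_of_ne_zero hi.ne'
        exact hder j
      have h0 : Polynomial.C (Q.coeff 0) ∈ B := by
        have hsum : Q = ∑ i ∈ Finset.range (Q.natDegree + 1), Polynomial.C (Q.coeff i) * Polynomial.X ^ i :=
          Q.as_sum_range_C_mul_X_pow
        have : Polynomial.C (Q.coeff 0) =
            Q - ∑ i ∈ Finset.range Q.natDegree, Polynomial.C (Q.coeff (i + 1)) * Polynomial.X ^ (i + 1) := by
          conv_rhs => lhs; rw [hsum]
          rw [Finset.sum_range_succ', pow_zero, mul_one]
          ring
        rw [this]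
        refine B.sub_mem hQ (B.sum_mem (fun i _ => B.mul_mem (hder i) (B.pow_mem hX _)))
      intro i
      rcases Nat.eq_zero_or_pos i with rfl | hi
      · exact h0
      · exact hall i hi
  constructor
  · intro hP i
    exact ⟨Polynomial.C (P.coeff i), key _ P hP le_rfl i, by simp⟩
  · intro h
    rw [P.as_sum_range_C_mul_X_pow]
    refine B.sum_mem (fun i _ => B.mul_mem ?_ (B.pow_mem hX _))
    obtain ⟨Q, hQ, hQi⟩ := h i
    rw [← hQi, ← Polynomial.coeff_zero_eq_eval_zero]
    exact key _ Q hQ le_rfl 0

end Groth.Agent.S16396
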