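import Groth.Statements.S16401

set_option autoImplicit false
universe u v
open CAlgX

namespace Groth.Agent.S16401

/-- Let R be a commutative ring and (E_a), a ∈ ι, a family of additive subgroups of R indexed by an
additive commutative group ι, with E_0 = R and E_a · E_b ⊆ E_{a+b}. Let β, γ : Fin r → ι be weight
vectors with Σ_j β_j = Σ_i γ_i, and let ϑ be an r × r matrix over R with ϑ_{ij} ∈ E_{γ_i − β_j} for
all i, j and with unit determinant. Then a column vector u satisfies u_j ∈ E_{β_j} for every j if
and only if (ϑ u)_i ∈ E_{γ_i} for every i; since ϑ is invertible this says that ϑ maps the box Π_j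
E_{β_j} bijectively onto the box Π_i E_{γ_i}. -/
theorem result
    {R : Type u} [CommRing R] {ι : Type v} [AddCommGroup ι]
    (E : ι → AddSubgroup R) (h0 : E 0 = ⊤)
    (hmul : ∀ a b : ι, ∀ x ∈ E a, ∀ y ∈ E b, x * y ∈ E (a + b))
    {r : ℕ} (wβ wγ : Fin r → ι) (hsum : ∑ j, wβ j = ∑ i, wγ i)
    (ϑ : Matrix (Fin r) (Fin r) R) (hϑ : ∀ i j, ϑ i j ∈ E (wγ i - wβ j))
    (hdet : IsUnit ϑ.det) (u : Fin r → R) :
    (∀ j, u j ∈ E (wβ j)) ↔ ∀ i, ϑ.mulVec u i ∈ E (wγ i) := by
  classical
  -- products of graded elements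
  have hprod : ∀ (s : Finset (Fin r)) (c : Fin r → ι) (f : Fin r → R),
      (∀ l ∈ s, f l ∈ E (c l)) → ∏ l ∈ s, f l ∈ E (∑ l ∈ s, c l) := by
    intro s c f
    induction s using Finset.induction_on with
    | empty => intro _; simp [h0]
    | insert a s ha ih =>
      intro h
      rw [Finset.prod_insert ha, Finset.sum_insert ha]
      exact hmul _ _ _ (h a (Finset.mem_insert_self a s)) _
        (ih (fun l hl => h l (Finset.mem_insert_of_mem hl)))
  -- graded determinant
  have hdetE : ∀ (M : Matrix (Fin r) (Fin r) R) (a b : Fin r → ι),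
      (∀ i l, M i l ∈ E (a i - b l)) → M.det ∈ E (∑ i, a i - ∑ l, b l) := by
    intro M a b hM
    rw [Matrix.det_apply]
    refine AddSubgroup.sum_mem _ (fun σ _ => ?_)
    have h1 : ∏ l, M (σ l) l ∈ E (∑ l, (a (σ l) - b l)) :=
      hprod Finset.univ (fun l => a (σ l) - b l) (fun l => M (σ l) l) (fun l _ => hM (σ l) l)
    have h2 : ∑ l, (a (σ l) - b l) = ∑ i, a i - ∑ l, b l := by
      rw [Finset.sum_sub_distrib, Equiv.sum_comp σ a]
    rw [h2] at h1
    rcases Int.units_eq_one_or (Equiv.Perm.sign σ) with hs | hs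
    · rw [hs, one_smul]; exact h1
    · rw [hs, Units.neg_smul, one_smul]; exact AddSubgroup.neg_mem _ h1
  constructor
  · intro hu i
    rw [Matrix.mulVec, dotProduct]
    refine AddSubgroup.sum_mem _ (fun j _ => ?_)
    have := hmul _ _ _ (hϑ i j) _ (hu j)
    rwa [sub_add_cancel] at this
  · intro hv j
    have hadj : ∀ i, ϑ.adjugate j i ∈ E (wβ j - wγ i) := by
      intro i
      rw [Matrix.adjugate_apply]
      have := hdetE (ϑ.updateRow i (Pi.single j 1)) (Function.update wγ i (wβ j)) wβ (by
        intro i' l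
        by_cases hi : i' = i
        · subst hi
          rw [Matrix.updateRow_self, Function.update_self]
          by_cases hl : l = j
          · subst hl
            rw [Pi.single_eq_same, sub_self, h0]; trivial
          · rw [Pi.single_eq_of_ne hl]; exact AddSubgroup.zero_mem _
        · rw [Matrix.updateRow_ne hi, Function.update_of_ne hi]
          exact hϑ i' l)
      have hs : ∑ i', Function.update wγ i (wβ j) i' - ∑ l, wβ l = wβ j - wγ i := by
        rw [Finset.sum_update_of_mem (Finset.mem_univ i), hsum,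
          ← Finset.add_sum_erase Finset.univ wγ (Finset.mem_univ i)]
        have : (Finset.univ : Finset (Fin r)) \ {i} = Finset.univ.erase i := by
          ext x; simp
        rw [this]
        abel
      rwa [hs] at this
    have hu : u = ϑ⁻¹.mulVec (ϑ.mulVec u) := by
      rw [Matrix.mulVec_mulVec, Matrix.nonsing_inv_mul _ hdet, Matrix.one_mulVec]
    rw [hu, Matrix.mulVec, dotProduct]
    refine AddSubgroup.sum_mem _ (fun i _ => ?_)
    rw [Matrix.inv_def, Matrix.smul_apply, smul_eq_mul]
    have h1 : Ring.inverse ϑ.det * ϑ.adjugate j i ∈ E (0 + (wβ j - wγ i)) :=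
      hmul _ _ _ (by rw [h0]; trivial) _ (hadj i)
    have h2 := hmul _ _ _ h1 _ (hv i)
    rwa [zero_add, sub_add_cancel] at h2

end Groth.Agent.S16401
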