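import Groth.Statements.S16405

set_option autoImplicit false
universe u v
open InvQ

namespace Groth.Agent.S16405

/-- In weight form. Let b : L → ℤ^r be an injective homomorphism of abelian groups (the case in view: L
the character group of a maximal torus T of a semisimple group over ℂ and b the map dual to the
surjection of the rank-r split torus T' onto T that sends the i-th coordinate cocharacter to the
primitive generator of the i-th ray of the Weyl chamber; only the injectivity of b is used, and ℂ is
replaced by any commutative ring k). Grade the monoid algebra k[L × ℕ^r] (the coordinate ring of T ×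
𝔸^r) by ℤ^r, the monomial (w, n) having weight b(w) + n (the weights of the T'-action u·(t, v) =
(b^∨(u) t, u v)), and grade k[ℕ^r] by ℤ^r/b(L), the monomial n having weight the class of n (the
weights of the action on 𝔸^r of the diagonalizable kernel Z of T' → T, a finite group in the case in
view). For a diagonalizable group acting on an affine scheme the ring of invariants is the
weight-zero part, so the two weight-zero parts are the coordinate rings of the quotients (T ×
𝔸^r)//T' and 𝔸^r//Z. The statement: the algebra map k[L × ℕ^r] → k[ℕ^r] induced by the projection L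
× ℕ^r → ℕ^r (restriction to the slice 1 × 𝔸^r) maps the weight-zero part of k[L × ℕ^r] bijectively
onto the weight-zero part of k[ℕ^r]; hence it induces an isomorphism of k-algebras between them. -/
theorem result
    (k : Type u) [CommRing k] (r : ℕ) (L : Type v) [AddCommGroup L]
    (b : L →+ (Fin r → ℤ)) (hb : Function.Injective b) :
    Set.BijOn
      (AddMonoidAlgebra.mapDomainAlgHom k k (AddMonoidHom.snd L (Fin r → ℕ)))
      (AddMonoidAlgebra.gradeBy k
        (b.comp (AddMonoidHom.fst L (Fin r → ℕ)) +
          (AddMonoidHom.compLeft (Nat.castAddMonoidHom ℤ) (Fin r)).comp (AddMonoidHom.snd L (Fin r → ℕ))) 0 :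
        Set (AddMonoidAlgebra k (L × (Fin r → ℕ))))
      (AddMonoidAlgebra.gradeBy k
        ((QuotientAddGroup.mk' b.range).comp (AddMonoidHom.compLeft (Nat.castAddMonoidHom ℤ) (Fin r))) 0 :
        Set (AddMonoidAlgebra k (Fin r → ℕ))) := by
  classical
  set f : L × (Fin r → ℕ) →+ (Fin r → ℤ) := b.comp (AddMonoidHom.fst L (Fin r → ℕ)) +
          (AddMonoidHom.compLeft (Nat.castAddMonoidHom ℤ) (Fin r)).comp (AddMonoidHom.snd L (Fin r → ℕ))
    with hf
  set g : (Fin r → ℕ) →+ (Fin r → ℤ) ⧸ b.range :=
    (QuotientAddGroup.mk' b.range).comp (AddMonoidHom.compLeft (Nat.castAddMonoidHom ℤ) (Fin r)) with hg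
  have hfapp : ∀ m : L × (Fin r → ℕ), f m = b m.1 +
      (AddMonoidHom.compLeft (Nat.castAddMonoidHom ℤ) (Fin r)) m.2 := fun m => rfl
  have hgapp : ∀ n : Fin r → ℕ, g n = 0 ↔
      (AddMonoidHom.compLeft (Nat.castAddMonoidHom ℤ) (Fin r)) n ∈ b.range := by
    intro n
    rw [hg, AddMonoidHom.comp_apply, QuotientAddGroup.mk'_apply, QuotientAddGroup.eq_zero_iff]
  have happ : ∀ x : AddMonoidAlgebra k (L × (Fin r → ℕ)),
      (AddMonoidAlgebra.mapDomainAlgHom k k (AddMonoidHom.snd L (Fin r → ℕ))) x =
        AddMonoidAlgebra.mapDomain (AddMonoidHom.snd L (Fin r → ℕ)) x := fun x => rfl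
  have hinj : Set.InjOn (AddMonoidHom.snd L (Fin r → ℕ)) (f ⁻¹' {0}) := by
    rintro ⟨w, n⟩ h1 ⟨w', n'⟩ h2 h
    simp only [AddMonoidHom.coe_snd] at h
    subst h
    simp only [Set.mem_preimage, Set.mem_singleton_iff, hfapp] at h1 h2
    have : b w = b w' := by
      have := h1.trans h2.symm
      exact add_right_cancel this
    rw [hb this]
  refine ⟨?_, ?_, ?_⟩
  · intro x hx
    rw [SetLike.mem_coe, AddMonoidAlgebra.mem_gradeBy_iff] at hx ⊢
    rw [happ]
    intro n hn
    have hn' : n ∈ (Finsupp.mapDomain (AddMonoidHom.snd L (Fin r → ℕ)) x.coeff).support := hn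
    have := Finsupp.mapDomain_support hn'
    rw [Finset.mem_image] at this
    obtain ⟨m, hm, rfl⟩ := this
    have h0 : f m = 0 := hx hm
    rw [Set.mem_preimage, Set.mem_singleton_iff, hgapp]
    refine ⟨-m.1, ?_⟩
    rw [hfapp] at h0
    rw [map_neg]
    exact (eq_neg_of_add_eq_zero_right h0).symm ▸ (by simp)
  · intro x hx y hy hxy
    rw [happ, happ] at hxy
    rw [SetLike.mem_coe, AddMonoidAlgebra.mem_gradeBy_iff] at hx hy
    have h1 : Finsupp.mapDomain (AddMonoidHom.snd L (Fin r → ℕ)) x.coeff =
        Finsupp.mapDomain (AddMonoidHom.snd L (Fin r → ℕ)) y.coeff :=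
      congrArg AddMonoidAlgebra.coeff hxy
    have := Finsupp.mapDomain_injOn (f ⁻¹' {0}) hinj hx hy h1
    exact AddMonoidAlgebra.coeff_injective this
  · intro y hy
    rw [SetLike.mem_coe, AddMonoidAlgebra.mem_gradeBy_iff] at hy
    let s : (Fin r → ℕ) → L × (Fin r → ℕ) := fun n =>
      if h : (AddMonoidHom.compLeft (Nat.castAddMonoidHom ℤ) (Fin r)) n ∈ b.range then
        (-(Classical.choose h), n) else (0, n)
    have hs : ∀ n, (s n).2 = n := by
      intro n
      simp only [s]
      split_ifs <;> rfl
    refine ⟨AddMonoidAlgebra.mapDomain s y, ?_, ?_⟩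
    · rw [SetLike.mem_coe, AddMonoidAlgebra.mem_gradeBy_iff]
      intro m hm
      have hm' : m ∈ (Finsupp.mapDomain s y.coeff).support := hm
      have := Finsupp.mapDomain_support hm'
      rw [Finset.mem_image] at this
      obtain ⟨n, hn, rfl⟩ := this
      have h0 : g n = 0 := hy hn
      rw [hgapp] at h0
      rw [Set.mem_preimage, Set.mem_singleton_iff, hfapp]
      simp only [s, dif_pos h0]
      rw [map_neg, Classical.choose_spec h0, neg_add_cancel]
    · rw [happ]
      apply AddMonoidAlgebra.coeff_injective
      change Finsupp.mapDomain _ (Finsupp.mapDomain s y.coeff) = y.coeff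
      rw [← Finsupp.mapDomain_comp]
      have : (AddMonoidHom.snd L (Fin r → ℕ)) ∘ s = id := by
        funext n
        exact hs n
      rw [this, Finsupp.mapDomain_id]

end Groth.Agent.S16405
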