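import Groth.Statements.S16414
import Mathlib.Tactic

set_option autoImplicit false
open Dieud

namespace Groth.Agent.S16414

/-- Let μ be a rational number with 0 < μ ≤ 1 and i an integer, and put f(i,j) = max(−i−j, −j, 0) for
integers j. Then min over all integers j of f(i,j) + jμ exists and equals max(−iμ, 0). -/
theorem result (μ : ℚ) (hμ0 : 0 < μ) (hμ1 : μ ≤ 1) (i : ℤ) :
    IsLeast (Set.range fun j : ℤ => ((max (max (-i - j) (-j)) 0 : ℤ) : ℚ) + (j : ℚ) * μ)
      (max (-(i : ℚ) * μ) 0) := by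
  constructor
  · rcases le_or_gt 0 i with hi | hi
    · refine ⟨0, ?_⟩
      have h1 : max (max (-i - 0) (-0)) 0 = (0 : ℤ) := by
        rw [max_eq_right]; simp; omega
      have h2 : max (-(i : ℚ) * μ) 0 = 0 := by
        apply max_eq_right
        have : (0 : ℚ) ≤ i := by exact_mod_cast hi
        nlinarith
      simp only [h1, h2]
      simp
    · refine ⟨-i, ?_⟩
      have h1 : max (max (-i - -i) (- -i)) 0 = (0 : ℤ) := by
        rw [max_eq_right]; simp; omega
      have h2 : max (-(i : ℚ) * μ) 0 = -(i : ℚ) * μ := by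
        apply max_eq_left
        have : (i : ℚ) < 0 := by exact_mod_cast hi
        nlinarith
      simp only [h1, h2]
      push_cast
      ring
  · rintro x ⟨j, rfl⟩
    simp only
    have hf0 : (0 : ℚ) ≤ ((max (max (-i - j) (-j)) 0 : ℤ) : ℚ) := by
      exact_mod_cast le_max_right _ _
    have hf1 : -(j : ℚ) ≤ ((max (max (-i - j) (-j)) 0 : ℤ) : ℚ) := by
      have h : (-j : ℤ) ≤ max (max (-i - j) (-j)) 0 :=
        (le_max_right _ _).trans (le_max_left _ _)
      calc -(j : ℚ) = ((-j : ℤ) : ℚ) := by push_cast; ring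
        _ ≤ _ := by exact_mod_cast h
    have hf2 : -(i : ℚ) - j ≤ ((max (max (-i - j) (-j)) 0 : ℤ) : ℚ) := by
      have h : (-i - j : ℤ) ≤ max (max (-i - j) (-j)) 0 :=
        (le_max_left _ _).trans (le_max_left _ _)
      calc -(i : ℚ) - j = ((-i - j : ℤ) : ℚ) := by push_cast; ring
        _ ≤ _ := by exact_mod_cast h
    generalize ((max (max (-i - j) (-j)) 0 : ℤ) : ℚ) = F at hf0 hf1 hf2 ⊢
    apply max_le
    · rcases le_or_gt 0 (i + j) with h | h
      · have : (0 : ℚ) ≤ (i : ℚ) + j := by exact_mod_cast h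
        nlinarith
      · have : (i : ℚ) + j < 0 := by exact_mod_cast h
        nlinarith [mul_nonneg (neg_nonneg.2 this.le) (sub_nonneg.2 hμ1)]
    · rcases le_or_gt 0 j with h | h
      · have : (0 : ℚ) ≤ (j : ℚ) := by exact_mod_cast h
        nlinarith
      · have : (j : ℚ) < 0 := by exact_mod_cast h
        nlinarith [mul_nonneg (neg_nonneg.2 this.le) (sub_nonneg.2 hμ1)]

end Groth.Agent.S16414
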