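import Groth.Statements.S16418
import Mathlib.Tactic
import Mathlib.RingTheory.WittVector.DiscreteValuationRing
import Mathlib.RingTheory.Noetherian.Basic

set_option autoImplicit false
universe u v
open Dieud

namespace Groth.Agent.S16418

/-- Step of the proof: for a prime p and a perfect field k of characteristic p, write W = W(k) and σ for
its Frobenius; let M be a W-module with additive maps F (σ-semilinear) and V (with V(σ(a)m) = aV(m))
such that FV = VF = p, V is injective, ⋂_n V^n M = 0 and M/VM is finitely generated over W. Put M₁ =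
{x ∈ M : for every n there is m with V^m x ∈ F^n M} and M₂ = {x ∈ M : F^n x = 0 for some n}. Then M₂
is killed by a single power of F, and F is injective on M₁. (The published text makes these
assertions inside a proof, for the V-reduced Cartier module of a connected smooth formal group of
finite dimension over k; only the listed structure is used, and V-adic completeness is not needed.) -/
theorem result
    (p : ℕ) [Fact p.Prime] (k : Type u) [Field k] [CharP k p] [PerfectRing k p]
    (M : Type v) [AddCommGroup M] [Module (WittVector p k) M]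
    (F V : M →+ M)
    (hF : ∀ (a : WittVector p k) (m : M), F (a • m) = WittVector.frobenius a • F m)
    (hV : ∀ (a : WittVector p k) (m : M), V (WittVector.frobenius a • m) = a • V m)
    (hFV : ∀ m : M, F (V m) = (p : WittVector p k) • m)
    (hVF : ∀ m : M, V (F m) = (p : WittVector p k) • m)
    (hVinj : Function.Injective V)
    (hsep : ∀ x : M, (∀ n : ℕ, ∃ y : M, x = (⇑V)^[n] y) → x = 0)
    (hfin : Module.Finite (WittVector p k) (M ⧸ Submodule.span (WittVector p k) (Set.range V))) :
    (∃ c : ℕ, ∀ x : M, (∃ n : ℕ, (⇑F)^[n] x = 0) → (⇑F)^[c] x = 0) ∧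
    (∀ x : M, (∀ n : ℕ, ∃ (m : ℕ) (y : M), (⇑V)^[m] x = (⇑F)^[n] y) → F x = 0 → x = 0) := by
  have hbij : Function.Bijective (WittVector.frobenius : WittVector p k → WittVector p k) :=
    WittVector.frobenius_bijective p k
  have hnoeth : IsNoetherian (WittVector p k)
      (M ⧸ Submodule.span (WittVector p k) (Set.range V)) := inferInstance
  -- F and V commute
  have hcomm : Function.Commute (⇑F) (⇑V) := fun m => by rw [hFV, hVF]
  -- span (range V) = range V
  have hspan : ∀ x ∈ Submodule.span (WittVector p k) (Set.range V), ∃ z, x = V z := by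
    intro x hx
    induction hx using Submodule.span_induction with
    | mem x hx => obtain ⟨z, rfl⟩ := hx; exact ⟨z, rfl⟩
    | zero => exact ⟨0, by simp⟩
    | add x y _ _ hx hy =>
      obtain ⟨z₁, rfl⟩ := hx; obtain ⟨z₂, rfl⟩ := hy; exact ⟨z₁ + z₂, by simp⟩
    | smul a x _ hx =>
      obtain ⟨z, rfl⟩ := hx
      exact ⟨WittVector.frobenius a • z, by rw [hV]⟩
  -- semilinearity of iterates
  have hFn : ∀ (n : ℕ) (a : WittVector p k) (m : M),
      (⇑F)^[n] (a • m) = (WittVector.frobenius)^[n] a • (⇑F)^[n] m := by
    intro n
    induction n with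
    | zero => intro a m; rfl
    | succ n ih =>
      intro a m
      rw [Function.iterate_succ_apply', Function.iterate_succ_apply', Function.iterate_succ_apply',
        ih, hF]
  have hFnadd : ∀ (n : ℕ) (x y : M), (⇑F)^[n] (x + y) = (⇑F)^[n] x + (⇑F)^[n] y := by
    intro n x y
    exact Function.Semiconj₂.iterate (f := ⇑F) (fun a b => map_add F a b) n |>.eq x y
  have hFn0 : ∀ n : ℕ, (⇑F)^[n] (0 : M) = 0 := by
    intro n
    induction n with
    | zero => rfl
    | succ n ih => rw [Function.iterate_succ_apply', ih, map_zero]
  -- kernels of iterates as submodules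
  let K : ℕ → Submodule (WittVector p k) M := fun n =>
    { carrier := {x | (⇑F)^[n] x = 0}
      add_mem' := by
        intro x y hx hy
        simp only [Set.mem_ofPred_eq] at hx hy ⊢
        rw [hFnadd, hx, hy, add_zero]
      zero_mem' := hFn0 n
      smul_mem' := by
        intro a x hx
        simp only [Set.mem_ofPred_eq] at hx ⊢
        rw [hFn, hx, smul_zero] }
  have hKmono : Monotone K := by
    apply monotone_nat_of_le_succ
    intro n x hx
    change (⇑F)^[n + 1] x = 0
    rw [Function.iterate_succ_apply', show (⇑F)^[n] x = 0 from hx, map_zero]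
  let Kbar : ℕ →o Submodule (WittVector p k)
      (M ⧸ Submodule.span (WittVector p k) (Set.range V)) :=
    ⟨fun n => (K n).map (Submodule.span (WittVector p k) (Set.range V)).mkQ,
      fun a b hab => Submodule.map_mono (hKmono hab)⟩
  obtain ⟨c, hc⟩ := (monotone_stabilizes_iff_noetherian.mpr hnoeth) Kbar
  -- key claim
  have key : ∀ (n : ℕ), c ≤ n → ∀ (m : ℕ) (x : M), (⇑F)^[n] x = 0 →
      ∃ w, (⇑F)^[c] x = (⇑V)^[m] w := by
    intro n hn m
    induction m with
    | zero => intro x _; exact ⟨_, rfl⟩
    | succ m ih =>
      intro x hx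
      have hxbar : (Submodule.span (WittVector p k) (Set.range V)).mkQ x ∈ Kbar n :=
        Submodule.mem_map_of_mem (show x ∈ K n from hx)
      rw [← hc n hn] at hxbar
      obtain ⟨y, hy, hyx⟩ := hxbar
      have hy' : (⇑F)^[c] y = 0 := hy
      have hdiff : x - y ∈ Submodule.span (WittVector p k) (Set.range V) := by
        rw [← Submodule.Quotient.mk_eq_zero, Submodule.Quotient.mk_sub]
        have : (Submodule.span (WittVector p k) (Set.range V)).mkQ y =
            (Submodule.span (WittVector p k) (Set.range V)).mkQ x := hyx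
        simp only [Submodule.mkQ_apply] at this
        rw [this, sub_self]
      obtain ⟨z, hz⟩ := hspan _ hdiff
      have hyn : (⇑F)^[n] y = 0 := hKmono hn (show y ∈ K c from hy)
      have hzn : (⇑F)^[n] z = 0 := by
        apply hVinj
        rw [map_zero, ← (hcomm.iterate_left n).eq, ← hz]
        have : x = (x - y) + y := by abel
        have h2 : (⇑F)^[n] (x - y) + (⇑F)^[n] y = (⇑F)^[n] x := by
          rw [← hFnadd, sub_add_cancel]
        rw [hyn, add_zero, hx] at h2
        exact h2
      obtain ⟨w, hw⟩ := ih z hzn
      refine ⟨w, ?_⟩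
      have hx' : x = y + V z := by rw [← hz]; abel
      rw [hx', hFnadd, hy', zero_add, (hcomm.iterate_left c).eq, hw,
        Function.iterate_succ_apply']
  have part1 : ∀ x : M, (∃ n : ℕ, (⇑F)^[n] x = 0) → (⇑F)^[c] x = 0 := by
    rintro x ⟨n, hn⟩
    rcases le_total n c with h | h
    · exact hKmono h (show x ∈ K n from hn)
    · apply hsep
      intro m
      obtain ⟨w, hw⟩ := key n h m x hn
      exact ⟨w, hw⟩
  refine ⟨⟨c, part1⟩, ?_⟩
  intro x hx hFx
  obtain ⟨m, y, hy⟩ := hx c
  have hy2 : (⇑F)^[c + 1] y = 0 := by
    rw [Function.iterate_succ_apply', ← hy, (hcomm.iterate_right m).eq, hFx]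
    clear hy
    induction m with
    | zero => rfl
    | succ m ih => rw [Function.iterate_succ_apply', ih, map_zero]
  have hy3 := part1 y ⟨c + 1, hy2⟩
  rw [hy3] at hy
  have hVminj : Function.Injective ((⇑V)^[m]) := hVinj.iterate m
  apply hVminj
  rw [hy]
  clear hy
  induction m with
  | zero => rfl
  | succ m ih => rw [Function.iterate_succ_apply', ← ih (hVinj.iterate m), map_zero]

end Groth.Agent.S16418
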