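import Groth.Statements.S16423
import Groth.Agent.H29.FibreDepth
import Groth.Agent.H14.RegularCM
import Groth.Agent.H39.SmoothStalk
import Groth.Agent.H49.FibreStalk
import Groth.Agent.H70.StalkFibre.Main

set_option autoImplicit false
universe u
open CategoryTheory CategoryTheory.Limits AlgebraicGeometry TopologicalSpace
open RhoSh

namespace Groth.Agent.S16423

theorem isRegularLocalRing_stalk_spec_field (K : Type u) [Field K] (p : Spec (CommRingCat.of K)) :
    IsRegularLocalRing ((Spec (CommRingCat.of K)).presheaf.stalk p) := by
  obtain rfl : p = IsLocalRing.closedPoint K := Subsingleton.elim _ _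
  let e : (Spec (CommRingCat.of K)).presheaf.stalk (IsLocalRing.closedPoint K) ≃+* K :=
    (stalkClosedPointIso (CommRingCat.of K)).commRingCatIsoToRingEquiv
  exact IsRegularLocalRing.of_ringEquiv e.symm


/-- Let X be a smooth, proper, geometrically irreducible scheme over a field k admitting an ample
invertible sheaf, let S be a k-scheme and let x be a point of X ×_k S lying over s ∈ S. If the local
ring at x of the fibre (X ×_k S)_s has Krull dimension at least 2 (this holds at every point outside
a big open subset, i.e. one whose complement has codimension at least 2 in every fibre), then the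
local ring of X ×_k S at x has depth at least 2. -/
theorem result
    (k : Type u) [Field k] (X S : Scheme.{u})
    (a : X ⟶ Spec (CommRingCat.of k)) (b : S ⟶ Spec (CommRingCat.of k))
    [Smooth a] [IsProper a] [GeometricallyIrreducible a]
    (hproj : ∃ H : X.Modules, CohB1.IsAmple H)
    (x : ↥(pullback a b))
    (hx : (2 : WithBot ℕ∞) ≤ ringKrullDim ↑(CInt.fiberStalk (pullback.snd a b) x)) :
    (2 : ℕ∞) ≤ LocCoh.depth ↑((pullback a b).presheaf.stalk x) ↑((pullback a b).presheaf.stalk x) := by
  have hsm : Smooth (pullback.snd a b) := MorphismProperty.pullback_snd _ _ inferInstance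
  have hsm' : Smooth ((pullback.snd a b).fiberToSpecResidueField ((pullback.snd a b) x)) :=
    MorphismProperty.pullback_snd _ _ inferInstance
  have hD : IsRegularLocalRing (CInt.fiberStalk (pullback.snd a b) x) := by
    apply Groth.Agent.H39.SmoothStalk.isRegularLocalRing_stalk_of_mem_smoothLocus
      ((pullback.snd a b).fiberToSpecResidueField ((pullback.snd a b) x))
      ((pullback.snd a b).asFiber x)
    · rw [Scheme.Hom.smoothLocus_eq_top]; trivial
    · exact isRegularLocalRing_stalk_spec_field _ _
  have h1 := Groth.Agent.H14.ringKrullDim_le_idealDepth_of_isRegularLocalRing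
    (CInt.fiberStalk (pullback.snd a b) x)
  have h2 : ((2 : ℕ) : ℕ∞) ≤ LocCoh.idealDepth
      (IsLocalRing.maximalIdeal (CInt.fiberStalk (pullback.snd a b) x))
      (CInt.fiberStalk (pullback.snd a b) x) := by
    have h3 : ((2 : ℕ∞) : WithBot ℕ∞) ≤ ((LocCoh.idealDepth
        (IsLocalRing.maximalIdeal (CInt.fiberStalk (pullback.snd a b) x))
        (CInt.fiberStalk (pullback.snd a b) x) : ℕ∞) : WithBot ℕ∞) := hx.trans h1
    have h4 := WithBot.coe_le_coe.mp h3
    exact_mod_cast h4
  let _ : Algebra (S.presheaf.stalk ((pullback.snd a b) x)) ((pullback a b).presheaf.stalk x) :=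
    ((pullback.snd a b).stalkMap x).hom.toAlgebra
  have : IsLocalHom (algebraMap (S.presheaf.stalk ((pullback.snd a b) x))
      ((pullback a b).presheaf.stalk x)) :=
    inferInstanceAs (IsLocalHom ((pullback.snd a b).stalkMap x).hom)
  have : Module.Flat (S.presheaf.stalk ((pullback.snd a b) x)) ((pullback a b).presheaf.stalk x) :=
    Flat.stalkMap (pullback.snd a b) x
  have hess := Groth.Agent.H70.StalkFibre.isEssFinitePresentation_stalk (pullback.snd a b) x
  have e := Groth.Agent.H49.FibreStalk.quotientEquivStalkAsFiber (pullback.snd a b) x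
  exact_mod_cast Groth.Agent.H29.FibreDepth.le_depth_of_le_depth_fibre hess e 2 h2

end Groth.Agent.S16423
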