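import Groth.Statements.S16424
import Groth.Agent.H29.FreeFibre
import Groth.Agent.H39.SmoothStalk
import Groth.Agent.H49.FibreStalk
import Groth.Agent.H70.StalkFibre.Main
import Groth.Agent.H71.QCoh.StalkPullback
import Groth.Agent.H44.FpqcFP
import Groth.Agent.H44.PullbackAffine
import Groth.Agent.H67.FreeLocus
import Groth.Agent.Lead.RegularCompletion

set_option autoImplicit false
universe u
open CategoryTheory CategoryTheory.Limits AlgebraicGeometry TopologicalSpace
open RhoSh

namespace Groth.Agent.S16424

theorem isRegularLocalRing_stalk_spec_field (K : Type u) [Field K] (p : Spec (CommRingCat.of K)) :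
    IsRegularLocalRing ((Spec (CommRingCat.of K)).presheaf.stalk p) := by
  obtain rfl : p = IsLocalRing.closedPoint K := Subsingleton.elim _ _
  let e : (Spec (CommRingCat.of K)).presheaf.stalk (IsLocalRing.closedPoint K) ≃+* K :=
    (stalkClosedPointIso (CommRingCat.of K)).commRingCatIsoToRingEquiv
  exact IsRegularLocalRing.of_ringEquiv e.symm

theorem isPrincipalIdealRing_of_regular_dim_le_one (D : Type u) [CommRing D] [IsRegularLocalRing D]
    (h : ringKrullDim D ≤ 1) : IsPrincipalIdealRing D := by
  have h1 : ((IsLocalRing.maximalIdeal D).spanFinrank : WithBot ℕ∞) ≤ 1 := by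
    rw [← Groth.Agent.Lead.RLR.ringKrullDim_eq_spanFinrank]
    exact h
  have h2 : (IsLocalRing.maximalIdeal D).spanFinrank ≤ 1 := by exact_mod_cast h1
  rcases Nat.le_one_iff_eq_zero_or_eq_one.mp h2 with h0 | h1'
  · have hbot : IsLocalRing.maximalIdeal D = ⊥ :=
      (Submodule.spanFinrank_eq_zero_iff_eq_bot
        (IsLocalRing.maximalIdeal D).fg_of_isNoetherianRing).mp h0
    exact (IsLocalRing.isField_iff_maximalIdeal_eq.mpr hbot).isPrincipalIdealRing
  · obtain ⟨_, hdvr⟩ :=
      (Groth.Agent.Lead.RLR.exists_isDiscreteValuationRing_iff D).mpr ⟨inferInstance, h1'⟩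
    infer_instance


/-- Let X be a smooth, proper, geometrically irreducible scheme over a field k admitting an ample
invertible sheaf, S a k-scheme, and F a finitely presented quasi-coherent module on X ×_k S which is
flat over S and whose pullback to every fibre (X ×_k S)_s is torsion-free. Then F is free of finite
rank on some open neighbourhood of every point x whose local ring in its fibre has Krull dimension
at most 1. In particular F is locally free on a big open subset of X ×_k S. -/
theorem result
    (k : Type u) [Field k] (X S : Scheme.{u})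
    (a : X ⟶ Spec (CommRingCat.of k)) (b : S ⟶ Spec (CommRingCat.of k))
    [Smooth a] [IsProper a] [GeometricallyIrreducible a]
    (hproj : ∃ H : X.Modules, CohB1.IsAmple H)
    (F : (pullback a b).Modules) (hfp : CohB1.IsFP F)
    (hfl : FlatMod.IsFlatOver (pullback.snd a b) F)
    (htf : ∀ s : ↥S, TorSh.IsTorsionFree
      ((Scheme.Modules.pullback ((pullback.snd a b).fiberι s)).obj F))
    (x : ↥(pullback a b))
    (hx : ringKrullDim ↑(CInt.fiberStalk (pullback.snd a b) x) ≤ 1) :
    ∃ (V : (pullback a b).Opens) (n : ℕ), x ∈ V ∧
      Nonempty (F.restrict V.ι ≅ FlatMod.freeMod (↑V) n) := by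
  have hsm : Smooth (pullback.snd a b) := MorphismProperty.pullback_snd _ _ inferInstance
  have hFfp : SheafOfModules.IsFinitePresentation (R := (pullback a b).ringCatSheaf) F := hfp
  have hFq : F.IsQuasicoherent := inferInstance
  obtain ⟨s, x', rfl⟩ : ∃ (s : S) (x' : (pullback.snd a b).fiber s),
      (pullback.snd a b).fiberι s x' = x :=
    ⟨(pullback.snd a b) x, (pullback.snd a b).asFiber x, (pullback.snd a b).fiberι_asFiber x⟩
  have hsm' : Smooth ((pullback.snd a b).fiberToSpecResidueField s) :=
    MorphismProperty.pullback_snd _ _ inferInstance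
  have hD : IsRegularLocalRing (((pullback.snd a b).fiber s).presheaf.stalk x') := by
    apply Groth.Agent.H39.SmoothStalk.isRegularLocalRing_stalk_of_mem_smoothLocus
      ((pullback.snd a b).fiberToSpecResidueField s) x'
    · rw [Scheme.Hom.smoothLocus_eq_top]; trivial
    · exact isRegularLocalRing_stalk_spec_field _ _
  have e1 := Groth.Agent.H49.FibreStalk.quotientEquivStalkFiber (pullback.snd a b) s x'
  have e2 := Groth.Agent.H49.FibreStalk.quotientEquivStalkAsFiber (pullback.snd a b)
    ((pullback.snd a b).fiberι s x')
  have hdim : ringKrullDim (((pullback.snd a b).fiber s).presheaf.stalk x') ≤ 1 := by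
    rw [(ringKrullDim_eq_of_ringEquiv e1.symm).trans (ringKrullDim_eq_of_ringEquiv e2)]
    exact hx
  have hdom : IsDomain (((pullback.snd a b).fiber s).presheaf.stalk x') :=
    Groth.Agent.Lead.RLR.isDomain _
  have hpid := isPrincipalIdealRing_of_regular_dim_le_one _ hdim
  have hGq : ((Scheme.Modules.pullback ((pullback.snd a b).fiberι s)).obj F).IsQuasicoherent :=
    Groth.Agent.H44.isQuasicoherent_pullback ((pullback.snd a b).fiberι s) F
  have hGfp : SheafOfModules.IsFinitePresentation
      (R := ((pullback.snd a b).fiber s).ringCatSheaf)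
      ((Scheme.Modules.pullback ((pullback.snd a b).fiberι s)).obj F) :=
    Groth.Agent.H44.isFinitePresentation_pullback ((pullback.snd a b).fiberι s) F
  have hGstalk := Groth.Agent.H70.StalkFibre.finitePresentation_stalk
    ((Scheme.Modules.pullback ((pullback.snd a b).fiberι s)).obj F) x'
  have htf' : Module.IsTorsionFree (((pullback.snd a b).fiber s).presheaf.stalk x')
      (((Scheme.Modules.pullback ((pullback.snd a b).fiberι s)).obj F).presheaf.stalk x') :=
    htf s x'
  have hfree : Module.Free (((pullback.snd a b).fiber s).presheaf.stalk x')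
      (((Scheme.Modules.pullback ((pullback.snd a b).fiberι s)).obj F).presheaf.stalk x') :=
    Module.free_of_finite_type_torsion_free'
  let _ : Algebra ((pullback a b).presheaf.stalk ((pullback.snd a b).fiberι s x'))
      (((pullback.snd a b).fiber s).presheaf.stalk x') :=
    (((pullback.snd a b).fiberι s).stalkMap x').hom.toAlgebra
  obtain ⟨eq⟩ := Groth.Agent.H71.QCoh.exists_stalkPullbackEquiv ((pullback.snd a b).fiberι s) F x'
  have hfreeT := Module.Free.of_equiv eq.symm
  have hsurj : Function.Surjective (algebraMap
      ((pullback a b).presheaf.stalk ((pullback.snd a b).fiberι s x'))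
      (((pullback.snd a b).fiber s).presheaf.stalk x')) :=
    ((pullback.snd a b).fiberι s).stalkMap_surjective x'
  let _ : Algebra (S.presheaf.stalk ((pullback.snd a b) ((pullback.snd a b).fiberι s x')))
      ((pullback a b).presheaf.stalk ((pullback.snd a b).fiberι s x')) :=
    ((pullback.snd a b).stalkMap ((pullback.snd a b).fiberι s x')).hom.toAlgebra
  have : IsLocalHom (algebraMap
      (S.presheaf.stalk ((pullback.snd a b) ((pullback.snd a b).fiberι s x')))
      ((pullback a b).presheaf.stalk ((pullback.snd a b).fiberι s x'))) :=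
    inferInstanceAs (IsLocalHom ((pullback.snd a b).stalkMap ((pullback.snd a b).fiberι s x')).hom)
  let _ : Module (S.presheaf.stalk ((pullback.snd a b) ((pullback.snd a b).fiberι s x')))
      (F.presheaf.stalk ((pullback.snd a b).fiberι s x')) :=
    FlatMod.moduleStalkOver (pullback.snd a b) F ((pullback.snd a b).fiberι s x')
  have : IsScalarTower (S.presheaf.stalk ((pullback.snd a b) ((pullback.snd a b).fiberι s x')))
      ((pullback a b).presheaf.stalk ((pullback.snd a b).fiberι s x'))
      (F.presheaf.stalk ((pullback.snd a b).fiberι s x')) :=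
    IsScalarTower.of_algebraMap_smul (fun r m => rfl)
  have := Groth.Agent.H70.StalkFibre.finitePresentation_stalk F ((pullback.snd a b).fiberι s x')
  have : Module.Flat (S.presheaf.stalk ((pullback.snd a b) ((pullback.snd a b).fiberι s x')))
      (F.presheaf.stalk ((pullback.snd a b).fiberι s x')) := hfl _
  have hess := Groth.Agent.H70.StalkFibre.isEssFinitePresentation_stalk (pullback.snd a b)
    ((pullback.snd a b).fiberι s x')
  have hker : RingHom.ker (algebraMap
      ((pullback a b).presheaf.stalk ((pullback.snd a b).fiberι s x'))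
      (((pullback.snd a b).fiber s).presheaf.stalk x')) =
      (IsLocalRing.maximalIdeal
        (S.presheaf.stalk ((pullback.snd a b) ((pullback.snd a b).fiberι s x')))).map
        (algebraMap (S.presheaf.stalk ((pullback.snd a b) ((pullback.snd a b).fiberι s x')))
          ((pullback a b).presheaf.stalk ((pullback.snd a b).fiberι s x'))) :=
    Groth.Agent.H49.FibreStalk.ker_stalkMap_fiberι (pullback.snd a b) s x'
  have hfreeC : Module.Free ((pullback a b).presheaf.stalk ((pullback.snd a b).fiberι s x'))
      (F.presheaf.stalk ((pullback.snd a b).fiberι s x')) :=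
    Groth.Agent.H29.FreeFibre.free_of_free_fibre hess hsurj hker
  obtain ⟨_, ⟨V, hV, rfl⟩, hxV, -⟩ :=
    (pullback a b).isBasis_affineOpens.exists_subset_of_mem_open
      (Set.mem_univ ((pullback.snd a b).fiberι s x')) isOpen_univ
  have := Groth.Agent.H44.finitePresentation_sections_of_isFinitePresentation F hV
  exact Groth.Agent.H67.FreeLocus.exists_free_nhds_of_free_stalk F hV hxV hfreeC

end Groth.Agent.S16424
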