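import Groth.Statements.S16428
import Groth.Agent.H29.SchDenseFibC
import Groth.Agent.H22.GeomRedSections
import Groth.Agent.H19.SchDenseRed

set_option autoImplicit false
universe u
open CategoryTheory CategoryTheory.Limits AlgebraicGeometry TopologicalSpace
open RhoSh

namespace Groth.Agent.S16428


/-- Let X be a smooth, proper, geometrically irreducible scheme over a field k admitting an ample
invertible sheaf, S a k-scheme, and U a big open subset of X ×_k S, i.e. at every point outside U
the local ring of the fibre over S has Krull dimension at least 2. Then U is schematically dense in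
X ×_k S: restriction of functions from any open V to V ∩ U is injective. -/
theorem result
    (k : Type u) [Field k] (X S : Scheme.{u})
    (a : X ⟶ Spec (CommRingCat.of k)) (b : S ⟶ Spec (CommRingCat.of k))
    [Smooth a] [IsProper a] [GeometricallyIrreducible a]
    (hproj : ∃ H : X.Modules, CohB1.IsAmple H)
    (U : (pullback a b).Opens)
    (hU : ∀ x : ↥(pullback a b), x ∉ U →
      (2 : WithBot ℕ∞) ≤ ringKrullDim ↑(CInt.fiberStalk (pullback.snd a b) x)) :
    CInt.IsSchematicallyDense U := by
  have hsm : Smooth (pullback.snd a b) := MorphismProperty.pullback_snd _ _ inferInstance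
  apply Groth.Agent.H29.SchDenseFib.isSchematicallyDense_of_fibres (pullback.snd a b)
  intro s
  have hsm' : Smooth ((pullback.snd a b).fiberToSpecResidueField s) :=
    MorphismProperty.pullback_snd _ _ inferInstance
  have hred : IsReduced ((pullback.snd a b).fiber s) :=
    Groth.Agent.H22.GeomRedSections.isReduced_of_smooth_field (S.residueField s)
      ((pullback.snd a b).fiberToSpecResidueField s)
  apply Groth.Agent.H19.SchDenseRed.isSchematicallyDense_of_dense
  rw [dense_iff_inter_open]
  rintro W hW ⟨x₀, hx₀⟩
  -- a maximal generization of x₀
  obtain ⟨η, hη⟩ := QuasiSober.sober (isIrreducible_irreducibleComponent (x := x₀))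
    isClosed_irreducibleComponent
  have hηx₀ : η ⤳ x₀ := by
    rw [specializes_iff_mem_closure, hη.def]
    exact mem_irreducibleComponent
  have hcomp : closure {η} ∈ irreducibleComponents ((pullback.snd a b).fiber s) := by
    rw [hη.def]
    exact irreducibleComponent_mem_irreducibleComponents x₀
  have hmax : IsMax η := by
    intro z hz
    have hzη : z ⤳ η := hz
    have hsub : closure {η} ⊆ closure {z} := hzη.closure_subset
    have hle : closure {z} ⊆ closure {η} := hcomp.2 (isIrreducible_singleton.closure) hsub
    have hηz : η ⤳ z := by
      rw [specializes_iff_mem_closure]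
      exact hle (subset_closure rfl)
    exact hηz
  refine ⟨η, hηx₀.mem_open hW hx₀, ?_⟩
  by_contra hηU
  have h2 := hU ((pullback.snd a b).fiberι s η) hηU
  have e1 := Groth.Agent.H49.FibreStalk.quotientEquivStalkFiber (pullback.snd a b) s η
  have e2 := Groth.Agent.H49.FibreStalk.quotientEquivStalkAsFiber (pullback.snd a b)
    ((pullback.snd a b).fiberι s η)
  have h3 : ringKrullDim (((pullback.snd a b).fiber s).presheaf.stalk η) =
      ringKrullDim (CInt.fiberStalk (pullback.snd a b) ((pullback.snd a b).fiberι s η)) :=
    (ringKrullDim_eq_of_ringEquiv e1.symm).trans (ringKrullDim_eq_of_ringEquiv e2)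
  rw [← h3, ringKrullDim_stalk_eq_coheight, Order.coheight_eq_zero.mpr hmax] at h2
  exact absurd h2 (by decide)

end Groth.Agent.S16428
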