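import Groth.Statements.S16460
import Mathlib.Tactic

set_option autoImplicit false
universe u
open AdicGr

namespace Groth.Agent.S16460

/-- a nonzero element has an exact filtration level -/
theorem exists_level {A : Type u} [CommRing A] (𝓕 : FiltBl.IdealFiltration A)
    (hsep : ⨅ n, 𝓕.F n = ⊥) {a : A} (ha : a ≠ 0) :
    ∃ m : ℕ, a ∈ 𝓕.F m ∧ a ∉ 𝓕.F (m + 1) := by
  classical
  have hex : ∃ n, a ∉ 𝓕.F n := by
    by_contra h
    push Not at h
    apply ha
    have : a ∈ ⨅ n, 𝓕.F n := by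
      rw [Submodule.mem_iInf]; exact h
    rw [hsep] at this
    simpa using this
  have h0 : Nat.find hex ≠ 0 := by
    intro h0
    have := Nat.find_spec hex
    rw [h0, 𝓕.zero_eq] at this
    exact this Submodule.mem_top
  obtain ⟨m, hm⟩ := Nat.exists_eq_succ_of_ne_zero h0
  refine ⟨m, ?_, ?_⟩
  · by_contra h
    have := Nat.find_min' hex h
    omega
  · have := Nat.find_spec hex
    rwa [hm] at this

/-- Let A be a commutative ring with a decreasing filtration by ideals A = F₀ ⊇ F₁ ⊇ F₂ ⊇ … satisfying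
F_m·F_n ⊆ F_{m+n}, and assume the filtration is separated, ⋂ₙ Fₙ = 0. If the associated graded ring
⊕ₙ Fₙ/Fₙ₊₁ is an integral domain, then A is an integral domain. -/
theorem result (A : Type u) [CommRing A]
    (𝓕 : FiltBl.IdealFiltration A) (hsep : ⨅ n, 𝓕.F n = ⊥) [IsDomain (AssocGr.GrRing 𝓕)] :
    IsDomain A := by
  have hnt : Nontrivial A := by
    by_contra h
    rw [not_nontrivial_iff_subsingleton] at h
    have h01 : (0 : AssocGr.GrRing 𝓕) = 1 := by
      have : (1 : A) = 0 := Subsingleton.elim _ _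
      have h1 := (algebraMap A (AssocGr.GrRing 𝓕)).map_one
      rw [this, map_zero] at h1
      exact h1
    exact zero_ne_one h01
  have hnzd : NoZeroDivisors A := by
    constructor
    intro a b hab
    by_contra hne
    push Not at hne
    obtain ⟨m, ham, ham'⟩ := exists_level 𝓕 hsep hne.1
    obtain ⟨n, hbn, hbn'⟩ := exists_level 𝓕 hsep hne.2
    have h1 : (AssocGr.inDeg 𝓕 m ⟨a, ham⟩ : AssocGr.GrRing 𝓕) ≠ 0 := by
      intro h
      apply ham'
      have := (AssocGr.inDeg_eq_zero_iff 𝓕 m ⟨a, ham⟩).mp (Subtype.ext h)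
      exact this
    have h2 : (AssocGr.inDeg 𝓕 n ⟨b, hbn⟩ : AssocGr.GrRing 𝓕) ≠ 0 := by
      intro h
      apply hbn'
      have := (AssocGr.inDeg_eq_zero_iff 𝓕 n ⟨b, hbn⟩).mp (Subtype.ext h)
      exact this
    have h3 := AssocGr.coe_inDeg_mul 𝓕 m n ⟨a, ham⟩ ⟨b, hbn⟩
    have h4 : (AssocGr.inDeg 𝓕 (m + n) ⟨a * b, 𝓕.mul_le m n (Ideal.mul_mem_mul ham hbn)⟩ : AssocGr.GrRing 𝓕) = 0 := by
      have : AssocGr.inDeg 𝓕 (m + n) ⟨a * b, 𝓕.mul_le m n (Ideal.mul_mem_mul ham hbn)⟩ = 0 := by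
        rw [AssocGr.inDeg_eq_zero_iff]
        simp only [hab]
        exact Ideal.zero_mem _
      rw [this]; rfl
    rw [h4] at h3
    rcases mul_eq_zero.mp h3 with h | h
    · exact h1 h
    · exact h2 h
  exact NoZeroDivisors.to_isDomain A

end Groth.Agent.S16460
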