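import Groth.Statements.S16488
-- import your own Groth.Agent.* helpers here
import Groth.Agent.H6.HomShRefl2
import Groth.Agent.H6.ReflRegular

set_option autoImplicit false
universe u
open CategoryTheory CategoryTheory.Limits AlgebraicGeometry TopologicalSpace
open VBPn

namespace Groth.Agent.S16488

/-- Let X be an integral locally Noetherian scheme all of whose local rings are regular, and F a
coherent O_X-module which is reflexive, i.e. the canonical map F → F^** is an isomorphism. Then the
singularity set of F (the set of points at which the stalk of F is not free) has codimension at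
least 3: for every point x such that F_x is not a free O_{X,x}-module, the local ring O_{X,x} has
dimension at least 3. The published statement is for reflexive coherent analytic sheaves on a
complex manifold; this row is its statement for coherent sheaves on a regular integral locally
Noetherian scheme, where the same argument (a reflexive sheaf is locally a second syzygy sheaf)
applies. -/
theorem result (X : Scheme.{u}) [IsIntegral X] [IsLocallyNoetherian X]
    (hreg : ∀ x : X, IsRegularLocalRing (X.presheaf.stalk x)) (F : X.Modules) (hF : Coh.IsCoh F)
    (hrefl : RefHull.IsReflexive F) (x : X) (hx : ¬ Module.Free (X.presheaf.stalk x) (F.presheaf.stalk x)) :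
    (3 : WithBot ℕ∞) ≤ ringKrullDim (X.presheaf.stalk x) := by
  have hx' : RefHull.IsReflexiveAt F x :=
    (Groth.Agent.H6.HomSh.isReflexive_iff_forall_isReflexiveAt F hF).mp hrefl x
  have := hreg x
  have : Module.Finite (X.presheaf.stalk x) (F.presheaf.stalk x) :=
    Groth.Agent.H6.HomSh.finite_stalk_of_isCoh F hF x
  have : Module.IsReflexive (X.presheaf.stalk x) (F.presheaf.stalk x) := hx'
  by_contra hcon
  apply hx
  apply Groth.Agent.H6.ReflRegular.free_of_isReflexive_of_dim_le_two
  have hdA : ringKrullDim (X.presheaf.stalk x) =
      (IsLocalRing.maximalIdeal (X.presheaf.stalk x)).spanFinrank :=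
    Groth.Agent.Lead.RLR.ringKrullDim_eq_spanFinrank _
  rw [hdA] at hcon ⊢
  have h3 : ¬ 3 ≤ (IsLocalRing.maximalIdeal (X.presheaf.stalk x)).spanFinrank := by
    intro h
    apply hcon
    exact_mod_cast h
  have h2 : (IsLocalRing.maximalIdeal (X.presheaf.stalk x)).spanFinrank ≤ 2 := by omega
  exact_mod_cast h2

end Groth.Agent.S16488
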