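import Groth.Statements.S16500
import Mathlib.Tactic

set_option autoImplicit false
universe u
open Curves

namespace Groth.Agent.S16500

open Polynomial in
theorem reflect_pow_of_natDegree_le {R : Type u} [CommSemiring R] (f : R[X]) (N : ℕ)
    (hf : f.natDegree ≤ N) (k : ℕ) :
    (reflect N f) ^ k = reflect (N * k) (f ^ k) := by
  induction k with
  | zero =>
    simp only [pow_zero, Nat.mul_zero]
    rw [← Polynomial.C_1, Polynomial.reflect_C]
    simp
  | succ k ih =>
    rw [pow_succ, pow_succ, ih, Nat.mul_succ]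
    rw [Polynomial.reflect_mul (f ^ k) f ?_ hf]
    calc (f ^ k).natDegree ≤ k * f.natDegree := Polynomial.natDegree_pow_le
      _ ≤ k * N := Nat.mul_le_mul_left _ hf
      _ = N * k := Nat.mul_comm _ _

/-- Let k be a field of odd characteristic p, g ≤ p a natural number and f ∈ k[x] of degree at most 2g +
2. Let F be f with its coefficients reversed in degrees 0, …, 2g + 2, i.e. F(X) = X^(2g+2) f(1/X)
(Mathlib's reflect (2g+2) f), and write f^((p-1)/2) = Σ_l c_l x^l and F^((p-1)/2) = Σ_l C_l X^l.
Then C_{ip-j} = c_{(g+1-i)p-(g+1-j)} for all i, j = 1, …, g; that is, the g × g Cartier–Manin matrix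
of F is that of f with the order of both rows and columns reversed (below the indices run over Fin
g, the entry at (i, j) being the coefficient of degree (i+1)p-(j+1), and reversal is Fin.rev). In
particular the two matrices have the same determinant. (The source applies this to f with f(0) = 0,
separable of degree 2g + 2 over a perfect field, so that F has odd degree 2g + 1; the identity uses
none of that.) -/
theorem result (k : Type u) [Field k] (p : ℕ) [Fact p.Prime] (hp : p ≠ 2) [CharP k p]
    (g : ℕ) (hg : g ≤ p) (f : Polynomial k) (hf : f.natDegree ≤ 2 * g + 2) :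
    (Matrix.of fun i j : Fin g =>
        ((Polynomial.reflect (2 * g + 2) f) ^ ((p - 1) / 2)).coeff (((i : ℕ) + 1) * p - ((j : ℕ) + 1))) =
      Matrix.of fun i j : Fin g =>
        (f ^ ((p - 1) / 2)).coeff (((Fin.rev i : ℕ) + 1) * p - ((Fin.rev j : ℕ) + 1)) := by
  have hpp : p.Prime := Fact.out
  have hodd : p % 2 = 1 := by
    rcases hpp.eq_two_or_odd with h | h
    · exact absurd h hp
    · exact h
  have hp2 : 2 ≤ p := hpp.two_le
  ext i j
  simp only [Matrix.of_apply]
  rw [reflect_pow_of_natDegree_le f _ hf, Polynomial.coeff_reflect]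
  have hi := i.isLt
  have hj := j.isLt
  have hk : 2 * ((p - 1) / 2) = p - 1 := by omega
  have hNk : (2 * g + 2) * ((p - 1) / 2) = (g + 1) * (p - 1) := by
    have : (2 * g + 2) * ((p - 1) / 2) = (g + 1) * (2 * ((p - 1) / 2)) := by ring
    rw [this, hk]
  rw [hNk]
  -- bound
  have h1 : ((i : ℕ) + 1) * p ≤ g * p := Nat.mul_le_mul_right _ (by omega)
  obtain ⟨q, hq⟩ : ∃ q, p = q + 1 := ⟨p - 1, by omega⟩
  have hle : ((i : ℕ) + 1) * p - ((j : ℕ) + 1) ≤ (g + 1) * (p - 1) := by
    have : (g + 1) * (p - 1) = g * p + p - g - 1 := by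
      subst hq
      simp only [Nat.add_sub_cancel]
      have : (g + 1) * q = g * (q + 1) + (q + 1) - g - 1 := by
        have : g * (q + 1) + (q + 1) = (g + 1) * q + g + 1 := by ring
        omega
      exact this
    omega
  rw [Polynomial.revAt_le hle]
  congr 1
  simp only [Fin.val_rev]
  -- (g+1)(p-1) - ((i+1)p - (j+1)) = (g - (i+1) + 1) p - (g - (j+1) + 1)
  have e1 : g - ((i : ℕ) + 1) + 1 = g - (i : ℕ) := by omega
  have e2 : g - ((j : ℕ) + 1) + 1 = g - (j : ℕ) := by omega
  rw [e1, e2]
  have h3 : (g - (i : ℕ)) * p + ((i : ℕ) + 1) * p = (g + 1) * p := by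
    rw [← Nat.add_mul]; congr 1; omega
  have h4 : (g + 1) * (p - 1) + (g + 1) = (g + 1) * p := by
    subst hq; simp only [Nat.add_sub_cancel]; ring
  have h5 : (j : ℕ) + 1 ≤ ((i : ℕ) + 1) * p := by
    calc (j : ℕ) + 1 ≤ g := by omega
      _ ≤ p := hg
      _ ≤ ((i : ℕ) + 1) * p := Nat.le_mul_of_pos_left _ (by omega)
  have h6 : g - (j : ℕ) ≤ (g - (i : ℕ)) * p := by
    calc g - (j : ℕ) ≤ g := Nat.sub_le _ _
      _ ≤ p := hg
      _ ≤ (g - (i : ℕ)) * p := Nat.le_mul_of_pos_left _ (by omega)
  omega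

end Groth.Agent.S16500
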