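import Groth.Statements.S16517
import Mathlib
import Groth.Agent.H81.LinkFlat

set_option autoImplicit false
universe u
open CAlg

namespace Groth.Agent.S16517

/-- Let R be a regular local ring, A a Gorenstein local ring which is a flat R-algebra through a local
homomorphism, I ⊂ A an ideal of codimension zero (the Krull dimension of A/I equals that of A) with
A/I Cohen–Macaulay, and J = (0 : I) the annihilator of I in A (the ideal of the residual subscheme).
Then A/I and A/J are flat over R. -/
theorem result (R A : Type u)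
    [CommRing R] [IsRegularLocalRing R] [CommRing A] [Algebra R A] [LocCoh.IsGorensteinLocalRing A]
    [IsLocalHom (algebraMap R A)] [Module.Flat R A] (I : Ideal A)
    (hI : ringKrullDim (A ⧸ I) = ringKrullDim A) [LocCoh.IsCohenMacaulayLocalRing (A ⧸ I)] :
    Module.Flat R (A ⧸ I) ∧ Module.Flat R (A ⧸ (Submodule.annihilator I)) := by
  obtain ⟨d, hd⟩ := Groth.Agent.H72.FlatCM.exists_ringKrullDim_eq_natCast R
  obtain ⟨x, hx⟩ := Groth.Agent.Lead.RLR.exists_fin_span_eq R d hd
  have hreg := Groth.Agent.Lead.RLR.isRegular_ofFn R d hd x hx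
  set fs : List R := List.ofFn x with hfs
  have hof : Ideal.ofList fs = IsLocalRing.maximalIdeal R := by
    rw [← hx]
    unfold Ideal.ofList
    congr 1
    ext r
    simp only [Set.mem_ofPred_eq, hfs, List.mem_ofFn', Set.mem_range]
  have hmem : ∀ f ∈ fs, f ∈ IsLocalRing.maximalIdeal R := by
    intro f hf
    rw [← hof]
    exact Ideal.subset_span hf
  have hw : RingTheory.Sequence.IsWeaklyRegular A (fs.map (algebraMap R A)) :=
    RingTheory.Sequence.IsWeaklyRegular.of_flat hreg.toIsWeaklyRegular
  have hmemA : ∀ y ∈ fs.map (algebraMap R A), y ∈ IsLocalRing.maximalIdeal A := by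
    intro y hy
    obtain ⟨f, hf, rfl⟩ := List.mem_map.mp hy
    exact IsLocalRing.map_maximalIdeal_le (algebraMap R A) (Ideal.mem_map_of_mem _ (hmem f hf))
  have hmax : (Ideal.ofList fs).IsMaximal := hof ▸ inferInstance
  let _ := Ideal.Quotient.field (Ideal.ofList fs)
  constructor
  · rw [Groth.Agent.S5777.result R A (A ⧸ I) fs hmem hreg.toIsWeaklyRegular]
    refine ⟨inferInstance, ?_⟩
    rw [← RingTheory.Sequence.isWeaklyRegular_map_algebraMap_iff A (A ⧸ I) fs]
    exact Groth.Agent.H81.LinkFlat.isWeaklyRegular_quotient A I hI _ hw hmemA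
  · rw [Groth.Agent.S5777.result R A (A ⧸ Submodule.annihilator I) fs hmem hreg.toIsWeaklyRegular]
    refine ⟨inferInstance, ?_⟩
    rw [← RingTheory.Sequence.isWeaklyRegular_map_algebraMap_iff A (A ⧸ Submodule.annihilator I) fs]
    exact Groth.Agent.H81.LinkFlat.isWeaklyRegular_quotient_annihilator A I hI _ hw

end Groth.Agent.S16517
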