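import Groth.Statements.S16519
import Mathlib.Tactic

set_option autoImplicit false
open CubicSurf

namespace Groth.Agent.S16519

/-- tuples of small naturals encoding the solutions -/
abbrev Tup := Fin 5 × Fin 3 × Fin 3 × Fin 3 × Fin 3 × Fin 3 × Fin 3

def tupPred (t : Tup) : Prop :=
  3 * (t.1.val + 1) = 3 + (t.2.1.val + t.2.2.1.val + t.2.2.2.1.val + t.2.2.2.2.1.val + t.2.2.2.2.2.1.val + t.2.2.2.2.2.2.val) ∧
  (t.1.val + 1)^2 = 1 + (t.2.1.val^2 + t.2.2.1.val^2 + t.2.2.2.1.val^2 + t.2.2.2.2.1.val^2 + t.2.2.2.2.2.1.val^2 + t.2.2.2.2.2.2.val^2)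

instance : DecidablePred tupPred := fun t => by unfold tupPred; infer_instance

set_option maxRecDepth 1000000 in
theorem count72 : (Finset.univ.filter tupPred).card = 72 := by
  decide

def toVec (t : Tup) : ℤ × (Fin 6 → ℤ) :=
  ((t.1.val : ℤ) + 1, ![(t.2.1.val : ℤ), (t.2.2.1.val : ℤ), (t.2.2.2.1.val : ℤ), (t.2.2.2.2.1.val : ℤ),
    (t.2.2.2.2.2.1.val : ℤ), (t.2.2.2.2.2.2.val : ℤ)])

theorem toVec_injective : Function.Injective toVec := by
  intro s t h
  simp only [toVec, Prod.mk.injEq] at h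
  obtain ⟨h1, h2⟩ := h
  have e0 := congrFun h2 0
  have e1 := congrFun h2 1
  have e2 := congrFun h2 2
  have e3 := congrFun h2 3
  have e4 := congrFun h2 4
  have e5 := congrFun h2 5
  simp at e0 e1 e2 e3 e4 e5
  refine Prod.ext (Fin.ext (by omega)) (Prod.ext (Fin.ext (by omega)) (Prod.ext (Fin.ext (by omega))
    (Prod.ext (Fin.ext (by omega)) (Prod.ext (Fin.ext (by omega)) (Prod.ext (Fin.ext (by omega)) (Fin.ext (by omega)))))))

theorem bound_of_sq {a x : ℤ} (ha1 : 1 ≤ a) (ha5 : a ≤ 5)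
    (h : (2 * x - (a - 1)) ^ 2 ≤ 2 * (a - 1) * (5 - a)) : 0 ≤ x ∧ x ≤ 2 := by
  have h8 : (2 * x - (a - 1)) ^ 2 ≤ 8 := by nlinarith [sq_nonneg (a - 3)]
  have hl : -2 ≤ 2 * x - (a - 1) := by nlinarith
  have hu : 2 * x - (a - 1) ≤ 2 := by nlinarith
  interval_cases a
  · have : (2 * x) ^ 2 ≤ 0 := by simpa using h
    have : x = 0 := by nlinarith
    omega
  · constructor <;> omega
  · constructor <;> omega
  · constructor <;> omega
  · have : (2 * x - 4) ^ 2 ≤ 0 := by simpa using h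
    have : x = 2 := by nlinarith
    omega

/-- On a smooth cubic surface there are exactly 72 divisor classes L with L² = 1 and L · K = −3. Stated
in the lattice ℤ^{1,6} with basis l, e_1, …, e_6 (l² = 1, e_i² = −1, K = −3l + Σ e_i): the integer
vectors (a, b) ∈ ℤ × ℤ^6, standing for a·l − Σ b_i e_i, with 3a − Σ b_i = 3 and a² − Σ b_i² = 1 form
a set of exactly 72 elements. -/
theorem result :
    {p : ℤ × (Fin 6 → ℤ) | 3 * p.1 - (Finset.univ.sum fun i => p.2 i) = 3 ∧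
        p.1 ^ 2 - (Finset.univ.sum fun i => p.2 i ^ 2) = 1}.ncard = 72 := by
  have hset : {p : ℤ × (Fin 6 → ℤ) | 3 * p.1 - (Finset.univ.sum fun i => p.2 i) = 3 ∧
        p.1 ^ 2 - (Finset.univ.sum fun i => p.2 i ^ 2) = 1} =
      toVec '' ((Finset.univ.filter tupPred : Finset Tup) : Set Tup) := by
    ext ⟨a, b⟩
    simp only [Set.mem_ofPred_eq, Set.mem_image, Finset.coe_filter, Finset.mem_univ, true_and,
      Fin.sum_univ_six]
    constructor
    · rintro ⟨h1, h2⟩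
      have key : (2 * b 0 - (a - 1)) ^ 2 + (2 * b 1 - (a - 1)) ^ 2 + (2 * b 2 - (a - 1)) ^ 2 +
          (2 * b 3 - (a - 1)) ^ 2 + (2 * b 4 - (a - 1)) ^ 2 + (2 * b 5 - (a - 1)) ^ 2 =
          2 * (a - 1) * (5 - a) := by
        linear_combination (-4 : ℤ) * h2 + 4 * (a - 1) * h1
      have hpos : 0 ≤ 2 * (a - 1) * (5 - a) := by
        rw [← key]; positivity
      have ha1 : 1 ≤ a := by nlinarith
      have ha5 : a ≤ 5 := by nlinarith
      have b0 := bound_of_sq (x := b 0) ha1 ha5 (by linarith [key, sq_nonneg (2 * b 1 - (a - 1)), sq_nonneg (2 * b 2 - (a - 1)), sq_nonneg (2 * b 3 - (a - 1)), sq_nonneg (2 * b 4 - (a - 1)), sq_nonneg (2 * b 5 - (a - 1))])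
      have b1 := bound_of_sq (x := b 1) ha1 ha5 (by linarith [key, sq_nonneg (2 * b 0 - (a - 1)), sq_nonneg (2 * b 2 - (a - 1)), sq_nonneg (2 * b 3 - (a - 1)), sq_nonneg (2 * b 4 - (a - 1)), sq_nonneg (2 * b 5 - (a - 1))])
      have b2 := bound_of_sq (x := b 2) ha1 ha5 (by linarith [key, sq_nonneg (2 * b 0 - (a - 1)), sq_nonneg (2 * b 1 - (a - 1)), sq_nonneg (2 * b 3 - (a - 1)), sq_nonneg (2 * b 4 - (a - 1)), sq_nonneg (2 * b 5 - (a - 1))])
      have b3 := bound_of_sq (x := b 3) ha1 ha5 (by linarith [key, sq_nonneg (2 * b 0 - (a - 1)), sq_nonneg (2 * b 1 - (a - 1)), sq_nonneg (2 * b 2 - (a - 1)), sq_nonneg (2 * b 4 - (a - 1)), sq_nonneg (2 * b 5 - (a - 1))])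
      have b4 := bound_of_sq (x := b 4) ha1 ha5 (by linarith [key, sq_nonneg (2 * b 0 - (a - 1)), sq_nonneg (2 * b 1 - (a - 1)), sq_nonneg (2 * b 2 - (a - 1)), sq_nonneg (2 * b 3 - (a - 1)), sq_nonneg (2 * b 5 - (a - 1))])
      have b5 := bound_of_sq (x := b 5) ha1 ha5 (by linarith [key, sq_nonneg (2 * b 0 - (a - 1)), sq_nonneg (2 * b 1 - (a - 1)), sq_nonneg (2 * b 2 - (a - 1)), sq_nonneg (2 * b 3 - (a - 1)), sq_nonneg (2 * b 4 - (a - 1))])
      refine ⟨(⟨(a - 1).toNat, by omega⟩, ⟨(b 0).toNat, by omega⟩, ⟨(b 1).toNat, by omega⟩, ⟨(b 2).toNat, by omega⟩,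
        ⟨(b 3).toNat, by omega⟩, ⟨(b 4).toNat, by omega⟩, ⟨(b 5).toNat, by omega⟩), ?_, ?_⟩
      · have ea : (((a - 1).toNat : ℕ) : ℤ) = a - 1 := Int.toNat_of_nonneg (by omega)
        have e0 : (((b 0).toNat : ℕ) : ℤ) = b 0 := Int.toNat_of_nonneg b0.1
        have e1 : (((b 1).toNat : ℕ) : ℤ) = b 1 := Int.toNat_of_nonneg b1.1
        have e2 : (((b 2).toNat : ℕ) : ℤ) = b 2 := Int.toNat_of_nonneg b2.1
        have e3 : (((b 3).toNat : ℕ) : ℤ) = b 3 := Int.toNat_of_nonneg b3.1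
        have e4 : (((b 4).toNat : ℕ) : ℤ) = b 4 := Int.toNat_of_nonneg b4.1
        have e5 : (((b 5).toNat : ℕ) : ℤ) = b 5 := Int.toNat_of_nonneg b5.1
        constructor
        · zify
          simp only [ea, e0, e1, e2, e3, e4, e5]
          linarith
        · zify
          simp only [ea, e0, e1, e2, e3, e4, e5]
          linarith
      · have ea : (((a - 1).toNat : ℕ) : ℤ) = a - 1 := Int.toNat_of_nonneg (by omega)
        have e0 : (((b 0).toNat : ℕ) : ℤ) = b 0 := Int.toNat_of_nonneg b0.1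
        have e1 : (((b 1).toNat : ℕ) : ℤ) = b 1 := Int.toNat_of_nonneg b1.1
        have e2 : (((b 2).toNat : ℕ) : ℤ) = b 2 := Int.toNat_of_nonneg b2.1
        have e3 : (((b 3).toNat : ℕ) : ℤ) = b 3 := Int.toNat_of_nonneg b3.1
        have e4 : (((b 4).toNat : ℕ) : ℤ) = b 4 := Int.toNat_of_nonneg b4.1
        have e5 : (((b 5).toNat : ℕ) : ℤ) = b 5 := Int.toNat_of_nonneg b5.1
        simp only [toVec, ea, e0, e1, e2, e3, e4, e5, Prod.mk.injEq]
        refine ⟨by ring, ?_⟩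
        funext i
        fin_cases i <;> rfl
    · rintro ⟨t, ⟨h1, h2⟩, ht⟩
      simp only [toVec, Prod.mk.injEq] at ht
      obtain ⟨rfl, rfl⟩ := ht
      simp only [Matrix.cons_val_zero, Matrix.cons_val_one, Matrix.cons_val]
      constructor
      · zify at h1; linarith
      · zify at h2; linarith
  rw [hset, Set.ncard_image_of_injective _ toVec_injective, Set.ncard_coe_finset, count72]

end Groth.Agent.S16519
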