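import Groth.Statements.S1653
import Groth.Agent.H17.Chev.FieldImage

set_option autoImplicit false
universe u
open CategoryTheory CategoryTheory.Limits AlgebraicGeometry
open Variety

namespace Groth.Agent.S1653

/-- Let f : X → Y be a k-morphism of schemes locally of finite type over a field k, with X irreducible
of dimension a, and let the closure of the image of f have dimension b. Then the local fibre
dimension of f at every point of X is at least a - b, and the set of points where it equals a - b is
open and dense. -/
theorem result (k : Type u) [Field k] (X Y : Scheme.{u}) [X.Over (Spec (CommRingCat.of k))] [Y.Over (Spec (CommRingCat.of k))]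
    [LocallyOfFiniteType (X ↘ (Spec (CommRingCat.of k)))] [LocallyOfFiniteType (Y ↘ (Spec (CommRingCat.of k)))] [IrreducibleSpace X]
    (f : X ⟶ Y) (hf : f ≫ (Y ↘ (Spec (CommRingCat.of k))) = X ↘ (Spec (CommRingCat.of k))) (a b : ℕ) (ha : topologicalKrullDim X = a)
    (hb : topologicalKrullDim (closure (Set.range f.base)) = b) :
    (∀ x : X, ((a - b : ℕ) : WithBot ℕ∞) ≤ FlatMor.fibreDimAt f x) ∧
      IsOpen {x : X | FlatMor.fibreDimAt f x = (a - b : ℕ)} ∧ Dense {x : X | FlatMor.fibreDimAt f x = (a - b : ℕ)} := by
  have hlftf : LocallyOfFiniteType f := by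
    have : LocallyOfFiniteType (f ≫ (Y ↘ (Spec (CommRingCat.of k)))) := by rw [hf]; infer_instance
    exact locallyOfFiniteType_of_comp f (Y ↘ (Spec (CommRingCat.of k)))
  have key := Groth.Agent.H17.Chev.topologicalKrullDim_eq_closure_range_add k
    (X ↘ (Spec (CommRingCat.of k))) (Y ↘ (Spec (CommRingCat.of k))) f hf
  rw [ha, hb] at key
  have hξ := genericPoint_spec X
  set ξ := genericPoint X
  set E := topologicalKrullDim ↥(f.fiber (f.base ξ)) with hE
  have hEe : E = ((a - b : ℕ) : WithBot ℕ∞) := by
    clear_value E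
    induction E with
    | bot => simp at key
    | coe E =>
      induction E with
      | top =>
        exfalso
        have : ((a : ℕ∞) : WithBot ℕ∞) = (((b : ℕ∞) + ⊤ : ℕ∞) : WithBot ℕ∞) := by
          exact_mod_cast key
        have h' : (a : ℕ∞) = (b : ℕ∞) + ⊤ := WithBot.coe_injective this
        simp at h'
      | coe e =>
        have h' : a = b + e := by exact_mod_cast key
        have : e = a - b := by omega
        rw [this]
        rfl
  have hChev : ∀ x : X, E ≤ FlatMor.fibreDimAt f x := by
    intro x
    have h1 := Groth.Agent.H17.Chev.dim_generic_le_localDim f Set.univ isClosed_univ ξ hξ x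
      (Set.mem_univ x)
    rw [Groth.Agent.H17.Chev.localDim_univ_inter_eq_fibreDimAt,
      Groth.Agent.H17.Chev.dim_univ_inter_eq_dim_fiber] at h1
    exact h1
  have hset : {x : X | FlatMor.fibreDimAt f x = ((a - b : ℕ) : WithBot ℕ∞)} =
      {x : X | FlatMor.fibreDimAt f x ≤ ((a - b : ℕ) : WithBot ℕ∞)} := by
    ext x
    exact ⟨fun h => h.le, fun h => le_antisymm h (hEe ▸ hChev x)⟩
  refine ⟨fun x => hEe ▸ hChev x, ?_, ?_⟩
  · rw [hset]
    exact Groth.Agent.H17.Chev.isOpen_setOf_fibreDimAt_le f (a - b)
  · rw [hset, dense_iff_inter_open]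
    intro U hU hUne
    refine ⟨ξ, (hξ.mem_open_set_iff hU).mpr (by simpa using hUne), ?_⟩
    change FlatMor.fibreDimAt f ξ ≤ _
    rw [← hEe]
    exact Groth.Agent.H17.Chev.localDim_le_dim _

end Groth.Agent.S1653
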