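import Groth.Statements.S1654
import Groth.Agent.H25.FTResidue
import Groth.Agent.H25.GeomIrrComp
import Groth.Agent.H25.SubBC

set_option autoImplicit false
universe u
open CategoryTheory CategoryTheory.Limits AlgebraicGeometry
open Variety

namespace Groth.Agent.S1654

/-- Let X be a k-scheme locally of finite type, having only finitely many irreducible components. There
is then a finite separable extension k' of k such that every irreducible component of X_{k'}, with
its reduced induced structure, is geometrically irreducible over k'. -/
theorem result (k : Type u) [Field k] (X : Scheme.{u}) [X.Over (Spec (CommRingCat.of k))] [LocallyOfFiniteType (X ↘ (Spec (CommRingCat.of k)))]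
    (hirr : (irreducibleComponents (X : Type u)).Finite) :
    ∃ (k' : Type u) (_ : Field k') (_ : Algebra k k'), FiniteDimensional k k' ∧ Algebra.IsSeparable k k' ∧
      ∀ (T : Set (Curv2.bc k X k')) (hT : T ∈ irreducibleComponents (Curv2.bc k X k' : Type u)),
        GeometricallyIrreducible
          ((Scheme.IdealSheafData.vanishingIdeal ⟨T, isClosed_of_mem_irreducibleComponents T hT⟩).subschemeι ≫
            Curv2.bcSnd k X k') := by
  classical
  letI : ∀ x : X, Algebra k (X.residueField x) := fun x => Curv2.resAlgebra k X x
  haveI : Finite ↥(irreducibleComponents ↥X) := hirr.to_subtype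
  haveI : ∀ i : ↥(irreducibleComponents ↥X),
      FiniteDimensional k (separableClosure k (X.residueField i.2.1.genericPoint)) :=
    fun i => Groth.Agent.H25.FTResidue.finiteDimensional_separableClosure k X _
  obtain ⟨L, hF, hA, hfd, hgal, hemb⟩ := Groth.Agent.H25.GeomIrrComp.exists_finite_galois
    (k := k) (ι := ↥(irreducibleComponents ↥X))
    (fun i => ↥(separableClosure k (X.residueField i.2.1.genericPoint)))
  refine ⟨L, hF, hA, hfd, inferInstance, ?_⟩
  intro T hT
  refine ⟨geometrically_iff_of_commRing_of_isClosedUnderIsomorphisms.mpr fun K _ _ => ?_⟩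
  have hirrT := Groth.Agent.H25.GeomIrrComp.isIrreducible_preimage_of_galois k X L T hT ?_ K
  · have hrange : Set.range (Scheme.IdealSheafData.vanishingIdeal
        ⟨T, isClosed_of_mem_irreducibleComponents T hT⟩).subschemeι.base = T := by
      rw [Scheme.IdealSheafData.range_subschemeι,
        Scheme.IdealSheafData.coe_support_vanishingIdeal]
      rfl
    rw [← hrange] at hirrT
    exact Groth.Agent.H25.SubBC.irreducibleSpace_bc_of_isIrreducible_preimage
      (Curv2.bcSnd k X L) _ K hirrT
  · intro x hxc
    have hgp : (⟨closure {x}, hxc⟩ : ↥(irreducibleComponents ↥X)).2.1.genericPoint = x := by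
      have h1 := hxc.1.isGenericPoint_genericPoint_closure
      rw [closure_closure] at h1
      exact h1.eq isGenericPoint_closure
    have h3 := hemb ⟨closure {x}, hxc⟩
    rw [hgp] at h3
    exact ⟨Groth.Agent.H25.FTResidue.finiteDimensional_separableClosure k X x, h3⟩

end Groth.Agent.S1654
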