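import Groth.Statements.S1655
import Groth.Agent.H22.ZMTLocalIso

set_option autoImplicit false
universe u
open CategoryTheory CategoryTheory.Limits AlgebraicGeometry
open Variety

namespace Groth.Agent.S1655

/-- Let X be a Noetherian integral scheme, Y an integral scheme, and f : Y → X a proper morphism that
restricts to an isomorphism over some nonempty open subscheme of X. If x is a point of X whose local
ring is integrally closed and f is quasi-finite at some point lying over x, then f restricts to an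
isomorphism over an open neighbourhood of x. -/
theorem result {X Y : Scheme.{u}} [IsNoetherian X] [IsIntegral X] [IsIntegral Y]
    (f : Y ⟶ X) [IsProper f] (W : X.Opens) (hW : (W : Set X).Nonempty) (hfW : IsIso (f ∣_ W))
    (x : X) (hx : IsIntegrallyClosed (X.presheaf.stalk x)) (y : Y) (hy : f.base y = x) (hq : f.QuasiFiniteAt y) :
    ∃ V : X.Opens, x ∈ V ∧ IsIso (f ∣_ V) := by
  classical
  subst hy
  -- the preimage of `W` is a nonempty open of `Y`
  obtain ⟨w, hw⟩ := hW
  have hsurj : Function.Surjective (f ∣_ W) := by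
    intro t
    exact ⟨(inv (f ∣_ W)) t, by rw [← Scheme.Hom.comp_apply, IsIso.inv_hom_id]; rfl⟩
  obtain ⟨w', hw'⟩ := hsurj ⟨w, hw⟩
  haveI hne : Nonempty (f ⁻¹ᵁ W) := ⟨w'⟩
  -- generic points
  have h1 : (f ⁻¹ᵁ W).ι (genericPoint (f ⁻¹ᵁ W)) = genericPoint Y :=
    genericPoint_eq_of_isOpenImmersion (f ⁻¹ᵁ W).ι
  have hoi : IsOpenImmersion ((f ⁻¹ᵁ W).ι ≫ f) := by
    rw [← morphismRestrict_ι]
    infer_instance
  have h2 : ((f ⁻¹ᵁ W).ι ≫ f) (genericPoint (f ⁻¹ᵁ W)) = genericPoint X :=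
    genericPoint_eq_of_isOpenImmersion ((f ⁻¹ᵁ W).ι ≫ f)
  have hgen : f (genericPoint Y) = genericPoint X := by
    rw [← h1, ← Scheme.Hom.comp_apply, h2]
  have hbir : IsIso (f.stalkMap (genericPoint Y)) := by
    have h3 : IsIso (((f ⁻¹ᵁ W).ι ≫ f).stalkMap (genericPoint (f ⁻¹ᵁ W))) := inferInstance
    rw [Scheme.Hom.stalkMap_comp] at h3
    have h4 : IsIso (f.stalkMap ((f ⁻¹ᵁ W).ι (genericPoint (f ⁻¹ᵁ W)))) :=
      @IsIso.of_isIso_comp_right _ _ _ _ _ _
        ((f ⁻¹ᵁ W).ι.stalkMap (genericPoint (f ⁻¹ᵁ W))) inferInstance h3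
    rwa [h1] at h4
  have hbij := H22.ZMTLocalIso.bijective_stalkMap_of_quasiFiniteAt f hgen hbir y hq hx
  exact H22.ZMTLocalIso.exists_isIso_morphismRestrict_of_bijective_stalkMap f y hbij


end Groth.Agent.S1655
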