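import Groth.Statements.S16577
import Groth.Agent.H3.HensUnion

set_option autoImplicit false
universe u
open Hensel

namespace Groth.Agent.S16577

/-- Let A be a Noetherian local ring with a strict henselization S', and p a prime ideal of A. Call p an
immediate étale generization of the closed point when the strict henselization S'/pS' of A/p has an
irreducible component of dimension 1, that is, some minimal prime P over pS' has dim S'/P = 1. Then
p is an immediate étale generization of the closed point if and only if p is the contraction of some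
prime ideal P of S' with dim S'/P = 1. -/
theorem result
    (A : Type u) [CommRing A] [IsNoetherianRing A] [IsLocalRing A]
    (S' : Type u) [CommRing S'] [IsLocalRing S'] [Algebra A S'] [IsLocalHom (algebraMap A S')]
    [Hensel.IsStrictHenselization A S']
    (p : Ideal A) [p.IsPrime] :
    (∃ P ∈ (p.map (algebraMap A S')).minimalPrimes, ringKrullDim (S' ⧸ P) = 1) ↔
    (∃ P : Ideal S', P.IsPrime ∧ P.comap (algebraMap A S') = p ∧ ringKrullDim (S' ⧸ P) = 1) := by
  classical
  obtain ⟨hU, hff⟩ := Groth.Agent.H3.HensUnion.package (R := A) (S := S')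
    (Or.inr (inferInstance : Hensel.IsStrictHenselization A S'))
  haveI : Module.Flat A S' := inferInstance
  constructor
  · rintro ⟨P, hP, hdim⟩
    haveI hPp : P.IsPrime := hP.1.1
    refine ⟨P, hPp, ?_, hdim⟩
    have hle : p ≤ P.comap (algebraMap A S') := Ideal.map_le_iff_le_comap.mp hP.1.2
    by_contra hne
    have hlt : p < P.under A := lt_of_le_of_ne hle (fun h => hne h.symm)
    obtain ⟨P', hP'le, hP'prime, hP'over⟩ :=
      Algebra.HasGoingDown.exists_ideal_le_liesOver_of_lt (p := p) P hlt
    have hmap : p.map (algebraMap A S') ≤ P' := by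
      rw [Ideal.map_le_iff_le_comap]
      exact le_of_eq (hP'over.over)
    have hPP' : P ≤ P' := hP.2 ⟨hP'prime, hmap⟩ hP'le
    have heq : P = P' := le_antisymm hPP' hP'le
    have : P.under A = p := by rw [heq]; exact (hP'over.over).symm
    exact hne this
  · rintro ⟨P, hPp, hcomap, hdim⟩
    refine ⟨P, ⟨⟨hPp, ?_⟩, ?_⟩, hdim⟩
    · rw [← hcomap]; exact Ideal.map_comap_le
    · rintro P' ⟨hP'prime, hP'map⟩ hP'le
      by_contra hnle
      have hlt : P' < P := lt_of_le_of_ne hP'le (fun h => hnle (le_of_eq h.symm))
      have h1 := Groth.Agent.H3.UnionEtale.under_lt_under hU hlt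
      have h2 : p ≤ P'.under A := Ideal.map_le_iff_le_comap.mp hP'map
      have h3 : P.under A = p := hcomap
      rw [h3] at h1
      exact absurd h1 (not_lt_of_ge h2)

end Groth.Agent.S16577
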