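import Groth.Statements.S16598
import Mathlib.Tactic
import Mathlib.RingTheory.Finiteness.Projective
import Mathlib.RingTheory.Finiteness.Nakayama
import Mathlib.Algebra.MvPolynomial.Rename

set_option autoImplicit false
universe u v
open LGRing

namespace Groth.Agent.S16598

/-- Let R be an LG-ring and M a faithfully projective R-module (finitely generated projective and
faithful). Then M contains a unimodular element: there are m ∈ M and a linear form f on M with f(m)
= 1 (so R·m is a free direct summand of M of rank one). -/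
theorem result {R : Type u} [CommRing R] (hR : LGRing.IsLGRing R)
    (M : Type v) [AddCommGroup M] [Module R M] [Module.Finite R M] [Module.Projective R M] [FaithfulSMul R M] :
    ∃ (m : M) (f : Module.Dual R M), f m = 1 := by
  classical
  obtain ⟨n, π, σ, _, _, hπσ⟩ := Module.Finite.exists_comp_eq_id_of_projective R M
  have hπσ' : ∀ v : M, π (σ v) = v := fun v => by
    have := LinearMap.congr_fun hπσ v
    simpa using this
  -- the matrix of σ ∘ π
  set E : Fin n → Fin n → R := fun i j => σ (π (Pi.single j 1)) i with hE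
  have hσπ : ∀ (x : Fin n → R) (i : Fin n), σ (π x) i = ∑ j, E i j * x j := by
    intro x i
    conv_lhs => rw [← (Pi.basisFun R (Fin n)).sum_repr x]
    simp only [map_sum, map_smul, Pi.basisFun_repr, Pi.basisFun_apply, Finset.sum_apply,
      Pi.smul_apply, smul_eq_mul, hE]
    exact Finset.sum_congr rfl (fun j _ => mul_comm _ _)
  let ιX : Fin n → Fin (n + n) := fun i => Fin.castAdd n i
  let ιY : Fin n → Fin (n + n) := fun j => Fin.natAdd n j
  let F : MvPolynomial (Fin (n + n)) R :=
    ∑ i : Fin n, ∑ j : Fin n, MvPolynomial.C (E i j) * MvPolynomial.X (ιY i) * MvPolynomial.X (ιX j)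
  have hFeval : ∀ {S : Type u} [CommRing S] [Algebra R S] (s : Fin (n + n) → S),
      MvPolynomial.aeval s F = ∑ i : Fin n, ∑ j : Fin n, algebraMap R S (E i j) * s (ιY i) * s (ιX j) := by
    intro S _ _ s
    simp only [F, map_sum, map_mul, MvPolynomial.aeval_C, MvPolynomial.aeval_X]
  have hF : ∀ (m : Ideal R) [m.IsMaximal], LGRing.RepresentsUnit F (R ⧸ m) := by
    intro m hm
    let _ := Ideal.Quotient.field m
    -- some entry of E is outside m
    have hex : ∃ i j, E i j ∉ m := by
      by_contra hcon
      push Not at hcon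
      have htop : (⊤ : Submodule R M) ≤ m • (⊤ : Submodule R M) := by
        intro v _
        have hv : v = ∑ i, (σ v i) • π (Pi.single i 1) := by
          conv_lhs => rw [← hπσ' v, ← (Pi.basisFun R (Fin n)).sum_repr (σ v)]
          simp only [map_sum, map_smul, Pi.basisFun_repr, Pi.basisFun_apply]
        rw [hv]
        refine Submodule.sum_mem _ (fun i _ => Submodule.smul_mem_smul ?_ Submodule.mem_top)
        have : σ v i = σ (π (σ v)) i := by rw [hπσ' v]
        rw [this, hσπ]
        exact Ideal.sum_mem _ (fun j _ => Ideal.mul_mem_right _ _ (hcon i j))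
      obtain ⟨r, hr1, hr2⟩ := Submodule.exists_sub_one_mem_and_smul_eq_zero_of_fg_of_le_smul m
        (⊤ : Submodule R M) Module.Finite.fg_top htop
      have hr0 : r = 0 := by
        apply FaithfulSMul.eq_of_smul_eq_smul (α := M)
        intro v
        rw [hr2 v Submodule.mem_top, zero_smul]
      rw [hr0, zero_sub] at hr1
      exact (Ideal.IsMaximal.ne_top hm) ((Ideal.eq_top_iff_one m).2 (by simpa using m.neg_mem hr1))
    obtain ⟨i₀, j₀, hij⟩ := hex
    have hne : (Ideal.Quotient.mk m (E i₀ j₀)) ≠ 0 := by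
      rwa [Ne, Ideal.Quotient.eq_zero_iff_mem]
    obtain ⟨sb, hsb1, hsb2⟩ : ∃ sb : Fin (n + n) → R ⧸ m,
        (∀ j, sb (ιX j) = if j = j₀ then 1 else 0) ∧
        ∀ i, sb (ιY i) = if i = i₀ then (Ideal.Quotient.mk m (E i₀ j₀))⁻¹ else 0 :=
      ⟨fun l => Fin.addCases (fun j => if j = j₀ then 1 else 0) (fun i => if i = i₀ then
        (Ideal.Quotient.mk m (E i₀ j₀))⁻¹ else 0) l,
        fun j => Fin.addCases_left (motive := fun _ => R ⧸ m) j,
        fun i => Fin.addCases_right (motive := fun _ => R ⧸ m) i⟩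
    refine ⟨sb, ?_⟩
    rw [hFeval, Finset.sum_eq_single i₀, Finset.sum_eq_single j₀]
    · rw [hsb1, hsb2, if_pos rfl, if_pos rfl, mul_one]
      have : algebraMap R (R ⧸ m) (E i₀ j₀) = Ideal.Quotient.mk m (E i₀ j₀) := rfl
      rw [this, mul_inv_cancel₀ hne]
      exact isUnit_one
    · intro j _ hj
      rw [hsb1, if_neg hj, mul_zero]
    · intro h; exact absurd (Finset.mem_univ _) h
    · intro i _ hi
      refine Finset.sum_eq_zero (fun j _ => ?_)
      rw [hsb2, if_neg hi, mul_zero, zero_mul]
    · intro h; exact absurd (Finset.mem_univ _) h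
  obtain ⟨s, hs⟩ := hR (n + n) F hF
  rw [hFeval] at hs
  obtain ⟨u, hu⟩ := hs
  let x : Fin n → R := fun j => s (ιX j)
  let ψ : (Fin n → R) →ₗ[R] R := ∑ i, (s (ιY i)) • LinearMap.proj i
  refine ⟨π x, (↑u⁻¹ : R) • (ψ ∘ₗ σ), ?_⟩
  have h1 : ψ (σ (π x)) = (u : R) := by
    rw [hu]
    simp only [ψ, LinearMap.sum_apply, LinearMap.smul_apply, LinearMap.proj_apply, smul_eq_mul, hσπ,
      Finset.mul_sum, Algebra.algebraMap_self, RingHom.id_apply, x]
    refine Finset.sum_congr rfl (fun i _ => Finset.sum_congr rfl (fun j _ => ?_))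
    ring
  simp only [LinearMap.smul_apply, LinearMap.comp_apply, smul_eq_mul, h1]
  exact Units.inv_mul u

end Groth.Agent.S16598
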