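import Groth.Statements.S16599
import Mathlib.Tactic
import Mathlib.RingTheory.Spectrum.Prime.Topology
import Mathlib.Algebra.MvPolynomial.Rename

set_option autoImplicit false
open AlgebraicGeometry
universe u
open LGRing

namespace Groth.Agent.S16599

/-- Let R be an LG-ring, n ≥ 0, and U an open quasi-compact subscheme of affine n-space Spec R[X₁, …,
Xₙ]. If U has an (R ⧸ m)-valued point over R for every maximal ideal m of R, then U has an R-valued
point: some n-tuple x over R defines a section Spec R ⟶ Spec R[X₁, …, Xₙ] with image inside U. -/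
theorem result {R : Type u} [CommRing R] (hR : LGRing.IsLGRing R)
    (n : ℕ) (U : (Spec (CommRingCat.of (MvPolynomial (Fin n) R))).Opens)
    (hU : IsCompact (U : Set ↥(Spec (CommRingCat.of (MvPolynomial (Fin n) R)))))
    (h : ∀ (m : Ideal R) [m.IsMaximal], ∃ x : Fin n → R ⧸ m,
      Set.range (Spec.map (CommRingCat.ofHom (MvPolynomial.eval₂Hom (Ideal.Quotient.mk m) x))).base ⊆
        (U : Set ↥(Spec (CommRingCat.of (MvPolynomial (Fin n) R))))) :
    ∃ x : Fin n → R, Set.range (Spec.map (CommRingCat.ofHom (MvPolynomial.eval x))).base ⊆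
      (U : Set ↥(Spec (CommRingCat.of (MvPolynomial (Fin n) R)))) := by
  classical
  obtain ⟨t, ht⟩ := PrimeSpectrum.isCompact_isOpen_iff.mp ⟨hU, U.isOpen⟩
  -- membership criterion
  have hmem : ∀ {S : Type u} [CommRing S] (φ : MvPolynomial (Fin n) R →+* S) (𝔭 : PrimeSpectrum S),
      (Spec.map (CommRingCat.ofHom φ)).base 𝔭 ∈
        (U : Set ↥(Spec (CommRingCat.of (MvPolynomial (Fin n) R)))) ↔
      ∃ f ∈ t, φ f ∉ 𝔭.asIdeal := by
    intro S _ φ 𝔭
    rw [← ht]
    change PrimeSpectrum.comap φ 𝔭 ∈ (PrimeSpectrum.zeroLocus (t : Set (MvPolynomial (Fin n) R)))ᶜ ↔ _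
    rw [Set.mem_compl_iff, PrimeSpectrum.mem_zeroLocus, Set.not_subset]
    constructor
    · rintro ⟨f, hf, hf'⟩
      exact ⟨f, hf, hf'⟩
    · rintro ⟨f, hf, hf'⟩
      exact ⟨f, hf, hf'⟩
  set k := t.card with hk
  let e : Fin k ≃ t := t.equivFin.symm
  let ιX : Fin n → Fin (n + k) := fun i => Fin.castAdd k i
  let ιY : Fin k → Fin (n + k) := fun j => Fin.natAdd n j
  let F : MvPolynomial (Fin (n + k)) R :=
    ∑ j : Fin k, MvPolynomial.rename ιX (e j : MvPolynomial (Fin n) R) * MvPolynomial.X (ιY j)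
  have hFeval : ∀ {S : Type u} [CommRing S] [Algebra R S] (s : Fin (n + k) → S),
      MvPolynomial.aeval s F =
        ∑ j : Fin k, MvPolynomial.aeval (s ∘ ιX) (e j : MvPolynomial (Fin n) R) * s (ιY j) := by
    intro S _ _ s
    simp only [F, map_sum, map_mul, MvPolynomial.aeval_rename, MvPolynomial.aeval_X]
  have hF : ∀ (m : Ideal R) [m.IsMaximal], LGRing.RepresentsUnit F (R ⧸ m) := by
    intro m hm
    let _ := Ideal.Quotient.field m
    obtain ⟨x, hx⟩ := h m
    have h0 := hx ⟨⟨⊥, Ideal.isPrime_bot⟩, rfl⟩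
    rw [hmem] at h0
    obtain ⟨f, hf, hf'⟩ := h0
    have hne : MvPolynomial.eval₂Hom (Ideal.Quotient.mk m) x f ≠ 0 := by
      intro h0
      apply hf'
      change _ ∈ (⊥ : Ideal (R ⧸ m))
      rw [h0]
      exact Ideal.zero_mem _
    set j := e.symm ⟨f, hf⟩ with hj
    obtain ⟨sb, hsb1, hsb2⟩ : ∃ sb : Fin (n + k) → R ⧸ m, sb ∘ ιX = x ∧
        ∀ j', sb (ιY j') = if j' = j then
          (MvPolynomial.eval₂Hom (Ideal.Quotient.mk m) x f)⁻¹ else 0 :=
      ⟨fun i => Fin.addCases x (fun j' => if j' = j then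
        (MvPolynomial.eval₂Hom (Ideal.Quotient.mk m) x f)⁻¹ else 0) i,
        by funext i; simp [ιX], by intro j'; simp [ιY]⟩
    refine ⟨sb, ?_⟩
    rw [hFeval, Finset.sum_eq_single j]
    · have h3 : (e j : MvPolynomial (Fin n) R) = f := by
        rw [hj, Equiv.apply_symm_apply]
      rw [hsb1, hsb2, if_pos rfl, h3]
      have h4 : MvPolynomial.aeval x f = MvPolynomial.eval₂Hom (Ideal.Quotient.mk m) x f := rfl
      rw [h4, mul_inv_cancel₀ hne]
      exact isUnit_one
    · intro j' _ hj'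
      rw [hsb2, if_neg hj', mul_zero]
    · intro hj'; exact absurd (Finset.mem_univ j) hj'
  obtain ⟨s, hs⟩ := hR (n + k) F hF
  refine ⟨s ∘ ιX, ?_⟩
  rintro _ ⟨𝔭, rfl⟩
  rw [hmem]
  by_contra hcon
  push Not at hcon
  have hs' : MvPolynomial.aeval s F ∈ 𝔭.asIdeal := by
    rw [hFeval]
    refine Ideal.sum_mem _ (fun j _ => Ideal.mul_mem_right _ _ ?_)
    have := hcon (e j) (e j).2
    exact this
  exact 𝔭.isPrime.ne_top (Ideal.eq_top_of_isUnit_mem _ hs' hs)

end Groth.Agent.S16599
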