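import Groth.Statements.S16600
import Groth.Agent.H82.LG

set_option autoImplicit false
open AlgebraicGeometry
universe u
open LGRing

namespace Groth.Agent.S16600

/-- Let R be an LG-ring, M a finite locally free R-module, W(M) = Spec Sym(M^∨) the vector bundle of M
(its points with values in an R-algebra R' are the R-algebra maps Sym(M^∨) → R', i.e. the R-linear
maps M^∨ → R'), and U ⊆ W(M) an open quasi-compact subscheme. Then U(R) is non-empty if and only if
U(R ⧸ m) is non-empty for every maximal ideal m of R. -/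
theorem result {R : Type u} [CommRing R]
    (hR : LGRing.IsLGRing R) (M : Type u) [AddCommGroup M] [Module R M] [Module.Finite R M] [Module.Projective R M]
    (U : (Spec (CommRingCat.of (SymmetricAlgebra R (Module.Dual R M)))).Opens)
    (hU : IsCompact (U : Set ↥(Spec (CommRingCat.of (SymmetricAlgebra R (Module.Dual R M)))))) :
    (∃ φ : Module.Dual R M →ₗ[R] R,
      Set.range (Spec.map (CommRingCat.ofHom (SymmetricAlgebra.lift φ).toRingHom)).base ⊆
        (U : Set ↥(Spec (CommRingCat.of (SymmetricAlgebra R (Module.Dual R M)))))) ↔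
    ∀ (m : Ideal R) [m.IsMaximal], ∃ φ : Module.Dual R M →ₗ[R] (R ⧸ m),
      Set.range (Spec.map (CommRingCat.ofHom (SymmetricAlgebra.lift φ).toRingHom)).base ⊆
        (U : Set ↥(Spec (CommRingCat.of (SymmetricAlgebra R (Module.Dual R M))))) := by
  classical
  obtain ⟨t, ht⟩ := PrimeSpectrum.isCompact_isOpen_iff.mp ⟨hU, U.isOpen⟩
  constructor
  · rintro ⟨φ, hφ⟩ m hm
    rw [Groth.Agent.H82.LG.range_subset_iff t U ht] at hφ
    refine ⟨(Ideal.Quotient.mkₐ R m).toLinearMap ∘ₗ φ, ?_⟩
    rw [Groth.Agent.H82.LG.range_subset_iff t U ht]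
    intro 𝔭
    obtain ⟨f, hf, hf'⟩ := hφ (PrimeSpectrum.comap (Ideal.Quotient.mk m) 𝔭)
    refine ⟨f, hf, ?_⟩
    have hcomp : SymmetricAlgebra.lift ((Ideal.Quotient.mkₐ R m).toLinearMap ∘ₗ φ) =
        (Ideal.Quotient.mkₐ R m).comp (SymmetricAlgebra.lift φ) := by
      apply SymmetricAlgebra.algHom_ext
      ext ξ
      simp [SymmetricAlgebra.lift_ι_apply]
    intro hmem
    apply hf'
    change Ideal.Quotient.mk m ((SymmetricAlgebra.lift φ) f) ∈ 𝔭.asIdeal
    have : (SymmetricAlgebra.lift ((Ideal.Quotient.mkₐ R m).toLinearMap ∘ₗ φ)) f =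
        Ideal.Quotient.mk m ((SymmetricAlgebra.lift φ) f) := by
      rw [hcomp]; rfl
    rw [← this]
    exact hmem
  · intro h
    obtain ⟨n, π, σ, _, _, hπσ⟩ := Module.Finite.exists_comp_eq_id_of_projective R (Module.Dual R M)
    obtain ⟨φ, hφ⟩ := Groth.Agent.H82.LG.exists_form hR σ t (by
      intro m hm
      let _ := Ideal.Quotient.field m
      obtain ⟨φm, hφm⟩ := h m
      rw [Groth.Agent.H82.LG.range_subset_iff t U ht] at hφm
      obtain ⟨f, hf, hf'⟩ := hφm ⟨⊥, Ideal.isPrime_bot⟩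
      refine ⟨fun i => φm (π (Pi.single i 1)), f, hf, ?_⟩
      rw [Groth.Agent.H82.LG.aeval_Psi, Groth.Agent.H82.LG.formOf_eq π σ hπσ φm]
      intro h0
      apply hf'
      change _ ∈ (⊥ : Ideal (R ⧸ m))
      rw [Ideal.mem_bot]
      exact h0)
    refine ⟨φ, ?_⟩
    rw [Groth.Agent.H82.LG.range_subset_iff t U ht]
    exact hφ

end Groth.Agent.S16600
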