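import Groth.Statements.S16601
import Groth.Agent.H82.LG2

set_option autoImplicit false
open AlgebraicGeometry
universe u
open LGRing

namespace Groth.Agent.S16601

/-- Let R be an LG-ring whose residue fields at maximal ideals are all infinite (R satisfies the
primitive criterion), M a finite locally free R-module with vector bundle W(M) = Spec Sym(M^∨), and
U ⊆ W(M) an open quasi-compact subscheme which is fibrewise dense over the closed points of Spec R
(for every maximal ideal m, the trace of U on the closed fibre Spec (Sym(M^∨) ⧸ m Sym(M^∨)) is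
dense). Then U has an R-valued point. (The source asks U to be R-dense in W(M); only density of the
closed fibres is used, which is what is assumed here.) -/
theorem result {R : Type u} [CommRing R]
    (hR : LGRing.IsLGRing R) (hinf : ∀ (m : Ideal R) [m.IsMaximal], Infinite (R ⧸ m))
    (M : Type u) [AddCommGroup M] [Module R M] [Module.Finite R M] [Module.Projective R M]
    (U : (Spec (CommRingCat.of (SymmetricAlgebra R (Module.Dual R M)))).Opens)
    (hU : IsCompact (U : Set ↥(Spec (CommRingCat.of (SymmetricAlgebra R (Module.Dual R M))))))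
    (hdense : ∀ (m : Ideal R) [m.IsMaximal],
      Dense ((Spec.map (CommRingCat.ofHom (Ideal.Quotient.mk
        (Ideal.map (algebraMap R (SymmetricAlgebra R (Module.Dual R M))) m)))).base ⁻¹'
          (U : Set ↥(Spec (CommRingCat.of (SymmetricAlgebra R (Module.Dual R M))))))) :
    ∃ φ : Module.Dual R M →ₗ[R] R,
      Set.range (Spec.map (CommRingCat.ofHom (SymmetricAlgebra.lift φ).toRingHom)).base ⊆
        (U : Set ↥(Spec (CommRingCat.of (SymmetricAlgebra R (Module.Dual R M))))) := by
  classical
  obtain ⟨t, ht⟩ := PrimeSpectrum.isCompact_isOpen_iff.mp ⟨hU, U.isOpen⟩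
  obtain ⟨n, π, σ, _, _, hπσ⟩ := Module.Finite.exists_comp_eq_id_of_projective R (Module.Dual R M)
  obtain ⟨φ, hφ⟩ := Groth.Agent.H82.LG.exists_form hR σ t (by
    intro m hm
    -- the closed fibre is nonempty
    have hne : Ideal.map (algebraMap R (SymmetricAlgebra R (Module.Dual R M))) m ≠ ⊤ := by
      intro htop
      have h1 : (1 : SymmetricAlgebra R (Module.Dual R M)) ∈
          Ideal.map (algebraMap R (SymmetricAlgebra R (Module.Dual R M))) m := by
        rw [htop]; trivial
      have h2 := Ideal.mem_map_of_mem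
        (SymmetricAlgebra.algebraMapInv (R := R) (M := Module.Dual R M) :
          SymmetricAlgebra R (Module.Dual R M) →+* R) h1
      rw [Ideal.map_map] at h2
      have h3 : ((SymmetricAlgebra.algebraMapInv (R := R) (M := Module.Dual R M) :
          SymmetricAlgebra R (Module.Dual R M) →+* R).comp
          (algebraMap R (SymmetricAlgebra R (Module.Dual R M)))) = RingHom.id R := by
        ext r
        simp
      rw [h3, Ideal.map_id, map_one] at h2
      exact (Ideal.IsMaximal.ne_top hm) ((Ideal.eq_top_iff_one m).2 h2)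
    have hnt : Nontrivial (SymmetricAlgebra R (Module.Dual R M) ⧸
        Ideal.map (algebraMap R (SymmetricAlgebra R (Module.Dual R M))) m) :=
      Ideal.Quotient.nontrivial_iff.mpr hne
    obtain ⟨𝔮⟩ : Nonempty (PrimeSpectrum (SymmetricAlgebra R (Module.Dual R M) ⧸
        Ideal.map (algebraMap R (SymmetricAlgebra R (Module.Dual R M))) m)) := inferInstance
    have hd := hdense m
    have hopen : IsOpen ((Spec.map (CommRingCat.ofHom (Ideal.Quotient.mk
        (Ideal.map (algebraMap R (SymmetricAlgebra R (Module.Dual R M))) m)))).base ⁻¹'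
          (U : Set ↥(Spec (CommRingCat.of (SymmetricAlgebra R (Module.Dual R M)))))) :=
      U.isOpen.preimage (Spec.map _).base.hom.continuous
    obtain ⟨𝔮', h𝔮'⟩ : ((Spec.map (CommRingCat.ofHom (Ideal.Quotient.mk
        (Ideal.map (algebraMap R (SymmetricAlgebra R (Module.Dual R M))) m)))).base ⁻¹'
          (U : Set ↥(Spec (CommRingCat.of (SymmetricAlgebra R (Module.Dual R M)))))).Nonempty :=
      hd.nonempty_iff.mpr ⟨𝔮⟩
    rw [Set.mem_preimage, ← ht] at h𝔮'
    change PrimeSpectrum.comap _ 𝔮' ∈ (PrimeSpectrum.zeroLocus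
      (t : Set (SymmetricAlgebra R (Module.Dual R M))))ᶜ at h𝔮'
    rw [Set.mem_compl_iff, PrimeSpectrum.mem_zeroLocus, Set.not_subset] at h𝔮'
    obtain ⟨f, hf, hf'⟩ := h𝔮'
    have hfm : f ∉ Ideal.map (algebraMap R (SymmetricAlgebra R (Module.Dual R M))) m := by
      intro hmem
      apply hf'
      change Ideal.Quotient.mk _ f ∈ 𝔮'.asIdeal
      rw [Ideal.Quotient.eq_zero_iff_mem.mpr hmem]
      exact Ideal.zero_mem _
    obtain ⟨x, hx⟩ := Groth.Agent.H82.LG.exists_point_of_not_mem π σ hπσ m (hinf m) f hfm
    exact ⟨x, f, hf, hx⟩)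
  refine ⟨φ, ?_⟩
  rw [Groth.Agent.H82.LG.range_subset_iff t U ht]
  exact hφ

end Groth.Agent.S16601
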