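import Groth.Statements.S16611
import Groth.Agent.H82.ChartRank

set_option autoImplicit false
open CategoryTheory MonoidalCategory CartesianMonoidalCategory MonObj GrpObj AlgebraicGeometry
universe u
open SGA3x

namespace Groth.Agent.S16611

/-- Over an arbitrary scheme S, a monomorphism f : T ⟶ T' of S-tori with the same rank function (at
every point of S the geometric fibres of T and T' are split tori of the same rank) is an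
isomorphism. -/
theorem result {S : Scheme.{u}} {T T' : Over S} [GrpObj T] [GrpObj T']
    (hT : Red.IsTorus T) (hT' : Red.IsTorus T') (f : T ⟶ T') [IsMonHom f] [Mono f]
    (hrk : ∀ s : ↥S, ∃ r : ℕ, Red.IsSplitTorusWith (Fin r → ℤ) (Red.geomFibre s T) ∧
      Red.IsSplitTorusWith (Fin r → ℤ) (Red.geomFibre s T')) : IsIso f := by
  obtain ⟨S₁, f₁, hflat₁, hsurj₁, hqc₁, htriv₁⟩ := hT
  obtain ⟨S₂, f₂, hflat₂, hsurj₂, hqc₂, htriv₂⟩ := hT'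
  have h₁ : Presieve.singleton f₁ ∈ Scheme.fpqcPrecoverage S :=
    Groth.Agent.H40.CD.singleton_mem_fpqcPrecoverage_of_image f₁ hsurj₁ hflat₁ hqc₁
  have h₂ : Presieve.singleton f₂ ∈ Scheme.fpqcPrecoverage S :=
    Groth.Agent.H40.CD.singleton_mem_fpqcPrecoverage_of_image f₂ hsurj₂ hflat₂ hqc₂
  let π : Limits.pullback f₁ f₂ ⟶ S := Limits.pullback.fst f₁ f₂ ≫ f₁
  have hπ : Presieve.singleton π ∈ Scheme.fpqcPrecoverage S :=
    Groth.Agent.H40.singleton_comp_mem_fpqcPrecoverage _ _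
      (Groth.Agent.H40.CD.singleton_mem_fpqcPrecoverage_of_isPullback h₂
        (IsPullback.of_hasPullback f₁ f₂)) h₁
  apply Groth.Agent.H82.LocIso.isIso_of_locally_iso π hπ f
  intro z
  obtain ⟨U₁, hz₁, r₁, hs₁⟩ := htriv₁ (Limits.pullback.fst f₁ f₂ z)
  obtain ⟨U₂, hz₂, r₂, hs₂⟩ := htriv₂ (Limits.pullback.snd f₁ f₂ z)
  obtain ⟨e₁, he₁⟩ := Groth.Agent.H82.TorusHom.exists_iso_of_grpIso hs₁
  obtain ⟨e₂, he₂⟩ := Groth.Agent.H82.TorusHom.exists_iso_of_grpIso hs₂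
  let V₀ : (Limits.pullback f₁ f₂).Opens :=
    (Limits.pullback.fst f₁ f₂) ⁻¹ᵁ U₁ ⊓ (Limits.pullback.snd f₁ f₂) ⁻¹ᵁ U₂
  have hzV₀ : z ∈ V₀ := ⟨hz₁, hz₂⟩
  let w₁ : (V₀ : Scheme.{u}) ⟶ (U₁ : Scheme.{u}) :=
    IsOpenImmersion.lift U₁.ι (V₀.ι ≫ Limits.pullback.fst f₁ f₂) (by
      rintro _ ⟨w, rfl⟩
      rw [Scheme.Opens.range_ι]
      exact w.2.1)
  let w₂ : (V₀ : Scheme.{u}) ⟶ (U₂ : Scheme.{u}) :=
    IsOpenImmersion.lift U₂.ι (V₀.ι ≫ Limits.pullback.snd f₁ f₂) (by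
      rintro _ ⟨w, rfl⟩
      rw [Scheme.Opens.range_ι]
      exact w.2.2)
  have hw₁ : w₁ ≫ U₁.ι = V₀.ι ≫ Limits.pullback.fst f₁ f₂ := IsOpenImmersion.lift_fac _ _ _
  have hw₂ : w₂ ≫ U₂.ι = V₀.ι ≫ Limits.pullback.snd f₁ f₂ := IsOpenImmersion.lift_fac _ _ _
  have hg₁ : w₁ ≫ (U₁.ι ≫ f₁) = V₀.ι ≫ π := by
    rw [← Category.assoc, hw₁, Category.assoc]
  have hg₂ : w₂ ≫ (U₂.ι ≫ f₂) = V₀.ι ≫ π := by
    rw [← Category.assoc, hw₂, Category.assoc, ← Limits.pullback.condition]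
  obtain ⟨e₁', he₁', -⟩ := Groth.Agent.H82.ChartComp.exists_chart_comp (U₁.ι ≫ f₁) w₁ T e₁
  obtain ⟨e₁'', he₁''⟩ := Groth.Agent.H82.ChartRank.chart_congr hg₁ T e₁'
  obtain ⟨e₂', he₂', -⟩ := Groth.Agent.H82.ChartComp.exists_chart_comp (U₂.ι ≫ f₂) w₂ T' e₂
  obtain ⟨e₂'', he₂''⟩ := Groth.Agent.H82.ChartRank.chart_congr hg₂ T' e₂'
  -- ranks
  obtain ⟨r, hr, hr'⟩ := hrk (π z)
  obtain ⟨eg, heg⟩ := Groth.Agent.H82.TorusHom.exists_iso_of_grpIso hr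
  obtain ⟨eg', heg'⟩ := Groth.Agent.H82.TorusHom.exists_iso_of_grpIso hr'
  have hpt : (V₀.ι ≫ π) ⟨z, hzV₀⟩ = (Red.geomPt (π z))
      (IsLocalRing.closedPoint (AlgebraicClosure (S.residueField (π z)))) := by
    rw [Scheme.Hom.comp_apply, Scheme.Hom.comp_apply]
    exact (Scheme.fromSpecResidueField_apply _ _).symm
  have hr₁ : r₁ = r := Groth.Agent.H82.ChartRank.rank_eq_of_addEquiv
    (Groth.Agent.H82.ChartRank.nonempty_addEquiv_of_charts T (V₀.ι ≫ π) (Red.geomPt (π z)) e₁'' eg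
      ⟨z, hzV₀⟩ _ hpt)
  have hr₂ : r₂ = r := Groth.Agent.H82.ChartRank.rank_eq_of_addEquiv
    (Groth.Agent.H82.ChartRank.nonempty_addEquiv_of_charts T' (V₀.ι ≫ π) (Red.geomPt (π z)) e₂'' eg'
      ⟨z, hzV₀⟩ _ hpt)
  subst hr₁
  subst hr₂
  have hfg : AddGroup.FG (Fin r₂ → ℤ) := Module.Finite.iff_addGroup_fg.mp inferInstance
  obtain ⟨V, φ, hzV, hV⟩ := Groth.Agent.H82.HomLoc.exists_local_hom (V₀.ι ≫ π) f e₁'' e₂'' hfg
    ⟨z, hzV₀⟩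
  have hsurj := Groth.Agent.H82.HomLoc.surjective_of_mono (V₀.ι ≫ π) f e₁'' e₂'' V φ hV
    ⟨z, hzV₀⟩ hzV
  have hinj : Function.Injective φ :=
    OrzechProperty.injective_of_surjective_endomorphism φ.toIntLinearMap hsurj
  have hiso := Groth.Agent.H82.HomLoc.isIso_of_bijective (V₀.ι ≫ π) f e₁'' e₂'' V φ hV ⟨hinj, hsurj⟩
  refine ⟨V, V.ι ≫ V₀.ι, inferInstance, ⟨⟨⟨z, hzV₀⟩, hzV⟩, rfl⟩, ?_⟩
  rw [Category.assoc]
  exact hiso

end Groth.Agent.S16611
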