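import Groth.Statements.S16620
import Groth.Agent.H82.GreatestSplit

set_option autoImplicit false
open CategoryTheory MonoidalCategory CartesianMonoidalCategory MonObj GrpObj AlgebraicGeometry
universe u
open SGA3x

namespace Groth.Agent.S16620

/-- Let S be a connected, normal, locally Noetherian scheme, T an S-torus and T₀ ⟶ T its unique maximal
split subtorus, i.e. a split subtorus through which every split subtorus of T factors. Then every
cocharacter λ : 𝔾_m ⟶ T over S factors through T₀; this is the equality X_*(T₀)(S) = X_*(T)(S) of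
groups of cocharacters defined over S. -/
theorem result {S : Scheme.{u}} [ConnectedSpace ↥S]
    [IsLocallyNoetherian S] (hnorm : ∀ x : ↥S, IsDomain (S.presheaf.stalk x) ∧ IsIntegrallyClosed (S.presheaf.stalk x))
    {T T₀ : Over S} [GrpObj T] [GrpObj T₀] (hT : Red.IsTorus T) (j₀ : T₀ ⟶ T) [IsMonHom j₀] [Mono j₀] (r₀ : ℕ)
    (hT₀ : Red.IsSplitTorusWith (Fin r₀ → ℤ) T₀)
    (hmax : ∀ (T' : Over S) [GrpObj T'] (j' : T' ⟶ T) [IsMonHom j'] [Mono j'] (r' : ℕ),
      Red.IsSplitTorusWith (Fin r' → ℤ) T' → ∃ g : T' ⟶ T₀, g ≫ j₀ = j')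
    (lam : Red.Gm S ⟶ T) [IsMonHom lam] : ∃ mu : Red.Gm S ⟶ T₀, mu ≫ j₀ = lam := by
  have hG : SGA3x.IsMultTypeFT T := by
    obtain ⟨S', f, hflat, hsurj, hcov, hloc⟩ := hT
    refine ⟨S', f, hflat, hsurj, hcov, fun s' => ?_⟩
    obtain ⟨U, hs', r, hr⟩ := hloc s'
    exact ⟨U, hs', Fin r → ℤ, inferInstance, (Module.Finite.iff_addGroup_fg).mp inferInstance, hr⟩
  obtain ⟨r, j, g₁, g₂, hjm, hjmono, hg₁, -⟩ :=
    Groth.Agent.H82.GreatestSplit.exists_sum hG (N₁ := ℤ) (N₂ := ℤ) lam lam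
  obtain ⟨g, hg⟩ := hmax (Magnet.AMonS S (Fin r → ℤ)) j r ⟨Iso.refl _⟩
  exact ⟨g₁ ≫ g, by rw [Category.assoc, hg, hg₁]⟩

end Groth.Agent.S16620
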