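import Groth.Statements.S1664
import Groth.Agent.H18.STL.AmpleFamily

set_option autoImplicit false
universe u
open CategoryTheory CategoryTheory.Limits AlgebraicGeometry
open Variety

namespace Groth.Agent.S1664

/-- Let X be quasi-compact. Suppose every point of X lies in the locus where some global section s of
some globally generated invertible module L generates L, with that locus affine. Then X has an ample
invertible module. -/
theorem result (X : Scheme.{u}) [CompactSpace X]
    (h : ∀ x : X, ∃ (L : X.Modules) (s : Coh.structureModule X ⟶ L), PicF.IsInvertible L ∧ Curv2.IsGloballyGenerated L ∧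
      x ∈ CohB1.genLocus L s ∧ IsAffineOpen (CohB1.genLocus L s)) :
    ∃ M : X.Modules, CohB1.IsAmple M := by
  refine Groth.Agent.H18.STL.exists_isAmple_of_family (fun x => ?_)
  obtain ⟨L, s, hinv, hgg, hx, haff⟩ := h x
  exact ⟨L, s, hinv,
    fun x' => Groth.Agent.H18.STL.exists_mem_genLocus_of_isGloballyGenerated hinv hgg x', hx, haff⟩

end Groth.Agent.S1664
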