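import Groth.Statements.S16644
import Mathlib.LinearAlgebra.Matrix.Determinant.Basic
import Mathlib.RingTheory.Ideal.Quotient.Basic
import Mathlib.RingTheory.Ideal.Span
import Mathlib.Algebra.MvPolynomial.CommRing
import Mathlib.RingTheory.MvPolynomial.Basic

set_option autoImplicit false
open QuadZ

namespace Groth.Agent.S16644

/-- For odd n, the discriminant of the universal quadratic form Σ_{i ≤ j} A_{ij} x_i x_j in n variables
(variables A_{ij} indexed by unordered pairs), i.e. the determinant of the symmetric matrix with
diagonal entries 2 A_{ii} and off-diagonal entries A_{ij}, is divisible by 2 in the integral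
polynomial ring ℤ[A_{ij}] (so the half-discriminant is an integral polynomial). -/
theorem result (n : ℕ) (hn : Odd n) :
    (2 : MvPolynomial (Sym2 (Fin n)) ℤ) ∣
      (Matrix.of fun i j : Fin n =>
        if i = j then 2 * MvPolynomial.X (R := ℤ) (σ := Sym2 (Fin n)) (Sym2.mk i j)
        else MvPolynomial.X (R := ℤ) (σ := Sym2 (Fin n)) (Sym2.mk i j)).det := by
  classical
  set R := MvPolynomial (Sym2 (Fin n)) ℤ with hR
  set M : Matrix (Fin n) (Fin n) R := Matrix.of fun i j : Fin n =>
        if i = j then 2 * MvPolynomial.X (R := ℤ) (σ := Sym2 (Fin n)) (Sym2.mk i j)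
        else MvPolynomial.X (R := ℤ) (σ := Sym2 (Fin n)) (Sym2.mk i j) with hM
  -- the generic skew-symmetric matrix
  let N : Matrix (Fin n) (Fin n) R := Matrix.of fun i j : Fin n =>
        if i < j then MvPolynomial.X (R := ℤ) (σ := Sym2 (Fin n)) (Sym2.mk i j)
        else if j < i then - MvPolynomial.X (R := ℤ) (σ := Sym2 (Fin n)) (Sym2.mk i j) else 0
  have hNt : N.transpose = -N := by
    refine Matrix.ext fun i j => ?_
    simp only [N, Matrix.transpose_apply, Matrix.of_apply, Matrix.neg_apply]
    rcases lt_trichotomy i j with h | h | h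
    · have h' : ¬ j < i := not_lt.mpr h.le
      simp [h, h', Sym2.eq_swap]
    · subst h; simp
    · have h' : ¬ i < j := not_lt.mpr h.le
      simp only [h, h', if_true, if_false, Sym2.eq_swap]
      exact (neg_neg _).symm
  have hdetN : N.det = 0 := by
    have h1 : N.det = (-N).det := by rw [← hNt, Matrix.det_transpose]
    rw [Matrix.det_neg, Fintype.card_fin, hn.neg_one_pow, neg_one_mul] at h1
    have h2 : (2 : R) * N.det = 0 := by
      rw [two_mul]; nth_rewrite 1 [h1]; simp
    rcases mul_eq_zero.mp h2 with h | h
    · exfalso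
      have : (2 : R) = MvPolynomial.C (2 : ℤ) := by simp
      rw [this, MvPolynomial.C_eq_zero] at h
      norm_num at h
    · exact h
  -- compare modulo 2
  let f : R →+* R ⧸ Ideal.span ({2} : Set R) := Ideal.Quotient.mk _
  have hMN : f.mapMatrix M = f.mapMatrix N := by
    refine Matrix.ext fun i j => ?_
    simp only [RingHom.mapMatrix_apply, Matrix.map_apply]
    rw [← sub_eq_zero, ← map_sub]
    apply Ideal.Quotient.eq_zero_iff_mem.mpr
    rw [Ideal.mem_span_singleton]
    simp only [M, N, Matrix.of_apply]
    rcases lt_trichotomy i j with h | h | h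
    · have h' : ¬ j < i := not_lt.mpr h.le
      simp [h, h.ne]
    · subst h; simp
    · have h' : ¬ i < j := not_lt.mpr h.le
      have h'' : i ≠ j := h.ne'
      simp only [h, h', h'', if_false, if_true, sub_neg_eq_add]
      exact ⟨_, (two_mul _).symm⟩
  have hdet : f M.det = 0 := by
    rw [RingHom.map_det, hMN, ← RingHom.map_det, hdetN, map_zero]
  have := Ideal.Quotient.eq_zero_iff_mem.mp hdet
  exact Ideal.mem_span_singleton.mp this

end Groth.Agent.S16644
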