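import Groth.Statements.S16647
import Groth.Agent.H15.GrpExtDescent

set_option autoImplicit false
open CategoryTheory MonoidalCategory CartesianMonoidalCategory MonObj GrpObj AlgebraicGeometry
universe u
open GrpSch

namespace Groth.Agent.S16647

/-- In a commutative diagram of short exact sequences of S-group schemes that are flat, separated and of
finite presentation over a scheme S (in each row the first homomorphism is the kernel of the second
and the second is a flat surjection), if the two outer vertical homomorphisms are closed immersions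
then so is the middle one. -/
theorem result {S : Scheme.{u}}
    {H₁' H₁ H₁'' H₂' H₂ H₂'' : Over S} [GrpObj H₁'] [GrpObj H₁] [GrpObj H₁''] [GrpObj H₂'] [GrpObj H₂] [GrpObj H₂'']
    [Flat H₁'.hom] [Flat H₁.hom] [Flat H₁''.hom] [Flat H₂'.hom] [Flat H₂.hom] [Flat H₂''.hom]
    [IsSeparated H₁'.hom] [IsSeparated H₁.hom] [IsSeparated H₁''.hom]
    [IsSeparated H₂'.hom] [IsSeparated H₂.hom] [IsSeparated H₂''.hom]
    [QuasiCompact H₁'.hom] [QuasiCompact H₁.hom] [QuasiCompact H₁''.hom]
    [QuasiCompact H₂'.hom] [QuasiCompact H₂.hom] [QuasiCompact H₂''.hom]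
    [LocallyOfFinitePresentation H₁'.hom] [LocallyOfFinitePresentation H₁.hom] [LocallyOfFinitePresentation H₁''.hom]
    [LocallyOfFinitePresentation H₂'.hom] [LocallyOfFinitePresentation H₂.hom] [LocallyOfFinitePresentation H₂''.hom]
    (a₁ : H₁' ⟶ H₁) (b₁ : H₁ ⟶ H₁'') (a₂ : H₂' ⟶ H₂) (b₂ : H₂ ⟶ H₂'')
    [IsMonHom a₁] [IsMonHom b₁] [IsMonHom a₂] [IsMonHom b₂]
    (h₁ : AlgGrp.IsKernel a₁ b₁) (hb₁ : Flat b₁.left ∧ Surjective b₁.left)
    (h₂ : AlgGrp.IsKernel a₂ b₂) (hb₂ : Flat b₂.left ∧ Surjective b₂.left)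
    (j' : H₁' ⟶ H₂') (j : H₁ ⟶ H₂) (j'' : H₁'' ⟶ H₂'') [IsMonHom j'] [IsMonHom j] [IsMonHom j'']
    (sq₁ : a₁ ≫ j = j' ≫ a₂) (sq₂ : b₁ ≫ j'' = j ≫ b₂)
    (hj' : IsClosedImmersion j'.left) (hj'' : IsClosedImmersion j''.left) :
    IsClosedImmersion j.left := by
  have : Flat b₁.left := hb₁.1
  have : Surjective b₁.left := hb₁.2
  have hqc : QuasiCompact b₁.left := by
    have : QuasiCompact (b₁.left ≫ H₁''.hom) := by
      rw [Over.w b₁]
      infer_instance
    exact QuasiCompact.of_comp b₁.left H₁''.hom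
  -- the unit section of `H₂''` is a closed immersion
  have hη : IsClosedImmersion η[H₂''].left := by
    have h : η[H₂''].left ≫ H₂''.hom = 𝟙 S := Over.w η[H₂'']
    have : IsClosedImmersion (η[H₂''].left ≫ H₂''.hom) := by
      rw [h]
      exact inferInstanceAs (IsClosedImmersion (𝟙 S))
    exact IsClosedImmersion.of_comp η[H₂''].left H₂''.hom
  -- hence so is the kernel of `b₂`
  have ha₂ : IsClosedImmersion a₂.left := by
    have sq := h₂.map (Over.forget S)
    simp only [Over.forget_obj, Over.forget_map] at sq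
    exact MorphismProperty.of_isPullback (P := @IsClosedImmersion) sq.flip hη
  have := hj'
  have hk : IsClosedImmersion (a₁ ≫ j).left := by
    rw [sq₁, Over.comp_left]
    infer_instance
  have h1 : IsClosedImmersion (lift j b₁).left :=
    Groth.Agent.H15.GrpExtDescent.prop_pair_of_prop_kernel @IsClosedImmersion
      Groth.Agent.H1.isClosedImmersion_descendsAlong_fpqc b₁ a₁ h₁ j hk
  -- compose with `H₂ ◁ j''`
  have h2 : IsClosedImmersion (H₂ ◁ j'').left := by
    have sq : IsPullback (H₂ ◁ j'').left (snd H₂ H₁'').left (snd H₂ H₂'').left j''.left := by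
      have := (Groth.Agent.H40.isPullback_whiskerLeft_snd j'' H₂).map (Over.forget S)
      simpa using this
    exact MorphismProperty.of_isPullback (P := @IsClosedImmersion) sq.flip hj''
  have h3 : lift j b₁ ≫ (H₂ ◁ j'') = j ≫ lift (𝟙 H₂) b₂ := by
    apply CartesianMonoidalCategory.hom_ext
    · rw [Category.assoc, whiskerLeft_fst, lift_fst, Category.assoc, lift_fst, Category.comp_id]
    · rw [Category.assoc, whiskerLeft_snd, lift_snd_assoc, Category.assoc, lift_snd, sq₂]
  have h4 : IsClosedImmersion (j.left ≫ (lift (𝟙 H₂) b₂).left) := by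
    rw [← Over.comp_left, ← h3, Over.comp_left]
    infer_instance
  have : Mono (lift (𝟙 H₂) b₂).left := by
    have h : (lift (𝟙 H₂) b₂).left ≫ (fst H₂ H₂'').left = 𝟙 _ := by
      rw [← Over.comp_left, lift_fst]
      rfl
    exact mono_of_mono_fac h
  exact IsClosedImmersion.of_comp j.left (lift (𝟙 H₂) b₂).left

end Groth.Agent.S16647
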