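import Groth.Statements.S1665
import Groth.Agent.H9.KrullAkizuki
import Mathlib.RingTheory.IntegralClosure.IntegrallyClosed
import Mathlib.RingTheory.KrullDimension.Field
import Mathlib.RingTheory.DedekindDomain.IntegralClosure

set_option autoImplicit false
universe u
open Variety

namespace Groth.Agent.S1665

/-- Let B be a Noetherian domain of dimension one with finitely many maximal ideals and B' its integral
closure in its fraction field. Then B' is a Dedekind domain with finitely many maximal ideals, and
for every nonzero x in the Jacobson radical of B' and every y ∈ B' some power x^n satisfies x^n y ∈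
B. -/
theorem result (B : Type u) [CommRing B] [IsDomain B] [IsNoetherianRing B]
    (hdim : ringKrullDim B = 1) (hsl : Finite (MaximalSpectrum B)) :
    IsDedekindDomain (integralClosure B (FractionRing B)) ∧ Finite (MaximalSpectrum (integralClosure B (FractionRing B))) ∧
      ∀ x : integralClosure B (FractionRing B), x ≠ 0 → x ∈ (⊥ : Ideal (integralClosure B (FractionRing B))).jacobson →
        ∀ y : integralClosure B (FractionRing B), ∃ n : ℕ, (x ^ n * y).1 ∈ (algebraMap B (FractionRing B)).range := by
  have : Ring.KrullDimLE 1 B := Ring.krullDimLE_iff.2 hdim.le
  have hB : ∀ m : MaximalSpectrum B, m.asIdeal ≠ ⊥ := by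
    intro m hm
    have hmax : (⊥ : Ideal B).IsMaximal := hm ▸ m.isMaximal
    have hfield : IsField B := Ring.isField_iff_maximal_bot.2 hmax
    have h0 := ringKrullDim_eq_zero_of_isField hfield
    rw [hdim] at h0
    exact one_ne_zero h0
  have hNoeth : IsNoetherianRing (integralClosure B (FractionRing B)) :=
    Groth.Agent.H9.KA.isNoetherianRing (integralClosure B (FractionRing B))
  have := Groth.Agent.H9.KA.dimensionLEOne (B := B)
  have hIC : IsIntegrallyClosed (integralClosure B (FractionRing B)) :=
    integralClosure.isIntegrallyClosedOfFiniteExtension (FractionRing B)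
  refine ⟨?_, ?_, ?_⟩
  · exact { toIsDomain := inferInstance
            toIsNoetherian := hNoeth
            toDimensionLEOne := inferInstance
            toIsIntegralClosure := hIC }
  · exact Groth.Agent.H9.KA.finite_maximalSpectrum (integralClosure B (FractionRing B)) hB
  · intro x _ hx y
    exact Groth.Agent.H9.KA.exists_pow_mul_mem (integralClosure B (FractionRing B)) x y hx

end Groth.Agent.S1665
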