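import Groth.Statements.S16663
import Groth.Agent.H83.ConnSuper

set_option autoImplicit false
universe v u
open TensorProduct
open Conn

namespace Groth.Agent.S16663

/-- Let B be an A-algebra with a receptacle of differentials (Ω, δ), Ω a finite free B-module (the local
form of a weakly smooth scheme), and let M be a finitely ℤ-graded B-module presented as a finite
family of finite free B-modules M_i with integer degrees deg i (the local form of a graded vector
bundle), with total module Π_i M_i. Let ∇ be a connection on Π_i M_i preserving the grading, in the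
sense that (pr_j ⊗ 1)(∇(ι_i m)) = 0 for m ∈ M_i whenever deg i ≠ deg j, and let ∇_E be the induced
connection on the B-linear endomorphisms, the one with (ev_m ⊗ 1)(∇_E φ) = ∇(φ m) − (φ ⊗ 1)(∇ m).
Give B the connection b ↦ 1 ⊗ δ b. Then the supertrace, φ ↦ tr(ε ∘ φ) with ε = Σ_i (−1)^{deg i} ι_i
∘ pr_i the grading involution, is a horizontal map End_B(Π_i M_i) → B. -/
theorem result {A : Type v} {B Ω ι : Type u}
    [CommRing A] [CommRing B] [Algebra A B]
    [AddCommGroup Ω] [Module B Ω] [Module A Ω] [IsScalarTower A B Ω] [Module.Finite B Ω] [Module.Free B Ω]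
    [Fintype ι] [DecidableEq ι] (deg : ι → ℤ) (M : ι → Type u)
    [∀ i, AddCommGroup (M i)] [∀ i, Module B (M i)] [∀ i, Module A (M i)] [∀ i, IsScalarTower A B (M i)]
    [∀ i, Module.Free B (M i)] [∀ i, Module.Finite B (M i)]
    (δ : Derivation A B Ω) (nabla : (Π k, M k) →ₗ[A] (Π k, M k) ⊗[B] Ω) (hc : Conn.IsConn δ nabla)
    (hgr : ∀ i j : ι, deg i ≠ deg j → ∀ m : M i,
      TensorProduct.map (LinearMap.proj j : (Π k, M k) →ₗ[B] M j) LinearMap.id (nabla (LinearMap.single B M i m)) = 0)
    (nablaE : ((Π k, M k) →ₗ[B] (Π k, M k)) →ₗ[A] ((Π k, M k) →ₗ[B] (Π k, M k)) ⊗[B] Ω)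
    (hE : Conn.IsHomConn nabla nabla nablaE) :
    Conn.IsHorizontal nablaE (Conn.triv δ)
      (LinearMap.trace B (Π k, M k) ∘ₗ LinearMap.llcomp B (Π k, M k) (Π k, M k) (Π k, M k)
        (∑ i : ι, (LinearMap.single B M i) ∘ₗ (((-1 : B) ^ (deg i).natAbs) • (LinearMap.proj i : (Π k, M k) →ₗ[B] M i)))) := by
  intro φ
  set s : ι → B := fun i => (-1 : B) ^ (deg i).natAbs with hs
  have hs' : ∀ i j, deg i = deg j → s i = s j := by
    intro i j h
    simp only [hs, h]
  have hδ : ∀ i, δ (s i) = 0 := by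
    intro i
    have : s i = algebraMap A B ((-1 : A) ^ (deg i).natAbs) := by
      simp [hs]
    rw [this, Derivation.map_algebraMap]
  have hε := Groth.Agent.H83.gradInv_horizontal M deg s hs' δ hδ nabla hc hgr
  have h1 := Groth.Agent.H83.nablaE_comp_of_horizontal nabla nablaE hE _ hε φ
  have h2 := Groth.Agent.H83.isHorizontal_trace δ nabla hc nablaE hE (Groth.Agent.H83.gradInv M s ∘ₗ φ)
  have h3 : ∀ z : ((Π k, M k) →ₗ[B] (Π k, M k)) ⊗[B] Ω,
      TensorProduct.map (LinearMap.trace B (Π k, M k)) (LinearMap.id : Ω →ₗ[B] Ω)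
        (TensorProduct.map (LinearMap.llcomp B (Π k, M k) (Π k, M k) (Π k, M k)
          (Groth.Agent.H83.gradInv M s)) (LinearMap.id : Ω →ₗ[B] Ω) z) =
      TensorProduct.map (LinearMap.trace B (Π k, M k) ∘ₗ
        LinearMap.llcomp B (Π k, M k) (Π k, M k) (Π k, M k) (Groth.Agent.H83.gradInv M s))
        (LinearMap.id : Ω →ₗ[B] Ω) z := by
    intro z
    induction z using TensorProduct.induction_on with
    | zero => simp
    | tmul ψ ω => simp
    | add x y hx hy => simp only [map_add, hx, hy]
  rw [h1, h3] at h2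
  exact h2

end Groth.Agent.S16663
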