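import Groth.Statements.S16667
import Groth.Agent.H83.DepthOne
import Mathlib.RingTheory.Ideal.AssociatedPrime.Basic

set_option autoImplicit false
universe u
open CAlg

namespace Groth.Agent.S16667

/-- Let A be a Noetherian integral domain satisfying Serre's condition (S_2), with fraction field K. An
element of K which lies in the localization A_p for every prime p of A with depth(A_p) = 1 lies in
A. -/
theorem result {A : Type u} [CommRing A] [IsDomain A]
    [IsNoetherianRing A] (hS2 : LocCoh.HasSk 2 A A) (x : FractionRing A)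
    (hx : ∀ (p : Ideal A) [p.IsPrime],
      LocCoh.depth (Localization.AtPrime p) (Localization.AtPrime p) = 1 →
        x ∈ Set.range (algebraMap (Localization.AtPrime p) (FractionRing A))) :
    x ∈ Set.range (algebraMap A (FractionRing A)) := by
  classical
  by_contra hxA
  let N : Submodule A (FractionRing A) := LinearMap.range (Algebra.linearMap A (FractionRing A))
  have hN : ∀ z : FractionRing A, z ∈ N ↔ ∃ a : A, algebraMap A (FractionRing A) a = z := by
    intro z
    simp [N]
  have hxN : x ∉ N := by
    rw [hN]
    exact hxA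
  have hx0 : N.mkQ x ≠ 0 := by
    rwa [Ne, Submodule.mkQ_apply, Submodule.Quotient.mk_eq_zero]
  obtain ⟨P, hP, hle⟩ := exists_le_isAssociatedPrime_of_isNoetherianRing A (N.mkQ x) hx0
  rw [isAssociatedPrime_iff] at hP
  obtain ⟨hPprime, ybar, hPy⟩ := hP
  obtain ⟨y, rfl⟩ := N.mkQ_surjective ybar
  have hmemP : ∀ s : A, s ∈ P ↔ s • y ∈ N := by
    intro s
    rw [hPy, Submodule.mem_colon_singleton, Submodule.mem_bot, ← map_smul, Submodule.mkQ_apply,
      Submodule.Quotient.mk_eq_zero]
  have hdepth := Groth.Agent.H83.depth_eq_one_of_colon P y (fun s => by rw [hmemP, hN])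
  obtain ⟨z, hz⟩ := hx P hdepth
  obtain ⟨c, s, rfl⟩ := IsLocalization.exists_mk'_eq P.primeCompl z
  apply s.2
  apply hle
  rw [Submodule.mem_colon_singleton, Submodule.mem_bot, ← map_smul, Submodule.mkQ_apply,
    Submodule.Quotient.mk_eq_zero, hN]
  refine ⟨c, ?_⟩
  rw [← hz, Algebra.smul_def,
    IsScalarTower.algebraMap_apply A (Localization.AtPrime P) (FractionRing A) c,
    IsScalarTower.algebraMap_apply A (Localization.AtPrime P) (FractionRing A) (s : A),
    ← map_mul, IsLocalization.mk'_spec']

end Groth.Agent.S16667
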