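import Groth.Statements.S16674
import Groth.Agent.H78.HopfExt.TraceDual

set_option autoImplicit false
universe u
open CartDual

namespace Groth.Agent.S16674

/-- Let k be a field of characteristic p > 0 and A a finite-dimensional commutative and cocommutative
Hopf algebra over k, the coordinate ring of a finite commutative k-group scheme G, with Cartier dual
the convolution Hopf algebra Hom_k(A, k). Then G is étale-étale, i.e. both A and its dual are étale
k-algebras, if and only if p does not divide the rank dim_k A of G. -/
theorem result (k : Type u) [Field k] (p : ℕ) [Fact p.Prime] [CharP k p]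
    (A : Type u) [CommRing A] [HopfAlgebra k A] [Coalgebra.IsCocomm k A] [FiniteDimensional k A] :
    (Algebra.Etale k A ∧ Algebra.Etale k (CartDual.D k A)) ↔ ¬ p ∣ Module.finrank k A := by
  haveI : Module.Free k A := Module.Free.of_divisionRing k A
  haveI : Module.Free k (CartDual.D k A) := Module.Free.of_divisionRing k _
  have hdim : Module.finrank k (CartDual.D k A) = Module.finrank k A := by
    rw [(CartDual.toDual k A).finrank_eq]; exact Subspace.dual_finrank_eq
  constructor
  · rintro ⟨hA, hD⟩ hdvd
    have h0 : (Module.finrank k A : k) = 0 := (CharP.cast_eq_zero_iff k p _).mpr hdvd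
    have hsq := Groth.Agent.H78.HopfExt.TraceDual.trace_conv_trace (K := k) (A := A)
    rw [h0, zero_smul] at hsq
    haveI : IsReduced (CartDual.D k A) := Algebra.FormallyUnramified.isReduced_of_field k _
    have hz : (WithConv.toConv (Algebra.trace k A) : CartDual.D k A) = 0 := by
      have : IsNilpotent (WithConv.toConv (Algebra.trace k A) : CartDual.D k A) :=
        ⟨2, by rw [pow_two]; exact hsq⟩
      exact this.eq_zero
    have htr : Algebra.trace k A = 0 := by simpa using congrArg WithConv.ofConv hz
    have hbij := (Groth.Agent.H14.etale_iff_traceForm_bijective k A).mp hA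
    have h2 : Algebra.traceForm k A = 0 := by
      ext a b; simp [Algebra.traceForm_apply, htr]
    have h1 : (1 : A) = 0 := hbij.1 (by rw [h2]; simp)
    have h3 := congrArg (Coalgebra.counit (R := k)) h1
    simp at h3
  · intro hnd
    have h0 : (Module.finrank k A : k) ≠ 0 := fun h => hnd ((CharP.cast_eq_zero_iff k p _).mp h)
    refine ⟨(Groth.Agent.H14.etale_iff_traceForm_bijective k A).mpr
      (Groth.Agent.H78.HopfExt.TraceEtale.traceForm_bijective h0),
      (Groth.Agent.H14.etale_iff_traceForm_bijective k (CartDual.D k A)).mpr
      (Groth.Agent.H78.HopfExt.TraceEtale.traceForm_bijective (by rw [hdim]; exact h0))⟩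

end Groth.Agent.S16674
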