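import Groth.Statements.S16699
import Groth.Agent.H64.Psh.RepSch
import Groth.Agent.H64.Psh.AlgStackRep

set_option autoImplicit false
universe u
open AlgSt AlgSt.IsWellNighAffine

namespace Groth.Agent.S16699

open CategoryTheory AlgebraicGeometry in
/-- An algebraic stack affine over a well-nigh affine algebraic stack is well-nigh affine. -/
theorem result (S : Scheme.{u}) (𝒳 𝒳' : AlgSt.Cat S)
    (h𝒳 : AlgSt.IsAlgStack Scheme.fppfPrecoverage 𝒳) (h𝒳' : AlgSt.IsAlgStack Scheme.fppfPrecoverage 𝒳')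
    (hw : AlgSt.IsWellNighAffine 𝒳) (f : 𝒳' ⥤ᵇ 𝒳) (hf : AlgSt.RepByAlgSpWith AlgSp.IsAffineMor f) :
    AlgSt.IsWellNighAffine 𝒳' := by
  obtain ⟨U, x, hU, hx⟩ := hw
  obtain ⟨F, e, he, hAff⟩ := hf U x
  obtain ⟨W, i, fst, sq, hW⟩ := hAff hU (𝟙 _)
  have : IsIso fst := sq.isIso_fst_of_isIso
  have h1 : FibCat.IsEquivOver (AlgSt.ofSpMap fst) :=
    Groth.Agent.H64.PTh.isEquivOver_ofSpMap_of_isIso fst
  have hE : FibCat.IsEquivOver
      (BasedFunctor.comp (AlgSt.ofOverCat W) (BasedFunctor.comp (AlgSt.ofSpMap fst) e)) :=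
    Groth.Agent.H64.isEquivOver_comp (Groth.Agent.H64.FpRep.isEquivOver_ofOverCat W)
      (Groth.Agent.H64.isEquivOver_comp h1 he)
  refine ⟨W, BasedFunctor.comp (BasedFunctor.comp (AlgSt.ofOverCat W)
    (BasedFunctor.comp (AlgSt.ofSpMap fst) e)) (FibCat.fpSnd x f), hW, ?_⟩
  have h2 := Groth.Agent.H64.PTh.repByAlgSpWith_fpSnd _ x f hx
  exact Groth.Agent.H64.repByAlgSpWith_of_square _ (FibCat.fpSnd x f) _
    (BasedFunctor.comp (AlgSt.ofOverCat W) (BasedFunctor.comp (AlgSt.ofSpMap fst) e))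
    (BasedFunctor.id _) hE (Groth.Agent.H64.isEquivOver_id _) (Iso.refl _) h2

end Groth.Agent.S16699
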