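import Groth.Statements.S16707
import Mathlib.RingTheory.Flat.EquationalCriterion
import Mathlib.LinearAlgebra.TensorProduct.Quotient
import Mathlib.RingTheory.Ideal.Operations

set_option autoImplicit false
universe u v
open CAlg

namespace Groth.Agent.S16707

open TensorProduct in
/-- Let A be a commutative ring, I a nilpotent ideal of A and f : M → N a homomorphism of A-modules with
N flat over A (no finiteness assumption on M or N). If the base change of f to A/I, that is M/IM →
N/IN, is bijective, then f is bijective. -/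
theorem result (A : Type u) [CommRing A] (I : Ideal A)
    (hI : IsNilpotent I) (M N : Type v) [AddCommGroup M] [Module A M] [AddCommGroup N] [Module A N]
    [Module.Flat A N] (f : M →ₗ[A] N)
    (hf : Function.Bijective (f.baseChange (A ⧸ I))) :
    Function.Bijective f := by
  classical
  obtain ⟨n, hn⟩ := hI
  -- key: `1 ⊗ x = 0` iff `x ∈ I • ⊤`
  have key : ∀ {P : Type v} [AddCommGroup P] [Module A P] (x : P),
      ((1 : A ⧸ I) ⊗ₜ[A] x = 0) ↔ x ∈ I • (⊤ : Submodule A P) := by
    intro P _ _ x
    rw [← (TensorProduct.quotTensorEquivQuotSMul P I).map_eq_zero_iff,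
      TensorProduct.quotTensorEquivQuotSMul_mk_one_tmul, Submodule.Quotient.mk_eq_zero]
  -- nilpotent Nakayama
  have nak : ∀ {P : Type v} [AddCommGroup P] [Module A P] (K L : Submodule A P),
      K ≤ L ⊔ I • K → K ≤ L := by
    intro P _ _ K L h
    have hk : ∀ k : ℕ, K ≤ L ⊔ I ^ k • K := by
      intro k
      induction k with
      | zero => simp
      | succ k ih =>
        calc K ≤ L ⊔ I • K := h
          _ ≤ L ⊔ I • (L ⊔ I ^ k • K) := sup_le_sup_left (Submodule.smul_mono le_rfl ih) _
          _ ≤ L ⊔ I ^ (k + 1) • K := by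
            rw [Submodule.smul_sup, ← sup_assoc, ← Submodule.mul_smul, ← pow_succ']
            exact sup_le_sup_right (sup_le le_rfl Submodule.smul_le_right) _
    have := hk n
    rwa [hn, Submodule.zero_eq_bot, Submodule.bot_smul, sup_bot_eq] at this
  -- surjectivity
  have hsurj : Function.Surjective f := by
    rw [← LinearMap.range_eq_top, eq_top_iff]
    apply nak
    intro y _
    obtain ⟨t, ht⟩ := hf.2 ((1 : A ⧸ I) ⊗ₜ[A] y)
    -- every element of the base change is of the form `1 ⊗ m`
    have hform : ∀ t : (A ⧸ I) ⊗[A] M, ∃ m : M, t = (1 : A ⧸ I) ⊗ₜ[A] m := by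
      intro t
      induction t using TensorProduct.induction_on with
      | zero => exact ⟨0, by simp⟩
      | tmul a m =>
        obtain ⟨a, rfl⟩ := Ideal.Quotient.mk_surjective a
        refine ⟨a • m, ?_⟩
        rw [TensorProduct.tmul_smul, TensorProduct.smul_tmul']
        congr 1
        rw [Algebra.smul_def, mul_one]; rfl
      | add x y hx hy =>
        obtain ⟨m₁, rfl⟩ := hx
        obtain ⟨m₂, rfl⟩ := hy
        exact ⟨m₁ + m₂, by rw [TensorProduct.tmul_add]⟩
    obtain ⟨m, rfl⟩ := hform t
    rw [LinearMap.baseChange_tmul] at ht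
    have h0 : (1 : A ⧸ I) ⊗ₜ[A] (y - f m) = 0 := by
      rw [TensorProduct.tmul_sub, ht, sub_self]
    have h1 := (key (y - f m)).mp h0
    have : y = f m + (y - f m) := by abel
    rw [this]
    exact Submodule.add_mem_sup (LinearMap.mem_range_self f m) h1
  refine ⟨?_, hsurj⟩
  -- injectivity
  rw [← LinearMap.ker_eq_bot, eq_bot_iff]
  apply (nak (LinearMap.ker f) ⊥)
  rw [bot_sup_eq]
  intro x hx
  rw [LinearMap.mem_ker] at hx
  have h0 : (1 : A ⧸ I) ⊗ₜ[A] x = 0 := by
    apply hf.1
    rw [LinearMap.baseChange_tmul, hx, TensorProduct.tmul_zero, map_zero]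
  have h1 := (key x).mp h0
  have h2 : x ∈ I • Submodule.span A (Set.range (id : M → M)) := by
    rwa [Set.range_id, Submodule.span_univ]
  rw [Submodule.mem_ideal_smul_span_iff_exists_sum] at h2
  obtain ⟨a, haI, hax⟩ := h2
  simp only [id] at hax
  -- the relation in `N`
  have hrel : ∑ i : a.support, a i • f (i : M) = 0 := by
    rw [← hx, ← hax, Finsupp.sum, map_sum, ← Finset.sum_coe_sort a.support]
    simp
  obtain ⟨k, b, y, hy, hb⟩ := Module.Flat.isTrivialRelation_of_sum_smul_eq_zero hrel
  choose z hz using fun j => hsurj (y j)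
  have hker : ∀ i : a.support, (i : M) - ∑ j, b i j • z j ∈ LinearMap.ker f := by
    intro i
    have hy' : f (i : M) = ∑ j, b i j • y j := hy i
    rw [LinearMap.mem_ker, map_sub, map_sum, hy']
    simp [hz]
  have hx' : x = ∑ i : a.support, a i • ((i : M) - ∑ j, b i j • z j) := by
    rw [← hax, Finsupp.sum, ← Finset.sum_coe_sort a.support]
    simp only [smul_sub, Finset.sum_sub_distrib]
    have : ∑ i : a.support, a i • ∑ j, b i j • z j = 0 := by
      simp only [Finset.smul_sum, smul_smul]
      rw [Finset.sum_comm]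
      refine Finset.sum_eq_zero fun j _ => ?_
      have hb' : ∑ i : a.support, a i * b i j = 0 := hb j
      rw [← Finset.sum_smul, hb', zero_smul]
    rw [this, sub_zero]
  rw [hx']
  exact Submodule.sum_mem _ fun i _ => Submodule.smul_mem_smul (haI _) (hker i)

end Groth.Agent.S16707
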