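import Groth.Statements.S16717
import Groth.Agent.H83.LinRed

set_option autoImplicit false
universe u v
open HopfRep

namespace Groth.Agent.S16717

open TensorProduct in
/-- Equivalence of the exactness of invariants with complete reducibility of finite-dimensional
representations. Let k be a field and A a finitely generated commutative Hopf algebra over k (the
coordinate ring of an affine algebraic group G). Then every finite-dimensional A-comodule is
semisimple if and only if taking fixed vectors is exact, i.e. for every surjective comodule map φ :
V → W between A-comodules (of any dimension; φ k-linear with (φ ⊗ id) ∘ ρ_V = ρ_W ∘ φ) every fixed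
vector of W is the image of a fixed vector of V. -/
theorem result (k : Type u) [Field k] (A : Type v)
    [CommRing A] [HopfAlgebra k A] (hA : Algebra.FiniteType k A) :
    HopfRep.IsLinearlyReductive k A ↔
      ∀ (V W : Type v) [AddCommGroup V] [Module k V] [HopfRep.Comod k A V]
        [AddCommGroup W] [Module k W] [HopfRep.Comod k A W] (φ : V →ₗ[k] W),
        LinearMap.rTensor A φ ∘ₗ HopfRep.Comod.coact (k := k) (A := A) (V := V) =
            HopfRep.Comod.coact (k := k) (A := A) (V := W) ∘ₗ φ →
          Function.Surjective φ →
            ∀ w ∈ HopfRep.fixedPts k A W, ∃ v ∈ HopfRep.fixedPts k A V, φ v = w := by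
  constructor
  · intro hLR V W _ _ _ _ _ _ φ hφ hsurj w hw
    obtain ⟨v₀, rfl⟩ := hsurj w
    exact Groth.Agent.H83.exists_fixedPt_of_surjective hLR V W φ hφ.symm v₀ hw
  · intro hex V _ _ cV hfin W hW
    have : Module.FinitePresentation k V := Module.finitePresentation_of_finite k V
    have : Module.FinitePresentation k W := Module.finitePresentation_of_finite k W
    apply Groth.Agent.H83.exists_retraction_of_fixed_lift cV W hW
    intro h' hh'
    let cW : HopfRep.Comod k A W := Groth.Agent.H62.subComod W hW
    have hres := Groth.Agent.H83.isComodHom_lcomp cV cW cW W.subtype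
      (Groth.Agent.H62.subtype_isComodHom W hW)
    have hsurj : Function.Surjective (W.subtype.lcomp k W) := by
      intro g
      obtain ⟨p, hp⟩ := W.subtype.exists_leftInverse_of_injective (Submodule.ker_subtype W)
      refine ⟨g ∘ₗ p, ?_⟩
      rw [LinearMap.lcomp_apply', LinearMap.comp_assoc, hp, LinearMap.comp_id]
    exact @hex (V →ₗ[k] W) (W →ₗ[k] W) _ _ (Groth.Agent.H83.homComod cV cW) _ _
      (Groth.Agent.H83.homComod cW cW) (W.subtype.lcomp k W) hres.symm hsurj h' hh'

end Groth.Agent.S16717
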