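import Groth.Statements.S16718
import Groth.Agent.H62.Comod
import Groth.Agent.H93.DualMod
import Mathlib.RingTheory.FiniteType

set_option autoImplicit false
universe u v w
open TensorProduct
open GLin

namespace Groth.Agent.S16718

/-- Let k be a field, A a finitely generated commutative Hopf algebra over k (an affine algebraic group
G), R a finitely generated commutative k-algebra carrying an A-comodule structure whose coaction is
an algebra homomorphism (an action of G on X = Spec R), and I an ideal of R which is a subcomodule
(a G-invariant closed subscheme Z of X). Then there is a finite-dimensional subcomodule W of R with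
W ⊆ I generating I as an ideal; equivalently there is a G-equivariant morphism f from X to the
affine space of a finite-dimensional G-representation with f⁻¹(0) = Z as closed subschemes. -/
theorem result (k : Type u) [Field k]
    (A : Type v) [CommRing A] [HopfAlgebra k A] (hA : Algebra.FiniteType k A)
    (R : Type w) [CommRing R] [Algebra k R] [HopfRep.Comod k A R] [GLin.IsCoactAlg k A R]
    (hR : Algebra.FiniteType k R) (I : Ideal R)
    (hI : HopfRep.IsSubcomod (k := k) (A := A) (I.restrictScalars k)) :
    ∃ W : Submodule k R, Module.Finite k W ∧ HopfRep.IsSubcomod (k := k) (A := A) W ∧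
      W ≤ I.restrictScalars k ∧ Ideal.span (W : Set R) = I := by
  classical
  have : IsNoetherianRing R := Algebra.FiniteType.isNoetherianRing k R
  obtain ⟨s, hs⟩ := (isNoetherianRing_iff_ideal_fg R).mp inferInstance I
  have hsI : ∀ f ∈ s, f ∈ I := fun f hf => hs ▸ Ideal.subset_span hf
  choose! W hW using fun f : R => Groth.Agent.H62.exists_finite_subcomod (k := k) (A := A) f
  refine ⟨⨆ f ∈ s, (W f ⊓ I.restrictScalars k), ?_, ?_, ?_, ?_⟩
  · have : ∀ f, Module.Finite k ↥(W f ⊓ I.restrictScalars k) := by
      intro f
      have := (hW f).2.1
      exact Submodule.finiteDimensional_inf_left _ _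
    rw [Module.Finite.iff_fg]
    refine Submodule.fg_biSup s _ (fun f _ => ?_)
    rw [← Module.Finite.iff_fg]
    exact (this f)
  · apply Groth.Agent.H93.isSubcomod_iSup
    intro f
    apply Groth.Agent.H93.isSubcomod_iSup
    intro _
    exact Groth.Agent.H93.isSubcomod_inf _ _ (hW f).1 hI
  · refine iSup₂_le (fun f _ => inf_le_right)
  · apply le_antisymm
    · rw [Ideal.span_le]
      intro x hx
      have : (⨆ f ∈ s, (W f ⊓ I.restrictScalars k)) ≤ I.restrictScalars k :=
        iSup₂_le (fun f _ => inf_le_right)
      exact this hx
    · conv_lhs => rw [← hs]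
      rw [Ideal.span_le]
      intro f hf
      apply Ideal.subset_span
      have h1 : f ∈ W f ⊓ I.restrictScalars k := ⟨(hW f).2.2, hsI f hf⟩
      exact (le_iSup₂ (f := fun f (_ : f ∈ s) => W f ⊓ I.restrictScalars k) f hf) h1

end Groth.Agent.S16718
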