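import Groth.Statements.S16737
import Mathlib.RingTheory.Kaehler.Polynomial
import Mathlib.Algebra.MvPolynomial.PDeriv
import Mathlib.Algebra.MvPolynomial.Expand
import Mathlib.RingTheory.MvPolynomial.Basic

set_option autoImplicit false
universe u v
open DeRham

namespace Groth.Agent.S16737

/-- The case of affine space over an affine base of characteristic p, in degree zero. Let p be a prime
and R a commutative ring with p = 0 in R. For a polynomial f over R in any set of variables t_i, the
Kähler differential df in Ω_{R[t]/R} vanishes if and only if f is a polynomial in the p-th powers of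
the variables, f = g(t_i^p). Equivalently, the functions on affine space over R killed by the
differential of the de Rham complex are exactly the functions on its Frobenius twist. (The published
computation is for finitely many variables over a noetherian base of characteristic p; the statement
here allows any commutative ring with p = 0 and any set of variables.) -/
theorem result (p : ℕ) [Fact p.Prime]
    (R : Type u) [CommRing R] [CharP R p] (σ : Type v) (f : MvPolynomial σ R) :
    KaehlerDifferential.D R (MvPolynomial σ R) f = 0 ↔
      ∃ g : MvPolynomial σ R, f = MvPolynomial.expand p g := by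
  classical
  have hp : p ≠ 0 := (Fact.out : p.Prime).ne_zero
  have : CharP (MvPolynomial σ R) p := inferInstance
  constructor
  · intro h
    have hpd : ∀ i, MvPolynomial.pderiv i f = 0 := by
      intro i
      rw [← KaehlerDifferential.mvPolynomialBasis_repr_apply, h]
      simp
    -- exponents in the support are divisible by p
    have hdiv : ∀ s ∈ f.support, ∀ i, p ∣ s i := by
      intro s hs i
      by_contra hnd
      have hsi : s i ≠ 0 := by
        intro h0; rw [h0] at hnd; exact hnd (dvd_zero p)
      have hunit : IsUnit ((s i : ℕ) : R) := by
        have hcop : Nat.Coprime (s i) p :=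
          (Nat.Coprime.symm ((Nat.Prime.coprime_iff_not_dvd Fact.out).mpr hnd))
        have h1 := Nat.isCoprime_iff_coprime.mpr hcop
        obtain ⟨a, b, hab⟩ := h1
        have h2 := congrArg (Int.cast : ℤ → R) hab
        simp only [Int.cast_add, Int.cast_mul, Int.cast_natCast, Int.cast_one,
          CharP.cast_eq_zero, mul_zero, add_zero] at h2
        exact IsUnit.of_mul_eq_one _ (by rw [mul_comm]; exact h2)
      set m : σ →₀ ℕ := s - Finsupp.single i 1 with hm
      have hsm : s = m + Finsupp.single i 1 := by
        ext j
        by_cases hj : j = i
        · subst hj; simp [hm]; omega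
        · simp [hm, Ne.symm hj]
      have hc := MvPolynomial.coeff_pderiv (i := i) f m
      rw [hpd i, MvPolynomial.coeff_zero, ← hsm] at hc
      have hmi : ((m i : ℕ) : R) + 1 = ((s i : ℕ) : R) := by
        rw [hsm]; simp
      rw [hmi] at hc
      have : MvPolynomial.coeff s f = 0 := by
        have := congrArg (· * (hunit.unit⁻¹ : Rˣ).val) hc.symm
        simpa [mul_assoc] using this
      exact (MvPolynomial.mem_support_iff.mp hs) this
    refine ⟨∑ s ∈ f.support, MvPolynomial.monomial (s.mapRange (· / p) (Nat.zero_div p))
      (MvPolynomial.coeff s f), ?_⟩
    rw [map_sum]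
    conv_lhs => rw [f.as_sum]
    refine Finset.sum_congr rfl fun s hs => ?_
    rw [MvPolynomial.expand_monomial]
    have hs' : p • s.mapRange (· / p) (Nat.zero_div p) = s := by
      ext i
      simp only [Finsupp.coe_smul, Pi.smul_apply, Finsupp.mapRange_apply, smul_eq_mul]
      exact Nat.mul_div_cancel' (hdiv s hs i)
    rw [hs']
  · rintro ⟨g, rfl⟩
    induction g using MvPolynomial.induction_on with
    | C a =>
      rw [MvPolynomial.expand_C, ← MvPolynomial.algebraMap_eq, Derivation.map_algebraMap]
    | add f g hf hg => rw [map_add, map_add, hf, hg, add_zero]
    | mul_X f i hf =>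
      rw [map_mul, MvPolynomial.expand_X, Derivation.leibniz, hf, Derivation.leibniz_pow]
      rw [← Nat.cast_smul_eq_nsmul (MvPolynomial σ R) p, CharP.cast_eq_zero, zero_smul, smul_zero,
        smul_zero, add_zero]

end Groth.Agent.S16737
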