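import Groth.Statements.S16742
import Groth.Agent.H2.Tor1
import Mathlib.RingTheory.Flat.EquationalCriterion
import Mathlib.RingTheory.TensorProduct.Quotient
import Mathlib.RingTheory.Flat.Stability

set_option autoImplicit false
universe u
open CAlg

namespace Groth.Agent.S16742

/-- The equivalence in affine form, with flatness of the reduction in place of smoothness. Let p be a
prime, A~ a commutative ring flat over Z/p^2 and B~ an A~-algebra such that B~/pB~ is flat over
A~/pA~. Then B~ is flat over A~ if and only if every element of B~ killed by p is a multiple of p;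
equivalently multiplication by p identifies B~/pB~ with pB~. (The published statement assumes the
reduction smooth over A~/pA~ and the schemes noetherian, and phrases (b) as B~ being a lifting, that
is flat over A~; the statement here assumes only that the reduction is flat, where the equivalence
still holds by the local flatness criterion for the square-zero ideal generated by p.) -/
theorem result (p : ℕ) [Fact p.Prime]
    (Al : Type u) [CommRing Al] [Algebra (ZMod (p ^ 2)) Al] [Module.Flat (ZMod (p ^ 2)) Al]
    (Bl : Type u) [CommRing Bl] [Algebra Al Bl]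
    (hB : Module.Flat (Al ⧸ Ideal.span {(p : Al)})
      (Bl ⧸ (Ideal.span {(p : Al)}).map (algebraMap Al Bl))) :
    Module.Flat Al Bl ↔ ∀ b : Bl, (p : Bl) * b = 0 → b ∈ Ideal.span {(p : Bl)} := by
  classical
  have hp2 : (p : Al) * (p : Al) = 0 := by
    have h1 : ((p ^ 2 : ℕ) : ZMod (p ^ 2)) = 0 := ZMod.natCast_self (p ^ 2)
    have h2 := congrArg (algebraMap (ZMod (p ^ 2)) Al) h1
    rw [map_natCast, map_zero] at h2
    rw [← h2]
    push_cast
    ring
  constructor
  · -- flat implies the torsion condition
    intro hflat b hb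
    let _ : Module (ZMod (p ^ 2)) Bl := Module.compHom Bl (algebraMap (ZMod (p ^ 2)) Al)
    have : IsScalarTower (ZMod (p ^ 2)) Al Bl := IsScalarTower.of_compHom (ZMod (p ^ 2)) Al Bl
    have : Module.Flat (ZMod (p ^ 2)) Bl := Module.Flat.trans (ZMod (p ^ 2)) Al Bl
    have hsmul : ∀ (c : ZMod (p ^ 2)) (z : Bl), c • z = algebraMap Al Bl (algebraMap _ Al c) * z := by
      intro c z
      rw [← Algebra.smul_def, algebraMap_smul]
    have hrel : ∑ i : Fin 1, (fun _ : Fin 1 => (p : ZMod (p ^ 2))) i • (fun _ : Fin 1 => b) i = 0 := by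
      simp only [Finset.univ_unique, Finset.sum_singleton]
      rw [hsmul, map_natCast, map_natCast, hb]
    obtain ⟨k, a, y, hxy, hfa⟩ := Module.Flat.iff_forall_isTrivialRelation.mp inferInstance hrel
    have hb' : b = ∑ j, a 0 j • y j := hxy 0
    have hfa' : ∀ j, (p : ZMod (p ^ 2)) * a 0 j = 0 := by
      intro j
      simpa using hfa j
    have hdiv : ∀ j, ∃ c : ZMod (p ^ 2), a 0 j = (p : ZMod (p ^ 2)) * c := by
      intro j
      have h1 := hfa' j
      rw [← ZMod.natCast_zmod_val (a 0 j), ← Nat.cast_mul, ZMod.natCast_eq_zero_iff] at h1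
      obtain ⟨d, hd⟩ := h1
      have hc : (a 0 j).val = p * d :=
        Nat.eq_of_mul_eq_mul_left (Fact.out : p.Prime).pos (by rw [hd]; ring)
      obtain ⟨c, hc⟩ : ∃ c, (a 0 j).val = p * c := ⟨d, hc⟩
      refine ⟨(c : ZMod (p ^ 2)), ?_⟩
      rw [← Nat.cast_mul, ← hc, ZMod.natCast_zmod_val]
    choose c hc using hdiv
    rw [Ideal.mem_span_singleton']
    refine ⟨∑ j, c j • y j, ?_⟩
    rw [hb', Finset.sum_mul]
    refine Finset.sum_congr rfl fun j _ => ?_
    rw [hc j, mul_smul, hsmul (p : ZMod (p ^ 2)), map_natCast, map_natCast, mul_comm]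
  · -- the torsion condition implies flatness
    intro h
    have hI : IsNilpotent (Ideal.span {(p : Al)}) := by
      refine ⟨2, ?_⟩
      rw [pow_two, Ideal.span_singleton_mul_span_singleton, hp2]
      simp
    have : Module.Flat (Al ⧸ Ideal.span {(p : Al)})
        (TensorProduct Al (Al ⧸ Ideal.span {(p : Al)}) Bl) :=
      Module.Flat.of_linearEquiv
        (Algebra.TensorProduct.quotIdealMapEquivQuotTensor Bl (Ideal.span {(p : Al)})).symm.toLinearEquiv
    apply Groth.Agent.H2.flat_of_isNilpotent_of_tor1Zero _ hI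
    rw [Groth.Agent.H2.tor1Zero_quotient_iff]
    have hpI : (p : Al) ∈ Ideal.span {(p : Al)} := Ideal.subset_span rfl
    have hform : ∀ x : TensorProduct Al (Ideal.span {(p : Al)}) Bl,
        ∃ m : Bl, x = (⟨(p : Al), hpI⟩ : Ideal.span {(p : Al)}) ⊗ₜ[Al] m := by
      intro x
      induction x using TensorProduct.induction_on with
      | zero => exact ⟨0, by simp⟩
      | tmul i m =>
        obtain ⟨i, hi⟩ := i
        obtain ⟨r, rfl⟩ := Ideal.mem_span_singleton'.mp hi
        refine ⟨r • m, ?_⟩
        rw [TensorProduct.tmul_smul, TensorProduct.smul_tmul']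
        rfl
      | add x y hx' hy' =>
        obtain ⟨m₁, rfl⟩ := hx'
        obtain ⟨m₂, rfl⟩ := hy'
        exact ⟨m₁ + m₂, by rw [TensorProduct.tmul_add]⟩
    rw [injective_iff_map_eq_zero]
    intro x hx
    obtain ⟨m, rfl⟩ := hform x
    rw [LinearMap.rTensor_tmul, Submodule.subtype_apply] at hx
    have hx' := congrArg (TensorProduct.lid Al Bl) hx
    rw [TensorProduct.lid_tmul, map_zero, Algebra.smul_def, map_natCast] at hx'
    obtain ⟨c, rfl⟩ := Ideal.mem_span_singleton'.mp (h m hx')
    have : c * (p : Bl) = (p : Al) • c := by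
      rw [Algebra.smul_def, map_natCast, mul_comm]
    rw [this, TensorProduct.tmul_smul, TensorProduct.smul_tmul']
    have h0 : (p : Al) • (⟨(p : Al), hpI⟩ : Ideal.span {(p : Al)}) = 0 := by
      apply Subtype.ext
      simp [hp2]
    rw [h0, TensorProduct.zero_tmul]

end Groth.Agent.S16742
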