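import Groth.Statements.S16754
import Groth.Agent.H38.SmoothGeomIntegral

set_option autoImplicit false
universe u
open CurvSt

namespace Groth.Agent.S16754

open CategoryTheory CategoryTheory.Limits AlgebraicGeometry in
/-- Let k be a field and X a scheme which is proper and smooth over k and of dimension one. Then the
following are equivalent: dim_k H^0(X, O_X) = 1 (the ground field is the ring of global functions);
X is geometrically connected over k; X is geometrically integral over k. (The remaining conditions
of the source concern membership in an open substack of the stack of curves and are not stated.) -/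
theorem result (k : Type u) [Field k]
    (X : Scheme.{u}) [X.Over (Spec (CommRingCat.of k))] [IsProper (X ↘ Spec (CommRingCat.of k))]
    [Smooth (X ↘ Spec (CommRingCat.of k))] (hdim : topologicalKrullDim ↥X = 1) :
    (Module.finrank k (Coh.HH X (Coh.structureModule X) 0) = 1 ↔ GeometricallyConnected (X ↘ Spec (CommRingCat.of k))) ∧
      (GeometricallyConnected (X ↘ Spec (CommRingCat.of k)) ↔ GeometricallyIntegral (X ↘ Spec (CommRingCat.of k))) := by
  have hne : Nonempty ↥X := by
    by_contra h
    rw [not_nonempty_iff] at h
    have hE : IsEmpty (TopologicalSpace.IrreducibleCloseds ↥X) :=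
      ⟨fun Z => h.false Z.isIrreducible'.nonempty.some⟩
    have : topologicalKrullDim ↥X = ⊥ := Order.krullDim_eq_bot
    rw [this] at hdim
    exact absurd hdim (by decide)
  refine ⟨?_, ?_⟩
  · rw [Groth.Agent.H38.NormSmoothH0.finrank_HH_zero_structureModule k X]
    exact Groth.Agent.H38.SmoothGeomIntegral.finrank_sections_eq_one_iff k
      (X ↘ Spec (CommRingCat.of k))
  · constructor
    · intro h
      exact Groth.Agent.H38.SmoothGeomIntegral.geometricallyIntegral_of_smooth k _
    · intro h
      exact Groth.Agent.H38.SmoothGeomIntegral.geometricallyConnected_of_geometricallyIrreducible _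

end Groth.Agent.S16754
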