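import Groth.Statements.S16762
import Groth.Agent.H83.UnivInj

set_option autoImplicit false
universe u
open CAlgX

namespace Groth.Agent.S16762

/-- Let A → A' be faithfully flat and u : M → N a map of A-modules. Then u is universally injective (u ⊗
id_Q injective for every A-module Q) if and only if its base change A' ⊗_A M → A' ⊗_A N is
universally injective as a map of A'-modules. -/
theorem result (A A' : Type u) [CommRing A] [CommRing A']
    [Algebra A A'] [Module.FaithfullyFlat A A'] {M N : Type u} [AddCommGroup M] [Module A M]
    [AddCommGroup N] [Module A N] (u : M →ₗ[A] N) :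
    CAlgX.UniversallyInjective A u ↔ CAlgX.UniversallyInjective A' (u.baseChange A') := by
  constructor
  · intro h Q' _ _
    let _ : Module A Q' := Module.compHom Q' (algebraMap A A')
    have : IsScalarTower A A' Q' := IsScalarTower.of_compHom A A' Q'
    rw [Groth.Agent.H83.injective_rTensor_baseChange_iff]
    exact h Q'
  · intro h Q _ _
    have h1 := h (TensorProduct A A' Q)
    rw [Groth.Agent.H83.injective_rTensor_baseChange_iff,
      ← Groth.Agent.H83.injective_lTensor_rTensor_iff] at h1
    exact (Module.FaithfullyFlat.lTensor_injective_iff_injective A A' _).mp h1

end Groth.Agent.S16762
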