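import Groth.Statements.S16772
import Groth.Agent.H40.CD.EqLocus2
import Groth.Agent.H40.CD.FiniteFree

set_option autoImplicit false
open CategoryTheory MonoidalCategory CartesianMonoidalCategory MonObj GrpObj AlgebraicGeometry
universe u
open SGA3x

namespace Groth.Agent.S16772

/-- Let G be an affine group scheme of finite presentation over a scheme S and Y ⊆ G a closed subscheme
which is finite, flat and of finite presentation over S. Then the centralizer of Y in G (points of G
commuting with every point of Y after any base change) is representable by a closed subscheme of G. -/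
theorem result {S : Scheme.{u}} (G Y : Over S) [GrpObj G]
    (hGa : IsAffineHom G.hom) (hGfp : LocallyOfFinitePresentation G.hom)
    (y : Y ⟶ G) (hy : IsClosedImmersion y.left) (hYf : IsFinite Y.hom) (hYfl : Flat Y.hom)
    (hYfp : LocallyOfFinitePresentation Y.hom) :
    ∃ (C : Over S) (c : C ⟶ G), IsClosedImmersion c.left ∧
      ∀ (X : Over S) (g : X ⟶ G), (∃ z : X ⟶ C, z ≫ c = g) ↔
        ∀ (X' : Over S) (x : X' ⟶ X) (a : X' ⟶ Y), (x ≫ g) * (a ≫ y) = (a ≫ y) * (x ≫ g) := by
  haveI := hGa
  haveI := hYf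
  haveI := hYfl
  haveI := hYfp
  haveI : IsSeparated G.hom := inferInstance
  haveI : IsAffineHom Y.hom := inferInstance
  obtain ⟨W, i₀, hi₀, hW⟩ := Groth.Agent.H40.CD.exists_closed_eqLocus_of_affine_free Y G G
    (snd Y G * (fst Y G ≫ y)) ((fst Y G ≫ y) * snd Y G)
    (fun s => Groth.Agent.H40.CD.exists_free_nhd_of_finite_flat Y.hom s)
  refine ⟨Over.mk (i₀ ≫ G.hom), Over.homMk i₀, hi₀, fun X g => ?_⟩
  have h1 : (∀ (X' : Over S) (x : X' ⟶ X) (a : X' ⟶ Y),
      (x ≫ g) * (a ≫ y) = (a ≫ y) * (x ≫ g)) ↔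
      ((Y ◁ g) ≫ (snd Y G * (fst Y G ≫ y)) = (Y ◁ g) ≫ ((fst Y G ≫ y) * snd Y G)) := by
    rw [MonObj.comp_mul, MonObj.comp_mul, whiskerLeft_fst_assoc, whiskerLeft_snd]
    constructor
    · intro h
      exact h (Y ⊗ X) (snd Y X) (fst Y X)
    · intro h X' x a
      have := congrArg (fun φ => lift a x ≫ φ) h
      simp only [MonObj.comp_mul, lift_fst_assoc, lift_snd_assoc] at this
      exact this
  rw [h1, hW]
  constructor
  · rintro ⟨z, rfl⟩
    exact ⟨z.left, rfl⟩
  · rintro ⟨w, hw⟩
    refine ⟨Over.homMk w ?_, ?_⟩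
    · have := Over.w g
      dsimp at this ⊢
      rw [← Category.assoc, hw, this]
    · ext
      exact hw

end Groth.Agent.S16772
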