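import Groth.Statements.S16777
import Groth.Agent.H40.CD.ProjChartsMult
import Groth.Agent.H40.CD.PreimageLocus

set_option autoImplicit false
open CategoryTheory MonoidalCategory CartesianMonoidalCategory MonObj GrpObj AlgebraicGeometry
universe u
open SGA3x

namespace Groth.Agent.S16777

/-- Let G be an affine group scheme of finite presentation over a scheme S, H ⊆ G a subgroup scheme of
multiplicative type (of finite type) and Y' ⊆ G any closed subscheme of finite presentation over S.
Then the transporter of H into Y' (points g with g h g⁻¹ in Y' for all points h of H after any base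
change) is representable by a closed subscheme of G of finite presentation over S. -/
theorem result {S : Scheme.{u}} (G H Y' : Over S) [GrpObj G] [GrpObj H]
    (hGa : IsAffineHom G.hom) (hGfp : LocallyOfFinitePresentation G.hom)
    (i : H ⟶ G) [IsMonHom i] [Mono i] (hH : SGA3x.IsMultTypeFT H)
    (y' : Y' ⟶ G) (hy' : IsClosedImmersion y'.left) (hY'fp : LocallyOfFinitePresentation Y'.hom) :
    ∃ (C : Over S) (c : C ⟶ G), IsClosedImmersion c.left ∧ LocallyOfFinitePresentation C.hom ∧
      ∀ (X : Over S) (g : X ⟶ G), (∃ z : X ⟶ C, z ≫ c = g) ↔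
        ∀ (X' : Over S) (x : X' ⟶ X) (h : X' ⟶ H), ∃ a' : X' ⟶ Y', (x ≫ g) * (h ≫ i) * (x ≫ g)⁻¹ = a' ≫ y' := by
  haveI := hGa
  haveI := hGfp
  haveI := hy'
  let cm : H ⊗ G ⟶ G := (snd H G) * (fst H G ≫ i) * (snd H G)⁻¹
  obtain ⟨E, jE, hjE, hE, hEfp⟩ := Groth.Agent.H40.CD.exists_closed_preimage cm y'
  haveI : LocallyOfFinitePresentation jE := hEfp inferInstance hY'fp
  obtain ⟨W, cW, hcW, hW, hfp⟩ := Groth.Agent.H40.CD.exists_closed_locus_of_hasProjCharts H G jE
    (Groth.Agent.H40.CD.hasProjCharts_of_isMultTypeFT H hH)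
  haveI : LocallyOfFinitePresentation cW := hfp inferInstance
  refine ⟨Over.mk (cW ≫ G.hom), Over.homMk cW rfl, hcW, ?_, fun T g => ?_⟩
  · change LocallyOfFinitePresentation (cW ≫ G.hom)
    infer_instance
  rw [Groth.Agent.H40.CD.over_factors_iff, ← hW]
  have key : ∀ (T' : Over S) (t : T' ⟶ T) (a : T' ⟶ H),
      (∃ z : T'.left ⟶ E, z ≫ jE = (lift a (t ≫ g)).left) ↔
        ∃ a' : T' ⟶ Y', (t ≫ g) * (a ≫ i) * (t ≫ g)⁻¹ = a' ≫ y' := by
    intro T' t a
    rw [hE]
    have h1 : lift a (t ≫ g) ≫ cm = (t ≫ g) * (a ≫ i) * (t ≫ g)⁻¹ := by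
      change lift a (t ≫ g) ≫ ((snd H G) * (fst H G ≫ i) * (snd H G)⁻¹) = _
      rw [MonObj.comp_mul, MonObj.comp_mul, GrpObj.comp_inv, lift_snd, lift_fst_assoc]
    rw [h1]
  constructor
  · intro h T' t a
    exact (key T' t a).mp (h T' t a)
  · intro h T' t a
    exact (key T' t a).mpr (h T' t a)

end Groth.Agent.S16777
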