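import Groth.Statements.S16793


set_option autoImplicit false
universe v u
open PCurv

namespace Groth.Agent.S16793

open TensorProduct in
/-- Let B be a commutative algebra over a commutative ring A whose module Ω of Kähler differentials over
A is free of rank one on a form ω, and let ∇ be a connection on the free module B^r whose connection
matrix with respect to the standard basis e₁, …, e_r and ω is T, that is ∇(e_j) = Σ_i T_{ij} e_i ⊗
ω. Then for every A-derivation θ of B, writing f_θ ∈ B for the value on ω of the B-linear functional
Ω → B attached to θ, the covariant derivative along θ is given by ∇_θ(s) = f_θ · (T s) + θ(s) for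
all s ∈ B^r, where θ(s) is θ applied to each coordinate of s. -/
theorem result {A : Type v} {B : Type u} [CommRing A] [CommRing B] [Algebra A B]
    (bΩ : Module.Basis (Fin 1) B (KaehlerDifferential A B)) {r : ℕ} (T : Matrix (Fin r) (Fin r) B)
    (nabla : (Fin r → B) →ₗ[A] (Fin r → B) ⊗[B] KaehlerDifferential A B)
    (hc : Conn.IsConn (KaehlerDifferential.D A B) nabla)
    (hT : ∀ j : Fin r, nabla (Pi.single j 1) = ∑ i : Fin r, T i j • (Pi.single i (1 : B) ⊗ₜ[B] bΩ 0))
    (θ : Derivation A B B) (s : Fin r → B) :
    Conn.alongDer nabla θ s = θ.liftKaehlerDifferential (bΩ 0) • T.mulVec s + (fun i => θ (s i)) := by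
  classical
  have hs : s = ∑ j, s j • (Pi.single j (1 : B) : Fin r → B) := by
    ext i
    simp [Finset.sum_apply, Pi.single_apply]
  have hn : nabla s = ∑ j, (s j • nabla (Pi.single j 1) +
      (Pi.single j (1 : B) : Fin r → B) ⊗ₜ[B] KaehlerDifferential.D A B (s j)) := by
    conv_lhs => rw [hs]
    rw [map_sum]
    exact Finset.sum_congr rfl fun j _ => hc (s j) _
  unfold Conn.alongDer
  rw [Conn.along_apply, hn, map_sum, map_sum]
  ext i
  simp only [map_add, map_smul, hT, map_sum, TensorProduct.map_tmul, LinearMap.id_apply,
    TensorProduct.rid_tmul, Derivation.liftKaehlerDifferential_comp_D, Finset.sum_apply,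
    Pi.add_apply, Pi.smul_apply, smul_eq_mul, Matrix.mulVec, dotProduct, Finset.smul_sum,
    Pi.single_apply, Finset.sum_add_distrib]
  congr 1
  · rw [Finset.mul_sum]
    refine Finset.sum_congr rfl fun j _ => ?_
    rw [Finset.sum_eq_single i]
    · simp only [if_true]; ring
    · intro k _ hk
      simp [Ne.symm hk]
    · intro h; exact absurd (Finset.mem_univ i) h
  · simp

end Groth.Agent.S16793
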