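import Groth.Statements.S16795
import Groth.Agent.H83.LogConn

set_option autoImplicit false
universe v u
open LogConn

namespace Groth.Agent.S16795

open TensorProduct in
/-- Let B be a commutative algebra over a commutative ring A, λ ∈ B, and t₁, …, tₙ ∈ B elements whose
differentials dt₁, …, dtₙ form a basis of the Kähler differentials Ω of B over A; let L be a
B-module free on ω₁, …, ωₙ with a B-linear ι : Ω → L sending dtᵢ to tᵢ ωᵢ (ωᵢ playing the role of
dlog tᵢ), and E a B-module with an A-linear ∇ : E → E ⊗ L obeying the λ-twisted Leibniz rule ∇(b e)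
= b ∇e + λ e ⊗ ι(db); write ∇ᵢ for the components of ∇ in the basis ω, ∇_J for their composite over
a finite index set J in increasing order, and E_I = Σ_{J ⊆ I} (∏_{i ∈ I∖J} tᵢ) · ∇_J(E) (an
A-submodule of E) for a finite index set I. Suppose E is generated over B by finitely many elements
e₁, …, e_m. Then for every finite index set I the piece E_I is the B-span of the finitely many
elements (∏_{i ∈ I∖J} tᵢ) · ∇_J(e_k), J ⊆ I, 1 ≤ k ≤ m; in particular E_I is a finitely generated
B-module. (The published statement is phrased for sheaves — E_w is quasi-coherent, resp. coherent,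
when E is — and its proof exhibits these generators; flatness of ∇ is not used.) -/
theorem result {A : Type v} {B L E : Type u} [CommRing A] [CommRing B]
    [Algebra A B] [AddCommGroup L] [Module B L] [Module A L] [IsScalarTower A B L]
    [AddCommGroup E] [Module B E] [Module A E] [IsScalarTower A B E]
    (lam : B) {n : ℕ} (t : Fin n → B) (bΩ : Module.Basis (Fin n) B (KaehlerDifferential A B))
    (hbΩ : ∀ i, bΩ i = KaehlerDifferential.D A B (t i))
    (ω : Module.Basis (Fin n) B L) (ι : KaehlerDifferential A B →ₗ[B] L)
    (hι : ∀ i, ι (KaehlerDifferential.D A B (t i)) = t i • ω i)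
    (nabla : E →ₗ[A] E ⊗[B] L)
    (hc : Conn.IsLamConn (ι.compDer (KaehlerDifferential.D A B)) lam nabla)
    {m : ℕ} (e : Fin m → E) (he : Submodule.span B (Set.range e) = ⊤) (I : Finset (Fin n)) :
    (Submodule.span B (⋃ J ∈ I.powerset, Set.range (fun k : Fin m =>
        (∏ i ∈ I \ J, t i) • LogConn.compProd nabla ω J (e k)))).restrictScalars A =
      LogConn.piece nabla ω t I := by
  classical
  apply le_antisymm
  · -- span ≤ piece: generators are in the piece, which is B-stable
    intro x hx
    rw [Submodule.restrictScalars_mem] at hx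
    induction hx using Submodule.span_induction with
    | mem y hy =>
      simp only [Set.mem_iUnion, Set.mem_range] at hy
      obtain ⟨J, hJ, k, rfl⟩ := hy
      exact Groth.Agent.H83.smul_compProd_mem_piece nabla ω t I J (Finset.mem_powerset.mp hJ) (e k)
    | zero => exact Submodule.zero_mem _
    | add y z _ _ hy hz => exact Submodule.add_mem _ hy hz
    | smul b y _ hy => exact Groth.Agent.H83.smul_mem_piece lam t bΩ hbΩ ω ι hι nabla hc I b y hy
  · -- piece ≤ span
    have hgen : ∀ k : Fin m, Groth.Agent.H83.genSpan t ω nabla I (e k) ≤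
        Submodule.span B (⋃ J ∈ I.powerset, Set.range (fun k : Fin m =>
            (∏ i ∈ I \ J, t i) • LogConn.compProd nabla ω J (e k))) := by
      intro k
      unfold Groth.Agent.H83.genSpan
      apply Submodule.span_mono
      rintro _ ⟨⟨J, hJ⟩, rfl⟩
      simp only [Set.mem_iUnion, Set.mem_range]
      exact ⟨J, hJ, k, rfl⟩
    have key : ∀ (J : Finset (Fin n)), J ⊆ I → ∀ x : E,
        (∏ i ∈ I \ J, t i) • LogConn.compProd nabla ω J x ∈
          Submodule.span B (⋃ J ∈ I.powerset, Set.range (fun k : Fin m =>
            (∏ i ∈ I \ J, t i) • LogConn.compProd nabla ω J (e k))) := by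
      intro J hJ x
      have hx : x ∈ Submodule.span B (Set.range e) := by rw [he]; trivial
      obtain ⟨c, rfl⟩ := (Submodule.mem_span_range_iff_exists_fun B).mp hx
      rw [map_sum, Finset.smul_sum]
      refine Submodule.sum_mem _ fun k _ => ?_
      apply hgen k
      exact Groth.Agent.H83.smul_mem_genSpan_of_subset t ω nabla I J hJ (e k) _
        (Groth.Agent.H83.compProd_smul_mem_genSpan lam t bΩ hbΩ ω ι hι nabla hc J (c k) (e k))
    have hle := Groth.Agent.H83.piece_le_comap nabla ω t I LinearMap.id
      ((Submodule.span B (⋃ J ∈ I.powerset, Set.range (fun k : Fin m =>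
          (∏ i ∈ I \ J, t i) • LogConn.compProd nabla ω J (e k)))).restrictScalars A) ?_
    · simpa using hle
    · intro J hJ x
      exact key J hJ x

end Groth.Agent.S16795
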