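import Groth.Statements.S16805
import Groth.Agent.H64.FldPt.Tfae

set_option autoImplicit false
universe u
open CategoryTheory AlgebraicGeometry
open Gerb

namespace Groth.Agent.S16805

/-- For an algebraic stack 𝒵 the following are equivalent: 𝒵 is reduced with exactly one point; 𝒵
receives a surjective flat morphism from the spectrum of a field; 𝒵 receives a locally of finite
type, surjective, flat morphism from the spectrum of a field. -/
theorem result
    (S : Scheme.{u}) (𝒵 : AlgSt.Cat S) (h𝒵 : AlgSt.IsAlgStack Scheme.fppfPrecoverage 𝒵) :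
    [AlgSt.SmoothLocally (fun T => IsReduced T) 𝒵 ∧ Nonempty (AlgSt.Points 𝒵) ∧ Subsingleton (AlgSt.Points 𝒵),
      ∃ (k : Type u) (_ : Field k) (a : Spec (CommRingCat.of k) ⟶ S)
        (z : FibCat.overCat (Over.mk a) ⥤ᵇ 𝒵), AlgSt.RepByAlgSpWith AlgSp.IsSurjectiveMor z ∧ AlgSt.RepByAlgSpWith (AlgSp.LocP @Flat) z,
      ∃ (k : Type u) (_ : Field k) (a : Spec (CommRingCat.of k) ⟶ S)
        (z : FibCat.overCat (Over.mk a) ⥤ᵇ 𝒵), AlgSt.RepByAlgSpWith (AlgSp.LocP @LocallyOfFiniteType) z ∧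
          AlgSt.RepByAlgSpWith AlgSp.IsSurjectiveMor z ∧ AlgSt.RepByAlgSpWith (AlgSp.LocP @Flat) z].TFAE := by
  have hfib : FibCat.IsFibGrpd 𝒵.p := h𝒵.isStack.1
  tfae_have 1 → 2 := fun ⟨hred, hne, hsub⟩ =>
    Groth.Agent.H64.FldPt.exists_flat_surj_field_of_reduced h𝒵 hred hne hsub
  tfae_have 2 → 3 := fun ⟨k, _, a, z, hzs, hzf⟩ => by
    obtain ⟨k', _, a', z', h1, h2, h3, -⟩ :=
      Groth.Agent.H64.FldPt.exists_lft_flat_surj_field h𝒵 a z hzs hzf
    exact ⟨k', inferInstance, a', z', h1, h2, h3⟩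
  tfae_have 3 → 2 := fun ⟨k, _, a, z, _, hzs, hzf⟩ => ⟨k, inferInstance, a, z, hzs, hzf⟩
  tfae_have 2 → 1 := fun ⟨k, _, a, z, hzs, hzf⟩ =>
    ⟨Groth.Agent.H64.FldPt.smoothLocally_isReduced_of_flat_surj_field a z hzs hzf,
      Groth.Agent.H64.FldPt.nonempty_points_of_field 𝒵 a z,
      Groth.Agent.H64.FldPt.subsingleton_points_of_surjective_field hfib a z hzs⟩
  tfae_finish

end Groth.Agent.S16805
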