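import Groth.Statements.S16806
import Groth.Agent.H64.FldPt.Tfae

set_option autoImplicit false
universe u
open CategoryTheory AlgebraicGeometry
open Gerb

namespace Groth.Agent.S16806

/-- An algebraic stack 𝒵 is reduced, locally Noetherian and has exactly one point if and only if it
receives a locally finitely presented, surjective, flat morphism from the spectrum of a field. -/
theorem result
    (S : Scheme.{u}) (𝒵 : AlgSt.Cat S) (h𝒵 : AlgSt.IsAlgStack Scheme.fppfPrecoverage 𝒵) :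
    (AlgSt.SmoothLocally (fun T => IsReduced T) 𝒵 ∧ AlgSt.SmoothLocally (fun T => IsLocallyNoetherian T) 𝒵 ∧
        Nonempty (AlgSt.Points 𝒵) ∧ Subsingleton (AlgSt.Points 𝒵)) ↔
      ∃ (k : Type u) (_ : Field k) (a : Spec (CommRingCat.of k) ⟶ S)
        (z : FibCat.overCat (Over.mk a) ⥤ᵇ 𝒵), AlgSt.RepByAlgSpWith (AlgSp.LocP @LocallyOfFinitePresentation) z ∧
          AlgSt.RepByAlgSpWith AlgSp.IsSurjectiveMor z ∧ AlgSt.RepByAlgSpWith (AlgSp.LocP @Flat) z := by
  have hfib : FibCat.IsFibGrpd 𝒵.p := h𝒵.isStack.1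
  constructor
  · rintro ⟨hred, hnoeth, hne, hsub⟩
    obtain ⟨k, _, a, z, hzs, hzf⟩ :=
      Groth.Agent.H64.FldPt.exists_flat_surj_field_of_reduced h𝒵 hred hne hsub
    obtain ⟨k', _, a', z', -, h2, h3, h4⟩ :=
      Groth.Agent.H64.FldPt.exists_lft_flat_surj_field h𝒵 a z hzs hzf
    exact ⟨k', inferInstance, a', z', h4 hnoeth, h2, h3⟩
  · rintro ⟨k, _, a, z, hzp, hzs, hzf⟩
    exact ⟨Groth.Agent.H64.FldPt.smoothLocally_isReduced_of_flat_surj_field a z hzs hzf,
      Groth.Agent.H64.FldPt.smoothLocally_isLocallyNoetherian_of_fppf_field a z hzp hzs hzf,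
      Groth.Agent.H64.FldPt.nonempty_points_of_field 𝒵 a z,
      Groth.Agent.H64.FldPt.subsingleton_points_of_surjective_field hfib a z hzs⟩

end Groth.Agent.S16806
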