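import Groth.Statements.S8901
import Groth.Agent.H8.RegularGerm

set_option autoImplicit false
universe u
open CategoryTheory CategoryTheory.Limits AlgebraicGeometry TopologicalSpace
open SDiv

namespace Groth.Agent.S8901

/-- In the local ring at a point without proper generizations every nonzerodivisor is a unit. -/
lemma isUnit_of_mem_nonZeroDivisors_of_generic {Y : Scheme.{u}} (η : Y)
    (hη : ∀ y : Y, y ⤳ η → y = η) (a : Y.presheaf.stalk η)
    (ha : a ∈ nonZeroDivisors (Y.presheaf.stalk η)) : IsUnit a := by
  by_contra hu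
  have hmem : a ∈ IsLocalRing.maximalIdeal (Y.presheaf.stalk η) := hu
  -- every prime of the local ring is the maximal ideal
  have hprime : ∀ q : PrimeSpectrum (Y.presheaf.stalk η),
      q = IsLocalRing.closedPoint (Y.presheaf.stalk η) := by
    intro q
    have hinj : Function.Injective (Y.fromSpecStalk η) :=
      (Y.fromSpecStalk η).isEmbedding.injective
    apply hinj
    have h1 : Y.fromSpecStalk η q ∈ Set.range (Y.fromSpecStalk η) := ⟨q, rfl⟩
    rw [Scheme.range_fromSpecStalk] at h1
    rw [hη _ h1, Scheme.fromSpecStalk_closedPoint]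
  have hnil : IsNilpotent a := by
    rw [← mem_nilradical, nilradical_eq_sInf, Ideal.mem_sInf]
    intro J hJ
    have := hprime ⟨J, hJ⟩
    have hJ' : J = IsLocalRing.maximalIdeal (Y.presheaf.stalk η) := congrArg (·.asIdeal) this
    rw [hJ']
    exact hmem
  obtain ⟨n, hn⟩ := hnil
  have h2 : a ^ n ∈ nonZeroDivisors (Y.presheaf.stalk η) := pow_mem ha n
  rw [hn] at h2
  exact zero_notMem_nonZeroDivisors h2

/-- Let f : X ⟶ Y be a morphism of schemes under which each weakly associated point of X (of O_X) goes
to a point of Y with no proper generization (the generic point of some irreducible component of Y).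
Then pullbacks of meromorphic functions are defined for f: for every open U ⊆ Y and every regular
section s of O_Y over U, the pulled-back section of O_X over f⁻¹U is regular. -/
theorem result {X Y : Scheme.{u}} (f : X ⟶ Y)
    (h : ∀ x : ↥X, Curv2.IsWeakAssPoint (Coh.structureModule X) x → ∀ y : ↥Y, y ⤳ f x → y = f x)
    (U : Y.Opens) (s : Γ(Y, U)) (hs : s ∈ Mero.regSub Y U) : f.app U s ∈ Mero.regSub X (f ⁻¹ᵁ U) := by
  intro x
  refine Groth.Agent.H8.germ_mem_nonZeroDivisors_of_weakAss (f.app U s) ?_ x.1 x.2
  intro y hy hyw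
  have hfy : f y ∈ U := hy
  have h1 : Y.presheaf.germ U (f y) hfy s ∈ nonZeroDivisors (Y.presheaf.stalk (f y)) :=
    hs ⟨f y, hfy⟩
  have h2 : IsUnit (Y.presheaf.germ U (f y) hfy s) :=
    isUnit_of_mem_nonZeroDivisors_of_generic (f y) (h y hyw) _ h1
  have h3 := h2.map (f.stalkMap y).hom
  rw [← Scheme.Hom.germ_stalkMap_apply f U y hfy s]
  exact h3.mem_nonZeroDivisors

end Groth.Agent.S8901
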