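import Groth.Statements.S1681
import Groth.Agent.H8.BlowUpAss
import Groth.Agent.S8901

set_option autoImplicit false
universe u
open CategoryTheory CategoryTheory.Limits AlgebraicGeometry TopologicalSpace
open SDiv

namespace Groth.Agent.S1681

/-- Maximality of a point can be tested inside an open neighbourhood. -/
lemma maximal_iff_subtype {T : Type*} [TopologicalSpace T] (V : Opens T) (z : V) :
    (∀ y : T, y ⤳ z.1 → y = z.1) ↔ (∀ y : V, y ⤳ z → y = z) := by
  have hind : Topology.IsInducing (Subtype.val : V → T) := Topology.IsInducing.subtypeVal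
  constructor
  · intro h y hy
    exact Subtype.ext (h y.1 (hy.map continuous_subtype_val))
  · intro h y hy
    have hyV : y ∈ V := hy.mem_open V.2 z.2
    have := h ⟨y, hyV⟩ (by rw [← hind.specializes_iff]; exact hy)
    exact congrArg Subtype.val this

lemma maximal_iff_homeomorph {S T : Type*} [TopologicalSpace S] [TopologicalSpace T] (h : S ≃ₜ T)
    (z : S) : (∀ y : S, y ⤳ z → y = z) ↔ (∀ y : T, y ⤳ h z → y = h z) := by
  constructor
  · intro H y hy
    have h1 : h.symm y ⤳ z := by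
      have := hy.map h.symm.continuous
      rwa [Homeomorph.symm_apply_apply] at this
    have := H _ h1
    rw [← this, Homeomorph.apply_symm_apply]
  · intro H y hy
    have h1 : h y ⤳ h z := hy.map h.continuous
    exact h.injective (H _ h1)

/-- For a morphism which is an isomorphism over an open `U`, maximality of points over `U` is
preserved and reflected. -/
lemma maximal_iff_of_isIso_restrict {X X' : Scheme.{u}} (f : X' ⟶ X) (U : X.Opens)
    [IsIso (f ∣_ U)] (x' : X') (hx' : f x' ∈ U) :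
    (∀ y : X', y ⤳ x' → y = x') ↔ (∀ y : X, y ⤳ f x' → y = f x') := by
  let h : ↥(f ⁻¹ᵁ U) ≃ₜ ↥U := Scheme.homeoOfIso (asIso (f ∣_ U))
  have hh : ∀ z : ↥(f ⁻¹ᵁ U), (h z).1 = f z.1 := fun z => morphismRestrict_base_coe f U z
  rw [maximal_iff_subtype (f ⁻¹ᵁ U) ⟨x', hx'⟩, maximal_iff_homeomorph h,
    ← maximal_iff_subtype U (h ⟨x', hx'⟩), hh]


set_option backward.isDefEq.respectTransparency false in
/-- A point without proper generizations lies outside every effective Cartier divisor. -/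
lemma notMem_support_of_maximal {X : Scheme.{u}} {𝓔 : X.IdealSheafData}
    (hE : BlowUp.IsEffCartierIdeal 𝓔) {x : X} (hx : ∀ y : X, y ⤳ x → y = x) : x ∉ 𝓔.support := by
  intro hxs
  obtain ⟨U, hxU, f, hf, hfI⟩ := hE x
  rw [Scheme.IdealSheafData.mem_support_iff_of_mem hxU, Scheme.mem_zeroLocus_iff] at hxs
  have h1 : x ∉ X.basicOpen f := hxs f (by
    rw [hfI]; exact Ideal.mem_span_singleton_self f)
  apply h1
  rw [X.mem_basicOpen f x hxU]
  exact Groth.Agent.S8901.isUnit_of_mem_nonZeroDivisors_of_generic x hx _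
    (Groth.Agent.H8.mem_regSub_of_mem_nonZeroDivisors U.2 hf ⟨x, hxU⟩)


/-- Let b : X' ⟶ X be a blowing-up of X along the quasi-coherent ideal sheaf 𝓘. Then b restricts to a
bijection from the maximal points of X' (points with no proper generization) onto the maximal points
of X not lying in the support of 𝓘. -/
theorem result {X X' : Scheme.{u}} (𝓘 : X.IdealSheafData) (b : X' ⟶ X) (hb : BlowUp.IsBlowUp b 𝓘) :
    Set.BijOn (fun x' => b x') {x' : ↥X' | ∀ y : ↥X', y ⤳ x' → y = x'}
      {x : ↥X | (∀ y : ↥X, y ⤳ x → y = x) ∧ x ∉ 𝓘.support} := by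
  have hiso : IsIso (b ∣_ 𝓘.support.compl) := Groth.Agent.S1682.result 𝓘 b hb
  have hoff : ∀ x' : X', (∀ y : X', y ⤳ x' → y = x') → b x' ∉ 𝓘.support := by
    intro x' hx' h
    apply notMem_support_of_maximal hb.1 hx'
    rw [Scheme.IdealSheafData.support_comap]
    exact h
  let h : ↥(b ⁻¹ᵁ 𝓘.support.compl) ≃ₜ ↥𝓘.support.compl := Scheme.homeoOfIso (asIso (b ∣_ 𝓘.support.compl))
  have hh : ∀ z : ↥(b ⁻¹ᵁ 𝓘.support.compl), (h z).1 = b z.1 :=
    fun z => morphismRestrict_base_coe b 𝓘.support.compl z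
  refine ⟨?_, ?_, ?_⟩
  · intro x' hx'
    exact ⟨(maximal_iff_of_isIso_restrict b 𝓘.support.compl x' (hoff x' hx')).mp hx', hoff x' hx'⟩
  · intro x₁ hx₁ x₂ hx₂ he
    have he' : b x₁ = b x₂ := he
    have h1 : h ⟨x₁, hoff x₁ hx₁⟩ = h ⟨x₂, hoff x₂ hx₂⟩ := Subtype.ext (by rw [hh, hh]; exact he')
    exact congrArg Subtype.val (h.injective h1)
  · rintro x ⟨hx, hxs⟩
    let z := h.symm ⟨x, hxs⟩
    have hz : b z.1 = x := by
      rw [← hh, Homeomorph.apply_symm_apply]
    refine ⟨z.1, ?_, hz⟩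
    have hz' : b z.1 ∈ 𝓘.support.compl := hz ▸ hxs
    exact (maximal_iff_of_isIso_restrict b 𝓘.support.compl z.1 hz').mpr (hz ▸ hx)

end Groth.Agent.S1681
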