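import Groth.Statements.S16835
import Groth.Agent.H68.InvEt.Global
-- import your own Groth.Agent.* helpers here

set_option autoImplicit false
universe u
open InvTh

namespace Groth.Agent.S16835

/-- Let R be a Noetherian commutative ring, A and B commutative R-algebras of finite type on which a
finite group G acts by R-algebra automorphisms, and B → A a G-equivariant homomorphism of
R-algebras. Assume that at every maximal ideal x of A, A is etale over B at x and the inertia
subgroup of x in G equals the inertia subgroup of its contraction to B. Give A^G the B^G-algebra
structure induced by B → A (compatible with B^G → B → A through A^G → A). Then A^G is etale over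
B^G. The source also asserts that the square formed by the quotient stacks and the invariant
quotients is cartesian; that clause is not stated. -/
theorem result (R : Type u)
    [CommRing R] [IsNoetherianRing R] (A B : Type u) [CommRing A] [CommRing B] [Algebra R A] [Algebra R B]
    [Algebra.FiniteType R A] [Algebra.FiniteType R B]
    (G : Type u) [Group G] [Finite G] [MulSemiringAction G A] [MulSemiringAction G B]
    [SMulCommClass G R A] [SMulCommClass G R B]
    [Algebra B A] [IsScalarTower R B A]
    (hGeq : ∀ (g : G) (b : B), algebraMap B A (g • b) = g • algebraMap B A b)
    [Algebra (FixedPoints.subalgebra R B G) (FixedPoints.subalgebra R A G)]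
    [IsScalarTower (FixedPoints.subalgebra R B G) (FixedPoints.subalgebra R A G) A]
    (h : ∀ (x : Ideal A) (_ : x.IsMaximal),
      Algebra.IsEtaleAt B x ∧ x.inertia G = (x.comap (algebraMap B A)).inertia G) :
    Algebra.Etale (FixedPoints.subalgebra R B G) (FixedPoints.subalgebra R A G) := by
  have hftBG : Algebra.FiniteType R (FixedPoints.subalgebra R B G) :=
    Groth.Agent.H68.IE.finiteType_invariants R (FixedPoints.subalgebra R B G) B G
      Subtype.val_injective (fun b hb => ⟨⟨b, hb⟩, rfl⟩)
  have hnoe : IsNoetherianRing (FixedPoints.subalgebra R B G) :=
    Algebra.FiniteType.isNoetherianRing R _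
  have h1 : Algebra.FiniteType (FixedPoints.subalgebra R B G) B :=
    Algebra.FiniteType.of_restrictScalars_finiteType R _ B
  have h2 : Algebra.FiniteType (FixedPoints.subalgebra R B G) A :=
    Algebra.FiniteType.of_restrictScalars_finiteType R _ A
  exact Groth.Agent.H68.IE.etale_invariants (FixedPoints.subalgebra R B G)
    (FixedPoints.subalgebra R A G) B A G Subtype.val_injective (fun g c => c.2 g)
    (fun b hb => ⟨⟨b, hb⟩, rfl⟩) Subtype.val_injective (fun g c => c.2 g)
    (fun a ha => ⟨⟨a, ha⟩, rfl⟩) hGeq h

end Groth.Agent.S16835
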