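import Groth.Statements.S16836

set_option autoImplicit false
universe u v
open scoped Classical
open AbVar

namespace Groth.Agent.S16836

open Polynomial UniqueFactorizationMonoid

section Aux

/-- The counting sum as a multiset sum. -/
theorem sum_count_eq {α : Type*} [DecidableEq α] (s t : Multiset α) (d : α → ℕ) :
    ∑ P ∈ s.toFinset, s.count P * t.count P * d P = (s.map fun P => t.count P * d P).sum := by
  rw [Finset.sum_multiset_map_count]
  refine Finset.sum_congr rfl fun P _ => ?_
  rw [smul_eq_mul, mul_assoc]

theorem sum_map_ite {α : Type*} [DecidableEq α] (t : Multiset α) (P : α) (d : ℕ) :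
    (t.map fun P' => if P = P' then d else 0).sum = t.count P * d := by
  induction t using Multiset.induction with
  | empty => simp
  | cons a t ih =>
    rw [Multiset.map_cons, Multiset.sum_cons, ih, Multiset.count_cons]
    by_cases h : P = a
    · rw [if_pos h, if_pos h]; ring
    · rw [if_neg h, if_neg h]; ring

variable {K : Type u} {L : Type v} [Field K] [Field L] [Algebra K L]

theorem normalizedFactors_map_eq (f : K[X]) (hf : f ≠ 0) :
    normalizedFactors (f.map (algebraMap K L)) =
      (normalizedFactors f).bind fun P => normalizedFactors (P.map (algebraMap K L)) := by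
  have h1 : Associated ((normalizedFactors f).prod) f := prod_normalizedFactors hf
  have h2 : Associated (((normalizedFactors f).prod).map (algebraMap K L)) (f.map (algebraMap K L)) :=
    h1.map (Polynomial.mapRingHom (algebraMap K L))
  rw [← h2.normalizedFactors_eq, Polynomial.map_multiset_prod, normalizedFactors_multiset_prod]
  · rw [Multiset.map_map]; rfl
  · intro h0
    rw [Multiset.mem_map] at h0
    obtain ⟨P, hP, hP0⟩ := h0
    have : P = 0 := by
      apply Polynomial.map_injective _ (algebraMap K L).injective
      rw [hP0, Polynomial.map_zero]
    exact (irreducible_of_normalized_factor P hP).ne_zero this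

theorem monic_of_mem_nf {F : Type*} [Field F] {g Q : F[X]} (hQ : Q ∈ normalizedFactors g) :
    Q.Monic := by
  rw [← normalize_normalized_factor Q hQ]
  exact Polynomial.monic_normalize (irreducible_of_normalized_factor Q hQ).ne_zero

theorem sum_natDegree_nf {F : Type*} [Field F] (g : F[X]) (hg : g ≠ 0) :
    ((normalizedFactors g).map natDegree).sum = g.natDegree := by
  rw [← Polynomial.natDegree_multiset_prod_of_monic _ (fun Q hQ => monic_of_mem_nf hQ)]
  exact Polynomial.natDegree_eq_of_degree_eq
    (Polynomial.degree_eq_degree_of_associated (prod_normalizedFactors hg))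

/-- The local term for two irreducible factors over `K`. -/
theorem rho_eq [PerfectField K] {f₁ f₂ P P' : K[X]} (hP : P ∈ normalizedFactors f₁)
    (hP' : P' ∈ normalizedFactors f₂) :
    ((normalizedFactors (P.map (algebraMap K L))).map fun Q =>
      (normalizedFactors (P'.map (algebraMap K L))).count Q * Q.natDegree).sum =
      if P = P' then P.natDegree else 0 := by
  have hPirr := irreducible_of_normalized_factor P hP
  have hP'irr := irreducible_of_normalized_factor P' hP'
  have hPm : P.Monic := monic_of_mem_nf hP
  have hP'm : P'.Monic := monic_of_mem_nf hP'
  have hmap0 : P.map (algebraMap K L) ≠ 0 := (hPm.map _).ne_zero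
  have hmap0' : P'.map (algebraMap K L) ≠ 0 := (hP'm.map _).ne_zero
  by_cases h : P = P'
  · subst h
    rw [if_pos rfl]
    have hsep : (P.map (algebraMap K L)).Separable :=
      (PerfectField.separable_of_irreducible hPirr).map
    have hnodup : (normalizedFactors (P.map (algebraMap K L))).Nodup :=
      (squarefree_iff_nodup_normalizedFactors hmap0).mp hsep.squarefree
    have : ((normalizedFactors (P.map (algebraMap K L))).map fun Q =>
        (normalizedFactors (P.map (algebraMap K L))).count Q * Q.natDegree) =
        (normalizedFactors (P.map (algebraMap K L))).map natDegree := by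
      refine Multiset.map_congr rfl fun Q hQ => ?_
      rw [Multiset.count_eq_one_of_mem hnodup hQ, one_mul]
    rw [this, sum_natDegree_nf _ hmap0, Polynomial.natDegree_map]
  · rw [if_neg h]
    have hcop : IsCoprime P P' := by
      rw [hPirr.coprime_iff_not_dvd]
      intro hdvd
      have hassoc : Associated P P' := hPirr.associated_of_dvd hP'irr hdvd
      exact h (Polynomial.eq_of_monic_of_associated hPm hP'm hassoc)
    have hcopL : IsCoprime (P.map (algebraMap K L)) (P'.map (algebraMap K L)) :=
      hcop.map (Polynomial.mapRingHom (algebraMap K L))
    apply Multiset.sum_eq_zero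
    intro x hx
    rw [Multiset.mem_map] at hx
    obtain ⟨Q, hQ, rfl⟩ := hx
    have hQ' : Q ∉ normalizedFactors (P'.map (algebraMap K L)) := by
      intro hQ'
      have hprime := prime_of_normalized_factor Q hQ
      have hd1 := dvd_of_mem_normalizedFactors hQ
      have hd2 := dvd_of_mem_normalizedFactors hQ'
      exact hprime.not_isUnit (hcopL.isUnit_of_dvd' hd1 hd2)
    rw [Multiset.count_eq_zero_of_notMem hQ', zero_mul]

end Aux

/-- Let K ⊆ L be a field extension and f₁, f₂ non-zero polynomials in K[t]. For a field F and
polynomials g₁, g₂ over F put r_F(g₁, g₂) = Σ_P mult_P(g₁) · mult_P(g₂) · deg P, the sum running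
over the monic irreducible polynomials P in F[t] (mult_P the multiplicity of P as an irreducible
factor). Assume K is perfect. Then r_K(f₁, f₂) = r_L(f₁, f₂): the number does not depend on the
field over which the factorisations are taken. (Perfectness of K cannot be dropped: for K = F_p(s),
L = K(s^{1/p}) and f₁ = f₂ = t^p − s the number is p over K and p² over L, since the irreducible t^p
− s becomes a p-th power over L; the published statement has no restriction on K, and its proof
requires the relevant K[t]-modules to remain semisimple after base change, which holds when every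
irreducible factor stays squarefree over L, in particular for K perfect.) -/
theorem result (K : Type u) (L : Type v) [Field K] [PerfectField K] [Field L] [Algebra K L]
    (f₁ f₂ : K[X]) (h₁ : f₁ ≠ 0) (h₂ : f₂ ≠ 0) :
    ∑ P ∈ (normalizedFactors (f₁.map (algebraMap K L))).toFinset,
        (normalizedFactors (f₁.map (algebraMap K L))).count P *
          (normalizedFactors (f₂.map (algebraMap K L))).count P * P.natDegree =
      ∑ P ∈ (normalizedFactors f₁).toFinset,
        (normalizedFactors f₁).count P * (normalizedFactors f₂).count P * P.natDegree := by
  rw [sum_count_eq, sum_count_eq, normalizedFactors_map_eq f₁ h₁, normalizedFactors_map_eq f₂ h₂]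
  rw [Multiset.map_bind, Multiset.sum_bind]
  congr 1
  refine Multiset.map_congr rfl fun P hP => ?_
  have : ∀ Q : L[X], ((normalizedFactors f₂).bind fun P' =>
      normalizedFactors (P'.map (algebraMap K L))).count Q * Q.natDegree =
      ((normalizedFactors f₂).map fun P' =>
        (normalizedFactors (P'.map (algebraMap K L))).count Q * Q.natDegree).sum := by
    intro Q
    rw [Multiset.count_bind, Multiset.sum_map_mul_right]
  simp_rw [this]
  rw [Multiset.sum_map_sum_map]
  rw [← sum_map_ite (normalizedFactors f₂) P P.natDegree]
  congr 1
  refine Multiset.map_congr rfl fun P' hP' => ?_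
  exact rho_eq hP hP'

end Groth.Agent.S16836
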