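import Groth.Statements.S16853
import Groth.Agent.H84.FrobFixed

set_option autoImplicit false
universe u v
open CAlg

namespace Groth.Agent.S16853

open Groth.Agent.H84

theorem result (k : Type u) [Field k] [IsAlgClosed k]
    (p : ℕ) [Fact p.Prime] [CharP k p] (ν : ℕ) (hν : 1 ≤ ν)
    (V : Type v) [AddCommGroup V] [Module k V] [FiniteDimensional k V]
    (φ : V →+ V) (hφ : ∀ (a : k) (v : V), φ (a • v) = a ^ (p ^ ν) • φ v) (hbij : Function.Bijective φ) :
    ∃ (ι : Type v) (b : Module.Basis ι k V), ∀ i, φ (b i) = b i := by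
  classical
  have hp : p.Prime := Fact.out
  set q : ℕ := p ^ ν with hq
  have hq2 : 2 ≤ q := by
    calc 2 ≤ p := hp.two_le
      _ = p ^ 1 := (pow_one p).symm
      _ ≤ p ^ ν := Nat.pow_le_pow_right hp.pos hν
  have hq0 : (q : k) = 0 := by
    rw [hq, Nat.cast_pow, CharP.cast_eq_zero k p, zero_pow (by omega)]
  let σ : k →+* k := iterateFrobenius k p ν
  have hσ : ∀ a, σ a = a ^ q := fun a => iterateFrobenius_def p ν a
  let Φ : V →ₛₗ[σ] V :=
    { toFun := φ
      map_add' := φ.map_add
      map_smul' := fun a v => by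
        change φ (a • v) = σ a • φ v
        rw [hσ, hφ] }
  have hΦ : ∀ v, Φ v = φ v := fun _ => rfl
  have hspan := span_fixed_eq_top σ q hσ hq2 hq0 Φ hbij.injective
  let b := Module.Basis.ofSpan (K := k) (s := {v : V | Φ v = v}) (le_of_eq hspan.symm)
  refine ⟨_, b, fun i => ?_⟩
  have hi : b i ∈ {v : V | Φ v = v} := Module.Basis.ofSpan_subset _ (Set.mem_range_self i)
  exact hi

end Groth.Agent.S16853
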