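import Groth.Statements.S16883
import Groth.Agent.H84.GerbeAux

set_option autoImplicit false
open CategoryTheory
universe v u
open Gerb

namespace Groth.Agent.S16883

open Groth.Agent.H84

/-- Let `𝒳`, `𝒴`, `𝒵` be stacks in groupoids over the site `(C, J)` and `F : 𝒳 ⟶ 𝒴`, `G : 𝒴 ⟶ 𝒵`
functors over `C`. If `𝒳` is a gerbe over `𝒴` along `F` and `𝒴` is a gerbe over `𝒵` along `G`, then
`𝒳` is a gerbe over `𝒵` along the composite functor. -/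
theorem result {C : Type u} [Category.{v} C] (J : GrothendieckTopology C)
    {𝒳 𝒴 𝒵 : BasedCategory.{v, max u v} C}
    (h𝒳 : Stk.IsStack J 𝒳) (h𝒴 : Stk.IsStack J 𝒴) (h𝒵 : Stk.IsStack J 𝒵)
    (F : 𝒳 ⥤ᵇ 𝒴) (G : 𝒴 ⥤ᵇ 𝒵)
    (hF : Gerb.IsGerbeOver J F) (hG : Gerb.IsGerbeOver J G) :
    Gerb.IsGerbeOver J (BasedFunctor.comp F G) := by
  have fX : FibCat.IsFibGrpd 𝒳.p := h𝒳.1
  have fY : FibCat.IsFibGrpd 𝒴.p := h𝒴.1
  refine ⟨?_, ?_⟩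
  · -- objects
    intro z
    obtain ⟨R, hR, hRz⟩ := hG.1 z
    refine exists_cover_of_local J
      (fun V k => ∃ (x : 𝒳.obj) (g : (BasedFunctor.comp F G).obj x ⟶ z), 𝒵.p.IsHomLift k g) R hR ?_
    intro V f hf
    obtain ⟨y, g, hg⟩ := hRz f hf
    have hy : 𝒴.p.obj y = V := (G.w_obj y).symm.trans (IsHomLift.domain_eq 𝒵.p f g)
    obtain ⟨R', hR', hRy⟩ := locSurjObj_free J hF.1 y hy
    refine ⟨R', hR', ?_⟩
    intro W k hk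
    obtain ⟨x, γ, hγ⟩ := hRy k hk
    have h1 : 𝒵.p.IsHomLift k (G.map γ) := inferInstance
    have h2 : 𝒵.p.IsHomLift f g := hg
    have h3 : 𝒵.p.IsHomLift (k ≫ f) (G.map γ ≫ g) := inferInstance
    exact ⟨x, G.map γ ≫ g, h3⟩
  · -- morphisms
    intro x x' b hb
    let b' : G.obj (F.obj x) ⟶ G.obj (F.obj x') := b
    have hb' : 𝒵.p.IsHomLift (𝟙 (𝒳.p.obj x)) b' := hb
    obtain ⟨R, hR, hRb⟩ := locSurjHom_free J hG.2 (F.obj x) (F.obj x') b' hb'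
    refine exists_cover_of_local J
      (fun V k => ∃ (x₀ : 𝒳.obj) (φ : x₀ ⟶ x) (ψ : x₀ ⟶ x'),
        𝒳.p.IsHomLift k φ ∧ 𝒳.p.IsHomLift k ψ ∧
          (BasedFunctor.comp F G).map φ ≫ b = (BasedFunctor.comp F G).map ψ) R hR ?_
    intro V f hf
    obtain ⟨y₀, φ, ψ, hφ, hψ, hφψ⟩ := hRb f hf
    -- pull back `x` and `x'` along `f`
    obtain ⟨xa, α, hα⟩ := fX.exists_lift (x := x) f
    have hx' : 𝒳.p.obj x' = 𝒳.p.obj x := by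
      have h1 := IsHomLift.codomain_eq 𝒵.p (𝟙 (𝒳.p.obj x)) b
      have h2 : 𝒵.p.obj (G.obj (F.obj x')) = 𝒳.p.obj x' :=
        (G.w_obj (F.obj x')).trans (F.w_obj x')
      exact h2.symm.trans h1
    obtain ⟨xb, β, hβ⟩ := exists_lift_free 𝒳.p fX hx' f
    have hFα : 𝒴.p.IsHomLift f (F.map α) := inferInstance
    have hFβ : 𝒴.p.IsHomLift f (F.map β) := inferInstance
    obtain ⟨χ, hχ, hχφ⟩ := exists_factor_of_fibGrpd 𝒴.p fY f (𝟙 V) f (by simp) φ (F.map α)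
    have hχψ : 𝒴.p.IsHomLift f (χ ≫ ψ) := inferInstance
    obtain ⟨c, hc, hcβ⟩ := exists_factor_of_fibGrpd 𝒴.p fY f (𝟙 V) f (by simp) (F.map β) (χ ≫ ψ)
    obtain ⟨R₂, hR₂, hRc⟩ := locSurjHom_free J hF.2 xa xb c hc
    refine ⟨R₂, hR₂, ?_⟩
    intro W k hk
    obtain ⟨x₂, φ₂, ψ₂, hφ₂, hψ₂, h₂⟩ := hRc k hk
    refine ⟨x₂, φ₂ ≫ α, ψ₂ ≫ β, inferInstance, inferInstance, ?_⟩
    change G.map (F.map (φ₂ ≫ α)) ≫ b' = G.map (F.map (ψ₂ ≫ β))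
    rw [F.map_comp, F.map_comp, ← h₂, Category.assoc, hcβ, ← hχφ]
    simp only [Functor.map_comp, Category.assoc]
    rw [hφψ]

end Groth.Agent.S16883
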