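import Groth.Statements.S16885
import Groth.Agent.H84.GerbeDesc
import Groth.Agent.H64.Stk.EquivOver

set_option autoImplicit false
open CategoryTheory
universe v₃ u₃ v₂ u₂ v u
open Gerb

namespace Groth.Agent.S16885

open Groth.Agent.H84

theorem basedFunctor_ext {C : Type u} [Category.{v} C] {𝒳 : BasedCategory.{v₂, u₂} C}
    {𝒴 : BasedCategory.{v₃, u₃} C} (F₁ F₂ : 𝒳 ⥤ᵇ 𝒴) (h : F₁.toFunctor = F₂.toFunctor) : F₁ = F₂ := by
  cases F₁; cases F₂; cases h; rfl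

/-- Let `𝒮₁`, `𝒮₂` be categories over `C` and `F : 𝒮₁ ⟶ 𝒮₂` a functor over `C` which is an equivalence
in the 2-category of categories over `C`. Then, for a topology `J` on `C`, `𝒮₁` is a gerbe over the
site `(C, J)` if and only if `𝒮₂` is. -/
theorem result {C : Type u} [Category.{v} C] (J : GrothendieckTopology C)
    {𝒮₁ 𝒮₂ : BasedCategory.{v, max u v} C} (F : 𝒮₁ ⥤ᵇ 𝒮₂) (hF : FibCat.IsEquivOver F) :
    Gerb.IsGerbe J 𝒮₁ ↔ Gerb.IsGerbe J 𝒮₂ := by
  have hst := Groth.Agent.H64.isStack_iff_of_isEquivOver J hF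
  have hcomp : BasedFunctor.comp F (FibCat.toSelf 𝒮₂) = FibCat.toSelf 𝒮₁ :=
    basedFunctor_ext _ _ F.w
  constructor
  · rintro ⟨h1, h2⟩
    refine ⟨hst.mp h1, ?_⟩
    rw [← hcomp] at h2
    exact isGerbeOver_of_equiv_comp J F hF _ h2
  · rintro ⟨h1, h2⟩
    refine ⟨hst.mpr h1, ?_⟩
    rw [← hcomp]
    exact isGerbeOver_equiv_comp J F hF _ h2

end Groth.Agent.S16885
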