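import Groth.Statements.S1689
-- import your own Groth.Agent.* helpers here
import Groth.Agent.H6.HomShRefl2
import Groth.Agent.H6.ReflRegular
import Groth.Agent.H6.FreeStalks

set_option autoImplicit false
universe u
open CategoryTheory CategoryTheory.Limits AlgebraicGeometry TopologicalSpace
open SDiv

namespace Groth.Agent.S1689

/-- Let X be a locally Noetherian scheme of dimension at most 2 all of whose local rings are regular,
and F a coherent module on X. Then F is reflexive (every stalk is a reflexive module over the local
ring) if and only if F is finite locally free. -/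
theorem result (X : Scheme.{u}) [IsLocallyNoetherian X]
    (hreg : ∀ x : ↥X, IsRegularLocalRing (X.presheaf.stalk x)) (hdim : topologicalKrullDim ↥X ≤ 2) (F : X.Modules)
    (hF : Coh.IsCoh F) : (∀ x : ↥X, Module.IsReflexive (X.presheaf.stalk x) (F.presheaf.stalk x)) ↔ FlatMod.IsFinLocFree F := by
  have hqc : F.IsQuasicoherent := hF.1
  constructor
  · intro h
    apply Groth.Agent.H6.FreeStalks.isFinLocFree_of_free_stalks F hF
    intro x
    have := hreg x
    have : Module.Finite (X.presheaf.stalk x) (F.presheaf.stalk x) :=
      Groth.Agent.H6.HomSh.finite_stalk_of_isCoh F hF x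
    have := h x
    exact Groth.Agent.H6.ReflRegular.free_of_isReflexive_of_dim_le_two (X.presheaf.stalk x)
      (Groth.Agent.H6.FreeStalks.ringKrullDim_stalk_le 2 hdim x) (F.presheaf.stalk x)
  · intro h x
    have : Module.Finite (X.presheaf.stalk x) (F.presheaf.stalk x) :=
      Groth.Agent.H6.HomSh.finite_stalk_of_isCoh F hF x
    have : Module.Free (X.presheaf.stalk x) (F.presheaf.stalk x) :=
      Groth.Agent.H71.QCoh.free_stalks_of_isFinLocFree F h x
    infer_instance

end Groth.Agent.S1689
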