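import Groth.Statements.S1690
-- import your own Groth.Agent.* helpers here
import Groth.Agent.H6.ReflExt

set_option autoImplicit false
universe u
open CategoryTheory CategoryTheory.Limits AlgebraicGeometry TopologicalSpace
open SDiv

namespace Groth.Agent.S1690

/-- (1) if and only if (3): let X be an integral locally Noetherian normal scheme and F a coherent
module. Then F is reflexive (stalkwise) if and only if there is an open subscheme j : U ⟶ X such
that every point outside U has local ring of dimension at least 2, the restriction of F to U is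
finite locally free, and the canonical map F ⟶ j_* j^* F is an isomorphism. -/
theorem result (X : Scheme.{u}) [IsIntegral X] [IsLocallyNoetherian X] (hX : Pi1.IsNormalScheme X)
    (F : X.Modules) (hF : Coh.IsCoh F) :
    (∀ x : ↥X, Module.IsReflexive (X.presheaf.stalk x) (F.presheaf.stalk x)) ↔
      ∃ U : X.Opens, (∀ x : ↥X, x ∉ U → (2 : WithBot ℕ∞) ≤ ringKrullDim (X.presheaf.stalk x)) ∧
        FlatMod.IsFinLocFree (F.restrict U.ι) ∧ IsIso ((Scheme.Modules.restrictAdjunction U.ι).unit.app F) := by
  have : F.IsQuasicoherent := hF.1
  constructor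
  · intro hrefl
    have htf : ∀ x : X, Module.IsTorsionFree (X.presheaf.stalk x) (F.presheaf.stalk x) := by
      intro x
      have := hrefl x
      have : IsDomain (X.presheaf.stalk x) := (hX x).1
      infer_instance
    obtain ⟨U, hU, hlf⟩ := Groth.Agent.H67.FreeLocus.exists_open_isFinLocFree hX F hF htf
    refine ⟨U, hU, hlf, ?_⟩
    apply Groth.Agent.H6.HartogsMod.isIso_unit_app X F hF U
    intro x hx
    have : IsDomain (X.presheaf.stalk x) := (hX x).1
    have : IsIntegrallyClosed (X.presheaf.stalk x) := (hX x).2
    have : Module.Finite (X.presheaf.stalk x) (F.presheaf.stalk x) :=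
      Groth.Agent.H6.HomSh.finite_stalk_of_isCoh F hF x
    have := hrefl x
    exact Groth.Agent.H6.NormalDepth.two_le_depth_of_isReflexive_of_normal _ (hU x hx) _
  · rintro ⟨U, -, hlf, hiso⟩
    have := hiso
    intro x
    refine Groth.Agent.H6.ReflExt.isReflexive_stalks_of_bijective_res X F hF U ?_
      (fun V => Groth.Agent.H6.ReflExt.bijective_res_of_isIso_unit X F U V) x
    intro y hy
    have : Module.Finite (X.presheaf.stalk y) (F.presheaf.stalk y) :=
      Groth.Agent.H6.HomSh.finite_stalk_of_isCoh F hF y
    have := Groth.Agent.H6.ReflExt.free_stalk_of_isFinLocFree_restrict X F U hlf y hy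
    infer_instance

end Groth.Agent.S1690
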