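import Groth.Statements.S16900
import Groth.Agent.H74.CycCovFinal

set_option autoImplicit false
universe u
open Polynomial
open Vanish

namespace Groth.Agent.S16900

/-- Let k be an algebraically closed field and B an integral domain of finite type over k all of whose
localizations at primes are regular (an affine open Spec B of a manifold); let N ≥ 1 be invertible
in k, u a unit of B, α a natural number and f₁ ≠ 0 an element of B such that all local rings of
B/f₁B are regular (the divisor D₁ = V(f₁) is non-singular; f₁ may be a unit). With A' = B[t]/(t^N −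
u·f₁^α) (the algebra of the N-th root of the section u·f₁^α) and K = A'[1/f₁], let A ⊆ K be the
B-subalgebra generated by the N elements t^i · f₁^(−⌊iα/N⌋), 0 ≤ i < N. Then A is finite over B, A
is the integral closure of A' in K (Spec A is the normalization of Spec A', finite and normal over
Spec B), and Spec A is non-singular: every localization of A at a prime ideal is a regular local
ring. -/
theorem result (k : Type u) [Field k] [IsAlgClosed k]
    (B : Type u) [CommRing B] [IsDomain B] [Algebra k B] [Algebra.FiniteType k B]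
    (hreg : ∀ (P : Ideal B) [P.IsPrime], IsRegularLocalRing (Localization.AtPrime P))
    (N : ℕ) (hN : 0 < N) (hNk : IsUnit ((N : ℕ) : k)) (u : Bˣ) (α : ℕ) (f₁ : B) (hf₁ : f₁ ≠ 0)
    (hD : ∀ (P : Ideal (B ⧸ Ideal.span ({f₁} : Set B))) [P.IsPrime], IsRegularLocalRing (Localization.AtPrime P))
    (A : Subalgebra B (Localization.Away
      (algebraMap B (AdjoinRoot (X ^ N - C ((u : B) * f₁ ^ α) : B[X])) f₁)))
    (hA : A = Algebra.adjoin B (Set.range fun i : Fin N =>
      algebraMap (AdjoinRoot (X ^ N - C ((u : B) * f₁ ^ α) : B[X])) (Localization.Away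
        (algebraMap B (AdjoinRoot (X ^ N - C ((u : B) * f₁ ^ α) : B[X])) f₁))
        (AdjoinRoot.root (X ^ N - C ((u : B) * f₁ ^ α) : B[X]) ^ (i : ℕ)) *
      IsLocalization.Away.invSelf (S := Localization.Away
        (algebraMap B (AdjoinRoot (X ^ N - C ((u : B) * f₁ ^ α) : B[X])) f₁))
        (algebraMap B (AdjoinRoot (X ^ N - C ((u : B) * f₁ ^ α) : B[X])) f₁) ^ ((i : ℕ) * α / N))) :
    Module.Finite B A ∧
      IsIntegralClosure A (AdjoinRoot (X ^ N - C ((u : B) * f₁ ^ α) : B[X]))
        (Localization.Away (algebraMap B (AdjoinRoot (X ^ N - C ((u : B) * f₁ ^ α) : B[X])) f₁)) ∧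
      ∀ (Q : Ideal A) [Q.IsPrime], IsRegularLocalRing (Localization.AtPrime Q) := by
  classical
  have : IsNoetherianRing B := Algebra.FiniteType.isNoetherianRing k B
  have : IsRegularRing B := isRegularRing_iff.mpr (fun P _ => hreg P)
  have : IsRegularRing (B ⧸ Ideal.span ({f₁} : Set B)) :=
    isRegularRing_iff.mpr (fun P _ => hD P)
  have hNu : IsUnit ((N : ℕ) : B) := by
    have := hNk.map (algebraMap k B)
    rwa [map_natCast] at this
  obtain ⟨h1, h2, h3⟩ := Groth.Agent.H74.CycCovFinal.main N hN hNu u α f₁ hf₁
  have hgens : A = Algebra.adjoin B (Groth.Agent.H74.CycCovModelI.gens (B := B) N α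
      (Groth.Agent.H74.CycCovFinal.kdata N u α f₁).t
      (Groth.Agent.H74.CycCovFinal.kdata N u α f₁).finv) := by
    rw [hA]
    congr 1
    unfold Groth.Agent.H74.CycCovModelI.gens
    congr 1
    funext i
    simp only [Groth.Agent.H74.CycCovFinal.kdata, map_pow]
  subst hgens
  have : Module.Finite B (AdjoinRoot (X ^ N - C ((u : B) * f₁ ^ α) : B[X])) :=
    (monic_X_pow_sub_C _ hN.ne').finite_adjoinRoot
  refine ⟨h1, ?_, fun Q _ => IsRegularRing.isRegularLocalRing_localization Q⟩
  constructor
  · exact Subtype.val_injective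
  · intro x
    constructor
    · intro hx
      have hxB : IsIntegral B x :=
        isIntegral_trans (R := B) (A := AdjoinRoot (X ^ N - C ((u : B) * f₁ ^ α) : B[X])) x hx
      exact ⟨⟨x, (h3 x).mp hxB⟩, rfl⟩
    · rintro ⟨y, rfl⟩
      exact ((h3 y.1).mpr y.2).tower_top

end Groth.Agent.S16900
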