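import Groth.Statements.S16919
import Groth.Agent.H84.TrdegIso
import Mathlib.RingTheory.FiniteStability

set_option autoImplicit false
universe u
open TensorProduct
open CAlg

namespace Groth.Agent.S16919

open Cardinal in
/-- Let k₀ → k be an extension of fields with k algebraically closed and of infinite transcendence
degree over k₀, R₀ a finitely generated k₀-algebra whose base change R = k ⊗ R₀ is an integral
domain (so Spec R is an integral affine k-scheme of finite type with the model Spec R₀ over k₀), and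
P a k-point of Spec R, i.e. a k-algebra homomorphism ev : R → k, lying over the generic point of
Spec R₀, i.e. with ev injective on R₀. Then there is a field isomorphism e from an algebraic closure
of the fraction field of R (the function field of Spec R) onto k such that e(1 ⊗ r) = ev(1 ⊗ r) for
every r in R₀: e extends evaluation at P on R₀. (The published setting has k algebraically closed of
characteristic zero and of infinite transcendence degree over its prime field, and k₀ the subfield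
generated by the coefficients of equations of Spec R, which is finitely generated over the prime
field, so that k has infinite transcendence degree over k₀; only this last property and no
characteristic assumption enter here. The isomorphism is not canonical.) -/
theorem result (k₀ k : Type u)
    [Field k₀] [Field k] [Algebra k₀ k] [IsAlgClosed k] (hinf : ∃ x : ℕ → k, AlgebraicIndependent k₀ x)
    (R₀ : Type u) [CommRing R₀] [Algebra k₀ R₀] [Algebra.FiniteType k₀ R₀] [IsDomain (k ⊗[k₀] R₀)]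
    (ev : k ⊗[k₀] R₀ →ₐ[k] k) (hP : Function.Injective fun r : R₀ => ev (1 ⊗ₜ[k₀] r)) :
    ∃ e : AlgebraicClosure (FractionRing (k ⊗[k₀] R₀)) ≃+* k,
      ∀ r : R₀, e (algebraMap (k ⊗[k₀] R₀) (AlgebraicClosure (FractionRing (k ⊗[k₀] R₀)))
        (1 ⊗ₜ[k₀] r)) = ev (1 ⊗ₜ[k₀] r) := by
  classical
  let incl : R₀ →ₐ[k₀] k ⊗[k₀] R₀ := Algebra.TensorProduct.includeRight
  have hincl : Function.Injective incl := fun a b hab => hP (congrArg ev hab)
  let ι₂ : R₀ →+* k := (ev : k ⊗[k₀] R₀ →+* k).comp (incl : R₀ →+* k ⊗[k₀] R₀)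
  have hι₂ : Function.Injective ι₂ := hP
  have hcompat : ∀ x : k₀, ι₂ (algebraMap k₀ R₀ x) = algebraMap k₀ k x := by
    intro x
    change ev (incl (algebraMap k₀ R₀ x)) = algebraMap k₀ k x
    rw [incl.commutes, IsScalarTower.algebraMap_apply k₀ k (k ⊗[k₀] R₀), ev.commutes]
    rfl
  have hntR₀ : Nontrivial R₀ := RingHom.domain_nontrivial (incl : R₀ →+* k ⊗[k₀] R₀)
  -- the cardinal
  have hκ : ℵ₀ ≤ Algebra.trdeg k₀ k := by
    obtain ⟨x, hx⟩ := hinf
    have := hx.lift_cardinalMk_le_trdeg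
    simpa using this
  have h1 := Groth.Agent.H84.trdeg_toAlgebra_eq ι₂ hι₂ hcompat hκ
  -- now the `R₀`-algebra structure on `k ⊗ R₀` through the right factor
  letI a1 : Algebra R₀ (k ⊗[k₀] R₀) := (incl : R₀ →+* k ⊗[k₀] R₀).toAlgebra
  have t1 : IsScalarTower k₀ R₀ (k ⊗[k₀] R₀) :=
    IsScalarTower.of_algebraMap_eq (fun x => (incl.commutes x).symm)
  have f1 : FaithfulSMul k₀ R₀ :=
    (faithfulSMul_iff_algebraMap_injective k₀ R₀).mpr (algebraMap k₀ R₀).injective
  have f3 : FaithfulSMul R₀ (k ⊗[k₀] R₀) :=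
    (faithfulSMul_iff_algebraMap_injective R₀ (k ⊗[k₀] R₀)).mpr hincl
  have f4 : FaithfulSMul k (k ⊗[k₀] R₀) :=
    (faithfulSMul_iff_algebraMap_injective k (k ⊗[k₀] R₀)).mpr (algebraMap k (k ⊗[k₀] R₀)).injective
  have hinjRK : Function.Injective
      (algebraMap (k ⊗[k₀] R₀) (AlgebraicClosure (FractionRing (k ⊗[k₀] R₀)))) := by
    rw [IsScalarTower.algebraMap_eq (k ⊗[k₀] R₀) (FractionRing (k ⊗[k₀] R₀))
      (AlgebraicClosure (FractionRing (k ⊗[k₀] R₀)))]
    exact (algebraMap (FractionRing (k ⊗[k₀] R₀))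
      (AlgebraicClosure (FractionRing (k ⊗[k₀] R₀)))).injective.comp
      (IsFractionRing.injective (k ⊗[k₀] R₀) (FractionRing (k ⊗[k₀] R₀)))
  have f5 : FaithfulSMul (k ⊗[k₀] R₀) (AlgebraicClosure (FractionRing (k ⊗[k₀] R₀))) :=
    (faithfulSMul_iff_algebraMap_injective _ _).mpr hinjRK
  have hmapK : ∀ r : R₀, algebraMap R₀ (AlgebraicClosure (FractionRing (k ⊗[k₀] R₀))) r =
      algebraMap (k ⊗[k₀] R₀) (AlgebraicClosure (FractionRing (k ⊗[k₀] R₀))) (1 ⊗ₜ[k₀] r) := by
    intro r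
    rw [IsScalarTower.algebraMap_apply R₀ (k ⊗[k₀] R₀)
      (AlgebraicClosure (FractionRing (k ⊗[k₀] R₀)))]
    rfl
  have f6 : FaithfulSMul R₀ (AlgebraicClosure (FractionRing (k ⊗[k₀] R₀))) := by
    rw [faithfulSMul_iff_algebraMap_injective]
    intro a b hab
    rw [hmapK, hmapK] at hab
    exact hincl (hinjRK hab)
  have hfin₀ : Algebra.trdeg k₀ R₀ < ℵ₀ := trdeg_lt_aleph0_of_finiteType
  have hfin₁ : Algebra.trdeg k (k ⊗[k₀] R₀) < ℵ₀ := trdeg_lt_aleph0_of_finiteType
  have h2 : Algebra.trdeg k₀ (k ⊗[k₀] R₀) = Algebra.trdeg k₀ k := by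
    rw [← trdeg_add_eq k₀ k (A := k ⊗[k₀] R₀)]
    exact Cardinal.add_eq_left hκ (hfin₁.le.trans hκ)
  have h3 : Algebra.trdeg R₀ (k ⊗[k₀] R₀) = Algebra.trdeg k₀ k := by
    have := trdeg_add_eq k₀ R₀ (A := k ⊗[k₀] R₀)
    rw [h2] at this
    exact Cardinal.eq_of_add_eq_of_aleph0_le this (hfin₀.trans_le hκ) hκ
  have halg : Algebra.IsAlgebraic (k ⊗[k₀] R₀) (AlgebraicClosure (FractionRing (k ⊗[k₀] R₀))) := by
    have : Algebra.IsAlgebraic (k ⊗[k₀] R₀) (FractionRing (k ⊗[k₀] R₀)) :=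
      IsLocalization.isAlgebraic _ (nonZeroDivisors (k ⊗[k₀] R₀))
    exact Algebra.IsAlgebraic.trans (k ⊗[k₀] R₀) (FractionRing (k ⊗[k₀] R₀)) _
  have h4 : Algebra.trdeg R₀ (AlgebraicClosure (FractionRing (k ⊗[k₀] R₀))) =
      Algebra.trdeg k₀ k := by
    rw [← trdeg_add_eq R₀ (k ⊗[k₀] R₀) (A := AlgebraicClosure (FractionRing (k ⊗[k₀] R₀))),
      trdeg_eq_zero (R := k ⊗[k₀] R₀), add_zero, h3]
  obtain ⟨E, hE⟩ := Groth.Agent.H84.exists_ringEquiv_of_trdeg_eq' ι₂ hι₂ (h4.trans h1.symm)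
  refine ⟨E, fun r => ?_⟩
  rw [← hmapK, hE]
  rfl

end Groth.Agent.S16919
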