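import Groth.Statements.S1693
import Groth.Agent.H9.IrredComp

set_option autoImplicit false
universe u
open CategoryTheory CategoryTheory.Limits AlgebraicGeometry TopologicalSpace
open SDiv

namespace Groth.Agent.S1693

/-- Let X be a locally Noetherian scheme and Z a closed subset. Then the irreducible components of Z
form a locally finite family of subsets of X. -/
theorem result (X : Scheme.{u}) [IsLocallyNoetherian X] (Z : Set ↥X) (hZ : IsClosed Z) :
    LocallyFinite (fun T : ↥(irreducibleComponents ↥Z) => ((↑) '' (T.1 : Set ↥Z) : Set ↥X)) := by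
  intro x
  obtain ⟨U, hU, hxU, -⟩ := exists_isAffineOpen_mem_and_subset (U := ⊤) (x := x) (by simp)
  have hN : NoetherianSpace ((U : Set X) : Type u) := by
    have : IsNoetherianRing Γ(X, U) := IsLocallyNoetherian.component_noetherian ⟨U, hU⟩
    exact noetherianSpace_of_isAffineOpen U hU
  refine ⟨(U : Set X), U.isOpen.mem_nhds hxU, ?_⟩
  -- the open subset of `Z` lying over `U`
  let V : Set ↥Z := Subtype.val ⁻¹' (U : Set X)
  have hVo : IsOpen V := U.isOpen.preimage continuous_subtype_val
  have hind : Topology.IsInducing (fun z : V => (⟨z.1.1, z.2⟩ : ((U : Set X) : Type u))) := by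
    have h1 : Topology.IsInducing (fun z : V => (z.1.1 : X)) :=
      Topology.IsInducing.subtypeVal.comp Topology.IsInducing.subtypeVal
    exact Topology.IsInducing.of_comp (by fun_prop) continuous_subtype_val h1
  have : NoetherianSpace V := hind.noetherianSpace
  refine (Groth.Agent.H9.finite_irreducibleComponents_meeting V hVo).subset ?_
  rintro T ⟨y, ⟨z, hzT, rfl⟩, hzU⟩
  exact ⟨z, hzT, hzU⟩

end Groth.Agent.S1693
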