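import Groth.Statements.S16962
import Groth.Agent.H84.ConstActAux

set_option autoImplicit false
universe u
open ConstAct

namespace Groth.Agent.S16962

open Groth.Agent.H84

open TensorProduct in
theorem result (R : Type u) [CommRing R]
    (B : Type u) [CommRing B] [Algebra R B] (Γ : Type u) [Group Γ] [Fintype Γ] [DecidableEq Γ]
    [HopfRep.Comod R (ConstGrp.F R Γ) B] [GLin.IsCoactAlg R (ConstGrp.F R Γ) B] :
    ∃! a : MulSemiringAction Γ B, ∃ _ : SMulCommClass Γ R B,
      ConstAct.coactLin R B Γ = HopfRep.Comod.coact (k := R) (A := ConstGrp.F R Γ) (V := B) ∧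
        GLin.invariants R (ConstGrp.F R Γ) B = ConstAct.inv R B Γ := by
  refine ⟨actionOfCoact R B Γ, ⟨actionOfCoact_smulComm R B Γ, ?_, ?_⟩, ?_⟩
  · -- the coaction of the constructed action is the given one
    letI := actionOfCoact R B Γ
    haveI := actionOfCoact_smulComm R B Γ
    apply LinearMap.ext
    intro b
    rw [ConstAct.coactLin_apply]
    exact (decomp R B Γ (HopfRep.Comod.coact (k := R) (A := ConstGrp.F R Γ) b)).symm
  · letI := actionOfCoact R B Γ
    haveI := actionOfCoact_smulComm R B Γ
    ext b
    rw [GLin.mem_invariants_iff, ConstAct.mem_inv]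
    constructor
    · intro hb γ
      change actHom R B Γ γ b = b
      rw [actHom_apply, hb, evB_tmul]
      simp
    · intro hb
      rw [decomp R B Γ (HopfRep.Comod.coact (k := R) (A := ConstGrp.F R Γ) b)]
      have : ∀ γ : Γ, evB R B Γ γ (HopfRep.Comod.coact (k := R) (A := ConstGrp.F R Γ) b) = b :=
        fun γ => hb γ
      simp_rw [this]
      rw [← TensorProduct.tmul_sum, ConstGrp.sum_e]
  · -- uniqueness
    rintro a' ⟨hc', hco', -⟩
    have hsmul : ∀ (γ : Γ) (b : B), a'.smul γ b = actHom R B Γ γ b := by
      intro γ b
      rw [actHom_apply, ← hco']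
      rw [@ConstAct.coactLin_apply R _ B _ _ Γ _ _ _ a' hc' b]
      exact (evB_sum_e R B Γ γ (fun g => a'.smul g b)).symm
    -- structures with the same scalar multiplication are equal
    have : a'.toDistribMulAction = (actionOfCoact R B Γ).toDistribMulAction := by
      apply DistribMulAction.ext
      funext γ b
      exact hsmul γ b
    cases a' with
    | mk h1 h2 =>
      simp only at this
      subst this
      rfl

end Groth.Agent.S16962
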