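import Groth.Statements.S16963
import Groth.Agent.H84.ConstActAux

set_option autoImplicit false
universe u
open scoped BigOperators
open ConstAct

namespace Groth.Agent.S16963

open Groth.Agent.H84

open TensorProduct in
theorem result (R : Type u) [CommRing R]
    (B : Type u) [CommRing B] [Algebra R B] (Γ : Type u) [Group Γ] [Fintype Γ] [DecidableEq Γ]
    [MulSemiringAction Γ B] [SMulCommClass Γ R B] :
    letI := ConstAct.comod R B Γ
    (∃ α : ConstGrp.F R Γ →ₗ[R] B, Hoch.IsComodHom (ConstGrp.F R Γ) α ∧ α 1 = 1) ↔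
      ∀ c : B, c ∈ ConstAct.inv R B Γ → ∃ b : B, ∑ γ : Γ, γ • b = c := by
  letI := ConstAct.comod R B Γ
  constructor
  · rintro ⟨α, hα, hα1⟩ c hc
    -- the comodule map identity on `e 1`, evaluated at `h`
    have key : ∀ h : Γ, h • α (ConstGrp.e R 1) = α (ConstGrp.e R h⁻¹) := by
      intro h
      have h1 := LinearMap.congr_fun hα (ConstGrp.e R (1 : Γ))
      simp only [LinearMap.comp_apply] at h1
      have h2 := congrArg (evB R B Γ h) h1
      change evB R B Γ h (ConstAct.coactLin R B Γ (α (ConstGrp.e R 1))) =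
        evB R B Γ h (α.rTensor (ConstGrp.F R Γ)
          (Coalgebra.comul (R := R) (A := ConstGrp.F R Γ) (ConstGrp.e R 1))) at h2
      rw [ConstAct.coactLin_apply, evB_sum_e R B Γ h (fun g => g • α (ConstGrp.e R 1)),
        ConstGrp.comul_e, map_sum] at h2
      simp only [LinearMap.rTensor_tmul, mul_one] at h2
      rw [h2]
      have := evB_sum_e R B Γ h (fun g => α (ConstGrp.e R g⁻¹))
      rw [← this]
      congr 1
      exact Fintype.sum_equiv (Equiv.inv Γ) _ _ (fun a => by simp)
    have htr : ∑ γ : Γ, γ • α (ConstGrp.e R 1) = 1 := by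
      simp_rw [key]
      rw [← hα1, ← ConstGrp.sum_e (R := R) (G := Γ), map_sum]
      exact Fintype.sum_equiv (Equiv.inv Γ) _ _ (fun a => rfl)
    refine ⟨c * α (ConstGrp.e R 1), ?_⟩
    rw [ConstAct.mem_inv] at hc
    simp_rw [smul_mul', hc]
    rw [← Finset.mul_sum, htr, mul_one]
  · intro h
    obtain ⟨b, hb⟩ := h 1 (Subalgebra.one_mem _)
    let α : ConstGrp.F R Γ →ₗ[R] B := (ConstGrp.basis R Γ).constr R (fun g => g⁻¹ • b)
    have hαe : ∀ g, α (ConstGrp.e R g) = g⁻¹ • b := by
      intro g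
      rw [← ConstGrp.basis_apply, Module.Basis.constr_basis]
    refine ⟨α, ?_, ?_⟩
    · change ConstAct.coactLin R B Γ ∘ₗ α =
        α.rTensor (ConstGrp.F R Γ) ∘ₗ (Coalgebra.comul (R := R) (A := ConstGrp.F R Γ))
      apply ConstGrp.linearMap_ext
      intro g
      simp only [LinearMap.comp_apply, ConstAct.coactLin_apply, ConstGrp.comul_e, map_sum,
        LinearMap.rTensor_tmul, hαe]
      refine Fintype.sum_equiv ((Equiv.mulRight g⁻¹).trans (Equiv.inv Γ)) _ _ (fun h => ?_)
      simp [mul_smul]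
    · rw [← ConstGrp.sum_e (R := R) (G := Γ), map_sum]
      simp_rw [hαe]
      rw [← hb]
      exact Fintype.sum_equiv (Equiv.inv Γ) _ _ (fun a => rfl)

end Groth.Agent.S16963
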