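import Groth.Statements.S16979
import Mathlib.LinearAlgebra.Matrix.Charpoly.Eigs
import Mathlib.LinearAlgebra.Matrix.Charpoly.Coeff
import Mathlib.FieldTheory.IsAlgClosed.AlgebraicClosure
import Mathlib.FieldTheory.IsAlgClosed.Spectrum

set_option autoImplicit false
universe u v
open CAlg

namespace Groth.Agent.S16979

open Polynomial

theorem result
    {R : Type u} [CommRing R] [IsDomain R] {n : Type v} [Fintype n] [DecidableEq n]
    (φ : Matrix n n R)
    (hsep : (φ.charpoly.map (algebraMap R (FractionRing R))).Separable) :
    RingHom.ker (Polynomial.aeval (R := R) φ) = Ideal.span {φ.charpoly} := by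
  apply le_antisymm
  · intro f hf
    rw [RingHom.mem_ker] at hf
    rw [Ideal.mem_span_singleton]
    by_cases hf0 : f = 0
    · rw [hf0]; exact dvd_zero _
    let K := FractionRing R
    let L := AlgebraicClosure K
    let ι : R →+* L := (algebraMap K L).comp (algebraMap R K)
    have hι : Function.Injective ι :=
      (algebraMap K L).injective.comp (IsFractionRing.injective R K)
    -- the matrix over L
    let A : Matrix n n L := ι.mapMatrix φ
    have hchar : A.charpoly = φ.charpoly.map ι := Matrix.charpoly_map φ ι
    have hsepL : (A.charpoly).Separable := by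
      rw [hchar, ← Polynomial.map_map]
      exact hsep.map
    have hA : aeval A (f.map ι) = 0 := by
      have := Polynomial.map_aeval_eq_aeval_map (φ := ι) (ψ := ι.mapMatrix)
        (by ext r i j; simp [Matrix.algebraMap_matrix_apply]; split_ifs <;> simp) f φ
      rw [← this, hf, map_zero]
    have hfL0 : f.map ι ≠ 0 := (Polynomial.map_ne_zero_iff hι).mpr hf0
    -- every root of the charpoly is a root of f
    have hroots : A.charpoly.roots ≤ (f.map ι).roots := by
      rw [Multiset.le_iff_subset (nodup_roots hsepL)]
      intro μ hμ
      rw [mem_roots (Matrix.charpoly_monic A).ne_zero] at hμ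
      rw [mem_roots hfL0]
      have hspec : μ ∈ spectrum L A := Matrix.mem_spectrum_iff_isRoot_charpoly.mpr hμ
      have : Nontrivial (Matrix n n L) := by
        by_contra h
        rw [not_nontrivial_iff_subsingleton] at h
        have h0 := spectrum.of_subsingleton (R := L) A
        rw [h0] at hspec
        exact hspec
      have := spectrum.subset_polynomial_aeval A (f.map ι) ⟨μ, hspec, rfl⟩
      rw [hA, spectrum.zero_eq, Set.mem_singleton_iff] at this
      exact this
    have hdvd : A.charpoly ∣ f.map ι :=
      (IsAlgClosed.splits _).dvd_of_roots_le_roots (Matrix.charpoly_monic A).ne_zero hroots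
    rw [hchar] at hdvd
    exact (Polynomial.map_dvd_map ι hι (Matrix.charpoly_monic φ)).mp hdvd
  · rw [Ideal.span_le, Set.singleton_subset_iff]
    exact RingHom.mem_ker.mpr (Matrix.aeval_self_charpoly φ)

end Groth.Agent.S16979
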