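import Groth.Statements.S16983
import Mathlib.Tactic
import Mathlib.Algebra.Order.Floor.Ring
import Mathlib.RingTheory.Coprime.Lemmas
import Mathlib.Algebra.Order.BigOperators.Group.Finset

set_option autoImplicit false
universe u
open DeformData

namespace Groth.Agent.S16983

/-- if `p ^ i * (h / m)` is an integer with `m` prime to `p`, then `h / m` is an integer. -/
theorem int_of_pow_mul (p : ℕ) (m : ℕ) (hm : 0 < m) (hmp : Nat.Coprime m p) (h : ℤ) (i : ℕ)
    (hz : Int.fract ((p : ℚ) ^ i * ((h : ℚ) / (m : ℚ))) = 0) : ∃ z : ℤ, (h : ℚ) / (m : ℚ) = z := by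
  rw [Int.fract_eq_zero_iff] at hz
  obtain ⟨z, hz⟩ := hz
  have hm0 : (m : ℚ) ≠ 0 := by exact_mod_cast hm.ne'
  have h1 : ((p : ℤ) ^ i * h : ℤ) = z * (m : ℤ) := by
    have : ((p : ℚ) ^ i * (h : ℚ)) = (z : ℚ) * (m : ℚ) := by
      rw [hz]; field_simp
    exact_mod_cast this
  have hdvd : (m : ℤ) ∣ (p : ℤ) ^ i * h := ⟨z, by rw [h1]; ring⟩
  have hcop : IsCoprime (m : ℤ) ((p : ℤ) ^ i) := by
    apply IsCoprime.pow_right
    exact Nat.isCoprime_iff_coprime.mpr hmp
  obtain ⟨w, hw⟩ := hcop.dvd_of_dvd_mul_left hdvd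
  refine ⟨w, ?_⟩
  rw [hw]; push_cast; field_simp

theorem result
    {B : Type u} [Fintype B] [DecidableEq B] (B₀ : Finset B) (hB₀ : B₀.card = 3)
    (p : ℕ) (hp : p.Prime) (s : ℕ) (hs : 0 < s)
    (m : B → ℕ) (hm : ∀ j, 0 < m j) (hmp : ∀ j, Nat.Coprime (m j) p)
    (σ : Fin s → B → ℚ) (hint : ∀ i j, ∃ h : ℤ, σ i j = (h : ℚ) / (m j : ℚ))
    (hsum : ∀ i, ∑ j, (σ i j - 1) = -2)
    (hfract : ∀ i j, Int.fract (σ i j) = Int.fract ((p : ℚ) ^ (i : ℕ) * σ ⟨0, hs⟩ j))
    (hne : ∀ i j, σ i j ≠ 1)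
    (hB₀min : ∀ j ∈ B₀, (∃ i, ⌊σ i j⌋ = 0) ∧ ∀ i, 0 ≤ ⌊σ i j⌋)
    (hBmin : ∀ j ∉ B₀, (∃ i, ⌊σ i j⌋ = 1) ∧ ∀ i, 1 ≤ ⌊σ i j⌋) :
    (∀ i, ∑ j, Int.fract (σ i j) = 1) ∧ (∀ i j, ⌊σ i j⌋ = if j ∈ B₀ then 0 else 1) := by
  classical
  -- the expected floor
  set c : B → ℤ := fun j => if j ∈ B₀ then 0 else 1 with hc
  have hb_nonneg : ∀ i j, 0 ≤ ⌊σ i j⌋ - c j := by
    intro i j
    by_cases hj : j ∈ B₀
    · simp only [hc, if_pos hj, sub_zero]; exact (hB₀min j hj).2 i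
    · simp only [hc, if_neg hj]; linarith [(hBmin j hj).2 i]
  have hcsum : ∑ j, ((c j : ℚ) - 1) = -3 := by
    have h1 : ∀ j, ((c j : ℚ) - 1) = if j ∈ B₀ then (-1 : ℚ) else 0 := by
      intro j
      by_cases hj : j ∈ B₀ <;> simp [hc, hj]
    simp_rw [h1]
    rw [Finset.sum_ite_mem, Finset.univ_inter, Finset.sum_const, hB₀]
    norm_num
  -- key identity
  have hkey : ∀ i, ∑ j, Int.fract (σ i j) = 1 - ((∑ j, (⌊σ i j⌋ - c j) : ℤ) : ℚ) := by
    intro i
    have h := hsum i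
    have h2 : ∑ j, (σ i j - 1) = ∑ j, Int.fract (σ i j) + ((∑ j, (⌊σ i j⌋ - c j) : ℤ) : ℚ) +
        ∑ j, ((c j : ℚ) - 1) := by
      push_cast
      rw [← Finset.sum_add_distrib, ← Finset.sum_add_distrib]
      apply Finset.sum_congr rfl
      intro j _
      have := Int.floor_add_fract (σ i j)
      linarith
    rw [h2, hcsum] at h
    linarith
  have ha_nonneg : ∀ i, 0 ≤ ∑ j, Int.fract (σ i j) := fun i =>
    Finset.sum_nonneg (fun j _ => Int.fract_nonneg _)
  have hbsum_nonneg : ∀ i, 0 ≤ ∑ j, (⌊σ i j⌋ - c j) := fun i =>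
    Finset.sum_nonneg (fun j _ => hb_nonneg i j)
  -- the sum of b is zero
  have hbzero : ∀ i, ∑ j, (⌊σ i j⌋ - c j) = 0 := by
    intro i
    have hle : (∑ j, (⌊σ i j⌋ - c j) : ℤ) ≤ 1 := by
      have h1 := hkey i
      have h2 := ha_nonneg i
      have : ((∑ j, (⌊σ i j⌋ - c j) : ℤ) : ℚ) ≤ 1 := by linarith
      exact_mod_cast this
    rcases (hbsum_nonneg i).lt_or_eq with hlt | heq
    · -- the sum is one; contradiction
      exfalso
      have hone : ∑ j, (⌊σ i j⌋ - c j) = 1 := by omega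
      have hazero : ∑ j, Int.fract (σ i j) = 0 := by
        rw [hkey i, hone]; norm_num
      have ha0 : ∀ j, Int.fract (σ i j) = 0 := by
        intro j
        exact (Finset.sum_eq_zero_iff_of_nonneg (fun j _ => Int.fract_nonneg _)).mp hazero j
          (Finset.mem_univ j)
      -- all sigma are integers
      have hallint : ∀ i' j, Int.fract (σ i' j) = 0 := by
        intro i' j
        obtain ⟨h, hh⟩ := hint ⟨0, hs⟩ j
        have h1 : Int.fract ((p : ℚ) ^ (i : ℕ) * ((h : ℚ) / (m j : ℚ))) = 0 := by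
          rw [← hh, ← hfract i j]; exact ha0 j
        obtain ⟨z, hz⟩ := int_of_pow_mul p (m j) (hm j) (hmp j) h i h1
        rw [hfract i' j, hh, hz, Int.fract_eq_zero_iff]
        exact ⟨(p : ℤ) ^ (i' : ℕ) * z, by push_cast; ring⟩
      have hσ : ∀ i' j, σ i' j = (⌊σ i' j⌋ : ℚ) := by
        intro i' j
        have := Int.floor_add_fract (σ i' j)
        rw [hallint i' j, add_zero] at this
        exact this.symm
      have hallB₀ : ∀ j, j ∈ B₀ := by
        intro j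
        by_contra hj
        obtain ⟨i', hi'⟩ := (hBmin j hj).1
        apply hne i' j
        rw [hσ i' j, hi']; norm_num
      have hc0 : ∀ j, c j = 0 := fun j => by simp [hc, hallB₀ j]
      have hone' : ∑ j, ⌊σ i j⌋ = 1 := by
        rw [← hone]; apply Finset.sum_congr rfl; intro j _; rw [hc0 j, sub_zero]
      have hnn : ∀ j, 0 ≤ ⌊σ i j⌋ := fun j => (hB₀min j (hallB₀ j)).2 i
      have hn1 : ∀ j, ⌊σ i j⌋ ≠ 1 := by
        intro j hj
        apply hne i j
        rw [hσ i j, hj]; norm_num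
      by_cases hex : ∃ j, 2 ≤ ⌊σ i j⌋
      · obtain ⟨j, hj⟩ := hex
        have := Finset.single_le_sum (f := fun j => ⌊σ i j⌋) (fun j _ => hnn j) (Finset.mem_univ j)
        omega
      · push Not at hex
        have hall0 : ∀ j, ⌊σ i j⌋ = 0 := by
          intro j
          have h1 := hnn j
          have h2 := hex j
          have h3 := hn1 j
          omega
        rw [Finset.sum_congr rfl (fun j _ => hall0 j)] at hone'
        simp at hone'
    · exact heq.symm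
  refine ⟨fun i => ?_, fun i j => ?_⟩
  · rw [hkey i, hbzero i]; norm_num
  · have := (Finset.sum_eq_zero_iff_of_nonneg (fun j _ => hb_nonneg i j)).mp (hbzero i) j
      (Finset.mem_univ j)
    have h2 : ⌊σ i j⌋ = c j := by linarith
    rw [h2]

end Groth.Agent.S16983
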