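import Groth.Statements.S16984

set_option autoImplicit false
universe u v w
open Hoch

namespace Groth.Agent.S16984

open TensorProduct

section aux

variable (k : Type u) [CommRing k] (A : Type v) [CommRing A] [Bialgebra k A]
  (P : Type w) [AddCommGroup P] [Module k P]

/-- `id ⊗ ε : P ⊗ A → P`. -/
noncomputable def cou : P ⊗[k] A →ₗ[k] P :=
  (TensorProduct.rid k P).toLinearMap ∘ₗ (Coalgebra.counit (R := k) (A := A)).lTensor P

theorem cou_tmul (p : P) (a : A) : cou k A P (p ⊗ₜ a) = Coalgebra.counit (R := k) a • p := by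
  simp [cou]

/-- `(id ⊗ ε) ⊗ id : (P ⊗ A) ⊗ A → P ⊗ A`. -/
noncomputable def couT : (P ⊗[k] A) ⊗[k] A →ₗ[k] P ⊗[k] A :=
  (cou k A P).rTensor A

theorem couT_coactAux (x : P ⊗[k] A) : couT k A P (Ind.coactAux k A P x) = x := by
  induction x using TensorProduct.induction_on with
  | zero => simp
  | add x y hx hy => rw [map_add, map_add, hx, hy]
  | tmul p a =>
    have key : couT k A P ∘ₗ (TensorProduct.assoc k P A A).symm.toLinearMap ∘ₗ
        TensorProduct.mk k P (A ⊗[k] A) p =
        TensorProduct.mk k P A p ∘ₗ (TensorProduct.lid k A).toLinearMap ∘ₗ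
          (Coalgebra.counit (R := k) (A := A)).rTensor A := by
      ext a b
      simp [couT, cou_tmul, TensorProduct.smul_tmul]
    have h := LinearMap.congr_fun key (Coalgebra.comul (R := k) a)
    simp only [LinearMap.comp_apply, LinearEquiv.coe_coe, TensorProduct.mk_apply,
      Coalgebra.rTensor_counit_comul, TensorProduct.lid_tmul, one_smul] at h
    rw [Ind.coactAux_tmul]
    exact h

end aux

theorem result (k : Type u) [CommRing k] (A : Type v) [CommRing A] [Bialgebra k A]
    [Module.Flat k A] (P : Type w) [AddCommGroup P] [Module k P] :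
    Function.Injective ((Hoch.Ind.equiv k A P).toLinearMap ∘ₗ (TensorProduct.mk k P A).flip (1 : A)) ∧
    LinearMap.range ((Hoch.Ind.equiv k A P).toLinearMap ∘ₗ (TensorProduct.mk k P A).flip (1 : A)) =
      HopfRep.fixedPts k A (Hoch.Ind k A P) := by
  constructor
  · intro p q h
    have h' : (p ⊗ₜ[k] (1 : A) : P ⊗[k] A) = q ⊗ₜ[k] (1 : A) := h
    have := congrArg (cou k A P) h'
    simpa [cou_tmul] using this
  · apply le_antisymm
    · rintro _ ⟨p, rfl⟩
      change HopfRep.Comod.coact (k := k) (A := A) (V := Ind k A P) (Ind.equiv k A P (p ⊗ₜ (1 : A))) =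
        (Ind.equiv k A P (p ⊗ₜ (1 : A))) ⊗ₜ[k] (1 : A)
      rw [Ind.coact_equiv_tmul, Bialgebra.comul_one, Algebra.TensorProduct.one_def,
        TensorProduct.assoc_symm_tmul]
      rfl
    · intro x hx
      have key : ∀ y : P ⊗[k] A, Ind.coactAux k A P y = y ⊗ₜ[k] (1 : A) →
          (cou k A P y) ⊗ₜ[k] (1 : A) = y := by
        intro y hy
        have h1 := congrArg (couT k A P) hy
        rw [couT_coactAux] at h1
        have h2 : couT k A P (y ⊗ₜ[k] (1 : A)) = (cou k A P y) ⊗ₜ[k] (1 : A) := by
          simp [couT]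
        rw [← h2, ← h1]
      exact ⟨cou k A P x, key x hx⟩

end Groth.Agent.S16984
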