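import Groth.Statements.S16985

set_option autoImplicit false
universe u v
open Hoch

namespace Groth.Agent.S16985

open TensorProduct

section aux

variable (k : Type u) [CommRing k] (A : Type v) [CommRing A] [Bialgebra k A]

/-- naturality of `tail` in the module. -/
theorem tail_natural (M N : Type v) [AddCommGroup M] [Module k M] [AddCommGroup N] [Module k N]
    (f : M →ₗ[k] N) :
    tail k A N ∘ₗ f.rTensor A = (f.rTensor A).rTensor A ∘ₗ tail k A M := by
  have h1 : (f.rTensor A).rTensor A ∘ₗ (TensorProduct.assoc k M A A).symm.toLinearMap =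
      (TensorProduct.assoc k N A A).symm.toLinearMap ∘ₗ f.rTensor (A ⊗[k] A) := by
    ext m a b
    simp
  unfold tail
  rw [← LinearMap.comp_assoc, h1, LinearMap.comp_assoc, LinearMap.comp_assoc,
    LinearMap.rTensor_comp_lTensor, LinearMap.lTensor_comp_rTensor]

/-- The base case of the homotopy identity, in abstract form. -/
theorem base_abstract (V P : Type v) [AddCommGroup V] [Module k V] [AddCommGroup P] [Module k P]
    (e : P ⊗[k] A ≃ₗ[k] V) (ρ : V →ₗ[k] V ⊗[k] A) (cou : V →ₗ[k] P)
    (H1 : e.toLinearMap ∘ₗ cou.rTensor A ∘ₗ ρ = LinearMap.id)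
    (H2 : e.toLinearMap.rTensor A ∘ₗ tail k A P =
      (ρ - (TensorProduct.mk k V A).flip 1) ∘ₗ e.toLinearMap -
        (e.toLinearMap ∘ₗ (TensorProduct.mk k P A).flip 1).rTensor A) :
    (ρ - (TensorProduct.mk k V A).flip 1) ∘ₗ (e.toLinearMap ∘ₗ cou.rTensor A) +
      (e.toLinearMap ∘ₗ cou.rTensor A).rTensor A ∘ₗ
        ((ρ - (TensorProduct.mk k V A).flip 1).rTensor A - tail k A V) = LinearMap.id := by
  set c0 : V ⊗[k] A →ₗ[k] V := e.toLinearMap ∘ₗ cou.rTensor A with hc0
  set d0 : V →ₗ[k] V ⊗[k] A := ρ - (TensorProduct.mk k V A).flip 1 with hd0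
  set j : P →ₗ[k] V := e.toLinearMap ∘ₗ (TensorProduct.mk k P A).flip 1 with hj
  have h3 : c0 ∘ₗ (TensorProduct.mk k V A).flip 1 = j ∘ₗ cou := by
    ext v
    simp [hc0, hj]
  have h4 : c0 ∘ₗ d0 = LinearMap.id - j ∘ₗ cou := by
    rw [hd0, LinearMap.comp_sub, h3, hc0, LinearMap.comp_assoc, H1]
  have h5 : c0.rTensor A ∘ₗ tail k A V = d0 ∘ₗ c0 - (j ∘ₗ cou).rTensor A := by
    rw [hc0, LinearMap.rTensor_comp, LinearMap.comp_assoc, ← tail_natural, ← LinearMap.comp_assoc, H2,
      LinearMap.sub_comp, LinearMap.comp_assoc, ← LinearMap.rTensor_comp]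
  rw [LinearMap.comp_sub, h5, ← LinearMap.rTensor_comp, h4, LinearMap.rTensor_sub,
    LinearMap.rTensor_id]
  abel

variable (P : Type v) [AddCommGroup P] [Module k P]

/-- `id ⊗ ε : P ⊗ A → P`. -/
noncomputable def cou : P ⊗[k] A →ₗ[k] P :=
  (TensorProduct.rid k P).toLinearMap ∘ₗ (Coalgebra.counit (R := k) (A := A)).lTensor P

theorem cou_tmul (p : P) (a : A) : cou k A P (p ⊗ₜ a) = Coalgebra.counit (R := k) a • p := by
  simp [cou]

theorem c0_coactAux (x : P ⊗[k] A) : (cou k A P).rTensor A (Ind.coactAux k A P x) = x := by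
  induction x using TensorProduct.induction_on with
  | zero => simp
  | add x y hx hy => rw [map_add, map_add, hx, hy]
  | tmul p a =>
    have key : (cou k A P).rTensor A ∘ₗ (TensorProduct.assoc k P A A).symm.toLinearMap ∘ₗ
        TensorProduct.mk k P (A ⊗[k] A) p =
        TensorProduct.mk k P A p ∘ₗ (TensorProduct.lid k A).toLinearMap ∘ₗ
          (Coalgebra.counit (R := k) (A := A)).rTensor A := by
      ext a b
      simp [cou_tmul, TensorProduct.smul_tmul]
    have h := LinearMap.congr_fun key (Coalgebra.comul (R := k) a)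
    simp only [LinearMap.comp_apply, LinearEquiv.coe_coe, TensorProduct.mk_apply,
      Coalgebra.rTensor_counit_comul, TensorProduct.lid_tmul, one_smul] at h
    rw [Ind.coactAux_tmul]
    exact h

/-- the counit map on the induced comodule. -/
noncomputable def couI : Ind k A P →ₗ[k] P := cou k A P

theorem H1_Ind : (Ind.equiv k A P).toLinearMap ∘ₗ (couI k A P).rTensor A ∘ₗ
    (HopfRep.Comod.coact (k := k) (A := A) (V := Ind k A P)) = LinearMap.id :=
  LinearMap.ext fun x => c0_coactAux k A P x

theorem erT (y : (P ⊗[k] A) ⊗[k] A) :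
    (Ind.equiv k A P).toLinearMap.rTensor A y = y := by
  induction y using TensorProduct.induction_on with
  | zero => exact map_zero _
  | add x y hx hy => exact (map_add _ x y).trans (congrArg₂ (· + ·) hx hy)
  | tmul x a => rfl

theorem H2_Ind : (Ind.equiv k A P).toLinearMap.rTensor A ∘ₗ tail k A P =
      ((HopfRep.Comod.coact (k := k) (A := A) (V := Ind k A P)) -
        (TensorProduct.mk k (Ind k A P) A).flip 1) ∘ₗ (Ind.equiv k A P).toLinearMap -
        ((Ind.equiv k A P).toLinearMap ∘ₗ (TensorProduct.mk k P A).flip 1).rTensor A := by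
  apply TensorProduct.ext'
  intro p a
  simp only [LinearMap.comp_apply, tail_tmul, LinearMap.sub_apply, LinearEquiv.coe_coe,
    LinearMap.flip_apply, TensorProduct.mk_apply, LinearMap.rTensor_tmul, TensorProduct.tmul_sub,
    map_sub, TensorProduct.assoc_symm_tmul]
  rw [erT]
  rfl

/-- the contracting homotopy. -/
noncomputable def s : (n : ℕ) →
    ((cochain k A (Ind k A P) (n + 1) : Type v) →ₗ[k] (cochain k A (Ind k A P) n : Type v))
  | 0 => (Ind.equiv k A P).toLinearMap ∘ₗ (couI k A P).rTensor A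
  | n + 1 => (s n).rTensor A

theorem s_zero : s k A P 0 = (Ind.equiv k A P).toLinearMap ∘ₗ (couI k A P).rTensor A := rfl

theorem s_succ (n : ℕ) : s k A P (n + 1) = (s k A P n).rTensor A := rfl

theorem homotopy_zero :
    d k A (Ind k A P) 0 ∘ₗ s k A P 0 + s k A P 1 ∘ₗ d k A (Ind k A P) 1 = LinearMap.id := by
  have h := base_abstract k A (Ind k A P) P (Ind.equiv k A P)
    (HopfRep.Comod.coact (k := k) (A := A) (V := Ind k A P)) (couI k A P)
    (H1_Ind k A P) (H2_Ind k A P)
  have e1 : d k A (Ind k A P) 1 = (d k A (Ind k A P) 0).rTensor A - tail k A (Ind k A P) := by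
    rw [d_succ]
    apply LinearMap.ext
    intro x
    have : ((-1 : k) ^ (0 + 1)) = -1 := by norm_num
    rw [this, LinearMap.add_apply, LinearMap.smul_apply, LinearMap.sub_apply, neg_one_smul,
      ← sub_eq_add_neg]
  rw [e1, s_succ, s_zero, d_zero]
  exact h

theorem homotopy (n : ℕ) :
    d k A (Ind k A P) n ∘ₗ s k A P n + s k A P (n + 1) ∘ₗ d k A (Ind k A P) (n + 1) =
      LinearMap.id := by
  induction n with
  | zero => exact homotopy_zero k A P
  | succ n ih =>
    have hnat := tail_natural k A (cochain k A (Ind k A P) (n + 1)) (cochain k A (Ind k A P) n)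
      (s k A P n)
    have ih' : (d k A (Ind k A P) n ∘ₗ s k A P n).rTensor A +
        (s k A P (n + 1) ∘ₗ d k A (Ind k A P) (n + 1)).rTensor A = LinearMap.id := by
      rw [← LinearMap.rTensor_add, ih, LinearMap.rTensor_id]
    rw [d_succ k A (Ind k A P) (n + 1), d_succ k A (Ind k A P) n, s_succ k A P (n + 1), s_succ k A P n]
    rw [LinearMap.add_comp, LinearMap.comp_add, LinearMap.smul_comp, LinearMap.comp_smul,
      ← LinearMap.rTensor_comp, hnat, ← s_succ k A P n, ← d_succ k A (Ind k A P) n,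
      ← LinearMap.rTensor_comp]
    rw [pow_succ (-1 : k) (n + 1)]
    simp only [mul_neg, mul_one, neg_smul]
    rw [← ih']
    abel

end aux

theorem result (k : Type u) [CommRing k] (A : Type v) [CommRing A]
    [Bialgebra k A] [Module.Flat k A] (P : Type v) [AddCommGroup P] [Module k P] (n : ℕ) :
    Hoch.cocycles k A (Hoch.Ind k A P) (n + 1) ≤ Hoch.coboundaries k A (Hoch.Ind k A P) (n + 1) := by
  intro z hz
  have hz' : d k A (Ind k A P) (n + 1) z = 0 := hz
  have h := LinearMap.congr_fun (homotopy k A P n) z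
  simp only [LinearMap.add_apply, LinearMap.comp_apply, hz', map_zero, add_zero,
    LinearMap.id_apply] at h
  exact ⟨s k A P n z, h⟩

end Groth.Agent.S16985
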