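import Groth.Statements.S16991
import Groth.Agent.H84.SympDet

set_option autoImplicit false
universe u v
open QuadGrp

namespace Groth.Agent.S16991

open Groth.Agent.H84
open Matrix

/-- Over a commutative ring in which 2 = 0, for a quadratic form Q on a finite free module of even rank
2m ≥ 2 whose polar form is a perfect pairing, every isometry of Q has determinant one. (The
published statement is the equality of the naive special orthogonal group with the orthogonal group
on fibres in characteristic 2; its proof gives this equality over every base of characteristic 2,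
which is the form stated.) -/
theorem result {R : Type u} [CommRing R] [CharP R 2]
    {M : Type v} [AddCommGroup M] [Module R M] [Module.Free R M] [Module.Finite R M]
    (m : ℕ) (hm : 1 ≤ m) (hM : Module.finrank R M = 2 * m) (Q : QuadraticForm R M) (hQ : QuadGrp.IsRegular Q) :
    QuadGrp.O Q = QuadGrp.SO' Q := by
  apply le_antisymm _ inf_le_left
  intro g hg
  refine ⟨hg, ?_⟩
  change g ∈ (LinearEquiv.det (R := R) (M := M)).ker
  rw [MonoidHom.mem_ker]
  rcases subsingleton_or_nontrivial R with hR | hR
  · exact Subsingleton.elim _ _
  set n := Module.finrank R M with hn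
  let b : Module.Basis (Fin n) R M := Module.finBasis R M
  let B : M →ₗ[R] M →ₗ[R] R := QuadraticMap.polarBilin Q
  let P : Matrix (Fin n) (Fin n) R := LinearMap.toMatrix₂ b b B
  let G : Matrix (Fin n) (Fin n) R := LinearMap.toMatrix b b (g : M →ₗ[R] M)
  have hPapp : ∀ i j, P i j = QuadraticMap.polar Q (b i) (b j) := by
    intro i j
    simp [P, B, LinearMap.toMatrix₂_apply]
  have hP : IsAltMat P := by
    refine ⟨?_, ?_⟩
    · ext i j
      rw [Matrix.transpose_apply, Matrix.neg_apply, hPapp, hPapp, CharTwo.neg_eq,
        QuadraticMap.polar_comm]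
    · intro i
      rw [hPapp, QuadraticMap.polar_self]
      have : (2 : R) = 0 := CharTwo.two_eq_zero
      rw [two_smul, ← two_mul, this, zero_mul]
  have hcompl : B.compl₁₂ (g : M →ₗ[R] M) (g : M →ₗ[R] M) = B := by
    ext x y
    simp only [LinearMap.compl₁₂_apply, B, QuadraticMap.polarBilin_apply_apply,
      LinearEquiv.coe_coe]
    unfold QuadraticMap.polar
    rw [← map_add, hg, hg, hg]
  have hG : Gᵀ * P * G = P := by
    have := LinearMap.toMatrix₂_compl₁₂ b b b b B (g : M →ₗ[R] M) (g : M →ₗ[R] M)
    rw [hcompl] at this
    exact this.symm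
  have hdet : IsUnit P.det := by
    let e : M ≃ₗ[R] Module.Dual R M := LinearEquiv.ofBijective B hQ
    have h1 := LinearEquiv.isUnit_det e b b.dualBasis
    have h2 : LinearMap.toMatrix b b.dualBasis (e : M →ₗ[R] Module.Dual R M) = Pᵀ := by
      ext i j
      rw [LinearMap.toMatrix_apply, Matrix.transpose_apply, hPapp]
      simp [e, B, Module.Basis.dualBasis_repr]
    rw [h2, Matrix.det_transpose] at h1
    exact h1
  have hone := det_eq_one_of_transpose_mul_mul_eq n P G hP hG hdet
  apply Units.ext
  rw [LinearEquiv.coe_det, ← LinearMap.det_toMatrix b]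
  exact hone

end Groth.Agent.S16991
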