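import Groth.Statements.S17065
import Mathlib

set_option autoImplicit false
universe u
open CAlg

namespace Groth.Agent.S17065

/-- The local algebraic statement its proof establishes: let A be a Noetherian ring, I ≤ J radical
ideals and Â the J-adic completion of A. If J^n Â ⊆ I Â for some n, then the closed set V(J) is open
inside V(I) ⊆ Spec A. (Globally: if X₂ ⊆ X₁ are the completions of a locally Noetherian scheme along
nested closed subsets Z₂ ⊆ Z₁ and the ideal of Z₁ generates an ideal of definition of X₂, then X₂ is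
a union of connected components of X₁.) -/
theorem result (A : Type u) [CommRing A] [IsNoetherianRing A]
    (I J : Ideal A) (hIJ : I ≤ J) (hI : I.IsRadical) (hJ : J.IsRadical) (n : ℕ)
    (h : (J ^ n).map (algebraMap A (AdicCompletion J A)) ≤ I.map (algebraMap A (AdicCompletion J A))) :
    IsOpen ((fun x : PrimeSpectrum.zeroLocus (I : Set A) => (x : PrimeSpectrum A)) ⁻¹'
      PrimeSpectrum.zeroLocus (J : Set A)) := by
  classical
  -- Step 1: `J^n ≤ I ⊔ J^m` for all `m`
  have step1 : ∀ m : ℕ, J ^ n ≤ I ⊔ J ^ m := by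
    intro m x hx
    let ψ : AdicCompletion J A →+* A ⧸ J ^ m := (AdicCompletion.evalₐ J m : AdicCompletion J A →+* A ⧸ J ^ m)
    have hψ : ∀ y : A, ψ (algebraMap A (AdicCompletion J A) y) = Ideal.Quotient.mk (J ^ m) y := by
      intro y
      exact (AdicCompletion.evalₐ J m).commutes y
    have h1 : algebraMap A (AdicCompletion J A) x ∈ I.map (algebraMap A (AdicCompletion J A)) :=
      h (Ideal.mem_map_of_mem _ hx)
    have h2 : ψ (algebraMap A (AdicCompletion J A) x) ∈
        (I.map (algebraMap A (AdicCompletion J A))).map ψ := Ideal.mem_map_of_mem _ h1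
    rw [Ideal.map_map, hψ] at h2
    have hcomp : ψ.comp (algebraMap A (AdicCompletion J A)) = Ideal.Quotient.mk (J ^ m) := by
      ext y
      exact hψ y
    rw [hcomp] at h2
    have h3 : x ∈ (I.map (Ideal.Quotient.mk (J ^ m))).comap (Ideal.Quotient.mk (J ^ m)) := h2
    rw [Ideal.comap_map_of_surjective _ Ideal.Quotient.mk_surjective, ← RingHom.ker_eq_comap_bot,
      Ideal.mk_ker] at h3
    exact h3
  -- Step 2: Nakayama
  let N : Submodule A (A ⧸ I) := Submodule.map (Submodule.mkQ I) (J ^ n : Submodule A A)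
  have hNfg : N.FG := Submodule.FG.map _ ((isNoetherianRing_iff_ideal_fg A).mp inferInstance (J ^ n))
  have hNle : N ≤ J • N := by
    rintro _ ⟨x, hx, rfl⟩
    have hx' := step1 (n + 1) hx
    obtain ⟨i, hi, z, hz, rfl⟩ := Submodule.mem_sup.mp hx'
    have h1 : (Submodule.mkQ I) (i + z) = (Submodule.mkQ I) z := by
      rw [map_add]
      have : (Submodule.mkQ I) i = 0 := (Submodule.Quotient.mk_eq_zero I).mpr hi
      rw [this, zero_add]
    rw [h1]
    have hz' : z ∈ J • (J ^ n : Submodule A A) := by
      have : J ^ (n + 1) = J * J ^ n := pow_succ' J n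
      rw [this] at hz
      exact hz
    have h2 : (Submodule.mkQ I) z ∈ Submodule.map (Submodule.mkQ I) (J • (J ^ n : Submodule A A)) :=
      Submodule.mem_map_of_mem hz'
    rw [Submodule.map_smul''] at h2
    exact h2
  obtain ⟨r, hr1, hr2⟩ := Submodule.exists_sub_one_mem_and_smul_eq_zero_of_fg_of_le_smul J N hNfg hNle
  have hrI : ∀ x ∈ J ^ n, r * x ∈ I := by
    intro x hx
    have h1 := hr2 ((Submodule.mkQ I) x) (Submodule.mem_map_of_mem hx)
    rw [← map_smul, smul_eq_mul] at h1
    exact (Submodule.Quotient.mk_eq_zero I).mp h1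
  -- Step 3: topology
  have hset : ((fun x : PrimeSpectrum.zeroLocus (I : Set A) => (x : PrimeSpectrum A)) ⁻¹'
      PrimeSpectrum.zeroLocus (J : Set A)) =
      ((fun x : PrimeSpectrum.zeroLocus (I : Set A) => (x : PrimeSpectrum A)) ⁻¹'
        (PrimeSpectrum.basicOpen r : Set (PrimeSpectrum A))) := by
    ext ⟨P, hP⟩
    simp only [Set.mem_preimage, PrimeSpectrum.mem_zeroLocus, SetLike.coe_subset_coe,
      SetLike.mem_coe, PrimeSpectrum.mem_basicOpen]
    have hIP : I ≤ P.asIdeal := by
      rw [PrimeSpectrum.mem_zeroLocus] at hP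
      exact hP
    constructor
    · intro hJP hrP
      have h1 : r - 1 ∈ P.asIdeal := hJP hr1
      have h2 : (1 : A) ∈ P.asIdeal := by
        have := P.asIdeal.sub_mem hrP h1
        simpa using this
      exact P.isPrime.ne_top ((Ideal.eq_top_iff_one _).mpr h2)
    · intro hrP
      by_contra hJP
      have hJnP : ¬ J ^ n ≤ P.asIdeal := fun hle => hJP (P.isPrime.le_of_pow_le hle)
      obtain ⟨x, hx, hxP⟩ := SetLike.not_le_iff_exists.mp hJnP
      have h1 : r * x ∈ P.asIdeal := hIP (hrI x hx)
      rcases P.isPrime.mem_or_mem h1 with h2 | h2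
      · exact hrP h2
      · exact hxP h2
  rw [hset]
  exact (PrimeSpectrum.basicOpen r).isOpen.preimage continuous_subtype_val

end Groth.Agent.S17065
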