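import Groth.Statements.S17075

set_option autoImplicit false
universe u
open CategoryTheory CategoryTheory.Limits AlgebraicGeometry
open MorSch

namespace Groth.Agent.S17075

/-- Let g : X → S be a proper morphism, i : V → X a closed immersion and j : U → X an open immersion.
Then there is an open subset S₀ of S such that, for every scheme S' and every morphism f : S' → S,
the image of f lies in S₀ if and only if the base change V ×_S S' → X ×_S S' of i factors through
the open subscheme U ×_S S', equivalently the composite V ×_S S' → V → X has image contained in the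
image of j. -/
theorem result
    {V X U S : Scheme.{u}} (g : X ⟶ S) [IsProper g] (i : V ⟶ X) [IsClosedImmersion i]
    (j : U ⟶ X) [IsOpenImmersion j] :
    ∃ S₀ : S.Opens, ∀ (S' : Scheme.{u}) (f : S' ⟶ S),
      Set.range f ⊆ (S₀ : Set S) ↔
        Set.range (pullback.fst (i ≫ g) f ≫ i) ⊆ Set.range j := by
  classical
  have hcl : IsClosed (g '' ((Set.range i) \ (Set.range j))) := by
    apply g.isClosedMap
    exact i.isClosedEmbedding.isClosed_range.sdiff j.isOpenEmbedding.isOpen_range
  refine ⟨⟨(g '' ((Set.range i) \ (Set.range j)))ᶜ, hcl.isOpen_compl⟩, fun S' f => ?_⟩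
  have hr : Set.range (pullback.fst (i ≫ g) f ≫ i) = i '' ((i ≫ g) ⁻¹' Set.range f) := by
    rw [Scheme.Hom.comp_base, TopCat.coe_comp, Set.range_comp, Scheme.Pullback.range_fst]
  rw [hr]
  constructor
  · intro h x hx
    obtain ⟨v, hv, rfl⟩ := hx
    by_contra hj
    obtain ⟨s', hs'⟩ := hv
    have : f s' ∈ (g '' ((Set.range i) \ (Set.range j)))ᶜ := h ⟨s', rfl⟩
    apply this
    refine ⟨i v, ⟨⟨v, rfl⟩, hj⟩, ?_⟩
    rw [hs']
    simp
  · intro h s hs
    obtain ⟨s', rfl⟩ := hs
    intro hmem
    obtain ⟨x, ⟨⟨v, rfl⟩, hj⟩, hx⟩ := hmem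
    apply hj
    apply h
    refine ⟨v, ?_, rfl⟩
    refine ⟨s', ?_⟩
    rw [← hx]
    simp

end Groth.Agent.S17075
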