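import Groth.Statements.S17076
import Groth.Agent.H29.IsoLocusBC

set_option autoImplicit false
universe u
open CategoryTheory CategoryTheory.Limits AlgebraicGeometry
open MorSch

namespace Groth.Agent.S17076


/-- Let S be a locally Noetherian scheme, X and Y schemes proper over S with X flat over S, and f : X →
Y an S-morphism. Then there is an open subset S₀ of S such that, for every locally Noetherian scheme
S' and every morphism h : S' → S, the image of h lies in S₀ if and only if the base change X ×_S S'
→ Y ×_S S' of f is an isomorphism. (The published statement also supposes that some fibre of f is an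
isomorphism; that hypothesis only serves to make S₀ nonempty and is not needed.) -/
theorem result
    {S : Scheme.{u}} [IsLocallyNoetherian S] (X Y : Over S) [IsProper X.hom] [IsProper Y.hom]
    [Flat X.hom] (f : X ⟶ Y) :
    ∃ S₀ : S.Opens, ∀ (S' : Scheme.{u}) [IsLocallyNoetherian S'] (h : S' ⟶ S),
      Set.range h ⊆ (S₀ : Set S) ↔ IsIso ((Over.pullback h).map f).left := by
  have key : ∀ (XL YL : Scheme.{u}) (g : XL ⟶ S) (hY : YL ⟶ S) (fl : XL ⟶ YL) (w : fl ≫ hY = g)
      [IsProper g] [IsProper hY] [Flat g],
      ∃ S₀ : S.Opens, ∀ (S' : Scheme.{u}) (h : S' ⟶ S),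
        Set.range h ⊆ (S₀ : Set S) ↔
          IsIso ((Over.pullback h).map (Over.homMk fl w : Over.mk g ⟶ Over.mk hY)).left := by
    intro XL YL g hY fl w _ _ _
    subst w
    have hf : IsProper fl := IsProper.of_comp fl hY
    exact Groth.Agent.H29.IsoLocusBC.exists_isoLocus_baseChange hY fl hY.isClosedMap
  obtain ⟨S₀, hS₀⟩ := key X.left Y.left X.hom Y.hom f.left (Over.w f)
  exact ⟨S₀, fun S' _ h => hS₀ S' h⟩

end Groth.Agent.S17076
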