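import Groth.Statements.S17083
import Groth.Agent.H8.BlowUpLocal
import Groth.Agent.S8852

set_option autoImplicit false
universe u
open CategoryTheory CategoryTheory.Limits AlgebraicGeometry
open MorSch

namespace Groth.Agent.S17083

open Groth.Agent.H8

/-- The closed immersion constructed in its proof, as follows. Let X be a scheme, I₁ and I₂
quasi-coherent ideal sheaves on X with I₁ + I₂ = O_X, so that they cut out disjoint closed
subschemes Z₁ and Z₂, let σ : B → X be a blow-up of X in the ideal I₁ ∩ I₂ of Z₁ ∪ Z₂, and let σ₁ :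
B₁ → X and σ₂ : B₂ → X be blow-ups of X in Z₁ and in Z₂ (blow-up in the sense of the universal
property: the inverse image ideal is effective Cartier, finally so). Then there is a morphism ι : B
→ B₁ ×_X B₂ over X which is a closed immersion; the components B → B_i are necessarily the unique
X-morphisms given by the universal properties. (Published for X a projective space over an
algebraically closed field, Z₂ a closed point and Z₁ a finite set of closed points not containing
it, and iterated there to embed the blow-up at r distinct points as a closed subscheme of the fibre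
product over X of the r blow-ups at single points.) -/
theorem result
    {X B B₁ B₂ : Scheme.{u}} (I₁ I₂ : X.IdealSheafData) (hdisj : I₁ ⊔ I₂ = ⊤)
    (σ : B ⟶ X) (hσ : BlowUp.IsBlowUp σ (I₁ ⊓ I₂))
    (σ₁ : B₁ ⟶ X) (hσ₁ : BlowUp.IsBlowUp σ₁ I₁) (σ₂ : B₂ ⟶ X) (hσ₂ : BlowUp.IsBlowUp σ₂ I₂) :
    ∃ ι : B ⟶ pullback σ₁ σ₂, IsClosedImmersion ι ∧ ι ≫ pullback.fst σ₁ σ₂ ≫ σ₁ = σ := by
  have hmul : I₁ ⊓ I₂ = I₁ * I₂ := by
    refine Scheme.IdealSheafData.ext (funext fun U => ?_)
    rw [Scheme.IdealSheafData.ideal_inf, Scheme.IdealSheafData.ideal_mul]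
    simp only [Pi.inf_apply, Pi.mul_apply]
    refine (Ideal.mul_eq_inf_of_isCoprime (Ideal.isCoprime_iff_sup_eq.mpr ?_)).symm
    have := congrArg (fun K : X.IdealSheafData => K.ideal U) hdisj
    simpa using this
  rw [hmul] at hσ
  have hB := hσ.1
  rw [comap_mul] at hB
  obtain ⟨hB1, hB2⟩ := Groth.Agent.S8852.result _ _ hB
  obtain ⟨q₁, hq₁, -⟩ := hσ₁.2 B σ hB1
  obtain ⟨q₂, hq₂, -⟩ := hσ₂.2 B σ hB2
  have hP1 : BlowUp.IsEffCartierIdeal (I₁.comap (pullback.fst σ₁ σ₂ ≫ σ₁)) :=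
    isEffCartier_comap_pullback_fst hdisj σ₁ σ₂ hσ₂ hσ₁.1
  have hP2 : BlowUp.IsEffCartierIdeal (I₂.comap (pullback.fst σ₁ σ₂ ≫ σ₁)) := by
    have h1 := isEffCartier_comap_pullback_fst (sup_comm I₁ I₂ ▸ hdisj) σ₂ σ₁ hσ₁ hσ₂.1
    have e : pullback.fst σ₁ σ₂ ≫ σ₁ =
        (pullbackSymmetry σ₁ σ₂).hom ≫ pullback.fst σ₂ σ₁ ≫ σ₂ := by
      rw [pullbackSymmetry_hom_comp_fst_assoc, pullback.condition]
    rw [e, Scheme.IdealSheafData.comap_comp]
    exact Groth.Agent.S1680.isEffCartier_comap_of_flat _ h1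
  have hP : BlowUp.IsEffCartierIdeal ((I₁ * I₂).comap (pullback.fst σ₁ σ₂ ≫ σ₁)) := by
    rw [comap_mul]
    exact isEffCartier_mul hP1 hP2
  obtain ⟨r, hr, -⟩ := hσ.2 _ _ hP
  have hιr : pullback.lift q₁ q₂ (hq₁.trans hq₂.symm) ≫ r = 𝟙 B := by
    refine (hσ.2 B σ hσ.1).unique ?_ (Category.id_comp σ)
    rw [Category.assoc, hr, pullback.lift_fst_assoc, hq₁]
  have hrι : r ≫ pullback.lift q₁ q₂ (hq₁.trans hq₂.symm) = 𝟙 _ := by
    apply pullback.hom_ext
    · rw [Category.assoc, pullback.lift_fst, Category.id_comp]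
      refine (hσ₁.2 _ _ hP1).unique ?_ rfl
      rw [Category.assoc, hq₁, hr]
    · rw [Category.assoc, pullback.lift_snd, Category.id_comp]
      refine (hσ₂.2 _ _ hP2).unique ?_ pullback.condition.symm
      rw [Category.assoc, hq₂, hr]
  have hiso : IsIso (pullback.lift q₁ q₂ (hq₁.trans hq₂.symm)) := ⟨r, hιr, hrι⟩
  refine ⟨pullback.lift q₁ q₂ (hq₁.trans hq₂.symm), inferInstance, ?_⟩
  rw [pullback.lift_fst_assoc, hq₁]

end Groth.Agent.S17083
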