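import Groth.Statements.S17084
import Mathlib

set_option autoImplicit false
universe u
open CategoryTheory CategoryTheory.Limits AlgebraicGeometry
open MorSch

namespace Groth.Agent.S17084

/-- Let (X_i)_{i ∈ ι} be a finite family of schemes over S with structure morphisms g_i : X_i → S, let Y
→ S be a scheme over S and T an S-scheme. Then for every family of S-morphisms a_i : T ×_S X_i → Y
there is a unique S-morphism b : T ×_S (∐_i X_i) → Y whose restriction along each T ×_S X_i → T ×_S
(∐_i X_i) is a_i. In other words the canonical map Mor_S(∐_i X_i, Y) → ∏_i Mor_S(X_i, Y) of functors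
on S-schemes is an isomorphism. -/
theorem result
    {S Y : Scheme.{u}} {ι : Type u} [Finite ι] (X : ι → Scheme.{u}) (g : ∀ i, X i ⟶ S)
    (gY : Y ⟶ S) (T : Over S) (a : ∀ i, (Flatn.morS (g i) gY).obj (Opposite.op T)) :
    ∃! b : (Flatn.morS (Sigma.desc g) gY).obj (Opposite.op T),
      ∀ i, pullback.map T.hom (g i) T.hom (Sigma.desc g) (𝟙 T.left) (Sigma.ι X i) (𝟙 S)
          ((Category.comp_id _).trans (Category.id_comp _).symm)
          ((Category.comp_id _).trans (Sigma.ι_desc g i).symm) ≫ b.left = (a i).left := by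
  classical
  have hau : IsUniversalColimit (Cofan.mk (∐ X) (Sigma.ι X)) :=
    FinitaryPreExtensive.isUniversal_finiteCoproducts (coproductIsCoproduct X)
  let d : Cofan (fun i => pullback T.hom (g i)) :=
    Cofan.mk (pullback T.hom (Sigma.desc g)) (fun i =>
      pullback.map T.hom (g i) T.hom (Sigma.desc g) (𝟙 T.left) (Sigma.ι X i) (𝟙 S)
          ((Category.comp_id _).trans (Category.id_comp _).symm)
          ((Category.comp_id _).trans (Sigma.ι_desc g i).symm))
  obtain ⟨hd⟩ : Nonempty (IsColimit d) :=
    hau.nonempty_isColimit_of_pullbackCone_left g (Sigma.desc g) T.hom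
      (fun i => pullback.cone T.hom (g i)) (fun i => pullback.isLimit T.hom (g i))
      (pullback.cone T.hom (Sigma.desc g)) (pullback.isLimit T.hom (Sigma.desc g)) d (Iso.refl _)
      (fun i => by simp [Cofan.inj])
      (fun i => by simp [d, Cofan.inj, pullback.map]; exact pullback.lift_fst _ _ _)
      (fun i => by simp [d, Cofan.inj, pullback.map]; exact pullback.lift_snd _ _ _)
  have hinj : ∀ i, d.inj i = pullback.map T.hom (g i) T.hom (Sigma.desc g) (𝟙 T.left) (Sigma.ι X i) (𝟙 S)
          ((Category.comp_id _).trans (Category.id_comp _).symm)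
          ((Category.comp_id _).trans (Sigma.ι_desc g i).symm) := fun i => rfl
  have hsnd : ∀ i, d.inj i ≫ pullback.snd T.hom (Sigma.desc g) =
      pullback.snd T.hom (g i) ≫ Sigma.ι X i := fun i => by
    rw [hinj, pullback.map]
    exact pullback.lift_snd _ _ _
  have hw : Cofan.IsColimit.desc hd (fun i => (a i).left) ≫ gY =
      pullback.snd T.hom (Sigma.desc g) ≫ Sigma.desc g := by
    refine Cofan.IsColimit.hom_ext hd _ _ (fun i => ?_)
    rw [← Category.assoc, Cofan.IsColimit.fac, ← Category.assoc, hsnd, Category.assoc,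
      Sigma.ι_desc]
    exact Over.w (a i)
  refine ⟨Over.homMk (Cofan.IsColimit.desc hd (fun i => (a i).left)) hw, ?_, ?_⟩
  · intro i
    exact Cofan.IsColimit.fac hd _ i
  · intro b' hb'
    apply Over.OverMorphism.ext
    refine Cofan.IsColimit.hom_ext hd _ _ (fun i => ?_)
    rw [hinj, hb' i]
    exact (Cofan.IsColimit.fac hd (fun i => (a i).left) i).symm

end Groth.Agent.S17084
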