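import Groth.Statements.S17086
import Groth.Agent.H8.P1Chart
import Groth.Agent.H8.CartierPID
import Groth.Agent.S3557
import Groth.Agent.Lead.Coh.ProjSpaceCover

set_option autoImplicit false
universe u
open CategoryTheory CategoryTheory.Limits AlgebraicGeometry
open RatCurve

namespace Groth.Agent.S17086

/-- Let k be an algebraically closed field, X a closed subscheme of P^n_k, Z ⊆ X a closed subscheme and
σ : B → X a blow-up of X along Z (the inverse image ideal of Z is effective Cartier and σ is final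
with this property). Then every k-morphism f : P^1_k → X whose image is not contained in Z lifts
uniquely along σ: there is exactly one morphism g : P^1_k → B with g ≫ σ = f. Equivalently, over the
open locus of morphisms meeting X ∖ Z, the morphism Mor(P^1_k, B) → Mor(P^1_k, X) induced by σ is a
bijection on k-points. -/
theorem result
    {k : Type u} [Field k] [IsAlgClosed k] {n : ℕ} (X : Scheme.{u})
    (c : X ⟶ CohB1.ProjSpace n k) [IsClosedImmersion c]
    (Z : Scheme.{u}) (iZ : Z ⟶ X) [IsClosedImmersion iZ]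
    (B : Scheme.{u}) (σ : B ⟶ X) (hσ : BlowUp.IsBlowUp σ iZ.ker)
    (f : CohB1.ProjSpace 1 k ⟶ X)
    (hf : f ≫ c ≫ CohB1.ProjSpace.toSpec n k = CohB1.ProjSpace.toSpec 1 k)
    (hfZ : ¬ Set.range f ⊆ Set.range iZ) :
    ∃! g : CohB1.ProjSpace 1 k ⟶ B, g ≫ σ = f := by
  have hint : IsIntegral (CohB1.ProjSpace 1 k) := by
    unfold CohB1.ProjSpace
    rw [Groth.Agent.S3557.result (CohB1.polyGrading 1 k) (fun f _ hf => hf.eq_zero)]
    exact ⟨⟨MvPolynomial.X 0, HomogeneousIdeal.mem_irrelevant_of_mem _ Nat.one_pos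
      (Groth.Agent.H8.P1.X_mem k 1 0), MvPolynomial.X_ne_zero 0⟩,
      fun f _ g _ h => mul_eq_zero.mp h⟩
  have hJ : iZ.ker.comap f ≠ ⊥ := by
    intro h
    apply hfZ
    have h1 := congrArg Scheme.IdealSheafData.support h
    rw [Scheme.IdealSheafData.support_comap, Scheme.IdealSheafData.support_bot] at h1
    rintro _ ⟨p, rfl⟩
    have h2 : p ∈ (iZ.ker.support.preimage f.continuous) := by rw [h1]; trivial
    have h3 : (iZ.ker.support : Set X) = Set.range iZ := by
      rw [Scheme.Hom.support_ker, iZ.isClosedEmbedding.isClosed_range.closure_eq]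
    have h4 : f p ∈ (iZ.ker.support : Set X) := h2
    rwa [h3] at h4
  have hcart : BlowUp.IsEffCartierIdeal (iZ.ker.comap f) := by
    refine Groth.Agent.H8.isEffCartier_of_pid_cover _ hJ (fun x => ?_)
    have hx : x ∈ (⊤ : (CohB1.ProjSpace 1 k).Opens) := trivial
    rw [← Groth.Agent.Lead.Coh.iSup_stdOpen] at hx
    obtain ⟨i, hi⟩ := TopologicalSpace.Opens.mem_iSup.mp hx
    refine ⟨⟨Groth.Agent.Lead.Coh.stdOpen 1 k i,
      Groth.Agent.Lead.Coh.isAffineOpen_stdOpen 1 k i⟩, hi, ?_⟩
    let e := Proj.basicOpenIsoAway (CohB1.polyGrading 1 k) (MvPolynomial.X i) (m := 1)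
      (MvPolynomial.isHomogeneous_X k i) Nat.one_pos
    have : IsPrincipalIdealRing ↑(CommRingCat.of (HomogeneousLocalization.Away
        (CohB1.polyGrading 1 k) (MvPolynomial.X i))) :=
      inferInstanceAs (IsPrincipalIdealRing (HomogeneousLocalization.Away
        (CohB1.polyGrading 1 k) (MvPolynomial.X i : MvPolynomial (Fin 2) k)))
    exact IsPrincipalIdealRing.of_surjective e.hom.hom
      (ConcreteCategory.bijective_of_isIso e.hom).2
  exact hσ.2 _ f hcart

end Groth.Agent.S17086
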