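import Groth.Statements.S1714
import Mathlib
import Groth.Agent.H23.DualDimFun
import Groth.Agent.H26.FlatBCDual4
import Groth.Agent.H26.AdicComplMax
import Groth.Agent.H20.ComplNoeth2

set_option autoImplicit false
universe u
open CategoryTheory
attribute [local instance] HasDerivedCategory.standard
open LocCoh

namespace Groth.Agent.S1714

/-- Let A be a Noetherian ring with a dualizing complex, I an ideal, M a finite A-module, A' and M' the
I-adic completions. Let p' ⊆ q' be primes of A' with I A' ⊆ q', lying over the primes p ⊆ q of A.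
Then the depth of M'_{p'} over A'_{p'} is at least the depth of M_p over A_p, and depth(M'_{p'})
plus the dimension of the interval of primes [p', q'] equals depth(M_p) plus the dimension of [p,
q]. -/
theorem result (A : Type u) [CommRing A] [IsNoetherianRing A] (hA : ∃ ω : Dual.D A, Dual.IsDualizing A ω) (I : Ideal A) (M : Type u) [AddCommGroup M] [Module A M] [Module.Finite A M] (p' q' : PrimeSpectrum (AdicCompletion I A)) (hpq : p' ≤ q') (hq : Ideal.map (algebraMap A (AdicCompletion I A)) I ≤ q'.asIdeal) : LocCoh.depth (Localization.AtPrime (p'.asIdeal.comap (algebraMap A (AdicCompletion I A)))) (LocalizedModule (p'.asIdeal.comap (algebraMap A (AdicCompletion I A))).primeCompl M) ≤ LocCoh.depth (Localization.AtPrime p'.asIdeal) (LocalizedModule p'.asIdeal.primeCompl (AdicCompletion I M)) ∧ ((LocCoh.depth (Localization.AtPrime p'.asIdeal) (LocalizedModule p'.asIdeal.primeCompl (AdicCompletion I M)) : ℕ∞) : WithBot ℕ∞) + Order.krullDim (Set.Icc p' q') = ((LocCoh.depth (Localization.AtPrime (p'.asIdeal.comap (algebraMap A (AdicCompletion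 I A)))) (LocalizedModule (p'.asIdeal.comap (algebraMap A (AdicCompletion I A))).primeCompl M) : ℕ∞) : WithBot ℕ∞) + Order.krullDim (Set.Icc ((PrimeSpectrum.comap (algebraMap A (AdicCompletion I A))) p') ((PrimeSpectrum.comap (algebraMap A (AdicCompletion I A))) q')) := by
  obtain ⟨ω, hω⟩ := hA
  have : IsNoetherianRing (AdicCompletion I A) :=
    Groth.Agent.H20.isNoetherianRing_adicCompletion I
  have : Module.Flat A (AdicCompletion I A) := AdicCompletion.flat_of_isNoetherian I
  have hs : ∀ x : AdicCompletion I A, ∃ a : A,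
      x - algebraMap A (AdicCompletion I A) a ∈ I.map (algebraMap A (AdicCompletion I A)) := by
    intro x
    obtain ⟨a, ha⟩ := Groth.Agent.H26.AdicComplMax.exists_sub_mem_map_pow I I le_rfl 1 x
    rw [pow_one] at ha
    exact ⟨a, ha⟩
  have hB : Dual.IsDualizing (AdicCompletion I A)
      ((Groth.Agent.H26.FlatBCHom.LB A (AdicCompletion I A)).obj ω) :=
    Groth.Agent.H26.FlatBCDual.isDualizing_LB_of_jacobson I hs
      (Groth.Agent.H26.AdicComplMax.map_le_jacobson I) ω hω
  have hQ : q'.asIdeal ∈ ((q'.asIdeal.comap (algebraMap A (AdicCompletion I A))).map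
      (algebraMap A (AdicCompletion I A))).minimalPrimes := by
    refine ⟨⟨q'.2, Ideal.map_comap_le⟩, ?_⟩
    rintro Q₁ ⟨hQ₁p, hQ₁⟩ hQ₁le b hb
    obtain ⟨a, ha⟩ := hs b
    have hIq : I ≤ q'.asIdeal.comap (algebraMap A (AdicCompletion I A)) :=
      Ideal.map_le_iff_le_comap.mp hq
    have hx : b - algebraMap A (AdicCompletion I A) a ∈ Q₁ := hQ₁ (Ideal.map_mono hIq ha)
    have ha' : algebraMap A (AdicCompletion I A) a ∈ q'.asIdeal := by
      have := q'.asIdeal.sub_mem hb (hQ₁le hx)
      simpa using this
    have ha'' : algebraMap A (AdicCompletion I A) a ∈ Q₁ :=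
      hQ₁ (Ideal.mem_map_of_mem _ (Ideal.mem_comap.mpr ha'))
    have := Q₁.add_mem hx ha''
    simpa using this
  exact Groth.Agent.H23.DualDimFun.depth_add_krullDim_Icc hω hB M _
    (AdicCompletion.ofTensorProductEquivOfFiniteNoetherian I M) p' q' hpq hQ

end Groth.Agent.S1714
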