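import Groth.Statements.S1715
import Groth.Agent.H2.DualCx.PLocalCM

set_option autoImplicit false
universe u
open CategoryTheory
attribute [local instance] HasDerivedCategory.standard
open LocCoh

namespace Groth.Agent.S1715

/-- For an affine scheme: let A be a Noetherian ring with a dualizing complex and M a finite A-module
satisfying Serre's condition (S_k). Then there are only finitely many primes p such that M_p has
depth exactly k while its support has dimension greater than k. (The source states this for coherent
modules on a Noetherian scheme with a dualizing complex.) -/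
theorem result (A : Type u) [CommRing A] [IsNoetherianRing A] (hA : ∃ ω : Dual.D A, Dual.IsDualizing A ω) (M : Type u) [AddCommGroup M] [Module A M] [Module.Finite A M] (k : ℕ) (hM : LocCoh.HasSk k A M) : Set.Finite {p : PrimeSpectrum A | LocCoh.depth (Localization.AtPrime p.asIdeal) (LocalizedModule p.asIdeal.primeCompl M) = k ∧ (k : WithBot ℕ∞) < Module.supportDim (Localization.AtPrime p.asIdeal) (LocalizedModule p.asIdeal.primeCompl M)} := by
  obtain ⟨ω, hω⟩ := hA
  classical
  have hfin := Groth.Agent.H2.DualCx.finT_of_isDualizing' hω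
  obtain ⟨a, b, hab⟩ := hω.finite_injective_dimension
  have hrange : ∀ (i : ℤ) (P : PrimeSpectrum A),
      P ∈ Module.support A (Groth.Agent.H2.DualCx.T ω i M) → i ∈ Finset.Icc a b := by
    intro i P hP
    rw [Finset.mem_Icc]
    by_contra hcon
    have : i < a ∨ b < i := by omega
    have := hab M i this
    rw [Module.support_eq_empty] at hP
    exact absurd hP (Set.notMem_empty P)
  let I : ℤ → ℤ → Ideal A := fun i j =>
    Module.annihilator A (Groth.Agent.H2.DualCx.T ω i M) ⊔
      Module.annihilator A (Groth.Agent.H2.DualCx.T ω j M)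
  let F : Set (Ideal A) := ⋃ i ∈ Finset.Icc a b, ⋃ j ∈ Finset.Icc a b, (I i j).minimalPrimes
  have hF : F.Finite :=
    Set.Finite.biUnion (Finset.finite_toSet _) (fun i _ =>
      Set.Finite.biUnion (Finset.finite_toSet _) (fun j _ =>
        Ideal.finite_minimalPrimes_of_isNoetherianRing A _))
  have hinj : Set.InjOn (PrimeSpectrum.asIdeal (R := A)) (PrimeSpectrum.asIdeal ⁻¹' F) :=
    fun x _ y _ h => PrimeSpectrum.ext h
  refine (hF.preimage hinj).subset ?_
  rintro p ⟨hdepth, hdim⟩
  have hgen := Groth.Agent.H2.DualCx.depth_support_gen hfin p (Groth.Agent.H2.DualCx.topDeg hω p)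
    (fun M _ _ _ k hk => Groth.Agent.H2.DualCx.topDeg_max hω p M k hk)
    (Groth.Agent.H2.DualCx.topDeg_mem hω p)
  have hU := (hgen k M).2 hdepth
  have hpM : p ∈ Module.support A M := by
    rw [Module.mem_support_iff,
      ← Module.supportDim_ne_bot_iff_nontrivial (Localization.AtPrime p.asIdeal)]
    intro h
    rw [h] at hdim
    exact not_lt_bot hdim
  obtain ⟨e, he⟩ := Groth.Agent.H2.DualCx.exists_supportDim_eq_nat M p hpM
  have hke : k < e := by
    rw [he] at hdim
    exact_mod_cast hdim
  obtain ⟨j, hj1, hj2⟩ := Groth.Agent.H2.DualCx.exists_le_of_supportDim_eq hω M p e he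
  set i : ℤ := Groth.Agent.H2.DualCx.topDeg hω p - (k : ℤ) with hi
  have hji : j < i := by
    have : (k : ℤ) < e := by exact_mod_cast hke
    omega
  have hmem : p.asIdeal ∈ (I i j).minimalPrimes := by
    have hfi := hfin i M
    have hfj := hfin j M
    refine ⟨⟨p.2, sup_le ?_ ?_⟩, ?_⟩
    · exact (Module.mem_support_iff_of_finite.mp hU)
    · exact (Module.mem_support_iff_of_finite.mp hj2)
    · rintro q' ⟨hq'prime, hq'le⟩ hq'p
      by_contra hnle
      let Q : PrimeSpectrum A := ⟨q', hq'prime⟩
      have hQp : Q < p := lt_of_le_not_ge hq'p hnle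
      have hQi : Q ∈ Module.support A (Groth.Agent.H2.DualCx.T ω i M) := by
        rw [Module.mem_support_iff_of_finite]
        exact le_sup_left.trans hq'le
      have hQj : Q ∈ Module.support A (Groth.Agent.H2.DualCx.T ω j M) := by
        rw [Module.mem_support_iff_of_finite]
        exact le_sup_right.trans hq'le
      have hQM : Q ∈ Module.support A M :=
        Groth.Agent.H2.DualCx.support_T_subset ω i M hQi
      have hlt := Groth.Agent.H2.DualCx.topDeg_lt hω hQp
      have hgenQ := Groth.Agent.H2.DualCx.depth_support_gen hfin Q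
        (Groth.Agent.H2.DualCx.topDeg hω Q)
        (fun M _ _ _ k hk => Groth.Agent.H2.DualCx.topDeg_max hω Q M k hk)
        (Groth.Agent.H2.DualCx.topDeg_mem hω Q)
      obtain ⟨e', he'⟩ := Groth.Agent.H2.DualCx.exists_supportDim_eq_nat M Q hQM
      -- the depth at `Q` is `< k`
      have hdQ : LocCoh.depth (Localization.AtPrime Q.asIdeal)
          (LocalizedModule Q.asIdeal.primeCompl M) < k := by
        by_contra hcon
        push Not at hcon
        exact (hgenQ k M).1 hcon i (by omega) hQi
      obtain ⟨r', hr'⟩ := ENat.ne_top_iff_exists.mp (ne_top_of_lt hdQ)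
      have hr'k : r' < k := by
        rw [← hr'] at hdQ
        exact_mod_cast hdQ
      have h1 : i ≤ Groth.Agent.H2.DualCx.topDeg hω Q - r' := by
        by_contra hcon
        push Not at hcon
        exact (hgenQ r' M).1 (le_of_eq hr') i hcon hQi
      have h2 := Groth.Agent.H2.DualCx.le_supportDim_of_mem_support_T hω M Q j hQj
      rw [he'] at h2
      have h3 : (Groth.Agent.H2.DualCx.topDeg hω Q - j).toNat ≤ e' := by exact_mod_cast h2
      have hr'e' : r' < e' := by omega
      -- Serre's condition at `Q`
      have hS := hM Q.asIdeal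
      rw [he', ← hr'] at hS
      have hS' : min ((k : ℕ∞) : WithBot ℕ∞) (((e' : ℕ) : ℕ∞) : WithBot ℕ∞) ≤
          (((r' : ℕ) : ℕ∞) : WithBot ℕ∞) := hS
      rw [← WithBot.coe_min, WithBot.coe_le_coe] at hS'
      rcases min_le_iff.mp hS' with h | h
      · have : k ≤ r' := by exact_mod_cast h
        omega
      · have : e' ≤ r' := by exact_mod_cast h
        omega
  change p.asIdeal ∈ F
  simp only [F, Set.mem_iUnion]
  exact ⟨i, hrange i p hU, j, hrange j p hj2, hmem⟩

end Groth.Agent.S1715
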