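import Groth.Statements.S17155
import Groth.Agent.H84.DMNewton

set_option autoImplicit false
universe u v
open Isoc

namespace Groth.Agent.S17155

open Groth.Agent.H84 Groth.Agent.H85 in
/-- the classification, by induction on the dimension -/
theorem classify (p : ℕ) [Fact p.Prime] (k : Type u) [Field k] [CharP k p] [PerfectRing k p]
    [IsAlgClosed k] (a : ℤ) (ha : a ≠ 0) :
    ∀ (n : ℕ) (N : Type v) [AddCommGroup N] [Module (WittVector p k) N]
      [Module (FractionRing (WittVector p k)) N]
      [IsScalarTower (WittVector p k) (FractionRing (WittVector p k)) N]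
      (F : N →ₛₗ[Isoc.frob p k a] N), Isoc.IsIsoc F →
      Module.finrank (FractionRing (WittVector p k)) N = n →
      ∃ (t : ℕ) (d : Fin t → ℤ) (h : Fin t → ℕ)
        (e : N ≃ₗ[(FractionRing (WittVector p k))]
          ((i : Fin t) → (Fin (h i) → (FractionRing (WittVector p k))))),
        (∀ i, 0 < h i ∧ Int.gcd (d i) (h i) = 1) ∧
        (∀ (x : N) (i : Fin t), e (F x) i = Isoc.stdIsoc (Isoc.frob p k a) (d i) (h i) (e x i)) ∧
        ∀ μ : ℚ, Isoc.newtonMult F μ =
          ∑ i : Fin t, (if ((d i : ℚ) / (h i : ℚ)) = μ then h i else 0) := by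
  intro n
  induction n using Nat.strong_induction_on with
  | _ n ih =>
  intro N _ _ _ _ F hF hn
  have hfin := hF.finite
  rcases subsingleton_or_nontrivial N with hsub | hnt
  · refine ⟨0, fun i => i.elim0, fun i => i.elim0, LinearEquiv.ofSubsingleton _ _,
      fun i => i.elim0, fun x i => i.elim0, fun μ => ?_⟩
    rw [Finset.univ_eq_empty, Finset.sum_empty]
    unfold Isoc.newtonMult
    exact Module.finrank_zero_of_subsingleton
  · obtain ⟨d₀, h₀, y, hh₀, hgcd, hy0, hy⟩ := exists_eigenvector ha F hF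
    have hjinj := stdMap_injective F hh₀ hgcd hy hy0
    have hP : ∀ x ∈ LinearMap.range (stdMap (p := p) (k := k) (⇑F) h₀ y),
        F x ∈ LinearMap.range (stdMap (p := p) (k := k) (⇑F) h₀ y) := by
      rintro _ ⟨z, rfl⟩
      exact ⟨_, stdMap_equivariant F hh₀ hy z⟩
    obtain ⟨Q, hQ, hPQ⟩ := exists_stable_compl ha F hF
      (iSup_slopePart_eq_top a _ N F hF rfl) _ hP
    have hFQ := restrict_isIsoc F hF hQ
    have hrank : Module.finrank (FractionRing (WittVector p k)) Q < n := by
      have h1 := Submodule.finrank_add_eq_of_isCompl hPQ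
      rw [LinearMap.finrank_range_of_inj hjinj, Module.finrank_fin_fun, hn] at h1
      omega
    obtain ⟨t', d', h', e', hpos', hequiv', hnewton'⟩ := ih _ hrank Q (F.restrict hQ) hFQ rfl
    let e₁ := (LinearEquiv.ofInjective (stdMap (p := p) (k := k) (⇑F) h₀ y) hjinj).symm
    have he₁ : ∀ x : LinearMap.range (stdMap (p := p) (k := k) (⇑F) h₀ y),
        e₁ (F.restrict hP x) = Isoc.stdIsoc (Isoc.frob p k a) d₀ h₀ (e₁ x) := by
      intro x
      obtain ⟨z, hz⟩ := (LinearEquiv.ofInjective (stdMap (p := p) (k := k) (⇑F) h₀ y) hjinj).surjective x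
      rw [← hz]
      have h2 : F.restrict hP (LinearEquiv.ofInjective (stdMap (p := p) (k := k) (⇑F) h₀ y) hjinj z) =
          LinearEquiv.ofInjective (stdMap (p := p) (k := k) (⇑F) h₀ y) hjinj
            (Isoc.stdIsoc (Isoc.frob p k a) d₀ h₀ z) := by
        apply Subtype.ext
        exact (stdMap_equivariant F hh₀ hy z).symm
      rw [h2, LinearEquiv.symm_apply_apply, LinearEquiv.symm_apply_apply]
    obtain ⟨e, he⟩ := glue F hPQ hP hQ e₁ he₁ d' h' e' hequiv'
    refine ⟨t' + 1, Fin.cons d₀ d', Fin.cons h₀ h', e, ?_, he, ?_⟩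
    · intro i
      induction i using Fin.cases with
      | zero => exact ⟨hh₀, hgcd⟩
      | succ i => exact hpos' i
    · intro μ
      rw [newtonMult_add F hF hPQ hP hQ μ, newtonMult_range_stdMap F hF hh₀ hy hjinj hP μ,
        hnewton' μ, Fin.sum_univ_succ]
      rfl

/-- Let k be an algebraically closed field of characteristic p, a ∈ ℤ with a ≠ 0, and (N, F) a
σ^a-F-isocrystal over k. Then (N, F) is isomorphic to a finite direct sum of standard isocrystals
N_λ (λ = d/h in lowest terms, h > 0; N_λ is L^h with F e_j = e_{j+1} for j + 1 < h and F e_{h−1} =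
p^d · e_0): there are t ∈ ℕ, integers d_i and natural numbers h_i > 0 with gcd(d_i, h_i) = 1 (i <
t), and an L-linear isomorphism e from N to the product of the spaces L^{h_i} such that e ∘ F is the
product of the standard Frobenii composed with e. Moreover, for every μ ∈ ℚ, the sum of the h_i over
those i with d_i/h_i = μ equals the multiplicity m_μ of μ as a Newton slope of (N, F), i.e. the
L-dimension of the slope-μ part of N; so N_λ occurs m_λ/h(λ) times. (Both a ≠ 0 and k algebraically
closed are needed.) -/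
theorem result (p : ℕ) [Fact p.Prime] (k : Type u) [Field k] [CharP k p] [PerfectRing k p] [IsAlgClosed k]
    (a : ℤ) (ha : a ≠ 0)
    (N : Type v) [AddCommGroup N] [Module (WittVector p k) N] [Module (FractionRing (WittVector p k)) N]
    [IsScalarTower (WittVector p k) (FractionRing (WittVector p k)) N]
    (F : N →ₛₗ[Isoc.frob p k a] N) (hF : Isoc.IsIsoc F) :
    ∃ (t : ℕ) (d : Fin t → ℤ) (h : Fin t → ℕ)
      (e : N ≃ₗ[(FractionRing (WittVector p k))] ((i : Fin t) → (Fin (h i) → (FractionRing (WittVector p k))))),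
      (∀ i, 0 < h i ∧ Int.gcd (d i) (h i) = 1) ∧
      (∀ (x : N) (i : Fin t), e (F x) i = Isoc.stdIsoc (Isoc.frob p k a) (d i) (h i) (e x i)) ∧
      ∀ μ : ℚ, Isoc.newtonMult F μ = ∑ i : Fin t, (if ((d i : ℚ) / (h i : ℚ)) = μ then h i else 0) := by
  exact classify p k a ha _ N F hF rfl

end Groth.Agent.S17155
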