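import Groth.Statements.S17157
import Groth.Agent.H85.Witt

set_option autoImplicit false
universe u
open Isoc

namespace Groth.Agent.S17157

/-- Let k be a finite field of characteristic p, W = W(k), L its fraction field with Frobenius σ, and
let U be the σ-semilinear endomorphism of L² = (Fin 2 → L) determined by U(e₀) = e₀ and U(e₁) = e₀ +
e₁ on the standard basis. Then (L², U) is an F-isocrystal in which the sub-isocrystal L · e₀ admits
no U-stable complementary L-subspace; in particular the category of F-isocrystals over a finite
field is not semisimple. (Over an algebraically closed field a complement exists.) -/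
theorem result
    (p : ℕ) [Fact p.Prime] (k : Type u) [Field k] [CharP k p] [PerfectRing k p] [Finite k]
    (U : (Fin 2 → (FractionRing (WittVector p k))) →ₛₗ[Isoc.frob p k 1] (Fin 2 → (FractionRing (WittVector p k))))
    (hU0 : U (Pi.single 0 1) = Pi.single 0 1)
    (hU1 : U (Pi.single 1 1) = Pi.single 0 1 + Pi.single 1 1)
    (Q : Submodule (FractionRing (WittVector p k)) (Fin 2 → (FractionRing (WittVector p k)))) (hQ : ∀ x ∈ Q, U x ∈ Q) :
    ¬ IsCompl (Submodule.span (FractionRing (WittVector p k)) {(Pi.single 0 1 : Fin 2 → (FractionRing (WittVector p k)))}) Q := by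
  classical
  intro hc
  have : Fintype k := Fintype.ofFinite k
  obtain ⟨m, -, hm⟩ := FiniteField.card k p
  -- frobenius iterate is the identity on W
  have hfrobW : ∀ w : WittVector p k, (WittVector.frobenius^[(m : ℕ)]) w = w := by
    intro w
    ext n
    rw [WittVector.iterate_frobenius_coeff, ← hm, FiniteField.pow_card]
  have hσW : ∀ (j : ℕ) (w : WittVector p k),
      ((Isoc.frob p k 1)^[j]) (algebraMap (WittVector p k) (FractionRing (WittVector p k)) w) = algebraMap (WittVector p k) (FractionRing (WittVector p k)) ((WittVector.frobenius^[j]) w) := by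
    intro j
    induction j with
    | zero => intro w; rfl
    | succ j ih =>
      intro w
      rw [Function.iterate_succ_apply', ih, Function.iterate_succ_apply', Isoc.frob_algebraMap, zpow_one]
      rfl
  have hσid : ∀ a : (FractionRing (WittVector p k)), ((Isoc.frob p k 1)^[(m : ℕ)]) a = a := by
    intro a
    obtain ⟨x, y, hy, rfl⟩ := IsFractionRing.div_surjective (A := WittVector p k) a
    have : ∀ (j : ℕ) (a b : (FractionRing (WittVector p k))), ((Isoc.frob p k 1)^[j]) (a / b) = ((Isoc.frob p k 1)^[j]) a / ((Isoc.frob p k 1)^[j]) b := by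
      intro j
      induction j with
      | zero => intro a b; rfl
      | succ j ih => intro a b; rw [Function.iterate_succ_apply', ih, map_div₀, Function.iterate_succ_apply', Function.iterate_succ_apply']
    rw [this, hσW, hσW, hfrobW, hfrobW]
  -- decompose e₁
  have htop := hc.sup_eq_top
  have he1 : (Pi.single 1 1 : Fin 2 → (FractionRing (WittVector p k))) ∈ Submodule.span (FractionRing (WittVector p k)) {(Pi.single 0 1 : Fin 2 → (FractionRing (WittVector p k)))} ⊔ Q := by
    rw [htop]; trivial
  obtain ⟨y, hy, q, hq, hyq⟩ := Submodule.mem_sup.mp he1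
  obtain ⟨a, rfl⟩ := Submodule.mem_span_singleton.mp hy
  -- q = e₁ - a e₀
  have hq' : q = Pi.single 1 1 - a • (Pi.single 0 1 : Fin 2 → (FractionRing (WittVector p k))) := by
    rw [← hyq]; abel
  have hUq : U q = Pi.single 0 1 + Pi.single 1 1 - (Isoc.frob p k 1) a • (Pi.single 0 1 : Fin 2 → (FractionRing (WittVector p k))) := by
    rw [hq', map_sub, map_smulₛₗ, hU0, hU1]
  have hdiff : q - U q ∈ Q := Q.sub_mem hq (hQ q hq)
  have hdiff' : q - U q = ((Isoc.frob p k 1) a - a - 1) • (Pi.single 0 1 : Fin 2 → (FractionRing (WittVector p k))) := by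
    rw [hUq, hq']
    simp only [sub_smul, one_smul]
    abel
  have hmem : q - U q ∈ Submodule.span (FractionRing (WittVector p k)) {(Pi.single 0 1 : Fin 2 → (FractionRing (WittVector p k)))} := by
    rw [hdiff']
    exact Submodule.smul_mem _ _ (Submodule.mem_span_singleton_self _)
  have hzero : q - U q = 0 := by
    have := hc.inf_eq_bot
    have h2 : q - U q ∈ Submodule.span (FractionRing (WittVector p k)) {(Pi.single 0 1 : Fin 2 → (FractionRing (WittVector p k)))} ⊓ Q := ⟨hmem, hdiff⟩
    rw [this] at h2
    exact (Submodule.mem_bot (FractionRing (WittVector p k))).mp h2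
  have hσa : (Isoc.frob p k 1) a = a + 1 := by
    rw [hdiff'] at hzero
    have h3 := congrFun hzero 0
    simp only [Pi.smul_apply, Pi.single_eq_same, smul_eq_mul, mul_one, Pi.zero_apply] at h3
    linear_combination h3
  have hiter : ∀ j : ℕ, ((Isoc.frob p k 1)^[j]) a = a + j := by
    intro j
    induction j with
    | zero => simp
    | succ j ih =>
      rw [Function.iterate_succ_apply', ih, map_add, hσa, map_natCast]
      push_cast; ring
  have hfin := hiter (m : ℕ)
  rw [hσid] at hfin
  have hm0 : ((m : ℕ) : (FractionRing (WittVector p k))) = 0 := by linear_combination -hfin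
  have : ((m : ℕ) : (FractionRing (WittVector p k))) ≠ 0 := by
    have hpos : 0 < (m : ℕ) := m.pos
    exact_mod_cast (Nat.cast_ne_zero (R := (FractionRing (WittVector p k)))).mpr hpos.ne'
  exact this hm0

end Groth.Agent.S17157
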