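import Groth.Statements.S1716
import Groth.Agent.H2.DualCx.PLocalCM

set_option autoImplicit false
universe u
open CategoryTheory
attribute [local instance] HasDerivedCategory.standard
open Dual

namespace Groth.Agent.S1716

/-- Let A be a Noetherian ring with a dualizing complex and M a finite A-module. The set U of primes p
at which M_p is zero or a Cohen–Macaulay module is open in Spec A, and the primes of the support of
M at which M_p is Cohen–Macaulay are dense in the support of M. (The zero module is counted as
Cohen–Macaulay here.) -/
theorem result (A : Type u) [CommRing A] [IsNoetherianRing A] (hA : ∃ ω : Dual.D A, Dual.IsDualizing A ω) (M : Type u) [AddCommGroup M] [Module A M] [Module.Finite A M] : IsOpen {p : PrimeSpectrum A | Subsingleton (LocalizedModule p.asIdeal.primeCompl M) ∨ LocCoh.IsCohenMacaulayModule (Localization.AtPrime p.asIdeal) (LocalizedModule p.asIdeal.primeCompl M)} ∧ Module.support A M ⊆ closure ({p : PrimeSpectrum A | LocCoh.IsCohenMacaulayModule (Localization.AtPrime p.asIdeal) (LocalizedModule p.asIdeal.primeCompl M)} ∩ Module.support A M) := by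
  obtain ⟨ω, hω⟩ := hA
  constructor
  · have heq : {p : PrimeSpectrum A | Subsingleton (LocalizedModule p.asIdeal.primeCompl M) ∨
        LocCoh.IsCohenMacaulayModule (Localization.AtPrime p.asIdeal)
          (LocalizedModule p.asIdeal.primeCompl M)} =
        {P : PrimeSpectrum A | ∀ i j : ℤ,
          P ∈ Module.support A (Groth.Agent.H2.DualCx.T ω i M) →
          P ∈ Module.support A (Groth.Agent.H2.DualCx.T ω j M) → i = j} := by
      ext P
      exact Groth.Agent.H2.DualCx.zero_or_cm_iff hω M P
    rw [heq]
    exact Groth.Agent.H2.DualCx.isOpen_unique_degree hω M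
  · intro P hPM
    obtain ⟨Q, hQM, hQP, hmin⟩ := Groth.Agent.H2.DualCx.exists_minimal_le M P hPM
    have hQ : LocCoh.IsCohenMacaulayModule (Localization.AtPrime Q.asIdeal)
        (LocalizedModule Q.asIdeal.primeCompl M) := by
      rw [Groth.Agent.H2.DualCx.isCohenMacaulayModule_localizedModule_iff hω M Q hQM]
      intro i j hi hj
      rw [(Groth.Agent.H2.DualCx.mem_support_T_iff_of_minimal hω M Q hQM hmin i).mp hi,
        (Groth.Agent.H2.DualCx.mem_support_T_iff_of_minimal hω M Q hQM hmin j).mp hj]
    have hspec : Q ⤳ P := (PrimeSpectrum.le_iff_specializes Q P).mp hQP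
    have h1 : P ∈ closure {Q} := specializes_iff_mem_closure.mp hspec
    have h2 : ({Q} : Set (PrimeSpectrum A)) ⊆
        {p : PrimeSpectrum A | LocCoh.IsCohenMacaulayModule (Localization.AtPrime p.asIdeal)
          (LocalizedModule p.asIdeal.primeCompl M)} ∩ Module.support A M := by
      rw [Set.singleton_subset_iff]
      exact ⟨hQ, hQM⟩
    exact closure_mono h2 h1

end Groth.Agent.S1716
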