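import Groth.Statements.S17175
import Mathlib

set_option autoImplicit false
universe u
open CAlg

namespace Groth.Agent.S17175

open PowerSeries in
/-- Let k be a field, O₀ = k[[x, y]]/(xy) the complete local ring of a node and Õ₀ = k[[x]] × k[[y]] its
normalization, O₀ being embedded in Õ₀ by h ↦ (h(x, 0), h(0, y)) as the subring of pairs with equal
constant coefficients. Regard Õ₀ as an O₀-module: it is the rank-one torsion-free O₀-module that is
not free. Then every O₀-linear endomorphism of this module is Õ₀-linear, i.e. it is multiplication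
by a unique element of Õ₀; consequently its O₀-endomorphism ring is Õ₀ and its O₀-automorphism group
is the unit group of Õ₀. Here an O₀-linear endomorphism is an additive map of k[[X]] × k[[X]]
commuting with multiplication by every pair whose two constant coefficients agree. (The source works
over an algebraically closed field; only the field structure is used.) -/
theorem result (k : Type u) [Field k]
    (φ : (k⟦X⟧ × k⟦X⟧) →+ (k⟦X⟧ × k⟦X⟧))
    (hφ : ∀ a s : k⟦X⟧ × k⟦X⟧, constantCoeff a.1 = constantCoeff a.2 → φ (a * s) = a * φ s) :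
    ∃! b : k⟦X⟧ × k⟦X⟧, ∀ s : k⟦X⟧ × k⟦X⟧, φ s = b * s := by
  classical
  have hX : (PowerSeries.X : k⟦X⟧) ≠ 0 := PowerSeries.X_ne_zero
  set b := φ 1 with hb
  -- φ (1, 0) = b * (1, 0)
  have he1 : φ ((1 : k⟦X⟧), (0 : k⟦X⟧)) = b * ((1 : k⟦X⟧), (0 : k⟦X⟧)) := by
    have h1 := hφ ((PowerSeries.X : k⟦X⟧), (0 : k⟦X⟧)) ((1 : k⟦X⟧), (0 : k⟦X⟧)) (by simp)
    have h2 := hφ ((PowerSeries.X : k⟦X⟧), (0 : k⟦X⟧)) 1 (by simp)
    have h3 := hφ ((0 : k⟦X⟧), (PowerSeries.X : k⟦X⟧)) ((1 : k⟦X⟧), (0 : k⟦X⟧)) (by simp)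
    have e1 : ((PowerSeries.X : k⟦X⟧), (0 : k⟦X⟧)) * ((1 : k⟦X⟧), (0 : k⟦X⟧)) =
        ((PowerSeries.X : k⟦X⟧), (0 : k⟦X⟧)) * 1 := by
      ext <;> simp
    rw [e1, h2] at h1
    have e3 : ((0 : k⟦X⟧), (PowerSeries.X : k⟦X⟧)) * ((1 : k⟦X⟧), (0 : k⟦X⟧)) = 0 := by
      ext <;> simp
    rw [e3, map_zero] at h3
    have c1 := congrArg Prod.fst h1
    have c2 := congrArg Prod.snd h3
    simp only [Prod.fst_mul, Prod.snd_mul, Prod.fst_zero, Prod.snd_zero] at c1 c2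
    ext1
    · simp only [Prod.fst_mul, mul_one]
      exact (mul_left_cancel₀ hX c1).symm
    · simp only [Prod.snd_mul, mul_zero]
      exact ((mul_eq_zero.mp c2.symm).resolve_left hX)
  have he2 : φ ((0 : k⟦X⟧), (1 : k⟦X⟧)) = b * ((0 : k⟦X⟧), (1 : k⟦X⟧)) := by
    have h1 := hφ ((0 : k⟦X⟧), (PowerSeries.X : k⟦X⟧)) ((0 : k⟦X⟧), (1 : k⟦X⟧)) (by simp)
    have h2 := hφ ((0 : k⟦X⟧), (PowerSeries.X : k⟦X⟧)) 1 (by simp)
    have h3 := hφ ((PowerSeries.X : k⟦X⟧), (0 : k⟦X⟧)) ((0 : k⟦X⟧), (1 : k⟦X⟧)) (by simp)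
    have e1 : ((0 : k⟦X⟧), (PowerSeries.X : k⟦X⟧)) * ((0 : k⟦X⟧), (1 : k⟦X⟧)) =
        ((0 : k⟦X⟧), (PowerSeries.X : k⟦X⟧)) * 1 := by
      ext <;> simp
    rw [e1, h2] at h1
    have e3 : ((PowerSeries.X : k⟦X⟧), (0 : k⟦X⟧)) * ((0 : k⟦X⟧), (1 : k⟦X⟧)) = 0 := by
      ext <;> simp
    rw [e3, map_zero] at h3
    have c1 := congrArg Prod.snd h1
    have c2 := congrArg Prod.fst h3
    simp only [Prod.fst_mul, Prod.snd_mul, Prod.fst_zero, Prod.snd_zero] at c1 c2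
    ext1
    · simp only [Prod.fst_mul, mul_zero]
      exact ((mul_eq_zero.mp c2.symm).resolve_left hX)
    · simp only [Prod.snd_mul, mul_one]
      exact (mul_left_cancel₀ hX c1).symm
  refine ⟨b, fun s => ?_, fun b' hb' => ?_⟩
  · have hs : s = (s.1, PowerSeries.C (PowerSeries.constantCoeff s.1)) * ((1 : k⟦X⟧), (0 : k⟦X⟧)) +
        (PowerSeries.C (PowerSeries.constantCoeff s.2), s.2) * ((0 : k⟦X⟧), (1 : k⟦X⟧)) := by
      ext <;> simp
    conv_lhs => rw [hs]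
    rw [map_add, hφ _ _ (by simp), hφ _ _ (by simp), he1, he2]
    conv_rhs => rw [hs]
    ring
  · have := hb' 1
    rw [mul_one] at this
    rw [← this]

end Groth.Agent.S17175
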