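import Groth.Statements.S17179
import Mathlib

set_option autoImplicit false
universe u
open LabGraph

namespace Groth.Agent.S17179

open LabGraph in
/-- Let Γ be the weighted dual graph of a Deligne–Mumford semistable curve X of genus g ≥ 3 (connected;
every weight-zero vertex without loop joined to the other vertices by at least two edges), d a
multidegree of total degree D satisfying the Basic Inequality, and Z a set of vertices whose degree
equals the upper extreme M_Z of the inequality, that is 2((2g - 2)·d_Z - D·canDeg Z) = cut Z·(2g -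
2). Then d + z again satisfies the Basic Inequality, where z, the multidegree of O(Z) on the total
space of a regular smoothing, is the twist of the indicator function of Z (it lowers the degree on Z
by cut Z and raises it on each outside vertex by its number of edges to Z). -/
theorem result {V E : Type u} [Fintype V] [Fintype E]
    [DecidableEq V] [DecidableEq E] (ends : E → V × V) (w : V → ℕ) (hX : IsSemistableGraph ends w)
    (hg : 3 ≤ genus ends w) (d : V → ℤ) (hBI : SatisfiesBI ends w d) (Z : Finset V)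
    (hZ : 2 * (canDeg ends w Finset.univ * (∑ v ∈ Z, d v) - (∑ v : V, d v) * canDeg ends w Z) =
      (cut ends Z : ℤ) * canDeg ends w Finset.univ) :
    SatisfiesBI ends w (fun v => d v + twist ends (fun u => if u ∈ Z then 1 else 0) v) := by
  classical
  -- notation
  set K := canDeg ends w Finset.univ with hK
  set D := ∑ v : V, d v with hD
  -- handshake and positivity of K
  have hhand : ∑ v : V, (endCount ends Finset.univ v : ℤ) = 2 * (Fintype.card E : ℤ) := by
    simp only [endCount]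
    push_cast
    rw [Finset.sum_comm]
    simp [Finset.sum_add_distrib, Finset.card_univ]
    ring
  have hKval : K = 2 * genus ends w - 2 := by
    simp only [hK, canDeg, genus]
    rw [Finset.sum_add_distrib, Finset.sum_sub_distrib, hhand, ← Finset.mul_sum]
    simp [Finset.card_univ]
    ring
  have hK0 : 0 ≤ K := by rw [hKval]; linarith
  -- the pointwise quantities
  let ξ : V → ℤ := fun v => K * d v - D * (2 * (w v : ℤ) - 2 + (endCount ends Finset.univ v : ℤ))
  have hx : ∀ Y : Finset V, K * (∑ v ∈ Y, d v) - D * canDeg ends w Y = ∑ v ∈ Y, ξ v := by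
    intro Y
    simp only [ξ, canDeg, Finset.sum_sub_distrib, Finset.mul_sum]
  have hBI' : ∀ Y : Finset V, 2 * |∑ v ∈ Y, ξ v| ≤ (cut ends Y : ℤ) * K := by
    intro Y
    rw [← hx]
    exact hBI Y
  have hZ' : 2 * (∑ v ∈ Z, ξ v) = (cut ends Z : ℤ) * K := by
    rw [← hx]
    exact hZ
  -- cut as an edge sum
  have hcut : ∀ Y : Finset V, (cut ends Y : ℤ) =
      ∑ e : E, (if ((ends e).1 ∈ Y ∧ (ends e).2 ∉ Y) ∨ ((ends e).1 ∉ Y ∧ (ends e).2 ∈ Y) then (1 : ℤ) else 0) := by
    intro Y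
    simp only [cut]
    rw [Finset.card_filter]
    push_cast
    rfl
  -- the twist summed over a set, as an edge sum
  set φ : V → ℤ := fun u => if u ∈ Z then 1 else 0 with hφ
  have hT : ∀ Y : Finset V, ∑ v ∈ Y, twist ends φ v =
      ∑ e : E, ((if (ends e).1 ∈ Y then φ (ends e).2 - φ (ends e).1 else 0) +
        (if (ends e).2 ∈ Y then φ (ends e).1 - φ (ends e).2 else 0)) := by
    intro Y
    simp only [twist]
    rw [Finset.sum_comm]
    apply Finset.sum_congr rfl
    intro e _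
    rw [Finset.sum_add_distrib]
    congr 1
    · rw [Finset.sum_ite_eq]
    · rw [Finset.sum_ite_eq]
  have hTtot : ∑ v : V, twist ends φ v = 0 := by
    rw [hT Finset.univ]
    apply Finset.sum_eq_zero
    intro e _
    simp
  -- the new total degree and new x
  have hD' : ∑ v : V, (d v + twist ends φ v) = D := by
    rw [Finset.sum_add_distrib, hTtot, add_zero]
  intro Y
  rw [hD']
  have hnew : K * (∑ v ∈ Y, (d v + twist ends φ v)) - D * canDeg ends w Y =
      (∑ v ∈ Y, ξ v) + K * ∑ v ∈ Y, twist ends φ v := by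
    rw [Finset.sum_add_distrib, mul_add, ← hx]
    ring
  rw [hnew, hT Y]
  -- set decompositions
  have hUI : ∑ v ∈ Y ∪ Z, ξ v + ∑ v ∈ Y ∩ Z, ξ v = ∑ v ∈ Y, ξ v + ∑ v ∈ Z, ξ v :=
    Finset.sum_union_inter
  have hYd : ∑ v ∈ Y \ Z, ξ v + ∑ v ∈ Y ∩ Z, ξ v = ∑ v ∈ Y, ξ v := by
    have := Finset.sum_sdiff (f := ξ) (Finset.inter_subset_left : Y ∩ Z ⊆ Y)
    rwa [Finset.sdiff_inter_self_left] at this
  have hZd : ∑ v ∈ Z \ Y, ξ v + ∑ v ∈ Y ∩ Z, ξ v = ∑ v ∈ Z, ξ v := by
    have := Finset.sum_sdiff (f := ξ) (Finset.inter_subset_right : Y ∩ Z ⊆ Z)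
    rwa [Finset.sdiff_inter_self_right] at this
  have bU := abs_le.mp (show |∑ v ∈ Y ∪ Z, ξ v| ≤ |∑ v ∈ Y ∪ Z, ξ v| from le_rfl)
  have bI := abs_le.mp (show |∑ v ∈ Y ∩ Z, ξ v| ≤ |∑ v ∈ Y ∩ Z, ξ v| from le_rfl)
  have bA := abs_le.mp (show |∑ v ∈ Y \ Z, ξ v| ≤ |∑ v ∈ Y \ Z, ξ v| from le_rfl)
  have bC := abs_le.mp (show |∑ v ∈ Z \ Y, ξ v| ≤ |∑ v ∈ Z \ Y, ξ v| from le_rfl)
  have cU := hBI' (Y ∪ Z)
  have cI := hBI' (Y ∩ Z)
  have cA := hBI' (Y \ Z)
  have cC := hBI' (Z \ Y)
  set T := ∑ e : E, ((if (ends e).1 ∈ Y then φ (ends e).2 - φ (ends e).1 else 0) +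
        (if (ends e).2 ∈ Y then φ (ends e).1 - φ (ends e).2 else 0)) with hTdef
  -- the two edge inequalities
  have hE1 : (cut ends (Y ∪ Z) : ℤ) + cut ends (Y ∩ Z) - cut ends Z + 2 * T ≤ cut ends Y := by
    rw [hcut (Y ∪ Z), hcut (Y ∩ Z), hcut Z, hcut Y, hTdef, Finset.mul_sum,
      ← Finset.sum_add_distrib, ← Finset.sum_sub_distrib, ← Finset.sum_add_distrib]
    apply Finset.sum_le_sum
    intro e _
    by_cases h1 : (ends e).1 ∈ Y <;> by_cases h2 : (ends e).1 ∈ Z <;>
      by_cases h3 : (ends e).2 ∈ Y <;> by_cases h4 : (ends e).2 ∈ Z <;>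
      simp [h1, h2, h3, h4, φ]
  have hE2 : -(cut ends Y : ℤ) ≤ -(cut ends (Y \ Z) : ℤ) + cut ends Z - cut ends (Z \ Y) + 2 * T := by
    rw [hcut (Y \ Z), hcut (Z \ Y), hcut Z, hcut Y, hTdef, Finset.mul_sum,
      ← Finset.sum_neg_distrib, ← Finset.sum_neg_distrib,
      ← Finset.sum_add_distrib, ← Finset.sum_sub_distrib, ← Finset.sum_add_distrib]
    apply Finset.sum_le_sum
    intro e _
    by_cases h1 : (ends e).1 ∈ Y <;> by_cases h2 : (ends e).1 ∈ Z <;>
      by_cases h3 : (ends e).2 ∈ Y <;> by_cases h4 : (ends e).2 ∈ Z <;>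
      simp [h1, h2, h3, h4, φ]
  have m1 : 0 ≤ K * ((cut ends Y : ℤ) - ((cut ends (Y ∪ Z) : ℤ) + cut ends (Y ∩ Z) - cut ends Z + 2 * T)) :=
    mul_nonneg hK0 (by linarith)
  have m2 : 0 ≤ K * ((-(cut ends (Y \ Z) : ℤ) + cut ends Z - cut ends (Z \ Y) + 2 * T) + (cut ends Y : ℤ)) :=
    mul_nonneg hK0 (by linarith)
  have hup : 2 * (∑ v ∈ Y, ξ v + K * T) ≤ (cut ends Y : ℤ) * K := by
    linarith [bU.2, bI.2, hUI, hZ']
  have hlow : -((cut ends Y : ℤ) * K) ≤ 2 * (∑ v ∈ Y, ξ v + K * T) := by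
    linarith [bA.1, bC.2, hYd, hZd, hZ']
  rcases abs_cases (∑ v ∈ Y, ξ v + K * T) with ⟨h, _⟩ | ⟨h, _⟩ <;> rw [h] <;> linarith

end Groth.Agent.S17179
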