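import Groth.Statements.S1722
import Groth.Agent.H2.DualCx.PLocalField

set_option autoImplicit false
universe u
open CategoryTheory
attribute [local instance] HasDerivedCategory.standard
open Dual

namespace Groth.Agent.S1722

/-- Let ω be a dualizing complex over a Noetherian ring A. There is a function δ from Spec A to the
integers such that, for every prime p and every integer i, the localization at p of the A-module of
maps A/p → ω[i] in D(A) is nonzero exactly when i = −δ(p); and δ is a dimension function: δ(p) =
δ(q) + 1 whenever q covers p in Spec A (p ⊂ q with no prime strictly in between). -/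
theorem result (A : Type u) [CommRing A] [IsNoetherianRing A] (ω : Dual.D A) (hω : Dual.IsDualizing A ω) : ∃ δ : PrimeSpectrum A → ℤ, (∀ (p : PrimeSpectrum A) (i : ℤ), Nontrivial (LocalizedModule p.asIdeal.primeCompl (Dual.inD A (A ⧸ p.asIdeal) ⟶ ω⟦i⟧)) ↔ i = -δ p) ∧ ∀ p q : PrimeSpectrum A, p ⋖ q → δ p = δ q + 1 := by
  have hfin := Groth.Agent.H2.DualCx.finT'_of_isDualizing hω
  choose n hn2 hn1 using Groth.Agent.H2.DualCx.exists_top_degree hω
  have key : ∀ (p : PrimeSpectrum A) (k : ℤ),
      p ∈ Module.support A (Groth.Agent.H2.DualCx.T ω k (A ⧸ p.asIdeal)) ↔ k = n p :=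
    fun p k => Groth.Agent.H2.DualCx.mem_support_T_quot_self_iff hω p (n p) (hn2 p) k
  refine ⟨fun p => -n p, ?_, ?_⟩
  · intro p i
    rw [neg_neg, ← key p i, Module.mem_support_iff]
  · intro p q hpq
    have hlt : p.asIdeal < q.asIdeal := hpq.lt
    have h0 : q ∈ Module.support A (Groth.Agent.H2.DualCx.T ω (n p) (A ⧸ p.asIdeal)) := by
      have := hn2 p
      have hf := hfin (n p) (A ⧸ p.asIdeal)
      rw [Module.mem_support_iff_of_finite] at this ⊢
      exact this.trans hlt.le
    have := p.2
    obtain ⟨q', hq'1, hq'2⟩ := Groth.Agent.H2.DualCx.exists_gt_of_mem_support_T hfin p.asIdeal q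
      hlt (n p) h0
    have hq'3 := Groth.Agent.H2.DualCx.le_of_mem_support_T_quot (W := ω) q'.asIdeal q (n p + 1) hq'2
    have hq'q : q' = q := by
      by_contra hne
      have h1 : p < q' := hq'1
      have h2 : q' < q := lt_of_le_of_ne hq'3 hne
      exact hpq.2 h1 h2
    rw [hq'q] at hq'2
    have := (key q (n p + 1)).mp hq'2
    change -n p = -n q + 1
    omega

end Groth.Agent.S1722
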