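import Groth.Statements.S1723
import Groth.Agent.H26.FlatBCDual12
import Groth.Agent.H26.FlatBCDual4
import Groth.Agent.H26.AdicComplMax
import Groth.Agent.H20.ComplNoeth2
import Groth.Agent.H26.SkFlat

set_option autoImplicit false
universe u
open CategoryTheory
attribute [local instance] HasDerivedCategory.standard
open Dual

namespace Groth.Agent.S1723

/-- If a Noetherian local ring A has a dualizing complex, then each of its formal fibres is a Gorenstein
ring: for every prime p the ring A^ ⊗_A κ(p) (completion at the maximal ideal, tensored with the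
residue field of p) is a Gorenstein ring. -/
theorem result (A : Type u) [CommRing A] [IsLocalRing A] [IsNoetherianRing A] (ω : Dual.D A) (hω : Dual.IsDualizing A ω) (p : PrimeSpectrum A) : LocCoh.IsGorensteinRing (EGA4.formalFibre A p.asIdeal) := by
  haveI : IsNoetherianRing (EGA4.Cpl A) :=
    Groth.Agent.H20.isNoetherianRing_adicCompletion _
  haveI : Module.Flat A (EGA4.Cpl A) :=
    AdicCompletion.flat_of_isNoetherian (IsLocalRing.maximalIdeal A)
  have hB : Dual.IsDualizing (EGA4.Cpl A)
      ((Groth.Agent.H26.FlatBCHom.LB A (EGA4.Cpl A)).obj ω) := by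
    refine Groth.Agent.H26.FlatBCDual.isDualizing_LB_of_jacobson (IsLocalRing.maximalIdeal A) ?_
      (Groth.Agent.H26.AdicComplMax.map_le_jacobson (IsLocalRing.maximalIdeal A)) ω hω
    intro x
    obtain ⟨a, ha⟩ := Groth.Agent.H26.AdicComplMax.exists_sub_mem_map_pow
      (IsLocalRing.maximalIdeal A) (IsLocalRing.maximalIdeal A) le_rfl 1 x
    rw [pow_one] at ha
    exact ⟨a, ha⟩
  haveI : IsNoetherianRing (EGA4.formalFibre A p.asIdeal) :=
    Groth.Agent.H26.SkFlat.isNoetherianRing_fiber (EGA4.Cpl A) p.asIdeal
  exact ⟨fun q _ =>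
    Groth.Agent.H26.FlatBCDual.isGorensteinLocalRing_fibre_of_isDualizing ω hω hB p.asIdeal q⟩

end Groth.Agent.S1723
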