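import Groth.Statements.S1724
import Mathlib
import Groth.Agent.H23.Faltings2
import Groth.Agent.S9126

set_option autoImplicit false
universe u
open LocCoh

namespace Groth.Agent.S1724

/-- Let A be a universally catenary Noetherian ring such that the formal fibres of all local rings A_q
are Cohen–Macaulay, I an ideal, M a finite A-module and s = s_{A,I}(M) (the infimum of depth(M_p) +
dim((A/p)_q) over primes p ⊆ q with q ⊇ I and p ⊉ I). Then H^i_I(M) is a finite A-module for every i
< s, and if s is finite then H^s_I(M) is not a finite A-module. -/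
theorem result (A : Type u) [CommRing A] [IsNoetherianRing A] (hA : CAlg.IsUniversallyCatenary A) (hF : ∀ q : PrimeSpectrum A, EGA4.HasCMFormalFibres (Localization.AtPrime q.asIdeal)) (I : Ideal A) (M : Type u) [AddCommGroup M] [Module A M] [Module.Finite A M] : (∀ i : ℕ, (i : ℕ∞) < Dual2.cutoff A I M → Module.Finite A (LocCoh.H I i M)) ∧ ∀ s : ℕ, Dual2.cutoff A I M = s → ¬ Module.Finite A (LocCoh.H I s M) := by
  have part1 : ∀ i : ℕ, (i : ℕ∞) < Dual2.cutoff A I M → Module.Finite A (LocCoh.H I i M) := by
    intro i hi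
    refine Groth.Agent.H58.LG.localGlobal I M i (fun q _ j hj => ?_) i le_rfl
    apply Groth.Agent.H23.Faltings.finite_localizedModule_H I M j q
    haveI : IsNoetherianRing (Localization.AtPrime q) :=
      IsLocalization.isNoetherianRing q.primeCompl _ inferInstance
    have hUCq : CAlg.IsUniversallyCatenary (Localization.AtPrime q) :=
      Groth.Agent.S9126.result A (Localization.AtPrime q) hA
    have hle := Groth.Agent.H23.Faltings.cutoff_le_cutoff_localization q.primeCompl
      (Localization.AtPrime q) I M (LocalizedModule q.primeCompl M)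
      (Groth.Agent.H23.Faltings.locEquiv M q)
    exact (Groth.Agent.H23.Faltings.local_main (Localization.AtPrime q) hUCq
      (I.map (algebraMap A (Localization.AtPrime q))) (LocalizedModule q.primeCompl M) i).2
      (hF ⟨q, inferInstance⟩) (lt_of_lt_of_le hi hle) j hj
  refine ⟨part1, fun s hs hfin => ?_⟩
  have hall : ∀ i : ℕ, i ≤ s → Module.Finite A (LocCoh.H I i M) := by
    intro i hi
    rcases hi.lt_or_eq with h | rfl
    · exact part1 i (by rw [hs]; exact_mod_cast h)
    · exact hfin
  have hlt : Dual2.cutoff A I M < ((s + 1 : ℕ) : ℕ∞) := by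
    rw [hs]
    exact_mod_cast Nat.lt_succ_self s
  rw [Dual2.cutoff.eq_def] at hlt
  simp only [iInf_lt_iff] at hlt
  obtain ⟨p, q, hpq, hIp, hIq, hval⟩ := hlt
  haveI : IsNoetherianRing (Localization.AtPrime q.asIdeal) :=
    IsLocalization.isNoetherianRing q.asIdeal.primeCompl _ inferInstance
  have hUCq : CAlg.IsUniversallyCatenary (Localization.AtPrime q.asIdeal) :=
    Groth.Agent.S9126.result A (Localization.AtPrime q.asIdeal) hA
  have hdq : Disjoint (q.asIdeal.primeCompl : Set A) (q.asIdeal : Set A) :=
    Set.disjoint_left.mpr fun x hx hxq => hx hxq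
  have hdp : Disjoint (q.asIdeal.primeCompl : Set A) (p.asIdeal : Set A) :=
    Set.disjoint_left.mpr fun x hx hxp => hx (hpq hxp)
  obtain ⟨P, hP⟩ : ∃ P : PrimeSpectrum (Localization.AtPrime q.asIdeal),
      PrimeSpectrum.comap (algebraMap A (Localization.AtPrime q.asIdeal)) P = p :=
    ⟨_, Groth.Agent.H23.Faltings.comap_mapPrime q.asIdeal.primeCompl _ p hdp⟩
  obtain ⟨Q, hQ⟩ : ∃ Q : PrimeSpectrum (Localization.AtPrime q.asIdeal),
      PrimeSpectrum.comap (algebraMap A (Localization.AtPrime q.asIdeal)) Q = q :=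
    ⟨_, Groth.Agent.H23.Faltings.comap_mapPrime q.asIdeal.primeCompl _ q hdq⟩
  subst hP
  have hpq' : PrimeSpectrum.comap (algebraMap A (Localization.AtPrime q.asIdeal)) P ≤
      PrimeSpectrum.comap (algebraMap A (Localization.AtPrime q.asIdeal)) Q := by
    rw [hQ]; exact hpq
  have hPQ : P ≤ Q :=
    Groth.Agent.H23.Faltings.le_of_comap_le q.asIdeal.primeCompl _ P Q hpq'
  have hIQ' : I ≤ (PrimeSpectrum.comap (algebraMap A (Localization.AtPrime q.asIdeal)) Q).asIdeal := by
    rw [hQ]; exact hIq
  have h1 := Groth.Agent.H23.Faltings.cutoff_localization_le q.asIdeal.primeCompl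
    (Localization.AtPrime q.asIdeal) I M (LocalizedModule q.asIdeal.primeCompl M)
    (Groth.Agent.H23.Faltings.locEquiv M q.asIdeal) P Q hPQ hIp hIQ'
  have hsub : (⟨PrimeSpectrum.comap (algebraMap A (Localization.AtPrime q.asIdeal)) Q,
      Groth.Agent.H23.CutoffCompl.comap_mono' _ hPQ⟩ :
        Set.Ici (PrimeSpectrum.comap (algebraMap A (Localization.AtPrime q.asIdeal)) P)) =
      ⟨q, hpq⟩ := Subtype.ext hQ
  rw [hsub] at h1
  have h2 := (Groth.Agent.H23.Faltings.local_main (Localization.AtPrime q.asIdeal) hUCq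
    (I.map (algebraMap A (Localization.AtPrime q.asIdeal)))
    (LocalizedModule q.asIdeal.primeCompl M) s).1 (fun i hi =>
      Groth.Agent.H23.Faltings.finite_H_baseChange_of_finite_H I M _
        (Groth.Agent.H23.Faltings.locEquiv M q.asIdeal) i (hall i hi))
  have h3 := lt_of_lt_of_le h2 h1
  have h4 := (ENat.lt_add_one_iff (ENat.natCast_ne_top s)).mp (by
    have := hval
    push_cast at this
    exact this)
  exact absurd h3 (not_lt_of_ge h4)

end Groth.Agent.S1724
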