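import Groth.Statements.S17243
import Groth.Agent.H86.Wronsk7

set_option autoImplicit false
open W4c4effdivwronsk2 Groth.Agent.H86

namespace Groth.Agent.S17243

open Polynomial in
/-- Let `k` be a field of characteristic zero and take, on the projective line over `k`, the point `∞`
and `m` further distinct points `r_1, …, r_m` of the affine line, with positive integers `b` (at
`∞`) and `a_1, …, a_m`; put `N = b + ∑ a_j`. The sum of the spaces of differentials with a single
pole, of order at most `b + 1` at `∞`, resp. at most `a_j + 1` at `r_j`, `V = H⁰(ω((b+1)∞)) + ∑_j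
H⁰(ω((a_j+1)r_j)) ⊆ H⁰(ω((b+1)∞ + ∑_j (a_j+1)r_j)) ≅ H⁰(O(d))`, `d = b - 1 + ∑ (a_j+1)`, becomes,
after multiplying by `dX⁻¹ ∏_j (X - r_j)^(a_j+1)`, the subspace of `k[X]_{≤ d}` spanned by
`D·k[X]_{<b}` and the `D_i·k[X]_{<a_i}`, where `D = ∏_j (X - r_j)^(a_j+1)` and `D_i` omits the
`i`-th factor; a member `h` vanishes to order `n` at a point `q` of the affine line when `(X - q)^n
∣ h`, and to order `d - deg h` at `∞`. Let `V₁ ⊆ V` be a hyperplane (`dim V₁ = N - 1`) containing
`H⁰(ω((b-1)∞)) + ∑_j H⁰(ω((a_j+1)r_j))`, i.e. containing `D·k[X]_{<b-2}` and every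
`D_i·k[X]_{<a_i}`. Then `V₁` has at most one ramification point off the marked points, and that
point is simple: at every point `q` of the affine line other than the `r_j` the weight of `V₁` is at
most one (no nonzero member divisible by `(X - q)^N`, at most a line of members divisible by `(X -
q)^(N-2)`), and at most one such `q` has positive weight (a nonzero member divisible by `(X -
q)^(N-1)`). (The published statement is over the complex numbers with the distinguished marked point
arbitrary; it is placed at `∞` here, so that the unmarked points are the points of the affine line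
other than the `r_j`.) -/
theorem result
    (k : Type*) [Field k] [CharZero k] (m : ℕ) (r : Fin m → k) (hr : Function.Injective r)
    (a : Fin m → ℕ) (ha : ∀ j, 1 ≤ a j) (b : ℕ) (hb : 1 ≤ b) (N d : ℕ)
    (hN : N = (∑ j, a j) + b) (hd : d + 1 = (∑ j, (a j + 1)) + b)
    (V : Submodule k (Polynomial k))
    (hV : V = (Polynomial.degreeLT k b).map (LinearMap.mulLeft k (∏ j, (X - C (r j)) ^ (a j + 1))) ⊔
      ⨆ i, (Polynomial.degreeLT k (a i)).map
        (LinearMap.mulLeft k (∏ j ∈ Finset.univ.erase i, (X - C (r j)) ^ (a j + 1))))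
    (V₁ : Submodule k (Polynomial k)) (hV₁ : V₁ ≤ V) (hfin : Module.finrank k ↥V₁ + 1 = N)
    (hU : (Polynomial.degreeLT k (b - 2)).map (LinearMap.mulLeft k (∏ j, (X - C (r j)) ^ (a j + 1))) ⊔
      (⨆ i, (Polynomial.degreeLT k (a i)).map
        (LinearMap.mulLeft k (∏ j ∈ Finset.univ.erase i, (X - C (r j)) ^ (a j + 1)))) ≤ V₁) :
    (∀ q : k, (∀ j, q ≠ r j) →
      (V₁ ⊓ (Ideal.span {(X - C q) ^ N}).restrictScalars k) = ⊥ ∧
      Module.finrank k ↥(V₁ ⊓ (Ideal.span {(X - C q) ^ (N - 2)}).restrictScalars k) ≤ 1) ∧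
    (∀ q q' : k, (∀ j, q ≠ r j) → (∀ j, q' ≠ r j) →
      (V₁ ⊓ (Ideal.span {(X - C q) ^ (N - 1)}).restrictScalars k) ≠ ⊥ →
      (V₁ ⊓ (Ideal.span {(X - C q') ^ (N - 1)}).restrictScalars k) ≠ ⊥ → q = q') := by
  have hVeq : V = Wr.Vsp r a b := hV
  subst hVeq
  have hU' : Wr.Vsp r a (b - 2) ≤ V₁ := hU
  have : FiniteDimensional k V₁ := Submodule.finiteDimensional_of_le hV₁
  have hN1 : 1 ≤ (∑ j, a j) + b := by omega
  subst hN
  -- key contradiction
  have key : ∀ S : Submodule k k[X], S.map (Wr.Ts r a Finset.univ) ≤ V₁ →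
      degreeLT k ((∑ j, a j) + b + 1) ≤ degreeLT k ((∑ j, a j) + b - 1) ⊔ S → False := by
    intro S hS hle
    have h1 : Wr.Vsp r a b ≤ V₁ := by
      rw [Wr.Vsp_eq r a hr b]
      refine (Submodule.map_mono hle).trans ?_
      rw [Submodule.map_sup]
      apply sup_le _ hS
      refine le_trans ?_ hU'
      rw [Wr.Vsp_eq r a hr (b - 2)]
      apply Submodule.map_mono
      apply degreeLT_mono
      omega
    have h2 := Submodule.finrank_mono h1
    rw [Wr.finrank_Vsp r a hr b] at h2
    omega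
  refine ⟨fun q hq => ⟨?_, ?_⟩, ?_⟩
  · rw [eq_bot_iff, ← Wr.Vsp_inf_unmarked_eq_bot r a hr b q hq]
    exact inf_le_inf_right _ hV₁
  · by_contra hcon
    rw [not_le] at hcon
    have hle : V₁ ⊓ (Ideal.span {(X - C q) ^ ((∑ j, a j) + b - 2)}).restrictScalars k ≤
        Wr.Vsp r a b ⊓ (Ideal.span {(X - C q) ^ ((∑ j, a j) + b - 2)}).restrictScalars k :=
      inf_le_inf_right _ hV₁
    have hfr := Wr.finrank_Vsp_inf_unmarked r a hr b q hq ((∑ j, a j) + b - 2)
    have hmono := Submodule.finrank_mono hle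
    have hN2 : 2 ≤ (∑ j, a j) + b := by omega
    have heq := Submodule.eq_of_le_of_finrank_le hle (by omega)
    apply key (degreeLT k ((∑ j, a j) + b + 1) ⊓
      (Ideal.span {(X - C q) ^ ((∑ j, a j) + b - 2 + 1)}).restrictScalars k)
    · rw [← Wr.Vsp_inf_unmarked r a hr b q hq, ← heq]
      exact inf_le_left
    · have := Wr.degreeLT_le_sup_inf_span ((X - C q) ^ ((∑ j, a j) + b - 2 + 1))
        ((monic_X_sub_C q).pow _) ((∑ j, a j) + b + 1)
        (by rw [Wr.natDegree_X_sub_C_pow']; omega)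
      rw [Wr.natDegree_X_sub_C_pow'] at this
      have he : (∑ j, a j) + b - 2 + 1 = (∑ j, a j) + b - 1 := by omega
      rw [he] at this ⊢
      exact this
  · intro q q' hq hq' hne hne'
    by_contra hqq
    have h1 := Wr.Ts_pow_mem_of_inf_ne_bot r a hr b q hq hN1 V₁ hV₁ hne
    have h2 := Wr.Ts_pow_mem_of_inf_ne_bot r a hr b q' hq' hN1 V₁ hV₁ hne'
    apply key (Submodule.span k {(X - C q) ^ ((∑ j, a j) + b), (X - C q') ^ ((∑ j, a j) + b)})
    · rw [Submodule.map_span, Submodule.span_le]
      rintro _ ⟨x, hx, rfl⟩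
      rcases hx with rfl | hx
      · exact h1
      · rw [Set.mem_singleton_iff] at hx
        rw [hx]
        exact h2
    · intro f hf
      obtain ⟨M, hM⟩ : ∃ M, (∑ j, a j) + b = M + 1 := ⟨(∑ j, a j) + b - 1, by omega⟩
      rw [hM] at hf ⊢
      obtain ⟨c₁, c₂, hc⟩ := Wr.exists_sub_pow_mem_degreeLT q q' hqq M f hf
      have hsplit : f = (f - c₁ • (X - C q) ^ (M + 1) - c₂ • (X - C q') ^ (M + 1)) +
          (c₁ • (X - C q) ^ (M + 1) + c₂ • (X - C q') ^ (M + 1)) := by ring
      rw [hsplit]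
      apply Submodule.add_mem_sup
      · rwa [Nat.add_sub_cancel]
      · apply Submodule.add_mem
        · exact Submodule.smul_mem _ _ (Submodule.subset_span (Set.mem_insert _ _))
        · exact Submodule.smul_mem _ _ (Submodule.subset_span
            (Set.mem_insert_of_mem _ (Set.mem_singleton _)))

end Groth.Agent.S17243
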