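import Groth.Statements.S17244
import Groth.Agent.H86.Wronsk8

set_option autoImplicit false
open W4c4effdivwronsk2 Groth.Agent.H86

namespace Groth.Agent.S17244

open Polynomial in
/-- Let `k` be a field of characteristic zero and take, on the projective line over `k`, the point `∞`
and `m` further distinct points `r_1, …, r_m` of the affine line, with positive integers `b` (at
`∞`) and `a_1, …, a_m`; put `N = b + ∑ a_j`. The sum of the spaces of differentials with a single
pole, of order at most `b + 1` at `∞`, resp. at most `a_j + 1` at `r_j`, `V = H⁰(ω((b+1)∞)) + ∑_j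
H⁰(ω((a_j+1)r_j)) ⊆ H⁰(ω((b+1)∞ + ∑_j (a_j+1)r_j)) ≅ H⁰(O(d))`, `d = b - 1 + ∑ (a_j+1)`, becomes,
after multiplying by `dX⁻¹ ∏_j (X - r_j)^(a_j+1)`, the subspace of `k[X]_{≤ d}` spanned by
`D·k[X]_{<b}` and the `D_i·k[X]_{<a_i}`, where `D = ∏_j (X - r_j)^(a_j+1)` and `D_i` omits the
`i`-th factor; a member `h` vanishes to order `n` at a point `q` of the affine line when `(X - q)^n
∣ h`, and to order `d - deg h` at `∞`. Let `V₁ ⊆ V` be a hyperplane (`dim V₁ = N - 1`) containing
`D·k[X]_{<b-2}` and every `D_i·k[X]_{<a_i}` (that is, containing `H⁰(ω((b-1)∞)) + ∑_j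
H⁰(ω((a_j+1)r_j))`). The weight of `V₁` at a point is `∑_{n=1}^{d} dim V₁(-n·point) - (N-1 choose
2)` (the sum of the vanishing orders minus `0 + 1 + ⋯ + (N-2)`). Then the weight of `V₁` at `r_i` is
`∑_{j≠i} a_j + b - 1 + ε_i` and its weight at `∞` is `∑_j a_j + N - 2 + ε`, with `ε_i, ε ∈ {0, 1}`.
(The published statement is over the complex numbers with the distinguished marked point arbitrary;
it is placed at `∞` here.) -/
theorem result
    (k : Type*) [Field k] [CharZero k] (m : ℕ) (r : Fin m → k) (hr : Function.Injective r)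
    (a : Fin m → ℕ) (ha : ∀ j, 1 ≤ a j) (b : ℕ) (hb : 1 ≤ b) (N d : ℕ)
    (hN : N = (∑ j, a j) + b) (hd : d + 1 = (∑ j, (a j + 1)) + b)
    (V : Submodule k (Polynomial k))
    (hV : V = (Polynomial.degreeLT k b).map (LinearMap.mulLeft k (∏ j, (X - C (r j)) ^ (a j + 1))) ⊔
      ⨆ i, (Polynomial.degreeLT k (a i)).map
        (LinearMap.mulLeft k (∏ j ∈ Finset.univ.erase i, (X - C (r j)) ^ (a j + 1))))
    (V₁ : Submodule k (Polynomial k)) (hV₁ : V₁ ≤ V) (hfin : Module.finrank k ↥V₁ + 1 = N)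
    (hU : (Polynomial.degreeLT k (b - 2)).map (LinearMap.mulLeft k (∏ j, (X - C (r j)) ^ (a j + 1))) ⊔
      (⨆ i, (Polynomial.degreeLT k (a i)).map
        (LinearMap.mulLeft k (∏ j ∈ Finset.univ.erase i, (X - C (r j)) ^ (a j + 1)))) ≤ V₁) :
    (∀ i : Fin m, ∃ ε : ℕ, ε ≤ 1 ∧
      (∑ n ∈ Finset.range d, Module.finrank k ↥(V₁ ⊓ (Ideal.span {(X - C (r i)) ^ (n + 1)}).restrictScalars k)) + 1 =
        (N - 1).choose 2 + (N - a i) + ε) ∧
    (∃ ε : ℕ, ε ≤ 1 ∧
      (∑ n ∈ Finset.range d, Module.finrank k ↥(V₁ ⊓ Polynomial.degreeLT k (d - n))) =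
        (N - 1).choose 2 + (N - b) + (N - 2) + ε) := by
  have hVeq : V = Wr.Vsp r a b := hV
  subst hVeq
  have hU' : Wr.Vsp r a (b - 2) ≤ V₁ := hU
  have hfV₁ : FiniteDimensional k V₁ := Submodule.finiteDimensional_of_le hV₁
  have hN1 : 1 ≤ (∑ j, a j) + b := by omega
  subst hN
  have hsum : ∑ j, (a j + 1) = (∑ j, a j) + m := by
    simp [Finset.sum_add_distrib]
  have hm0 : m = 0 → ∑ j, a j = 0 := by
    rintro rfl
    simp
  have hmA : m ≤ ∑ j, a j := by
    have h1 := Finset.sum_le_sum (s := Finset.univ) (fun j _ => ha j)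
    simpa using h1
  have hfinV : Module.finrank k V₁ + 1 = Module.finrank k (Wr.Vsp r a b) := by
    rw [Wr.finrank_Vsp r a hr b]; exact hfin
  -- key contradiction
  have key : ∀ S : Submodule k k[X], S.map (Wr.Ts r a Finset.univ) ≤ V₁ →
      degreeLT k ((∑ j, a j) + b + 1) ≤ degreeLT k ((∑ j, a j) + b - 1) ⊔ S → False := by
    intro S hS hle
    have h1 : Wr.Vsp r a b ≤ V₁ := by
      rw [Wr.Vsp_eq r a hr b]
      refine (Submodule.map_mono hle).trans ?_
      rw [Submodule.map_sup]
      apply sup_le _ hS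
      refine le_trans ?_ hU'
      rw [Wr.Vsp_eq r a hr (b - 2)]
      apply Submodule.map_mono
      apply degreeLT_mono
      omega
    have h2 := Submodule.finrank_mono h1
    rw [Wr.finrank_Vsp r a hr b] at h2
    omega
  refine ⟨fun i => ?_, ?_⟩
  · have hai : a i + 1 ≤ (∑ j, a j) + b := by
      have := Finset.single_le_sum (f := a) (fun _ _ => Nat.zero_le _) (Finset.mem_univ i)
      omega
    have hm1 : 1 ≤ m := Fin.pos i
    apply Wr.weight_sum_top ((∑ j, a j) + b) (a i) d
      (fun n => Module.finrank k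
        ↥(V₁ ⊓ (Ideal.span {(X - C (r i)) ^ (n + 1)}).restrictScalars k))
      (fun n => Module.finrank k
        ↥(Wr.Vsp r a b ⊓ (Ideal.span {(X - C (r i)) ^ (n + 1)}).restrictScalars k))
      hN1 (Or.inl ⟨by omega, hai⟩)
    · intro n
      show Module.finrank k
        ↥(Wr.Vsp r a b ⊓ (Ideal.span {(X - C (r i)) ^ (n + 1)}).restrictScalars k) = _
      rw [Wr.finrank_Vsp_inf_marked r a hr b i (n + 1)]
      rfl
    · intro n
      exact Wr.finrank_inf_le_of_le hV₁
    · intro n hn
      apply Wr.finrank_hyperplane_inf hV₁ hfinV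
      intro hle
      apply key (degreeLT k ((∑ j, a j) + b + 1) ⊓
        (Ideal.span {(X - C (r i)) ^ (n + 1)}).restrictScalars k)
      · rw [← Wr.Vsp_inf_marked r a hr b i (n + 1)]
        exact hle
      · have := Wr.degreeLT_le_sup_inf_span ((X - C (r i)) ^ (n + 1))
          ((monic_X_sub_C (r i)).pow _) ((∑ j, a j) + b + 1)
          (by rw [Wr.natDegree_X_sub_C_pow']; omega)
        rw [Wr.natDegree_X_sub_C_pow'] at this
        exact this.trans (sup_le_sup_right (degreeLT_mono (by omega)) _)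
  · have hd' : ((∑ j, a j) + b ≤ d ∧ b + 1 ≤ (∑ j, a j) + b) ∨
        (d + 1 = (∑ j, a j) + b ∧ b = (∑ j, a j) + b) := by
      rcases Nat.eq_zero_or_pos m with h0 | hpos
      · right
        have := hm0 h0
        omega
      · left
        omega
    apply Wr.weight_sum_bot ((∑ j, a j) + b) b d
      (fun n => Module.finrank k ↥(V₁ ⊓ degreeLT k (d - n)))
      (fun n => Module.finrank k ↥(Wr.Vsp r a b ⊓ degreeLT k (d - n)))
      hN1 hd'
    · intro n
      show Module.finrank k ↥(Wr.Vsp r a b ⊓ degreeLT k (d - n)) = _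
      have h := Wr.finrank_Vsp_inf_degreeLT r a hr b (d - n)
      unfold Wr.gfun
      rcases le_total ((∑ j, a j) + b + 1) (d - n + 1 - m) with h' | h'
      · rw [min_eq_left h'] at h
        split_ifs at h ⊢ <;> omega
      · rw [min_eq_right h'] at h
        split_ifs at h ⊢ <;> omega
    · exact Wr.finrank_inf_le_of_le hV₁
    · show Module.finrank k ↥(Wr.Vsp r a b ⊓ degreeLT k (d - 0)) ≤
        Module.finrank k ↥(V₁ ⊓ degreeLT k (d - 0)) + 1
      by_cases hle : Wr.Vsp r a b ⊓ degreeLT k (d - 0) ≤ V₁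
      · have : V₁ ⊓ degreeLT k (d - 0) = Wr.Vsp r a b ⊓ degreeLT k (d - 0) :=
          le_antisymm (inf_le_inf_right _ hV₁) (le_inf hle inf_le_right)
        rw [this]
        omega
      · exact (Wr.finrank_hyperplane_inf hV₁ hfinV hle).ge
    · intro n hn
      show Module.finrank k ↥(V₁ ⊓ degreeLT k (d - n)) =
        Module.finrank k ↥(Wr.Vsp r a b ⊓ degreeLT k (d - n))
      have hle : Wr.Vsp r a b ⊓ degreeLT k (d - n) ≤ V₁ := by
        rw [Wr.Vsp_inf_degreeLT r a hr b (d - n)]
        refine le_trans ?_ hU'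
        rw [Wr.Vsp_eq r a hr (b - 2)]
        apply Submodule.map_mono
        refine inf_le_right.trans ?_
        apply degreeLT_mono
        omega
      have : V₁ ⊓ degreeLT k (d - n) = Wr.Vsp r a b ⊓ degreeLT k (d - n) :=
        le_antisymm (inf_le_inf_right _ hV₁) (le_inf hle inf_le_right)
      rw [this]
    · exact hb

end Groth.Agent.S17244
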