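import Groth.Statements.S17245
import Groth.Agent.H86.Wronsk7

set_option autoImplicit false
open W4c4effdivwronsk2 Groth.Agent.H86

namespace Groth.Agent.S17245

open Polynomial in
/-- Let `k` be a field of characteristic zero and take, on the projective line over `k`, the point `∞`
and `m` further distinct points `r_1, …, r_m` of the affine line, with positive integers `b` (at
`∞`) and `a_1, …, a_m`; put `N = b + ∑ a_j`. The sum of the spaces of differentials with a single
pole, of order at most `b + 1` at `∞`, resp. at most `a_j + 1` at `r_j`, `V = H⁰(ω((b+1)∞)) + ∑_j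
H⁰(ω((a_j+1)r_j)) ⊆ H⁰(ω((b+1)∞ + ∑_j (a_j+1)r_j)) ≅ H⁰(O(d))`, `d = b - 1 + ∑ (a_j+1)`, becomes,
after multiplying by `dX⁻¹ ∏_j (X - r_j)^(a_j+1)`, the subspace of `k[X]_{≤ d}` spanned by
`D·k[X]_{<b}` and the `D_i·k[X]_{<a_i}`, where `D = ∏_j (X - r_j)^(a_j+1)` and `D_i` omits the
`i`-th factor; a member `h` vanishes to order `n` at a point `q` of the affine line when `(X - q)^n
∣ h`, and to order `d - deg h` at `∞`. Let `p` be a further point of the affine line, distinct from
the `r_j`, and `V₁ = V(-p)` the members divisible by `X - p`, an `(N-1)`-dimensional system in the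
line bundle twisted down by `p` (its vanishing orders at points `q ≠ p`, and at `∞`, are read off
exactly as for `V`; at `p` itself they are one less than the order of divisibility by `X - p`). Then
`dim V₁ = N - 1`, the point `p` is not a ramification point of `V₁` (no nonzero member of `V₁` is
divisible by `(X - p)^N`), and `V₁` has at most one ramification point off the marked points, a
simple one: at every `q` other than `p` and the `r_j`, no nonzero member is divisible by `(X - q)^N`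
and at most a line of members is divisible by `(X - q)^(N-2)`, and at most one such `q` has a
nonzero member divisible by `(X - q)^(N-1)`. (The published statement is over the complex numbers
with all points arbitrary; one marked point is placed at `∞` here and `p` is taken distinct from the
marked points.) -/
theorem result
    (k : Type*) [Field k] [CharZero k] (m : ℕ) (r : Fin m → k) (hr : Function.Injective r)
    (a : Fin m → ℕ) (ha : ∀ j, 1 ≤ a j) (b : ℕ) (hb : 1 ≤ b) (N d : ℕ)
    (hN : N = (∑ j, a j) + b) (hd : d + 1 = (∑ j, (a j + 1)) + b)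
    (V : Submodule k (Polynomial k))
    (hV : V = (Polynomial.degreeLT k b).map (LinearMap.mulLeft k (∏ j, (X - C (r j)) ^ (a j + 1))) ⊔
      ⨆ i, (Polynomial.degreeLT k (a i)).map
        (LinearMap.mulLeft k (∏ j ∈ Finset.univ.erase i, (X - C (r j)) ^ (a j + 1))))
    (p : k) (hp : ∀ j, p ≠ r j) (V₁ : Submodule k (Polynomial k))
    (hV₁ : V₁ = V ⊓ (Ideal.span {X - C p}).restrictScalars k) :
    Module.finrank k ↥V₁ + 1 = N ∧
    (V₁ ⊓ (Ideal.span {(X - C p) ^ N}).restrictScalars k) = ⊥ ∧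
    (∀ q : k, (∀ j, q ≠ r j) → q ≠ p →
      (V₁ ⊓ (Ideal.span {(X - C q) ^ N}).restrictScalars k) = ⊥ ∧
      Module.finrank k ↥(V₁ ⊓ (Ideal.span {(X - C q) ^ (N - 2)}).restrictScalars k) ≤ 1) ∧
    (∀ q q' : k, (∀ j, q ≠ r j) → q ≠ p → (∀ j, q' ≠ r j) → q' ≠ p →
      (V₁ ⊓ (Ideal.span {(X - C q) ^ (N - 1)}).restrictScalars k) ≠ ⊥ →
      (V₁ ⊓ (Ideal.span {(X - C q') ^ (N - 1)}).restrictScalars k) ≠ ⊥ → q = q') := by
  have hVeq : V = Wr.Vsp r a b := hV
  subst hVeq
  have hN1 : 1 ≤ (∑ j, a j) + b := by omega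
  subst hN
  have hV₁le : V₁ ≤ Wr.Vsp r a b := by rw [hV₁]; exact inf_le_left
  have hfin : FiniteDimensional k V₁ := Submodule.finiteDimensional_of_le hV₁le
  -- membership in V₁ forces vanishing at p
  have hev : ∀ y ∈ V₁, y.eval p = 0 := by
    intro y hy
    rw [hV₁] at hy
    have h2 : y ∈ Ideal.span {X - C p} := hy.2
    rw [Ideal.mem_span_singleton, dvd_iff_isRoot] at h2
    exact h2
  have hP : (Wr.Ps r Finset.univ).eval p ≠ 0 := Wr.eval_Ps_ne_zero r Finset.univ p (fun j _ => hp j)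
  -- membership of T((X-q)^j)
  have hmem : ∀ (q : k), (∀ j, q ≠ r j) → ∀ n j : ℕ, n + 1 ≤ j → j ≤ (∑ j, a j) + b →
      Wr.Ts r a Finset.univ ((X - C q) ^ j) ∈
        Wr.Vsp r a b ⊓ (Ideal.span {(X - C q) ^ n}).restrictScalars k := by
    intro q hq n j hj1 hj2
    rw [Wr.Vsp_inf_unmarked r a hr b q hq]
    apply Submodule.mem_map_of_mem
    refine ⟨Wr.mem_degreeLT_of_natDegree_lt (by rw [Wr.natDegree_X_sub_C_pow']; omega), ?_⟩
    show (X - C q) ^ j ∈ Ideal.span {(X - C q) ^ (n + 1)}
    exact Ideal.mem_span_singleton.mpr (pow_dvd_pow _ hj1)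
  refine ⟨?_, ?_, fun q hq hqp => ⟨?_, ?_⟩, ?_⟩
  · have h := Wr.finrank_Vsp_inf_unmarked r a hr b p hp 1
    rw [pow_one] at h
    rw [hV₁, h]
    omega
  · rw [eq_bot_iff, ← Wr.Vsp_inf_unmarked_eq_bot r a hr b p hp]
    exact inf_le_inf_right _ hV₁le
  · rw [eq_bot_iff, ← Wr.Vsp_inf_unmarked_eq_bot r a hr b q hq]
    exact inf_le_inf_right _ hV₁le
  · by_contra hcon
    rw [not_le] at hcon
    have hle : V₁ ⊓ (Ideal.span {(X - C q) ^ ((∑ j, a j) + b - 2)}).restrictScalars k ≤
        Wr.Vsp r a b ⊓ (Ideal.span {(X - C q) ^ ((∑ j, a j) + b - 2)}).restrictScalars k :=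
      inf_le_inf_right _ hV₁le
    have hfr := Wr.finrank_Vsp_inf_unmarked r a hr b q hq ((∑ j, a j) + b - 2)
    have hmono := Submodule.finrank_mono hle
    have hN2 : 2 ≤ (∑ j, a j) + b := by omega
    have heq := Submodule.eq_of_le_of_finrank_le hle (by omega)
    obtain ⟨n, hn⟩ : ∃ n, (∑ j, a j) + b = n + 2 := ⟨(∑ j, a j) + b - 2, by omega⟩
    have m1 := hmem q hq ((∑ j, a j) + b - 2) (n + 1) (by omega) (by omega)
    have m2 := hmem q hq ((∑ j, a j) + b - 2) (n + 1 + 1) (by omega) (by omega)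
    rw [← heq] at m1 m2
    have e1 := hev _ m1.1
    have e2 := hev _ m2.1
    rw [Wr.eval_Ts_pow] at e1 e2
    have hpq : p - q ≠ 0 := sub_ne_zero.mpr (Ne.symm hqp)
    have e1' := (mul_eq_zero.mp e1).resolve_left (pow_ne_zero _ hpq)
    have e2' := (mul_eq_zero.mp e2).resolve_left (pow_ne_zero _ hpq)
    apply hP
    have : (Wr.Ps r Finset.univ).eval p =
        (((n + 1 + 1 : ℕ) : k) * (Wr.Ps r Finset.univ).eval p -
          (p - q) * (Wr.Qs r a Finset.univ).eval p) -
        (((n + 1 : ℕ) : k) * (Wr.Ps r Finset.univ).eval p -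
          (p - q) * (Wr.Qs r a Finset.univ).eval p) := by
      push_cast
      ring
    rw [this, e1', e2', sub_zero]
  · intro q q' hq hqp hq' hqp' hne hne'
    by_contra hqq
    have h1 := Wr.Ts_pow_mem_of_inf_ne_bot r a hr b q hq hN1 V₁ hV₁le hne
    have h2 := Wr.Ts_pow_mem_of_inf_ne_bot r a hr b q' hq' hN1 V₁ hV₁le hne'
    obtain ⟨n, hn⟩ : ∃ n, (∑ j, a j) + b = n + 1 := ⟨(∑ j, a j) + b - 1, by omega⟩
    rw [hn] at h1 h2
    have e1 := hev _ h1
    have e2 := hev _ h2
    rw [Wr.eval_Ts_pow] at e1 e2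
    have hpq : p - q ≠ 0 := sub_ne_zero.mpr (Ne.symm hqp)
    have hpq' : p - q' ≠ 0 := sub_ne_zero.mpr (Ne.symm hqp')
    have e1' := (mul_eq_zero.mp e1).resolve_left (pow_ne_zero _ hpq)
    have e2' := (mul_eq_zero.mp e2).resolve_left (pow_ne_zero _ hpq')
    have hQ : (Wr.Qs r a Finset.univ).eval p = 0 := by
      have h3 : (q' - q) * (Wr.Qs r a Finset.univ).eval p = 0 := by
        have : (q' - q) * (Wr.Qs r a Finset.univ).eval p =
          (((n + 1 : ℕ) : k) * (Wr.Ps r Finset.univ).eval p -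
            (p - q') * (Wr.Qs r a Finset.univ).eval p) -
          (((n + 1 : ℕ) : k) * (Wr.Ps r Finset.univ).eval p -
            (p - q) * (Wr.Qs r a Finset.univ).eval p) := by ring
        rw [this, e1', e2', sub_zero]
      exact (mul_eq_zero.mp h3).resolve_left (sub_ne_zero.mpr (Ne.symm hqq))
    rw [hQ, mul_zero, sub_zero] at e1'
    have hn1 : ((n + 1 : ℕ) : k) ≠ 0 := Nat.cast_ne_zero.mpr (Nat.succ_ne_zero n)
    exact hP ((mul_eq_zero.mp e1').resolve_left hn1)

end Groth.Agent.S17245
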