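import Groth.Statements.S17246
import Groth.Agent.H86.Wronsk8

set_option autoImplicit false
open W4c4effdivwronsk2 Groth.Agent.H86

namespace Groth.Agent.S17246

open Polynomial in
/-- Let `k` be a field of characteristic zero and take, on the projective line over `k`, the point `∞`
and `m` further distinct points `r_1, …, r_m` of the affine line, with positive integers `b` (at
`∞`) and `a_1, …, a_m`; put `N = b + ∑ a_j`. The sum of the spaces of differentials with a single
pole, of order at most `b + 1` at `∞`, resp. at most `a_j + 1` at `r_j`, `V = H⁰(ω((b+1)∞)) + ∑_j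
H⁰(ω((a_j+1)r_j)) ⊆ H⁰(ω((b+1)∞ + ∑_j (a_j+1)r_j)) ≅ H⁰(O(d))`, `d = b - 1 + ∑ (a_j+1)`, becomes,
after multiplying by `dX⁻¹ ∏_j (X - r_j)^(a_j+1)`, the subspace of `k[X]_{≤ d}` spanned by
`D·k[X]_{<b}` and the `D_i·k[X]_{<a_i}`, where `D = ∏_j (X - r_j)^(a_j+1)` and `D_i` omits the
`i`-th factor; a member `h` vanishes to order `n` at a point `q` of the affine line when `(X - q)^n
∣ h`, and to order `d - deg h` at `∞`. Let `p` be a further point of the affine line, distinct from
the `r_j`, and `V₁ = V(-p)` the members divisible by `X - p` (an `(N-1)`-dimensional system in the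
line bundle twisted down by `p`, with vanishing orders at the marked points read off as for `V`).
With the weight of `V₁` at a marked point defined as `∑_{n=1}^{d} dim V₁(-n·point) - (N-1 choose
2)`: the weight at `r_i` is `∑_{j≠i} a_j + b - 1 + ε_i` and the weight at `∞` is `∑_j a_j - 1 + ε`,
with all `ε` in `{0, 1}`. (The published statement is over the complex numbers with all points
arbitrary; one marked point is placed at `∞` here and `p` is taken distinct from the marked points.) -/
theorem result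
    (k : Type*) [Field k] [CharZero k] (m : ℕ) (r : Fin m → k) (hr : Function.Injective r)
    (a : Fin m → ℕ) (ha : ∀ j, 1 ≤ a j) (b : ℕ) (hb : 1 ≤ b) (N d : ℕ)
    (hN : N = (∑ j, a j) + b) (hd : d + 1 = (∑ j, (a j + 1)) + b)
    (V : Submodule k (Polynomial k))
    (hV : V = (Polynomial.degreeLT k b).map (LinearMap.mulLeft k (∏ j, (X - C (r j)) ^ (a j + 1))) ⊔
      ⨆ i, (Polynomial.degreeLT k (a i)).map
        (LinearMap.mulLeft k (∏ j ∈ Finset.univ.erase i, (X - C (r j)) ^ (a j + 1))))
    (p : k) (hp : ∀ j, p ≠ r j) (V₁ : Submodule k (Polynomial k))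
    (hV₁ : V₁ = V ⊓ (Ideal.span {X - C p}).restrictScalars k) :
    (∀ i : Fin m, ∃ ε : ℕ, ε ≤ 1 ∧
      (∑ n ∈ Finset.range d, Module.finrank k ↥(V₁ ⊓ (Ideal.span {(X - C (r i)) ^ (n + 1)}).restrictScalars k)) + 1 =
        (N - 1).choose 2 + (N - a i) + ε) ∧
    (∃ ε : ℕ, ε ≤ 1 ∧
      (∑ n ∈ Finset.range d, Module.finrank k ↥(V₁ ⊓ Polynomial.degreeLT k (d - n))) + 1 =
        (N - 1).choose 2 + (N - b) + ε) := by
  have hVeq : V = Wr.Vsp r a b := hV
  subst hVeq
  have hN1 : 1 ≤ (∑ j, a j) + b := by omega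
  subst hN
  have hV₁le : V₁ ≤ Wr.Vsp r a b := by rw [hV₁]; exact inf_le_left
  have hfV₁ : FiniteDimensional k V₁ := Submodule.finiteDimensional_of_le hV₁le
  have hsum : ∑ j, (a j + 1) = (∑ j, a j) + m := by
    simp [Finset.sum_add_distrib]
  have hm0 : m = 0 → ∑ j, a j = 0 := by
    rintro rfl
    simp
  have hmA : m ≤ ∑ j, a j := by
    have h1 := Finset.sum_le_sum (s := Finset.univ) (fun j _ => ha j)
    simpa using h1
  have hfinV : Module.finrank k V₁ + 1 = Module.finrank k (Wr.Vsp r a b) := by
    rw [Wr.finrank_Vsp r a hr b]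
    have h := Wr.finrank_Vsp_inf_unmarked r a hr b p hp 1
    rw [pow_one] at h
    rw [hV₁, h]
    omega
  -- membership in V₁ forces vanishing at p
  have hev : ∀ y ∈ V₁, y.eval p = 0 := by
    intro y hy
    rw [hV₁] at hy
    have h2 : y ∈ Ideal.span {X - C p} := hy.2
    rw [Ideal.mem_span_singleton, dvd_iff_isRoot] at h2
    exact h2
  have hP : (Wr.Ps r Finset.univ).eval p ≠ 0 :=
    Wr.eval_Ps_ne_zero r Finset.univ p (fun j _ => hp j)
  refine ⟨fun i => ?_, ?_⟩
  · have hai : a i + 1 ≤ (∑ j, a j) + b := by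
      have := Finset.single_le_sum (f := a) (fun _ _ => Nat.zero_le _) (Finset.mem_univ i)
      omega
    have hm1 : 1 ≤ m := Fin.pos i
    apply Wr.weight_sum_top ((∑ j, a j) + b) (a i) d
      (fun n => Module.finrank k
        ↥(V₁ ⊓ (Ideal.span {(X - C (r i)) ^ (n + 1)}).restrictScalars k))
      (fun n => Module.finrank k
        ↥(Wr.Vsp r a b ⊓ (Ideal.span {(X - C (r i)) ^ (n + 1)}).restrictScalars k))
      hN1 (Or.inl ⟨by omega, hai⟩)
    · intro n
      show Module.finrank k
        ↥(Wr.Vsp r a b ⊓ (Ideal.span {(X - C (r i)) ^ (n + 1)}).restrictScalars k) = _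
      rw [Wr.finrank_Vsp_inf_marked r a hr b i (n + 1)]
      rfl
    · intro n
      exact Wr.finrank_inf_le_of_le hV₁le
    · intro n hn
      apply Wr.finrank_hyperplane_inf hV₁le hfinV
      intro hle
      obtain ⟨K, hK⟩ : ∃ K, (∑ j, a j) + b = K + 2 := ⟨(∑ j, a j) + b - 2, by omega⟩
      have hmem : ∀ j : ℕ, n + 1 ≤ j → j ≤ (∑ j, a j) + b →
          Wr.Ts r a Finset.univ ((X - C (r i)) ^ j) ∈
            Wr.Vsp r a b ⊓ (Ideal.span {(X - C (r i)) ^ (n + 1)}).restrictScalars k := by
        intro j hj1 hj2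
        rw [Wr.Vsp_inf_marked r a hr b i]
        apply Submodule.mem_map_of_mem
        refine ⟨Wr.mem_degreeLT_of_natDegree_lt
          (by rw [Wr.natDegree_X_sub_C_pow']; omega), ?_⟩
        show (X - C (r i)) ^ j ∈ Ideal.span {(X - C (r i)) ^ (n + 1)}
        exact Ideal.mem_span_singleton.mpr (pow_dvd_pow _ hj1)
      have e1 := hev _ (hle (hmem (K + 1) (by omega) (by omega)))
      have e2 := hev _ (hle (hmem (K + 1 + 1) (by omega) (by omega)))
      rw [Wr.eval_Ts_pow] at e1 e2
      have hpq : p - r i ≠ 0 := sub_ne_zero.mpr (hp i)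
      have e1' := (mul_eq_zero.mp e1).resolve_left (pow_ne_zero _ hpq)
      have e2' := (mul_eq_zero.mp e2).resolve_left (pow_ne_zero _ hpq)
      apply hP
      have : (Wr.Ps r Finset.univ).eval p =
          (((K + 1 + 1 : ℕ) : k) * (Wr.Ps r Finset.univ).eval p -
            (p - r i) * (Wr.Qs r a Finset.univ).eval p) -
          (((K + 1 : ℕ) : k) * (Wr.Ps r Finset.univ).eval p -
            (p - r i) * (Wr.Qs r a Finset.univ).eval p) := by
        push_cast
        ring
      rw [this, e1', e2', sub_zero]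
  · have hd' : ((∑ j, a j) + b ≤ d ∧ b + 1 ≤ (∑ j, a j) + b) ∨
        (d + 1 = (∑ j, a j) + b ∧ b = (∑ j, a j) + b) := by
      rcases Nat.eq_zero_or_pos m with h0 | hpos
      · right
        have := hm0 h0
        omega
      · left
        omega
    apply Wr.weight_sum_top ((∑ j, a j) + b) b d
      (fun n => Module.finrank k ↥(V₁ ⊓ degreeLT k (d - n)))
      (fun n => Module.finrank k ↥(Wr.Vsp r a b ⊓ degreeLT k (d - n)))
      hN1 hd'
    · intro n
      show Module.finrank k ↥(Wr.Vsp r a b ⊓ degreeLT k (d - n)) = _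
      have h := Wr.finrank_Vsp_inf_degreeLT r a hr b (d - n)
      unfold Wr.gfun
      rcases le_total ((∑ j, a j) + b + 1) (d - n + 1 - m) with h' | h'
      · rw [min_eq_left h'] at h
        split_ifs at h ⊢ <;> omega
      · rw [min_eq_right h'] at h
        split_ifs at h ⊢ <;> omega
    · intro n
      exact Wr.finrank_inf_le_of_le hV₁le
    · intro n hn
      apply Wr.finrank_hyperplane_inf hV₁le hfinV
      intro hle
      have hmem : ∀ f : k[X], f.natDegree < 2 →
          Wr.Ts r a Finset.univ f ∈ Wr.Vsp r a b ⊓ degreeLT k (d - n) := by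
        intro f hf
        rw [Wr.Vsp_inf_degreeLT r a hr b]
        apply Submodule.mem_map_of_mem
        exact ⟨Wr.mem_degreeLT_of_natDegree_lt (by omega),
          Wr.mem_degreeLT_of_natDegree_lt (by omega)⟩
      have e1 := hev _ (hle (hmem 1 (by rw [natDegree_one]; omega)))
      have e2 := hev _ (hle (hmem X (by rw [natDegree_X]; omega)))
      rw [Wr.Ts_apply] at e1 e2
      simp only [derivative_one, mul_zero, mul_one, zero_sub, eval_neg, neg_eq_zero] at e1
      simp only [derivative_X, mul_one, eval_sub, eval_mul, eval_X, e1, zero_mul,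
        sub_zero] at e2
      exact hP e2

end Groth.Agent.S17246
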