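import Groth.Statements.S17247
import Groth.Agent.H86.FF3

set_option autoImplicit false
open FunFld Groth.Agent.H86 Groth.Agent.H55

namespace Groth.Agent.S17247

/-- Let `K/k` be a function field of one variable of genus one over an algebraically closed field `k` of
characteristic zero (an elliptic curve `E`), `A` a place, and `g ≥ 3` an odd integer. Inside
`H⁰(O_E((2g-2)A)) = L((2g-2)A)` consider `V = L(gA)` (dimension `g`) and any hyperplane `V₁` of it
containing `L((g-2)A)`: `L((g-2)A) ⊆ V₁ ⊆ L(gA)`, `dim V₁ = g - 1`. Vanishing orders are those of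
sections of `O_E((2g-2)A)`: a member `f` vanishes to order at least `n` at a place `Q` when `f ∈
L((2g-2)A - nQ)`, and the weight of `V₁` at `Q` is `∑_{n=1}^{2g-2} dim (V₁ ∩ L((2g-2)A - nQ)) - (g-1
choose 2)` (the sum of the `g - 1` vanishing orders minus `0 + 1 + ⋯ + (g-2)`). Then the weight of
`V₁` at every place `Q ≠ A` is at most `2`. (The published statement is for a smooth elliptic curve
over the complex numbers and allows every odd positive `g`; for `g = 1` the inclusion `O(gA) ⊆
O((2g-2)A)` it uses fails, so `g ≥ 3` here.) -/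
theorem result
    (k K : Type*) [Field k] [IsAlgClosed k] [CharZero k] [Field K] [Algebra k K]
    (hK : FunFld.IsFunctionField k K) (hg1 : FunFld.genus k K = 1)
    (g : ℕ) (hodd : Odd g) (h3 : 3 ≤ g) (A : FunFld.Place k K)
    (V₁ : Submodule k K) (hlo : FunFld.L (Finsupp.single A ((g : ℤ) - 2)) ≤ V₁)
    (hhi : V₁ ≤ FunFld.L (Finsupp.single A (g : ℤ))) (hdim : Module.finrank k ↥V₁ + 1 = g)
    (Q : FunFld.Place k K) (hQ : Q ≠ A) :
    (∑ n ∈ Finset.range (2 * g - 2), Module.finrank k
        ↥(V₁ ⊓ FunFld.L (Finsupp.single A (2 * (g : ℤ) - 2) - Finsupp.single Q ((n : ℤ) + 1)))) ≤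
      (g - 1).choose 2 + 2 := by
  classical
  obtain ⟨t, rfl⟩ : ∃ t, g = 2 * t + 3 := by
    obtain ⟨s, hs⟩ := hodd
    exact ⟨s - 1, by omega⟩
  have hAQ : A ≠ Q := fun h => hQ h.symm
  have hLfin : ∀ D : Divisor k K, Module.Finite k (L D) := L_finite hK
  have hfinV : FiniteDimensional k V₁ := by
    have := hLfin (Finsupp.single A (((2 * t + 3 : ℕ) : ℤ)))
    exact Submodule.finiteDimensional_of_le hhi
  have hdimV : Module.finrank k V₁ = 2 * t + 2 := by omega
  have hlo' : L (Finsupp.single A ((2 * t + 1 : ℕ) : ℤ) : Divisor k K) ≤ V₁ := by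
    have : ((2 * t + 3 : ℕ) : ℤ) - 2 = ((2 * t + 1 : ℕ) : ℤ) := by push_cast; ring
    rwa [this] at hlo
  -- Step A: replace the ambient conditions
  have hstepA : ∀ n : ℕ, V₁ ⊓ L (Finsupp.single A (2 * ((2 * t + 3 : ℕ) : ℤ) - 2) -
      Finsupp.single Q ((n : ℤ) + 1) : Divisor k K) =
      V₁ ⊓ L (Finsupp.single A ((2 * t + 3 : ℕ) : ℤ) -
        Finsupp.single Q ((n + 1 : ℕ) : ℤ) : Divisor k K) := by
    intro n
    apply le_antisymm
    · apply le_inf inf_le_left
      refine le_trans (inf_le_inf_right _ hhi) ?_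
      apply FF.L_inf_le
      intro P
      simp only [Finsupp.sub_apply, Finsupp.single_apply]
      by_cases hPA : A = P <;> by_cases hPQ : Q = P
      · exact absurd (hPA.trans hPQ.symm) hAQ
      · simp only [hPA, hPQ, if_true, if_false]
        push_cast
        try omega
      · simp only [hPA, hPQ, if_true, if_false]
        push_cast
        try omega
      · simp only [hPA, hPQ, if_false]
        push_cast
        try omega
    · apply inf_le_inf_left
      apply L_mono
      intro P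
      simp only [Finsupp.sub_apply, Finsupp.single_apply]
      by_cases hPA : A = P <;> by_cases hPQ : Q = P
      · exact absurd (hPA.trans hPQ.symm) hAQ
      · simp only [hPA, hPQ, if_true, if_false]
        push_cast
        try omega
      · simp only [hPA, hPQ, if_true, if_false]
        push_cast
        try omega
      · simp only [hPA, hPQ, if_false]
        push_cast
        try omega
  have hsum : ∑ n ∈ Finset.range (2 * (2 * t + 3) - 2), Module.finrank k
        ↥(V₁ ⊓ L (Finsupp.single A (2 * ((2 * t + 3 : ℕ) : ℤ) - 2) -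
          Finsupp.single Q ((n : ℤ) + 1) : Divisor k K)) =
      ∑ n ∈ Finset.range (2 * (2 * t + 3) - 2), Module.finrank k
        ↥(V₁ ⊓ L (Finsupp.single A ((2 * t + 3 : ℕ) : ℤ) -
          Finsupp.single Q ((n + 1 : ℕ) : ℤ) : Divisor k K)) :=
    Finset.sum_congr rfl (fun n _ => by rw [hstepA n])
  rw [hsum]
  -- Step B: dimensions of L(gA - jQ) and L((g-2)A - jQ)
  have hdegD : ∀ (a j : ℕ), FunFld.Divisor.deg (Finsupp.single A (a : ℤ) -
      Finsupp.single Q (j : ℤ) : Divisor k K) = (a : ℤ) - j := by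
    intro a j
    rw [Divisor.deg_sub, FF.deg_single_one hK, FF.deg_single_one hK]
  have hellD : ∀ (a j : ℕ), j + 1 ≤ a → ell (Finsupp.single A (a : ℤ) -
      Finsupp.single Q (j : ℤ) : Divisor k K) = a - j := by
    intro a j hj
    apply FF.ell_nat_of_genus_one hK hg1 _ (a - j) (by omega)
    rw [hdegD]
    push_cast [Nat.cast_sub (by omega : j ≤ a)]
    ring
  have hellD1 : ∀ (a : ℕ), ell (Finsupp.single A (a : ℤ) -
      Finsupp.single Q (a : ℤ) : Divisor k K) ≤ 1 := by
    intro a
    apply FF.ell_le_one_of_deg_zero hK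
    rw [hdegD, sub_self]
  have hellD0 : ∀ (a j : ℕ), a < j → ell (Finsupp.single A (a : ℤ) -
      Finsupp.single Q (j : ℤ) : Divisor k K) = 0 := by
    intro a j hj
    apply FF.ell_eq_zero_of_deg_neg hK
    rw [hdegD]
    have : (a : ℤ) < j := by exact_mod_cast hj
    omega
  have hellA : ell (Finsupp.single A ((2 * t + 1 : ℕ) : ℤ) : Divisor k K) = 2 * t + 1 :=
    FF.ell_nat_of_genus_one hK hg1 _ _ (by omega) (FF.deg_single_one hK A _)
  -- general bound
  have hfle : ∀ n : ℕ, Module.finrank k ↥(V₁ ⊓ L (Finsupp.single A ((2 * t + 3 : ℕ) : ℤ) -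
      Finsupp.single Q ((n + 1 : ℕ) : ℤ) : Divisor k K)) ≤
      ell (Finsupp.single A ((2 * t + 3 : ℕ) : ℤ) -
        Finsupp.single Q ((n + 1 : ℕ) : ℤ) : Divisor k K) := by
    intro n
    have := hLfin (Finsupp.single A ((2 * t + 3 : ℕ) : ℤ) -
        Finsupp.single Q ((n + 1 : ℕ) : ℤ) : Divisor k K)
    exact Submodule.finrank_mono inf_le_right
  -- the pointwise inf condition
  have hinf : ∀ j : ℕ, ∀ P : Place k K,
      min ((Finsupp.single A ((2 * t + 1 : ℕ) : ℤ) : Divisor k K) P)
        ((Finsupp.single A ((2 * t + 3 : ℕ) : ℤ) - Finsupp.single Q (j : ℤ) : Divisor k K) P) ≤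
      (Finsupp.single A ((2 * t + 1 : ℕ) : ℤ) - Finsupp.single Q (j : ℤ) : Divisor k K) P := by
    intro j P
    simp only [Finsupp.sub_apply, Finsupp.single_apply]
    by_cases hPA : A = P <;> by_cases hPQ : Q = P
    · exact absurd (hPA.trans hPQ.symm) hAQ
    · simp only [hPA, hPQ, if_true, if_false]
      push_cast
      try omega
    · simp only [hPA, hPQ, if_true, if_false]
      push_cast
      try omega
    · simp only [hPA, hPQ, if_false]
      push_cast
      try omega
  -- strict drop whenever the numerical criterion holds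
  have hstrict : ∀ j : ℕ, 2 * t + 2 + ell (Finsupp.single A ((2 * t + 1 : ℕ) : ℤ) -
        Finsupp.single Q (j : ℤ) : Divisor k K) <
      (2 * t + 1) + ell (Finsupp.single A ((2 * t + 3 : ℕ) : ℤ) -
        Finsupp.single Q (j : ℤ) : Divisor k K) →
      Module.finrank k ↥(V₁ ⊓ L (Finsupp.single A ((2 * t + 3 : ℕ) : ℤ) -
        Finsupp.single Q (j : ℤ) : Divisor k K)) + 1 ≤
      ell (Finsupp.single A ((2 * t + 3 : ℕ) : ℤ) - Finsupp.single Q (j : ℤ) : Divisor k K) := by
    intro j hnum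
    have hnot := FF.not_le_of_finrank hK V₁ (hinf j) hlo' (by rw [hdimV, hellA]; exact hnum)
    have hlt : V₁ ⊓ L (Finsupp.single A ((2 * t + 3 : ℕ) : ℤ) -
        Finsupp.single Q (j : ℤ) : Divisor k K) <
        L (Finsupp.single A ((2 * t + 3 : ℕ) : ℤ) - Finsupp.single Q (j : ℤ) : Divisor k K) :=
      lt_of_le_of_ne inf_le_right (fun heq => hnot (inf_eq_right.mp heq))
    have := hLfin (Finsupp.single A ((2 * t + 3 : ℕ) : ℤ) -
        Finsupp.single Q (j : ℤ) : Divisor k K)
    exact Submodule.finrank_lt_finrank_of_lt hlt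
  -- Step C
  have hC : ∀ n : ℕ, n < 2 * t → Module.finrank k
      ↥(V₁ ⊓ L (Finsupp.single A ((2 * t + 3 : ℕ) : ℤ) -
        Finsupp.single Q ((n + 1 : ℕ) : ℤ) : Divisor k K)) ≤ 2 * t - n + 1 := by
    intro n hn
    have h1 := hstrict (n + 1) (by
      rw [hellD (2 * t + 1) (n + 1) (by omega), hellD (2 * t + 3) (n + 1) (by omega)]
      omega)
    rw [hellD (2 * t + 3) (n + 1) (by omega)] at h1
    omega
  have h3 : Module.finrank k ↥(V₁ ⊓ L (Finsupp.single A ((2 * t + 3 : ℕ) : ℤ) -
        Finsupp.single Q ((2 * t + 0 + 1 : ℕ) : ℤ) : Divisor k K)) +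
      Module.finrank k ↥(V₁ ⊓ L (Finsupp.single A ((2 * t + 3 : ℕ) : ℤ) -
        Finsupp.single Q ((2 * t + 1 + 1 : ℕ) : ℤ) : Divisor k K)) +
      Module.finrank k ↥(V₁ ⊓ L (Finsupp.single A ((2 * t + 3 : ℕ) : ℤ) -
        Finsupp.single Q ((2 * t + 2 + 1 : ℕ) : ℤ) : Divisor k K)) ≤ 3 := by
    have b1 := hfle (2 * t + 0)
    have b2 := hfle (2 * t + 1)
    have b3 := hfle (2 * t + 2)
    rw [hellD (2 * t + 3) (2 * t + 0 + 1) (by omega)] at b1
    rw [hellD (2 * t + 3) (2 * t + 1 + 1) (by omega)] at b2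
    have b3' := hellD1 (2 * t + 3)
    have e3 : 2 * t + 2 + 1 = 2 * t + 3 := by omega
    rw [e3] at b3 ⊢
    by_cases hbot : L (Finsupp.single A ((2 * t + 3 : ℕ) : ℤ) -
        Finsupp.single Q ((2 * t + 3 : ℕ) : ℤ) : Divisor k K) = ⊥
    · have hz : ell (Finsupp.single A ((2 * t + 3 : ℕ) : ℤ) -
          Finsupp.single Q ((2 * t + 3 : ℕ) : ℤ) : Divisor k K) = 0 := by
        unfold ell
        rw [hbot]
        exact finrank_bot k K
      omega
    · have hbot2 : L (Finsupp.single A ((2 * t + 1 : ℕ) : ℤ) -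
          Finsupp.single Q ((2 * t + 1 : ℕ) : ℤ) : Divisor k K) = ⊥ := by
        by_contra hne
        exact FF.torsion_aux hK hg1 A Q hQ t hbot hne
      have hz2 : ell (Finsupp.single A ((2 * t + 1 : ℕ) : ℤ) -
          Finsupp.single Q ((2 * t + 1 : ℕ) : ℤ) : Divisor k K) = 0 := by
        unfold ell
        rw [hbot2]
        exact finrank_bot k K
      have e1 : 2 * t + 0 + 1 = 2 * t + 1 := by omega
      rw [e1] at b1 ⊢
      have h1 := hstrict (2 * t + 1) (by
        rw [hz2, hellD (2 * t + 3) (2 * t + 1) (by omega)]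
        omega)
      rw [hellD (2 * t + 3) (2 * t + 1) (by omega)] at h1
      omega
  have hz : ∀ y : ℕ, Module.finrank k ↥(V₁ ⊓ L (Finsupp.single A ((2 * t + 3 : ℕ) : ℤ) -
        Finsupp.single Q ((2 * t + 3 + y + 1 : ℕ) : ℤ) : Divisor k K)) = 0 := by
    intro y
    have := hfle (2 * t + 3 + y)
    rw [hellD0 (2 * t + 3) (2 * t + 3 + y + 1) (by omega)] at this
    omega
  -- the sum
  have hrange : 2 * (2 * t + 3) - 2 = 2 * t + (3 + (2 * t + 1)) := by omega
  rw [hrange, Finset.sum_range_add, Finset.sum_range_add]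
  have hs1 : ∑ n ∈ Finset.range (2 * t), Module.finrank k
      ↥(V₁ ⊓ L (Finsupp.single A ((2 * t + 3 : ℕ) : ℤ) -
        Finsupp.single Q ((n + 1 : ℕ) : ℤ) : Divisor k K)) ≤ (2 * t + 1).choose 2 + 2 * t := by
    rw [← Wr.sum_range_sub_add_one (2 * t)]
    apply Finset.sum_le_sum
    intro n hn
    rw [Finset.mem_range] at hn
    exact hC n hn
  have hs3 : ∑ y ∈ Finset.range (2 * t + 1), Module.finrank k
      ↥(V₁ ⊓ L (Finsupp.single A ((2 * t + 3 : ℕ) : ℤ) -
        Finsupp.single Q ((2 * t + (3 + y) + 1 : ℕ) : ℤ) : Divisor k K)) = 0 := by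
    apply Finset.sum_eq_zero
    intro y _
    have : 2 * t + (3 + y) + 1 = 2 * t + 3 + y + 1 := by omega
    rw [this]
    exact hz y
  rw [hs3, Finset.sum_range_succ, Finset.sum_range_succ, Finset.sum_range_one]
  have hc := Nat.choose_succ_succ (2 * t + 1) 1
  rw [Nat.choose_one_right] at hc
  have e3 : Nat.succ 1 = 2 := rfl
  rw [e3] at hc
  have e4 : (2 * t + 1).succ = 2 * t + 1 + 1 := rfl
  rw [e4] at hc
  have e2 : 2 * t + 3 - 1 = 2 * t + 1 + 1 := by omega
  rw [e2, hc]
  omega

end Groth.Agent.S17247
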