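import Groth.Statements.S17248
import Groth.Agent.H86.FF2

set_option autoImplicit false
open FunFld Groth.Agent.H86 Groth.Agent.H55

namespace Groth.Agent.S17248

/-- Let `K/k` be a function field of one variable of genus one over an algebraically closed field `k` of
characteristic zero (an elliptic curve `E`), `A` a place, and `g ≥ 3` an integer. Inside
`H⁰(O_E((2g-2)A)) = L((2g-2)A)` consider `V = L(gA)` (dimension `g`) and any hyperplane `V₁` of it
containing `L((g-2)A)`: `L((g-2)A) ⊆ V₁ ⊆ L(gA)`, `dim V₁ = g - 1`. Vanishing orders are those of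
sections of `O_E((2g-2)A)`: a member `f` vanishes to order at least `n` at a place `Q` when `f ∈
L((2g-2)A - nQ)`, and the weight of `V₁` at `Q` is `∑_{n=1}^{2g-2} dim (V₁ ∩ L((2g-2)A - nQ)) - (g-1
choose 2)` (the sum of the `g - 1` vanishing orders minus `0 + 1 + ⋯ + (g-2)`). Then the weight of
`V₁` at `A` is `(g-1)² + ε` with `ε ∈ {0, 1}`. (The published statement is for a smooth elliptic
curve over the complex numbers and `g` odd positive; `g ≥ 3` here since the ambient inclusion needs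
it; this row does not assume `g` odd.) -/
theorem result
    (k K : Type*) [Field k] [IsAlgClosed k] [CharZero k] [Field K] [Algebra k K]
    (hK : FunFld.IsFunctionField k K) (hg1 : FunFld.genus k K = 1)
    (g : ℕ) (h3 : 3 ≤ g) (A : FunFld.Place k K)
    (V₁ : Submodule k K) (hlo : FunFld.L (Finsupp.single A ((g : ℤ) - 2)) ≤ V₁)
    (hhi : V₁ ≤ FunFld.L (Finsupp.single A (g : ℤ))) (hdim : Module.finrank k ↥V₁ + 1 = g) :
    ∃ ε : ℕ, ε ≤ 1 ∧
      (∑ n ∈ Finset.range (2 * g - 2), Module.finrank k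
        ↥(V₁ ⊓ FunFld.L (Finsupp.single A (2 * (g : ℤ) - 2) - Finsupp.single A ((n : ℤ) + 1)))) =
      (g - 1).choose 2 + (g - 1) ^ 2 + ε := by
  classical
  obtain ⟨h, rfl⟩ : ∃ h, g = h + 3 := ⟨g - 3, by omega⟩
  have hLfin : ∀ D : Divisor k K, Module.Finite k (L D) := L_finite hK
  have hfinV : FiniteDimensional k V₁ := by
    have := hLfin (Finsupp.single A (((h + 3 : ℕ) : ℤ)))
    exact Submodule.finiteDimensional_of_le hhi
  have hmono : ∀ a b : ℤ, a ≤ b → (Finsupp.single A a : Divisor k K) ≤ Finsupp.single A b := by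
    intro a b hab P
    by_cases hP : P = A
    · subst hP
      rw [Finsupp.single_eq_same, Finsupp.single_eq_same]
      exact hab
    · rw [Finsupp.single_eq_of_ne hP, Finsupp.single_eq_of_ne hP]
  have hellA : ∀ m : ℕ, 1 ≤ m → Module.finrank k (L (Finsupp.single A (m : ℤ) : Divisor k K)) = m :=
    fun m hm => FF.ell_nat_of_genus_one hK hg1 _ m hm (FF.deg_single_one hK A m)
  have hterm : ∀ n : ℕ, (Finsupp.single A (2 * ((h + 3 : ℕ) : ℤ) - 2) -
      Finsupp.single A ((n : ℤ) + 1) : Divisor k K) =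
      Finsupp.single A (2 * (h : ℤ) + 3 - n) := by
    intro n
    rw [← Finsupp.single_sub]
    congr 1
    push_cast
    ring
  have hsum : ∑ n ∈ Finset.range (2 * (h + 3) - 2), Module.finrank k
        ↥(V₁ ⊓ L (Finsupp.single A (2 * ((h + 3 : ℕ) : ℤ) - 2) -
          Finsupp.single A ((n : ℤ) + 1) : Divisor k K)) =
      ∑ n ∈ Finset.range (2 * (h + 3) - 2), Module.finrank k
        ↥(V₁ ⊓ L (Finsupp.single A (2 * (h : ℤ) + 3 - n) : Divisor k K)) :=
    Finset.sum_congr rfl (fun n _ => by rw [hterm n])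
  rw [hsum]
  have hlo' : L (Finsupp.single A ((h : ℤ) + 1) : Divisor k K) ≤ V₁ := by
    have : ((h + 3 : ℕ) : ℤ) - 2 = (h : ℤ) + 1 := by push_cast; ring
    rwa [this] at hlo
  have hhi' : V₁ ≤ L (Finsupp.single A ((h : ℤ) + 3) : Divisor k K) := by
    have : ((h + 3 : ℕ) : ℤ) = (h : ℤ) + 3 := by push_cast; ring
    rwa [this] at hhi
  have hdimV : Module.finrank k V₁ = h + 2 := by omega
  -- values
  have hf1 : ∀ n : ℕ, n ≤ h → Module.finrank k
      ↥(V₁ ⊓ L (Finsupp.single A (2 * (h : ℤ) + 3 - n) : Divisor k K)) = h + 2 := by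
    intro n hn
    have : V₁ ⊓ L (Finsupp.single A (2 * (h : ℤ) + 3 - n) : Divisor k K) = V₁ :=
      inf_eq_left.mpr (hhi'.trans (L_mono (hmono _ _ (by omega))))
    rw [this, hdimV]
  have hf3 : ∀ j : ℕ, j ≤ h → Module.finrank k
      ↥(V₁ ⊓ L (Finsupp.single A (2 * (h : ℤ) + 3 - ((h + 2 + j : ℕ) : ℤ)) : Divisor k K)) =
      h + 1 - j := by
    intro j hj
    have he : 2 * (h : ℤ) + 3 - ((h + 2 + j : ℕ) : ℤ) = ((h + 1 - j : ℕ) : ℤ) := by
      push_cast
      omega
    rw [he]
    have : V₁ ⊓ L (Finsupp.single A ((h + 1 - j : ℕ) : ℤ) : Divisor k K) =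
        L (Finsupp.single A ((h + 1 - j : ℕ) : ℤ) : Divisor k K) :=
      inf_eq_right.mpr ((L_mono (hmono _ _ (by push_cast; omega))).trans hlo')
    rw [this, hellA _ (by omega)]
  have hf4 : Module.finrank k
      ↥(V₁ ⊓ L (Finsupp.single A (2 * (h : ℤ) + 3 - ((h + 2 + (h + 1) : ℕ) : ℤ)) : Divisor k K)) =
      1 := by
    have he : 2 * (h : ℤ) + 3 - ((h + 2 + (h + 1) : ℕ) : ℤ) = 0 := by
      push_cast
      ring
    rw [he, Finsupp.single_zero]
    have : V₁ ⊓ L (0 : Divisor k K) = L (0 : Divisor k K) := by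
      apply inf_eq_right.mpr
      refine le_trans ?_ hlo'
      have := L_mono (hmono 0 ((h : ℤ) + 1) (by omega))
      rwa [Finsupp.single_zero] at this
    rw [this]
    exact ell_zero hK
  have hf2 : h + 1 ≤ Module.finrank k
      ↥(V₁ ⊓ L (Finsupp.single A (2 * (h : ℤ) + 3 - ((h + 1 + 0 : ℕ) : ℤ)) : Divisor k K)) ∧
      Module.finrank k
      ↥(V₁ ⊓ L (Finsupp.single A (2 * (h : ℤ) + 3 - ((h + 1 + 0 : ℕ) : ℤ)) : Divisor k K)) ≤
        h + 2 := by
    have he : 2 * (h : ℤ) + 3 - ((h + 1 + 0 : ℕ) : ℤ) = ((h + 2 : ℕ) : ℤ) := by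
      push_cast
      ring
    rw [he]
    have hfin2 := hLfin (Finsupp.single A ((h + 2 : ℕ) : ℤ))
    constructor
    · have hle : L (Finsupp.single A ((h + 1 : ℕ) : ℤ) : Divisor k K) ≤
          V₁ ⊓ L (Finsupp.single A ((h + 2 : ℕ) : ℤ) : Divisor k K) := by
        apply le_inf
        · have : ((h + 1 : ℕ) : ℤ) = (h : ℤ) + 1 := by push_cast; ring
          rw [this]
          exact hlo'
        · exact L_mono (hmono _ _ (by push_cast; omega))
      have hfin3 : FiniteDimensional k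
          ↥(V₁ ⊓ L (Finsupp.single A ((h + 2 : ℕ) : ℤ) : Divisor k K)) :=
        Submodule.finiteDimensional_of_le inf_le_right
      have := Submodule.finrank_mono hle
      rw [hellA _ (by omega)] at this
      exact this
    · have := Submodule.finrank_mono (inf_le_right :
        V₁ ⊓ L (Finsupp.single A ((h + 2 : ℕ) : ℤ) : Divisor k K) ≤ _)
      rw [hellA _ (by omega)] at this
      exact this
  obtain ⟨ε, hε⟩ : ∃ ε, Module.finrank k
      ↥(V₁ ⊓ L (Finsupp.single A (2 * (h : ℤ) + 3 - ((h + 1 + 0 : ℕ) : ℤ)) : Divisor k K)) =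
      h + 1 + ε := Nat.exists_eq_add_of_le hf2.1
  refine ⟨ε, by omega, ?_⟩
  have hrange : 2 * (h + 3) - 2 = (h + 1) + ((h + 1 + 1) + 1) := by omega
  rw [hrange, Finset.sum_range_add]
  have hs1 : ∑ n ∈ Finset.range (h + 1), Module.finrank k
      ↥(V₁ ⊓ L (Finsupp.single A (2 * (h : ℤ) + 3 - (n : ℤ)) : Divisor k K)) =
      (h + 1) * (h + 2) := by
    rw [Finset.sum_congr rfl (fun n hn => hf1 n (by rw [Finset.mem_range] at hn; omega)),
      Finset.sum_const, Finset.card_range, smul_eq_mul]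
  have hs2 : ∑ j ∈ Finset.range (h + 1), Module.finrank k
      ↥(V₁ ⊓ L (Finsupp.single A (2 * (h : ℤ) + 3 - ((h + 1 + (j + 1) : ℕ) : ℤ)) : Divisor k K)) =
      (h + 1 + 1).choose 2 := by
    rw [← FF.sum_range_sub (h + 1)]
    apply Finset.sum_congr rfl
    intro j hj
    rw [Finset.mem_range] at hj
    have : h + 1 + (j + 1) = h + 2 + j := by omega
    rw [this]
    exact hf3 j (by omega)
  have hlast : h + 1 + (h + 1 + 1) = h + 2 + (h + 1) := by omega
  rw [hs1, Finset.sum_range_succ', Finset.sum_range_succ, hs2, hlast, hf4, hε]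
  have e1 : h + 3 - 1 = h + 2 := by omega
  rw [e1]
  ring

end Groth.Agent.S17248
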