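import Groth.Statements.S17249
import Groth.Agent.H86.FF1

set_option autoImplicit false
open FunFld Groth.Agent.H86 Groth.Agent.H55

namespace Groth.Agent.S17249

/-- Let `K/k` be a function field of one variable of genus two over an algebraically closed field `k` of
characteristic zero (a smooth curve `X` of genus `2`), `C` a canonical divisor, `A` a place with
`ℓ(2A) = 1` (not a Weierstrass point), and `P`, `Q` places with `Q ≠ A`. Then `ℓ(C + 2A - P - 3Q) =
1` and `ℓ(C + 2A - P - Q) = 2` do not both hold: the two-dimensional complete system `H⁰(ω_X(2A -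
P))` (of degree `3`) has no point `Q ≠ A` of weight three. (The published statement concerns a
general pointed curve `(X, A)` of genus two over the complex numbers and a point `P` of `X`; this
row assumes only `ℓ(2A) = 1`.) -/
theorem result
    (k K : Type*) [Field k] [IsAlgClosed k] [CharZero k] [Field K] [Algebra k K]
    (hK : FunFld.IsFunctionField k K) (hg : FunFld.genus k K = 2)
    (C : FunFld.Divisor k K) (hC : FunFld.IsCanonical k K C)
    (A P Q : FunFld.Place k K) (hA : Module.finrank k ↥(FunFld.L (Finsupp.single A (2 : ℤ))) = 1) (hQ : Q ≠ A) :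
    ¬ (Module.finrank k ↥(FunFld.L (C + Finsupp.single A (2 : ℤ) - Finsupp.single P (1 : ℤ) - Finsupp.single Q (3 : ℤ))) = 1 ∧
       Module.finrank k ↥(FunFld.L (C + Finsupp.single A (2 : ℤ) - Finsupp.single P (1 : ℤ) - Finsupp.single Q (1 : ℤ))) = 2) := by
  classical
  rintro ⟨-, h2⟩
  have hdegC := (canonical_ell_deg hK hC).2
  have hD2 : (C + Finsupp.single A (2 : ℤ) - Finsupp.single P (1 : ℤ) -
      Finsupp.single Q (1 : ℤ)).deg = 2 := by
    rw [Divisor.deg_sub, Divisor.deg_sub, Divisor.deg_add, FF.deg_single_one hK,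
      FF.deg_single_one hK, FF.deg_single_one hK, hdegC, hg]
    norm_num
  have hRR := riemann_roch hK hC (C + Finsupp.single A (2 : ℤ) - Finsupp.single P (1 : ℤ) -
      Finsupp.single Q (1 : ℤ))
  have hE : C - (C + Finsupp.single A (2 : ℤ) - Finsupp.single P (1 : ℤ) -
      Finsupp.single Q (1 : ℤ)) =
      Finsupp.single P (1 : ℤ) + Finsupp.single Q (1 : ℤ) - Finsupp.single A (2 : ℤ) := by
    abel
  rw [hE, hD2, hg] at hRR
  have h2' : ell (C + Finsupp.single A (2 : ℤ) - Finsupp.single P (1 : ℤ) -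
      Finsupp.single Q (1 : ℤ)) = 2 := h2
  rw [h2'] at hRR
  have hell : ell (Finsupp.single P (1 : ℤ) + Finsupp.single Q (1 : ℤ) -
      Finsupp.single A (2 : ℤ) : Divisor k K) = 1 := by
    have : ((ell (Finsupp.single P (1 : ℤ) + Finsupp.single Q (1 : ℤ) -
      Finsupp.single A (2 : ℤ) : Divisor k K) : ℕ) : ℤ) = 1 := by
      push_cast at hRR
      linarith
    exact_mod_cast this
  have hdegE : FunFld.Divisor.deg (Finsupp.single P (1 : ℤ) + Finsupp.single Q (1 : ℤ) -
      Finsupp.single A (2 : ℤ) : Divisor k K) = 0 := by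
    rw [Divisor.deg_sub, Divisor.deg_add, FF.deg_single_one hK,
      FF.deg_single_one hK, FF.deg_single_one hK]
    norm_num
  obtain ⟨x, hx0, hx⟩ := FF.exists_div_eq_of_deg_zero hK _ hdegE
    (FF.ell_pos_of_eq hK hell one_pos)
  have hxinv : x⁻¹ ∈ L (Finsupp.single A (2 : ℤ) : Divisor k K) := by
    rw [mem_L_iff_div hK (inv_ne_zero hx0), div_inv hK, hx, neg_neg]
    have : (Finsupp.single A (2 : ℤ) : Divisor k K) + (Finsupp.single P (1 : ℤ) +
        Finsupp.single Q (1 : ℤ) - Finsupp.single A (2 : ℤ)) =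
        Finsupp.single P (1 : ℤ) + Finsupp.single Q (1 : ℤ) := by abel
    rw [this]
    exact add_nonneg (Finsupp.single_nonneg.mpr (by norm_num))
      (Finsupp.single_nonneg.mpr (by norm_num))
  obtain ⟨c, hc⟩ := FF.mem_range_of_ell_eq_one hK
    (Finsupp.single_nonneg.mpr (by norm_num) : (0 : Divisor k K) ≤ Finsupp.single A (2 : ℤ))
    hA hxinv
  have h0 : div k x⁻¹ = 0 := by rw [← hc, div_algebraMap hK]
  rw [div_inv hK, hx, neg_neg] at h0
  have hQ0 := DFunLike.congr_fun h0 Q
  rw [Finsupp.sub_apply, Finsupp.add_apply, Finsupp.single_eq_same,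
    Finsupp.single_eq_of_ne hQ, Finsupp.zero_apply] at hQ0
  have : (0 : ℤ) ≤ (Finsupp.single P (1 : ℤ) : Divisor k K) Q := by
    rw [Finsupp.single_apply]
    split_ifs <;> norm_num
  omega

end Groth.Agent.S17249
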