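import Groth.Statements.S17250
import Groth.Agent.H86.FF1

set_option autoImplicit false
open FunFld Groth.Agent.H86 Groth.Agent.H55

namespace Groth.Agent.S17250

/-- Let `K/k` be a function field of one variable of genus two over an algebraically closed field `k` of
characteristic zero (a smooth curve `X` of genus `2`), `C` a canonical divisor, `A` a place with
`ℓ(2A) = 1`, and `P`, `Q` places different from `A`. Then `ℓ(C + 3A - P - 4Q) = 1` and `ℓ(C + 3A - P
- 2Q) = 2` do not both hold (the three-dimensional complete system `H⁰(ω_X(3A - P))`, of degree `4`,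
has no point `Q ≠ A` with two independent sections vanishing to order at least `2` there and one
vanishing to order at least `4`). (The published statement concerns a general pointed curve `(X, A)`
of genus two over the complex numbers and a point `P ≠ A`; this row assumes `ℓ(2A) = 1` in place of
generality.) -/
theorem result
    (k K : Type*) [Field k] [IsAlgClosed k] [CharZero k] [Field K] [Algebra k K]
    (hK : FunFld.IsFunctionField k K) (hg : FunFld.genus k K = 2)
    (C : FunFld.Divisor k K) (hC : FunFld.IsCanonical k K C)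
    (A P Q : FunFld.Place k K) (hA : Module.finrank k ↥(FunFld.L (Finsupp.single A (2 : ℤ))) = 1) (hP : P ≠ A) (hQ : Q ≠ A) :
    ¬ (Module.finrank k ↥(FunFld.L (C + Finsupp.single A (3 : ℤ) - Finsupp.single P (1 : ℤ) - Finsupp.single Q (4 : ℤ))) = 1 ∧
       Module.finrank k ↥(FunFld.L (C + Finsupp.single A (3 : ℤ) - Finsupp.single P (1 : ℤ) - Finsupp.single Q (2 : ℤ))) = 2) := by
  classical
  rintro ⟨h1, h2⟩
  obtain ⟨hellC, hdegC⟩ := canonical_ell_deg hK hC
  -- second equation: a function x with div x = 3A - P - 2Q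
  have hD2 : (C + Finsupp.single A (3 : ℤ) - Finsupp.single P (1 : ℤ) -
      Finsupp.single Q (2 : ℤ)).deg = 2 := by
    rw [Divisor.deg_sub, Divisor.deg_sub, Divisor.deg_add, FF.deg_single_one hK,
      FF.deg_single_one hK, FF.deg_single_one hK, hdegC, hg]
    norm_num
  have hRR := riemann_roch hK hC (C + Finsupp.single A (3 : ℤ) - Finsupp.single P (1 : ℤ) -
      Finsupp.single Q (2 : ℤ))
  have hE : C - (C + Finsupp.single A (3 : ℤ) - Finsupp.single P (1 : ℤ) -
      Finsupp.single Q (2 : ℤ)) =
      Finsupp.single P (1 : ℤ) + Finsupp.single Q (2 : ℤ) - Finsupp.single A (3 : ℤ) := by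
    abel
  rw [hE, hD2, hg] at hRR
  have h2' : ell (C + Finsupp.single A (3 : ℤ) - Finsupp.single P (1 : ℤ) -
      Finsupp.single Q (2 : ℤ)) = 2 := h2
  rw [h2'] at hRR
  have hell : ell (Finsupp.single P (1 : ℤ) + Finsupp.single Q (2 : ℤ) -
      Finsupp.single A (3 : ℤ) : Divisor k K) = 1 := by
    have : ((ell (Finsupp.single P (1 : ℤ) + Finsupp.single Q (2 : ℤ) -
      Finsupp.single A (3 : ℤ) : Divisor k K) : ℕ) : ℤ) = 1 := by
      push_cast at hRR
      linarith
    exact_mod_cast this
  have hdegE : FunFld.Divisor.deg (Finsupp.single P (1 : ℤ) + Finsupp.single Q (2 : ℤ) -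
      Finsupp.single A (3 : ℤ) : Divisor k K) = 0 := by
    rw [Divisor.deg_sub, Divisor.deg_add, FF.deg_single_one hK,
      FF.deg_single_one hK, FF.deg_single_one hK]
    norm_num
  obtain ⟨x, hx0, hx⟩ := FF.exists_div_eq_of_deg_zero hK _ hdegE
    (FF.ell_pos_of_eq hK hell one_pos)
  -- first equation: a function y with div y = -(C + 3A - P - 4Q)
  have hD1 : (C + Finsupp.single A (3 : ℤ) - Finsupp.single P (1 : ℤ) -
      Finsupp.single Q (4 : ℤ)).deg = 0 := by
    rw [Divisor.deg_sub, Divisor.deg_sub, Divisor.deg_add, FF.deg_single_one hK,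
      FF.deg_single_one hK, FF.deg_single_one hK, hdegC, hg]
    norm_num
  have h1' : ell (C + Finsupp.single A (3 : ℤ) - Finsupp.single P (1 : ℤ) -
      Finsupp.single Q (4 : ℤ)) = 1 := h1
  obtain ⟨y, hy0, hy⟩ := FF.exists_div_eq_of_deg_zero hK _ hD1
    (FF.ell_pos_of_eq hK h1' one_pos)
  -- ℓ(3A - P) = ℓ(C) = 2
  have hkey : (Finsupp.single A (3 : ℤ) - Finsupp.single P (1 : ℤ) : Divisor k K) =
      C + div k x + div k y + div k x := by
    have hQ4 : (Finsupp.single Q (4 : ℤ) : Divisor k K) =
        Finsupp.single Q (2 : ℤ) + Finsupp.single Q (2 : ℤ) := by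
      rw [← Finsupp.single_add]
      norm_num
    rw [hx, hy, hQ4]
    abel
  have hell3 : ell (Finsupp.single A (3 : ℤ) - Finsupp.single P (1 : ℤ) : Divisor k K) = 2 := by
    rw [hkey, ell_add_div hK _ hx0, ell_add_div hK _ hy0, ell_add_div hK _ hx0, hellC, hg]
  -- ℓ(3A) = 2
  have hdeg3 : FunFld.Divisor.deg (Finsupp.single A (3 : ℤ) : Divisor k K) = 3 :=
    FF.deg_single_one hK A 3
  have hell3A : ell (Finsupp.single A (3 : ℤ) : Divisor k K) = 2 := by
    have := ell_of_deg_ge hK (Finsupp.single A (3 : ℤ) : Divisor k K) (by rw [hdeg3, hg]; norm_num)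
    rw [hdeg3, hg] at this
    have h' : ((ell (Finsupp.single A (3 : ℤ) : Divisor k K) : ℕ) : ℤ) = 2 := by
      push_cast at this
      linarith
    exact_mod_cast h'
  have hle : (Finsupp.single A (3 : ℤ) - Finsupp.single P (1 : ℤ) : Divisor k K) ≤
      Finsupp.single A (3 : ℤ) := by
    rw [sub_le_self_iff]
    exact Finsupp.single_nonneg.mpr (by norm_num)
  have hfin := L_finite hK (Finsupp.single A (3 : ℤ) : Divisor k K)
  have heq : L (Finsupp.single A (3 : ℤ) - Finsupp.single P (1 : ℤ) : Divisor k K) =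
      L (Finsupp.single A (3 : ℤ) : Divisor k K) := by
    apply Submodule.eq_of_le_of_finrank_le (L_mono hle)
    unfold ell at hell3 hell3A
    omega
  have h1mem : (1 : K) ∈ L (Finsupp.single A (3 : ℤ) : Divisor k K) := by
    apply L_mono (Finsupp.single_nonneg.mpr (by norm_num) :
      (0 : Divisor k K) ≤ Finsupp.single A (3 : ℤ))
    rw [L_zero hK]
    exact Submodule.mem_one.mpr ⟨1, map_one _⟩
  rw [← heq, mem_L] at h1mem
  have hP' := h1mem P
  rw [map_one, Finsupp.sub_apply, Finsupp.single_eq_of_ne hP, Finsupp.single_eq_same,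
    zero_sub] at hP'
  exact absurd hP' (not_le.mpr Place.exp_neg_one_lt_one)

end Groth.Agent.S17250
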