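import Groth.Statements.S17251
import Groth.Agent.H86.FF1

set_option autoImplicit false
open FunFld Groth.Agent.H86 Groth.Agent.H55

namespace Groth.Agent.S17251

/-- Let `K/k` be a function field of one variable of genus two over an algebraically closed field `k` of
characteristic zero (a smooth curve `Y` of genus `2`), `C` a canonical divisor, `B` a place with
`ℓ(2B) = 1` (not a Weierstrass point) and `Q ≠ B` a place. Then `ℓ(C + B - 2Q) = 1` and `ℓ(C + 3B -
4Q) = 1` do not both hold: the complete systems `H⁰(ω_Y(B))` (dimension `2`, degree `3`) and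
`H⁰(ω_Y(3B))` (dimension `4`, degree `5`) have no ramification point in common on `Y` minus `B`.
(The published statement concerns a general pointed curve `(Y, B)` of genus two over the complex
numbers; this row assumes only `ℓ(2B) = 1`.) -/
theorem result
    (k K : Type*) [Field k] [IsAlgClosed k] [CharZero k] [Field K] [Algebra k K]
    (hK : FunFld.IsFunctionField k K) (hg : FunFld.genus k K = 2)
    (C : FunFld.Divisor k K) (hC : FunFld.IsCanonical k K C)
    (B Q : FunFld.Place k K) (hB : Module.finrank k ↥(FunFld.L (Finsupp.single B (2 : ℤ))) = 1) (hQ : Q ≠ B) :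
    ¬ (Module.finrank k ↥(FunFld.L (C + Finsupp.single B (1 : ℤ) - Finsupp.single Q (2 : ℤ))) = 1 ∧
       Module.finrank k ↥(FunFld.L (C + Finsupp.single B (3 : ℤ) - Finsupp.single Q (4 : ℤ))) = 1) := by
  classical
  rintro ⟨h1, h2⟩
  obtain ⟨hellC, hdegC⟩ := canonical_ell_deg hK hC
  have hBQ : B ≠ Q := fun h => hQ h.symm
  -- (1): ℓ(2Q - B) = 1
  have hRR1 := riemann_roch hK hC (C + Finsupp.single B (1 : ℤ) - Finsupp.single Q (2 : ℤ))
  have hE1 : C - (C + Finsupp.single B (1 : ℤ) - Finsupp.single Q (2 : ℤ)) =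
      Finsupp.single Q (2 : ℤ) - Finsupp.single B (1 : ℤ) := by abel
  have h1' : ell (C + Finsupp.single B (1 : ℤ) - Finsupp.single Q (2 : ℤ)) = 1 := h1
  rw [hE1, h1', Divisor.deg_sub, Divisor.deg_add, FF.deg_single_one hK, FF.deg_single_one hK,
    hdegC, hg] at hRR1
  have hell1 : ell (Finsupp.single Q (2 : ℤ) - Finsupp.single B (1 : ℤ) : Divisor k K) = 1 := by
    have : ((ell (Finsupp.single Q (2 : ℤ) - Finsupp.single B (1 : ℤ) : Divisor k K) : ℕ) : ℤ)
        = 1 := by
      push_cast at hRR1
      linarith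
    exact_mod_cast this
  -- (2): ℓ(4Q - 3B) = 1
  have hRR2 := riemann_roch hK hC (C + Finsupp.single B (3 : ℤ) - Finsupp.single Q (4 : ℤ))
  have hE2 : C - (C + Finsupp.single B (3 : ℤ) - Finsupp.single Q (4 : ℤ)) =
      Finsupp.single Q (4 : ℤ) - Finsupp.single B (3 : ℤ) := by abel
  have h2' : ell (C + Finsupp.single B (3 : ℤ) - Finsupp.single Q (4 : ℤ)) = 1 := h2
  rw [hE2, h2', Divisor.deg_sub, Divisor.deg_add, FF.deg_single_one hK, FF.deg_single_one hK,
    hdegC, hg] at hRR2
  have hell2 : ell (Finsupp.single Q (4 : ℤ) - Finsupp.single B (3 : ℤ) : Divisor k K) = 1 := by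
    have : ((ell (Finsupp.single Q (4 : ℤ) - Finsupp.single B (3 : ℤ) : Divisor k K) : ℕ) : ℤ)
        = 1 := by
      push_cast at hRR2
      linarith
    exact_mod_cast this
  -- RR for 2Q
  have hRRQ := riemann_roch hK hC (Finsupp.single Q (2 : ℤ) : Divisor k K)
  rw [FF.deg_single_one hK, hg] at hRRQ
  by_cases hbot : L (C - Finsupp.single Q (2 : ℤ) : Divisor k K) = ⊥
  · -- Case 1: ℓ(2Q) = 1
    have hz : ell (C - Finsupp.single Q (2 : ℤ) : Divisor k K) = 0 := by
      unfold ell
      rw [hbot]
      exact finrank_bot k K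
    rw [hz] at hRRQ
    have hellQ : ell (Finsupp.single Q (2 : ℤ) : Divisor k K) = 1 := by
      have : ((ell (Finsupp.single Q (2 : ℤ) : Divisor k K) : ℕ) : ℤ) = 1 := by
        push_cast at hRRQ
        linarith
      exact_mod_cast this
    obtain ⟨x, hxL, hx0⟩ := Submodule.exists_mem_ne_zero_of_ne_bot
      (FF.ell_pos_of_eq hK hell1 one_pos)
    have hle : (Finsupp.single Q (2 : ℤ) - Finsupp.single B (1 : ℤ) : Divisor k K) ≤
        Finsupp.single Q (2 : ℤ) := by
      rw [sub_le_self_iff]
      exact Finsupp.single_nonneg.mpr (by norm_num)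
    obtain ⟨c, hc⟩ := FF.mem_range_of_ell_eq_one hK
      (Finsupp.single_nonneg.mpr (by norm_num) : (0 : Divisor k K) ≤ Finsupp.single Q (2 : ℤ))
      hellQ (L_mono hle hxL)
    have hc0 : c ≠ 0 := by
      rintro rfl
      rw [map_zero] at hc
      exact hx0 hc.symm
    rw [mem_L] at hxL
    have hB' := hxL B
    rw [← hc, Place.val_algebraMap_eq_one B hc0, Finsupp.sub_apply,
      Finsupp.single_eq_of_ne hBQ, Finsupp.single_eq_same, zero_sub] at hB'
    exact absurd hB' (not_le.mpr Place.exp_neg_one_lt_one)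
  · -- Case 2: C ~ 2Q
    have hdeg0 : FunFld.Divisor.deg (C - Finsupp.single Q (2 : ℤ) : Divisor k K) = 0 := by
      rw [Divisor.deg_sub, FF.deg_single_one hK, hdegC, hg]
      norm_num
    obtain ⟨w, hw0, hw⟩ := FF.exists_div_eq_of_deg_zero hK _ hdeg0 hbot
    -- ℓ(2C - 3B) = 1
    have hQ4 : (Finsupp.single Q (4 : ℤ) : Divisor k K) =
        Finsupp.single Q (2 : ℤ) + Finsupp.single Q (2 : ℤ) := by
      rw [← Finsupp.single_add]
      norm_num
    have hkey : (Finsupp.single Q (4 : ℤ) - Finsupp.single B (3 : ℤ) : Divisor k K) =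
        C + C - Finsupp.single B (3 : ℤ) + div k w + div k w := by
      rw [hw, hQ4]
      abel
    have hell3 : ell (C + C - Finsupp.single B (3 : ℤ) : Divisor k K) = 1 := by
      rw [← hell2, hkey, ell_add_div hK _ hw0, ell_add_div hK _ hw0]
    -- RR: ℓ(3B - C) = 1
    have hRR3 := riemann_roch hK hC (C + C - Finsupp.single B (3 : ℤ) : Divisor k K)
    have hE3 : C - (C + C - Finsupp.single B (3 : ℤ)) = Finsupp.single B (3 : ℤ) - C := by abel
    rw [hE3, hell3, Divisor.deg_sub, Divisor.deg_add, FF.deg_single_one hK, hdegC, hg] at hRR3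
    have hell4 : ell (Finsupp.single B (3 : ℤ) - C : Divisor k K) = 1 := by
      have : ((ell (Finsupp.single B (3 : ℤ) - C : Divisor k K) : ℕ) : ℤ) = 1 := by
        push_cast at hRR3
        linarith
      exact_mod_cast this
    obtain ⟨v, hv0, hv⟩ := (L_ne_bot_iff hK _).mp (FF.ell_pos_of_eq hK hell4 one_pos)
    -- E := 3B - C + div v ≥ 0, of degree 1
    have hdegE : FunFld.Divisor.deg (Finsupp.single B (3 : ℤ) - C + div k v) = 1 := by
      rw [deg_add_div hK, Divisor.deg_sub, FF.deg_single_one hK, hdegC, hg]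
      norm_num
    -- ℓ(3B - E) = ℓ(C) = 2
    have h3BE : (Finsupp.single B (3 : ℤ) : Divisor k K) -
        (Finsupp.single B (3 : ℤ) - C + div k v) = C + div k v⁻¹ := by
      rw [div_inv hK]
      abel
    have hell5 : ell ((Finsupp.single B (3 : ℤ) : Divisor k K) -
        (Finsupp.single B (3 : ℤ) - C + div k v)) = 2 := by
      rw [h3BE, ell_add_div hK _ (inv_ne_zero hv0), hellC, hg]
    -- ℓ(3B) = 2
    have hdeg3 : FunFld.Divisor.deg (Finsupp.single B (3 : ℤ) : Divisor k K) = 3 :=
      FF.deg_single_one hK B 3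
    have hell3B : ell (Finsupp.single B (3 : ℤ) : Divisor k K) = 2 := by
      have := ell_of_deg_ge hK (Finsupp.single B (3 : ℤ) : Divisor k K)
        (by rw [hdeg3, hg]; norm_num)
      rw [hdeg3, hg] at this
      have h' : ((ell (Finsupp.single B (3 : ℤ) : Divisor k K) : ℕ) : ℤ) = 2 := by
        push_cast at this
        linarith
      exact_mod_cast h'
    have hle : (Finsupp.single B (3 : ℤ) : Divisor k K) -
        (Finsupp.single B (3 : ℤ) - C + div k v) ≤ Finsupp.single B (3 : ℤ) := by
      rw [sub_le_self_iff]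
      exact hv
    have hfin := L_finite hK (Finsupp.single B (3 : ℤ) : Divisor k K)
    have heq : L ((Finsupp.single B (3 : ℤ) : Divisor k K) -
        (Finsupp.single B (3 : ℤ) - C + div k v)) = L (Finsupp.single B (3 : ℤ) : Divisor k K) := by
      apply Submodule.eq_of_le_of_finrank_le (L_mono hle)
      unfold ell at hell5 hell3B
      omega
    have h1mem : (1 : K) ∈ L (Finsupp.single B (3 : ℤ) : Divisor k K) := by
      apply L_mono (Finsupp.single_nonneg.mpr (by norm_num) :
        (0 : Divisor k K) ≤ Finsupp.single B (3 : ℤ))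
      rw [L_zero hK]
      exact Submodule.mem_one.mpr ⟨1, map_one _⟩
    rw [← heq, mem_L] at h1mem
    -- hence E ≤ 3B pointwise
    have hEle : ∀ P : Place k K, (Finsupp.single B (3 : ℤ) - C + div k v) P ≤
        (Finsupp.single B (3 : ℤ) : Divisor k K) P := by
      intro P
      have hP := h1mem P
      rw [map_one, ← WithZero.exp_zero, WithZero.exp_le_exp, Finsupp.sub_apply] at hP
      omega
    by_cases hEB : 1 ≤ (Finsupp.single B (3 : ℤ) - C + div k v) B
    · -- then 3B - E ≤ 2B
      have hle2 : (Finsupp.single B (3 : ℤ) : Divisor k K) -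
          (Finsupp.single B (3 : ℤ) - C + div k v) ≤ Finsupp.single B (2 : ℤ) := by
        intro P
        rw [Finsupp.sub_apply]
        by_cases hPB : P = B
        · subst hPB
          rw [Finsupp.single_eq_same, Finsupp.single_eq_same]
          omega
        · rw [Finsupp.single_eq_of_ne hPB, Finsupp.single_eq_of_ne hPB]
          have := hv P
          rw [Finsupp.zero_apply] at this
          omega
      have := ell_mono hK hle2
      have hB' : ell (Finsupp.single B (2 : ℤ) : Divisor k K) = 1 := hB
      omega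
    · -- then E = 0
      have hE0 : (Finsupp.single B (3 : ℤ) - C + div k v) = 0 := by
        ext P
        rw [Finsupp.zero_apply]
        have h0 := hv P
        rw [Finsupp.zero_apply] at h0
        by_cases hPB : P = B
        · subst hPB
          omega
        · have := hEle P
          rw [Finsupp.single_eq_of_ne hPB] at this
          omega
      rw [hE0, Divisor.deg_zero] at hdegE
      exact absurd hdegE (by norm_num)

end Groth.Agent.S17251
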