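import Groth.Statements.S17267
import Groth.Agent.H86.BasedIso

set_option autoImplicit false
open CategoryTheory
universe v u
open Stk Groth.Agent.H86

namespace Groth.Agent.S17267

/-- Let C be a category with a Grothendieck topology J and let F : 𝒳 → 𝒴 and G : 𝒵 → 𝒴 be functors over
C between categories fibred in groupoids over C. Say that a functor H : 𝒜 → ℬ over C is covering
when for every object U of C and every functor b : C/U → ℬ over C there is a J-covering sieve of U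
such that for each of its arrows h : V → U the composite of C/V → C/U with b is 2-isomorphic over C
to H ∘ a for some functor a : C/V → 𝒜 over C. If F is covering, then the first projection 𝒵 ×_𝒴 𝒳 →
𝒵 of the 2-fibre product over C (the base change of F along G) is covering. -/
theorem result {C : Type u} [Category.{v} C] (J : GrothendieckTopology C)
    {𝒳 𝒴 𝒵 : BasedCategory.{v, max u v} C}
    (h𝒳 : FibCat.IsFibGrpd 𝒳.p) (h𝒴 : FibCat.IsFibGrpd 𝒴.p) (h𝒵 : FibCat.IsFibGrpd 𝒵.p)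
    (F : 𝒳 ⥤ᵇ 𝒴) (G : 𝒵 ⥤ᵇ 𝒴)
    (hF : (∀ (U : C) (y : FibCat.overCat U ⥤ᵇ 𝒴), ∃ R ∈ J U, ∀ ⦃V : C⦄ (h : V ⟶ U), R.arrows h →
        ∃ x : FibCat.overCat V ⥤ᵇ 𝒳,
          Nonempty (BasedFunctor.comp x F ≅ BasedFunctor.comp (⟨Over.map h, Over.mapForget_eq h⟩ : FibCat.overCat V ⥤ᵇ FibCat.overCat U) y))) :
    (∀ (U : C) (y : FibCat.overCat U ⥤ᵇ 𝒵), ∃ R ∈ J U, ∀ ⦃V : C⦄ (h : V ⟶ U), R.arrows h →
        ∃ x : FibCat.overCat V ⥤ᵇ (FibCat.fp G F),
          Nonempty (BasedFunctor.comp x (FibCat.fpFst G F) ≅ BasedFunctor.comp (⟨Over.map h, Over.mapForget_eq h⟩ : FibCat.overCat V ⥤ᵇ FibCat.overCat U) y)) := by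
  intro U z
  obtain ⟨R, hR, hRz⟩ := hF U (BasedFunctor.comp z G)
  refine ⟨R, hR, ?_⟩
  intro V h hh
  obtain ⟨x, ⟨e⟩⟩ := hRz h hh
  let a : FibCat.overCat V ⥤ᵇ 𝒵 := BasedFunctor.comp (overMapB h) z
  let e' : BasedFunctor.comp a G ≅ BasedFunctor.comp x F := e.symm
  refine ⟨FibCat.fpLift a x e', ⟨?_⟩⟩
  exact BasedNatIso.mkNatIso (NatIso.ofComponents (fun _ => Iso.refl _) (by
    intro X Y f
    change a.map f ≫ 𝟙 (a.obj Y) = 𝟙 (a.obj X) ≫ a.map f
    rw [Category.comp_id, Category.id_comp])) (fun X => by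
      simp only [NatIso.ofComponents_hom_app, Iso.refl_hom]
      exact IsHomLift.id (a.w_obj X))

end Groth.Agent.S17267
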