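import Groth.Statements.S1728
import Groth.Agent.H9.Essential

set_option autoImplicit false
universe u
open InjHull

namespace Groth.Agent.S1728

/-- Let I be an injective R-module and E a submodule of I. Then E is an injective module if and only if
every submodule E' of I containing E, such that every nonzero submodule of E' meets E nontrivially,
is equal to E. -/
theorem result (R : Type u) [CommRing R] (I : Type u) [AddCommGroup I] [Module R I] [Module.Injective R I] (E : Submodule R I) : Module.Injective R E ↔ ∀ E' : Submodule R I, E ≤ E' → (∀ N : Submodule R I, N ≤ E' → N ≠ ⊥ → N ⊓ E ≠ ⊥) → E' = E := by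
  constructor
  · intro hE E' hle hess
    obtain ⟨h, hh⟩ := Module.Injective.out (Submodule.inclusion hle)
      (Submodule.inclusion_injective hle) (LinearMap.id : E →ₗ[R] E)
    have hker : LinearMap.ker h = ⊥ := by
      by_contra hne
      have hN : (LinearMap.ker h).map E'.subtype ≠ ⊥ := by
        intro h0
        apply hne
        apply Submodule.map_injective_of_injective E'.subtype_injective
        rw [h0, Submodule.map_bot]
      have := hess _ (Submodule.map_subtype_le E' _) hN
      rw [Submodule.ne_bot_iff] at this
      obtain ⟨z, ⟨⟨c, hc, rfl⟩, hzE⟩, hz0⟩ := this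
      apply hz0
      have hc' : c = Submodule.inclusion hle ⟨_, hzE⟩ := Subtype.ext rfl
      have : h c = 0 := hc
      rw [hc', hh] at this
      simpa using congrArg Subtype.val this
    have hinj : Function.Injective h := LinearMap.ker_eq_bot.1 hker
    apply le_antisymm _ hle
    intro y hy
    have h1 : h (Submodule.inclusion hle (h ⟨y, hy⟩)) = h ⟨y, hy⟩ := by rw [hh]; rfl
    have h2 := hinj h1
    have : ((Submodule.inclusion hle (h ⟨y, hy⟩) : E') : I) = y := by rw [h2]
    rw [← this]
    exact (h ⟨y, hy⟩).2
  · intro H
    obtain ⟨C, hC⟩ := Groth.Agent.H9.exists_isCompl_of_no_essential E H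
    exact Groth.Agent.H9.injective_of_isCompl E C hC

end Groth.Agent.S1728
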