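import Groth.Statements.S17289
import Groth.Agent.H41.VACoprod
import Groth.Agent.H41.SymEpi
import Groth.Agent.S8263
import Groth.Agent.H67.AmplePullback
import Groth.Agent.H67.FreeNearFinite
import Groth.Agent.H18.STL.Inverse

set_option autoImplicit false
universe u
open CategoryTheory CategoryTheory.Limits AlgebraicGeometry TopologicalSpace
open Variety

namespace Groth.Agent.S17289

/-- Suppose X is a proper scheme over a field k, and E, F are finite locally free O_X-modules with E → F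
surjective. Assume E is ample, meaning that the fundamental module O(1) of the projective bundle
P(E) = Proj(Sym E) → X is ample (for any relative-Proj data of the graded symmetric algebra of E
with its O(1)); then F is ample in the same sense. (The source states this for proper algebraic
spaces over k, together with the analogous assertion for nef modules; this is the ample assertion in
the case of schemes.) -/
theorem result (k : Type u) [Field k] (X : Scheme.{u})
    [X.Over (Spec (CommRingCat.of k))] [IsProper (X ↘ (Spec (CommRingCat.of k)))] (E F : X.Modules)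
    (hE : FlatMod.IsFinLocFree E) (hF : FlatMod.IsFinLocFree F) (φ : E ⟶ F) [Epi φ]
    (hample : ∀ (𝒮 : RelProj.QCGrAlg X) (j : E ⟶ 𝒮.toModule) (P : Scheme.{u}) (p : P ⟶ X)
        (chart : ∀ (U : X.Opens) (hU : IsAffineOpen U),
          (((p ⁻¹ᵁ U : P.Opens) : Scheme.{u}) ≅ Proj (𝒮.deg U hU)))
        (O1 : P.Modules)
        (lam : ∀ (U : X.Opens) (hU : IsAffineOpen U),
          O1 ⟶ (Scheme.Modules.pushforward (RelProj.emb p chart U hU)).obj (GrTwist.twist (𝒮.deg U hU) 1)),
        RelProj.IsGrSymAlg E 𝒮 j → RelProj.IsRelProj 𝒮 p chart → RelProj.IsRelTwist 𝒮 p chart 1 O1 lam →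
        CohB1.IsAmple O1) :
    ∀ (𝒮 : RelProj.QCGrAlg X) (j : F ⟶ 𝒮.toModule) (P : Scheme.{u}) (p : P ⟶ X)
      (chart : ∀ (U : X.Opens) (hU : IsAffineOpen U),
        (((p ⁻¹ᵁ U : P.Opens) : Scheme.{u}) ≅ Proj (𝒮.deg U hU)))
      (O1 : P.Modules)
      (lam : ∀ (U : X.Opens) (hU : IsAffineOpen U),
        O1 ⟶ (Scheme.Modules.pushforward (RelProj.emb p chart U hU)).obj (GrTwist.twist (𝒮.deg U hU) 1)),
      RelProj.IsGrSymAlg F 𝒮 j → RelProj.IsRelProj 𝒮 p chart → RelProj.IsRelTwist 𝒮 p chart 1 O1 lam →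
      CohB1.IsAmple O1 := by
  intro 𝒮 j P p chart O1 lam hj hP hO1
  haveI : E.IsQuasicoherent := Groth.Agent.H67.FreeNearFinite.isQuasicoherent_of_isFinLocFree E hE
  haveI : F.IsQuasicoherent := Groth.Agent.H67.FreeNearFinite.isQuasicoherent_of_isFinLocFree F hF
  obtain ⟨PT, pT, chartT, hPT⟩ := Groth.Agent.S8258.result (Groth.Agent.H41.GrSymSheaf.grSymAlg E)
  have hT := hample (Groth.Agent.H41.GrSymSheaf.grSymAlg E) (Groth.Agent.H41.SymSheaf.j E) PT pT chartT
    (Groth.Agent.H41.RelTwistExists.L _ pT chartT hPT 1)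
    (Groth.Agent.H41.RelTwistExists.lam _ pT chartT hPT 1)
    (Groth.Agent.H41.GrSymSheaf.isGrSymAlg E) hPT
    (Groth.Agent.H41.RelTwistExists.isRelTwist _ pT chartT hPT 1)
  have hφ1 : ∀ (U : X.Opens) (hU : IsAffineOpen U) (x : Γ(E, U)),
      ((φ ≫ j : E ⟶ 𝒮.toModule).app U) x ∈ 𝒮.deg U hU 1 := fun U hU x => hj.2 U hU _
  have hψ := Groth.Agent.H41.GrSymLift.isGradedHom_glift E 𝒮 (φ ≫ j) hφ1
  have hjψ := Groth.Agent.H41.GrSymLift.j_glift E 𝒮 (φ ≫ j)
  have hs := Groth.Agent.H41.SymEpi.surjective_of_epi E F φ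
    (Groth.Agent.H41.GrSymSheaf.grSymAlg E).toQCAlg 𝒮.toQCAlg (Groth.Agent.H41.SymSheaf.j E) j hj.1
    (Groth.Agent.H41.GrSymLift.glift E 𝒮 (φ ≫ j)) hjψ
  have hirr := Groth.Agent.H41.VACoprod.irr_of_surjective
    (Groth.Agent.H41.GrSymLift.glift E 𝒮 (φ ≫ j)) hψ hs
  obtain ⟨⟨h, hh, -⟩, -⟩ := Groth.Agent.S8262.result (Groth.Agent.H41.GrSymLift.glift E 𝒮 (φ ≫ j))
    hψ hirr pT p chartT chart hPT hP
  have hcl : IsClosedImmersion h := Groth.Agent.S8263.result
    (Groth.Agent.H41.GrSymLift.glift E 𝒮 (φ ≫ j)) hψ hs hirr pT p chartT chart hPT hP h hh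
  obtain ⟨τ⟩ := Groth.Agent.H41.RelTwistPullSurj.nonempty_pullback_iso _ hψ
    (Groth.Agent.H41.GrSymSheaf.isGenDegOne E) hirr pT p chartT chart hPT hP h hh 1 _ _
    (Groth.Agent.H41.RelTwistExists.isRelTwist _ pT chartT hPT 1) O1 lam hO1
  haveI : CompactSpace PT := hT.2.1
  haveI : CompactSpace P := hcl.base_closed.compactSpace
  exact Groth.Agent.H18.STL.isAmple_of_iso τ
    (Groth.Agent.H67.AmplePullback.isAmple_pullback_of_isEmbedding h hcl.base_closed.isEmbedding _ hT)

end Groth.Agent.S17289
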