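import Groth.Statements.S1729
import Mathlib.RingTheory.LocalRing.Module

set_option autoImplicit false
universe u
open Dual2

namespace Groth.Agent.S1729

open TensorProduct IsLocalRing in
/-- Over a local ring, every finite module M admits a projective cover: a surjection from a projective
module P onto M such that no proper submodule of P maps onto M. -/
theorem result (R : Type u) [CommRing R] [IsLocalRing R] (M : Type u) [AddCommGroup M] [Module R M] [Module.Finite R M] : ∃ (P : Type u) (_ : AddCommGroup P) (_ : Module R P) (f : P →ₗ[R] M), Dual2.IsProjectiveCover f := by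
  classical
  let k := ResidueField R
  let n := Module.finrank k (k ⊗[R] M)
  let b : Module.Basis (Fin n) k (k ⊗[R] M) := Module.finBasis k (k ⊗[R] M)
  have hsurj : Function.Surjective (TensorProduct.mk R k M 1) :=
    TensorProduct.mk_surjective R M k Ideal.Quotient.mk_surjective
  choose x hx using fun i => hsurj (b i)
  let f : (Fin n → R) →ₗ[R] M := Fintype.linearCombination R x
  have hfs : Function.Surjective f := by
    rw [← LinearMap.range_eq_top, Fintype.range_linearCombination]
    exact span_eq_top_of_tmul_eq_basis x b hx
  refine ⟨Fin n → R, inferInstance, inferInstance, f, ⟨inferInstance, hfs, ?_⟩⟩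
  intro N hN
  rw [← map_tensorProduct_mk_eq_top]
  let F : k ⊗[R] (Fin n → R) →ₗ[k] k ⊗[R] M := LinearMap.baseChange k f
  have hFs : Function.Surjective F := by
    have : Function.Surjective (LinearMap.lTensor k f) := LinearMap.lTensor_surjective k hfs
    intro y
    obtain ⟨z, hz⟩ := this y
    exact ⟨z, by rw [← hz]; simp [F, LinearMap.baseChange_eq_ltensor]⟩
  have hrank : Module.finrank k (k ⊗[R] (Fin n → R)) = Module.finrank k (k ⊗[R] M) := by
    rw [Module.finrank_baseChange, Module.finrank_fin_fun]
  have hFi : Function.Injective F :=
    (LinearMap.injective_iff_surjective_of_finrank_eq_finrank hrank).2 hFs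
  have hcomm : ∀ p : Fin n → R, F (TensorProduct.mk R k (Fin n → R) 1 p) = TensorProduct.mk R k M 1 (f p) := by
    intro p
    simp [F]
  -- the image of N under mk maps onto everything under F
  have h2 : (N.map (TensorProduct.mk R k (Fin n → R) 1)).map (F.restrictScalars R) = ⊤ := by
    rw [← Submodule.map_comp]
    have : (F.restrictScalars R).comp (TensorProduct.mk R k (Fin n → R) 1) =
        (TensorProduct.mk R k M 1).comp f := by
      ext p
      simp [F]
    rw [this, Submodule.map_comp, hN, Submodule.map_top, LinearMap.range_eq_top]
    exact hsurj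
  rw [eq_top_iff]
  intro y _
  have : (F.restrictScalars R) y ∈ (⊤ : Submodule R (k ⊗[R] M)) := trivial
  rw [← h2] at this
  obtain ⟨z, hz, hzy⟩ := this
  have : z = y := hFi hzy
  exact this ▸ hz

end Groth.Agent.S1729
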