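import Groth.Statements.S17321
import Groth.Agent.H86.FinAlg3

set_option autoImplicit false
universe u v
open CAlg Groth.Agent.H86

namespace Groth.Agent.S17321

/-- Let k be an algebraically closed field and A a commutative k-algebra which is finite-dimensional as
a k-vector space (the coordinate ring of a finite k-scheme). Then the space Der(A) of k-derivations
A → A is zero if and only if A is reduced. -/
theorem result (k : Type u) [Field k] [IsAlgClosed k]
    (A : Type v) [CommRing A] [Algebra k A] [Module.Finite k A] :
    Subsingleton (Derivation k A A) ↔ IsReduced A := by
  constructor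
  · intro hsub
    by_contra hA
    obtain ⟨D, hD⟩ := exists_derivation_ne_zero (k := k) hA
    exact hD (Subsingleton.elim D 0)
  · intro hred
    classical
    have := finite_algHom k A
    cases nonempty_fintype (A →ₐ[k] k)
    obtain ⟨e, he, hdual⟩ := exists_coi k A
    have hzero : ∀ D : Derivation k A A, D = 0 := by
      intro D
      ext a
      have h1 := sub_secAlg_evPi_mem_nilradical e he hdual a
      rw [nilradical_eq_zero, Ideal.zero_eq_bot, Ideal.mem_bot, sub_eq_zero] at h1
      rw [h1, secAlg_apply, map_sum]
      simp only [Derivation.coe_zero, Pi.zero_apply]
      apply Finset.sum_eq_zero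
      intro f _
      rw [Derivation.map_smul, derivation_idempotent_eq_zero D (e f) (he.idem f), smul_zero]
    exact ⟨fun D D' => (hzero D).trans (hzero D').symm⟩

end Groth.Agent.S17321
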