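import Groth.Statements.S17323
import Groth.Agent.H86.FinAlg2

set_option autoImplicit false
universe u v
open CAlg Groth.Agent.H86

namespace Groth.Agent.S17323

/-- Let k be an algebraically closed field and A a commutative k-algebra which is finite-dimensional as
a k-vector space. Then A has a largest reduced subalgebra: a k-subalgebra B which is reduced and
contains every reduced k-subalgebra of A; moreover the composite of the inclusion B → A with the
projection A → A/nilradical(A) is bijective. -/
theorem result (k : Type u) [Field k] [IsAlgClosed k]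
    (A : Type v) [CommRing A] [Algebra k A] [Module.Finite k A] :
    ∃ B : Subalgebra k A, IsReduced ↥B ∧ (∀ C : Subalgebra k A, IsReduced ↥C → C ≤ B) ∧
      Function.Bijective ((Ideal.Quotient.mkₐ k (nilradical A)).comp B.val) := by
  classical
  have := finite_algHom k A
  cases nonempty_fintype (A →ₐ[k] k)
  obtain ⟨e, he, hdual⟩ := exists_coi k A
  have hmk : ∀ a : A, Ideal.Quotient.mk (nilradical A) (secAlg e he (evPi k A a)) =
      Ideal.Quotient.mk (nilradical A) a := by
    intro a
    rw [Ideal.Quotient.eq]
    have := sub_secAlg_evPi_mem_nilradical e he hdual a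
    rw [← neg_sub]
    exact (nilradical A).neg_mem this
  have hinj : ∀ b ∈ (secAlg e he).range, evPi k A b = 0 → b = 0 := by
    rintro _ ⟨c, rfl⟩ hc
    change evPi k A (secAlg e he c) = 0 at hc
    change secAlg e he c = 0
    rw [evPi_secAlg e he hdual] at hc
    rw [hc, map_zero]
  refine ⟨(secAlg e he).range, ?_, ?_, ?_⟩
  · apply isReduced_of_injective ((evPi k A).comp (secAlg e he).range.val)
    rw [injective_iff_map_eq_zero]
    rintro ⟨b, hb⟩ h0
    have := hinj b hb h0
    exact Subtype.ext this
  · intro C hC
    have hfin : Module.Finite k C := Module.Finite.of_injective C.val.toLinearMap Subtype.val_injective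
    have := finite_algHom k C
    cases nonempty_fintype (C →ₐ[k] k)
    obtain ⟨eC, heC, hdualC⟩ := exists_coi k C
    intro c hc
    have h1 := sub_secAlg_evPi_mem_nilradical eC heC hdualC (⟨c, hc⟩ : C)
    rw [nilradical_eq_zero, Ideal.zero_eq_bot, Ideal.mem_bot, sub_eq_zero] at h1
    have h2 : c = ∑ g, (evPi k C ⟨c, hc⟩ g) • ((eC g : C) : A) := by
      have := congrArg (fun x : C => (x : A)) h1
      simp only [secAlg_apply] at this
      refine this.trans ?_
      simp
    rw [h2]
    apply Subalgebra.sum_mem
    intro g _
    apply Subalgebra.smul_mem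
    have hid : IsIdempotentElem ((eC g : C) : A) := (heC.idem g).map C.val
    rw [idempotent_eq_secAlg e he hdual _ hid]
    exact ⟨_, rfl⟩
  · constructor
    · rw [injective_iff_map_eq_zero]
      rintro ⟨b, hb⟩ h0
      simp only [AlgHom.coe_comp, Subalgebra.coe_val, Function.comp_apply,
        Ideal.Quotient.mkₐ_eq_mk, Ideal.Quotient.eq_zero_iff_mem] at h0
      rw [← ker_pi_algHom k A] at h0
      exact Subtype.ext (hinj b hb h0)
    · intro x
      obtain ⟨a, rfl⟩ := Ideal.Quotient.mk_surjective x
      exact ⟨⟨secAlg e he (evPi k A a), ⟨_, rfl⟩⟩, hmk a⟩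

end Groth.Agent.S17323
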