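import Groth.Statements.S17324
import Groth.Agent.H86.FinAlg
import Mathlib.RingTheory.Jacobson.Ideal

set_option autoImplicit false
universe u v
open CAlg Groth.Agent.H86

namespace Groth.Agent.S17324

/-- (i) ⟺ (ii): let k be an algebraically closed field, A a commutative k-algebra which is
finite-dimensional as a k-vector space and is a local ring with maximal ideal m, and a_1, …, a_m ∈
m. Then A is generated as a k-algebra by a_1, …, a_m if and only if m is generated as an ideal by
a_1, …, a_m. (The printed lemma has a third equivalent condition, that the images of the a_i span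
m/m²; its equivalence with (ii) is Nakayama's lemma.) -/
theorem result (k : Type u) [Field k] [IsAlgClosed k]
    (A : Type v) [CommRing A] [Algebra k A] [Module.Finite k A] [IsLocalRing A]
    (m : ℕ) (a : Fin m → A) (ha : ∀ i, a i ∈ IsLocalRing.maximalIdeal A) :
    Algebra.adjoin k (Set.range a) = ⊤ ↔ Ideal.span (Set.range a) = IsLocalRing.maximalIdeal A := by
  set M := IsLocalRing.maximalIdeal A with hM
  set I := Ideal.span (Set.range a) with hI
  have hIM : I ≤ M := by
    rw [hI, Ideal.span_le]
    rintro _ ⟨i, rfl⟩
    exact ha i
  -- residue field is k
  have hres : ∀ x : A, ∃ c : k, x - algebraMap k A c ∈ M := by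
    obtain ⟨f, hf⟩ := exists_algHom_ker_eq k A M
    intro x
    refine ⟨f x, ?_⟩
    rw [← hf, RingHom.mem_ker, map_sub, AlgHom.commutes, Algebra.algebraMap_self, RingHom.id_apply,
      sub_self]
  constructor
  · intro hadj
    apply le_antisymm hIM
    have hall : ∀ x : A, ∃ c : k, x - algebraMap k A c ∈ I := by
      intro x
      have hx : x ∈ Algebra.adjoin k (Set.range a) := by rw [hadj]; trivial
      induction hx using Algebra.adjoin_induction with
      | mem x hx =>
        refine ⟨0, ?_⟩
        rw [map_zero, sub_zero]
        exact Ideal.subset_span hx
      | algebraMap r =>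
        exact ⟨r, by rw [sub_self]; exact I.zero_mem⟩
      | add x y _ _ hx hy =>
        obtain ⟨c, hc⟩ := hx
        obtain ⟨d, hd⟩ := hy
        refine ⟨c + d, ?_⟩
        have : x + y - algebraMap k A (c + d) = (x - algebraMap k A c) + (y - algebraMap k A d) := by
          rw [map_add]; ring
        rw [this]
        exact I.add_mem hc hd
      | mul x y _ _ hx hy =>
        obtain ⟨c, hc⟩ := hx
        obtain ⟨d, hd⟩ := hy
        refine ⟨c * d, ?_⟩
        have : x * y - algebraMap k A (c * d) =
            (x - algebraMap k A c) * y + algebraMap k A c * (y - algebraMap k A d) := by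
          rw [map_mul]; ring
        rw [this]
        exact I.add_mem (I.mul_mem_right _ hc) (I.mul_mem_left _ hd)
    intro x hx
    obtain ⟨c, hc⟩ := hall x
    have hcM : algebraMap k A c ∈ M := by
      have := M.sub_mem hx (hIM hc)
      simpa using this
    have hc0 : c = 0 := by
      by_contra hne
      have hu : IsUnit (algebraMap k A c) := (IsUnit.mk0 c hne).map (algebraMap k A)
      exact (IsLocalRing.mem_maximalIdeal _).mp hcM hu
    rw [hc0, map_zero, sub_zero] at hc
    exact hc
  · intro hIeq
    set B := Algebra.adjoin k (Set.range a) with hB
    have haB : ∀ i, a i ∈ B := fun i => Algebra.subset_adjoin ⟨i, rfl⟩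
    have hP : ∀ j : ℕ, (M ^ j).restrictScalars k ≤
        Subalgebra.toSubmodule B ⊔ (M ^ (j + 1)).restrictScalars k := by
      intro j
      induction j with
      | zero =>
        intro x _
        obtain ⟨c, hc⟩ := hres x
        rw [Submodule.mem_sup]
        refine ⟨algebraMap k A c, B.algebraMap_mem c, x - algebraMap k A c, ?_, by ring⟩
        rw [zero_add, pow_one]
        exact hc
      | succ j ih =>
        intro x hx
        have hx' : x ∈ M ^ j * M := by
          rw [← pow_succ]; exact hx
        have hQ : ∀ u ∈ I, ∀ y ∈ M ^ j,
            y * u ∈ Subalgebra.toSubmodule B ⊔ (M ^ (j + 1 + 1)).restrictScalars k := by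
          intro u hu
          induction hu using Submodule.span_induction with
          | mem u hu =>
            obtain ⟨i, rfl⟩ := hu
            intro y hy
            have := ih hy
            rw [Submodule.mem_sup] at this
            obtain ⟨b, hb, y', hy', rfl⟩ := this
            rw [Submodule.mem_sup]
            refine ⟨b * a i, B.mul_mem hb (haB i), y' * a i, ?_, by ring⟩
            change y' * a i ∈ M ^ (j + 1 + 1)
            rw [pow_succ (M) (j + 1)]
            exact Ideal.mul_mem_mul hy' (ha i)
          | zero =>
            intro y _
            rw [mul_zero]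
            exact Submodule.zero_mem _
          | add u v _ _ hu hv =>
            intro y hy
            rw [mul_add]
            exact Submodule.add_mem _ (hu y hy) (hv y hy)
          | smul α u _ hu =>
            intro y hy
            have : y * (α • u) = (y * α) * u := by rw [smul_eq_mul]; ring
            rw [this]
            exact hu _ (Ideal.mul_mem_right _ _ hy)
        refine Submodule.mul_induction_on hx' ?_ ?_
        · intro y hy u hu
          rw [← hIeq] at hu
          exact hQ u hu y hy
        · intro x y hx hy
          exact Submodule.add_mem _ hx hy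
    have htop : ∀ j : ℕ, (⊤ : Submodule k A) ≤ Subalgebra.toSubmodule B ⊔ (M ^ j).restrictScalars k := by
      intro j
      induction j with
      | zero =>
        intro x _
        apply Submodule.mem_sup_right
        change x ∈ M ^ 0
        rw [pow_zero, Ideal.one_eq_top]
        trivial
      | succ j ih =>
        refine ih.trans ?_
        apply sup_le le_sup_left
        exact hP j
    have hart : IsArtinianRing A := IsArtinianRing.of_finite k A
    obtain ⟨r, hr⟩ : IsNilpotent M := by
      have := IsArtinianRing.isNilpotent_jacobson_bot (R := A)
      rwa [IsLocalRing.jacobson_eq_maximalIdeal ⊥ bot_ne_top] at this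
    have hfin := htop r
    rw [hr] at hfin
    rw [eq_top_iff]
    intro x _
    have := hfin (Submodule.mem_top : x ∈ ⊤)
    rw [Submodule.mem_sup] at this
    obtain ⟨b, hb, y, hy, rfl⟩ := this
    have hy0 : y = 0 := by
      have : y ∈ (0 : Ideal A) := hy
      simpa using this
    rw [hy0, add_zero]
    exact hb

end Groth.Agent.S17324
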