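import Groth.Statements.S17325
import Groth.Agent.H86.PSemilin

set_option autoImplicit false
universe u v
open LieAlg Groth.Agent.H86

namespace Groth.Agent.S17325

/-- Let k be an algebraically closed field of characteristic p > 0, V a finite-dimensional k-vector
space and g a nonzero k-linear subspace of End_k(V) closed under the p-th power map u ↦ u^p. Then g
contains a nonzero u with u^p = c u for some c ∈ k, i.e. a line k u closed under p-th powers. (The
published lemma concerns an abstract nonzero finite-dimensional restricted Lie algebra; this row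
concerns subspaces of End_k(V) closed under p-th powers, a class that contains every restricted Lie
subalgebra of gl(V).) -/
theorem result (k : Type u) [Field k] [IsAlgClosed k]
    (p : ℕ) [Fact p.Prime] [CharP k p] (V : Type v) [AddCommGroup V] [Module k V] [FiniteDimensional k V]
    (g : Submodule k (Module.End k V)) (hg : ∀ u ∈ g, u ^ p ∈ g) (hne : g ≠ ⊥) :
    ∃ u ∈ g, u ≠ 0 ∧ ∃ c : k, u ^ p = c • u := by
  classical
  have hp : p.Prime := Fact.out
  obtain ⟨u₀, hu₀g, hu₀⟩ := (Submodule.ne_bot_iff g).mp hne
  have hnt : Nontrivial (Module.End k V) := nontrivial_of_ne u₀ 0 hu₀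
  have hchar : CharP (Module.End k V) p :=
    charP_of_injective_algebraMap (algebraMap k (Module.End k V)).injective p
  -- the iterated p-th powers
  set w : ℕ → Module.End k V := fun i => u₀ ^ p ^ i with hw
  have hw0 : w 0 = u₀ := by simp [hw]
  have hwsucc : ∀ i, w (i + 1) = (w i) ^ p := by
    intro i
    simp only [hw]
    rw [← pow_mul, pow_succ]
  have hwg : ∀ i, w i ∈ g := by
    intro i
    induction i with
    | zero => rw [hw0]; exact hu₀g
    | succ i ih => rw [hwsucc]; exact hg _ ih
  have hwc : ∀ i j, Commute (w i) (w j) := fun i j => (Commute.refl u₀).pow_pow _ _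
  by_cases hzero : ∃ i, w i = 0
  · -- nilpotent case
    have hfind := Nat.find_spec hzero
    set i₀ := Nat.find hzero with hi₀
    have hi₀pos : i₀ ≠ 0 := by
      intro h0
      rw [h0, hw0] at hfind
      exact hu₀ hfind
    obtain ⟨j, hj⟩ : ∃ j, i₀ = j + 1 := ⟨i₀ - 1, by omega⟩
    have hjne : w j ≠ 0 := fun h => Nat.find_min hzero (by omega : j < i₀) h
    refine ⟨w j, hwg j, hjne, 0, ?_⟩
    rw [← hwsucc, ← hj, hfind, zero_smul]
  · push Not at hzero
    -- the increasing chain of spans
    let S : ℕ → Submodule k (Module.End k V) := fun r =>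
      Submodule.span k (Set.range fun i : Fin r => w i)
    have hSmem : ∀ r i, i < r → w i ∈ S r := fun r i hi =>
      Submodule.subset_span ⟨⟨i, hi⟩, rfl⟩
    have hSmono : Monotone S := by
      intro r r' hrr'
      apply Submodule.span_le.mpr
      rintro _ ⟨i, rfl⟩
      exact hSmem r' i (lt_of_lt_of_le i.2 hrr')
    have hex : ∃ r, w r ∈ S r := by
      have hnoeth : IsNoetherian k (Module.End k V) := inferInstance
      obtain ⟨n, hn⟩ := monotone_stabilizes_iff_noetherian.mpr hnoeth ⟨S, hSmono⟩
      refine ⟨n, ?_⟩
      have h1 : S n = S (n + 1) := hn (n + 1) (by omega)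
      change w n ∈ S n
      rw [h1]
      exact hSmem (n + 1) n (by omega)
    set r := Nat.find hex with hr
    have hrspec : w r ∈ S r := Nat.find_spec hex
    have hrmin : ∀ i < r, w i ∉ S i := fun i hi => Nat.find_min hex hi
    have hrpos : 1 ≤ r := by
      by_contra hlt
      have hr0 : r = 0 := by omega
      rw [hr0] at hrspec
      have : S 0 = ⊥ := by
        simp [S]
      rw [this, Submodule.mem_bot] at hrspec
      exact hzero 0 hrspec
    -- coefficients
    obtain ⟨c, hc⟩ := (Submodule.mem_span_range_iff_exists_fun k).mp hrspec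
    let a : ℕ → k := fun i => if h : i < r then c ⟨i, h⟩ else 0
    have hsum : w r = ∑ i ∈ Finset.range r, a i • w i := by
      rw [← hc, Finset.sum_range]
      apply Finset.sum_congr rfl
      intro i _
      simp [a]
    have hane : ∃ j < r, a j ≠ 0 := by
      by_contra hall
      push Not at hall
      apply hzero r
      rw [hsum]
      apply Finset.sum_eq_zero
      intro i hi
      rw [hall i (Finset.mem_range.mp hi), zero_smul]
    obtain ⟨t, x, ht0, hx0, hxsucc, hxr⟩ := exists_twisted_solution p a r hrpos hane
    set v := ∑ i ∈ Finset.range r, x i • w i with hv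
    have hvg : v ∈ g := Submodule.sum_mem _ fun i _ => Submodule.smul_mem _ _ (hwg i)
    obtain ⟨r', hr'⟩ : ∃ r', r = r' + 1 := ⟨r - 1, by omega⟩
    have hxr' : x r' = t := by
      have : r - 1 = r' := by omega
      rw [← this]; exact hxr
    have hvne : v ≠ 0 := by
      intro hv0
      apply hrmin r' (by omega)
      rw [hv, hr', Finset.sum_range_succ, hxr'] at hv0
      have h1 : t • w r' = -∑ i ∈ Finset.range r', x i • w i := by
        rw [eq_neg_iff_add_eq_zero, add_comm]; exact hv0
      have h2 : w r' = t⁻¹ • (-∑ i ∈ Finset.range r', x i • w i) := by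
        rw [← h1, smul_smul, inv_mul_cancel₀ ht0, one_smul]
      rw [h2]
      apply Submodule.smul_mem
      apply Submodule.neg_mem
      apply Submodule.sum_mem
      intro i hi
      exact Submodule.smul_mem _ _ (hSmem r' i (Finset.mem_range.mp hi))
    refine ⟨v, hvg, hvne, 1, ?_⟩
    rw [one_smul]
    have hpow : v ^ p = ∑ i ∈ Finset.range r, (x i) ^ p • w (i + 1) := by
      rw [hv, sum_pow_char_of_commute p]
      · apply Finset.sum_congr rfl
        intro i _
        rw [smul_pow, hwsucc]
      · intro i j
        exact ((hwc i j).smul_left _).smul_right _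
    rw [hpow]
    -- reindex
    have hsum' : w (r' + 1) = ∑ i ∈ Finset.range r', a (i + 1) • w (i + 1) + a 0 • w 0 := by
      rw [← hr', hsum, hr', Finset.sum_range_succ']
    have hL : ∑ i ∈ Finset.range r, (x i) ^ p • w (i + 1) =
        ∑ i ∈ Finset.range r', (x i) ^ p • w (i + 1) +
          (∑ i ∈ Finset.range r', (t ^ p * a (i + 1)) • w (i + 1) + (t ^ p * a 0) • w 0) := by
      rw [hr', Finset.sum_range_succ, hxr', hsum', smul_add, Finset.smul_sum]
      simp only [smul_smul]
    have hR : v = ∑ i ∈ Finset.range r', (x i) ^ p • w (i + 1) +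
          (∑ i ∈ Finset.range r', (t ^ p * a (i + 1)) • w (i + 1) + (t ^ p * a 0) • w 0) := by
      rw [hv, hr', Finset.sum_range_succ', hx0, ← add_assoc, ← Finset.sum_add_distrib,
        mul_comm (a 0)]
      congr 1
      apply Finset.sum_congr rfl
      intro i _
      rw [hxsucc, add_smul, mul_comm (a (i + 1))]
    rw [hL, hR]

end Groth.Agent.S17325
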