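import Groth.Statements.S17326
import Groth.Agent.H86.FinAlg
import Mathlib.Algebra.CharP.Lemmas
import Mathlib.Algebra.CharP.Algebra

set_option autoImplicit false
universe u v
open CAlg Groth.Agent.H86

namespace Groth.Agent.S17326

/-- Let k be an algebraically closed field of characteristic p > 0, A a commutative k-algebra which is
finite-dimensional as a k-vector space (a finite k-scheme X), and n ≥ 1. The n-th iterated relative
Frobenius morphism X → X^(p^n) is an isomorphism if and only if X is reduced; on rings: the map a ↦
a^(p^n) of A to itself (which is the ring homomorphism underlying the relative Frobenius, the twist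
A^(p^n) having the same underlying ring as A) is bijective if and only if A is reduced. -/
theorem result (k : Type u) [Field k] [IsAlgClosed k]
    (p : ℕ) [Fact p.Prime] [CharP k p] (A : Type v) [CommRing A] [Algebra k A] [Module.Finite k A]
    (n : ℕ) (hn : 1 ≤ n) :
    Function.Bijective (fun a : A => a ^ p ^ n) ↔ IsReduced A := by
  have hp : p.Prime := Fact.out
  have hq : 1 < p ^ n := Nat.one_lt_pow (by omega) hp.one_lt
  constructor
  · intro h
    rw [isReduced_iff_pow_one_lt (p ^ n) hq]
    intro x hx
    apply h.1
    simp only
    rw [hx, zero_pow (by omega)]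
  · intro hred
    rcases subsingleton_or_nontrivial A with hs | hnt
    · exact ⟨fun a b _ => Subsingleton.elim a b, fun b => ⟨b, Subsingleton.elim _ _⟩⟩
    · have hchar : CharP A p := charP_of_injective_algebraMap (algebraMap k A).injective p
      constructor
      · intro a b hab
        simp only at hab
        have h1 : (a - b) ^ p ^ n = 0 := by
          rw [sub_pow_char_pow, hab, sub_self]
        have h2 : IsNilpotent (a - b) := ⟨p ^ n, h1⟩
        exact sub_eq_zero.mp h2.eq_zero
      · intro b
        have hroot : ∀ f : A →ₐ[k] k, ∃ c : k, c ^ p ^ n = f b := fun f =>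
          IsAlgClosed.exists_pow_nat_eq (f b) (by omega)
        choose c hc using hroot
        obtain ⟨a, ha⟩ := pi_algHom_surjective k A c
        refine ⟨a, ?_⟩
        simp only
        have h3 : a ^ p ^ n - b ∈ RingHom.ker (AlgHom.pi (R := k) (fun f : A →ₐ[k] k => f)) := by
          rw [RingHom.mem_ker, map_sub, map_pow, ha, sub_eq_zero]
          funext f
          exact hc f
        rw [ker_pi_algHom, nilradical_eq_zero, Ideal.zero_eq_bot, Ideal.mem_bot] at h3
        exact sub_eq_zero.mp h3

end Groth.Agent.S17326
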