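import Groth.Statements.S17327
import Groth.Agent.H86.HopfTrans
import Groth.Agent.H86.FinAlg
import Groth.Agent.S17326
import Mathlib.RingTheory.Ideal.IdempotentFG

set_option autoImplicit false
universe u v
open Hopf Groth.Agent.H86

namespace Groth.Agent.S17327

/-- Let k be an algebraically closed field of characteristic p > 0, A a commutative Hopf algebra over k
which is finite-dimensional as a k-vector space (a finite group scheme G = Spec A), I the
augmentation ideal (kernel of the counit) and n ≥ 1. The n-th Frobenius kernel G_n is the closed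
subgroup scheme cut out by the ideal generated by the p^n-th powers f^(p^n), f ∈ I; it is trivial,
i.e. that ideal equals I, if and only if G is reduced. -/
theorem result (k : Type u) [Field k] [IsAlgClosed k]
    (p : ℕ) [Fact p.Prime] [CharP k p] (A : Type v) [CommRing A] [HopfAlgebra k A] [Module.Finite k A]
    (n : ℕ) (hn : 1 ≤ n) :
    Ideal.span ((fun f : A => f ^ p ^ n) '' (RingHom.ker (Bialgebra.counitAlgHom k A) : Set A)) =
      RingHom.ker (Bialgebra.counitAlgHom k A) ↔ IsReduced A := by
  have hp : p.Prime := Fact.out
  have hq : 1 < p ^ n := Nat.one_lt_pow (by omega) hp.one_lt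
  set I := RingHom.ker (Bialgebra.counitAlgHom k A) with hI
  have hle : Ideal.span ((fun f : A => f ^ p ^ n) '' (I : Set A)) ≤ I := by
    rw [Ideal.span_le]
    rintro _ ⟨f, hf, rfl⟩
    exact Ideal.pow_mem_of_mem I hf _ (by omega)
  constructor
  · intro hspan
    -- I is idempotent
    have hII : I ≤ I * I := by
      have h1 : Ideal.span ((fun f : A => f ^ p ^ n) '' (I : Set A)) ≤ I * I := by
        rw [Ideal.span_le]
        rintro _ ⟨f, hf, rfl⟩
        have : f ^ p ^ n = f ^ (p ^ n - 1) * f := by
          rw [← pow_succ]
          congr 1
          omega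
        simp only
        rw [this]
        exact Ideal.mul_mem_mul (Ideal.pow_mem_of_mem I hf _ (by omega)) hf
      calc I = Ideal.span ((fun f : A => f ^ p ^ n) '' (I : Set A)) := hspan.symm
        _ ≤ I * I := h1
    classical
    have := finite_algHom k A
    cases nonempty_fintype (A →ₐ[k] k)
    have hnoeth : IsNoetherianRing A := IsNoetherianRing.of_finite k A
    -- idempotent generators of kernels of characters
    have hgen : ∀ x : A →ₐ[k] k, ∃ ε : A, IsIdempotentElem ε ∧ RingHom.ker x = Ideal.span {ε} := by
      intro x
      have hidem : IsIdempotentElem (RingHom.ker x) :=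
        le_antisymm Ideal.mul_le_right (ker_le_ker_mul_ker x hII)
      have hfg : (RingHom.ker x).FG := (isNoetherianRing_iff_ideal_fg A).mp hnoeth _
      exact (Ideal.isIdempotentElem_iff_of_fg _ hfg).mp hidem
    choose ε hε hεgen using hgen
    rw [← nilradical_eq_bot_iff, eq_bot_iff]
    intro a ha
    rw [Ideal.mem_bot]
    have hεa : ∀ x, ε x * a = a := by
      intro x
      have hax : a ∈ RingHom.ker x := by
        rw [RingHom.mem_ker]
        have : IsNilpotent a := ha
        exact (this.map x).eq_zero
      rw [hεgen x] at hax
      obtain ⟨c, hc⟩ := Ideal.mem_span_singleton'.mp hax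
      rw [← hc, mul_comm, mul_assoc, (hε x).eq]
    have hPa : (∏ x, ε x) * a = a := by
      have : ∀ s : Finset (A →ₐ[k] k), (∏ x ∈ s, ε x) * a = a := by
        intro s
        induction s using Finset.induction_on with
        | empty => simp
        | insert x s hx ih => rw [Finset.prod_insert hx, mul_assoc, ih, hεa]
      exact this _
    have hPnil : (∏ x, ε x) ∈ nilradical A := by
      rw [← forall_algHom_eq_zero_iff k A]
      intro f
      rw [map_prod]
      apply Finset.prod_eq_zero (Finset.mem_univ f)
      have : ε f ∈ RingHom.ker f := by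
        rw [hεgen f]
        exact Ideal.mem_span_singleton_self _
      exact this
    have hPidem : IsIdempotentElem (∏ x, ε x) := by
      unfold IsIdempotentElem
      rw [← Finset.prod_mul_distrib]
      exact Finset.prod_congr rfl fun x _ => (hε x).eq
    have hP0 : (∏ x, ε x) = 0 := by
      obtain ⟨j, hj⟩ := hPnil
      rcases Nat.eq_zero_or_pos j with rfl | hjpos
      · rw [pow_zero] at hj
        have : Subsingleton A := subsingleton_of_zero_eq_one hj.symm
        exact Subsingleton.elim _ _
      · have : (∏ x, ε x) ^ j = ∏ x, ε x := by
          obtain ⟨j', rfl⟩ : ∃ j', j = j' + 1 := ⟨j - 1, by omega⟩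
          exact hPidem.pow_succ_eq j'
        rw [← this, hj]
    rw [← hPa, hP0, zero_mul]
  · intro hred
    apply le_antisymm hle
    intro g hg
    obtain ⟨a, ha⟩ := ((Groth.Agent.S17326.result k p A n hn).mpr hred).2 g
    simp only at ha
    have haI : a ∈ I := by
      rw [hI, RingHom.mem_ker]
      have h1 : (Bialgebra.counitAlgHom k A) g = 0 := hg
      rw [← ha, map_pow] at h1
      exact pow_eq_zero_iff (by omega) |>.mp h1
    apply Ideal.subset_span
    exact ⟨a, haI, ha⟩

end Groth.Agent.S17327
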