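import Groth.Statements.S1733

set_option autoImplicit false
universe u
open LocCoh

namespace Groth.Agent.S1733

/-- Let f_1, …, f_r and g be elements of a ring (r ≥ 1). If the family f_1, …, f_{r-1}, f_r g is
independent (every linear relation has coefficients in the ideal the family generates), then f_1, …,
f_r is independent. -/
theorem result (A : Type u) [CommRing A] (r : ℕ) (f : Fin (r + 1) → A) (g : A) (h : Dual2.Independent (Function.update f (Fin.last r) (f (Fin.last r) * g))) : Dual2.Independent f := by
  classical
  set f' := Function.update f (Fin.last r) (f (Fin.last r) * g) with hf'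
  have hf'c : ∀ i : Fin r, f' i.castSucc = f i.castSucc := fun i => by
    simp [hf']
  have hf'l : f' (Fin.last r) = f (Fin.last r) * g := by simp [hf']
  have hJ : Ideal.span (Set.range f') ≤ Ideal.span (Set.range f) := by
    rw [Ideal.span_le]
    rintro _ ⟨i, rfl⟩
    refine Fin.lastCases ?_ (fun j => ?_) i
    · rw [hf'l]
      exact Ideal.mul_mem_right _ _ (Ideal.subset_span ⟨_, rfl⟩)
    · rw [hf'c]
      exact Ideal.subset_span ⟨_, rfl⟩
  intro a ha
  rw [Fin.sum_univ_castSucc] at ha
  -- step 1: a_last ∈ J'
  have h1 : a (Fin.last r) ∈ Ideal.span (Set.range f') := by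
    have := h (fun i => if i = Fin.last r then a i else a i * g) ?_ (Fin.last r)
    · simpa using this
    · rw [Fin.sum_univ_castSucc]
      simp only [hf'c, hf'l, (Fin.castSucc_lt_last _).ne, if_false, if_true]
      have : ∑ x : Fin r, a x.castSucc * g * f x.castSucc = g * ∑ x : Fin r, a x.castSucc * f x.castSucc := by
        rw [Finset.mul_sum]; exact Finset.sum_congr rfl fun _ _ => by ring
      rw [this]
      linear_combination g * ha
  obtain ⟨c, hc⟩ := (Ideal.mem_span_range_iff_exists_fun).1 h1
  rw [Fin.sum_univ_castSucc] at hc
  simp only [hf'c, hf'l] at hc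
  have h2 := h (fun i => if i = Fin.last r then c i * f (Fin.last r) else a i + c i * f (Fin.last r)) ?_
  · intro i
    refine Fin.lastCases ?_ (fun j => ?_) i
    · exact hJ h1
    · have := hJ (h2 j.castSucc)
      simp only [(Fin.castSucc_lt_last _).ne, if_false] at this
      have h3 : c j.castSucc * f (Fin.last r) ∈ Ideal.span (Set.range f) :=
        Ideal.mul_mem_left _ _ (Ideal.subset_span ⟨_, rfl⟩)
      simpa using sub_mem this h3
  · rw [Fin.sum_univ_castSucc]
    simp only [hf'c, hf'l, (Fin.castSucc_lt_last _).ne, if_false, if_true]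
    have : ∑ x : Fin r, (a x.castSucc + c x.castSucc * f (Fin.last r)) * f x.castSucc
        = ∑ x : Fin r, a x.castSucc * f x.castSucc + f (Fin.last r) * ∑ x : Fin r, c x.castSucc * f x.castSucc := by
      rw [Finset.mul_sum, ← Finset.sum_add_distrib]
      exact Finset.sum_congr rfl fun _ _ => by ring
    rw [this]
    linear_combination ha + f (Fin.last r) * hc

end Groth.Agent.S1733
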