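import Groth.Statements.S17332
import Mathlib.Algebra.BigOperators.Pi
import Mathlib.Algebra.Field.Basic
import Mathlib.Tactic

set_option autoImplicit false
universe u v w
open CAlg

namespace Groth.Agent.S17332

/-- Let k be a field, E and F finite sets, and O(E), O(F) the k-algebras of k-valued functions with
pointwise operations. Then every k-algebra homomorphism u : O(F) → O(E) is pull-back along a unique
map φ : E → F, i.e. u(g) = g ∘ φ for all g. (In the source k is algebraically closed; the printed
argument only uses that k is a field.) -/
theorem result (k : Type u) [Field k] (E : Type v) [Finite E]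
    (F : Type w) [Finite F] (u : (F → k) →ₐ[k] (E → k)) :
    ∃! φ : E → F, ∀ g : F → k, u g = g ∘ φ := by
  classical
  cases nonempty_fintype F
  have key : ∀ e : E, ∃ f : F, ∀ g : F → k, u g e = g f := by
    intro e
    let χ : (F → k) →ₐ[k] k := (Pi.evalAlgHom k (fun _ => k) e).comp u
    have hχ : ∀ g, u g e = χ g := fun g => rfl
    have hsum : ∑ f, χ (Pi.single f 1) = 1 := by
      rw [← map_sum, Finset.univ_sum_single]
      exact map_one χ
    have horth : ∀ f f', f ≠ f' → χ (Pi.single f 1) * χ (Pi.single f' 1) = 0 := by
      intro f f' hff'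
      rw [← map_mul]
      have : (Pi.single f (1 : k) * Pi.single f' (1 : k) : F → k) = 0 := by
        ext x
        by_cases hx : x = f
        · subst hx
          simp [Pi.single_eq_of_ne hff']
        · simp [Pi.single_eq_of_ne hx]
      rw [this, map_zero]
    obtain ⟨f, hf⟩ : ∃ f, χ (Pi.single f 1) ≠ 0 := by
      by_contra h
      push Not at h
      simp [h] at hsum
    have hother : ∀ f', f' ≠ f → χ (Pi.single f' 1) = 0 := by
      intro f' hf'
      have := horth f f' (Ne.symm hf')
      exact (mul_eq_zero.mp this).resolve_left hf
    have hone : χ (Pi.single f 1) = 1 := by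
      have h2 := hsum
      rw [Finset.sum_eq_single f (fun f' _ hf' => hother f' hf') (by simp)] at h2
      exact h2
    refine ⟨f, fun g => ?_⟩
    rw [hχ]
    have hg : g = ∑ f', g f' • Pi.single f' (1 : k) := by
      ext x
      simp [Finset.sum_apply, Pi.single_apply]
    conv_lhs => rw [hg]
    rw [map_sum, Finset.sum_eq_single f]
    · rw [map_smul, hone, smul_eq_mul, mul_one]
    · intro f' _ hf'
      rw [map_smul, hother f' hf', smul_zero]
    · simp
  choose φ hφ using key
  refine ⟨φ, fun g => funext fun e => hφ e g, ?_⟩
  intro ψ hψ
  funext e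
  have h1 := congrFun (hψ (Pi.single (φ e) 1)) e
  rw [hφ] at h1
  simp only [Pi.single_eq_same, Function.comp_apply] at h1
  by_contra hne
  rw [Pi.single_eq_of_ne hne] at h1
  exact one_ne_zero h1

end Groth.Agent.S17332
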