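import Groth.Statements.S17334
import Mathlib.RingTheory.Artinian.Ring
import Mathlib.Tactic

set_option autoImplicit false
universe u v
open CAlg

namespace Groth.Agent.S17334

/-- Let k be a field and A a nonzero commutative k-algebra which is finite-dimensional as a k-vector
space. Then A is indecomposable (no decomposition as a product of two nonzero rings, i.e. no
idempotent other than 0 and 1) if and only if A is a local ring. (In the source k is algebraically
closed and the lemma adds that the maximal ideal is then the nilradical, is nilpotent, and has
residue field k; the equivalence itself uses only that k is a field, and the zero algebra is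
excluded here explicitly.) -/
theorem result (k : Type u) [Field k]
    (A : Type v) [CommRing A] [Algebra k A] [Module.Finite k A] [Nontrivial A] :
    (∀ e : A, IsIdempotentElem e → e = 0 ∨ e = 1) ↔ IsLocalRing A := by
  constructor
  · intro h
    have : IsArtinianRing A := IsArtinianRing.of_finite k A
    have key : ∀ a : A, IsUnit a ∨ IsNilpotent a := by
      intro a
      obtain ⟨n, y, hy⟩ := IsArtinian.exists_pow_succ_smul_dvd a (1 : A)
      simp only [smul_eq_mul, mul_one] at hy
      -- hy : a ^ (n+1) * y = a ^ n
      have hk : ∀ m : ℕ, a ^ (n + m) * y ^ m = a ^ n := by
        intro m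
        induction m with
        | zero => simp
        | succ m ih =>
          calc a ^ (n + (m + 1)) * y ^ (m + 1) = (a ^ (n + 1) * y) * (a ^ m * y ^ m) := by ring
            _ = a ^ n * (a ^ m * y ^ m) := by rw [hy]
            _ = a ^ (n + m) * y ^ m := by ring
            _ = a ^ n := ih
      have hn := hk n
      have hidem : IsIdempotentElem (a ^ n * y ^ n) := by
        unfold IsIdempotentElem
        calc a ^ n * y ^ n * (a ^ n * y ^ n) = (a ^ (n + n) * y ^ n) * y ^ n := by ring
          _ = a ^ n * y ^ n := by rw [hn]
      rcases h _ hidem with h0 | h1
      · right
        refine ⟨n, ?_⟩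
        calc a ^ n = a ^ (n + n) * y ^ n := hn.symm
          _ = a ^ n * (a ^ n * y ^ n) := by ring
          _ = 0 := by rw [h0, mul_zero]
      · left
        rcases Nat.eq_zero_or_pos n with rfl | hpos
        · simp at hy
          exact IsUnit.of_mul_eq_one _ hy
        · have : IsUnit (a ^ n) := IsUnit.of_mul_eq_one _ h1
          exact (isUnit_pow_iff hpos.ne').mp this
    apply IsLocalRing.of_isUnit_or_isUnit_one_sub_self
    intro a
    rcases key a with ha | ha
    · exact Or.inl ha
    · exact Or.inr ha.isUnit_one_sub
  · intro hloc e he
    rcases IsLocalRing.isUnit_or_isUnit_one_sub_self e with h | h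
    · right
      have : e * (1 - e) = 0 := by rw [mul_sub, mul_one, he.eq, sub_self]
      have := (h.mul_right_eq_zero).mp this
      exact (sub_eq_zero.mp this).symm
    · left
      have : (1 - e) * e = 0 := by rw [sub_mul, one_mul, he.eq, sub_self]
      exact (h.mul_right_eq_zero).mp this

end Groth.Agent.S17334
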