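import Groth.Statements.S17336
import Groth.Agent.H86.FinAlg2

set_option autoImplicit false
universe u v
open CAlg Groth.Agent.H86

namespace Groth.Agent.S17336

/-- Let k be an algebraically closed field and A a commutative k-algebra which is finite-dimensional as
a k-vector space (a finite scheme X = Spec A with largest reduced subscheme X_red = Spec
(A/nilradical A) and immersion i : X_red → X). Then there is a unique morphism r : X → X_red with r
∘ i = id; on rings: the projection A → A/nilradical(A) admits exactly one section that is a
k-algebra homomorphism. -/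
theorem result (k : Type u) [Field k]
    [IsAlgClosed k] (A : Type v) [CommRing A] [Algebra k A] [Module.Finite k A] :
    ∃! s : (A ⧸ nilradical A) →ₐ[k] A,
      (Ideal.Quotient.mkₐ k (nilradical A)).comp s = AlgHom.id k (A ⧸ nilradical A) := by
  classical
  have := finite_algHom k A
  cases nonempty_fintype (A →ₐ[k] k)
  obtain ⟨e, he, hdual⟩ := exists_coi k A
  have hker : ∀ a : A, a ∈ nilradical A → evPi k A a = 0 := by
    intro a ha
    rw [← ker_pi_algHom k A] at ha
    exact ha
  let πb : (A ⧸ nilradical A) →ₐ[k] ((A →ₐ[k] k) → k) :=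
    Ideal.Quotient.liftₐ (nilradical A) (evPi k A) hker
  have hπb : ∀ a : A, πb (Ideal.Quotient.mk (nilradical A) a) = evPi k A a := fun a => rfl
  have hmk : ∀ a : A, Ideal.Quotient.mk (nilradical A) (secAlg e he (evPi k A a)) =
      Ideal.Quotient.mk (nilradical A) a := by
    intro a
    rw [Ideal.Quotient.eq]
    have := sub_secAlg_evPi_mem_nilradical e he hdual a
    rw [← neg_sub]
    exact (nilradical A).neg_mem this
  refine ⟨(secAlg e he).comp πb, ?_, ?_⟩
  · ext x
    obtain ⟨a, rfl⟩ := Ideal.Quotient.mk_surjective x
    simp only [AlgHom.coe_comp, Function.comp_apply, hπb, Ideal.Quotient.mkₐ_eq_mk, hmk,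
      AlgHom.coe_id, id_eq]
  · intro s' hs'
    have hs'' : ∀ x, Ideal.Quotient.mk (nilradical A) (s' x) = x := fun x =>
      DFunLike.congr_fun hs' x
    have hidem : ∀ f, s' (Ideal.Quotient.mk (nilradical A) (e f)) = e f := by
      intro f
      apply eq_of_isNilpotent_sub_of_isIdempotentElem
      · exact ((he.idem f).map (Ideal.Quotient.mk (nilradical A))).map s'
      · exact he.idem f
      · change _ ∈ nilradical A
        rw [← Ideal.Quotient.eq, hs'']
    ext x
    obtain ⟨a, rfl⟩ := Ideal.Quotient.mk_surjective x
    simp only [AlgHom.coe_comp, Function.comp_apply, hπb]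
    rw [← hmk a, secAlg_apply, map_sum, map_sum]
    apply Finset.sum_congr rfl
    intro f _
    have : Ideal.Quotient.mk (nilradical A) (evPi k A a f • e f) =
        evPi k A a f • Ideal.Quotient.mk (nilradical A) (e f) := by
      rw [← Ideal.Quotient.mkₐ_eq_mk k, map_smul]
    rw [this, map_smul, hidem]

end Groth.Agent.S17336
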