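import Groth.Statements.S17365
import Groth.Agent.H29.FibreDepthSch
import Groth.Agent.H6.HartogsMod
import Groth.Agent.H19.SchDense
import Groth.Agent.H71.QCoh.LocFreeRank
import Groth.Agent.H71.QCoh.StalkFree
import Groth.Agent.H67.FreeNearFinite

set_option autoImplicit false
universe u
open CategoryTheory CategoryTheory.Limits AlgebraicGeometry TopologicalSpace
open CInt

namespace Groth.Agent.S17365


/-- Let k be an algebraically closed field, X a smooth proper k-scheme admitting an ample invertible
sheaf, and S a locally Noetherian k-scheme. Let E be a finite locally free module on S ×_k X and Z a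
closed subset of S ×_k X whose intersection with every fibre {s} × X has codimension at least 2
there, i.e. at every point of Z the local ring of the fibre of the projection S ×_k X ⟶ S has Krull
dimension at least 2. Then, with j the inclusion of the complement of Z, the natural map E ⟶ j_*
(E|_{S × X ∖ Z}) is an isomorphism. -/
theorem result
    (k : Type u) [Field k] [IsAlgClosed k] (S X : Scheme.{u})
    (b : S ⟶ Spec (CommRingCat.of k)) (a : X ⟶ Spec (CommRingCat.of k))
    [IsLocallyNoetherian S] [Smooth a] [IsProper a]
    (hproj : ∃ H : X.Modules, CohB1.IsAmple H)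
    (E : (pullback b a).Modules) (hE : FlatMod.IsFinLocFree E)
    (Z : Closeds ↥(pullback b a))
    (hZ : ∀ x : ↥(pullback b a), x ∈ Z →
      (2 : WithBot ℕ∞) ≤ ringKrullDim ↑(CInt.fiberStalk (pullback.fst b a) x)) :
    IsIso ((Scheme.Modules.restrictAdjunction (Scheme.Opens.ι (Z.compl : (pullback b a).Opens))).unit.app E) := by
  have hsm : Smooth (pullback.fst b a) := MorphismProperty.pullback_fst _ _ inferInstance
  have hN : IsLocallyNoetherian (pullback b a) :=
    LocallyOfFiniteType.isLocallyNoetherian (pullback.fst b a)
  have hEq : E.IsQuasicoherent := Groth.Agent.H67.FreeNearFinite.isQuasicoherent_of_isFinLocFree E hE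
  have hEft : SheafOfModules.IsFiniteType (R := (pullback b a).ringCatSheaf) E :=
    Groth.Agent.H71.QCoh.isFiniteType_of_isFinLocFree E hE
  have hEcoh : Coh.IsCoh E := ⟨hEq, hEft⟩
  have hdepth : ∀ x : ↥(pullback b a), x ∉ (Z.compl : (pullback b a).Opens) →
      (2 : ℕ∞) ≤ LocCoh.depth ((pullback b a).presheaf.stalk x) (E.presheaf.stalk x) := by
    intro x hx
    have hxZ : x ∈ Z := by
      by_contra h
      exact hx h
    have h1 := Groth.Agent.H29.FibreDepth.le_depth_stalk_of_smooth (pullback.fst b a) x 2
      (by exact_mod_cast hZ x hxZ)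
    have hfree := Groth.Agent.H71.QCoh.free_stalks_of_isFinLocFree E hE x
    have hflat : Module.Flat ((pullback b a).presheaf.stalk x) (E.presheaf.stalk x) :=
      inferInstance
    exact_mod_cast Groth.Agent.H29.FibreDepth.le_depth_of_flat 2 h1
  rw [Scheme.Modules.Hom.isIso_iff_isIso_app]
  intro V
  rw [Scheme.Modules.restrictAdjunction_unit_app_app]
  have hbij := Groth.Agent.H6.HartogsMod.bijective_res_mod (pullback b a) E hEcoh
    (Z.compl : (pullback b a).Opens) hdepth V _
    (Groth.Agent.H19.ι_image_preimage_eq (Z.compl : (pullback b a).Opens) V)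
    ((Scheme.Opens.ι (Z.compl : (pullback b a).Opens)).image_preimage_le V)
  exact (ConcreteCategory.isIso_iff_bijective _).mpr hbij

end Groth.Agent.S17365
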