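import Groth.Statements.S17367
import Groth.Agent.H87.DeformIdeal

set_option autoImplicit false
universe u
open scoped TensorProduct
open Deform

namespace Groth.Agent.S17367

/-- The affine computation, for a square-zero extension of Noetherian rings. Let A' be a Noetherian
ring, J an ideal with J·J = 0 and A = A'/J; let B' be a flat A'-algebra, B = B'/JB', I an ideal of B
with B/I flat over A, and I', I'' two ideals of B' with A'-flat quotients whose images in B are both
I (two deformations over A' of the closed subscheme V(I) of Spec B inside Spec B'). Then there is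
exactly one B'-linear map φ from I to (B/I) ⊗_{A'} J (that is, Hom_B(I, (B/I) ⊗_A J)) such that for
every x in I, all lifts x' in I' and x'' in I'' of x, and every z in B' ⊗_{A'} J whose image under
multiplication is x'' - x', the image of z in (B/I) ⊗_{A'} J equals φ(x). (The published statement
is global (X' a separated scheme over A') and does not assume X' flat over A'; this row is the
affine case X' = Spec B' and assumes B' flat over A'.) -/
theorem result (A' : Type u) [CommRing A'] [IsNoetherianRing A']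
    (J : Ideal A') (hJ : J * J = ⊥) (B' : Type u) [CommRing B'] [Algebra A' B'] [Module.Flat A' B']
    (I : Ideal (B' ⧸ J.map (algebraMap A' B')))
    [Module.Flat (A' ⧸ J) ((B' ⧸ J.map (algebraMap A' B')) ⧸ I)]
    (I' I'' : Ideal B') [Module.Flat A' (B' ⧸ I')] [Module.Flat A' (B' ⧸ I'')]
    (hI' : I'.map (Ideal.Quotient.mk (J.map (algebraMap A' B'))) = I)
    (hI'' : I''.map (Ideal.Quotient.mk (J.map (algebraMap A' B'))) = I) :
    ∃! φ : ↥I →ₗ[B'] (((B' ⧸ J.map (algebraMap A' B')) ⧸ I) ⊗[A'] ↥J),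
      (∀ (x : (B' ⧸ J.map (algebraMap A' B'))) (hx : x ∈ I) (x' x'' : B'), x' ∈ I' → x'' ∈ I'' →
          Ideal.Quotient.mk (J.map (algebraMap A' B')) x' = x → Ideal.Quotient.mk (J.map (algebraMap A' B')) x'' = x →
          ∀ z : B' ⊗[A'] ↥J, TensorProduct.rid A' B' (LinearMap.lTensor B' (Submodule.subtype J) z) = x'' - x' →
            LinearMap.rTensor ↥J (IsScalarTower.toAlgHom A' B' ((B' ⧸ J.map (algebraMap A' B')) ⧸ I)).toLinearMap z = φ ⟨x, hx⟩) := by
  classical
  -- notation
  let K : Ideal B' := J.map (algebraMap A' B')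
  let mk : B' →+* B' ⧸ K := Ideal.Quotient.mk K
  let Q := (B' ⧸ K) ⧸ I
  let r : B' ⊗[A'] ↥J →ₗ[A'] Q ⊗[A'] ↥J :=
    LinearMap.rTensor ↥J (IsScalarTower.toAlgHom A' B' Q).toLinearMap
  have hm : ∀ z, TensorProduct.rid A' B' (LinearMap.lTensor B' (Submodule.subtype J) z) =
      Groth.Agent.H87.DeformIdeal.m J B' z := fun z => rfl
  -- `I'` and `I''` die in `Q`
  have hQ' : ∀ y ∈ I', algebraMap B' Q y = 0 := fun y hy => by
    have h1 : mk y ∈ I := hI' ▸ Ideal.mem_map_of_mem mk hy
    exact Ideal.Quotient.eq_zero_iff_mem.mpr h1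
  have hQ'' : ∀ y ∈ I'', algebraMap B' Q y = 0 := fun y hy => by
    have h1 : mk y ∈ I := hI'' ▸ Ideal.mem_map_of_mem mk hy
    exact Ideal.Quotient.eq_zero_iff_mem.mpr h1
  -- choices
  have ex' : ∀ x : I, ∃ x' ∈ I', mk x' = x := fun x => by
    have hx : (x : B' ⧸ K) ∈ I'.map mk := hI' ▸ x.2
    exact (Ideal.mem_map_iff_of_surjective mk Ideal.Quotient.mk_surjective).mp hx
  have ex'' : ∀ x : I, ∃ x'' ∈ I'', mk x'' = x := fun x => by
    have hx : (x : B' ⧸ K) ∈ I''.map mk := hI'' ▸ x.2
    exact (Ideal.mem_map_iff_of_surjective mk Ideal.Quotient.mk_surjective).mp hx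
  choose c' hc' hc'mk using ex'
  choose c'' hc'' hc''mk using ex''
  have exz : ∀ x : I, ∃ z, Groth.Agent.H87.DeformIdeal.m J B' z = c'' x - c' x := fun x => by
    apply Groth.Agent.H87.DeformIdeal.exists_m_eq_of_mem_map
    rw [← Ideal.Quotient.eq, hc'mk, hc''mk]
  choose cz hcz using exz
  -- the key property: any admissible triple computes `r (cz x)`
  have P : ∀ (x : I) (x' x'' : B'), x' ∈ I' → x'' ∈ I'' → mk x' = x → mk x'' = x →
      ∀ z, Groth.Agent.H87.DeformIdeal.m J B' z = x'' - x' → r z = r (cz x) := by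
    intro x x' x'' hx' hx'' hmk' hmk'' z hz
    have hd' : x' - c' x ∈ K := by rw [← Ideal.Quotient.eq, hmk', hc'mk]
    have hd'' : x'' - c'' x ∈ K := by rw [← Ideal.Quotient.eq, hmk'', hc''mk]
    obtain ⟨z', hz'⟩ := Groth.Agent.H87.DeformIdeal.exists_m_eq_of_mem_map J B' hd'
    obtain ⟨z'', hz''⟩ := Groth.Agent.H87.DeformIdeal.exists_m_eq_of_mem_map J B' hd''
    have h1 : r z' = 0 := Groth.Agent.H87.DeformIdeal.rTensor_eq_zero_of_m_mem J I' hQ' z'
      (hz' ▸ I'.sub_mem hx' (hc' x))
    have h2 : r z'' = 0 := Groth.Agent.H87.DeformIdeal.rTensor_eq_zero_of_m_mem J I'' hQ'' z''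
      (hz'' ▸ I''.sub_mem hx'' (hc'' x))
    have h3 : z - cz x = z'' - z' := by
      apply Groth.Agent.H87.DeformIdeal.m_injective J B'
      rw [map_sub, map_sub, hz, hcz, hz', hz'']
      ring
    have h4 : r z - r (cz x) = 0 := by rw [← map_sub, h3, map_sub, h1, h2, sub_zero]
    exact sub_eq_zero.mp h4
  -- the map
  let φ : ↥I →ₗ[B'] Q ⊗[A'] ↥J :=
    { toFun := fun x => r (cz x)
      map_add' := fun x y => by
        rw [← map_add]
        refine (P (x + y) (c' x + c' y) (c'' x + c'' y) (I'.add_mem (hc' x) (hc' y))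
          (I''.add_mem (hc'' x) (hc'' y)) ?_ ?_ (cz x + cz y) ?_).symm
        · rw [map_add, hc'mk, hc'mk]; rfl
        · rw [map_add, hc''mk, hc''mk]; rfl
        · rw [map_add, hcz, hcz]; ring
      map_smul' := fun b x => by
        simp only [RingHom.id_apply]
        rw [← Groth.Agent.H87.DeformIdeal.rTensor_smul]
        refine (P (b • x) (b * c' x) (b * c'' x) (I'.mul_mem_left b (hc' x))
          (I''.mul_mem_left b (hc'' x)) ?_ ?_ (b • cz x) ?_).symm
        · rw [map_mul, hc'mk]; rfl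
        · rw [map_mul, hc''mk]; rfl
        · rw [Groth.Agent.H87.DeformIdeal.m_smul, hcz]; ring }
  refine ⟨φ, ?_, ?_⟩
  · intro x hx x' x'' hx' hx'' hmk' hmk'' z hz
    exact P ⟨x, hx⟩ x' x'' hx' hx'' hmk' hmk'' z ((hm z).symm.trans hz)
  · intro ψ hψ
    ext x
    have := hψ x.1 x.2 (c' x) (c'' x) (hc' x) (hc'' x) (hc'mk x) (hc''mk x) (cz x)
      ((hm _).trans (hcz x))
    exact this.symm

end Groth.Agent.S17367
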