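import Groth.Statements.S1737
import Groth.Agent.H9.SuppT

set_option autoImplicit false
universe u
open LocCoh

namespace Groth.Agent.S1737

/-- Let A be a Noetherian ring, T ⊆ Spec A stable under specialization and M a finite A-module. There
are a finite A-module M' and a surjection M → M' which is bijective after localizing at every prime
outside T and such that M'_p has depth ≥ 1 over A_p for every p in T. (The source states this for
coherent modules on a Noetherian scheme, with uniqueness.) -/
theorem result (A : Type u) [CommRing A] [IsNoetherianRing A] (T : Set (PrimeSpectrum A)) (hT : StableUnderSpecialization T) (M : Type u) [AddCommGroup M] [Module A M] [Module.Finite A M] : ∃ (M' : Type u) (_ : AddCommGroup M') (_ : Module A M') (_ : Module.Finite A M') (f : M →ₗ[A] M'), Function.Surjective f ∧ (∀ p : PrimeSpectrum A, p ∉ T → Function.Bijective (LocalizedModule.map p.asIdeal.primeCompl f)) ∧ ∀ p : PrimeSpectrum A, p ∈ T → 1 ≤ LocCoh.depth (Localization.AtPrime p.asIdeal) (LocalizedModule p.asIdeal.primeCompl M') := by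
  refine ⟨M ⧸ Groth.Agent.H9.suppIn T M, inferInstance, inferInstance, inferInstance,
    (Groth.Agent.H9.suppIn T M).mkQ, Submodule.mkQ_surjective _, ?_, ?_⟩
  · intro p hp
    exact Groth.Agent.H9.localizedModule_map_mkQ_suppIn_bijective p hp
  · intro p hp
    apply Groth.Agent.H9.one_le_depth_of_maximalIdeal_notMem_associatedPrimes
    intro hass
    have := Module.associatedPrimes.comap_mem_associatedPrimes_of_mem_associatedPrimes_of_isLocalizedModule_of_fg
      p.asIdeal.primeCompl
      (LocalizedModule.mkLinearMap p.asIdeal.primeCompl (M ⧸ Groth.Agent.H9.suppIn T M))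
      (IsLocalRing.maximalIdeal (Localization.AtPrime p.asIdeal)) hass
      ((isNoetherianRing_iff_ideal_fg A).mp inferInstance _)
    have hcomap : Ideal.comap (algebraMap A (Localization.AtPrime p.asIdeal))
        (IsLocalRing.maximalIdeal (Localization.AtPrime p.asIdeal)) = p.asIdeal :=
      Localization.AtPrime.under_maximalIdeal (I := p.asIdeal)
    rw [hcomap] at this
    exact Groth.Agent.H9.notMem_associatedPrimes_quotient_suppIn hT p hp this

end Groth.Agent.S1737
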