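import Groth.Statements.S17391
import Groth.Agent.H96.NagataSep2
-- import your own Groth.Agent.* helpers here

set_option autoImplicit false
universe u
open BlowUp

namespace Groth.Agent.S17391

open AlgebraicGeometry CategoryTheory Limits in
/-- Let X and Z be schemes, p : Z → X a morphism, U ⊆ V ⊆ X open subschemes, and f : Y → Z a
quasi-compact immersion whose composite with p lands in U. Let I₁ be a quasi-coherent ideal on X
whose support contains V ∖ U and is disjoint from U, and I₂ a quasi-coherent ideal whose support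
lies in supp(I₁) ∖ V. Assume that the closed subscheme p⁻¹(V(I₁²)) ∩ Ȳ of Z, where Ȳ is the
scheme-theoretic image of f, is contained in p⁻¹(V(I₂)) as a closed subscheme: the inverse image
ideal of I₂ on Z lies in the sum of the inverse image ideal of I₁² and the kernel ideal of f. Then
for every blowing up q : X' → X of X in I₁ + I₂, writing Z' = Z ×_X X' → X' and Y' = Y ×_Z Z' → Z'
for the base changes, the closure in Z' of the image of Y' is disjoint from the preimage in Z' of
the closure in X' of q⁻¹(V ∖ U). (The blowing up is an isomorphism over V, since the support of I₁ +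
I₂ is that of I₂ and lies in X ∖ V; the point is that the closure of q⁻¹(V ∖ U) in X', which may
reach over X ∖ V, still misses the closure of Y'.) -/
theorem result
    {X Y Z X' : Scheme.{u}} (p : Z ⟶ X) (U V : X.Opens) (hUV : U ≤ V)
    (f : Y ⟶ Z) [IsImmersion f] [QuasiCompact f] (hY : Set.range (fun y => p (f y)) ⊆ (U : Set X))
    (𝓘₁ 𝓘₂ : X.IdealSheafData)
    (h₁ : (V : Set X) \ (U : Set X) ⊆ (𝓘₁.support : Set X)) (h₁' : Disjoint (𝓘₁.support : Set X) (U : Set X))
    (h₂ : (𝓘₂.support : Set X) ⊆ (𝓘₁.support : Set X) \ (V : Set X))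
    (hincl : 𝓘₂.comap p ≤ (𝓘₁ * 𝓘₁).comap p ⊔ f.ker)
    (q : X' ⟶ X) (hq : BlowUp.IsBlowUp q (𝓘₁ ⊔ 𝓘₂)) :
    Disjoint (closure (Set.range (fun y => (pullback.snd f (pullback.fst p q)) y)))
      ((fun z => (pullback.snd p q) z) ⁻¹'
        closure ((fun x' => q x') ⁻¹' ((V : Set X) \ (U : Set X)))) := by
  classical
  rw [Set.disjoint_left]
  intro z' hz1 hz2
  have hcondZ : pullback.fst p q ≫ p = pullback.snd p q ≫ q := pullback.condition
  have hcondY : pullback.fst f (pullback.fst p q) ≫ f =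
      pullback.snd f (pullback.fst p q) ≫ pullback.fst p q := pullback.condition
  have hptZ : ∀ w, p (pullback.fst p q w) = q (pullback.snd p q w) := fun w => by
    rw [← Scheme.Hom.comp_apply, ← Scheme.Hom.comp_apply, hcondZ]
  have hptY : ∀ y', f (pullback.fst f (pullback.fst p q) y') =
      pullback.fst p q (pullback.snd f (pullback.fst p q) y') := fun y' => by
    rw [← Scheme.Hom.comp_apply, ← Scheme.Hom.comp_apply, hcondY]
  have hz2' : pullback.snd p q z' ∈
      closure ((fun x' => q x') ⁻¹' ((V : Set X) \ (U : Set X))) := hz2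
  have hEC : BlowUp.IsEffCartierIdeal (𝓘₁.comap q ⊔ 𝓘₂.comap q) := by
    rw [← Scheme.IdealSheafData.comap_sup]
    exact hq.1
  obtain ⟨N, t, hxN, hE, hor⟩ :=
    Groth.Agent.H96.NagataSep.exists_affine_span_sup _ _ hEC (pullback.snd p q z')
  have hsuppE : ∀ x' : X', x' ∈ (𝓘₁.comap q ⊔ 𝓘₂.comap q).support →
      q x' ∈ 𝓘₁.support ∧ q x' ∈ 𝓘₂.support := by
    intro x' hx'
    rw [← Scheme.IdealSheafData.comap_sup, Scheme.IdealSheafData.support_comap] at hx'
    have h : q x' ∈ (𝓘₁ ⊔ 𝓘₂).support := hx'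
    rw [Scheme.IdealSheafData.support_sup] at h
    exact ⟨h.1, h.2⟩
  have hSI : (fun x' => q x') ⁻¹' ((V : Set X) \ (U : Set X)) ⊆
      ((𝓘₁.comap q).support : Set X') := by
    intro x' hx'
    rw [SetLike.mem_coe, Scheme.IdealSheafData.support_comap]
    exact h₁ hx'
  have hSE : Disjoint ((fun x' => q x') ⁻¹' ((V : Set X) \ (U : Set X)))
      ((𝓘₁.comap q ⊔ 𝓘₂.comap q).support : Set X') := by
    rw [Set.disjoint_left]
    intro x' hx' hx''
    exact (h₂ (hsuppE x' hx'').2).2 hx'.1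
  have hcolon : ∀ a : Γ(X', N.1), t * a ∈ (𝓘₁.comap q).ideal N →
      pullback.snd p q z' ∉ X'.basicOpen a := fun a ha =>
    Groth.Agent.H96.NagataSep.notMem_basicOpen_of_mul_mem _ (𝓘₁.comap q) N t hE _ hSI hSE _
      hz2' a ha
  have h2eq : (𝓘₂.comap q).ideal N = Ideal.span {t} := by
    rcases hor with h | h
    · exfalso
      refine hcolon 1 ?_ ?_
      · rw [mul_one, h]
        exact Ideal.mem_span_singleton_self t
      · rw [Scheme.basicOpen_one]
        exact hxN
    · exact h
  have hI1le : (𝓘₁.comap q).ideal N ≤ Ideal.span {t} := by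
    rw [← hE]
    exact le_sup_left (a := (𝓘₁.comap q).ideal N) (b := (𝓘₂.comap q).ideal N)
  have hzM : z' ∈ pullback.snd p q ⁻¹ᵁ N.1 := hxN
  obtain ⟨_, ⟨M, hM, rfl⟩, hzM', hMN0⟩ :=
    (pullback p q).isBasis_affineOpens.exists_subset_of_mem_open hzM
      (pullback.snd p q ⁻¹ᵁ N.1).2
  have hMN : M ≤ pullback.snd p q ⁻¹ᵁ N.1 := hMN0
  have h3 : (𝓘₂.comap p).comap (pullback.fst p q) ≤
      ((𝓘₁ * 𝓘₁).comap p).comap (pullback.fst p q) ⊔ f.ker.comap (pullback.fst p q) := by
    have h := Scheme.IdealSheafData.comap_mono (pullback.fst p q) hincl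
    simp only at h
    rwa [Scheme.IdealSheafData.comap_sup] at h
  have e2 : (𝓘₂.comap p).comap (pullback.fst p q) = (𝓘₂.comap q).comap (pullback.snd p q) := by
    rw [← Scheme.IdealSheafData.comap_comp, ← Scheme.IdealSheafData.comap_comp, hcondZ]
  have e1 : ((𝓘₁ * 𝓘₁).comap p).comap (pullback.fst p q) =
      (𝓘₁.comap q * 𝓘₁.comap q).comap (pullback.snd p q) := by
    rw [← Scheme.IdealSheafData.comap_comp, hcondZ, Scheme.IdealSheafData.comap_comp,
      Groth.Agent.H8.comap_mul]
  rw [e1, e2] at h3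
  have h4 := h3 ⟨M, hM⟩
  rw [Groth.Agent.H19.ComapAff.ideal_comap_appLE (pullback.snd p q) (𝓘₂.comap q) N ⟨M, hM⟩ hMN,
    h2eq, Ideal.map_span, Set.image_singleton] at h4
  have h5 : (pullback.snd p q).appLE N.1 M hMN t ∈
      ((𝓘₁.comap q).ideal N * (𝓘₁.comap q).ideal N).map ((pullback.snd p q).appLE N.1 M hMN).hom ⊔
        (f.ker.comap (pullback.fst p q)).ideal ⟨M, hM⟩ := by
    have h6 := h4 (Ideal.mem_span_singleton_self _)
    have e3 := Groth.Agent.H19.ComapAff.ideal_comap_appLE (pullback.snd p q)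
      (𝓘₁.comap q * 𝓘₁.comap q) N ⟨M, hM⟩ hMN
    change _ ∈ ((𝓘₁.comap q * 𝓘₁.comap q).comap (pullback.snd p q)).ideal ⟨M, hM⟩ ⊔
      (f.ker.comap (pullback.fst p q)).ideal ⟨M, hM⟩ at h6
    rw [e3] at h6
    exact h6
  obtain ⟨j, hj, hjk⟩ := Groth.Agent.H96.NagataSep.exists_mul_one_sub_mem
    ((pullback.snd p q).appLE N.1 M hMN).hom t _ hI1le _ h5
  have h9 : z' ∉ (pullback p q).basicOpen j :=
    Groth.Agent.H96.NagataSep.notMem_basicOpen_of_mem_map (pullback.snd p q) N.1 M hMN _ z'
      (fun a ha hza => hcolon a ((Groth.Agent.H96.NagataSep.mem_colon1 _ t a).mp ha) hza) j hj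
  have h10 : z' ∈ (pullback p q).basicOpen (1 - j) := by
    have h11 : z' ∈ (pullback p q).basicOpen ((1 - j) + j) := by
      rw [sub_add_cancel, Scheme.basicOpen_one]
      exact hzM'
    rcases Scheme.basicOpen_add_le _ _ _ h11 with h | h
    · exact h
    · exact absurd h h9
  obtain ⟨w, hw1, ⟨y', rfl⟩⟩ := mem_closure_iff.mp hz1 ((pullback p q).basicOpen (1 - j))
    ((pullback p q).basicOpen (1 - j)).2 h10
  have hwM : pullback.snd f (pullback.fst p q) y' ∈ M := (pullback p q).basicOpen_le _ hw1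
  have h12 : pullback.snd f (pullback.fst p q) y' ∈ (f.ker.comap (pullback.fst p q)).support := by
    rw [Scheme.IdealSheafData.support_comap]
    change pullback.fst p q (pullback.snd f (pullback.fst p q) y') ∈ f.ker.support
    rw [← hptY]
    exact f.range_subset_ker_support ⟨_, rfl⟩
  rw [Scheme.IdealSheafData.mem_support_iff_of_mem (U := ⟨M, hM⟩) hwM,
    Scheme.mem_zeroLocus_iff] at h12
  have h13 := h12 _ hjk
  rw [Scheme.basicOpen_mul] at h13
  have h14 : pullback.snd f (pullback.fst p q) y' ∉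
      (pullback p q).basicOpen ((pullback.snd p q).appLE N.1 M hMN t) := fun h => h13 ⟨h, hw1⟩
  rw [Scheme.basicOpen_appLE] at h14
  have h15 : pullback.snd p q (pullback.snd f (pullback.fst p q) y') ∉ X'.basicOpen t :=
    fun h => h14 ⟨hwM, h⟩
  have h16 := (hsuppE _ (Groth.Agent.H96.NagataSep.mem_support_of_notMem_basicOpen _ N t hE _
    (hMN hwM) h15)).1
  rw [← hptZ, ← hptY] at h16
  exact Set.disjoint_left.mp h₁' h16 (hY ⟨_, rfl⟩)

end Groth.Agent.S17391
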