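import Groth.Statements.S17392
import Groth.Agent.H96.NagataSep
-- import your own Groth.Agent.* helpers here

set_option autoImplicit false
universe u
open BlowUp

namespace Groth.Agent.S17392

open AlgebraicGeometry CategoryTheory Limits in
/-- Let X₁ and X₂ be quasi-compact quasi-separated schemes, q : X₂ → X₁ a quasi-compact separated
morphism, V₁ ⊆ X₁ a quasi-compact open subscheme and U ⊆ q⁻¹(V₁) an open subscheme of X₂ on which q
restricts to an open immersion (so U is identified with an open of V₁). Let Z₁ ⊆ X₁ be a closed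
subset whose open complement is quasi-compact, put Y₁ = Z₁ ∩ V₁, and let Z₂ ⊆ X₂ be a closed subset
whose open complement is also quasi-compact, with q⁻¹(Y₁) ⊆ Z₂. Then there is a quasi-coherent ideal
E of finite type on X₁ with support contained in Z₁ ∖ V₁ (so that blowing up E is V₁-admissible)
such that, for every blowing up c : X₁' → X₁ of X₁ in E with base change q' : X₂' = X₂ ×_{X₁} X₁' →
X₁' and c₂ : X₂' → X₂, one has q'⁻¹(closure of c⁻¹(Y₁)) ∩ closure(c₂⁻¹(U)) ⊆ c₂⁻¹(Z₂) as subsets of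
X₂'. -/
theorem result
    {X₁ X₂ : Scheme.{u}} [CompactSpace X₁] [QuasiSeparatedSpace X₁] [CompactSpace X₂] [QuasiSeparatedSpace X₂]
    (q : X₂ ⟶ X₁) [QuasiCompact q] [IsSeparated q]
    (V₁ : X₁.Opens) (hV₁ : IsCompact (V₁ : Set X₁))
    (U : X₂.Opens) (hU : U ≤ q ⁻¹ᵁ V₁) [IsOpenImmersion (U.ι ≫ q)]
    (Z₁ : Set X₁) (hZ₁ : IsClosed Z₁) (hZ₁c : IsCompact Z₁ᶜ)
    (Z₂ : Set X₂) (hZ₂ : IsClosed Z₂) (hZ₂c : IsCompact Z₂ᶜ)
    (hYZ : (fun x => q x) ⁻¹' (Z₁ ∩ (V₁ : Set X₁)) ⊆ Z₂) :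
    ∃ 𝓔 : X₁.IdealSheafData, BlowUp.IsFiniteTypeIdeal 𝓔 ∧ (𝓔.support : Set X₁) ⊆ Z₁ \ (V₁ : Set X₁) ∧
      ∀ (X₁' : Scheme.{u}) (c : X₁' ⟶ X₁), BlowUp.IsBlowUp c 𝓔 →
        (fun z => (pullback.snd q c) z) ⁻¹' closure ((fun x => c x) ⁻¹' (Z₁ ∩ (V₁ : Set X₁))) ∩
            closure ((fun z => (pullback.fst q c) z) ⁻¹' (U : Set X₂)) ⊆
          (fun z => (pullback.fst q c) z) ⁻¹' Z₂ := by
  classical
  obtain ⟨I₁, hI₁fg, hI₁s⟩ := Groth.Agent.H96.FiniteTypeExt.exists_finiteType_support_eq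
    (X := X₁) ⟨Z₁ᶜ, hZ₁.isOpen_compl⟩ hZ₁c
  obtain ⟨K₀, hK₀fg, hK₀s⟩ := Groth.Agent.H96.FiniteTypeExt.exists_finiteType_support_eq
    (X := X₁) V₁ hV₁
  have hI₁mem : ∀ x : X₁, x ∈ I₁.support ↔ x ∈ Z₁ := by
    intro x
    have h : x ∈ (I₁.support : Set X₁) ↔
        x ∈ (((⟨Z₁ᶜ, hZ₁.isOpen_compl⟩ : X₁.Opens) : Set X₁))ᶜ := by rw [hI₁s]
    simpa using h
  have hK₀mem : ∀ x : X₁, x ∈ K₀.support ↔ x ∉ V₁ := by
    intro x
    have h : x ∈ (K₀.support : Set X₁) ↔ x ∈ (V₁ : Set X₁)ᶜ := by rw [hK₀s]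
    simpa using h
  -- the uniform power
  obtain ⟨m, hm0, hm⟩ := Groth.Agent.H96.NagataSep.exists_pow_le_of_support (K₀.comap q)
    (I₁.comap q) (Groth.Agent.H8.isFiniteTypeIdeal_comap q hK₀fg)
    ⟨Z₂ᶜ, hZ₂.isOpen_compl⟩ hZ₂c (by
      intro x hx hxI
      rw [Scheme.IdealSheafData.support_comap] at hxI ⊢
      have h1 : q x ∈ Z₁ := (hI₁mem _).mp hxI
      exact (hK₀mem _).mpr fun h2 => hx (hYZ ⟨h1, h2⟩))
  set K := K₀ ^ m with hK
  have hKs : K.support = K₀.support := Scheme.IdealSheafData.support_pow _ _ hm0.ne'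
  have hKq : ∀ A : X₂.affineOpens, A.1 ≤ (⟨Z₂ᶜ, hZ₂.isOpen_compl⟩ : X₂.Opens) →
      (K.comap q).ideal A ≤ (I₁.comap q).ideal A := by
    intro A hA
    rw [hK, Groth.Agent.H96.NagataSep.comap_pow]
    exact hm A hA
  let G : Bool → X₁.IdealSheafData := fun b => cond b I₁ K
  refine ⟨⨆ b, G b, ?_, ?_, ?_⟩
  · intro A
    rw [Groth.Agent.H96.SupBlowUp.ideal_iSup_apply]
    refine Submodule.fg_iSup _ ?_
    rintro (_ | _)
    · change ((K₀.ideal A) ^ m).FG
      exact (hK₀fg A).pow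
    · exact hI₁fg A
  · intro x hx
    rw [SetLike.mem_coe, Scheme.IdealSheafData.support_iSup] at hx
    have h1 : x ∈ (G true).support := (iInf_le (fun b => (G b).support) true) hx
    have h2 : x ∈ (G false).support := (iInf_le (fun b => (G b).support) false) hx
    exact ⟨(hI₁mem x).mp h1, (hK₀mem x).mp (hKs ▸ h2)⟩
  · intro X₁' c hc z hz
    obtain ⟨hz1, hz2⟩ := hz
    by_contra hzZ
    have hcond : pullback.fst q c ≫ q = pullback.snd q c ≫ c := pullback.condition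
    have hpt : ∀ g, q (pullback.fst q c g) = c (pullback.snd q c g) := fun g => by
      rw [← Scheme.Hom.comp_apply, ← Scheme.Hom.comp_apply, hcond]
    have hz1' : pullback.snd q c z ∈ closure ((fun x => c x) ⁻¹' (Z₁ ∩ (V₁ : Set X₁))) := hz1
    have hEC := hc.1
    rw [Groth.Agent.H96.SupBlowUp.comap_iSup] at hEC
    obtain ⟨N, b, t, hxN, hb, hE⟩ :=
      Groth.Agent.H96.NagataSep.exists_affine_span_eq (fun b => (G b).comap c) hEC
        (pullback.snd q c z)
    have hsuppE : ∀ y ∈ N.1, y ∉ X₁'.basicOpen t → c y ∉ V₁ := by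
      intro y hyN hyt
      have h1 : y ∈ (⨆ b, (G b).comap c).support := by
        rw [Scheme.IdealSheafData.mem_support_iff_of_mem hyN, hE, Scheme.zeroLocus_span,
          Scheme.mem_zeroLocus_iff]
        intro f hf
        rw [Set.mem_singleton_iff] at hf
        subst hf
        exact hyt
      rw [← Groth.Agent.H96.SupBlowUp.comap_iSup, Scheme.IdealSheafData.support_comap] at h1
      have h2 : c y ∈ (⨆ b, G b).support := h1
      rw [Scheme.IdealSheafData.support_iSup] at h2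
      have h3 : c y ∈ (G false).support := (iInf_le (fun b => (G b).support) false) h2
      exact (hK₀mem _).mp (hKs ▸ h3)
    have hIle : (I₁.comap c).ideal N ≤ Ideal.span {t} := by
      rw [← hE, Groth.Agent.H96.SupBlowUp.ideal_iSup_apply]
      exact le_iSup (fun b => ((G b).comap c).ideal N) true
    have claim : ∃ a' : Γ(X₁', N.1), pullback.snd q c z ∈ X₁'.basicOpen a' ∧
        t * a' ∈ (I₁.comap c).ideal N := by
      cases b with
      | true =>
        refine ⟨1, ?_, ?_⟩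
        · rw [Scheme.basicOpen_one]
          exact hxN
        · rw [mul_one]
          change t ∈ ((G true).comap c).ideal N
          rw [hb]
          exact Ideal.mem_span_singleton_self t
      | false =>
        by_contra hcon
        push Not at hcon
        have hKA : (K.comap c).ideal N = Ideal.span {t} := hb
        have hzT : pullback.fst q c z ∈ (⟨Z₂ᶜ, hZ₂.isOpen_compl⟩ : X₂.Opens) := hzZ
        obtain ⟨_, ⟨O, hO, rfl⟩, hzO, hOT⟩ :=
          X₂.isBasis_affineOpens.exists_subset_of_mem_open hzT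
            (⟨Z₂ᶜ, hZ₂.isOpen_compl⟩ : X₂.Opens).2
        have hzM : z ∈ (pullback.snd q c ⁻¹ᵁ N.1 ⊓ pullback.fst q c ⁻¹ᵁ O :
            (pullback q c).Opens) := ⟨hxN, hzO⟩
        obtain ⟨_, ⟨M, hM, rfl⟩, hzM', hMle⟩ :=
          (pullback q c).isBasis_affineOpens.exists_subset_of_mem_open hzM
            (pullback.snd q c ⁻¹ᵁ N.1 ⊓ pullback.fst q c ⁻¹ᵁ O : (pullback q c).Opens).2
        have hMN : M ≤ pullback.snd q c ⁻¹ᵁ N.1 := fun w hw => (hMle hw).1
        have hMO : M ≤ pullback.fst q c ⁻¹ᵁ O := fun w hw => (hMle hw).2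
        have hle := Groth.Agent.H96.NagataSep.map_appLE_le_of_comm q c (pullback.fst q c)
          (pullback.snd q c) hcond K I₁ N ⟨O, hO⟩ ⟨M, hM⟩ hMN hMO (hKq ⟨O, hO⟩ hOT)
        obtain ⟨g, hg2, hgM, hgt⟩ := Groth.Agent.H96.NagataSep.exists_mem_notMem_basicOpen
          (pullback.snd q c) N.1 M hMN t ((I₁.comap c).ideal N) ((K.comap c).ideal N) hIle
          (by rw [hKA]; exact Ideal.mem_span_singleton_self t) hle z hzM' hcon _ hz2
        apply hsuppE _ (hMN hgM) hgt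
        rw [← hpt]
        exact hU hg2
    obtain ⟨a', hxa', hta'⟩ := claim
    obtain ⟨y', hy'1, hy'2⟩ := mem_closure_iff.mp hz1' (X₁'.basicOpen a')
      (X₁'.basicOpen a').2 hxa'
    have hy'N : y' ∈ N.1 := X₁'.basicOpen_le a' hy'1
    have h1 : y' ∈ (I₁.comap c).support := by
      rw [Scheme.IdealSheafData.support_comap]
      exact (hI₁mem _).mpr hy'2.1
    rw [Scheme.IdealSheafData.mem_support_iff_of_mem hy'N, Scheme.mem_zeroLocus_iff] at h1
    have h2 : y' ∉ X₁'.basicOpen (t * a') := h1 _ hta'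
    rw [Scheme.basicOpen_mul] at h2
    have h3 : y' ∉ X₁'.basicOpen t := fun h => h2 ⟨h, hy'1⟩
    exact hsuppE y' hy'N h3 hy'2.2

end Groth.Agent.S17392
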