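import Groth.Statements.S17393
import Groth.Agent.H8.StrictTransformBasic

set_option autoImplicit false
universe u
open BlowUp

namespace Groth.Agent.S17393

open AlgebraicGeometry CategoryTheory Limits in
/-- Let X be any scheme, I and I' quasi-coherent ideals on X (of closed subschemes Y and Y'), b : X' → X
a blowing up of X in I + I' (the ideal of Y ∩ Y'), b' : Ỹ → Y a blowing up of Y = V(I) in the
inverse image of I + I' and k : Ỹ → X' the morphism with k ≫ b = b' ≫ (Y → X), whose image is the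
strict transform of Y. For an affine open V of X, a section s of I over V, and an affine open V' ⊆
b⁻¹(V) of X' which meets the image of k, the ideal of the inverse image ideal sheaf (I + I')·O_X' on
V' is not the principal ideal generated by the pullback of s. Equivalently the strict transform of Y
does not meet the open locus U(s) where s generates the (invertible) inverse image ideal; since the
U(s) for s ranging over local sections of I and of I' cover X', the strict transform of Y lies in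
the union of the U(s) with s a local section of I'. -/
theorem result
    {X X' Yt : Scheme.{u}} (𝓘 𝓘' : X.IdealSheafData) (b : X' ⟶ X) (hb : BlowUp.IsBlowUp b (𝓘 ⊔ 𝓘'))
    (b' : Yt ⟶ 𝓘.subscheme) (hb' : BlowUp.IsBlowUp b' ((𝓘 ⊔ 𝓘').comap 𝓘.subschemeι))
    (k : Yt ⟶ X') (hk : k ≫ b = b' ≫ 𝓘.subschemeι)
    (V : X.affineOpens) (s : Γ(X, V.1)) (hs : s ∈ 𝓘.ideal V)
    (V' : X'.affineOpens) (hV' : V'.1 ≤ b ⁻¹ᵁ V.1)
    (hmeet : (Set.range (fun y => k y) ∩ (V'.1 : Set X')).Nonempty) :
    ((𝓘 ⊔ 𝓘').comap b).ideal V' ≠ Ideal.span {(b.appLE V.1 V'.1 hV').hom s} := by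
  intro heq
  obtain ⟨_, ⟨y, rfl⟩, hy⟩ := hmeet
  have hE : BlowUp.IsEffCartierIdeal (((𝓘 ⊔ 𝓘').comap b).comap k) := by
    rw [← Scheme.IdealSheafData.comap_comp, hk, Scheme.IdealSheafData.comap_comp]
    exact hb'.1
  obtain ⟨_, ⟨W, hW, rfl⟩, hyW, hWle⟩ :=
    Yt.isBasis_affineOpens.exists_subset_of_mem_open (show y ∈ ((k ⁻¹ᵁ V'.1 : Yt.Opens) : Set Yt)
      from hy) (k ⁻¹ᵁ V'.1).isOpen
  have hW : IsAffineOpen W := hW
  have hWle' : W ≤ k ⁻¹ᵁ V'.1 := hWle
  refine Groth.Agent.H8.ideal_ne_bot_of_isEffCartier hE ⟨W, hW⟩ hyW ?_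
  rw [Groth.Agent.H19.ComapAff.ideal_comap_appLE k _ V' ⟨W, hW⟩ hWle', heq, Ideal.map_span,
    Set.image_singleton]
  have h1 : (k.appLE V'.1 W hWle').hom ((b.appLE V.1 V'.1 hV').hom s) =
      ((k ≫ b).appLE V.1 W (hWle'.trans ((TopologicalSpace.Opens.map k.base).map (homOfLE hV')).le)).hom s := by
    rw [← Scheme.Hom.appLE_comp_appLE]
    rfl
  rw [h1, Groth.Agent.H8.appLE_eq_zero_of_factor (k ≫ b) b' hk V W _ s hs]
  exact Ideal.span_singleton_eq_bot.mpr rfl

end Groth.Agent.S17393
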