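import Groth.Statements.S17409
import Mathlib.RingTheory.MvPolynomial.Ideal
import Mathlib.Tactic

set_option autoImplicit false
universe u
open Prym5

namespace Groth.Agent.S17409

/-- Over a perfect field K of characteristic different from 2 and 3, let G₂, G₃, G₄ be polynomials in
two variables x, y and consider G₂ z² + 2 G₃ z + G₄ as a polynomial in the three variables x, y, z.
If it lies in the square of the ideal (x, y, z) — the surface it defines has a double point at the
origin — then the discriminant G₃² − G₂ G₄ lies in the square of the ideal (x, y) of K[x, y], so the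
plane curve G₃² − G₂ G₄ = 0 is singular at the origin. (This is the affine-local form used in the
published proof: the surface is a quartic with a node at the centre of projection placed at infinity
on the z-axis, and the curve is the branch sextic of that projection.) -/
theorem result (K : Type u) [Field K] [PerfectField K]
    (h2 : (2 : K) ≠ 0) (h3 : (3 : K) ≠ 0) (G₂ G₃ G₄ : MvPolynomial (Fin 2) K)
    (h : MvPolynomial.rename (Fin.castSucc : Fin 2 → Fin 3) G₂ * MvPolynomial.X (2 : Fin 3) ^ 2
        + 2 * MvPolynomial.rename (Fin.castSucc : Fin 2 → Fin 3) G₃ * MvPolynomial.X (2 : Fin 3)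
        + MvPolynomial.rename (Fin.castSucc : Fin 2 → Fin 3) G₄
        ∈ (Ideal.span (Set.range (MvPolynomial.X : Fin 3 → MvPolynomial (Fin 3) K))) ^ 2) :
    G₃ ^ 2 - G₂ * G₄ ∈ (Ideal.span (Set.range (MvPolynomial.X : Fin 2 → MvPolynomial (Fin 2) K))) ^ 2 := by
  set m₂ : Ideal (MvPolynomial (Fin 2) K) := Ideal.span (Set.range (MvPolynomial.X : Fin 2 → MvPolynomial (Fin 2) K)) with hm₂
  set m₃ : Ideal (MvPolynomial (Fin 3) K) := Ideal.span (Set.range (MvPolynomial.X : Fin 3 → MvPolynomial (Fin 3) K)) with hm₃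
  -- G₄ ∈ m₂ ^ 2
  have hG₄ : G₄ ∈ m₂ ^ 2 := by
    let v : Fin 3 → MvPolynomial (Fin 2) K := Fin.snoc (MvPolynomial.X : Fin 2 → MvPolynomial (Fin 2) K) 0
    let φ : MvPolynomial (Fin 3) K →ₐ[K] MvPolynomial (Fin 2) K := MvPolynomial.aeval v
    have hv : v ∘ (Fin.castSucc : Fin 2 → Fin 3) = MvPolynomial.X := by
      funext i
      simp [v]
    have hφr : ∀ G : MvPolynomial (Fin 2) K, φ (MvPolynomial.rename Fin.castSucc G) = G := by
      intro G
      simp only [φ, MvPolynomial.aeval_rename, hv, MvPolynomial.aeval_X_left, AlgHom.id_apply]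
    have hφX : φ (MvPolynomial.X (2 : Fin 3)) = 0 := by
      simp only [φ, MvPolynomial.aeval_X]
      exact Fin.snoc_last (α := fun _ => MvPolynomial (Fin 2) K) _ _
    have hmap : Ideal.map φ.toRingHom m₃ ≤ m₂ := by
      rw [hm₃, Ideal.map_span, Ideal.span_le]
      rintro _ ⟨_, ⟨i, rfl⟩, rfl⟩
      refine Fin.lastCases ?_ (fun j => ?_) i
      · have : φ (MvPolynomial.X (Fin.last 2)) = 0 := hφX
        simp only [AlgHom.toRingHom_eq_coe, RingHom.coe_coe, this]
        exact Ideal.zero_mem _
      · have : φ (MvPolynomial.X (Fin.castSucc j)) = MvPolynomial.X j := by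
          simp [φ, v]
        simp only [AlgHom.toRingHom_eq_coe, RingHom.coe_coe, this]
        exact Ideal.subset_span ⟨j, rfl⟩
    have hmem := Ideal.mem_map_of_mem φ.toRingHom h
    rw [Ideal.map_pow] at hmem
    have hmem2 := Ideal.pow_right_mono hmap 2 hmem
    simpa [hφr, hφX] using hmem2
  -- G₃ ∈ m₂
  have hG₃ : G₃ ∈ m₂ := by
    let w : Fin 3 → Polynomial K := Fin.snoc (fun _ : Fin 2 => (0 : Polynomial K)) Polynomial.X
    let ψ : MvPolynomial (Fin 3) K →ₐ[K] Polynomial K := MvPolynomial.aeval w
    have hw : w ∘ (Fin.castSucc : Fin 2 → Fin 3) = 0 := by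
      funext i
      simp [w]
    have hψr : ∀ G : MvPolynomial (Fin 2) K,
        ψ (MvPolynomial.rename Fin.castSucc G) = Polynomial.C (MvPolynomial.constantCoeff G) := by
      intro G
      simp only [ψ, MvPolynomial.aeval_rename, hw, MvPolynomial.aeval_zero]
      rfl
    have hψX : ψ (MvPolynomial.X (2 : Fin 3)) = Polynomial.X := by
      simp only [ψ, MvPolynomial.aeval_X]
      exact Fin.snoc_last (α := fun _ => Polynomial K) _ _
    have hmap : Ideal.map ψ.toRingHom m₃ ≤ Ideal.span {Polynomial.X} := by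
      rw [hm₃, Ideal.map_span, Ideal.span_le]
      rintro _ ⟨_, ⟨i, rfl⟩, rfl⟩
      refine Fin.lastCases ?_ (fun j => ?_) i
      · have : ψ (MvPolynomial.X (Fin.last 2)) = Polynomial.X := hψX
        simp only [AlgHom.toRingHom_eq_coe, RingHom.coe_coe, this]
        exact Ideal.subset_span rfl
      · have : ψ (MvPolynomial.X (Fin.castSucc j)) = 0 := by
          simp [ψ, w]
        simp only [AlgHom.toRingHom_eq_coe, RingHom.coe_coe, this]
        exact Ideal.zero_mem _
    have hmem := Ideal.mem_map_of_mem ψ.toRingHom h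
    rw [Ideal.map_pow] at hmem
    have hmem2 := Ideal.pow_right_mono hmap 2 hmem
    rw [Ideal.span_singleton_pow, Ideal.mem_span_singleton] at hmem2
    simp only [AlgHom.toRingHom_eq_coe, RingHom.coe_coe, map_add, map_mul, map_pow, hψr, hψX,
      map_ofNat] at hmem2
    rw [Polynomial.X_pow_dvd_iff] at hmem2
    have h1 := hmem2 1 (by norm_num)
    simp only [Polynomial.coeff_add, Polynomial.coeff_C_mul, Polynomial.coeff_X_pow,
      Polynomial.coeff_mul_X, Polynomial.coeff_C] at h1
    norm_num at h1
    -- h1 : 2 * constantCoeff G₃ = 0 or similar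
    have hc : MvPolynomial.constantCoeff G₃ = 0 := by
      rcases h1 with h1 | h1
      · exact absurd h1 h2
      · exact h1
    have : G₃ ∈ m₂ ^ 1 := by
      rw [hm₂]
      rw [MvPolynomial.mem_pow_idealOfVars_iff']
      intro x hx
      have hx0 : x = 0 := by
        have : Finsupp.degree x = 0 := by omega
        exact (Finsupp.degree_eq_zero_iff x).mp this
      rw [hx0]
      exact hc
    simpa using this
  have h1 : G₃ ^ 2 ∈ m₂ ^ 2 := Ideal.pow_mem_pow hG₃ 2
  have h2' : G₂ * G₄ ∈ m₂ ^ 2 := Ideal.mul_mem_left _ _ hG₄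
  exact Ideal.sub_mem _ h1 h2'

end Groth.Agent.S17409
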