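import Groth.Statements.S1741
import Groth.Agent.H9.ExtTorNull

set_option autoImplicit false
universe u
open CategoryTheory
attribute [local instance] HasDerivedCategory.standard
open LocCoh

namespace Groth.Agent.S1741

/-- Equivalence of (4) and (7) in the Noetherian case. Let R be a Noetherian ring, α : M → M' a map of
R-modules with M finite, and e ≥ 0. Then precomposition with α kills all classes in Ext^{e+1}(M', N)
(maps M' → N[e+1] in D(R)) for every module N if and only if the map Tor_{e+1}(M, N) → Tor_{e+1}(M',
N) induced by α is zero for every module N. -/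
theorem result (R : Type u) [CommRing R] [IsNoetherianRing R] (M M' : Type u) [AddCommGroup M] [Module R M] [Module.Finite R M] [AddCommGroup M'] [Module R M'] (α : M →ₗ[R] M') (e : ℕ) : (∀ (N : Type u) [AddCommGroup N] [Module R N] (φ : Dual.inD R M' ⟶ (Dual.inD R N)⟦((e : ℤ) + 1)⟧), (DerivedCategory.singleFunctor (ModuleCat.{u} R) 0).map (ModuleCat.ofHom α) ≫ φ = 0) ↔ (∀ (N : Type u) [AddCommGroup N] [Module R N], ((CategoryTheory.Tor (ModuleCat.{u} R) (e + 1)).map (ModuleCat.ofHom α)).app (ModuleCat.of R N) = 0) := by
  have key := Groth.Agent.H9.extNull_iff_torNull (R := R) e M M' α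
  have hE := Groth.Agent.H9.extNull_iff_hom.{u} (C := ModuleCat.{u} R) (ModuleCat.ofHom α) (e + 1)
  constructor
  · intro h N _ _
    refine key.1 (hE.2 fun N' ψ => ?_) (ModuleCat.of R N)
    exact h N' ψ
  · intro h N _ _ φ
    have h1 : Groth.Agent.H9.TorNull (ModuleCat.ofHom α) (e + 1) := fun N' => h N'
    exact hE.1 (key.2 h1) (ModuleCat.of R N) φ

end Groth.Agent.S1741
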