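import Groth.Statements.S17414
import Mathlib.RingTheory.MvPolynomial.Ideal
import Mathlib.Algebra.MvPolynomial.PDeriv
-- import your own Groth.Agent.* helpers here

set_option autoImplicit false
universe u
open Prym5

namespace Groth.Agent.S17414

open MvPolynomial in
theorem mem_vars_iff {σ : Type*} {K : Type*} [CommSemiring K] (p : MvPolynomial σ K) :
    p ∈ Ideal.span (Set.range (X : σ → MvPolynomial σ K)) ↔ constantCoeff p = 0 := by
  have h := mem_pow_idealOfVars_iff' (σ := σ) (R := K) 1 p
  rw [pow_one] at h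
  rw [h]
  constructor
  · intro hx
    exact hx 0 (by simp)
  · intro h0 x hx
    have : x = 0 := by
      rw [← Finsupp.degree_eq_zero_iff]
      omega
    rw [this]
    exact h0

open MvPolynomial in
theorem mem_vars_sq_iff {σ : Type*} {K : Type*} [CommSemiring K] (p : MvPolynomial σ K) :
    p ∈ (Ideal.span (Set.range (X : σ → MvPolynomial σ K))) ^ 2 ↔
      constantCoeff p = 0 ∧ ∀ i, constantCoeff (pderiv i p) = 0 := by
  classical
  have h := mem_pow_idealOfVars_iff' (σ := σ) (R := K) 2 p
  rw [h]
  have hpd : ∀ i, constantCoeff (pderiv i p) = coeff (Finsupp.single i 1) p := by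
    intro i
    rw [constantCoeff_eq, coeff_pderiv]
    simp
  constructor
  · intro hx
    refine ⟨hx 0 (by simp), fun i => ?_⟩
    rw [hpd]
    exact hx _ (by simp [Finsupp.degree_single])
  · rintro ⟨h0, h1⟩ x hx
    by_cases hx0 : x = 0
    · rw [hx0]; exact h0
    · obtain ⟨i, hi⟩ : ∃ i, x i ≠ 0 := by
        by_contra hcon
        push Not at hcon
        exact hx0 (Finsupp.ext hcon)
      have hle : Finsupp.single i 1 ≤ x := by
        rw [Finsupp.single_le_iff]
        omega
      obtain ⟨y, rfl⟩ := le_iff_exists_add'.mp hle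
      have hy : y = 0 := by
        rw [← Finsupp.degree_eq_zero_iff]
        rw [map_add, Finsupp.degree_single] at hx
        omega
      rw [hy, zero_add, ← hpd]
      exact h1 i

/-- Over a perfect field K of characteristic different from 2 and 3, let G₂, G₃, G₄ be polynomials in x,
y, let h = G₂ z² + 2 G₃ z + G₄ in K[x, y, z] and D = G₃² − G₂ G₄ in K[x, y]. Suppose h ∈ (x, y, z) —
the origin Q lies on the surface h = 0 — and D ∈ (x, y) — the image of Q under (x, y, z) ↦ (x, y)
lies on the discriminant curve D = 0. Then D ∈ (x, y)², i.e. the image point is singular on the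
discriminant curve, if and only if either h ∈ (x, y, z)², i.e. Q is a singular point of the surface,
or G₂, G₃, G₄ ∈ (x, y), i.e. Q lies on all three cones G₂ = G₃ = G₄ = 0. (Affine-local form, in a
chart where the node projected from sits at infinity on the z-axis and Q at the origin, of the
published claim: for a point Q ≠ P of the nodal quartic whose projection lies on the branch sextic,
the projection is singular on the sextic exactly when Q is singular on the quartic or lies on the
cones u₂ = u₃ = u₄ = 0.) -/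
theorem result (K : Type u) [Field K] [PerfectField K]
    (h2 : (2 : K) ≠ 0) (h3 : (3 : K) ≠ 0) (G₂ G₃ G₄ : MvPolynomial (Fin 2) K)
    (hQ : MvPolynomial.rename (Fin.castSucc : Fin 2 → Fin 3) G₂ * MvPolynomial.X (2 : Fin 3) ^ 2
        + 2 * MvPolynomial.rename (Fin.castSucc : Fin 2 → Fin 3) G₃ * MvPolynomial.X (2 : Fin 3)
        + MvPolynomial.rename (Fin.castSucc : Fin 2 → Fin 3) G₄
        ∈ Ideal.span (Set.range (MvPolynomial.X : Fin 3 → MvPolynomial (Fin 3) K)))
    (hD : G₃ ^ 2 - G₂ * G₄ ∈ Ideal.span (Set.range (MvPolynomial.X : Fin 2 → MvPolynomial (Fin 2) K))) :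
    G₃ ^ 2 - G₂ * G₄ ∈ (Ideal.span (Set.range (MvPolynomial.X : Fin 2 → MvPolynomial (Fin 2) K))) ^ 2 ↔
      (MvPolynomial.rename (Fin.castSucc : Fin 2 → Fin 3) G₂ * MvPolynomial.X (2 : Fin 3) ^ 2
          + 2 * MvPolynomial.rename (Fin.castSucc : Fin 2 → Fin 3) G₃ * MvPolynomial.X (2 : Fin 3)
          + MvPolynomial.rename (Fin.castSucc : Fin 2 → Fin 3) G₄
          ∈ (Ideal.span (Set.range (MvPolynomial.X : Fin 3 → MvPolynomial (Fin 3) K))) ^ 2 ∨
        (G₂ ∈ Ideal.span (Set.range (MvPolynomial.X : Fin 2 → MvPolynomial (Fin 2) K)) ∧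
          G₃ ∈ Ideal.span (Set.range (MvPolynomial.X : Fin 2 → MvPolynomial (Fin 2) K)) ∧
          G₄ ∈ Ideal.span (Set.range (MvPolynomial.X : Fin 2 → MvPolynomial (Fin 2) K)))) := by
  classical
  have hinj : Function.Injective (Fin.castSucc : Fin 2 → Fin 3) := Fin.castSucc_injective 2
  -- constant terms
  have hc4 : MvPolynomial.constantCoeff G₄ = 0 := by
    have := (mem_vars_iff _).mp hQ
    simpa [MvPolynomial.constantCoeff_rename] using this
  have hc3 : MvPolynomial.constantCoeff G₃ = 0 := by
    have := (mem_vars_iff _).mp hD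
    simpa [hc4] using this
  -- derivative in the last variable of a renamed polynomial vanishes
  have hlast : ∀ G : MvPolynomial (Fin 2) K,
      MvPolynomial.pderiv (2 : Fin 3) (MvPolynomial.rename (Fin.castSucc : Fin 2 → Fin 3) G) = 0 := by
    intro G
    apply MvPolynomial.pderiv_eq_zero_of_notMem_vars
    intro hmem
    have := MvPolynomial.vars_rename (Fin.castSucc : Fin 2 → Fin 3) G hmem
    rw [Finset.mem_image] at this
    obtain ⟨i, _, hi⟩ := this
    exact (Fin.castSucc_lt_last i).ne hi
  have hXi : ∀ i : Fin 2,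
      MvPolynomial.pderiv (Fin.castSucc i : Fin 3) (MvPolynomial.X (2 : Fin 3) : MvPolynomial (Fin 3) K) = 0 := by
    intro i
    apply MvPolynomial.pderiv_X_of_ne
    exact ((Fin.castSucc_lt_last i).ne).symm
  rw [mem_vars_sq_iff, mem_vars_sq_iff, mem_vars_iff, mem_vars_iff, mem_vars_iff]
  have hLHS : (MvPolynomial.constantCoeff (G₃ ^ 2 - G₂ * G₄) = 0 ∧
      ∀ i, MvPolynomial.constantCoeff (MvPolynomial.pderiv i (G₃ ^ 2 - G₂ * G₄)) = 0) ↔
      ∀ i, MvPolynomial.constantCoeff G₂ * MvPolynomial.constantCoeff (MvPolynomial.pderiv i G₄) = 0 := by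
    constructor
    · rintro ⟨_, h1⟩ i
      have := h1 i
      simpa [MvPolynomial.pderiv_mul, MvPolynomial.pderiv_pow, hc3, hc4] using this
    · intro h1
      refine ⟨by simp [hc3, hc4], fun i => ?_⟩
      have := h1 i
      simpa [MvPolynomial.pderiv_mul, MvPolynomial.pderiv_pow, hc3, hc4] using this
  have hRHS : (MvPolynomial.constantCoeff
        (MvPolynomial.rename (Fin.castSucc : Fin 2 → Fin 3) G₂ * MvPolynomial.X (2 : Fin 3) ^ 2
          + 2 * MvPolynomial.rename (Fin.castSucc : Fin 2 → Fin 3) G₃ * MvPolynomial.X (2 : Fin 3)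
          + MvPolynomial.rename (Fin.castSucc : Fin 2 → Fin 3) G₄) = 0 ∧
      ∀ j : Fin 3, MvPolynomial.constantCoeff (MvPolynomial.pderiv j
        (MvPolynomial.rename (Fin.castSucc : Fin 2 → Fin 3) G₂ * MvPolynomial.X (2 : Fin 3) ^ 2
          + 2 * MvPolynomial.rename (Fin.castSucc : Fin 2 → Fin 3) G₃ * MvPolynomial.X (2 : Fin 3)
          + MvPolynomial.rename (Fin.castSucc : Fin 2 → Fin 3) G₄)) = 0) ↔
      ∀ i : Fin 2, MvPolynomial.constantCoeff (MvPolynomial.pderiv i G₄) = 0 := by
    constructor
    · rintro ⟨_, h1⟩ i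
      have := h1 (Fin.castSucc i)
      simpa [MvPolynomial.pderiv_mul, MvPolynomial.pderiv_pow, MvPolynomial.pderiv_rename hinj,
        hXi, MvPolynomial.constantCoeff_rename] using this
    · intro h1
      refine ⟨by simp [MvPolynomial.constantCoeff_rename, hc4], fun j => ?_⟩
      induction j using Fin.lastCases with
      | last =>
        have h22 : (Fin.last 2 : Fin 3) = 2 := rfl
        rw [h22]
        simp [hlast, MvPolynomial.constantCoeff_rename, hc3]
      | cast i =>
        have := h1 i
        simpa [MvPolynomial.pderiv_mul, MvPolynomial.pderiv_pow, MvPolynomial.pderiv_rename hinj,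
          hXi, MvPolynomial.constantCoeff_rename] using this
  rw [hLHS, hRHS]
  constructor
  · intro h1
    by_cases hc2 : MvPolynomial.constantCoeff G₂ = 0
    · exact Or.inr ⟨hc2, hc3, hc4⟩
    · left
      intro i
      exact (mul_eq_zero.mp (h1 i)).resolve_left hc2
  · rintro (h1 | ⟨hc2, _, _⟩) i
    · rw [h1 i, mul_zero]
    · rw [hc2, zero_mul]

end Groth.Agent.S17414
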