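import Groth.Statements.S1742
import Groth.Agent.H9.RegSpread
import Groth.Agent.H9.RegUnits

set_option autoImplicit false
universe u
open LocCoh

namespace Groth.Agent.S1742


lemma exists_forall₂_of_forall_mem {α β : Type*} (P : α → β → Prop) (l : List α)
    (h : ∀ a ∈ l, ∃ b, P a b) : ∃ l' : List β, List.Forall₂ P l l' := by
  induction l with
  | nil => exact ⟨[], List.Forall₂.nil⟩
  | cons a l ih =>
    obtain ⟨b, hb⟩ := h a (by simp)
    obtain ⟨l', hl'⟩ := ih (fun a' ha' => h a' (by simp [ha']))
    exact ⟨b :: l', List.Forall₂.cons hb hl'⟩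

/-- Let A be a Noetherian ring, I an ideal, M a finite A-module and p a prime containing I such that the
IA_p-depth of M_p is a finite number e. Then there is an open subset U of Spec A meeting V(p) such
that the IA_q-depth of M_q is at least e for every q in U ∩ V(p). -/
theorem result (A : Type u) [CommRing A] [IsNoetherianRing A] (I : Ideal A) (M : Type u) [AddCommGroup M] [Module A M] [Module.Finite A M] (p : PrimeSpectrum A) (hp : I ≤ p.asIdeal) (e : ℕ) (he : LocCoh.idealDepth (I.map (algebraMap A (Localization.AtPrime p.asIdeal))) (LocalizedModule p.asIdeal.primeCompl M) = e) : ∃ U : Set (PrimeSpectrum A), IsOpen U ∧ (U ∩ PrimeSpectrum.zeroLocus (p.asIdeal : Set A)).Nonempty ∧ ∀ q : PrimeSpectrum A, q ∈ U → p ≤ q → (e : ℕ∞) ≤ LocCoh.idealDepth (I.map (algebraMap A (Localization.AtPrime q.asIdeal))) (LocalizedModule q.asIdeal.primeCompl M) := by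
  classical
  set Ap := Localization.AtPrime p.asIdeal
  set Mp := LocalizedModule p.asIdeal.primeCompl M
  set J := I.map (algebraMap A Ap) with hJ
  -- Step 1: a weakly regular sequence of length e in J
  have step1 : ∃ rs : List Ap, RingTheory.Sequence.IsWeaklyRegular Mp rs ∧ (∀ r ∈ rs, r ∈ J) ∧
      rs.length = e := by
    rcases Nat.eq_zero_or_pos e with rfl | hpos
    · exact ⟨[], RingTheory.Sequence.IsWeaklyRegular.nil _ _, by simp, rfl⟩
    · unfold LocCoh.idealDepth at he
      split_ifs at he with htop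
      · exact absurd he (by simp)
      · by_contra hcon
        push Not at hcon
        have hle : (⨆ (rs : List Ap) (_ : RingTheory.Sequence.IsWeaklyRegular Mp rs ∧ ∀ r ∈ rs, r ∈ J),
            (rs.length : ℕ∞)) ≤ ((e - 1 : ℕ) : ℕ∞) := by
          refine iSup₂_le fun rs hrs => ?_
          have h1 : (rs.length : ℕ∞) ≤ e := by
            rw [← he]
            exact le_iSup₂_of_le rs hrs le_rfl
          have h2 : rs.length ≤ e := by exact_mod_cast h1
          have h3 : rs.length ≠ e := hcon rs hrs.1 hrs.2
          have h4 : rs.length ≤ e - 1 := by omega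
          exact_mod_cast h4
        rw [he] at hle
        have : e ≤ e - 1 := by exact_mod_cast hle
        omega
  obtain ⟨rs, hreg, hmem, hlen⟩ := step1
  -- Step 2: descend to elements of I
  have step2 : ∀ r ∈ rs, ∃ a : A, a ∈ I ∧ ∃ u : Apˣ, algebraMap A Ap a = (u : Ap) * r := by
    intro r hr
    obtain ⟨⟨a, s⟩, has⟩ := (IsLocalization.mem_map_algebraMap_iff p.asIdeal.primeCompl Ap).1 (hmem r hr)
    refine ⟨a, a.2, (IsLocalization.map_units Ap s).unit, ?_⟩
    rw [← has, mul_comm]
    rfl
  obtain ⟨as, has⟩ := exists_forall₂_of_forall_mem _ rs step2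
  have hasI : ∀ a ∈ as, a ∈ I := by
    intro a ha
    have h := (List.forall₂_iff_get.1 has).2
    obtain ⟨i, hi, rfl⟩ := List.mem_iff_getElem.1 ha
    have hi' : i < rs.length := by rw [has.length_eq]; exact hi
    exact (h i hi' hi).1
  have hunits : List.Forall₂ (fun r r' => ∃ u : Apˣ, r' = (u : Ap) * r) rs (as.map (algebraMap A Ap)) := by
    rw [List.forall₂_map_right_iff]
    exact has.imp fun r a h => h.2
  have hreg2 : RingTheory.Sequence.IsWeaklyRegular Mp (as.map (algebraMap A Ap)) :=
    Groth.Agent.H9.isWeaklyRegular_of_forall₂_units hunits Mp hreg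
  rw [RingTheory.Sequence.isWeaklyRegular_map_algebraMap_iff] at hreg2
  -- Step 3: spread out
  obtain ⟨f, hfp, Hf⟩ := Groth.Agent.H9.isWeaklyRegular_localizedModule_spread as p.asIdeal M hreg2
  refine ⟨PrimeSpectrum.basicOpen f, (PrimeSpectrum.basicOpen f).isOpen, ⟨p, hfp, ?_⟩, ?_⟩
  · simp [PrimeSpectrum.mem_zeroLocus]
  · intro q hq _
    have hq' : f ∉ q.asIdeal := hq
    have hregq := Hf q.asIdeal hq'
    rw [← RingTheory.Sequence.isWeaklyRegular_map_algebraMap_iff
      (S := Localization.AtPrime q.asIdeal)] at hregq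
    unfold LocCoh.idealDepth
    split_ifs with htop
    · exact le_top
    · refine le_iSup₂_of_le (as.map (algebraMap A (Localization.AtPrime q.asIdeal))) ⟨hregq, ?_⟩ ?_
      · intro r hr
        obtain ⟨a, ha, rfl⟩ := List.mem_map.1 hr
        exact Ideal.mem_map_of_mem _ (hasI a ha)
      · rw [List.length_map, ← has.length_eq, hlen]

end Groth.Agent.S1742
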