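import Groth.Statements.S17444
import Mathlib.Algebra.Polynomial.AlgebraMap
import Mathlib.Algebra.Polynomial.Div
import Mathlib.Algebra.Ring.GeomSum
import Mathlib.RingTheory.Nilpotent.Lemmas

set_option autoImplicit false
universe u v
open SSRed

namespace Groth.Agent.S17444

open Polynomial in
/-- Let K be a field of characteristic zero, V a K-vector space and g a K-linear endomorphism of V such
that g - 1 is nilpotent (a unipotent automorphism). Then for every integer n > 0 the endomorphisms
gⁿ - 1 and g - 1 have the same kernel: a vector fixed by gⁿ is fixed by g. (The published statement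
assumes V finite-dimensional; this row allows any V.) -/
theorem result (K : Type u) (V : Type v) [Field K] [CharZero K]
    [AddCommGroup V] [Module K V] (g : Module.End K V) (hg : IsNilpotent (g - 1)) (n : ℕ) (hn : 0 < n) :
    LinearMap.ker (g ^ n - 1) = LinearMap.ker (g - 1) := by
  classical
  -- q = 1 + X + ... + X^(n-1)
  set q : K[X] := ∑ i ∈ Finset.range n, (X : K[X]) ^ i with hq
  have hq1 : q.eval 1 = (n : K) := by
    simp [hq, Polynomial.eval_finsetSum]
  obtain ⟨r, hr⟩ : (X - C (1 : K)) ∣ q - C (q.eval 1) := Polynomial.X_sub_C_dvd_sub_C_eval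
  have hfac : (X : K[X]) ^ n - 1 = q * (X - C 1) := by
    rw [hq, map_one]
    exact (geom_sum_mul (X : K[X]) n).symm
  -- U = q(g)
  set U : Module.End K V := aeval g q with hU
  have hgn : g ^ n - 1 = U * (g - 1) := by
    have := congrArg (aeval g) hfac
    simpa [hU] using this
  have hUeq : U = algebraMap K (Module.End K V) (n : K) + (g - 1) * aeval g r := by
    have := congrArg (aeval g) hr
    rw [hq1] at this
    simp only [map_sub, map_mul, aeval_X, aeval_C, map_one] at this
    rw [hU]
    rw [sub_eq_iff_eq_add'] at this
    exact this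
  have hnil : IsNilpotent ((g - 1) * aeval g r) := by
    have hc : Commute (g - 1) (aeval g r) := by
      have h1 : g - 1 = aeval g (X - C (1 : K)) := by simp
      rw [h1]
      exact (Commute.all (X - C (1 : K)) r).map (aeval g)
    exact hc.isNilpotent_mul_right hg
  have hunit : IsUnit U := by
    rw [hUeq]
    have hu : IsUnit (algebraMap K (Module.End K V) (n : K)) :=
      (IsUnit.mk0 (n : K) (Nat.cast_ne_zero.mpr hn.ne')).map _
    refine hnil.isUnit_add_left_of_commute hu ?_
    exact (Algebra.commutes _ _).symm
  rw [hgn]
  obtain ⟨u, hu⟩ := hunit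
  ext v
  simp only [LinearMap.mem_ker, Module.End.mul_apply]
  constructor
  · intro h
    have : (u⁻¹ : (Module.End K V)ˣ).1 (U ((g - 1) v)) = 0 := by rw [h]; simp
    rw [← hu] at this
    rw [← Module.End.mul_apply] at this
    simpa using this
  · intro h
    rw [h]; simp

end Groth.Agent.S17444
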