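import Groth.Statements.S17446
import Mathlib.Algebra.Group.Subgroup.Pointwise
import Mathlib.LinearAlgebra.Span.Basic
-- import your own Groth.Agent.* helpers here

set_option autoImplicit false
universe u v
open SSRed

namespace Groth.Agent.S17446

variable {K : Type u} {V : Type v} [Field K] [AddCommGroup V] [Module K V]

/-- the span of all `(h - 1) w` with `h ∈ H`, `w ∈ W`. -/
def D (H : Subgroup (V ≃ₗ[K] V)) (W : Submodule K V) : Submodule K V :=
  Submodule.span K {x | ∃ h ∈ H, ∃ w ∈ W, x = h w - w}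

theorem D_mono (H : Subgroup (V ≃ₗ[K] V)) {W W' : Submodule K V} (h : W ≤ W') : D H W ≤ D H W' := by
  apply Submodule.span_mono
  rintro x ⟨g, hg, w, hw, rfl⟩
  exact ⟨g, hg, w, h hw, rfl⟩

theorem mem_D (H : Subgroup (V ≃ₗ[K] V)) {W : Submodule K V} {g : V ≃ₗ[K] V} (hg : g ∈ H) {w : V}
    (hw : w ∈ W) : g w - w ∈ D H W :=
  Submodule.subset_span ⟨g, hg, w, hw, rfl⟩

theorem D_iter_mono (H : Subgroup (V ≃ₗ[K] V)) (n : ℕ) {W W' : Submodule K V} (h : W ≤ W') :
    (D H)^[n] W ≤ (D H)^[n] W' := by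
  induction n generalizing W W' with
  | zero => exact h
  | succ n ih =>
    rw [Function.iterate_succ_apply, Function.iterate_succ_apply]
    exact ih (D_mono H h)

/-- stability predicate -/
def Stable (H : Subgroup (V ≃ₗ[K] V)) (W : Submodule K V) : Prop := ∀ g ∈ H, ∀ w ∈ W, g w ∈ W

/-- if `G` normalizes `H` and `W` is `G`-stable then `D H W` is `G`-stable. -/
theorem stable_D (G H : Subgroup (V ≃ₗ[K] V)) (hnorm : ∀ g ∈ G, ∀ h ∈ H, g * h * g⁻¹ ∈ H)
    {W : Submodule K V} (hW : Stable G W) : Stable G (D H W) := by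
  intro g hg x hx
  refine Submodule.span_induction ?_ ?_ ?_ ?_ hx
  · rintro x ⟨h, hh, w, hw, rfl⟩
    have : g (h w - w) = (g * h * g⁻¹) (g w) - g w := by
      simp [map_sub, LinearEquiv.mul_apply]
    rw [this]
    exact mem_D H (hnorm g hg h hh) (hW g hg w hw)
  · simp
  · intro x y _ _ hx hy
    rw [map_add]
    exact Submodule.add_mem _ hx hy
  · intro a x _ hx
    rw [map_smul]
    exact Submodule.smul_mem _ a hx

theorem D_le_of_stable (H : Subgroup (V ≃ₗ[K] V)) {W : Submodule K V} (hW : Stable H W) :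
    D H W ≤ W := by
  apply Submodule.span_le.mpr
  rintro x ⟨h, hh, w, hw, rfl⟩
  exact Submodule.sub_mem _ (hW h hh w hw) hw

/-- products applied to vectors lie in the iterated `D`. -/
theorem prod_mem_iter (H : Subgroup (V ≃ₗ[K] V)) (n : ℕ) (f : Fin n → ↥H) (v : V) :
    (List.ofFn fun i => (((f i : ↥H) : V ≃ₗ[K] V) : Module.End K V) - 1).prod v ∈ (D H)^[n] ⊤ := by
  induction n with
  | zero => simp
  | succ n ih =>
    rw [List.ofFn_succ, List.prod_cons, Function.iterate_succ_apply']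
    have h1 := ih (fun i => f i.succ)
    set w := (List.ofFn fun i : Fin n => (((f i.succ : ↥H) : V ≃ₗ[K] V) : Module.End K V) - 1).prod v
      with hw
    have : ((((f 0 : ↥H) : V ≃ₗ[K] V) : Module.End K V) - 1) w = (f 0 : V ≃ₗ[K] V) w - w := by
      simp
    rw [Module.End.mul_apply, this]
    exact mem_D H (f 0).2 h1

/-- the iterated `D` is spanned by products applied to vectors. -/
theorem iter_le_span (H : Subgroup (V ≃ₗ[K] V)) (n : ℕ) :
    (D H)^[n] ⊤ ≤ Submodule.span K {x | ∃ (f : Fin n → ↥H) (v : V),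
      x = (List.ofFn fun i => (((f i : ↥H) : V ≃ₗ[K] V) : Module.End K V) - 1).prod v} := by
  induction n with
  | zero =>
    intro x _
    exact Submodule.subset_span ⟨Fin.elim0, x, by simp⟩
  | succ n ih =>
    rw [Function.iterate_succ_apply']
    refine (D_mono H ih).trans ?_
    apply Submodule.span_le.mpr
    rintro x ⟨h, hh, w, hw, rfl⟩
    refine Submodule.span_induction ?_ ?_ ?_ ?_ hw
    · rintro w ⟨f, v, rfl⟩
      refine Submodule.subset_span ⟨Fin.cons ⟨h, hh⟩ f, v, ?_⟩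
      rw [List.ofFn_succ, List.prod_cons, Module.End.mul_apply]
      simp
    · simp
    · intro x y _ _ hx hy
      have : h (x + y) - (x + y) = (h x - x) + (h y - y) := by rw [map_add]; abel
      rw [this]
      exact Submodule.add_mem _ hx hy
    · intro a x _ hx
      have : h (a • x) - a • x = a • (h x - x) := by rw [map_smul, smul_sub]
      rw [this]
      exact Submodule.smul_mem _ a hx

theorem unip_iff (H : Subgroup (V ≃ₗ[K] V)) (n : ℕ) :
    (∀ f : Fin n → ↥H,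
      (List.ofFn fun i => (((f i : ↥H) : V ≃ₗ[K] V) : Module.End K V) - 1).prod = 0) ↔
      (D H)^[n] ⊤ = ⊥ := by
  constructor
  · intro h
    rw [eq_bot_iff]
    refine (iter_le_span H n).trans ?_
    apply Submodule.span_le.mpr
    rintro x ⟨f, v, rfl⟩
    rw [h f]
    simp
  · intro h f
    ext v
    have := prod_mem_iter H n f v
    rw [h] at this
    simpa using this

theorem stable_top (G : Subgroup (V ≃ₗ[K] V)) : Stable G (⊤ : Submodule K V) :=
  fun _ _ _ _ => Submodule.mem_top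

theorem stable_iter (G H : Subgroup (V ≃ₗ[K] V)) (hnorm : ∀ g ∈ G, ∀ h ∈ H, g * h * g⁻¹ ∈ H)
    {W : Submodule K V} (hW : Stable G W) (j : ℕ) : Stable G ((D H)^[j] W) := by
  induction j with
  | zero => exact hW
  | succ j ih =>
    rw [Function.iterate_succ_apply']
    exact stable_D G H hnorm ih

theorem self_norm (H : Subgroup (V ≃ₗ[K] V)) : ∀ g ∈ H, ∀ h ∈ H, g * h * g⁻¹ ∈ H :=
  fun _ hg _ hh => H.mul_mem (H.mul_mem hg hh) (H.inv_mem hg)

theorem iter_le_of_stable (H : Subgroup (V ≃ₗ[K] V)) {W : Submodule K V} (hW : Stable H W) (i : ℕ) :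
    (D H)^[i] W ≤ W := by
  induction i with
  | zero => exact le_rfl
  | succ i ih =>
    rw [Function.iterate_succ_apply']
    exact (D_mono H ih).trans (D_le_of_stable H hW)

theorem step (H₁ H₂ : Subgroup (V ≃ₗ[K] V)) (hnorm : ∀ g ∈ H₂, ∀ h ∈ H₁, g * h * g⁻¹ ∈ H₁)
    {W B X : Submodule K V} (hW : Stable H₂ W) (hB : Stable H₂ B) (hDW : D H₁ W ≤ B)
    (hBW : B ≤ W) (hXW : X ≤ W) :
    D (H₁ ⊔ H₂) (X ⊔ B) ≤ D H₂ X ⊔ B := by
  have hLE : H₂ ≤ Subgroup.normalizer (H₁ : Set (V ≃ₗ[K] V)) := Subgroup.le_normalizer_iff.mpr hnorm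
  have hcoe := Subgroup.coe_mul_of_right_le_normalizer_left H₁ H₂ hLE
  apply Submodule.span_le.mpr
  rintro x ⟨g, hg, w, hw, rfl⟩
  have hg' : g ∈ ((H₁ ⊔ H₂ : Subgroup (V ≃ₗ[K] V)) : Set (V ≃ₗ[K] V)) := hg
  rw [hcoe] at hg'
  obtain ⟨a, ha, b, hb, rfl⟩ := hg'
  obtain ⟨x, hx, y, hy, rfl⟩ := Submodule.mem_sup.mp hw
  have hbw : b (x + y) ∈ W := hW b hb _ (Submodule.add_mem _ (hXW hx) (hBW hy))
  have h1 : a (b (x + y)) - b (x + y) ∈ B := hDW (mem_D H₁ ha hbw)
  have h2 : b x - x ∈ D H₂ X := mem_D H₂ hb hx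
  have h3 : b y - y ∈ B := Submodule.sub_mem _ (hB b hb y hy) hy
  have : (a * b) (x + y) - (x + y) =
      (b x - x) + ((a (b (x + y)) - b (x + y)) + (b y - y)) := by
    rw [LinearEquiv.mul_apply, map_add]
    abel
  rw [SetLike.mem_coe, this]
  exact Submodule.add_mem _ (Submodule.mem_sup_left h2)
    (Submodule.mem_sup_right (Submodule.add_mem _ h1 h3))

theorem main (H₁ H₂ : Subgroup (V ≃ₗ[K] V)) (hnorm : ∀ g ∈ H₂, ∀ h ∈ H₁, g * h * g⁻¹ ∈ H₁)
    (n₁ n₂ : ℕ) (h1 : (D H₁)^[n₁] ⊤ = ⊥) (h2 : (D H₂)^[n₂] ⊤ = ⊥) :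
    (D (H₁ ⊔ H₂))^[n₁ * n₂] ⊤ = ⊥ := by
  -- the H₁-filtration is stable under H₂ and H₁
  have hA2 : ∀ j, Stable H₂ ((D H₁)^[j] ⊤) := fun j => stable_iter H₂ H₁ hnorm (stable_top H₂) j
  have hA1 : ∀ j, Stable H₁ ((D H₁)^[j] ⊤) :=
    fun j => stable_iter H₁ H₁ (self_norm H₁) (stable_top H₁) j
  have hAsucc : ∀ j, (D H₁)^[j + 1] ⊤ ≤ (D H₁)^[j] ⊤ := by
    intro j
    rw [Function.iterate_succ_apply']
    exact D_le_of_stable H₁ (hA1 j)
  -- inner induction
  have inner : ∀ j i, (D (H₁ ⊔ H₂))^[i] ((D H₁)^[j] ⊤) ≤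
      (D H₂)^[i] ((D H₁)^[j] ⊤) ⊔ (D H₁)^[j + 1] ⊤ := by
    intro j i
    induction i with
    | zero => exact le_sup_left
    | succ i ih =>
      rw [Function.iterate_succ_apply', Function.iterate_succ_apply']
      refine (D_mono _ ih).trans ?_
      refine step H₁ H₂ hnorm (hA2 j) (hA2 (j + 1)) ?_ (hAsucc j) (iter_le_of_stable H₂ (hA2 j) i)
      rw [Function.iterate_succ_apply']
  have inner' : ∀ j, (D (H₁ ⊔ H₂))^[n₂] ((D H₁)^[j] ⊤) ≤ (D H₁)^[j + 1] ⊤ := by
    intro j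
    refine (inner j n₂).trans (sup_le ?_ le_rfl)
    have := D_iter_mono H₂ n₂ (le_top : (D H₁)^[j] ⊤ ≤ ⊤)
    rw [h2] at this
    exact this.trans bot_le
  have outer : ∀ j, (D (H₁ ⊔ H₂))^[j * n₂] ⊤ ≤ (D H₁)^[j] ⊤ := by
    intro j
    induction j with
    | zero => simp
    | succ j ih =>
      rw [Nat.succ_mul, Nat.add_comm, Function.iterate_add_apply]
      exact (D_iter_mono _ n₂ ih).trans (inner' j)
  rw [eq_bot_iff, ← h1]
  exact outer n₁

/-- Let K be a field, V a finite-dimensional K-vector space and H₁, H₂ subgroups of the group of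
K-linear automorphisms of V such that H₂ normalizes H₁. Call the action of a subgroup H unipotent
when, for some n, every product (h₁ - 1)(h₂ - 1)⋯(hₙ - 1) with all hᵢ in H is the zero endomorphism
(equivalently, V has an H-stable flag on whose successive quotients H acts trivially). If H₁ and H₂
act unipotently, then the subgroup generated by H₁ and H₂ acts unipotently. (In the published result
H₁ and H₂ are the absolute Galois groups of two finite Galois extensions of a strictly henselian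
discretely valued field over which an abelian variety becomes semistable, acting on its rational
ℓ-adic Tate module, and the conclusion is semistability over the intersection of the two fields; the
printed argument uses only that H₂ normalizes H₁.) -/
theorem result (K : Type u) (V : Type v) [Field K]
    [AddCommGroup V] [Module K V] [FiniteDimensional K V]
    (H₁ H₂ : Subgroup (V ≃ₗ[K] V)) (hnorm : ∀ g ∈ H₂, ∀ h ∈ H₁, g * h * g⁻¹ ∈ H₁)
    (h₁ : ∃ n : ℕ, ∀ f : Fin n → ↥H₁,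
      (List.ofFn fun i => (((f i : ↥H₁) : V ≃ₗ[K] V) : Module.End K V) - 1).prod = 0)
    (h₂ : ∃ n : ℕ, ∀ f : Fin n → ↥H₂,
      (List.ofFn fun i => (((f i : ↥H₂) : V ≃ₗ[K] V) : Module.End K V) - 1).prod = 0) :
    ∃ n : ℕ, ∀ f : Fin n → ↥(H₁ ⊔ H₂),
      (List.ofFn fun i => (((f i : ↥(H₁ ⊔ H₂)) : V ≃ₗ[K] V) : Module.End K V) - 1).prod = 0 := by
  obtain ⟨n₁, hn₁⟩ := h₁
  obtain ⟨n₂, hn₂⟩ := h₂
  refine ⟨n₁ * n₂, ?_⟩
  rw [unip_iff] at hn₁ hn₂ ⊢
  exact main H₁ H₂ hnorm n₁ n₂ hn₁ hn₂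

end Groth.Agent.S17446
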