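import Groth.Statements.S1745
import Groth.Agent.H9.InjBCLocal
import Groth.Agent.H2.InjDecomp
import Groth.Agent.H2.InjIndec
import Mathlib.LinearAlgebra.DirectSum.TensorProduct

set_option autoImplicit false
universe u
open scoped TensorProduct
open InjHull

namespace Groth.Agent.S1745

/-- Let A → B be a flat homomorphism of Noetherian rings such that for every prime q of B with
contraction p, the ideal p B_q equals the maximal ideal q B_q of B_q (for instance an étale map).
Then for every injective A-module I the B-module B ⊗_A I is injective. -/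
theorem result (A B : Type u) [CommRing A] [CommRing B] [Algebra A B] [IsNoetherianRing A] [IsNoetherianRing B] [Module.Flat A B] (h : ∀ q : PrimeSpectrum B, Ideal.map (algebraMap B (Localization.AtPrime q.asIdeal)) ((q.asIdeal.comap (algebraMap A B)).map (algebraMap A B)) = IsLocalRing.maximalIdeal (Localization.AtPrime q.asIdeal)) (I : Type u) [AddCommGroup I] [Module A I] [Module.Injective A I] : Module.Injective B (B ⊗[A] I) := by
  classical
  obtain ⟨S, hSind, hSsup, hS⟩ :=
    Groth.Agent.H2.exists_isInternal_indecomposable (R := A) (I := I) inferInstance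
  have hind : iSupIndep ((↑) : S → Submodule A I) := (sSupIndep_iff S).mp hSind
  have hinternal : DirectSum.IsInternal (fun E : S => (E : Submodule A I)) := by
    rw [DirectSum.isInternal_submodule_iff_iSupIndep_and_iSup_eq_top]
    exact ⟨hind, by rw [← sSup_eq_iSup']; exact hSsup⟩
  let e0 : (DirectSum S fun E => ↥(E : Submodule A I)) ≃ₗ[A] I :=
    LinearEquiv.ofBijective (DirectSum.coeLinearMap fun E : S => (E : Submodule A I)) hinternal
  let e1 : B ⊗[A] I ≃ₗ[B] B ⊗[A] (DirectSum S fun E => ↥(E : Submodule A I)) :=
    TensorProduct.AlgebraTensorModule.congr (LinearEquiv.refl B B) e0.symm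
  let e2 : B ⊗[A] (DirectSum S fun E => ↥(E : Submodule A I)) ≃ₗ[B]
      DirectSum S fun E => B ⊗[A] ↥(E : Submodule A I) :=
    TensorProduct.directSumRight A B B (fun E : S => ↥(E : Submodule A I))
  have hpiece : ∀ E : S, Module.Injective B (B ⊗[A] ↥(E : Submodule A I)) := by
    intro E
    obtain ⟨hE, hinj⟩ := hS E.1 E.2
    have hnt : Nontrivial ↥(E : Submodule A I) := hE.1
    obtain ⟨p, hp⟩ := associatedPrimes.nonempty A ↥(E : Submodule A I)
    obtain ⟨hprime, f, hf⟩ :=
      (isAssociatedPrime_iff_exists_injective_linearMap p ↥(E : Submodule A I)).mp hp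
    have := hprime
    have hnt' : Nontrivial (A ⧸ p) := Ideal.Quotient.nontrivial_iff.mpr hprime.ne_top
    have hhull := Groth.Agent.H2.isInjectiveHull_of_isIndecomposable hE hinj f hf
    exact Groth.Agent.H9.InjBC.injective_tensor_of_isInjectiveHull p f hhull h
  have hsum : Module.Injective B (DirectSum S fun E => B ⊗[A] ↥(E : Submodule A I)) :=
    Groth.Agent.H2.injective_directSum (fun E : S => B ⊗[A] ↥(E : Submodule A I)) hpiece
  exact Groth.Agent.H2.MatlisBaseChange.injective_of_linearEquiv (e1.trans e2).symm hsum

end Groth.Agent.S1745
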