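import Groth.Statements.S17468
import Groth.Agent.H87.Sl2
import Mathlib.Algebra.DirectSum.LinearMap
import Mathlib.Algebra.BigOperators.Fin
import Mathlib.Data.Nat.Factorial.Basic
import Mathlib.Data.Nat.Choose.Basic
-- import your own Groth.Agent.* helpers here

set_option autoImplicit false
universe u v w
open LieRep

namespace Groth.Agent.S17468

theorem six_mul_choose (n : ℕ) : 6 * (n + 2).choose 3 = n * (n + 1) * (n + 2) := by
  have := Nat.descFactorial_eq_factorial_mul_choose (n + 2) 3
  simp only [Nat.descFactorial, Nat.factorial] at this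
  norm_num at this
  linarith [this]

theorem sum_sq_aux {k : Type*} [CommRing k] (c : k) (m : ℕ) :
    3 * ∑ i ∈ Finset.range m, (c - 2 * (i : k)) ^ 2 =
      (m : k) * (3 * c ^ 2 - 6 * c * ((m : k) - 1) + 2 * ((m : k) - 1) * (2 * (m : k) - 1)) := by
  induction m with
  | zero => simp
  | succ m ih =>
    rw [Finset.sum_range_succ, mul_add, ih]
    push_cast
    ring

theorem sum_sq {k : Type*} [Field k] [CharZero k] (n : ℕ) :
    ∑ i : Fin (n + 1), ((n : k) - 2 * ((i : ℕ) : k)) ^ 2 = 2 * (((n + 2).choose 3 : ℕ) : k) := by
  rw [Fin.sum_univ_eq_sum_range (fun i : ℕ => ((n : k) - 2 * (i : k)) ^ 2) (n + 1)]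
  have h3 : (3 : k) ≠ 0 := by norm_num
  apply mul_left_cancel₀ h3
  rw [sum_sq_aux]
  have h6 : ((6 * (n + 2).choose 3 : ℕ) : k) = ((n * (n + 1) * (n + 2) : ℕ) : k) := by
    rw [six_mul_choose]
  push_cast at h6
  have : (3 : k) * (2 * (((n + 2).choose 3 : ℕ) : k)) = 6 * (((n + 2).choose 3 : ℕ) : k) := by ring
  rw [this, h6]
  push_cast
  ring

/-- Let k be an algebraically closed field of characteristic zero, L a Lie algebra over k spanned by an
sl_2-triple (h, e, f), and V a finite-dimensional L-module written as an internal direct sum of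
finitely many irreducible Lie submodules V_i. Then the trace on V of the square of the action of h
is 2 Σ_i C(dim V_i + 1, 3). (The published statement concerns a finite-dimensional representation V
of a simple Lie algebra restricted to the copy of sl_2 attached to the highest root θ, with h the
coroot θ^∨; there Σ_i C(dim V_i + 1, 3) is the index of V, and the trace is the sum over the weights
λ of V, with multiplicity, of ⟨λ, θ^∨⟩².) -/
theorem result
    (k : Type u) [Field k] [IsAlgClosed k] [CharZero k]
    (L : Type v) [LieRing L] [LieAlgebra k L]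
    (h e f : L) (t : IsSl2Triple h e f) (hspan : t.toLieSubalgebra k = ⊤)
    (V : Type w) [AddCommGroup V] [Module k V] [LieRingModule L V] [LieModule k L V]
    [FiniteDimensional k V]
    (ι : Type) [Fintype ι] [DecidableEq ι] (W : ι → LieSubmodule k L V)
    (hW : DirectSum.IsInternal fun i => (W i).toSubmodule)
    (hirr : ∀ i, LieModule.IsIrreducible k L (W i)) :
    LinearMap.trace k V ((LieModule.toEnd k L V h) ^ 2) =
      2 * ∑ i, (((Module.finrank k (W i) + 1).choose 3 : ℕ) : k) := by
  classical
  have hmaps : ∀ i, Set.MapsTo (⇑((LieModule.toEnd k L V h) ^ 2 : Module.End k V))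
      ((W i).toSubmodule : Set V) ((W i).toSubmodule : Set V) := by
    intro i x hx
    have h2 : ((LieModule.toEnd k L V h) ^ 2 : Module.End k V) x = ⁅h, ⁅h, x⁆⁆ := by
      rw [pow_two, Module.End.mul_apply, LieModule.toEnd_apply_apply, LieModule.toEnd_apply_apply]
    rw [h2]
    exact (W i).lie_mem ((W i).lie_mem hx)
  rw [LinearMap.trace_eq_sum_trace_restrict hW hmaps, Finset.mul_sum]
  refine Finset.sum_congr rfl fun i _ => ?_
  have hres : ((LieModule.toEnd k L V h) ^ 2 : Module.End k V).restrict (hmaps i) =
      (LieModule.toEnd k L (W i) h) ^ 2 := by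
    ext x
    simp only [pow_two, LinearMap.coe_restrict_apply, Module.End.mul_apply,
      LieModule.toEnd_apply_apply]
    rfl
  rw [hres]
  have := hirr i
  obtain ⟨n, hfin, htr⟩ := Groth.Agent.H87.exists_trace_sl2 k L t hspan (W i)
  refine Eq.trans htr ?_
  rw [hfin, sum_sq]

end Groth.Agent.S17468
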