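import Groth.Statements.S17471
import Mathlib.LinearAlgebra.RootSystem.Finite.Lemmas
-- import your own Groth.Agent.* helpers here

set_option autoImplicit false
universe u v w x
open RootCh

namespace Groth.Agent.S17471

/-- key lemma: for a positive root `i ≠ θ`, `⟨i, θ^∨⟩ ∈ {0, 1}` when `θ` is highest. -/
theorem key
    {ι : Type u} {R : Type v} {M : Type w} {N : Type x}
    [Field R] [LinearOrder R] [IsStrictOrderedRing R]
    [AddCommGroup M] [Module R M] [AddCommGroup N] [Module R N] [Fintype ι]
    (P : RootPairing ι R M N) [P.IsRootSystem] [P.IsCrystallographic] [P.IsReduced]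
    (b : P.Base) (θ : ι) (hθ : b.IsPos θ)
    (hmax : ∀ i : ι, b.IsPos i → P.root θ + P.root i ∉ Set.range P.root)
    (i : ι) (hi : b.IsPos i) (hne : i ≠ θ) :
    P.pairingIn ℤ i θ = 0 ∨ P.pairingIn ℤ i θ = 1 := by
  have : Module.IsReflexive R M := .of_isPerfPair P.toLinearMap
  have : IsAddTorsionFree M := .of_isTorsionFree R M
  rw [RootPairing.Base.isPos_iff] at hi hθ
  by_contra hcon
  have hcases : P.pairingIn ℤ i θ < 0 ∨ 2 ≤ P.pairingIn ℤ i θ := by omega
  rcases hcases with hneg | hge
  · -- obtuse: the sum is a root
    have hne' : P.root i ≠ -P.root θ := by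
      intro h
      have hθ' : P.root θ = P.root θ - P.root i + P.root i := by abel
      have h0 : P.root θ + P.root i = 0 := by rw [h]; abel
      -- heights: contradiction via nonexistent zero root is awkward; use height of reflection
      let _i := P.indexNeg
      have h1 : i = -θ := by
        apply P.root.injective
        rw [h]
        simp
      have h2 := b.height_reflectionPerm_self θ
      rw [← h1] at h2
      omega
    have hmem := P.root_add_root_mem_of_pairingIn_neg hneg hne'
    rw [add_comm] at hmem
    exact hmax i (by rwa [RootPairing.Base.isPos_iff]) hmem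
  · -- `p ≥ 2`
    obtain ⟨k, hk⟩ := P.root_sub_root_mem_of_pairingIn_pos (i := i) (j := θ) (by omega) hne
    have hik : P.root i = P.root k + P.root θ := by rw [hk]; abel
    have hpk : P.pairingIn ℤ i θ = P.pairingIn ℤ k θ + 2 := by
      rw [RootPairing.pairingIn_eq_add_of_root_eq_add hik, P.pairingIn_same]
    have hhk : b.height k = b.height i - b.height θ := b.height_sub hk
    have hk0 := b.height_ne_zero k
    by_cases hkpos : 0 < b.height k
    · apply hmax k hkpos
      exact ⟨i, by rw [hik]; abel⟩
    · -- `θ - i` is a positive root and `2θ - i` is a root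
      have hmem2 : P.root i - (2 : ℤ) • P.root θ ∈ Set.range P.root := by
        by_cases hp2 : P.pairingIn ℤ i θ = 2
        · refine ⟨P.reflectionPerm θ i, ?_⟩
          rw [P.root_reflectionPerm, P.reflection_apply_root' ℤ, hp2]
        · have hkθ : k ≠ θ := by
            rintro rfl
            have h2 : P.root i = (2 : ℕ) • P.root k := by rw [hik]; simp [two_smul]
            exact P.nsmul_notMem_range_root (n := 2) (i := k) ⟨i, h2⟩
          obtain ⟨l, hl⟩ := P.root_sub_root_mem_of_pairingIn_pos (i := k) (j := θ) (by omega) hkθ
          refine ⟨l, ?_⟩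
          rw [hl, hk, two_smul]
          abel
      obtain ⟨j, hj⟩ := P.neg_mem_range_root_iff.mpr ⟨k, rfl⟩
      have hjθ : P.root j = P.root θ - P.root i := by rw [hj, hk]; abel
      have hhj : b.height j = b.height θ - b.height i := b.height_sub hjθ
      apply hmax j (by rw [RootPairing.Base.isPos_iff]; omega)
      rw [← P.neg_mem_range_root_iff]
      convert hmem2 using 1
      rw [hjθ, two_smul]
      abel

/-- Let Φ be a finite, reduced, crystallographic, irreducible root system with a base, and θ a positive
root such that θ + β is a root for no positive root β (so θ is the highest root). Then Σ_{β>0} ⟨β,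
θ^∨⟩² = 2 + Σ_{β>0} ⟨β, θ^∨⟩ = 2(1 + ⟨ρ, θ^∨⟩), ρ being half the sum of the positive roots; in the
source the left side is the index of the adjoint representation obtained from its formal character,
and 1 + ⟨ρ, θ^∨⟩ is the dual Coxeter number. -/
theorem result
    {ι : Type u} {R : Type v} {M : Type w} {N : Type x}
    [Field R] [LinearOrder R] [IsStrictOrderedRing R]
    [AddCommGroup M] [Module R M] [AddCommGroup N] [Module R N] [Fintype ι]
    (P : RootPairing ι R M N) [P.IsRootSystem] [P.IsCrystallographic] [P.IsReduced]
    [P.IsIrreducible] (b : P.Base) (θ : ι) (hθ : b.IsPos θ)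
    (hmax : ∀ i : ι, b.IsPos i → P.root θ + P.root i ∉ Set.range P.root) :
    ∑ i ∈ Finset.univ.filter (fun i => 0 < b.height i), P.pairing i θ ^ 2 =
      2 + ∑ i ∈ Finset.univ.filter (fun i => 0 < b.height i), P.pairing i θ := by
  classical
  have hθmem : θ ∈ Finset.univ.filter (fun i => 0 < b.height i) := by
    simp only [Finset.mem_filter, Finset.mem_univ, true_and]
    exact hθ
  rw [← Finset.add_sum_erase _ _ hθmem, ← Finset.add_sum_erase _ (fun i => P.pairing i θ) hθmem]
  have hsum : ∑ i ∈ (Finset.univ.filter (fun i => 0 < b.height i)).erase θ, P.pairing i θ ^ 2 =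
      ∑ i ∈ (Finset.univ.filter (fun i => 0 < b.height i)).erase θ, P.pairing i θ := by
    refine Finset.sum_congr rfl fun i hi => ?_
    rw [Finset.mem_erase, Finset.mem_filter] at hi
    have h := key P b θ hθ hmax i hi.2.2 hi.1
    rw [← P.algebraMap_pairingIn ℤ]
    rcases h with h | h <;> simp [h]
  rw [hsum, P.pairing_same]
  ring

end Groth.Agent.S17471
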