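import Groth.Statements.S1748
import Groth.Agent.H9.PolyInjRes
import Groth.Agent.H9.InjAmpSES
import Groth.Agent.H2.InjNoeth

set_option autoImplicit false
universe u
open CategoryTheory
open scoped TensorProduct Polynomial
attribute [local instance] HasDerivedCategory.standard
open InjHull

namespace Groth.Agent.S1748

/-- Let A be a Noetherian ring and E an injective A-module. Then A[x] ⊗_A E, as an object of D(A[x]) in
degree 0, has injective amplitude in [0, 1]: it is quasi-isomorphic to a complex of injective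
A[x]-modules concentrated in degrees 0 and 1. In particular it has finite injective dimension. -/
theorem result (A : Type u) [CommRing A] [IsNoetherianRing A] (E : Type u) [AddCommGroup E] [Module A E] [Module.Injective A E] : DRing.HasInjAmplitudeIn A[X] 0 1 (Dual.inD A[X] (A[X] ⊗[A] E)) := by
  classical
  -- `A[X] ⊗ E` is a direct sum of copies of `E`, hence injective over `A`
  let e1 : A[X] ⊗[A] E ≃ₗ[A] (ℕ →₀ A) ⊗[A] E :=
    TensorProduct.congr (Polynomial.basisMonomials A).repr (LinearEquiv.refl A E)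
  let e2 : (ℕ →₀ A) ⊗[A] E ≃ₗ[A] (ℕ →₀ E) := TensorProduct.finsuppScalarLeft A E ℕ
  let e3 : (ℕ →₀ E) ≃ₗ[A] (ULift.{u} ℕ →₀ E) := Finsupp.domLCongr Equiv.ulift.symm
  let e4 : (ULift.{u} ℕ →₀ E) ≃ₗ[A] DirectSum (ULift.{u} ℕ) (fun _ => E) :=
    finsuppLEquivDirectSum A E (ULift.{u} ℕ)
  have hsum : Module.Injective A (DirectSum (ULift.{u} ℕ) (fun _ => E)) :=
    Groth.Agent.H2.injective_directSum (fun _ : ULift.{u} ℕ => E) (fun _ => inferInstance)
  have hN : Module.Injective A (A[X] ⊗[A] E) :=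
    Groth.Agent.H2.MatlisBaseChange.injective_of_linearEquiv
      (e1.trans (e2.trans (e3.trans e4))).symm hsum
  have hQ : Module.Injective A[X] (Groth.Agent.H9.PolyInjRes.Q A (A[X] ⊗[A] E)) :=
    Groth.Agent.H9.PolyInjRes.injective_Q A (A[X] ⊗[A] E)
  let Nm : ModuleCat.{u} A[X] := ModuleCat.of A[X] (A[X] ⊗[A] E)
  let Qm : ModuleCat.{u} A[X] := ModuleCat.of A[X] (Groth.Agent.H9.PolyInjRes.Q A (A[X] ⊗[A] E))
  let f : Nm ⟶ Qm := ModuleCat.ofHom (Groth.Agent.H9.PolyInjRes.ι A (A[X] ⊗[A] E))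
  let g : Qm ⟶ Qm := ModuleCat.ofHom (Groth.Agent.H9.PolyInjRes.ψ A (A[X] ⊗[A] E))
  have hfg : f ≫ g = 0 := by
    apply ModuleCat.hom_ext
    apply LinearMap.ext
    intro x
    exact Groth.Agent.H9.PolyInjRes.ψ_ι A (A[X] ⊗[A] E) x
  let S : ShortComplex (ModuleCat.{u} A[X]) := ShortComplex.mk f g hfg
  have hS : S.ShortExact := by
    refine { exact := ?_, mono_f := ?_, epi_g := ?_ }
    · rw [ShortComplex.moduleCat_exact_iff]
      intro q hq
      exact Groth.Agent.H9.PolyInjRes.exists_of_ψ_eq_zero A (A[X] ⊗[A] E) q hq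
    · exact (ModuleCat.mono_iff_injective _).mpr
        (Groth.Agent.H9.PolyInjRes.ι_injective A (A[X] ⊗[A] E))
    · exact (ModuleCat.epi_iff_surjective _).mpr
        (Groth.Agent.H9.PolyInjRes.ψ_surjective A (A[X] ⊗[A] E))
  exact Groth.Agent.H9.InjAmpSES.hasInjAmplitudeIn_of_shortExact S hS hQ hQ

end Groth.Agent.S1748
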