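import Groth.Statements.S17487
import Mathlib.Algebra.Homology.DerivedCategory.Ext.ExactSequences
import Mathlib.CategoryTheory.Preadditive.Biproducts
-- import your own Groth.Agent.* helpers here

set_option autoImplicit false
universe u
open CategoryTheory CategoryTheory.Limits AlgebraicGeometry
open Coherent

namespace Groth.Agent.S17487

section general

universe w v' u'

variable {C : Type u'} [Category.{v'} C] [Abelian C] [HasExt.{w} C]

open Abelian

theorem subsingleton_of_iso_left {X X' Y : C} {n : ℕ} (e : X ≅ X')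
    (h : Subsingleton (Ext X' Y n)) : Subsingleton (Ext X Y n) := by
  refine ⟨fun x y => ?_⟩
  have key : ∀ z : Ext X Y n, z = 0 := by
    intro z
    have h1 : z = (Ext.mk₀ e.hom).comp ((Ext.mk₀ e.inv).comp z (zero_add n)) (zero_add n) := by
      rw [Ext.mk₀_comp_mk₀_assoc, e.hom_inv_id, Ext.mk₀_id_comp]
    rw [h1, Subsingleton.elim ((Ext.mk₀ e.inv).comp z (zero_add n)) 0, Ext.comp_zero]
  rw [key x, key y]

theorem subsingleton_of_iso_right {X Y Y' : C} {n : ℕ} (e : Y ≅ Y')
    (h : Subsingleton (Ext X Y' n)) : Subsingleton (Ext X Y n) := by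
  refine ⟨fun x y => ?_⟩
  have key : ∀ z : Ext X Y n, z = 0 := by
    intro z
    have h1 : z = (z.comp (Ext.mk₀ e.hom) (add_zero n)).comp (Ext.mk₀ e.inv) (add_zero n) := by
      rw [Ext.comp_assoc_of_second_deg_zero, Ext.mk₀_comp_mk₀, e.hom_inv_id, Ext.comp_mk₀_id]
    rw [h1, Subsingleton.elim (z.comp (Ext.mk₀ e.hom) (add_zero n)) 0, Ext.zero_comp]
  rw [key x, key y]

theorem subsingleton_sigma_left {m : ℕ} (f : Fin m → C) (Y : C) (n : ℕ)
    (h : ∀ t, Subsingleton (Ext (f t) Y n)) : Subsingleton (Ext (∐ f) Y n) := by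
  have hc := biconeIsBilimitOfColimitCoconeOfIsColimit (coproductIsCoproduct f)
  have e := Ext.biproductAddEquiv hc Y n
  exact e.toEquiv.subsingleton

theorem subsingleton_sigma_right {m : ℕ} (X : C) (f : Fin m → C) (n : ℕ)
    (h : ∀ t, Subsingleton (Ext X (f t) n)) : Subsingleton (Ext X (∐ f) n) := by
  have hc := biconeIsBilimitOfColimitCoconeOfIsColimit (coproductIsCoproduct f)
  have e := Ext.addEquivBiproduct X hc n
  exact e.toEquiv.subsingleton

theorem general (n d : ℕ) (E : Fin n → C)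
    (hexc : ∀ i j : Fin n, j < i → ∀ p : ℕ, Subsingleton (Abelian.Ext (E i) (E j) p))
    (hstr : ∀ (i j : Fin n) (p : ℕ), 1 ≤ p → Subsingleton (Abelian.Ext (E i) (E j) p))
    (S : ShortComplex C) (hS : S.ShortExact)
    (m₁ : ℕ) (c₁ : Fin m₁ → Fin n) (e₁ : S.X₁ ≅ ∐ fun t => E (c₁ t))
    (m₂ : ℕ) (c₂ : Fin m₂ → Fin n) (hc₂ : ∀ t, d ≤ (c₂ t : ℕ)) (e₂ : S.X₂ ≅ ∐ fun t => E (c₂ t)) :
    (∀ (i : Fin n) (p : ℕ), 1 ≤ p → Subsingleton (Abelian.Ext (E i) S.X₃ p)) ∧
      (∀ i : Fin n, (i : ℕ) < d → ∀ p : ℕ, p ≠ 1 → Subsingleton (Abelian.Ext S.X₃ (E i) p)) := by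
  have hX₁r : ∀ (i : Fin n) (p : ℕ), 1 ≤ p → Subsingleton (Ext (E i) S.X₁ p) := fun i p hp =>
    subsingleton_of_iso_right e₁ (subsingleton_sigma_right _ _ _ fun t => hstr i (c₁ t) p hp)
  have hX₂r : ∀ (i : Fin n) (p : ℕ), 1 ≤ p → Subsingleton (Ext (E i) S.X₂ p) := fun i p hp =>
    subsingleton_of_iso_right e₂ (subsingleton_sigma_right _ _ _ fun t => hstr i (c₂ t) p hp)
  have hX₁l : ∀ (i : Fin n) (p : ℕ), 1 ≤ p → Subsingleton (Ext S.X₁ (E i) p) := fun i p hp =>
    subsingleton_of_iso_left e₁ (subsingleton_sigma_left _ _ _ fun t => hstr (c₁ t) i p hp)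
  have hX₂l : ∀ (i : Fin n), (i : ℕ) < d → ∀ (p : ℕ), Subsingleton (Ext S.X₂ (E i) p) :=
    fun i hi p => subsingleton_of_iso_left e₂ (subsingleton_sigma_left _ _ _ fun t =>
      hexc (c₂ t) i (by rw [Fin.lt_def]; have := hc₂ t; omega) p)
  constructor
  · intro i p hp
    refine ⟨fun x y => ?_⟩
    have key : ∀ z : Ext (E i) S.X₃ p, z = 0 := by
      intro z
      have := hX₁r i (p + 1) (by omega)
      obtain ⟨x₂, hx₂⟩ := Ext.covariant_sequence_exact₃ (E i) hS z rfl (Subsingleton.elim _ _)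
      have := hX₂r i p hp
      rw [← hx₂, Subsingleton.elim x₂ 0, Ext.zero_comp]
    rw [key x, key y]
  · intro i hi p hp
    refine ⟨fun x y => ?_⟩
    have := hX₂l i hi p
    rcases Nat.eq_zero_or_pos p with rfl | hpos
    · have : Epi S.g := hS.epi_g
      apply Ext.precomp_mk₀_injective_of_epi (E i) S.g
      exact Subsingleton.elim _ _
    · have key : ∀ z : Ext S.X₃ (E i) p, z = 0 := by
        intro z
        obtain ⟨x₁, hx₁⟩ := Ext.contravariant_sequence_exact₃ hS (E i) z
          (Subsingleton.elim _ _) (n₀ := p - 1) (by omega)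
        have := hX₁l i (p - 1) (by omega)
        rw [← hx₁, Subsingleton.elim x₁ 0, Ext.comp_zero]
      rw [key x, key y]

end general

/-- Let k be an algebraically closed field of characteristic zero and Y a smooth projective variety over
k (an integral scheme, smooth over k, with a closed immersion into some P^n_k over k). Let E_1, …,
E_n be coherent O_Y-modules forming a strong exceptional sequence, expressed through Ext groups in
the category of O_Y-modules (the Ext instance is the stated hypothesis; it holds): End(E_i) is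
one-dimensional over k, Ext^p(E_i, E_j) = 0 for all p when i > j, and Ext^p(E_i, E_j) = 0 for all i,
j when p ≥ 1 (indices here run over 0, …, n-1). Let d ≤ n and let 0 → K → M → F → 0 be a short exact
sequence of O_Y-modules in which K is isomorphic to a finite direct sum of copies of members E_i
with i < d and M to a finite direct sum of copies of members E_i with i ≥ d (a two-term resolution
of F by the sequence, split at d). Then Ext^p(E_i, F) = 0 for every i and every p ≥ 1, and Ext^p(F,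
E_i) = 0 for every i < d and every p ≠ 1. (The published criterion also asks that the sequence
generate the derived category, states the first vanishing only for i ≥ d, and adds conditions on
terms of the associated filtration and cofiltration of F, which are not restated here; the
vanishings above follow from the resolution alone.) -/
theorem result
    (k : Type u) [Field k] [IsAlgClosed k] [CharZero k]
    (Y : Scheme.{u}) [Y.Over (Spec (CommRingCat.of k))] [AlgebraicGeometry.IsIntegral Y]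
    [Smooth (Y ↘ Spec (CommRingCat.of k))]
    (hproj : ∃ (N : ℕ) (ι : Y ⟶ CohB1.ProjSpace N k), IsClosedImmersion ι ∧
      ι ≫ CohB1.ProjSpace.toSpec N k = (Y ↘ (Spec (CommRingCat.of k))))
    [HasExt.{u} Y.Modules]
    (n d : ℕ) (hdn : d ≤ n) (E : Fin n → Y.Modules) (hEcoh : ∀ i, Coh.IsCoh (E i))
    (hend : ∀ i, Module.finrank k (E i ⟶ E i) = 1)
    (hexc : ∀ i j : Fin n, j < i → ∀ p : ℕ, Subsingleton (Abelian.Ext (E i) (E j) p))
    (hstr : ∀ (i j : Fin n) (p : ℕ), 1 ≤ p → Subsingleton (Abelian.Ext (E i) (E j) p))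
    (S : ShortComplex Y.Modules) (hS : S.ShortExact)
    (m₁ : ℕ) (c₁ : Fin m₁ → Fin n) (hc₁ : ∀ t, (c₁ t : ℕ) < d) (e₁ : S.X₁ ≅ ∐ fun t => E (c₁ t))
    (m₂ : ℕ) (c₂ : Fin m₂ → Fin n) (hc₂ : ∀ t, d ≤ (c₂ t : ℕ)) (e₂ : S.X₂ ≅ ∐ fun t => E (c₂ t)) :
    (∀ (i : Fin n) (p : ℕ), 1 ≤ p → Subsingleton (Abelian.Ext (E i) S.X₃ p)) ∧
      (∀ i : Fin n, (i : ℕ) < d → ∀ p : ℕ, p ≠ 1 → Subsingleton (Abelian.Ext S.X₃ (E i) p)) := by
  exact general n d E hexc hstr S hS m₁ c₁ e₁ m₂ c₂ hc₂ e₂

end Groth.Agent.S17487
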