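import Groth.Statements.S1750
import Groth.Agent.H9.InjHullLocal

set_option autoImplicit false
universe u
open InjHull

namespace Groth.Agent.S1750

/-- Let R → S be a flat local homomorphism of Noetherian local rings with m_R S = m_S inducing a
bijection on residue fields. If κ_S → E is an injective hull of the residue field of S over S, then
E regarded as an R-module is an injective hull of the residue field of R (for a suitable R-linear
map κ_R → E). -/
theorem result (R S : Type u) [CommRing R] [CommRing S] [IsLocalRing R] [IsLocalRing S] [IsNoetherianRing R] [IsNoetherianRing S] [Algebra R S] [IsLocalHom (algebraMap R S)] [Module.Flat R S] (hm : (IsLocalRing.maximalIdeal R).map (algebraMap R S) = IsLocalRing.maximalIdeal S) (hk : Function.Bijective (IsLocalRing.ResidueField.map (algebraMap R S))) (E : Type u) [AddCommGroup E] [Module S E] [Module R E] [IsScalarTower R S E] (f : IsLocalRing.ResidueField S →ₗ[S] E) (hf : InjHull.IsInjectiveHull f) : ∃ g : IsLocalRing.ResidueField R →ₗ[R] E, InjHull.IsInjectiveHull g := by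
  classical
  have hES : Module.Injective S E := hf.isInjective
  have hER : Module.Injective R E := Groth.Agent.H9.injective_of_flat_of_injective (R := R) (S := S)
  -- the map g
  let g : IsLocalRing.ResidueField R →ₗ[R] E :=
    { toFun := fun c => f (IsLocalRing.ResidueField.map (algebraMap R S) c)
      map_add' := fun a b => by simp
      map_smul' := fun r c => by
        simp only [RingHom.id_apply]
        rw [Algebra.smul_def, map_mul, IsLocalRing.ResidueField.algebraMap_eq,
          IsLocalRing.ResidueField.map_residue, ← IsLocalRing.ResidueField.algebraMap_eq,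
          ← Algebra.smul_def, map_smul, algebraMap_smul] }
  have hg_apply : ∀ c, g c = f (IsLocalRing.ResidueField.map (algebraMap R S) c) := fun c => rfl
  refine ⟨g, ⟨⟨?_, ?_⟩, hER⟩⟩
  · intro a b hab
    rw [hg_apply, hg_apply] at hab
    exact hk.1 (hf.injective hab)
  · intro N hN
    obtain ⟨x, hxN, hx0⟩ := (Submodule.ne_bot_iff _).1 hN
    -- x is killed by a power of the maximal ideal of S, hence of R
    obtain ⟨n, hn⟩ := Groth.Agent.H9.isPowerTorsion_of_isEssentialInj f hf.toIsEssentialInj x
    have hex : ∃ k : ℕ, ∀ a ∈ IsLocalRing.maximalIdeal R ^ k, a • x = 0 := by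
      refine ⟨n, fun a ha => ?_⟩
      rw [← algebraMap_smul S a x]
      apply hn
      rw [← hm, ← Ideal.map_pow]
      exact Ideal.mem_map_of_mem _ ha
    let k := Nat.find hex
    have hk0 : k ≠ 0 := by
      intro h0
      have := Nat.find_spec hex
      rw [show Nat.find hex = 0 from h0, pow_zero] at this
      exact hx0 (by simpa using this 1 (by rw [Ideal.one_eq_top]; exact Submodule.mem_top))
    obtain ⟨k', hk'⟩ := Nat.exists_eq_succ_of_ne_zero hk0
    have hk'lt : ¬ ∀ a ∈ IsLocalRing.maximalIdeal R ^ k', a • x = 0 :=
      Nat.find_min hex (by omega)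
    push Not at hk'lt
    obtain ⟨a, ha, hay⟩ := hk'lt
    set y := a • x with hy
    have hyN : y ∈ N := N.smul_mem a hxN
    have hmy : ∀ b ∈ IsLocalRing.maximalIdeal R, b • y = 0 := by
      intro b hb
      rw [hy, smul_smul]
      apply Nat.find_spec hex
      change b * a ∈ IsLocalRing.maximalIdeal R ^ k
      rw [hk', pow_succ']
      exact Ideal.mul_mem_mul hb ha
    have hmSy : ∀ s ∈ IsLocalRing.maximalIdeal S, s • y = 0 := by
      intro s hs
      rw [← hm, Ideal.map] at hs
      induction hs using Submodule.span_induction with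
      | mem s hs =>
        obtain ⟨b, hb, rfl⟩ := hs
        rw [algebraMap_smul]
        exact hmy b hb
      | zero => simp
      | add s t _ _ hs ht => rw [add_smul, hs, ht, add_zero]
      | smul c s _ hs => rw [smul_eq_mul, mul_smul, hs, smul_zero]
    have hspan : Submodule.span S {y} ≠ ⊥ := by
      rw [ne_eq, Submodule.span_singleton_eq_bot]; exact hay
    obtain ⟨z, ⟨hz1, hz2⟩, hz0⟩ := (Submodule.ne_bot_iff _).1 (hf.essential _ hspan)
    obtain ⟨s, rfl⟩ := Submodule.mem_span_singleton.1 hz1
    obtain ⟨c, hc⟩ := hz2
    have hsu : IsUnit s := by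
      by_contra hs
      exact hz0 (hmSy s ((IsLocalRing.mem_maximalIdeal s).2 hs))
    obtain ⟨u, rfl⟩ := hsu
    have hyf : y = f ((↑u⁻¹ : S) • c) := by
      rw [map_smul, hc, smul_smul, Units.inv_mul, one_smul]
    obtain ⟨c', hc'⟩ := hk.2 ((↑u⁻¹ : S) • c)
    rw [Submodule.ne_bot_iff]
    refine ⟨y, ⟨hyN, ⟨c', ?_⟩⟩, hay⟩
    rw [hg_apply, hc', ← hyf]

end Groth.Agent.S1750
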