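import Groth.Statements.S17500
import Mathlib.RingTheory.Flat.EquationalCriterion
import Mathlib.RingTheory.Flat.Tensor
import Mathlib.RingTheory.PrincipalIdealDomain
import Mathlib.Data.ZMod.Units
import Mathlib.RingTheory.Int.Basic
-- import your own Groth.Agent.* helpers here

set_option autoImplicit false
universe u
open TorsMod

namespace Groth.Agent.S17500

theorem pow_n_eq_zero (p n : ℕ) : ((p : ZMod (p ^ n)) ^ n) = 0 := by
  rw [← Nat.cast_pow]
  exact ZMod.natCast_self (p ^ n)

theorem exists_of_mul_eq_zero (p n : ℕ) [hp : Fact p.Prime] {i : ℕ} (hi : i ≤ n) (a : ZMod (p ^ n))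
    (ha : (p : ZMod (p ^ n)) ^ i * a = 0) : ∃ c : ZMod (p ^ n), a = (p : ZMod (p ^ n)) ^ (n - i) * c := by
  have hp0 : 0 < p := hp.out.pos
  have : NeZero (p ^ n) := ⟨(pow_pos hp0 n).ne'⟩
  obtain ⟨a', rfl⟩ := ZMod.natCast_zmod_surjective a
  rw [← Nat.cast_pow, ← Nat.cast_mul, ZMod.natCast_eq_zero_iff] at ha
  have hpn : p ^ n = p ^ i * p ^ (n - i) := by rw [← pow_add]; congr 1; omega
  rw [hpn] at ha
  have hdvd : p ^ (n - i) ∣ a' := (Nat.mul_dvd_mul_iff_left (pow_pos hp0 i)).mp ha
  obtain ⟨c, hc⟩ := hdvd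
  refine ⟨(c : ZMod (p ^ n)), ?_⟩
  rw [hc]
  push_cast
  rfl

theorem exists_unit_mul_pow (p n : ℕ) [hp : Fact p.Prime] (a : ZMod (p ^ n)) :
    ∃ i ≤ n, ∃ u : (ZMod (p ^ n))ˣ, a = (u : ZMod (p ^ n)) * (p : ZMod (p ^ n)) ^ i := by
  have hp0 : 0 < p := hp.out.pos
  have : NeZero (p ^ n) := ⟨(pow_pos hp0 n).ne'⟩
  by_cases ha0 : a = 0
  · exact ⟨n, le_rfl, 1, by rw [ha0, pow_n_eq_zero, mul_zero]⟩
  obtain ⟨a', rfl⟩ := ZMod.natCast_zmod_surjective a
  have ha'0 : a' ≠ 0 := by
    rintro rfl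
    exact ha0 (by simp)
  obtain ⟨e, m, hm, hem⟩ := Nat.exists_eq_pow_mul_and_not_dvd ha'0 p hp.out.ne_one
  have hcop : Nat.Coprime m (p ^ n) :=
    (Nat.Coprime.pow_left n ((Nat.Prime.coprime_iff_not_dvd hp.out).mpr hm)).symm
  have hle : e ≤ n := by
    by_contra hcon
    push Not at hcon
    apply ha0
    rw [hem, ZMod.natCast_eq_zero_iff]
    exact Dvd.dvd.mul_right (pow_dvd_pow p hcon.le) m
  refine ⟨e, hle, ZMod.unitOfCoprime m hcop, ?_⟩
  rw [ZMod.coe_unitOfCoprime, hem]
  push_cast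
  ring

/-- Let p be a prime number, n a natural number and H a module over ℤ/p^nℤ. Then H is flat over ℤ/p^nℤ
if and only if, for every i with 0 ≤ i ≤ n, the kernel of multiplication by p^i on H coincides with
the image of multiplication by p^(n-i) on H. (The published item is phrased for an fppf sheaf of
ℤ/p^nℤ-modules on a scheme; this is the case of a single module, which is the case the argument
treats.) -/
theorem result (p n : ℕ) [Fact p.Prime]
    (H : Type u) [AddCommGroup H] [Module (ZMod (p ^ n)) H] :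
    Module.Flat (ZMod (p ^ n)) H ↔
      ∀ i : ℕ, i ≤ n →
        LinearMap.ker ((p ^ i : ZMod (p ^ n)) • (LinearMap.id : H →ₗ[ZMod (p ^ n)] H)) =
          LinearMap.range ((p ^ (n - i) : ZMod (p ^ n)) • (LinearMap.id : H →ₗ[ZMod (p ^ n)] H)) := by
  constructor
  · intro hflat i hi
    apply le_antisymm
    · intro x hx
      rw [LinearMap.mem_ker, LinearMap.smul_apply, LinearMap.id_apply] at hx
      have hrel : ∑ _j : Fin 1, ((p : ZMod (p ^ n)) ^ i) • x = 0 := by simpa using hx
      obtain ⟨k, a, y, hy, ha⟩ := Module.Flat.isTrivialRelation_of_sum_smul_eq_zero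
        (f := fun _ : Fin 1 => ((p : ZMod (p ^ n)) ^ i)) (x := fun _ : Fin 1 => x) hrel
      have ha' : ∀ j, (p : ZMod (p ^ n)) ^ i * a 0 j = 0 := by
        intro j
        simpa using ha j
      choose c hc using fun j => exists_of_mul_eq_zero p n hi (a 0 j) (ha' j)
      refine ⟨∑ j, c j • y j, ?_⟩
      have hy0 : x = ∑ j, a 0 j • y j := hy 0
      rw [LinearMap.smul_apply, LinearMap.id_apply, Finset.smul_sum]
      conv_rhs => rw [hy0]
      refine Finset.sum_congr rfl fun j _ => ?_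
      rw [hc j, mul_smul]
    · rintro x ⟨y, rfl⟩
      rw [LinearMap.mem_ker]
      simp only [LinearMap.smul_apply, LinearMap.id_apply]
      rw [smul_smul, ← pow_add, show i + (n - i) = n by omega, pow_n_eq_zero, zero_smul]
  · intro hker
    rw [Module.Flat.iff_lift_lsmul_comp_subtype_injective]
    intro I _
    have : IsPrincipalIdealRing (ZMod (p ^ n)) :=
      IsPrincipalIdealRing.of_surjective (Int.castRingHom (ZMod (p ^ n))) ZMod.intCast_surjective
    obtain ⟨a, rfl⟩ := (IsPrincipalIdealRing.principal I).principal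
    have hamem : a ∈ Submodule.span (ZMod (p ^ n)) {a} := Submodule.mem_span_singleton_self a
    have hform : ∀ t : TensorProduct (ZMod (p ^ n)) (Submodule.span (ZMod (p ^ n)) {a}) H,
        ∃ x : H, t = (⟨a, hamem⟩ : Submodule.span (ZMod (p ^ n)) {a}) ⊗ₜ[ZMod (p ^ n)] x := by
      intro t
      induction t using TensorProduct.induction_on with
      | zero => exact ⟨0, by simp⟩
      | tmul r h =>
        obtain ⟨r, hr⟩ := r
        obtain ⟨s, rfl⟩ := Submodule.mem_span_singleton.mp hr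
        refine ⟨s • h, ?_⟩
        rw [← TensorProduct.smul_tmul]
        rfl
      | add t t' ht ht' =>
        obtain ⟨x, rfl⟩ := ht
        obtain ⟨x', rfl⟩ := ht'
        exact ⟨x + x', by rw [TensorProduct.tmul_add]⟩
    rw [injective_iff_map_eq_zero]
    intro t ht
    obtain ⟨x, rfl⟩ := hform t
    rw [TensorProduct.lift.tmul] at ht
    simp only [LinearMap.coe_comp, Function.comp_apply, Submodule.subtype_apply,
      LinearMap.lsmul_apply] at ht
    obtain ⟨i, hi, u, hu⟩ := exists_unit_mul_pow p n a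
    have hx : x ∈ LinearMap.ker ((p ^ i : ZMod (p ^ n)) • (LinearMap.id : H →ₗ[ZMod (p ^ n)] H)) := by
      rw [LinearMap.mem_ker, LinearMap.smul_apply, LinearMap.id_apply]
      have h1 : ((u⁻¹ : (ZMod (p ^ n))ˣ) : ZMod (p ^ n)) • (a • x) = (p : ZMod (p ^ n)) ^ i • x := by
        rw [smul_smul, hu, ← mul_assoc, Units.inv_mul, one_mul]
      rw [← h1, ht, smul_zero]
    rw [hker i hi] at hx
    obtain ⟨y, rfl⟩ := hx
    rw [LinearMap.smul_apply, LinearMap.id_apply, ← TensorProduct.smul_tmul]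
    have h0 : ((p : ZMod (p ^ n)) ^ (n - i)) • (⟨a, hamem⟩ : Submodule.span (ZMod (p ^ n)) {a}) = 0 := by
      apply Subtype.ext
      show (p : ZMod (p ^ n)) ^ (n - i) * a = 0
      rw [hu, mul_left_comm, ← pow_add, show n - i + i = n by omega, pow_n_eq_zero, mul_zero]
    rw [h0, TensorProduct.zero_tmul]

end Groth.Agent.S17500
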