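import Groth.Statements.S17512
import Groth.Agent.H87.Theta2

set_option autoImplicit false
universe u
open ThetaRep

namespace Groth.Agent.S17512

/-- For the group of k-points of a non-degenerate theta group with constant K, let k be an algebraically
closed field and Γ a group given with an injective homomorphism ι from kˣ onto the centre of Γ such
that K = Γ/ι(kˣ) is finite and commutative (all commutators lie in ι(kˣ)) of order prime to the
characteristic exponent of k — the group of k-points of a non-degenerate theta group 1 → G_m → G → K
→ 1 with rank(K) prime to char(k). Subgroups of K correspond to subgroups H of Γ containing ι(kˣ);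
such an H is totally isotropic for the commutator pairing exactly when it is commutative, and its
orthogonal corresponds to the centralizer of H. For a subgroup H ⊇ ι(kˣ) the following are
equivalent: (i) H is commutative and maximal among commutative subgroups of Γ; (ii) H is commutative
and [H : ι(kˣ)]² = [Γ : ι(kˣ)]; (iii) H is its own centralizer. (The published lemma is for an
arbitrary non-degenerate theta group scheme, where (iii) ⇔ (ii) ⇒ (i) always and (i) ⇒ (iii) needs k
algebraically closed; this row is the case of the group of k-points with K constant.) -/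
theorem result
    (k : Type u) [Field k] [IsAlgClosed k]
    (Γ : Type u) [Group Γ] (ι : kˣ →* Γ) (hι : Function.Injective ι)
    (hcent : ι.range = Subgroup.center Γ) (hcomm : commutator Γ ≤ ι.range)
    [Finite (Γ ⧸ ι.range)] (hcop : (Nat.card (Γ ⧸ ι.range)).Coprime (ringExpChar k))
    (H : Subgroup Γ) (hH : ι.range ≤ H) :
    List.TFAE [
      IsMulCommutative H ∧ ∀ H' : Subgroup Γ, IsMulCommutative H' → H ≤ H' → H' = H,
      IsMulCommutative H ∧ (ι.range.relIndex H) ^ 2 = ι.range.index,
      H = Subgroup.centralizer (H : Set Γ)] := by
  have h : Groth.Agent.H87.Theta.IsTheta ι := ⟨hι, hcent, hcomm⟩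
  have hL1 := h.relIndex_mul_relIndex_centralizer hcop H hH
  have hpos : 0 < ι.range.index := by
    rw [Subgroup.index]; exact Nat.card_pos
  -- (iii) → (i)
  have h31 : H = Subgroup.centralizer (H : Set Γ) →
      IsMulCommutative H ∧ ∀ H' : Subgroup Γ, IsMulCommutative H' → H ≤ H' → H' = H := by
    intro h3
    have hc : IsMulCommutative H := Subgroup.le_centralizer_iff_isMulCommutative.mp h3.le
    refine ⟨hc, fun H' hc' hle => le_antisymm ?_ hle⟩
    calc H' ≤ Subgroup.centralizer (H' : Set Γ) := Subgroup.le_centralizer H'
      _ ≤ Subgroup.centralizer (H : Set Γ) := Subgroup.centralizer_le hle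
      _ = H := h3.symm
  -- (i) → (iii)
  have h13 : (IsMulCommutative H ∧ ∀ H' : Subgroup Γ, IsMulCommutative H' → H ≤ H' → H' = H) →
      H = Subgroup.centralizer (H : Set Γ) := by
    rintro ⟨hc, hmax⟩
    apply le_antisymm (Subgroup.le_centralizer H)
    intro x hx
    have hcl : IsMulCommutative (Subgroup.closure ((H : Set Γ) ∪ {x})) := by
      apply Subgroup.isMulCommutative_closure
      rintro a (ha | ha) b (hb | hb)
      · exact setLike_mul_comm ha hb
      · rw [Set.mem_singleton_iff] at hb; subst hb
        exact (Subgroup.mem_centralizer_iff.mp hx a ha)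
      · rw [Set.mem_singleton_iff] at ha; subst ha
        exact (Subgroup.mem_centralizer_iff.mp hx b hb).symm
      · rw [Set.mem_singleton_iff] at ha hb; rw [ha, hb]
    have hle : H ≤ Subgroup.closure ((H : Set Γ) ∪ {x}) := fun y hy =>
      Subgroup.subset_closure (Or.inl hy)
    have := hmax _ hcl hle
    rw [← this]
    exact Subgroup.subset_closure (Or.inr rfl)
  -- (iii) → (ii)
  have h32 : H = Subgroup.centralizer (H : Set Γ) →
      IsMulCommutative H ∧ (ι.range.relIndex H) ^ 2 = ι.range.index := by
    intro h3
    refine ⟨Subgroup.le_centralizer_iff_isMulCommutative.mp h3.le, ?_⟩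
    rw [← h3] at hL1
    rw [sq]; exact hL1
  -- (ii) → (iii)
  have h23 : (IsMulCommutative H ∧ (ι.range.relIndex H) ^ 2 = ι.range.index) →
      H = Subgroup.centralizer (H : Set Γ) := by
    rintro ⟨hc, hsq⟩
    have hle : H ≤ Subgroup.centralizer (H : Set Γ) := Subgroup.le_centralizer H
    apply le_antisymm hle
    have hr : 0 < ι.range.relIndex H := by
      rcases Nat.eq_zero_or_pos (ι.range.relIndex H) with h0 | h0
      · rw [h0] at hsq; simp at hsq; omega
      · exact h0
    have h1 : ι.range.relIndex (Subgroup.centralizer (H : Set Γ)) = ι.range.relIndex H := by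
      rw [← hsq, sq] at hL1
      exact Nat.eq_of_mul_eq_mul_left hr hL1
    have h2 := Subgroup.relIndex_mul_relIndex _ _ _ hH hle
    rw [h1] at h2
    have h3 : H.relIndex (Subgroup.centralizer (H : Set Γ)) = 1 := by
      have : ι.range.relIndex H * H.relIndex (Subgroup.centralizer (H : Set Γ)) =
          ι.range.relIndex H * 1 := by rw [h2, mul_one]
      exact Nat.eq_of_mul_eq_mul_left hr this
    exact Subgroup.relIndex_eq_one.mp h3
  tfae_have 1 → 3 := h13
  tfae_have 3 → 1 := h31
  tfae_have 3 → 2 := h32
  tfae_have 2 → 3 := h23
  tfae_finish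

end Groth.Agent.S17512
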