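import Groth.Statements.S17525
import Groth.Agent.H83.ExactLR3

set_option autoImplicit false
universe u
open HopfRep

namespace Groth.Agent.S17525

/-- Let `k` be a field and `1 → K → G → Q → 1` an exact sequence of affine group schemes of finite type
over `k`, written on coordinate rings: `AQ`, `AG`, `AK` are commutative Hopf algebras of finite type
over `k`, `φ : AQ → AG` is an injective bialgebra map (so `G → Q` is faithfully flat) and `ψ : AG →
AK` is a surjective bialgebra map (so `K` is a closed subgroup of `G`) whose kernel is the ideal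
generated by the image under `φ` of the augmentation ideal of `AQ` (so `K` is the kernel of `G →
Q`). Then `G` is linearly reductive — every finite-dimensional comodule is semisimple — if and only
if both `K` and `Q` are. -/
theorem result
    (k : Type u) [Field k]
    (AQ AG AK : Type u) [CommRing AQ] [HopfAlgebra k AQ] [Algebra.FiniteType k AQ]
    [CommRing AG] [HopfAlgebra k AG] [Algebra.FiniteType k AG]
    [CommRing AK] [HopfAlgebra k AK] [Algebra.FiniteType k AK]
    (φ : AQ →ₐc[k] AG) (hφ : Function.Injective φ)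
    (ψ : AG →ₐc[k] AK) (hψ : Function.Surjective ψ)
    (hker : RingHom.ker (ψ : AG →ₐ[k] AK) =
      Ideal.map (φ : AQ →ₐ[k] AG) (RingHom.ker (Bialgebra.counitAlgHom k AQ))) :
    HopfRep.IsLinearlyReductive k AG ↔
      HopfRep.IsLinearlyReductive k AK ∧ HopfRep.IsLinearlyReductive k AQ := by
  have hker' : RingHom.ker (ψ : AG →ₐ[k] AK) = Groth.Agent.H82.Takeuchi.augMap φ := hker
  rw [Groth.Agent.H93.linRed_iff_exists_integral, Groth.Agent.H93.linRed_iff_exists_integral,
    Groth.Agent.H93.linRed_iff_exists_integral]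
  constructor
  · rintro ⟨α, hα, h1⟩
    refine ⟨Groth.Agent.H83.ExactLR.exists_integral_ker φ α hφ ψ hψ hker' hα h1,
      α ∘ₗ (φ : AQ →ₗ[k] AG), Groth.Agent.H83.ExactLR.isInt_comp_of_injective φ hφ α hα, ?_⟩
    simp only [LinearMap.comp_apply]
    change α (φ 1) = 1
    rw [map_one, h1]
  · rintro ⟨⟨γ, hγ, hγ1⟩, β, hβ, hβ1⟩
    exact Groth.Agent.H83.ExactLR.exists_integral_of_ext φ hφ ψ hψ hker' γ hγ hγ1 β hβ hβ1

end Groth.Agent.S17525
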