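import Groth.Statements.S17526
import Groth.Agent.H59.LinRed

set_option autoImplicit false
universe u
open GLin

namespace Groth.Agent.S17526

/-- Let `k` be a field, `H` a commutative Hopf algebra of finite type over `k` which is linearly
reductive (every finite-dimensional comodule is semisimple; `G = Spec H` is a linearly reductive
affine group), and `A` a Noetherian commutative `k`-algebra with a coaction of `H` that is an
algebra map (an action of `G` on `Spec A`). Then the ring of invariants `A^G` is Noetherian. (The
published corollary is stated over an algebraically closed field; it is the affine case of a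
statement about good moduli spaces valid over any field, and is stated here over any field.) -/
theorem result
    (k : Type u) [Field k] (H : Type u) [CommRing H] [HopfAlgebra k H] [Algebra.FiniteType k H]
    (hG : HopfRep.IsLinearlyReductive k H)
    (A : Type u) [CommRing A] [Algebra k A] [IsNoetherianRing A]
    [HopfRep.Comod k H A] [GLin.IsCoactAlg k H A] :
    IsNoetherianRing ↥(GLin.invariants k H A) := by
  classical
  rw [isNoetherianRing_iff_ideal_fg]
  intro 𝔞
  -- the extension of 𝔞 to A is generated by finitely many elements of 𝔞
  have hfg : (Submodule.span A ((fun b : GLin.invariants k H A => (b : A)) '' (𝔞 : Set (GLin.invariants k H A)))).FG :=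
    IsNoetherian.noetherian _
  obtain ⟨s', hs's, hspan⟩ := (Submodule.fg_span_iff_fg_span_finset_subset _).mp hfg
  -- choose preimages
  have hpre : ∀ x : {x // x ∈ s'}, ∃ b : GLin.invariants k H A, b ∈ 𝔞 ∧ (b : A) = x.1 := by
    intro x
    obtain ⟨b, hb, hbx⟩ := hs's x.2
    exact ⟨b, hb, hbx⟩
  choose g hg𝔞 hgx using hpre
  have hmul : ∀ f g : A, HopfRep.Comod.coact (k := k) (A := H) (f * g) =
      HopfRep.Comod.coact (k := k) (A := H) f * HopfRep.Comod.coact (k := k) (A := H) g :=
    GLin.IsCoactAlg.coact_mul
  refine ⟨Finset.univ.image g, ?_⟩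
  apply le_antisymm
  · rw [Ideal.span_le]
    intro b hb
    simp only [Finset.coe_image, Finset.coe_univ, Set.image_univ, Set.mem_range] at hb
    obtain ⟨x, rfl⟩ := hb
    exact hg𝔞 x
  · intro h hh
    have hmem : (h : A) ∈ Submodule.span A ((s' : Finset A) : Set A) := by
      rw [← hspan]
      exact Submodule.subset_span ⟨h, hh, rfl⟩
    obtain ⟨c, -, hc⟩ := Submodule.mem_span_finset.mp hmem
    have hsum : (h : A) = 0 + ∑ i ∈ (Finset.univ : Finset {x // x ∈ s'}), (g i : A) * c i.1 := by
      rw [zero_add, ← hc, ← Finset.sum_coe_sort s' (fun i => c i • i)]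
      refine Finset.sum_congr rfl fun i _ => ?_
      rw [hgx i, smul_eq_mul, mul_comm]
    obtain ⟨j', hj', r', hr', e⟩ :=
      Groth.Agent.H59.LinRed.finite_sum_invariants (k := k) (A := H) (R := A) hG hmul
        (Finset.univ : Finset {x // x ∈ s'}) (fun _ => ⊤)
        (fun _ => Groth.Agent.H59.LinRed.isSubcomod_top)
        (fun i => (g i : A)) (fun i => (g i).2) ⊥
        (by
          intro w hw
          rw [Submodule.mem_bot] at hw
          rw [hw, map_zero]
          exact Submodule.zero_mem _)
        (h : A) h.2 0 (Submodule.zero_mem _) (fun i => c i.1) (fun _ _ => trivial) hsum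
    have hj'0 : j' = 0 := by
      have := hj'.1
      exact (Submodule.mem_bot k).mp this
    have hr'B : ∀ i, r' i ∈ GLin.invariants k H A := fun i => (hr' i (Finset.mem_univ i)).2
    have hh' : h = ∑ i : {x // x ∈ s'}, (⟨r' i, hr'B i⟩ : GLin.invariants k H A) * g i := by
      apply Subtype.ext
      rw [e, hj'0, zero_add]
      simp only [AddSubmonoidClass.coe_finsetSum, MulMemClass.coe_mul]
      refine Finset.sum_congr rfl fun i _ => ?_
      rw [mul_comm]
    rw [hh']
    refine Ideal.sum_mem _ fun i _ => ?_
    refine Ideal.mul_mem_left _ _ (Ideal.subset_span ?_)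
    simp

end Groth.Agent.S17526
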