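import Groth.Statements.S17530
import Groth.Agent.H87.LinRedMod

set_option autoImplicit false
universe u
open GLin

namespace Groth.Agent.S17530

/-- Let `k` be a field, `H` a commutative Hopf algebra of finite type over `k` which is linearly
reductive (every finite-dimensional comodule semisimple; `G = Spec H`), `A` a commutative
`k`-algebra of finite type with a coaction of `H` that is an algebra map (an action of `G` on `Spec
A`), and `M` a finitely generated `A`-module with an `H`-coaction compatible with the module
structure and with the coaction on `A` (a `G`-equivariant coherent module on `Spec A`). Then the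
invariants `M^G` form a finitely generated module over the ring of invariants `A^G`. (The published
corollary is stated over an algebraically closed field; it is the affine case of a statement about
good moduli spaces valid over any Noetherian base, and is stated here over any field.) -/
theorem result
    (k : Type u) [Field k] (H : Type u) [CommRing H] [HopfAlgebra k H] [Algebra.FiniteType k H]
    (hG : HopfRep.IsLinearlyReductive k H)
    (A : Type u) [CommRing A] [Algebra k A] [Algebra.FiniteType k A]
    [HopfRep.Comod k H A] [GLin.IsCoactAlg k H A]
    (M : Type u) [AddCommGroup M] [Module k M] [Module A M] [IsScalarTower k A M] [Module.Finite A M]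
    [HopfRep.Comod k H M] [TameAct.IsHopfMod k H A M] :
    ∃ s : Finset M, (↑s : Set M) ⊆ ↑(HopfRep.fixedPts k H M) ∧
      (↑(HopfRep.fixedPts k H M) : Set M) ⊆
        ↑(Submodule.span ↥(GLin.invariants k H A) (↑s : Set M)) := by
  classical
  have : IsNoetherianRing A := Algebra.FiniteType.isNoetherianRing k A
  have : IsNoetherian A M := isNoetherian_of_isNoetherianRing_of_finite A M
  have hfg : (Submodule.span A ((HopfRep.fixedPts k H M : Set M))).FG :=
    IsNoetherian.noetherian _
  obtain ⟨s', hs's, hspan⟩ := (Submodule.fg_span_iff_fg_span_finset_subset _).mp hfg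
  refine ⟨s', hs's, ?_⟩
  intro h hh
  have hmem : h ∈ Submodule.span A ((s' : Finset M) : Set M) := by
    rw [← hspan]
    exact Submodule.subset_span hh
  obtain ⟨c, -, hc⟩ := Submodule.mem_span_finset.mp hmem
  have hm : ∀ i : {x // x ∈ s'}, (i : M) ∈ HopfRep.fixedPts k H M := fun i => hs's i.2
  have hsum : ∑ i ∈ (Finset.univ : Finset {x // x ∈ s'}), c i.1 • (i : M) = h := by
    rw [← hc, ← Finset.sum_coe_sort s' (fun i => c i • i)]
  obtain ⟨r', hr', e⟩ :=
    Groth.Agent.H87.LinRedMod.sum_invariants_mod (k := k) (H := H) (A := A) (M := M) hG
      (Finset.univ : Finset {x // x ∈ s'}) (fun i => (i : M)) hm (fun i => c i.1)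
      (by rw [hsum]; exact hh)
  have hr'B : ∀ i, r' i ∈ GLin.invariants k H A := fun i => hr' i (Finset.mem_univ i)
  have hh' : h = ∑ i : {x // x ∈ s'}, (⟨r' i, hr'B i⟩ : GLin.invariants k H A) • (i : M) := by
    rw [← hsum, ← e]
    rfl
  rw [hh']
  refine Submodule.sum_mem _ fun i _ => ?_
  exact Submodule.smul_mem _ _ (Submodule.subset_span i.2)

end Groth.Agent.S17530
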