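import Groth.Statements.S17538

set_option autoImplicit false
universe u v
open CAlg

namespace Groth.Agent.S17538

open AdicCompletion in
/-- For a commutative ring A, an ideal I and an A-module M, the canonical map from the I-adic completion
M^ to the I-adic completion of M^ admits an A-linear retraction (it is a split injection). (That M^
is I-adically separated is standard.) -/
theorem result {A : Type u} [CommRing A] (I : Ideal A)
    (M : Type v) [AddCommGroup M] [Module A M] :
    ∃ ψ : AdicCompletion I (AdicCompletion I M) →ₗ[A] AdicCompletion I M,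
      ψ ∘ₗ AdicCompletion.of I (AdicCompletion I M) = LinearMap.id := by
  -- the induced maps M^/I^n M^ → M/I^n M
  let ind : ∀ n : ℕ, (AdicCompletion I M ⧸ (I ^ n • ⊤ : Submodule A (AdicCompletion I M))) →ₗ[A]
      (M ⧸ (I ^ n • ⊤ : Submodule A M)) := fun n =>
    Submodule.liftQ _ (AdicCompletion.eval I M n) (AdicCompletion.pow_smul_top_le_ker_eval I n)
  have hind : ∀ {m n : ℕ} (hmn : m ≤ n),
      AdicCompletion.transitionMap I M hmn ∘ₗ ind n =
        ind m ∘ₗ AdicCompletion.transitionMap I (AdicCompletion I M) hmn := by
    intro m n hmn
    apply Submodule.linearMap_qext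
    ext x
    simp only [LinearMap.coe_comp, Function.comp_apply, Submodule.mkQ_apply, ind,
      Submodule.liftQ_apply, AdicCompletion.transitionMap, Submodule.factorPow,
      AdicCompletion.eval_apply]
    exact x.property hmn
  refine ⟨AdicCompletion.lift I (fun n => ind n ∘ₗ AdicCompletion.eval I (AdicCompletion I M) n) ?_, ?_⟩
  · intro m n hmn
    rw [← LinearMap.comp_assoc, hind hmn, LinearMap.comp_assoc,
      AdicCompletion.transitionMap_comp_eval]
  · ext x n
    simp [ind]

end Groth.Agent.S17538
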