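import Groth.Statements.S17540
import Groth.Agent.H87.Dec2

set_option autoImplicit false
universe u v w
open W4c5adicflatcompl
open CAlg

namespace Groth.Agent.S17540

open Groth.Agent.H87 in
/-- Let A be I-adically complete, M an I-adically complete A-module and m : Z → M a family. The images
of the m z generate M/IM (the span of the family together with IM is all of M) if and only if the
family I-adically generates M: every x in M is the I-adically convergent sum of g z • m z for some
I-adically decaying function g : Z → A. -/
theorem result {A : Type u} [CommRing A] (I : Ideal A) [IsAdicComplete I A]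
    (M : Type v) [AddCommGroup M] [Module A M] [IsAdicComplete I M] (Z : Type w) (m : Z → M) :
    Submodule.span A (Set.range m) ⊔ I • ⊤ = ⊤ ↔
      ∀ x : M, ∃ g : Z → A, g ∈ decaying I Z A ∧
        ∀ n : ℕ, ∃ S : Finset Z,
          (∀ z, z ∉ S → g z • m z ∈ (I ^ n • ⊤ : Submodule A M)) ∧
          x - (∑ z ∈ S, g z • m z) ∈ (I ^ n • ⊤ : Submodule A M) := by
  classical
  constructor
  · intro hspan x
    -- the step lemma
    have hstep : ∀ (n : ℕ) (y : M), y ∈ (I ^ n • ⊤ : Submodule A M) →
        ∃ c : Z →₀ A, (∀ z, c z ∈ I ^ n) ∧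
          y - (c.sum fun z a => a • m z) ∈ (I ^ (n + 1) • ⊤ : Submodule A M) := by
      intro n y hy
      have h1 : (I ^ n • ⊤ : Submodule A M) =
          I ^ n • Submodule.span A (Set.range m) ⊔ (I ^ (n + 1) • ⊤ : Submodule A M) := by
        conv_lhs => rw [← hspan]
        rw [Submodule.smul_sup, ← Submodule.mul_smul, ← pow_succ]
      rw [h1, Submodule.mem_sup] at hy
      obtain ⟨u, hu, v, hv, rfl⟩ := hy
      rw [Submodule.mem_ideal_smul_span_iff_exists_sum] at hu
      obtain ⟨c, hc, rfl⟩ := hu
      refine ⟨c, hc, ?_⟩
      simpa using hv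
    choose! step hstep1 hstep2 using hstep
    let Y : ∀ n : ℕ, {y : M // y ∈ (I ^ n • ⊤ : Submodule A M)} := fun n =>
      Nat.rec (motive := fun n => {y : M // y ∈ (I ^ n • ⊤ : Submodule A M)})
        ⟨x, by simp⟩
        (fun n y => ⟨y.1 - ((step n y.1).sum fun z a => a • m z), hstep2 n y.1 y.2⟩) n
    have hY0 : (Y 0).1 = x := rfl
    have hYsucc : ∀ n, (Y (n + 1)).1 = (Y n).1 - ((step n (Y n).1).sum fun z a => a • m z) :=
      fun n => rfl
    let C : ℕ → (Z →₀ A) := fun n => step n (Y n).1
    have hC : ∀ n z, C n z ∈ I ^ n := fun n z => hstep1 n (Y n).1 (Y n).2 z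
    let s : ℕ → (Z →₀ A) := fun N => ∑ k ∈ Finset.range N, C k
    have hs_succ : ∀ N, s (N + 1) = s N + C N := fun N => Finset.sum_range_succ _ _
    have hlin : ∀ (c c' : Z →₀ A), ((c + c').sum fun z a => a • m z) =
        (c.sum fun z a => a • m z) + (c'.sum fun z a => a • m z) := by
      intro c c'
      exact Finsupp.sum_add_index' (fun z => zero_smul _ _) (fun z a b => add_smul _ _ _)
    have hxs : ∀ N, x - ((s N).sum fun z a => a • m z) = (Y N).1 := by
      intro N
      induction N with
      | zero => simp [s, hY0]
      | succ N ih =>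
        have hCN : step N (Y N).1 = C N := rfl
        rw [hs_succ, hlin, hYsucc, hCN, ← ih]
        abel
    -- limits
    have hcauchy : ∀ z, ∃ L : A, ∀ n, s n z ≡ L [SMOD (I ^ n • ⊤ : Submodule A A)] := by
      intro z
      apply IsPrecomplete.prec' (I := I)
      have : AdicCompletion.IsAdicCauchy I A (fun n => s n z) := by
        rw [AdicCompletion.isAdicCauchy_iff]
        intro n
        rw [SModEq.sub_mem, smul_top_self, hs_succ]
        simp only [Finsupp.add_apply, sub_add_cancel_left]
        exact (I ^ n).neg_mem (hC n z)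
      exact fun {a b} hab => this hab
    choose g hg using hcauchy
    have hgs : ∀ n z, g z - s n z ∈ I ^ n := by
      intro n z
      have := hg z n
      rw [SModEq.sub_mem, smul_top_self] at this
      have h2 : g z - s n z = -(s n z - g z) := by abel
      rw [h2]
      exact (I ^ n).neg_mem this
    have hgI : ∀ n z, z ∉ (s n).support → g z ∈ I ^ n := by
      intro n z hz
      have := hgs n z
      rw [Finsupp.notMem_support_iff.mp hz, sub_zero] at this
      exact this
    refine ⟨g, ?_, ?_⟩
    · intro n
      refine ((s n).support.finite_toSet).subset ?_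
      intro z hz
      by_contra hcon
      apply hz
      rw [smul_top_self]
      exact hgI n z hcon
    · intro n
      refine ⟨(s n).support, fun z hz => ?_, ?_⟩
      · exact Submodule.smul_mem_smul (hgI n z hz) Submodule.mem_top
      · have h1 : x - ∑ z ∈ (s n).support, g z • m z =
            (Y n).1 - ∑ z ∈ (s n).support, (g z - s n z) • m z := by
          rw [← hxs n, Finsupp.sum]
          simp only [sub_smul, Finset.sum_sub_distrib]
          abel
        rw [h1]
        refine Submodule.sub_mem _ (Y n).2 (Submodule.sum_mem _ fun z _ => ?_)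
        exact Submodule.smul_mem_smul (hgs n z) Submodule.mem_top
  · intro h
    rw [eq_top_iff]
    intro x _
    obtain ⟨g, -, hg⟩ := h x
    obtain ⟨S, -, hS⟩ := hg 1
    rw [pow_one] at hS
    have : x = (∑ z ∈ S, g z • m z) + (x - ∑ z ∈ S, g z • m z) := by abel
    rw [this]
    refine Submodule.add_mem_sup (Submodule.sum_mem _ fun z _ => ?_) hS
    exact Submodule.smul_mem _ _ (Submodule.subset_span (Set.mem_range_self z))

end Groth.Agent.S17540
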