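import Groth.Statements.S17543
import Groth.Agent.H87.Dec2

set_option autoImplicit false
universe u v w
open W4c5adicflatcompl
open CAlg

namespace Groth.Agent.S17543

open TensorProduct Groth.Agent.H87 in
/-- Over a Noetherian ring A which is I-adically complete, for a finitely generated A-module M and a set
Z, the canonical map from M ⊗ (decaying functions Z → A) to functions Z → M is injective and its
image is the module of decaying functions Z → M. -/
theorem result {A : Type u} [CommRing A] [IsNoetherianRing A] (I : Ideal A)
    [IsAdicComplete I A] (Z : Type v) (M : Type w) [AddCommGroup M] [Module A M]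
    [Module.Finite A M] :
    Function.Injective
        ((TensorProduct.piScalarRightHom A A M Z) ∘ₗ ((decaying I Z A).subtype.lTensor M)) ∧
      LinearMap.range
        ((TensorProduct.piScalarRightHom A A M Z) ∘ₗ ((decaying I Z A).subtype.lTensor M)) =
        decaying I Z M := by
  classical
  set Ψ : M ⊗[A] (decaying I Z A) →ₗ[A] (Z → M) :=
    (TensorProduct.piScalarRightHom A A M Z) ∘ₗ ((decaying I Z A).subtype.lTensor M) with hΨ
  have hΨt : ∀ (m : M) (g : decaying I Z A), Ψ (m ⊗ₜ g) = fun z => (g : Z → A) z • m := by
    intro m g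
    simp [hΨ, TensorProduct.piScalarRightHom_tmul]
  have hjac : I ≤ Ideal.jacobson ⊥ := IsAdicComplete.le_jacobson_bot I
  -- generators of M
  obtain ⟨r, mgen, hmgen⟩ := Module.Finite.exists_fin (R := A) (M := M)
  let π : (Fin r → A) →ₗ[A] M := Fintype.linearCombination A mgen
  have hπ : Function.Surjective π := by
    rw [← LinearMap.range_eq_top, Fintype.range_linearCombination, hmgen]
  have hπapply : ∀ c : Fin r → A, π c = ∑ i, c i • mgen i := fun c => rfl
  -- the map Θ
  let Θ : (Fin r → decaying I Z A) → M ⊗[A] (decaying I Z A) := fun G => ∑ i, mgen i ⊗ₜ G i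
  have hΘsurj : Function.Surjective Θ := by
    intro t
    induction t using TensorProduct.induction_on with
    | zero => exact ⟨0, by simp [Θ]⟩
    | tmul m g =>
      obtain ⟨c, rfl⟩ := hπ m
      refine ⟨fun i => c i • g, ?_⟩
      simp only [Θ, hπapply, TensorProduct.sum_tmul, TensorProduct.tmul_smul, TensorProduct.smul_tmul']
    | add t t' ht ht' =>
      obtain ⟨G, rfl⟩ := ht
      obtain ⟨G', rfl⟩ := ht'
      refine ⟨G + G', ?_⟩
      simp [Θ, TensorProduct.tmul_add, Finset.sum_add_distrib]
  have hΨΘ : ∀ G : Fin r → decaying I Z A, Ψ (Θ G) = fun z => π (fun i => (G i : Z → A) z) := by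
    intro G
    simp only [Θ, map_sum, hΨt, hπapply]
    funext z
    simp [Finset.sum_apply]
  have hHausM : IsHausdorff I M := IsHausdorff.of_le_jacobson I M hjac
  refine ⟨?_, ?_⟩
  · -- injectivity
    rw [injective_iff_map_eq_zero]
    intro t ht
    obtain ⟨G, rfl⟩ := hΘsurj t
    rw [hΨΘ] at ht
    -- the vector function
    let Gv : Z → (Fin r → A) := fun z i => (G i : Z → A) z
    have hGvK : ∀ z, Gv z ∈ LinearMap.ker π := fun z => by
      rw [LinearMap.mem_ker]; exact congrFun ht z
    have hGvdec : Gv ∈ decaying I Z (Fin r → A) := by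
      rw [decaying_pi_iff]
      intro i
      exact (G i).2
    let K : Submodule A (Fin r → A) := LinearMap.ker π
    let GK : Z → K := fun z => ⟨Gv z, hGvK z⟩
    have hGKdec : GK ∈ decaying I Z K := (decaying_submodule_iff K GK).mpr hGvdec
    -- generators of K
    have hKfg : K.FG := IsNoetherian.noetherian K
    obtain ⟨s, kgen, hkgen⟩ := Submodule.fg_iff_exists_fin_generating_family.mp hKfg
    have hkK : ∀ j, kgen j ∈ K := fun j => hkgen ▸ Submodule.subset_span (Set.mem_range_self j)
    let kgen' : Fin s → K := fun j => ⟨kgen j, hkK j⟩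
    let κ : (Fin s → A) →ₗ[A] K := Fintype.linearCombination A kgen'
    have hκ : Function.Surjective κ := by
      rw [← LinearMap.range_eq_top, Fintype.range_linearCombination]
      apply Submodule.map_injective_of_injective K.injective_subtype
      rw [Submodule.map_span, Submodule.map_subtype_top, ← Set.range_comp]
      exact hkgen
    have : Module.Finite A K := Module.Finite.iff_fg.mpr hKfg
    have hHausK : IsHausdorff I K := IsHausdorff.of_le_jacobson I K hjac
    obtain ⟨H, hHdec, hHκ⟩ := exists_decaying_lift κ hκ GK hGKdec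
    rw [decaying_pi_iff] at hHdec
    let Hd : Fin s → decaying I Z A := fun j => ⟨fun z => H z j, hHdec j⟩
    have hGeq : ∀ i, G i = ∑ j, kgen j i • Hd j := by
      intro i
      apply Subtype.ext
      funext z
      have h1 := congrArg (fun k : K => (k : Fin r → A) i) (hHκ z)
      simp only [κ, Fintype.linearCombination_apply, GK, Gv] at h1
      rw [← h1]
      simp [Hd, kgen', Finset.sum_apply, mul_comm]
    have : Θ G = ∑ j, (π (kgen j)) ⊗ₜ[A] Hd j := by
      simp only [Θ, hπapply, TensorProduct.sum_tmul]
      rw [Finset.sum_comm]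
      refine Finset.sum_congr rfl fun i _ => ?_
      rw [hGeq i, TensorProduct.tmul_sum]
      refine Finset.sum_congr rfl fun j _ => ?_
      rw [TensorProduct.tmul_smul, TensorProduct.smul_tmul']
    rw [this]
    refine Finset.sum_eq_zero fun j _ => ?_
    have : π (kgen j) = 0 := hkK j
    rw [this, TensorProduct.zero_tmul]
  · -- range
    apply le_antisymm
    · rintro _ ⟨t, rfl⟩
      induction t using TensorProduct.induction_on with
      | zero => simp
      | tmul m g =>
        rw [hΨt]
        exact smul_const_mem_decaying _ g.2 m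
      | add t t' ht ht' =>
        rw [map_add]
        exact Submodule.add_mem _ ht ht'
    · intro f hf
      obtain ⟨F, hFdec, hFπ⟩ := exists_decaying_lift π hπ f hf
      rw [decaying_pi_iff] at hFdec
      refine ⟨Θ fun i => ⟨fun z => F z i, hFdec i⟩, ?_⟩
      rw [hΨΘ]
      funext z
      exact hFπ z

end Groth.Agent.S17543
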