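import Groth.Statements.S17544
import Groth.Agent.H87.Dec

set_option autoImplicit false
universe u v w
open W4c5adicflatcompl
open CAlg

namespace Groth.Agent.S17544

/-- For a Noetherian ring A which is I-adically complete, a set Z and n ≥ 0, reduction modulo I^n maps
the decaying functions Z → A onto the finitely supported functions Z → A/I^n, and its kernel, the
decaying functions with all values in I^n, equals I^n times the module of decaying functions; so
(A/I^n) ⊗ F_dec(Z, A) → F_fin(Z, A/I^n) is bijective. -/
theorem result {A : Type u} [CommRing A] [IsNoetherianRing A]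
    (I : Ideal A) [IsAdicComplete I A] (Z : Type v) (n : ℕ) :
    (∀ g : Z →₀ A ⧸ I ^ n, ∃ f : decaying I Z A,
        ∀ z, Ideal.Quotient.mk (I ^ n) ((f : Z → A) z) = g z) ∧
      ∀ f : decaying I Z A,
        f ∈ (I ^ n • ⊤ : Submodule A (decaying I Z A)) ↔ ∀ z, (f : Z → A) z ∈ I ^ n := by
  classical
  have htop : ∀ k : ℕ, (I ^ k • ⊤ : Submodule A A) = I ^ k := fun k => by
    simp
  constructor
  · intro g
    -- a section of the quotient map sending 0 to 0
    let σ : A ⧸ I ^ n → A := fun q => if q = 0 then 0 else Quotient.out q
    have hσ : ∀ q, Ideal.Quotient.mk (I ^ n) (σ q) = q := by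
      intro q
      by_cases hq : q = 0
      · simp [σ, hq]
      · simp only [σ, hq, if_false]
        exact Ideal.Quotient.mk_out q
    refine ⟨⟨fun z => σ (g z), fun k => ?_⟩, fun z => hσ _⟩
    refine (g.support.finite_toSet).subset ?_
    intro z hz
    simp only [Set.mem_ofPred_eq] at hz
    rw [Finset.mem_coe, Finsupp.mem_support_iff]
    intro h0
    apply hz
    simp [σ, h0]
  · intro f
    constructor
    · intro hf z
      have := Groth.Agent.H87.apply_mem_of_mem_smul_top (I ^ n) hf z
      rwa [htop] at this
    · intro hf
      apply Groth.Agent.H87.mem_pow_smul_top_of_forall (Ideal.FG.pow (IsNoetherian.noetherian I))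
      intro z
      rw [htop]
      exact hf z

end Groth.Agent.S17544
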