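import Groth.Statements.S17545
import Groth.Agent.S17543
import Mathlib.RingTheory.Flat.Tensor

set_option autoImplicit false
universe u v w
open W4c5adicflatcompl
open CAlg

namespace Groth.Agent.S17545

open TensorProduct in
/-- For a Noetherian ring A which is I-adically complete and any set Z, the A-module of I-adically
decaying functions Z → A is flat. -/
theorem result {A : Type u} [CommRing A] [IsNoetherianRing A]
    (I : Ideal A) [IsAdicComplete I A] (Z : Type v) :
    Module.Flat A (decaying I Z A) := by
  rw [Module.Flat.iff_lift_lsmul_comp_subtype_injective]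
  intro J hJ
  have : Module.Finite A J := Module.Finite.iff_fg.mpr hJ
  obtain ⟨hinj, -⟩ := Groth.Agent.S17543.result I Z J
  set Ψ : J ⊗[A] (decaying I Z A) →ₗ[A] (Z → J) :=
    (TensorProduct.piScalarRightHom A A J Z) ∘ₗ ((decaying I Z A).subtype.lTensor J) with hΨ
  set Λ : J ⊗[A] (decaying I Z A) →ₗ[A] decaying I Z A :=
    TensorProduct.lift ((LinearMap.lsmul A (decaying I Z A)).comp J.subtype) with hΛ
  have hcomp : (decaying I Z A).subtype ∘ₗ Λ = (J.subtype.compLeft Z) ∘ₗ Ψ := by
    apply TensorProduct.ext'
    intro j g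
    funext z
    simp [hΨ, hΛ, TensorProduct.piScalarRightHom_tmul, mul_comm]
  rw [injective_iff_map_eq_zero]
  intro t ht
  apply (injective_iff_map_eq_zero Ψ).mp hinj
  have h1 : ((decaying I Z A).subtype ∘ₗ Λ) t = 0 := by
    simp [ht]
  rw [hcomp] at h1
  funext z
  have h2 := congrFun h1 z
  simp only [LinearMap.coe_comp, Function.comp_apply, LinearMap.compLeft_apply,
    Submodule.subtype_apply, Pi.zero_apply] at h2
  exact Subtype.ext h2

end Groth.Agent.S17545
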