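import Groth.Statements.S17549
import Groth.Agent.H87.Dec3
import Groth.Agent.S17548

set_option autoImplicit false
universe u
open W4c5adicflatcompl
open CAlg

namespace Groth.Agent.S17549

open Groth.Agent.H87 in
/-- Over a Noetherian ring A with I-adic completion Â, an A-module P is I-adically projective
(I-adically complete, and every A-linear map from P to the target of a surjection between I-adically
complete modules lifts along that surjection) exactly when P is a retract of some module of
I-adically decaying functions Z → Â: there are a set Z, an A-linear map i from P to the decaying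
functions Z → Â and an A-linear map r back with r ∘ i the identity of P. Test modules, P and Z live
in the universe of A. -/
theorem result {A : Type u} [CommRing A] [IsNoetherianRing A]
    (I : Ideal A) (P : Type u) [AddCommGroup P] [Module A P] :
    IsAdicProjective I P ↔
      ∃ (Z : Type u) (i : P →ₗ[A] decaying I Z (AdicCompletion I A))
        (r : decaying I Z (AdicCompletion I A) →ₗ[A] P), r ∘ₗ i = LinearMap.id := by
  classical
  have hfg : I.FG := IsNoetherian.noetherian I
  have hcompA : IsAdicComplete I (AdicCompletion I A) := AdicCompletion.isAdicComplete hfg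
  have hcompD : ∀ Z : Type u, IsAdicComplete I (decaying I Z (AdicCompletion I A)) :=
    fun Z => isAdicComplete_decaying hfg
  constructor
  · rintro ⟨hPc, hlift⟩
    obtain ⟨π, hπ, -⟩ := Groth.Agent.S17548.result I P P (fun p => p)
    have hπs : Function.Surjective π := fun p => ⟨_, hπ p⟩
    obtain ⟨χ, hχ⟩ := hlift (decaying I P (AdicCompletion I A)) P (hcompD P) hPc π hπs LinearMap.id
    exact ⟨P, χ, π, hχ⟩
  · rintro ⟨Z, i, r, hri⟩
    have hri' : ∀ x, r (i x) = x := fun x => LinearMap.congr_fun hri x
    have hD := hcompD Z
    refine ⟨?_, ?_⟩
    · refine { haus' := ?_, prec' := ?_ }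
      · intro x hx
        have : i x = 0 := by
          apply IsHausdorff.haus' (I := I)
          intro n
          have := hx n
          rw [SModEq.zero] at this ⊢
          exact map_mem_smul_top _ i (I ^ n) this
        rw [← hri' x, this, map_zero]
      · intro x hx
        obtain ⟨L, hL⟩ := IsPrecomplete.prec' (I := I) (fun k => i (x k)) (by
          intro m n hmn
          have := hx hmn
          rw [SModEq.sub_mem] at this ⊢
          rw [← map_sub]
          exact map_mem_smul_top _ i (I ^ m) this)
        refine ⟨r L, fun n => ?_⟩
        have := hL n
        rw [SModEq.sub_mem] at this ⊢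
        have h2 : x n - r L = r (i (x n) - L) := by rw [map_sub, hri']
        rw [h2]
        exact map_mem_smul_top _ r (I ^ n) this
    · intro M N _ _ _ _ hM hN φ hφ ψ
      choose m hm using fun z : Z => hφ (ψ (r (single I z (1 : AdicCompletion I A))))
      obtain ⟨χ', hχ', -⟩ := Groth.Agent.S17548.result I Z M m
      have heq : φ ∘ₗ χ' = ψ ∘ₗ r := by
        rw [← sub_eq_zero]
        apply eq_zero_of_single_one hfg
        intro z
        simp [hχ', hm]
      refine ⟨χ' ∘ₗ i, ?_⟩
      rw [← LinearMap.comp_assoc, heq, LinearMap.comp_assoc, hri, LinearMap.comp_id]

end Groth.Agent.S17549
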