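import Groth.Statements.S17551
import Groth.Agent.H87.Tower
import Mathlib.LinearAlgebra.Basis.VectorSpace
-- import your own Groth.Agent.* helpers here

set_option autoImplicit false
universe u
open W4c5adicflatcompl
open CAlg

namespace Groth.Agent.S17551

open Groth.Agent.H87 in
theorem aux {A : Type u} [CommRing A] [IsNoetherianRing A] (m : Ideal A) [m.IsMaximal]
    [IsAdicComplete m A]
    (M : ℕ → Type u) [∀ n, AddCommGroup (M n)] [∀ n, Module A (M n)]
    [∀ n, Module (A ⧸ m ^ (n + 1)) (M n)]
    [∀ n, IsScalarTower A (A ⧸ m ^ (n + 1)) (M n)]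
    [∀ n, Module.Flat (A ⧸ m ^ (n + 1)) (M n)]
    (ψ : ∀ n, M (n + 1) →ₗ[A] M n) (hψ : ∀ n, Function.Surjective (ψ n))
    (hker : ∀ n, LinearMap.ker (ψ n) =
      (m ^ (n + 1) • ⊤ : Submodule A (M (n + 1)))) :
    IsAdicFree m (sysLim M ψ) ∧
      ∀ n, Function.Surjective (sysProj M ψ n) ∧
        LinearMap.ker (sysProj M ψ n) =
          (m ^ (n + 1) • ⊤ : Submodule A (sysLim M ψ)) := by
  classical
  have hmk : ∀ (n : ℕ) (c : A) (y : M n), (Ideal.Quotient.mk (m ^ (n + 1)) c) • y = c • y := by
    intro n c y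
    rw [← Ideal.Quotient.algebraMap_eq, algebraMap_smul]
  have hkill : ∀ n, ∀ a ∈ m ^ (n + 1), ∀ y : M n, a • y = 0 := by
    intro n a ha y
    rw [← hmk n a y, Ideal.Quotient.eq_zero_iff_mem.mpr ha, zero_smul]
  -- field structure on A ⧸ m^(0+1)
  have hmax : (m ^ (0 + 1)).IsMaximal := by
    rw [zero_add, pow_one]; infer_instance
  let _ : Field (A ⧸ m ^ (0 + 1)) := Ideal.Quotient.field _
  let b := Module.Basis.ofVectorSpace (A ⧸ m ^ (0 + 1)) (M 0)
  let Z : Type u := ↥(Module.Basis.ofVectorSpaceIndex (A ⧸ m ^ (0 + 1)) (M 0))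
  choose x hx using fun z : Z => sysProj_zero_surjective M ψ hψ (b z)
  have hx' : ∀ z : Z, ((x z : sysLim M ψ) : ∀ k, M k) 0 = b z := hx
  -- base case: surjectivity
  have h0s : Function.Surjective (lvl m M ψ hkill x 0) := by
    intro v
    have hv : v = ∑ z ∈ (b.repr v).support, (b.repr v z) • b z := by
      conv_lhs => rw [← b.linearCombination_repr v]
      rw [Finsupp.linearCombination_apply, Finsupp.sum]
    choose c hc using fun z : Z => Ideal.Quotient.mk_surjective (I := m ^ (0 + 1)) (b.repr v z)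
    refine ⟨∑ z ∈ (b.repr v).support, single m z (c z), ?_⟩
    rw [map_sum]
    refine Eq.trans ?_ hv.symm
    refine Finset.sum_congr rfl fun z _ => ?_
    unfold lvl
    rw [killMap_single, hx' z, ← hc z, hmk]
  -- base case: kernel
  have h0k : LinearMap.ker (lvl m M ψ hkill x 0) ≤
      (m ^ (0 + 1) • ⊤ : Submodule A (decaying m Z A)) := by
    intro g hg
    have hg0 : lvl m M ψ hkill x 0 g = 0 := hg
    have hfin := g.2 (0 + 1)
    have hsum := killMap_eq_sum m (hkill 0) (fun z => ((x z : sysLim M ψ) : ∀ k, M k) 0) g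
      hfin.toFinset (by
        intro z hz
        by_contra hcon
        apply hz
        rw [Set.Finite.mem_toFinset]
        show (g : Z → A) z ∉ (m ^ (0 + 1) • ⊤ : Submodule A A)
        rwa [smul_top_self])
    have hsum0 : ∑ z ∈ hfin.toFinset,
        (Ideal.Quotient.mk (m ^ (0 + 1)) ((g : Z → A) z)) • b z = 0 := by
      have h1 : killMap m (hkill 0) (fun z => ((x z : sysLim M ψ) : ∀ k, M k) 0) g = 0 := hg0
      rw [← h1, hsum]
      refine Finset.sum_congr rfl fun z _ => ?_
      rw [hmk, hx' z]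
    have hzero := linearIndependent_iff'.mp b.linearIndependent hfin.toFinset
      (fun z => Ideal.Quotient.mk (m ^ (0 + 1)) ((g : Z → A) z)) hsum0
    have hval : ∀ z, (g : Z → A) z ∈ (m ^ (0 + 1) • ⊤ : Submodule A A) := by
      intro z
      by_contra hcon
      have hz : z ∈ hfin.toFinset := by
        rw [Set.Finite.mem_toFinset]; exact hcon
      apply hcon
      rw [smul_top_self]
      exact Ideal.Quotient.eq_zero_iff_mem.mp (hzero z hz)
    have hfg : (m ^ (0 + 1)).FG := (isNoetherianRing_iff_ideal_fg A).mp inferInstance _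
    exact mem_pow_smul_top_of_forall (I := m) (P := A) hfg g hval
  have hall := tower_flat m M ψ hkill x hker h0s h0k
  obtain ⟨hbij, hrest⟩ := tower_main m M ψ hkill x (fun n => (hall n).1) (fun n => (hall n).2)
  refine ⟨?_, hrest⟩
  let e1 : decaying m Z A ≃ₗ[A] sysLim M ψ := LinearEquiv.ofBijective _ hbij
  let e2 : decaying m Z A ≃ₗ[A] decaying m Z (AdicCompletion m A) :=
    decayingCongr m Z (AdicCompletion.ofLinearEquiv m A)
  exact ⟨Z, ⟨e1.symm.trans e2⟩⟩

/-- For a complete Noetherian local ring A (maximal ideal m, m-adic completion Â) and an m-adic system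
(M n, ψ n : M (n+1) → M n) of A-modules, meaning that each M n is a module over A/m^(n+1) and each ψ
n is surjective with kernel m^(n+1) M (n+1), if every M n is flat over A/m^(n+1) then the inverse
limit of the system is m-adically free (isomorphic to the m-adically decaying functions Z → Â for
some set Z), and for every n its projection to M n is surjective with kernel m^(n+1) times the
limit. A, the M n and Z share one universe. -/
theorem result {A : Type u} [CommRing A] [IsNoetherianRing A] [IsLocalRing A]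
    [IsAdicComplete (IsLocalRing.maximalIdeal A) A]
    (M : ℕ → Type u) [∀ n, AddCommGroup (M n)] [∀ n, Module A (M n)]
    [∀ n, Module (A ⧸ IsLocalRing.maximalIdeal A ^ (n + 1)) (M n)]
    [∀ n, IsScalarTower A (A ⧸ IsLocalRing.maximalIdeal A ^ (n + 1)) (M n)]
    [∀ n, Module.Flat (A ⧸ IsLocalRing.maximalIdeal A ^ (n + 1)) (M n)]
    (ψ : ∀ n, M (n + 1) →ₗ[A] M n) (hψ : ∀ n, Function.Surjective (ψ n))
    (hker : ∀ n, LinearMap.ker (ψ n) =
      (IsLocalRing.maximalIdeal A ^ (n + 1) • ⊤ : Submodule A (M (n + 1)))) :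
    IsAdicFree (IsLocalRing.maximalIdeal A) (sysLim M ψ) ∧
      ∀ n, Function.Surjective (sysProj M ψ n) ∧
        LinearMap.ker (sysProj M ψ n) =
          (IsLocalRing.maximalIdeal A ^ (n + 1) • ⊤ : Submodule A (sysLim M ψ)) := by
  exact aux (IsLocalRing.maximalIdeal A) M ψ hψ hker

end Groth.Agent.S17551
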