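import Groth.Statements.S17553
import Groth.Agent.H87.Dec2
import Mathlib.Algebra.BigOperators.Finprod

set_option autoImplicit false
universe u v w
open W4c5adicflatcompl
open CAlg

namespace Groth.Agent.S17553

open Groth.Agent.H87 in
/-- Let A be I-adically complete, M an I-adically complete A-module, Z a set and f : Z → M a function.
There is an A-linear map from the I-adically decaying functions Z → A to M whose value on g is the
I-adically convergent sum of the g z • f z. -/
theorem result {A : Type u} [CommRing A] (I : Ideal A) [IsAdicComplete I A]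
    (Z : Type v) (M : Type w) [AddCommGroup M] [Module A M] [IsAdicComplete I M] (f : Z → M) :
    ∃ φ : decaying I Z A →ₗ[A] M, ∀ (g : decaying I Z A) (n : ℕ), ∃ S : Finset Z,
      (∀ z, z ∉ S → (g : Z → A) z • f z ∈ (I ^ n • ⊤ : Submodule A M)) ∧
      φ g - (∑ z ∈ S, (g : Z → A) z • f z) ∈ (I ^ n • ⊤ : Submodule A M) := by
  classical
  -- the terms
  let term : ∀ n : ℕ, decaying I Z A → Z → M ⧸ (I ^ n • ⊤ : Submodule A M) := fun n g z =>
    Submodule.Quotient.mk ((g : Z → A) z • f z)
  have hmem : ∀ (n : ℕ) (g : decaying I Z A) (z : Z),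
      (g : Z → A) z ∈ (I ^ n • ⊤ : Submodule A A) → (g : Z → A) z • f z ∈ (I ^ n • ⊤ : Submodule A M) := by
    intro n g z hz
    rw [smul_top_self] at hz
    exact Submodule.smul_mem_smul hz Submodule.mem_top
  have hsupp : ∀ n g, Function.support (term n g) ⊆ {z | (g : Z → A) z ∉ (I ^ n • ⊤ : Submodule A A)} := by
    intro n g z hz hcon
    apply hz
    simp only [term]
    rw [Submodule.Quotient.mk_eq_zero]
    exact hmem n g z hcon
  have hfin : ∀ n g, Function.HasFiniteSupport (term n g) := fun n g => (g.2 n).subset (hsupp n g)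
  let φn : ∀ n : ℕ, decaying I Z A →ₗ[A] M ⧸ (I ^ n • ⊤ : Submodule A M) := fun n =>
    { toFun := fun g => ∑ᶠ z, term n g z
      map_add' := by
        intro g g'
        rw [← finsum_add_distrib (hfin n g) (hfin n g')]
        congr 1
        funext z
        simp only [term]
        rw [← Submodule.Quotient.mk_add]
        congr 1
        simp [add_smul]
      map_smul' := by
        intro a g
        simp only [RingHom.id_apply]
        rw [smul_finsum' a (hfin n g)]
        congr 1
        funext z
        simp only [term]
        rw [← Submodule.Quotient.mk_smul]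
        congr 1
        simp [mul_smul] }
  have hcompat : ∀ {m n : ℕ} (hle : m ≤ n), Submodule.factorPow I M hle ∘ₗ φn n = φn m := by
    intro m n hle
    ext g
    simp only [LinearMap.coe_comp, Function.comp_apply, φn, LinearMap.coe_mk, AddHom.coe_mk]
    rw [map_finsum _ (hfin n g)]
    rfl
  refine ⟨IsAdicComplete.lift I φn hcompat, fun g n => ?_⟩
  refine ⟨(g.2 n).toFinset, fun z hz => ?_, ?_⟩
  · apply hmem
    by_contra hcon
    exact hz ((g.2 n).mem_toFinset.mpr hcon)
  · rw [← Submodule.Quotient.mk_eq_zero, Submodule.Quotient.mk_sub, IsAdicComplete.mk_lift, sub_eq_zero]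
    simp only [φn, LinearMap.coe_mk, AddHom.coe_mk]
    rw [finsum_eq_sum_of_support_subset _ (s := (g.2 n).toFinset)]
    · simp only [term]
      rw [← Submodule.mkQ_apply, map_sum]
      rfl
    · intro z hz
      rw [Finset.mem_coe, Set.Finite.mem_toFinset]
      exact hsupp n g hz

end Groth.Agent.S17553
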