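import Groth.Statements.S17552
import Groth.Agent.H87.Dec4
import Groth.Agent.S17545
import Groth.Agent.S17546
import Groth.Agent.S17547
import Groth.Agent.S17553
import Mathlib.LinearAlgebra.Basis.VectorSpace
import Mathlib.RingTheory.Flat.Basic
-- import your own Groth.Agent.* helpers here

set_option autoImplicit false
universe u
open W4c5adicflatcompl
open CAlg

namespace Groth.Agent.S17552

open Groth.Agent.H87 in
/-- flat + complete ⟹ adically free, over a complete Noetherian local ring. -/
theorem adicFree_of_flat_complete {A : Type u} [CommRing A] [IsNoetherianRing A] [IsLocalRing A]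
    [IsAdicComplete (IsLocalRing.maximalIdeal A) A]
    (M : Type u) [AddCommGroup M] [Module A M] [Module.Flat A M]
    [IsAdicComplete (IsLocalRing.maximalIdeal A) M] :
    IsAdicFree (IsLocalRing.maximalIdeal A) M := by
  classical
  set m := IsLocalRing.maximalIdeal A with hm
  let _ : Field (A ⧸ m) := Ideal.Quotient.field m
  let V := M ⧸ (m • ⊤ : Submodule A M)
  let b := Module.Basis.ofVectorSpace (A ⧸ m) V
  let Z : Type u := ↥(Module.Basis.ofVectorSpaceIndex (A ⧸ m) V)
  have hlift : ∀ z : Z, ∃ x : M, (Submodule.Quotient.mk x : V) = b z :=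
    fun z => Submodule.Quotient.mk_surjective _ _
  choose mz hmz using hlift
  obtain ⟨φ, hφ⟩ := Groth.Agent.S17553.result m Z M mz
  have hsingle : ∀ (z : Z) (c : A), φ (single m z c) = c • mz z := conv_single mz φ hφ
  have hD : IsAdicComplete m (decaying m Z A) := Groth.Agent.S17546.result m Z
  -- surjectivity
  have hsurj : Function.Surjective φ := by
    apply surjective_of_mkQ_comp_surjective (I := m)
    intro v
    -- expand v in the basis
    have hv : v = ∑ z ∈ (b.repr v).support, (b.repr v z) • b z := by
      conv_lhs => rw [← b.linearCombination_repr v]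
      rw [Finsupp.linearCombination_apply, Finsupp.sum]
    choose c hc using fun z : Z => Ideal.Quotient.mk_surjective (I := m) (b.repr v z)
    refine ⟨∑ z ∈ (b.repr v).support, single m z (c z), ?_⟩
    rw [LinearMap.comp_apply, map_sum, map_sum]
    refine Eq.trans ?_ hv.symm
    refine Finset.sum_congr rfl fun z _ => ?_
    rw [hsingle, Submodule.mkQ_apply, ← hc z, ← hmz z]
    rfl
  -- kernel
  have hker : LinearMap.ker φ ≤ (m • ⊤ : Submodule A (decaying m Z A)) := by
    intro g hg
    have hg0 : φ g = 0 := hg
    obtain ⟨S, hS1, hS2⟩ := hφ g 1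
    rw [hg0, zero_sub, neg_mem_iff, pow_one] at hS2
    have hval : ∀ z, (g : Z → A) z ∈ m := by
      have hlin := b.linearIndependent
      have h0 : ∑ z ∈ S, (Ideal.Quotient.mk m ((g : Z → A) z)) • b z = 0 := by
        have := (Submodule.Quotient.mk_eq_zero (m • ⊤ : Submodule A M)).mpr hS2
        rw [← this, ← Submodule.mkQ_apply, map_sum]
        refine Finset.sum_congr rfl fun z _ => ?_
        rw [← hmz z]
        rfl
      have hzero := linearIndependent_iff'.mp hlin S (fun z => Ideal.Quotient.mk m ((g : Z → A) z)) h0
      intro z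
      by_cases hz : z ∈ S
      · exact Ideal.Quotient.eq_zero_iff_mem.mp (hzero z hz)
      · have h1 := hS1 z hz
        rw [pow_one] at h1
        have h2 : (Ideal.Quotient.mk m ((g : Z → A) z)) • b z = 0 := by
          have := (Submodule.Quotient.mk_eq_zero (m • ⊤ : Submodule A M)).mpr h1
          rw [← this, ← hmz z]
          rfl
        rcases smul_eq_zero.mp h2 with h3 | h3
        · exact Ideal.Quotient.eq_zero_iff_mem.mp h3
        · exact absurd h3 (b.ne_zero z)
    have hfg : (m ^ 1).FG := (isNoetherianRing_iff_ideal_fg A).mp inferInstance _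
    have := mem_pow_smul_top_of_forall (I := m) (P := A) hfg g (by
      intro z
      rw [pow_one, smul_top_self]
      exact hval z)
    rwa [pow_one] at this
  have hKle : LinearMap.ker φ ≤ m • LinearMap.ker φ := by
    intro x hx
    exact ker_inf_smul_top_le φ hsurj m ⟨hx, hker hx⟩
  have hK : LinearMap.ker φ = ⊥ := eq_bot_of_le_smul (I := m) _ hKle
  have hinj : Function.Injective φ := LinearMap.ker_eq_bot.mp hK
  let e1 : decaying m Z A ≃ₗ[A] M := LinearEquiv.ofBijective φ ⟨hinj, hsurj⟩
  let e2 : decaying m Z A ≃ₗ[A] decaying m Z (AdicCompletion m A) :=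
    decayingCongr m Z (AdicCompletion.ofLinearEquiv m A)
  exact ⟨Z, ⟨e1.symm.trans e2⟩⟩

open Groth.Agent.H87 in
/-- For a complete Noetherian local ring A (maximal ideal m, m-adic completion Â), an A-module M is
isomorphic to the module of m-adically decaying functions Z → Â for some set Z (m-adically free)
exactly when M is flat and m-adically complete. M and Z live in the universe of A. -/
theorem result {A : Type u} [CommRing A] [IsNoetherianRing A] [IsLocalRing A]
    [IsAdicComplete (IsLocalRing.maximalIdeal A) A]
    (M : Type u) [AddCommGroup M] [Module A M] :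
    IsAdicFree (IsLocalRing.maximalIdeal A) M ↔
      Module.Flat A M ∧ IsAdicComplete (IsLocalRing.maximalIdeal A) M := by
  constructor
  · rintro ⟨Z, ⟨e⟩⟩
    constructor
    · have h1 : Module.Flat A (decaying (IsLocalRing.maximalIdeal A) Z A) :=
        Groth.Agent.S17545.result _ Z
      exact Module.Flat.of_linearEquiv
        (e.trans (decayingCongr _ Z (AdicCompletion.ofLinearEquiv (IsLocalRing.maximalIdeal A) A)).symm)
    · have h1 : IsAdicComplete (IsLocalRing.maximalIdeal A)
          (decaying (IsLocalRing.maximalIdeal A) Z (AdicCompletion (IsLocalRing.maximalIdeal A) A)) :=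
        Groth.Agent.S17547.result _ Z A
      exact isAdicComplete_of_linearEquiv e.symm
  · rintro ⟨h1, h2⟩
    exact adicFree_of_flat_complete M

end Groth.Agent.S17552
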