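import Groth.Statements.S1757
import Groth.Agent.H9.Indep
import Mathlib.RingTheory.SimpleModule.Basic

set_option autoImplicit false
universe u
open LocCoh

namespace Groth.Agent.S1757

/-- Let A be a local ring whose maximal ideal is generated by x_1, …, x_r, and let e_1, …, e_r be
positive integers such that x_1^{e_1}, …, x_r^{e_r} are independent. Then the length of
A/(x_1^{e_1}, …, x_r^{e_r}) equals the product e_1 ⋯ e_r. -/
theorem result (A : Type u) [CommRing A] [IsLocalRing A] (r : ℕ) (x : Fin r → A) (hx : Ideal.span (Set.range x) = IsLocalRing.maximalIdeal A) (e : Fin r → ℕ) (he : ∀ i, 0 < e i) (hind : Dual2.Independent (fun i => x i ^ e i)) : Module.length A (A ⧸ Ideal.span (Set.range (fun i => x i ^ e i))) = ∏ i, (e i : ℕ∞) := by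
  classical
  have key : ∀ (n : ℕ) (e : Fin r → ℕ), (∑ i, e i) = n → (∀ i, 0 < e i) →
      Dual2.Independent (fun i => x i ^ e i) →
      Module.length A (A ⧸ Ideal.span (Set.range (fun i => x i ^ e i))) = ∏ i, (e i : ℕ∞) := by
    intro n
    induction n using Nat.strong_induction_on with
    | _ n ih =>
      intro e hn he hind
      by_cases hall : ∀ i, e i = 1
      · have h1 : (fun i => x i ^ e i) = x := by
          funext i; rw [hall i, pow_one]
        rw [h1, hx]
        have : IsSimpleModule A (A ⧸ IsLocalRing.maximalIdeal A) :=
          isSimpleModule_iff_quot_maximal.2 ⟨_, inferInstance, ⟨LinearEquiv.refl _ _⟩⟩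
        rw [Module.length_eq_one]
        simp [hall]
      · push Not at hall
        obtain ⟨j, hj⟩ := hall
        have hj2 : 2 ≤ e j := by have := he j; omega
        set e' := Function.update e j (e j - 1) with he'
        set e'' := Function.update e j 1 with he''
        set f : Fin r → A := fun i => x i ^ e' i with hf
        have hf1 : Function.update f j (f j * x j) = fun i => x i ^ e i := by
          funext i
          by_cases hi : i = j
          · subst hi
            simp only [Function.update_self, hf, he']
            rw [← pow_succ]
            congr 1; omega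
          · simp [hf, he', Function.update_of_ne hi]
        have hf2 : Function.update f j (x j) = fun i => x i ^ e'' i := by
          funext i
          by_cases hi : i = j
          · subst hi
            simp [he'']
          · simp [hf, he', he'', Function.update_of_ne hi]
        have hind' : Dual2.Independent (Function.update f j (f j * x j)) := by rw [hf1]; exact hind
        have hI1 : Dual2.Independent f := Groth.Agent.H9.independent_of_update_mul f j (x j) hind'
        have hI2 : Dual2.Independent (fun i => x i ^ e'' i) := by
          rw [← hf2]; exact Groth.Agent.H9.independent_update_of_update_mul f j (x j) hind'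
        have hlen := Groth.Agent.H9.length_quotient_update_mul f j (x j) hind'
        rw [hf1, hf2] at hlen
        have hsum : ∑ i, e i = e j + ∑ i ∈ Finset.univ \ {j}, e i := by
          rw [← Finset.sum_sdiff (Finset.subset_univ {j}), Finset.sum_singleton, add_comm]
        have hs' : ∑ i, e' i = (e j - 1) + ∑ i ∈ Finset.univ \ {j}, e i := by
          rw [he', Finset.sum_update_of_mem (Finset.mem_univ j)]
        have hs'' : ∑ i, e'' i = 1 + ∑ i ∈ Finset.univ \ {j}, e i := by
          rw [he'', Finset.sum_update_of_mem (Finset.mem_univ j)]
        have hpos' : ∀ i, 0 < e' i := by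
          intro i
          by_cases hi : i = j
          · subst hi; simp [he']; omega
          · simp [he', Function.update_of_ne hi, he i]
        have hpos'' : ∀ i, 0 < e'' i := by
          intro i
          by_cases hi : i = j
          · subst hi; simp [he'']
          · simp [he'', Function.update_of_ne hi, he i]
        have ih1 := ih (∑ i, e' i) (by omega) e' rfl hpos' hI1
        have ih2 := ih (∑ i, e'' i) (by omega) e'' rfl hpos'' hI2
        rw [hlen, ih1, ih2]
        have hp : ∏ i, e i = e j * ∏ i ∈ Finset.univ \ {j}, e i := by
          rw [← Finset.prod_sdiff (Finset.subset_univ {j}), Finset.prod_singleton, mul_comm]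
        have hp' : ∏ i, e' i = (e j - 1) * ∏ i ∈ Finset.univ \ {j}, e i := by
          rw [he', Finset.prod_update_of_mem (Finset.mem_univ j)]
        have hp'' : ∏ i, e'' i = 1 * ∏ i ∈ Finset.univ \ {j}, e i := by
          rw [he'', Finset.prod_update_of_mem (Finset.mem_univ j)]
        have : ∏ i, e' i + ∏ i, e'' i = ∏ i, e i := by
          rw [hp, hp', hp'', ← add_mul]
          congr 1; omega
        rw [← Nat.cast_prod, ← Nat.cast_prod, ← Nat.cast_prod, ← this, Nat.cast_add]
  exact key _ e rfl he hind

end Groth.Agent.S1757
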