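import Groth.Statements.S17593
import Groth.Agent.H1.FlatLocusExists

set_option autoImplicit false
universe u
open Hensel

namespace Groth.Agent.S17593

/-- Suppose (A, I) is a Henselian pair, and R is an A-algebra of finite presentation for which A → R is
flat at each prime of R that contains IR. Then there is an étale R-algebra R' such that R/IR →
R'/IR' is bijective and A → R' is flat. -/
theorem result (A : Type u) [CommRing A] (I : Ideal A) [HenselianRing A I]
    (R : Type u) [CommRing R] [Algebra A R] [Algebra.FinitePresentation A R]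
    (h : ∀ (p : Ideal R) [p.IsPrime], I.map (algebraMap A R) ≤ p → Module.Flat A (Localization.AtPrime p))
    : ∃ (R' : Type u) (_ : CommRing R') (_ : Algebra R R') (_ : Algebra A R') (_ : IsScalarTower A R R'),
      Algebra.Etale R R' ∧
      Function.Bijective (Ideal.quotientMap ((I.map (algebraMap A R)).map (algebraMap R R'))
        (algebraMap R R') Ideal.le_comap_map) ∧ Module.Flat A R' := by
  classical
  set J : Ideal R := I.map (algebraMap A R) with hJ
  have hopen : IsOpen (Groth.Agent.H1.FlatLocus.flatLocus A (S := R) R) :=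
    Groth.Agent.H1.FlatLocus.isOpen_flatLocus_of_finitePresentation (R := A) (S := R) (M := R)
  -- transfer lemma between the two models of the localization
  have htrans : ∀ (q : Ideal R) [q.IsPrime],
      Module.Flat A (Localization.AtPrime q) ↔
        Module.Flat A (LocalizedModule q.primeCompl R) := by
    intro q _
    let e : LocalizedModule q.primeCompl R ≃ₗ[R] Localization.AtPrime q :=
      IsLocalizedModule.iso q.primeCompl (Algebra.linearMap R (Localization.AtPrime q))
    let e' : LocalizedModule q.primeCompl R ≃ₗ[A] Localization.AtPrime q := e.restrictScalars A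
    constructor
    · intro hfl
      exact Module.Flat.of_linearEquiv e'
    · intro hfl
      exact Module.Flat.of_linearEquiv e'.symm
  have hmem : ∀ q : PrimeSpectrum R, J ≤ q.asIdeal →
      q ∈ Groth.Agent.H1.FlatLocus.flatLocus A (S := R) R := by
    intro q hq
    exact (htrans q.asIdeal).mp (h q.asIdeal hq)
  obtain ⟨K, hK⟩ := (PrimeSpectrum.isClosed_iff_zeroLocus_ideal _).mp hopen.isClosed_compl
  have hKJ : K ⊔ J = ⊤ := by
    rw [← PrimeSpectrum.zeroLocus_empty_iff_eq_top, PrimeSpectrum.zeroLocus_sup]
    rw [Set.eq_empty_iff_forall_notMem]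
    rintro q ⟨hq1, hq2⟩
    have hq1' : q ∈ (Groth.Agent.H1.FlatLocus.flatLocus A (S := R) R)ᶜ := by rw [hK]; exact hq1
    exact hq1' (hmem q hq2)
  obtain ⟨f, hfK, j, hjJ, hfj⟩ := Submodule.mem_sup.mp (hKJ ▸ (Submodule.mem_top : (1 : R) ∈ ⊤))
  have hf1 : Ideal.Quotient.mk J f = 1 := by
    have : Ideal.Quotient.mk J (f + j) = 1 := by rw [hfj, map_one]
    rwa [map_add, Ideal.Quotient.eq_zero_iff_mem.mpr hjJ, add_zero] at this
  have hfpow : ∀ n : ℕ, (1 - f ^ n) ∈ J := by
    intro n
    rw [← Ideal.Quotient.eq_zero_iff_mem, map_sub, map_one, map_pow, hf1, one_pow, sub_self]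
  refine ⟨Localization.Away f, inferInstance, inferInstance, inferInstance, inferInstance,
    Algebra.Etale.of_isLocalizationAway f, ⟨?_, ?_⟩, ?_⟩
  · -- injective
    rw [injective_iff_map_eq_zero]
    intro x hx
    obtain ⟨r, rfl⟩ := Ideal.Quotient.mk_surjective x
    rw [Ideal.quotientMap_mk, Ideal.Quotient.eq_zero_iff_mem,
      IsLocalization.mem_map_algebraMap_iff (Submonoid.powers f)] at hx
    obtain ⟨⟨⟨j', hj'⟩, ⟨s, hs⟩⟩, hxs⟩ := hx
    simp only at hxs
    rw [← map_mul, IsLocalization.eq_iff_exists (Submonoid.powers f)] at hxs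
    obtain ⟨⟨c, hc⟩, hcs⟩ := hxs
    simp only at hcs
    obtain ⟨a, rfl⟩ := hs
    obtain ⟨b, rfl⟩ := hc
    rw [Ideal.Quotient.eq_zero_iff_mem]
    have h1 : f ^ (b + a) * r ∈ J := by
      have : f ^ (b + a) * r = f ^ b * j' := by rw [pow_add, ← hcs]; ring
      rw [this]
      exact J.mul_mem_left _ hj'
    have h2 : r = (1 - f ^ (b + a)) * r + f ^ (b + a) * r := by ring
    rw [h2]
    exact J.add_mem (J.mul_mem_right _ (hfpow _)) h1
  · -- surjective
    intro y
    obtain ⟨z, rfl⟩ := Ideal.Quotient.mk_surjective y
    obtain ⟨r, ⟨s, hs⟩, rfl⟩ := IsLocalization.exists_mk'_eq (Submonoid.powers f) z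
    obtain ⟨n, rfl⟩ := hs
    refine ⟨Ideal.Quotient.mk J r, ?_⟩
    rw [Ideal.quotientMap_mk]
    rw [Ideal.Quotient.eq]
    have hz : IsLocalization.mk' (Localization.Away f) r (⟨f ^ n, n, rfl⟩ : Submonoid.powers f) *
        algebraMap R (Localization.Away f) (f ^ n) = algebraMap R (Localization.Away f) r :=
      IsLocalization.mk'_spec _ _ _
    have : algebraMap R (Localization.Away f) r -
        IsLocalization.mk' (Localization.Away f) r (⟨f ^ n, n, rfl⟩ : Submonoid.powers f) =
        - (IsLocalization.mk' (Localization.Away f) r (⟨f ^ n, n, rfl⟩ : Submonoid.powers f) *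
          algebraMap R (Localization.Away f) (1 - f ^ n)) := by
      rw [map_sub, map_one, mul_sub, mul_one, hz]; ring
    rw [this]
    exact Ideal.neg_mem_iff _ |>.mpr (Ideal.mul_mem_left _ _ (Ideal.mem_map_of_mem _ (hfpow n)))
  · -- flat
    refine Module.flat_of_isLocalized_maximal (Localization.Away f) (Localization.Away f)
      (fun P _ => Localization.AtPrime P)
      (fun P _ => Algebra.linearMap (Localization.Away f) (Localization.AtPrime P)) ?_
    intro P hP
    let p : Ideal R := P.comap (algebraMap R (Localization.Away f))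
    have hpprime : p.IsPrime := Ideal.comap_isPrime _ _
    have hfp : f ∉ p := by
      intro hfp
      have hu : IsUnit (algebraMap R (Localization.Away f) f) :=
        IsLocalization.map_units (Localization.Away f) (⟨f, 1, by simp⟩ : Submonoid.powers f)
      exact hP.ne_top (Ideal.eq_top_of_isUnit_mem _ hfp hu)
    have hpflat : (⟨p, hpprime⟩ : PrimeSpectrum R) ∈
        Groth.Agent.H1.FlatLocus.flatLocus A (S := R) R := by
      by_contra hcon
      have : (⟨p, hpprime⟩ : PrimeSpectrum R) ∈
          (Groth.Agent.H1.FlatLocus.flatLocus A (S := R) R)ᶜ := hcon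
      rw [hK] at this
      exact hfp (this hfK)
    have hflp : Module.Flat A (Localization.AtPrime p) := (htrans p).mpr hpflat
    have hloc : IsLocalization.AtPrime (Localization.AtPrime P) p :=
      IsLocalization.isLocalization_isLocalization_atPrime_isLocalization (Submonoid.powers f)
        (Localization.AtPrime P) P
    let e : Localization.AtPrime p ≃ₐ[R] Localization.AtPrime P :=
      IsLocalization.algEquiv p.primeCompl (Localization.AtPrime p) (Localization.AtPrime P)
    have htower : IsScalarTower A R (Localization.AtPrime P) := by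
      refine IsScalarTower.of_algebraMap_eq fun a => ?_
      rw [IsScalarTower.algebraMap_apply A (Localization.Away f) (Localization.AtPrime P),
        IsScalarTower.algebraMap_apply A R (Localization.Away f),
        ← IsScalarTower.algebraMap_apply R (Localization.Away f) (Localization.AtPrime P)]
    let e' : Localization.AtPrime p ≃ₗ[A] Localization.AtPrime P :=
      e.toLinearEquiv.restrictScalars A
    exact Module.Flat.of_linearEquiv e'.symm

end Groth.Agent.S17593
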