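import Groth.Statements.S17595
import Groth.Agent.H3.QuasiFiniteAway
import Mathlib.RingTheory.Etale.Basic

set_option autoImplicit false
universe u
open Hensel

namespace Groth.Agent.S17595

/-- Suppose (A, I) is a Henselian pair, and R is an A-algebra of finite presentation for which A → R is
quasi-finite at each prime of R that contains IR. Then there is an étale R-algebra R' such that R/IR
→ R'/IR' is bijective and A → R' is quasi-finite. -/
theorem result (A : Type u) [CommRing A] (I : Ideal A) [HenselianRing A I]
    (R : Type u) [CommRing R] [Algebra A R] [Algebra.FinitePresentation A R]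
    (h : ∀ (p : Ideal R) [p.IsPrime], I.map (algebraMap A R) ≤ p → Algebra.QuasiFiniteAt A p)
    : ∃ (R' : Type u) (_ : CommRing R') (_ : Algebra R R') (_ : Algebra A R') (_ : IsScalarTower A R R'),
      Algebra.Etale R R' ∧
      Function.Bijective (Ideal.quotientMap ((I.map (algebraMap A R)).map (algebraMap R R'))
        (algebraMap R R') Ideal.le_comap_map) ∧ Algebra.QuasiFinite A R' := by
  classical
  have hft : Algebra.FiniteType A R := inferInstance
  let U : Set (PrimeSpectrum R) :=
    {q | ∃ r ∉ q.asIdeal, Algebra.QuasiFinite A (Localization.Away r)}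
  have hU : IsOpen U := by
    rw [isOpen_iff_forall_mem_open]
    rintro q ⟨r, hr, hqf⟩
    refine ⟨PrimeSpectrum.basicOpen r, ?_, (PrimeSpectrum.basicOpen r).isOpen, hr⟩
    intro q' hq'
    exact ⟨r, hq', hqf⟩
  obtain ⟨j, hj, hjU⟩ := Groth.Agent.H3.AwayQuot.exists_basicOpen_subset
    (I.map (algebraMap A R)) U hU (by
      intro p hp
      have := h p.asIdeal hp
      exact Groth.Agent.H3.QuasiFiniteAway.exists_away_quasiFinite p.asIdeal)
  refine ⟨Localization.Away j, inferInstance, inferInstance, inferInstance, inferInstance,
    ?_, ?_, ?_⟩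
  · exact Algebra.Etale.of_isLocalizationAway j
  · exact Groth.Agent.H3.AwayQuot.quotientMap_bijective _ j hj _
  · apply Groth.Agent.H3.QuasiFiniteAway.quasiFinite_away_of_cover
    intro q hq hjq
    exact hjU (show (⟨q, hq⟩ : PrimeSpectrum R) ∈ (PrimeSpectrum.basicOpen j : Set _) from hjq)

end Groth.Agent.S17595
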