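import Groth.Statements.S17599
import Groth.Agent.H78.PairHensFin
import Groth.Agent.H3.HfpHom
import Groth.Agent.H87.HfpEtale
import Groth.Agent.H87.SmoothQuotF
import Groth.Agent.H87.SmoothLiftHens

set_option autoImplicit false
universe u
open Hensel

namespace Groth.Agent.S17599

/-- Let (A, I) be a Henselian pair and let B be a Henselization of the pair (R₀, IR₀) for a finitely
presented A-algebra R₀ (so A → B is a Henselian finitely presented map of Henselian pairs). Assume
that A/I^r → B/I^rB is smooth for every r ≥ 1 (for Henselian finitely presented maps this is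
equivalent to the h-formally smooth lifting property). Then there exist a smooth A-algebra R, a
Henselization H of the pair (R, IR) and a surjective A-algebra map H → B whose kernel is a finitely
generated ideal contained in I^n H for every n. -/
theorem result (A : Type u) [CommRing A] (I : Ideal A)
    [HenselianRing A I] (R₀ : Type u) [CommRing R₀] [Algebra A R₀] [Algebra.FinitePresentation A R₀]
    (B : Type u) [CommRing B] [Algebra R₀ B] [Algebra A B] [IsScalarTower A R₀ B]
    (hB : Hens2.IsPairHenselization R₀ (I.map (algebraMap A R₀)) B)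
    (het : ∀ r : ℕ, 1 ≤ r → Algebra.Smooth (A ⧸ I ^ r) (B ⧸ (I ^ r).map (algebraMap A B))) :
    ∃ (R : Type u) (_ : CommRing R) (_ : Algebra A R) (H : Type u) (_ : CommRing H) (_ : Algebra R H)
      (_ : Algebra A H) (_ : IsScalarTower A R H),
      Algebra.Smooth A R ∧ Hens2.IsPairHenselization R (I.map (algebraMap A R)) H ∧
      ∃ φ : H →ₐ[A] B, Function.Surjective φ ∧ (RingHom.ker φ).FG ∧
        ∀ n : ℕ, RingHom.ker φ ≤ (I ^ n).map (algebraMap A H) := by
  classical
  -- ideals
  have hIB : (I ^ 1).map (algebraMap A B) =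
      (I.map (algebraMap A R₀)).map (algebraMap R₀ B) := by
    rw [pow_one, Ideal.map_map, ← IsScalarTower.algebraMap_eq]
  have hBhens : HenselianRing B ((I ^ 1).map (algebraMap A B)) := by
    rw [hIB]; exact hB.1
  -- Step 1: smooth lift of the reduction
  have hsm1 : Algebra.Smooth (A ⧸ I ^ 1) (B ⧸ (I ^ 1).map (algebraMap A B)) := het 1 le_rfl
  obtain ⟨R, _, _, hRsm, ⟨e⟩⟩ := Groth.Agent.H87.SmoothQuot.exists_smooth_lift (I ^ 1)
    (A₀ := B ⧸ (I ^ 1).map (algebraMap A B))
  let q : R →+* B ⧸ (I ^ 1).map (algebraMap A B) :=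
    (e : (R ⧸ (I ^ 1).map (algebraMap A R)) →+* B ⧸ (I ^ 1).map (algebraMap A B)).comp
      (Ideal.Quotient.mk _)
  have hqsurj : Function.Surjective q := e.surjective.comp Ideal.Quotient.mk_surjective
  have hqalg : ∀ a : A, q (algebraMap A R a) =
      algebraMap (A ⧸ I ^ 1) (B ⧸ (I ^ 1).map (algebraMap A B)) (Ideal.Quotient.mk _ a) := by
    intro a
    change e (Ideal.Quotient.mk _ (algebraMap A R a)) = _
    have h1 : Ideal.Quotient.mk ((I ^ 1).map (algebraMap A R)) (algebraMap A R a) =
        algebraMap (A ⧸ I ^ 1) (R ⧸ (I ^ 1).map (algebraMap A R)) (Ideal.Quotient.mk _ a) := rfl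
    rw [h1, e.commutes]
  have hqker : ∀ s, q s = 0 → s ∈ (I ^ 1).map (algebraMap A R) := by
    intro s hs
    have h1 : e (Ideal.Quotient.mk _ s) = 0 := hs
    rw [map_eq_zero_iff e e.injective] at h1
    exact Ideal.Quotient.eq_zero_iff_mem.mp h1
  -- Step 2: lift to `R → B`
  let σ₀ : R →ₐ[A] B ⧸ (I ^ 1).map (algebraMap A B) :=
    { q with commutes' := fun a => hqalg a }
  obtain ⟨φ, hφ⟩ :=
    Groth.Agent.H87.SmoothHens.exists_lift_of_smooth_of_henselian B hBhens R σ₀
  have hφq : ∀ x : R, Ideal.Quotient.mk ((I ^ 1).map (algebraMap A B)) (φ x) = q x := hφ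
  -- Step 3: the henselization of `(R, IR)`
  let H := Groth.Agent.H3.HensTower.Lim R (I.map (algebraMap A R))
  have hH : Hens2.IsPairHenselization R (I.map (algebraMap A R)) H :=
    Groth.Agent.H3.HensFlatMain.isPairHenselization_Lim R _
  let _ : Algebra A H := ((algebraMap R H).comp (algebraMap A R)).toAlgebra
  have htAH : IsScalarTower A R H := IsScalarTower.of_algebraMap_eq' rfl
  have hIH : (I.map (algebraMap A R)).map (algebraMap R H) = I.map (algebraMap A H) := by
    rw [Ideal.map_map, ← IsScalarTower.algebraMap_eq]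
  have hle : (I.map (algebraMap A R)).map (φ : R →+* B) ≤ (I ^ 1).map (algebraMap A B) := by
    rw [Ideal.map_map, pow_one]
    have : (φ : R →+* B).comp (algebraMap A R) = algebraMap A B := by
      ext a; exact φ.commutes a
    rw [this]
  obtain ⟨Φ₀, hΦ₀, -⟩ := hH.2 B ((I ^ 1).map (algebraMap A B)) (φ : R →+* B) hBhens hle
  have hΦ₀' : ∀ r : R, Φ₀ (algebraMap R H r) = φ r := fun r => RingHom.congr_fun hΦ₀ r
  let Φ : H →ₐ[A] B :=
    { Φ₀ with
      commutes' := fun a => by
        change Φ₀ (algebraMap R H (algebraMap A R a)) = _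
        rw [hΦ₀']
        exact φ.commutes a }
  have hΦr : ∀ r : R, Φ (algebraMap R H r) = φ r := hΦ₀'
  -- basic congruence facts
  have hsurj : ∀ b : B, ∃ h : H, b - Φ h ∈ I.map (algebraMap A B) := by
    intro b
    obtain ⟨r, hr⟩ := hqsurj (Ideal.Quotient.mk _ b)
    refine ⟨algebraMap R H r, ?_⟩
    rw [hΦr]
    have h1 : b - φ r ∈ (I ^ 1).map (algebraMap A B) := by
      rw [← Ideal.Quotient.eq, hφq, hr]
    rwa [pow_one] at h1
  have hinj : ∀ h : H, Φ h ∈ I.map (algebraMap A B) → h ∈ I.map (algebraMap A H) := by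
    intro h hh
    obtain ⟨r, hr⟩ := Groth.Agent.H3.PairHens.exists_sub_mem hH h
    rw [hIH] at hr
    have h1 : Φ (h - algebraMap R H r) ∈ I.map (algebraMap A B) :=
      Groth.Agent.H3.EtNbhd.algHom_mem_of_mem Φ hr
    rw [map_sub, hΦr] at h1
    have h2 : φ r ∈ I.map (algebraMap A B) := by
      have := Ideal.sub_mem _ hh h1
      rwa [sub_sub_cancel] at this
    have h3 : q r = 0 := by
      rw [← hφq, Ideal.Quotient.eq_zero_iff_mem, pow_one]
      exact h2
    have h4 : r ∈ I.map (algebraMap A R) := by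
      have := hqker r h3
      rwa [pow_one] at this
    have h5 : algebraMap R H r ∈ I.map (algebraMap A H) := by
      rw [← hIH]
      exact Ideal.mem_map_of_mem _ h4
    have h6 : h = (h - algebraMap R H r) + algebraMap R H r := by ring
    rw [h6]
    exact Ideal.add_mem _ hr h5
  have hflat : ∀ n : ℕ, 1 ≤ n → Module.Flat (A ⧸ I ^ n) (B ⧸ (I ^ n).map (algebraMap A B)) := by
    intro n hn
    have := het n hn
    infer_instance
  -- Step 4: surjectivity and finite generation of the kernel
  let _ : Algebra H B := Φ₀.toAlgebra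
  have htAHB : IsScalarTower A H B := IsScalarTower.of_algebraMap_eq fun a => (Φ.commutes a).symm
  have hfpR : Algebra.FinitePresentation A R := inferInstance
  obtain ⟨T, _, _, _, _, hTfp, hT⟩ := Groth.Agent.H3.HfpHom.main A I R H hH R₀ B hB
  have hHhens : HenselianRing H (I.map (algebraMap A H)) := by
    rw [← hIH]; exact hH.1
  have hIHB : (I.map (algebraMap A H)).map (algebraMap H B) = I.map (algebraMap A B) := by
    rw [Ideal.map_map, ← IsScalarTower.algebraMap_eq]
  have hqs : Function.Surjective
      (Ideal.quotientMap ((I.map (algebraMap A H)).map (algebraMap H B)) (algebraMap H B)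
        Ideal.le_comap_map) := by
    intro y
    obtain ⟨b, rfl⟩ := Ideal.Quotient.mk_surjective y
    obtain ⟨h, hh⟩ := hsurj b
    refine ⟨Ideal.Quotient.mk _ h, ?_⟩
    rw [Ideal.quotientMap_mk]
    symm
    rw [Ideal.Quotient.eq, hIHB]
    exact hh
  have hΦsurj : Function.Surjective (algebraMap H B) :=
    Groth.Agent.H78.PairHensFin.surjective_of_quotient_surjective (I.map (algebraMap A H)) hHhens hT hqs
  have hfpB : Algebra.FinitePresentation H B :=
    (Groth.Agent.H78.PairHensFin.finite_and_finitePresentation (I.map (algebraMap A H)) hHhens hT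
      (RingHom.Finite.of_surjective _ hqs)).2
  have hkerfg : (RingHom.ker (Algebra.ofId H B).toRingHom).FG :=
    Algebra.FinitePresentation.ker_fG_of_surjective (Algebra.ofId H B) hΦsurj
  refine ⟨R, inferInstance, inferInstance, H, inferInstance, inferInstance, inferInstance, htAH,
    hRsm, hH, Φ, hΦsurj, hkerfg, ?_⟩
  intro n x hx
  have hx0 : Φ x = 0 := hx
  exact Groth.Agent.H87.HfpEtale.mem_map_pow_of_map_mem I Φ hsurj hinj hflat n x
    (by rw [hx0]; exact Ideal.zero_mem _)

end Groth.Agent.S17599
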