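import Groth.Statements.S17605

set_option autoImplicit false
universe u
open Hensel

namespace Groth.Agent.S17605

/-- Let A be a ring with an ideal I and let f₁, f₂ be elements of A such that D(f₂) ∩ V(I) ⊆ D(f₁) ∩
V(I) in Spec A. If H₁ is a Henselization of the pair (A_{f₁}, IA_{f₁}) and H₂ a Henselization of the
pair (A_{f₂}, IA_{f₂}), with their induced A-algebra structures, then there is exactly one A-algebra
map H₁ → H₂. -/
theorem result (A : Type u) [CommRing A]
    (I : Ideal A) (f₁ f₂ : A)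
    (h : (PrimeSpectrum.basicOpen f₂ : Set (PrimeSpectrum A)) ∩ PrimeSpectrum.zeroLocus (I : Set A) ⊆
      (PrimeSpectrum.basicOpen f₁ : Set (PrimeSpectrum A)) ∩ PrimeSpectrum.zeroLocus (I : Set A))
    (H₁ : Type u) [CommRing H₁] [Algebra (Localization.Away f₁) H₁] [Algebra A H₁]
    [IsScalarTower A (Localization.Away f₁) H₁]
    (hH₁ : Hens2.IsPairHenselization (Localization.Away f₁)
      (I.map (algebraMap A (Localization.Away f₁))) H₁)
    (H₂ : Type u) [CommRing H₂] [Algebra (Localization.Away f₂) H₂] [Algebra A H₂]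
    [IsScalarTower A (Localization.Away f₂) H₂]
    (hH₂ : Hens2.IsPairHenselization (Localization.Away f₂)
      (I.map (algebraMap A (Localization.Away f₂))) H₂) :
    Nonempty (H₁ →ₐ[A] H₂) ∧ Subsingleton (H₁ →ₐ[A] H₂) := by
  classical
  obtain ⟨hens₂, -⟩ := hH₂
  obtain ⟨-, univ₁⟩ := hH₁
  -- the ideal of H₂
  set J₂ : Ideal H₂ := (I.map (algebraMap A (Localization.Away f₂))).map
    (algebraMap (Localization.Away f₂) H₂) with hJ₂
  have hJ₂' : J₂ = I.map (algebraMap A H₂) := by
    rw [hJ₂, Ideal.map_map, ← IsScalarTower.algebraMap_eq]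
  have hjac : J₂ ≤ Ideal.jacobson ⊥ := hens₂.jac
  -- f₂ is a unit in H₂
  have hf₂ : IsUnit (algebraMap A H₂ f₂) := by
    rw [IsScalarTower.algebraMap_apply A (Localization.Away f₂) H₂]
    exact (IsLocalization.Away.algebraMap_isUnit f₂).map _
  -- f₁ is a unit in H₂
  have hf₁ : IsUnit (algebraMap A H₂ f₁) := by
    by_contra hnu
    obtain ⟨m, hm, hfm⟩ := exists_max_ideal_of_mem_nonunits (mem_nonunits_iff.mpr hnu)
    have hJm : J₂ ≤ m := by
      refine hjac.trans ?_
      rw [Ideal.jacobson_bot]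
      exact Ring.jacobson_le_of_isMaximal m
    let p : PrimeSpectrum A := ⟨m.comap (algebraMap A H₂), Ideal.comap_isPrime _ _⟩
    have hp : p ∈ (PrimeSpectrum.basicOpen f₂ : Set (PrimeSpectrum A)) ∩
        PrimeSpectrum.zeroLocus (I : Set A) := by
      constructor
      · show f₂ ∉ m.comap (algebraMap A H₂)
        rw [Ideal.mem_comap]
        intro hmem
        exact hm.ne_top (Ideal.eq_top_of_isUnit_mem _ hmem hf₂)
      · show (I : Set A) ⊆ m.comap (algebraMap A H₂)
        intro a ha
        rw [SetLike.mem_coe, Ideal.mem_comap]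
        apply hJm
        rw [hJ₂']
        exact Ideal.mem_map_of_mem _ ha
    have := (h hp).1
    exact this hfm
  -- the map A_{f₁} → H₂
  let φ : Localization.Away f₁ →+* H₂ := IsLocalization.Away.lift f₁ hf₁
  have hφ : φ.comp (algebraMap A (Localization.Away f₁)) = algebraMap A H₂ :=
    IsLocalization.Away.lift_comp f₁ hf₁
  have hφI : (I.map (algebraMap A (Localization.Away f₁))).map φ ≤ J₂ := by
    rw [Ideal.map_map, hφ, hJ₂']
  constructor
  · obtain ⟨g, hg, -⟩ := univ₁ H₂ J₂ φ hens₂ hφI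
    refine ⟨{ g with commutes' := fun a => ?_ }⟩
    show g (algebraMap A H₁ a) = algebraMap A H₂ a
    rw [IsScalarTower.algebraMap_apply A (Localization.Away f₁) H₁]
    have := congrArg (fun ψ : Localization.Away f₁ →+* H₂ => ψ (algebraMap A _ a)) hg
    simp only [RingHom.comp_apply] at this
    rw [this]
    exact congrArg (fun ψ : A →+* H₂ => ψ a) hφ
  · refine ⟨fun ψ₁ ψ₂ => ?_⟩
    have key : ∀ ψ : H₁ →ₐ[A] H₂, (ψ : H₁ →+* H₂).comp (algebraMap (Localization.Away f₁) H₁) = φ := by
      intro ψ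
      apply IsLocalization.ringHom_ext (Submonoid.powers f₁)
      rw [hφ, RingHom.comp_assoc, ← IsScalarTower.algebraMap_eq]
      ext a
      simp
    obtain ⟨g, -, huniq⟩ := univ₁ H₂ J₂ φ hens₂ hφI
    have h1 := huniq _ (key ψ₁)
    have h2 := huniq _ (key ψ₂)
    apply AlgHom.coe_ringHom_injective
    rw [h1, h2]

end Groth.Agent.S17605
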