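import Groth.Statements.S17607
import Groth.Agent.H3.HensQuotient
import Groth.Agent.H3.EtNbhdImage
import Groth.Agent.H3.HensFlatMain

set_option autoImplicit false
universe u
open Hensel

namespace Groth.Agent.S17607

/-- Let (A, I) and (B, IB) be Henselian pairs with B an A-algebra. Then the following are equivalent:
(i) A → B is Henselian finitely presented, i.e. there are n, a Henselization P of the pair
(A[X₁,…,Xₙ], I·A[X₁,…,Xₙ]) (a Henselized polynomial ring) and a surjective A-algebra map P → B with
finitely generated kernel; (ii) there are a finitely presented A-algebra R and an R-algebra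
structure on B compatible with that of A for which B is a Henselization of the pair (R, IR). -/
theorem result (A : Type u) [CommRing A] (I : Ideal A)
    [HenselianRing A I] (B : Type u) [CommRing B] [Algebra A B]
    [HenselianRing B (I.map (algebraMap A B))] :
    (∃ (n : ℕ) (P : Type u) (_ : CommRing P) (_ : Algebra (MvPolynomial (Fin n) A) P) (_ : Algebra A P)
        (_ : IsScalarTower A (MvPolynomial (Fin n) A) P),
        Hens2.IsPairHenselization (MvPolynomial (Fin n) A)
          (I.map (algebraMap A (MvPolynomial (Fin n) A))) P ∧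
        ∃ φ : P →ₐ[A] B, Function.Surjective φ ∧ (RingHom.ker φ).FG) ↔
    ∃ (R : Type u) (_ : CommRing R) (_ : Algebra A R) (_ : Algebra R B) (_ : IsScalarTower A R B),
      Algebra.FinitePresentation A R ∧ Hens2.IsPairHenselization R (I.map (algebraMap A R)) B := by
  classical
  constructor
  · -- (i) ⇒ (ii)
    rintro ⟨n, P, _, _, _, _, hP, φ, hφs, hφk⟩
    obtain ⟨s, hs⟩ := hφk
    have hker_eq : RingHom.ker φ = RingHom.ker φ.toRingHom := by
      ext x; rfl
    rw [hker_eq] at hs
    obtain ⟨Q', _, _, hN, ψ, hψ⟩ := Groth.Agent.H3.EtNbhd.inImage_finset hP s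
    have hEt : Algebra.Etale (MvPolynomial (Fin n) A) Q' := hN.etale
    letI : Algebra Q' P := ψ.toRingHom.toAlgebra
    have hψa : ∀ x, algebraMap Q' P x = ψ x := fun x => rfl
    have : IsScalarTower (MvPolynomial (Fin n) A) Q' P :=
      IsScalarTower.of_algebraMap_eq fun a => (ψ.commutes a).symm
    letI : Algebra A Q' :=
      ((algebraMap (MvPolynomial (Fin n) A) Q').comp (algebraMap A (MvPolynomial (Fin n) A))).toAlgebra
    have : IsScalarTower A (MvPolynomial (Fin n) A) Q' := IsScalarTower.of_algebraMap_eq' rfl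
    have hP' := Groth.Agent.H3.EtNbhd.isPairHenselization_nbhd hP hN
    -- preimages of the generators
    have hpre : ∀ x : (s : Set P), ∃ y : Q', ψ y = x := fun x => hψ x.2
    choose g hg using hpre
    let K' : Ideal Q' := Ideal.span (Set.range g)
    have hK'fg : K'.FG := Submodule.fg_span (Set.finite_range g)
    have hK'map : K'.map (algebraMap Q' P) = RingHom.ker φ.toRingHom := by
      rw [Ideal.map_span, ← hs]
      congr 1
      ext x
      constructor
      · rintro ⟨_, ⟨y, rfl⟩, rfl⟩
        rw [hψa, hg]; exact y.2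
      · intro hx
        exact ⟨g ⟨x, hx⟩, ⟨_, rfl⟩, by rw [hψa, hg]⟩
    have hquot := Groth.Agent.H3.HensQuotient.isPairHenselization_quotient hP' K'
    let R := Q' ⧸ K'
    have hFPQ' : Algebra.FinitePresentation A Q' :=
      Algebra.FinitePresentation.trans A (MvPolynomial (Fin n) A) Q'
    have hFPR : Algebra.FinitePresentation A R := Algebra.FinitePresentation.quotient hK'fg
    let ε : (P ⧸ K'.map (algebraMap Q' P)) ≃+* B :=
      (Ideal.quotEquivOfEq hK'map).trans (RingHom.quotientKerEquivOfSurjective hφs)
    have hε : ∀ p : P, ε (Ideal.Quotient.mk _ p) = φ p := fun p => rfl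
    letI : Algebra R B :=
      ((ε : (P ⧸ K'.map (algebraMap Q' P)) →+* B).comp
        (algebraMap R (P ⧸ K'.map (algebraMap Q' P)))).toAlgebra
    have hAP : ∀ a : A, algebraMap A P a = ψ (algebraMap A Q' a) := by
      intro a
      rw [IsScalarTower.algebraMap_apply A (MvPolynomial (Fin n) A) P,
        IsScalarTower.algebraMap_apply (MvPolynomial (Fin n) A) Q' P, hψa]
      rfl
    have htower : IsScalarTower A R B := by
      refine IsScalarTower.of_algebraMap_eq fun a => ?_
      change algebraMap A B a = ε (algebraMap R (P ⧸ K'.map (algebraMap Q' P))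
        (Ideal.Quotient.mk K' (algebraMap A Q' a)))
      have h1 : algebraMap R (P ⧸ K'.map (algebraMap Q' P))
          (Ideal.Quotient.mk K' (algebraMap A Q' a)) =
          Ideal.Quotient.mk _ (algebraMap Q' P (algebraMap A Q' a)) := rfl
      rw [h1, hε, hψa, ← hAP, φ.commutes]
    refine ⟨R, inferInstance, inferInstance, inferInstance, htower, hFPR, ?_⟩
    have hideal : ((I.map (algebraMap A (MvPolynomial (Fin n) A))).map
        (algebraMap (MvPolynomial (Fin n) A) Q')).map (Ideal.Quotient.mk K') =
        I.map (algebraMap A R) := by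
      rw [Ideal.map_map, Ideal.map_map]
      rfl
    rw [hideal] at hquot
    exact Groth.Agent.H3.HensIso.isPairHenselization_of_ringEquiv hquot ε rfl
  · -- (ii) ⇒ (i)
    rintro ⟨R, _, _, _, _, hFP, hB⟩
    obtain ⟨n, f, hfs, hfg⟩ := Algebra.FinitePresentation.out (R := A) (A := R)
    let Q := MvPolynomial (Fin n) A
    let L : Ideal Q := I.map (algebraMap A Q)
    let P := Groth.Agent.H3.HensTower.Lim Q L
    have hP : Hens2.IsPairHenselization Q L P := Groth.Agent.H3.HensFlatMain.isPairHenselization_Lim Q L
    letI : Algebra A P := ((algebraMap Q P).comp (algebraMap A Q)).toAlgebra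
    have : IsScalarTower A Q P := IsScalarTower.of_algebraMap_eq' rfl
    let K₀ : Ideal Q := RingHom.ker f.toRingHom
    have hquot := Groth.Agent.H3.HensQuotient.isPairHenselization_quotient hP K₀
    let e₀ : (Q ⧸ K₀) ≃+* R := RingHom.quotientKerEquivOfSurjective hfs
    have he₀ : ∀ x : Q, e₀ (Ideal.Quotient.mk K₀ x) = f x := fun x => rfl
    letI : Algebra (Q ⧸ K₀) B := ((algebraMap R B).comp (e₀ : (Q ⧸ K₀) →+* R)).toAlgebra
    have hideal : (L.map (Ideal.Quotient.mk K₀)).map (e₀ : (Q ⧸ K₀) →+* R) =
        I.map (algebraMap A R) := by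
      rw [Ideal.map_map, Ideal.map_map]
      congr 1
      ext a
      change e₀ (Ideal.Quotient.mk K₀ (algebraMap A Q a)) = _
      rw [he₀, f.commutes]
    have hB' : Hens2.IsPairHenselization (Q ⧸ K₀) (L.map (Ideal.Quotient.mk K₀)) B :=
      Groth.Agent.H3.HensQuotient.isPairHenselization_of_base_ringEquiv e₀ _ _ hideal rfl hB
    obtain ⟨ε⟩ := Groth.Agent.H3.HensFlatMain.exists_algEquiv hquot hB'
    let φr : P →+* B := (ε : (P ⧸ K₀.map (algebraMap Q P)) →+* B).comp (Ideal.Quotient.mk _)
    have hφr : ∀ a : A, φr (algebraMap A P a) = algebraMap A B a := by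
      intro a
      change ε (Ideal.Quotient.mk _ (algebraMap Q P (algebraMap A Q a))) = _
      have h1 : Ideal.Quotient.mk (K₀.map (algebraMap Q P)) (algebraMap Q P (algebraMap A Q a)) =
          algebraMap (Q ⧸ K₀) (P ⧸ K₀.map (algebraMap Q P))
            (Ideal.Quotient.mk K₀ (algebraMap A Q a)) := rfl
      rw [h1, ε.commutes]
      change algebraMap R B (e₀ (Ideal.Quotient.mk K₀ (algebraMap A Q a))) = _
      rw [he₀, f.commutes, ← IsScalarTower.algebraMap_apply]
    refine ⟨n, P, inferInstance, inferInstance, inferInstance, inferInstance, hP,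
      { φr with commutes' := hφr }, ?_, ?_⟩
    · intro b
      obtain ⟨x, hx⟩ := ε.surjective b
      obtain ⟨p, rfl⟩ := Ideal.Quotient.mk_surjective x
      exact ⟨p, hx⟩
    · have hker : RingHom.ker ({ φr with commutes' := hφr } : P →ₐ[A] B) =
          K₀.map (algebraMap Q P) := by
        ext p
        rw [RingHom.mem_ker]
        change ε (Ideal.Quotient.mk _ p) = 0 ↔ _
        rw [map_eq_zero_iff _ ε.injective, Ideal.Quotient.eq_zero_iff_mem]
      rw [hker]
      exact hfg.map _

end Groth.Agent.S17607
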