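import Groth.Statements.S1761
import Groth.Agent.H9.LD.CompleteLD

set_option autoImplicit false
universe u
open CategoryTheory
attribute [local instance] HasDerivedCategory.standard
open Dual

namespace Groth.Agent.S1761

/-- For a complete local ring (where the completion on the left-hand side is the identity). Let A be a
complete Noetherian local ring with maximal ideal m, normalized dualizing complex ω and injective
hull κ → E of the residue field. For every K in D(A) all of whose cohomology modules are finite and
every integer i, the A-module of maps K → ω[−i] in D(A) is isomorphic to Hom_A(H^i_m(K), E), where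
H^i_m(K) is the direct limit of Hom(A/m^n, K[i]). -/
theorem result (A : Type u) [CommRing A] [IsLocalRing A] [IsNoetherianRing A] [IsAdicComplete (IsLocalRing.maximalIdeal A) A] (ω : Dual.D A) (hω : Dual.IsDualizing A ω) (hn : Dual.IsNormalized A ω) (E : Type u) [AddCommGroup E] [Module A E] (f : IsLocalRing.ResidueField A →ₗ[A] E) (hf : InjHull.IsInjectiveHull f) (K : Dual.D A) (hK : ∀ i : ℤ, Module.Finite A (Dual.HD A K i)) (i : ℤ) : Nonempty ((K ⟶ ω⟦(-i)⟧) ≃ₗ[A] (Dual2.HDI A (IsLocalRing.maximalIdeal A) K i →ₗ[A] E)) := by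
  haveI := Groth.Agent.H9.RG.hasRgammaI (IsLocalRing.maximalIdeal A)
  haveI : Module.Injective A E := hf.isInjective
  obtain ⟨eL⟩ := Groth.Agent.H9.LD.nonempty_RgammaI_iso_inD ω hω hn E f hf
  have hL : DRing.IsDerivedComplete (IsLocalRing.maximalIdeal A) ω :=
    Groth.Agent.H9.LD.isDerivedComplete_of_finite_HD (IsLocalRing.maximalIdeal A) ω
      hω.finite_cohomology
  obtain ⟨e1⟩ := Groth.Agent.H9.LD.nonempty_hom_equiv_dual_HD (IsLocalRing.maximalIdeal A) ω hL E eL
    K (-i) i (by omega)
  obtain ⟨e2⟩ := Groth.Agent.H9.RG.nonempty_hd_equiv_hdi (IsLocalRing.maximalIdeal A) i K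
  exact ⟨e1.trans (LinearEquiv.arrowCongr e2 (LinearEquiv.refl A E))⟩

end Groth.Agent.S1761
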