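import Groth.Statements.S17615
import Groth.Agent.S17593
import Groth.Agent.H3.EtNbhdHens
import Groth.Agent.H20.FlatDescent

set_option autoImplicit false
universe u
open Hensel

namespace Groth.Agent.S17615

/-- Let (A, I) be a Henselian pair and let B be a Henselization of the pair (R₀, IR₀) for a finitely
presented A-algebra R₀ (so A → B is a Henselian finitely presented map of Henselian pairs). If B is
flat over A, then there are a finitely presented A-algebra S that is flat over A and an S-algebra
structure on B compatible with that of A for which B is a Henselization of the pair (S, IS). -/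
theorem result (A : Type u) [CommRing A]
    (I : Ideal A) [HenselianRing A I]
    (R₀ : Type u) [CommRing R₀] [Algebra A R₀] [Algebra.FinitePresentation A R₀]
    (B : Type u) [CommRing B] [Algebra R₀ B] [Algebra A B] [IsScalarTower A R₀ B]
    (hB : Hens2.IsPairHenselization R₀ (I.map (algebraMap A R₀)) B) [Module.Flat A B] :
    ∃ (S : Type u) (_ : CommRing S) (_ : Algebra A S) (_ : Algebra S B) (_ : IsScalarTower A S B),
      Algebra.FinitePresentation A S ∧ Module.Flat A S ∧
      Hens2.IsPairHenselization S (I.map (algebraMap A S)) B := by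
  classical
  set J : Ideal R₀ := I.map (algebraMap A R₀) with hJ
  have hflatRB : Module.Flat R₀ B := Groth.Agent.H3.HensFlatMain.flat hB
  -- flatness of `R₀` over `A` at the primes containing `J`
  have hfl : ∀ (p : Ideal R₀) [p.IsPrime], J ≤ p → Module.Flat A (Localization.AtPrime p) := by
    intro p hp hJp
    -- the bijection `R₀/J ≃ B/JB`
    have hbij : Function.Bijective
        (Ideal.quotientMap (J.map (algebraMap R₀ B)) (algebraMap R₀ B) Ideal.le_comap_map) := by
      constructor
      · rw [injective_iff_map_eq_zero]
        intro x hx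
        obtain ⟨a, rfl⟩ := Ideal.Quotient.mk_surjective x
        rw [Ideal.quotientMap_mk, Ideal.Quotient.eq_zero_iff_mem] at hx
        exact Ideal.Quotient.eq_zero_iff_mem.mpr
          (Groth.Agent.H3.PairHens.mem_of_algebraMap_mem hB hx)
      · intro y
        obtain ⟨b, rfl⟩ := Ideal.Quotient.mk_surjective y
        obtain ⟨a, ha⟩ := Groth.Agent.H3.PairHens.exists_sub_mem hB b
        refine ⟨Ideal.Quotient.mk _ a, ?_⟩
        rw [Ideal.quotientMap_mk]
        exact (Ideal.Quotient.eq.mpr ha).symm
    let e : (R₀ ⧸ J) ≃+* (B ⧸ J.map (algebraMap R₀ B)) := RingEquiv.ofBijective _ hbij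
    let g : B →+* R₀ ⧸ p :=
      ((Ideal.Quotient.factor hJp).comp e.symm.toRingHom).comp
        (Ideal.Quotient.mk (J.map (algebraMap R₀ B)))
    have hg : ∀ x : R₀, g (algebraMap R₀ B x) = Ideal.Quotient.mk p x := by
      intro x
      have h1 : e (Ideal.Quotient.mk J x) =
          Ideal.Quotient.mk (J.map (algebraMap R₀ B)) (algebraMap R₀ B x) := by
        change Ideal.quotientMap (J.map (algebraMap R₀ B)) (algebraMap R₀ B) Ideal.le_comap_map
          (Ideal.Quotient.mk J x) = _
        rw [Ideal.quotientMap_mk]
      change (Ideal.Quotient.factor hJp) (e.symm (Ideal.Quotient.mk _ (algebraMap R₀ B x))) = _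
      rw [← h1, RingEquiv.symm_apply_apply, Ideal.Quotient.factor_mk]
    let q : Ideal B := RingHom.ker g
    have hqprime : q.IsPrime := RingHom.ker_isPrime g
    have hqp : q.comap (algebraMap R₀ B) = p := by
      ext x
      rw [Ideal.mem_comap, RingHom.mem_ker, hg, Ideal.Quotient.eq_zero_iff_mem]
    have hlies : q.LiesOver p := ⟨hqp.symm⟩
    let _ : Algebra (Localization.AtPrime p) (Localization.AtPrime q) :=
      Localization.AtPrime.algebraOfLiesOver p q
    have hflat1 : Module.Flat (Localization.AtPrime p) (Localization.AtPrime q) := inferInstance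
    have hloc : IsLocalHom (algebraMap (Localization.AtPrime p) (Localization.AtPrime q)) := by
      change IsLocalHom (Localization.localRingHom p q (algebraMap R₀ B) Ideal.LiesOver.over)
      infer_instance
    have hff : Module.FaithfullyFlat (Localization.AtPrime p) (Localization.AtPrime q) :=
      Module.FaithfullyFlat.of_flat_of_isLocalHom
    have hflat2 : Module.Flat A (Localization.AtPrime q) := inferInstance
    exact Groth.Agent.H20.flat_of_faithfullyFlat_of_flat A (Localization.AtPrime p)
      (Localization.AtPrime q)
  obtain ⟨R', _, _, _, _, het, hbij', hflatR'⟩ :=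
    Groth.Agent.S17593.result A I R₀ (fun p _ hp => hfl p hp)
  have hN : Groth.Agent.H3.EtNbhd.IsNbhd J R' :=
    (Groth.Agent.H3.EtNbhd.isNbhd_iff_bijective R').mpr hbij'
  let φ : R' →ₐ[R₀] B := Groth.Agent.H3.EtNbhd.toHens hB.1 hN
  let _ : Algebra R' B := φ.toRingHom.toAlgebra
  have htower1 : IsScalarTower R₀ R' B :=
    IsScalarTower.of_algebraMap_eq fun a => (φ.commutes a).symm
  have htower2 : IsScalarTower A R' B := by
    refine IsScalarTower.of_algebraMap_eq fun a => ?_
    rw [IsScalarTower.algebraMap_apply A R₀ B, IsScalarTower.algebraMap_apply R₀ R' B,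
      ← IsScalarTower.algebraMap_apply A R₀ R']
  have hfp' : Algebra.FinitePresentation R₀ R' := inferInstance
  refine ⟨R', inferInstance, inferInstance, inferInstance, htower2,
    Algebra.FinitePresentation.trans A R₀ R', hflatR', ?_⟩
  have hmain := Groth.Agent.H3.EtNbhd.isPairHenselization_nbhd hB hN
  have hideal : J.map (algebraMap R₀ R') = I.map (algebraMap A R') := by
    rw [hJ, Ideal.map_map, ← IsScalarTower.algebraMap_eq]
  rw [hideal] at hmain
  exact hmain

end Groth.Agent.S17615
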