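import Groth.Statements.S17617
import Groth.Agent.H3.HensExactLocal

set_option autoImplicit false
universe u
open Hensel

namespace Groth.Agent.S17617

/-- Let (A, I) be a Henselian pair and let M' → M → M'' be A-linear maps with zero composite. Then M' →
M → M'' is exact if and only if for every prime ideal p of A containing I and every Henselization H
of the pair (A_p, IA_p), the sequence H ⊗_A M' → H ⊗_A M → H ⊗_A M'' is exact. (The modules H ⊗_A M
are the stalks at p of the sheaf associated to M on the affine Henselian scheme of (A, I), and
exactness of a sequence of such sheaves is exactness at every stalk, so this is the statement that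
the sequence of modules is exact exactly when the associated sequence of sheaves is.) -/
theorem result (A : Type u) [CommRing A]
    (I : Ideal A) [HenselianRing A I]
    (M' M M'' : Type u) [AddCommGroup M'] [Module A M'] [AddCommGroup M] [Module A M]
    [AddCommGroup M''] [Module A M''] (f : M' →ₗ[A] M) (g : M →ₗ[A] M'') (hfg : g.comp f = 0) :
    Function.Exact f g ↔
    ∀ (p : Ideal A) [p.IsPrime], I ≤ p →
      ∀ (H : Type u) [CommRing H] [Algebra (Localization.AtPrime p) H] [Algebra A H]
        [IsScalarTower A (Localization.AtPrime p) H],
        Hens2.IsPairHenselization (Localization.AtPrime p)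
          (I.map (algebraMap A (Localization.AtPrime p))) H →
        Function.Exact (f.baseChange H) (g.baseChange H) := by
  classical
  constructor
  · intro hex p _ hIp H _ _ _ _ hH
    haveI : Module.Flat (Localization.AtPrime p) H := Groth.Agent.H3.HensFlatMain.flat hH
    haveI : Module.Flat A H := Module.Flat.trans A (Localization.AtPrime p) H
    have h1 := Module.Flat.lTensor_exact H hex
    rw [LinearMap.baseChange_eq_ltensor, LinearMap.baseChange_eq_ltensor]
    exact h1
  · intro hloc x
    constructor
    swap
    · rintro ⟨y, rfl⟩
      exact LinearMap.congr_fun hfg y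
    intro hx
    by_contra hnot
    let 𝔞 : Ideal A := Submodule.comap (LinearMap.toSpanSingleton A M x) (LinearMap.range f)
    have h𝔞 : ∀ a : A, a ∈ 𝔞 ↔ a • x ∈ LinearMap.range f := by
      intro a
      change LinearMap.toSpanSingleton A M x a ∈ LinearMap.range f ↔ _
      rw [LinearMap.toSpanSingleton_apply]
    have hne : 𝔞 ≠ ⊤ := by
      intro h
      apply hnot
      have h1 := (h𝔞 1).mp (h ▸ Submodule.mem_top)
      rwa [one_smul] at h1
    obtain ⟨m, hm, h𝔞m⟩ := Ideal.exists_le_maximal 𝔞 hne
    haveI := hm.isPrime
    have hIm : I ≤ m := le_trans (HenselianRing.jac) (sInf_le ⟨bot_le, hm⟩)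
    have hH := Groth.Agent.H3.HensFlatMain.isPairHenselization_Lim (Localization.AtPrime m)
      (I.map (algebraMap A (Localization.AtPrime m)))
    letI aAH : Algebra A (Groth.Agent.H3.HensTower.Lim (Localization.AtPrime m)
        (I.map (algebraMap A (Localization.AtPrime m)))) :=
      ((algebraMap (Localization.AtPrime m) _).comp (algebraMap A (Localization.AtPrime m))).toAlgebra
    haveI tAH : IsScalarTower A (Localization.AtPrime m) (Groth.Agent.H3.HensTower.Lim
        (Localization.AtPrime m) (I.map (algebraMap A (Localization.AtPrime m)))) :=
      IsScalarTower.of_algebraMap_eq (fun _ => rfl)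
    have hex := hloc m hIm (Groth.Agent.H3.HensTower.Lim (Localization.AtPrime m)
        (I.map (algebraMap A (Localization.AtPrime m)))) hH
    obtain ⟨a, ham, hax⟩ := Groth.Agent.H3.HensExactLocal.exists_smul_mem_range A I m hIm _ hH f g
      hex x hx
    exact ham (h𝔞m ((h𝔞 a).mpr hax))

end Groth.Agent.S17617
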