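import Groth.Statements.S17620
import Groth.Agent.H3.PairHens

set_option autoImplicit false
universe u
open Hensel

namespace Groth.Agent.S17620

/-- Let R be a local ring and J an ideal of R contained in the maximal ideal, let H be a Henselization
of the pair (R, J) which is a local ring with local structure map R → H, and let S be a strict
Henselization of the local ring H. Then S, with its composite R-algebra structure, is a strict
Henselization of the local ring R. (This is the identification of the strict Henselization of the
local ring of a scheme at a point with that of the local ring of its Henselization along a closed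
subscheme through the point.) -/
theorem result
    (R : Type u) [CommRing R] [IsLocalRing R] (J : Ideal R) (hJ : J ≤ IsLocalRing.maximalIdeal R)
    (H : Type u) [CommRing H] [IsLocalRing H] [Algebra R H] [IsLocalHom (algebraMap R H)]
    (hH : Hens2.IsPairHenselization R J H)
    (S : Type u) [CommRing S] [IsLocalRing S] [Algebra H S] [IsLocalHom (algebraMap H S)]
    [Hensel.IsStrictHenselization H S]
    [Algebra R S] [IsScalarTower R H S] [IsLocalHom (algebraMap R S)] :
    Hensel.IsStrictHenselization R S := by
  classical
  have hS : Hensel.IsStrictHenselization H S := inferInstance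
  have hsc := hS.isSepClosure
  -- `H = R + JH`
  have hdec : ∀ h : H, ∃ r : R, h - algebraMap R H r ∈ J.map (algebraMap R H) :=
    fun h => Groth.Agent.H3.PairHens.exists_sub_mem hH h
  have hJH : J.map (algebraMap R H) ≤ IsLocalRing.maximalIdeal H := by
    rw [Ideal.map_le_iff_le_comap]
    intro x hx
    have h1 := hJ hx
    have h2 := ((IsLocalRing.local_hom_TFAE (algebraMap R H)).out 0 3).mp
      (inferInstance : IsLocalHom (algebraMap R H))
    exact h2 h1
  have hsurj : Function.Surjective (algebraMap (IsLocalRing.ResidueField R)
      (IsLocalRing.ResidueField H)) := by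
    intro x
    obtain ⟨h, rfl⟩ := IsLocalRing.residue_surjective x
    obtain ⟨r, hr⟩ := hdec h
    refine ⟨IsLocalRing.residue R r, ?_⟩
    rw [IsLocalRing.ResidueField.algebraMap_residue]
    symm
    rw [← sub_eq_zero, ← map_sub, IsLocalRing.residue_eq_zero_iff]
    exact hJH hr
  refine ⟨hS.henselian, ⟨hsc.sep_closed, ?_⟩, ?_⟩
  · haveI := hsc.separable
    haveI : Algebra.IsSeparable (IsLocalRing.ResidueField R) (IsLocalRing.ResidueField H) :=
      ⟨fun x => by
        obtain ⟨y, rfl⟩ := hsurj x
        exact isSeparable_algebraMap y⟩
    exact Algebra.IsSeparable.trans (IsLocalRing.ResidueField R) (IsLocalRing.ResidueField H)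
      (IsLocalRing.ResidueField S)
  · intro D _ _ f hf τ hτ
    have hJD : J.map f ≤ IsLocalRing.maximalIdeal D := by
      rw [Ideal.map_le_iff_le_comap]
      intro x hx
      have h2 := ((IsLocalRing.local_hom_TFAE f).out 0 3).mp hf
      exact h2 (hJ hx)
    obtain ⟨fH, hfH, hfHuniq⟩ := hH.2 D (IsLocalRing.maximalIdeal D) f inferInstance hJD
    have hfHr : ∀ r : R, fH (algebraMap R H r) = f r := fun r =>
      congrArg (fun φ : R →+* D => φ r) hfH
    have hfHJ : ∀ j ∈ J.map (algebraMap R H), fH j ∈ IsLocalRing.maximalIdeal D := by
      intro j hj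
      have h1 := Groth.Agent.H3.PairHens.ringHom_mem_of_mem (I := J) fH hj
      rw [hfH] at h1
      exact hJD h1
    haveI hfHloc : IsLocalHom fH := by
      refine ⟨fun h hu => ?_⟩
      by_contra hnu
      obtain ⟨r, hr⟩ := hdec h
      have h1 : algebraMap R H r ∈ IsLocalRing.maximalIdeal H := by
        have h2 : algebraMap R H r = h - (h - algebraMap R H r) := by ring
        rw [h2]
        exact Ideal.sub_mem _ ((IsLocalRing.mem_maximalIdeal h).mpr hnu) (hJH hr)
      have h3 : r ∈ IsLocalRing.maximalIdeal R := by
        rw [IsLocalRing.mem_maximalIdeal, mem_nonunits_iff]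
        intro hru
        exact (IsLocalRing.mem_maximalIdeal _).mp h1 (hru.map _)
      have h4' := ((IsLocalRing.local_hom_TFAE f).out 0 3).mp hf
      have h4 : f r ∈ IsLocalRing.maximalIdeal D := h4' h3
      have h5 : fH h = f r + fH (h - algebraMap R H r) := by
        rw [map_sub, hfHr]; ring
      have h6 : fH h ∈ IsLocalRing.maximalIdeal D := by
        rw [h5]
        exact Ideal.add_mem _ h4 (hfHJ _ hr)
      exact (IsLocalRing.mem_maximalIdeal _).mp h6 hu
    have hτH : τ.comp (IsLocalRing.ResidueField.map (algebraMap H S)) =
        IsLocalRing.ResidueField.map fH := by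
      ext x
      obtain ⟨y, rfl⟩ := hsurj x
      obtain ⟨r, rfl⟩ := IsLocalRing.residue_surjective y
      have h1 := congrArg (fun φ : IsLocalRing.ResidueField R →+* IsLocalRing.ResidueField D =>
        φ (IsLocalRing.residue R r)) hτ
      simp only [RingHom.comp_apply] at h1
      rw [IsLocalRing.ResidueField.map_residue, IsLocalRing.ResidueField.map_residue] at h1
      rw [RingHom.comp_apply, IsLocalRing.ResidueField.algebraMap_residue,
        IsLocalRing.ResidueField.map_residue, IsLocalRing.ResidueField.map_residue,
        ← IsScalarTower.algebraMap_apply, hfHr]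
      exact h1
    obtain ⟨g, ⟨hg, hgres⟩, hguniq⟩ := hS.universal D fH τ hτH
    refine ⟨g, ⟨?_, hgres⟩, ?_⟩
    · ext r
      have h1 := congrArg (fun φ : H →+* D => φ (algebraMap R H r)) hg
      simp only [RingHom.comp_apply] at h1
      rw [RingHom.comp_apply, IsScalarTower.algebraMap_apply R H S, h1, hfHr]
    · rintro g' ⟨hg', hg'res⟩
      apply hguniq
      refine ⟨?_, hg'res⟩
      apply hfHuniq
      ext r
      have h1 := congrArg (fun φ : R →+* D => φ r) hg'
      simp only [RingHom.comp_apply] at h1
      rw [RingHom.comp_apply, RingHom.comp_apply, ← IsScalarTower.algebraMap_apply]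
      exact h1

end Groth.Agent.S17620
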