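import Groth.Statements.S17635
import Groth.Agent.H88.LipEst

set_option autoImplicit false
open Finset
open Variety

namespace Groth.Agent.S17635

/-- Let r and n be natural numbers and f : ℚ^r → ℝ a nonnegative function which is homogeneous of degree
n for positive rational scalars, f(q · v) = q^n · f(v) for q > 0; give ℚ^r the maximum norm ‖v‖ =
max_j |v_j| of its standard basis. Suppose that for every standard basis vector e_i there is a
constant C_i with |f(v − b · e_i) − f(v)| ≤ C_i · Σ_{q=1}^{n} ‖v‖^{n−q} · b^q for all v ∈ ℚ^r and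
all integers b ≥ 1. Then there is a constant C > 0 such that |f(v) − f(w)| ≤ C · Σ_{q=1}^{n}
max(‖v‖, ‖w‖)^{n−q} · ‖v − w‖^q for all v, w ∈ ℚ^r. (The source allows any norm on an r-dimensional
rational vector space with a chosen basis and argues with the maximum norm of that basis, which is
the case stated here.) -/
theorem result (r n : ℕ) (f : (Fin r → ℚ) → ℝ)
    (hf0 : ∀ v, 0 ≤ f v)
    (hhom : ∀ (q : ℚ) (v : Fin r → ℚ), 0 < q → f (q • v) = (q : ℝ) ^ n * f v)
    (hdir : ∀ i : Fin r, ∃ Ci : ℝ, ∀ (v : Fin r → ℚ) (b : ℕ), 1 ≤ b →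
      |f (v - (b : ℚ) • Pi.single i 1) - f v| ≤
        Ci * (Finset.Icc 1 n).sum (fun q => ‖(fun j => ((v j : ℚ) : ℝ))‖ ^ (n - q) * (b : ℝ) ^ q)) :
    ∃ C : ℝ, 0 < C ∧ ∀ v w : Fin r → ℚ,
      |f v - f w| ≤ C * (Finset.Icc 1 n).sum (fun q =>
        (max ‖(fun j => ((v j : ℚ) : ℝ))‖ ‖(fun j => ((w j : ℚ) : ℝ))‖) ^ (n - q) *
          ‖(fun j => ((v j - w j : ℚ) : ℝ))‖ ^ q) := by
  choose C hC using hdir
  refine ⟨(∑ i ∈ Finset.range r, Groth.Agent.H88.cst C i) + 1,
    add_pos_of_nonneg_of_pos (Groth.Agent.H88.cst_sum_nonneg C) one_pos, ?_⟩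
  intro v w
  have h := Groth.Agent.H88.rat_diff n f hhom C (fun i v b hb => hC i v b hb) v w
  have hS : 0 ≤ Groth.Agent.H88.SS n (max (Groth.Agent.H88.NN v) (Groth.Agent.H88.NN w))
      (Groth.Agent.H88.NN (v - w)) :=
    Groth.Agent.H88.SS_nonneg n ((Groth.Agent.H88.NN_nonneg v).trans (le_max_left _ _))
      (Groth.Agent.H88.NN_nonneg _)
  have h2 : |f v - f w| ≤ ((∑ i ∈ Finset.range r, Groth.Agent.H88.cst C i) + 1) *
      Groth.Agent.H88.SS n (max (Groth.Agent.H88.NN v) (Groth.Agent.H88.NN w))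
        (Groth.Agent.H88.NN (v - w)) := by
    refine h.trans ?_
    exact mul_le_mul_of_nonneg_right (by linarith) hS
  exact h2

end Groth.Agent.S17635
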