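import Groth.Statements.S17646
import Groth.Agent.H34.Unif2

set_option autoImplicit false
universe w v u
open CategoryTheory CategoryTheory.Limits
open GabLoc

namespace Groth.Agent.S17646

/-- Let C be a Grothendieck abelian category, E an indecomposable injective object of C (E is nonzero
and whenever E ≅ A ⊞ B one of A, B is zero) and S₁, S₂ localizing classes of objects (Serre classes
closed under coproducts). If there are an object of S₁ with a nonzero morphism to E and an object of
S₂ with a nonzero morphism to E, then there is an object belonging to both S₁ and S₂ with a nonzero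
morphism to E. Thus, on the set of isomorphism classes of indecomposable injectives, the subsets of
those having S-torsion, S localizing, are closed under finite intersections (they are also closed
under unions, and form a topology). The published definition of the injective spectrum says
injective objects without the word indecomposable; the published proof of this step uses that each
point of the spectrum is uniform, which is the indecomposable reading taken here. -/
theorem result {C : Type u} [Category.{v} C] [Abelian C]
    [IsGrothendieckAbelian.{w} C] (E : C) [Injective E] (hE : ¬ IsZero E)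
    (hind : ∀ (A B : C), Nonempty (E ≅ A ⊞ B) → IsZero A ∨ IsZero B)
    (S₁ S₂ : ObjectProperty C) (h₁ : GabLoc.IsLocalizing.{w} S₁) (h₂ : GabLoc.IsLocalizing.{w} S₂)
    (ht₁ : GabLoc.HasTorsion S₁ E) (ht₂ : GabLoc.HasTorsion S₂ E) :
    GabLoc.HasTorsion (S₁ ⊓ S₂) E := by
  classical
  obtain ⟨Y₁, hY₁, f₁, hf₁⟩ := ht₁
  obtain ⟨Y₂, hY₂, f₂, hf₂⟩ := ht₂
  have := h₁.isSerreClass
  have := h₂.isSerreClass
  -- images
  have hI₁ : S₁ (Abelian.image f₁) := S₁.prop_of_epi (Abelian.factorThruImage f₁) hY₁
  have hI₂ : S₂ (Abelian.image f₂) := S₂.prop_of_epi (Abelian.factorThruImage f₂) hY₂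
  have hι₁ : Abelian.image.ι f₁ ≠ 0 := by
    intro h
    apply hf₁
    rw [← Abelian.image.fac f₁, h, comp_zero]
  have hι₂ : Abelian.image.ι f₂ ≠ 0 := by
    intro h
    apply hf₂
    rw [← Abelian.image.fac f₂, h, comp_zero]
  refine ⟨pullback (Abelian.image.ι f₁) (Abelian.image.ι f₂),
    ⟨S₁.prop_of_mono (pullback.fst _ _) hI₁, S₂.prop_of_mono (pullback.snd _ _) hI₂⟩,
    pullback.fst _ _ ≫ Abelian.image.ι f₁, ?_⟩
  -- Gabriel–Popescu embedding
  let G : ShrinkHoms.{u} C := separator (ShrinkHoms.{u} C)
  have hG : IsSeparator G := isSeparator_separator _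
  let Φ : C ⥤ ModuleCat.{w} (End G)ᵐᵒᵖ := ShrinkHoms.functor.{w} C ⋙ preadditiveCoyonedaObj G
  have : (preadditiveCoyonedaObj G).Full := IsGrothendieckAbelian.GabrielPopescu.full G hG
  have : (preadditiveCoyonedaObj G).Faithful :=
    (isSeparator_iff_faithful_preadditiveCoyonedaObj G).1 hG
  have : (preadditiveCoyonedaObj G).PreservesInjectiveObjects :=
    IsGrothendieckAbelian.GabrielPopescu.preservesInjectiveObjects G hG
  have : (ShrinkHoms.functor.{w} C).PreservesInjectiveObjects :=
    Functor.preservesInjectiveObjects_of_adjunction_of_preservesMonomorphisms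
      (ShrinkHoms.equivalence.{w} C).symm.toAdjunction
  have : Φ.PreservesInjectiveObjects := ⟨fun {X} hX => by
    have : Injective ((ShrinkHoms.functor.{w} C).obj X) := Functor.injective_obj _ _
    exact Functor.injective_obj (preadditiveCoyonedaObj G) _⟩
  exact Groth.Agent.H34.Unif.pullback_ne_zero_of_embedding Φ E
    (Groth.Agent.H34.Unif.idem_trivial E hind) _ _ hι₁ hι₂

end Groth.Agent.S17646
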