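import Groth.Statements.S17649
import Groth.Agent.H12.StratB
import Groth.Agent.H8.QcqsPush
import Groth.Agent.H44.OmegaFitting

set_option autoImplicit false
universe u
open CategoryTheory CategoryTheory.Limits AlgebraicGeometry
open QCohCat

namespace Groth.Agent.S17649

/-- Suppose the scheme X is quasi-compact and quasi-separated, and take two quasi-compact opens U, V ⊆
X. Given a quasi-compact open W, denote by S_W the class of quasi-coherent O_X-modules that restrict
to zero on W. Then S_{U ∩ V} is the smallest localizing subcategory of Qcoh(X) that contains both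
S_U and S_V; concretely (this is the inclusion that is not formal): any quasi-coherent O_X-module F
satisfying F|_{U ∩ V} = 0 arises as an extension of a quasi-coherent module that is zero on V by a
quasi-coherent submodule that is zero on U — one can find a monomorphism A ⟶ F where A is
quasi-coherent, A|_U = 0 and (F/A)|_V = 0. -/
theorem result {X : Scheme.{u}}
    [CompactSpace X] [QuasiSeparatedSpace X] (U V : X.Opens) [QuasiCompact U.ι] [QuasiCompact V.ι]
    (F : X.Modules) (hF : Coh.IsQCoh F) (h : IsZero ((Scheme.Modules.restrictFunctor (U ⊓ V).ι).obj F)) :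
    ∃ (A : X.Modules) (i : A ⟶ F), Mono i ∧ Coh.IsQCoh A ∧
      IsZero ((Scheme.Modules.restrictFunctor U.ι).obj A) ∧
      IsZero ((Scheme.Modules.restrictFunctor V.ι).obj (cokernel i)) := by
  have hFq : F.IsQuasicoherent := hF
  have hqs : QuasiSeparated U.ι := inferInstance
  have hP : ((Scheme.Modules.pushforward U.ι).obj (F.restrict U.ι)).IsQuasicoherent :=
    Groth.Agent.H8.isQuasicoherent_pushforward_of_qcqs U.ι (F.restrict U.ι)
  let φ := Groth.Agent.H12.StratB.unitU U F
  have hF0 : Groth.Agent.H12.StratB.VanishOn (U ⊓ V) F := by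
    refine Groth.Agent.H12.StratB.VanishOn.of_sections fun W hW t => ?_
    refine TopCat.Presheaf.section_ext ⟨F.presheaf, F.isSheaf⟩ W t 0 (fun x hx => ?_)
    have := Groth.Agent.H44.subsingleton_stalk_of_isZero_restrict F (U ⊓ V) h (hW hx)
    exact Subsingleton.elim _ _
  have hPV : Groth.Agent.H12.StratB.VanishOn V
      ((Scheme.Modules.pushforward U.ι).obj (F.restrict U.ι)) := by
    refine Groth.Agent.H12.StratB.VanishOn.of_sections fun W hW t => ?_
    have hle : U.ι ''ᵁ (U.ι ⁻¹ᵁ W) ≤ U ⊓ V := by
      rw [Scheme.Hom.image_preimage_eq_opensRange_inf, Scheme.Opens.opensRange_ι]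
      exact inf_le_inf_left U hW
    exact hF0.section_eq_zero hle (show Γ(F, U.ι ''ᵁ (U.ι ⁻¹ᵁ W)) from t)
  refine ⟨kernel φ, kernel.ι φ, inferInstance,
    Groth.Agent.H12.QCohAbelian.isQuasicoherent_kernel φ, ?_, ?_⟩
  · refine Groth.Agent.H44.isZero_restrict_of_subsingleton_stalk _ U fun y hy => ?_
    exact (Groth.Agent.H12.StratB.vanishOn_kernel_unitU U F).subsingleton_stalk hy
  · refine Groth.Agent.H44.isZero_restrict_of_subsingleton_stalk _ V fun y hy => ?_
    have hm : Mono (Abelian.factorThruCoimage φ) := inferInstance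
    have hv : Groth.Agent.H12.StratB.VanishOn V (Abelian.coimage φ) :=
      Groth.Agent.H12.StratB.VanishOn.of_mono (Abelian.factorThruCoimage φ) hPV
    exact hv.subsingleton_stalk hy

end Groth.Agent.S17649
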