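import Groth.Statements.S17653
import Groth.Agent.H22.IsolatedFibre

set_option autoImplicit false
universe u
open CategoryTheory CategoryTheory.Limits AlgebraicGeometry TopologicalSpace
open Variety

namespace Groth.Agent.S17653

/-- Suppose X and Y are locally Noetherian schemes of the same pure dimension d (every irreducible
component of X and every irreducible component of Y has topological Krull dimension d), and π : X →
Y is a proper morphism between them. If there is a point x of X which is isolated in its fibre
π⁻¹(π(x)), i.e. some open neighbourhood of x meets that fibre only in x, then the image of π, with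
the subspace topology, has the same dimension as Y. -/
theorem result
    (X Y : Scheme.{u}) [IsLocallyNoetherian X] [IsLocallyNoetherian Y] (π : X ⟶ Y) [IsProper π]
    (d : WithBot ℕ∞) (hX : ∀ Z ∈ irreducibleComponents ↥X, topologicalKrullDim ↥Z = d)
    (hY : ∀ Z ∈ irreducibleComponents ↥Y, topologicalKrullDim ↥Z = d)
    (x : ↥X) (hx : ∃ U : X.Opens, x ∈ U ∧ ∀ x' ∈ U, π x' = π x → x' = x) :
    topologicalKrullDim ↥(Set.range (fun z : ↥X => π z)) = topologicalKrullDim ↥Y := by
  obtain ⟨U, hxU, hU⟩ := hx
  refine le_antisymm (topologicalKrullDim_subspace_le _ _) ?_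
  have hYd : topologicalKrullDim ↥Y ≤ d :=
    Groth.Agent.H17.Chev.topologicalKrullDim_le_of_forall_irreducibleComponents d
      (fun Z hZ => (hY Z hZ).le)
  refine hYd.trans ?_
  -- the irreducible component of x
  set Z : Set ↥X := irreducibleComponent x with hZdef
  have hZmem : Z ∈ irreducibleComponents ↥X := irreducibleComponent_mem_irreducibleComponents x
  have hxZ : x ∈ Z := mem_irreducibleComponent
  have hZc : IsClosed Z := isClosed_of_mem_irreducibleComponents Z hZmem
  have hZirr : IsIrreducible Z := isIrreducible_irreducibleComponent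
  let I : X.IdealSheafData := Scheme.IdealSheafData.vanishingIdeal ⟨Z, hZc⟩
  let ι₁ : I.subscheme ⟶ X := I.subschemeι
  have hrange : Set.range ι₁ = Z := by
    change Set.range I.subschemeι = Z
    rw [Scheme.IdealSheafData.range_subschemeι]
    rfl
  let e : ↥I.subscheme ≃ₜ ↥(Set.range ι₁) := ι₁.isClosedEmbedding.isEmbedding.toHomeomorph
  have hirrR : IrreducibleSpace ↥(Set.range ι₁) := by
    rw [hrange]
    exact Subtype.irreducibleSpace hZirr
  have hirr : IrreducibleSpace ↥I.subscheme := e.irreducibleSpace_iff.mpr hirrR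
  have hdim : topologicalKrullDim ↥I.subscheme = d := by
    rw [e.isHomeomorph.topologicalKrullDim_eq, hrange]
    exact hX Z hZmem
  obtain ⟨x₁, hx₁⟩ : x ∈ Set.range ι₁ := by rw [hrange]; exact hxZ
  let g : I.subscheme ⟶ Y := ι₁ ≫ π
  have hgx : g x₁ = π x := by
    change (ι₁ ≫ π) x₁ = π x
    rw [Scheme.Hom.comp_apply, hx₁]
  let W : I.subscheme.Opens := ι₁ ⁻¹ᵁ U
  have hxW : x₁ ∈ W := by
    change ι₁ x₁ ∈ U
    rw [hx₁]; exact hxU
  have hW : ∀ z ∈ W, g z = g x₁ → z = x₁ := by
    intro z hz h
    apply ι₁.isClosedEmbedding.isEmbedding.injective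
    rw [hx₁]
    apply hU _ hz
    rw [← hgx, ← h]
    rfl
  have key := Groth.Agent.H22.IsolatedFibre.topologicalKrullDim_le_range g x₁ W hxW hW
  rw [hdim] at key
  refine key.trans ?_
  have hsub : Set.range g ⊆ Set.range (fun z : ↥X => π z) := by
    rintro _ ⟨z, rfl⟩
    exact ⟨ι₁ z, rfl⟩
  exact (Topology.IsEmbedding.inclusion hsub).isInducing.topologicalKrullDim_le

end Groth.Agent.S17653
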