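import Groth.Statements.S17658
import Mathlib

set_option autoImplicit false
universe u
open Surf

namespace Groth.Agent.S17658

/-- In the polynomial ring k[T₀,T₁,U,V] over a field k, bigraded by deg T₀ = deg T₁ = (0,1), deg U =
(1,−1), deg V = (1,0) (the Cox ring of the Hirzebruch surface F₁; its piece of bidegree (a,b) is the
space of sections of O(a(E+F)+bF)), let S_(a,b) denote the k-span of the monomials of bidegree
(a,b), so that S_(0,c) is the space of forms of degree c in T₀, T₁. A subspace W ⊆ S_(a,b) is called
c-generating when W·S_(0,c) = S_(a,b+c). Fix a monomial order and natural numbers a, b, c, and let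
W₀(a,b,c) be the set of monomials U^i V^(a−i) T₀^(b+i−j(c+1)) T₁^(j(c+1)) with 0 ≤ i ≤ a, j ≥ 0 and
j(c+1) < b+i, together with the monomials U^i V^(a−i) T₁^(b+i) with 0 ≤ i ≤ a. If every monomial of
W₀(a,b,c) is the leading monomial of some nonzero element of W, then W is c-generating. (The source
fixes the graded lexicographic order with U > V > T₀ > T₁ and works over the complex numbers; its
argument uses only that leading monomials are multiplicative and that W₀(a,b,c)·S_(0,c) contains
every monomial of S_(a,b+c), so any monomial order and any field are allowed here. The printed index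
j runs from 1; with that range the statement fails already for a = 0, b = c = 1 and W spanned by T₁,
and the range from 0 used here is the one matching the accompanying dimension count.) Variables are
indexed T₀ = 0, T₁ = 1, U = 2, V = 3. -/
theorem result (k : Type u) [Field k]
    (mo : MonomialOrder (Fin 4)) (a b c : ℕ) (W : Submodule k (MvPolynomial (Fin 4) k))
    (hW : W ≤ Submodule.span k {f : MvPolynomial (Fin 4) k | ∃ e : Fin 4 →₀ ℕ, e 2 + e 3 = a ∧ e 0 + e 1 = b + e 2 ∧ f = MvPolynomial.monomial e 1})
    (h₁ : ∀ i j : ℕ, i ≤ a → j * (c + 1) < b + i → ∃ w ∈ W, w ≠ 0 ∧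
      mo.degree w = Finsupp.single 0 (b + i - j * (c + 1)) + Finsupp.single 1 (j * (c + 1)) +
        Finsupp.single 2 i + Finsupp.single 3 (a - i))
    (h₂ : ∀ i : ℕ, i ≤ a → ∃ w ∈ W, w ≠ 0 ∧
      mo.degree w = Finsupp.single 1 (b + i) + Finsupp.single 2 i + Finsupp.single 3 (a - i)) :
    W * Submodule.span k {f : MvPolynomial (Fin 4) k | ∃ e : Fin 4 →₀ ℕ, e 2 + e 3 = 0 ∧ e 0 + e 1 = c + e 2 ∧ f = MvPolynomial.monomial e 1} =
      Submodule.span k {f : MvPolynomial (Fin 4) k | ∃ e : Fin 4 →₀ ℕ, e 2 + e 3 = a ∧ e 0 + e 1 = (b + c) + e 2 ∧ f = MvPolynomial.monomial e 1} := by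
  classical
  -- exponent sets
  set Mon : ℕ → ℕ → Set (Fin 4 →₀ ℕ) := fun a b => {e | e 2 + e 3 = a ∧ e 0 + e 1 = b + e 2} with hMon
  have hspan : ∀ a b : ℕ,
      Submodule.span k {f : MvPolynomial (Fin 4) k | ∃ e : Fin 4 →₀ ℕ, e 2 + e 3 = a ∧
        e 0 + e 1 = b + e 2 ∧ f = MvPolynomial.monomial e 1}
        = MvPolynomial.restrictSupport k (Mon a b) := by
    intro a b
    rw [MvPolynomial.restrictSupport_eq_span]
    congr 1
    ext f
    constructor
    · rintro ⟨e, h1, h2, rfl⟩
      exact ⟨e, ⟨h1, h2⟩, rfl⟩
    · rintro ⟨e, ⟨h1, h2⟩, rfl⟩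
      exact ⟨e, h1, h2, rfl⟩
  rw [hspan 0 c, hspan a (b + c)]
  rw [hspan a b] at hW
  -- (≤)
  have hle : W * MvPolynomial.restrictSupport k (Mon 0 c)
      ≤ MvPolynomial.restrictSupport k (Mon a (b + c)) := by
    refine (Submodule.mul_le.2 (fun m hm n hn => Submodule.mul_mem_mul (hW hm) hn)).trans ?_
    rw [← MvPolynomial.restrictSupport_add]
    apply MvPolynomial.restrictSupport_mono
    rintro _ ⟨e₁, ⟨h1, h2⟩, e₂, ⟨h3, h4⟩, rfl⟩
    simp only [hMon, Set.mem_ofPred_eq, Finsupp.add_apply] at *
    constructor <;> omega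
  apply le_antisymm hle
  set P := W * MvPolynomial.restrictSupport k (Mon 0 c) with hP
  -- every monomial of the target is a leading monomial of an element of `P`
  have hlead : ∀ e ∈ Mon a (b + c), ∃ p ∈ P, p ≠ 0 ∧ mo.degree p = e := by
    intro e he
    obtain ⟨he1, he2⟩ := he
    have hprod : ∀ (w : MvPolynomial (Fin 4) k) (d : Fin 4 →₀ ℕ), w ∈ W → w ≠ 0 → d ∈ Mon 0 c →
        mo.degree w + d = e → ∃ p ∈ P, p ≠ 0 ∧ mo.degree p = e := by
      intro w d hw hw0 hd hsum
      have hm0 : (MvPolynomial.monomial d (1 : k)) ≠ 0 := by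
        simp
      refine ⟨w * MvPolynomial.monomial d 1, Submodule.mul_mem_mul hw ?_, mul_ne_zero hw0 hm0, ?_⟩
      · rw [MvPolynomial.monomial_mem_restrictSupport]
        exact Or.inl hd
      · rw [MonomialOrder.degree_mul hw0 hm0, MonomialOrder.degree_monomial, if_neg one_ne_zero,
          hsum]
    by_cases hy : e 1 < b + e 2
    · -- use h₁ with i = e 2, j = e 1 / (c+1)
      have hi : e 2 ≤ a := by omega
      have hj : (e 1 / (c + 1)) * (c + 1) < b + e 2 :=
        lt_of_le_of_lt (Nat.div_mul_le_self _ _) hy
      obtain ⟨w, hw, hw0, hdeg⟩ := h₁ (e 2) (e 1 / (c + 1)) hi hj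
      have hmod : e 1 % (c + 1) ≤ c := Nat.lt_succ_iff.mp (Nat.mod_lt _ (Nat.succ_pos c))
      have hdm : e 1 / (c + 1) * (c + 1) + e 1 % (c + 1) = e 1 := Nat.div_add_mod' _ _
      refine hprod w (Finsupp.single 0 (c - e 1 % (c + 1)) + Finsupp.single 1 (e 1 % (c + 1)))
        hw hw0 ?_ ?_
      · simp only [hMon, Set.mem_ofPred_eq, Finsupp.add_apply, Finsupp.single_apply]
        simp
        omega
      · rw [hdeg]
        ext t
        fin_cases t
        · simp
          omega
        · simp
          omega
        · simp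
        · simp
          omega
    · -- use h₂ with i = e 2
      push Not at hy
      have hi : e 2 ≤ a := by omega
      obtain ⟨w, hw, hw0, hdeg⟩ := h₂ (e 2) hi
      refine hprod w (Finsupp.single 0 (e 0) + Finsupp.single 1 (e 1 - (b + e 2)))
        hw hw0 ?_ ?_
      · simp only [hMon, Set.mem_ofPred_eq, Finsupp.add_apply, Finsupp.single_apply]
        simp
        omega
      · rw [hdeg]
        ext t
        fin_cases t
        · simp
        · simp
          omega
        · simp
        · simp
          omega
  -- well-founded induction on the leading monomial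
  have hmain : ∀ (s : mo.syn) (f : MvPolynomial (Fin 4) k), mo.toSyn (mo.degree f) = s →
      f ∈ MvPolynomial.restrictSupport k (Mon a (b + c)) → f ∈ P := by
    intro s
    induction s using WellFoundedLT.induction with
    | ind s ih =>
      intro f hfs hf
      by_cases hf0 : f = 0
      · rw [hf0]; exact Submodule.zero_mem _
      have hdegmem : mo.degree f ∈ Mon a (b + c) :=
        (MvPolynomial.mem_restrictSupport_iff (R := k)).mp hf
          (Finset.mem_coe.mpr (mo.degree_mem_support hf0))
      obtain ⟨p, hpP, hp0, hpdeg⟩ := hlead _ hdegmem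
      have hlcp : mo.leadingCoeff p ≠ 0 := mo.leadingCoeff_ne_zero_iff.mpr hp0
      set r : k := mo.leadingCoeff f / mo.leadingCoeff p with hr
      set f' := f - r • p with hf'
      have hpS : p ∈ MvPolynomial.restrictSupport k (Mon a (b + c)) := hle hpP
      have hf'S : f' ∈ MvPolynomial.restrictSupport k (Mon a (b + c)) :=
        Submodule.sub_mem _ hf (Submodule.smul_mem _ _ hpS)
      have hfeq : f = f' + r • p := by rw [hf']; ring
      by_cases hf'0 : f' = 0
      · rw [hfeq, hf'0, zero_add]
        exact Submodule.smul_mem _ _ hpP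
      · have hcoeff : f'.coeff (mo.degree f) = 0 := by
          rw [hf', MvPolynomial.coeff_sub, MvPolynomial.coeff_smul, smul_eq_mul]
          have h1 : p.coeff (mo.degree f) = mo.leadingCoeff p := by
            rw [← hpdeg]; rfl
          have h2 : f.coeff (mo.degree f) = mo.leadingCoeff f := rfl
          rw [h1, h2, hr, div_mul_cancel₀ _ hlcp, sub_self]
        have hle' : mo.toSyn (mo.degree f') ≤ mo.toSyn (mo.degree f) := by
          refine (mo.degree_sub_le).trans ?_
          rw [sup_le_iff]
          refine ⟨le_rfl, ?_⟩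
          refine (mo.degree_smul_le).trans ?_
          rw [hpdeg]
        have hne : mo.degree f' ≠ mo.degree f := by
          intro h
          have := mo.degree_mem_support hf'0
          rw [h, MvPolynomial.mem_support_iff] at this
          exact this hcoeff
        have hlt : mo.toSyn (mo.degree f') < s := by
          rw [← hfs]
          exact lt_of_le_of_ne hle' (fun h => hne (mo.toSyn.injective h))
        have := ih _ hlt f' rfl hf'S
        rw [hfeq]
        exact Submodule.add_mem _ this (Submodule.smul_mem _ _ hpP)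
  intro f hf
  exact hmain _ f rfl hf

end Groth.Agent.S17658
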