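import Groth.Statements.S17662
import Groth.Agent.H88.CauchyBinet

set_option autoImplicit false
universe u
open CIDisc

namespace Groth.Agent.S17662

/-- Let R be a commutative ring, M an r × n matrix over R and e ≥ 0; for each e-element set L of row
indices let A_L be an e × r matrix over R, and form the square matrix, indexed by the e-element sets
of row indices, whose (L, L') entry is the e × e minor of A_L on the columns L'. If the determinant
of that square matrix is a unit, then the sum over L of the ideals generated by the e × e minors of
the products A_L · M is the ideal generated by all e × e minors of M. (In the source R is the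
coordinate ring of an affine scheme X of codimension e cut out by f_1, …, f_r in affine n-space, M
is the image of the Jacobian matrix of the f_j, the A_L have entries in the ground field and cut out
complete intersections Z_L = V(A_L · f), so that the two sides are Σ_L Jac(Z_L) and Jac(X); the
source states the equality for general A_L and establishes it under the present invertibility
condition, which it shows to be generic.) -/
theorem result {R : Type u} [CommRing R] (e r n : ℕ)
    (M : Matrix (Fin r) (Fin n) R)
    (A : {s : Finset (Fin r) // s.card = e} → Matrix (Fin e) (Fin r) R)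
    (hA : IsUnit (Matrix.det (Matrix.of fun i j : {s : Finset (Fin r) // s.card = e} =>
      ((A i).submatrix id (j.1.orderEmbOfFin j.2)).det))) :
    (⨆ i, Ideal.span (Set.range fun t : {s : Finset (Fin n) // s.card = e} =>
        ((A i * M).submatrix id (t.1.orderEmbOfFin t.2)).det)) =
      Ideal.span (Set.range fun p : {s : Finset (Fin r) // s.card = e} × {s : Finset (Fin n) // s.card = e} =>
        (M.submatrix (p.1.1.orderEmbOfFin p.1.2) (p.2.1.orderEmbOfFin p.2.2)).det) := by
  classical
  set T : Matrix {s : Finset (Fin r) // s.card = e} {s : Finset (Fin r) // s.card = e} R :=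
    Matrix.of fun i j : {s : Finset (Fin r) // s.card = e} =>
      ((A i).submatrix id (j.1.orderEmbOfFin j.2)).det with hT
  -- Cauchy–Binet
  have hCB : ∀ (i : {s : Finset (Fin r) // s.card = e}) (t : {s : Finset (Fin n) // s.card = e}),
      ((A i * M).submatrix id (t.1.orderEmbOfFin t.2)).det
        = ∑ j, T i j * (M.submatrix (j.1.orderEmbOfFin j.2) (t.1.orderEmbOfFin t.2)).det := by
    intro i t
    have : (A i * M).submatrix id (t.1.orderEmbOfFin t.2)
        = A i * M.submatrix id (t.1.orderEmbOfFin t.2) := by
      ext a b
      simp [Matrix.mul_apply]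
    rw [this, Groth.Agent.H88.cauchyBinet]
    rfl
  apply le_antisymm
  · apply iSup_le
    intro i
    rw [Ideal.span_le]
    rintro _ ⟨t, rfl⟩
    simp only [hCB]
    exact Ideal.sum_mem _ (fun j _ => Ideal.mul_mem_left _ _ (Ideal.subset_span ⟨(j, t), rfl⟩))
  · rw [Ideal.span_le]
    rintro _ ⟨⟨j, t⟩, rfl⟩
    have hinv : T⁻¹ * T = 1 := Matrix.nonsing_inv_mul T hA
    set mt : {s : Finset (Fin r) // s.card = e} → R := fun j =>
      (M.submatrix (j.1.orderEmbOfFin j.2) (t.1.orderEmbOfFin t.2)).det with hmt
    set at' : {s : Finset (Fin r) // s.card = e} → R := fun i =>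
      ((A i * M).submatrix id (t.1.orderEmbOfFin t.2)).det with hat
    have ha : at' = T.mulVec mt := by
      funext i
      simp only [hat, hCB]
      rfl
    have hm : mt j = ∑ i, T⁻¹ j i * at' i := by
      calc mt j = ((1 : Matrix _ _ R).mulVec mt) j := by rw [Matrix.one_mulVec]
        _ = ((T⁻¹ * T).mulVec mt) j := by rw [hinv]
        _ = (T⁻¹.mulVec (T.mulVec mt)) j := by rw [Matrix.mulVec_mulVec]
        _ = ∑ i, T⁻¹ j i * at' i := by rw [← ha]; rfl
    show mt j ∈ _
    rw [hm]
    exact Ideal.sum_mem _ (fun i _ => Ideal.mul_mem_left _ _
      (Ideal.mem_iSup_of_mem i (Ideal.subset_span ⟨t, rfl⟩)))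

end Groth.Agent.S17662
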