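import Groth.Statements.S17677
import Mathlib
open scoped TensorProduct

set_option autoImplicit false
universe u
open Hoch

namespace Groth.Agent.S17677

/-- Let k be a commutative ring, M a commutative monoid and V a right comodule over the monoid bialgebra
k[M] (a quasi-coherent module with an action of the diagonalizable monoid scheme Spec k[M]). Then
every 1-cocycle of the Hochschild complex of V is a 1-coboundary, i.e. the first Hochschild
cohomology module of the diagonalizable monoid with coefficients in V is zero. (The source works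
over an algebraic space with M finitely generated and cancellative, hypotheses it uses only to
identify modules under the monoid with comodules; the cocycle computation, which is the affine
statement given here, uses neither.) -/
theorem result (k : Type u) [CommRing k] (M : Type u)
    [AddCommMonoid M] (V : Type u) [AddCommGroup V] [Module k V]
    [HopfRep.Comod k (AddMonoidAlgebra k M) V] :
    Hoch.cocycles k (AddMonoidAlgebra k M) V 1 ≤ Hoch.coboundaries k (AddMonoidAlgebra k M) V 1 := by
  classical
  intro c hc
  change Hoch.d k (AddMonoidAlgebra k M) V 1 c = 0 at hc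
  change c ∈ LinearMap.range (Hoch.d k (AddMonoidAlgebra k M) V 0)
  -- the coefficient of `[0]`
  let ev0 : AddMonoidAlgebra k M →ₗ[k] k :=
    (Finsupp.lapply (0 : M)) ∘ₗ (AddMonoidAlgebra.coeffLinearEquiv k).toLinearMap
  have hev0_single : ∀ (m : M) (r : k),
      ev0 (AddMonoidAlgebra.single m r) = if m = 0 then r else 0 := by
    intro m r
    show (AddMonoidAlgebra.single m r).coeff 0 = _
    rw [AddMonoidAlgebra.coeff_single, Finsupp.single_apply]
  let π : (V ⊗[k] AddMonoidAlgebra k M) ⊗[k] AddMonoidAlgebra k M →ₗ[k] V ⊗[k] AddMonoidAlgebra k M :=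
    (TensorProduct.rid k (V ⊗[k] AddMonoidAlgebra k M)).toLinearMap ∘ₗ
      ev0.lTensor (V ⊗[k] AddMonoidAlgebra k M)
  let c0 : V ⊗[k] AddMonoidAlgebra k M →ₗ[k] V :=
    (TensorProduct.rid k V).toLinearMap ∘ₗ ev0.lTensor V
  let θ : AddMonoidAlgebra k M ⊗[k] AddMonoidAlgebra k M →ₗ[k] AddMonoidAlgebra k M :=
    (TensorProduct.rid k (AddMonoidAlgebra k M)).toLinearMap ∘ₗ ev0.lTensor (AddMonoidAlgebra k M)
  have hθ_tmul : ∀ x y : AddMonoidAlgebra k M, θ (x ⊗ₜ y) = ev0 y • x := by
    intro x y
    simp [θ]
  have hπ_tmul : ∀ (w : V ⊗[k] AddMonoidAlgebra k M) (y : AddMonoidAlgebra k M),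
      π (w ⊗ₜ y) = ev0 y • w := by
    intro w y
    simp [π]
  have hc0_tmul : ∀ (v : V) (y : AddMonoidAlgebra k M), c0 (v ⊗ₜ y) = ev0 y • v := by
    intro v y
    simp [c0]
  have hθ : ∀ a : AddMonoidAlgebra k M, θ (Coalgebra.comul (R := k) a) = ev0 a • (1 : AddMonoidAlgebra k M) := by
    intro a
    induction a using AddMonoidAlgebra.induction_linear with
    | zero => simp
    | add x y hx hy => simp only [map_add, hx, hy, add_smul]
    | single m r =>
      rw [AddMonoidAlgebra.comul_single]
      simp only [CommSemiring.comul_apply, TensorProduct.map_tmul, AddMonoidAlgebra.lsingle_apply]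
      rw [hθ_tmul, hev0_single]
      split_ifs with h
      · subst h
        rw [AddMonoidAlgebra.one_def]
      · simp
  have hπ : ∀ (v : V) (z : AddMonoidAlgebra k M ⊗[k] AddMonoidAlgebra k M),
      π ((TensorProduct.assoc k V (AddMonoidAlgebra k M) (AddMonoidAlgebra k M)).symm (v ⊗ₜ z))
        = v ⊗ₜ θ z := by
    intro v z
    induction z using TensorProduct.induction_on with
    | zero => simp
    | tmul x y =>
      rw [TensorProduct.assoc_symm_tmul, hπ_tmul, hθ_tmul, TensorProduct.tmul_smul]
    | add a b ha hb =>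
      rw [TensorProduct.tmul_add, map_add, map_add, ha, hb, map_add, TensorProduct.tmul_add]
  have key : ∀ x : V ⊗[k] AddMonoidAlgebra k M,
      π (Hoch.d k (AddMonoidAlgebra k M) V 1 x) = Hoch.d k (AddMonoidAlgebra k M) V 0 (c0 x) + x := by
    intro x
    induction x using TensorProduct.induction_on with
    | zero => simp
    | tmul v a =>
      have hev0_one : ev0 (1 : AddMonoidAlgebra k M) = 1 := by
        rw [AddMonoidAlgebra.one_def, hev0_single, if_pos rfl]
      have hθred : θ (Coalgebra.comul (R := k) a - a ⊗ₜ[k] (1 : AddMonoidAlgebra k M)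
          - (1 : AddMonoidAlgebra k M) ⊗ₜ[k] a) = -a := by
        rw [map_sub, map_sub, hθ, hθ_tmul, hθ_tmul, hev0_one, one_smul]
        abel
      rw [Hoch.d_succ, LinearMap.add_apply, LinearMap.smul_apply, LinearMap.rTensor_tmul,
        Hoch.tail_tmul, map_add, map_smul, hπ_tmul, hπ, hθred, hc0_tmul, map_smul,
        TensorProduct.tmul_neg]
      simp
    | add a b ha hb =>
      rw [map_add, map_add, ha, hb, map_add, map_add]
      abel
  have h1 := key c
  rw [hc, map_zero] at h1
  refine ⟨-(c0 c), ?_⟩
  rw [map_neg]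
  have h2 : Hoch.d k (AddMonoidAlgebra k M) V 0 (c0 c) = -c := eq_neg_of_add_eq_zero_left h1.symm
  rw [h2, neg_neg]

end Groth.Agent.S17677
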