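import Groth.Statements.S17678
import Mathlib.Algebra.MonoidAlgebra.Basic
import Mathlib.LinearAlgebra.FreeModule.Basic
import Mathlib.RingTheory.Flat.Basic

set_option autoImplicit false
universe u v
open DiagMon

namespace Groth.Agent.S17678

/-- Let R be a commutative ring and N an abelian group. Then the ring map R[N] → R[N × N] of monoid
algebras induced by the diagonal n ↦ (n, n), which is the comorphism of the multiplication morphism
of the diagonalizable group scheme Spec R[N] over Spec R, is flat. (The published statement asserts
flatness for every cancellative commutative monoid N, on the ground that N acts freely on N × N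
through the diagonal; but for the submonoid N of the natural numbers generated by 2 and 3, the pairs
(x, x − 1) with x ≥ 3 form one orbit class that is not a free orbit, and the corresponding direct
summand of k[N × N] is the ideal t³k[t] viewed as a module over k[t², t³], which is not flat. The
statement is therefore given for groups, where N × N is a free N-set with basis the pairs (0, b).) -/
theorem result (R : Type u) [CommRing R] (N : Type v)
    [AddCommGroup N] :
    (AddMonoidAlgebra.mapDomainRingHom R ((AddMonoidHom.id N).prod (AddMonoidHom.id N))).Flat := by
  classical
  let ψ : N × N ≃+ N × N :=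
    { toFun := fun p => (p.1 - p.2, p.2)
      invFun := fun p => (p.1 + p.2, p.2)
      left_inv := fun p => by simp
      right_inv := fun p => by simp
      map_add' := fun p q => by
        ext
        · simp only [Prod.fst_add, Prod.snd_add]; abel
        · simp }
  let e : AddMonoidAlgebra R (N × N) ≃+* AddMonoidAlgebra (AddMonoidAlgebra R N) N :=
    (AddMonoidAlgebra.mapDomainRingEquiv R ψ).trans AddMonoidAlgebra.curryRingEquiv
  have hcomp : e.toRingHom.comp (AddMonoidAlgebra.mapDomainRingHom R
      ((AddMonoidHom.id N).prod (AddMonoidHom.id N))) =
      algebraMap (AddMonoidAlgebra R N) (AddMonoidAlgebra (AddMonoidAlgebra R N) N) := by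
    apply RingHom.ext
    intro x
    induction x using AddMonoidAlgebra.induction_linear with
    | zero => simp
    | add a b ha hb => rw [map_add, map_add, ha, hb]
    | single n r =>
      simp only [RingHom.comp_apply, RingEquiv.toRingHom_eq_coe, RingEquiv.coe_toRingHom, e,
        RingEquiv.trans_apply]
      have h1 : AddMonoidAlgebra.mapDomainRingHom R ((AddMonoidHom.id N).prod (AddMonoidHom.id N))
          (AddMonoidAlgebra.single n r) = AddMonoidAlgebra.single (n, n) r := by
        simp [AddMonoidAlgebra.mapDomainRingHom]
      rw [h1, AddMonoidAlgebra.mapDomainRingEquiv_single]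
      have h2 : ψ (n, n) = (0, n) := by
        show (n - n, n) = (0, n)
        rw [sub_self]
      rw [h2, AddMonoidAlgebra.curryRingEquiv_single]
      rfl
  have hflat : (algebraMap (AddMonoidAlgebra R N)
      (AddMonoidAlgebra (AddMonoidAlgebra R N) N)).Flat := by
    rw [RingHom.flat_algebraMap_iff]
    infer_instance
  have heq : AddMonoidAlgebra.mapDomainRingHom R ((AddMonoidHom.id N).prod (AddMonoidHom.id N)) =
      e.symm.toRingHom.comp (algebraMap (AddMonoidAlgebra R N)
        (AddMonoidAlgebra (AddMonoidAlgebra R N) N)) := by
    rw [← hcomp, ← RingHom.comp_assoc]
    simp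
  rw [heq]
  exact hflat.comp (RingHom.Flat.of_bijective e.symm.bijective)

end Groth.Agent.S17678
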