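import Groth.Statements.S17679
import Mathlib.LinearAlgebra.Dimension.OrzechProperty
import Mathlib.RingTheory.FiniteType
import Mathlib.Algebra.Group.Submonoid.Finsupp
import Mathlib.LinearAlgebra.Dimension.Constructions

set_option autoImplicit false
open DiagMon

namespace Groth.Agent.S17679

/-- For n ≥ 1 the minimal number of generators of ℤ^n as an additive monoid is n + 1: some n + 1
elements generate ℤ^n as a monoid, and every finite set generating ℤ^n as a monoid has at least n +
1 elements. (For n = 0 the empty set generates the zero monoid, so the count n + 1 is stated for n ≥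
1 only.) -/
theorem result (n : ℕ) (hn : 1 ≤ n) :
    (∃ s : Finset (Fin n → ℤ), s.card = n + 1 ∧ AddSubmonoid.closure (s : Set (Fin n → ℤ)) = ⊤) ∧
    ∀ s : Finset (Fin n → ℤ), AddSubmonoid.closure (s : Set (Fin n → ℤ)) = ⊤ → n + 1 ≤ s.card := by
  classical
  constructor
  · -- the generating set e_1, …, e_n, -(e_1 + ⋯ + e_n)
    have hinj : Function.Injective (fun i : Fin n => (Pi.single i (1 : ℤ) : Fin n → ℤ)) := by
      intro i j hij
      by_contra hne
      have := congrFun hij i
      simp [Pi.single_apply, hne] at this
    refine ⟨insert (fun _ => (-1 : ℤ)) (Finset.univ.image fun i : Fin n => (Pi.single i (1 : ℤ) : Fin n → ℤ)), ?_, ?_⟩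
    · rw [Finset.card_insert_of_notMem, Finset.card_image_of_injective _ hinj, Finset.card_univ,
        Fintype.card_fin]
      intro hmem
      obtain ⟨i, -, hi⟩ := Finset.mem_image.1 hmem
      have := congrFun hi i
      simp at this
    · rw [eq_top_iff]
      intro v _
      set S : Set (Fin n → ℤ) := ((insert (fun _ => (-1 : ℤ)) (Finset.univ.image fun i : Fin n => (Pi.single i (1 : ℤ) : Fin n → ℤ)) : Finset (Fin n → ℤ)) : Set (Fin n → ℤ)) with hS
      have hneg : (fun _ => (-1 : ℤ)) ∈ AddSubmonoid.closure S :=
        AddSubmonoid.subset_closure (by simp [hS])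
      have hei : ∀ i : Fin n, (Pi.single i (1 : ℤ) : Fin n → ℤ) ∈ AddSubmonoid.closure S := by
        intro i
        apply AddSubmonoid.subset_closure
        simp [hS]
      set m : ℕ := ∑ i, (v i).natAbs with hm
      have hvm : ∀ i, 0 ≤ v i + m := by
        intro i
        have h1 : (v i).natAbs ≤ m := Finset.single_le_sum (f := fun i => (v i).natAbs)
          (fun _ _ => Nat.zero_le _) (Finset.mem_univ i)
        have h2 : -((v i).natAbs : ℤ) ≤ v i := by
          rw [Int.natCast_natAbs]; exact neg_abs_le (v i)
        have h3 : ((v i).natAbs : ℤ) ≤ (m : ℤ) := by exact_mod_cast h1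
        linarith
      have hv : v = (∑ i, (v i + m).toNat • (Pi.single i (1 : ℤ) : Fin n → ℤ)) +
          m • (fun _ => (-1 : ℤ)) := by
        funext j
        simp only [Pi.add_apply, Finset.sum_apply, Pi.smul_apply, Pi.single_apply]
        simp only [smul_eq_mul, nsmul_eq_mul, mul_ite, mul_one, mul_zero, Finset.sum_ite_eq,
          Finset.mem_univ, if_true, mul_neg]
        rw [Int.toNat_of_nonneg (hvm j)]
        ring
      rw [hv]
      exact add_mem (sum_mem fun i _ => nsmul_mem (hei i) _) (nsmul_mem hneg _)
  · intro s hs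
    by_contra hcard
    push Not at hcard
    have hle : s.card ≤ n := by omega
    have hspan : (⊤ : Submodule ℤ (Fin n → ℤ)) ≤ Submodule.span ℤ (Set.range ((↑) : s → Fin n → ℤ)) := by
      intro x _
      have hx : x ∈ AddSubmonoid.closure (s : Set (Fin n → ℤ)) := by rw [hs]; trivial
      rw [Subtype.range_coe_subtype]
      exact Submodule.closure_subset_span hx
    have hfr : Module.finrank ℤ (Fin n → ℤ) = n := by simp
    have hli : LinearIndependent ℤ ((↑) : s → Fin n → ℤ) := by
      apply linearIndependent_of_top_le_span_of_card_le_finrank hspan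
      rw [hfr, Fintype.card_coe]
      exact hle
    -- s is nonempty
    have hne : s.Nonempty := by
      by_contra hempty
      rw [Finset.not_nonempty_iff_eq_empty] at hempty
      subst hempty
      have h0 : (Pi.single ⟨0, hn⟩ (1 : ℤ) : Fin n → ℤ) ∈ AddSubmonoid.closure ((∅ : Finset (Fin n → ℤ)) : Set (Fin n → ℤ)) := by
        rw [hs]; trivial
      simp only [Finset.coe_empty, AddSubmonoid.closure_empty, AddSubmonoid.mem_bot] at h0
      have := congrFun h0 ⟨0, hn⟩
      simp at this
    obtain ⟨a, ha⟩ := hne
    have hmem : -a ∈ AddSubmonoid.closure (s : Set (Fin n → ℤ)) := by rw [hs]; trivial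
    obtain ⟨c, hc⟩ := AddSubmonoid.mem_closure_finset'.1 hmem
    have hrel : ∑ i : s, ((c i : ℤ) + if i = ⟨a, ha⟩ then 1 else 0) • (i : Fin n → ℤ) = 0 := by
      simp only [add_smul, Finset.sum_add_distrib, ite_smul, one_smul, zero_smul,
        Finset.sum_ite_eq', Finset.mem_univ, if_true, natCast_zsmul]
      rw [← hc]
      simp
    have := Fintype.linearIndependent_iff.1 hli _ hrel ⟨a, ha⟩
    simp only [if_true] at this
    omega

end Groth.Agent.S17679
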