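import Groth.Statements.S17682
import Mathlib.Algebra.DirectSum.Algebra
import Mathlib.Algebra.MonoidAlgebra.Module

set_option autoImplicit false
universe u v w u'
open DiagMon

namespace Groth.Agent.S17682

/-- Let R be a commutative ring, A a commutative R-algebra graded by a commutative monoid M, N a
submonoid of M and R' a commutative R-algebra. For every R-algebra homomorphism F : A → R' vanishing
on the homogeneous elements of degree outside N there is a unique R-algebra homomorphism f : A →
R'[M] which is graded (a homogeneous element of degree m goes to a multiple of X^m), vanishes on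
homogeneous elements of degree outside N, and composes with the augmentation X^m ↦ 1 to F. In the
dictionary where an M-grading of A is an action of the diagonalizable monoid scheme Spec R[M] on
Spec A and graded maps A → R'[M] supported on N are equivariant maps from the monoid scheme of N
over R', this says that the attractor of Spec A for the magnet N is represented by the closed
subscheme of Spec A defined by the homogeneous elements of degree outside N. -/
theorem result (R : Type u) [CommRing R]
    (A : Type v) [CommRing A] [Algebra R A] (M : Type w) [AddCommMonoid M] [DecidableEq M]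
    (𝒜 : M → Submodule R A) [GradedAlgebra 𝒜] (N : AddSubmonoid M) (R' : Type u') [CommRing R']
    [Algebra R R'] (F : A →ₐ[R] R') (hF : ∀ m, m ∉ N → ∀ a ∈ 𝒜 m, F a = 0) :
    ∃! f : A →ₐ[R] AddMonoidAlgebra R' M,
      (∀ m, ∀ a ∈ 𝒜 m, f a =
          AddMonoidAlgebra.single m (Bialgebra.counitAlgHom R' (AddMonoidAlgebra R' M) (f a))) ∧
      (∀ m, m ∉ N → ∀ a ∈ 𝒜 m, f a = 0) ∧
      ∀ a, Bialgebra.counitAlgHom R' (AddMonoidAlgebra R' M) (f a) = F a := by
  classical
  let fm : ∀ m, 𝒜 m →ₗ[R] AddMonoidAlgebra R' M := fun m =>
    (AddMonoidAlgebra.lsingle (R := R) m).comp (F.toLinearMap.comp (𝒜 m).subtype)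
  have fm_apply : ∀ m (a : 𝒜 m), fm m a = AddMonoidAlgebra.single m (F a) := fun m a => rfl
  let g : (DirectSum M fun i => 𝒜 i) →ₐ[R] AddMonoidAlgebra R' M :=
    DirectSum.toAlgebra R (fun i => 𝒜 i) fm
      (by
        rw [fm_apply]
        show AddMonoidAlgebra.single 0 (F 1) = 1
        rw [map_one]
        rfl)
      (by
        intro i j ai aj
        rw [fm_apply, fm_apply, fm_apply, AddMonoidAlgebra.single_mul_single]
        show AddMonoidAlgebra.single (i + j) (F (ai * aj)) = _
        rw [map_mul])
  let f : A →ₐ[R] AddMonoidAlgebra R' M := g.comp (DirectSum.decomposeAlgEquiv 𝒜).toAlgHom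
  have f_hom : ∀ m, ∀ a ∈ 𝒜 m, f a = AddMonoidAlgebra.single m (F a) := by
    intro m a ha
    show g (DirectSum.decompose 𝒜 a) = _
    rw [DirectSum.decompose_of_mem 𝒜 ha]
    rw [DirectSum.toAlgebra_apply, DirectSum.toSemiring_of]
    rfl
  have counit_single : ∀ (m : M) (r : R'),
      Bialgebra.counitAlgHom R' (AddMonoidAlgebra R' M) (AddMonoidAlgebra.single m r) = r := by
    intro m r
    show Coalgebra.counit (AddMonoidAlgebra.single m r) = r
    rw [AddMonoidAlgebra.counit_single]
    rfl
  -- two ring homs agreeing on homogeneous elements agree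
  have ext_hom : ∀ (B : Type (max u' w)) [Semiring B] (φ ψ : A →+* B),
      (∀ m, ∀ a ∈ 𝒜 m, φ a = ψ a) → ∀ a, φ a = ψ a := by
    intro B _ φ ψ h a
    induction a using DirectSum.Decomposition.inductionOn 𝒜 with
    | zero => rw [map_zero, map_zero]
    | homogeneous a => exact h _ _ a.2
    | add a b ha hb => rw [map_add, map_add, ha, hb]
  have ext_hom' : ∀ (φ ψ : A →+* R'),
      (∀ m, ∀ a ∈ 𝒜 m, φ a = ψ a) → ∀ a, φ a = ψ a := by
    intro φ ψ h a
    induction a using DirectSum.Decomposition.inductionOn 𝒜 with
    | zero => rw [map_zero, map_zero]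
    | homogeneous a => exact h _ _ a.2
    | add a b ha hb => rw [map_add, map_add, ha, hb]
  refine ⟨f, ⟨?_, ?_, ?_⟩, ?_⟩
  · intro m a ha
    rw [f_hom m a ha, counit_single]
  · intro m hm a ha
    rw [f_hom m a ha, hF m hm a ha]
    exact AddMonoidAlgebra.single_zero m
  · intro a
    refine ext_hom' (((Bialgebra.counitAlgHom R' (AddMonoidAlgebra R' M)).toRingHom).comp
      f.toRingHom) F.toRingHom ?_ a
    intro m a ha
    show Bialgebra.counitAlgHom R' (AddMonoidAlgebra R' M) (f a) = F a
    rw [f_hom m a ha, counit_single]
  · rintro h ⟨h1, -, h3⟩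
    apply AlgHom.ext
    intro a
    refine ext_hom _ h.toRingHom f.toRingHom ?_ a
    intro m a ha
    show h a = f a
    rw [f_hom m a ha, h1 m a ha, h3]

end Groth.Agent.S17682
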