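import Groth.Statements.S17685
import Groth.Agent.H40.CD.EqLocus3
import Groth.Agent.H40.CD.FiniteFree

set_option autoImplicit false
universe u
open CategoryTheory MonoidalCategory CartesianMonoidalCategory MonObj GrpObj AlgebraicGeometry
open AlgGrp

namespace Groth.Agent.S17685

/-- Let S be a scheme, F an S-scheme that is finite locally free over S (finite, flat and locally of
finite presentation) with a section e of F over S which is a surjective closed immersion (an
infinitesimal pointed S-scheme), and X an S-scheme with an action of the pointed scheme F, i.e. an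
S-morphism F ×_S X → X through which e acts as the identity. Then the subfunctor of F-fixed points
of X, whose T-points are the T-points x of X with g · x_{T'} = x_{T'} for every S-scheme T' over T
and every T'-point g of F, is represented by a closed subscheme of X. (The source allows F and X to
be algebraic spaces over S; this row is the case of schemes.) -/
theorem result (S : Scheme.{u})
    (F X : Over S) (e : 𝟙_ (Over S) ⟶ F) (act : F ⊗ X ⟶ X) (he : (e ▷ X) ≫ act = (λ_ X).hom)
    [IsFinite F.hom] [Flat F.hom] [LocallyOfFinitePresentation F.hom]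
    [IsClosedImmersion e.left] [Surjective e.left] :
    ∃ (Z : Scheme.{u}) (i : Z ⟶ X.left), IsClosedImmersion i ∧
      ∀ (T : Over S) (x : T ⟶ X), (∃ y : T.left ⟶ Z, y ≫ i = x.left) ↔
        ∀ (T' : Over S) (t : T' ⟶ T) (g : T' ⟶ F), lift g (t ≫ x) ≫ act = t ≫ x := by
  have hsq : IsPullback (e ▷ X).left (Limits.pullback.fst (𝟙_ (Over S)).hom X.hom)
      (Limits.pullback.fst F.hom X.hom) e.left := by
    have hright : IsPullback (Limits.pullback.snd F.hom X.hom) (Limits.pullback.fst F.hom X.hom)
        X.hom F.hom := (IsPullback.of_hasPullback F.hom X.hom).flip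
    have hbig : IsPullback ((e ▷ X).left ≫ Limits.pullback.snd F.hom X.hom)
        (Limits.pullback.fst (𝟙_ (Over S)).hom X.hom) X.hom (e.left ≫ F.hom) := by
      rw [Over.whiskerRight_left_snd, Over.w e]
      exact (IsPullback.of_hasPullback (𝟙_ (Over S)).hom X.hom).flip
    exact IsPullback.of_right hbig (Over.whiskerRight_left_fst e) hright
  haveI : Surjective (e ▷ X).left :=
    MorphismProperty.of_isPullback (P := @Surjective) hsq.flip inferInstance
  have hbase : ∀ z : (F ⊗ X).left, act.left z = (snd F X).left z := by
    intro z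
    obtain ⟨z', rfl⟩ := (e ▷ X).left.surjective z
    rw [← Scheme.Hom.comp_apply, ← Scheme.Hom.comp_apply, ← Over.comp_left, ← Over.comp_left,
      he, whiskerRight_snd, leftUnitor_hom]
  haveI := Groth.Agent.H40.CD.isClosedImmersion_equalizer_left_of_base_eq act (snd F X) hbase
  haveI : IsAffineHom F.hom := inferInstance
  obtain ⟨W, i₀, hi₀, hW⟩ := Groth.Agent.H40.CD.exists_closed_eqLocus_of_affine_free' F X X
    act (snd F X) (fun s => Groth.Agent.H40.CD.exists_free_nhd_of_finite_flat F.hom s)
  refine ⟨W, i₀, hi₀, fun T f => ?_⟩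
  have h1 : (∀ (T' : Over S) (t : T' ⟶ T) (g : T' ⟶ F),
      lift g (t ≫ f) ≫ act = t ≫ f) ↔ ((F ◁ f) ≫ act = (F ◁ f) ≫ snd F X) := by
    constructor
    · intro h
      have h2 := h (F ⊗ T) (snd F T) (fst F T)
      have h3 : lift (fst F T) (snd F T ≫ f) = F ◁ f := by
        apply CartesianMonoidalCategory.hom_ext
        · rw [lift_fst, whiskerLeft_fst]
        · rw [lift_snd, whiskerLeft_snd]
      rw [h3] at h2
      rw [h2, whiskerLeft_snd]
    · intro h T' t g
      have h3 : lift g (t ≫ f) = lift g t ≫ (F ◁ f) := by rw [lift_whiskerLeft]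
      rw [h3, Category.assoc, h, whiskerLeft_snd, lift_snd_assoc]
  rw [h1, hW]

end Groth.Agent.S17685
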