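import Groth.Statements.S17687
import Mathlib.RingTheory.GradedAlgebra.FiniteType

set_option autoImplicit false
universe u v w
open DiagMon

namespace Groth.Agent.S17687

/-- Let R be a commutative ring and A a commutative R-algebra of finite type graded by a commutative
monoid M. Then the set of ideals J_N, N running over all submonoids of M, where J_N is generated by
the homogeneous elements of degree not in N (the ideal of the attractor of Spec A for the magnet N),
is finite: Spec A has finitely many attractors and hence finitely many pure magnets. (The source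
assumes Spec A of finite presentation over the base; its proof uses only a finite set of homogeneous
algebra generators, so finite type is assumed here.) -/
theorem result (R : Type u) [CommRing R] (A : Type v) [CommRing A]
    [Algebra R A] [Algebra.FiniteType R A] (M : Type w) [AddCommMonoid M] [DecidableEq M]
    (𝒜 : M → Submodule R A) [GradedAlgebra 𝒜] :
    (Set.range fun N : AddSubmonoid M => Ideal.span {a : A | ∃ m : M, m ∉ N ∧ a ∈ 𝒜 m}).Finite := by
  classical
  -- a finite set of homogeneous algebra generators
  obtain ⟨T, hT, hThom⟩ : ∃ T : Finset A, Algebra.adjoin R (T : Set A) = ⊤ ∧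
      ∀ t ∈ T, ∃ m, t ∈ 𝒜 m := by
    obtain ⟨F, hF⟩ := Algebra.FiniteType.out (R := R) (A := A)
    let ι₀ := Σ (x : F), (DirectSum.decompose 𝒜 x.1).support
    let x (i : ι₀) : A := ((DirectSum.decompose 𝒜) i.1 i.2).1
    refine ⟨Finset.univ.image x, ?_, by simpa using fun f ↦ ⟨_, (DirectSum.decompose 𝒜 f.1 f.2).2⟩⟩
    rw [← top_le_iff, ← hF, Algebra.adjoin_le_iff]
    intro s hs
    rw [← DirectSum.sum_support_decompose 𝒜 s]
    exact sum_mem fun n hn ↦ Algebra.subset_adjoin (by simpa using ⟨⟨⟨s, hs⟩, n, hn⟩, rfl⟩)
  -- every attractor ideal is spanned by a subset of T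
  have key : ∀ N : AddSubmonoid M, Ideal.span {a : A | ∃ m : M, m ∉ N ∧ a ∈ 𝒜 m} =
      Ideal.span ((T.filter (fun t => ∃ m : M, m ∉ N ∧ t ∈ 𝒜 m) : Finset A) : Set A) := by
    intro N
    set I : Ideal A := Ideal.span ((T.filter (fun t => ∃ m : M, m ∉ N ∧ t ∈ 𝒜 m) : Finset A) : Set A)
      with hIdef
    apply le_antisymm
    · -- monomials in T
      have hmon : ∀ p ∈ Submonoid.closure (T : Set A), ∃ m, p ∈ 𝒜 m ∧ (m ∈ N ∨ p ∈ I) := by
        intro p hp
        induction hp using Submonoid.closure_induction with
        | mem t ht =>
          obtain ⟨m, hm⟩ := hThom t ht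
          refine ⟨m, hm, ?_⟩
          by_cases hmN : m ∈ N
          · exact Or.inl hmN
          · right
            apply Ideal.subset_span
            simp only [Finset.coe_filter, Set.mem_ofPred_eq]
            exact ⟨ht, m, hmN, hm⟩
        | one => exact ⟨0, SetLike.GradedOne.one_mem, Or.inl N.zero_mem⟩
        | mul p q _ _ hp hq =>
          obtain ⟨m₁, hm₁, h₁⟩ := hp
          obtain ⟨m₂, hm₂, h₂⟩ := hq
          refine ⟨m₁ + m₂, SetLike.GradedMul.mul_mem hm₁ hm₂, ?_⟩
          rcases h₁ with h₁ | h₁
          · rcases h₂ with h₂ | h₂
            · exact Or.inl (N.add_mem h₁ h₂)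
            · exact Or.inr (I.mul_mem_left _ h₂)
          · exact Or.inr (I.mul_mem_right _ h₁)
      have hQ : ∀ a : A, ∀ m, m ∉ N → GradedAlgebra.proj 𝒜 m a ∈ I := by
        intro a
        have ha : a ∈ Submodule.span R (Submonoid.closure (T : Set A) : Set A) := by
          rw [← Algebra.adjoin_eq_span, hT]
          trivial
        induction ha using Submodule.span_induction with
        | mem p hp =>
          intro m hm
          obtain ⟨m', hm', h⟩ := hmon p hp
          rw [GradedAlgebra.proj_apply]
          by_cases hmm : m' = m
          · subst hmm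
            rw [DirectSum.decompose_of_mem_same 𝒜 hm']
            rcases h with h | h
            · exact absurd h hm
            · exact h
          · rw [DirectSum.decompose_of_mem_ne 𝒜 hm' hmm]
            exact I.zero_mem
        | zero => intro m _; rw [map_zero]; exact I.zero_mem
        | add x y _ _ hx hy => intro m hm; rw [map_add]; exact I.add_mem (hx m hm) (hy m hm)
        | smul r x _ hx =>
          intro m hm
          rw [map_smul, Algebra.smul_def]
          exact I.mul_mem_left _ (hx m hm)
      apply Ideal.span_le.2
      rintro a ⟨m, hm, ha⟩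
      have := hQ a m hm
      rw [GradedAlgebra.proj_apply, DirectSum.decompose_of_mem_same 𝒜 ha] at this
      exact this
    · apply Ideal.span_mono
      intro t ht
      simp only [Finset.coe_filter, Set.mem_ofPred_eq] at ht
      exact ht.2
  refine Set.Finite.subset (Set.Finite.image (fun S : Finset A => Ideal.span (S : Set A))
    (Finset.finite_toSet T.powerset)) ?_
  rintro _ ⟨N, rfl⟩
  refine ⟨T.filter (fun t => ∃ m : M, m ∉ N ∧ t ∈ 𝒜 m), ?_, (key N).symm⟩
  exact Finset.mem_coe.2 (Finset.mem_powerset.2 (Finset.filter_subset _ _))

end Groth.Agent.S17687
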