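import Groth.Statements.S17688
import Groth.Agent.H75.FlatClosureGrp
import Groth.Agent.H42.SchDomExt

set_option autoImplicit false
universe u
open CategoryTheory CategoryTheory.Limits AlgebraicGeometry MonObj
open Neron

namespace Groth.Agent.S17688

/-- Let R be a discrete valuation ring whose fraction field K has characteristic p > 0, and let U be a
flat, separated, commutative group scheme over Spec R whose generic fibre U_K is annihilated by a
power p^N of p (in the group of endomorphisms of U_K as a K-scheme, the p^N-th power of the identity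
is the unit). Then for every prime ℓ invertible in R the ℓ-th power map of U (the ℓ-th power of the
identity in the group of R-morphisms U → U) is an isomorphism. -/
theorem result
    (R : Type u) [CommRing R] [IsDomain R] [IsDiscreteValuationRing R]
    (p : ℕ) (hp : p.Prime) [CharP (FractionRing R) p]
    (U : Over (Spec (CommRingCat.of R))) [GrpObj U] [IsCommMonObj U] [Flat U.hom] [IsSeparated U.hom]
    (N : ℕ) (hN : (𝟙 (Red.bc (Neron.genPt R) U) : Red.bc (Neron.genPt R) U ⟶ Red.bc (Neron.genPt R) U) ^ (p ^ N) = 1)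
    (ℓ : ℕ) (hℓ : ℓ.Prime) (hℓu : IsUnit (ℓ : R)) :
    IsIso ((𝟙 U : U ⟶ U) ^ ℓ) := by
  have hfl := Groth.Agent.H75.FlatClosureGrp.flat_genPt R
  have hqc := Groth.Agent.H75.FlatClosureGrp.quasiCompact_genPt R
  have hsd := Groth.Agent.H75.FlatClosureGrp.schDominant_genPt R
  have hsd' : IsSchemeTheoreticallyDominant (pullback.fst U.hom (Neron.genPt R)) := inferInstance
  -- the `p ^ N`-th power map of `U` is trivial
  have hpow : (𝟙 U : U ⟶ U) ^ (p ^ N) = 1 := by
    have hmap : (Over.pullback (Neron.genPt R)).map ((𝟙 U : U ⟶ U) ^ (p ^ N)) =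
        (Over.pullback (Neron.genPt R)).map 1 := by
      have h1 := map_pow ((Over.pullback (Neron.genPt R)).homMonoidHom (X := U) (M := U))
        (𝟙 U) (p ^ N)
      simp only [Functor.homMonoidHom_apply] at h1
      rw [h1, Functor.map_one, CategoryTheory.Functor.map_id]
      exact hN
    apply Over.OverMorphism.ext
    refine Groth.Agent.H42.SchDomExt.ext_of_schDominant U.hom ?_
      (pullback.fst U.hom (Neron.genPt R)) ?_
    · rw [Over.w, Over.w]
    · have h1 := congrArg (fun t => t.left ≫ pullback.fst U.hom (Neron.genPt R)) hmap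
      simp only [Over.pullback_map_left, pullback.lift_fst] at h1
      exact h1
  -- `ℓ ≠ p`
  have hne : ℓ ≠ p := by
    intro h
    have h1 : IsUnit ((ℓ : R)) := hℓu
    have h2 : IsUnit (algebraMap R (FractionRing R) (ℓ : R)) := h1.map _
    rw [map_natCast, h, CharP.cast_eq_zero] at h2
    exact not_isUnit_zero h2
  have hcop : Nat.Coprime ℓ (p ^ N) := Nat.Coprime.pow_right N ((Nat.coprime_primes hℓ hp).mpr hne)
  -- Bezout
  obtain ⟨a, b, hab⟩ : ∃ a b : ℕ, a * ℓ = 1 + b * p ^ N := by
    by_cases hq : 1 < p ^ N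
    · obtain ⟨m, -, hm⟩ := Nat.exists_mul_mod_eq_one_of_coprime hcop hq
      refine ⟨m, ℓ * m / p ^ N, ?_⟩
      have := Nat.div_add_mod (ℓ * m) (p ^ N)
      rw [hm] at this
      generalize ℓ * m / p ^ N = d at this ⊢
      linarith [mul_comm m ℓ, mul_comm d (p ^ N)]
    · have hq1 : p ^ N = 1 := by
        have : 0 < p ^ N := pow_pos hp.pos N
        omega
      refine ⟨1, ℓ - 1, ?_⟩
      rw [hq1]
      have := hℓ.two_le
      omega
  have hone : (𝟙 U : U ⟶ U) ^ (a * ℓ) = 𝟙 U := by
    rw [hab, pow_add, pow_one, mul_comm b, pow_mul, hpow, one_pow, _root_.mul_one]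
  refine ⟨(𝟙 U : U ⟶ U) ^ a, ?_, ?_⟩
  · rw [MonObj.comp_pow, Category.comp_id, ← pow_mul, mul_comm ℓ a, hone]
  · rw [MonObj.comp_pow, Category.comp_id, ← pow_mul, hone]

end Groth.Agent.S17688
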