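import Groth.Statements.S17689
import Mathlib

set_option autoImplicit false
universe u
open CategoryTheory AlgebraicGeometry
open Neron

namespace Groth.Agent.S17689

/-- Let R ⊆ S be a finite extension of discrete valuation rings (the structure map R → S is injective
and S is a finite R-module) such that the induced extension K ⊆ L of fraction fields is purely
inseparable. Then the morphism Spec S → Spec R is a universal homeomorphism: every base change of it
is a homeomorphism on underlying spaces. (No excellence hypothesis is needed here.) -/
theorem result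
    (R S K L : Type u) [CommRing R] [IsDomain R] [IsDiscreteValuationRing R]
    [CommRing S] [IsDomain S] [IsDiscreteValuationRing S] [Algebra R S] [Module.Finite R S] [FaithfulSMul R S]
    [Field K] [Field L] [Algebra R K] [IsFractionRing R K] [Algebra S L] [IsFractionRing S L]
    [Algebra K L] [Algebra R L] [IsScalarTower R S L] [IsScalarTower R K L] [IsPurelyInseparable K L] :
    FlatMor.IsUnivHomeo (Spec.map (CommRingCat.ofHom (algebraMap R S))) := by
  classical
  -- every element of `S` has a `p`-power in `R`
  have hpow : ∀ (p : ℕ) [ExpChar K p] (s : S), ∃ n : ℕ, ∃ r : R, algebraMap R S r = s ^ p ^ n := by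
    intro p _ s
    obtain ⟨n, k, hk⟩ := IsPurelyInseparable.pow_mem K p (algebraMap S L s)
    have hs : IsIntegral R s := Algebra.IsIntegral.isIntegral s
    have hs' : IsIntegral R (algebraMap S L (s ^ p ^ n)) :=
      (hs.pow (p ^ n)).map (IsScalarTower.toAlgHom R S L)
    rw [map_pow, ← hk] at hs'
    have hk' : IsIntegral R k :=
      (isIntegral_algebraMap_iff (algebraMap K L).injective).mp hs'
    obtain ⟨r, hr⟩ := IsIntegrallyClosed.isIntegral_iff.mp hk'
    refine ⟨n, r, ?_⟩
    apply IsFractionRing.injective S L
    rw [map_pow, ← hk, ← hr, ← IsScalarTower.algebraMap_apply, ← IsScalarTower.algebraMap_apply]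
  set φ : CommRingCat.of R ⟶ CommRingCat.of S := CommRingCat.ofHom (algebraMap R S) with hφ
  have hfin : IsFinite (Spec.map φ) :=
    (IsFinite.SpecMap_iff φ).2 (RingHom.finite_algebraMap.2 inferInstance)
  have hsurj : Surjective (Spec.map φ) := by
    rw [surjective_iff]
    exact Algebra.IsIntegral.comap_surjective R S
  have hinj : UniversallyInjective (Spec.map φ) := by
    apply ((tfae_universallyInjective (Spec.map φ)).out 0 1).2
    intro K' _ g₁ g₂ hg
    dsimp only at hg
    rw [← Spec.map_preimage g₁, ← Spec.map_preimage g₂] at hg ⊢
    set ψ₁ := Spec.preimage g₁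
    set ψ₂ := Spec.preimage g₂
    rw [← Spec.map_comp, ← Spec.map_comp] at hg
    have hg' := Spec.map_injective hg
    have hcomp : ∀ r : R, ψ₁.hom (algebraMap R S r) = ψ₂.hom (algebraMap R S r) := by
      intro r
      have := congrArg (fun h => h.hom r) hg'
      simpa [hφ] using this
    congr 1
    ext s
    obtain ⟨p, hp⟩ := ExpChar.exists K
    obtain ⟨n, r, hr⟩ := hpow p s
    have h1 : ψ₁.hom s ^ p ^ n = ψ₂.hom s ^ p ^ n := by
      rw [← map_pow, ← map_pow, ← hr, hcomp]
    cases hp with
    | zero => simpa using h1
    | prime hprime =>
      have hpR : (p : R) = 0 := by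
        apply IsFractionRing.injective R K
        rw [map_natCast, map_zero]
        exact CharP.cast_eq_zero K p
      have hpK' : (p : K') = 0 := by
        have := congrArg (fun x => ψ₁.hom (algebraMap R S x)) hpR
        simpa using this
      have : CharP K' p := ringChar.of_eq (CharP.ringChar_of_prime_eq_zero hprime hpK')
      have : ExpChar K' p := ExpChar.prime hprime
      exact iterateFrobenius_inj K' p n (by simpa [iterateFrobenius_def] using h1)
  intro X' Y' i₁ i₂ f' hpb
  have h1 : UniversallyClosed f' :=
    MorphismProperty.of_isPullback (P := @UniversallyClosed) hpb.flip inferInstance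
  have h2 : Surjective f' :=
    MorphismProperty.of_isPullback (P := @Surjective) hpb.flip hsurj
  have h3 : UniversallyInjective f' :=
    MorphismProperty.of_isPullback (P := @UniversallyInjective) hpb.flip hinj
  show IsHomeomorph f'
  rw [isHomeomorph_iff_continuous_isClosedMap_bijective]
  exact ⟨f'.continuous, f'.isClosedMap, f'.injective, f'.surjective⟩

end Groth.Agent.S17689
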