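import Groth.Statements.S17690
import Groth.Agent.H13.QENagata
import Groth.Agent.H38.N2FracExt
-- import your own Groth.Agent.* helpers here

set_option autoImplicit false
set_option linter.style.haveILetI false
universe u
open Neron

namespace Groth.Agent.S17690

/-- Let R be an excellent discrete valuation ring (Noetherian, universally catenary, G-ring, J-2) with
fraction field K, and let L be a finite purely inseparable field extension of K. Then the integral
closure S of R in L is a discrete valuation ring, and S is a finite R-module. -/
theorem result
    (R K L : Type u) [CommRing R] [IsDomain R] [IsDiscreteValuationRing R] (hR : EGA4.IsExcellent R)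
    [Field K] [Algebra R K] [IsFractionRing R K] [Field L] [Algebra K L] [FiniteDimensional K L]
    [IsPurelyInseparable K L] [Algebra R L] [IsScalarTower R K L] :
    IsDiscreteValuationRing ↥(integralClosure R L) ∧ Module.Finite R ↥(integralClosure R L) := by
  classical
  haveI : IsNoetherianRing R := hR.1
  have hQE : EGA4.IsQuasiExcellent R := ⟨hR.1, hR.2.2.1, hR.2.2.2⟩
  have hN2 : CAlg.IsN2 R := Groth.Agent.H13.QENagata.isN2_of_finite_domain R hQE R
  have hfin : Module.Finite R ↥(integralClosure R L) :=
    Groth.Agent.H38.finite_integralClosure_of_isN2_of_finite R K L hN2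
  refine ⟨?_, hfin⟩
  let S := ↥(integralClosure R L)
  haveI : Module.Finite R S := hfin
  haveI : IsNoetherianRing S := IsNoetherianRing.of_finite R S
  haveI : IsIntegrallyClosed S := integralClosure.isIntegrallyClosedOfFiniteExtension K
  haveI : Algebra.IsIntegral R S := inferInstance
  haveI : Ring.DimensionLEOne S := Ring.DimensionLEOne.integralClosure R L
  have hinjRS : Function.Injective (algebraMap R S) := by
    intro a b hab
    have h1 : algebraMap R L a = algebraMap R L b := congrArg Subtype.val hab
    have hinjRL : Function.Injective (algebraMap R L) := by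
      rw [IsScalarTower.algebraMap_eq R K L]
      exact (algebraMap K L).injective.comp (IsFractionRing.injective R K)
    exact hinjRL h1
  -- uniqueness of the maximal ideal
  have hcomap : ∀ (P : Ideal S), P.IsMaximal →
      P.comap (algebraMap R S) = IsLocalRing.maximalIdeal R := by
    intro P hP
    haveI := hP
    haveI : (P.comap (algebraMap R S)).IsMaximal :=
      Ideal.isMaximal_comap_of_isIntegral_of_isMaximal P
    exact IsLocalRing.eq_maximalIdeal inferInstance
  have hle : ∀ (P P' : Ideal S), P.IsMaximal → P'.IsMaximal → P ≤ P' := by
    intro P P' hP hP' x hx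
    haveI := hP'
    obtain ⟨n, y, hy⟩ := IsPurelyInseparable.pow_mem K (ringExpChar K) (x : L)
    have hyint : IsIntegral R y := by
      have h1 : IsIntegral R ((x : L) ^ ringExpChar K ^ n) := (x.2).pow _
      rw [← hy] at h1
      exact (isIntegral_algHom_iff (IsScalarTower.toAlgHom R K L)
        (algebraMap K L).injective).mp h1
    obtain ⟨r, hr⟩ := IsIntegrallyClosed.isIntegral_iff.mp hyint
    have hxr : algebraMap R S r = x ^ ringExpChar K ^ n := by
      apply Subtype.ext
      show algebraMap R L r = (x : L) ^ ringExpChar K ^ n
      rw [← hy, ← hr, ← IsScalarTower.algebraMap_apply]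
    have hrP : r ∈ P.comap (algebraMap R S) := by
      rw [Ideal.mem_comap, hxr]
      exact Ideal.pow_mem_of_mem P hx _ (pow_pos (expChar_pos K (ringExpChar K)) n)
    rw [hcomap P hP, ← hcomap P' hP', Ideal.mem_comap, hxr] at hrP
    exact Ideal.IsPrime.mem_of_pow_mem hP'.isPrime _ hrP
  haveI : IsLocalRing S := by
    obtain ⟨M, hM⟩ := Ideal.exists_maximal S
    refine IsLocalRing.of_unique_max_ideal ⟨M, hM, fun P hP => ?_⟩
    exact le_antisymm (hle P M hP hM) (hle M P hM hP)
  have hnf : ¬ IsField S := by
    intro hS
    have hRf : IsField R := isField_of_isIntegral_of_isField hinjRS hS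
    exact IsDiscreteValuationRing.not_isField R hRf
  have hded : IsDedekindDomain S := { }
  exact ((IsDiscreteValuationRing.TFAE S hnf).out 0 2).mpr hded

end Groth.Agent.S17690
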