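import Groth.Statements.S17721
import Groth.Agent.H88.GaussPS

set_option autoImplicit false
universe u
open CAlg

namespace Groth.Agent.S17721

open Polynomial IsLocalRing in
/-- Let R be a complete discrete valuation ring with fraction field K, and f a polynomial over R with
non-zero constant term a₀ such that a₀ does not divide some coefficient of f of positive degree
(equivalently, the Newton polygon of f has a side of negative slope). Let b be the power series over
K with b · f = a₀, the expansion of the geometric series in 1 − f/a₀. Then the valuations of the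
coefficients b_j are not bounded below: for every non-zero c in R there is an index j with c · b_j
outside R. -/
theorem result
    (R : Type u) [CommRing R] [IsDomain R] [IsDiscreteValuationRing R]
    [IsAdicComplete (maximalIdeal R) R]
    (K : Type u) [Field K] [Algebra R K] [IsFractionRing R K]
    (f : R[X]) (h0 : f.coeff 0 ≠ 0) (hslope : ∃ i : ℕ, 0 < i ∧ ¬ (f.coeff 0 ∣ f.coeff i))
    (b : PowerSeries K)
    (hb : b * ((f.map (algebraMap R K) : K[X]) : PowerSeries K) = PowerSeries.C (algebraMap R K (f.coeff 0))) :
    ∀ c : R, c ≠ 0 → ∃ j : ℕ, algebraMap R K c * PowerSeries.coeff j b ∉ (algebraMap R K).range := by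
  intro c hc
  by_contra hcon
  push Not at hcon
  choose q hq using hcon
  obtain ⟨ϖ, hϖ⟩ := IsDiscreteValuationRing.exists_irreducible R
  let g : PowerSeries R := PowerSeries.mk q
  have hg : PowerSeries.map (algebraMap R K) g = PowerSeries.C (algebraMap R K c) * b := by
    ext j
    rw [PowerSeries.coeff_map, PowerSeries.coeff_mk, PowerSeries.coeff_C_mul]
    exact hq j
  have hinj : Function.Injective (PowerSeries.map (algebraMap R K)) :=
    PowerSeries.map_injective _ (IsFractionRing.injective R K)
  have hgf : g * (f : PowerSeries R) = PowerSeries.C (c * f.coeff 0) := by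
    apply hinj
    rw [map_mul, hg, ← Polynomial.polynomial_map_coe, mul_assoc, hb, PowerSeries.map_C, map_mul,
      map_mul]
  have hne : c * f.coeff 0 ≠ 0 := mul_ne_zero hc h0
  obtain ⟨n, u, hu⟩ := IsDiscreteValuationRing.eq_unit_mul_pow_irreducible hne hϖ
  rw [hu] at hgf
  obtain ⟨i, -, hi⟩ := hslope
  have := Groth.Agent.H88.coeff_zero_dvd_of_mul_eq_C ϖ hϖ n u g (f : PowerSeries R) hgf i
  rw [Polynomial.coeff_coe, Polynomial.coeff_coe] at this
  exact hi this

end Groth.Agent.S17721
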