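import Groth.Statements.S17722
import Mathlib.RingTheory.Flat.FaithfullyFlat.Algebra
import Mathlib.RingTheory.LocalRing.MaximalIdeal.Basic

set_option autoImplicit false
universe u
open CAlg

namespace Groth.Agent.S17722

/-- Let R → R' be a faithfully flat ring map between Noetherian integrally closed local domains, and p
an ideal of R. If the ideal pR' generated by the image of p is principal, then p is principal. (The
second assertion of the published lemma, descent of unique factorization, is not part of this row.) -/
theorem result
    (R R' : Type u) [CommRing R] [CommRing R'] [IsDomain R] [IsDomain R']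
    [IsNoetherianRing R] [IsNoetherianRing R'] [IsLocalRing R] [IsLocalRing R']
    [IsIntegrallyClosed R] [IsIntegrallyClosed R']
    [Algebra R R'] [Module.FaithfullyFlat R R']
    (p : Ideal R) (hp : (p.map (algebraMap R R')).IsPrincipal) :
    p.IsPrincipal := by
  classical
  obtain ⟨s, hs⟩ := (isNoetherianRing_iff_ideal_fg R).1 inferInstance p
  obtain ⟨x, hx⟩ := hp
  have hx' : p.map (algebraMap R R') = Ideal.span {x} := hx
  by_cases hx0 : x = 0
  · have h1 : p.map (algebraMap R R') = (⊥ : Ideal R).map (algebraMap R R') := by
      rw [hx', hx0, Ideal.map_bot]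
      simp
    have h2 : p = ⊥ := Ideal.map_injective_of_faithfullyFlat (B := R') h1
    rw [h2]
    exact bot_isPrincipal
  · have hmap : p.map (algebraMap R R') =
        Ideal.span ((s.image (algebraMap R R') : Finset R') : Set R') := by
      rw [← hs, Ideal.map_span, Finset.coe_image]
    have hxmem : x ∈ Ideal.span ((s.image (algebraMap R R') : Finset R') : Set R') := by
      rw [← hmap, hx']
      exact Ideal.subset_span rfl
    obtain ⟨c, -, hc⟩ := Submodule.mem_span_finset.1 hxmem
    have hd : ∀ b ∈ s.image (algebraMap R R'), ∃ d : R', d * x = b := by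
      intro b hb
      have : b ∈ Ideal.span ({x} : Set R') := by
        rw [← hx', hmap]
        exact Ideal.subset_span hb
      exact Ideal.mem_span_singleton'.1 this
    choose! d hd using hd
    have hsum : (∑ b ∈ s.image (algebraMap R R'), c b * d b) = 1 := by
      have h1 : (∑ b ∈ s.image (algebraMap R R'), c b * d b) * x = 1 * x := by
        rw [Finset.sum_mul, one_mul]
        conv_rhs => rw [← hc]
        apply Finset.sum_congr rfl
        intro b hb
        rw [mul_assoc, hd b hb, smul_eq_mul]
      exact mul_right_cancel₀ hx0 h1
    obtain ⟨b, hb, hunit⟩ : ∃ b ∈ s.image (algebraMap R R'), IsUnit (c b * d b) := by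
      by_contra hcon
      push Not at hcon
      have : (∑ b ∈ s.image (algebraMap R R'), c b * d b) ∈ IsLocalRing.maximalIdeal R' :=
        sum_mem (fun b hb => (IsLocalRing.mem_maximalIdeal _).2 (hcon b hb))
      rw [hsum] at this
      exact (IsLocalRing.maximalIdeal.isMaximal R').ne_top
        ((Ideal.eq_top_iff_one _).2 this)
    have hdunit : IsUnit (d b) := isUnit_of_mul_isUnit_right hunit
    obtain ⟨a, ha, rfl⟩ := Finset.mem_image.1 hb
    have hspan : Ideal.span ({x} : Set R') = Ideal.span {algebraMap R R' a} := by
      rw [← hd _ hb]
      exact (Ideal.span_singleton_mul_left_unit hdunit x).symm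
    have h1 : p.map (algebraMap R R') = (Ideal.span {a}).map (algebraMap R R') := by
      rw [hx', hspan, Ideal.map_span, Set.image_singleton]
    have h2 : p = Ideal.span {a} := Ideal.map_injective_of_faithfullyFlat (B := R') h1
    rw [h2]
    exact ⟨⟨a, rfl⟩⟩

end Groth.Agent.S17722
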