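import Groth.Statements.S17723
import Groth.Agent.H88.LabGraphPeel

set_option autoImplicit false
universe u
open LabGraph

namespace Groth.Agent.S17723

/-- Let G be a finite connected multigraph with endpoint map ends and edge labels l taking positive
integer values. We say g : V → ℤ is elementary-Cartier if, for some integer n ≥ 1, all values of g
are multiples of n and, for each edge whose label fails to divide n, g agrees at its two endpoints
(equivalently, once the edges with label dividing n are removed, g takes a single value on each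
connected piece of what remains). Then every Cartier function f (for each edge, the label divides
the difference of the values of f at its endpoints) lies in the ℤ-span of the elementary-Cartier
functions. -/
theorem result
    {V E : Type u} [Fintype V] [Fintype E] [DecidableEq V] [DecidableEq E]
    (ends : E → V × V) (l : E → ℕ) (hl : ∀ e, 0 < l e) (hconn : LabGraph.Connected ends)
    (f : V → ℤ) (hf : LabGraph.IsCartier ends l f) :
    f ∈ Submodule.span ℤ {g : V → ℤ | ∃ n : ℕ, 0 < n ∧ (∀ v, (n : ℤ) ∣ g v) ∧
      ∀ e, ¬ (l e ∣ n) → g (ends e).1 = g (ends e).2} := by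
  classical
  set T := Submodule.span ℤ {g : V → ℤ | ∃ n : ℕ, 0 < n ∧ (∀ v, (n : ℤ) ∣ g v) ∧
      ∀ e, ¬ (l e ∣ n) → g (ends e).1 = g (ends e).2} with hT
  -- the product of all labels
  set L : ℕ := ∏ e, l e with hL
  have hLpos : 0 < L := Finset.prod_pos (fun e _ => hl e)
  have hlL : ∀ e, l e ∣ L := fun e => Finset.dvd_prod_of_mem l (Finset.mem_univ e)
  -- for each prime `p`, the prime-to-`p` part of `L` times `f` lies in `T`
  have hN : ∀ p : ℕ, p.Prime → ((L / p ^ L.factorization p : ℕ) : ℤ) • f ∈ T := by
    intro p hp
    set N : ℕ := L / p ^ L.factorization p with hNdef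
    have hNpos : 0 < N := Nat.ordCompl_pos p hLpos.ne'
    have hp0 : (p : ℤ) ≠ 0 := by exact_mod_cast hp.ne_zero
    have hm : ∀ e, (l e).factorization p ≤ L.factorization p := fun e =>
      (Nat.factorization_le_iff_dvd (hl e).ne' hLpos.ne').2 (hlL e) p
    have hfd : ∀ e, (p : ℤ) ^ (l e).factorization p ∣ f (ends e).1 - f (ends e).2 := by
      intro e
      refine dvd_trans ?_ (hf e)
      have : p ^ (l e).factorization p ∣ l e := Nat.ordProj_dvd (l e) p
      exact_mod_cast this
    obtain ⟨g, hg1, hg2⟩ := Groth.Agent.H88.padic_peel ends (p : ℤ) hp0 (L.factorization p)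
      (fun e => (l e).factorization p) f hm hfd
    have hsum : (N : ℤ) • f = ∑ j ∈ Finset.range (L.factorization p + 1),
        (fun v => ((N * p ^ j : ℕ) : ℤ) * g j v) := by
      funext v
      rw [Finset.sum_apply]
      simp only [Pi.smul_apply, smul_eq_mul]
      rw [hg1 v, Finset.mul_sum]
      apply Finset.sum_congr rfl
      intro j _
      push_cast
      ring
    rw [hsum]
    refine Submodule.sum_mem _ (fun j _ => Submodule.subset_span ?_)
    refine ⟨N * p ^ j, Nat.mul_pos hNpos (pow_pos hp.pos j), fun v => Dvd.intro _ rfl, ?_⟩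
    intro e he
    have hj : j < (l e).factorization p := by
      by_contra hcon
      push Not at hcon
      apply he
      have h1 : p ^ (l e).factorization p * (l e / p ^ (l e).factorization p) = l e :=
        Nat.ordProj_mul_ordCompl_eq_self (l e) p
      have h2 : l e / p ^ (l e).factorization p ∣ N := Nat.ordCompl_dvd_ordCompl_of_dvd (hlL e) p
      have h3 : p ^ (l e).factorization p ∣ p ^ j := pow_dvd_pow p hcon
      rw [← h1, mul_comm N]
      exact mul_dvd_mul h3 h2
    show ((N * p ^ j : ℕ) : ℤ) * g j (ends e).1 = ((N * p ^ j : ℕ) : ℤ) * g j (ends e).2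
    rw [hg2 j e hj]
  -- the ideal of integers `n` with `n • f ∈ T`
  let I : Ideal ℤ := T.comap (LinearMap.toSpanSingleton ℤ (V → ℤ) f)
  have hI : ∀ n : ℤ, n ∈ I ↔ n • f ∈ T := fun n => by
    simp only [I, Submodule.mem_comap, LinearMap.toSpanSingleton_apply]
  have hItop : I = ⊤ := by
    by_contra hne
    obtain ⟨M, hM, hIM⟩ := Ideal.exists_le_maximal I hne
    have hMne : M ≠ ⊥ := Ring.ne_bot_of_isMaximal_of_not_isField hM Int.not_isField
    have hprime := Submodule.IsPrincipal.prime_generator_of_isPrime M hMne
    set q := Submodule.IsPrincipal.generator M with hq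
    have hqp : (q.natAbs).Prime := Int.prime_iff_natAbs_prime.mp hprime
    have hmem : ((L / q.natAbs ^ L.factorization q.natAbs : ℕ) : ℤ) ∈ M :=
      hIM ((hI _).2 (hN q.natAbs hqp))
    rw [← Submodule.IsPrincipal.span_singleton_generator M, Ideal.mem_span_singleton] at hmem
    have hdvd : q.natAbs ∣ L / q.natAbs ^ L.factorization q.natAbs := by
      have := Int.natAbs_dvd_natAbs.mpr hmem
      rwa [Int.natAbs_natCast] at this
    exact Nat.not_dvd_ordCompl hqp hLpos.ne' hdvd
  have h1 : (1 : ℤ) ∈ I := by rw [hItop]; trivial
  have := (hI 1).1 h1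
  simpa using this

end Groth.Agent.S17723
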