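import Groth.Statements.S17724
import Groth.Agent.H88.LabGraphCircuit

set_option autoImplicit false
universe u v
open LabGraph

namespace Groth.Agent.S17724

/-- Let G be a finite connected multigraph with endpoint map ends, whose edges carry labels lab in a set
L and positive integer labels n, and suppose the L-labels are constant along every circuit. Say g :
V → ℤ is pre-achievable when for some finite set B of edges all carrying the same L-label, g takes
equal values at the two endpoints of every edge outside B (so g is constant on the connected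
components of the graph with B deleted); say g is Cartier when for every edge e the integer n(e)
divides the difference of the values of g at its endpoints. Then every Cartier function f is a
finite sum of functions each of which is Cartier and pre-achievable, and when f vanishes at a vertex
v₀ the summands can all be taken to vanish at v₀. -/
theorem result
    {V E : Type u} [Fintype V] [Fintype E] [DecidableEq V] [DecidableEq E] {L : Type v}
    (ends : E → V × V) (lab : E → L) (n : E → ℕ) (hn : ∀ e, 0 < n e)
    (hconn : LabGraph.Connected ends)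
    (hcirc : ∀ C : Finset E, LabGraph.IsCircuit ends C → ∀ e ∈ C, ∀ e' ∈ C, lab e = lab e')
    (f : V → ℤ) (hf : LabGraph.IsCartier ends n f) :
    f ∈ AddSubmonoid.closure {g : V → ℤ | LabGraph.IsCartier ends n g ∧ (∃ B : Finset E, (∀ e ∈ B, ∀ e' ∈ B, lab e = lab e') ∧ ∀ e, e ∉ B → g (ends e).1 = g (ends e).2)} ∧
    ∀ v₀ : V, f v₀ = 0 →
      f ∈ AddSubmonoid.closure {g : V → ℤ | LabGraph.IsCartier ends n g ∧ (∃ B : Finset E, (∀ e ∈ B, ∀ e' ∈ B, lab e = lab e') ∧ ∀ e, e ∉ B → g (ends e).1 = g (ends e).2) ∧ g v₀ = 0} := by
  classical
  obtain ⟨hne, hreach⟩ := hconn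
  -- potentials for each label
  have hpot : ∀ lam : L, ∃ h : V → ℤ,
      (∀ e, lab e = lam → h (ends e).2 - h (ends e).1 = f (ends e).2 - f (ends e).1) ∧
      (∀ e, lab e ≠ lam → h (ends e).2 = h (ends e).1) := fun lam => by
    obtain ⟨h, h1, h2⟩ :=
      Groth.Agent.H88.LG.exists_partial_potential ends lab hcirc f lam Finset.univ
    exact ⟨h, fun e => h1 e (Finset.mem_univ e), fun e => h2 e (Finset.mem_univ e)⟩
  choose φ hφ1 hφ2 using hpot
  have key : ∀ v₀ : V, f = (fun _ => f v₀) +
      ∑ lam ∈ Finset.univ.image lab, (fun v => φ lam v - φ lam v₀) := by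
    intro v₀
    set G : V → ℤ := (fun _ => f v₀) +
      ∑ lam ∈ Finset.univ.image lab, (fun v => φ lam v - φ lam v₀) with hG
    have hGd : ∀ e, G (ends e).2 - G (ends e).1 = f (ends e).2 - f (ends e).1 := by
      intro e
      simp only [hG, Pi.add_apply, Finset.sum_apply]
      rw [add_sub_add_left_eq_sub, ← Finset.sum_sub_distrib]
      rw [Finset.sum_eq_single (lab e)]
      · have := hφ1 (lab e) e rfl
        linarith
      · intro lam _ hlam
        have := hφ2 lam e (Ne.symm hlam)
        linarith
      · intro hnot
        exact absurd (Finset.mem_image_of_mem lab (Finset.mem_univ e)) hnot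
    have hconst : ∀ v, G v - f v = G v₀ - f v₀ := by
      intro v
      have hr := hreach v₀ v
      induction hr with
      | refl => rfl
      | tail _ hbc ih =>
        obtain ⟨e, he | he⟩ := hbc
        · have := hGd e
          rw [he] at this
          dsimp only at this
          linarith
        · have := hGd e
          rw [he] at this
          dsimp only at this
          linarith
    have hG0 : G v₀ = f v₀ := by
      simp [hG, Finset.sum_apply]
    funext v
    have := hconst v
    linarith
  -- membership of the pieces
  have hpiece : ∀ (lam : L) (v₀ : V),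
      LabGraph.IsCartier ends n (fun v => φ lam v - φ lam v₀) ∧
      (∃ B : Finset E, (∀ e ∈ B, ∀ e' ∈ B, lab e = lab e') ∧
        ∀ e, e ∉ B → (fun v => φ lam v - φ lam v₀) (ends e).1
          = (fun v => φ lam v - φ lam v₀) (ends e).2) ∧
      (fun v => φ lam v - φ lam v₀) v₀ = 0 := by
    intro lam v₀
    refine ⟨fun e => ?_, ⟨Finset.univ.filter (fun e => lab e = lam), ?_, ?_⟩, by simp⟩
    · show (n e : ℤ) ∣ (φ lam (ends e).1 - φ lam v₀) - (φ lam (ends e).2 - φ lam v₀)
      by_cases hlab : lab e = lam
      · have h1 := hφ1 lam e hlab
        have : (φ lam (ends e).1 - φ lam v₀) - (φ lam (ends e).2 - φ lam v₀)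
            = f (ends e).1 - f (ends e).2 := by linarith
        rw [this]
        exact hf e
      · have h2 := hφ2 lam e hlab
        have : (φ lam (ends e).1 - φ lam v₀) - (φ lam (ends e).2 - φ lam v₀) = 0 := by
          rw [h2]; ring
        rw [this]
        exact dvd_zero _
    · intro e he e' he'
      rw [Finset.mem_filter] at he he'
      rw [he.2, he'.2]
    · intro e he
      have hlab : lab e ≠ lam := fun h => he (by simp [h])
      show φ lam (ends e).1 - φ lam v₀ = φ lam (ends e).2 - φ lam v₀
      rw [hφ2 lam e hlab]
  constructor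
  · obtain ⟨v₀⟩ := hne
    rw [key v₀]
    refine add_mem (AddSubmonoid.subset_closure ?_) (sum_mem fun lam _ =>
      AddSubmonoid.subset_closure ?_)
    · refine ⟨fun e => by simp, ∅, by simp, fun e _ => rfl⟩
    · obtain ⟨h1, h2, _⟩ := hpiece lam v₀
      exact ⟨h1, h2⟩
  · intro v₀ h0
    rw [key v₀, h0]
    have : (fun _ : V => (0 : ℤ)) = 0 := rfl
    rw [this, zero_add]
    exact sum_mem fun lam _ => AddSubmonoid.subset_closure (hpiece lam v₀)

end Groth.Agent.S17724
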