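import Groth.Statements.S17726
-- import your own Groth.Agent.* helpers here

set_option autoImplicit false
universe u
open CAlg

namespace Groth.Agent.S17726

/-- Let f and g be non-zero-divisors of a commutative ring A, not both units; think of them as local
equations, at a point of the union of the supports, of two effective Cartier divisors E and D. If
the ideals generated by g^{m₁} and f^{n₁} coincide, and likewise for g^{m₂} and f^{n₂}, then m₁ n₂ =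
m₂ n₁. So all pairs (m, n) with m D = n E locally at the point are proportional, and the saturation
of the monoid they form is generated by a single element. -/
theorem result
    (A : Type u) [CommRing A] (f g : A)
    (hf : f ∈ nonZeroDivisors A) (hg : g ∈ nonZeroDivisors A) (hfg : ¬ (IsUnit f ∧ IsUnit g))
    (m₁ n₁ m₂ n₂ : ℕ)
    (h₁ : Ideal.span {g ^ m₁} = Ideal.span {f ^ n₁})
    (h₂ : Ideal.span {g ^ m₂} = Ideal.span {f ^ n₂}) :
    m₁ * n₂ = m₂ * n₁ := by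
  -- associated generators differ by a unit, for non-zero-divisors
  have assoc : ∀ a b : A, a ∈ nonZeroDivisors A → Ideal.span {a} = Ideal.span {b} →
      ∃ u : A, IsUnit u ∧ a = b * u := by
    intro a b ha hab
    have h1 : a ∈ Ideal.span {b} := hab ▸ Ideal.subset_span rfl
    have h2 : b ∈ Ideal.span {a} := hab.symm ▸ Ideal.subset_span rfl
    obtain ⟨c, hc⟩ := Ideal.mem_span_singleton'.1 h1
    obtain ⟨d, hd⟩ := Ideal.mem_span_singleton'.1 h2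
    refine ⟨c, ?_, by rw [← hc, mul_comm]⟩
    have : (d * c - 1) * a = 0 := by
      rw [sub_mul, one_mul, mul_assoc, mul_comm c a, ← mul_assoc, hd, mul_comm, hc, sub_self]
    have h3 := (mem_nonZeroDivisors_iff.1 ha).2 _ this
    exact IsUnit.of_mul_eq_one d (by rw [mul_comm]; exact sub_eq_zero.1 h3)
  -- a power of a non-zero-divisor x with x^(k+l) = x^k * u, u unit, l > 0 gives x unit
  have unit_of : ∀ x : A, x ∈ nonZeroDivisors A → ∀ k l : ℕ, 0 < l →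
      (∃ u : A, IsUnit u ∧ x ^ (k + l) = x ^ k * u) → IsUnit x := by
    intro x hx k l hl ⟨u, hu, h⟩
    have hxk : x ^ k ∈ nonZeroDivisors A := pow_mem hx k
    have : x ^ l = u := by
      have h' : x ^ k * (x ^ l - u) = 0 := by rw [mul_sub, ← pow_add, h, sub_self]
      have := (mem_nonZeroDivisors_iff.1 hxk).1 _ h'
      exact sub_eq_zero.1 this
    have hxl : IsUnit (x ^ l) := this ▸ hu
    exact (isUnit_pow_iff (Nat.pos_iff_ne_zero.1 hl)).1 hxl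
  obtain ⟨u₁, hu₁, e₁⟩ := assoc _ _ (pow_mem hg m₁) h₁
  obtain ⟨u₂, hu₂, e₂⟩ := assoc _ _ (pow_mem hg m₂) h₂
  by_contra hne
  apply hfg
  -- g^(m₁ n₂) = f^(n₁ n₂) u₁^n₂ ,  g^(m₂ n₁) = f^(n₂ n₁) u₂^n₁
  have E1 : g ^ (m₁ * n₂) = f ^ (n₁ * n₂) * u₁ ^ n₂ := by
    rw [pow_mul, e₁, mul_pow, ← pow_mul]
  have E2 : g ^ (m₂ * n₁) = f ^ (n₁ * n₂) * u₂ ^ n₁ := by
    rw [pow_mul, e₂, mul_pow, ← pow_mul, mul_comm n₂ n₁]
  have F1 : f ^ (n₁ * m₂) * u₁ ^ m₂ = g ^ (m₁ * m₂) := by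
    rw [pow_mul g, e₁, mul_pow, ← pow_mul]
  have F2 : f ^ (n₂ * m₁) * u₂ ^ m₁ = g ^ (m₁ * m₂) := by
    rw [mul_comm m₁ m₂, pow_mul g, e₂, mul_pow, ← pow_mul]
  have hu1 : ∀ k, IsUnit (u₁ ^ k) := fun k => hu₁.pow k
  have hu2 : ∀ k, IsUnit (u₂ ^ k) := fun k => hu₂.pow k
  rcases Nat.lt_or_gt_of_ne hne with hlt | hgt
  · -- m₁ n₂ < m₂ n₁
    obtain ⟨l, hl, hl'⟩ : ∃ l, 0 < l ∧ m₂ * n₁ = m₁ * n₂ + l :=
      ⟨m₂ * n₁ - m₁ * n₂, by omega, by omega⟩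
    constructor
    · -- f is a unit : f^(n₂ m₁) u₂^m₁ = f^(n₁ m₂) u₁^m₂
      obtain ⟨v, hv⟩ := hu1 m₂
      obtain ⟨w, hw⟩ := hu2 m₁
      refine unit_of f hf (n₂ * m₁) l hl ⟨u₂ ^ m₁ * ((v⁻¹ : Aˣ) : A), (hu2 m₁).mul (Units.isUnit _), ?_⟩
      have hexp : n₂ * m₁ + l = n₁ * m₂ := by rw [mul_comm n₂ m₁, mul_comm n₁ m₂]; omega
      rw [hexp, ← mul_assoc, F2, ← F1, ← hv, mul_assoc, Units.mul_inv, mul_one]
    · obtain ⟨v, hv⟩ := hu1 n₂
      refine unit_of g hg (m₁ * n₂) l hl ⟨((v⁻¹ : Aˣ) : A) * u₂ ^ n₁, (Units.isUnit _).mul (hu2 n₁), ?_⟩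
      rw [← hl', E2, E1, ← hv, mul_assoc, ← mul_assoc (v : A), Units.mul_inv, one_mul]
  · obtain ⟨l, hl, hl'⟩ : ∃ l, 0 < l ∧ m₁ * n₂ = m₂ * n₁ + l :=
      ⟨m₁ * n₂ - m₂ * n₁, by omega, by omega⟩
    constructor
    · obtain ⟨v, hv⟩ := hu2 m₁
      refine unit_of f hf (n₁ * m₂) l hl ⟨u₁ ^ m₂ * ((v⁻¹ : Aˣ) : A), (hu1 m₂).mul (Units.isUnit _), ?_⟩
      have hexp : n₁ * m₂ + l = n₂ * m₁ := by rw [mul_comm n₂ m₁, mul_comm n₁ m₂]; omega
      rw [hexp, ← mul_assoc, F1, ← F2, ← hv, mul_assoc, Units.mul_inv, mul_one]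
    · obtain ⟨v, hv⟩ := hu2 n₁
      refine unit_of g hg (m₂ * n₁) l hl ⟨((v⁻¹ : Aˣ) : A) * u₁ ^ n₂, (Units.isUnit _).mul (hu1 n₂), ?_⟩
      rw [← hl', E1, E2, ← hv, mul_assoc, ← mul_assoc (v : A), Units.mul_inv, one_mul]

end Groth.Agent.S17726
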