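import Groth.Statements.S17732
import Groth.Agent.H88.CDivAux
open Groth.Agent.H88.CDivAux

set_option autoImplicit false
universe u
open CDiv

namespace Groth.Agent.S17732

open AlgebraicGeometry in
/-- Let X be a Noetherian scheme and D, E effective Cartier divisors on X, encoded by their ideal
sheaves, each locally generated on an affine open by a single non-zero-divisor. Assume that the
union of the supports of D and E is connected (or empty) and that every point of X has an affine
open neighbourhood on which the m-th power of the ideal of D equals the n-th power of the ideal of E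
for some (m, n) ≠ (0, 0). Then there is a pair (m, n) ≠ (0, 0) for which this equality holds on
every affine open of X, that is, m D = n E globally. -/
theorem result
    (X : Scheme.{u}) [IsNoetherian X] (D E : X.IdealSheafData)
    (hD : (∀ x : X, ∃ U : X.affineOpens, x ∈ (U : X.Opens) ∧ ∃ g : Γ(X, U), g ∈ nonZeroDivisors Γ(X, U) ∧ D.ideal U = Ideal.span {g}))
    (hE : (∀ x : X, ∃ U : X.affineOpens, x ∈ (U : X.Opens) ∧ ∃ g : Γ(X, U), g ∈ nonZeroDivisors Γ(X, U) ∧ E.ideal U = Ideal.span {g}))
    (hconn : IsPreconnected ((D.support : Set X) ∪ (E.support : Set X)))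
    (hloc : ∀ x : X, ∃ U : X.affineOpens, x ∈ (U : X.Opens) ∧
      ∃ m n : ℕ, (m, n) ≠ (0, 0) ∧ D.ideal U ^ m = E.ideal U ^ n) :
    ∃ m n : ℕ, (m, n) ≠ (0, 0) ∧ ∀ U : X.affineOpens, D.ideal U ^ m = E.ideal U ^ n := by
  classical
  set Z : Set X := (D.support : Set X) ∪ (E.support : Set X) with hZ
  choose U hxU m n hmn hpow using hloc
  -- cross-multiplication at points of `Z`
  have hcross : ∀ y ∈ Z, ∀ x x' : X, y ∈ (U x : X.Opens) → y ∈ (U x' : X.Opens) →
      m x * n x' = m x' * n x := by
    intro y hyZ x x' hyx hyx'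
    obtain ⟨UD, hyUD, gD, hgD, hDg⟩ := hD y
    obtain ⟨UE, hyUE, gE, hgE, hEg⟩ := hE y
    have h1 : stalkIdealOn D UD y hyUD ^ m x = stalkIdealOn E UE y hyUE ^ n x := by
      rw [stalkIdealOn_indep D UD (U x) y hyUD hyx, stalkIdealOn_indep E UE (U x) y hyUE hyx,
        ← stalkIdealOn_pow, ← stalkIdealOn_pow, hpow x]
    have h2 : stalkIdealOn D UD y hyUD ^ m x' = stalkIdealOn E UE y hyUE ^ n x' := by
      rw [stalkIdealOn_indep D UD (U x') y hyUD hyx', stalkIdealOn_indep E UE (U x') y hyUE hyx',
        ← stalkIdealOn_pow, ← stalkIdealOn_pow, hpow x']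
    rw [stalkIdealOn_span D UD y hyUD gD hDg, stalkIdealOn_span E UE y hyUE gE hEg] at h1 h2
    refine cross_mul_eq (germ_mem_nonZeroDivisors UD y hyUD gD hgD)
      (germ_mem_nonZeroDivisors UE y hyUE gE hgE) ?_ h1 h2
    rintro ⟨hu1, hu2⟩
    rcases hyZ with hy | hy
    · exact not_isUnit_germ_of_mem_support D UD y hyUD gD hDg hy hu1
    · exact not_isUnit_germ_of_mem_support E UE y hyUE gE hEg hy hu2
  -- transitivity of proportionality through a non-zero vector
  have htrans : ∀ ma na mb nb m0 n0 : ℕ, (ma, na) ≠ (0, 0) → ma * nb = mb * na →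
      ma * n0 = m0 * na → mb * n0 = m0 * nb := by
    intro ma na mb nb m0 n0 hne h1 h2
    rcases Nat.eq_zero_or_pos ma with h0 | hpos
    · subst h0
      have hna : na ≠ 0 := fun h => hne (by rw [h])
      have hmb : mb = 0 := by
        rcases Nat.eq_zero_or_pos mb with h | h
        · exact h
        · exfalso
          have : mb * na = 0 := by rw [← h1]; simp
          rcases Nat.mul_eq_zero.mp this with h' | h'
          · omega
          · exact hna h'
      have hm0 : m0 = 0 := by
        rcases Nat.eq_zero_or_pos m0 with h | h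
        · exact h
        · exfalso
          have : m0 * na = 0 := by rw [← h2]; simp
          rcases Nat.mul_eq_zero.mp this with h' | h'
          · omega
          · exact hna h'
      rw [hmb, hm0]; simp
    · apply Nat.eq_of_mul_eq_mul_left hpos
      calc ma * (mb * n0) = mb * (ma * n0) := by ring
        _ = mb * (m0 * na) := by rw [h2]
        _ = m0 * (mb * na) := by ring
        _ = m0 * (ma * nb) := by rw [h1]
        _ = ma * (m0 * nb) := by ring
  by_cases hZne : Z.Nonempty
  swap
  · -- both divisors are trivial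
    rw [Set.not_nonempty_iff_eq_empty] at hZne
    have hDtop : D = ⊤ := by
      rw [← Scheme.IdealSheafData.support_eq_bot_iff]
      apply TopologicalSpace.Closeds.ext
      apply Set.eq_empty_of_subset_empty
      rw [← hZne]
      exact Set.subset_union_left
    have hEtop : E = ⊤ := by
      rw [← Scheme.IdealSheafData.support_eq_bot_iff]
      apply TopologicalSpace.Closeds.ext
      apply Set.eq_empty_of_subset_empty
      rw [← hZne]
      exact Set.subset_union_right
    refine ⟨1, 1, by simp, fun V => ?_⟩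
    rw [hDtop, hEtop]
  obtain ⟨z₀, hz₀⟩ := hZne
  -- all exponent vectors at points of `Z` are proportional to the one at `z₀`
  have hprop : ∀ y ∈ Z, m y * n z₀ = m z₀ * n y := by
    by_contra hcon
    push Not at hcon
    obtain ⟨y₁, hy₁Z, hy₁⟩ := hcon
    let u : Set X := ⋃ y ∈ {y | m y * n z₀ = m z₀ * n y}, ((U y : X.Opens) : Set X)
    let v : Set X := ⋃ y ∈ {y | ¬ (m y * n z₀ = m z₀ * n y)}, ((U y : X.Opens) : Set X)
    have hu : IsOpen u := isOpen_biUnion fun y _ => (U y : X.Opens).isOpen
    have hv : IsOpen v := isOpen_biUnion fun y _ => (U y : X.Opens).isOpen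
    have hcov : Z ⊆ u ∪ v := by
      intro y _
      by_cases h : m y * n z₀ = m z₀ * n y
      · exact Or.inl (Set.mem_biUnion (show y ∈ {y | m y * n z₀ = m z₀ * n y} from h) (hxU y))
      · exact Or.inr (Set.mem_biUnion (show y ∈ {y | ¬ (m y * n z₀ = m z₀ * n y)} from h) (hxU y))
    have h1 : (Z ∩ u).Nonempty :=
      ⟨z₀, hz₀, Set.mem_biUnion (show z₀ ∈ {y | m y * n z₀ = m z₀ * n y} from rfl) (hxU z₀)⟩
    have h2 : (Z ∩ v).Nonempty :=
      ⟨y₁, hy₁Z, Set.mem_biUnion (show y₁ ∈ {y | ¬ (m y * n z₀ = m z₀ * n y)} from hy₁) (hxU y₁)⟩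
    obtain ⟨y, hyZ, hyu, hyv⟩ := hconn u v hu hv hcov h1 h2
    simp only [u, v, Set.mem_iUnion, Set.mem_ofPred_eq, exists_prop] at hyu hyv
    obtain ⟨a, ha, hya⟩ := hyu
    obtain ⟨b, hb, hyb⟩ := hyv
    exact hb (htrans (m a) (n a) (m b) (n b) (m z₀) (n z₀) (hmn a) (hcross y hyZ a b hya hyb) ha)
  have hprop' : ∀ x : X, (∃ y ∈ Z, y ∈ (U x : X.Opens)) → m x * n z₀ = m z₀ * n x := by
    rintro x ⟨y, hyZ, hyx⟩
    exact htrans (m y) (n y) (m x) (n x) (m z₀) (n z₀) (hmn y) (hcross y hyZ y x (hxU y) hyx)
      (hprop y hyZ)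
  -- finite subcover
  obtain ⟨t, ht⟩ := isCompact_univ.elim_finite_subcover (fun x => ((U x : X.Opens) : Set X))
    (fun x => (U x : X.Opens).isOpen) (fun x _ => Set.mem_iUnion.mpr ⟨x, hxU x⟩)
  set P : ℕ := ∏ i ∈ t, (m i + n i) with hP
  have hpos : ∀ i, 0 < m i + n i := by
    intro i
    rcases Nat.eq_zero_or_pos (m i + n i) with h | h
    · exfalso
      apply hmn i
      have h1 : m i = 0 := by omega
      have h2 : n i = 0 := by omega
      rw [h1, h2]
    · exact h
  have hPpos : 0 < P := Finset.prod_pos fun i _ => hpos i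
  refine ⟨m z₀ * P, n z₀ * P, ?_, ?_⟩
  · intro h
    rw [Prod.mk.injEq] at h
    have h1 := Nat.mul_eq_zero.mp h.1
    have h2 := Nat.mul_eq_zero.mp h.2
    have := hpos z₀
    omega
  have hglob : D ^ (m z₀ * P) = E ^ (n z₀ * P) := by
    refine Scheme.IdealSheafData.ext_of_iSup_eq_top (fun i : t => U i.1) ?_ ?_
    · rw [eq_top_iff]
      intro x _
      have hx := ht (Set.mem_univ x)
      simp only [Set.mem_iUnion, exists_prop] at hx
      obtain ⟨i, hi, hxi⟩ := hx
      exact TopologicalSpace.Opens.mem_iSup.mpr ⟨⟨i, hi⟩, hxi⟩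
    · rintro ⟨i, hi⟩
      show D.ideal (U i) ^ (m z₀ * P) = E.ideal (U i) ^ (n z₀ * P)
      by_cases hmeet : ∃ y ∈ Z, y ∈ (U i : X.Opens)
      · have hpr := hprop' i hmeet
        have hPe : P = (m i + n i) * ∏ j ∈ t.erase i, (m j + n j) :=
          (Finset.mul_prod_erase t (fun j => m j + n j) hi).symm
        obtain ⟨Q, hQ⟩ : ∃ Q : ℕ, Q = ∏ j ∈ t.erase i, (m j + n j) := ⟨_, rfl⟩
        rw [← hQ] at hPe
        obtain ⟨c, hc⟩ : ∃ c : ℕ, c = (m z₀ + n z₀) * Q := ⟨_, rfl⟩
        have hM : m z₀ * P = m i * c := by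
          rw [hPe, hc]
          have h3 : m z₀ * (m i + n i) = m i * (m z₀ + n z₀) := by
            rw [mul_add, mul_add, hpr]; ring
          calc m z₀ * ((m i + n i) * Q) = (m z₀ * (m i + n i)) * Q := by ring
            _ = (m i * (m z₀ + n z₀)) * Q := by rw [h3]
            _ = m i * ((m z₀ + n z₀) * Q) := by ring
        have hN : n z₀ * P = n i * c := by
          rw [hPe, hc]
          have h3 : n z₀ * (m i + n i) = n i * (m z₀ + n z₀) := by
            rw [mul_add, mul_add, mul_comm (n z₀) (m i), hpr]; ring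
          calc n z₀ * ((m i + n i) * Q) = (n z₀ * (m i + n i)) * Q := by ring
            _ = (n i * (m z₀ + n z₀)) * Q := by rw [h3]
            _ = n i * ((m z₀ + n z₀) * Q) := by ring
        rw [hM, hN, pow_mul (D.ideal (U i)) (m i) c, pow_mul (E.ideal (U i)) (n i) c, hpow i]
      · push Not at hmeet
        have hDt : D.ideal (U i) = ⊤ := by
          rw [(U i).2.ideal_ext_iff]
          intro y hy
          rw [Ideal.map_top]
          exact stalkIdealOn_eq_top_of_not_mem_support D (U i) y hy
            (fun h => hmeet y (Or.inl h) hy)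
        have hEt : E.ideal (U i) = ⊤ := by
          rw [(U i).2.ideal_ext_iff]
          intro y hy
          rw [Ideal.map_top]
          exact stalkIdealOn_eq_top_of_not_mem_support E (U i) y hy
            (fun h => hmeet y (Or.inr h) hy)
        rw [hDt, hEt, Ideal.top_pow, Ideal.top_pow]
  intro V
  have := congrFun (congrArg Scheme.IdealSheafData.ideal hglob) V
  exact this

end Groth.Agent.S17732
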