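import Groth.Statements.S17737
import Groth.Agent.H91.NodeThickB
import Groth.Agent.Lead.CompletionIAdic

set_option autoImplicit false
universe u
open DualGr

namespace Groth.Agent.S17737

open IsLocalRing in
/-- Let R be a Noetherian local ring, A a local ring with a ring map φ : R → A, and a, b two elements of
the maximal ideal of R such that A is formally a node over R both of thickness (a) and of thickness
(b): the completion of A is isomorphic, compatibly with R, to R̂[[x,y]]/(xy − a) and also to
R̂[[x,y]]/(xy − b). Then aR = bR. (This is the uniqueness assertion: the element in a node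
presentation is not unique but the principal ideal it generates is; it is stated for presentations
with the element taken in R, whose ideal in R is then determined.) -/
theorem result
    (R A : Type u) [CommRing R] [IsLocalRing R] [IsNoetherianRing R] [CommRing A] [IsLocalRing A]
    (φ : R →+* A) (a b : R) (ha : a ∈ maximalIdeal R) (hb : b ∈ maximalIdeal R)
    (h₁ : DualGr.IsThickNode φ a) (h₂ : DualGr.IsThickNode φ b) :
    Ideal.span {a} = Ideal.span {b} := by
  haveI : IsNoetherianRing (AdicCompletion (maximalIdeal R) R) :=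
    Groth.Agent.Lead.RLR.isNoetherianRing_adicCompletion' R _
  obtain ⟨e₁, he₁⟩ := h₁
  obtain ⟨e₂, he₂⟩ := h₂
  have hG : Ideal.span ((algebraMap R (AdicCompletion (maximalIdeal R) R)) '' (maximalIdeal R : Set R)) =
      maximalIdeal (AdicCompletion (maximalIdeal R) R) := by
    rw [AdicCompletion.maximalIdeal_eq_map]; rfl
  have hmem : ∀ t ∈ maximalIdeal R, algebraMap R (AdicCompletion (maximalIdeal R) R) t ∈
      maximalIdeal (AdicCompletion (maximalIdeal R) R) := by
    intro t ht
    rw [AdicCompletion.maximalIdeal_eq_map]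
    exact Ideal.mem_map_of_mem _ ht
  have key : ∀ (a b : R) (ha : a ∈ maximalIdeal R) (hb : b ∈ maximalIdeal R)
      (e₁ : Curv2.cpl A ≃+* DualGr.nodeRing R a) (e₂ : Curv2.cpl A ≃+* DualGr.nodeRing R b)
      (he₁ : ∀ r : R, e₁ (algebraMap A (Curv2.cpl A) (φ r)) =
        Ideal.Quotient.mk _ (MvPowerSeries.C (algebraMap R (Curv2.cpl R) r)))
      (he₂ : ∀ r : R, e₂ (algebraMap A (Curv2.cpl A) (φ r)) =
        Ideal.Quotient.mk _ (MvPowerSeries.C (algebraMap R (Curv2.cpl R) r))),
      algebraMap R (AdicCompletion (maximalIdeal R) R) a ∈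
        Ideal.span {algebraMap R (AdicCompletion (maximalIdeal R) R) b} := by
    intro a b ha hb e₁ e₂ he₁ he₂
    have hΘ : ∀ r : R, (e₁.symm.trans e₂)
        (Ideal.Quotient.mk _ (MvPowerSeries.C (algebraMap R (Curv2.cpl R) r))) =
        Ideal.Quotient.mk _ (MvPowerSeries.C (algebraMap R (Curv2.cpl R) r)) := by
      intro r
      rw [RingEquiv.trans_apply, ← he₁ r, RingEquiv.symm_apply_apply, he₂ r]
    refine Groth.Agent.H91.NodeThickB.mem_span_of_nodeRing_equiv
      (algebraMap R (AdicCompletion (maximalIdeal R) R) a)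
      (algebraMap R (AdicCompletion (maximalIdeal R) R) b) (hmem a ha) (hmem b hb)
      (e₁.symm.trans e₂) _ hG ?_ (hΘ a)
    rintro _ ⟨r, _, rfl⟩
    exact hΘ r
  have h1 := key a b ha hb e₁ e₂ he₁ he₂
  have h2 := key b a hb ha e₂ e₁ he₂ he₁
  have h3 : (Ideal.span {a}).map (algebraMap R (AdicCompletion (maximalIdeal R) R)) =
      (Ideal.span {b}).map (algebraMap R (AdicCompletion (maximalIdeal R) R)) := by
    rw [Ideal.map_span, Ideal.map_span, Set.image_singleton, Set.image_singleton]
    apply le_antisymm
    · exact (Ideal.span_singleton_le_iff_mem _).mpr h1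
    · exact (Ideal.span_singleton_le_iff_mem _).mpr h2
  haveI : Module.FaithfullyFlat R (AdicCompletion (maximalIdeal R) R) :=
    Module.FaithfullyFlat.of_flat_of_isLocalHom
  have h4 := congrArg (Ideal.comap (algebraMap R (AdicCompletion (maximalIdeal R) R))) h3
  rwa [Ideal.comap_map_eq_self_of_faithfullyFlat, Ideal.comap_map_eq_self_of_faithfullyFlat] at h4

end Groth.Agent.S17737
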