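import Groth.Statements.S1775
import Groth.Agent.H26.FlatBCDual2

set_option autoImplicit false
universe u
open CategoryTheory
attribute [local instance] HasDerivedCategory.standard
open Dual

namespace Groth.Agent.S1775

/-- Let A be a Noetherian ring, S a multiplicative subset and ω a dualizing complex for A. Assuming the
derived base change functor D(A) → D(S⁻¹A) exists, the derived base change of ω is a dualizing
complex for S⁻¹A. -/
theorem result (A : Type u) [CommRing A] [IsNoetherianRing A] (S : Submonoid A) [DRing.HasLBaseChange (algebraMap A (Localization S))] (ω : Dual.D A) (hω : Dual.IsDualizing A ω) : Dual.IsDualizing (Localization S) ((DRing.LBaseChange (algebraMap A (Localization S))).obj ω) := by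
  haveI : IsNoetherianRing (Localization S) :=
    IsLocalization.isNoetherianRing S (Localization S) inferInstance
  have e := (Groth.Agent.H26.FlatBCDual.lbcIso (A := A) (B := Localization S)).app ω
  exact Groth.Agent.H26.FlatBCDual.isDualizing_of_iso e.symm
    (Groth.Agent.H26.FlatBCDual.isDualizing_LB_localization (B := Localization S) S ω hω)

end Groth.Agent.S1775
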