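import Groth.Statements.S17754
import Mathlib

set_option autoImplicit false
universe u
open CAlg

namespace Groth.Agent.S17754

/-- Let R be a complete Noetherian local ring with maximal ideal m, and let I_0 ⊇ I_1 ⊇ I_2 ⊇ ⋯ be a
descending sequence of ideals of R whose intersection is zero. Then for every natural number n there
is an index s with I_s contained in m^n; that is, the filtration by the I_s is at least as fine as
the m-adic one. -/
theorem result (R : Type u) [CommRing R] [IsNoetherianRing R] [IsLocalRing R] [IsAdicComplete (IsLocalRing.maximalIdeal R) R] (I : ℕ → Ideal R) (hI : Antitone I) (hinf : ⨅ s, I s = ⊥) (n : ℕ) : ∃ s : ℕ, I s ≤ IsLocalRing.maximalIdeal R ^ n := by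
  classical
  set m := IsLocalRing.maximalIdeal R with hm
  -- Step 1: stabilisation modulo `m ^ k`
  have step1 : ∀ k : ℕ, ∃ s₀, ∀ s, s₀ ≤ s → I s₀ ≤ I s ⊔ m ^ k := by
    intro k
    rcases Nat.eq_zero_or_pos k with rfl | hk
    · exact ⟨0, fun s _ => by simp⟩
    · have hmin : m ∈ (m ^ k).minimalPrimes := by
        refine ⟨⟨(IsLocalRing.maximalIdeal.isMaximal R).isPrime, Ideal.pow_le_self hk.ne'⟩, ?_⟩
        rintro q ⟨hq, hle⟩ _
        exact hq.le_of_pow_le hle
      have : IsArtinianRing (R ⧸ m ^ k) :=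
        IsLocalRing.quotient_artinian_of_mem_minimalPrimes_of_isLocalRing _ hmin
      let qs : ℕ →o (Ideal (R ⧸ m ^ k))ᵒᵈ :=
        { toFun := fun s => (I s).map (Ideal.Quotient.mk (m ^ k))
          monotone' := fun i j e => Ideal.map_mono (hI e) }
      obtain ⟨s₀, hs₀⟩ := IsArtinian.monotone_stabilizes qs
      refine ⟨s₀, fun s hs => ?_⟩
      have h1 : (I s₀).map (Ideal.Quotient.mk (m ^ k)) = (I s).map (Ideal.Quotient.mk (m ^ k)) :=
        hs₀ s hs
      calc I s₀ ≤ ((I s₀).map (Ideal.Quotient.mk (m ^ k))).comap (Ideal.Quotient.mk (m ^ k)) :=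
            Ideal.le_comap_map
        _ = ((I s).map (Ideal.Quotient.mk (m ^ k))).comap (Ideal.Quotient.mk (m ^ k)) := by
            rw [h1]
        _ = I s ⊔ m ^ k := by
            rw [Ideal.comap_map_of_surjective _ Ideal.Quotient.mk_surjective,
              ← RingHom.ker_eq_comap_bot, Ideal.mk_ker]
  choose σ hσ using step1
  -- Step 2: a monotone choice of indices
  let τ : ℕ → ℕ := fun k => (∑ j ∈ Finset.range (k + 1), σ j) + k
  have hτσ : ∀ k, σ k ≤ τ k := by
    intro k
    have : σ k ≤ ∑ j ∈ Finset.range (k + 1), σ j :=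
      Finset.single_le_sum (f := σ) (fun _ _ => Nat.zero_le _) (Finset.self_mem_range_succ k)
    show σ k ≤ (∑ j ∈ Finset.range (k + 1), σ j) + k
    omega
  have hτk : ∀ k, k ≤ τ k := fun k => Nat.le_add_left _ _
  have hτmono : Monotone τ := by
    intro a b hab
    show (∑ j ∈ Finset.range (a + 1), σ j) + a ≤ (∑ j ∈ Finset.range (b + 1), σ j) + b
    have : ∑ j ∈ Finset.range (a + 1), σ j ≤ ∑ j ∈ Finset.range (b + 1), σ j :=
      Finset.sum_le_sum_of_subset (Finset.range_mono (by omega))
    omega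
  have hτ : ∀ k s, τ k ≤ s → I (τ k) ≤ I s ⊔ m ^ k := by
    intro k s hs
    exact (hI (hτσ k)).trans (hσ k s ((hτσ k).trans hs))
  -- Step 3: argue by contradiction
  by_contra hcon
  push Not at hcon
  obtain ⟨x₀, hx₀, hx₀n⟩ := SetLike.not_le_iff_exists.mp (hcon (τ n))
  have hstep : ∀ (j : ℕ) (x : R), x ∈ I (τ (n + j)) →
      ∃ y, y ∈ I (τ (n + j + 1)) ∧ x - y ∈ m ^ (n + j) := by
    intro j x hx
    have := hτ (n + j) (τ (n + j + 1)) (hτmono (by omega)) hx
    obtain ⟨y, hy, z, hz, rfl⟩ := Submodule.mem_sup.mp this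
    exact ⟨y, hy, by simpa using hz⟩
  let X : ∀ j : ℕ, {x : R // x ∈ I (τ (n + j))} := fun j =>
    Nat.rec (motive := fun j => {x : R // x ∈ I (τ (n + j))}) ⟨x₀, hx₀⟩
      (fun j x => ⟨Classical.choose (hstep j x.1 x.2),
        (Classical.choose_spec (hstep j x.1 x.2)).1⟩) j
  have hX : ∀ j, (X j).1 - (X (j + 1)).1 ∈ m ^ (n + j) := fun j =>
    (Classical.choose_spec (hstep j (X j).1 (X j).2)).2
  have hXab : ∀ a b, a ≤ b → (X a).1 - (X b).1 ∈ m ^ (n + a) := by
    intro a b hab
    induction b, hab using Nat.le_induction with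
    | base => simp
    | succ b hab ih =>
      have h1 : (X a).1 - (X (b + 1)).1 = ((X a).1 - (X b).1) + ((X b).1 - (X (b + 1)).1) := by
        ring
      rw [h1]
      exact Ideal.add_mem _ ih (Ideal.pow_le_pow_right (by omega) (hX b))
  let f : ℕ → R := fun i => (X (i - n)).1
  have hf : ∀ {i j : ℕ}, i ≤ j → f i ≡ f j [SMOD (m ^ i • ⊤ : Submodule R R)] := by
    intro i j hij
    rw [SModEq.sub_mem, smul_eq_mul, Ideal.mul_top]
    exact Ideal.pow_le_pow_right (by omega) (hXab (i - n) (j - n) (by omega))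
  obtain ⟨x, hx⟩ := IsPrecomplete.prec (I := m) (M := R) inferInstance hf
  have hx' : ∀ i, f i - x ∈ m ^ i := by
    intro i
    have := hx i
    rwa [SModEq.sub_mem, smul_eq_mul, Ideal.mul_top] at this
  -- Step 4: the limit lies in every `I (τ j)`
  have hxI : ∀ j, x ∈ I (τ j) := by
    intro j
    have hH : IsHausdorff m (R ⧸ I (τ j)) := inferInstance
    rw [← Ideal.Quotient.eq_zero_iff_mem]
    apply hH.haus
    intro i
    rw [SModEq.zero]
    set i' := max i (max j n) with hi'
    have h1 : f i' ∈ I (τ j) := by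
      have : τ j ≤ τ (n + (i' - n)) := hτmono (by omega)
      exact hI this (X (i' - n)).2
    have h2 : f i' - x ∈ m ^ i := Ideal.pow_le_pow_right (by omega) (hx' i')
    have h3 : Ideal.Quotient.mk (I (τ j)) x
        = - ((f i' - x) • (1 : R ⧸ I (τ j))) := by
      rw [Algebra.smul_def, mul_one, Ideal.Quotient.algebraMap_eq, map_sub,
        Ideal.Quotient.eq_zero_iff_mem.mpr h1]
      ring
    rw [h3]
    exact Submodule.neg_mem _ (Submodule.smul_mem_smul h2 Submodule.mem_top)
  -- Step 5
  have hx0 : x = 0 := by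
    have : x ∈ ⨅ s, I s := by
      rw [Ideal.mem_iInf]
      intro s
      exact hI (hτk s) (hxI s)
    rw [hinf] at this
    exact this
  apply hx₀n
  have := hx' n
  rw [hx0, sub_zero] at this
  have hfn : f n = x₀ := by
    show (X (n - n)).1 = x₀
    rw [Nat.sub_self]
    rfl
  rwa [hfn] at this

end Groth.Agent.S17754
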