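import Groth.Statements.S17764
-- import your own Groth.Agent.* helpers here

set_option autoImplicit false
universe u
open InjHull

namespace Groth.Agent.S17764

/-- Let R be a commutative ring and M an R-module which is torsion-free (no nonzero element of R kills a
nonzero element of M) and divisible (multiplication by every nonzero element of R is surjective on
M). Then M is an injective R-module. (Over a ring with zero divisors the two hypotheses force M =
0.) -/
theorem result (R : Type u) [CommRing R] (M : Type u) [AddCommGroup M] [Module R M] [NoZeroSMulDivisors R M] (hdiv : ∀ r : R, r ≠ 0 → Function.Surjective (fun m : M => r • m)) : Module.Injective R M := by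
  apply Module.Baer.injective
  intro I g
  by_cases hI : ∃ a : I, (a : R) ≠ 0
  · obtain ⟨a, ha⟩ := hI
    obtain ⟨m₀, hm₀⟩ := hdiv (a : R) ha (g a)
    refine ⟨LinearMap.toSpanSingleton R M m₀, ?_⟩
    intro b hb
    simp only [LinearMap.toSpanSingleton_apply]
    have h1 : (a : R) • (g ⟨b, hb⟩ - b • m₀) = 0 := by
      have e1 : (a : R) • g ⟨b, hb⟩ = g ((a : R) • (⟨b, hb⟩ : I)) := (map_smul g _ _).symm
      have e2 : b • g a = g (b • a) := (map_smul g _ _).symm
      have e3 : (a : R) • (⟨b, hb⟩ : I) = b • a := by
        ext
        simp [mul_comm]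
      have hm₀' : (a : R) • m₀ = g a := hm₀
      rw [smul_sub, e1, e3, ← e2, ← hm₀', smul_smul, smul_smul, mul_comm, sub_self]
    rcases (NoZeroSMulDivisors.eq_zero_or_eq_zero_of_smul_eq_zero h1) with h | h
    · exact absurd h ha
    · exact (sub_eq_zero.1 h).symm
  · push Not at hI
    refine ⟨0, ?_⟩
    intro b hb
    have hb0 : b = 0 := hI ⟨b, hb⟩
    subst hb0
    have : (⟨0, hb⟩ : I) = 0 := rfl
    rw [this, map_zero, map_zero]

end Groth.Agent.S17764
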