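import Groth.Statements.S17774
import Mathlib
import Groth.Agent.H2.GorDuality
import Groth.Agent.H2.GorensteinCM
import Groth.Agent.H2.GorensteinGlobal
import Groth.Agent.H72.CMLocal
import Groth.Agent.H81.CIGor2
import Groth.Agent.H58.ExtCompare

set_option autoImplicit false
universe u
open CategoryTheory Opposite
open LocCoh

namespace Groth.Agent.S17774

/-- Let (S, n) be a Gorenstein local ring, I an ideal of S of height g such that R = S ⧸ I is a
Cohen–Macaulay local ring, of Krull dimension d, and E an injective hull of the residue field of S.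
Then the canonical module of R is Ext^g_S(R, S), in the following sense: the Matlis dual
Hom_S(Ext^g_S(R, S), E) is isomorphic as an S-module to the top local cohomology H^d_n(R) of R
regarded as an S-module (existence of an S-linear isomorphism; Hom into E over S and local
cohomology with support in n agree with the corresponding notions over R for R-modules). -/
theorem result (S : Type u) [CommRing S] [LocCoh.IsGorensteinLocalRing S] (I : Ideal S) (g : ℕ) (hg : I.height = g) [LocCoh.IsCohenMacaulayLocalRing (S ⧸ I)] (d : ℕ) (hd : ringKrullDim (S ⧸ I) = d) (E : Type u) [AddCommGroup E] [Module S E] (f : IsLocalRing.ResidueField S →ₗ[S] E) (hf : InjHull.IsInjectiveHull f) : Nonempty ((((Ext S (ModuleCat.{u} S) g).obj (op (ModuleCat.of S (S ⧸ I)))).obj (ModuleCat.of S S) →ₗ[S] E) ≃ₗ[S] LocCoh.H (IsLocalRing.maximalIdeal S) d (S ⧸ I)) := by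
  have hCM : LocCoh.IsCohenMacaulayLocalRing S :=
    Groth.Agent.H2.GorensteinCM.isCohenMacaulayLocalRing S
  have hI : I ≠ ⊤ := by
    intro h
    have : Nontrivial (S ⧸ I) := inferInstance
    exact (Ideal.Quotient.nontrivial_iff.mp this) h
  obtain ⟨n, hn⟩ := Groth.Agent.H2.GorensteinGlobal.exists_nat_ringKrullDim_eq S
  have h1 := Groth.Agent.H81.CIGor.height_add_ringKrullDim_quotient_le I hI
  have h2 := Groth.Agent.H72.CMLocal.ringKrullDim_le_quotient_add_height S hCM I hI
  rw [hg, hd, hn] at h1 h2
  have hn' : d + g = n := by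
    have h1' : (g : WithBot ℕ∞) + (d : WithBot ℕ∞) ≤ (n : WithBot ℕ∞) := by exact_mod_cast h1
    have h2' : (n : WithBot ℕ∞) ≤ (d : WithBot ℕ∞) + (g : WithBot ℕ∞) := by exact_mod_cast h2
    have h3 : ((g + d : ℕ) : WithBot ℕ∞) ≤ ((n : ℕ) : WithBot ℕ∞) := by
      rw [Nat.cast_add]; exact h1'
    have h4 : ((n : ℕ) : WithBot ℕ∞) ≤ ((d + g : ℕ) : WithBot ℕ∞) := by
      rw [Nat.cast_add]; exact h2'
    have h5 : g + d ≤ n := by exact_mod_cast h3
    have h6 : n ≤ d + g := by exact_mod_cast h4
    omega
  obtain ⟨e⟩ := Groth.Agent.H2.GorDuality.nonempty_dual S n hn E f hf g d hn' (S ⧸ I)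
  exact ⟨(e ≪≫ₗ (LinearEquiv.congrLeft E S
    (Groth.Agent.H58.ExtCompare.extEquiv (R := S) (ModuleCat.of S (S ⧸ I)) (ModuleCat.of S S)
      g)).symm).symm⟩

end Groth.Agent.S17774
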