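import Groth.Statements.S17779
import Groth.Agent.H88.FwdDiffPow

set_option autoImplicit false
open DRR

namespace Groth.Agent.S17779

/-- For natural numbers n and k with k ≤ n + 1, the alternating sum over j = 0, …, n of (−1)^(n−j) C(n,
j) j^k (with the convention 0^0 = 1) equals n! · n(n+1)/2 when k = n + 1, equals n! when k = n, and
vanishes when k < n. (The published statement takes n ≥ 1 and divides through by n!; the case n = 0
holds as well and is included.) -/
theorem result (n k : ℕ) (hk : k ≤ n + 1) :
    (∑ j ∈ Finset.range (n + 1), (-1 : ℤ) ^ (n - j) * (n.choose j : ℤ) * (j : ℤ) ^ k) =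
      (if k = n + 1 then (((n + 1).choose 2 * n.factorial : ℕ) : ℤ)
        else if k = n then (n.factorial : ℤ) else 0) := by
  have key : ∀ f : ℤ → ℤ, (∑ j ∈ Finset.range (n + 1), (-1 : ℤ) ^ (n - j) * (n.choose j : ℤ) * f j) =
      (fwdDiff (1 : ℤ))^[n] f 0 := by
    intro f
    rw [fwdDiff_iter_eq_sum_shift]
    apply Finset.sum_congr rfl
    intro j _
    simp
  have := key (fun r => r ^ k)
  rw [this]
  rcases Nat.lt_or_ge k n with hlt | hge
  · rw [Groth.Agent.H88.fwdDiff_iter_pow_eq_zero_of_lt' (1 : ℤ) hlt]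
    have h1 : k ≠ n + 1 := by omega
    have h2 : k ≠ n := by omega
    simp [h1, h2]
  · rcases Nat.eq_or_lt_of_le hge with heq | hlt
    · subst heq
      rw [Groth.Agent.H88.fwdDiff_iter_pow_self (1 : ℤ) n]
      simp
    · have hk' : k = n + 1 := by omega
      subst hk'
      rw [Groth.Agent.H88.fwdDiff_iter_pow_succ (1 : ℤ) n]
      simp

end Groth.Agent.S17779
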