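import Groth.Statements.S17780
import Groth.Agent.H88.FwdDiffPow

set_option autoImplicit false
universe u
open DRR

namespace Groth.Agent.S17780

/-- For x, y in a commutative ring and a natural number n, (n+1)! · x · y^n equals the sum over j = 0,
…, n of (−1)^(n−j) C(n, j) (x + j y)^(n+1), minus (n · (n+1)!/2) · y^(n+1). (The published identity
is stated in ℚ[x, y] with an overall factor 1/(n+1) and the coefficients C(n, j)(−1)^(n−j)/n!; it is
given here multiplied through by (n+1)!, which makes it an identity with integer coefficients valid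
in every commutative ring; n · (n+1)!/2 is an integer.) -/
theorem result (A : Type u) [CommRing A] (x y : A) (n : ℕ) :
    ((n + 1).factorial : A) * x * y ^ n =
      (∑ j ∈ Finset.range (n + 1), (-1 : A) ^ (n - j) * (n.choose j : A) * (x + (j : A) * y) ^ (n + 1))
        - ((n * (n + 1).factorial / 2 : ℕ) : A) * y ^ (n + 1) := by
  have key : (∑ j ∈ Finset.range (n + 1), (-1 : A) ^ (n - j) * (n.choose j : A) *
      (x + (j : A) * y) ^ (n + 1)) = (fwdDiff y)^[n] (fun r => r ^ (n + 1)) x := by
    rw [fwdDiff_iter_eq_sum_shift]
    apply Finset.sum_congr rfl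
    intro j _
    simp [zsmul_eq_mul]
  rw [key, Groth.Agent.H88.fwdDiff_iter_pow_succ y n]
  have hc : n * (n + 1).factorial / 2 = (n + 1).choose 2 * n.factorial := by
    have h2 := Groth.Agent.H88.two_mul_choose_two n
    rw [Nat.factorial_succ]
    have : n * ((n + 1) * n.factorial) = 2 * ((n + 1).choose 2 * n.factorial) := by
      rw [← mul_assoc 2, h2]; ring
    rw [this, Nat.mul_div_cancel_left _ (by norm_num : 0 < 2)]
  rw [hc]
  ring

end Groth.Agent.S17780
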