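import Groth.Statements.S17781
import Groth.Agent.H88.ChooseGcd

set_option autoImplicit false
open Variety

namespace Groth.Agent.S17781

/-- Let d ≥ 1 and N ≥ 1 be integers and let I(d, N) be the greatest common divisor of the quotients d/δ
over the divisors δ of d with 1 ≤ δ ≤ N. Then I(d, N) equals the greatest common divisor of the
integers χ(d, n) = 1 − (−1)^n C(d − 1, n) for 1 ≤ n ≤ N (χ(d, n) is the Euler characteristic of O_H
for a degree-d hypersurface H in projective n-space). Both greatest common divisors are taken in ℤ,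
normalised to be non-negative. -/
theorem result (d N : ℕ) (hd : 1 ≤ d) (hN : 1 ≤ N) :
    (Finset.Icc 1 N).gcd (fun n => 1 - (-1 : ℤ) ^ n * ((d - 1).choose n : ℤ)) =
      ((Finset.Icc 1 N).filter (fun δ => δ ∣ d)).gcd (fun δ => ((d / δ : ℕ) : ℤ)) := by
  classical
  have hd0 : 0 < d := hd
  -- the Euler characteristic
  set χ : ℕ → ℤ := fun n => 1 - (-1 : ℤ) ^ n * ((d - 1).choose n : ℤ) with hχ
  have hχ0 : χ 0 = 0 := by simp [hχ]
  -- Pascal: (-1)^n C(d,n) = χ (n-1) - χ n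
  have hpascal : ∀ n : ℕ, (-1 : ℤ) ^ (n + 1) * (d.choose (n + 1) : ℤ) = χ n - χ (n + 1) := by
    intro n
    obtain ⟨d', rfl⟩ : ∃ c, d = c + 1 := ⟨d - 1, by omega⟩
    simp only [hχ, Nat.add_sub_cancel]
    rw [Nat.choose_succ_succ']
    push_cast
    ring
  -- (Z1)
  have hZ1 : ∀ z : ℤ, (∀ n, 1 ≤ n → n ≤ N → z ∣ (d.choose n : ℤ)) → ∀ n, n ≤ N → z ∣ χ n := by
    intro z hz n
    induction n with
    | zero => intro _; rw [hχ0]; exact dvd_zero z
    | succ n ih =>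
      intro hn
      have h1 := ih (by omega)
      have h2 := hz (n + 1) (by omega) hn
      have h3 : χ (n + 1) = χ n - (-1 : ℤ) ^ (n + 1) * (d.choose (n + 1) : ℤ) := by
        rw [hpascal]; ring
      rw [h3]
      exact dvd_sub h1 (Dvd.dvd.mul_left h2 _)
  -- (Z2)
  have hZ2 : ∀ z : ℤ, (∀ n, 1 ≤ n → n ≤ N → z ∣ χ n) → ∀ n, 1 ≤ n → n ≤ N →
      z ∣ (d.choose n : ℤ) := by
    intro z hz n hn1 hnN
    obtain ⟨n', rfl⟩ : ∃ c, n = c + 1 := ⟨n - 1, by omega⟩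
    have h1 : z ∣ χ n' := by
      rcases Nat.eq_zero_or_pos n' with h | h
      · rw [h, hχ0]; exact dvd_zero z
      · exact hz n' h (by omega)
    have h2 : z ∣ χ (n' + 1) := hz (n' + 1) hn1 hnN
    have h3 : z ∣ (-1 : ℤ) ^ (n' + 1) * (d.choose (n' + 1) : ℤ) := by
      rw [hpascal]; exact dvd_sub h1 h2
    have h4 : (d.choose (n' + 1) : ℤ)
        = (-1 : ℤ) ^ (n' + 1) * ((-1 : ℤ) ^ (n' + 1) * (d.choose (n' + 1) : ℤ)) := by
      rw [← mul_assoc, ← mul_pow]; simp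
    rw [h4]
    exact Dvd.dvd.mul_left h3 _
  apply dvd_antisymm_of_normalize_eq (Finset.normalize_gcd) (Finset.normalize_gcd)
  · -- A ∣ Cg
    rw [Finset.dvd_gcd_iff]
    intro δ hδ
    rw [Finset.mem_filter, Finset.mem_Icc] at hδ
    obtain ⟨⟨hδ1, hδN⟩, hδd⟩ := hδ
    set A := (Finset.Icc 1 N).gcd χ with hA
    have hAχ : ∀ n, 1 ≤ n → n ≤ N → A ∣ χ n := fun n h1 h2 =>
      Finset.gcd_dvd (Finset.mem_Icc.mpr ⟨h1, h2⟩)
    have hAc := hZ2 A hAχ
    have hb : ∀ n, 1 ≤ n → n ≤ N → A.natAbs ∣ d.choose n := by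
      intro n h1 h2
      have := hAc n h1 h2
      exact Int.natAbs_dvd_natAbs.mpr this
    have := Groth.Agent.H88.dvd_div_of_dvd_choose d N A.natAbs hd0 hb δ hδd hδ1 hδN
    exact Int.natAbs_dvd.mp (Int.natCast_dvd_natCast.mpr this)
  · -- Cg ∣ A
    rw [Finset.dvd_gcd_iff]
    intro n hn
    rw [Finset.mem_Icc] at hn
    set Cg := ((Finset.Icc 1 N).filter (fun δ => δ ∣ d)).gcd (fun δ => ((d / δ : ℕ) : ℤ)) with hCg
    refine hZ1 Cg ?_ n hn.2
    intro k hk1 hkN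
    have hg1 : 1 ≤ Nat.gcd d k := Nat.gcd_pos_of_pos_left _ hd0
    have hgk : Nat.gcd d k ≤ k := Nat.gcd_le_right _ (by omega)
    have hmem : Nat.gcd d k ∈ (Finset.Icc 1 N).filter (fun δ => δ ∣ d) := by
      rw [Finset.mem_filter, Finset.mem_Icc]
      exact ⟨⟨hg1, hgk.trans hkN⟩, Nat.gcd_dvd_left _ _⟩
    have h1 : Cg ∣ ((d / Nat.gcd d k : ℕ) : ℤ) := Finset.gcd_dvd hmem
    have h2 := Groth.Agent.H88.div_gcd_dvd_choose d k hd0 (by omega)
    exact h1.trans (Int.natCast_dvd_natCast.mpr h2)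

end Groth.Agent.S17781
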