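import Groth.Statements.S1779
import Groth.Agent.H26.FlatBCDual4
import Groth.Agent.H26.AdicComplMax
import Groth.Agent.H20.ComplNoeth2

set_option autoImplicit false
universe u
open CategoryTheory
attribute [local instance] HasDerivedCategory.standard
open Dual

namespace Groth.Agent.S1779

/-- Let A be a Noetherian ring, I an ideal and ω a dualizing complex for A. Assuming the derived base
change functor to the I-adic completion exists, the base change of ω is a dualizing complex for the
I-adic completion of A. -/
theorem result (A : Type u) [CommRing A] [IsNoetherianRing A] (I : Ideal A) [DRing.HasLBaseChange (algebraMap A (AdicCompletion I A))] (ω : Dual.D A) (hω : Dual.IsDualizing A ω) : Dual.IsDualizing (AdicCompletion I A) ((DRing.LBaseChange (algebraMap A (AdicCompletion I A))).obj ω) := by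
  haveI : IsNoetherianRing (AdicCompletion I A) :=
    Groth.Agent.H20.isNoetherianRing_adicCompletion I
  have e := (Groth.Agent.H26.FlatBCDual.lbcIso (A := A) (B := AdicCompletion I A)).app ω
  refine Groth.Agent.H26.FlatBCDual.isDualizing_of_iso e.symm
    (Groth.Agent.H26.FlatBCDual.isDualizing_LB_of_jacobson I ?_
      (Groth.Agent.H26.AdicComplMax.map_le_jacobson I) ω hω)
  intro x
  obtain ⟨a, ha⟩ := Groth.Agent.H26.AdicComplMax.exists_sub_mem_map_pow I I le_rfl 1 x
  rw [pow_one] at ha
  exact ⟨a, ha⟩

end Groth.Agent.S1779
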