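import Groth.Statements.S17794
import Groth.Agent.H40.QuotShDesc
import Groth.Agent.H40.FpqcTors
import Groth.Agent.H40.GrpTranslate
import Groth.Agent.H50.LfpCancel
set_option backward.isDefEq.respectTransparency.types false

set_option autoImplicit false
universe u
open CategoryTheory CategoryTheory.Limits MonoidalCategory CartesianMonoidalCategory MonObj GrpObj AlgebraicGeometry
open GrpSch

namespace Groth.Agent.S17794

/-- Let S be a scheme and f : G → H a homomorphism of S-group schemes, both of finite presentation over
S (locally of finite presentation, quasi-compact and quasi-separated), and let i : N → G be the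
kernel of f (the square formed by i, f, the unit section of H and N → S is cartesian). Then f is
faithfully flat (flat and surjective) if and only if the map of representable sheaves h_G → h_H
induced by f on the big fppf site of S is an epimorphism of sheaves of sets and N is flat over S. -/
theorem result {S : Scheme.{u}} {G H N : Over S} [GrpObj G] [GrpObj H] (f : G ⟶ H) [IsMonHom f] [LocallyOfFinitePresentation G.hom] [QuasiCompact G.hom] [QuasiSeparated G.hom] [LocallyOfFinitePresentation H.hom] [QuasiCompact H.hom] [QuasiSeparated H.hom] (i : N ⟶ G) (hi : AlgGrp.IsKernel i f) : (Flat f.left ∧ Surjective f.left) ↔ (Epi (QuotSh.repMap Scheme.fppfPrecoverage f) ∧ Flat N.hom) := by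
  have hHasIsos : (Scheme.fppfPrecoverage.{u}).HasIsos := by
    unfold Scheme.fppfPrecoverage
    have : (@Flat ⊓ @LocallyOfFinitePresentation : MorphismProperty Scheme.{u}).ContainsIdentities :=
      ⟨fun X => ⟨inferInstance, inferInstance⟩⟩
    infer_instance
  have hlfp : LocallyOfFinitePresentation f.left := by
    refine Groth.Agent.H50.locallyOfFinitePresentation_of_comp f.left H.hom ?_ inferInstance
    rw [Over.w f]
    infer_instance
  constructor
  · rintro ⟨hf, hs⟩
    refine ⟨?_, ?_⟩
    · exact (Groth.Agent.H40.QuotShLoc.epi_repMap_iff _ f).2 (fun T y =>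
        Groth.Agent.H40.QuotShLoc.liftSieve_mem_of_cover _ f
          (fun g => Scheme.Hom.singleton_mem_fppfPrecoverage _) y)
    · have hpb : IsPullback i.left (toUnit N).left f.left (η[H] : 𝟙_ (Over S) ⟶ H).left :=
        hi.map (Over.forget S)
      exact MorphismProperty.of_isPullback (P := @Flat) hpb hf
  · rintro ⟨hepi, hN⟩
    have hlift := (Groth.Agent.H40.QuotShLoc.epi_repMap_iff _ f).1 hepi H (𝟙 H)
    obtain ⟨Rc, hRc, hsec⟩ := Groth.Agent.H40.QuotShLoc.exists_presieve_of_liftSieve_mem
      Scheme.fppfPrecoverage f hlift
    have hRc' : Rc ∈ Scheme.fpqcPrecoverage H.left := Scheme.fppfPrecoverage_le_fpqcPrecoverage _ hRc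
    refine ⟨?_, ?_⟩
    · refine Groth.Agent.H40.prop_of_fpqcPresieve @Flat Groth.Agent.H40.flat_descendsAlong f.left
        hRc' (fun Z g hg => ?_)
      obtain ⟨a, rfl⟩ := hsec g hg
      let Z' : Over S := Over.mk (a ≫ G.hom)
      let a' : Z' ⟶ G := Over.homMk a rfl
      have hpb : IsPullback ((fst N Z' ≫ i) * (snd N Z' ≫ a')).left (snd N Z').left f.left
          (a' ≫ f).left :=
        (Groth.Agent.H40.isPullback_translate f i hi a').map (Over.forget S)
      have h3 : Flat (snd N Z').left := by
        change Flat (pullback.snd N.hom Z'.hom)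
        infer_instance
      have e : hpb.isoPullback.hom ≫ pullback.snd f.left (a ≫ f.left) = (snd N Z').left :=
        hpb.isoPullback_hom_snd
      rw [← e] at h3
      exact (MorphismProperty.cancel_left_of_respectsIso @Flat _ _).1 h3
    · refine Groth.Agent.H40.prop_of_fpqcPresieve @Surjective inferInstance f.left
        hRc' (fun Z g hg => ?_)
      obtain ⟨a, rfl⟩ := hsec g hg
      have hσ : pullback.lift a (𝟙 Z) (by simp) ≫ pullback.snd f.left (a ≫ f.left) = 𝟙 Z :=
        pullback.lift_snd _ _ _
      refine ⟨fun z => ⟨pullback.lift a (𝟙 Z) (by simp) z, ?_⟩⟩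
      rw [← Scheme.Hom.comp_apply, hσ]
      rfl

end Groth.Agent.S17794
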