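import Mathlib
import Groth.Statements.S17803
import Groth.Agent.H72.ComplSurj
import Groth.Agent.H72.ExcellentLoc
import Groth.Agent.H72.HensGRing
import Groth.Agent.H72.HensGeomCat2
import Groth.Agent.H26.AdicComplRegular
import Groth.Agent.H26.NormalFlat
import Groth.Agent.H29.RegCompl
import Groth.Agent.H47.SmoothFibres
-- import your own Groth.Agent.* helpers here

set_option autoImplicit false
universe u
open EGA4

namespace Groth.Agent.S17803

open TensorProduct

/-- Let A be an excellent normal domain which is a quotient of a regular ring, I an ideal of A and f ∈
A. Then the I-adic completion of the localization A_f is a normal ring (its localization at every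
prime ideal is an integrally closed domain), and it is a quotient of a regular ring. -/
theorem result (A : Type u) [CommRing A] [IsDomain A] [IsIntegrallyClosed A] (hexc : EGA4.IsExcellent A) (hreg : ∃ (R : Type u) (_ : CommRing R) (_ : IsRegularRing R) (φ : R →+* A), Function.Surjective φ) (I : Ideal A) (f : A) : EGA4.IsNormalRing (AdicCompletion (I.map (algebraMap A (Localization.Away f))) (Localization.Away f)) ∧ ∃ (R' : Type u) (_ : CommRing R') (_ : IsRegularRing R') (ψ : R' →+* AdicCompletion (I.map (algebraMap A (Localization.Away f))) (Localization.Away f)), Function.Surjective ψ := by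
  obtain ⟨hN, -, hG, -⟩ := hexc
  haveI := hN
  haveI hNB : IsNoetherianRing (Localization.Away f) :=
    IsLocalization.isNoetherianRing (Submonoid.powers f) _ hN
  have hGB : CAlg.IsGRing (Localization.Away f) :=
    Groth.Agent.H72.ExcellentLoc.isGRing_of_isLocalization (Submonoid.powers f) hG
  have hregB := Groth.Agent.H26.AdicComplFibres.isRegularHom_adicCompletion hGB
    (I.map (algebraMap A (Localization.Away f)))
  haveI hNC : IsNoetherianRing (AdicCompletion (I.map (algebraMap A (Localization.Away f)))
      (Localization.Away f)) := Groth.Agent.H20.isNoetherianRing_adicCompletion _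
  constructor
  · haveI : Module.Flat (Localization.Away f) (AdicCompletion (I.map (algebraMap A
        (Localization.Away f))) (Localization.Away f)) := hregB.1
    have hnormA : EGA4.IsNormalRing A :=
      Groth.Agent.H72.HensGeomInt.isNormalRing_of_isIntegrallyClosed A
    have hnormB : EGA4.IsNormalRing (Localization.Away f) :=
      Groth.Agent.H72.HensGeomInt.isNormalRing_of_isLocalization A _ (Submonoid.powers f) hnormA
    refine Groth.Agent.H26.NormalFlat.isNormalRing_of_flat_of_fibres _ _ hnormB (fun p hp => ?_)
    have h1 := (hregB.2 p).2 p.ResidueField inferInstance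
    have h2 : IsRegularRing (p.Fiber (AdicCompletion (I.map (algebraMap A (Localization.Away f)))
        (Localization.Away f))) :=
      @IsRegularRing.of_ringEquiv _ _ _ _
        (Algebra.TensorProduct.lid p.ResidueField (p.Fiber (AdicCompletion (I.map (algebraMap A
          (Localization.Away f))) (Localization.Away f)))).toRingEquiv h1
    exact Groth.Agent.H47.SF.isNormalRing_of_isRegularRing _
  · obtain ⟨R, _, hRreg, φ, hφ⟩ := hreg
    obtain ⟨g, rfl⟩ := hφ f
    haveI : IsRegularRing (Localization.Away g) :=
      Groth.Agent.H72.HensGRing.isRegularRing_of_isLocalization R _ (Submonoid.powers g) hRreg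
    let π : Localization.Away g →+* Localization.Away (φ g) :=
      IsLocalization.Away.map (Localization.Away g) (Localization.Away (φ g)) φ g
    have hπ : Function.Surjective π := by
      rw [IsLocalization.Away.map_surjective_iff]
      intro a
      obtain ⟨b, hb⟩ := hφ a
      exact ⟨b, 0, by rw [hb, pow_zero, one_mul]⟩
    refine ⟨AdicCompletion ((I.map (algebraMap A (Localization.Away (φ g)))).comap π)
      (Localization.Away g), inferInstance,
      Groth.Agent.H29.RegCompl.isRegularRing_adicCompletion _ _,
      Groth.Agent.H72.ComplSurj.complMap π _,
      Groth.Agent.H72.ComplSurj.complMap_surjective π _ hπ⟩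

end Groth.Agent.S17803
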