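import Groth.Statements.S17825
import Mathlib
import Groth.Agent.H89.YonedaRetract

set_option autoImplicit false
universe u
open CategoryTheory CategoryTheory.Limits AlgebraicGeometry
open JacVar

namespace Groth.Agent.S17825

/-- Let S be a scheme, Y an S-scheme separated over S, F a presheaf of sets on the category of
S-schemes, f : h_Y ⟶ F a morphism from the functor of points of Y, and s : F ⟶ h_Y a section of f (s
followed by f is the identity). Then F is represented by a closed subscheme of Y: there are an
S-scheme Z, a morphism i : Z ⟶ Y over S which is a closed immersion, and an isomorphism F ≅ h_Z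
whose composite with h_i : h_Z ⟶ h_Y is s. (The published lemma treats the case where Y is the r-th
symmetric power of a curve, F the functor of degree-r invertible families modulo twisting and f the
divisor-class map.) -/
theorem result {S : Scheme.{u}} (Y : Over S) [IsSeparated Y.hom]
    (F : (Over S)ᵒᵖ ⥤ Type u) (f : yoneda.obj Y ⟶ F) (s : F ⟶ yoneda.obj Y) (hsf : s ≫ f = 𝟙 F) :
    ∃ (Z : Over S) (i : Z ⟶ Y), IsClosedImmersion i.left ∧
      ∃ e : F ≅ yoneda.obj Z, e.hom ≫ yoneda.map i = s := by
  let π : Y ⟶ Y := Yoneda.fullyFaithful.preimage (f ≫ s)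
  have hπ : yoneda.map π = f ≫ s := Yoneda.fullyFaithful.map_preimage (f ≫ s)
  obtain ⟨e, he⟩ := Groth.Agent.H89.exists_iso_yoneda_equalizer_of_retract Y F f s hsf π hπ
  exact ⟨equalizer (𝟙 Y) π, equalizer.ι (𝟙 Y) π, inferInstance, e, he⟩

end Groth.Agent.S17825
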