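import Groth.Statements.S1783
import Groth.Agent.H26.FlatBCDual3
import Groth.Agent.H28.RestrAdj
import Groth.Agent.H2.DualCx.LocalCM
import Groth.Agent.H45.Derived.TExact

set_option autoImplicit false
universe u
open CategoryTheory
attribute [local instance] HasDerivedCategory.standard
open Dual2

namespace Groth.Agent.S1783

/-- Let R → A be a ring map of finite type between Noetherian rings, where φ^!(K) is formed from a
presentation ψ : R[x_1, …, x_n] → A as RHom_P(A, K ⊗^L_R P)[n], assuming the derived base change to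
P exists and taking for RHom_P(A, −) a right adjoint of restriction of scalars along ψ. If K in D(R)
has vanishing cohomology below some degree, then so does φ^!(K); if moreover all cohomology modules
of K are finite R-modules, then all cohomology modules of φ^!(K) are finite A-modules. -/
theorem result (R A : Type u) [CommRing R] [CommRing A] [IsNoetherianRing R] [IsNoetherianRing A] [Algebra R A] (n : ℕ) (ψ : MvPolynomial (Fin n) R →ₐ[R] A) (hψ : Function.Surjective ψ) [DRing.HasLBaseChange (algebraMap R (MvPolynomial (Fin n) R))] (Rψ : Dual.D (MvPolynomial (Fin n) R) ⥤ Dual.D A) (adj : DRing.restrictD ψ.toRingHom ⊣ Rψ) (K : Dual.D R) (a : ℤ) (hKa : ∀ i : ℤ, i < a → Subsingleton (Dual.HD R K i)) : (∃ b : ℤ, ∀ i : ℤ, i < b → Subsingleton (Dual.HD A (Dual2.shriekVia n Rψ K) i)) ∧ ((∀ i : ℤ, Module.Finite R (Dual.HD R K i)) → ∀ i : ℤ, Module.Finite A (Dual.HD A (Dual2.shriekVia n Rψ K) i)) := by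
  have e := (Groth.Agent.H26.FlatBCDual.lbcIso (A := R) (B := MvPolynomial (Fin n) R)).app K
  have hGE : K.IsGE a := Groth.Agent.H26.FlatBCDual.isGE_of_vanishing K a hKa
  have hGE0 : ((Groth.Agent.H26.FlatBCHom.LB R (MvPolynomial (Fin n) R)).obj K).IsGE a :=
    Groth.Agent.H26.FlatBCDual.isGE_LB K a hGE
  have hGE' : ((DRing.LBaseChange (algebraMap R (MvPolynomial (Fin n) R))).obj K).IsGE a :=
    DerivedCategory.TStructure.t.isGE_of_iso e.symm a
  have hLT : Groth.Agent.H45.LeftTExact Rψ :=
    Groth.Agent.H45.leftTExact_of_adjunction adj (fun X m hX =>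
      Groth.Agent.H45.isLE_mapDerivedCategory_obj
        (ModuleCat.restrictScalars.{u} ψ.toRingHom) X m hX)
  haveI hGE'' : (Rψ.obj ((DRing.LBaseChange (algebraMap R (MvPolynomial (Fin n) R))).obj K)).IsGE a :=
    hLT _ a hGE'
  constructor
  · refine ⟨a - n, fun i hi => ?_⟩
    haveI : (Dual2.shriekVia n Rψ K).IsGE (a - n) :=
      Groth.Agent.H28.ExtFinite.isGE_shift' _ a n
    exact ModuleCat.subsingleton_of_isZero
      ((DerivedCategory.isGE_iff (Dual2.shriekVia n Rψ K) (a - n)).mp inferInstance i hi)
  · intro hfin i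
    have hfin' : ∀ i : ℤ, Module.Finite (MvPolynomial (Fin n) R)
        (Dual.HD (MvPolynomial (Fin n) R)
          ((DRing.LBaseChange (algebraMap R (MvPolynomial (Fin n) R))).obj K) i) := by
      intro i
      haveI := Groth.Agent.H26.FlatBCDual.finite_HD_LB (B := MvPolynomial (Fin n) R) K i (hfin i)
      exact Module.Finite.equiv
        ((DerivedCategory.homologyFunctor (ModuleCat.{u} (MvPolynomial (Fin n) R)) i).mapIso
          e.symm).toLinearEquiv
    letI : Algebra (MvPolynomial (Fin n) R) A := ψ.toRingHom.toAlgebra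
    haveI : Module.Finite (MvPolynomial (Fin n) R) A :=
      Module.Finite.of_surjective (Algebra.linearMap (MvPolynomial (Fin n) R) A) hψ
    haveI := hGE'
    haveI := Groth.Agent.H28.RestrAdj.finite_HD_rightAdjoint Rψ adj
      ((DRing.LBaseChange (algebraMap R (MvPolynomial (Fin n) R))).obj K) a hfin' ((n : ℤ) + i)
    exact Module.Finite.equiv (Groth.Agent.H2.DualCx.HDShiftEquiv _ (n : ℤ) i).symm

end Groth.Agent.S1783
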