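import Groth.Statements.S17833
import Groth.Agent.H42.QuotDesc
import Groth.Agent.H42.QuotConst
import Groth.Agent.H53.ReducedSm
import Groth.Agent.S0348

set_option autoImplicit false
universe u
open CategoryTheory MonoidalCategory CartesianMonoidalCategory MonObj GrpObj AlgebraicGeometry
open AlgGrp

namespace Groth.Agent.S17833

/-- Over an algebraically closed field k, let G be a connected smooth k-group scheme of finite type (in
the terminology of the notes, a smooth connected algebraic group), and H an affine normal subgroup
scheme of G such that the quotient G/H is an abelian variety: here j : H → G is the kernel of a flat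
surjective homomorphism q : G → Q of k-group schemes with Q proper over k, and H is affine. Then an
automorphism u of the algebraic group G which fixes H pointwise (j ∘ u = j) and induces the identity
of Q (q ∘ u = q) is the identity. Equivalently, the map from the group of automorphisms of G fixing
H pointwise to the automorphism group of G/H is injective. -/
theorem result (k : Type u) [Field k] [IsAlgClosed k]
    (G H Q : Over (Spec (CommRingCat.of k))) [GrpObj G] [GrpObj H] [GrpObj Q]
    [Smooth G.hom] [QuasiCompact G.hom] [ConnectedSpace ↥G.left]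
    [IsAffine H.left] [IsProper Q.hom]
    (j : H ⟶ G) [IsMonHom j] (q : G ⟶ Q) [IsMonHom q] [Flat q.left] [Surjective q.left]
    (hker : AlgGrp.IsKernel j q)
    (u : G ≅ G) [IsMonHom u.hom] (hH : j ≫ u.hom = j) (hQ : u.hom ≫ q = q) :
    u.hom = 𝟙 G := by
  haveI : IsIntegral G.left := by
    haveI : IsReduced G.left := Groth.Agent.H53.isReduced_of_smooth_scheme G.hom
    haveI : IrreducibleSpace G.left := Groth.Agent.S0348.result k G
    exact isIntegral_of_irreducibleSpace_of_isReduced G.left
  haveI : QuasiCompact q.left := by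
    haveI : QuasiCompact (q.left ≫ Q.hom) := by rw [Over.w q]; infer_instance
    exact QuasiCompact.of_comp q.left Q.hom
  haveI : Mono j := Groth.Agent.H42.QuotDesc.mono_of_isKernel j q hker
  set φ : G ⟶ G := u.hom * (𝟙 G)⁻¹ with hφ
  have hφq : φ ≫ q = toUnit G ≫ η[Q] := by
    rw [hφ, MonObj.mul_comp, GrpObj.inv_comp, hQ, Category.id_comp, mul_inv_cancel, Hom.one_def]
  have hψ₀ : hker.lift φ (toUnit G) hφq ≫ j = φ := hker.lift_fst _ _ _
  have hinv : ∀ (T : Over (Spec (CommRingCat.of k))) (g : T ⟶ G) (n : T ⟶ H),
      (g * (n ≫ j)) ≫ hker.lift φ (toUnit G) hφq = g ≫ hker.lift φ (toUnit G) hφq := by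
    intro T g n
    rw [← cancel_mono j, Category.assoc, Category.assoc, hψ₀, hφ]
    rw [MonObj.comp_mul, MonObj.comp_mul, GrpObj.comp_inv, GrpObj.comp_inv, Category.comp_id,
      Category.comp_id, MonObj.mul_comp, Category.assoc, hH]
    group
  obtain ⟨ψ, hψ, -⟩ := Groth.Agent.H42.QuotDesc.existsUnique_desc j q hker
    (hker.lift φ (toUnit G) hφq) hinv
  have hconst := Groth.Agent.H42.QuotConst.const_of_factor_proper k G Q H q ψ η[G]
  rw [hψ] at hconst
  have h1 : φ = toUnit G ≫ η[G] ≫ φ := by
    conv_lhs => rw [← hψ₀, hconst]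
    simp only [Category.assoc, hψ₀]
  have h2 : η[G] ≫ φ = η[G] := by
    rw [hφ, MonObj.comp_mul, GrpObj.comp_inv, Category.comp_id, IsMonHom.one_hom, mul_inv_cancel,
      Hom.one_def, toUnit_unique (toUnit (𝟙_ (Over (Spec (CommRingCat.of k))))) (𝟙 _),
      Category.id_comp]
  have h3 : φ = 1 := by rw [h1, h2, Hom.one_def]
  exact mul_inv_eq_one.mp h3

end Groth.Agent.S17833
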