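import Groth.Statements.S17840
import Groth.Agent.H79.CycIrr

set_option autoImplicit false
universe u
open CategoryTheory AlgebraicGeometry
open Cyc

namespace Groth.Agent.S17840

/-- Let (Y, δY) be a locally Noetherian scheme with universally catenary local rings and a dimension
function, f : X ⟶ Y a flat morphism locally of finite type between irreducible schemes with generic
points ξ and η, and δX the induced function on X, δX(x) = δY(f x) + trdeg_{κ(f x)} κ(x). Put d =
δX(ξ) − δY(η). Then d ≥ 0, every irreducible component of every fibre of f has dimension d, and for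
every point x of X the fibre of f over f(x) has dimension d. (The published statement is for schemes
separated of finite type over a Noetherian excellent regular separated base S with δ the S-dimension
— transcendence degree of the residue field minus the dimension of the local ring of S at the image
point — and for the fibre over every point of Y; the fibre over a point outside f(X) is empty, so
the dimension statement is made here at points of the image; this row allows any dimension function
δY on a locally Noetherian Y with universally catenary local rings, with δX induced from it.) -/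
theorem result {X Y : Scheme.{u}} (f : X ⟶ Y) [Flat f] [LocallyOfFiniteType f]
    [IrreducibleSpace X] [IrreducibleSpace Y] (δX : X → ℤ) (δY : Y → ℤ) (hY : Cyc.IsSetup Y δY)
    (hδ : Cyc.DeltaCompat f δX δY) :
    0 ≤ δX (genericPoint X) - δY (genericPoint Y) ∧
      Cyc.HasRelDim f (δX (genericPoint X) - δY (genericPoint Y)).toNat ∧
      ∀ x : X, topologicalKrullDim ↥(f.fiber (f x)) =
        ((δX (genericPoint X) - δY (genericPoint Y)).toNat : WithBot ℕ∞) := by
  have hδX := Groth.Agent.H48.DimFunSch.isDimFun_of_deltaCompat f δY hY δX hδ
  have hgen := Groth.Agent.H79.CycIrr.map_genericPoint f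
  have h0 : 0 ≤ δX (genericPoint X) - δY (genericPoint Y) := by
    obtain ⟨n, -, hn⟩ := hδ (genericPoint X)
    rw [hgen] at hn
    omega
  have hrel : Cyc.HasRelDim f (δX (genericPoint X) - δY (genericPoint Y)).toNat := by
    intro y T hT
    obtain ⟨t, ht⟩ := QuasiSober.sober hT.1 (isClosed_of_mem_irreducibleComponents T hT)
    have hTt : T = closure {t} := ht.def.symm
    have htmax : ∀ t' : f.fiber y, t' ⤳ t → t' = t := by
      intro t' ht'
      have h1 : T ≤ closure {t'} := by
        rw [hTt]
        exact closure_minimal (Set.singleton_subset_iff.mpr (specializes_iff_mem_closure.mp ht'))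
          isClosed_closure
      have h2 := hT.2 (isIrreducible_singleton.closure) h1
      have h3 : t' ∈ closure ({t} : Set (f.fiber y)) := by
        rw [← hTt]
        exact h2 (subset_closure rfl)
      exact (ht'.antisymm (specializes_iff_mem_closure.mpr h3)).eq
    have hxy : f (f.fiberι y t) = y := Groth.Agent.H48.CycFib.map_fiberι f y t
    have hxmax : ∀ x' : X, x' ⤳ f.fiberι y t → f x' = f (f.fiberι y t) → x' = f.fiberι y t := by
      intro x' hx' hx'y
      rw [hxy] at hx'y
      have hx'r : x' ∈ Set.range (f.fiberι y) := by
        rw [Scheme.Hom.range_fiberι]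
        exact hx'y
      obtain ⟨t', rfl⟩ := hx'r
      rw [htmax t' ((Groth.Agent.H48.CycFib.fiberι_specializes_iff f y t' t).mp hx')]
    have h1 := Groth.Agent.H79.CycIrr.delta_sub_eq_of_fibre_generic f δX δY hY hδ _ hxmax
    rw [hxy] at h1
    rw [hTt, Groth.Agent.H79.CycComp.topologicalKrullDim_closure_fiber f δX δY hδX hδ y t, h1]
    rfl
  refine ⟨h0, hrel, fun x => le_antisymm ?_ ?_⟩
  · exact Groth.Agent.H17.Chev.topologicalKrullDim_le_of_forall_irreducibleComponents _
      (fun Z hZ => (hrel (f x) Z hZ).le)
  · obtain ⟨Z, hZ, -⟩ := exists_mem_irreducibleComponents_subset_of_isIrreducible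
      ({f.asFiber x} : Set (f.fiber (f x))) isIrreducible_singleton
    rw [← hrel (f x) Z hZ]
    exact topologicalKrullDim_subspace_le _ Z

end Groth.Agent.S17840
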