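import Groth.Statements.S17843
import Groth.Agent.H89.PolyScale

set_option autoImplicit false
universe u v
open CAlg

namespace Groth.Agent.S17843

open Polynomial in
/-- In the case of an affine scheme of finite presentation, let B be a finitely presented R-algebra, r ∈
R, and x : B → R[1/r][T] an R-algebra homomorphism whose value at T = 0, a homomorphism B → R[1/r],
is induced by a homomorphism x̃₀ : B → R. Then for every large enough n, the homomorphism x(rⁿT) : B
→ R[1/r][T] is induced by a homomorphism x̃ : B → R[T] whose value at T = 0 is x̃₀. The published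
statement is for algebraic spaces locally of finite presentation over R; this row takes an affine
scheme of finite presentation. -/
theorem result
    (R : Type u) (B : Type v) [CommRing R] [CommRing B] [Algebra R B]
    [Algebra.FinitePresentation R B] (r : R)
    (x : B →ₐ[R] Polynomial (Localization.Away r))
    (x₀ : B →ₐ[R] R)
    (hx₀ : (algebraMap R (Localization.Away r)).comp x₀.toRingHom =
      (Polynomial.evalRingHom 0).comp x.toRingHom) :
    ∃ N : ℕ, ∀ n : ℕ, N ≤ n →
      ∃ y : B →ₐ[R] Polynomial R,
        (Polynomial.evalRingHom 0).comp y.toRingHom = x₀.toRingHom ∧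
        (Polynomial.mapRingHom (algebraMap R (Localization.Away r))).comp y.toRingHom =
          (Polynomial.aeval (Polynomial.C (algebraMap R (Localization.Away r) (r ^ n)) * Polynomial.X) :
              Polynomial (Localization.Away r) →ₐ[Localization.Away r] Polynomial (Localization.Away r)).toRingHom.comp
            x.toRingHom := by
  classical
  obtain ⟨k, π, hπ, hker⟩ := Algebra.FinitePresentation.out (R := R) (A := B)
  -- lifts of the images of the generators
  have hA : ∀ j : Fin k, ∃ E : ℕ, ∀ n, E ≤ n → ∃ q : R[X], q.coeff 0 = x₀ (π (MvPolynomial.X j)) ∧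
      Polynomial.map (algebraMap R (Localization.Away r)) q =
        (x (π (MvPolynomial.X j))).comp (C (algebraMap R (Localization.Away r) (r ^ n)) * X) := by
    intro j
    apply Groth.Agent.H89.exists_lift_scale
    have := congrArg (fun φ => φ (π (MvPolynomial.X j))) hx₀
    simp only [RingHom.coe_comp, Function.comp_apply, AlgHom.toRingHom_eq_coe, RingHom.coe_coe,
      coe_evalRingHom] at this
    rw [Polynomial.coeff_zero_eq_eval_zero]
    exact this.symm
  choose Ej hEj using hA
  let E := Finset.univ.sup Ej
  have hE : ∀ j, Ej j ≤ E := fun j => Finset.le_sup (Finset.mem_univ j)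
  choose q hq0 hqmap using fun j => hEj j E (hE j)
  let ytil : MvPolynomial (Fin k) R →ₐ[R] R[X] := MvPolynomial.aeval q
  have hytilX : ∀ j, ytil (MvPolynomial.X j) = q j := fun j => MvPolynomial.aeval_X q j
  let scR : ℕ → R[X] →ₐ[R] R[X] := fun t => Polynomial.aeval (C (r ^ t) * X)
  let scL : ℕ → (Localization.Away r)[X] →ₐ[R] (Localization.Away r)[X] := fun t =>
    (Polynomial.aeval (C (algebraMap R (Localization.Away r) (r ^ t)) * X) :
      (Localization.Away r)[X] →ₐ[Localization.Away r] (Localization.Away r)[X]).restrictScalars R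
  let mapι : R[X] →ₐ[R] (Localization.Away r)[X] := Polynomial.mapAlg R (Localization.Away r)
  have hmapι : ∀ p : R[X], mapι p = Polynomial.map (algebraMap R (Localization.Away r)) p := by
    intro p
    simp [mapι, Polynomial.mapAlg_eq_map]
  have hscR : ∀ t (p : R[X]), scR t p = p.comp (C (r ^ t) * X) := fun t p => rfl
  have hscL : ∀ t (p : (Localization.Away r)[X]), scL t p =
      p.comp (C (algebraMap R (Localization.Away r) (r ^ t)) * X) := fun t p => rfl
  have h1 : mapι.comp ytil = (scL E).comp (x.comp π) := by
    apply MvPolynomial.algHom_ext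
    intro j
    simp only [AlgHom.comp_apply, hytilX, hmapι, hscL, hqmap j]
  obtain ⟨s, hs⟩ := hker
  have hsker : ∀ g ∈ s, π g = 0 := by
    intro g hg
    have : g ∈ RingHom.ker π.toRingHom := hs ▸ Ideal.subset_span hg
    exact this
  have h2 : ∀ g ∈ s, ∃ N : ℕ, ∀ d, r ^ N * (ytil g).coeff d = 0 := by
    intro g hg
    have h3 : Polynomial.map (algebraMap R (Localization.Away r)) (ytil g) = 0 := by
      have := congrArg (fun φ => φ g) h1
      simp only [AlgHom.comp_apply, hsker g hg, map_zero, hmapι] at this
      exact this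
    have h4 : ∀ d, ∃ N : ℕ, r ^ N * (ytil g).coeff d = 0 := by
      intro d
      have h5 : algebraMap R (Localization.Away r) ((ytil g).coeff d) = 0 := by
        have := congrArg (fun p => p.coeff d) h3
        simpa using this
      obtain ⟨⟨_, N, rfl⟩, hN⟩ :=
        (IsLocalization.map_eq_zero_iff (Submonoid.powers r) (Localization.Away r) _).mp h5
      exact ⟨N, hN⟩
    choose Nd hNd using h4
    refine ⟨(ytil g).support.sup Nd, fun d => ?_⟩
    by_cases hd : d ∈ (ytil g).support
    · have hle := Finset.le_sup (f := Nd) hd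
      obtain ⟨c, hc⟩ := Nat.exists_eq_add_of_le hle
      rw [hc, pow_add, mul_comm (r ^ Nd d), mul_assoc, hNd, mul_zero]
    · rw [Polynomial.notMem_support_iff.mp hd, mul_zero]
  choose! Ng hNg using h2
  let N' := s.sup Ng
  have hN' : ∀ g ∈ s, ∀ d, r ^ N' * (ytil g).coeff d = 0 := by
    intro g hg d
    have hle := Finset.le_sup (f := Ng) hg
    obtain ⟨c, hc⟩ := Nat.exists_eq_add_of_le hle
    change r ^ (s.sup Ng) * _ = 0
    rw [hc, pow_add, mul_comm (r ^ Ng g), mul_assoc, hNg g hg, mul_zero]
  have h6 : (Polynomial.aeval (0 : R) : R[X] →ₐ[R] R).comp ytil = x₀.comp π := by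
    apply MvPolynomial.algHom_ext
    intro j
    simp only [AlgHom.comp_apply, hytilX, ← Polynomial.coeff_zero_eq_aeval_zero, hq0 j]
  have h5 : ∀ g ∈ s, (ytil g).coeff 0 = 0 := by
    intro g hg
    have := congrArg (fun φ => φ g) h6
    simp only [AlgHom.comp_apply, hsker g hg, map_zero] at this
    rw [Polynomial.coeff_zero_eq_aeval_zero]
    exact this
  refine ⟨E + N', fun n hn => ?_⟩
  obtain ⟨t, rfl⟩ := Nat.exists_eq_add_of_le hn
  have htN : N' ≤ N' + t := Nat.le_add_right _ _
  have hkill : RingHom.ker π.toRingHom ≤ RingHom.ker ((scR (N' + t)).comp ytil).toRingHom := by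
    rw [← hs, Ideal.span_le]
    intro g hg
    change (scR (N' + t)) (ytil g) = 0
    rw [hscR]
    ext d
    rw [comp_C_mul_X_coeff, coeff_zero]
    by_cases hd : d = 0
    · subst hd; rw [h5 g hg, zero_mul]
    · have hle : N' ≤ (N' + t) * d :=
        le_trans htN (Nat.le_mul_of_pos_right _ (Nat.pos_of_ne_zero hd))
      obtain ⟨c, hc⟩ := Nat.exists_eq_add_of_le hle
      rw [← pow_mul, hc, pow_add, mul_comm, mul_assoc, mul_comm (r ^ c), ← mul_assoc,
        hN' g hg, zero_mul]
  let y := AlgHom.liftOfSurjective π hπ ((scR (N' + t)).comp ytil) hkill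
  have hy : ∀ g, y (π g) = scR (N' + t) (ytil g) := fun g =>
    AlgHom.liftOfSurjective_apply π hπ _ hkill g
  refine ⟨y, ?_, ?_⟩
  · ext b
    obtain ⟨g, rfl⟩ := hπ b
    simp only [RingHom.coe_comp, Function.comp_apply, AlgHom.toRingHom_eq_coe, RingHom.coe_coe,
      coe_evalRingHom, hy]
    have h7 : (Polynomial.aeval (0 : R) : R[X] →ₐ[R] R).comp ((scR (N' + t)).comp ytil) =
        x₀.comp π := by
      apply MvPolynomial.algHom_ext
      intro j
      simp only [AlgHom.comp_apply, hytilX, hscR, ← Polynomial.coeff_zero_eq_aeval_zero,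
        comp_C_mul_X_coeff, pow_zero, mul_one, hq0 j]
    have := congrArg (fun φ => φ g) h7
    simp only [AlgHom.comp_apply, ← Polynomial.coeff_zero_eq_aeval_zero] at this
    rw [← Polynomial.coeff_zero_eq_eval_zero]
    exact this
  · ext1 b
    obtain ⟨g, rfl⟩ := hπ b
    simp only [RingHom.coe_comp, Function.comp_apply, AlgHom.toRingHom_eq_coe, RingHom.coe_coe,
      coe_mapRingHom, hy]
    have h8 : mapι.comp ((scR (N' + t)).comp ytil) = (scL (E + N' + t)).comp (x.comp π) := by
      apply MvPolynomial.algHom_ext
      intro j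
      simp only [AlgHom.comp_apply, hytilX, hmapι, hscL, hscR, Polynomial.map_comp, hqmap j,
        Polynomial.comp_assoc]
      congr 1
      simp only [Polynomial.map_mul, Polynomial.map_C, Polynomial.map_X, Polynomial.mul_comp,
        Polynomial.C_comp, Polynomial.X_comp]
      rw [← mul_assoc, ← C_mul, ← map_mul, ← pow_add, add_assoc]
    have := congrArg (fun φ => φ g) h8
    simp only [AlgHom.comp_apply, hmapι] at this
    exact this

end Groth.Agent.S17843
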