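import Groth.Statements.S17853
import Groth.Agent.H36.HorrocksMain

set_option autoImplicit false
open Polynomial LaurentPolynomial TensorProduct
universe u
open CAlg

namespace Groth.Agent.S17853

section aux

variable (A : Type u) [CommRing A]

instance towerAux : IsScalarTower A A[X] A[T;T⁻¹] :=
  IsScalarTower.of_algebraMap_eq fun a => by
    rw [LaurentPolynomial.algebraMap_eq_toLaurent, Polynomial.algebraMap_apply,
      Algebra.algebraMap_self, RingHom.id_apply, Polynomial.toLaurent_C]
    rfl

variable (P : Type u) [AddCommGroup P] [Module A P]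

/-- the twist `t ↦ t⁻¹` on `A[t,t⁻¹] ⊗[A] P`. -/
noncomputable def tauP : A[T;T⁻¹] ⊗[A] P →ₗ[A] A[T;T⁻¹] ⊗[A] P :=
  LinearMap.rTensor P (LaurentPolynomial.invert (R := A)).toLinearMap

theorem tauP_smul (c : A[T;T⁻¹]) (x : A[T;T⁻¹] ⊗[A] P) :
    tauP A P (c • x) = (LaurentPolynomial.invert (R := A)) c • tauP A P x := by
  induction x using TensorProduct.induction_on with
  | zero => simp
  | tmul l p =>
    rw [TensorProduct.smul_tmul']
    simp only [tauP, LinearMap.rTensor_tmul, AlgEquiv.toLinearMap_apply, smul_eq_mul, map_mul]
    rw [TensorProduct.smul_tmul', smul_eq_mul]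
  | add x y hx hy => rw [smul_add, map_add, hx, hy, map_add, smul_add]

theorem tauP_tauP (x : A[T;T⁻¹] ⊗[A] P) : tauP A P (tauP A P x) = x := by
  induction x using TensorProduct.induction_on with
  | zero => simp
  | tmul l p =>
    simp only [tauP, LinearMap.rTensor_tmul, AlgEquiv.toLinearMap_apply]
    rw [LaurentPolynomial.involutive_invert l]
  | add x y hx hy => rw [map_add, map_add, hx, hy]

end aux

/-- For an arbitrary commutative ring A, a finitely generated projective A[t]-module M is extended from
A (isomorphic to A[t] ⊗_A P for an A-module P) if and only if it extends to a vector bundle on the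
projective line over A. The latter is stated by gluing: there are a finitely generated projective
module N over the polynomial ring of the chart at infinity and an isomorphism over the Laurent
polynomial ring between the localisation of M and the base change of N along s ↦ t⁻¹, written as a
bijective additive map A[t,t⁻¹] ⊗ M → A[t,t⁻¹] ⊗ N that is semilinear with respect to the A-algebra
involution t ↦ t⁻¹ of A[t,t⁻¹]. (The published statement adds: for A semilocal, M is then free on
each connected component of the affine line.) -/
theorem result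
    (A : Type u) [CommRing A] (M : Type u) [AddCommGroup M] [Module A[X] M]
    [Module.Finite A[X] M] [Module.Projective A[X] M] :
    (∃ (P : Type u) (_ : AddCommGroup P) (_ : Module A P), Nonempty (M ≃ₗ[A[X]] (A[X] ⊗[A] P))) ↔
      ∃ (N : Type u) (_ : AddCommGroup N) (_ : Module A[X] N),
        Module.Finite A[X] N ∧ Module.Projective A[X] N ∧
        ∃ e : (A[T;T⁻¹] ⊗[A[X]] M) →ₛₗ[(LaurentPolynomial.invert (R := A)).toRingEquiv.toRingHom]
            (A[T;T⁻¹] ⊗[A[X]] N), Function.Bijective e := by
  constructor
  · rintro ⟨P, _, _, ⟨E⟩⟩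
    refine ⟨M, inferInstance, inferInstance, inferInstance, inferInstance, ?_⟩
    let G : A[T;T⁻¹] ⊗[A[X]] M ≃ₗ[A[T;T⁻¹]] A[T;T⁻¹] ⊗[A] P :=
      (TensorProduct.AlgebraTensorModule.congr (LinearEquiv.refl A[T;T⁻¹] A[T;T⁻¹]) E).trans
        (TensorProduct.AlgebraTensorModule.cancelBaseChange A A[X] A[T;T⁻¹] A[T;T⁻¹] P)
    refine ⟨{ toFun := fun x => G.symm (tauP A P (G x))
              map_add' := fun x y => by simp only [map_add]
              map_smul' := fun c x => ?_ }, ?_⟩
    · simp only [map_smul, tauP_smul]
      rfl
    · refine Function.bijective_iff_has_inverse.mpr ⟨fun y => G.symm (tauP A P (G y)), ?_, ?_⟩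
      · intro x
        show G.symm (tauP A P (G (G.symm (tauP A P (G x))))) = x
        rw [LinearEquiv.apply_symm_apply, tauP_tauP, LinearEquiv.symm_apply_apply]
      · intro x
        show G.symm (tauP A P (G (G.symm (tauP A P (G x))))) = x
        rw [LinearEquiv.apply_symm_apply, tauP_tauP, LinearEquiv.symm_apply_apply]
  · rintro ⟨N, _, _, _, _, e, he⟩
    obtain ⟨r, e₀, ⟨E⟩⟩ := Groth.Agent.H36.extended_of_P1 M N e he
    exact ⟨LinearMap.range (Matrix.toLin' e₀), inferInstance, inferInstance, ⟨E⟩⟩

end Groth.Agent.S17853
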