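import Groth.Statements.S17854
import Mathlib
import Groth.Agent.S10955

set_option autoImplicit false
open TensorProduct
universe u
open EtAlg

namespace Groth.Agent.S17854

section Aux

theorem finite_quot (k : Type u) [CommRing k] [IsLocalRing k] [Finite (IsLocalRing.ResidueField k)]
    (R : Type u) [CommRing R] [Algebra k R] [Algebra.FiniteType k R] (m : Ideal R) [m.IsMaximal]
    (hm : m.comap (algebraMap k R) = IsLocalRing.maximalIdeal k) : Finite (R ⧸ m) := by
  have hfin : Finite (k ⧸ m.comap (algebraMap k R)) := by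
    rw [hm]; exact ‹Finite (IsLocalRing.ResidueField k)›
  have hmax : (m.comap (algebraMap k R)).IsMaximal := by rw [hm]; infer_instance
  let _ := Ideal.Quotient.field (m.comap (algebraMap k R))
  let _ := Ideal.Quotient.field m
  have h1 : Algebra.FiniteType k (R ⧸ m) := inferInstance
  have h2 : Algebra.FiniteType (k ⧸ m.comap (algebraMap k R)) (R ⧸ m) :=
    Algebra.FiniteType.of_restrictScalars_finiteType k _ _
  have h3 : Module.Finite (k ⧸ m.comap (algebraMap k R)) (R ⧸ m) :=
    finite_of_finite_type_of_isJacobsonRing _ _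
  exact Module.finite_of_finite (k ⧸ m.comap (algebraMap k R))

open KaehlerDifferential in
theorem tmul_D_pow_card (k : Type u) [CommRing k] (R : Type u) [CommRing R] [Algebra k R]
    (m : Ideal R) [m.IsMaximal] [Fintype (R ⧸ m)] (r : R) :
    (1 : R ⧸ m) ⊗ₜ[R] (D k R (r ^ Fintype.card (R ⧸ m))) = 0 := by
  let _ := Ideal.Quotient.field m
  have h0 : ((Fintype.card (R ⧸ m) : R) • (1 : R ⧸ m)) = 0 := by
    rw [Algebra.smul_def, mul_one, map_natCast]
    exact FiniteField.cast_card_eq_zero (R ⧸ m)
  rw [Derivation.leibniz_pow, ← Nat.cast_smul_eq_nsmul R, smul_smul, TensorProduct.tmul_smul,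
    mul_comm, mul_smul, TensorProduct.smul_tmul', h0, TensorProduct.zero_tmul, smul_zero]

open KaehlerDifferential in
theorem exists_coords (k : Type u) [CommRing k] (R : Type u) [CommRing R] [Algebra k R]
    (m : Ideal R) [m.IsMaximal] [Finite (R ⧸ m)] (d : ℕ) (hd : 0 < d)
    (hdim : Module.finrank (R ⧸ m) ((R ⧸ m) ⊗[R] Ω[R⁄k]) = d)
    [Module.Finite R Ω[R⁄k]] :
    ∃ (f : Fin d → R) (b : Module.Basis (Fin d) (R ⧸ m) ((R ⧸ m) ⊗[R] Ω[R⁄k])) (i₀ : Fin d),
      (∀ i, b i = (1 : R ⧸ m) ⊗ₜ[R] D k R (f i)) ∧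
      ∀ y : R ⧸ m, y = 0 ∨ ∃ j : ℕ, y = Ideal.Quotient.mk m (f i₀) ^ j := by
  classical
  let _ := Ideal.Quotient.field m
  let _ := Fintype.ofFinite (R ⧸ m)
  set q := Fintype.card (R ⧸ m) with hq
  let V := (R ⧸ m) ⊗[R] Ω[R⁄k]
  let s : Set V := Set.range fun r : R => (1 : R ⧸ m) ⊗ₜ[R] D k R r
  have hs : Submodule.span (R ⧸ m) s = ⊤ := by
    have h1 : ∀ x : Ω[R⁄k], (1 : R ⧸ m) ⊗ₜ[R] x ∈ Submodule.span (R ⧸ m) s := by
      intro x
      have hx : x ∈ Submodule.span R (Set.range (D k R)) := by
        rw [KaehlerDifferential.span_range_derivation]; trivial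
      induction hx using Submodule.span_induction with
      | mem x hx =>
        obtain ⟨r, rfl⟩ := hx
        exact Submodule.subset_span ⟨r, rfl⟩
      | zero => rw [TensorProduct.tmul_zero]; exact Submodule.zero_mem _
      | add x y _ _ hx hy => rw [TensorProduct.tmul_add]; exact Submodule.add_mem _ hx hy
      | smul r x _ hx =>
        have : (1 : R ⧸ m) ⊗ₜ[R] (r • x) = (Ideal.Quotient.mk m r) • ((1 : R ⧸ m) ⊗ₜ[R] x) := by
          rw [TensorProduct.tmul_smul, TensorProduct.smul_tmul', TensorProduct.smul_tmul',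
            smul_eq_mul, mul_one, Algebra.smul_def, mul_one]
          rfl
        rw [this]
        exact Submodule.smul_mem _ _ hx
    rw [eq_top_iff]
    intro t _
    clear * - h1
    induction t using TensorProduct.induction_on with
    | zero => exact Submodule.zero_mem _
    | add x y hx hy => exact Submodule.add_mem _ hx hy
    | tmul a x =>
      have : a ⊗ₜ[R] x = a • ((1 : R ⧸ m) ⊗ₜ[R] x) := by
        rw [TensorProduct.smul_tmul', smul_eq_mul, mul_one]
      rw [this]
      exact Submodule.smul_mem _ _ (h1 x)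
  obtain ⟨b0, hb0s, hb0span, hb0li⟩ := exists_linearIndependent (R ⧸ m) s
  let B0 : Module.Basis b0 (R ⧸ m) V := Module.Basis.mk hb0li (by
    rw [Subtype.range_coe, hb0span, hs])
  have hfinb0 : Finite b0 := Module.Finite.finite_basis B0
  let _ := Fintype.ofFinite b0
  have hcard : Fintype.card b0 = d := by
    rw [← hdim, Module.finrank_eq_card_basis B0]
  let e : b0 ≃ Fin d := Fintype.equivFinOfCardEq hcard
  let B1 : Module.Basis (Fin d) (R ⧸ m) V := B0.reindex e
  have hB1 : ∀ i, ∃ r : R, B1 i = (1 : R ⧸ m) ⊗ₜ[R] D k R r := by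
    intro i
    have h1 : B1 i = ((e.symm i : b0) : V) := by
      simp [B1, B0]
    obtain ⟨r, hr⟩ := hb0s (e.symm i).2
    exact ⟨r, by rw [h1, ← hr]⟩
  choose f hf using hB1
  obtain ⟨θ, hθ⟩ := IsCyclic.exists_monoid_generator (α := (R ⧸ m)ˣ)
  obtain ⟨c, hc⟩ := Ideal.Quotient.mk_surjective (θ : R ⧸ m)
  let i₀ : Fin d := ⟨0, hd⟩
  let f' : Fin d → R := Function.update f i₀ (f i₀ - f i₀ ^ q + c ^ q)
  have hf' : ∀ i, B1 i = (1 : R ⧸ m) ⊗ₜ[R] D k R (f' i) := by
    intro i
    by_cases hi : i = i₀
    · subst hi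
      simp only [f', Function.update_self]
      rw [map_add, map_sub, TensorProduct.tmul_add, TensorProduct.tmul_sub,
        tmul_D_pow_card, tmul_D_pow_card, sub_zero, add_zero, hf]
    · simp only [f', Function.update_of_ne hi, hf]
  refine ⟨f', B1, i₀, hf', ?_⟩
  intro y
  by_cases hy : y = 0
  · exact Or.inl hy
  · right
    have hres : Ideal.Quotient.mk m (f' i₀) = (θ : R ⧸ m) := by
      simp only [f', Function.update_self, map_add, map_sub, map_pow]
      rw [FiniteField.pow_card, hc, FiniteField.pow_card, sub_self, zero_add]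
    obtain ⟨j, hj⟩ := hθ (Units.mk0 y hy)
    refine ⟨j, ?_⟩
    rw [hres]
    have := congrArg Units.val hj
    simpa using this.symm

open KaehlerDifferential

/-- Given a basis of `(R/m) ⊗ Ω` of the form `1 ⊗ D (f i)`, the `1 ⊗ D (f i)` form a basis of
`κ(m) ⊗ Ω`. -/
theorem exists_basis_residueField (k : Type u) [CommRing k] (R : Type u) [CommRing R] [Algebra k R]
    (m : Ideal R) [m.IsMaximal] (d : ℕ) (f : Fin d → R)
    (b : Module.Basis (Fin d) (R ⧸ m) ((R ⧸ m) ⊗[R] Ω[R⁄k]))
    (hb : ∀ i, b i = (1 : R ⧸ m) ⊗ₜ[R] D k R (f i)) :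
    ∃ b' : Module.Basis (Fin d) m.ResidueField (m.ResidueField ⊗[R] Ω[R⁄k]),
      ∀ i, b' i = (1 : m.ResidueField) ⊗ₜ[R] D k R (f i) := by
  let e : m.ResidueField ⊗[R ⧸ m] ((R ⧸ m) ⊗[R] Ω[R⁄k]) ≃ₗ[m.ResidueField]
      m.ResidueField ⊗[R] Ω[R⁄k] :=
    TensorProduct.AlgebraTensorModule.cancelBaseChange R (R ⧸ m) m.ResidueField m.ResidueField Ω[R⁄k]
  refine ⟨(b.baseChange m.ResidueField).map e, fun i => ?_⟩
  rw [Module.Basis.map_apply, Module.Basis.baseChange_apply, hb]
  simp [e]

theorem isEtaleAt_of_basis (k : Type u) [CommRing k] (R : Type u) [CommRing R] [Algebra k R]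
    [Algebra.FinitePresentation k R]
    (m : Ideal R) [m.IsMaximal] [Algebra.IsSmoothAt k m] (d : ℕ)
    [Algebra (MvPolynomial (Fin d) k) R] [IsScalarTower k (MvPolynomial (Fin d) k) R]
    (f : Fin d → R) (hf : ∀ i, algebraMap (MvPolynomial (Fin d) k) R (MvPolynomial.X i) = f i)
    (b' : Module.Basis (Fin d) m.ResidueField (m.ResidueField ⊗[R] Ω[R⁄k]))
    (hb' : ∀ i, b' i = (1 : m.ResidueField) ⊗ₜ[R] D k R (f i)) :
    Algebra.IsEtaleAt (MvPolynomial (Fin d) k) m := by
  let κ := m.ResidueField
  -- source basis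
  let bs0 : Module.Basis (Fin d) (MvPolynomial (Fin d) k) Ω[MvPolynomial (Fin d) k⁄k] := KaehlerDifferential.mvPolynomialBasis k (Fin d)
  let bs1 : Module.Basis (Fin d) R (R ⊗[MvPolynomial (Fin d) k] Ω[MvPolynomial (Fin d) k⁄k]) := bs0.baseChange R
  let bs : Module.Basis (Fin d) κ (κ ⊗[R] (R ⊗[MvPolynomial (Fin d) k] Ω[MvPolynomial (Fin d) k⁄k])) := bs1.baseChange κ
  let Φ : κ ⊗[R] (R ⊗[MvPolynomial (Fin d) k] Ω[MvPolynomial (Fin d) k⁄k]) →ₗ[κ] κ ⊗[R] Ω[R⁄k] :=
    LinearMap.baseChange κ (mapBaseChange k (MvPolynomial (Fin d) k) R)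
  have hΦb : ∀ i, Φ (bs i) = b' i := by
    intro i
    rw [hb']
    simp only [Φ, bs, bs1, bs0, Module.Basis.baseChange_apply, LinearMap.baseChange_tmul,
      mapBaseChange_tmul, one_smul]
    rw [KaehlerDifferential.mvPolynomialBasis_apply, KaehlerDifferential.map_D, hf]
  have hΦ : Function.Bijective Φ := by
    rw [Groth.Agent.H25.bijective_iff_of_basis bs Φ]
    have : (fun i => Φ (bs i)) = ⇑b' := funext hΦb
    rw [this]
    exact ⟨b'.linearIndependent, b'.span_eq⟩
  have hΦ' : ⇑Φ = ⇑((mapBaseChange k (MvPolynomial (Fin d) k) R).lTensor κ) := by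
    ext x
    rfl
  have hsmB : Algebra.IsSmoothAt k (m.under (MvPolynomial (Fin d) k)) := by
    have : (⟨m.under _, inferInstance⟩ : PrimeSpectrum (MvPolynomial (Fin d) k)) ∈
        Algebra.smoothLocus k (MvPolynomial (Fin d) k) := by
      have hS : Algebra.Smooth k (MvPolynomial (Fin d) k) := ⟨inferInstance, inferInstance⟩
      rw [Algebra.smoothLocus_eq_univ]; trivial
    exact this
  have hsm : Algebra.IsSmoothAt (MvPolynomial (Fin d) k) m := by
    rw [Groth.Agent.S10955.result k (MvPolynomial (Fin d) k) R m ‹_› hsmB, ← hΦ']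
    exact hΦ.1
  have hft : Algebra.FiniteType (MvPolynomial (Fin d) k) R :=
    Algebra.FiniteType.of_restrictScalars_finiteType k _ _
  have hunr : Algebra.IsUnramifiedAt (MvPolynomial (Fin d) k) m := by
    have : (⟨m, inferInstance⟩ : PrimeSpectrum R) ∈
        Algebra.unramifiedLocus (MvPolynomial (Fin d) k) R := by
      rw [Algebra.unramifiedLocus_eq_compl_support, Set.mem_compl_iff,
        Module.mem_support_iff_nontrivial_residueField_tensorProduct,
        not_nontrivial_iff_subsingleton]
      refine ⟨fun t t' => ?_⟩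
      have hz : ∀ t : κ ⊗[R] Ω[R⁄MvPolynomial (Fin d) k], t = 0 := by
        intro t
        obtain ⟨y, rfl⟩ := LinearMap.lTensor_surjective κ
          (KaehlerDifferential.map_surjective k (MvPolynomial (Fin d) k) R) t
        obtain ⟨x, rfl⟩ := hΦ.2 y
        rw [hΦ', ← LinearMap.comp_apply, ← LinearMap.lTensor_comp,
          (KaehlerDifferential.exact_mapBaseChange_map k (MvPolynomial (Fin d) k)
            R).linearMap_comp_eq_zero, LinearMap.lTensor_zero, LinearMap.zero_apply]
      rw [hz t, hz t']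
    exact this
  have : (⟨m, inferInstance⟩ : PrimeSpectrum R) ∈
      Algebra.etaleLocus (MvPolynomial (Fin d) k) R := by
    rw [Algebra.etaleLocus_eq_unramfiedLocus_inter_smoothLocus]
    exact ⟨hunr, hsm⟩
  exact this

end Aux

/-- In the case of a base with finite residue field, let k be a local ring whose residue field is
finite, R a finitely presented k-algebra and m a maximal ideal of R over the maximal ideal of k such
that R is smooth over k at m of relative dimension d > 0 (the module of Kähler differentials of R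
over k has rank d at m). Then there are g ∉ m and an étale k-algebra homomorphism φ : k[x₁, …, x_d]
→ R[1/g] which induces an isomorphism of residue fields at m, i.e. k[x₁, …, x_d] → R[1/g]/m R[1/g]
is surjective. The published statement is for any local ring k; this row takes the residue field of
k finite. -/
theorem result
    (k : Type u) [CommRing k] [IsLocalRing k] [Finite (IsLocalRing.ResidueField k)]
    (R : Type u) [CommRing R] [Algebra k R] [Algebra.FinitePresentation k R]
    (m : Ideal R) [m.IsMaximal] (hm : m.comap (algebraMap k R) = IsLocalRing.maximalIdeal k)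
    [Algebra.IsSmoothAt k m] (d : ℕ) (hd : 0 < d)
    (hdim : Module.finrank (R ⧸ m) ((R ⧸ m) ⊗[R] KaehlerDifferential k R) = d) :
    ∃ g : R, g ∉ m ∧ ∃ φ : MvPolynomial (Fin d) k →ₐ[k] Localization.Away g,
      φ.toRingHom.Etale ∧
      Function.Surjective
        ((Ideal.Quotient.mk (m.map (algebraMap R (Localization.Away g)))).comp φ.toRingHom) := by
  classical
  have hfinq : Finite (R ⧸ m) := finite_quot k R m hm
  obtain ⟨f, b, i₀, hb, hgen⟩ := exists_coords k R m d hd hdim
  obtain ⟨b', hb'⟩ := exists_basis_residueField k R m d f b hb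
  let φ : MvPolynomial (Fin d) k →ₐ[k] R := MvPolynomial.aeval f
  let _ : Algebra (MvPolynomial (Fin d) k) R := φ.toRingHom.toAlgebra
  have _ : IsScalarTower k (MvPolynomial (Fin d) k) R :=
    IsScalarTower.of_algebraMap_eq' φ.comp_algebraMap.symm
  have hfX : ∀ i, algebraMap (MvPolynomial (Fin d) k) R (MvPolynomial.X i) = f i :=
    fun i => MvPolynomial.aeval_X f i
  have het : Algebra.IsEtaleAt (MvPolynomial (Fin d) k) m :=
    isEtaleAt_of_basis k R m d f hfX b' hb'
  have hfp : Algebra.FinitePresentation (MvPolynomial (Fin d) k) R :=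
    Algebra.FinitePresentation.of_restrict_scalars_finitePresentation k _ _
  obtain ⟨g, hg, hget⟩ := Algebra.exists_etale_of_isEtaleAt (R := MvPolynomial (Fin d) k) m
  refine ⟨g, hg, (IsScalarTower.toAlgHom k R (Localization.Away g)).comp φ, ?_, ?_⟩
  · have h1 : ((IsScalarTower.toAlgHom k R (Localization.Away g)).comp φ).toRingHom =
        algebraMap (MvPolynomial (Fin d) k) (Localization.Away g) := by
      refine RingHom.ext fun p => ?_
      rw [IsScalarTower.algebraMap_apply (MvPolynomial (Fin d) k) R (Localization.Away g)]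
      rfl
    rw [h1, RingHom.etale_algebraMap]
    exact hget
  · have hπ : ∀ r s : R, r - s ∈ m →
        Ideal.Quotient.mk (m.map (algebraMap R (Localization.Away g))) (algebraMap R _ r) =
        Ideal.Quotient.mk (m.map (algebraMap R (Localization.Away g))) (algebraMap R _ s) := by
      intro r s hrs
      rw [Ideal.Quotient.eq, ← map_sub]
      exact Ideal.mem_map_of_mem _ hrs
    obtain ⟨h, i, hi, hhi⟩ := Ideal.IsMaximal.exists_inv ‹m.IsMaximal› hg
    have hone : Ideal.Quotient.mk (m.map (algebraMap R (Localization.Away g)))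
        (algebraMap R _ (h * g)) = 1 := by
      have h1 := hπ (h * g) 1 (by
        have : h * g - 1 = -i := by rw [← hhi]; ring
        rw [this]
        exact neg_mem hi)
      rw [h1, map_one, map_one]
    intro y
    obtain ⟨z, rfl⟩ := Ideal.Quotient.mk_surjective y
    obtain ⟨n, r, hz⟩ := IsLocalization.Away.surj g z
    have hz' : Ideal.Quotient.mk (m.map (algebraMap R (Localization.Away g))) z =
        Ideal.Quotient.mk _ (algebraMap R _ (r * h ^ n)) := by
      calc Ideal.Quotient.mk (m.map (algebraMap R (Localization.Away g))) z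
          = Ideal.Quotient.mk _ z * (Ideal.Quotient.mk _ (algebraMap R _ (h * g))) ^ n := by
            rw [hone, one_pow, mul_one]
        _ = Ideal.Quotient.mk _ (z * algebraMap R _ g ^ n) *
              Ideal.Quotient.mk _ (algebraMap R _ (h ^ n)) := by
            simp only [map_mul, map_pow]; ring
        _ = Ideal.Quotient.mk _ (algebraMap R _ (r * h ^ n)) := by
            rw [hz, ← map_mul, ← map_mul]
    rcases hgen (Ideal.Quotient.mk m (r * h ^ n)) with h0 | ⟨j, hj⟩
    · refine ⟨0, ?_⟩
      have h1 := hπ (r * h ^ n) 0 (by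
        rw [sub_zero]
        exact Ideal.Quotient.eq_zero_iff_mem.1 h0)
      rw [map_zero, hz', h1, map_zero, map_zero]
    · refine ⟨MvPolynomial.X i₀ ^ j, ?_⟩
      rw [hz']
      have : ((IsScalarTower.toAlgHom k R (Localization.Away g)).comp φ).toRingHom
          (MvPolynomial.X i₀ ^ j) = algebraMap R _ (f i₀ ^ j) := by
        simp [φ]
      rw [RingHom.comp_apply, this]
      apply hπ
      rw [← map_pow] at hj
      exact Ideal.Quotient.eq.1 hj.symm

end Groth.Agent.S17854
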