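import Groth.Statements.S17859
import Mathlib

set_option autoImplicit false
open CategoryTheory MonoidalCategory
universe u
open Algz

namespace Groth.Agent.S17859

open TensorProduct

section
variable (R : Type u) [CommRing R] (M : Type u) [AddCommGroup M] [Module R M]
  {n : ℕ} (e : Fin n → M) (φ : Fin n → Module.Dual R M)

/-- Coevaluation attached to a finite "dual basis" `(e, φ)`. -/
noncomputable def coev : R →ₗ[R] M ⊗[R] Module.Dual R M :=
  LinearMap.toSpanSingleton R _ (∑ i, e i ⊗ₜ[R] φ i)

theorem coev_apply (r : R) : coev R M e φ r = r • ∑ i, e i ⊗ₜ[R] φ i := rfl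

variable (h : ∀ m : M, ∑ i, φ i m • e i = m)
include h

theorem dual_expand (ψ : Module.Dual R M) : ∑ i, ψ (e i) • φ i = ψ := by
  ext m
  simp only [LinearMap.coe_sum, Finset.sum_apply, LinearMap.smul_apply, smul_eq_mul]
  conv_rhs => rw [← h m]
  simp only [map_sum, map_smul, smul_eq_mul]
  exact Finset.sum_congr rfl fun i _ => mul_comm _ _

theorem tri1 :
    (contractLeft R M).rTensor _ ∘ₗ
        (TensorProduct.assoc R _ _ _).symm.toLinearMap ∘ₗ
          (coev R M e φ).lTensor (Module.Dual R M) =
      (TensorProduct.lid R _).symm.toLinearMap ∘ₗ (TensorProduct.rid R _).toLinearMap := by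
  apply TensorProduct.ext'
  intro ψ r
  simp only [LinearMap.coe_comp, Function.comp_apply, LinearEquiv.coe_toLinearMap,
    LinearMap.lTensor_tmul, coev_apply, TensorProduct.rid_tmul, TensorProduct.lid_symm_apply]
  rw [TensorProduct.tmul_smul, map_smul, map_smul, TensorProduct.tmul_sum, map_sum, map_sum]
  simp only [TensorProduct.assoc_symm_tmul, LinearMap.rTensor_tmul, contractLeft_apply]
  have : ∀ i, (ψ (e i)) ⊗ₜ[R] φ i = (1 : R) ⊗ₜ[R] (ψ (e i) • φ i) := by
    intro i
    rw [TensorProduct.tmul_smul, TensorProduct.smul_tmul', smul_eq_mul, mul_one]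
  simp only [this]
  rw [← TensorProduct.tmul_sum, dual_expand R M e φ h ψ, TensorProduct.tmul_smul]

theorem tri2 :
    (contractLeft R M).lTensor _ ∘ₗ
        (TensorProduct.assoc R _ _ _).toLinearMap ∘ₗ (coev R M e φ).rTensor M =
      (TensorProduct.rid R _).symm.toLinearMap ∘ₗ (TensorProduct.lid R _).toLinearMap := by
  apply TensorProduct.ext'
  intro r m
  simp only [LinearMap.coe_comp, Function.comp_apply, LinearEquiv.coe_toLinearMap,
    LinearMap.rTensor_tmul, coev_apply, TensorProduct.lid_tmul, TensorProduct.rid_symm_apply]
  rw [← TensorProduct.smul_tmul', map_smul, map_smul, TensorProduct.sum_tmul, map_sum, map_sum]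
  simp only [TensorProduct.assoc_tmul, LinearMap.lTensor_tmul, contractLeft_apply]
  have : ∀ i, (e i) ⊗ₜ[R] (φ i m) = (φ i m • e i) ⊗ₜ[R] (1 : R) := by
    intro i
    rw [← TensorProduct.smul_tmul', ← TensorProduct.tmul_smul, smul_eq_mul, mul_one]
  simp only [this]
  rw [← TensorProduct.sum_tmul, h m, ← TensorProduct.smul_tmul']

end

/-- Over an affine scheme, that is for modules over a commutative ring `R`, a finitely generated
projective `R`-module `M`, viewed as an object of the monoidal category of `R`-modules (tensor
product over `R`), has a right dual. (The published statement is the equivalence, for quasi-coherent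
sheaves on a quasi-compact quasi-separated scheme, between being dualizable and being a vector
bundle; stated here is the affine case of the implication from vector bundle to dualizable. The
converse implication, that a module admitting a dual is finitely generated projective, is stated
separately and is not repeated here.) -/
theorem result (R : Type u) [CommRing R] (M : ModuleCat.{u} R)
    [Module.Finite R M] [Module.Projective R M] : Nonempty (HasRightDual M) := by
  obtain ⟨n, f, g, -, -, hfg⟩ := Module.Finite.exists_comp_eq_id_of_projective R M
  let e : Fin n → M := fun i => f (Pi.single i 1)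
  let φ : Fin n → Module.Dual R M := fun i => (LinearMap.proj i) ∘ₗ g
  have h : ∀ m : M, ∑ i, φ i m • e i = m := by
    intro m
    have h1 : g m = ∑ i, g m i • (Pi.single i 1 : Fin n → R) := by
      ext j
      simp [Finset.sum_apply, Pi.single_apply]
    have h2 : f (g m) = m := congrArg (fun k => k m) hfg
    conv_rhs => rw [← h2, h1]
    simp only [map_sum, map_smul]
    rfl
  exact ⟨{
    rightDual := ModuleCat.of R (Module.Dual R M)
    exact :=
    { coevaluation' := ModuleCat.ofHom (coev R M e φ)
      evaluation' := ModuleCat.ofHom (contractLeft R M)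
      coevaluation_evaluation' := by
        ext : 1
        apply tri1 R M e φ h
      evaluation_coevaluation' := by
        ext : 1
        apply tri2 R M e φ h } }⟩

end Groth.Agent.S17859
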