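import Groth.Statements.S17860
import Mathlib
import Groth.Agent.H89.PointsPi
import Groth.Agent.H89.GenCount
import Groth.Agent.H44.AffineFree

set_option autoImplicit false
open CategoryTheory AlgebraicGeometry
universe u
open Algz

namespace Groth.Agent.S17860

/-- Let `R` be a commutative ring and `M` a finite `R`-module. Suppose `Spec R` is covered by opens `U
0, …, U (m-1)` (not necessarily affine) such that over each `U i` the restriction of the associated
sheaf of modules `M~` is a quotient of the free module of rank `n` (it is generated by `n` sections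
over `U i`). Then `M` is generated by `n * m` elements. -/
theorem result (R : CommRingCat.{u}) (M : ModuleCat.{u} R)
    [Module.Finite R M] (n m : ℕ) (U : Fin m → (Spec R).Opens) (hU : ⨆ i, U i = ⊤)
    (hgen : ∀ i, ∃ φ : FlatMod.freeMod (↑(U i)) n ⟶ (AlgebraicGeometry.tilde M).restrict (U i).ι, Epi φ) :
    ∃ s : Fin (n * m) → M, Submodule.span R (Set.range s) = ⊤ := by
  classical
  obtain ⟨b, hb, hle⟩ := Groth.Agent.H89.PointsPi.exists_span_eq_top_basicOpen_le (R := R) U hU
  -- generators of the localizations
  have hloc : ∀ i : Fin m, ∃ x : Fin n → M, ∀ z : M, ∃ k : ℕ,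
      b i ^ k • z ∈ Submodule.span R (Set.range x) := by
    intro i
    obtain ⟨φ, hφ⟩ := hgen i
    let D : (Spec R).Opens := PrimeSpectrum.basicOpen (b i)
    have hD : IsAffineOpen D := IsAffineOpen.Spec_basicOpen (b i)
    obtain ⟨y, hy⟩ := Groth.Agent.H44.exists_span_of_epi_freeMod (AlgebraicGeometry.tilde M)
      hD (hle i) φ
    let f : M →ₗ[R] Γ(AlgebraicGeometry.tilde M, D) := (AlgebraicGeometry.tilde.toOpen M D).hom
    have hf : IsLocalizedModule.Away (b i) f :=
      inferInstanceAs (IsLocalizedModule.Away (b i) (AlgebraicGeometry.tilde.toOpen M D).hom)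
    exact Groth.Agent.H89.GenCount.exists_of_span_localized (S := Γ(Spec R, D)) (b i) f y hy
  choose x hx using hloc
  have hspan := Groth.Agent.H89.GenCount.span_eq_top_of_localized b hb x hx
  refine ⟨fun k => x (finProdFinEquiv.symm (Fin.cast (Nat.mul_comm n m) k)).1
    (finProdFinEquiv.symm (Fin.cast (Nat.mul_comm n m) k)).2, ?_⟩
  rw [eq_top_iff, ← hspan]
  apply Submodule.span_mono
  rintro _ ⟨p, rfl⟩
  refine ⟨Fin.cast (Nat.mul_comm m n) (finProdFinEquiv p), ?_⟩
  simp

end Groth.Agent.S17860
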