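import Groth.Statements.S17864
import Mathlib
import Groth.Agent.H89.AdicRetract

set_option autoImplicit false
universe u
open Algz

namespace Groth.Agent.S17864

/-- The full-faithfulness assertion. Let `A` be a commutative ring which is `I`-adically complete for an
ideal `I`, and `P`, `Q` finitely generated projective `A`-modules. An `A`-linear map `P → Q` is
determined by its reductions modulo the powers `I^n`, and every family of `A`-linear maps `P/I^n P →
Q/I^n Q` compatible with the transition maps is the family of reductions of an `A`-linear map `P →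
Q`. (The companion assertion, that compatible systems of finite projective modules over the rings
`A/I^n` lift to `A`, is not restated here.) -/
theorem result (A : Type u) [CommRing A] (I : Ideal A)
    [IsAdicComplete I A] (P Q : Type u) [AddCommGroup P] [Module A P] [Module.Finite A P]
    [Module.Projective A P] [AddCommGroup Q] [Module A Q] [Module.Finite A Q] [Module.Projective A Q] :
    (∀ f f' : P →ₗ[A] Q, (∀ n : ℕ, f.reduceModIdeal (I ^ n) = f'.reduceModIdeal (I ^ n)) → f = f') ∧
    (∀ g : ∀ n : ℕ, P ⧸ (I ^ n • ⊤ : Submodule A P) →ₗ[A] Q ⧸ (I ^ n • ⊤ : Submodule A Q),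
      (∀ n : ℕ, AdicCompletion.transitionMap I Q (Nat.le_succ n) ∘ₗ g (n + 1) =
        g n ∘ₗ AdicCompletion.transitionMap I P (Nat.le_succ n)) →
      ∃ f : P →ₗ[A] Q, ∀ n : ℕ, f.reduceModIdeal (I ^ n) = g n) := by
  have hQ : IsAdicComplete I Q := Groth.Agent.H89.isAdicComplete_of_finite_projective I Q
  constructor
  · intro f f' h
    apply DFunLike.coe_injective
    apply IsHausdorff.funext I
    intro n p
    have h1 := LinearMap.congr_fun (h n) (Submodule.Quotient.mk p)
    rw [LinearMap.reduceModIdeal_apply, LinearMap.reduceModIdeal_apply] at h1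
    exact h1
  · intro g hg
    let fn : ∀ n : ℕ, P →ₗ[A] Q ⧸ (I ^ (id n) • ⊤ : Submodule A Q) :=
      fun n => g n ∘ₗ Submodule.mkQ (I ^ n • ⊤ : Submodule A P)
    have hfn : ∀ {m : ℕ}, Submodule.factorPow I Q (strictMono_id.monotone m.le_succ) ∘ₗ fn (m + 1)
        = fn m := by
      intro m
      change AdicCompletion.transitionMap I Q (Nat.le_succ m) ∘ₗ (g (m + 1) ∘ₗ
        Submodule.mkQ (I ^ (m + 1) • ⊤ : Submodule A P)) = g m ∘ₗ Submodule.mkQ _
      rw [← LinearMap.comp_assoc, hg m, LinearMap.comp_assoc]
      congr 1
    refine ⟨IsAdicComplete.StrictMono.lift I strictMono_id fn hfn, fun n => ?_⟩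
    apply LinearMap.ext
    intro x
    obtain ⟨p, rfl⟩ := Submodule.Quotient.mk_surjective _ x
    rw [LinearMap.restrictScalars_apply, LinearMap.reduceModIdeal_apply]
    exact IsAdicComplete.StrictMono.mk_lift (I := I) strictMono_id fn hfn (n := n) p

end Groth.Agent.S17864
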