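import Groth.Statements.S17865
import Mathlib

set_option autoImplicit false
open CategoryTheory AlgebraicGeometry
universe u
open Algz

namespace Groth.Agent.S17865

/-- In the case of schemes. Let `f : U ⟶ Y` be a Nisnevich cover of length at most `m` of quasi-compact
quasi-separated schemes (an etale morphism together with a chain of `m` closed constructible subsets
`∅ = Z_0 ⊆ ⋯ ⊆ Z_m = Y` such that `f` has a section over each `Z_(k+1) ∖ Z_k`), and `g : Y' ⟶ Y` a
morphism from a quasi-compact quasi-separated scheme. Then the base change `U ×_Y Y' ⟶ Y'` is a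
Nisnevich cover of length at most `m`. (The original form is for quasi-compact quasi-separated
algebraic spaces; stated here for schemes.) -/
theorem result {U Y Y' : Scheme.{u}} (f : U ⟶ Y) (g : Y' ⟶ Y)
    [CompactSpace U] [QuasiSeparatedSpace U] [CompactSpace Y] [QuasiSeparatedSpace Y]
    [CompactSpace Y'] [QuasiSeparatedSpace Y'] (m : ℕ)
    (hf : W4c5algebraiztannaka.IsNisCoverLen f m) :
    W4c5algebraiztannaka.IsNisCoverLen (Limits.pullback.snd f g) m := by
  classical
  obtain ⟨hE, Z, hZ0, hZm, hZmono, hZc, hsect⟩ := hf
  have hqc : QuasiCompact g := inferInstance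
  refine ⟨inferInstance, fun k => g ⁻¹' (Z k), ?_, ?_, ?_, ?_, ?_⟩
  · simp [hZ0]
  · simp [hZm]
  · intro a b hab
    exact Set.preimage_mono (hZmono hab)
  · intro k
    refine ⟨(hZc k).1.preimage g.continuous, ?_⟩
    refine (hZc k).2.preimage g.continuous ?_
    intro s hs hs'
    rw [QuasiSeparatedSpace.isRetrocompact_iff_isCompact (hs.preimage g.continuous)]
    exact hqc.isCompact_preimage s hs hs'.isCompact
  · intro k
    obtain ⟨T, j, s, hj, hrange, hsf⟩ := hsect k
    refine ⟨Limits.pullback j g, Limits.pullback.snd j g,
      Limits.pullback.lift (Limits.pullback.fst j g ≫ s) (Limits.pullback.snd j g) ?_,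
      inferInstance, ?_, ?_⟩
    · rw [Category.assoc, hsf, Limits.pullback.condition]
    · have := Scheme.Pullback.range_snd j g
      rw [show Set.range (fun t : T => j t) = Set.range j from rfl] at hrange
      rw [show (Set.range fun t : ↥(Limits.pullback j g) => (Limits.pullback.snd j g) t)
        = Set.range (Limits.pullback.snd j g) from rfl, this, hrange]
      rfl
    · exact Limits.pullback.lift_snd _ _ _

end Groth.Agent.S17865
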