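import Groth.Statements.S17866
import Mathlib
import Groth.Agent.H89.NisCover

set_option autoImplicit false
open CategoryTheory AlgebraicGeometry
universe u
open Algz

namespace Groth.Agent.S17866

/-- In the case of schemes. Let `g₁ : Y₁ ⟶ Y₂` and `g₂ : Y₂ ⟶ Y₃` be Nisnevich covers of quasi-compact
quasi-separated schemes of lengths at most `m₁` and `m₂` respectively. Then `g₁ ≫ g₂` is a Nisnevich
cover of length at most `m₁ * m₂`. (The original form is for quasi-compact quasi-separated algebraic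
spaces; stated here for schemes.) -/
theorem result {Y₁ Y₂ Y₃ : Scheme.{u}} (g₁ : Y₁ ⟶ Y₂) (g₂ : Y₂ ⟶ Y₃)
    [CompactSpace Y₁] [QuasiSeparatedSpace Y₁] [CompactSpace Y₂] [QuasiSeparatedSpace Y₂]
    [CompactSpace Y₃] [QuasiSeparatedSpace Y₃] (m₁ m₂ : ℕ)
    (h₁ : W4c5algebraiztannaka.IsNisCoverLen g₁ m₁) (h₂ : W4c5algebraiztannaka.IsNisCoverLen g₂ m₂) :
    W4c5algebraiztannaka.IsNisCoverLen (g₁ ≫ g₂) (m₁ * m₂) := by
  classical
  rw [Groth.Agent.H89.NisCover.isNisCoverLen_iff_nat] at h₁ h₂ ⊢
  obtain ⟨hE₁, Z₁, hZ₁0, hZ₁m, hZ₁s, hZ₁c, hsect₁⟩ := h₁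
  obtain ⟨hE₂, Z₂, hZ₂0, hZ₂m, hZ₂s, hZ₂c, hsect₂⟩ := h₂
  refine ⟨inferInstance, ?_⟩
  have hZ₁mono : Monotone Z₁ := monotone_nat_of_le_succ hZ₁s
  have hZ₂mono : Monotone Z₂ := monotone_nat_of_le_succ hZ₂s
  choose S i t himm hrange hcomp using hsect₂
  -- basic facts about the sections of `g₂`
  have hrange' : ∀ b (hb : b < m₂), Set.range (i b hb) = Z₂ (b + 1) \ Z₂ b := hrange
  have hemb : ∀ b (hb : b < m₂), Topology.IsEmbedding (i b hb) := fun b hb =>
    have := himm b hb
    (i b hb).isEmbedding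
  have hrc : ∀ b (hb : b < m₂), Topology.IsConstructible (Set.range (i b hb)) := fun b hb => by
    rw [hrange' b hb]
    exact (hZ₂c _).2.sdiff (hZ₂c _).2
  have hScomp : ∀ b (hb : b < m₂), CompactSpace (S b hb) := fun b hb => by
    rw [← isCompact_univ_iff, (hemb b hb).isInducing.isCompact_iff, Set.image_univ]
    exact Groth.Agent.H89.NisCover.isCompact_of_isConstructible (hrc b hb)
  have htqc : ∀ b (hb : b < m₂) (O : Set Y₂), IsOpen O → IsCompact O →
      IsCompact ((t b hb) ⁻¹' O) := fun b hb O hO hO' => by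
    have := hScomp b hb
    have hq : QuasiCompact (t b hb) := inferInstance
    exact hq.isCompact_preimage O hO hO'
  -- the building blocks of the new chain
  let F : ∀ b, b < m₂ → ℕ → Set Y₃ := fun b hb a => Z₂ b ∪ (i b hb) '' ((t b hb) ⁻¹' (Z₁ a))
  have hFcongr : ∀ b b' (hb : b < m₂) (hb' : b' < m₂) (a a' : ℕ), b = b' → a = a' →
      F b hb a = F b' hb' a' := by
    intro b b' hb hb' a a' h h'
    subst h; subst h'; rfl
  have hFzero : ∀ b (hb : b < m₂), F b hb 0 = Z₂ b := fun b hb => by
    simp [F, hZ₁0]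
  have hFtop : ∀ b (hb : b < m₂), F b hb m₁ = Z₂ (b + 1) := fun b hb => by
    simp only [F, hZ₁m, Set.preimage_univ, Set.image_univ]
    rw [hrange' b hb, Set.union_sdiff_cancel (hZ₂s b)]
  have hFclosed : ∀ b (hb : b < m₂) a, IsClosed (F b hb a) := fun b hb a =>
    Groth.Agent.H89.NisCover.isClosed_union_image (hemb b hb) (hZ₂c b).1 (hZ₂c (b + 1)).1
      (hrange' b hb) ((hZ₁c a).1.preimage (t b hb).continuous)
  have hFcons : ∀ b (hb : b < m₂) a, Topology.IsConstructible (F b hb a) := fun b hb a =>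
    (hZ₂c b).2.union
      (Groth.Agent.H89.NisCover.isConstructible_image_preimage (hemb b hb) (hrc b hb)
        (t b hb).continuous (htqc b hb) (hZ₁c a).2)
  have hFdiff : ∀ b (hb : b < m₂) a, F b hb (a + 1) \ F b hb a =
      (i b hb) '' ((t b hb) ⁻¹' (Z₁ (a + 1) \ Z₁ a)) := by
    intro b hb a
    ext y
    simp only [F, Set.mem_sdiff, Set.mem_union, Set.mem_image, Set.mem_preimage, not_or,
      not_exists, not_and]
    constructor
    · rintro ⟨h | ⟨x, hx, rfl⟩, h2, h3⟩
      · exact absurd h h2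
      · exact ⟨x, ⟨hx, fun h => h3 x h rfl⟩, rfl⟩
    · rintro ⟨x, ⟨hx, hx'⟩, rfl⟩
      refine ⟨Or.inr ⟨x, hx, rfl⟩, ?_, ?_⟩
      · have : (i b hb) x ∈ Set.range (i b hb) := ⟨x, rfl⟩
        rw [hrange' b hb] at this
        exact this.2
      · intro x' hx'' he
        have := (hemb b hb).injective he
        subst this
        exact hx' hx''
  have hFsect : ∀ b (hb : b < m₂) a, a < m₁ →
      W4c5algebraiztannaka.HasSectOver (g₁ ≫ g₂) (F b hb (a + 1) \ F b hb a) := by
    intro b hb a ha
    rw [hFdiff b hb a]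
    obtain ⟨T, j, s, hj, hjr, hsj⟩ := hsect₁ a ha
    have := himm b hb
    refine ⟨Limits.pullback j (t b hb), Limits.pullback.snd j (t b hb) ≫ i b hb,
      Limits.pullback.fst j (t b hb) ≫ s, inferInstance, ?_, ?_⟩
    · rw [show (Set.range fun x : ↥(Limits.pullback j (t b hb)) =>
          (Limits.pullback.snd j (t b hb) ≫ i b hb) x)
        = Set.range (Limits.pullback.snd j (t b hb) ≫ i b hb) from rfl]
      rw [Scheme.Hom.comp_base, TopCat.coe_comp, Set.range_comp, Scheme.Pullback.range_snd]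
      rw [show Set.range (fun x : T => j x) = Set.range j from rfl] at hjr
      rw [hjr]
    · rw [Category.assoc, ← Category.assoc s, hsj, ← Category.assoc, Limits.pullback.condition,
        Category.assoc, hcomp b hb]
  by_cases hm : m₁ * m₂ = 0
  · -- degenerate case: `Y₃` is empty
    have hempty : IsEmpty Y₃ := by
      rcases Nat.mul_eq_zero.mp hm with h | h
      · -- `Y₂` is empty
        have hY₂ : IsEmpty Y₂ := by
          subst h
          rw [hZ₁0] at hZ₁m
          exact ⟨fun x => by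
            have : x ∈ (Set.univ : Set Y₂) := Set.mem_univ x
            rw [← hZ₁m] at this
            exact this⟩
        have hstep : ∀ b, b < m₂ → Z₂ (b + 1) = Z₂ b := by
          intro b hb
          have hS : IsEmpty (S b hb) := ⟨fun x => hY₂.false ((t b hb) x)⟩
          have : Set.range (i b hb) = ∅ := Set.range_eq_empty _
          rw [hrange' b hb, Set.sdiff_eq_empty] at this
          exact Set.Subset.antisymm this (hZ₂s b)
        have hall : ∀ b, b ≤ m₂ → Z₂ b = ∅ := by
          intro b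
          induction b with
          | zero => intro _; exact hZ₂0
          | succ b ih =>
            intro hb
            rw [hstep b (by omega), ih (by omega)]
        have := hall m₂ le_rfl
        rw [hZ₂m] at this
        exact ⟨fun x => by
          have hx : x ∈ (Set.univ : Set Y₃) := Set.mem_univ x
          rw [this] at hx
          exact hx⟩
      · subst h
        rw [hZ₂0] at hZ₂m
        exact ⟨fun x => by
          have : x ∈ (Set.univ : Set Y₃) := Set.mem_univ x
          rw [← hZ₂m] at this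
          exact this⟩
    refine ⟨fun _ => ∅, rfl, ?_, fun _ => subset_rfl, fun _ => ⟨isClosed_empty, .empty⟩, ?_⟩
    · exact (Set.eq_empty_of_isEmpty _).symm
    · intro a ha
      omega
  · have hm₁ : 0 < m₁ := Nat.pos_of_ne_zero fun h => hm (by simp [h])
    have hm₂ : 0 < m₂ := Nat.pos_of_ne_zero fun h => hm (by simp [h])
    have hdiv : ∀ c, c < m₁ * m₂ → c / m₁ < m₂ := fun c hc =>
      Nat.div_lt_of_lt_mul hc
    let Z : ℕ → Set Y₃ := fun c =>
      if h : c < m₁ * m₂ then F (c / m₁) (hdiv c h) (c % m₁) else Set.univ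
    have hZlt : ∀ c (h : c < m₁ * m₂), Z c = F (c / m₁) (hdiv c h) (c % m₁) := fun c h => by
      simp only [Z, dif_pos h]
    have hZsucc : ∀ c (h : c < m₁ * m₂), Z (c + 1) = F (c / m₁) (hdiv c h) (c % m₁ + 1) := by
      intro c h
      have hmod : c % m₁ < m₁ := Nat.mod_lt _ hm₁
      have hdm : m₁ * (c / m₁) + c % m₁ = c := Nat.div_add_mod c m₁
      by_cases h1 : c % m₁ + 1 < m₁
      · have hc1 : c + 1 = m₁ * (c / m₁) + (c % m₁ + 1) := by omega
        have hq : (c + 1) / m₁ = c / m₁ := by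
          rw [hc1, Nat.mul_add_div hm₁, Nat.div_eq_of_lt h1, add_zero]
        have hr : (c + 1) % m₁ = c % m₁ + 1 := by
          rw [hc1, Nat.mul_add_mod, Nat.mod_eq_of_lt h1]
        have hlt : c + 1 < m₁ * m₂ := by
          by_contra hcon
          have : c + 1 = m₁ * m₂ := by omega
          rw [this, Nat.mul_mod_right] at hr
          omega
        rw [hZlt (c + 1) hlt]
        exact hFcongr _ _ _ _ _ _ hq hr
      · have h2 : c % m₁ + 1 = m₁ := by omega
        rw [hFcongr _ _ (hdiv c h) (hdiv c h) _ m₁ rfl h2, hFtop]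
        have hc1 : c + 1 = m₁ * (c / m₁ + 1) := by
          rw [Nat.mul_add, Nat.mul_one]; omega
        by_cases h3 : c / m₁ + 1 < m₂
        · have hlt : c + 1 < m₁ * m₂ := by
            rw [hc1]; exact Nat.mul_lt_mul_of_pos_left h3 hm₁
          have hq : (c + 1) / m₁ = c / m₁ + 1 := by
            rw [hc1, Nat.mul_div_cancel_left _ hm₁]
          have hr : (c + 1) % m₁ = 0 := by
            rw [hc1, Nat.mul_mod_right]
          rw [hZlt (c + 1) hlt, hFcongr _ _ _ h3 _ 0 hq hr, hFzero]
        · have h4 : c / m₁ + 1 = m₂ := by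
            have := hdiv c h
            omega
          have : ¬ (c + 1 < m₁ * m₂) := by
            rw [hc1, h4]; omega
          simp only [Z, dif_neg this]
          rw [h4, hZ₂m]
    refine ⟨Z, ?_, ?_, ?_, ?_, ?_⟩
    · have h0 : 0 < m₁ * m₂ := Nat.pos_of_ne_zero hm
      rw [hZlt 0 h0, hFcongr _ _ _ hm₂ _ 0 (Nat.zero_div _) (Nat.zero_mod _), hFzero, hZ₂0]
    · simp only [Z, dif_neg (lt_irrefl _)]
    · intro c
      by_cases h : c < m₁ * m₂
      · rw [hZlt c h, hZsucc c h]
        exact Set.union_subset_union_right _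
          (Set.image_mono (Set.preimage_mono (hZ₁s _)))
      · have h' : ¬ (c + 1 < m₁ * m₂) := by omega
        simp only [Z, dif_neg h, dif_neg h']
        exact subset_rfl
    · intro c
      by_cases h : c < m₁ * m₂
      · rw [hZlt c h]
        exact ⟨hFclosed _ _ _, hFcons _ _ _⟩
      · simp only [Z, dif_neg h]
        exact ⟨isClosed_univ, .univ⟩
    · intro c hc
      rw [hZlt c hc, hZsucc c hc]
      exact hFsect _ _ _ (Nat.mod_lt _ hm₁)

end Groth.Agent.S17866
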