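import Groth.Statements.S17869
import Mathlib

set_option autoImplicit false
open CategoryTheory AlgebraicGeometry
universe u
open Algz

namespace Groth.Agent.S17869

/-- In the case of schemes. Let `U` be a quasi-compact quasi-separated scheme and `V 0, …, V (k-1)`
quasi-compact open subschemes which cover `U`. Then the canonical morphism from the disjoint union
`∐ V i` to `U` is a Nisnevich cover of length at most `k`. (The published example states more
generally that, for a Nisnevich cover of `Y` of length at most `m` with source `U`, the composite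
from the disjoint union `∐ V i` to `Y` has length at most `m * k`; stated here is the case of the
identity of `U`, to which the published argument reduces, and the general bound follows by composing
Nisnevich covers. The original form is for quasi-compact quasi-separated algebraic spaces, with the
members of the cover quasi-compact; stated here for schemes.) -/
theorem result {U : Scheme.{u}} [CompactSpace U] [QuasiSeparatedSpace U]
    (k : ℕ) (V : Fin k → U.Opens) (hV : ∀ i, IsCompact (V i : Set U)) (hcov : ⨆ i, V i = ⊤) :
    W4c5algebraiztannaka.IsNisCoverLen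
      (Limits.Sigma.desc (fun i => (V i).ι) : (∐ fun i => ((V i : U.Opens) : Scheme.{u})) ⟶ U) k := by
  classical
  -- the chain: `Z j` is the complement of the union of the `V i` with `j ≤ i`
  let W : Fin (k + 1) → Set U := fun j => ⋃ i : Fin k, ⋃ _ : (j : ℕ) ≤ (i : ℕ), (V i : Set U)
  have hWopen : ∀ j, IsOpen (W j) := fun j =>
    isOpen_iUnion fun i => isOpen_iUnion fun _ => (V i).isOpen
  have hWcomp : ∀ j, IsCompact (W j) := fun j =>
    isCompact_iUnion fun i => by
      by_cases h : (j : ℕ) ≤ (i : ℕ)
      · simpa [h] using hV i
      · simp [h]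
  have hW0 : W 0 = Set.univ := by
    have h1 : (⋃ i, (V i : Set U)) = Set.univ := by
      have := congrArg (fun O : U.Opens => (O : Set U)) hcov
      simpa using this
    rw [← h1]
    ext x
    simp [W]
  have hWlast : W (Fin.last k) = ∅ := by
    ext x
    simp only [W, Set.mem_iUnion, Set.mem_empty_iff_false, iff_false, not_exists]
    intro i hi _
    have := i.2
    simp only [Fin.val_last] at hi
    omega
  have hWanti : ∀ a b : Fin (k + 1), a ≤ b → W b ⊆ W a := by
    intro a b hab x hx
    simp only [W, Set.mem_iUnion] at hx ⊢
    obtain ⟨i, hi, hxi⟩ := hx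
    exact ⟨i, le_trans (by exact_mod_cast hab) hi, hxi⟩
  have hWsucc : ∀ j : Fin k, W j.castSucc = (V j : Set U) ∪ W j.succ := by
    intro j
    ext x
    simp only [W, Set.mem_iUnion, Set.mem_union, Fin.val_castSucc, Fin.val_succ]
    constructor
    · rintro ⟨i, hi, hxi⟩
      rcases Nat.eq_or_lt_of_le hi with h | h
      · left
        have : j = i := Fin.ext h
        rw [this]; exact hxi
      · right
        exact ⟨i, h, hxi⟩
    · rintro (hx | ⟨i, hi, hxi⟩)
      · exact ⟨j, le_rfl, hx⟩
      · exact ⟨i, by omega, hxi⟩
  refine ⟨?_, fun j => (W j)ᶜ, ?_, ?_, ?_, ?_, ?_⟩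
  · exact IsZariskiLocalAtSource.sigmaDesc (P := @Etale) (fun i => inferInstance)
  · simp [hW0]
  · simp [hWlast]
  · intro a b hab
    exact Set.compl_subset_compl.mpr (hWanti a b hab)
  · intro j
    exact ⟨(hWopen j).isClosed_compl, ((hWcomp j).isConstructible (hWopen j)).compl⟩
  · intro j
    -- the closed subset of `V j` where we take the section
    let C : TopologicalSpace.Closeds ((V j : U.Opens) : Scheme.{u}) :=
      ⟨(V j).ι ⁻¹' (W j.succ)ᶜ, (hWopen j.succ).isClosed_compl.preimage (V j).ι.continuous⟩
    let I := Scheme.IdealSheafData.vanishingIdeal C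
    refine ⟨I.subscheme, I.subschemeι ≫ (V j).ι,
      I.subschemeι ≫ Limits.Sigma.ι (fun i => ((V i : U.Opens) : Scheme.{u})) j,
      inferInstance, ?_, ?_⟩
    · rw [show (Set.range fun t : I.subscheme => (I.subschemeι ≫ (V j).ι) t)
        = Set.range (I.subschemeι ≫ (V j).ι) from rfl]
      rw [Scheme.Hom.comp_base, TopCat.coe_comp, Set.range_comp, I.range_subschemeι,
        Scheme.IdealSheafData.coe_support_vanishingIdeal]
      show (V j).ι '' ((V j).ι ⁻¹' (W j.succ)ᶜ) = (W j.succ)ᶜ \ (W j.castSucc)ᶜ
      rw [Set.image_preimage_eq_inter_range, Scheme.Opens.range_ι, hWsucc j]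
      ext x
      simp only [Set.mem_inter_iff, Set.mem_compl_iff, Set.mem_sdiff, Set.mem_union, not_or,
        not_and, not_not, SetLike.mem_coe]
      tauto
    · rw [Category.assoc, Limits.Sigma.ι_desc]

end Groth.Agent.S17869
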