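import Groth.Statements.S17870
import Mathlib
import Groth.Agent.H89.PerfInd

set_option autoImplicit false
open CategoryTheory
universe u
attribute [local instance] HasDerivedCategory.standard
open Algz

namespace Groth.Agent.S17870

/-- There is a function `F : ℕ → ℕ`, independent of the ring, such that for every commutative ring `R`
and every perfect complex over `R`, given as a bounded complex `E` of finitely generated projective
modules: if `E` locally has size at most `N` (after base change to some Nisnevich cover `Spec B ⟶
Spec R` of length at most `N` it becomes isomorphic in `D(B)` to a complex vanishing outside `[-N,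
N]` whose terms are projective quotients of `B^N`), then it globally has size at most `F N` (it is
isomorphic in `D(R)` to such a complex over `R` with bound `F N`). -/
theorem result :
    ∃ F : ℕ → ℕ, ∀ (R : Type u) [CommRing R] (E : DRing.Cx R) (a b : ℤ),
      DRing.VanishesOutside E a b → DRing.TermwiseFiniteProjective E →
      ∀ N : ℕ, W4c5algebraiztannaka.LocSize E N → W4c5algebraiztannaka.GlobSize R (DRing.toD E) (F N) := by
  refine ⟨fun N => max (N + 1) (Groth.Agent.H89.PerfInd.G N (2 * N + 2)), ?_⟩
  intro R _ E a b hE hfp N hloc
  obtain ⟨B, instB, φ, hcov, P, hP, ⟨θ⟩⟩ := hloc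
  let alg : Algebra R B := φ.toAlgebra
  have hff : (algebraMap R B).FaithfullyFlat :=
    Groth.Agent.H89.PerfBC.faithfullyFlat_of_nisCover φ N hcov
  exact Groth.Agent.H89.PerfInd.globSize_of_local E N P hP θ hff b (fun i hi => hE i (Or.inr hi))
    hfp hcov

end Groth.Agent.S17870
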