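import Groth.Statements.S17871
import Mathlib
import Groth.Agent.S17856
import Groth.Agent.H89.PiFP
import Groth.Agent.H89.PiSections
import Groth.Agent.H44.PullbackAffine
import Groth.Agent.H44.FPSections
import Groth.Agent.H44.FpqcFP

set_option autoImplicit false
open CategoryTheory AlgebraicGeometry Opposite
universe u
open Algz

namespace Groth.Agent.S17871

set_option backward.isDefEq.respectTransparency false in
/-- Let `X` be a quasi-compact quasi-separated scheme, `A i` a family of commutative rings indexed by an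
arbitrary type together with morphisms `f i : Spec (A i) ⟶ X`, and `F` an `O_X`-module locally of
finite presentation (a finitely presented quasi-coherent sheaf). Then the product over `i` of the
modules of global sections of the pullbacks `(f i)^* F` is a finitely presented module over the
product of the rings of global sections `Γ(Spec (A i), O)` (that is, over `Π i, A i`). The point is
that the index set may be infinite. -/
theorem result (X : Scheme.{u}) [CompactSpace X] [QuasiSeparatedSpace X]
    {ι : Type u} (A : ι → CommRingCat.{u}) (f : ∀ i, Spec (A i) ⟶ X) (F : X.Modules) (hF : CohB1.IsFP F) :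
    Module.FinitePresentation (∀ i, Γ(Spec (A i), ⊤))
      (∀ i, Γ((Scheme.Modules.pullback (f i)).obj F, ⊤)) := by
  obtain ⟨h, hh⟩ := (Groth.Agent.S17856.result X A).2 f
  let B : CommRingCat.{u} := CommRingCat.of (∀ i, A i)
  let π : ∀ i, Spec (A i) ⟶ Spec B := fun i =>
    Spec.map (CommRingCat.ofHom (Pi.evalRingHom (fun j => (A j : Type u)) i))
  have hπ : ∀ i, π i ≫ h = f i := fun i => congrFun hh i
  let G : (Spec B).Modules := (Scheme.Modules.pullback h).obj F
  have hF' : SheafOfModules.IsFinitePresentation (R := X.ringCatSheaf) F := hF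
  have hG : SheafOfModules.IsFinitePresentation (R := (Spec B).ringCatSheaf) G :=
    Groth.Agent.H44.isFinitePresentation_pullback h F
  have hGq : G.IsQuasicoherent := inferInstance
  have hP' : Module.FinitePresentation Γ(Spec B, ⊤) Γ(G, ⊤) :=
    Groth.Agent.H44.finitePresentation_sections_of_isFinitePresentation G (isAffineOpen_top _)
  let alg : ∀ i, Algebra Γ(Spec B, ⊤) Γ(Spec (A i), ⊤) := fun i =>
    ((π i).appLE ⊤ ⊤ le_top).hom.toAlgebra
  have key := Groth.Agent.H89.PiFP.finitePresentation_pi_tensor Γ(Spec B, ⊤)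
    (fun i => Γ(Spec (A i), ⊤)) Γ(G, ⊤)
  let iso : ∀ i, (Scheme.Modules.pullback (f i)).obj F ≅ (Scheme.Modules.pullback (π i)).obj G :=
    fun i => (Scheme.Modules.pullbackCongr (hπ i).symm).app F ≪≫
      ((Scheme.Modules.pullbackComp (π i) h).app F).symm
  let e1 : ∀ i, Γ((Scheme.Modules.pullback (f i)).obj F, ⊤) ≃ₗ[Γ(Spec (A i), ⊤)]
      Γ((Scheme.Modules.pullback (π i)).obj G, ⊤) := fun i => Groth.Agent.H89.PiSections.sectionsEquivOfIso (iso i) ⊤
  let e2 : ∀ i, Γ((Scheme.Modules.pullback (π i)).obj G, ⊤) ≃ₗ[Γ(Spec (A i), ⊤)]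
      TensorProduct Γ(Spec B, ⊤) Γ(Spec (A i), ⊤) Γ(G, ⊤) := fun i =>
    Groth.Agent.H44.pullbackSectionsEquiv (π i) G (isAffineOpen_top _) (isAffineOpen_top _) le_top
  let E := Groth.Agent.H89.PiSections.piEquiv (fun i => Γ(Spec (A i), ⊤)) _ _ (fun i => (e1 i).trans (e2 i))
  exact Module.FinitePresentation.of_equiv E.symm


end Groth.Agent.S17871
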