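import Groth.Statements.S17881

set_option autoImplicit false
universe u
open CAlg

namespace Groth.Agent.S17881

/-- Let O be a subring of a nontrivial commutative ring A. The following are equivalent: (i) A is a
local ring, every non-unit of A belongs to O, and for every unit u of A one of u, u⁻¹ belongs to O —
equivalently O is the preimage in the local ring A of a valuation ring of the residue field of A,
which makes O a semi-valuation ring with semi-fraction ring A; (ii) for all f, g in A generating the
unit ideal, either f ∈ gO or g ∈ fO. (A is taken nontrivial: over the zero ring (ii) holds and (i)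
fails.) -/
theorem result (A : Type u) [CommRing A] [Nontrivial A]
    (O : Subring A) :
    (IsLocalRing A ∧ (∀ a : A, ¬ IsUnit a → a ∈ O) ∧ (∀ u : Aˣ, (u : A) ∈ O ∨ ((u⁻¹ : Aˣ) : A) ∈ O)) ↔
      ∀ f g : A, IsCoprime f g → (∃ o ∈ O, f = g * o) ∨ (∃ o ∈ O, g = f * o) := by
  constructor
  · rintro ⟨hloc, hnu, hu⟩ f g hfg
    have hfg' : IsUnit f ∨ IsUnit g := by
      obtain ⟨a, b, hab⟩ := hfg
      rcases IsLocalRing.isUnit_or_isUnit_of_add_one hab with h | h
      · exact Or.inl (isUnit_of_mul_isUnit_right h)
      · exact Or.inr (isUnit_of_mul_isUnit_right h)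
    by_cases hf : IsUnit f
    · by_cases hg : IsUnit g
      · obtain ⟨uf, rfl⟩ := hf
        obtain ⟨ug, rfl⟩ := hg
        rcases hu (ug⁻¹ * uf) with h | h
        · left
          refine ⟨_, h, ?_⟩
          simp
        · right
          refine ⟨_, h, ?_⟩
          simp
      · right
        obtain ⟨uf, rfl⟩ := hf
        refine ⟨((uf⁻¹ : Aˣ) : A) * g, hnu _ ?_, ?_⟩
        · intro h
          apply hg
          have := (Units.isUnit uf).mul h
          simpa using this
        · simp
    · have hg : IsUnit g := hfg'.resolve_left hf
      left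
      obtain ⟨ug, rfl⟩ := hg
      refine ⟨((ug⁻¹ : Aˣ) : A) * f, hnu _ ?_, ?_⟩
      · intro h
        apply hf
        have := (Units.isUnit ug).mul h
        simpa using this
      · simp
  · intro h
    refine ⟨?_, ?_, ?_⟩
    · refine IsLocalRing.of_isUnit_or_isUnit_one_sub_self ?_
      intro a
      have hc : IsCoprime a (1 - a) := ⟨1, 1, by ring⟩
      rcases h a (1 - a) hc with ⟨o, -, ho⟩ | ⟨o, -, ho⟩
      · right
        refine IsUnit.of_mul_eq_one (1 + o) ?_
        calc (1 - a) * (1 + o) = (1 - a) + (1 - a) * o := by ring
          _ = (1 - a) + a := by rw [← ho]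
          _ = 1 := by ring
      · left
        refine IsUnit.of_mul_eq_one (1 + o) ?_
        calc a * (1 + o) = a + a * o := by ring
          _ = a + (1 - a) := by rw [← ho]
          _ = 1 := by ring
    · intro a ha
      have hc : IsCoprime a 1 := isCoprime_one_right
      rcases h a 1 hc with ⟨o, ho, hao⟩ | ⟨o, ho, hao⟩
      · rw [hao, one_mul]; exact ho
      · exact absurd (IsUnit.of_mul_eq_one o hao.symm) ha
    · intro u
      have hc : IsCoprime (u : A) 1 := isCoprime_one_right
      rcases h u 1 hc with ⟨o, ho, hao⟩ | ⟨o, ho, hao⟩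
      · left; rw [hao, one_mul]; exact ho
      · right
        have : ((u⁻¹ : Aˣ) : A) = o := by
          rw [Units.inv_eq_of_mul_eq_one_right hao.symm]
        rw [this]; exact ho

end Groth.Agent.S17881
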