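import Groth.Statements.S17882
import Mathlib

set_option autoImplicit false
universe u
open CAlg

namespace Groth.Agent.S17882

open Matrix in
/-- Let B be a commutative ring, r ≥ 1, N a finitely generated submodule of B^r, and n_1, …, n_r ∈ N.
Suppose the determinant of the matrix with rows n_1, …, n_r is a nonzerodivisor of B and that the
determinant of every matrix whose rows lie in N is a multiple of it (the image of the top exterior
power of N in that of B^r ≅ B is the principal ideal generated by n_1 ∧ ⋯ ∧ n_r, a nonzerodivisor).
Then n_1, …, n_r are linearly independent over B and span N: N is free of rank r with this basis. -/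
theorem result (B : Type u) [CommRing B] (r : ℕ) (hr : 0 < r)
    (N : Submodule B (Fin r → B)) (hN : N.FG) (n : Fin r → (Fin r → B)) (hn : ∀ i, n i ∈ N)
    (hgen : ∀ m : Fin r → (Fin r → B), (∀ i, m i ∈ N) →
      Matrix.det (Matrix.of m) ∈ Ideal.span {Matrix.det (Matrix.of n)})
    (hnzd : Matrix.det (Matrix.of n) ∈ nonZeroDivisors B) :
    LinearIndependent B n ∧ Submodule.span B (Set.range n) = N := by
  classical
  set M : Matrix (Fin r) (Fin r) B := Matrix.of n with hM
  set d := M.det with hd
  have hcomb : ∀ c : Fin r → B, ∑ i, c i • n i = Mᵀ *ᵥ c := by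
    intro c
    ext j
    simp [Matrix.mulVec, dotProduct, hM, mul_comm]
  constructor
  · rw [Fintype.linearIndependent_iff]
    intro c hc
    rw [hcomb] at hc
    have h1 : Mᵀ.adjugate *ᵥ (Mᵀ *ᵥ c) = d • c := by
      rw [Matrix.mulVec_mulVec, Matrix.adjugate_mul, Matrix.smul_mulVec, Matrix.one_mulVec,
        Matrix.det_transpose]
    rw [hc, Matrix.mulVec_zero] at h1
    intro i
    have h2 : d * c i = 0 := by
      have := congrFun h1 i
      simpa using this.symm
    rw [mul_comm] at h2
    exact hnzd.2 _ h2
  · apply le_antisymm
    · rw [Submodule.span_le]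
      rintro _ ⟨i, rfl⟩
      exact hn i
    · intro x hx
      -- Cramer's rule
      have ht : ∀ i, ∃ t : B, (M.updateRow i x).det = d * t := by
        intro i
        have hrows : ∀ k, Function.update n i x k ∈ N := by
          intro k
          by_cases hk : k = i
          · subst hk; simpa using hx
          · simpa [Function.update_of_ne hk] using hn k
        have := hgen (Function.update n i x) hrows
        rw [Ideal.mem_span_singleton'] at this
        obtain ⟨t, ht⟩ := this
        exact ⟨t, by rw [mul_comm, ht]; rfl⟩
      choose t ht using ht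
      have h1 : Mᵀ *ᵥ Matrix.cramer Mᵀ x = d • x := by
        rw [Matrix.mulVec_cramer, Matrix.det_transpose]
      have h2 : Matrix.cramer Mᵀ x = d • t := by
        ext i
        rw [Matrix.cramer_transpose_apply, ht i]
        rfl
      rw [h2, Matrix.mulVec_smul] at h1
      have h3 : Mᵀ *ᵥ t = x := by
        ext j
        have := congrFun h1 j
        simp only [Pi.smul_apply, smul_eq_mul] at this
        have h4 : (Mᵀ *ᵥ t - x) j * d = 0 := by
          rw [Pi.sub_apply, sub_mul, mul_comm, this, mul_comm, sub_self]
        have := hnzd.2 _ h4
        rw [Pi.sub_apply, sub_eq_zero] at this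
        exact this
      rw [← h3, ← hcomb]
      exact Submodule.sum_mem _ fun i _ => Submodule.smul_mem _ _ (Submodule.subset_span ⟨i, rfl⟩)

end Groth.Agent.S17882
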