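import Groth.Statements.S17886
import Mathlib
import Groth.Agent.H89.DenseAffine
import Groth.Agent.S2337

set_option autoImplicit false
universe u
open CategoryTheory AlgebraicGeometry
open FlatMor

namespace Groth.Agent.S17886

/-- Let S be a Noetherian scheme and f : X → S separated and of finite type. Then X is covered by
finitely many affine opens U_1, …, U_n each of which is dense in X and quasi-projective over S (of
finite type with a relatively ample invertible module). -/
theorem result {S X : Scheme.{u}} (f : X ⟶ S)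
    [IsNoetherian S] [IsSeparated f] [QuasiCompact f] [LocallyOfFiniteType f] :
    ∃ (n : ℕ) (U : Fin n → X.Opens), (⨆ i, U i) = ⊤ ∧
      ∀ i, IsAffineOpen (U i) ∧ Dense ((U i : Set X)) ∧ RelProj.IsQuasiProjective ((U i).ι ≫ f) := by
  have hln : IsLocallyNoetherian X := LocallyOfFiniteType.isLocallyNoetherian f
  have hcs : CompactSpace X := QuasiCompact.compactSpace_of_compactSpace f
  have hN : IsNoetherian X := { }
  choose U hU using Groth.Agent.H89.DenseAffine.exists_dense_affine X
  obtain ⟨t, ht⟩ := isCompact_univ.elim_finite_subcover (fun x => ((U x : X.Opens) : Set X))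
    (fun x => (U x).isOpen) (fun x _ => Set.mem_iUnion.2 ⟨x, (hU x).2.1⟩)
  refine ⟨t.card, fun i => U (t.equivFin.symm i).1, ?_, fun i => ?_⟩
  · rw [eq_top_iff]
    intro x _
    obtain ⟨y, hy⟩ := Set.mem_iUnion.1 (ht (Set.mem_univ x))
    obtain ⟨hyt, hxy⟩ := Set.mem_iUnion.1 hy
    rw [TopologicalSpace.Opens.mem_iSup]
    refine ⟨t.equivFin ⟨y, hyt⟩, ?_⟩
    change x ∈ U (t.equivFin.symm (t.equivFin ⟨y, hyt⟩)).1
    rw [Equiv.symm_apply_apply]
    exact hxy
  · set V := U (t.equivFin.symm i).1 with hV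
    have hVa : IsAffineOpen V := (hU _).1
    refine ⟨hVa, (hU _).2.2, ?_⟩
    have : IsAffine (V : Scheme.{u}) := hVa
    have hlnV : IsLocallyNoetherian (V : Scheme.{u}) := isLocallyNoetherian_of_isOpenImmersion V.ι
    have hNV : IsNoetherian (V : Scheme.{u}) := { }
    have hqc : QuasiCompact (V.ι ≫ f) := inferInstance
    refine ⟨inferInstance, hqc, Coh.structureModule (V : Scheme.{u}), ?_⟩
    refine (Groth.Agent.S2337.result (V.ι ≫ f)).1 ⟨hqc, fun W hW => ?_⟩
    have hc : IsCompact ((((V.ι ≫ f) ⁻¹ᵁ W) : (V : Scheme.{u}).Opens) : Set (V : Scheme.{u})) :=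
      TopologicalSpace.NoetherianSpace.isCompact _
    have : CompactSpace ((V.ι ≫ f) ⁻¹ᵁ W : Scheme.{u}) := isCompact_iff_compactSpace.1 hc
    exact Scheme.IsQuasiAffine.of_isImmersion ((V.ι ≫ f) ⁻¹ᵁ W).ι

end Groth.Agent.S17886
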