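import Groth.Statements.S17887
import Groth.Agent.H8.BlowUpAss
import Groth.Agent.H8.RegMero

set_option autoImplicit false
universe u
open CategoryTheory AlgebraicGeometry
open BlowUp

namespace Groth.Agent.S17887

open Groth.Agent.H8 Curv2

/-- A schematically dominant open subscheme is schematically dense in the section-wise sense. -/
lemma schemDense_of_dominant {X : Scheme.{u}} (U : X.Opens) [IsSchemeTheoreticallyDominant U.ι]
    [QuasiCompact U.ι] : SchemDense (⊤ : X.Opens) U := by
  intro W _
  have h := Scheme.Hom.app_injective U.ι W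
  rw [Scheme.Opens.ι_app] at h
  intro a b hab
  apply h
  have hle : U.ι ''ᵁ (U.ι ⁻¹ᵁ W) ≤ W ⊓ U := by
    rw [Scheme.Hom.image_preimage_eq_opensRange_inf]
    simp [inf_comm]
  have := congrArg (X.presheaf.map (homOfLE hle).op) hab
  simp only [← CategoryTheory.comp_apply, ← Functor.map_comp] at this
  exact this

/-- Conversely, section-wise schematic density gives schematic dominance. -/
lemma dominant_of_schemDense {X : Scheme.{u}} (U : X.Opens) (h : SchemDense (⊤ : X.Opens) U) :
    IsSchemeTheoreticallyDominant U.ι := by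
  refine ⟨?_⟩
  rw [eq_bot_iff]
  intro V
  refine (Scheme.Hom.ideal_ker_le U.ι V).trans ?_
  rw [Scheme.IdealSheafData.ideal_bot, Pi.bot_apply, le_bot_iff,
    ← RingHom.injective_iff_ker_eq_bot]
  have hle : V.1 ⊓ U ≤ U.ι ''ᵁ (U.ι ⁻¹ᵁ V.1) := by
    rw [Scheme.Hom.image_preimage_eq_opensRange_inf]
    simp [inf_comm]
  have h1 := h V.1 le_top
  rw [Scheme.Opens.ι_app]
  intro a b hab
  apply h1
  have e : ∀ c : Γ(X, V.1), X.presheaf.map (homOfLE hle).op
      (X.presheaf.map (homOfLE (x := U.ι ''ᵁ U.ι ⁻¹ᵁ V.1)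
        (Set.image_preimage_subset _ _)).op c) =
      X.presheaf.map (homOfLE (inf_le_left : V.1 ⊓ U ≤ V.1)).op c := fun c => by
    rw [← CommRingCat.comp_apply, ← Functor.map_comp]; rfl
  rw [← e a, ← e b]
  exact congrArg _ hab


/-- Let X be a Noetherian scheme, U ⊆ X an open subscheme that is schematically dense in X, I a
quasi-coherent ideal sheaf on X whose support does not meet U, and π : X' → X a blowing-up of X
along I. Then π⁻¹(U) is schematically dense in X'. -/
theorem result {X X' : Scheme.{u}} [IsNoetherian X]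
    (U : X.Opens) [IsSchemeTheoreticallyDominant U.ι] (𝓘 : X.IdealSheafData)
    (hU : Disjoint (𝓘.support : Set X) (U : Set X)) (π : X' ⟶ X) (hπ : BlowUp.IsBlowUp π 𝓘) :
    IsSchemeTheoreticallyDominant (π ⁻¹ᵁ U).ι := by
  have hX : LocFinWeakAss X := locFinWeakAss_of_isLocallyNoetherian X
  have hd : SchemDense (⊤ : X.Opens) U := schemDense_of_dominant U
  apply dominant_of_schemDense
  apply schemDense_of_weakAss_subset
  intro x' _ hx'
  obtain ⟨-, -, hw⟩ := blowUp_weakAss hπ hx'
  obtain ⟨W₀, hxW₀, hfin⟩ := hX (π x')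
  obtain ⟨_, ⟨W, hW, rfl⟩, hxW, hWW₀⟩ :=
    X.isBasis_affineOpens.exists_subset_of_mem_open hxW₀ W₀.isOpen
  have hW : IsAffineOpen W := hW
  exact mem_of_schemDense_of_weakAss hd hW le_top (hfin W hW hWW₀) hxW hw

end Groth.Agent.S17887
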