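import Groth.Statements.S17889
import Groth.Agent.H96.NagataSep4
import Groth.Agent.H19.ComapAff
-- import your own Groth.Agent.* helpers here

set_option autoImplicit false
universe u
open CategoryTheory AlgebraicGeometry TopologicalSpace
open BlowUp

namespace Groth.Agent.S17889

/-- Let X be a Noetherian scheme, X₀ ⊆ X an open subscheme, p : Z → X a morphism of finite type with Z
Noetherian, and F ⊆ X, G ⊆ Z closed subsets with p⁻¹(F ∩ X₀) ∩ G = ∅. Let a be a quasi-coherent
ideal sheaf on X whose support does not meet X₀, which contains the vanishing ideal I_F of F, and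
which is contained in the kernel ideal of V(I_F·O_Z + I_G) → Z → X (the ideal of the
scheme-theoretic image under p of p⁻¹(F) ∩ G). Let π : X' → X be a blowing-up along a, Z' = Z ×_X X'
with projections π' : Z' → Z and p' : Z' → X'. Then p'⁻¹ of the closure in X' of π⁻¹(F ∩ X₀) is
disjoint from the closure in Z' of π'⁻¹(G ∩ p⁻¹(X₀)). Taking a to be that kernel ideal shows such an
a exists. -/
theorem result
    {X Z : Scheme.{u}} [IsNoetherian X] [IsNoetherian Z] (p : Z ⟶ X) [LocallyOfFiniteType p]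
    (X₀ : X.Opens) (F : Closeds X) (G : Closeds Z)
    (hFG : p.base ⁻¹' ((F : Set X) ∩ (X₀ : Set X)) ∩ (G : Set Z) = ∅)
    (𝔞 : X.IdealSheafData) (h₁ : Disjoint (𝔞.support : Set X) (X₀ : Set X))
    (h₂ : Scheme.IdealSheafData.vanishingIdeal F ≤ 𝔞)
    (h₃ : 𝔞 ≤ (((Scheme.IdealSheafData.vanishingIdeal F).comap p ⊔
      Scheme.IdealSheafData.vanishingIdeal G).subschemeι ≫ p).ker)
    {X' : Scheme.{u}} (π : X' ⟶ X) (hπ : BlowUp.IsBlowUp π 𝔞) :
    (Limits.pullback.snd p π).base ⁻¹' closure (π.base ⁻¹' ((F : Set X) ∩ (X₀ : Set X))) ∩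
      closure ((Limits.pullback.fst p π).base ⁻¹' ((G : Set Z) ∩ (p ⁻¹ᵁ X₀ : Set Z))) = ∅ := by
  classical
  rw [Set.eq_empty_iff_forall_notMem]
  rintro z' ⟨hz2, hz1⟩
  set fst := Limits.pullback.fst p π with hfst
  set snd := Limits.pullback.snd p π with hsnd
  have hcondZ : fst ≫ p = snd ≫ π := Limits.pullback.condition
  have hptZ : ∀ w, p (fst w) = π (snd w) := fun w => by
    rw [← Scheme.Hom.comp_apply, ← Scheme.Hom.comp_apply, hcondZ]
  have hz2' : snd z' ∈ closure ((fun x' => π x') ⁻¹' ((F : Set X) ∩ (X₀ : Set X))) := hz2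
  obtain ⟨N, hxN, t, ht, hE⟩ := hπ.1 (snd z')
  have hSI : (fun x' => π x') ⁻¹' ((F : Set X) ∩ (X₀ : Set X)) ⊆
      (((Scheme.IdealSheafData.vanishingIdeal F).comap π).support : Set X') := by
    intro x' hx'
    rw [SetLike.mem_coe, Scheme.IdealSheafData.support_comap]
    change π x' ∈ ((Scheme.IdealSheafData.vanishingIdeal F).support : Set X)
    rw [Scheme.IdealSheafData.coe_support_vanishingIdeal]
    exact hx'.1
  have hSE : Disjoint ((fun x' => π x') ⁻¹' ((F : Set X) ∩ (X₀ : Set X)))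
      ((𝔞.comap π).support : Set X') := by
    rw [Set.disjoint_left]
    intro x' hx' hx''
    rw [SetLike.mem_coe, Scheme.IdealSheafData.support_comap] at hx''
    exact Set.disjoint_left.mp h₁ hx'' hx'.2
  have hcolon : ∀ a : Γ(X', N.1), t * a ∈ ((Scheme.IdealSheafData.vanishingIdeal F).comap π).ideal N →
      snd z' ∉ X'.basicOpen a := fun a ha =>
    Groth.Agent.H96.NagataSep.notMem_basicOpen_of_mul_mem _
      ((Scheme.IdealSheafData.vanishingIdeal F).comap π) N t hE _ hSI hSE _ hz2' a ha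
  have hKle : ((Scheme.IdealSheafData.vanishingIdeal F).comap π).ideal N ≤ Ideal.span {t} := by
    rw [← hE]
    exact Scheme.IdealSheafData.comap_mono π h₂ N
  have hzM : z' ∈ snd ⁻¹ᵁ N.1 := hxN
  obtain ⟨_, ⟨M, hM, rfl⟩, hzM', hMN0⟩ :=
    (Limits.pullback p π).isBasis_affineOpens.exists_subset_of_mem_open hzM (snd ⁻¹ᵁ N.1).2
  have hMN : M ≤ snd ⁻¹ᵁ N.1 := hMN0
  have h3a : 𝔞.comap p ≤ (Scheme.IdealSheafData.vanishingIdeal F).comap p ⊔
      Scheme.IdealSheafData.vanishingIdeal G :=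
    Scheme.IdealSheafData.le_map_iff_comap_le.mp h₃
  have h3 : (𝔞.comap p).comap fst ≤
      ((Scheme.IdealSheafData.vanishingIdeal F).comap p).comap fst ⊔
        (Scheme.IdealSheafData.vanishingIdeal G).comap fst := by
    have h := Scheme.IdealSheafData.comap_mono fst h3a
    simp only at h
    rwa [Scheme.IdealSheafData.comap_sup] at h
  have e2 : (𝔞.comap p).comap fst = (𝔞.comap π).comap snd := by
    rw [← Scheme.IdealSheafData.comap_comp, ← Scheme.IdealSheafData.comap_comp, hcondZ]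
  have e1 : ((Scheme.IdealSheafData.vanishingIdeal F).comap p).comap fst =
      ((Scheme.IdealSheafData.vanishingIdeal F).comap π).comap snd := by
    rw [← Scheme.IdealSheafData.comap_comp, ← Scheme.IdealSheafData.comap_comp, hcondZ]
  rw [e1, e2] at h3
  have h4 := h3 ⟨M, hM⟩
  rw [Groth.Agent.H19.ComapAff.ideal_comap_appLE snd (𝔞.comap π) N ⟨M, hM⟩ hMN,
    hE, Ideal.map_span, Set.image_singleton] at h4
  have h5 : snd.appLE N.1 M hMN t ∈
      (((Scheme.IdealSheafData.vanishingIdeal F).comap π).ideal N).map (snd.appLE N.1 M hMN).hom ⊔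
        ((Scheme.IdealSheafData.vanishingIdeal G).comap fst).ideal ⟨M, hM⟩ := by
    have h6 := h4 (Ideal.mem_span_singleton_self _)
    have e3 := Groth.Agent.H19.ComapAff.ideal_comap_appLE snd
      ((Scheme.IdealSheafData.vanishingIdeal F).comap π) N ⟨M, hM⟩ hMN
    change _ ∈ (((Scheme.IdealSheafData.vanishingIdeal F).comap π).comap snd).ideal ⟨M, hM⟩ ⊔
      ((Scheme.IdealSheafData.vanishingIdeal G).comap fst).ideal ⟨M, hM⟩ at h6
    rw [e3] at h6
    exact h6
  obtain ⟨j, hj, hjk⟩ := Groth.Agent.H96.NagataSep.exists_mul_one_sub_mem'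
    (snd.appLE N.1 M hMN).hom t _ hKle _ h5
  have h9 : z' ∉ (Limits.pullback p π).basicOpen j :=
    Groth.Agent.H96.NagataSep.notMem_basicOpen_of_mem_map snd N.1 M hMN _ z'
      (fun a ha hza => hcolon a ((Groth.Agent.H96.NagataSep.mem_colon1 _ t a).mp ha) hza) j hj
  have h10 : z' ∈ (Limits.pullback p π).basicOpen (1 - j) := by
    have h11 : z' ∈ (Limits.pullback p π).basicOpen ((1 - j) + j) := by
      rw [sub_add_cancel, Scheme.basicOpen_one]
      exact hzM'
    rcases Scheme.basicOpen_add_le _ _ _ h11 with h | h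
    · exact h
    · exact absurd h h9
  obtain ⟨w, hw1, hw2⟩ := mem_closure_iff.mp hz1 ((Limits.pullback p π).basicOpen (1 - j))
    ((Limits.pullback p π).basicOpen (1 - j)).2 h10
  have hwM : w ∈ M := (Limits.pullback p π).basicOpen_le _ hw1
  have hwG : fst w ∈ (G : Set Z) := hw2.1
  have hwX₀ : p (fst w) ∈ X₀ := hw2.2
  have h12 : w ∈ ((Scheme.IdealSheafData.vanishingIdeal G).comap fst).support := by
    rw [Scheme.IdealSheafData.support_comap]
    change fst w ∈ ((Scheme.IdealSheafData.vanishingIdeal G).support : Set Z)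
    rw [Scheme.IdealSheafData.coe_support_vanishingIdeal]
    exact hwG
  rw [Scheme.IdealSheafData.mem_support_iff_of_mem (U := ⟨M, hM⟩) hwM,
    Scheme.mem_zeroLocus_iff] at h12
  have h13 := h12 _ hjk
  rw [Scheme.basicOpen_mul] at h13
  have h14 : w ∉ (Limits.pullback p π).basicOpen (snd.appLE N.1 M hMN t) :=
    fun h => h13 ⟨h, hw1⟩
  rw [Scheme.basicOpen_appLE] at h14
  have h15 : snd w ∉ X'.basicOpen t := fun h => h14 ⟨hwM, h⟩
  have h16 : snd w ∈ (𝔞.comap π).support :=
    Groth.Agent.H96.NagataSep.mem_support_of_notMem_basicOpen _ N t hE _ (hMN hwM) h15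
  rw [Scheme.IdealSheafData.support_comap] at h16
  have h17 : π (snd w) ∈ 𝔞.support := h16
  rw [← hptZ] at h17
  exact Set.disjoint_left.mp h₁ h17 hwX₀

end Groth.Agent.S17889
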