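import Groth.Statements.S17890
import Groth.Agent.H96.GlueTwo
-- import your own Groth.Agent.* helpers here

set_option autoImplicit false
universe u
open CategoryTheory AlgebraicGeometry
open FlatMor

namespace Groth.Agent.S17890

/-- Let S be a Noetherian scheme, X₁ and X₂ separated S-schemes of finite type, and j₁ : U → X₁, j₂ : U
→ X₂ open immersions over S with schematically dense images. Suppose X₁ quasi-dominates X₂ and X₂
quasi-dominates X₁ compatibly with U: there are schematically dense opens W₁ ⊆ X₁ and W₂ ⊆ X₂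
through which j₁, j₂ factor, and S-morphisms φ : W₁ → X₂, ψ : W₂ → X₁ restricting to j₂ and j₁ on U,
whose graphs are closed subsets of X₁ ×_S X₂ and X₂ ×_S X₁. Then there exist a separated S-scheme Y
of finite type and open immersions i₁ : X₁ → Y, i₂ : X₂ → Y over S with j₁ ≫ i₁ = j₂ ≫ i₂, such that
U → Y has schematically dense image. -/
theorem result {S X₁ X₂ U : Scheme.{u}} [IsNoetherian S]
    (p₁ : X₁ ⟶ S) (p₂ : X₂ ⟶ S) [IsSeparated p₁] [QuasiCompact p₁] [LocallyOfFiniteType p₁]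
    [IsSeparated p₂] [QuasiCompact p₂] [LocallyOfFiniteType p₂]
    (j₁ : U ⟶ X₁) (j₂ : U ⟶ X₂) [IsOpenImmersion j₁] [IsOpenImmersion j₂]
    [IsSchemeTheoreticallyDominant j₁] [IsSchemeTheoreticallyDominant j₂] (hj : j₁ ≫ p₁ = j₂ ≫ p₂)
    (W₁ : X₁.Opens) [IsSchemeTheoreticallyDominant W₁.ι] (φ : (↑W₁ : Scheme.{u}) ⟶ X₂)
    (hφ : W₁.ι ≫ p₁ = φ ≫ p₂)
    (hφc : IsClosed (Set.range (fun w => (Limits.pullback.lift W₁.ι φ hφ) w)))
    (k₁ : U ⟶ ↑W₁) (hk₁ : k₁ ≫ W₁.ι = j₁) (hk₁' : k₁ ≫ φ = j₂)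
    (W₂ : X₂.Opens) [IsSchemeTheoreticallyDominant W₂.ι] (ψ : (↑W₂ : Scheme.{u}) ⟶ X₁)
    (hψ : W₂.ι ≫ p₂ = ψ ≫ p₁)
    (hψc : IsClosed (Set.range (fun w => (Limits.pullback.lift W₂.ι ψ hψ) w)))
    (k₂ : U ⟶ ↑W₂) (hk₂ : k₂ ≫ W₂.ι = j₂) (hk₂' : k₂ ≫ ψ = j₁) :
    ∃ (Y : Scheme.{u}) (q : Y ⟶ S) (i₁ : X₁ ⟶ Y) (i₂ : X₂ ⟶ Y), IsSeparated q ∧ QuasiCompact q ∧
      LocallyOfFiniteType q ∧ IsOpenImmersion i₁ ∧ IsOpenImmersion i₂ ∧ i₁ ≫ q = p₁ ∧ i₂ ≫ q = p₂ ∧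
      j₁ ≫ i₁ = j₂ ≫ i₂ ∧ QuasiCompact (j₁ ≫ i₁) ∧ IsSchemeTheoreticallyDominant (j₁ ≫ i₁) := by
  classical
  have : IsLocallyNoetherian X₁ := LocallyOfFiniteType.isLocallyNoetherian p₁
  have : IsLocallyNoetherian X₂ := LocallyOfFiniteType.isLocallyNoetherian p₂
  have : CompactSpace X₁ := QuasiCompact.compactSpace_of_compactSpace p₁
  have : CompactSpace X₂ := QuasiCompact.compactSpace_of_compactSpace p₂
  have : IsNoetherian X₁ := {}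
  have : IsNoetherian X₂ := {}
  have : TopologicalSpace.NoetherianSpace U := j₁.isOpenEmbedding.isInducing.noetherianSpace
  have : IsSchemeTheoreticallyDominant (k₁ ≫ W₁.ι) := by rw [hk₁]; infer_instance
  have : IsSchemeTheoreticallyDominant (k₂ ≫ W₂.ι) := by rw [hk₂]; infer_instance
  have hk₁d : IsSchemeTheoreticallyDominant k₁ :=
    Groth.Agent.H96.GlueTwo.isSchemeTheoreticallyDominant_of_comp_mono k₁ W₁.ι
  have hk₂d : IsSchemeTheoreticallyDominant k₂ :=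
    Groth.Agent.H96.GlueTwo.isSchemeTheoreticallyDominant_of_comp_mono k₂ W₂.ι
  have hd₁ : DenseRange k₁ := k₁.denseRange
  have hd₂ : DenseRange k₂ := k₂.denseRange
  have hφW : ∀ w, φ w ∈ W₂ :=
    Groth.Agent.H96.GlueTwo.apply_mem_of_isClosed_graph p₁ p₂ j₁ j₂ W₁ φ hφ k₁ hk₁ hk₁' hd₁
      W₂ ψ hψ hψc k₂ hk₂ hk₂'
  have hψW : ∀ w, ψ w ∈ W₁ :=
    Groth.Agent.H96.GlueTwo.apply_mem_of_isClosed_graph p₂ p₁ j₂ j₁ W₂ ψ hψ k₂ hk₂ hk₂' hd₂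
      W₁ φ hφ hφc k₁ hk₁ hk₁'
  have hφr : Set.range φ ⊆ Set.range W₂.ι := by
    rintro _ ⟨w, rfl⟩
    rw [Scheme.Opens.range_ι]
    exact hφW w
  have hψr : Set.range ψ ⊆ Set.range W₁.ι := by
    rintro _ ⟨w, rfl⟩
    rw [Scheme.Opens.range_ι]
    exact hψW w
  have hφ' : IsOpenImmersion.lift W₂.ι φ hφr ≫ W₂.ι = φ := IsOpenImmersion.lift_fac _ _ _
  have hψ' : IsOpenImmersion.lift W₁.ι ψ hψr ≫ W₁.ι = ψ := IsOpenImmersion.lift_fac _ _ _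
  have hkφ : k₁ ≫ IsOpenImmersion.lift W₂.ι φ hφr = k₂ := by
    rw [← cancel_mono W₂.ι, Category.assoc, hφ', hk₁', hk₂]
  have hkψ : k₂ ≫ IsOpenImmersion.lift W₁.ι ψ hψr = k₁ := by
    rw [← cancel_mono W₁.ι, Category.assoc, hψ', hk₂', hk₁]
  have h12 : IsOpenImmersion.lift W₂.ι φ hφr ≫ IsOpenImmersion.lift W₁.ι ψ hψr = 𝟙 _ := by
    rw [← cancel_mono W₁.ι, Category.assoc, hψ', Category.id_comp]
    refine Groth.Agent.H96.GlueTwo.ext_of_isSchemeTheoreticallyDominant p₁ ?_ k₁ ?_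
    · rw [Category.assoc, ← hψ, ← Category.assoc, hφ', hφ]
    · rw [← Category.assoc, hkφ, hk₂', hk₁]
  have h21 : IsOpenImmersion.lift W₁.ι ψ hψr ≫ IsOpenImmersion.lift W₂.ι φ hφr = 𝟙 _ := by
    rw [← cancel_mono W₂.ι, Category.assoc, hφ', Category.id_comp]
    refine Groth.Agent.H96.GlueTwo.ext_of_isSchemeTheoreticallyDominant p₂ ?_ k₂ ?_
    · rw [Category.assoc, ← hφ, ← Category.assoc, hψ', hψ]
    · rw [← Category.assoc, hkψ, hk₁', hk₂]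
  have : IsIso (IsOpenImmersion.lift W₂.ι φ hφr) := ⟨_, h12, h21⟩
  have : IsOpenImmersion φ := by rw [← hφ']; infer_instance
  obtain ⟨Y, q, i₁, i₂, hsep, hi₁, hi₂, e₁, e₂, hab, hcov, hint⟩ :=
    Groth.Agent.H96.GlueTwo.exists_glue W₁.ι φ p₁ p₂ hφ hφc
  have hji : j₁ ≫ i₁ = j₂ ≫ i₂ := by
    rw [← hk₁, Category.assoc, hab, ← Category.assoc, hk₁']
  have : QuasiCompact (i₁ ≫ q) := by rw [e₁]; infer_instance
  have : QuasiCompact (i₂ ≫ q) := by rw [e₂]; infer_instance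
  have : LocallyOfFiniteType (i₁ ≫ q) := by rw [e₁]; infer_instance
  have : LocallyOfFiniteType (i₂ ≫ q) := by rw [e₂]; infer_instance
  refine ⟨Y, q, i₁, i₂, hsep, Groth.Agent.H96.GlueTwo.quasiCompact_of_cover i₁ i₂ q hcov,
    Groth.Agent.H96.GlueTwo.locallyOfFiniteType_of_cover i₁ i₂ q hcov, hi₁, hi₂, e₁, e₂, hji,
    inferInstance, ?_⟩
  exact Groth.Agent.H96.GlueTwo.isSchemeTheoreticallyDominant_of_cover i₁ i₂ hcov (j₁ ≫ i₁)
    j₁ j₂ rfl hji.symm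

end Groth.Agent.S17890
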