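import Groth.Statements.S17892
import Groth.Agent.H20.YBlowUp.GenIso

set_option autoImplicit false
universe u
open CategoryTheory AlgebraicGeometry
open FlatMor

namespace Groth.Agent.S17892

/-- Here f : Y → X is an affine morphism with X and Y quasi-compact and quasi-separated; a
Y-modification of X is a factorization f = fᵢ ≫ gᵢ with fᵢ : Y → Xᵢ schematically dominant and gᵢ :
Xᵢ → X proper, and it is a Y-blow-up of X when Xᵢ carries a gᵢ-ample module L with a section ε : O →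
L whose pullback along fᵢ is an isomorphism (a Y-trivialization). If (Xᵢ, fᵢ, gᵢ) is a Y-blow-up of
X and (Xⱼ, fⱼ, gᵢⱼ) is a Y-blow-up of Xᵢ (with respect to fᵢ : Y → Xᵢ), then (Xⱼ, fⱼ, gᵢⱼ ≫ gᵢ) is a
Y-blow-up of X. -/
theorem result {X Y : Scheme.{u}} (f : Y ⟶ X)
    [CompactSpace X] [QuasiSeparatedSpace X] [CompactSpace Y] [QuasiSeparatedSpace Y] [IsAffineHom f]
    {Xᵢ Xⱼ : Scheme.{u}} (fᵢ : Y ⟶ Xᵢ) (gᵢ : Xᵢ ⟶ X) (fⱼ : Y ⟶ Xⱼ) (gᵢⱼ : Xⱼ ⟶ Xᵢ)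
    (hᵢ : IsSchemeTheoreticallyDominant fᵢ ∧ IsProper gᵢ ∧ fᵢ ≫ gᵢ = f ∧
        ∃ (L : Xᵢ.Modules) (ε : Coh.structureModule Xᵢ ⟶ L),
          RelAmple.IsRelAmple gᵢ L ∧ IsIso ((Scheme.Modules.pullback fᵢ).map ε))
    (hⱼ : IsSchemeTheoreticallyDominant fⱼ ∧ IsProper gᵢⱼ ∧ fⱼ ≫ gᵢⱼ = fᵢ ∧
        ∃ (L : Xⱼ.Modules) (ε : Coh.structureModule Xⱼ ⟶ L),
          RelAmple.IsRelAmple gᵢⱼ L ∧ IsIso ((Scheme.Modules.pullback fⱼ).map ε)) :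
    IsSchemeTheoreticallyDominant fⱼ ∧ IsProper (gᵢⱼ ≫ gᵢ) ∧ fⱼ ≫ (gᵢⱼ ≫ gᵢ) = f ∧
        ∃ (L : Xⱼ.Modules) (ε : Coh.structureModule Xⱼ ⟶ L),
          RelAmple.IsRelAmple (gᵢⱼ ≫ gᵢ) L ∧ IsIso ((Scheme.Modules.pullback fⱼ).map ε) := by
  open Groth.Agent.H18 Groth.Agent.H18.PUP Groth.Agent.H18.STL Groth.Agent.H20.YBlowUp in
  obtain ⟨hdi, hpi, hfi, Li, εi, hLi, hεi⟩ := hᵢ
  obtain ⟨hdj, hpj, hfj, Lj, εj, hLj, hεj⟩ := hⱼ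
  refine ⟨hdj, inferInstance, by rw [← Category.assoc, hfj, hfi], ?_⟩
  obtain ⟨n₀, hn₀pos, hn₀⟩ :=
    Groth.Agent.H18.STL.exists_isRelAmple_comp_tensorMod_pullback_tensorPow gᵢⱼ gᵢ hLj hLi
  have hLiinv := Groth.Agent.H18.STL.isInvertible_of_isRelAmple gᵢ hLi
  have hLjinv := Groth.Agent.H18.STL.isInvertible_of_isRelAmple gᵢⱼ hLj
  have hPinv := Groth.Agent.H18.STL.isInvertible_tensorPow hLiinv n₀
  have hKinv : PicF.IsInvertible ((Scheme.Modules.pullback gᵢⱼ).obj (CohB1.tensorPow Li n₀)) :=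
    Groth.Agent.H67.AmplePullback.isInvertible_pullback gᵢⱼ hPinv
  refine ⟨CohB1.tensorMod Lj ((Scheme.Modules.pullback gᵢⱼ).obj (CohB1.tensorPow Li n₀)),
    SecTwist.tmulHom εj (Groth.Agent.H54.PB.unitMap gᵢⱼ ≫
      (Scheme.Modules.pullback gᵢⱼ).map (SecTwist.powHom εi n₀)), hn₀ n₀ le_rfl, ?_⟩
  rw [Groth.Agent.H20.YBlowUp.isIso_pullback_map_iff fⱼ
    (Groth.Agent.H18.STL.isInvertible_tensorMod hLjinv hKinv),
    Groth.Agent.S15745.result _ _ _ hLjinv hKinv, Scheme.Hom.preimage_inf]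
  have h1 := (Groth.Agent.H20.YBlowUp.isIso_pullback_map_iff fⱼ hLjinv εj).1 hεj
  have h2 : CohB1.genLocus ((Scheme.Modules.pullback gᵢⱼ).obj (CohB1.tensorPow Li n₀))
      (Groth.Agent.H54.PB.unitMap gᵢⱼ ≫
        (Scheme.Modules.pullback gᵢⱼ).map (SecTwist.powHom εi n₀)) =
      gᵢⱼ ⁻¹ᵁ CohB1.genLocus Li εi := by
    rw [← Groth.Agent.H18.STL.genLocus_powHom hLiinv εi hn₀pos]
    exact Groth.Agent.H67.PullGenLocus.genLocus_pullback gᵢⱼ _ hPinv _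
      (asIso (Groth.Agent.H54.PB.unitMap gᵢⱼ))
  have h3 := (Groth.Agent.H20.YBlowUp.isIso_pullback_map_iff fᵢ hLiinv εi).1 hεi
  rw [h1, h2, top_inf_eq, ← Scheme.Hom.comp_preimage, hfj, h3]

end Groth.Agent.S17892
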