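import Groth.Statements.S17897
import Groth.Agent.H22.LocalPt

set_option autoImplicit false
universe u
open CategoryTheory AlgebraicGeometry
open ValCrit
open Groth.Agent.H22.LocalPt

namespace Groth.Agent.S17897

/-- Let f : Y → X be a morphism of schemes (not assumed separated), R a valuation ring with fraction
field K, and i : Spec K → Y, φ : Spec R → X with i ≫ f = (Spec K → Spec R) ≫ φ. Let y be the point
of Y hit by i and g : κ(y) → K the induced embedding, R' = g⁻¹(R) the induced valuation ring of κ(y)
and ρ : R' → R the restriction of g. Then φ factors uniquely through Spec R → Spec R': there is a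
unique φ' : Spec R' → X with (Spec ρ) ≫ φ' = φ whose restriction to the generic point Spec κ(y) is
the canonical morphism Spec κ(y) → Y followed by f. (Here y and g are given as data with Spec g
followed by Spec κ(y) → Y equal to i, and ρ as data by its defining equation.) -/
theorem result {X Y : Scheme.{u}} (f : Y ⟶ X)
    (K : Type u) [Field K] (R : ValuationSubring K)
    (i : Spec (CommRingCat.of K) ⟶ Y) (φ : Spec (CommRingCat.of ↥R) ⟶ X)
    (w : Spec.map (CommRingCat.ofHom R.subtype) ≫ φ = i ≫ f)
    (y : Y) (g : Y.residueField y ⟶ CommRingCat.of K) (hg : Spec.map g ≫ Y.fromSpecResidueField y = i)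
    (ρ : ↥(R.comap g.hom) →+* ↥R)
    (hρ : ∀ x : ↥(R.comap g.hom), ((ρ x : ↥R) : K) = g.hom (x : ↑(Y.residueField y))) :
    ∃! φ' : Spec (CommRingCat.of ↥(R.comap g.hom)) ⟶ X,
      Spec.map (CommRingCat.ofHom ρ) ≫ φ' = φ ∧
      Spec.map (CommRingCat.ofHom (R.comap g.hom).subtype) ≫ φ' = Y.fromSpecResidueField y ≫ f := by
  classical
  have hginj : Function.Injective g.hom := g.hom.injective
  have hρinj : Function.Injective ρ := by
    intro a b hab
    apply Subtype.ext
    apply hginj
    rw [← hρ a, ← hρ b, hab]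
  have hρloc : IsLocalHom (CommRingCat.ofHom ρ).hom := by
    constructor
    intro a ha
    obtain ⟨b, hb⟩ := ha.exists_right_inv
    have hb' : g.hom (a : Y.residueField y) * ((b : R) : K) = 1 := by
      have := congrArg (fun t : R => (t : K)) hb
      simp only [CommRingCat.hom_ofHom, MulMemClass.coe_mul, OneMemClass.coe_one] at this
      rw [hρ] at this
      exact this
    have ha0 : (a : Y.residueField y) ≠ 0 := by
      intro h0
      rw [h0, map_zero, zero_mul] at hb'
      exact zero_ne_one hb'
    have hinv : g.hom ((a : Y.residueField y)⁻¹) = ((b : R) : K) := by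
      rw [map_inv₀]
      exact inv_eq_of_mul_eq_one_right hb'
    have hmem : (a : Y.residueField y)⁻¹ ∈ R.comap g.hom := by
      change g.hom _ ∈ R
      rw [hinv]; exact b.2
    refine IsUnit.of_mul_eq_one (⟨_, hmem⟩ : R.comap g.hom) ?_
    apply Subtype.ext
    exact mul_inv_cancel₀ ha0
  -- existence
  obtain ⟨s, β, hβloc, rfl, -⟩ := exists_eq_pt φ
  have hi : i = pt y (Y.residue y ≫ g) := by
    rw [← hg, ← map_pt]; rfl
  have hs : f y ⤳ s := by
    have h1 := congrArg (fun u : Spec (.of K) ⟶ X => u (IsLocalRing.closedPoint K)) w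
    simp only [Scheme.Hom.comp_apply] at h1
    have h2 : i (IsLocalRing.closedPoint K) = y := by
      rw [← hg, Scheme.Hom.comp_apply, Scheme.fromSpecResidueField_apply]
    rw [h2] at h1
    rw [← h1]
    exact pt_apply_specializes s β _
  let σ : X.presheaf.stalk s ⟶ Y.presheaf.stalk y :=
    X.presheaf.stalkSpecializes hs ≫ f.stalkMap y
  have J1 : β ≫ CommRingCat.ofHom R.subtype = σ ≫ Y.residue y ≫ g := by
    apply pt_inj (x := s)
    calc pt s (β ≫ CommRingCat.ofHom R.subtype)
        = Spec.map (CommRingCat.ofHom R.subtype) ≫ pt s β := (map_pt ..).symm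
      _ = i ≫ f := w
      _ = pt y (Y.residue y ≫ g) ≫ f := by rw [← hi]
      _ = pt (f y) (f.stalkMap y ≫ Y.residue y ≫ g) := pt_comp ..
      _ = pt s (σ ≫ Y.residue y ≫ g) := by rw [pt_specializes hs]; simp [σ]
  have J1' : ∀ a : X.presheaf.stalk s,
      g.hom (Y.residue y (σ a)) = ((β a : R) : K) := by
    intro a
    have := congrArg (fun ψ => ψ.hom a) J1
    exact this.symm
  have hφb : ∀ a : X.presheaf.stalk s, (σ ≫ Y.residue y).hom a ∈ (R.comap g.hom).toSubring := by
    intro a
    change g.hom (Y.residue y (σ a)) ∈ R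
    rw [J1']; exact (β a).2
  let φb : X.presheaf.stalk s ⟶ .of (R.comap g.hom) :=
    CommRingCat.ofHom ((σ ≫ Y.residue y).hom.codRestrict (R.comap g.hom).toSubring hφb)
  have h1 : φb ≫ CommRingCat.ofHom ρ = β := by
    ext a
    change ((ρ (φb a) : R) : K) = _
    rw [hρ]
    exact J1' a
  have h2 : φb ≫ CommRingCat.ofHom (R.comap g.hom).subtype = σ ≫ Y.residue y := by
    ext a; rfl
  refine ⟨pt s φb, ⟨?_, ?_⟩, ?_⟩
  · rw [map_pt, h1]
  · rw [map_pt, h2]
    calc pt s (σ ≫ Y.residue y) = pt (f y) (f.stalkMap y ≫ Y.residue y) := by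
          rw [pt_specializes hs]; simp [σ]
      _ = pt y (Y.residue y) ≫ f := (pt_comp ..).symm
      _ = Y.fromSpecResidueField y ≫ f := rfl
  · intro φ'' hφ''
    apply eq_of_map_comp_eq (CommRingCat.ofHom ρ) hρinj
    rw [hφ''.1, map_pt, h1]


end Groth.Agent.S17897
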