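import Groth.Statements.S1790
import Groth.Agent.H26.FibreTor4
import Groth.Agent.H26.CoextBC14
import Groth.Agent.H35.LBaseChangeLib
import Groth.Agent.H35.TorAmpCone

set_option autoImplicit false
universe u
open CategoryTheory
attribute [local instance] HasDerivedCategory.standard
open Dual2

namespace Groth.Agent.S1790

/-- Let R → A be a ring map between Noetherian rings which is flat and of finite type, where φ^!(K) is
formed from a presentation ψ : R[x_1, …, x_n] → A as RHom_P(A, K ⊗^L_R P)[n], assuming the derived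
base change to P exists and taking for RHom_P(A, −) a right adjoint of restriction of scalars along
ψ, and ω_{A/R} = φ^!(R). (a) If q is a prime of A at which the fibre of Spec A → Spec R has local
dimension d and H^i(ω_{A/R}) localized at q is nonzero, then −d ≤ i ≤ 0. (b) If every fibre has
local dimension at most d at every point, then ω_{A/R}, regarded as a complex of R-modules, is
isomorphic to a complex of flat R-modules concentrated in degrees [−d, 0]. -/
theorem result (R A : Type u) [CommRing R] [CommRing A] [IsNoetherianRing R] [IsNoetherianRing A] [Algebra R A] (n : ℕ) (ψ : MvPolynomial (Fin n) R →ₐ[R] A) (hψ : Function.Surjective ψ) [DRing.HasLBaseChange (algebraMap R (MvPolynomial (Fin n) R))] (Rψ : Dual.D (MvPolynomial (Fin n) R) ⥤ Dual.D A) (adj : DRing.restrictD ψ.toRingHom ⊣ Rψ) [Module.Flat R A] (d : ℕ) : (∀ (q : PrimeSpectrum A), FlatMor.fibreDimAt (AlgebraicGeometry.Spec.map (CommRingCat.ofHom (algebraMap R A))) q = d → ∀ i : ℤ, Nontrivial (LocalizedModule q.asIdeal.primeCompl (Dual.HD A (Dual2.shriekVia n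 Rψ (Dual.inD R R)) i)) → -(d : ℤ) ≤ i ∧ i ≤ 0) ∧ ((∀ q : PrimeSpectrum A, FlatMor.fibreDimAt (AlgebraicGeometry.Spec.map (CommRingCat.ofHom (algebraMap R A))) q ≤ (d : WithBot ℕ∞)) → DRing.HasTorAmplitudeIn R (-(d : ℤ)) 0 ((DRing.restrictD (algebraMap R A)).obj (Dual2.shriekVia n Rψ (Dual.inD R R)))) := by
  classical
  have hrel := Groth.Agent.H26.CoextBC.isRelPerfect_shriekVia_self R A n ψ hψ Rψ adj
  obtain ⟨⟨F, b, hFb, hFff, ⟨e⟩⟩, -⟩ := hrel
  have hFflat : ∀ i, Module.Flat A (F.X i) := fun i => by
    have := (hFff i).2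
    infer_instance
  have hKF : Groth.Agent.H35.KF.IsKFlat F :=
    Groth.Agent.H35.KF.isKFlat_of_bounded_flat F b hFb hFflat
  -- the local data at a prime
  have hφ : ∀ q : PrimeSpectrum A, (Localization.localRingHom
      (q.asIdeal.comap (algebraMap R A)) q.asIdeal (algebraMap R A) rfl).Flat := fun q =>
    RingHom.Flat.localRingHom (f := algebraMap R A) (RingHom.flat_algebraMap_iff.2 inferInstance)
      q.asIdeal (q.asIdeal.comap (algebraMap R A)) rfl
  have hGfin : ∀ (q : PrimeSpectrum A) (i : ℤ), Module.Finite (Localization.AtPrime q.asIdeal)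
      ((Groth.Agent.H35.KFBC.extK (R := A) (R' := Localization.AtPrime q.asIdeal)
        (algebraMap A (Localization.AtPrime q.asIdeal)) F).X i) := fun q i => by
    have := (hFff i).1
    exact Groth.Agent.H35.LT.finite_extendScalars _ (F.X i)
  have hGflat : ∀ (q : PrimeSpectrum A) (i : ℤ), Module.Flat (Localization.AtPrime q.asIdeal)
      ((Groth.Agent.H35.KFBC.extK (R := A) (R' := Localization.AtPrime q.asIdeal)
        (algebraMap A (Localization.AtPrime q.asIdeal)) F).X i) := fun q i => by
    have := hFflat i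
    exact Groth.Agent.H35.LT.flat_extendScalars _ (F.X i)
  have hGb : ∀ (q : PrimeSpectrum A) (i : ℤ), b < i → Limits.IsZero
      ((Groth.Agent.H35.KFBC.extK (R := A) (R' := Localization.AtPrime q.asIdeal)
        (algebraMap A (Localization.AtPrime q.asIdeal)) F).X i) := fun q i hi =>
    (ModuleCat.extendScalars.{u, u, u} _).map_isZero (hFb i hi)
  refine ⟨?_, ?_⟩
  · intro q hd i hnt
    by_contra hcon
    have hj : 0 < i ∨ FlatMor.fibreDimAt (AlgebraicGeometry.Spec.map (CommRingCat.ofHom
        (algebraMap R A))) q < (((-i).toNat : ℕ) : WithBot ℕ∞) := by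
      by_cases h0 : 0 < i
      · exact Or.inl h0
      · right
        rw [hd]
        have : d < (-i).toNat := by omega
        exact_mod_cast this
    have h0 := Groth.Agent.H26.FibreTor.tensExactAt_residue_omega R A n ψ hψ Rψ adj q i hj F hKF e
    have h1 := Groth.Agent.H26.FibreTor.tensExactAt_resL_of_fibre _ _ i (hφ q) (hGfin q) (hGflat q)
      h0 (MonoidalCategory.tensorUnit _)
    have h2 := Groth.Agent.H35.KF.exactAt_of_tensExactAt_unit _ i h1
    rw [Groth.Agent.H35.KFBC.exactAt_map_restrictScalars_iff,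
      HomologicalComplex.exactAt_iff_isZero_homology] at h2
    have h3 : Nontrivial (Dual.HD (Localization.AtPrime q.asIdeal)
        ((Groth.Agent.H26.FlatBCHom.LB A (Localization.AtPrime q.asIdeal)).obj
          (Dual2.shriekVia n Rψ (Dual.inD R R))) i) :=
      (Groth.Agent.H26.ShriekFieldDim.nontrivial_HD_LB_iff q.asIdeal _ i).2 hnt
    let i1 : (Groth.Agent.H26.FlatBCHom.LB A (Localization.AtPrime q.asIdeal)).obj
        (Dual2.shriekVia n Rψ (Dual.inD R R)) ≅ DerivedCategory.Q.obj
        (Groth.Agent.H35.KFBC.extK (R := A) (R' := Localization.AtPrime q.asIdeal)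
          (algebraMap A (Localization.AtPrime q.asIdeal)) F) :=
      (Groth.Agent.H26.FlatBCHom.LB A (Localization.AtPrime q.asIdeal)).mapIso e.symm ≪≫
        (Groth.Agent.H26.FlatBCHom.F0 A (Localization.AtPrime q.asIdeal)).mapDerivedCategoryFactors.app F
    have h4 : Limits.IsZero ((DerivedCategory.homologyFunctor
        (ModuleCat.{u} (Localization.AtPrime q.asIdeal)) i).obj
        ((Groth.Agent.H26.FlatBCHom.LB A (Localization.AtPrime q.asIdeal)).obj
          (Dual2.shriekVia n Rψ (Dual.inD R R)))) :=
      (h2.of_iso ((DerivedCategory.homologyFunctorFactors _ i).app _)).of_iso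
        ((DerivedCategory.homologyFunctor _ i).mapIso i1)
    rw [ModuleCat.isZero_iff_subsingleton] at h4
    exact (not_subsingleton_iff_nontrivial.2 h3) h4
  · intro hall
    have e1 : DerivedCategory.Q.obj (Groth.Agent.H35.KFBC.resL (algebraMap R A) F) ≅
        (DRing.restrictD (algebraMap R A)).obj (Dual2.shriekVia n Rψ (Dual.inD R R)) :=
      ((ModuleCat.restrictScalars (algebraMap R A)).mapDerivedCategoryFactors.app F).symm ≪≫
        (DRing.restrictD (algebraMap R A)).mapIso e
    refine Groth.Agent.H35.KF.hasTorAmplitudeIn_of_iso e1 _ _ ?_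
    refine Groth.Agent.H28.TorAmpLocal.hasTorAmplitudeIn_restrict_of_forall_maximal F _ _ ?_
    intro m hm
    let q : PrimeSpectrum A := ⟨m, hm.isPrime⟩
    refine Groth.Agent.H26.FibreTor.hasTorAmplitudeIn_of_fibre _ _ (hφ q) (hGfin q) (hGflat q) b
      (hGb q) _ _ ?_
    intro j hj
    refine Groth.Agent.H26.FibreTor.tensExactAt_residue_omega R A n ψ hψ Rψ adj q j ?_ F hKF e
    rcases hj with hj | hj
    · right
      refine lt_of_le_of_lt (hall q) ?_
      have : d < (-j).toNat := by omega
      exact_mod_cast this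
    · exact Or.inl hj

end Groth.Agent.S1790
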