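import Groth.Statements.S17901
import Groth.Agent.H89.Milnor

set_option autoImplicit false
universe u
open TensorProduct
open Pinch

namespace Groth.Agent.S17901

/-- Let R be a commutative ring and let B' → B → A, B' → A' → A be a fibre square of R-algebras (B' = B
×_A A') with A' → A surjective, where B, A' and A are flat over R. Then for every commutative
R-algebra R' the square obtained by applying R' ⊗_R − is again a fibre square: R' ⊗_R A' → R' ⊗_R A
is surjective and every pair of elements of R' ⊗_R B and R' ⊗_R A' with the same image in R' ⊗_R A
is the image of a unique element of R' ⊗_R B'. (The published lemma concludes that the base-changed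
square of spectra is co-cartesian in ringed spaces; this row states the ring form, surjective edge
and fibre product, which its proof establishes before translating it to ringed spaces.) -/
theorem result (R B' B A' A : Type u) [CommRing R] [CommRing B'] [CommRing B] [CommRing A'] [CommRing A]
    [Algebra B' B] [Algebra B' A'] [Algebra B A] [Algebra A' A] [Algebra B' A]
    [IsScalarTower B' B A] [IsScalarTower B' A' A]
    [Algebra R B'] [Algebra R B] [Algebra R A'] [Algebra R A]
    [IsScalarTower R B' B] [IsScalarTower R B' A'] [IsScalarTower R B' A] [IsScalarTower R B A] [IsScalarTower R A' A]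
    (hsq : EtMil.IsFibreSquare B' B A' A)
    [Module.Flat R B] [Module.Flat R A'] [Module.Flat R A]
    (R' : Type u) [CommRing R'] [Algebra R R'] :
    Function.Surjective (Algebra.TensorProduct.map (AlgHom.id R R') (IsScalarTower.toAlgHom R A' A)) ∧
    ∀ (x : R' ⊗[R] B) (y : R' ⊗[R] A'),
      Algebra.TensorProduct.map (AlgHom.id R R') (IsScalarTower.toAlgHom R B A) x =
        Algebra.TensorProduct.map (AlgHom.id R R') (IsScalarTower.toAlgHom R A' A) y →
      ∃! z : R' ⊗[R] B',
        Algebra.TensorProduct.map (AlgHom.id R R') (IsScalarTower.toAlgHom R B' B) z = x ∧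
        Algebra.TensorProduct.map (AlgHom.id R R') (IsScalarTower.toAlgHom R B' A') z = y := by
  constructor
  · have h : Function.Surjective
        (TensorProduct.map (LinearMap.id : R' →ₗ[R] R') (IsScalarTower.toAlgHom R A' A).toLinearMap) :=
      TensorProduct.map_surjective Function.surjective_id hsq.1
    intro t
    obtain ⟨s, hs⟩ := h t
    refine ⟨s, ?_⟩
    rw [← hs]
    rfl
  · set incl := Groth.Agent.H89.milnorIncl R B' B A' with hincl
    set diff := Groth.Agent.H89.milnorDiff R B A' A with hdiff
    have hinj : Function.Injective (incl.lTensor R') :=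
      LinearMap.lTensor_injective_of_exact_of_flat diff
        (Groth.Agent.H89.milnorDiff_surjective R hsq) incl
        (Groth.Agent.H89.milnorIncl_injective R hsq) (Groth.Agent.H89.milnor_exact R hsq) R'
    have hex : Function.Exact (incl.lTensor R') (diff.lTensor R') :=
      lTensor_exact R' (Groth.Agent.H89.milnor_exact R hsq)
        (Groth.Agent.H89.milnorDiff_surjective R hsq)
    have h1 : ∀ z : R' ⊗[R] B', TensorProduct.prodRight R R R' B A' (incl.lTensor R' z) =
        (Algebra.TensorProduct.map (AlgHom.id R R') (IsScalarTower.toAlgHom R B' B) z,
          Algebra.TensorProduct.map (AlgHom.id R R') (IsScalarTower.toAlgHom R B' A') z) := by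
      intro z
      induction z using TensorProduct.induction_on with
      | zero => simp only [map_zero]; rfl
      | tmul r b => simp [hincl]
      | add z w hz hw => simp only [map_add, hz, hw, Prod.mk_add_mk]
    have h2 : ∀ w : R' ⊗[R] (B × A'), diff.lTensor R' w =
        Algebra.TensorProduct.map (AlgHom.id R R') (IsScalarTower.toAlgHom R B A)
            (TensorProduct.prodRight R R R' B A' w).1 -
          Algebra.TensorProduct.map (AlgHom.id R R') (IsScalarTower.toAlgHom R A' A)
            (TensorProduct.prodRight R R R' B A' w).2 := by
      intro w
      induction w using TensorProduct.induction_on with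
      | zero => simp
      | tmul r b => simp [hdiff, TensorProduct.tmul_sub]
      | add z w hz hw =>
        simp only [map_add, hz, hw, Prod.fst_add, Prod.snd_add]
        abel
    intro x y hxy
    have hw : diff.lTensor R' ((TensorProduct.prodRight R R R' B A').symm (x, y)) = 0 := by
      rw [h2, LinearEquiv.apply_symm_apply, hxy, sub_self]
    obtain ⟨z, hz⟩ := (hex _).mp hw
    have hz' := h1 z
    rw [hz, LinearEquiv.apply_symm_apply] at hz'
    refine ⟨z, ⟨(Prod.ext_iff.mp hz').1.symm, (Prod.ext_iff.mp hz').2.symm⟩, ?_⟩
    rintro z' ⟨hz1, hz2⟩
    apply hinj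
    apply (TensorProduct.prodRight R R R' B A').injective
    rw [h1, h1, hz1, hz2, hz']

end Groth.Agent.S17901
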