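import Groth.Statements.S17902
import Mathlib

set_option autoImplicit false
universe u
open CAlg

namespace Groth.Agent.S17902

open TensorProduct in

theorem exists_span_aux (A : Type u) [CommRing A] (M : Type u) [AddCommGroup M] [Module A M]
    [Module.Finite A M] [Module.Projective A M] (n : ℕ) (P : Finset (PrimeSpectrum A))
    (hP : ∀ p ∈ P, Module.rankAtStalk M p = n) :
    ∃ s : Fin n → M, ∀ p ∈ P, ∀ m : M, ∃ r ∉ p.asIdeal,
      r • m ∈ Submodule.span A (Set.range s) := by
  classical
  let T : Submonoid A := ⨅ p ∈ P, p.asIdeal.primeCompl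
  have hT : ∀ a, a ∈ T ↔ ∀ p ∈ P, a ∉ p.asIdeal := by
    intro a
    simp only [T, Submonoid.mem_iInf]
    rfl
  let S := Localization T
  have key : ∀ m : MaximalSpectrum S, ∃ p ∈ P,
      m.asIdeal = Ideal.map (algebraMap A S) p.asIdeal ∧
        Ideal.comap (algebraMap A S) m.asIdeal ≤ p.asIdeal := by
    intro m
    have hmp : m.asIdeal.IsPrime := m.isMaximal.isPrime
    let q : PrimeSpectrum A := ⟨Ideal.comap (algebraMap A S) m.asIdeal, inferInstance⟩
    have hq : Disjoint (T : Set A) (q.asIdeal : Set A) :=
      ((IsLocalization.isPrime_iff_isPrime_disjoint T S m.asIdeal).1 hmp).2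
    have hsub : ((q.asIdeal : Ideal A) : Set A) ⊆ ⋃ i ∈ (↑P : Set (PrimeSpectrum A)),
        ((fun p : PrimeSpectrum A => p.asIdeal) i : Set A) := by
      intro a ha
      by_contra hcon
      simp only [Set.mem_iUnion, not_exists] at hcon
      have haT : a ∈ T := (hT a).2 fun p hp hap => hcon p hp hap
      exact Set.disjoint_left.1 hq haT ha
    obtain ⟨p, hpP, hqp⟩ := (Ideal.subset_union_prime (R := A) (s := P)
      (f := fun p : PrimeSpectrum A => p.asIdeal) q q (fun i _ _ _ => i.isPrime)).1 hsub
    refine ⟨p, hpP, ?_, hqp⟩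
    have hm_eq : m.asIdeal = Ideal.map (algebraMap A S) q.asIdeal :=
      (IsLocalization.map_under T (S := S) m.asIdeal).symm
    have hle : m.asIdeal ≤ Ideal.map (algebraMap A S) p.asIdeal := by
      rw [hm_eq]; exact Ideal.map_mono hqp
    have hne : Ideal.map (algebraMap A S) p.asIdeal ≠ ⊤ := by
      rw [IsLocalization.map_algebraMap_ne_top_iff_disjoint T S, Set.disjoint_left]
      intro a haT hap
      exact (hT a).1 haT p hpP hap
    exact (m.isMaximal.eq_of_le hne hle)
  have hfin : Finite (MaximalSpectrum S) := by
    choose f hfP hf hf' using key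
    have hinj : Function.Injective (fun m : MaximalSpectrum S => (⟨f m, hfP m⟩ : ↥P)) := by
      intro m m' h
      have h' : f m = f m' := congrArg Subtype.val h
      ext1
      rw [hf m, hf m', h']
    exact Finite.of_injective _ hinj
  have rk : ∀ m : MaximalSpectrum S,
      Module.finrank (S ⧸ m.asIdeal) ((S ⧸ m.asIdeal) ⊗[S] (S ⊗[A] M)) = n := by
    intro m
    obtain ⟨p, hpP, -, hqp⟩ := key m
    have hmp : m.asIdeal.IsPrime := m.isMaximal.isPrime
    let mm : PrimeSpectrum S := ⟨m.asIdeal, hmp⟩
    have h1 : Module.rankAtStalk (S ⊗[A] M) mm = n := by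
      rw [Module.rankAtStalk_baseChange]
      rw [Module.rankAtStalk_eq_of_le_of_finite_of_flat M (q := p) hqp]
      exact hP p hpP
    rw [Module.rankAtStalk_eq] at h1
    let := Ideal.Quotient.field m.asIdeal
    let κ := m.asIdeal.ResidueField
    let e : κ ⊗[S ⧸ m.asIdeal] ((S ⧸ m.asIdeal) ⊗[S] (S ⊗[A] M)) ≃ₗ[κ] κ ⊗[S] (S ⊗[A] M) :=
      AlgebraTensorModule.cancelBaseChange _ _ _ _ _
    rw [← Module.finrank_baseChange (R := κ), e.finrank_eq]
    exact h1
  obtain ⟨b⟩ := Module.nonempty_basis_of_flat_of_finrank_eq S (S ⊗[A] M) n rk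
  let f : M →ₗ[A] S ⊗[A] M := TensorProduct.mk A S M 1
  have hf : IsLocalizedModule T f :=
    (isLocalizedModule_iff_isBaseChange T S f).2 (TensorProduct.isBaseChange A M S)
  choose ms hms using fun i => IsLocalizedModule.surj T f (b i)
  let s : Fin n → M := fun i => (ms i).1
  refine ⟨s, ?_⟩
  have hspan : Submodule.span S (f '' Set.range s) = ⊤ := by
    rw [eq_top_iff, ← b.span_eq, Submodule.span_le]
    rintro _ ⟨i, rfl⟩
    have hu : IsUnit (algebraMap A S ((ms i).2 : A)) := IsLocalization.map_units S (ms i).2
    have h1 : (algebraMap A S ((ms i).2 : A)) • b i = f (s i) := by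
      rw [algebraMap_smul]; exact hms i
    have h2 : b i = (↑hu.unit⁻¹ : S) • f (s i) := by
      rw [← h1, smul_smul, IsUnit.val_inv_mul, one_smul]
    rw [h2]
    exact Submodule.smul_mem _ _ (Submodule.subset_span ⟨s i, ⟨i, rfl⟩, rfl⟩)
  intro p hpP m
  have hm : f m ∈ (Submodule.span A (Set.range s)).localized' S T f := by
    rw [Submodule.localized'_span, hspan]; trivial
  obtain ⟨m', hm', t, ht⟩ := (Submodule.mem_localized' S T f _ _).1 hm
  rw [IsLocalizedModule.mk'_eq_iff] at ht
  have ht' : f m' = f ((t : A) • m) := by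
    rw [ht, map_smul]; rfl
  obtain ⟨c, hc⟩ := IsLocalizedModule.exists_of_eq (S := T) ht'
  refine ⟨(c : A) * (t : A), ?_, ?_⟩
  · exact (hT _).1 (T.mul_mem c.2 t.2) p hpP
  · rw [mul_smul]
    have : (c : A) • (t : A) • m = (c : A) • m' := hc.symm
    rw [this]
    exact Submodule.smul_mem _ _ hm'

/-- Let A be a commutative ring, M a finitely generated projective A-module, n a natural number and P a
finite set of prime ideals of A such that for every p in P there is g outside p with M_g free of
rank n over A_g. Then there exist n elements of M and an open subset U of Spec A containing P such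
that for every prime q in U the images of these elements in M_q form a basis of M_q over A_q. (The
published conclusion is that the associated sheaf is free of rank n on some open neighbourhood of P;
the form given here, with n global elements of M, is what its proof produces.) -/
theorem result (A : Type u) [CommRing A] (M : Type u) [AddCommGroup M] [Module A M]
    [Module.Finite A M] [Module.Projective A M] (n : ℕ) (P : Finset (PrimeSpectrum A))
    (hP : ∀ p ∈ P, ∃ g : A, g ∉ p.asIdeal ∧
      Nonempty (Module.Basis (Fin n) (Localization.Away g) (LocalizedModule (Submonoid.powers g) M))) :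
    ∃ (s : Fin n → M) (U : Set (PrimeSpectrum A)), IsOpen U ∧ (∀ p ∈ P, p ∈ U) ∧
      ∀ q ∈ U,
        LinearIndependent (Localization.AtPrime q.asIdeal)
            (fun j => LocalizedModule.mkLinearMap q.asIdeal.primeCompl M (s j)) ∧
          Submodule.span (Localization.AtPrime q.asIdeal)
            (Set.range fun j => LocalizedModule.mkLinearMap q.asIdeal.primeCompl M (s j)) = ⊤ := by
  classical
  have hfp : Module.FinitePresentation A M := Module.finitePresentation_of_projective A M
  have hrank : ∀ p ∈ P, Module.rankAtStalk M p = n := by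
    intro p hp
    obtain ⟨g, hg, ⟨b⟩⟩ := hP p hp
    have hmem : p ∈ Set.range (PrimeSpectrum.comap (algebraMap A (Localization.Away g))) := by
      rw [PrimeSpectrum.localization_away_comap_range (Localization.Away g) g]
      exact hg
    obtain ⟨p', rfl⟩ := hmem
    rw [← Module.rankAtStalk_isBaseChange (LocalizedModule.isBaseChange (Submonoid.powers g) M)]
    have hfree : Module.Free (Localization.Away g) (LocalizedModule (Submonoid.powers g) M) :=
      Module.Free.of_basis b
    have hnt : Nontrivial (Localization.Away g) := p'.nontrivial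
    rw [Module.rankAtStalk_eq_finrank_of_free]
    simp [Module.finrank_eq_card_basis b]
  obtain ⟨s, hs⟩ := exists_span_aux A M n P hrank
  let N₀ := Submodule.span A (Set.range s)
  let U₁ : Set (PrimeSpectrum A) := (Module.support A (M ⧸ N₀))ᶜ
  let U₂ : Set (PrimeSpectrum A) := {q | Module.rankAtStalk M q = n}
  refine ⟨s, U₁ ∩ U₂, ?_, ?_, ?_⟩
  · refine IsOpen.inter ?_ ?_
    · rw [isOpen_compl_iff, Module.support_eq_zeroLocus]
      exact PrimeSpectrum.isClosed_zeroLocus _
    · exact (Module.isLocallyConstant_rankAtStalk (R := A) (M := M)).isOpen_fiber n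
  · intro p hp
    refine ⟨?_, hrank p hp⟩
    rw [Set.mem_compl_iff, Module.notMem_support_iff']
    intro x
    obtain ⟨m, rfl⟩ := Submodule.Quotient.mk_surjective _ x
    obtain ⟨r, hr, hrm⟩ := hs p hp m
    refine ⟨r, hr, ?_⟩
    rw [← Submodule.Quotient.mk_smul, Submodule.Quotient.mk_eq_zero]
    exact hrm
  · rintro q ⟨hq1, hq2⟩
    have hspan : Submodule.span (Localization.AtPrime q.asIdeal)
        (Set.range fun j => LocalizedModule.mkLinearMap q.asIdeal.primeCompl M (s j)) = ⊤ := by
      rw [eq_top_iff]
      intro x _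
      have himg : (Set.range fun j => LocalizedModule.mkLinearMap q.asIdeal.primeCompl M (s j)) =
          (LocalizedModule.mkLinearMap q.asIdeal.primeCompl M) '' Set.range s := by
        rw [← Set.range_comp]; rfl
      rw [himg, ← Submodule.localized'_span (Localization.AtPrime q.asIdeal) q.asIdeal.primeCompl
        (LocalizedModule.mkLinearMap q.asIdeal.primeCompl M), Submodule.mem_localized']
      induction x using LocalizedModule.induction_on with
      | h m u =>
        obtain ⟨r, hr, hrm⟩ := (Module.notMem_support_iff'.1 hq1) (Submodule.Quotient.mk m)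
        rw [← Submodule.Quotient.mk_smul, Submodule.Quotient.mk_eq_zero] at hrm
        have hr' : r ∈ q.asIdeal.primeCompl := hr
        refine ⟨r • m, hrm, ⟨r, hr'⟩ * u, ?_⟩
        rw [IsLocalizedModule.mk'_eq_iff, LocalizedModule.mkLinearMap_apply,
          Submonoid.smul_def, LocalizedModule.smul'_mk]
        rw [LocalizedModule.mk_eq]
        refine ⟨1, ?_⟩
        simp only [one_smul, Submonoid.smul_def, Submonoid.coe_mul, mul_smul]
        rw [smul_comm]
    refine ⟨?_, hspan⟩
    have : Module.Free (Localization.AtPrime q.asIdeal)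
        (LocalizedModule q.asIdeal.primeCompl M) := Module.free_of_flat_of_isLocalRing
    apply linearIndependent_of_top_le_span_of_card_eq_finrank hspan.ge
    simp only [Fintype.card_fin]
    exact hq2.symm

end Groth.Agent.S17902
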