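import Groth.Statements.S17903
import Mathlib
import Groth.Agent.H89.SchPushout
import Groth.Agent.H89.FibreSquareFlat

set_option autoImplicit false
universe u
open CategoryTheory AlgebraicGeometry
open Pinch

namespace Groth.Agent.S17903

/-- Let S be a scheme and Z → X, Z → Z', X → X', Z' → X' a commutative square of S-schemes in which Z →
X and Z' → X' are closed immersions and Z → Z' and X → X' are affine, and which is a pushout square
in the category of ringed spaces. If X, Z and Z' are flat over S then X' is flat over S. -/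
theorem result {S X Z Z' X' : Scheme.{u}}
    (fX : X ⟶ S) (fZ' : Z' ⟶ S) (fX' : X' ⟶ S) (ι : Z ⟶ X) (q : Z ⟶ Z') (π : X ⟶ X') (ι' : Z' ⟶ X')
    [IsClosedImmersion ι] [IsClosedImmersion ι'] [IsAffineHom q] [IsAffineHom π]
    (hq : q ≫ fZ' = ι ≫ fX) (hπ : π ≫ fX' = fX) (hι' : ι' ≫ fX' = fZ')
    (hpo : IsPushout ((Scheme.forgetToLocallyRingedSpace ⋙ LocallyRingedSpace.forgetToSheafedSpace).map ι) ((Scheme.forgetToLocallyRingedSpace ⋙ LocallyRingedSpace.forgetToSheafedSpace).map q)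
      ((Scheme.forgetToLocallyRingedSpace ⋙ LocallyRingedSpace.forgetToSheafedSpace).map π) ((Scheme.forgetToLocallyRingedSpace ⋙ LocallyRingedSpace.forgetToSheafedSpace).map ι'))
    [Flat fX] [Flat (ι ≫ fX)] [Flat fZ'] :
    Flat fX' := by
  subst hπ hι'
  have hcomm : ι ≫ π = q ≫ ι' := Groth.Agent.H89.SchPushout.comm hpo
  refine ⟨fun {U} hU {V} hV e => ?_⟩
  have hVX : IsAffineOpen (π ⁻¹ᵁ V) := hV.preimage π
  have hVZ' : IsAffineOpen (ι' ⁻¹ᵁ V) := hV.preimage ι'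
  have hVZ : IsAffineOpen (ι ⁻¹ᵁ π ⁻¹ᵁ V) := hVX.preimage ι
  have hop : ι ⁻¹ᵁ π ⁻¹ᵁ V = q ⁻¹ᵁ ι' ⁻¹ᵁ V := by
    rw [← Scheme.Hom.comp_preimage, ← Scheme.Hom.comp_preimage, hcomm]
  have eX : π ⁻¹ᵁ V ≤ (π ≫ fX') ⁻¹ᵁ U := by
    rw [Scheme.Hom.comp_preimage]
    exact π.preimage_mono e
  have eZ' : ι' ⁻¹ᵁ V ≤ (ι' ≫ fX') ⁻¹ᵁ U := by
    rw [Scheme.Hom.comp_preimage]
    exact ι'.preimage_mono e
  have eZ : ι ⁻¹ᵁ π ⁻¹ᵁ V ≤ (ι ≫ π ≫ fX') ⁻¹ᵁ U := by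
    rw [Scheme.Hom.comp_preimage]
    exact ι.preimage_mono eX
  -- the ring maps
  have F1 : fX'.appLE U V e ≫ π.app V = (π ≫ fX').appLE U (π ⁻¹ᵁ V) eX := by
    rw [Scheme.Hom.app_eq_appLE, Scheme.Hom.appLE_comp_appLE]
  have F2 : fX'.appLE U V e ≫ ι'.app V = (ι' ≫ fX').appLE U (ι' ⁻¹ᵁ V) eZ' := by
    rw [Scheme.Hom.app_eq_appLE, Scheme.Hom.appLE_comp_appLE]
  have F3 : (π ≫ fX').appLE U (π ⁻¹ᵁ V) eX ≫ ι.app (π ⁻¹ᵁ V) =
      (ι ≫ π ≫ fX').appLE U (ι ⁻¹ᵁ π ⁻¹ᵁ V) eZ := by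
    rw [Scheme.Hom.app_eq_appLE, Scheme.Hom.appLE_comp_appLE]
  have hK : π.app V ≫ ι.app (π ⁻¹ᵁ V) =
      ι'.app V ≫ q.app (ι' ⁻¹ᵁ V) ≫ Z.presheaf.map (eqToHom hop).op := by
    rw [← Scheme.Hom.comp_app, Scheme.Hom.congr_app hcomm V, Scheme.Hom.comp_app]
    exact Category.assoc _ _ _
  refine Groth.Agent.H89.flat_of_fibre_square (fX'.appLE U V e).hom (π.app V).hom (ι'.app V).hom
    (ι.app (π ⁻¹ᵁ V)).hom (q.app (ι' ⁻¹ᵁ V) ≫ Z.presheaf.map (eqToHom hop).op).hom ?_ ?_ ?_ ?_ ?_ ?_ ?_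
  · rw [← CommRingCat.hom_comp, ← CommRingCat.hom_comp, hK]
  · intro s t h1 h2
    exact Groth.Agent.H89.SchPushout.sections_ext hpo V s t h1 h2
  · intro x y hxy
    refine Groth.Agent.H89.SchPushout.sections_glue hpo V x y hop ?_
    have hid : (eqToHom hop).op ≫ eqToHom (congrArg Opposite.op hop) = 𝟙 _ := Subsingleton.elim _ _
    have h1 := congrArg (fun z => (Z.presheaf.map (eqToHom (congrArg Opposite.op hop))).hom z) hxy
    refine h1.trans ?_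
    change ((q.app (ι' ⁻¹ᵁ V) ≫ Z.presheaf.map (eqToHom hop).op) ≫
      Z.presheaf.map (eqToHom (congrArg Opposite.op hop))).hom y = _
    rw [Category.assoc, ← Functor.map_comp, hid, CategoryTheory.Functor.map_id, Category.comp_id]
  · exact ι.app_surjective (π ⁻¹ᵁ V) hVX
  · rw [← CommRingCat.hom_comp, F1]
    exact (π ≫ fX').flat_appLE hU hVX eX
  · rw [← CommRingCat.hom_comp, F2]
    exact (ι' ≫ fX').flat_appLE hU hVZ' eZ'
  · rw [← CommRingCat.hom_comp, ← CommRingCat.hom_comp, F1, F3]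
    exact (ι ≫ π ≫ fX').flat_appLE hU hVZ eZ

end Groth.Agent.S17903
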