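import Groth.Statements.S17905
import Mathlib
import Groth.Agent.H87.FerrRS
import Groth.Agent.H87.FerrRS2

set_option autoImplicit false
universe u
open CategoryTheory AlgebraicGeometry
open Pinch

namespace Groth.Agent.S17905

/-- Let S be a scheme and Z → X, Z → Z', X → X', Z' → X' a commutative square of S-schemes which is a
pushout square in the category of ringed spaces, with Z → X and Z' → X' closed immersions, X → X'
affine, Z → Z' finite, flat and surjective, and X, Z, Z' flat over S. Suppose that for every T → S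
the map O_T → (f_T)_* O_{X_T} induced by the base change f_T : X_T → T of X → S is an isomorphism.
Then for every T → S the map O_T → (f'_T)_* O_{X'_T} induced by the base change of X' → S is an
isomorphism. (The published lemma is stated for the pinching of a finite surjective Z → Z' whose
fibres lie in affine opens of X, with X → S admitting a section; this row assumes X → X' only affine
and drops the affine-fibre and section conditions, which the printed proof does not use.) -/
theorem result {S X Z Z' X' : Scheme.{u}}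
    (fX : X ⟶ S) (fZ' : Z' ⟶ S) (fX' : X' ⟶ S) (ι : Z ⟶ X) (q : Z ⟶ Z') (π : X ⟶ X') (ι' : Z' ⟶ X')
    [IsClosedImmersion ι] [IsClosedImmersion ι'] [IsFinite q] [Flat q] [Surjective q] [IsAffineHom π]
    (hq : q ≫ fZ' = ι ≫ fX) (hπ : π ≫ fX' = fX) (hι' : ι' ≫ fX' = fZ')
    (hpo : IsPushout ((Scheme.forgetToLocallyRingedSpace ⋙ LocallyRingedSpace.forgetToSheafedSpace).map ι) ((Scheme.forgetToLocallyRingedSpace ⋙ LocallyRingedSpace.forgetToSheafedSpace).map q)
      ((Scheme.forgetToLocallyRingedSpace ⋙ LocallyRingedSpace.forgetToSheafedSpace).map π) ((Scheme.forgetToLocallyRingedSpace ⋙ LocallyRingedSpace.forgetToSheafedSpace).map ι'))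
    [Flat fX] [Flat (ι ≫ fX)] [Flat fZ']
    (hX : ∀ (T : Scheme.{u}) (g : T ⟶ S) (U : T.Opens), IsIso ((Limits.pullback.snd fX g).app U))
    (T : Scheme.{u}) (g : T ⟶ S) (U : T.Opens) :
    IsIso ((Limits.pullback.snd fX' g).app U) := by
  have hX0 : IsPushout ι q π ι' := Groth.Agent.H87.FerrRS.isPushout_of_rsPushout hpo
  have hXT := Groth.Agent.H87.FerrRS.isPushout_overPullback fX fZ' fX' ι q π ι' hq hπ hι' hX0 g
  have h1 : IsClosedImmersion
      ((Over.pullback g).map (Over.homMk ι rfl : Over.mk (ι ≫ fX) ⟶ Over.mk fX)).left :=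
    MorphismProperty.of_isPullback (P := @IsClosedImmersion)
      (Groth.Agent.H87.FerrOver.isPullback_map_left g
        (Over.homMk ι rfl : Over.mk (ι ≫ fX) ⟶ Over.mk fX)).flip
      (inferInstanceAs (IsClosedImmersion ι))
  have h2 : IsAffineHom
      ((Over.pullback g).map (Over.homMk π hπ : Over.mk fX ⟶ Over.mk fX')).left :=
    MorphismProperty.of_isPullback (P := @IsAffineHom)
      (Groth.Agent.H87.FerrOver.isPullback_map_left g
        (Over.homMk π hπ : Over.mk fX ⟶ Over.mk fX')).flip (inferInstanceAs (IsAffineHom π))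
  have h3 : IsAffineHom
      ((Over.pullback g).map (Over.homMk ι' hι' : Over.mk fZ' ⟶ Over.mk fX')).left :=
    MorphismProperty.of_isPullback (P := @IsAffineHom)
      (Groth.Agent.H87.FerrOver.isPullback_map_left g
        (Over.homMk ι' hι' : Over.mk fZ' ⟶ Over.mk fX')).flip (inferInstanceAs (IsAffineHom ι'))
  have h4 : Flat
      ((Over.pullback g).map (Over.homMk q hq : Over.mk (ι ≫ fX) ⟶ Over.mk fZ')).left :=
    MorphismProperty.of_isPullback (P := @Flat)
      (Groth.Agent.H87.FerrOver.isPullback_map_left g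
        (Over.homMk q hq : Over.mk (ι ≫ fX) ⟶ Over.mk fZ')).flip (inferInstanceAs (Flat q))
  have h5 : Surjective
      ((Over.pullback g).map (Over.homMk q hq : Over.mk (ι ≫ fX) ⟶ Over.mk fZ')).left :=
    MorphismProperty.of_isPullback (P := @Surjective)
      (Groth.Agent.H87.FerrOver.isPullback_map_left g
        (Over.homMk q hq : Over.mk (ι ≫ fX) ⟶ Over.mk fZ')).flip (inferInstanceAs (Surjective q))
  generalize hιT : ((Over.pullback g).map
    (Over.homMk ι rfl : Over.mk (ι ≫ fX) ⟶ Over.mk fX)).left = ιT at hXT h1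
  generalize hqT : ((Over.pullback g).map
    (Over.homMk q hq : Over.mk (ι ≫ fX) ⟶ Over.mk fZ')).left = qT at hXT h4 h5
  generalize hι'T : ((Over.pullback g).map
    (Over.homMk ι' hι' : Over.mk fZ' ⟶ Over.mk fX')).left = ι'T at hXT h3
  have hπsnd : ((Over.pullback g).map (Over.homMk π hπ : Over.mk fX ⟶ Over.mk fX')).left ≫
      Limits.pullback.snd fX' g = Limits.pullback.snd fX g := Limits.pullback.lift_snd _ _ _
  generalize hπT : ((Over.pullback g).map
    (Over.homMk π hπ : Over.mk fX ⟶ Over.mk fX')).left = πT at hXT h2 hπsnd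
  have h : IsPushout ιT.toLRSHom qT.toLRSHom (Limits.pushout.inl ιT.toLRSHom qT.toLRSHom)
      (Limits.pushout.inr ιT.toLRSHom qT.toLRSHom) := IsPushout.of_hasPushout _ _
  have hcov := Groth.Agent.H87.FerrScheme.covered_of_isPushout_affine hXT.w h
  have sq := Groth.Agent.H87.FerrScheme.isFibSq_of_isPushout' h hcov hXT
    ((Limits.pullback.snd fX' g) ⁻¹ᵁ U)
  have heq : ιT ⁻¹ᵁ πT ⁻¹ᵁ (Limits.pullback.snd fX' g) ⁻¹ᵁ U =
      qT ⁻¹ᵁ ι'T ⁻¹ᵁ (Limits.pullback.snd fX' g) ⁻¹ᵁ U := by
    change (ιT ≫ πT) ⁻¹ᵁ ((Limits.pullback.snd fX' g) ⁻¹ᵁ U) =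
      (qT ≫ ι'T) ⁻¹ᵁ ((Limits.pullback.snd fX' g) ⁻¹ᵁ U)
    rw [hXT.w]
  have hginj := Groth.Agent.H87.FerrRS.injective_appLE_of_eq qT
    (ι'T ⁻¹ᵁ (Limits.pullback.snd fX' g) ⁻¹ᵁ U) _ heq
    (Groth.Agent.H87.FerrScheme.preimage_le_of_isPushout hXT _)
    (Groth.Agent.H87.FerrRS.injective_app_of_flat_of_surjective qT _)
  have hpinj : Function.Injective (πT.app ((Limits.pullback.snd fX' g) ⁻¹ᵁ U)).hom := by
    intro r r' hrr'
    apply sq.ext _ _ hrr'
    apply hginj
    rw [← sq.comm, ← sq.comm, hrr']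
  have hcomp : (Limits.pullback.snd fX' g).app U ≫ πT.app ((Limits.pullback.snd fX' g) ⁻¹ᵁ U) =
      (Limits.pullback.snd fX g).app U ≫ (Limits.pullback fX g).presheaf.map
        (eqToHom (by rw [← hπsnd]; rfl)).op := by
    rw [← Scheme.Hom.comp_app, Scheme.Hom.congr_app hπsnd U]
    rfl
  have hiso : IsIso ((Limits.pullback.snd fX' g).app U ≫
      πT.app ((Limits.pullback.snd fX' g) ⁻¹ᵁ U)) := by
    rw [hcomp]
    have := hX T g U
    infer_instance
  have hbij : Function.Bijective ((Limits.pullback.snd fX' g).app U ≫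
      πT.app ((Limits.pullback.snd fX' g) ⁻¹ᵁ U)).hom := ConcreteCategory.bijective_of_isIso _
  rw [CommRingCat.hom_comp] at hbij
  refine (ConcreteCategory.isIso_iff_bijective _).mpr ⟨?_, ?_⟩
  · exact Function.Injective.of_comp hbij.1
  · intro r
    obtain ⟨t, ht⟩ := hbij.2 ((πT.app ((Limits.pullback.snd fX' g) ⁻¹ᵁ U)).hom r)
    exact ⟨t, hpinj ht⟩

end Groth.Agent.S17905
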