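import Groth.Statements.S17934
import Groth.Agent.H89.MultCrvBasic

set_option autoImplicit false
universe u
open MultCrv

namespace Groth.Agent.S17934

/-- Let R be a discrete valuation ring, n ≥ 1, A = R[X]/(X^n) with z the class of X, and M a finitely
generated A-module that is torsion-free as an R-module. Then for 1 ≤ i ≤ n the graded piece
M^(i)/M^(i-1) of the second canonical filtration (M^(i) the elements killed by z^i) is a free
R-module. (Statement at a closed point of the sheaf statement on a primitive multiple curve of
multiplicity n, whose local rings are of the form R[X]/(X^n) with R the local ring of the reduced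
smooth curve; stated for every discrete valuation ring R.) -/
theorem result (R : Type u) [CommRing R] [IsDomain R] [IsDiscreteValuationRing R] (n : ℕ) (hn : 1 ≤ n) (M : Type u) [AddCommGroup M] [Module (MultCrv.Rn R n) M] [Module R M] [IsScalarTower R (MultCrv.Rn R n) M] [Module.Finite (MultCrv.Rn R n) M] [Module.IsTorsionFree R M] (i : ℕ) (hi : 1 ≤ i) (hin : i ≤ n) : Module.Free R (MultCrv.G2 R n M i) := by
  have hfin : Module.Finite R M := Groth.Agent.H89.finite_of_finite_Rn R n M
  have : IsNoetherian R M := inferInstance
  let ι : ↥(MultCrv.filt2 R n M i) →ₗ[R] M :=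
    { toFun := fun x => (x : M)
      map_add' := fun _ _ => rfl
      map_smul' := fun _ _ => rfl }
  have hι : Function.Injective ι := Subtype.val_injective
  have hfin1 : Module.Finite R ↥(MultCrv.filt2 R n M i) := Module.Finite.of_injective ι hι
  let q : ↥(MultCrv.filt2 R n M i) →ₗ[R] MultCrv.G2 R n M i :=
    { toFun := fun x => Submodule.Quotient.mk x
      map_add' := fun _ _ => rfl
      map_smul' := fun _ _ => rfl }
  have hq : Function.Surjective q := Submodule.Quotient.mk_surjective _
  have hfin2 : Module.Finite R (MultCrv.G2 R n M i) := Module.Finite.of_surjective q hq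
  rw [Module.free_iff_isTorsionFree, Module.isTorsionFree_iff_smul_eq_zero]
  intro r x hrx
  by_cases hr : r = 0
  · exact Or.inl hr
  right
  obtain ⟨u, rfl⟩ := hq x
  change r • Submodule.Quotient.mk u = 0 at hrx
  change Submodule.Quotient.mk u = 0
  rw [← Submodule.Quotient.mk_smul, Submodule.Quotient.mk_eq_zero, Submodule.mem_comap,
    Groth.Agent.H89.mem_filt2_iff] at hrx
  rw [Submodule.Quotient.mk_eq_zero, Submodule.mem_comap, Groth.Agent.H89.mem_filt2_iff]
  have h1 : r • (MultCrv.z R n ^ (i - 1) • (u : M)) = 0 := by
    rw [Groth.Agent.H89.smul_comm_Rn]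
    exact hrx
  exact (smul_eq_zero.mp h1).resolve_left hr

end Groth.Agent.S17934
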