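import Groth.Statements.S17969
import Mathlib

set_option autoImplicit false
universe u
open scoped TensorProduct
open CAlg

namespace Groth.Agent.S17969

/-- Let A be an integrally closed domain with fraction field K and B a commutative A-algebra which is
finite and torsion-free as an A-module and generated as an A-algebra by a single element x. Let P be
the characteristic polynomial of multiplication by 1 ⊗ x on the finite free K-module K ⊗_A B. Then P
has coefficients in A, namely P is the image of a monic polynomial over A, and the kernel of the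
A-algebra map A[T] → B sending T to x is generated by that polynomial, so that B is A[T]/(P). -/
theorem result
    (A : Type u) [CommRing A] [IsDomain A] [IsIntegrallyClosed A]
    (B : Type u) [CommRing B] [Algebra A B] [Module.Finite A B] [NoZeroSMulDivisors A B]
    (x : B) (hx : Algebra.adjoin A {x} = ⊤) :
    ∃ P : Polynomial A, P.Monic ∧
      Polynomial.map (algebraMap A (FractionRing A)) P =
        (LinearMap.mulLeft (FractionRing A) ((1 : FractionRing A) ⊗ₜ[A] x)).charpoly ∧
      RingHom.ker (Polynomial.aeval x).toRingHom = Ideal.span {P} := by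
  classical
  let K := FractionRing A
  let L := K ⊗[A] B
  let y : L := (1 : K) ⊗ₜ[A] x
  -- `y` generates `L` over `K`
  have hy_top : Algebra.adjoin K {y} = ⊤ := by
    have := Algebra.TensorProduct.adjoin_one_tmul_image_eq_top (A := K) ({x} : Set B) hx
    simpa using this
  have hxint : IsIntegral A x := Algebra.IsIntegral.isIntegral x
  -- the monic minimal polynomial of `x` over `A`, killing `y`
  have hfy : Polynomial.aeval y ((minpoly A x).map (algebraMap A K)) = 0 := by
    rw [Polynomial.aeval_map_algebraMap]
    have h1 : y = (Algebra.TensorProduct.includeRight : B →ₐ[A] L) x := rfl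
    rw [h1, Polynomial.aeval_algHom_apply, minpoly.aeval, map_zero]
  have hyint : IsIntegral K y :=
    ⟨(minpoly A x).map (algebraMap A K), (minpoly.monic hxint).map _, by
      rw [← Polynomial.aeval_def]; exact hfy⟩
  have hQdvd : minpoly K y ∣ (minpoly A x).map (algebraMap A K) := minpoly.dvd K y hfy
  obtain ⟨P, hP⟩ := IsIntegrallyClosed.eq_map_mul_C_of_dvd K (minpoly.monic hxint) hQdvd
  rw [(minpoly.monic hyint).leadingCoeff, Polynomial.C_1, mul_one] at hP
  have hinjAK : Function.Injective (algebraMap A K) := IsFractionRing.injective A K
  have hPmonic : P.Monic := by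
    apply Polynomial.monic_of_injective hinjAK
    rw [hP]
    exact minpoly.monic hyint
  -- charpoly = minpoly
  let pb : PowerBasis K L := PowerBasis.ofAdjoinEqTop hyint hy_top
  have hpbgen : pb.gen = y := PowerBasis.ofAdjoinEqTop_gen hyint hy_top
  have hchar : (LinearMap.mulLeft K y).charpoly = minpoly K y := by
    rw [← LinearMap.charpoly_toMatrix (LinearMap.mulLeft K y) pb.basis]
    have := charpoly_leftMulMatrix pb
    rw [hpbgen] at this
    rw [← this]
    rfl
  -- injectivity of `B → L`
  have hinjBL : Function.Injective (fun b : B => (1 : K) ⊗ₜ[A] b) := by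
    intro b b' hbb'
    have h0 : TensorProduct.mk A K B 1 (b - b') = 0 := by
      rw [map_sub, sub_eq_zero]
      exact hbb'
    rw [IsLocalizedModule.eq_zero_iff (nonZeroDivisors A)] at h0
    obtain ⟨s, hs⟩ := h0
    have hs' : (s : A) • (b - b') = 0 := hs
    rcases smul_eq_zero.mp hs' with h | h
    · exact absurd h (nonZeroDivisors.coe_ne_zero s)
    · exact sub_eq_zero.mp h
  -- evaluation compatibility
  have hev : ∀ p : Polynomial A, Polynomial.aeval y (p.map (algebraMap A K))
      = (1 : K) ⊗ₜ[A] (Polynomial.aeval x p) := by
    intro p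
    rw [Polynomial.aeval_map_algebraMap]
    have h1 : y = (Algebra.TensorProduct.includeRight : B →ₐ[A] L) x := rfl
    rw [h1, Polynomial.aeval_algHom_apply]
    rfl
  have hPx : Polynomial.aeval x P = 0 := by
    apply hinjBL
    change (1 : K) ⊗ₜ[A] (Polynomial.aeval x P) = (1 : K) ⊗ₜ[A] (0 : B)
    rw [← hev, hP, minpoly.aeval, TensorProduct.tmul_zero]
  refine ⟨P, hPmonic, ?_, ?_⟩
  · rw [hP]
    exact hchar.symm
  · ext p
    rw [RingHom.mem_ker, Ideal.mem_span_singleton]
    change Polynomial.aeval x p = 0 ↔ P ∣ p
    constructor
    · intro hp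
      rw [← Polynomial.modByMonic_eq_zero_iff_dvd hPmonic]
      have hr : Polynomial.aeval x (p %ₘ P) = 0 := by
        rw [Polynomial.modByMonic_eq_sub_mul_div p P, map_sub, map_mul, hp, hPx, zero_mul,
          sub_zero]
      have hr' : Polynomial.aeval y ((p %ₘ P).map (algebraMap A K)) = 0 := by
        rw [hev, hr, TensorProduct.tmul_zero]
      have hdvd : minpoly K y ∣ (p %ₘ P).map (algebraMap A K) := minpoly.dvd K y hr'
      have hdeg : ((p %ₘ P).map (algebraMap A K)).degree < (minpoly K y).degree := by
        rw [← hP, Polynomial.degree_map_eq_of_injective hinjAK,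
          Polynomial.degree_map_eq_of_injective hinjAK]
        by_cases hP1 : P = 1
        · -- then everything is zero
          rw [hP1, Polynomial.modByMonic_one]
          simp
        · exact Polynomial.degree_modByMonic_lt p hPmonic
      have hzero := Polynomial.eq_zero_of_dvd_of_degree_lt hdvd hdeg
      exact (Polynomial.map_eq_zero_iff hinjAK).mp hzero
    · rintro ⟨q, rfl⟩
      rw [map_mul, hPx, zero_mul]

end Groth.Agent.S17969
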