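import Groth.Statements.S17971
import Mathlib
import Groth.Agent.H89.HensClopen

set_option autoImplicit false
open CategoryTheory CategoryTheory.Limits AlgebraicGeometry
universe u
open Hensel

namespace Groth.Agent.S17971

/-- For a commutative ring A and an ideal I, the pair (A, I) is henselian if and only if the couple
(Spec A, Spec (A/I)) is henselian, i.e. if and only if for every finite morphism g : Y ⟶ Spec A
every open-closed subset of Y ×_{Spec A} Spec (A/I) is the inverse image under the first projection
of exactly one open-closed subset of Y. -/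
theorem result (A : Type u) [CommRing A] (I : Ideal A) :
    HenselianRing A I ↔
    ∀ (Y : Scheme.{u}) (g : Y ⟶ Spec (CommRingCat.of A)), IsFinite g →
      ∀ V : Set ↥(pullback g (Spec.map (CommRingCat.ofHom (Ideal.Quotient.mk I)))), IsClopen V →
        ∃! U : Set ↥Y, IsClopen U ∧ (pullback.fst g (Spec.map (CommRingCat.ofHom (Ideal.Quotient.mk I)))).base ⁻¹' U = V := by
  constructor
  · intro h Y g hfin
    have hA : IsAffineHom g := inferInstance
    have hY : IsAffine Y := isAffine_of_isAffineHom g
    let ψ : CommRingCat.of A ⟶ Γ(Y, ⊤) := (Scheme.ΓSpecIso (CommRingCat.of A)).inv ≫ g.appTop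
    have hg : g = Y.isoSpec.hom ≫ Spec.map ψ := by
      simp only [ψ, Spec.map_comp]
      rw [Scheme.isoSpec_hom_naturality_assoc, Scheme.isoSpec_Spec_hom, ← Spec.map_comp,
        Iso.inv_hom_id, Spec.map_id, Category.comp_id]
    have hfin' : IsFinite (Spec.map ψ) := by
      have h1 : Spec.map ψ = Y.isoSpec.inv ≫ g := by rw [hg, Iso.inv_hom_id_assoc]
      rw [h1]
      infer_instance
    have hψ : ψ.hom.Finite := (IsFinite.SpecMap_iff ψ).mp hfin'
    let _ : Algebra A Γ(Y, ⊤) := ψ.hom.toAlgebra
    have hmf : Module.Finite A Γ(Y, ⊤) := hψ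
    have hbij := Groth.Agent.H3.bijOn_idempotents_of_henselianRing h Γ(Y, ⊤)
    exact (Groth.Agent.H89.HensClopen.fst_clopenLift_iff I Γ(Y, ⊤) Y.isoSpec ψ g hg).mpr hbij
  · intro H
    apply Groth.Agent.H3.henselianRing_of_bijOn_idempotents
    intro B _ _ hfin
    let ψ : CommRingCat.of A ⟶ CommRingCat.of B := CommRingCat.ofHom (algebraMap A B)
    have hg : Spec.map ψ = (Iso.refl (Spec (CommRingCat.of B))).hom ≫ Spec.map ψ := by
      simp
    have hfin' : IsFinite (Spec.map ψ) := (IsFinite.SpecMap_iff ψ).mpr (RingHom.finite_algebraMap.mpr hfin)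
    exact (Groth.Agent.H89.HensClopen.fst_clopenLift_iff I (CommRingCat.of B) (Iso.refl _) ψ
      (Spec.map ψ) hg).mp (H _ _ hfin')

end Groth.Agent.S17971
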