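import Groth.Statements.S17973
import Mathlib
import Groth.Agent.H89.EssEtTrans

set_option autoImplicit false
universe u
open EGA4loc

namespace Groth.Agent.S17973

/-- Let A be a local ring, B a local ring which is a local-etale A-algebra (isomorphic over A to the
localization of an etale A-algebra at a prime ideal lying over the maximal ideal of A), and C a
local-etale B-algebra, regarded as an A-algebra through B. Then C is a local-etale A-algebra. -/
theorem result (A : Type u) [CommRing A] [IsLocalRing A]
    (B : Type u) [CommRing B] [IsLocalRing B] [Algebra A B]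
    (C : Type u) [CommRing C] [Algebra B C] [Algebra A C] [IsScalarTower A B C]
    (hB : EGA4loc.IsEssentiallyEtale A B) (hC : EGA4loc.IsEssentiallyEtale B C) :
    EGA4loc.IsEssentiallyEtale A C := by
  have hloc := (Groth.Agent.H89.essEt_props A B hB).2.2.2
  obtain ⟨D, _, _, q, _, hD, hq, ⟨e⟩⟩ := hB
  obtain ⟨E, _, _, r, _, hE, hr, ⟨eC⟩⟩ := hC
  let algDB : Algebra D B :=
    ((e.symm : Localization.AtPrime q →+* B).comp (algebraMap D (Localization.AtPrime q))).toAlgebra
  have tower1 : IsScalarTower A D B := by
    apply IsScalarTower.of_algebraMap_eq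
    intro a
    change algebraMap A B a = e.symm (algebraMap D (Localization.AtPrime q) (algebraMap A D a))
    rw [← IsScalarTower.algebraMap_apply A D (Localization.AtPrime q), e.symm.commutes]
  let e' : Localization.AtPrime q ≃ₐ[D] B :=
    AlgEquiv.ofRingEquiv (f := e.symm.toRingEquiv) (fun d => rfl)
  have hlocB : IsLocalization.AtPrime B q :=
    IsLocalization.isLocalization_of_algEquiv q.primeCompl e'
  have : Algebra.FormallyEtale D (Localization.AtPrime q) :=
    Algebra.FormallyEtale.of_isLocalization q.primeCompl
  have : Algebra.FormallyEtale A (Localization.AtPrime q) :=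
    Algebra.FormallyEtale.comp A D (Localization.AtPrime q)
  have : Algebra.FormallyEtale A B := Algebra.FormallyEtale.of_equiv e.symm
  letI : Algebra A E := ((algebraMap B E).comp (algebraMap A B)).toAlgebra
  have : IsScalarTower A B E := IsScalarTower.of_algebraMap_eq (fun _ => rfl)
  obtain ⟨G, _, _, t, _, hG, ht, ⟨iso⟩⟩ := Groth.Agent.H89.essEt_trans_key A D q B E r
  refine ⟨G, inferInstance, inferInstance, t, inferInstance, hG, ?_, ⟨?_⟩⟩
  · rw [ht, IsScalarTower.algebraMap_eq A B E, ← Ideal.comap_comap, hr, hloc]
  · exact (eC.restrictScalars A).trans iso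

end Groth.Agent.S17973
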