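import Groth.Statements.S17974
import Mathlib.RingTheory.Unramified.Finite

set_option autoImplicit false
universe u
open Unram

namespace Groth.Agent.S17974

open TensorProduct in
/-- Let A be a commutative ring, B an unramified A-algebra (formally unramified and of finite type), C
an A-algebra, p a prime ideal of C, and u, v : B → C two A-algebra homomorphisms which agree after
composition with C → C/p. Then there is an element f of C not in p such that u and v agree after
composition with the localization map C → C[1/f]. -/
theorem result
    (A : Type u) [CommRing A] (B : Type u) [CommRing B] [Algebra A B]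
    [Algebra.FormallyUnramified A B] [Algebra.FiniteType A B]
    (C : Type u) [CommRing C] [Algebra A C] (p : Ideal C) [p.IsPrime]
    (u v : B →ₐ[A] C)
    (huv : (Ideal.Quotient.mk p).comp u.toRingHom = (Ideal.Quotient.mk p).comp v.toRingHom) :
    ∃ f : C, f ∉ p ∧
      (algebraMap C (Localization.Away f)).comp u.toRingHom =
        (algebraMap C (Localization.Away f)).comp v.toRingHom := by
  classical
  -- the product map `w : B ⊗ B → C`, `b ⊗ b' ↦ u b * v b'`
  let w : B ⊗[A] B →ₐ[A] C := Algebra.TensorProduct.productMap u v
  let t : B ⊗[A] B := Algebra.FormallyUnramified.elem A B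
  have ht₁ : ∀ s : B, ((1 : B) ⊗ₜ[A] s - s ⊗ₜ[A] (1 : B)) * t = 0 :=
    Algebra.FormallyUnramified.one_tmul_sub_tmul_one_mul_elem
  have ht₂ : Algebra.TensorProduct.lmul' A t = 1 := Algebra.FormallyUnramified.lmul_elem
  have hw : ∀ s : B, (v s - u s) * w t = 0 := by
    intro s
    have := congrArg w (ht₁ s)
    simpa [w, map_mul, map_sub, Algebra.TensorProduct.productMap_apply_tmul] using this
  -- modulo `p`, `w` factors through multiplication
  have hmod : ∀ x : B ⊗[A] B, Ideal.Quotient.mk p (w x) =
      Ideal.Quotient.mk p (u (Algebra.TensorProduct.lmul' A x)) := by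
    intro x
    induction x using TensorProduct.induction_on with
    | zero => simp
    | tmul a b =>
      have hb : Ideal.Quotient.mk p (v b) = Ideal.Quotient.mk p (u b) := by
        have := congrArg (fun g => g b) huv
        simpa using this.symm
      simp [w, Algebra.TensorProduct.productMap_apply_tmul, map_mul, hb]
    | add x y hx hy => simp [map_add, hx, hy]
  refine ⟨w t, ?_, ?_⟩
  · intro hmem
    have h1 : Ideal.Quotient.mk p (w t) = 1 := by
      rw [hmod, ht₂, map_one, map_one]
    rw [Ideal.Quotient.eq_zero_iff_mem.mpr hmem] at h1
    have : (1 : C) ∈ p := by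
      rw [← Ideal.Quotient.eq_zero_iff_mem, map_one]; exact h1.symm
    exact (Ideal.ne_top_iff_one p).mp (Ideal.IsPrime.ne_top ‹_›) this
  · ext s
    simp only [RingHom.coe_comp, Function.comp_apply, AlgHom.toRingHom_eq_coe, RingHom.coe_coe]
    have hunit : IsUnit (algebraMap C (Localization.Away (w t)) (w t)) :=
      IsLocalization.Away.algebraMap_isUnit (w t)
    have h0 : algebraMap C (Localization.Away (w t)) (v s - u s) *
        algebraMap C (Localization.Away (w t)) (w t) = 0 := by
      rw [← map_mul, hw, map_zero]
    have h1 : algebraMap C (Localization.Away (w t)) (v s - u s) = 0 :=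
      (hunit.mul_left_eq_zero).mp h0
    rw [map_sub, sub_eq_zero] at h1
    exact h1.symm

end Groth.Agent.S17974
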