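import Groth.Statements.S17975
import Mathlib

set_option autoImplicit false
universe u
open Hensel

namespace Groth.Agent.S17975

open Polynomial in
/-- Let A be a local ring with maximal ideal m and residue field k, C a commutative A-algebra which is
finitely generated as an A-module, Q₀ a monic polynomial of degree n over k, e an A-algebra
isomorphism from C/mC to k[T]/(Q₀), and x an element of C whose class is sent by e to the class of
T. Then x generates C as an A-algebra, and x is a root of a monic polynomial Q over A of degree n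
whose reduction modulo m equals Q₀. -/
theorem result
    (A : Type u) [CommRing A] [IsLocalRing A] (C : Type u) [CommRing C] [Algebra A C] [Module.Finite A C]
    (Q₀ : Polynomial (IsLocalRing.ResidueField A)) (hQ₀ : Q₀.Monic)
    (e : (C ⧸ Ideal.map (algebraMap A C) (IsLocalRing.maximalIdeal A)) ≃ₐ[A] AdjoinRoot Q₀)
    (x : C) (hx : e (Ideal.Quotient.mk (Ideal.map (algebraMap A C) (IsLocalRing.maximalIdeal A)) x) = AdjoinRoot.root Q₀) :
    Algebra.adjoin A {x} = ⊤ ∧
      ∃ Q : Polynomial A, Q.Monic ∧ Q.natDegree = Q₀.natDegree ∧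
        Polynomial.map (IsLocalRing.residue A) Q = Q₀ ∧ Polynomial.aeval x Q = 0 := by
  classical
  let π : C →ₐ[A] C ⧸ Ideal.map (algebraMap A C) (IsLocalRing.maximalIdeal A) :=
    Ideal.Quotient.mkₐ A (Ideal.map (algebraMap A C) (IsLocalRing.maximalIdeal A))
  have hπx : e (π x) = AdjoinRoot.root Q₀ := hx
  let pb := AdjoinRoot.powerBasis' hQ₀
  have hsm : ∀ (a : A) (y : AdjoinRoot Q₀), a • y = (IsLocalRing.residue A a) • y := by
    intro a y
    rw [← IsLocalRing.ResidueField.algebraMap_eq]
    exact (algebraMap_smul (IsLocalRing.ResidueField A) a y).symm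
  -- every element is a combination of the powers of `x` modulo `I`
  have key : ∀ c : C, ∃ a : Fin Q₀.natDegree → A, c - ∑ i : Fin Q₀.natDegree, a i • x ^ (i : ℕ) ∈
      Ideal.map (algebraMap A C) (IsLocalRing.maximalIdeal A) := by
    intro c
    choose a ha using fun i : Fin Q₀.natDegree =>
      IsLocalRing.residue_surjective (pb.basis.repr (e (π c)) i)
    refine ⟨a, ?_⟩
    rw [← Ideal.Quotient.eq_zero_iff_mem]
    change π (c - ∑ i : Fin Q₀.natDegree, a i • x ^ (i : ℕ)) = 0
    apply e.injective
    rw [map_zero, map_sub, map_sub, sub_eq_zero, map_sum, map_sum]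
    conv_lhs => rw [← pb.basis.sum_repr (e (π c))]
    refine Finset.sum_congr rfl fun i _ => ?_
    rw [map_smul, map_smul, map_pow, map_pow, hπx, hsm, ha i, pb.basis_eq_pow]
    rfl
  have hspan : Submodule.span A (Set.range fun i : Fin Q₀.natDegree => x ^ (i : ℕ)) = ⊤ := by
    have hfg : (⊤ : Submodule A C).FG := Module.Finite.fg_top
    have hle : (⊤ : Submodule A C) ≤
        Submodule.span A (Set.range fun i : Fin Q₀.natDegree => x ^ (i : ℕ)) ⊔ (IsLocalRing.maximalIdeal A) • ⊤ := by
      intro c _
      obtain ⟨a, ha⟩ := key c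
      have hc : c = ∑ i : Fin Q₀.natDegree, a i • x ^ (i : ℕ) +
          (c - ∑ i : Fin Q₀.natDegree, a i • x ^ (i : ℕ)) := by abel
      rw [hc]
      apply Submodule.add_mem_sup
      · exact Submodule.sum_mem _ fun i _ =>
          Submodule.smul_mem _ _ (Submodule.subset_span ⟨i, rfl⟩)
      · rw [Ideal.smul_top_eq_map]; exact ha
    exact top_le_iff.mp (Submodule.le_of_le_smul_of_le_jacobson_bot hfg
      (le_of_eq (IsLocalRing.jacobson_eq_maximalIdeal ⊥ bot_ne_top).symm) hle)
  constructor
  · rw [eq_top_iff]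
    intro c _
    have hc : c ∈ Submodule.span A (Set.range fun i : Fin Q₀.natDegree => x ^ (i : ℕ)) := by
      rw [hspan]; trivial
    have hle : Submodule.span A (Set.range fun i : Fin Q₀.natDegree => x ^ (i : ℕ)) ≤
        Subalgebra.toSubmodule (Algebra.adjoin A {x}) := by
      rw [Submodule.span_le]
      rintro _ ⟨i, rfl⟩
      show x ^ (i : ℕ) ∈ Algebra.adjoin A {x}
      exact (Algebra.adjoin A {x}).pow_mem (Algebra.subset_adjoin (Set.mem_singleton x)) _
    exact hle hc
  · have hxn : x ^ Q₀.natDegree ∈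
        Submodule.span A (Set.range fun i : Fin Q₀.natDegree => x ^ (i : ℕ)) := by
      rw [hspan]; trivial
    obtain ⟨a, ha⟩ := (Submodule.mem_span_range_iff_exists_fun A).mp hxn
    set p : A[X] := ∑ i : Fin Q₀.natDegree, Polynomial.C (a i) * X ^ (i : ℕ) with hp
    have hpdeg : p.degree < (Q₀.natDegree : WithBot ℕ) := Polynomial.degree_sum_fin_lt a
    have hQmonic : (X ^ Q₀.natDegree - p).Monic := Polynomial.monic_X_pow_sub hpdeg
    have hQdeg : (X ^ Q₀.natDegree - p).natDegree = Q₀.natDegree := by
      apply Polynomial.natDegree_eq_of_degree_eq_some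
      rw [Polynomial.degree_sub_eq_left_of_degree_lt, Polynomial.degree_X_pow]
      rw [Polynomial.degree_X_pow]; exact hpdeg
    have hroot : Polynomial.aeval x (X ^ Q₀.natDegree - p) = 0 := by
      rw [map_sub, map_pow, Polynomial.aeval_X, hp, map_sum, ← ha, sub_eq_zero]
      refine Finset.sum_congr rfl fun i _ => ?_
      rw [map_mul, Polynomial.aeval_C, map_pow, Polynomial.aeval_X, Algebra.smul_def]
    refine ⟨X ^ Q₀.natDegree - p, hQmonic, hQdeg, ?_, hroot⟩
    have hmapmonic : (Polynomial.map (IsLocalRing.residue A) (X ^ Q₀.natDegree - p)).Monic :=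
      hQmonic.map _
    have hdvd : Q₀ ∣ Polynomial.map (IsLocalRing.residue A) (X ^ Q₀.natDegree - p) := by
      rw [← AdjoinRoot.mk_eq_zero, ← AdjoinRoot.aeval_eq]
      have h1 : (e : (C ⧸ Ideal.map (algebraMap A C) (IsLocalRing.maximalIdeal A)) →ₐ[A] AdjoinRoot Q₀) (π (Polynomial.aeval x (X ^ Q₀.natDegree - p))) = 0 := by
        rw [hroot, map_zero, map_zero]
      rw [← Polynomial.aeval_algHom_apply, ← Polynomial.aeval_algHom_apply] at h1
      have h2 : (e : (C ⧸ Ideal.map (algebraMap A C) (IsLocalRing.maximalIdeal A)) →ₐ[A] AdjoinRoot Q₀) (π x) = AdjoinRoot.root Q₀ := hπx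
      rw [h2] at h1
      rw [← IsLocalRing.ResidueField.algebraMap_eq, Polynomial.aeval_map_algebraMap]
      exact h1
    have := Polynomial.eq_of_monic_of_dvd_of_natDegree_le hQ₀ hmapmonic hdvd
      (by rw [hQmonic.natDegree_map, hQdeg])
    exact this

end Groth.Agent.S17975
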