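import Groth.Statements.S17977
import Groth.Agent.H89.EssEt

set_option autoImplicit false
universe u
open EGA4loc

namespace Groth.Agent.S17977

/-- Let A be a local ring, B a local ring which is a local-etale A-algebra, and C a local ring with a
local structure map A → C. Then every A-algebra homomorphism B → C is local. (The source states this
for local ind-etale B, i.e. filtered colimits of local-etale algebras along local maps, and reduces
at once to the local-etale case stated here.) -/
theorem result (A : Type u) [CommRing A] [IsLocalRing A]
    (B : Type u) [CommRing B] [IsLocalRing B] [Algebra A B] (hB : EGA4loc.IsEssentiallyEtale A B)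
    (C : Type u) [CommRing C] [IsLocalRing C] [Algebra A C] [IsLocalHom (algebraMap A C)]
    (φ : B →ₐ[A] C) : IsLocalHom φ.toRingHom := by
  obtain ⟨hqf, -, -, hmB⟩ := Groth.Agent.H89.essEt_props A B hB
  apply ((IsLocalRing.local_hom_TFAE φ.toRingHom).out 0 4).mpr
  have hprime : ((IsLocalRing.maximalIdeal C).comap φ.toRingHom).IsPrime :=
    Ideal.comap_isPrime _ _
  have hle : (IsLocalRing.maximalIdeal C).comap φ.toRingHom ≤ IsLocalRing.maximalIdeal B :=
    IsLocalRing.le_maximalIdeal hprime.ne_top
  refine Algebra.QuasiFinite.eq_of_le_of_under_eq (R := A) _ _ hle ?_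
  have hl : IsLocalHom (algebraMap A C) := inferInstance
  have hmC : (IsLocalRing.maximalIdeal C).comap (algebraMap A C) = IsLocalRing.maximalIdeal A :=
    ((IsLocalRing.local_hom_TFAE (algebraMap A C)).out 0 4).mp hl
  change Ideal.comap (algebraMap A B) ((IsLocalRing.maximalIdeal C).comap φ.toRingHom) =
    Ideal.comap (algebraMap A B) (IsLocalRing.maximalIdeal B)
  rw [hmB, Ideal.comap_comap]
  have : φ.toRingHom.comp (algebraMap A B) = algebraMap A C := by
    ext a; simp
  rw [this, hmC]

end Groth.Agent.S17977
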