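import Groth.Statements.S17978
import Groth.Agent.H89.EssEt

set_option autoImplicit false
universe u
open EGA4loc

namespace Groth.Agent.S17978

open TensorProduct in
/-- Let A be a local ring, B a local ring which is a local-etale A-algebra, and C a local ring with a
local structure map A → C. Then two A-algebra homomorphisms B → C which agree after composition with
the residue map of C are equal; in other words an A-algebra map B → C is determined by the map it
induces on residue fields. (The source states this for local ind-etale B and reduces to the
local-etale case stated here; C is an arbitrary local A-algebra with local structure map.) -/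
theorem result (A : Type u) [CommRing A] [IsLocalRing A]
    (B : Type u) [CommRing B] [IsLocalRing B] [Algebra A B] (hB : EGA4loc.IsEssentiallyEtale A B)
    (C : Type u) [CommRing C] [IsLocalRing C] [Algebra A C] [IsLocalHom (algebraMap A C)]
    (u v : B →ₐ[A] C)
    (h : (IsLocalRing.residue C).comp u.toRingHom = (IsLocalRing.residue C).comp v.toRingHom) :
    u = v := by
  obtain ⟨-, hunr, hess, -⟩ := Groth.Agent.H89.essEt_props A B hB
  let w : B ⊗[A] B →ₐ[A] C := Algebra.TensorProduct.productMap u v
  let t : B ⊗[A] B := Algebra.FormallyUnramified.elem A B
  have ht₁ : ∀ s : B, ((1 : B) ⊗ₜ[A] s - s ⊗ₜ[A] (1 : B)) * t = 0 :=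
    Algebra.FormallyUnramified.one_tmul_sub_tmul_one_mul_elem
  have ht₂ : Algebra.TensorProduct.lmul' A t = 1 := Algebra.FormallyUnramified.lmul_elem
  have hw : ∀ s : B, (v s - u s) * w t = 0 := by
    intro s
    have := congrArg w (ht₁ s)
    simpa [w, map_mul, map_sub, Algebra.TensorProduct.productMap_apply_tmul] using this
  have hmod : ∀ x : B ⊗[A] B, IsLocalRing.residue C (w x) =
      IsLocalRing.residue C (u (Algebra.TensorProduct.lmul' A x)) := by
    intro x
    induction x using TensorProduct.induction_on with
    | zero => simp
    | tmul a b =>
      have hb : IsLocalRing.residue C (v b) = IsLocalRing.residue C (u b) := by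
        have := congrArg (fun g => g b) h
        simpa using this.symm
      simp [w, Algebra.TensorProduct.productMap_apply_tmul, map_mul, hb]
    | add x y hx hy => simp [map_add, hx, hy]
  have hunit : IsUnit (w t) := by
    have h1 : IsLocalRing.residue C (w t) = 1 := by
      rw [hmod, ht₂, map_one, map_one]
    by_contra hnu
    have : w t ∈ IsLocalRing.maximalIdeal C := (IsLocalRing.mem_maximalIdeal _).mpr hnu
    rw [(IsLocalRing.residue_eq_zero_iff _).mpr this] at h1
    exact zero_ne_one h1
  ext s
  have := (hunit.mul_left_eq_zero).mp (hw s)
  exact (sub_eq_zero.mp this).symm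

end Groth.Agent.S17978
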