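import Groth.Statements.S17979
import Groth.Agent.H89.Jac

set_option autoImplicit false
universe u
open Hensel

namespace Groth.Agent.S17979

open Polynomial in
/-- Let A be a local ring with residue field k and Q, R polynomials over A with Q monic. If the images
of Q and R in k[T] generate the unit ideal, then Q and R already generate the unit ideal of A[T]. -/
theorem result (A : Type u) [CommRing A] [IsLocalRing A]
    (Q R : Polynomial A) (hQ : Q.Monic)
    (h : IsCoprime (Polynomial.map (IsLocalRing.residue A) Q) (Polynomial.map (IsLocalRing.residue A) R)) :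
    IsCoprime Q R := by
  obtain ⟨a', b', hab⟩ := h
  obtain ⟨a, rfl⟩ := Polynomial.map_surjective (IsLocalRing.residue A) IsLocalRing.residue_surjective a'
  obtain ⟨b, rfl⟩ := Polynomial.map_surjective (IsLocalRing.residue A) IsLocalRing.residue_surjective b'
  -- `c = a Q + b R - 1` has coefficients in the maximal ideal
  have hc : a * Q + b * R - 1 ∈ Ideal.map (C : A →+* A[X]) (IsLocalRing.maximalIdeal A) := by
    rw [← IsLocalRing.ker_residue, ← Polynomial.ker_mapRingHom, RingHom.mem_ker]
    simp only [coe_mapRingHom, Polynomial.map_sub, Polynomial.map_add, Polynomial.map_mul,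
      Polynomial.map_one]
    rw [hab, sub_self]
  have : Module.Finite A (AdjoinRoot Q) := hQ.finite_adjoinRoot
  have : Algebra.IsIntegral A (AdjoinRoot Q) := Algebra.IsIntegral.of_finite A _
  have hJ : Ideal.map (algebraMap A (AdjoinRoot Q)) (IsLocalRing.maximalIdeal A) ≤
      Ideal.jacobson (⊥ : Ideal (AdjoinRoot Q)) :=
    Groth.Agent.H89.map_le_jacobson_of_isIntegral _
      (le_of_eq (IsLocalRing.jacobson_eq_maximalIdeal ⊥ bot_ne_top).symm)
  have hmk : AdjoinRoot.mk Q (a * Q + b * R - 1) ∈
      Ideal.map (algebraMap A (AdjoinRoot Q)) (IsLocalRing.maximalIdeal A) := by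
    have := Ideal.mem_map_of_mem (AdjoinRoot.mk Q) hc
    rw [Ideal.map_map] at this
    exact this
  have hunit : IsUnit (AdjoinRoot.mk Q R) := by
    apply Groth.Agent.H89.isUnit_of_mul_sub_one_mem_jacobson _ (AdjoinRoot.mk Q b)
    have e : AdjoinRoot.mk Q R * AdjoinRoot.mk Q b - 1 = AdjoinRoot.mk Q (a * Q + b * R - 1) := by
      simp only [map_sub, map_add, map_mul, map_one, AdjoinRoot.mk_self, mul_zero, zero_add]
      ring
    rw [e]
    exact hJ hmk
  obtain ⟨⟨u, v, huv, -⟩, rfl⟩ := hunit
  obtain ⟨v', rfl⟩ := AdjoinRoot.mk_surjective v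
  rw [← map_mul, ← map_one (AdjoinRoot.mk Q), AdjoinRoot.mk_eq_mk] at huv
  obtain ⟨w, hw⟩ := huv
  refine ⟨-w, v', ?_⟩
  linear_combination hw

end Groth.Agent.S17979
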