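import Groth.Statements.S17980
import Groth.Agent.S17979

set_option autoImplicit false
universe u
open Hensel

namespace Groth.Agent.S17980

/-- Let A be a local ring with residue field k, and let Q R = U V be two factorizations of one
polynomial over A with Q and U monic, such that Q and U have the same image in k[T], R and V have
the same image in k[T], and the images of Q and R in k[T] generate the unit ideal. Then Q = U and R
= V. -/
theorem result (A : Type u) [CommRing A] [IsLocalRing A]
    (Q R U V : Polynomial A) (hQ : Q.Monic) (hU : U.Monic)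
    (hQU : Polynomial.map (IsLocalRing.residue A) Q = Polynomial.map (IsLocalRing.residue A) U)
    (hRV : Polynomial.map (IsLocalRing.residue A) R = Polynomial.map (IsLocalRing.residue A) V)
    (hcop : IsCoprime (Polynomial.map (IsLocalRing.residue A) Q) (Polynomial.map (IsLocalRing.residue A) R))
    (h : Q * R = U * V) : Q = U ∧ R = V := by
  have h1 : IsCoprime Q V := Groth.Agent.S17979.result A Q V hQ (hRV ▸ hcop)
  have h2 : IsCoprime U R := Groth.Agent.S17979.result A U R hU (hQU ▸ hcop)
  have hQdvd : Q ∣ U := by
    apply h1.dvd_of_dvd_mul_right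
    exact ⟨R, h.symm⟩
  have hUdvd : U ∣ Q := by
    apply h2.dvd_of_dvd_mul_right
    exact ⟨V, h⟩
  obtain ⟨c, hc⟩ := hQdvd
  obtain ⟨d, hd⟩ := hUdvd
  have hcd : c * d = 1 := by
    have : Q * (c * d) = Q * 1 := by
      rw [← mul_assoc, ← hc, ← hd, mul_one]
    exact hQ.isRegular.left this
  have hcm : c.Monic := hQ.of_mul_monic_left (hc ▸ hU)
  have hc1 : c = 1 := hcm.eq_one_of_isUnit (IsUnit.of_mul_eq_one d hcd)
  have hQU' : Q = U := by rw [hc, hc1, mul_one]
  refine ⟨hQU', ?_⟩
  rw [← hQU'] at h
  exact hQ.isRegular.left h

end Groth.Agent.S17980
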