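import Groth.Statements.S17981
import Mathlib

set_option autoImplicit false
universe u
open Hensel

namespace Groth.Agent.S17981

/-- Let A be a commutative ring, I an ideal contained in the Jacobson radical of A, and B a commutative
A-algebra which is finitely generated as an A-module. Then two idempotents of B with the same image
in B/IB are equal. -/
theorem result (A : Type u) [CommRing A] (I : Ideal A)
    (hI : I ≤ Ideal.jacobson ⊥) (B : Type u) [CommRing B] [Algebra A B] [Module.Finite A B] :
    Set.InjOn (Ideal.Quotient.mk (Ideal.map (algebraMap A B) I)) {e : B | IsIdempotentElem e} := by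
  have hint : Algebra.IsIntegral A B := Algebra.IsIntegral.of_finite A B
  -- `I B` lies in the Jacobson radical of `B`
  have hJ : Ideal.map (algebraMap A B) I ≤ Ideal.jacobson (⊥ : Ideal B) := by
    rw [Ideal.map_le_iff_le_comap]
    intro a ha
    rw [Ideal.mem_comap, Ideal.jacobson, Ideal.mem_sInf]
    rintro m ⟨-, hm⟩
    have hmax : (m.comap (algebraMap A B)).IsMaximal :=
      Ideal.isMaximal_comap_of_isIntegral_of_isMaximal (R := A) m
    have : a ∈ m.comap (algebraMap A B) := by
      have h1 : a ∈ Ideal.jacobson (⊥ : Ideal A) := hI ha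
      rw [Ideal.jacobson, Ideal.mem_sInf] at h1
      exact h1 ⟨bot_le, hmax⟩
    exact this
  intro e he e' he' hee'
  have he : e * e = e := he
  have he' : e' * e' = e' := he'
  have hd : e - e' ∈ Ideal.map (algebraMap A B) I := by
    rw [← Ideal.Quotient.eq_zero_iff_mem, map_sub, hee', sub_self]
  have hdJ : e - e' ∈ Ideal.jacobson (⊥ : Ideal B) := hJ hd
  have hunit : IsUnit ((e - e') * (-(e - e')) + 1) := Ideal.mem_jacobson_bot.mp hdJ _
  have hcube : (e - e') * ((e - e') * (-(e - e')) + 1) = 0 := by
    have : (e - e') * ((e - e') * (-(e - e')) + 1) =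
        -(e * e * e) + 3 * (e * e) * e' - 3 * e * (e' * e') + e' * e' * e' + e - e' := by ring
    rw [this, he, he', he, he']
    have h2 : 3 * e * e' - 3 * e * e' = 0 := sub_self _
    linear_combination h2
  have := (hunit.mul_left_eq_zero).mp hcube
  exact sub_eq_zero.mp this

end Groth.Agent.S17981
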