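import Groth.Statements.S17985
import Mathlib
import Groth.Agent.H89.WeilCI8
import Groth.Agent.H89.WeilGor
import Groth.Agent.H54.Dim

set_option autoImplicit false
universe u
open MvPolynomial
open WeilNum

namespace Groth.Agent.S17985

/-- Let p be a prime, e ≥ 1 and q = p^e. Let (π_i) be a nonempty finite family of pairwise nonconjugate
Weil q-numbers: π_i is an element of a field K_i of characteristic zero, integral over ℤ with
minimal polynomial P_i, every complex root of P_i has absolute value √q, and P_i ≠ P_j for i ≠ j.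
Suppose the total degree Σ_i deg P_i is even, equal to 2D. Let R_w be the minimal central order, the
image of ℤ[F, V] → ∏_i K_i, F ↦ (π_i), V ↦ (q/π_i). Then R_w is free of rank 2D as a ℤ-module, has
Krull dimension 1, and is a Gorenstein ring (Noetherian, with all localizations at primes of finite
injective dimension over themselves). -/
theorem result (p e : ℕ) [Fact p.Prime] (he : 0 < e)
    (ι : Type) [Fintype ι] (K : ι → Type u) [∀ i, Field (K i)] [∀ i, CharZero (K i)] (π : ∀ i, K i)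
    (hint : ∀ i, IsIntegral ℤ (π i))
    (hweil : ∀ i, ∀ z ∈ (minpoly ℤ (π i)).aroots ℂ, ‖z‖ = Real.sqrt ((p : ℝ) ^ e))
    (hinj : ∀ i j, minpoly ℤ (π i) = minpoly ℤ (π j) → i = j)
    [Nonempty ι] (D : ℕ) (hD : ∑ i, (minpoly ℤ (π i)).natDegree = 2 * D) :
    Module.Free ℤ (MvPolynomial.aeval ![fun i => π i, fun i => ((p : K i) ^ e) / π i] :
        MvPolynomial (Fin 2) ℤ →ₐ[ℤ] ((i : ι) → K i)).range ∧
      Module.finrank ℤ (MvPolynomial.aeval ![fun i => π i, fun i => ((p : K i) ^ e) / π i] :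
        MvPolynomial (Fin 2) ℤ →ₐ[ℤ] ((i : ι) → K i)).range = 2 * D ∧
      ringKrullDim (MvPolynomial.aeval ![fun i => π i, fun i => ((p : K i) ^ e) / π i] :
        MvPolynomial (Fin 2) ℤ →ₐ[ℤ] ((i : ι) → K i)).range = 1 ∧
      LocCoh.IsGorensteinRing (MvPolynomial.aeval ![fun i => π i, fun i => ((p : K i) ^ e) / π i] :
        MvPolynomial (Fin 2) ℤ →ₐ[ℤ] ((i : ι) → K i)).range := by
  classical
  obtain ⟨ε, hε, hsym, hker⟩ := Groth.Agent.H89.WeilCI.weil_ker p e ι K π hint hweil hinj D hD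
  have hq : 0 < p ^ e := pow_pos (Fact.out : p.Prime).pos e
  have hqz : ((p : ℤ) ^ e) ≠ 0 := by exact_mod_cast hq.ne'
  have hmon : (∏ i, minpoly ℤ (π i)).Monic :=
    Polynomial.monic_prod_of_monic _ _ (fun i _ => minpoly.monic (hint i))
  have hdeg : (∏ i, minpoly ℤ (π i)).natDegree = 2 * D := by
    rw [Polynomial.natDegree_prod_of_monic _ _ (fun i _ => minpoly.monic (hint i)), hD]
  have hDpos : 0 < D := by
    obtain ⟨i⟩ := ‹Nonempty ι›
    have h1 := minpoly.natDegree_pos (hint i)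
    have h2 : (minpoly ℤ (π i)).natDegree ≤ ∑ i, (minpoly ℤ (π i)).natDegree :=
      Finset.single_le_sum (f := fun i => (minpoly ℤ (π i)).natDegree)
        (fun _ _ => Nat.zero_le _) (Finset.mem_univ i)
    omega
  obtain ⟨D', rfl⟩ := Nat.exists_eq_succ_of_ne_zero hDpos.ne'
  set φ := (MvPolynomial.aeval ![fun i => π i, fun i => ((p : K i) ^ e) / π i] :
        MvPolynomial (Fin 2) ℤ →ₐ[ℤ] ((i : ι) → K i)) with hφ
  have hg : Function.Surjective (φ.rangeRestrict : MvPolynomial (Fin 2) ℤ →+* φ.range) :=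
    φ.rangeRestrict_surjective
  have hkerg : RingHom.ker (φ.rangeRestrict : MvPolynomial (Fin 2) ℤ →+* φ.range) =
      RingHom.ker φ := AlgHom.ker_rangeRestrict φ
  obtain ⟨hfree, hrank⟩ := Groth.Agent.H89.WeilCI.free_finrank ((p : ℤ) ^ e)
    (∏ i, minpoly ℤ (π i)) D' ε hε hmon hdeg
    (φ.rangeRestrict : MvPolynomial (Fin 2) ℤ →+* φ.range) hg (hkerg.trans hker)
    (fun c d hcd => Groth.Agent.H89.WeilCI.weil_indep p e ι K π hint hweil hinj (D' + 1) hDpos hD
      c d (by rw [hkerg] at hcd; exact hcd))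
  have hfin : Module.Finite ℤ φ.range :=
    Module.finite_of_finrank_pos (by rw [hrank]; omega)
  refine ⟨hfree, hrank, ?_, ?_⟩
  · have hinjZ : Function.Injective (algebraMap ℤ φ.range) := by
      rw [injective_iff_map_eq_zero]
      intro n hn
      rw [eq_intCast (algebraMap ℤ φ.range) n] at hn
      have h1 := congrArg (fun x : φ.range => (x : (i : ι) → K i)) hn
      simp only [SubringClass.coe_intCast, ZeroMemClass.coe_zero] at h1
      obtain ⟨i⟩ := ‹Nonempty ι›
      have h2 := congrFun h1 i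
      simp only [Pi.intCast_apply, Pi.zero_apply] at h2
      exact_mod_cast h2
    have := Groth.Agent.H54.ringKrullDim_eq_of_isIntegral_of_injective hinjZ
    rw [← this]
    exact Groth.Agent.H89.WeilCI.ringKrullDim_int
  · have hnoeth : IsNoetherianRing φ.range :=
      isNoetherianRing_of_surjective _ _ (φ.rangeRestrict : MvPolynomial (Fin 2) ℤ →+* φ.range) hg
    have hnot : Groth.Agent.H89.WeilCI.h0 (∏ i, minpoly ℤ (π i)) (D' + 1) ε ∉
        Ideal.span ({X 0 * X 1 - C ((p : ℤ) ^ e)} : Set (MvPolynomial (Fin 2) ℤ)) := by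
      intro hmem
      apply Groth.Agent.H89.WeilCI.aeval_X0_notMem ((p : ℤ) ^ e) _ hmon.ne_zero
      have hspec := Groth.Agent.H89.WeilCI.h0_spec ((p : ℤ) ^ e) (∏ i, minpoly ℤ (π i)) (D' + 1) ε
        hdeg hsym
      have h1 := Ideal.sub_mem _ (Ideal.mul_mem_left _ (X 0 ^ (D' + 1)) hmem) hspec
      have h2 : X 0 ^ (D' + 1) * Groth.Agent.H89.WeilCI.h0 (∏ i, minpoly ℤ (π i)) (D' + 1) ε -
          (X 0 ^ (D' + 1) * Groth.Agent.H89.WeilCI.h0 (∏ i, minpoly ℤ (π i)) (D' + 1) ε -
            Polynomial.aeval (X 0 : MvPolynomial (Fin 2) ℤ) (∏ i, minpoly ℤ (π i))) =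
          Polynomial.aeval (X 0 : MvPolynomial (Fin 2) ℤ) (∏ i, minpoly ℤ (π i)) := by ring
      rwa [h2] at h1
    have hid := Groth.Agent.H89.WeilCI.hasInjectiveDimensionLT_of_ker_eq ((p : ℤ) ^ e) hqz _ hnot
      (φ.rangeRestrict : MvPolynomial (Fin 2) ℤ →+* φ.range) hg (hkerg.trans hker)
    exact Groth.Agent.H2.GorensteinGlobal.isGorensteinRing_of_hasInjectiveDimensionLT _ 2 hid

end Groth.Agent.S17985
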