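import Groth.Statements.S17987
import Mathlib
import Groth.Agent.H89.WeilOrd
import Groth.Agent.H89.WeilSym

set_option autoImplicit false
universe u
open scoped Classical
open WeilNum

namespace Groth.Agent.S17987

/-- Let p be a prime, e ≥ 1 and q = p^e, and let (π_i) be a finite family of nonreal Weil q-numbers: π_i
lies in a field K_i of characteristic zero, is integral over ℤ with minimal polynomial P_i, every
complex root of P_i has absolute value √q, and no complex root of P_i is real; in particular deg P_i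
= 2d_i is even. Call π_i ordinary when exactly half of the roots of P_i in an algebraic closure of
ℚ_p, counted with multiplicity, are p-adic units (have absolute value 1). Then all π_i are ordinary
if and only if p does not divide ∏_i a_{d_i}, the product of the middle coefficients of the P_i
(this product is the value at F = V = 0 of the symmetric polynomial h_w of the family). -/
theorem result (p e : ℕ) [Fact p.Prime] (he : 0 < e)
    (ι : Type) [Fintype ι] (K : ι → Type u) [∀ i, Field (K i)] [∀ i, CharZero (K i)] (π : ∀ i, K i)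
    (hint : ∀ i, IsIntegral ℤ (π i))
    (hweil : ∀ i, ∀ z ∈ (minpoly ℤ (π i)).aroots ℂ, ‖z‖ = Real.sqrt ((p : ℝ) ^ e))
    (hnr : ∀ i, ∀ z ∈ (minpoly ℤ (π i)).aroots ℂ, z.im ≠ 0) :
    (∀ i, 2 * Multiset.card (((minpoly ℤ (π i)).aroots (PadicAlgCl p)).filter (fun z => ‖z‖ = 1)) = (minpoly ℤ (π i)).natDegree) ↔
      ¬ ((p : ℤ) ∣ ∏ i, (minpoly ℤ (π i)).coeff ((minpoly ℤ (π i)).natDegree / 2)) := by
  classical
  have hq : 0 < p ^ e := pow_pos (Fact.out : p.Prime).pos e
  have hpint : Prime (p : ℤ) := Nat.prime_iff_prime_int.mp (Fact.out : p.Prime)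
  have key : ∀ i, (2 * Multiset.card (((minpoly ℤ (π i)).aroots (PadicAlgCl p)).filter
      (fun z => ‖z‖ = 1)) = (minpoly ℤ (π i)).natDegree ↔
      ¬ ((p : ℤ) ∣ (minpoly ℤ (π i)).coeff ((minpoly ℤ (π i)).natDegree / 2))) := by
    intro i
    have hweil' : ∀ z ∈ (minpoly ℤ (π i)).aroots ℂ, ‖z‖ = Real.sqrt ((p ^ e : ℕ) : ℝ) := by
      intro z hz
      rw [hweil i z hz]
      push_cast
      rfl
    obtain ⟨heven, hsym⟩ := Groth.Agent.H89.weil_symmetry (minpoly ℤ (π i))
      (minpoly.irreducible (hint i)) (minpoly.monic (hint i)) (minpoly.natDegree_pos (hint i))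
      (p ^ e) hq hweil' (hnr i)
    obtain ⟨d, hd⟩ := heven
    have hhalf : (minpoly ℤ (π i)).natDegree / 2 = d := by omega
    have hdeg : (minpoly ℤ (π i)).natDegree = 2 * d := by omega
    rw [hhalf] at hsym ⊢
    apply Groth.Agent.H89.WeilOrd.ordinary_iff p (minpoly ℤ (π i)) (minpoly.monic (hint i)) d hdeg
    intro k hk
    have h1 := hsym (d - k) (by omega)
    have h2 : d - (d - k) = k := by omega
    rw [h2] at h1
    rw [h1]
    apply Dvd.dvd.mul_right
    have h3 : ((p ^ e : ℕ) : ℤ) = (p : ℤ) ^ e := by push_cast; rfl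
    rw [h3, ← pow_mul]
    exact dvd_pow_self _ (by
      have : 0 < e * (d - k) := Nat.mul_pos he (by omega)
      omega)
  rw [Prime.dvd_finset_prod_iff hpint]
  constructor
  · intro h
    rintro ⟨i, _, hi⟩
    exact (key i).mp (h i) hi
  · intro h i
    rw [key i]
    intro hi
    exact h ⟨i, Finset.mem_univ i, hi⟩

end Groth.Agent.S17987
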