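import Groth.Statements.S17988
import Mathlib
import Groth.Agent.H89.Torsionless
import Groth.Agent.H89.ReflInjDim
import Groth.Agent.H2.GorensteinGlobal
import Groth.Agent.H54.Dim

set_option autoImplicit false
universe u
open CAlg

namespace Groth.Agent.S17988

/-- Let Λ be a principal ideal domain and S a commutative Λ-algebra which is finitely generated and free
as a Λ-module and reduced as a ring; let M be a finitely generated S-module. Then M is torsionless
(the canonical map M → M** to the double S-dual is injective) if and only if M is free as a
Λ-module. If in addition S is a Gorenstein ring (it has Krull dimension at most 1, being finite over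
Λ), then M is reflexive (M → M** bijective) if and only if M is free as a Λ-module, so that for such
S torsionless and reflexive finitely generated modules coincide. The published statement is the case
Λ = ℤ, resp. Λ = ℤ_ℓ for a prime ℓ, with S the minimal central order R_w of a finite set of Weil
q-numbers, resp. its ℓ-adic completion R_w ⊗ ℤ_ℓ, under the assumption that R_w is Gorenstein; the
argument given there uses only that S is finite free over Λ, reduced, and (for reflexivity)
Gorenstein of dimension one. -/
theorem result (Λ : Type u) [CommRing Λ] [IsDomain Λ] [IsPrincipalIdealRing Λ]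
    (S : Type u) [CommRing S] [Algebra Λ S] [Module.Finite Λ S] [Module.Free Λ S] [IsReduced S]
    (M : Type u) [AddCommGroup M] [Module S M] [Module Λ M] [IsScalarTower Λ S M] [Module.Finite S M] :
    (Function.Injective (Module.Dual.eval S M) ↔ Module.Free Λ M) ∧
      (LocCoh.IsGorensteinRing S → (Module.IsReflexive S M ↔ Module.Free Λ M)) := by
  have hS : ∀ (c : Λ) (s : S), c ≠ 0 → c • s = 0 → s = 0 := by
    intro c s hc h
    exact (smul_eq_zero.mp h).resolve_left hc
  have hfinM : Module.Finite Λ M := Module.Finite.trans S M
  have h1 : Function.Injective (Module.Dual.eval S M) ↔ Module.Free Λ M := by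
    constructor
    · intro hinj
      have hM := Groth.Agent.H89.Torsionless.torsionFree_of_eval_injective Λ S M hS hinj
      have : NoZeroSMulDivisors Λ M := ⟨fun {c m} h => by
        by_cases hc : c = 0
        · exact Or.inl hc
        · exact Or.inr (hM c m hc h)⟩
      exact Module.free_of_finite_type_torsion_free'
    · intro hfree
      have hM : ∀ (c : Λ) (m : M), c ≠ 0 → c • m = 0 → m = 0 := by
        intro c m hc h
        exact (smul_eq_zero.mp h).resolve_left hc
      exact Groth.Agent.H89.Torsionless.eval_injective_of_torsionFree Λ S M hS hM
  refine ⟨h1, ?_⟩
  intro hG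
  have hdim : ringKrullDim S ≤ (1 : ℕ) := by
    have h2 : ringKrullDim S ≤ ringKrullDim Λ := Groth.Agent.H54.ringKrullDim_le_of_isIntegral
    refine h2.trans ?_
    rw [← Ring.krullDimLE_iff]
    infer_instance
  have hid := Groth.Agent.H2.GorensteinGlobal.hasInjectiveDimensionLT_of_isGorensteinRing S 1 hdim
  have hnoeth : IsNoetherianRing S := hG.toIsNoetherian
  constructor
  · intro hrefl
    exact h1.mp hrefl.bijective_dual_eval'.1
  · intro hfree
    exact ⟨⟨h1.mpr hfree, Groth.Agent.H89.ReflInjDim.eval_surjective hid M⟩⟩

end Groth.Agent.S17988
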