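import Groth.Statements.S17989
import Groth.Agent.H2.GorensteinGlobal

set_option autoImplicit false
universe u
open CategoryTheory
open CAlg

namespace Groth.Agent.S17989

/-- Let S be a Gorenstein ring (a Noetherian ring all of whose localizations at prime ideals have finite
injective dimension as modules over themselves) of Krull dimension 1, and let M be a finitely
generated reflexive S-module (the canonical map M → M** is bijective). Then Ext¹_S(M, S) = 0. -/
theorem result (S : Type u) [CommRing S]
    [LocCoh.IsGorensteinRing S] (hdim : ringKrullDim S = 1)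
    (M : Type u) [AddCommGroup M] [Module S M] [Module.Finite S M] [Module.IsReflexive S M] :
    Subsingleton (Abelian.Ext (ModuleCat.of S M) (ModuleCat.of S S) 1) := by
  have hid : HasInjectiveDimensionLT (ModuleCat.of S S) 2 :=
    Groth.Agent.H2.GorensteinGlobal.hasInjectiveDimensionLT_of_isGorensteinRing S 1
      (le_of_eq (by rw [hdim]; rfl))
  have : IsNoetherian S S := inferInstanceAs (IsNoetherianRing S)
  have hfin : Module.Finite S (Module.Dual S M) := inferInstance
  obtain ⟨b, π, hπ⟩ := Module.Finite.exists_fin' S (Module.Dual S M)
  let j : M →ₗ[S] Module.Dual S (Fin b → S) := π.dualMap ∘ₗ Module.Dual.eval S M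
  have hj : Function.Injective j :=
    (LinearMap.dualMap_injective_of_surjective hπ).comp (Module.bijective_dual_eval S M).injective
  have hS := Groth.Agent.H29.GlDimL.shortExact_of_exact j (LinearMap.range j).mkQ hj
    (Submodule.mkQ_surjective _) (LinearMap.exact_map_mkQ_range j)
  refine Groth.Agent.H2.InjDimResidue.subsingleton_of_forall_eq_zero fun x => ?_
  obtain ⟨x₂, rfl⟩ := Abelian.Ext.contravariant_sequence_exact₁ hS (ModuleCat.of S S) x
    (rfl : 1 + 1 = 2) (Abelian.Ext.eq_zero_of_hasInjectiveDimensionLT _ 2 le_rfl)
  have hproj : Projective (ModuleCat.of S (Module.Dual S (Fin b → S))) :=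
    (IsProjective.iff_projective _).mp inferInstance
  rw [Abelian.Ext.eq_zero_of_projective x₂, Abelian.Ext.comp_zero]

end Groth.Agent.S17989
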