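import Groth.Statements.S17990
import Mathlib
import Groth.Agent.H89.TraceIdeal3

set_option autoImplicit false
universe u
open CAlg

namespace Groth.Agent.S17990

/-- Let S be a reduced Gorenstein ring (Noetherian, all localizations at primes of finite injective
dimension over themselves) whose Krull dimension is ≤ 1; let M be a finitely generated S-module
which is reflexive (M → M** bijective). Then M is locally free of rank 1, i.e. the localization M_P
is isomorphic to S_P as an S_P-module for every prime ideal P of S, if and only if the natural ring
map S → End_S(M), sending s to multiplication by s, is bijective. -/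
theorem result (S : Type u) [CommRing S]
    [IsReduced S] [LocCoh.IsGorensteinRing S] (hdim : ringKrullDim S ≤ 1)
    (M : Type u) [AddCommGroup M] [Module S M] [Module.Finite S M] [Module.IsReflexive S M] :
    (∀ (P : Ideal S) (_ : P.IsPrime),
        Nonempty (LocalizedModule P.primeCompl M ≃ₗ[Localization.AtPrime P] Localization.AtPrime P)) ↔
      Function.Bijective (algebraMap S (Module.End S M)) := by
  constructor
  · intro h
    exact Groth.Agent.H89.TraceIdeal.bijective_algebraMap_end_of_locallyFree h
  · intro hbij P hP
    have htop := Groth.Agent.H89.TraceIdeal.trace_eq_top (S := S) (M := M) hdim hbij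
    have : P.IsPrime := hP
    exact Groth.Agent.H89.TraceIdeal.nonempty_equiv_localization hbij.surjective P
      (by rw [htop]; intro hle; exact hP.ne_top (top_le_iff.mp hle))

end Groth.Agent.S17990
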