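import Groth.Statements.S17999
import Mathlib
import Groth.Agent.H89.QuotPic
import Groth.Agent.H89.WeilInt
import Groth.Agent.H89.WeilPic

set_option autoImplicit false
universe u
open MvPolynomial
open WeilNum

namespace Groth.Agent.S17999


/-- Membership in the kernel of a map to a product, coordinatewise. -/
theorem mem_ker_pi_iff {T : Type} {L : T → Type u} [∀ t, Field (L t)] (a b : ∀ t, L t)
    (x : MvPolynomial (Fin 2) ℤ) :
    x ∈ RingHom.ker (MvPolynomial.aeval ![a, b] : MvPolynomial (Fin 2) ℤ →ₐ[ℤ] ((t : T) → L t)) ↔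
      ∀ t, MvPolynomial.aeval ![a t, b t] x = 0 := by
  rw [RingHom.mem_ker]
  have key : ∀ t, (MvPolynomial.aeval ![a, b] x : (t : T) → L t) t =
      MvPolynomial.aeval ![a t, b t] x := by
    intro t
    have := MvPolynomial.comp_aeval_apply (R := ℤ) (f := ![a, b]) (Pi.evalAlgHom ℤ L t) x
    rw [Pi.evalAlgHom_apply] at this
    have hfun : (fun i => (Pi.evalAlgHom ℤ L t) (![a, b] i)) = ![a t, b t] := by
      funext i
      fin_cases i <;> rfl
    rw [this, hfun]
  constructor
  · intro h t
    rw [← key t, h]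
    rfl
  · intro h
    funext t
    rw [key t, h t]
    rfl

/-- The case of finite sets of Weil numbers; let p be a prime, e ≥ 1 and q = p^e; let (π_j)_{j ∈ J} be a
finite family of pairwise nonconjugate Weil q-numbers (π_j in a field K_j of characteristic zero,
integral over ℤ with minimal polynomial P_j, all complex roots of P_j of absolute value √q, P_i ≠
P_j for i ≠ j), and let e : J' → J be an injective map selecting a subfamily. Let I_w, resp. I_v, be
the kernel of ℤ[F, V] → ∏_{j ∈ J} K_j, resp. → ∏_{j' ∈ J'} K_{e(j')}, sending F ↦ (π_j) and V ↦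
(q/π_j); then I_w ⊆ I_v and ℤ[F,V]/I_w → ℤ[F,V]/I_v is the natural surjection R_w → R_v of minimal
central orders. Then the induced homomorphism of Picard groups Pic(R_w) → Pic(R_v) is surjective.
The published statement concerns the Picard groups of the pro-rings attached to arbitrary subsets V
⊆ W of Weil q-number classes; only the case of finite sets is stated here. -/
theorem result (p e : ℕ) [Fact p.Prime] (he : 0 < e)
    (J J' : Type) [Fintype J] [Fintype J'] (emb : J' → J) (hemb : Function.Injective emb)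
    (K : J → Type u) [∀ j, Field (K j)] [∀ j, CharZero (K j)] (ϖ : ∀ j, K j)
    (hint : ∀ j, IsIntegral ℤ (ϖ j))
    (hweil : ∀ j, ∀ z ∈ (minpoly ℤ (ϖ j)).aroots ℂ, ‖z‖ = Real.sqrt ((p : ℝ) ^ e))
    (hinj : ∀ i j, minpoly ℤ (ϖ i) = minpoly ℤ (ϖ j) → i = j)
    (hle : RingHom.ker (MvPolynomial.aeval ![fun j => ϖ j, fun j => ((p : K j) ^ e) / ϖ j] :
          MvPolynomial (Fin 2) ℤ →ₐ[ℤ] ((j : J) → K j)) ≤
        RingHom.ker (MvPolynomial.aeval ![fun j' => ϖ (emb j'), fun j' => ((p : K (emb j')) ^ e) / ϖ (emb j')] :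
          MvPolynomial (Fin 2) ℤ →ₐ[ℤ] ((j' : J') → K (emb j')))) :
    Function.Surjective (CommRing.Pic.mapRingHom (Ideal.Quotient.factor hle)) := by
  classical
  have hq : 0 < p ^ e := pow_pos (Fact.out : p.Prime).pos e
  -- Weil symmetry: `q / π_j` is a root of the minimal polynomial of `π_j`
  have hV : ∀ j, Polynomial.aeval (((p : K j) ^ e) / ϖ j) (minpoly ℤ (ϖ j)) = 0 := by
    intro j
    have := Groth.Agent.H89.aeval_div_eq_zero_of_weil (minpoly ℤ (ϖ j))
      (minpoly.irreducible (hint j)) (minpoly.monic (hint j)) (minpoly.natDegree_pos (hint j))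
      (p ^ e) hq
      (fun z hz => by
        rw [hweil j z hz]
        push_cast
        rfl) (ϖ j) (minpoly.aeval ℤ (ϖ j))
    simpa using this
  -- the complementary family
  let U := {j : J // j ∉ Set.range emb}
  let Iu : Ideal (MvPolynomial (Fin 2) ℤ) :=
    RingHom.ker (MvPolynomial.aeval ![fun u : U => ϖ u.1, fun u : U => ((p : K u.1) ^ e) / ϖ u.1] :
      MvPolynomial (Fin 2) ℤ →ₐ[ℤ] ((u : U) → K u.1))
  have hinf : RingHom.ker (MvPolynomial.aeval ![fun j => ϖ j, fun j => ((p : K j) ^ e) / ϖ j] :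
          MvPolynomial (Fin 2) ℤ →ₐ[ℤ] ((j : J) → K j)) =
      RingHom.ker (MvPolynomial.aeval ![fun j' => ϖ (emb j'),
          fun j' => ((p : K (emb j')) ^ e) / ϖ (emb j')] :
          MvPolynomial (Fin 2) ℤ →ₐ[ℤ] ((j' : J') → K (emb j'))) ⊓ Iu := by
    ext x
    rw [Ideal.mem_inf, mem_ker_pi_iff, mem_ker_pi_iff, mem_ker_pi_iff]
    constructor
    · intro h
      exact ⟨fun j' => h (emb j'), fun u => h u.1⟩
    · rintro ⟨h1, h2⟩ j
      by_cases hj : j ∈ Set.range emb
      · obtain ⟨j', rfl⟩ := hj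
        exact h1 j'
      · exact h2 ⟨j, hj⟩
  -- products of minimal polynomials
  let Pv : Polynomial ℤ := ∏ j' : J', minpoly ℤ (ϖ (emb j'))
  let Pu : Polynomial ℤ := ∏ u : U, minpoly ℤ (ϖ u.1)
  have hPumon : Pu.Monic := Polynomial.monic_prod_of_monic _ _ (fun u _ => minpoly.monic (hint u.1))
  have hPv0 : Polynomial.aeval (MvPolynomial.X 0 : MvPolynomial (Fin 2) ℤ) Pv ∈
      RingHom.ker (MvPolynomial.aeval ![fun j' => ϖ (emb j'),
          fun j' => ((p : K (emb j')) ^ e) / ϖ (emb j')] :
          MvPolynomial (Fin 2) ℤ →ₐ[ℤ] ((j' : J') → K (emb j'))) := by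
    rw [mem_ker_pi_iff]
    intro j'
    rw [← Polynomial.aeval_algHom_apply, MvPolynomial.aeval_X, Matrix.cons_val_zero, map_prod]
    exact Finset.prod_eq_zero (Finset.mem_univ j') (minpoly.aeval ℤ _)
  have hPu0 : Polynomial.aeval (MvPolynomial.X 0 : MvPolynomial (Fin 2) ℤ) Pu ∈ Iu := by
    rw [mem_ker_pi_iff]
    intro u
    rw [← Polynomial.aeval_algHom_apply, MvPolynomial.aeval_X, Matrix.cons_val_zero, map_prod]
    exact Finset.prod_eq_zero (Finset.mem_univ u) (minpoly.aeval ℤ _)
  have hPu1 : Polynomial.aeval (MvPolynomial.X 1 : MvPolynomial (Fin 2) ℤ) Pu ∈ Iu := by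
    rw [mem_ker_pi_iff]
    intro u
    rw [← Polynomial.aeval_algHom_apply, MvPolynomial.aeval_X, Matrix.cons_val_one,
      Matrix.cons_val_fin_one, map_prod]
    exact Finset.prod_eq_zero (Finset.mem_univ u) (hV u.1)
  -- coprimality over ℚ
  have hcop : IsCoprime (Pv.map (Int.castRingHom ℚ)) (Pu.map (Int.castRingHom ℚ)) := by
    rw [Polynomial.map_prod, Polynomial.map_prod]
    apply IsCoprime.prod_left
    intro j' _
    apply IsCoprime.prod_right
    intro u _
    have h1 : Irreducible ((minpoly ℤ (ϖ (emb j'))).map (Int.castRingHom ℚ)) := by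
      have := (minpoly.monic (hint (emb j'))).irreducible_iff_irreducible_map_fraction_map
        (K := ℚ) |>.mp (minpoly.irreducible (hint (emb j')))
      rwa [algebraMap_int_eq] at this
    have h2 : Irreducible ((minpoly ℤ (ϖ u.1)).map (Int.castRingHom ℚ)) := by
      have := (minpoly.monic (hint u.1)).irreducible_iff_irreducible_map_fraction_map
        (K := ℚ) |>.mp (minpoly.irreducible (hint u.1))
      rwa [algebraMap_int_eq] at this
    rw [h1.coprime_iff_not_dvd]
    intro hdvd
    have hassoc := h1.associated_of_dvd h2 hdvd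
    have heq := Polynomial.eq_of_monic_of_associated ((minpoly.monic (hint (emb j'))).map _)
      ((minpoly.monic (hint u.1)).map _) hassoc
    have h3 := Polynomial.map_injective _ Int.cast_injective heq
    exact u.2 ⟨j', hinj _ _ h3⟩
  obtain ⟨N, hN, a, b, hab⟩ := Groth.Agent.H89.WeilPic.exists_int_combination Pv Pu hcop
  have hNmem : (MvPolynomial.C N : MvPolynomial (Fin 2) ℤ) ∈
      RingHom.ker (MvPolynomial.aeval ![fun j' => ϖ (emb j'),
          fun j' => ((p : K (emb j')) ^ e) / ϖ (emb j')] :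
          MvPolynomial (Fin 2) ℤ →ₐ[ℤ] ((j' : J') → K (emb j'))) ⊔ Iu := by
    have h := congrArg (Polynomial.aeval (MvPolynomial.X 0 : MvPolynomial (Fin 2) ℤ)) hab
    rw [map_add, map_mul, map_mul, Polynomial.aeval_C] at h
    have h' : (MvPolynomial.C N : MvPolynomial (Fin 2) ℤ) =
        algebraMap ℤ (MvPolynomial (Fin 2) ℤ) N := rfl
    rw [h', ← h]
    exact Ideal.add_mem _ (Ideal.mul_mem_left _ _ (Ideal.mem_sup_left hPv0))
      (Ideal.mul_mem_left _ _ (Ideal.mem_sup_right hPu0))
  have hfin := Groth.Agent.H89.WeilPic.finite_quotient _ Pu Pu hPumon hPumon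
    (Ideal.mem_sup_right hPu0) (Ideal.mem_sup_right hPu1) N hN hNmem
  exact Groth.Agent.H89.QuotPic.pic_factor_surjective _ _ Iu hle hinf hfin

end Groth.Agent.S17999
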