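import Groth.Statements.S18003
import Mathlib
import Groth.Agent.H89.WeilMod

set_option autoImplicit false
universe u
open MvPolynomial
open WeilNum

namespace Groth.Agent.S18003

/-- Let p be a prime, e ≥ 1 and q = p^e; let (π_i) be a finite family of pairwise nonconjugate Weil
q-numbers (π_i in a field K_i of characteristic zero, integral over ℤ with minimal polynomial P_i,
all complex roots of P_i of absolute value √q, P_i ≠ P_j for i ≠ j) of even total degree Σ_i deg
P_i, P_w = ∏_i P_i, and R_w ⊆ ∏_i K_i the minimal central order, the image of ℤ[F, V] → ∏_i K_i, F ↦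
(π_i), V ↦ (q/π_i). Let T be a finitely generated free ℤ-module and F_T an endomorphism of T. Then
there exists an R_w-module structure on the additive group T in which the class of F acts as F_T if
and only if P_w(F_T) = 0 (equivalently: F_T is semisimple after tensoring with ℚ, with eigenvalues
among the conjugates of the π_i) and there is an endomorphism V_T of T with F_T ∘ V_T = q. When it
exists the structure is determined by F_T (the class of V acts as V_T = q·F_T⁻¹), and reflexive
R_w-modules are exactly the ℤ-free finitely generated ones, so this identifies the objects of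
Refl(R_w) with such pairs (T, F_T); the uniqueness remark is not part of the formal statement. -/
theorem result (p e : ℕ) [Fact p.Prime] (he : 0 < e)
    (ι : Type) [Fintype ι] (K : ι → Type u) [∀ i, Field (K i)] [∀ i, CharZero (K i)] (π : ∀ i, K i)
    (hint : ∀ i, IsIntegral ℤ (π i))
    (hweil : ∀ i, ∀ z ∈ (minpoly ℤ (π i)).aroots ℂ, ‖z‖ = Real.sqrt ((p : ℝ) ^ e))
    (hinj : ∀ i j, minpoly ℤ (π i) = minpoly ℤ (π j) → i = j)
    (D : ℕ) (hD : ∑ i, (minpoly ℤ (π i)).natDegree = 2 * D)
    (T : Type) [AddCommGroup T] [Module.Finite ℤ T] [Module.Free ℤ T] (FT : T →ₗ[ℤ] T) :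
    (∃ _ : Module (MvPolynomial.aeval ![fun i => π i, fun i => ((p : K i) ^ e) / π i] :
        MvPolynomial (Fin 2) ℤ →ₐ[ℤ] ((i : ι) → K i)).range T,
        ∀ t : T, (⟨(MvPolynomial.aeval ![fun i => π i, fun i => ((p : K i) ^ e) / π i] :
        MvPolynomial (Fin 2) ℤ →ₐ[ℤ] ((i : ι) → K i)) (X 0), AlgHom.mem_range_self _ _⟩ : (MvPolynomial.aeval ![fun i => π i, fun i => ((p : K i) ^ e) / π i] :
        MvPolynomial (Fin 2) ℤ →ₐ[ℤ] ((i : ι) → K i)).range) • t = FT t) ↔
      (Polynomial.aeval FT (∏ i, minpoly ℤ (π i)) = 0 ∧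
        ∃ VT : T →ₗ[ℤ] T, FT ∘ₗ VT = ((p : ℤ) ^ e) • LinearMap.id) := by
  classical
  obtain ⟨ε, hε, hsym, hker⟩ := Groth.Agent.H89.WeilCI.weil_ker p e ι K π hint hweil hinj D hD
  have hq : 0 < p ^ e := pow_pos (Fact.out : p.Prime).pos e
  have hqz : ((p : ℤ) ^ e) ≠ 0 := by exact_mod_cast hq.ne'
  have hmon : (∏ i, minpoly ℤ (π i)).Monic :=
    Polynomial.monic_prod_of_monic _ _ (fun i _ => minpoly.monic (hint i))
  have hdeg : (∏ i, minpoly ℤ (π i)).natDegree = 2 * D := by
    rw [Polynomial.natDegree_prod_of_monic _ _ (fun i _ => minpoly.monic (hint i)), hD]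
  set φ := (MvPolynomial.aeval ![fun i => π i, fun i => ((p : K i) ^ e) / π i] :
        MvPolynomial (Fin 2) ℤ →ₐ[ℤ] ((i : ι) → K i)) with hφ
  have hspec := Groth.Agent.H89.WeilCI.h0_spec ((p : ℤ) ^ e) (∏ i, minpoly ℤ (π i)) D ε hdeg hsym
  have ha : X 0 * X 1 - C ((p : ℤ) ^ e) ∈ RingHom.ker φ := by
    rw [hker]; exact Ideal.subset_span (by simp)
  have hh0 : Groth.Agent.H89.WeilCI.h0 (∏ i, minpoly ℤ (π i)) D ε ∈ RingHom.ker φ := by
    rw [hker]; exact Ideal.subset_span (by simp)
  have hspanle : Ideal.span ({X 0 * X 1 - C ((p : ℤ) ^ e)} : Set (MvPolynomial (Fin 2) ℤ)) ≤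
      RingHom.ker φ := by
    rw [Ideal.span_le]
    intro x hx
    rw [Set.mem_singleton_iff] at hx
    rw [hx]
    exact ha
  have hPw : Polynomial.aeval (X 0 : MvPolynomial (Fin 2) ℤ) (∏ i, minpoly ℤ (π i)) ∈
      RingHom.ker φ := by
    have h1 := (RingHom.ker φ).sub_mem (Ideal.mul_mem_left _ (X 0 ^ D) hh0) (hspanle hspec)
    have h2 : X 0 ^ D * Groth.Agent.H89.WeilCI.h0 (∏ i, minpoly ℤ (π i)) D ε -
        (X 0 ^ D * Groth.Agent.H89.WeilCI.h0 (∏ i, minpoly ℤ (π i)) D ε -
          Polynomial.aeval (X 0 : MvPolynomial (Fin 2) ℤ) (∏ i, minpoly ℤ (π i))) =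
        Polynomial.aeval (X 0 : MvPolynomial (Fin 2) ℤ) (∏ i, minpoly ℤ (π i)) := by ring
    rwa [h2] at h1
  constructor
  · rintro ⟨inst, hF⟩
    -- the classes of `F` and `V`
    set FR : φ.range := ⟨φ (X 0), AlgHom.mem_range_self _ _⟩ with hFR
    set VR : φ.range := ⟨φ (X 1), AlgHom.mem_range_self _ _⟩ with hVR
    have hFVR : FR * VR = (((p : ℤ) ^ e : ℤ) : φ.range) := by
      apply Subtype.ext
      have h1 : φ (X 0 * X 1 - C ((p : ℤ) ^ e)) = 0 := ha
      rw [map_sub, map_mul, sub_eq_zero, MvPolynomial.algHom_C] at h1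
      show φ (X 0) * φ (X 1) = _
      rw [h1]
      simp
    have hPR : Polynomial.aeval FR (∏ i, minpoly ℤ (π i)) = 0 := by
      apply Subtype.ext
      rw [Polynomial.aeval_subalgebra_coe]
      show Polynomial.aeval (φ (X 0)) _ = _
      rw [Polynomial.aeval_algHom_apply]
      exact hPw
    have key : ∀ (Q : Polynomial ℤ) (t : T), (Polynomial.aeval FT Q) t =
        (Polynomial.aeval FR Q) • t := by
      intro Q
      induction Q using Polynomial.induction_on with
      | C a =>
        intro t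
        rw [Polynomial.aeval_C, Polynomial.aeval_C, Module.algebraMap_end_apply,
          eq_intCast (algebraMap ℤ φ.range) a, Int.cast_smul_eq_zsmul]
      | add f g hf hg =>
        intro t
        rw [map_add, map_add, LinearMap.add_apply, hf, hg, add_smul]
      | monomial n a ih =>
        intro t
        have e1 : (Polynomial.C a * Polynomial.X ^ (n + 1) : Polynomial ℤ) =
            (Polynomial.C a * Polynomial.X ^ n) * Polynomial.X := by rw [pow_succ, mul_assoc]
        rw [e1, map_mul (Polynomial.aeval FT), map_mul (Polynomial.aeval FR), Polynomial.aeval_X,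
          Polynomial.aeval_X, Module.End.mul_apply, ih, ← hF t, mul_smul]
    refine ⟨?_, ?_⟩
    · ext t
      rw [key, hPR, zero_smul, LinearMap.zero_apply]
    · refine ⟨(DistribSMul.toAddMonoidHom T VR).toIntLinearMap, ?_⟩
      ext t
      rw [LinearMap.comp_apply, AddMonoidHom.coe_toIntLinearMap,
        DistribSMul.toAddMonoidHom_apply, ← hF, ← mul_smul, hFVR, Int.cast_smul_eq_zsmul,
        LinearMap.smul_apply, LinearMap.id_apply]
  · rintro ⟨hP, VT, hFV⟩
    have hinjF := Groth.Agent.H89.WeilCI.injective_of_comp_eq_smul FT VT _ hqz hFV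
    have hVF : VT ∘ₗ FT = ((p : ℤ) ^ e) • LinearMap.id := by
      apply LinearMap.ext
      intro t
      apply hinjF
      have h1 := LinearMap.congr_fun hFV (FT t)
      rw [LinearMap.comp_apply] at h1
      rw [LinearMap.comp_apply, h1, LinearMap.smul_apply, LinearMap.smul_apply, LinearMap.id_apply,
        LinearMap.id_apply, map_zsmul]
    have hcomm : FT * VT = VT * FT := by
      rw [Module.End.mul_eq_comp, Module.End.mul_eq_comp, hFV, hVF]
    obtain ⟨Ψ, hΨ0, hΨ1⟩ := Groth.Agent.H89.WeilCI.exists_ringHom_of_commute FT VT hcomm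
    have hΨC : ∀ a : ℤ, Ψ (C a) = (a : Module.End ℤ T) := by
      intro a
      have := eq_intCast (Ψ.comp (C : ℤ →+* MvPolynomial (Fin 2) ℤ)) a
      rwa [RingHom.comp_apply] at this
    have hΨa : Ψ (X 0 * X 1 - C ((p : ℤ) ^ e)) = 0 := by
      rw [map_sub, map_mul, hΨ0, hΨ1, hΨC, Module.End.mul_eq_comp, hFV, sub_eq_zero]
      ext t
      simp
    have hΨspan : Ideal.span ({X 0 * X 1 - C ((p : ℤ) ^ e)} : Set (MvPolynomial (Fin 2) ℤ)) ≤
        RingHom.ker Ψ := by
      rw [Ideal.span_le]
      intro x hx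
      rw [Set.mem_singleton_iff] at hx
      rw [hx]
      exact hΨa
    have hΨaeval : ∀ Q : Polynomial ℤ, Ψ (Polynomial.aeval (X 0 : MvPolynomial (Fin 2) ℤ) Q) =
        Polynomial.aeval FT Q := by
      intro Q
      induction Q using Polynomial.induction_on with
      | C a =>
        rw [Polynomial.aeval_C, Polynomial.aeval_C]
        show Ψ (C a) = _
        rw [hΨC]
        simp
      | add f g hf hg => rw [map_add, map_add, map_add, hf, hg]
      | monomial n a ih =>
        have e1 : (Polynomial.C a * Polynomial.X ^ (n + 1) : Polynomial ℤ) =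
            (Polynomial.C a * Polynomial.X ^ n) * Polynomial.X := by rw [pow_succ, mul_assoc]
        rw [e1, map_mul (Polynomial.aeval (X 0 : MvPolynomial (Fin 2) ℤ)),
          map_mul (Polynomial.aeval FT), map_mul Ψ, Polynomial.aeval_X, Polynomial.aeval_X, ih, hΨ0]
    have hΨh0 : Ψ (Groth.Agent.H89.WeilCI.h0 (∏ i, minpoly ℤ (π i)) D ε) = 0 := by
      have h1 : Ψ (X 0 ^ D * Groth.Agent.H89.WeilCI.h0 (∏ i, minpoly ℤ (π i)) D ε -
          Polynomial.aeval (X 0 : MvPolynomial (Fin 2) ℤ) (∏ i, minpoly ℤ (π i))) = 0 :=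
        hΨspan hspec
      rw [map_sub, map_mul, map_pow, hΨ0, hΨaeval, hP, sub_zero] at h1
      apply LinearMap.ext
      intro t
      have h2 := LinearMap.congr_fun h1 t
      rw [Module.End.mul_apply, LinearMap.zero_apply] at h2
      have hinjD : Function.Injective (FT ^ D) := by
        rw [Module.End.coe_pow]
        exact hinjF.iterate D
      apply hinjD
      rw [h2, LinearMap.zero_apply, map_zero]
    have hle : RingHom.ker (φ.rangeRestrict : MvPolynomial (Fin 2) ℤ →+* φ.range) ≤
        RingHom.ker Ψ := by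
      have h1 : RingHom.ker (φ.rangeRestrict : MvPolynomial (Fin 2) ℤ →+* φ.range) =
          RingHom.ker φ := AlgHom.ker_rangeRestrict φ
      rw [h1, hker, Ideal.span_le]
      intro x hx
      rcases hx with rfl | rfl
      · exact hΨa
      · exact hΨh0
    let ρ : φ.range →+* Module.End ℤ T :=
      RingHom.liftOfSurjective (φ.rangeRestrict : MvPolynomial (Fin 2) ℤ →+* φ.range)
        φ.rangeRestrict_surjective ⟨Ψ, hle⟩
    refine ⟨Module.compHom T ρ, ?_⟩
    intro t
    have h1 : ρ ((φ.rangeRestrict : MvPolynomial (Fin 2) ℤ →+* φ.range) (X 0)) = Ψ (X 0) :=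
      RingHom.liftOfRightInverse_comp_apply _ _ _ ⟨Ψ, hle⟩ (X 0)
    show ρ ⟨φ (X 0), _⟩ t = FT t
    rw [← hΨ0, ← h1]
    rfl

end Groth.Agent.S18003
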