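import Groth.Statements.S18019
import Mathlib
-- import your own Groth.Agent.* helpers here

set_option autoImplicit false
universe u
open ClassStk

namespace Groth.Agent.S18019

open Polynomial in
/-- Let R be an integral domain of characteristic 2 and let a be a nonzero element of R, so that x ↦ x +
a defines an R-algebra involution of the polynomial ring R[x] (an action of the group of order two).
A polynomial f is invariant, f(x + a) = f(x), if and only if f belongs to the R-subalgebra generated
by u = x (x + a); in other words the ring of invariants is the polynomial ring R[u]. -/
theorem result (R : Type u) [CommRing R] [IsDomain R]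
    [CharP R 2] (a : R) (ha : a ≠ 0) (f : Polynomial R) :
    f.comp (X + C a) = f ↔ f ∈ Algebra.adjoin R ({X * (X + C a)} : Set (Polynomial R)) := by
  classical
  have hu_monic : (X * (X + C a) : Polynomial R).Monic := (monic_X (R := R)).mul (monic_X_add_C a)
  have haa : C a + C a = (0 : Polynomial R) := by
    rw [← C_add, CharTwo.add_self_eq_zero, C_0]
  have hτu : (X * (X + C a) : Polynomial R).comp (X + C a) = X * (X + C a) := by
    rw [mul_comp, X_comp, add_comp, X_comp, C_comp, add_assoc, haa, add_zero, mul_comm]
  have hdegu : (X * (X + C a) : Polynomial R).degree = 2 := by
    rw [degree_mul, degree_X, degree_X_add_C]; rfl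
  constructor
  · -- invariant implies in the subalgebra; strong induction on natDegree
    have main : ∀ n : ℕ, ∀ f : Polynomial R, f.natDegree = n → f.comp (X + C a) = f →
        f ∈ Algebra.adjoin R ({X * (X + C a)} : Set (Polynomial R)) := by
      intro n
      induction n using Nat.strong_induction_on with
      | _ n ih =>
        intro f hfn hf
        set u : Polynomial R := X * (X + C a) with hu
        have hdiv := modByMonic_add_div f u
        -- apply τ
        have hτ : (f %ₘ u).comp (X + C a) + u * (f /ₘ u).comp (X + C a) = f := by
          have := congrArg (fun p => p.comp (X + C a)) hdiv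
          simp only [add_comp, mul_comp, hf] at this
          rw [hτu] at this
          exact this
        have hdegr : (f %ₘ u).degree < u.degree := degree_modByMonic_lt f hu_monic
        have hdegτr : ((f %ₘ u).comp (X + C a)).degree < u.degree := by
          by_cases hr0 : f %ₘ u = 0
          · rw [hr0, zero_comp, degree_zero, hdegu]; exact WithBot.bot_lt_coe _
          · have hne : (f %ₘ u).comp (X + C a) ≠ 0 := by
              intro h0
              have h1 := natDegree_comp (p := f %ₘ u) (q := X + C a)
              rw [natDegree_X_add_C, mul_one] at h1
              have h2 := comp_eq_zero_iff.mp h0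
              rcases h2 with h2 | ⟨_, h3⟩
              · exact hr0 h2
              · have := congrArg natDegree h3
                rw [natDegree_X_add_C, natDegree_C] at this
                exact one_ne_zero this
            rw [degree_eq_natDegree hne, natDegree_comp, natDegree_X_add_C, mul_one,
              ← degree_eq_natDegree hr0]
            exact hdegr
        obtain ⟨hq, hr⟩ := div_modByMonic_unique _ _ hu_monic ⟨hτ, hdegτr⟩
        -- remainder is constant
        have hndu : u.natDegree = 2 := natDegree_eq_of_degree_eq_some hdegu
        have hu1 : u ≠ 1 := by
          intro h
          rw [h, natDegree_one] at hndu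
          exact absurd hndu (by norm_num)
        have hr1 : (f %ₘ u).degree ≤ 1 := by
          have h2 := natDegree_modByMonic_lt f hu_monic hu1
          have h3 : (f %ₘ u).natDegree ≤ 1 := by omega
          have h4 := degree_le_of_natDegree_le h3
          exact_mod_cast h4
        have hrform := eq_X_add_C_of_degree_le_one hr1
        have hcoeff1 : (f %ₘ u).coeff 1 = 0 := by
          have h1 : ((f %ₘ u).comp (X + C a)).coeff 0 = (f %ₘ u).coeff 0 := by rw [← hr]
          rw [hrform] at h1
          simp only [add_comp, mul_comp, C_comp, X_comp, coeff_add, coeff_C_mul, coeff_C_zero,
            coeff_X_zero, mul_zero, zero_add, mul_add] at h1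
          have h2 : (f %ₘ u).coeff 1 * a = 0 := by
            have : (f %ₘ u).coeff 1 * a + (f %ₘ u).coeff 0 = (f %ₘ u).coeff 0 := by
              simpa using h1
            exact add_eq_right.mp this
          exact (mul_eq_zero.mp h2).resolve_right ha
        have hrC : f %ₘ u = C ((f %ₘ u).coeff 0) := by
          conv_lhs => rw [hrform, hcoeff1, C_0, zero_mul, zero_add]
        have hrmem : f %ₘ u ∈ Algebra.adjoin R ({u} : Set (Polynomial R)) := by
          rw [hrC]
          exact Subalgebra.algebraMap_mem _ _
        have humem : u ∈ Algebra.adjoin R ({u} : Set (Polynomial R)) :=
          Algebra.subset_adjoin (Set.mem_singleton u)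
        have hqmem : f /ₘ u ∈ Algebra.adjoin R ({u} : Set (Polynomial R)) := by
          by_cases hlt : f.natDegree < 2
          · have : f /ₘ u = 0 := by
              rw [divByMonic_eq_zero_iff hu_monic, hdegu]
              exact lt_of_le_of_lt degree_le_natDegree (by exact_mod_cast hlt)
            rw [this]; exact Subalgebra.zero_mem _
          · have hnd : (f /ₘ u).natDegree = f.natDegree - 2 := by
              rw [natDegree_divByMonic f hu_monic, hndu]
            exact ih (f /ₘ u).natDegree (by omega) (f /ₘ u) rfl hq.symm
        rw [← hdiv]
        exact Subalgebra.add_mem _ hrmem (Subalgebra.mul_mem _ humem hqmem)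
    intro hf
    exact main f.natDegree f rfl hf
  · intro hf
    induction hf using Algebra.adjoin_induction with
    | mem x hx =>
      rw [Set.mem_singleton_iff] at hx
      rw [hx]; exact hτu
    | algebraMap r => simp
    | add x y _ _ hx hy => rw [add_comp, hx, hy]
    | mul x y _ _ hx hy => rw [mul_comp, hx, hy]

end Groth.Agent.S18019
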