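import Groth.Statements.S18049
import Mathlib.Tactic
-- import your own Groth.Agent.* helpers here

set_option autoImplicit false
open STCI

namespace Groth.Agent.S18049

/-- For natural numbers 0 < k < N such that k does not divide N, ⌊N/k⌋ ≤ (N - k)/gcd(k, N); stated here
in the equivalent cleared form ⌊N/k⌋ · gcd(k, N) ≤ N - k. -/
theorem result (k N : ℕ) (hk : 0 < k) (hkN : k < N) (hndvd : ¬ k ∣ N) :
    N / k * Nat.gcd k N ≤ N - k := by
  obtain ⟨k', hk'⟩ := Nat.gcd_dvd_left k N
  have hgpos : 0 < Nat.gcd k N := Nat.gcd_pos_of_pos_left N hk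
  have hgN : Nat.gcd k N ∣ N := Nat.gcd_dvd_right k N
  have hgk : Nat.gcd k N ∣ k := Nat.gcd_dvd_left k N
  have hk'2 : 2 ≤ k' := by
    rcases k' with _ | _ | k'
    · simp at hk'; omega
    · exfalso
      apply hndvd
      have : k = Nat.gcd k N := by simpa using hk'
      rw [this]; exact hgN
    · omega
  have hdm := Nat.div_add_mod N k
  have hr : Nat.gcd k N ∣ N % k := (Nat.dvd_mod_iff hgk).mpr hgN
  have hrpos : 0 < N % k := Nat.pos_of_ne_zero (fun h => hndvd (Nat.dvd_of_mod_eq_zero h))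
  have hrg : Nat.gcd k N ≤ N % k := Nat.le_of_dvd hrpos hr
  have hq : 1 ≤ N / k := Nat.div_pos hkN.le hk
  have h2g : 2 * Nat.gcd k N ≤ k := by
    calc 2 * Nat.gcd k N = Nat.gcd k N * 2 := by ring
      _ ≤ Nat.gcd k N * k' := Nat.mul_le_mul_left _ hk'2
      _ = k := hk'.symm
  generalize Nat.gcd k N = g at *
  generalize N / k = q at *
  generalize N % k = r at *
  obtain ⟨q', rfl⟩ : ∃ q', q = q' + 1 := ⟨q - 1, by omega⟩
  have : (q' + 1) * g ≤ k * q' + r := by nlinarith
  have h3 : N - k = k * q' + r := by rw [← hdm]; ring_nf; omega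
  rw [h3]; exact this

end Groth.Agent.S18049
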