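import Groth.Statements.S18053
import Mathlib.Tactic
-- import your own Groth.Agent.* helpers here

set_option autoImplicit false
open STCI

namespace Groth.Agent.S18053

/-- Let (p_k)_{k ≥ 1} be a sequence of nonnegative integers and n a nonnegative integer such that (i)
p_1 ≤ 9 - (2/5)n, (ii) p_1 ≥ p_2 ≥ p_3 ≥ ⋯, (iii) Σ_k p_k ≤ 19 - n, and (iv) n/4 + Σ_{k ≥ 1}
p_k/(k(k+1)) ≥ 6. Then n = 0 and (p_k) is one of (9, 8, 2), (9, 9), (9, 9, 1) (followed by zeros).
Here the sequence is indexed from 0 (so p 0 is p_1 and the weight of p k is 1/((k+1)(k+2))), (iii)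
is stated for every partial sum, and the series in (iv) is the real sum Σ' over all k. -/
theorem result (p : ℕ → ℕ) (n : ℕ)
    (h1 : (p 0 : ℝ) ≤ 9 - (2 / 5 : ℝ) * n) (h2 : Antitone p)
    (h3 : ∀ m : ℕ, ((∑ k ∈ Finset.range m, p k : ℕ) : ℝ) ≤ 19 - (n : ℝ))
    (h4 : (6 : ℝ) ≤ (n : ℝ) / 4 + ∑' k : ℕ, (p k : ℝ) / (((k : ℝ) + 1) * ((k : ℝ) + 2))) :
    n = 0 ∧ (p = (fun k => if k = 0 then 9 else if k = 1 then 8 else if k = 2 then 2 else 0)
      ∨ p = (fun k => if k = 0 then 9 else if k = 1 then 9 else 0)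
      ∨ p = (fun k => if k = 0 then 9 else if k = 1 then 9 else if k = 2 then 1 else 0)) := by
  have hn19 : n ≤ 19 := by
    have := h3 0
    simp only [Finset.range_zero, Finset.sum_empty, Nat.cast_zero] at this
    have : (n : ℝ) ≤ 19 := by linarith
    exact_mod_cast this
  have hfin : ∀ k, 19 ≤ k → p k = 0 := by
    intro k hk
    by_contra hne
    have hpk : 1 ≤ p k := Nat.one_le_iff_ne_zero.mpr hne
    have hsum : k + 1 ≤ ∑ j ∈ Finset.range (k + 1), p j := by
      have : ∑ j ∈ Finset.range (k + 1), 1 ≤ ∑ j ∈ Finset.range (k + 1), p j := by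
        apply Finset.sum_le_sum
        intro j hj
        have hjk : j ≤ k := by
          have := Finset.mem_range.mp hj
          omega
        exact le_trans hpk (h2 hjk)
      simpa using this
    have h3' := h3 (k + 1)
    have : ((k + 1 : ℕ) : ℝ) ≤ ((∑ j ∈ Finset.range (k + 1), p j : ℕ) : ℝ) := by exact_mod_cast hsum
    have hk' : (19 : ℝ) ≤ (k : ℝ) := by exact_mod_cast hk
    have hn0 : (0 : ℝ) ≤ (n : ℝ) := Nat.cast_nonneg n
    push_cast at this h3'
    linarith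
  have hts : ∑' k : ℕ, (p k : ℝ) / (((k : ℝ) + 1) * ((k : ℝ) + 2))
      = ∑ k ∈ Finset.range 19, (p k : ℝ) / (((k : ℝ) + 1) * ((k : ℝ) + 2)) := by
    apply tsum_eq_sum
    intro k hk
    have : 19 ≤ k := by
      have := Finset.mem_range.not.mp hk
      omega
    simp [hfin k this]
  have hsplit : ∀ f : ℕ → ℝ, ∑ k ∈ Finset.range 19, f k = f 0 + f 1 + f 2 + ∑ k ∈ Finset.Ico 3 19, f k := by
    intro f
    rw [Finset.range_eq_Ico, ← Finset.sum_Ico_consecutive f (by norm_num : 0 ≤ 3) (by norm_num : 3 ≤ 19)]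
    congr 1
    simp [Finset.sum_range_succ]
  have hsplitN : ∑ k ∈ Finset.range 19, p k = p 0 + p 1 + p 2 + ∑ k ∈ Finset.Ico 3 19, p k := by
    rw [Finset.range_eq_Ico, ← Finset.sum_Ico_consecutive p (by norm_num : 0 ≤ 3) (by norm_num : 3 ≤ 19)]
    congr 1
    simp [Finset.sum_range_succ]
  have htail : ∑ k ∈ Finset.Ico 3 19, (p k : ℝ) / (((k : ℝ) + 1) * ((k : ℝ) + 2))
      ≤ ((∑ k ∈ Finset.Ico 3 19, p k : ℕ) : ℝ) / 20 := by
    rw [Nat.cast_sum, Finset.sum_div]
    apply Finset.sum_le_sum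
    intro k hk
    have hk3 : 3 ≤ k := (Finset.mem_Ico.mp hk).1
    have hk3' : (3 : ℝ) ≤ (k : ℝ) := by exact_mod_cast hk3
    apply div_le_div_of_nonneg_left (Nat.cast_nonneg _) (by norm_num)
    nlinarith
  have hT3 : p 3 ≤ ∑ k ∈ Finset.Ico 3 19, p k :=
    Finset.single_le_sum (f := p) (fun i _ => Nat.zero_le _) (by simp)
  set T3 := ∑ k ∈ Finset.Ico 3 19, p k with hT3def
  have h3' := h3 19
  rw [hsplitN] at h3'
  rw [hts, hsplit] at h4
  have h10 : p 1 ≤ p 0 := h2 (by norm_num)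
  have h21 : p 2 ≤ p 1 := h2 (by norm_num)
  have h32 : p 3 ≤ p 2 := h2 (by norm_num)
  have hA : (360 : ℝ) ≤ 15 * n + 30 * p 0 + 10 * p 1 + 5 * p 2 + 3 * T3 := by
    norm_num at h4
    linarith
  have hA' : 360 ≤ 15 * n + 30 * p 0 + 10 * p 1 + 5 * p 2 + 3 * T3 := by exact_mod_cast hA
  have hB : ((p 0 + p 1 + p 2 + T3 + n : ℕ) : ℝ) ≤ 19 := by
    push_cast at h3' ⊢
    linarith
  have hB' : p 0 + p 1 + p 2 + T3 + n ≤ 19 := by exact_mod_cast hB
  have hC : ((5 * p 0 + 2 * n : ℕ) : ℝ) ≤ 45 := by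
    push_cast
    linarith
  have hC' : 5 * p 0 + 2 * n ≤ 45 := by exact_mod_cast hC
  have hn0 : n = 0 := by omega
  have hp0 : p 0 = 9 := by omega
  have hp3 : p 3 = 0 := by omega
  have hzero : ∀ k, 3 ≤ k → p k = 0 := by
    intro k hk
    have := h2 hk
    omega
  have hcases : (p 1 = 8 ∧ p 2 = 2) ∨ (p 1 = 9 ∧ p 2 = 0) ∨ (p 1 = 9 ∧ p 2 = 1) := by omega
  refine ⟨hn0, ?_⟩
  rcases hcases with ⟨h1', h2'⟩ | ⟨h1', h2'⟩ | ⟨h1', h2'⟩
  · left
    funext k
    rcases k with _ | _ | _ | k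
    · simpa using hp0
    · simpa using h1'
    · simpa using h2'
    · simpa using hzero (k + 3) (by omega)
  · right; left
    funext k
    rcases k with _ | _ | _ | k
    · simpa using hp0
    · simpa using h1'
    · simpa using h2'
    · simpa using hzero (k + 3) (by omega)
  · right; right
    funext k
    rcases k with _ | _ | _ | k
    · simpa using hp0
    · simpa using h1'
    · simpa using h2'
    · simpa using hzero (k + 3) (by omega)

end Groth.Agent.S18053
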