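import Groth.Statements.S18054
import Mathlib.Tactic
-- import your own Groth.Agent.* helpers here

set_option autoImplicit false
open STCI

namespace Groth.Agent.S18054

/-- Let s, t, d, g be integers with t ≥ s ≥ 4, d ≥ 1, g ≥ 0 and d dividing st; put n = st/d and assume n
≥ 2; put r = d[n(s - 4) + t] + (2 - 2g)n and assume r ≤ (s/3)(2s² - 6s + 7) - 1. Then d ≤ g + 3.
(The bound is written cleared of the denominator 3; s(2s² - 6s + 7) is always divisible by 3, so
this is the same condition.) -/
theorem result (s t d g n : ℤ) (hs : 4 ≤ s) (hst : s ≤ t) (hd : 1 ≤ d) (hg : 0 ≤ g)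
    (hn : s * t = d * n) (hn2 : 2 ≤ n)
    (hr : 3 * (d * (n * (s - 4) + t) + (2 - 2 * g) * n) ≤ s * (2 * s ^ 2 - 6 * s + 7) - 3) :
    d ≤ g + 3 := by
  by_contra hcon
  rw [not_le] at hcon
  have hd4 : g + 4 ≤ d := by omega
  have hnpos : 0 < n := by omega
  -- replace g by the bound
  have h1 : (10 - 2 * d) * n ≤ (2 - 2 * g) * n := by
    apply mul_le_mul_of_nonneg_right _ hnpos.le
    linarith
  have hstar : 3 * (s * t * (s - 6) + d * t + 10 * n) ≤ 2 * s ^ 3 - 6 * s ^ 2 + 7 * s - 3 := by
    have e1 : d * (n * (s - 4) + t) = s * t * (s - 4) + d * t := by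
      have : d * (n * (s - 4) + t) = (d * n) * (s - 4) + d * t := by ring
      rw [this, ← hn]
    have e2 : (10 - 2 * d) * n = 10 * n - 2 * (s * t) := by
      have : (10 - 2 * d) * n = 10 * n - 2 * (d * n) := by ring
      rw [this, ← hn]
    nlinarith [hr, h1, e1, e2]
  have hd4' : 4 ≤ d := by omega
  have htpos : 0 < t := by omega
  rcases lt_or_ge s 6 with hs6 | hs6
  · -- s = 4 or s = 5
    have hs45 : s = 4 ∨ s = 5 := by omega
    rcases hs45 with rfl | rfl
    · -- s = 4
      rcases le_or_gt 8 d with hd8 | hd8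
      · have : 0 ≤ (d - 8) * t := mul_nonneg (by omega) htpos.le
        nlinarith
      · interval_cases d <;> omega
    · -- s = 5
      rcases le_or_gt 5 d with hd5 | hd5
      · have h0 : 0 ≤ (d - 5) * t := mul_nonneg (by omega) htpos.le
        have hn4 : n ≤ 4 := by nlinarith
        interval_cases n
        · have : 13 ≤ d := by omega
          have : 8 * 5 ≤ (d - 5) * t := mul_le_mul (by omega) hst (by norm_num) (by omega)
          nlinarith
        · have : 9 ≤ d := by omega
          have : 4 * 5 ≤ (d - 5) * t := mul_le_mul (by omega) hst (by norm_num) (by omega)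
          nlinarith
        · have : 7 ≤ d := by omega
          have : 2 * 5 ≤ (d - 5) * t := mul_le_mul (by omega) hst (by norm_num) (by omega)
          nlinarith
      · have hd : d = 4 := by omega
        subst hd
        omega
  · -- s ≥ 6
    have hX : 0 < d * t + 10 * n := by positivity
    have hdtn : d * t * n = s * t * t := by
      have : d * t * n = (d * n) * t := by ring
      rw [this, ← hn]
    have hX2 : 40 * (s * t * t) ≤ (d * t + 10 * n) * (d * t + 10 * n) := by
      nlinarith [sq_nonneg (d * t - 10 * n)]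
    have ht2 : s * s ≤ t * t := mul_le_mul hst hst (by omega) (by omega)
    have hX3 : 40 * (s * s * s) ≤ (d * t + 10 * n) * (d * t + 10 * n) := by
      have : s * (s * s) ≤ s * (t * t) := mul_le_mul_of_nonneg_left ht2 (by omega)
      nlinarith
    have h2 : s * s * (s - 6) ≤ s * t * (s - 6) := by
      have : s * s ≤ s * t := mul_le_mul_of_nonneg_left hst (by omega)
      exact mul_le_mul_of_nonneg_right this (by omega)
    have h3 : 3 * (d * t + 10 * n) ≤ -s ^ 3 + 12 * s ^ 2 + 7 * s - 3 := by nlinarith
    generalize d * t + 10 * n = X at *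
    rcases le_or_gt 13 s with hs13 | hs13
    · have : -s ^ 3 + 12 * s ^ 2 + 7 * s - 3 < 0 := by nlinarith [mul_pos (show (0:ℤ) < s by omega) (show (0:ℤ) < s by omega)]
      omega
    · interval_cases s <;> nlinarith

end Groth.Agent.S18054
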