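import Groth.Statements.S18055
import Mathlib.Tactic
-- import your own Groth.Agent.* helpers here

set_option autoImplicit false
open STCI

namespace Groth.Agent.S18055

/-- Let d ≥ 1, g ≥ 0 and 1 ≤ s ≤ t be integers with d dividing st, put n = st/d and r = d[n(s - 4) + t]
+ (2 - 2g)n, and assume n ≥ 2, r > 0 and (n - 1) divides r. Then s < 2d² and t < 2d⁴. This is the
statement about the degree data (d, g the degree and genus of the curve, s ≤ t the degrees of the
two surfaces) to which the published proof reduces the degree bound: there the divisibility and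
positivity express that r/(n - 1), the common value of the type numbers of the pair, is a positive
integer; the geometric hypotheses themselves are not part of this row. -/
theorem result (d g s t n : ℤ) (hd : 1 ≤ d) (hg : 0 ≤ g) (hs : 1 ≤ s) (hst : s ≤ t)
    (hn : s * t = d * n) (hn2 : 2 ≤ n)
    (hpos : 0 < d * (n * (s - 4) + t) + (2 - 2 * g) * n)
    (hdvd : (n - 1) ∣ d * (n * (s - 4) + t) + (2 - 2 * g) * n) :
    s < 2 * d ^ 2 ∧ t < 2 * d ^ 4 := by
  obtain ⟨q, hq⟩ := hdvd
  have hn1 : 0 < n - 1 := by omega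
  have hnpos : 0 < n := by omega
  have hqpos : 0 < q := by
    by_contra hcon
    rw [not_lt] at hcon
    have : (n - 1) * q ≤ 0 := mul_nonpos_of_nonneg_of_nonpos hn1.le hcon
    omega
  -- u := q - d (s-4) - 2 + 2 g
  have hu : n * (q - d * (s - 4) - 2 + 2 * g) = q + d * t := by
    have : d * (n * (s - 4) + t) + (2 - 2 * g) * n = (n - 1) * q := hq
    linear_combination (-1 : ℤ) * this
  set u := q - d * (s - 4) - 2 + 2 * g with hudef
  have hdt : 0 < d * t := mul_pos (by omega) (by omega)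
  have hupos : 0 < u := by
    by_contra hcon
    rw [not_lt] at hcon
    have : n * u ≤ 0 := mul_nonpos_of_nonneg_of_nonpos hnpos.le hcon
    omega
  -- (n-1) u ≤ d (s+t-4) + 2
  have hA : (n - 1) * u ≤ d * (s + t - 4) + 2 := by
    have h2g : 2 * g = u + d * (s - 4) + 2 - q := by rw [hudef]; ring
    have hq' : q = n * u - d * t := by linarith
    nlinarith
  -- u s ≥ d^2 + 1
  have hB : d ^ 2 + 1 ≤ u * s := by
    have h1 : d * t < n * u := by linarith
    have h2 : d * t * s < n * u * s := mul_lt_mul_of_pos_right h1 (by omega)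
    have h3 : d * t * s = d ^ 2 * n := by
      have : d * t * s = d * (s * t) := by ring
      rw [this, hn]; ring
    have h4 : n * (d ^ 2) < n * (u * s) := by nlinarith
    have := lt_of_mul_lt_mul_left h4 hnpos.le
    omega
  have hdd : 1 ≤ d ^ 2 := by nlinarith
  -- key inequality from u ≥ 1
  have hC : (s - d ^ 2) * (t - d ^ 2) ≤ d ^ 4 - 4 * d ^ 2 + 3 * d := by
    have h1 : n - 1 ≤ (n - 1) * u := by nlinarith
    have h2 : n - 1 ≤ d * (s + t - 4) + 2 := le_trans h1 hA
    have h3 : d * n - d ≤ d * (d * (s + t - 4) + 2) := by nlinarith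
    rw [← hn] at h3
    nlinarith
  have hs2 : s < 2 * d ^ 2 := by
    by_contra hcon
    rw [not_lt] at hcon
    have h1 : d ^ 2 ≤ s - d ^ 2 := by linarith
    have h2 : d ^ 2 ≤ t - d ^ 2 := by linarith
    have h3 : d ^ 2 * d ^ 2 ≤ (s - d ^ 2) * (t - d ^ 2) := mul_le_mul h1 h2 (by positivity) (by linarith)
    nlinarith
  refine ⟨hs2, ?_⟩
  rcases lt_or_ge (d ^ 2) s with hsd | hsd
  · -- s > d^2
    by_contra hcon
    rw [not_lt] at hcon
    have h1 : 1 ≤ s - d ^ 2 := by linarith
    have h2 : 0 ≤ t - d ^ 2 := by nlinarith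
    have h3 : 1 * (t - d ^ 2) ≤ (s - d ^ 2) * (t - d ^ 2) := mul_le_mul_of_nonneg_right h1 h2
    nlinarith
  · -- s ≤ d^2
    by_contra hcon
    rw [not_lt] at hcon
    have h1 : (d ^ 2 + 1) * (n - 1) ≤ u * s * (n - 1) := mul_le_mul_of_nonneg_right hB hn1.le
    have h2 : u * s * (n - 1) ≤ s * (d * (s + t - 4) + 2) := by
      have : u * s * (n - 1) = s * ((n - 1) * u) := by ring
      rw [this]
      exact mul_le_mul_of_nonneg_left hA (by omega)
    have h3 : (d ^ 2 + 1) * (d * n - d) ≤ d * (s * (d * (s + t - 4) + 2)) := by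
      have : (d ^ 2 + 1) * (d * n - d) = d * ((d ^ 2 + 1) * (n - 1)) := by ring
      rw [this]
      exact mul_le_mul_of_nonneg_left (le_trans h1 h2) (by omega)
    rw [← hn] at h3
    have h4 : s * t ≤ d ^ 2 * s ^ 2 - 4 * d ^ 2 * s + 2 * d * s + d ^ 3 + d := by nlinarith
    have h5 : 2 * d ^ 4 * s ≤ s * t := by
      have := mul_le_mul_of_nonneg_left hcon (show (0 : ℤ) ≤ s by omega)
      nlinarith
    have h6 : d ^ 2 * s ^ 2 ≤ d ^ 4 * s := by
      have : s * s ≤ d ^ 2 * s := mul_le_mul_of_nonneg_right hsd (by omega)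
      nlinarith [sq_nonneg d]
    have h7 : (d ^ 4 + 4 * d ^ 2 - 2 * d) * s ≤ d ^ 3 + d := by nlinarith
    have h8 : 0 ≤ d ^ 4 + 4 * d ^ 2 - 2 * d := by nlinarith [sq_nonneg d, sq_nonneg (d ^ 2)]
    have h9 : (d ^ 4 + 4 * d ^ 2 - 2 * d) * 1 ≤ (d ^ 4 + 4 * d ^ 2 - 2 * d) * s :=
      mul_le_mul_of_nonneg_left hs h8
    have h10 : d ^ 4 - d ^ 3 + 4 * d ^ 2 - 3 * d ≤ 0 := by linarith
    have h11 : 0 < d ^ 4 - d ^ 3 + 4 * d ^ 2 - 3 * d := by
      have e : d ^ 4 - d ^ 3 + 4 * d ^ 2 - 3 * d = d * (d ^ 2 * (d - 1) + 4 * (d - 1) + 1) := by ring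
      rw [e]
      have : 0 ≤ d ^ 2 * (d - 1) := mul_nonneg (by positivity) (by omega)
      have : 0 < d ^ 2 * (d - 1) + 4 * (d - 1) + 1 := by nlinarith
      positivity
    linarith

end Groth.Agent.S18055
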