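import Groth.Statements.S18056
import Mathlib
import Groth.Agent.H47.FSArtin

set_option autoImplicit false
universe u v
open STCI

namespace Groth.Agent.S18056


/-- An Artinian local ring which is formally smooth over a field is a field. -/
theorem isField_of_formallySmooth_field {k : Type u} {T : Type v} [Field k] [CommRing T]
    [IsLocalRing T] [IsArtinianRing T] [Algebra k T] [Algebra.FormallySmooth k T] : IsField T := by
  obtain ⟨p, hp⟩ := CharP.exists k
  rcases CharP.char_is_prime_or_zero k p with hpp | hp0
  · have hfact : Fact p.Prime := ⟨hpp⟩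
    let a1 : Algebra (ZMod p) k := ZMod.algebra k p
    let a2 : Algebra (ZMod p) T := ((algebraMap k T).comp (algebraMap (ZMod p) k)).toAlgebra
    have h3 : IsScalarTower (ZMod p) k T := IsScalarTower.of_algebraMap_eq (fun _ => rfl)
    have h4 : Algebra.FormallySmooth (ZMod p) k := Groth.Agent.H47.formallySmooth_of_perfectField_field
    have h5 : Algebra.FormallySmooth (ZMod p) T := Algebra.FormallySmooth.comp (ZMod p) k T
    exact Groth.Agent.H47.isField_of_formallySmooth_of_isArtinianRing (ZMod p) T
  · subst hp0
    have h0 : CharZero k := CharP.charP_to_charZero k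
    let a1 : Algebra ℚ k := DivisionRing.toRatAlgebra
    let a2 : Algebra ℚ T := ((algebraMap k T).comp (algebraMap ℚ k)).toAlgebra
    have h3 : IsScalarTower ℚ k T := IsScalarTower.of_algebraMap_eq (fun _ => rfl)
    have h4 : Algebra.FormallySmooth ℚ k := Groth.Agent.H47.formallySmooth_of_perfectField_field
    have h5 : Algebra.FormallySmooth ℚ T := Algebra.FormallySmooth.comp ℚ k T
    exact Groth.Agent.H47.isField_of_formallySmooth_of_isArtinianRing ℚ T

/-- Let A → B be a homomorphism of Artinian local rings that is flat and formally smooth, where A has a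
subring that is a field. Then A and B have the same length, each as a module over itself. -/
theorem result (A : Type u) (B : Type v) [CommRing A] [CommRing B]
    [IsLocalRing A] [IsLocalRing B] [IsArtinianRing A] [IsArtinianRing B] [Algebra A B]
    [Module.Flat A B] [Algebra.FormallySmooth A B] (hK : ∃ K : Subring A, IsField K) :
    Module.length A A = Module.length B B := by
  classical
  -- the map is local
  have hloc : IsLocalHom (algebraMap A B) := by
    refine ⟨fun a ha => ?_⟩
    by_contra hna
    have hmem : a ∈ IsLocalRing.maximalIdeal A := (IsLocalRing.mem_maximalIdeal a).mpr hna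
    have hnil : IsNilpotent a := by
      obtain ⟨n, hn⟩ := IsArtinianRing.isNilpotent_jacobson_bot (R := A)
      rw [IsLocalRing.jacobson_eq_maximalIdeal ⊥ bot_ne_top] at hn
      refine ⟨n, ?_⟩
      have : a ^ n ∈ IsLocalRing.maximalIdeal A ^ n := Ideal.pow_mem_pow hmem n
      rw [hn] at this
      exact this
    have hnilB : IsNilpotent (algebraMap A B a) := hnil.map _
    exact hnilB.not_isUnit ha
  have h1 := IsLocalRing.length_baseChange A B A
  rw [(TensorProduct.AlgebraTensorModule.rid A B B).length_eq] at h1
  have hItop : (IsLocalRing.maximalIdeal A).map (algebraMap A B) ≠ ⊤ :=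
    (IsLocalRing.map_maximalIdeal_lt_top (algebraMap A B)).ne
  have hnt : Nontrivial (B ⧸ (IsLocalRing.maximalIdeal A).map (algebraMap A B)) :=
    Ideal.Quotient.nontrivial_iff.mpr hItop
  have hlocT : IsLocalRing (B ⧸ (IsLocalRing.maximalIdeal A).map (algebraMap A B)) :=
    IsLocalRing.of_surjective' (Ideal.Quotient.mk _) Ideal.Quotient.mk_surjective
  have hartT : IsArtinianRing (B ⧸ (IsLocalRing.maximalIdeal A).map (algebraMap A B)) :=
    (Ideal.Quotient.mk_surjective (I := (IsLocalRing.maximalIdeal A).map (algebraMap A B))).isArtinianRing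
  have hfs : Algebra.FormallySmooth (A ⧸ IsLocalRing.maximalIdeal A)
      (B ⧸ (IsLocalRing.maximalIdeal A).map (algebraMap A B)) :=
    Algebra.FormallySmooth.of_equiv
      (Algebra.TensorProduct.quotIdealMapEquivQuotTensor B (IsLocalRing.maximalIdeal A)).symm
  let fk : Field (A ⧸ IsLocalRing.maximalIdeal A) := Ideal.Quotient.field _
  have hfield : IsField (B ⧸ (IsLocalRing.maximalIdeal A).map (algebraMap A B)) :=
    isField_of_formallySmooth_field (k := A ⧸ IsLocalRing.maximalIdeal A)
  have hmax : ((IsLocalRing.maximalIdeal A).map (algebraMap A B)).IsMaximal :=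
    Ideal.Quotient.maximal_of_isField _ hfield
  have hsimple : IsSimpleModule B (B ⧸ (IsLocalRing.maximalIdeal A).map (algebraMap A B)) :=
    isSimpleModule_iff_quot_maximal.mpr ⟨_, hmax, ⟨LinearEquiv.refl _ _⟩⟩
  have h2 : Module.length B (B ⧸ (IsLocalRing.maximalIdeal A).map (algebraMap A B)) = 1 :=
    Module.length_eq_one B _
  rw [h2, mul_one] at h1
  exact h1.symm

end Groth.Agent.S18056
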