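import Groth.Statements.S18061
import Groth.Agent.H92.ConilDVR

set_option autoImplicit false
universe u
open scoped TensorProduct
open HopfRep

namespace Groth.Agent.S18061

/-- A is a discrete valuation ring, K denotes its field of fractions and k its residue field; G = Spec H
is a flat affine A-group scheme of finite presentation, H being a flat, finitely presented
commutative Hopf algebra over A. If the generic fibre G_K is unipotent (every nonzero
finite-dimensional representation has a nonzero fixed vector), then so is the special fibre G_k. -/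
theorem result (A : Type u) [CommRing A] [IsDomain A] [IsDiscreteValuationRing A]
    (K : Type u) [Field K] [Algebra A K] [IsFractionRing A K]
    (H : Type u) [CommRing H] [HopfAlgebra A H] [Module.Flat A H] [Algebra.FinitePresentation A H]
    (hK : HopfRep.IsUnipotent K (K ⊗[A] H)) :
    HopfRep.IsUnipotent (IsLocalRing.ResidueField A) (IsLocalRing.ResidueField A ⊗[A] H) := by
  have hK' : ∀ y : K ⊗[A] H, ∃ n, y ∈ Groth.Agent.H92.Conil.D K (K ⊗[A] H) n :=
    fun y => Groth.Agent.H92.Conil.conil_of_isUnipotent hK y
  have hH : ∀ h : H, ∃ n, h ∈ Groth.Agent.H92.Conil.D A H n :=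
    fun h => Groth.Agent.H92.Conil.conil_of_generic A K H hK' h
  apply Groth.Agent.H92.Conil.isUnipotent_of_conil
  intro c
  have hsurj : ∃ h : H, c = Groth.Agent.H92.Conil.iota A (IsLocalRing.ResidueField A) H h := by
    induction c using TensorProduct.induction_on with
    | zero => exact ⟨0, by rw [map_zero]⟩
    | tmul x h =>
      obtain ⟨a, rfl⟩ := IsLocalRing.residue_surjective x
      refine ⟨a • h, ?_⟩
      rw [Groth.Agent.H92.Conil.iota_apply, TensorProduct.tmul_smul, TensorProduct.smul_tmul',
        Algebra.smul_def, mul_one]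
      rfl
    | add x y hx hy =>
      obtain ⟨h₁, rfl⟩ := hx
      obtain ⟨h₂, rfl⟩ := hy
      exact ⟨h₁ + h₂, by rw [map_add]⟩
  obtain ⟨h, rfl⟩ := hsurj
  obtain ⟨n, hn⟩ := hH h
  exact ⟨n, Groth.Agent.H92.Conil.iota_mem_D A (IsLocalRing.ResidueField A) H n h hn⟩

end Groth.Agent.S18061
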