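import Groth.Statements.S18069
import Groth.Agent.H42.AntiAffAffTarget

set_option autoImplicit false
universe u
open CategoryTheory MonoidalCategory CartesianMonoidalCategory MonObj GrpObj AlgebraicGeometry CategoryTheory.Limits
open AlgGrp

namespace Groth.Agent.S18069

/-- Let k be a field and G₁, G₂ connected k-group schemes of finite type. Then G₁ × G₂ is anti-affine,
i.e. O(G₁ × G₂) = k, if and only if G₁ and G₂ are both anti-affine. -/
theorem result (k : Type u) [Field k]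
    (G₁ G₂ : Over (Spec (CommRingCat.of k))) [GrpObj G₁] [LocallyOfFiniteType G₁.hom] [QuasiCompact G₁.hom] [ConnectedSpace ↥G₁.left]
    [GrpObj G₂] [LocallyOfFiniteType G₂.hom] [QuasiCompact G₂.hom] [ConnectedSpace ↥G₂.left] :
    Function.Bijective ((Scheme.ΓSpecIso (CommRingCat.of k)).inv ≫ (G₁ ⊗ G₂).hom.appTop).hom ↔
      Function.Bijective ((Scheme.ΓSpecIso (CommRingCat.of k)).inv ≫ G₁.hom.appTop).hom ∧ Function.Bijective ((Scheme.ΓSpecIso (CommRingCat.of k)).inv ≫ G₂.hom.appTop).hom := by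
  haveI : IsLocallyNoetherian G₂.left := LocallyOfFiniteType.isLocallyNoetherian G₂.hom
  haveI : IsLocallyNoetherian G₁.left := LocallyOfFiniteType.isLocallyNoetherian G₁.hom
  have hu : ∀ (f : 𝟙_ (Over (Spec (CommRingCat.of k))) ⟶ 𝟙_ (Over (Spec (CommRingCat.of k)))),
      f = 𝟙 _ := fun f => toUnit_unique _ _
  constructor
  · intro hP
    refine ⟨?_, ?_⟩
    · apply Groth.Agent.H42.AntiAff.bijective_of_toSpecΓOver_const k G₁ η[G₁]
      have h1 := Groth.Agent.H42.AntiAff.eq_const_of_isAffine k (G₁ ⊗ G₂)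
        (Groth.Agent.H42.AntiAff.specΓOver k G₁) hP (lift η[G₁] η[G₂])
        (fst G₁ G₂ ≫ Groth.Agent.H42.AntiAff.toSpecΓOver k G₁)
      have h2 := congrArg (fun m => lift (𝟙 G₁) (toUnit G₁ ≫ η[G₂]) ≫ m) h1
      simp only [lift_fst_assoc, Category.id_comp] at h2
      rw [← Category.assoc, toUnit_unique (lift (𝟙 G₁) (toUnit G₁ ≫ η[G₂]) ≫ toUnit _) (toUnit G₁)]
        at h2
      exact h2
    · apply Groth.Agent.H42.AntiAff.bijective_of_toSpecΓOver_const k G₂ η[G₂]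
      have h1 := Groth.Agent.H42.AntiAff.eq_const_of_isAffine k (G₁ ⊗ G₂)
        (Groth.Agent.H42.AntiAff.specΓOver k G₂) hP (lift η[G₁] η[G₂])
        (snd G₁ G₂ ≫ Groth.Agent.H42.AntiAff.toSpecΓOver k G₂)
      have h2 := congrArg (fun m => lift (toUnit G₂ ≫ η[G₁]) (𝟙 G₂) ≫ m) h1
      simp only [lift_snd_assoc, Category.id_comp] at h2
      rw [← Category.assoc, toUnit_unique (lift (toUnit G₂ ≫ η[G₁]) (𝟙 G₂) ≫ toUnit _) (toUnit G₂)]
        at h2
      exact h2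
  · rintro ⟨hG₁, hG₂⟩
    apply Groth.Agent.H42.AntiAff.bijective_of_toSpecΓOver_const k (G₁ ⊗ G₂) (lift η[G₁] η[G₂])
    have hr := Groth.Agent.H42.AntiAff.rigidity_over_affine k G₁ G₂
      (Groth.Agent.H42.AntiAff.specΓOver k (G₁ ⊗ G₂)) hG₁ η[G₁]
      (Groth.Agent.H42.AntiAff.toSpecΓOver k (G₁ ⊗ G₂))
    have hc := Groth.Agent.H42.AntiAff.eq_const_of_isAffine k G₂
      (Groth.Agent.H42.AntiAff.specΓOver k (G₁ ⊗ G₂)) hG₂ η[G₂]
      (lift (toUnit G₂ ≫ η[G₁]) (𝟙 G₂) ≫ Groth.Agent.H42.AntiAff.toSpecΓOver k (G₁ ⊗ G₂))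
    have h3 : η[G₂] ≫ lift (toUnit G₂ ≫ η[G₁]) (𝟙 G₂) = lift η[G₁] η[G₂] := by
      rw [comp_lift, Category.comp_id, ← Category.assoc, hu (η[G₂] ≫ toUnit G₂), Category.id_comp]
    conv_lhs => rw [hr, hc]
    rw [reassoc_of% h3, ← Category.assoc, toUnit_unique (snd G₁ G₂ ≫ toUnit G₂) (toUnit _)]

end Groth.Agent.S18069
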