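import Groth.Statements.S18070
import Groth.Agent.H42.AntiAffAffTarget
import Groth.Agent.H42.QuotDesc

set_option autoImplicit false
universe u
open CategoryTheory MonoidalCategory CartesianMonoidalCategory MonObj GrpObj AlgebraicGeometry CategoryTheory.Limits
open AlgGrp

namespace Groth.Agent.S18070

/-- Let k be a field and 1 → G₁ → G → G₂ → 1 an exact sequence of k-group schemes of finite type with
G₁, G₂ connected (i : G₁ → G a homomorphism and closed immersion which is the kernel of the flat
surjective homomorphism q : G → G₂). Anti-affineness passes from G to the quotient G₂; in the other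
direction, G is anti-affine whenever G₁ and G₂ both are. -/
theorem result (k : Type u) [Field k]
    (G₁ G G₂ : Over (Spec (CommRingCat.of k))) [GrpObj G₁] [LocallyOfFiniteType G₁.hom] [QuasiCompact G₁.hom] [ConnectedSpace ↥G₁.left]
    [GrpObj G] [LocallyOfFiniteType G.hom] [QuasiCompact G.hom]
    [GrpObj G₂] [LocallyOfFiniteType G₂.hom] [QuasiCompact G₂.hom] [ConnectedSpace ↥G₂.left]
    (i : G₁ ⟶ G) [IsMonHom i] [IsClosedImmersion i.left] (q : G ⟶ G₂) [IsMonHom q] [Surjective q.left] [Flat q.left]
    (hex : AlgGrp.IsKernel i q) :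
    (Function.Bijective ((Scheme.ΓSpecIso (CommRingCat.of k)).inv ≫ G.hom.appTop).hom → Function.Bijective ((Scheme.ΓSpecIso (CommRingCat.of k)).inv ≫ G₂.hom.appTop).hom) ∧
    (Function.Bijective ((Scheme.ΓSpecIso (CommRingCat.of k)).inv ≫ G₁.hom.appTop).hom → Function.Bijective ((Scheme.ΓSpecIso (CommRingCat.of k)).inv ≫ G₂.hom.appTop).hom → Function.Bijective ((Scheme.ΓSpecIso (CommRingCat.of k)).inv ≫ G.hom.appTop).hom) := by
  haveI : IsLocallyNoetherian G₂.left := LocallyOfFiniteType.isLocallyNoetherian G₂.hom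
  haveI : IsLocallyNoetherian G.left := LocallyOfFiniteType.isLocallyNoetherian G.hom
  haveI : IsLocallyNoetherian G₁.left := LocallyOfFiniteType.isLocallyNoetherian G₁.hom
  haveI : QuasiCompact q.left := by
    haveI : QuasiCompact (q.left ≫ G₂.hom) := by rw [Over.w q]; infer_instance
    exact QuasiCompact.of_comp q.left G₂.hom
  haveI : Epi q := Over.epi_of_epi_left q
  have hun : toUnit G = q ≫ toUnit G₂ := toUnit_unique _ _
  have hone : η[G] ≫ q = η[G₂] := IsMonHom.one_hom (f := q)
  refine ⟨fun hG => ?_, fun hG₁ hG₂ => ?_⟩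
  · apply Groth.Agent.H42.AntiAff.bijective_of_toSpecΓOver_const k G₂ η[G₂]
    have h1 := Groth.Agent.H42.AntiAff.eq_const_of_isAffine k G
      (Groth.Agent.H42.AntiAff.specΓOver k G₂) hG η[G]
      (q ≫ Groth.Agent.H42.AntiAff.toSpecΓOver k G₂)
    rw [← cancel_epi q, h1, hun, reassoc_of% hone]
    simp only [Category.assoc]
  · apply Groth.Agent.H42.AntiAff.bijective_of_toSpecΓOver_const k G η[G]
    have hinv : ∀ (T : Over (Spec (CommRingCat.of k))) (g : T ⟶ G) (n : T ⟶ G₁),
        (g * (n ≫ i)) ≫ Groth.Agent.H42.AntiAff.toSpecΓOver k G =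
          g ≫ Groth.Agent.H42.AntiAff.toSpecΓOver k G := by
      intro T g n
      have hr := Groth.Agent.H42.AntiAff.rigidity_over_affine k G₁ G
        (Groth.Agent.H42.AntiAff.specΓOver k G) hG₁ η[G₁]
        ((snd G₁ G * (fst G₁ G ≫ i)) ≫ Groth.Agent.H42.AntiAff.toSpecΓOver k G)
      have h2 := congrArg (fun m => lift n g ≫ m) hr
      simp only [← Category.assoc] at h2
      rw [MonObj.comp_mul, lift_snd, ← Category.assoc (lift n g), lift_fst] at h2
      rw [h2]
      congr 1
      rw [MonObj.comp_mul]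
      simp only [Category.assoc, lift_snd, lift_fst, lift_snd_assoc, lift_fst_assoc,
        Category.comp_id, IsMonHom.one_hom]
      rw [← Hom.one_def, MonObj.comp_one, _root_.mul_one]
    obtain ⟨ρ', hρ', -⟩ := Groth.Agent.H42.QuotDesc.existsUnique_desc i q hex
      (Groth.Agent.H42.AntiAff.toSpecΓOver k G) hinv
    have hc := Groth.Agent.H42.AntiAff.eq_const_of_isAffine k G₂
      (Groth.Agent.H42.AntiAff.specΓOver k G) hG₂ η[G₂] ρ'
    rw [← hρ', hun, reassoc_of% hone]
    conv_lhs => rw [hc]
    simp only [Category.assoc]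

end Groth.Agent.S18070
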