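import Groth.Statements.S18096
import Groth.Agent.H40.AntiAffGL

set_option autoImplicit false
universe u
open CategoryTheory MonoidalCategory CartesianMonoidalCategory MonObj GrpObj AlgebraicGeometry CategoryTheory.Limits
open AlgGrp

namespace Groth.Agent.S18096

/-- Let k be a field and G a k-group scheme of finite type. Then G is anti-affine, i.e. O(G) = k, if and
only if every finite-dimensional linear representation of G is trivial, i.e. for every n every
homomorphism G → GL_{n,k} is trivial. -/
theorem result (k : Type u) [Field k]
    (G : Over (Spec (CommRingCat.of k))) [GrpObj G] [LocallyOfFiniteType G.hom] [QuasiCompact G.hom] :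
    Function.Bijective ((Scheme.ΓSpecIso (CommRingCat.of k)).inv ≫ G.hom.appTop).hom ↔
      ∀ (n : ℕ) (ρ : G ⟶ FrB.GLn n (Spec (CommRingCat.of k))), IsMonHom ρ → ρ = 1 := by
  constructor
  · intro h n ρ hρ
    haveI : IsAffine (FrB.GLZ.{u} n).left := inferInstanceAs (IsAffine (Spec _))
    haveI : IsAffine (FrB.GLn n (Spec (CommRingCat.of k))).left := by
      change IsAffine (pullback _ _)
      infer_instance
    have h1 := Groth.Agent.H42.AntiAff.eq_const_of_isAffine k G _ h η[G] ρ
    rw [h1, IsMonHom.one_hom]
    rfl
  · intro h
    have hnoeth : IsLocallyNoetherian G.left := LocallyOfFiniteType.isLocallyNoetherian G.hom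
    haveI : QuasiSeparated G.hom := inferInstance
    exact Groth.Agent.H40.Kunneth.bijective_of_forall_rep G h

end Groth.Agent.S18096
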