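import Groth.Statements.S18158
import Groth.Agent.H87.EtThickD
import Groth.Agent.H65.W2Basic

set_option autoImplicit false
universe u
open CategoryTheory CategoryTheory.Limits AlgebraicGeometry
open Lift

namespace Groth.Agent.S18158

/-- Let k be an algebraically closed field of characteristic p and q : Y → X an étale morphism to a
smooth k-scheme X. Suppose X has a W_2-lifting of its Frobenius: a scheme X~ flat over Spec W_2(k),
a morphism i : X → X~ making X the base change of X~ along Spec k → Spec W_2(k) (the residue map),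
and an endomorphism F~ of X~ with i ∘ F_X = F~ ∘ i, F_X the absolute Frobenius. Then Y has one as
well: there are a scheme Y~ flat over Spec W_2(k), a morphism j : Y → Y~ making Y the base change of
Y~ along the same map, and an endomorphism G~ of Y~ with j ∘ F_Y = G~ ∘ j. (The source speaks of an
étale cover Y → X of smooth varieties; its argument uses only that Y is étale over X and that X
lifts, so X is taken smooth over k and Y étale over X, with no integrality, separatedness or
quasi-compactness assumed.) -/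
theorem result
    (p : ℕ) [Fact p.Prime] (k : Type u) [Field k] [IsAlgClosed k] [CharP k p]
    (X Y : Scheme.{u}) (f : X ⟶ Spec (CommRingCat.of k)) [Smooth f]
    (q : Y ⟶ X) [AlgebraicGeometry.Etale q]
    [FrobSch.IsCharP X p] [FrobSch.IsCharP Y p]
    (Xl : Scheme.{u}) (g : Xl ⟶ Spec (CommRingCat.of (FrobAlg.W2 p k))) [Flat g]
    (i : X ⟶ Xl) (hsq : IsPullback i f g (Spec.map (CommRingCat.ofHom (FrobAlg.res p k))))
    (Fl : Xl ⟶ Xl) (hF : i ≫ Fl = FrobSch.frob X p ≫ i) :
    ∃ (Yl : Scheme.{u}) (gY : Yl ⟶ Spec (CommRingCat.of (FrobAlg.W2 p k))) (j : Y ⟶ Yl) (Gl : Yl ⟶ Yl),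
      Flat gY ∧ IsPullback j (q ≫ f) gY (Spec.map (CommRingCat.ofHom (FrobAlg.res p k))) ∧
        j ≫ Gl = FrobSch.frob Y p ≫ j := by
  have hperf : PerfectRing k p := inferInstance
  have hres : Function.Surjective (FrobAlg.res p k) := Groth.Agent.H65.W2B.res_surjective p k
  have hci0 : IsClosedImmersion (Spec.map (CommRingCat.ofHom (FrobAlg.res p k))) :=
    IsClosedImmersion.spec_of_surjective _ hres
  have hsurj0 : Surjective (Spec.map (CommRingCat.ofHom (FrobAlg.res p k))) := by
    refine ⟨fun P => ⟨⟨⊥, Ideal.isPrime_bot⟩, ?_⟩⟩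
    apply PrimeSpectrum.ext
    change Ideal.comap (FrobAlg.res p k) ⊥ = P.asIdeal
    have hker : RingHom.ker (FrobAlg.res p k) ≤ P.asIdeal := by
      rw [Groth.Agent.H65.W2B.ker_res p k, Ideal.span_singleton_le_iff_mem]
      apply P.2.mem_of_pow_mem 2
      rw [pow_two, Groth.Agent.H65.W2B.p_mul_p p k]
      exact P.asIdeal.zero_mem
    have hmax : (RingHom.ker (FrobAlg.res p k)).IsMaximal := RingHom.ker_isMaximal_of_surjective _ hres
    exact hmax.eq_of_le P.2.ne_top hker
  have hci : IsClosedImmersion i :=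
    MorphismProperty.of_isPullback (P := @IsClosedImmersion) hsq.flip hci0
  have hsurj : Surjective i :=
    MorphismProperty.of_isPullback (P := @Surjective) hsq.flip hsurj0
  obtain ⟨Yl, h, j, hh, sq⟩ := Groth.Agent.H87.EtThick.exists_etale_lift i q
  have hjci : IsClosedImmersion j :=
    MorphismProperty.of_isPullback (P := @IsClosedImmersion) sq.flip hci
  have hjs : Surjective j :=
    MorphismProperty.of_isPullback (P := @Surjective) sq.flip hsurj
  have hcomm : (FrobSch.frob Y p ≫ j) ≫ h = j ≫ (h ≫ Fl) := by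
    rw [Category.assoc, sq.w, FrobSch.frob_comp_assoc p q, ← hF, ← Category.assoc, ← sq.w,
      Category.assoc]
  obtain ⟨Gl, ⟨hG1, hG2⟩, -⟩ :=
    Groth.Agent.H7.existsUnique_lift_of_etale_of_thickening h (h ≫ Fl) j (FrobSch.frob Y p ≫ j) hcomm
  refine ⟨Yl, h ≫ g, j, Gl, inferInstance, sq.paste_vert hsq, hG2⟩

end Groth.Agent.S18158
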