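import Groth.Statements.S18175
import Groth.Agent.H86.LLS9

set_option autoImplicit false
open FunFld Groth.Agent.H86 Groth.Agent.H55

namespace Groth.Agent.S18175

/-- Let `k` be an algebraically closed field of characteristic zero and `K/k` a function field of one
variable (the function field of a smooth projective curve over `k`). A `g^r_d` is a divisor `D` of
degree `d` with a subspace `V ⊆ L(D)` of dimension `r + 1`; for a place `P` and `n ≥ 0`, `V(-nP) = V
∩ L(D - nP)` is the space of members vanishing to order at least `n` at `P`, so `dim V(-nP)` counts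
the vanishing orders `m_0 < ⋯ < m_r` of `V` at `P` that are at least `n`, and the weight of `V` at
`P` is `∑_{n=1}^{d} dim V(-nP) - r(r+1)/2`. Assume `K` has genus `0` and the `g^r_d` `(D, V)` has at
least a cusp at the place `Q` (`dim V(-2Q) ≥ r`), and let `P, P'` be places other than `Q`. Then up
to a constant factor there is at most one member of `V` vanishing only at `P` and `P'`: if `f, g ∈
V` are nonzero and the divisors `div f + D`, `div g + D` are both supported on `{P, P'}`, then `g =
c f` for some `c ∈ k`. (In the source `Q` is the point where the rational component `Y` meets a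
chain of curves ending in a curve of positive genus, a situation that forces the cusp condition
assumed here.) (The source states this for curves over the complex numbers.) -/
theorem result
    (k : Type*) [Field k] [IsAlgClosed k] [CharZero k]
    (K : Type*) [Field K] [Algebra k K] (hK : FunFld.IsFunctionField k K) (hg0 : FunFld.genus k K = 0)
    (d r : ℕ) (D : FunFld.Divisor k K) (hD : D.deg = d)
    (V : Submodule k K) (hV : V ≤ FunFld.L D) (hVr : Module.finrank k ↥V = r + 1)
    (Q : FunFld.Place k K) (hcusp : r ≤ Module.finrank k ↥(V ⊓ FunFld.L (D - Finsupp.single Q ((2 : ℤ)))))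
    (P P' : FunFld.Place k K) (hP : P ≠ Q) (hP' : P' ≠ Q)
    (f g : K) (hf : f ∈ V) (hg : g ∈ V) (hf0 : f ≠ 0) (hg0' : g ≠ 0)
    (hfs : ∀ R : FunFld.Place k K, R ≠ P → R ≠ P' → (FunFld.div k f + D) R = 0)
    (hgs : ∀ R : FunFld.Place k K, R ≠ P → R ≠ P' → (FunFld.div k g + D) R = 0) :
    ∃ c : k, g = c • f := by
  classical
  by_contra hno
  have hli : LinearIndependent k ![f, g] := by
    rw [LinearIndependent.pair_iff]
    intro s t hst
    by_cases ht : t = 0
    · subst ht
      rw [zero_smul, add_zero] at hst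
      exact ⟨(smul_eq_zero.mp hst).resolve_right hf0, rfl⟩
    · exfalso
      apply hno
      refine ⟨-(t⁻¹ * s), ?_⟩
      have h1 : t • g = -(s • f) := eq_neg_of_add_eq_zero_right hst
      calc g = t⁻¹ • (t • g) := by rw [smul_smul, inv_mul_cancel₀ ht, one_smul]
        _ = t⁻¹ • (-(s • f)) := by rw [h1]
        _ = -(t⁻¹ * s) • f := by rw [smul_neg, smul_smul, neg_smul]
  have hfV2 : f ∈ Submodule.span k (Set.range ![f, g]) := Submodule.subset_span ⟨0, rfl⟩
  have hgV2 : g ∈ Submodule.span k (Set.range ![f, g]) := Submodule.subset_span ⟨1, rfl⟩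
  have hV2V : Submodule.span k (Set.range ![f, g]) ≤ V := by
    rw [Submodule.span_le]
    rintro x ⟨i, rfl⟩
    fin_cases i
    · exact hf
    · exact hg
  have hV2L : Submodule.span k (Set.range ![f, g]) ≤ L D := hV2V.trans hV
  have hV2r : Module.finrank k ↥(Submodule.span k (Set.range ![f, g])) = 1 + 1 := by
    rw [finrank_span_eq_card hli]
    simp
  have hcusp2 : 1 ≤ FF.vdim (Submodule.span k (Set.range ![f, g])) D Q 2 := by
    have hfinV : Module.Finite k V := by
      have := L_finite hK D
      exact Submodule.finiteDimensional_of_le hV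
    have hfin2 : Module.Finite k ↥(Submodule.span k (Set.range ![f, g])) :=
      Submodule.finiteDimensional_of_le hV2V
    have hfin3 := FF.finite_inf_L hK V (D - Finsupp.single Q (2 : ℤ))
    have hdim := Submodule.finrank_sup_add_finrank_inf_eq (Submodule.span k (Set.range ![f, g]))
      (V ⊓ L (D - Finsupp.single Q (2 : ℤ)))
    have hsup : Submodule.span k (Set.range ![f, g]) ⊔ (V ⊓ L (D - Finsupp.single Q (2 : ℤ))) ≤ V :=
      sup_le hV2V inf_le_left
    have hs := Submodule.finrank_mono hsup
    have hinf : Submodule.span k (Set.range ![f, g]) ⊓ (V ⊓ L (D - Finsupp.single Q (2 : ℤ))) =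
        Submodule.span k (Set.range ![f, g]) ⊓ L (D - Finsupp.single Q (2 : ℤ)) := by
      rw [← inf_assoc, inf_eq_left.mpr hV2V]
    rw [hinf] at hdim
    have hc : r ≤ Module.finrank k ↥(V ⊓ L (D - Finsupp.single Q (2 : ℤ))) := hcusp
    unfold FF.vdim
    omega
  have hQ2 := FF.vsum_cusp hK hV2L hV2r hD Q hcusp2
  have htri : FF.tri 1 = 1 := by decide
  have hfL := hV hf
  have hgL := hV hg
  have hFdeg : FunFld.Divisor.deg (D + div k f) = d := by rw [deg_add_div hK, hD]
  have hGdeg : FunFld.Divisor.deg (D + div k g) = d := by rw [deg_add_div hK, hD]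
  have hF0 : 0 ≤ D + div k f := (mem_L_iff_div hK hf0).mp hfL
  have hG0 : 0 ≤ D + div k g := (mem_L_iff_div hK hg0').mp hgL
  have hfs' : ∀ R : FunFld.Place k K, R ≠ P → R ≠ P' → (D + div k f) R = 0 := by
    intro R h1 h2
    rw [add_comm]
    exact hfs R h1 h2
  have hgs' : ∀ R : FunFld.Place k K, R ≠ P → R ≠ P' → (D + div k g) R = 0 := by
    intro R h1 h2
    rw [add_comm]
    exact hgs R h1 h2
  have hlowP := FF.add_le_vsum_of_mem hK (FF.toNat_le_deg hK hD hf0 hfL P)
    (FF.toNat_le_deg hK hD hg0' hgL P) hfV2 hgV2 hli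
    (FF.mem_L_sub_single_toNat hK hf0 hfL P) (FF.mem_L_sub_single_toNat hK hg0' hgL P)
  by_cases hPP' : P = P'
  · subst hPP'
    have h1 := FF.deg_of_support_one hK (F := D + div k f) (P := P)
      (fun R hR => hfs' R hR hR)
    have h2 := FF.deg_of_support_one hK (F := D + div k g) (P := P)
      (fun R hR => hgs' R hR hR)
    have h3 := FF.vsum_add_vsum_le hK hV2L hV2r hD hP
    rw [hFdeg] at h1
    rw [hGdeg] at h2
    rw [← h1, ← h2] at hlowP
    simp only [Int.toNat_natCast] at hlowP
    omega
  · have hlowP' := FF.add_le_vsum_of_mem hK (FF.toNat_le_deg hK hD hf0 hfL P')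
      (FF.toNat_le_deg hK hD hg0' hgL P') hfV2 hgV2 hli
      (FF.mem_L_sub_single_toNat hK hf0 hfL P') (FF.mem_L_sub_single_toNat hK hg0' hgL P')
    have h1 := FF.deg_of_support_two hK hPP' hfs'
    have h2 := FF.deg_of_support_two hK hPP' hgs'
    rw [hFdeg] at h1
    rw [hGdeg] at h2
    have h3 := FF.plucker3 hK hg0 hV2L hV2r hD hPP' hP hP'
    have e1 := hF0 P
    have e2 := hF0 P'
    have e3 := hG0 P
    have e4 := hG0 P'
    rw [Finsupp.zero_apply] at e1 e2 e3 e4
    omega

end Groth.Agent.S18175
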