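import Groth.Statements.S18177
import Groth.Agent.H86.LLS6

set_option autoImplicit false
open FunFld Groth.Agent.H86 Groth.Agent.H55

namespace Groth.Agent.S18177

/-- Let `k` be an algebraically closed field of characteristic zero and `K/k` a function field of one
variable (the function field of a smooth projective curve over `k`). A `g^r_d` is a divisor `D` of
degree `d` with a subspace `V ⊆ L(D)` of dimension `r + 1`; for a place `P` and `n ≥ 0`, `V(-nP) = V
∩ L(D - nP)` is the space of members vanishing to order at least `n` at `P`, so `dim V(-nP)` counts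
the vanishing orders `m_0 < ⋯ < m_r` of `V` at `P` that are at least `n`, and the weight of `V` at
`P` is `∑_{n=1}^{d} dim V(-nP) - r(r+1)/2`. Let `(D, V)` be a `g^r_d` with `r ≥ 1` and `P ≠ Q`
places at which the weights are large: `w(V, P) + w(V, Q) ≥ (r+1)(d-r) - (r-1)`, that is `(r+1)d + 1
≤ ∑_{n=1}^{d} dim V(-nP) + ∑_{n=1}^{d} dim V(-nQ) + r`. Then `V` contains members with divisors `m_i
Q + (d - m_i) P` for two different indices `i`, and hence `m(Q - P)` is a principal divisor for some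
`1 ≤ m ≤ d`. (In the source `K` is an elliptic tail of a degenerate curve, `P` its node and `Q` the
limit of the moving ramification point, the weight hypothesis coming from `ρ ≤ 0`; it concludes that
only finitely many `Q` are possible. The torsion assertion holds in any genus and is what is stated
here.) (The source states this for curves over the complex numbers.) -/
theorem result
    (k : Type*) [Field k] [IsAlgClosed k] [CharZero k]
    (K : Type*) [Field K] [Algebra k K] (hK : FunFld.IsFunctionField k K)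
    (d r : ℕ) (hr : 1 ≤ r) (D : FunFld.Divisor k K) (hD : D.deg = d)
    (V : Submodule k K) (hV : V ≤ FunFld.L D) (hVr : Module.finrank k ↥V = r + 1)
    (P Q : FunFld.Place k K) (hPQ : P ≠ Q)
    (hw : (r + 1) * d + 1 ≤
      (∑ n ∈ Finset.range d, Module.finrank k ↥(V ⊓ FunFld.L (D - Finsupp.single P ((n : ℤ) + 1)))) +
        (∑ n ∈ Finset.range d, Module.finrank k ↥(V ⊓ FunFld.L (D - Finsupp.single Q ((n : ℤ) + 1)))) + r) :
    ∃ m : ℕ, 1 ≤ m ∧ m ≤ d ∧ ∃ h : K, h ≠ 0 ∧
      FunFld.div k h = Finsupp.single Q (m : ℤ) - Finsupp.single P (m : ℤ) := by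
  classical
  have hva := FF.isVan_vdim hK hV hVr hD P
  have hvb := FF.isVan_vdim hK hV hVr hD Q
  have hdeg : ∀ n : ℕ, FunFld.Divisor.deg
      (D - Finsupp.single P (n : ℤ) - Finsupp.single Q ((d : ℤ) - n)) = 0 := by
    intro n
    rw [Divisor.deg_sub, Divisor.deg_sub, FF.deg_single_one hK, FF.deg_single_one hK, hD]
    ring
  have he : ∀ n : ℕ, Module.finrank k
      ↥(V ⊓ L (D - Finsupp.single P (n : ℤ) - Finsupp.single Q ((d : ℤ) - n))) ≤ 1 :=
    fun n => FF.finrank_inf_L_le_one hK V (hdeg n)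
  have hab : ∀ n : ℕ, n ≤ d → FF.vdim V D P (n : ℤ) + FF.vdim V D Q ((d - n : ℕ) : ℤ) ≤
      r + 1 + Module.finrank k
        ↥(V ⊓ L (D - Finsupp.single P (n : ℤ) - Finsupp.single Q ((d : ℤ) - n))) := by
    intro n hn
    have := FF.vdim_add_le_exact hK hV hPQ (n : ℤ) ((d : ℤ) - n)
    rw [hVr] at this
    have e1 : (((d - n : ℕ)) : ℤ) = (d : ℤ) - n := by omega
    rw [e1]
    exact this
  obtain ⟨n1, n2, hlt, hle, h1, h2⟩ := FF.exists_two_exact
    (a := fun n : ℕ => FF.vdim V D P (n : ℤ)) (b := fun n : ℕ => FF.vdim V D Q (n : ℤ))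
    (e := fun n : ℕ => Module.finrank k
        ↥(V ⊓ L (D - Finsupp.single P (n : ℤ) - Finsupp.single Q ((d : ℤ) - n))))
    (r := r) (d := d) hva.zero hvb.zero he hab
    (by rw [← FF.vsum_eq, ← FF.vsum_eq]; exact hw)
  have hne1 : V ⊓ L (D - Finsupp.single P (n1 : ℤ) - Finsupp.single Q ((d : ℤ) - n1)) ≠ ⊥ := by
    intro hb
    have h1' : Module.finrank k
        ↥(V ⊓ L (D - Finsupp.single P (n1 : ℤ) - Finsupp.single Q ((d : ℤ) - n1))) = 1 := h1
    rw [hb, finrank_bot] at h1'
    omega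
  have hne2 : V ⊓ L (D - Finsupp.single P (n2 : ℤ) - Finsupp.single Q ((d : ℤ) - n2)) ≠ ⊥ := by
    intro hb
    have h2' : Module.finrank k
        ↥(V ⊓ L (D - Finsupp.single P (n2 : ℤ) - Finsupp.single Q ((d : ℤ) - n2))) = 1 := h2
    rw [hb, finrank_bot] at h2'
    omega
  obtain ⟨f1, -, hf10, hd1⟩ := FF.exists_div_eq_of_inf_ne_bot hK V (hdeg n1) hne1
  obtain ⟨f2, -, hf20, hd2⟩ := FF.exists_div_eq_of_inf_ne_bot hK V (hdeg n2) hne2
  refine ⟨n2 - n1, by omega, by omega, f1 * f2⁻¹, mul_ne_zero hf10 (inv_ne_zero hf20), ?_⟩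
  rw [FF.div_mul hK hf10 (inv_ne_zero hf20), div_inv hK, hd1, hd2]
  ext R
  simp only [Finsupp.add_apply, Finsupp.sub_apply, Finsupp.neg_apply, Finsupp.single_apply]
  have e2 : (((n2 - n1 : ℕ)) : ℤ) = (n2 : ℤ) - n1 := by omega
  rw [e2]
  split_ifs <;> ring

end Groth.Agent.S18177
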