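import Groth.Statements.S18205
import Groth.Agent.H90.LocImm.Prop
-- import your own Groth.Agent.* helpers here

set_option autoImplicit false
universe u
open LocImm

namespace Groth.Agent.S18205

open CategoryTheory AlgebraicGeometry in
/-- Let `f : X ⟶ Y` be a localizing immersion (localizing and injective on points) of Noetherian schemes
whose image is closed. Then `f` is an open immersion (so its image is open and closed and `f` is an
isomorphism onto a union of connected components of `Y`); in particular a surjective localizing
immersion is an isomorphism. -/
theorem result {X Y : Scheme.{u}} [IsNoetherian X] [IsNoetherian Y]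
    (f : X ⟶ Y) (hf : LocImm.IsLocImmersion f) (hc : IsClosed (Set.range (fun x => f x))) : IsOpenImmersion f := by
  have hg := Groth.Agent.H90.LocImm.generalizingMap_of_isLocalizing f hf.1
  have hemb : Topology.IsEmbedding f :=
    Groth.Agent.H90.LocImm.isEmbedding_of_injective_of_generalizingMap f.continuous hf.2 hg
  have hopen : IsOpen (Set.range f) :=
    Groth.Agent.H90.LocImm.isOpen_of_isClosed_of_stableUnderGeneralization hc
      hg.stableUnderGeneralization_range
  have hoe : Topology.IsOpenEmbedding f := ⟨hemb, hopen⟩
  have := Groth.Agent.H90.LocImm.isIso_stalkMap_of_isLocalizing f hf.1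
  exact IsOpenImmersion.of_isIso_stalkMap f hoe

end Groth.Agent.S18205
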