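import Groth.Statements.S18204
import Groth.Agent.H90.LocImm.Prop
-- import your own Groth.Agent.* helpers here

set_option autoImplicit false
universe u
open LocImm

namespace Groth.Agent.S18204

open CategoryTheory AlgebraicGeometry in
/-- A localizing immersion (localizing and injective on points) of Noetherian schemes which is locally
of finite type is an open immersion. -/
theorem result {X Y : Scheme.{u}} [IsNoetherian X] [IsNoetherian Y]
    (f : X ⟶ Y) (hf : LocImm.IsLocImmersion f) [LocallyOfFiniteType f] : IsOpenImmersion f := by
  have hg := Groth.Agent.H90.LocImm.generalizingMap_of_isLocalizing f hf.1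
  have hopen : IsOpenMap f := isOpenMap_of_generalizingMap f hg
  have hoe : Topology.IsOpenEmbedding f :=
    Topology.isOpenEmbedding_iff_continuous_injective_isOpenMap.mpr ⟨f.continuous, hf.2, hopen⟩
  have := Groth.Agent.H90.LocImm.isIso_stalkMap_of_isLocalizing f hf.1
  exact IsOpenImmersion.of_isIso_stalkMap f hoe

end Groth.Agent.S18204
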