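import Groth.Statements.S18232
import Groth.Agent.H91.Thick

set_option autoImplicit false
universe u
open CategoryTheory MonoidalCategory CartesianMonoidalCategory AlgebraicGeometry Opposite
open Magnet

namespace Groth.Agent.S18232

/-- Let S be a scheme, M a finitely generated abelian group, N a submonoid of M, and let X, Y be
S-schemes with actions of the diagonalizable group scheme D(M)_S and f : X → Y an equivariant,
formally unramified S-morphism. Then the induced map f^N : X^N → Y^N, viewed as a transformation of
functors on S-schemes, is again formally unramified: for every ring A, ideal I of A with I² = 0 and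
structure morphism Spec A → S, writing T = Spec (A/I) ⊂ T' = Spec A, two elements of X^N(T') with
the same restriction to T and the same image in Y^N(T') are equal. (Stated for schemes; the
published statement is for algebraic spaces over S.) -/
theorem result (S : Scheme.{u}) (M : Type) [AddCommGroup M]
    [AddGroup.FG M] (N : AddSubmonoid M) {X Y : Over S} (aX : Magnet.MonAct (Magnet.AMonS S M) X)
    (aY : Magnet.MonAct (Magnet.AMonS S M) Y) (f : X ⟶ Y) (hf : Magnet.MonAct.IsEquivariant aX aY f)
    [FormallyUnramified f.left] (A : Type u) [CommRing A] (I : Ideal A) (hI : I ^ 2 = ⊥)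
    (str : Spec (CommRingCat.of A) ⟶ S) (l₁ l₂ : (Magnet.attr aX N).obj (op (Over.mk str)))
    (htop : (Magnet.attr aX N).map (Over.homMk (Spec.map (CommRingCat.ofHom (Ideal.Quotient.mk I))) rfl :
        Over.mk (Spec.map (CommRingCat.ofHom (Ideal.Quotient.mk I)) ≫ str) ⟶ Over.mk str).op l₁ =
      (Magnet.attr aX N).map (Over.homMk (Spec.map (CommRingCat.ofHom (Ideal.Quotient.mk I))) rfl :
        Over.mk (Spec.map (CommRingCat.ofHom (Ideal.Quotient.mk I)) ≫ str) ⟶ Over.mk str).op l₂)
    (hbot : (Magnet.MonAct.eqvHom.postcomp (Magnet.subAct S M N) f hf).app _ l₁ =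
      (Magnet.MonAct.eqvHom.postcomp (Magnet.subAct S M N) f hf).app _ l₂) :
    l₁ = l₂ := by
  apply Subtype.ext
  apply Over.OverMorphism.ext
  -- the affine scheme `P = A(N) ×_S Spec A`
  have haff0 : IsAffineHom (Magnet.AMon (ULift.{u} ℤ) N).hom := by
    change IsAffineHom (Spec.map (CommRingCat.ofHom (algebraMap (ULift.{u} ℤ)
      (MonoidAlgebra (ULift.{u} ℤ) (Multiplicative N)))))
    infer_instance
  have haff1 : IsAffineHom (Magnet.AMonS S N).hom := by
    change IsAffineHom (Limits.pullback.snd (Magnet.AMon (ULift.{u} ℤ) N).hom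
      (Limits.IsTerminal.from specULiftZIsTerminal S))
    exact MorphismProperty.pullback_snd (P := @IsAffineHom) _ _ haff0
  have haff2 : IsAffineHom (Limits.pullback.snd (Magnet.AMonS S N).hom str) :=
    MorphismProperty.pullback_snd (P := @IsAffineHom) _ _ haff1
  have hP : IsAffine (Limits.pullback (Magnet.AMonS S N).hom str) :=
    isAffine_of_isAffineHom (Limits.pullback.snd (Magnet.AMonS S N).hom str)
  -- the pullback square
  let T : Over S := Over.mk str
  let T₀ : Over S := Over.mk (Spec.map (CommRingCat.ofHom (Ideal.Quotient.mk I)) ≫ str)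
  let ι : T₀ ⟶ T := Over.homMk (Spec.map (CommRingCat.ofHom (Ideal.Quotient.mk I))) rfl
  have h1 : (Magnet.AMonS S N ◁ ι).left ≫ Limits.pullback.fst (Magnet.AMonS S N).hom str =
      Limits.pullback.fst (Magnet.AMonS S N).hom
        (Spec.map (CommRingCat.ofHom (Ideal.Quotient.mk I)) ≫ str) :=
    Over.whiskerLeft_left_fst ι
  have h2 : (Magnet.AMonS S N ◁ ι).left ≫ Limits.pullback.snd (Magnet.AMonS S N).hom str =
      Limits.pullback.snd (Magnet.AMonS S N).hom
        (Spec.map (CommRingCat.ofHom (Ideal.Quotient.mk I)) ≫ str) ≫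
        Spec.map (CommRingCat.ofHom (Ideal.Quotient.mk I)) :=
    Over.whiskerLeft_left_snd ι
  have sq : IsPullback (Magnet.AMonS S N ◁ ι).left
      (Limits.pullback.snd (Magnet.AMonS S N).hom
        (Spec.map (CommRingCat.ofHom (Ideal.Quotient.mk I)) ≫ str))
      (Limits.pullback.snd (Magnet.AMonS S N).hom str)
      (Spec.map (CommRingCat.ofHom (Ideal.Quotient.mk I))) := by
    refine IsPullback.of_right ?_ h2 (IsPullback.of_hasPullback (Magnet.AMonS S N).hom str)
    rw [h1]
    exact IsPullback.of_hasPullback _ _
  have htop' : (Magnet.AMonS S N ◁ ι) ≫ l₁.1 = (Magnet.AMonS S N ◁ ι) ≫ l₂.1 :=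
    congrArg Subtype.val htop
  have hbot' : l₁.1 ≫ f = l₂.1 ≫ f := congrArg Subtype.val hbot
  exact Groth.Agent.H91.hom_ext_of_formallyUnramified_of_isPullback A I hI
    (Limits.pullback.snd (Magnet.AMonS S N).hom str) (Magnet.AMonS S N ◁ ι).left _ sq f.left
    (by rw [← Over.comp_left, htop', Over.comp_left])
    (by rw [← Over.comp_left, hbot', Over.comp_left])

end Groth.Agent.S18232
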