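import Groth.Statements.S18234
import Groth.Agent.H91.Thick

set_option autoImplicit false
universe u
open CategoryTheory MonoidalCategory CartesianMonoidalCategory AlgebraicGeometry Opposite
open Magnet

namespace Groth.Agent.S18234

/-- Let S be a scheme, M a finitely generated abelian group, N a submonoid of M, X and Y schemes over S
with actions of the diagonalizable group scheme D(M)_S, and f : X → Y a formally unramified
equivariant S-morphism. If the attractors X^N and Y^N are represented by S-schemes Z_X and Z_Y, and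
j : Z_X → Z_Y is the S-morphism that corresponds to f^N under the two representing bijections, then
j is formally unramified. (Stated for schemes; the published statement is for algebraic spaces over
S.) -/
theorem result (S : Scheme.{u}) (M : Type) [AddCommGroup M]
    [AddGroup.FG M] (N : AddSubmonoid M) {X Y : Over S} (aX : Magnet.MonAct (Magnet.AMonS S M) X)
    (aY : Magnet.MonAct (Magnet.AMonS S M) Y) (f : X ⟶ Y) (hf : Magnet.MonAct.IsEquivariant aX aY f)
    [FormallyUnramified f.left] {ZX ZY : Over S} (eX : (Magnet.attr aX N).RepresentableBy ZX) (eY : (Magnet.attr aY N).RepresentableBy ZY)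
    (j : ZX ⟶ ZY) (hj : ∀ (T : Over S) (z : T ⟶ ZX),
      eY.homEquiv (z ≫ j) = (Magnet.MonAct.eqvHom.postcomp (Magnet.subAct S M N) f hf).app (op T) (eX.homEquiv z)) :
    FormallyUnramified j.left := by
  refine FormallyUnramified.of_hom_ext j.left ?_
  intro R R' φ hφ hker g₁ g₂ hig hgf
  -- structure map
  have hstr : g₂ ≫ ZX.hom = g₁ ≫ ZX.hom := by
    have h1 : g₁ ≫ ZX.hom = (g₁ ≫ j.left) ≫ ZY.hom := by
      rw [Category.assoc, Over.w j]
    have h2 : g₂ ≫ ZX.hom = (g₂ ≫ j.left) ≫ ZY.hom := by
      rw [Category.assoc, Over.w j]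
    rw [h1, h2, hgf]
  let str : Spec R ⟶ S := g₁ ≫ ZX.hom
  let T : Over S := Over.mk str
  let z₁ : T ⟶ ZX := Over.homMk g₁ rfl
  let z₂ : T ⟶ ZX := Over.homMk g₂ hstr
  suffices hz : z₁ = z₂ from congrArg (fun z => z.left) hz
  let T₀ : Over S := Over.mk (Spec.map φ ≫ str)
  let ι : T₀ ⟶ T := Over.homMk (Spec.map φ) rfl
  have hιz : ι ≫ z₁ = ι ≫ z₂ := by
    apply Over.OverMorphism.ext
    exact hig
  have hzj : z₁ ≫ j = z₂ ≫ j := by
    apply Over.OverMorphism.ext
    exact hgf
  apply eX.homEquiv.injective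
  set l₁ := eX.homEquiv z₁ with hl₁
  set l₂ := eX.homEquiv z₂ with hl₂
  have htop : (Magnet.attr aX N).map ι.op l₁ = (Magnet.attr aX N).map ι.op l₂ := by
    rw [hl₁, hl₂, ← eX.homEquiv_comp, ← eX.homEquiv_comp, hιz]
  have hbot : (Magnet.MonAct.eqvHom.postcomp (Magnet.subAct S M N) f hf).app _ l₁ =
      (Magnet.MonAct.eqvHom.postcomp (Magnet.subAct S M N) f hf).app _ l₂ := by
    rw [hl₁, hl₂, ← hj, ← hj, hzj]
  apply Subtype.ext
  apply Over.OverMorphism.ext
  have haff0 : IsAffineHom (Magnet.AMon (ULift.{u} ℤ) N).hom := by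
    change IsAffineHom (Spec.map (CommRingCat.ofHom (algebraMap (ULift.{u} ℤ)
      (MonoidAlgebra (ULift.{u} ℤ) (Multiplicative N)))))
    infer_instance
  have haff1 : IsAffineHom (Magnet.AMonS S N).hom := by
    change IsAffineHom (Limits.pullback.snd (Magnet.AMon (ULift.{u} ℤ) N).hom
      (Limits.IsTerminal.from specULiftZIsTerminal S))
    exact MorphismProperty.pullback_snd (P := @IsAffineHom) _ _ haff0
  have haff2 : IsAffineHom (Limits.pullback.snd (Magnet.AMonS S N).hom str) :=
    MorphismProperty.pullback_snd (P := @IsAffineHom) _ _ haff1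
  have hP : IsAffine (Limits.pullback (Magnet.AMonS S N).hom str) :=
    isAffine_of_isAffineHom (Limits.pullback.snd (Magnet.AMonS S N).hom str)
  have h1 : (Magnet.AMonS S N ◁ ι).left ≫ Limits.pullback.fst (Magnet.AMonS S N).hom str =
      Limits.pullback.fst (Magnet.AMonS S N).hom (Spec.map φ ≫ str) :=
    Over.whiskerLeft_left_fst ι
  have h2 : (Magnet.AMonS S N ◁ ι).left ≫ Limits.pullback.snd (Magnet.AMonS S N).hom str =
      Limits.pullback.snd (Magnet.AMonS S N).hom (Spec.map φ ≫ str) ≫ Spec.map φ :=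
    Over.whiskerLeft_left_snd ι
  have sq : IsPullback (Magnet.AMonS S N ◁ ι).left
      (Limits.pullback.snd (Magnet.AMonS S N).hom (Spec.map φ ≫ str))
      (Limits.pullback.snd (Magnet.AMonS S N).hom str)
      (Spec.map φ) := by
    refine IsPullback.of_right ?_ h2 (IsPullback.of_hasPullback (Magnet.AMonS S N).hom str)
    rw [h1]
    exact IsPullback.of_hasPullback _ _
  have htop' : (Magnet.AMonS S N ◁ ι) ≫ l₁.1 = (Magnet.AMonS S N ◁ ι) ≫ l₂.1 :=
    congrArg Subtype.val htop
  have hbot' : l₁.1 ≫ f = l₂.1 ≫ f := congrArg Subtype.val hbot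
  exact Groth.Agent.H91.hom_ext_of_formallyUnramified_of_isPullback' φ hφ hker
    (Limits.pullback.snd (Magnet.AMonS S N).hom str) (Magnet.AMonS S N ◁ ι).left _ sq f.left
    (by rw [← Over.comp_left, htop', Over.comp_left])
    (by rw [← Over.comp_left, hbot', Over.comp_left])

end Groth.Agent.S18234
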