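import Groth.Statements.S18247
import Mathlib

set_option autoImplicit false
universe u
open W4c5m1nsnscurves
open Curves

namespace Groth.Agent.S18247

open MvPolynomial

/-- The linear form replacing `c_{54}`. -/
noncomputable def L : MvPolynomial (Fin 6) ℤ := X 0 + X 1 + X 2 + X 3 + X 4 - X 5

/-- Values of the generators in the polynomial ring. -/
noncomputable def w : UGen 2 → MvPolynomial (Fin 6) ℤ
  | .a => X 0
  | .c => L * X 3 + X 5 * X 1 - X 1 * X 3
  | .cb => L * X 2 + X 5 * X 4 - X 2 * X 4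
  | .ci i => if i = 0 then X 1 else X 3
  | .cbi i => if i = 0 then X 2 else X 4
  | .cij i _ _ => if i = 0 then X 5 else L

lemma w_rel : ∀ p ∈ URel ℤ 2, (aeval w : MvPolynomial (UGen 2) ℤ →ₐ[ℤ] _) p = 0 := by
  intro p hp
  simp only [URel, Set.mem_union, Set.mem_range] at hp
  rcases hp with ((⟨⟨⟨i, j⟩, h⟩, rfl⟩ | ⟨⟨⟨i, j⟩, h⟩, rfl⟩) | ⟨⟨⟨i, j⟩, h⟩, rfl⟩) | ⟨⟨⟨i, j, k⟩, h⟩, rfl⟩
  · fin_cases i <;> fin_cases j <;> simp at h <;> simp [w, L] <;> ring
  · fin_cases i <;> fin_cases j <;> simp at h <;> simp [w, L] <;> ring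
  · fin_cases i <;> fin_cases j <;> simp at h <;> simp [w, L] <;> ring
  · exfalso
    fin_cases i <;> fin_cases j <;> fin_cases k <;> simp at h

/-- The inverse map. -/
noncomputable def ψ : URing ℤ 2 →+* MvPolynomial (Fin 6) ℤ :=
  Ideal.Quotient.lift _ (aeval w : MvPolynomial (UGen 2) ℤ →ₐ[ℤ] _).toRingHom (by
    intro p hp
    have : Ideal.span (URel ℤ 2) ≤ RingHom.ker (aeval w : MvPolynomial (UGen 2) ℤ →ₐ[ℤ] _).toRingHom := by
      rw [Ideal.span_le]
      intro q hq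
      exact w_rel q hq
    exact this hp)

lemma ψ_ugen (g : UGen 2) : ψ (ugen ℤ 2 g) = w g := by
  simp [ψ, ugen]

/-- The forward map. -/
noncomputable def φ : MvPolynomial (Fin 6) ℤ →ₐ[ℤ] URing ℤ 2 :=
  aeval ![ugen ℤ 2 .a, ugen ℤ 2 (.ci 0), ugen ℤ 2 (.cbi 0), ugen ℤ 2 (.ci 1), ugen ℤ 2 (.cbi 1),
        ugen ℤ 2 (.cij 0 1 Fin.zero_ne_one)]

lemma mk_rel_zero {p : MvPolynomial (UGen 2) ℤ} (hp : p ∈ URel ℤ 2) :
    Ideal.Quotient.mk (Ideal.span (URel ℤ 2)) p = 0 :=
  Ideal.Quotient.eq_zero_iff_mem.mpr (Ideal.subset_span hp)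

lemma rel_lin : ugen ℤ 2 (.cij 0 1 Fin.zero_ne_one) + ugen ℤ 2 (.cij 1 0 Fin.zero_ne_one.symm) =
    ugen ℤ 2 .a + ugen ℤ 2 (.ci 0) + ugen ℤ 2 (.cbi 0) + ugen ℤ 2 (.ci 1) + ugen ℤ 2 (.cbi 1) := by
  have := mk_rel_zero (p := X (.cij 0 1 Fin.zero_ne_one) + X (.cij 1 0 Fin.zero_ne_one.symm) -
      (X .a + X (.ci 0) + X (.cbi 0) + X (.ci 1) + X (.cbi 1))) (by
    simp only [URel, Set.mem_union, Set.mem_range]
    exact Or.inl (Or.inl (Or.inl ⟨⟨(0, 1), Fin.zero_ne_one⟩, rfl⟩)))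
  simp only [map_sub, map_add] at this
  exact sub_eq_zero.mp this

lemma rel_c : ugen ℤ 2 (.cij 1 0 Fin.zero_ne_one.symm) * ugen ℤ 2 (.ci 1) +
    ugen ℤ 2 (.cij 0 1 Fin.zero_ne_one) * ugen ℤ 2 (.ci 0) -
      ugen ℤ 2 (.ci 0) * ugen ℤ 2 (.ci 1) = ugen ℤ 2 .c := by
  have := mk_rel_zero (p := X (.cij 1 0 Fin.zero_ne_one.symm) * X (.ci 1) +
      X (.cij 0 1 Fin.zero_ne_one) * X (.ci 0) - X (.ci 0) * X (.ci 1) - X .c) (by
    simp only [URel, Set.mem_union, Set.mem_range]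
    exact Or.inl (Or.inl (Or.inr ⟨⟨(0, 1), Fin.zero_ne_one⟩, rfl⟩)))
  simp only [map_sub, map_add, map_mul] at this
  exact sub_eq_zero.mp this

lemma rel_cb : ugen ℤ 2 (.cij 1 0 Fin.zero_ne_one.symm) * ugen ℤ 2 (.cbi 0) +
    ugen ℤ 2 (.cij 0 1 Fin.zero_ne_one) * ugen ℤ 2 (.cbi 1) -
      ugen ℤ 2 (.cbi 0) * ugen ℤ 2 (.cbi 1) = ugen ℤ 2 .cb := by
  have := mk_rel_zero (p := X (.cij 1 0 Fin.zero_ne_one.symm) * X (.cbi 0) +
      X (.cij 0 1 Fin.zero_ne_one) * X (.cbi 1) - X (.cbi 0) * X (.cbi 1) - X .cb) (by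
    simp only [URel, Set.mem_union, Set.mem_range]
    exact Or.inl (Or.inr ⟨⟨(0, 1), Fin.zero_ne_one⟩, rfl⟩))
  simp only [map_sub, map_add, map_mul] at this
  exact sub_eq_zero.mp this

lemma φ_L : φ L = ugen ℤ 2 (.cij 1 0 Fin.zero_ne_one.symm) := by
  have h := rel_lin
  simp only [φ, L, map_sub, map_add, aeval_X]
  simp
  linear_combination -h

lemma φ_w (g : UGen 2) : φ (w g) = ugen ℤ 2 g := by
  cases g with
  | a => simp [w, φ]
  | c =>
    simp only [w, map_sub, map_add, map_mul, φ_L]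
    simp [φ]
    exact rel_c
  | cb =>
    simp only [w, map_sub, map_add, map_mul, φ_L]
    simp [φ]
    exact rel_cb
  | ci i => fin_cases i <;> simp [w, φ]
  | cbi i => fin_cases i <;> simp [w, φ]
  | cij i j h =>
    fin_cases i <;> fin_cases j <;> simp at h
    · simp [w, φ]
    · simp only [w]
      simp
      exact φ_L

/-- Case n = 5: the coordinate ring of U_5 over ℤ (m = 2 indices, standing for the points 4 and 5;
generators a, c, c̄, c_4, c̄_4, c_5, c̄_5, c_{45}, c_{54} with the linear and the two quadratic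
relations for the one pair of indices, and no triple) is the polynomial ring on a, c_4, c̄_4, c_5,
c̄_5, c_{45}: the ℤ-algebra map from the polynomial ring in six variables sending the variables to
these six classes, in this order, is bijective. -/
theorem result :
    Function.Bijective (MvPolynomial.aeval (R := ℤ) (S₁ := URing ℤ 2)
      ![ugen ℤ 2 .a, ugen ℤ 2 (.ci 0), ugen ℤ 2 (.cbi 0), ugen ℤ 2 (.ci 1), ugen ℤ 2 (.cbi 1),
        ugen ℤ 2 (.cij 0 1 Fin.zero_ne_one)]) := by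
  change Function.Bijective φ
  have hleft : ∀ p, ψ (φ p) = p := by
    intro p
    have : (ψ.comp φ.toRingHom) = RingHom.id _ := by
      apply MvPolynomial.ringHom_ext
      · intro r
        simp
      · intro i
        simp only [RingHom.coe_comp, Function.comp_apply, AlgHom.toRingHom_eq_coe, RingHom.coe_coe,
          RingHom.id_apply]
        fin_cases i <;> simp [φ, ψ_ugen, w]
    exact congrArg (fun f => f p) this
  have hright : ∀ z, φ (ψ z) = z := by
    intro z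
    obtain ⟨p, rfl⟩ := Ideal.Quotient.mk_surjective z
    induction p using MvPolynomial.induction_on with
    | C r => simp [ψ]
    | add p q hp hq => rw [map_add, map_add, map_add, hp, hq]
    | mul_X p g hp =>
      rw [map_mul, map_mul, map_mul, hp]
      congr 1
      exact (congrArg φ (ψ_ugen g)).trans (φ_w g)
  exact ⟨Function.LeftInverse.injective hleft, Function.RightInverse.surjective hright⟩

end Groth.Agent.S18247
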