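import Groth.Statements.S18248
import Mathlib
import Groth.Agent.H91.URingRel

set_option autoImplicit false
universe u
open W4c5m1nsnscurves
open Curves

namespace Groth.Agent.S18248

open MvPolynomial Groth.Agent.H91.URingRel

/-- index type of the weight-one generators -/
abbrev G1 (m : ℕ) : Type := Unit ⊕ (Fin m ⊕ (Fin m ⊕ {q : Fin m × Fin m // q.1 < q.2}))

/-- the weight-one generators -/
def gen1 (m : ℕ) : G1 m → UGen m
  | Sum.inl _ => .a
  | Sum.inr (Sum.inl i) => .ci i
  | Sum.inr (Sum.inr (Sum.inl i)) => .cbi i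
  | Sum.inr (Sum.inr (Sum.inr q)) => .cij q.1.1 q.1.2 (ne_of_lt q.2)

lemma card_G1 (m : ℕ) : Fintype.card (G1 m) = (m + 2) * (m + 1) / 2 := by
  have h1 : Fintype.card {q : Fin m × Fin m // q.1 < q.2} = m.choose 2 := by
    rw [Fintype.card_subtype]
    have := Fintype.card_product_filter_lt (α := Fin m)
    rw [Fintype.card_fin] at this
    exact this
  simp only [G1, Fintype.card_sum, Fintype.card_unit, Fintype.card_fin, h1]
  have h2 : (m + 2).choose 2 = (m + 2) * (m + 1) / 2 := by
    rw [Nat.choose_two_right]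
    rfl
  rw [← h2]
  have h3 : (m + 2).choose 2 = (m + 1).choose 1 + (m + 1).choose 2 := Nat.choose_succ_succ (m + 1) 1
  have h4 : (m + 1).choose 2 = m.choose 1 + m.choose 2 := Nat.choose_succ_succ m 1
  rw [h3, h4, Nat.choose_one_right, Nat.choose_one_right]
  ring

section cot
variable (k : Type u) [Field k] (m : ℕ)

/-- standard basis vector -/
noncomputable def ee (g : G1 m) : G1 m → k := Pi.single g 1

/-- values of generators in the trivial square-zero extension -/
noncomputable def val : UGen m → TrivSqZeroExt k (G1 m → k)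
  | .a => TrivSqZeroExt.inr (ee k m (Sum.inl ()))
  | .c => 0
  | .cb => 0
  | .ci i => TrivSqZeroExt.inr (ee k m (Sum.inr (Sum.inl i)))
  | .cbi i => TrivSqZeroExt.inr (ee k m (Sum.inr (Sum.inr (Sum.inl i))))
  | .cij i j _ =>
    if h : i < j then TrivSqZeroExt.inr (ee k m (Sum.inr (Sum.inr (Sum.inr ⟨(i, j), h⟩))))
    else if h' : j < i then
      TrivSqZeroExt.inr (ee k m (Sum.inl ()) + ee k m (Sum.inr (Sum.inl i)) +
        ee k m (Sum.inr (Sum.inr (Sum.inl i))) + ee k m (Sum.inr (Sum.inl j)) +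
        ee k m (Sum.inr (Sum.inr (Sum.inl j))) - ee k m (Sum.inr (Sum.inr (Sum.inr ⟨(j, i), h'⟩))))
    else 0

lemma val_fst (g : UGen m) : (val k m g).fst = 0 := by
  cases g with
  | a => simp [val]
  | c => simp [val]
  | cb => simp [val]
  | ci i => simp [val]
  | cbi i => simp [val]
  | cij i j h =>
    simp only [val]
    split_ifs <;> simp

lemma mul_eq_zero_of_fst {x y : TrivSqZeroExt k (G1 m → k)} (hx : x.fst = 0) (hy : y.fst = 0) :
    x * y = 0 := by
  apply TrivSqZeroExt.ext
  · simp [hx]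
  · simp [hx, hy]

lemma val_mul (g h : UGen m) : val k m g * val k m h = 0 :=
  mul_eq_zero_of_fst k m (val_fst k m g) (val_fst k m h)

lemma val_rel : ∀ p ∈ URel k m,
    (aeval (val k m) : MvPolynomial (UGen m) k →ₐ[k] TrivSqZeroExt k (G1 m → k)) p = 0 := by
  intro p hp
  simp only [URel, Set.mem_union, Set.mem_range] at hp
  rcases hp with ((⟨⟨⟨i, j⟩, h⟩, rfl⟩ | ⟨⟨⟨i, j⟩, h⟩, rfl⟩) | ⟨⟨⟨i, j⟩, h⟩, rfl⟩) |
    ⟨⟨⟨i, j, l⟩, hij, hjl, hil⟩, rfl⟩
  · simp only [map_sub, map_add, aeval_X]
    simp only at h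
    rcases lt_or_gt_of_ne h with hlt | hgt
    · have hn : ¬ j < i := not_lt.mpr hlt.le
      simp only [val, dif_pos hlt, dif_neg hn]
      simp only [← TrivSqZeroExt.inr_add, ← TrivSqZeroExt.inr_sub]
      rw [← TrivSqZeroExt.inr_zero]
      congr 1
      abel
    · have hn : ¬ i < j := not_lt.mpr hgt.le
      simp only [val, dif_pos hgt, dif_neg hn]
      simp only [← TrivSqZeroExt.inr_add, ← TrivSqZeroExt.inr_sub]
      rw [← TrivSqZeroExt.inr_zero]
      congr 1
      abel
  · simp only [map_sub, map_add, map_mul, aeval_X, val_mul]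
    simp [val]
  · simp only [map_sub, map_add, map_mul, aeval_X, val_mul]
    simp [val]
  · simp only [map_sub, map_add, map_mul, aeval_X, val_mul, add_mul]
    simp [val]

/-- the ring map to the square-zero extension -/
noncomputable def phi : URing k m →+* TrivSqZeroExt k (G1 m → k) :=
  Ideal.Quotient.lift _ (aeval (val k m) : MvPolynomial (UGen m) k →ₐ[k] _).toRingHom (by
    intro p hp
    have : Ideal.span (URel k m) ≤
        RingHom.ker (aeval (val k m) : MvPolynomial (UGen m) k →ₐ[k] _).toRingHom := by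
      rw [Ideal.span_le]
      intro q hq
      exact val_rel k m q hq
    exact this hp)

lemma phi_ugen (g : UGen m) : phi k m (ugen k m g) = val k m g := by
  simp [phi, ugen]

lemma phi_algebraMap (r : k) : phi k m (algebraMap k (URing k m) r) = algebraMap k _ r := by
  have : algebraMap k (URing k m) r = Ideal.Quotient.mk _ (C r) := rfl
  rw [this]
  simp [phi]

lemma phi_fst_of_mem {z : URing k m} (hz : z ∈ uorigin k m) : (phi k m z).fst = 0 := by
  unfold uorigin at hz
  induction hz using Submodule.span_induction with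
  | mem z hz =>
    obtain ⟨g, rfl⟩ := hz
    rw [phi_ugen, val_fst]
  | zero => simp
  | add x y _ _ hx hy => rw [map_add, TrivSqZeroExt.fst_add, hx, hy, add_zero]
  | smul r x _ hx => rw [smul_eq_mul, map_mul, TrivSqZeroExt.fst_mul, hx, mul_zero]

lemma phi_sq {z : URing k m} (hz : z ∈ uorigin k m ^ 2) : phi k m z = 0 := by
  rw [pow_two] at hz
  refine Submodule.mul_induction_on hz (fun a ha b hb => ?_) (fun x y hx hy => ?_)
  · rw [map_mul]
    exact mul_eq_zero_of_fst k m (phi_fst_of_mem k m ha) (phi_fst_of_mem k m hb)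
  · rw [map_add, hx, hy, add_zero]

lemma ugen_mem (g : UGen m) : ugen k m g ∈ uorigin k m := Ideal.subset_span ⟨g, rfl⟩

/-- the cotangent classes of the weight-one generators -/
noncomputable def bb (g : G1 m) : (uorigin k m).Cotangent :=
  (uorigin k m).toCotangent ⟨ugen k m (gen1 m g), ugen_mem k m _⟩

lemma val_gen1 (g : G1 m) : val k m (gen1 m g) = TrivSqZeroExt.inr (ee k m g) := by
  rcases g with _ | i | i | ⟨⟨i, j⟩, h⟩
  · rfl
  · rfl
  · rfl
  · simp only [gen1, val]
    rw [dif_pos h]

lemma exists_const (z : URing k m) : ∃ l : k, z - algebraMap k (URing k m) l ∈ uorigin k m := by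
  obtain ⟨p, rfl⟩ := Ideal.Quotient.mk_surjective z
  induction p using MvPolynomial.induction_on with
  | C r =>
    refine ⟨r, ?_⟩
    have : (Ideal.Quotient.mk (Ideal.span (URel k m))) (C r) = algebraMap k (URing k m) r := rfl
    rw [this, sub_self]
    exact Ideal.zero_mem _
  | add p q hp hq =>
    obtain ⟨l1, h1⟩ := hp
    obtain ⟨l2, h2⟩ := hq
    refine ⟨l1 + l2, ?_⟩
    rw [map_add, map_add]
    have : ∀ a b c d : URing k m, a + b - (c + d) = (a - c) + (b - d) := by intros; ring
    rw [this]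
    exact Ideal.add_mem _ h1 h2
  | mul_X p g _ =>
    refine ⟨0, ?_⟩
    rw [map_zero, sub_zero, map_mul]
    exact Ideal.mul_mem_left _ _ (ugen_mem k m g)

lemma bb_linearIndependent : LinearIndependent k (bb k m) := by
  classical
  rw [Fintype.linearIndependent_iff]
  intro l hl g0
  obtain ⟨X, hX⟩ : ∃ X : uorigin k m, X = ∑ g, (algebraMap k (URing k m) (l g)) •
      (⟨ugen k m (gen1 m g), ugen_mem k m _⟩ : uorigin k m) := ⟨_, rfl⟩
  have h1 : (uorigin k m).toCotangent X = 0 := by
    rw [hX, map_sum, ← hl]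
    refine Finset.sum_congr rfl fun g _ => ?_
    rw [map_smul]
    exact algebraMap_smul (URing k m) (l g) (bb k m g)
  rw [Ideal.toCotangent_eq_zero] at h1
  have h2 := phi_sq k m h1
  have h3 : (X : URing k m) = ∑ g, algebraMap k (URing k m) (l g) * ugen k m (gen1 m g) := by
    rw [hX, Submodule.coe_sum]
    refine Finset.sum_congr rfl fun g _ => ?_
    rfl
  rw [h3, map_sum] at h2
  have h4 : ∀ g, phi k m (algebraMap k (URing k m) (l g) * ugen k m (gen1 m g)) =
      TrivSqZeroExt.inr (l g • ee k m g) := by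
    intro g
    rw [map_mul, phi_algebraMap, phi_ugen, val_gen1, ← Algebra.smul_def, TrivSqZeroExt.inr_smul]
  simp only [h4] at h2
  have h5 := congrArg TrivSqZeroExt.snd h2
  rw [TrivSqZeroExt.snd_sum] at h5
  simp only [TrivSqZeroExt.snd_inr, TrivSqZeroExt.snd_zero] at h5
  have h6 := congrFun h5 g0
  simp only [Finset.sum_apply, Pi.smul_apply, ee, Pi.single_apply, smul_eq_mul, mul_ite, mul_one,
    mul_zero, Pi.zero_apply] at h6
  rw [Finset.sum_ite_eq] at h6
  simpa using h6

lemma toCot_mem (hm : 2 ≤ m) (z : URing k m) (hz : z ∈ uorigin k m) :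
    (uorigin k m).toCotangent ⟨z, hz⟩ ∈ Submodule.span k (Set.range (bb k m)) := by
  have hbb : ∀ g, bb k m g ∈ Submodule.span k (Set.range (bb k m)) :=
    fun g => Submodule.subset_span ⟨g, rfl⟩
  have hgen : ∀ g : UGen m, (uorigin k m).toCotangent ⟨ugen k m g, ugen_mem k m g⟩ ∈
      Submodule.span k (Set.range (bb k m)) := by
    have h01 : (⟨0, by omega⟩ : Fin m) ≠ ⟨1, by omega⟩ := by
      intro h
      have := congrArg Fin.val h
      simp at this
    intro g
    cases g with
    | a => exact hbb (Sum.inl ())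
    | ci i => exact hbb (Sum.inr (Sum.inl i))
    | cbi i => exact hbb (Sum.inr (Sum.inr (Sum.inl i)))
    | c =>
      have : (uorigin k m).toCotangent ⟨ugen k m .c, ugen_mem k m _⟩ = 0 := by
        rw [Ideal.toCotangent_eq_zero, pow_two]
        simp only
        rw [← urel_c k m _ _ h01]
        exact Ideal.sub_mem _ (Ideal.add_mem _
          (Ideal.mul_mem_mul (ugen_mem k m _) (ugen_mem k m _))
          (Ideal.mul_mem_mul (ugen_mem k m _) (ugen_mem k m _)))
          (Ideal.mul_mem_mul (ugen_mem k m _) (ugen_mem k m _))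
      rw [this]
      exact zero_mem _
    | cb =>
      have : (uorigin k m).toCotangent ⟨ugen k m .cb, ugen_mem k m _⟩ = 0 := by
        rw [Ideal.toCotangent_eq_zero, pow_two]
        simp only
        rw [← urel_cb k m _ _ h01]
        exact Ideal.sub_mem _ (Ideal.add_mem _
          (Ideal.mul_mem_mul (ugen_mem k m _) (ugen_mem k m _))
          (Ideal.mul_mem_mul (ugen_mem k m _) (ugen_mem k m _)))
          (Ideal.mul_mem_mul (ugen_mem k m _) (ugen_mem k m _))
      rw [this]
      exact zero_mem _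
    | cij i j h =>
      rcases lt_or_gt_of_ne h with hlt | hgt
      · exact hbb (Sum.inr (Sum.inr (Sum.inr ⟨(i, j), hlt⟩)))
      · have e : (⟨ugen k m (.cij i j h), ugen_mem k m _⟩ : uorigin k m) =
            ⟨ugen k m .a, ugen_mem k m _⟩ + ⟨ugen k m (.ci i), ugen_mem k m _⟩ +
            ⟨ugen k m (.cbi i), ugen_mem k m _⟩ + ⟨ugen k m (.ci j), ugen_mem k m _⟩ +
            ⟨ugen k m (.cbi j), ugen_mem k m _⟩ -
            ⟨ugen k m (.cij j i h.symm), ugen_mem k m _⟩ := by
          apply Subtype.ext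
          simp only [Submodule.coe_add, Submodule.coe_sub]
          rw [← urel_lin k m i j h]
          ring
        rw [e, map_sub, map_add, map_add, map_add, map_add]
        refine Submodule.sub_mem _ (Submodule.add_mem _ (Submodule.add_mem _ (Submodule.add_mem _
          (Submodule.add_mem _ (hbb (Sum.inl ())) (hbb (Sum.inr (Sum.inl i))))
          (hbb (Sum.inr (Sum.inr (Sum.inl i))))) (hbb (Sum.inr (Sum.inl j))))
          (hbb (Sum.inr (Sum.inr (Sum.inl j))))) (hbb (Sum.inr (Sum.inr (Sum.inr ⟨(j, i), hgt⟩))))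
  let P : Ideal (URing k m) :=
    { carrier := {z | ∃ hz : z ∈ uorigin k m,
        (uorigin k m).toCotangent ⟨z, hz⟩ ∈ Submodule.span k (Set.range (bb k m))}
      zero_mem' := by
        refine ⟨Ideal.zero_mem _, ?_⟩
        have : (⟨0, Ideal.zero_mem _⟩ : uorigin k m) = 0 := rfl
        rw [this, map_zero]
        exact zero_mem _
      add_mem' := by
        rintro x y ⟨hx, ihx⟩ ⟨hy, ihy⟩
        refine ⟨Ideal.add_mem _ hx hy, ?_⟩
        have : (⟨x + y, Ideal.add_mem _ hx hy⟩ : uorigin k m) = ⟨x, hx⟩ + ⟨y, hy⟩ := rfl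
        rw [this, map_add]
        exact Submodule.add_mem _ ihx ihy
      smul_mem' := by
        rintro r x ⟨hx, ihx⟩
        refine ⟨Ideal.mul_mem_left _ _ hx, ?_⟩
        have : (⟨r • x, Ideal.mul_mem_left _ _ hx⟩ : uorigin k m) = r • ⟨x, hx⟩ := rfl
        rw [this, map_smul]
        obtain ⟨l, hl⟩ := exists_const k m r
        have hr : r • (uorigin k m).toCotangent ⟨x, hx⟩ =
            l • (uorigin k m).toCotangent ⟨x, hx⟩ := by
          obtain ⟨v, hv⟩ : ∃ v : (uorigin k m).Cotangent,
              v = (uorigin k m).toCotangent ⟨x, hx⟩ := ⟨_, rfl⟩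
          rw [← hv]
          have e : r • v = (algebraMap k (URing k m) l) • v +
              (r - algebraMap k (URing k m) l) • v := by
            have h := add_smul (algebraMap k (URing k m) l) (r - algebraMap k (URing k m) l) v
            rw [add_sub_cancel] at h
            exact h
          rw [e, Ideal.Cotangent.smul_eq_zero_of_mem hl, add_zero]
          exact algebraMap_smul (URing k m) l v
        rw [hr]
        exact Submodule.smul_mem _ _ ihx }
  have hle : uorigin k m ≤ P := by
    show Ideal.span (Set.range (ugen k m)) ≤ P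
    rw [Ideal.span_le]
    rintro _ ⟨g, rfl⟩
    exact ⟨ugen_mem k m g, hgen g⟩
  obtain ⟨_, h⟩ := hle hz
  exact h

lemma finrank_cot (hm : 2 ≤ m) :
    Module.finrank k (uorigin k m).Cotangent = (m + 2) * (m + 1) / 2 := by
  have hspan : ⊤ ≤ Submodule.span k (Set.range (bb k m)) := by
    intro y _
    obtain ⟨x, rfl⟩ := Ideal.toCotangent_surjective _ y
    exact toCot_mem k m hm x.1 x.2
  have := Module.finrank_eq_card_basis (Module.Basis.mk (bb_linearIndependent k m) hspan)
  rw [this, card_G1]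

end cot

/-- Let m ≥ 2, so that n = m + 3 ≥ 5 points are marked. For every field k, the Zariski cotangent space
of U_n over k at the origin, that is I/I² for the ideal I of the coordinate ring of U_n over k
generated by the classes of all the generators a, c, c̄, c_i, c̄_i, c_{ij}, has dimension (n − 1)(n
− 2)/2 = (m + 2)(m + 1)/2 over k; and the weight-one classes a, c_i, c̄_i (all indices i) and c_{ij}
(i < j) generate the coordinate ring of U_n over ℤ as a ℤ-algebra (so they form a minimal generating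
set). -/
theorem result (m : ℕ) (hm : 2 ≤ m) :
    (∀ (k : Type u) [Field k], Module.finrank k (uorigin k m).Cotangent = (m + 2) * (m + 1) / 2) ∧
    Algebra.adjoin ℤ ({ugen ℤ m .a} ∪ Set.range (fun i : Fin m => ugen ℤ m (.ci i)) ∪
        Set.range (fun i : Fin m => ugen ℤ m (.cbi i)) ∪
        Set.range (fun q : {q : Fin m × Fin m // q.1 < q.2} => ugen ℤ m (.cij q.1.1 q.1.2 (ne_of_lt q.2)))) = ⊤ := by
  refine ⟨fun k _ => finrank_cot k m hm, ?_⟩
  rw [eq_top_iff]
  intro z _
  have hS : ∀ g : UGen m, ugen ℤ m g ∈ Algebra.adjoin ℤ ({ugen ℤ m .a} ∪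
      Set.range (fun i : Fin m => ugen ℤ m (.ci i)) ∪
      Set.range (fun i : Fin m => ugen ℤ m (.cbi i)) ∪
      Set.range (fun q : {q : Fin m × Fin m // q.1 < q.2} =>
        ugen ℤ m (.cij q.1.1 q.1.2 (ne_of_lt q.2)))) := by
    have ha : ugen ℤ m .a ∈ Algebra.adjoin ℤ ({ugen ℤ m .a} ∪
        Set.range (fun i : Fin m => ugen ℤ m (.ci i)) ∪
        Set.range (fun i : Fin m => ugen ℤ m (.cbi i)) ∪
        Set.range (fun q : {q : Fin m × Fin m // q.1 < q.2} =>
          ugen ℤ m (.cij q.1.1 q.1.2 (ne_of_lt q.2)))) :=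
      Algebra.subset_adjoin (Or.inl (Or.inl (Or.inl rfl)))
    have hci : ∀ i, ugen ℤ m (.ci i) ∈ Algebra.adjoin ℤ ({ugen ℤ m .a} ∪
        Set.range (fun i : Fin m => ugen ℤ m (.ci i)) ∪
        Set.range (fun i : Fin m => ugen ℤ m (.cbi i)) ∪
        Set.range (fun q : {q : Fin m × Fin m // q.1 < q.2} =>
          ugen ℤ m (.cij q.1.1 q.1.2 (ne_of_lt q.2)))) :=
      fun i => Algebra.subset_adjoin (Or.inl (Or.inl (Or.inr ⟨i, rfl⟩)))
    have hcbi : ∀ i, ugen ℤ m (.cbi i) ∈ Algebra.adjoin ℤ ({ugen ℤ m .a} ∪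
        Set.range (fun i : Fin m => ugen ℤ m (.ci i)) ∪
        Set.range (fun i : Fin m => ugen ℤ m (.cbi i)) ∪
        Set.range (fun q : {q : Fin m × Fin m // q.1 < q.2} =>
          ugen ℤ m (.cij q.1.1 q.1.2 (ne_of_lt q.2)))) :=
      fun i => Algebra.subset_adjoin (Or.inl (Or.inr ⟨i, rfl⟩))
    have hlt : ∀ i j (h : i < j), ugen ℤ m (.cij i j (ne_of_lt h)) ∈ Algebra.adjoin ℤ ({ugen ℤ m .a} ∪
        Set.range (fun i : Fin m => ugen ℤ m (.ci i)) ∪
        Set.range (fun i : Fin m => ugen ℤ m (.cbi i)) ∪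
        Set.range (fun q : {q : Fin m × Fin m // q.1 < q.2} =>
          ugen ℤ m (.cij q.1.1 q.1.2 (ne_of_lt q.2)))) :=
      fun i j h => Algebra.subset_adjoin (Or.inr ⟨⟨(i, j), h⟩, rfl⟩)
    have hij : ∀ i j (h : i ≠ j), ugen ℤ m (.cij i j h) ∈ Algebra.adjoin ℤ ({ugen ℤ m .a} ∪
        Set.range (fun i : Fin m => ugen ℤ m (.ci i)) ∪
        Set.range (fun i : Fin m => ugen ℤ m (.cbi i)) ∪
        Set.range (fun q : {q : Fin m × Fin m // q.1 < q.2} =>
          ugen ℤ m (.cij q.1.1 q.1.2 (ne_of_lt q.2)))) := by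
      intro i j h
      rcases lt_or_gt_of_ne h with h1 | h1
      · exact hlt i j h1
      · have e : ugen ℤ m (.cij i j h) = ugen ℤ m .a + ugen ℤ m (.ci i) + ugen ℤ m (.cbi i) +
            ugen ℤ m (.ci j) + ugen ℤ m (.cbi j) - ugen ℤ m (.cij j i h.symm) := by
          rw [← Groth.Agent.H91.URingRel.urel_lin ℤ m i j h]
          ring
        rw [e]
        exact Subalgebra.sub_mem _ (Subalgebra.add_mem _ (Subalgebra.add_mem _ (Subalgebra.add_mem _
          (Subalgebra.add_mem _ ha (hci i)) (hcbi i)) (hci j)) (hcbi j)) (hlt j i h1)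
    have h01 : (⟨0, by omega⟩ : Fin m) ≠ ⟨1, by omega⟩ := by
      intro h
      have := congrArg Fin.val h
      simp at this
    intro g
    cases g with
    | a => exact ha
    | ci i => exact hci i
    | cbi i => exact hcbi i
    | cij i j h => exact hij i j h
    | c =>
      rw [← Groth.Agent.H91.URingRel.urel_c ℤ m _ _ h01]
      exact Subalgebra.sub_mem _ (Subalgebra.add_mem _
        (Subalgebra.mul_mem _ (hij _ _ _) (hci _)) (Subalgebra.mul_mem _ (hij _ _ _) (hci _)))
        (Subalgebra.mul_mem _ (hci _) (hci _))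
    | cb =>
      rw [← Groth.Agent.H91.URingRel.urel_cb ℤ m _ _ h01]
      exact Subalgebra.sub_mem _ (Subalgebra.add_mem _
        (Subalgebra.mul_mem _ (hij _ _ _) (hcbi _)) (Subalgebra.mul_mem _ (hij _ _ _) (hcbi _)))
        (Subalgebra.mul_mem _ (hcbi _) (hcbi _))
  obtain ⟨p, rfl⟩ := Ideal.Quotient.mk_surjective z
  induction p using MvPolynomial.induction_on with
  | C r =>
    exact Subalgebra.algebraMap_mem _ r
  | add p q hp hq =>
    rw [map_add]
    exact Subalgebra.add_mem _ (hp trivial) (hq trivial)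
  | mul_X p g hp =>
    rw [map_mul]
    exact Subalgebra.mul_mem _ (hp trivial) (hS g)

end Groth.Agent.S18248
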