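import Groth.Statements.S18251
import Mathlib

set_option autoImplicit false
universe u
open W4c5m1nsnscurves
open Curves

namespace Groth.Agent.S18251

open MvPolynomial
open scoped MonomialOrder

noncomputable def ordYX : MonomialOrder (Fin 2) where
  syn := ℕ ×ₗ ℕ
  toSyn :=
    { toFun := fun c => toLex (c 1, c 0)
      invFun := fun p => Finsupp.single 1 (ofLex p).1 + Finsupp.single 0 (ofLex p).2
      left_inv := by
        intro c
        ext i
        fin_cases i <;> simp
      right_inv := by
        intro p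
        simp
      map_add' := by
        intro c d
        simp
        rfl }
  toSyn_monotone := by
    intro c d h
    simp only [AddEquiv.coe_mk, Equiv.coe_fn_mk]
    rw [Prod.Lex.le_iff]
    simp only [ofLex_toLex]
    rcases (h 1).lt_or_eq with h1 | h1
    · exact Or.inl h1
    · exact Or.inr ⟨h1, h 0⟩

lemma ordYX_lt_of {c d : Fin 2 →₀ ℕ} (h : c 1 < d 1) : c ≺[ordYX] d := by
  show toLex (c 1, c 0) < toLex (d 1, d 0)
  rw [Prod.Lex.lt_iff]
  exact Or.inl h

variable {R : Type*} [CommRing R] (a b c d : R)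

/-- the relation -/
noncomputable def gg : MvPolynomial (Fin 2) R :=
  X 0 * X 1 ^ 2 - X 0 ^ 2 * X 1 - (C a * X 0 * X 1 + C b * X 0 + C c * X 1 + C d)

noncomputable def d0 : Fin 2 →₀ ℕ := Finsupp.single 0 1 + Finsupp.single 1 2

lemma gg_eq : gg a b c d = monomial d0 1 - monomial (Finsupp.single 0 2 + Finsupp.single 1 1) 1 -
    (monomial (Finsupp.single 0 1 + Finsupp.single 1 1) a + monomial (Finsupp.single 0 1) b +
      monomial (Finsupp.single 1 1) c + monomial 0 d) := by
  simp only [gg, d0, X, C_apply, monomial_mul, monomial_pow, mul_one, one_pow, zero_add,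
    Finsupp.smul_single, smul_eq_mul]

lemma coeff_gg (e : Fin 2 →₀ ℕ) : coeff e (gg a b c d) =
    (if d0 = e then 1 else 0) - (if Finsupp.single 0 2 + Finsupp.single 1 1 = e then 1 else 0) -
    ((if Finsupp.single 0 1 + Finsupp.single 1 1 = e then a else 0) +
      (if Finsupp.single 0 1 = e then b else 0) +
      (if Finsupp.single 1 1 = e then c else 0) + (if 0 = e then d else 0)) := by
  rw [gg_eq]
  simp only [coeff_sub, coeff_add, coeff_monomial]

lemma coeff_d0_gg : coeff d0 (gg a b c d) = 1 := by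
  rw [coeff_gg]
  have h1 : ¬ (Finsupp.single 0 2 + Finsupp.single 1 1 : Fin 2 →₀ ℕ) = d0 := by
    intro h; have := DFunLike.congr_fun h 1; simp [d0] at this
  have h2 : ¬ (Finsupp.single 0 1 + Finsupp.single 1 1 : Fin 2 →₀ ℕ) = d0 := by
    intro h; have := DFunLike.congr_fun h 1; simp [d0] at this
  have h3 : ¬ (Finsupp.single 0 1 : Fin 2 →₀ ℕ) = d0 := by
    intro h; have := DFunLike.congr_fun h 1; simp [d0] at this
  have h4 : ¬ (Finsupp.single 1 1 : Fin 2 →₀ ℕ) = d0 := by
    intro h; have := DFunLike.congr_fun h 1; simp [d0] at this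
  have h5 : ¬ (0 : Fin 2 →₀ ℕ) = d0 := by
    intro h; have := DFunLike.congr_fun h 1; simp [d0] at this
  simp [h1, h2, h3, h4, h5]

lemma support_gg_le {e : Fin 2 →₀ ℕ} (he : e ∈ (gg a b c d).support) : e ≼[ordYX] d0 := by
  rw [mem_support_iff, coeff_gg] at he
  by_cases h0 : d0 = e
  · rw [h0]
  · apply le_of_lt
    apply ordYX_lt_of
    by_contra hlt
    apply he
    have h1 : ¬ (Finsupp.single 0 2 + Finsupp.single 1 1 : Fin 2 →₀ ℕ) = e := by
      intro h; apply hlt; rw [← h]; simp [d0]
    have h2 : ¬ (Finsupp.single 0 1 + Finsupp.single 1 1 : Fin 2 →₀ ℕ) = e := by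
      intro h; apply hlt; rw [← h]; simp [d0]
    have h3 : ¬ (Finsupp.single 0 1 : Fin 2 →₀ ℕ) = e := by
      intro h; apply hlt; rw [← h]; simp [d0]
    have h4 : ¬ (Finsupp.single 1 1 : Fin 2 →₀ ℕ) = e := by
      intro h; apply hlt; rw [← h]; simp [d0]
    have h5 : ¬ (0 : Fin 2 →₀ ℕ) = e := by
      intro h; apply hlt; rw [← h]; simp [d0]
    simp [h0, h1, h2, h3, h4, h5]

lemma degree_gg [Nontrivial R] : ordYX.degree (gg a b c d) = d0 := by
  apply ordYX.toSyn.injective
  apply le_antisymm
  · exact MonomialOrder.degree_le_iff.mpr fun e he => support_gg_le a b c d he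
  · apply MonomialOrder.le_degree
    rw [mem_support_iff, coeff_d0_gg]
    exact one_ne_zero

lemma leadingCoeff_gg [Nontrivial R] : ordYX.leadingCoeff (gg a b c d) = 1 := by
  rw [MonomialOrder.leadingCoeff, degree_gg, coeff_d0_gg]

/-- The exponent of the basis monomial with a given index. -/
noncomputable def ex : Option (ℕ ⊕ (Fin 2 × ℕ)) → (Fin 2 →₀ ℕ)
  | none => 0
  | some (Sum.inl k) => Finsupp.single 0 (k + 1) + Finsupp.single 1 1
  | some (Sum.inr (y, k)) => Finsupp.single y (k + 1)

lemma ex_injective : Function.Injective ex := by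
  intro i j h
  have h0 := DFunLike.congr_fun h 0
  have h1 := DFunLike.congr_fun h 1
  rcases i with _ | (k | ⟨y, k⟩) <;> rcases j with _ | (l | ⟨z, l⟩)
  · rfl
  · simp [ex] at h1
  · fin_cases z <;> simp [ex] at h0 h1
  · simp [ex] at h1
  · simp [ex] at h0
    rw [h0]
  · fin_cases z <;> simp [ex] at h0 h1
  · fin_cases y <;> simp [ex] at h0 h1
  · fin_cases y <;> simp [ex] at h0 h1
  · fin_cases y <;> fin_cases z <;> simp [ex] at h0 h1 <;> simp [h0, h1]

lemma d0_le_iff (e : Fin 2 →₀ ℕ) : d0 ≤ e ↔ 1 ≤ e 0 ∧ 2 ≤ e 1 := by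
  rw [Finsupp.le_def, Fin.forall_fin_two]
  simp [d0]

lemma not_d0_le_ex (i : Option (ℕ ⊕ (Fin 2 × ℕ))) : ¬ d0 ≤ ex i := by
  rw [d0_le_iff]
  rcases i with _ | (k | ⟨y, k⟩)
  · simp [ex]
  · simp [ex]
  · fin_cases y <;> simp [ex]

lemma exists_ex_of_not_le {e : Fin 2 →₀ ℕ} (he : ¬ d0 ≤ e) : ∃ i, ex i = e := by
  rw [d0_le_iff] at he
  by_cases h0 : e 0 = 0
  · by_cases h1 : e 1 = 0
    · refine ⟨none, ?_⟩
      ext i
      fin_cases i <;> simp [ex, h0, h1]
    · refine ⟨some (Sum.inr (1, e 1 - 1)), ?_⟩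
      ext i
      fin_cases i
      · simp [ex, h0]
      · simp [ex]; omega
  · have h1 : e 1 ≤ 1 := by omega
    by_cases h1' : e 1 = 0
    · refine ⟨some (Sum.inr (0, e 0 - 1)), ?_⟩
      ext i
      fin_cases i
      · simp [ex]; omega
      · simp [ex, h1']
    · refine ⟨some (Sum.inl (e 0 - 1)), ?_⟩
      ext i
      fin_cases i
      · simp [ex]; omega
      · simp [ex]; omega

/-- Uniqueness of normal forms. -/
lemma eq_zero_of_mul [Nontrivial R] {q r : MvPolynomial (Fin 2) R} (h : r = q * gg a b c d)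
    (hr : ∀ e ∈ r.support, ¬ d0 ≤ e) : q = 0 := by
  by_contra hq
  have hreg : IsRegular (ordYX.leadingCoeff (gg a b c d)) := by
    rw [leadingCoeff_gg]; exact isRegular_one
  have hdeg := MonomialOrder.degree_mul_of_isRegular_right (m := ordYX) hq hreg
  have hlc := MonomialOrder.leadingCoeff_mul_of_isRegular_right (m := ordYX) (f := q) hreg
  rw [leadingCoeff_gg, mul_one] at hlc
  have hne : q * gg a b c d ≠ 0 := by
    intro h0
    rw [h0, MonomialOrder.leadingCoeff_zero] at hlc
    exact hq (MonomialOrder.leadingCoeff_eq_zero_iff.mp hlc.symm)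
  have hmem := MonomialOrder.degree_mem_support (m := ordYX) hne
  rw [← h] at hmem
  apply hr _ hmem
  rw [h, hdeg, degree_gg]
  exact le_add_self

open W4c5m1nsnscurves in
lemma cmon3_eq {R : Type u} [CommRing R] (a b c d : R) (i : Option (ℕ ⊕ (Fin 2 × ℕ))) :
    cmon3 R a b c d i = Ideal.Quotient.mk _ (monomial (ex i) 1) := by
  rcases i with _ | (k | ⟨y, k⟩)
  · simp only [cmon3, ex]
    rw [← map_one (Ideal.Quotient.mk _)]
    rfl
  · simp only [cmon3, ex]
    congr 1
    simp only [X, monomial_pow, monomial_mul, one_pow, mul_one, Finsupp.smul_single, smul_eq_mul,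
      one_mul]
  · simp only [cmon3, ex]
    congr 1
    simp only [X, monomial_pow, one_pow, Finsupp.smul_single, smul_eq_mul, mul_one]


/-- Case n = 3: let R be a commutative ring and a, b, c, d elements of R (a point of U_3, which is
affine 4-space, so no condition is imposed). Then in the R-algebra R[x_2, x_3]/(x_2 x_3² − x_2² x_3
− a x_2 x_3 − b x_2 − c x_3 − d) the classes of the monomials 1, x_2^k x_3, x_2^k and x_3^k (k ≥ 1)
are linearly independent over R and span, i.e. form an R-basis. -/
theorem result (R : Type u) [CommRing R] (a b c d : R) :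
    LinearIndependent R (cmon3 R a b c d) ∧
      Submodule.span R (Set.range (cmon3 R a b c d)) = ⊤ := by
  classical
  rcases subsingleton_or_nontrivial R with hR | hR
  · refine ⟨linearIndependent_of_subsingleton, ?_⟩
    haveI : Subsingleton (CurveAlg3 R a b c d) := Module.subsingleton R _
    rw [eq_top_iff]
    intro x _
    rw [Subsingleton.elim x 0]
    exact zero_mem _
  have hspan : Ideal.span {X 0 * X 1 ^ 2 - X 0 ^ 2 * X 1 -
      (C a * X 0 * X 1 + C b * X 0 + C c * X 1 + C d)} = Ideal.span {gg a b c d} := rfl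
  constructor
  · rw [linearIndependent_iff]
    intro l hl
    rw [Finsupp.linearCombination_apply, Finsupp.sum] at hl
    obtain ⟨r, hr⟩ : ∃ r : MvPolynomial (Fin 2) R, r = ∑ i ∈ l.support, monomial (ex i) (l i) :=
      ⟨_, rfl⟩
    have hmk : Ideal.Quotient.mk (Ideal.span {gg a b c d}) r = 0 := by
      rw [hr, map_sum]
      refine Eq.trans (Finset.sum_congr rfl fun i _ => ?_) hl
      rw [cmon3_eq]
      have : monomial (ex i) (l i) = l i • (monomial (ex i) (1 : R)) := by
        rw [smul_monomial, smul_eq_mul, mul_one]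
      rw [this]
      rfl
    rw [Ideal.Quotient.eq_zero_iff_mem, Ideal.mem_span_singleton'] at hmk
    obtain ⟨q, hq⟩ := hmk
    have hcoeff : ∀ e, coeff e r = ∑ i ∈ l.support, if ex i = e then l i else 0 := by
      intro e
      rw [hr, coeff_sum]
      refine Finset.sum_congr rfl fun i _ => ?_
      rw [coeff_monomial]
    have hsupp : ∀ e ∈ r.support, ¬ d0 ≤ e := by
      intro e he
      rw [mem_support_iff, hcoeff] at he
      obtain ⟨i, _, hi⟩ := Finset.exists_ne_zero_of_sum_ne_zero he
      have : ex i = e := by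
        by_contra hne
        rw [if_neg hne] at hi
        exact hi rfl
      rw [← this]
      exact not_d0_le_ex i
    have hq0 := eq_zero_of_mul a b c d hq.symm hsupp
    have hr0 : r = 0 := by rw [← hq, hq0, zero_mul]
    ext j
    have := hcoeff (ex j)
    rw [hr0, coeff_zero] at this
    have h2 : ∀ i, (if ex i = ex j then l i else 0) = if i = j then l i else 0 := by
      intro i
      by_cases hij : i = j
      · rw [if_pos hij, if_pos (by rw [hij])]
      · rw [if_neg hij, if_neg (fun h => hij (ex_injective h))]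
    simp only [h2, Finset.sum_ite_eq', Finsupp.mem_support_iff] at this
    by_cases hj : l j = 0
    · simpa using hj
    · rw [if_pos hj] at this
      exact absurd this.symm hj
  · rw [eq_top_iff]
    intro z _
    obtain ⟨f, rfl⟩ := Ideal.Quotient.mk_surjective z
    have hu : IsUnit (ordYX.leadingCoeff (gg a b c d)) := by
      rw [leadingCoeff_gg]; exact isUnit_one
    obtain ⟨q, r, hf, _, hr⟩ := MonomialOrder.div_single (m := ordYX) hu f
    rw [degree_gg] at hr
    have hmk : Ideal.Quotient.mk (Ideal.span {gg a b c d}) f =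
        Ideal.Quotient.mk (Ideal.span {gg a b c d}) r := by
      rw [hf, map_add, map_mul]
      have : Ideal.Quotient.mk (Ideal.span {gg a b c d}) (gg a b c d) = 0 :=
        Ideal.Quotient.eq_zero_iff_mem.mpr (Ideal.subset_span rfl)
      rw [this, mul_zero, zero_add]
    change Ideal.Quotient.mk (Ideal.span {gg a b c d}) f ∈ _
    rw [hmk, r.as_sum, map_sum]
    refine Submodule.sum_mem _ fun e he => ?_
    obtain ⟨i, rfl⟩ := exists_ex_of_not_le (hr e he)
    have : monomial (ex i) (coeff (ex i) r) = coeff (ex i) r • (monomial (ex i) (1 : R)) := by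
      rw [smul_monomial, smul_eq_mul, mul_one]
    rw [this]
    have h2 : Ideal.Quotient.mk (Ideal.span {gg a b c d}) (coeff (ex i) r • (monomial (ex i) (1 : R))) =
        coeff (ex i) r • cmon3 R a b c d i := by
      rw [cmon3_eq]
      rfl
    rw [h2]
    exact Submodule.smul_mem (Submodule.span R (Set.range (cmon3 R a b c d))) _
      (Submodule.subset_span ⟨i, rfl⟩)

end Groth.Agent.S18251
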