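import Groth.Statements.S18256
import Mathlib

set_option autoImplicit false
universe u
open ArtFun

namespace Groth.Agent.S18256

open CategoryTheory TensorProduct

variable (R : Type u) [CommRing R] [IsArtinianRing R] [IsLocalRing R]
    (k : Type u) [Field k] [Algebra R k]

omit [IsArtinianRing R] in
lemma algebraMap_eq_zero_of_mem (hk : Function.Surjective (algebraMap R k)) {a : R}
    (ha : a ∈ IsLocalRing.maximalIdeal R) : algebraMap R k a = 0 := by
  have hmax : (RingHom.ker (algebraMap R k)).IsMaximal :=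
    RingHom.ker_isMaximal_of_surjective _ hk
  rw [← IsLocalRing.eq_maximalIdeal hmax] at ha
  exact ha

/-- the residue map R/I → k -/
noncomputable def resQ (hk : Function.Surjective (algebraMap R k)) (I : Ideal R) (hI : I ≠ ⊤) :
    (R ⧸ I) →ₐ[R] k :=
  Ideal.Quotient.liftₐ I (Algebra.ofId R k) (fun _ ha =>
    algebraMap_eq_zero_of_mem R k hk (IsLocalRing.le_maximalIdeal hI ha))

omit [IsArtinianRing R] in
lemma resQ_surj (hk : Function.Surjective (algebraMap R k)) (I : Ideal R) (hI : I ≠ ⊤) :
    Function.Surjective (resQ R k hk I hI) := by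
  intro y
  obtain ⟨a, rfl⟩ := hk y
  exact ⟨Ideal.Quotient.mk I a, rfl⟩

omit [IsArtinianRing R] in
lemma isLocalRing_quot (I : Ideal R) (hI : I ≠ ⊤) : IsLocalRing (R ⧸ I) :=
  haveI : Nontrivial (R ⧸ I) := Ideal.Quotient.nontrivial_iff.mpr hI
  IsLocalRing.of_surjective' (Ideal.Quotient.mk I) Ideal.Quotient.mk_surjective

@[reducible] noncomputable def artQ (hk : Function.Surjective (algebraMap R k)) (I : Ideal R)
    (hI : I ≠ ⊤) : ArtFun.Art R k :=
  { carrier := R ⧸ I
    isLocalRing := isLocalRing_quot R I hI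
    res := resQ R k hk I hI
    res_surjective := resQ_surj R k hk I hI }

noncomputable def homQ (hk : Function.Surjective (algebraMap R k)) (I' I : Ideal R) (hI' : I' ≠ ⊤)
    (hI : I ≠ ⊤) (hle : I' ≤ I) : artQ R k hk I' hI' ⟶ artQ R k hk I hI :=
  ArtFun.Art.homMk (Ideal.Quotient.factorₐ R hle) (by
    apply Ideal.Quotient.algHom_ext
    ext)

lemma homQ_apply (hk : Function.Surjective (algebraMap R k)) (I' I : Ideal R) (hI' : I' ≠ ⊤)
    (hI : I ≠ ⊤) (hle : I' ≤ I) (a : R) :
    (homQ R k hk I' I hI' hI hle).toAlgHom (Ideal.Quotient.mk I' a) = Ideal.Quotient.mk I a := rfl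

lemma mem_ker_homQ (hk : Function.Surjective (algebraMap R k)) (I' I : Ideal R) (hI' : I' ≠ ⊤)
    (hI : I ≠ ⊤) (hle : I' ≤ I) (a : R) :
    (Ideal.Quotient.mk I' a) ∈ RingHom.ker (homQ R k hk I' I hI' hI hle).toAlgHom ↔ a ∈ I := by
  rw [RingHom.mem_ker]
  exact Ideal.Quotient.eq_zero_iff_mem

lemma isSmallExt_homQ (hk : Function.Surjective (algebraMap R k)) (I' I : Ideal R) (hI' : I' ≠ ⊤)
    (hI : I ≠ ⊤) (hle : I' ≤ I) (x : R) (hxI : x ∈ I) (hxI' : x ∉ I')
    (hsup : I ≤ I' ⊔ Ideal.span {x}) (hm : IsLocalRing.maximalIdeal R * I ≤ I') :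
    ArtFun.Art.IsSmallExt (homQ R k hk I' I hI' hI hle) := by
  refine ⟨?_, ?_, ?_, ?_⟩
  · intro y
    obtain ⟨a, rfl⟩ := Ideal.Quotient.mk_surjective y
    exact ⟨Ideal.Quotient.mk I' a, rfl⟩
  · intro hbot
    have : Ideal.Quotient.mk I' x ∈ RingHom.ker (homQ R k hk I' I hI' hI hle).toAlgHom :=
      (mem_ker_homQ R k hk I' I hI' hI hle x).mpr hxI
    rw [hbot, Ideal.mem_bot] at this
    exact hxI' (Ideal.Quotient.eq_zero_iff_mem.mp this)
  · refine ⟨⟨Ideal.Quotient.mk I' x, ?_⟩⟩
    apply le_antisymm
    · intro y hy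
      obtain ⟨a, rfl⟩ := Ideal.Quotient.mk_surjective y
      have ha : a ∈ I := (mem_ker_homQ R k hk I' I hI' hI hle a).mp hy
      obtain ⟨i', hi', z, hz, rfl⟩ := Submodule.mem_sup.mp (hsup ha)
      obtain ⟨r, rfl⟩ := Ideal.mem_span_singleton'.mp hz
      rw [map_add, Ideal.Quotient.eq_zero_iff_mem.mpr hi', zero_add, map_mul]
      exact Submodule.smul_mem _ _ (Submodule.mem_span_singleton_self _)
    · rw [Submodule.span_singleton_le_iff_mem]
      exact (mem_ker_homQ R k hk I' I hI' hI hle x).mpr hxI
  · rw [eq_bot_iff, Ideal.mul_le]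
    intro u hu y hy
    obtain ⟨b, rfl⟩ := Ideal.Quotient.mk_surjective u
    obtain ⟨a, rfl⟩ := Ideal.Quotient.mk_surjective y
    have ha : a ∈ I := (mem_ker_homQ R k hk I' I hI' hI hle a).mp hy
    have := isLocalRing_quot R I' hI'
    have hb : b ∈ IsLocalRing.maximalIdeal R := by
      have hu : Ideal.Quotient.mk I' b ∈ IsLocalRing.maximalIdeal (R ⧸ I') := hu
      rw [IsLocalRing.mem_maximalIdeal] at hu ⊢
      intro hbu
      exact hu (hbu.map (Ideal.Quotient.mk I'))
    rw [Ideal.mem_bot, ← map_mul]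
    exact Ideal.Quotient.eq_zero_iff_mem.mpr (hm (Ideal.mul_mem_mul hb ha))

variable {R k}

theorem lTensor_subtype_injective (hk : Function.Surjective (algebraMap R k))
    (M : Type u) [AddCommGroup M] [Module R M]
    (h : ∀ (A' A : ArtFun.Art R k) (p : A' ⟶ A), ArtFun.Art.IsSmallExt p →
      Function.Injective
        (LinearMap.lTensor M (((RingHom.ker p.toAlgHom).restrictScalars R).subtype))) :
    ∀ I : Ideal R, I ≠ ⊤ → Function.Injective (LinearMap.lTensor M I.subtype) := by
  intro I
  induction I using IsArtinian.induction with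
  | hgt I IH =>
  intro hItop
  by_cases hI0 : I = ⊥
  · subst hI0
    have : Subsingleton (M ⊗[R] (⊥ : Ideal R)) := by
      have : Subsingleton (⊥ : Ideal R) := by
        constructor
        intro a b
        exact Subtype.ext (((Submodule.mem_bot R).mp a.2).trans ((Submodule.mem_bot R).mp b.2).symm)
      infer_instance
    exact Function.injective_of_subsingleton _
  -- a maximal strict sub-ideal
  obtain ⟨I', hI'lt, hI'max⟩ := set_has_maximal_iff_noetherian.mpr
    (inferInstance : IsNoetherian R R) {J : Ideal R | J < I} ⟨⊥, bot_lt_iff_ne_bot.mpr hI0⟩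
  have hI'lt : I' < I := hI'lt
  have hle : I' ≤ I := hI'lt.le
  have hI'top : I' ≠ ⊤ := fun h => hItop (top_le_iff.mp (h ▸ hle))
  obtain ⟨x, hxI, hxI'⟩ := SetLike.exists_of_lt hI'lt
  have hmaxeq : ∀ J : Ideal R, I' < J → J ≤ I → J = I := by
    intro J h1 h2
    by_contra hne
    exact hI'max J (lt_of_le_of_ne h2 hne) h1
  have hsup : I ≤ I' ⊔ Ideal.span {x} := by
    refine (hmaxeq (I' ⊔ Ideal.span {x}) ?_ ?_).ge
    · refine lt_of_le_of_ne le_sup_left ?_
      intro heq
      apply hxI'
      rw [heq]
      exact Ideal.mem_sup_right (Ideal.mem_span_singleton_self x)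
    · exact sup_le hle ((Ideal.span_singleton_le_iff_mem _).mpr hxI)
  have hm : IsLocalRing.maximalIdeal R * I ≤ I' := by
    by_contra hnot
    have h1 : I' < I' ⊔ IsLocalRing.maximalIdeal R * I :=
      lt_of_le_of_ne le_sup_left (fun heq => hnot (heq ▸ le_sup_right))
    have h2 : I' ⊔ IsLocalRing.maximalIdeal R * I ≤ I := sup_le hle Ideal.mul_le_right
    have h3 := hmaxeq _ h1 h2
    have h4 : I ≤ I' := by
      refine Submodule.le_of_le_smul_of_le_jacobson_bot (I := IsLocalRing.maximalIdeal R)
        (IsNoetherian.noetherian I) (IsLocalRing.maximalIdeal_le_jacobson _) ?_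
      rw [smul_eq_mul, h3]
    exact lt_irrefl _ (lt_of_lt_of_le hI'lt h4)
  -- the small extension
  have hsmall := isSmallExt_homQ R k hk I' I hI'top hItop hle x hxI hxI' hsup hm
  have hinj := h _ _ _ hsmall
  set p := homQ R k hk I' I hI'top hItop hle with hp
  set J : Submodule R (R ⧸ I') := (RingHom.ker p.toAlgHom).restrictScalars R with hJ
  let q : I →ₗ[R] J := LinearMap.codRestrict J ((Algebra.linearMap R (R ⧸ I')).comp I.subtype)
    (fun a => (mem_ker_homQ R k hk I' I hI'top hItop hle a.1).mpr a.2)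
  let ι' : I' →ₗ[R] I := Submodule.inclusion hle
  have hex : Function.Exact ι' q := by
    intro y
    constructor
    · intro hy
      have : Ideal.Quotient.mk I' y.1 = 0 := congrArg Subtype.val hy
      exact ⟨⟨y.1, Ideal.Quotient.eq_zero_iff_mem.mp this⟩, Subtype.ext rfl⟩
    · rintro ⟨z, rfl⟩
      apply Subtype.ext
      exact Ideal.Quotient.eq_zero_iff_mem.mpr z.2
  have hsurj : Function.Surjective q := by
    rintro ⟨z, hz⟩
    obtain ⟨a, rfl⟩ := Ideal.Quotient.mk_surjective z
    exact ⟨⟨a, (mem_ker_homQ R k hk I' I hI'top hItop hle a).mp hz⟩, Subtype.ext rfl⟩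
  rw [injective_iff_map_eq_zero]
  intro t ht
  have h1 : LinearMap.lTensor M J.subtype (LinearMap.lTensor M q t) = 0 := by
    rw [← LinearMap.comp_apply, ← LinearMap.lTensor_comp]
    have : J.subtype ∘ₗ q = (Algebra.linearMap R (R ⧸ I')) ∘ₗ I.subtype := by
      ext; rfl
    rw [this, LinearMap.lTensor_comp, LinearMap.comp_apply, ht, map_zero]
  have h2 : LinearMap.lTensor M q t = 0 := hinj (h1.trans (map_zero _).symm)
  obtain ⟨y, rfl⟩ := (lTensor_exact M hex hsurj t).mp h2
  have h3 : LinearMap.lTensor M I'.subtype y = 0 := by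
    have : I.subtype ∘ₗ ι' = I'.subtype := by ext; rfl
    rw [← this, LinearMap.lTensor_comp, LinearMap.comp_apply, ht]
  have : y = 0 := (injective_iff_map_eq_zero _).mp (IH I' hI'lt hI'top) y h3
  rw [this, map_zero]

end Groth.Agent.S18256

namespace Groth.Agent.S18256

open CategoryTheory TensorProduct in
/-- Let R be an Artinian local ring with residue field k and M a finitely generated R-module. Suppose
that for every small extension p : A' → A of local Artinian R-algebras with residue field k (p
surjective, its kernel I a nonzero principal ideal killed by the maximal ideal of A'), the map M ⊗_R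
I → M ⊗_R A' induced by the inclusion I ⊆ A' is injective (equivalently, the sequence 0 → M ⊗_R I →
M ⊗_R A' → M ⊗_R A → 0 is exact). Then M is a free R-module. (The printed conclusion reads free over
the residue field; the proof establishes freeness over R, which is what is stated here.) -/
theorem result
    (R : Type u) [CommRing R] [IsArtinianRing R] [IsLocalRing R]
    (k : Type u) [Field k] [Algebra R k] (hk : Function.Surjective (algebraMap R k))
    (M : Type u) [AddCommGroup M] [Module R M] [Module.Finite R M]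
    (h : ∀ (A' A : ArtFun.Art R k) (p : A' ⟶ A), ArtFun.Art.IsSmallExt p →
      Function.Injective
        (LinearMap.lTensor M (((RingHom.ker p.toAlgHom).restrictScalars R).subtype))) :
    Module.Free R M := by
  have hinj := lTensor_subtype_injective hk M h
  have : IsNoetherianRing R := inferInstance
  have : Module.FinitePresentation R M := Module.finitePresentation_of_finite R M
  apply Module.free_of_maximalIdeal_rTensor_injective
  rw [← LinearMap.lTensor_inj_iff_rTensor_inj]
  exact hinj _ (Ideal.IsPrime.ne_top inferInstance)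

end Groth.Agent.S18256
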