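import Groth.Statements.S18265
import Groth.Agent.H91.IntClosedSub
import Mathlib.RingTheory.Polynomial.UniqueFactorization
import Mathlib.RingTheory.Polynomial.RationalRoot
import Mathlib.RingTheory.Polynomial.Basic

set_option autoImplicit false
universe u
open InvQ

namespace Groth.Agent.S18265

/-- Let k be an algebraically closed field and n, m natural numbers, and let R be the ring of polynomial
functions of m vectors of k^(n+1) invariant under the special linear group SL(n+1, k) acting on all
the vectors at once and under the rescalings of the individual vectors by units with product 1
(equivalently: invariant and homogeneous of one and the same degree in each vector) — the graded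
ring of invariant sections whose Proj is the quotient variety of ordered m-point sets in projective
n-space. Then R is integrally closed in its field of fractions; hence that quotient variety is
normal. (Only the normality assertion of the source's statement is given here; its dimension,
rationality and singular-locus assertions are not.) -/
theorem result (k : Type u) [Field k] [IsAlgClosed k] (n m : ℕ) :
    IsIntegrallyClosed (W4c5pointsetsdelpezzo.invRing k n m) := by
  apply Groth.Agent.H91.isIntegrallyClosed_of_div_mem
  intro a b c ha hb hb0 hac
  have key : ∀ σ : W4c5pointsetsdelpezzo.TupleRing k n m →ₐ[k] W4c5pointsetsdelpezzo.TupleRing k n m,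
      σ a = a → σ b = b → σ c = c := by
    intro σ h1 h2
    have h3 : σ a = σ b * σ c := by rw [hac, map_mul]
    rw [h1, h2, hac] at h3
    exact (mul_left_cancel₀ hb0 h3).symm
  simp only [W4c5pointsetsdelpezzo.invRing, Algebra.mem_inf, Algebra.mem_iInf, AlgHom.mem_equalizer,
    AlgHom.coe_id, id_eq] at ha hb ⊢
  exact ⟨fun g => key _ (ha.1 g) (hb.1 g), fun s => key _ (ha.2 s) (hb.2 s)⟩

end Groth.Agent.S18265
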