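import Groth.Statements.S1828
import Groth.Agent.H26.FlatBCDual17

set_option autoImplicit false
universe u
open CategoryTheory
attribute [local instance] HasDerivedCategory.standard
open Dual2

namespace Groth.Agent.S1828

/-- Let R and A be Noetherian rings and R → A a homomorphism that is a local complete intersection,
presented by a surjection ψ : P = R[x_1, …, x_n] → A. For K in D(R) set φ^!(K) = RHom_P(A, K ⊗^L_R
P)[n], where the derived base change D(R) → D(P) is assumed to exist and RHom_P(A, −) : D(P) → D(A)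
means a right adjoint of restriction of scalars along ψ, and set ω_{A/R} = φ^!(R); also assume that
the derived base change functors D(A) → D(A_f) exist for every f ∈ A. Then ω_{A/R} is invertible:
for each prime q of A there exist f ∈ A not in q and an integer m with ω_{A/R} ⊗^L_A A_f ≅ A_f[m] in
D(A_f). (The published statement makes one more assertion, which is not included here.) -/
theorem result (R A : Type u) [CommRing R] [CommRing A] [IsNoetherianRing R] [IsNoetherianRing A] [Algebra R A] (hl : LCI.IsLCI R A) (n : ℕ) (ψ : MvPolynomial (Fin n) R →ₐ[R] A) (hψ : Function.Surjective ψ) [DRing.HasLBaseChange (algebraMap R (MvPolynomial (Fin n) R))] (Rψ : Dual.D (MvPolynomial (Fin n) R) ⥤ Dual.D A) (adj : DRing.restrictD ψ.toRingHom ⊣ Rψ) [hL : ∀ f : A, DRing.HasLBaseChange (algebraMap A (Localization.Away f))] (q : PrimeSpectrum A) : ∃ (f : A) (_ : f ∉ q.asIdeal) (m : ℤ), Nonempty ((DRing.LBaseChange (algebraMap A (Localization.Away f))).obj (Dual2.shriekVia n Rψ (Dual.inD R R)) ≅ (Dual.inD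 (Localization.Away f) (Localization.Away f))⟦m⟧) := by
  obtain ⟨-, n₀, f₀, hf₀, hI₀⟩ := hl
  letI : Algebra (MvPolynomial (Fin n) R) A := ψ.toRingHom.toAlgebra
  have hsurj : Function.Surjective (algebraMap (MvPolynomial (Fin n) R) A) := hψ
  have hI : LCI.IsKoszulRegularIdeal (RingHom.ker (algebraMap (MvPolynomial (Fin n) R) A)) :=
    Groth.Agent.H39.KoszulPresMain.isKoszulRegularIdeal_ker_of_other_presentation R A n₀ n f₀ hf₀
      ψ hψ hI₀
  haveI := q.isPrime
  have eW : (DRing.LBaseChange (algebraMap R (MvPolynomial (Fin n) R))).obj (Dual.inD R R) ≅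
      Dual.inD (MvPolynomial (Fin n) R) (MvPolynomial (Fin n) R) :=
    (Groth.Agent.H26.FlatBCDual.lbcIso (A := R) (B := MvPolynomial (Fin n) R)).app _ ≪≫
      Groth.Agent.H26.FlatBCDual.LBSelfIso (S := R) (MvPolynomial (Fin n) R)
  obtain ⟨h, hq, c, ⟨e⟩⟩ :=
    Groth.Agent.H26.FlatBCDual.nonempty_LB_RRc_iso_single_of_koszulRegular hsurj hI q.asIdeal _ eW
  refine ⟨algebraMap (MvPolynomial (Fin n) R) A h, hq, (n : ℤ) - c, ⟨?_⟩⟩
  have eR : Rψ ≅ Groth.Agent.H28.CoextModel.RRc (A := MvPolynomial (Fin n) R) (B := A) :=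
    adj.rightAdjointUniq (Groth.Agent.H28.CoextModel.adj' (A := MvPolynomial (Fin n) R) (B := A))
  refine (Groth.Agent.H26.FlatBCDual.lbcIso (A := A)
    (B := Localization.Away (algebraMap (MvPolynomial (Fin n) R) A h))).app _ ≪≫ ?_
  refine ((Groth.Agent.H26.FlatBCHom.LB A
    (Localization.Away (algebraMap (MvPolynomial (Fin n) R) A h))).commShiftIso (n : ℤ)).app _ ≪≫ ?_
  refine (shiftFunctor _ (n : ℤ)).mapIso ((Groth.Agent.H26.FlatBCHom.LB A
    (Localization.Away (algebraMap (MvPolynomial (Fin n) R) A h))).mapIso (eR.app _) ≪≫ e ≪≫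
    (Groth.Agent.H26.FlatBCHom.singleIso _ (c : ℤ)).symm) ≪≫ ?_
  exact Groth.Agent.H26.FlatBCHom.shiftShiftIso _ (-(c : ℤ)) (n : ℤ) ((n : ℤ) - c) (by ring)

end Groth.Agent.S1828
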