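import Groth.Statements.S18283
import Mathlib

set_option autoImplicit false
universe u v
open CAlgX

namespace Groth.Agent.S18283

open Module

/-- wedge of `r+1` vectors in a module generated by `r` elements vanishes -/
lemma ιMulti_eq_zero_of_range {A : Type u} [CommRing A] {N : Type v} [AddCommGroup N] [Module A N]
    (r : ℕ) (g : (Fin r → A) →ₗ[A] N) (v : Fin (r + 1) → N) (hv : ∀ k, v k ∈ LinearMap.range g) :
    exteriorPower.ιMulti A (r + 1) v = 0 := by
  choose w hw using hv
  have : v = g ∘ w := by ext k; simp [hw]
  rw [this, ← exteriorPower.map_apply_ιMulti]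
  have hsub : Subsingleton (⋀[A]^(r + 1) (Fin r → A)) := by
    let b := (Pi.basisFun A (Fin r)).exteriorPower (r + 1)
    have : IsEmpty (Set.powersetCard (Fin r) (r + 1)) := by
      constructor
      rintro ⟨s, hs⟩
      have h1 : s.card = r + 1 := hs
      have h2 : s.card ≤ Fintype.card (Fin r) := Finset.card_le_univ s
      simp at h2
      omega
    constructor
    intro x y
    apply b.repr.injective
    ext i
    exact (this.false i).elim
  rw [Subsingleton.elim (exteriorPower.ιMulti A (r + 1) w) 0, map_zero]


variable {A : Type u} [CommRing A] {ι : Type v} [Fintype ι] [DecidableEq ι]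

/-- the generators -/
noncomputable def fgen (H : Finset ι) (c : ι → ι → A) (j : ι) : ι → A :=
  Pi.single j (1 : A) - ∑ i ∈ Hᶜ, c j i • Pi.single i (1 : A)

lemma fgen_apply_of_mem (H : Finset ι) (c : ι → ι → A) (j l : ι) (hl : l ∈ H) :
    fgen H c j l = if l = j then 1 else 0 := by
  unfold fgen
  simp only [Pi.sub_apply, Finset.sum_apply, Pi.smul_apply, smul_eq_mul]
  rw [Finset.sum_eq_zero, sub_zero, Pi.single_apply]
  intro i hi
  have : i ≠ l := by
    rintro rfl
    exact (Finset.mem_compl.mp hi) hl
  rw [Pi.single_apply, if_neg this.symm, mul_zero]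

/-- determinant extraction: if the wedge vanishes then the coordinate vanishes. -/
lemma coord_eq_zero (H : Finset ι) (c : ι → ι → A) (v' : ι → A) (hv' : ∀ l ∈ H, v' l = 0)
    (e : H ≃ Fin H.card)
    (hw : exteriorPower.ιMulti A (H.card + 1)
      (Fin.snoc (fun k : Fin H.card => fgen H c (e.symm k)) v' : Fin (H.card + 1) → ι → A) = 0)
    (i : ι) : v' i = 0 := by
  by_cases hi : i ∈ H
  · exact hv' i hi
  let φ : Fin (H.card + 1) → Module.Dual A (ι → A) :=
    Fin.snoc (fun k : Fin H.card => LinearMap.proj (e.symm k : ι)) (LinearMap.proj i)
  let uu : Fin (H.card + 1) → ι → A := Fin.snoc (fun k : Fin H.card => fgen H c (e.symm k)) v'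
  have hdet := exteriorPower.pairingDual_ιMulti_ιMulti (R := A) (M := ι → A) φ uu
  rw [hw, map_zero] at hdet
  have htri : (Matrix.of fun a b => φ b (uu a)).BlockTriangular id := by
    intro a b hab
    simp only [id] at hab
    simp only [Matrix.of_apply]
    induction b using Fin.lastCases with
    | last => exact absurd hab (not_lt.mpr (Fin.le_last a))
    | cast l =>
      induction a using Fin.lastCases with
      | last =>
        simp only [φ, uu, Fin.snoc_castSucc, Fin.snoc_last, LinearMap.proj_apply]
        exact hv' _ (e.symm l).2
      | cast k =>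
        simp only [φ, uu, Fin.snoc_castSucc, LinearMap.proj_apply]
        rw [fgen_apply_of_mem H c _ _ (e.symm l).2, if_neg]
        intro h
        have : l = k := by
          have := Subtype.ext h
          exact e.symm.injective this
        rw [this] at hab
        exact lt_irrefl _ hab
  rw [Matrix.det_of_isUpperTriangular htri, Fin.prod_univ_castSucc] at hdet
  simp only [Matrix.of_apply, φ, uu, Fin.snoc_castSucc, Fin.snoc_last, LinearMap.proj_apply] at hdet
  rw [Finset.prod_eq_one, one_mul] at hdet
  · exact hdet.symm
  · intro k _
    rw [fgen_apply_of_mem H c _ _ (e.symm k).2, if_pos rfl]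


end Groth.Agent.S18283

namespace Groth.Agent.S18283

/-- Let A be a commutative ring, ι a finite index type, H a finite set of indices (the head indices) and
c : ι → ι → A a table of coefficients; for j ∈ H put f_j = e_j − Σ_{i ∉ H} c_{ji} e_i in the free
module A^ι, so that each f_j has head e_j with coefficient 1 and tail supported outside H. If a
submodule M of A^ι contains every f_j with j ∈ H, then M is the A-span of these f_j if and only if
every wedge product of |H|+1 elements of M vanishes in the (|H|+1)-st exterior power of A^ι
(equivalently, every (|H|+1)-minor of every matrix whose rows lie in M vanishes). The published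
statement is the case where A is a Noetherian algebra over a field of characteristic zero, A^ι is
the degree-(m+1) part of the polynomial ring over A with its basis of terms, H is the set of
degree-(m+1) terms of a strongly stable monomial ideal generated in degree m, and M is the
degree-(m+1) part of an ideal generated by a marked set on that monomial ideal; this row allows any
commutative ring and any submodule containing the marked polynomials. -/
theorem result
    {A : Type u} [CommRing A] {ι : Type v} [Fintype ι] [DecidableEq ι]
    (H : Finset ι) (c : ι → ι → A) (M : Submodule A (ι → A))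
    (hf : ∀ j ∈ H, (Pi.single j (1 : A) - ∑ i ∈ Hᶜ, c j i • Pi.single i (1 : A)) ∈ M) :
    M = Submodule.span A ((fun j => Pi.single j (1 : A) - ∑ i ∈ Hᶜ, c j i • Pi.single i (1 : A)) '' ↑H)
      ↔ ∀ v : Fin (H.card + 1) → ι → A, (∀ k, v k ∈ M) →
          exteriorPower.ιMulti A (H.card + 1) v = 0 := by
  classical
  have hfg : ∀ j, (Pi.single j (1 : A) - ∑ i ∈ Hᶜ, c j i • Pi.single i (1 : A)) = fgen H c j :=
    fun j => rfl
  simp only [hfg] at hf ⊢
  let e : H ≃ Fin H.card := H.equivFin
  -- the linear map with range the span
  let g : (Fin H.card → A) →ₗ[A] (ι → A) :=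
    Fintype.linearCombination A (fun k : Fin H.card => fgen H c (e.symm k))
  have hrange : LinearMap.range g = Submodule.span A (fgen H c '' ↑H) := by
    rw [Fintype.range_linearCombination]
    congr 1
    ext x
    constructor
    · rintro ⟨k, rfl⟩
      exact ⟨(e.symm k : ι), (e.symm k).2, rfl⟩
    · rintro ⟨j, hj, rfl⟩
      exact ⟨e ⟨j, hj⟩, by simp⟩
  constructor
  · intro hM v hv
    apply ιMulti_eq_zero_of_range H.card g v
    intro k
    rw [hrange, ← hM]
    exact hv k
  · intro hw
    apply le_antisymm
    · intro v hvM
      set v' : ι → A := v - ∑ j ∈ H, v j • fgen H c j with hv'def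
      have hv'M : v' ∈ M :=
        Submodule.sub_mem _ hvM (Submodule.sum_mem _ fun j hj => Submodule.smul_mem _ _ (hf j hj))
      have hv'H : ∀ l ∈ H, v' l = 0 := by
        intro l hl
        simp only [hv'def, Pi.sub_apply, Finset.sum_apply, Pi.smul_apply, smul_eq_mul]
        rw [Finset.sum_congr rfl (fun j _ => by rw [fgen_apply_of_mem H c j l hl])]
        simp [Finset.sum_ite_eq, hl]
      have hzero : v' = 0 := by
        funext i
        apply coord_eq_zero H c v' hv'H e _ i
        apply hw
        intro k
        induction k using Fin.lastCases with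
        | last => rw [Fin.snoc_last]; exact hv'M
        | cast k => rw [Fin.snoc_castSucc]; exact hf _ (e.symm k).2
      have : v = ∑ j ∈ H, v j • fgen H c j := by
        have := hzero
        rw [hv'def, sub_eq_zero] at this
        exact this
      rw [this]
      exact Submodule.sum_mem _ fun j hj =>
        Submodule.smul_mem _ _ (Submodule.subset_span ⟨j, hj, rfl⟩)
    · rw [Submodule.span_le]
      rintro x ⟨j, hj, rfl⟩
      exact hf j hj

end Groth.Agent.S18283
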