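import Groth.Statements.S18285
import Groth.Agent.H91.SchDom

set_option autoImplicit false
universe u
open CategoryTheory MonoidalCategory CartesianMonoidalCategory MonObj AlgebraicGeometry Opposite
open Magnet

namespace Groth.Agent.S18285

/-- Let X be an S-scheme separated over S with an action of the diagonalizable monoid scheme A(M)_S of a
commutative monoid M, and N a submonoid of M. Then the canonical map from the attractor X^N to X
(evaluation at the unit section of A(N)_S) is a monomorphism: for every S-scheme T it is injective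
on T-points. (The published statement allows X to be an algebraic space over S; here X is a scheme.) -/
theorem result (S : Scheme.{u}) (M : Type) [AddCommMonoid M]
    (X : Over S) [IsSeparated X.hom] (a : Magnet.MonAct (Magnet.AMonS S M) X) (N : AddSubmonoid M) (T : Over S) :
    Function.Injective (fun φ => (Magnet.attrToX a N).app (op T) φ) := by
  intro φ₁ φ₂ hφ
  apply Subtype.ext
  apply Groth.Agent.H91.whiskerRight_cancel S N.subtype Subtype.val_injective T X
  -- evaluate on points
  have hφ' : lift (toUnit T ≫ η[Magnet.AMonS S N]) (𝟙 T) ≫ φ₁.1 =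
      lift (toUnit T ≫ η[Magnet.AMonS S N]) (𝟙 T) ≫ φ₂.1 := hφ
  have key : ∀ (φ : (Magnet.attr a N).obj (op T)) (T' : Over S) (m : T' ⟶ Magnet.AMonS S M)
      (t : T' ⟶ T), lift m t ≫ (Magnet.AMonS.map S N.subtype ▷ T) ≫ φ.1 =
        lift m (t ≫ lift (toUnit T ≫ η[Magnet.AMonS S N]) (𝟙 T) ≫ φ.1) ≫ a.act := by
    intro φ T' m t
    have hφeq := (Magnet.MonAct.mem_eqvHom_iff φ.1).mp φ.2 T' m (1 : T' ⟶ Magnet.AMonS S N) t
    have h1 : lift m (1 : T' ⟶ Magnet.AMonS S N) ≫ (Magnet.subAct S M N).act =
        m ≫ Magnet.AMonS.map S N.subtype := by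
      rw [Magnet.subAct, Magnet.MonAct.lift_restrict_act, Magnet.MonAct.lift_regular_act,
        _root_.mul_one]
    have h2 : t ≫ lift (toUnit T ≫ η[Magnet.AMonS S N]) (𝟙 T) =
        lift (1 : T' ⟶ Magnet.AMonS S N) t := by
      rw [comp_lift, Category.comp_id, ← Category.assoc, toUnit_unique (t ≫ toUnit T) (toUnit T'),
        Hom.one_def]
    rw [lift_whiskerRight_assoc, ← h1, hφeq, ← Category.assoc t, h2]
  apply Magnet.hom_ext_lift₂
  intro T' m t
  rw [key φ₁, key φ₂, hφ']

end Groth.Agent.S18285
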