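import Groth.Statements.S18286
import Groth.Agent.H91.Attr

set_option autoImplicit false
universe u
open CategoryTheory MonoidalCategory CartesianMonoidalCategory MonObj AlgebraicGeometry Opposite
open Magnet

namespace Groth.Agent.S18286

/-- Let Y be an S-scheme affine over S with an action of the diagonalizable monoid scheme A(M)_S of a
commutative monoid M, let f : Z → Y be an equivariant closed immersion (for an action of A(M)_S on
Z), and let N ⊆ M be a submonoid (magnet). Then Z^N = Z ×_Y Y^N: the square of functors on S-schemes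
formed by f^N : Z^N → Y^N, the canonical maps Z^N → Z and Y^N → Y (evaluation at the unit section)
and f is cartesian. -/
theorem result (S : Scheme.{u}) (M : Type) [AddCommMonoid M]
    (N : AddSubmonoid M) (Y Z : Over S) [IsAffineHom Y.hom] (aY : Magnet.MonAct (Magnet.AMonS S M) Y)
    (aZ : Magnet.MonAct (Magnet.AMonS S M) Z) (f : Z ⟶ Y) [IsClosedImmersion f.left]
    (hf : Magnet.MonAct.IsEquivariant aZ aY f) :
    IsPullback (Magnet.MonAct.eqvHom.postcomp (Magnet.subAct S M N) f hf) (Magnet.attrToX aZ N)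
      (Magnet.attrToX aY N) (yoneda.map f) := by
  have hmono : Mono f := by
    have : Mono ((Over.forget S).map f) := by
      change Mono f.left
      infer_instance
    exact (Over.forget S).mono_of_mono_map this
  apply IsPullback.of_forall_isPullback_app
  intro T
  rw [Limits.Types.isPullback_iff]
  refine ⟨?_, ?_, ?_⟩
  · ext ψ
    change lift (toUnit (unop T) ≫ η[Magnet.AMonS S N]) (𝟙 (unop T)) ≫ (ψ.1 ≫ f) =
      (lift (toUnit (unop T) ≫ η[Magnet.AMonS S N]) (𝟙 (unop T)) ≫ ψ.1) ≫ f
    rw [Category.assoc]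
  · rintro ψ₁ ψ₂ ⟨h1, -⟩
    have h1' : ψ₁.1 ≫ f = ψ₂.1 ≫ f := congrArg Subtype.val h1
    apply Subtype.ext
    exact (cancel_mono f).mp h1'
  · intro φ z h
    have h' : lift (toUnit (unop T) ≫ η[Magnet.AMonS S N]) (𝟙 (unop T)) ≫ φ.1 = z ≫ f := h
    -- the orbit map of `z`
    have hcomm : (Magnet.AMonS.map S N.subtype ▷ unop T) ≫ φ.1 =
        ((Magnet.AMonS S M ◁ z) ≫ aZ.act) ≫ f := by
      rw [Groth.Agent.H91.whiskerRight_attr_eq aY N φ, h', Category.assoc, hf,
        MonoidalCategory.whiskerLeft_comp, Category.assoc]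
    have := Groth.Agent.H91.dominant_whiskerRight S N.subtype Subtype.val_injective (unop T)
    obtain ⟨ψ', hψ'⟩ := Groth.Agent.H91.exists_factor_of_isSchemeTheoreticallyDominant
      (Magnet.AMonS.map S N.subtype ▷ unop T).left φ.1.left f.left
      ((Magnet.AMonS S M ◁ z) ≫ aZ.act).left (by
        rw [← Over.comp_left, hcomm, Over.comp_left])
    let ψ : Magnet.AMonS S N ⊗ unop T ⟶ Z := Over.homMk ψ' (by
      rw [← Over.w f, ← Category.assoc, hψ', Over.w])
    have hψf : ψ ≫ f = φ.1 := by
      ext
      exact hψ'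
    have hψeq : Magnet.MonAct.IsEquivariant
        ((Magnet.subAct S M N).prod (Magnet.MonAct.trivial _ (unop T))) aZ ψ := by
      unfold Magnet.MonAct.IsEquivariant
      rw [← cancel_mono f, Category.assoc, hψf, Category.assoc, hf, ← Category.assoc,
        ← MonoidalCategory.whiskerLeft_comp, hψf]
      exact φ.2
    refine ⟨⟨ψ, hψeq⟩, ?_, ?_⟩
    · apply Subtype.ext
      exact hψf
    · change lift (toUnit (unop T) ≫ η[Magnet.AMonS S N]) (𝟙 (unop T)) ≫ ψ = z
      rw [← cancel_mono f, Category.assoc, hψf, h']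

end Groth.Agent.S18286
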