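import Groth.Statements.S18288
import Groth.Agent.H91.SchDom

set_option autoImplicit false
universe u
open CategoryTheory MonoidalCategory CartesianMonoidalCategory MonObj AlgebraicGeometry Opposite
open Magnet


namespace Groth.Agent.S18288

open CategoryTheory MonoidalCategory CartesianMonoidalCategory MonObj AlgebraicGeometry Opposite

theorem AMon_map_id (R : Type u) [CommRing R] (M : Type) [AddCommMonoid M] :
    Magnet.AMon.map R (AddMonoidHom.id M) = 𝟙 (Magnet.AMon R M) := by
  ext : 1
  rw [Magnet.AMon.map_left]
  have h : MonoidAlgebra.mapDomainBialgHom R (AddMonoidHom.toMultiplicative (AddMonoidHom.id M)) =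
      BialgHom.id R _ := MonoidAlgebra.mapDomainBialgHom_id
  rw [h]
  change Spec.map _ = 𝟙 _
  rw [← Spec.map_id]
  rfl

theorem AMonS_map_id (S : Scheme.{u}) (M : Type) [AddCommMonoid M] :
    Magnet.AMonS.map S (AddMonoidHom.id M) = 𝟙 (Magnet.AMonS S M) := by
  rw [Magnet.AMonS.map, AMon_map_id, CategoryTheory.Functor.map_id]

end Groth.Agent.S18288

namespace Groth.Agent.S18288

/-- Let M be a commutative monoid with an injective homomorphism f : M → Z into a commutative group Z
(so M is cancellative; the published statement takes Z to be the group completion of M, and the same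
argument applies to any such Z), let Y be a submonoid of Z contained in the image of M, and let X be
an S-scheme separated over S with an action of the diagonalizable monoid scheme A(M)_S. Regard X as
a D(Z)_S-scheme through D(Z)_S → A(M)_S. Then the canonical map of attractors X^{f⁻¹Y ⊂ M} → X^{Y ⊂
Z} is an isomorphism: a D(Z)_S-equivariant family out of A(Y)_S is automatically A(M)_S-equivariant.
(The published statement allows X to be an algebraic space; here X is a scheme.) -/
theorem result (S : Scheme.{u}) (M Z : Type) [AddCommMonoid M]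
    [AddCommGroup Z] (f : M →+ Z) (hf : Function.Injective f) (Y : AddSubmonoid Z)
    (hY : Y ≤ AddMonoidHom.mrange f) (X : Over S) [IsSeparated X.hom]
    (a : Magnet.MonAct (Magnet.AMonS S M) X) :
    IsIso (Magnet.attrComap a f Y) := by
  -- the bijection `N ≃+ Y`
  let g' : (Y.comap f) →+ Y := (f.comp (Y.comap f).subtype).codRestrict Y (fun x => x.2)
  have hg'inj : Function.Injective g' := by
    intro x y hxy
    apply Subtype.ext
    apply hf
    exact congrArg Subtype.val hxy
  have hg'surj : Function.Surjective g' := by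
    rintro ⟨y, hy⟩
    obtain ⟨m, rfl⟩ := hY hy
    exact ⟨⟨m, hy⟩, rfl⟩
  let e : (Y.comap f) ≃+ Y := AddEquiv.ofBijective g' ⟨hg'inj, hg'surj⟩
  let ginv : Y →+ (Y.comap f) := e.symm.toAddMonoidHom
  have hcomp : g'.comp ginv = AddMonoidHom.id Y := by
    ext y
    exact congrArg Subtype.val (e.apply_symm_apply y)
  have hcomp2 : (f.comp (Y.comap f).subtype).comp ginv = Y.subtype := by
    ext y
    exact congrArg Subtype.val (e.apply_symm_apply y)
  have hAcomp : Magnet.AMonS.map S g' ≫ Magnet.AMonS.map S ginv = 𝟙 _ := by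
    rw [← Magnet.AMonS.map_comp, hcomp, Groth.Agent.S18288.AMonS_map_id]
  have hA2 : Magnet.AMonS.map S f ≫ Magnet.AMonS.map S (Y.comap f).subtype ≫
      Magnet.AMonS.map S ginv = Magnet.AMonS.map S Y.subtype := by
    rw [← Category.assoc, ← Magnet.AMonS.map_comp, ← Magnet.AMonS.map_comp, hcomp2]
  have : ∀ T : (Over S)ᵒᵖ, IsIso ((Magnet.attrComap a f Y).app T) := by
    intro T
    rw [isIso_iff_bijective]
    constructor
    · intro φ₁ φ₂ hφ
      apply Subtype.ext
      apply Groth.Agent.H91.whiskerRight_cancel S g' hg'inj (unop T) X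
      exact congrArg Subtype.val hφ
    · intro ψ
      have hψ := (Magnet.MonAct.mem_eqvHom_iff ψ.1).mp ψ.2
      let φ : Magnet.AMonS S (Y.comap f) ⊗ unop T ⟶ X :=
        (Magnet.AMonS.map S ginv ▷ unop T) ≫ ψ.1
      have hφeq : Magnet.MonAct.IsEquivariant
          ((Magnet.subAct S M (Y.comap f)).prod (Magnet.MonAct.trivial _ (unop T))) a φ := by
        unfold Magnet.MonAct.IsEquivariant
        apply Groth.Agent.H91.whiskerRight_cancel S f hf (Magnet.AMonS S (Y.comap f) ⊗ unop T) X
        apply Magnet.hom_ext_lift₂
        intro T' z w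
        obtain ⟨b, t, rfl⟩ : ∃ b t, w = lift b t :=
          ⟨w ≫ fst _ _, w ≫ snd _ _, (lift_comp_fst_snd w).symm⟩
        have hL : lift (z ≫ Magnet.AMonS.map S f) b ≫ (Magnet.subAct S M (Y.comap f)).act ≫
            Magnet.AMonS.map S ginv =
            lift z (b ≫ Magnet.AMonS.map S ginv) ≫ (Magnet.subAct S Z Y).act := by
          rw [Magnet.subAct, Magnet.subAct, Magnet.MonAct.lift_restrict_act_assoc,
            Magnet.MonAct.lift_regular_act_assoc, Magnet.MonAct.lift_restrict_act,
            Magnet.MonAct.lift_regular_act, MonObj.mul_comp, Category.assoc, Category.assoc, hA2]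
        rw [lift_whiskerRight_assoc, lift_whiskerRight_assoc, Magnet.MonAct.lift_prod_act_assoc,
          Magnet.MonAct.lift_trivial_act, lift_whiskerLeft_assoc]
        simp only [φ]
        rw [lift_whiskerRight_assoc, lift_whiskerRight_assoc, Category.assoc, hL, hψ,
          Magnet.MonAct.lift_restrict_act]
      refine ⟨⟨φ, hφeq⟩, ?_⟩
      apply Subtype.ext
      rw [Magnet.attrComap_app_coe]
      change (Magnet.AMonS.map S g' ▷ unop T) ≫ (Magnet.AMonS.map S ginv ▷ unop T) ≫ ψ.1 = ψ.1
      rw [← Category.assoc, ← comp_whiskerRight, hAcomp, id_whiskerRight, Category.id_comp]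
  exact NatIso.isIso_of_isIso_app _

end Groth.Agent.S18288
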