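import Groth.Statements.S18294
import Groth.Agent.H91.TensorSheaf

set_option autoImplicit false
universe u
open CategoryTheory MonoidalCategory CartesianMonoidalCategory MonObj AlgebraicGeometry Opposite
open Magnet


namespace Groth.Agent.S18294

open CategoryTheory MonoidalCategory CartesianMonoidalCategory MonObj AlgebraicGeometry Opposite
open Magnet

variable {S : Scheme.{u}} {A B X : Over S} [MonObj A]

/-- the subfunctor of equivariant maps inside `T ↦ Hom (B ⊗ T, X)` -/
def eqvSub (ρ : Magnet.MonAct A B) (a : Magnet.MonAct A X) :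
    Subfunctor ((tensorLeft B).op ⋙ yoneda.obj X) where
  obj T := {φ | Magnet.MonAct.IsEquivariant (ρ.prod (Magnet.MonAct.trivial A (unop T))) a φ}
  map {T T'} t φ hφ := by
    have h : Magnet.MonAct.IsEquivariant (ρ.prod (Magnet.MonAct.trivial A (unop T))) a φ := hφ
    change Magnet.MonAct.IsEquivariant (ρ.prod (Magnet.MonAct.trivial A (unop T'))) a
      ((B ◁ t.unop) ≫ φ)
    unfold Magnet.MonAct.IsEquivariant at h ⊢
    rw [Magnet.MonAct.prod_trivial_act_whiskerLeft_assoc, h, MonoidalCategory.whiskerLeft_comp,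
      Category.assoc]

end Groth.Agent.S18294

namespace Groth.Agent.S18294

/-- Let A be a monoid object in schemes over S acting on S-schemes B and X (in the source A is the
diagonalizable monoid scheme A(M)_S and B = A(N)_S for a magnet N, so that the functor below is the
attractor X^N). Then the functor on S-schemes T ↦ (morphisms B ×_S T → X over S equivariant for A
acting on the first factor) is a sheaf for the fppf topology. -/
theorem result (S : Scheme.{u}) (A B X : Over S) [MonObj A] (ρ : Magnet.MonAct A B)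
    (a : Magnet.MonAct A X) :
    Presheaf.IsSheaf (QuotSh.J Scheme.fppfPrecoverage S) (Magnet.MonAct.eqvHom ρ a) := by
  have hiso : Magnet.MonAct.eqvHom ρ a ≅ (Groth.Agent.S18294.eqvSub ρ a).toFunctor :=
    NatIso.ofComponents (fun T => Iso.refl _) (by
      intro T T' t
      rfl)
  rw [Presheaf.isSheaf_of_iso_iff hiso, isSheaf_iff_isSheaf_of_type]
  have hF := Groth.Agent.H91.isSheaf_tensorLeft_yoneda (S := S) Scheme.fppfTopology B X
  have hF₂ := Groth.Agent.H91.isSheaf_tensorLeft_tensorLeft_yoneda (S := S) Scheme.fppfTopology A B X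
  rw [Subfunctor.isSheaf_iff _ hF]
  intro T φ hcov
  change Magnet.MonAct.IsEquivariant (ρ.prod (Magnet.MonAct.trivial A (unop T))) a φ
  unfold Magnet.MonAct.IsEquivariant
  refine (hF₂.isSeparated _ hcov).ext ?_
  intro T' t ht
  have ht' : Magnet.MonAct.IsEquivariant (ρ.prod (Magnet.MonAct.trivial A T')) a
      ((B ◁ t) ≫ φ) := ht
  unfold Magnet.MonAct.IsEquivariant at ht'
  change (A ◁ (B ◁ t)) ≫ (ρ.prod (Magnet.MonAct.trivial A (unop T))).act ≫ φ =
    (A ◁ (B ◁ t)) ≫ (A ◁ φ) ≫ a.act
  rw [← Magnet.MonAct.prod_trivial_act_whiskerLeft_assoc, ht', MonoidalCategory.whiskerLeft_comp,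
    Category.assoc]

end Groth.Agent.S18294
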