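import Groth.Statements.S1834
import Groth.Agent.H93.CycBlow

set_option autoImplicit false
universe u
open CycAlg

namespace Groth.Agent.S1834

/-- Let R be a Noetherian local ring of dimension 1 and a, b nonzerodivisors. There is a finite
extension ring R ⊆ R' with R'/R killed by a power of the maximal ideal, and nonzerodivisors t, a',
b' of R' with a = t a', b = t b' and (a', b') the unit ideal of R'. -/
theorem result (R : Type u) [CommRing R] [IsNoetherianRing R] [IsLocalRing R] (hR : ringKrullDim R = 1) (a b : R) (ha : a ∈ nonZeroDivisors R) (hb : b ∈ nonZeroDivisors R) : ∃ (R' : Type u) (_ : CommRing R') (_ : Algebra R R'), CycAlg.IsFinExt R R' (IsLocalRing.maximalIdeal R) ∧ ∃ t a' b' : R', t ∈ nonZeroDivisors R' ∧ a' ∈ nonZeroDivisors R' ∧ b' ∈ nonZeroDivisors R' ∧ algebraMap R R' a = t * a' ∧ algebraMap R R' b = t * b' ∧ Ideal.span {a', b'} = ⊤ := by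
  classical
  haveI hdim : Ring.KrullDimLE 1 R := by
    rw [Ring.KrullDimLE, Order.krullDimLE_iff]
    exact le_of_eq hR
  by_cases hau : IsUnit a
  · refine ⟨R, inferInstance, Algebra.id R, ⟨Function.injective_id, Module.Finite.self R,
      0, fun r _ b' => ⟨r • b', rfl⟩⟩, 1, a, b, one_mem _, ha, hb, ?_, ?_, ?_⟩
    · simp
    · simp
    · rw [Ideal.eq_top_iff_one]
      obtain ⟨c, hc⟩ := hau.exists_left_inv
      rw [Ideal.mem_span_pair]
      exact ⟨c, 0, by rw [hc]; simp⟩
  · have ham : a ∈ IsLocalRing.maximalIdeal R := (IsLocalRing.mem_maximalIdeal a).2 hau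
    obtain ⟨R', hfin, ⟨n, hn⟩, t, a', b', ht, ha', hb', h1, h2, h3⟩ :=
      Groth.Agent.H93.CycBlow.exists_subalgebra_common_factor a b ha hb ham
    refine ⟨R', inferInstance, inferInstance, ⟨?_, hfin, n, fun r hr z => ?_⟩,
      t, a', b', ht, ha', hb', h1, h2, h3⟩
    · intro r1 r2 h
      have hinjT : Function.Injective (algebraMap R (Localization (nonZeroDivisors R))) :=
        IsLocalization.injective _ le_rfl
      exact hinjT (congrArg Subtype.val h)
    · obtain ⟨r', hr'⟩ := hn r hr z
      exact ⟨r', hr'⟩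

end Groth.Agent.S1834
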