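import Groth.Statements.S1835
import Mathlib

set_option autoImplicit false
set_option linter.style.haveILetI false
universe u
open CycAlg

namespace Groth.Agent.S1835

/-- Let R be a Noetherian local ring of dimension 1, a a nonzerodivisor in the maximal ideal and b a
nonzerodivisor. There is an integer n such that whenever b = a^m c in some finite extension ring R ⊆
R', one has m ≤ n. -/
theorem result (R : Type u) [CommRing R] [IsNoetherianRing R] [IsLocalRing R] (hR : ringKrullDim R = 1) (a b : R) (ha : a ∈ nonZeroDivisors R) (ham : a ∈ IsLocalRing.maximalIdeal R) (hb : b ∈ nonZeroDivisors R) : ∃ n : ℕ, ∀ (R' : Type u) [CommRing R'] [Algebra R R'], Function.Injective (algebraMap R R') → Module.Finite R R' → ∀ (m : ℕ) (c : R'), algebraMap R R' b = algebraMap R R' a ^ m * c → m ≤ n := by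
  classical
  -- step 1: some power of `a` lies in `(b)`
  haveI hdim : Ring.KrullDimLE 1 R := by
    rw [Ring.KrullDimLE, Order.krullDimLE_iff]
    exact le_of_eq hR
  have hprime : ∀ p : Ideal R, p.IsPrime → b ∈ p → p = IsLocalRing.maximalIdeal R := by
    intro p hp hbp
    rcases Ring.krullDimLE_one_iff.1 hdim p hp with hmin | hmax
    · exact absurd hb (Set.disjoint_left.1
        (Ideal.disjoint_nonZeroDivisors_of_mem_minimalPrimes hmin) hbp)
    · exact IsLocalRing.eq_maximalIdeal hmax
  have hrad : a ∈ (Ideal.span {b}).radical := by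
    rw [Ideal.radical_eq_sInf, Ideal.mem_sInf]
    rintro p ⟨hbp, hp⟩
    rw [hprime p hp (hbp (Ideal.mem_span_singleton_self b))]
    exact ham
  obtain ⟨k, hk⟩ := hrad
  obtain ⟨d, hd⟩ := Ideal.mem_span_singleton'.1 hk
  -- hd : d * b = a ^ k
  refine ⟨k, ?_⟩
  intro R' _ _ hinj hfin m c hbc
  by_contra hmk
  replace hmk : k < m := not_le.1 hmk
  haveI : Algebra.IsIntegral R R' := Algebra.IsIntegral.of_finite R R'
  -- a minimal prime `q` of `R`
  obtain ⟨q, hq⟩ := Ideal.nonempty_minimalPrimes (I := (⊥ : Ideal R)) (by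
    exact bot_ne_top)
  haveI hqp : q.IsPrime := hq.1.1
  have haq : a ∉ q := fun h => absurd ha (Set.disjoint_left.1
    (Ideal.disjoint_nonZeroDivisors_of_mem_minimalPrimes hq) h)
  obtain ⟨q', -, hq'p, hq'q⟩ := Ideal.exists_ideal_over_prime_of_isIntegral q (⊥ : Ideal R') (by
    rw [← RingHom.ker_eq_comap_bot, (RingHom.injective_iff_ker_eq_bot _).1 hinj]
    exact bot_le)
  have haq' : algebraMap R R' a ∉ q' := by
    intro h
    apply haq
    rw [← hq'q]
    exact h
  obtain ⟨M', hM', hq'M'⟩ := Ideal.exists_le_maximal q' hq'p.ne_top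
  haveI := hM'
  have hcomap : M'.comap (algebraMap R R') = IsLocalRing.maximalIdeal R :=
    IsLocalRing.eq_maximalIdeal (Ideal.isMaximal_comap_of_isIntegral_of_isMaximal M')
  have haM' : algebraMap R R' a ∈ M' := by
    have : a ∈ M'.comap (algebraMap R R') := by rw [hcomap]; exact ham
    exact this
  -- the key identity
  set α := algebraMap R R' a with hα
  have hkey : α ^ k * (1 - α ^ (m - k) * c * algebraMap R R' d) = 0 := by
    have h1 : α ^ k = algebraMap R R' d * algebraMap R R' b := by
      rw [← map_mul, hd, map_pow]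
    have h2 : α ^ m = α ^ k * α ^ (m - k) := by
      rw [← pow_add, Nat.add_sub_cancel' hmk.le]
    have h3 : α ^ k = α ^ k * (α ^ (m - k) * c * algebraMap R R' d) := by
      conv_lhs => rw [h1, hbc, h2]
      ring
    rw [mul_sub, mul_one, ← h3, sub_self]
  have hmem : 1 - α ^ (m - k) * c * algebraMap R R' d ∈ q' := by
    have : α ^ k * (1 - α ^ (m - k) * c * algebraMap R R' d) ∈ q' := by
      rw [hkey]; exact zero_mem _
    rcases hq'p.mem_or_mem this with h | h
    · exact absurd (hq'p.mem_of_pow_mem k h) haq'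
    · exact h
  have hmem2 : α ^ (m - k) * c * algebraMap R R' d ∈ M' := by
    apply Ideal.mul_mem_right
    apply Ideal.mul_mem_right
    exact Ideal.pow_mem_of_mem _ haM' _ (Nat.sub_pos_of_lt hmk)
  have : (1 : R') ∈ M' := by
    have := Ideal.add_mem _ (hq'M' hmem) hmem2
    rwa [sub_add_cancel] at this
  exact hM'.ne_top ((Ideal.eq_top_iff_one _).2 this)

end Groth.Agent.S1835
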