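import Groth.Statements.S18363
import Mathlib

set_option autoImplicit false
universe u
open CategoryTheory
open CAlg

namespace Groth.Agent.S18363

open IsLocalRing

section aux

variable {B : Type*} [CommRing B]

/-- in a reduced ring an element outside all minimal primes is a nonzerodivisor -/
theorem mem_nonZeroDivisors_of_forall_notMem_minimalPrimes [IsReduced B] (b : B)
    (hb : ∀ p ∈ minimalPrimes B, b ∉ p) : b ∈ nonZeroDivisors B := by
  rw [mem_nonZeroDivisors_iff_right]
  intro c hc
  have h1 : c ∈ sInf (minimalPrimes B) := by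
    rw [Submodule.mem_sInf]
    intro p hp
    have h2 : c * b ∈ p := hc ▸ p.zero_mem
    exact (hp.1.1.mem_or_mem h2).resolve_right (hb p hp)
  rw [minimalPrimes, Ideal.sInf_minimalPrimes] at h1
  have h3 : (⊥ : Ideal B).radical = ⊥ := nilradical_eq_zero B
  rw [h3] at h1
  exact (Submodule.mem_bot B).mp h1

theorem exists_mem_nonZeroDivisors [IsNoetherianRing B] [IsLocalRing B] [IsReduced B]
    (hdim : ringKrullDim B = 1) (P' : Ideal B) (n : ℕ) (hP' : maximalIdeal B ^ n ≤ P') :
    ∃ b ∈ P', b ∈ nonZeroDivisors B := by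
  classical
  by_contra hcon
  push Not at hcon
  have hfin := minimalPrimes.finite_of_isNoetherianRing B
  have hsub : (P' : Set B) ⊆ ⋃ p ∈ (hfin.toFinset : Set (Ideal B)), ((id p : Ideal B) : Set B) := by
    intro b hb
    by_contra hnot
    apply hcon b hb
    apply mem_nonZeroDivisors_of_forall_notMem_minimalPrimes
    intro p hp hbp
    apply hnot
    simp only [Set.Finite.coe_toFinset, id_eq, Set.mem_iUnion, SetLike.mem_coe, exists_prop]
    exact ⟨p, hp, hbp⟩
  rw [Ideal.subset_union_prime (⊥ : Ideal B) ⊥ (by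
    intro p hp _ _
    rw [Set.Finite.mem_toFinset] at hp
    exact hp.1.1)] at hsub
  obtain ⟨p, hp, hle⟩ := hsub
  rw [Set.Finite.mem_toFinset] at hp
  haveI : p.IsPrime := hp.1.1
  have hm : maximalIdeal B ≤ p := Ideal.IsPrime.le_of_pow_le (hP'.trans hle)
  have hpm : p = maximalIdeal B :=
    le_antisymm (IsLocalRing.le_maximalIdeal (Ideal.IsPrime.ne_top inferInstance)) hm
  have h0 : (maximalIdeal B).height = 0 := Ideal.height_eq_zero_iff.mpr (hpm ▸ hp)
  have h1 := IsLocalRing.maximalIdeal_height_eq_ringKrullDim (R := B)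
  rw [h0, hdim] at h1
  exact absurd h1 (by norm_num)

end aux

/-- Let R be a Noetherian local ring with maximal ideal m, and P, Q ideals of R such that P + Q contains
a power of m while R/P and R/Q are both reduced of Krull dimension one. Let I and J be nonzero
finitely generated R-modules with P·I = 0 and Q·J = 0, such that every element of R whose class in
R/P is a non-zero-divisor acts injectively on I, and every element whose class in R/Q is a
non-zero-divisor acts injectively on J. Then the group Ext¹_R(I, J) is nonzero. (This is the stalk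
statement behind the existence of a non-split extension of a torsion-free rank-one sheaf on a
subcurve Y by one on a subcurve Z of a reduced projective curve, at a point where Y and Z meet
without sharing a component; in that situation the modules moreover have rank one at the generic
points of their supports and P ∩ Q = 0, two assumptions the argument does not use.) -/
theorem result
    (R : Type u) [CommRing R] [IsNoetherianRing R] [IsLocalRing R]
    (P Q : Ideal R) (hPQ : ∃ n : ℕ, IsLocalRing.maximalIdeal R ^ n ≤ P ⊔ Q)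
    [IsReduced (R ⧸ P)] [IsReduced (R ⧸ Q)]
    (hPdim : ringKrullDim (R ⧸ P) = 1) (hQdim : ringKrullDim (R ⧸ Q) = 1)
    (I J : Type u) [AddCommGroup I] [Module R I] [Module.Finite R I] [Nontrivial I]
    [AddCommGroup J] [Module R J] [Module.Finite R J] [Nontrivial J]
    (hPI : ∀ p ∈ P, ∀ x : I, p • x = 0) (hQJ : ∀ q ∈ Q, ∀ y : J, q • y = 0)
    (hItf : ∀ r : R, Ideal.Quotient.mk P r ∈ nonZeroDivisors (R ⧸ P) → ∀ x : I, r • x = 0 → x = 0)
    (hJtf : ∀ r : R, Ideal.Quotient.mk Q r ∈ nonZeroDivisors (R ⧸ Q) → ∀ y : J, r • y = 0 → y = 0) :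
    Nontrivial (Abelian.Ext (ModuleCat.of R I) (ModuleCat.of R J) 1) := by
  classical
  obtain ⟨n, hn⟩ := hPQ
  haveI : Nontrivial (R ⧸ Q) := by
    by_contra h
    rw [not_nontrivial_iff_subsingleton] at h
    rw [ringKrullDim_eq_bot_of_subsingleton] at hQdim
    exact absurd hQdim (by simp)
  haveI : IsLocalRing (R ⧸ Q) :=
    IsLocalRing.of_surjective' (Ideal.Quotient.mk Q) Ideal.Quotient.mk_surjective
  have hP' : maximalIdeal (R ⧸ Q) ^ n ≤ P.map (Ideal.Quotient.mk Q) := by
    rw [← IsLocalRing.map_maximalIdeal_of_surjective (Ideal.Quotient.mk Q)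
      Ideal.Quotient.mk_surjective, ← Ideal.map_pow]
    refine (Ideal.map_mono hn).trans ?_
    rw [Ideal.map_sup, Ideal.map_quotient_self, sup_bot_eq]
  obtain ⟨b, hbP, hb⟩ := exists_mem_nonZeroDivisors hQdim _ n hP'
  obtain ⟨t, htP, rfl⟩ := (Ideal.mem_map_iff_of_surjective _ Ideal.Quotient.mk_surjective).mp hbP
  have htJ : IsSMulRegular J t := by
    intro y₁ y₂ h
    rw [← sub_eq_zero]
    apply hJtf t hb
    change t • y₁ = t • y₂ at h
    rw [smul_sub, h, sub_self]
  have htI : ∀ x : I, t • x = 0 := hPI t htP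
  have hHom : ∀ φ : I →ₗ[R] J, φ = 0 := by
    intro φ
    ext x
    apply htJ
    change t • φ x = t • (0 : I →ₗ[R] J) x
    rw [LinearMap.zero_apply, smul_zero, ← map_smul, htI, map_zero]
  -- `t` lies in the maximal ideal
  have htm : t ∈ maximalIdeal R := by
    rw [IsLocalRing.mem_maximalIdeal, mem_nonunits_iff]
    intro hu
    obtain ⟨x, hx⟩ := exists_ne (0 : I)
    exact hx ((hu.smul_eq_zero).mp (htI x))
  haveI hXnt : Nontrivial (QuotSMulTop t J) := nontrivial_quotSMulTop_of_mem_maximalIdeal J htm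
  -- a socle element of `X = J/tJ`
  obtain ⟨z, hz0, hzm⟩ : ∃ z : QuotSMulTop t J, z ≠ 0 ∧ ∀ r ∈ maximalIdeal R, r • z = 0 := by
    obtain ⟨p, hp⟩ := associatedPrimes.nonempty R (QuotSMulTop t J)
    rw [AssociatedPrimes.mem_iff, isAssociatedPrime_iff] at hp
    obtain ⟨hpp, z, hz⟩ := hp
    have hmem : ∀ r : R, r ∈ p ↔ r • z = 0 := by
      intro r
      rw [hz, Submodule.mem_colon_singleton, Submodule.mem_bot]
    have hQp : Q ≤ p := by
      intro q hq
      rw [hmem]
      obtain ⟨y, rfl⟩ := Submodule.Quotient.mk_surjective _ z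
      rw [← Submodule.Quotient.mk_smul, hQJ q hq y, Submodule.Quotient.mk_zero]
    have htp : t ∈ p := by
      rw [hmem]
      obtain ⟨y, rfl⟩ := Submodule.Quotient.mk_surjective _ z
      rw [← Submodule.Quotient.mk_smul, Submodule.Quotient.mk_eq_zero]
      exact Submodule.smul_mem_pointwise_smul y t ⊤ trivial
    -- the image of `p` in `R ⧸ Q` is the maximal ideal
    have hker : RingHom.ker (Ideal.Quotient.mk Q) ≤ p := by rwa [Ideal.mk_ker]
    haveI hp' : (p.map (Ideal.Quotient.mk Q)).IsPrime :=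
      Ideal.map_isPrime_of_surjective Ideal.Quotient.mk_surjective hker
    have htp' : Ideal.Quotient.mk Q t ∈ p.map (Ideal.Quotient.mk Q) := Ideal.mem_map_of_mem _ htp
    have hnotmin : p.map (Ideal.Quotient.mk Q) ∉ minimalPrimes (R ⧸ Q) := fun h =>
      Set.disjoint_left.mp (Ideal.disjoint_nonZeroDivisors_of_mem_minimalPrimes h) htp' hb
    have h1 : (p.map (Ideal.Quotient.mk Q)).height ≠ 0 := fun h =>
      hnotmin (Ideal.height_eq_zero_iff.mp h)
    have hle : p.map (Ideal.Quotient.mk Q) ≤ maximalIdeal (R ⧸ Q) :=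
      IsLocalRing.le_maximalIdeal hp'.ne_top
    have heq : p.map (Ideal.Quotient.mk Q) = maximalIdeal (R ⧸ Q) := by
      by_contra hne
      have hlt : p.map (Ideal.Quotient.mk Q) < maximalIdeal (R ⧸ Q) := lt_of_le_of_ne hle hne
      have h2 := Ideal.height_strict_mono_of_isPrime_of_isPrime hlt
      have hm : (maximalIdeal (R ⧸ Q)).height = 1 := by
        have h3 := IsLocalRing.maximalIdeal_height_eq_ringKrullDim (R := R ⧸ Q)
        rw [hQdim] at h3
        exact_mod_cast h3
      rw [hm] at h2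
      exact h1 (ENat.lt_one_iff_eq_zero.mp h2)
    have hpm : p = maximalIdeal R := by
      have h4 := congrArg (Ideal.comap (Ideal.Quotient.mk Q)) heq
      rw [Ideal.comap_map_of_surjective _ Ideal.Quotient.mk_surjective, ← RingHom.ker_eq_comap_bot,
        sup_eq_left.mpr hker] at h4
      rw [h4]
      haveI : IsLocalHom (Ideal.Quotient.mk Q) :=
        IsLocalHom.of_surjective _ Ideal.Quotient.mk_surjective
      exact IsLocalRing.maximalIdeal_comap (Ideal.Quotient.mk Q)
    refine ⟨z, ?_, ?_⟩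
    · intro hz0
      apply hpp.ne_top
      rw [Ideal.eq_top_iff_one, hmem, hz0, smul_zero]
    · intro r hr
      rw [← hmem, hpm]
      exact hr
  -- a nonzero map `I → J/tJ`
  obtain ⟨ψ, hψ⟩ : ∃ ψ : I →ₗ[R] QuotSMulTop t J, ψ ≠ 0 := by
    obtain h | ⟨I', hI', -⟩ := IsCoatomic.eq_top_or_exists_le_coatom (⊥ : Submodule R I)
    · exact absurd h bot_ne_top
    have hsimple : IsSimpleModule R (I ⧸ I') := isSimpleModule_iff_isCoatom.mpr hI'
    obtain ⟨𝔫, h𝔫, ⟨e⟩⟩ := isSimpleModule_iff_quot_maximal.mp hsimple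
    have h𝔫m : 𝔫 = maximalIdeal R := IsLocalRing.eq_maximalIdeal h𝔫
    subst h𝔫m
    let ζ : (R ⧸ maximalIdeal R) →ₗ[R] QuotSMulTop t J :=
      Submodule.liftQ (maximalIdeal R) (LinearMap.toSpanSingleton R _ z) (by
        intro r hr
        rw [LinearMap.mem_ker, LinearMap.toSpanSingleton_apply]
        exact hzm r hr)
    refine ⟨ζ ∘ₗ e.toLinearMap ∘ₗ I'.mkQ, ?_⟩
    intro h0
    obtain ⟨i, hi⟩ := (e.surjective.comp (Submodule.mkQ_surjective I'))
      (Submodule.Quotient.mk (1 : R))
    have h1 := LinearMap.congr_fun h0 i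
    rw [LinearMap.comp_apply, LinearMap.comp_apply, LinearMap.zero_apply] at h1
    change ζ ((⇑e ∘ ⇑I'.mkQ) i) = 0 at h1
    rw [hi] at h1
    change LinearMap.toSpanSingleton R _ z 1 = 0 at h1
    rw [LinearMap.toSpanSingleton_apply, one_smul] at h1
    exact hz0 h1
  -- conclude with the long exact sequence
  have hSES := (show IsSMulRegular (ModuleCat.of R J) t from htJ).smulShortComplex_shortExact
  by_contra hnt
  rw [not_nontrivial_iff_subsingleton] at hnt
  apply hψ
  have h1 : (Abelian.Ext.mk₀ (ModuleCat.ofHom ψ)).comp hSES.extClass (zero_add 1) = 0 :=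
    @Subsingleton.elim _ hnt _ _
  obtain ⟨x₂, hx₂⟩ := Abelian.Ext.covariant_sequence_exact₃ (ModuleCat.of R I) hSES
    (Abelian.Ext.mk₀ (ModuleCat.ofHom ψ)) (zero_add 1) h1
  obtain ⟨φ, rfl⟩ := (Abelian.Ext.mk₀_bijective _ _).2 x₂
  have hφ : φ = 0 := by
    ext x
    exact LinearMap.congr_fun (hHom φ.hom) x
  rw [hφ, Abelian.Ext.mk₀_zero, Abelian.Ext.zero_comp] at hx₂
  have h2 := (Abelian.Ext.mk₀_eq_zero_iff _).mp hx₂.symm
  have h3 := congrArg ModuleCat.Hom.hom h2
  exact h3

end Groth.Agent.S18363
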