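import Groth.Statements.S18364
import Groth.Agent.H91.LocKer

set_option autoImplicit false
universe u
open CAlg

namespace Groth.Agent.S18364

/-- Let A be a Noetherian ring, π an element of A, and (𝔓_i)_{i ∈ ι} an injective finite family listing
exactly the minimal prime ideals over (π). Let M be a finitely generated A-module and M̄ = M/πM. For
a subset T of ι let K(T) ⊆ M̄ be the submodule of elements whose image in the localisation of M̄ at
𝔓_i is zero for every i ∈ T, and N(T) ⊆ M its preimage in M. Assume K(ι) = 0, i.e. no nonzero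
element of M̄ vanishes at all the minimal primes (every associated prime of M̄ is one of the 𝔓_i).
Then for every subset Y of ι with complement Z one has N(Y) ∩ N(Z) = πM, and the same construction
applied to the module N(Y) instead of M — the preimage in N(Y) of the elements of N(Y)/πN(Y)
vanishing at every 𝔓_i with i ∈ Z — is, as a submodule of M, equal to N(Y) ∩ N(Z). (Geometric
meaning: A is the local ring of a flat family of curves over a discrete valuation ring with
uniformizer π at a point of the reduced special fibre, M the stalk of a torsion-free rank-one sheaf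
I, Y a set of components of the special fibre through the point, and N(Y) the stalk of the kernel
I^Y of I → I(s)_Y; the statement is (I^Y)^Z = I^Y ∩ I^Z = πI. Reducedness of A/πA, flatness and rank
one are not used.) -/
theorem result
    (A : Type u) [CommRing A] [IsNoetherianRing A] (π : A)
    (ι : Type) [Finite ι] (𝔓 : ι → Ideal A) [∀ i, (𝔓 i).IsPrime]
    (h𝔓 : ∀ i, 𝔓 i ∈ (Ideal.span {π}).minimalPrimes) (h𝔓inj : Function.Injective 𝔓)
    (h𝔓surj : ∀ 𝔔 ∈ (Ideal.span {π}).minimalPrimes, ∃ i, 𝔓 i = 𝔔)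
    (M : Type u) [AddCommGroup M] [Module A M] [Module.Finite A M]
    (K : Set ι → Submodule A (M ⧸ Ideal.span {π} • (⊤ : Submodule A M)))
    (hK : ∀ T : Set ι, K T = ⨅ i ∈ T, LinearMap.ker
      (LocalizedModule.mkLinearMap (𝔓 i).primeCompl (M ⧸ Ideal.span {π} • (⊤ : Submodule A M))))
    (htf : K Set.univ = ⊥)
    (N : Set ι → Submodule A M)
    (hN : ∀ T : Set ι, N T = (K T).comap (Submodule.mkQ (Ideal.span {π} • (⊤ : Submodule A M))))
    (Y : Set ι) :
    N Y ⊓ N Yᶜ = Ideal.span {π} • (⊤ : Submodule A M) ∧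
    Submodule.map (N Y).subtype
      ((⨅ i ∈ Yᶜ, LinearMap.ker (LocalizedModule.mkLinearMap (𝔓 i).primeCompl
          (↥(N Y) ⧸ Ideal.span {π} • (⊤ : Submodule A ↥(N Y))))).comap
        (Submodule.mkQ (Ideal.span {π} • (⊤ : Submodule A ↥(N Y)))))
      = N Y ⊓ N Yᶜ := by
  classical
  have hfin : ∀ T : Set ι, T.Finite := fun T => Set.toFinite T
  have memN : ∀ (T : Set ι) (m : M), m ∈ N T ↔
      ∀ i ∈ T, ∃ s : A, s ∉ 𝔓 i ∧ ∃ m' : M, π • m' = s • m := by
    intro T m
    rw [hN, Submodule.mem_comap, hK]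
    exact Groth.Agent.H91.mkQ_mem_iInf_ker_iff π 𝔓 T m
  have part1 : N Y ⊓ N Yᶜ = Ideal.span {π} • (⊤ : Submodule A M) := by
    rw [hN, hN, ← Submodule.comap_inf]
    have : K Y ⊓ K Yᶜ = K Set.univ := by
      rw [hK, hK, hK, ← iInf_union, Set.union_compl_self]
    rw [this, htf, Submodule.comap_bot, Submodule.ker_mkQ]
  refine ⟨part1, ?_⟩
  ext m
  constructor
  · rintro ⟨n, hn, rfl⟩
    rw [SetLike.mem_coe, Submodule.mem_comap, Groth.Agent.H91.mkQ_mem_iInf_ker_iff] at hn
    refine ⟨n.2, (memN _ _).mpr fun i hi => ?_⟩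
    obtain ⟨s, hs, n', h⟩ := hn i hi
    exact ⟨s, hs, n'.1, congrArg Subtype.val h⟩
  · intro hm
    have hmY : m ∈ N Y := hm.1
    rw [part1, Groth.Agent.H91.mem_span_smul_top] at hm
    obtain ⟨m', rfl⟩ := hm
    refine ⟨⟨π • m', hmY⟩, ?_, rfl⟩
    rw [SetLike.mem_coe, Submodule.mem_comap, Groth.Agent.H91.mkQ_mem_iInf_ker_iff]
    intro i hi
    obtain ⟨s, hs, H⟩ :=
      Groth.Agent.H91.exists_notMem_forall_mul_mem π 𝔓 h𝔓 h𝔓inj i Y (hfin Y) hi
    have hsm : s • m' ∈ N Y := by
      refine (memN Y _).mpr fun j hj => ?_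
      obtain ⟨u, hu, hus⟩ := H j hj
      obtain ⟨c, hc⟩ := Ideal.mem_span_singleton'.mp hus
      exact ⟨u, hu, c • m', by rw [smul_smul, smul_smul, mul_comm π c, hc]⟩
    exact ⟨s, hs, ⟨s • m', hsm⟩, Subtype.ext (smul_comm _ _ _)⟩

end Groth.Agent.S18364
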