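import Groth.Statements.S18365
import Groth.Agent.H91.LocKer

set_option autoImplicit false
universe u
open CAlg

namespace Groth.Agent.S18365

/-- Let A be a Noetherian ring, π an element of A, (𝔓_i)_{i ∈ ι} an injective finite family listing
exactly the minimal prime ideals over (π), and M a finitely generated A-module on which π acts
injectively; put M̄ = M/πM. For T ⊆ ι let K(T) ⊆ M̄ be the submodule of elements whose image in the
localisation of M̄ at 𝔓_i vanishes for every i ∈ T, and N(T) ⊆ M its preimage; assume K(ι) = 0.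
Suppose that M̄ decomposes at Y, i.e. K(Y) + K(Yᶜ) = M̄, and that for a subset Z the module
N(Y)/πN(Y) decomposes at Z, i.e. its submodule of elements vanishing at every 𝔓_i (i ∈ Z) and its
submodule of elements vanishing at every 𝔓_i (i ∉ Z) together span it. Then M̄ decomposes at Z: K(Z)
+ K(Zᶜ) = M̄. (Geometric meaning: for a flat family of curves over a discrete valuation ring with
uniformizer π, I a torsion-free rank-one sheaf flat over the base, Y a subcurve of the special fibre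
X(s) at which I(s) decomposes and I^Y = ker(I → I(s)_Y): if I^Y(s) decomposes at a subcurve Z then
so does I(s); decomposition of a sheaf at Z is the surjectivity of I(s) → I(s)_Z ⊕ I(s)_{Z^c},
checked on stalks. Reducedness of the special fibre and rank one are not used.) -/
theorem result
    (A : Type u) [CommRing A] [IsNoetherianRing A] (π : A)
    (ι : Type) [Finite ι] (𝔓 : ι → Ideal A) [∀ i, (𝔓 i).IsPrime]
    (h𝔓 : ∀ i, 𝔓 i ∈ (Ideal.span {π}).minimalPrimes) (h𝔓inj : Function.Injective 𝔓)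
    (h𝔓surj : ∀ 𝔔 ∈ (Ideal.span {π}).minimalPrimes, ∃ i, 𝔓 i = 𝔔)
    (M : Type u) [AddCommGroup M] [Module A M] [Module.Finite A M]
    (hπ : ∀ m : M, π • m = 0 → m = 0)
    (K : Set ι → Submodule A (M ⧸ Ideal.span {π} • (⊤ : Submodule A M)))
    (hK : ∀ T : Set ι, K T = ⨅ i ∈ T, LinearMap.ker
      (LocalizedModule.mkLinearMap (𝔓 i).primeCompl (M ⧸ Ideal.span {π} • (⊤ : Submodule A M))))
    (htf : K Set.univ = ⊥)
    (N : Set ι → Submodule A M)
    (hN : ∀ T : Set ι, N T = (K T).comap (Submodule.mkQ (Ideal.span {π} • (⊤ : Submodule A M))))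
    (Y Z : Set ι) (hY : K Y ⊔ K Yᶜ = ⊤)
    (K' : Set ι → Submodule A (↥(N Y) ⧸ Ideal.span {π} • (⊤ : Submodule A ↥(N Y))))
    (hK' : ∀ T : Set ι, K' T = ⨅ i ∈ T, LinearMap.ker
      (LocalizedModule.mkLinearMap (𝔓 i).primeCompl (↥(N Y) ⧸ Ideal.span {π} • (⊤ : Submodule A ↥(N Y)))))
    (hZ : K' Z ⊔ K' Zᶜ = ⊤) :
    K Z ⊔ K Zᶜ = ⊤ := by
  classical
  have one_notMem : ∀ i, (1 : A) ∉ 𝔓 i := fun i =>
    (Ideal.ne_top_iff_one _).mp (Ideal.IsPrime.ne_top inferInstance)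
  have F1 : ∀ (T : Set ι) (m : M), Submodule.mkQ (Ideal.span {π} • (⊤ : Submodule A M)) m ∈ K T ↔
      ∀ i ∈ T, ∃ s : A, s ∉ 𝔓 i ∧ ∃ m' : M, π • m' = s • m := by
    intro T m; rw [hK]; exact Groth.Agent.H91.mkQ_mem_iInf_ker_iff π 𝔓 T m
  have F2 : ∀ (T : Set ι) (n : N Y), Submodule.mkQ (Ideal.span {π} • (⊤ : Submodule A ↥(N Y))) n ∈ K' T ↔
      ∀ i ∈ T, ∃ s : A, s ∉ 𝔓 i ∧ ∃ n' : N Y, π • n' = s • n := by
    intro T n; rw [hK']; exact Groth.Agent.H91.mkQ_mem_iInf_ker_iff π 𝔓 T n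
  have F4 : ∀ (T : Set ι) (m : M), m ∈ N T ↔ Submodule.mkQ (Ideal.span {π} • (⊤ : Submodule A M)) m ∈ K T := by
    intro T m; rw [hN]; rfl
  have Kinf : ∀ S T : Set ι, K S ⊓ K T = K (S ∪ T) := by
    intro S T; rw [hK, hK, hK, iInf_union]
  have Kbot : K Y ⊓ K Yᶜ = ⊥ := by rw [Kinf, Set.union_compl_self, htf]
  have mk0 : ∀ m : M, Submodule.mkQ (Ideal.span {π} • (⊤ : Submodule A M)) m = 0 ↔ ∃ m', π • m' = m := by
    intro m
    rw [Submodule.mkQ_apply, Submodule.Quotient.mk_eq_zero, Groth.Agent.H91.mem_span_smul_top]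
  have mk0' : ∀ n : N Y, Submodule.mkQ (Ideal.span {π} • (⊤ : Submodule A ↥(N Y))) n = 0 ↔ ∃ n', π • n' = n := by
    intro n
    rw [Submodule.mkQ_apply, Submodule.Quotient.mk_eq_zero, Groth.Agent.H91.mem_span_smul_top]
  have F3 : ∀ (T : Set ι) (n : N Y), Submodule.mkQ (Ideal.span {π} • (⊤ : Submodule A ↥(N Y))) n ∈ K' T → Submodule.mkQ (Ideal.span {π} • (⊤ : Submodule A M)) n.1 ∈ K T := by
    intro T n h
    rw [F2] at h; rw [F1]
    intro i hi
    obtain ⟨s, hs, n', h'⟩ := h i hi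
    exact ⟨s, hs, n'.1, congrArg Subtype.val h'⟩
  have key : ∀ (T : Set ι) (n : N Y), Submodule.mkQ (Ideal.span {π} • (⊤ : Submodule A ↥(N Y))) n ∈ K' T → Submodule.mkQ (Ideal.span {π} • (⊤ : Submodule A ↥(N Y))) n ∈ K' Yᶜ →
      ∃ mT : M, n.1 = π • mT ∧ ∃ k ∈ K Y, ∃ k' ∈ K Yᶜ ⊓ K T, Submodule.mkQ (Ideal.span {π} • (⊤ : Submodule A M)) mT = k + k' := by
    intro T n hT hYc
    have h1 : Submodule.mkQ (Ideal.span {π} • (⊤ : Submodule A M)) n.1 ∈ K Y ⊓ K Yᶜ := ⟨(F4 Y n.1).mp n.2, F3 _ _ hYc⟩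
    rw [Kbot, Submodule.mem_bot, mk0] at h1
    obtain ⟨mT, hmT⟩ := h1
    refine ⟨mT, hmT.symm, ?_⟩
    have : Submodule.mkQ (Ideal.span {π} • (⊤ : Submodule A M)) mT ∈ K Y ⊔ K Yᶜ := by rw [hY]; trivial
    obtain ⟨k, hk, k', hk', hkk⟩ := Submodule.mem_sup.mp this
    refine ⟨k, hk, k', ⟨hk', ?_⟩, hkk.symm⟩
    rw [hK]
    rw [SetLike.mem_coe]
    simp only [Submodule.mem_iInf, LocalizedModule.mem_ker_mkLinearMap_iff]
    intro i hi
    obtain ⟨s, hs, n1, hn1⟩ := (F2 T n).mp hT i hi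
    refine ⟨s, hs, ?_⟩
    have e1 : n1.1 = s • mT := by
      have := congrArg Subtype.val hn1
      simp only [Submodule.coe_smul] at this
      rw [← hmT, smul_comm] at this
      have h0 : π • (n1.1 - s • mT) = 0 := by rw [smul_sub, this, sub_self]
      exact sub_eq_zero.mp (hπ _ h0)
    have e2 : s • Submodule.mkQ (Ideal.span {π} • (⊤ : Submodule A M)) mT ∈ K Y := by
      rw [← map_smul, ← e1]; exact (F4 Y _).mp n1.2
    have e3 : s • k' ∈ K Y := by
      have : s • k' = s • Submodule.mkQ (Ideal.span {π} • (⊤ : Submodule A M)) mT - s • k := by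
        rw [← hkk, smul_add, add_sub_cancel_left]
      rw [this]; exact Submodule.sub_mem _ e2 (Submodule.smul_mem _ _ hk)
    have : s • k' ∈ K Y ⊓ K Yᶜ := ⟨e3, Submodule.smul_mem _ _ hk'⟩
    rw [Kbot] at this
    exact this
  have ha : K Y ≤ K Z ⊔ K Zᶜ := by
    intro x hx
    obtain ⟨m, rfl⟩ := Submodule.mkQ_surjective _ x
    have hmY : m ∈ N Y := (F4 Y m).mpr hx
    have : Submodule.mkQ (Ideal.span {π} • (⊤ : Submodule A ↥(N Y))) (⟨m, hmY⟩ : N Y) ∈ K' Z ⊔ K' Zᶜ := by rw [hZ]; trivial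
    obtain ⟨a, ha', b, hb', hab⟩ := Submodule.mem_sup.mp this
    obtain ⟨na, rfl⟩ := Submodule.mkQ_surjective _ a
    obtain ⟨nb, rfl⟩ := Submodule.mkQ_surjective _ b
    rw [← map_add, ← sub_eq_zero, ← map_sub, mk0'] at hab
    obtain ⟨n', hn'⟩ := hab
    have e : m = na.1 + nb.1 - π • n'.1 := by
      have := congrArg Subtype.val hn'
      simp only [Submodule.coe_smul, Submodule.coe_sub, Submodule.coe_add] at this
      rw [this]; abel
    rw [e, map_sub, map_add]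
    have h0 : Submodule.mkQ (Ideal.span {π} • (⊤ : Submodule A M)) (π • n'.1) = 0 := (mk0 _).mpr ⟨_, rfl⟩
    rw [h0, sub_zero]
    exact Submodule.add_mem_sup (F3 Z na ha') (F3 Zᶜ nb hb')
  have hb : K Yᶜ ≤ K Z ⊔ K Zᶜ := by
    intro x hx
    obtain ⟨m, rfl⟩ := Submodule.mkQ_surjective _ x
    have hπm : π • m ∈ N Y := by
      rw [F4, F1]; intro i _; exact ⟨1, one_notMem i, m, (one_smul _ _).symm⟩
    have hnYc : Submodule.mkQ (Ideal.span {π} • (⊤ : Submodule A ↥(N Y))) (⟨π • m, hπm⟩ : N Y) ∈ K' Yᶜ := by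
      rw [F2]; intro i hi
      obtain ⟨s, hs, m', hm'⟩ := (F1 Yᶜ m).mp hx i hi
      have : s • m ∈ N Y := by
        rw [← hm', F4, F1]; intro j _; exact ⟨1, one_notMem j, m', (one_smul _ _).symm⟩
      exact ⟨s, hs, ⟨s • m, this⟩, Subtype.ext (smul_comm _ _ _)⟩
    have : Submodule.mkQ (Ideal.span {π} • (⊤ : Submodule A ↥(N Y))) (⟨π • m, hπm⟩ : N Y) ∈ K' Z ⊔ K' Zᶜ := by rw [hZ]; trivial
    obtain ⟨a, ha', b, hb', hab⟩ := Submodule.mem_sup.mp this
    have hsplit : a ∈ K' Yᶜ ∧ b ∈ K' Yᶜ := by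
      rw [hK'] at ha' hb' hnYc ⊢
      simp only [Submodule.mem_iInf] at ha' hb' hnYc ⊢
      constructor
      · intro i hi
        by_cases hiZ : i ∈ Z
        · exact ha' i hiZ
        · have : a = Submodule.mkQ (Ideal.span {π} • (⊤ : Submodule A ↥(N Y))) (⟨π • m, hπm⟩ : N Y) - b := by
            rw [← hab, add_sub_cancel_right]
          rw [this]; exact Submodule.sub_mem _ (hnYc i hi) (hb' i hiZ)
      · intro i hi
        by_cases hiZ : i ∈ Z
        · have : b = Submodule.mkQ (Ideal.span {π} • (⊤ : Submodule A ↥(N Y))) (⟨π • m, hπm⟩ : N Y) - a := by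
            rw [← hab, add_sub_cancel_left]
          rw [this]; exact Submodule.sub_mem _ (hnYc i hi) (ha' i hiZ)
        · exact hb' i hiZ
    obtain ⟨na, rfl⟩ := Submodule.mkQ_surjective _ a
    obtain ⟨nb, rfl⟩ := Submodule.mkQ_surjective _ b
    obtain ⟨ma, hma, ka, hka, ka', hka', ea⟩ := key Z na ha' hsplit.1
    obtain ⟨mb, hmb, kb, hkb, kb', hkb', eb⟩ := key Zᶜ nb hb' hsplit.2
    rw [← map_add, ← sub_eq_zero, ← map_sub, mk0'] at hab
    obtain ⟨n', hn'⟩ := hab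
    have e : π • n'.1 = π • ma + π • mb - π • m := by
      have := congrArg Subtype.val hn'
      simp only [Submodule.coe_smul, Submodule.coe_sub, Submodule.coe_add] at this
      rw [this, hma, hmb]
    have em : m = ma + mb - n'.1 := by
      have h0 : π • (m - (ma + mb - n'.1)) = 0 := by
        rw [smul_sub, smul_sub, smul_add, e]; abel
      exact sub_eq_zero.mp (hπ _ h0)
    have hn'Y : Submodule.mkQ (Ideal.span {π} • (⊤ : Submodule A M)) n'.1 ∈ K Y := (F4 Y _).mp n'.2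
    set x := Submodule.mkQ (Ideal.span {π} • (⊤ : Submodule A M)) m with hx_def
    have ex : x = (ka + kb - Submodule.mkQ (Ideal.span {π} • (⊤ : Submodule A M)) n'.1) + (ka' + kb') := by
      rw [hx_def, em, map_sub, map_add, ea, eb]; abel
    have h1 : ka + kb - Submodule.mkQ (Ideal.span {π} • (⊤ : Submodule A M)) n'.1 ∈ K Y :=
      Submodule.sub_mem _ (Submodule.add_mem _ hka hkb) hn'Y
    have h2 : ka + kb - Submodule.mkQ (Ideal.span {π} • (⊤ : Submodule A M)) n'.1 ∈ K Yᶜ := by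
      have : ka + kb - Submodule.mkQ (Ideal.span {π} • (⊤ : Submodule A M)) n'.1 = x - (ka' + kb') := by rw [ex]; abel
      rw [this]
      exact Submodule.sub_mem _ hx (Submodule.add_mem _ hka'.1 hkb'.1)
    have h3 : ka + kb - Submodule.mkQ (Ideal.span {π} • (⊤ : Submodule A M)) n'.1 ∈ K Y ⊓ K Yᶜ := ⟨h1, h2⟩
    rw [Kbot, Submodule.mem_bot] at h3
    rw [ex, h3, zero_add]
    exact Submodule.add_mem_sup hka'.2 hkb'.2
  rw [eq_top_iff, ← hY]
  exact sup_le ha hb

end Groth.Agent.S18365
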