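import Groth.Statements.S18366
import Groth.Agent.H25.SmoothDense
import Groth.Agent.H11.SepPointsSch

set_option autoImplicit false
universe u
open CategoryTheory CategoryTheory.Limits AlgebraicGeometry
open Variety

namespace Groth.Agent.S18366

/-- Let k be a separably closed field and X a non-empty k-scheme of finite type which is geometrically
reduced. Then X has a k-rational point, i.e. the structure morphism admits a section. (Non-emptiness
is part of the hypotheses: the empty scheme is geometrically reduced of finite type and has no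
point. The published statement does not assume X non-empty; this row does, since the empty scheme
has no rational point.) -/
theorem result (k : Type u) [Field k] [IsSepClosed k]
    {X : Scheme.{u}} (f : X ⟶ Spec (CommRingCat.of k)) [LocallyOfFiniteType f] [QuasiCompact f] [GeometricallyReduced f]
    [Nonempty X] :
    ∃ s : Spec (CommRingCat.of k) ⟶ X, s ≫ f = 𝟙 (Spec (CommRingCat.of k)) := by
  letI : X.Over (Spec (CommRingCat.of k)) := ⟨f⟩
  haveI : LocallyOfFiniteType (X ↘ Spec (CommRingCat.of k)) := ‹LocallyOfFiniteType f›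
  haveI : GeometricallyReduced (X ↘ Spec (CommRingCat.of k)) := ‹GeometricallyReduced f›
  haveI : IsReduced X := GeometricallyReduced.isReduced_of_flat_of_isLocallyNoetherian f
  obtain ⟨U, hUd, hUs⟩ :=
    (Groth.Agent.H25.SmoothDense.geometricallyReduced_iff_dense_smooth k X).mp inferInstance
  obtain ⟨x0⟩ := ‹Nonempty X›
  obtain ⟨x1, hx1⟩ : (U : Set X).Nonempty := hUd.nonempty
  letI : (U : Scheme.{u}).Over (Spec (CommRingCat.of k)) := ⟨U.ι ≫ f⟩
  haveI : Smooth ((U : Scheme.{u}) ↘ Spec (CommRingCat.of k)) := hUs
  haveI : Nonempty (U : Scheme.{u}) := ⟨⟨x1, hx1⟩⟩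
  obtain ⟨u, -, hfin, hsep⟩ := (Groth.Agent.H11.SepPointsSch.dense_sep k (U : Scheme.{u})).nonempty
  letI := Curv2.resAlgebra k (U : Scheme.{u}) u
  haveI : Algebra.IsSeparable k ((U : Scheme.{u}).residueField u) := hsep
  have hbij : Function.Bijective (algebraMap k ((U : Scheme.{u}).residueField u)) :=
    IsSepClosed.algebraMap_bijective k _
  let e : k ≃+* (U : Scheme.{u}).residueField u := RingEquiv.ofBijective _ hbij
  have hw : (U : Scheme.{u}).fromSpecResidueField u ≫ (U.ι ≫ f) =
      Spec.map (CommRingCat.ofHom (algebraMap k ((U : Scheme.{u}).residueField u))) := by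
    have h1 : (U.ι ≫ f) = (U : Scheme.{u}).toSpecΓ ≫ Spec.map (U.ι ≫ f).appTop ≫
        Spec.map (Scheme.ΓSpecIso (CommRingCat.of k)).inv := by
      rw [← Scheme.toSpecΓ_naturality_assoc]
      rw [toSpecΓ_SpecMap_ΓSpecIso_inv]
      simp
    rw [h1, Scheme.fromSpecResidueField, Category.assoc, Scheme.fromSpecStalk_toSpecΓ_assoc]
    simp_rw [← Spec.map_comp]
    rfl
  refine ⟨Spec.map (CommRingCat.ofHom (e.symm : (U : Scheme.{u}).residueField u →+* k)) ≫
    (U : Scheme.{u}).fromSpecResidueField u ≫ U.ι, ?_⟩
  rw [Category.assoc, Category.assoc, hw, ← Spec.map_comp, ← Spec.map_id]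
  congr 1
  ext a
  exact e.symm_apply_apply a


end Groth.Agent.S18366
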