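import Groth.Statements.S18370
-- import your own Groth.Agent.* helpers here

set_option autoImplicit false
universe u
open CategoryTheory CategoryTheory.Limits MonoidalCategory CartesianMonoidalCategory MonObj GrpObj AlgebraicGeometry
open GrpSch

namespace Groth.Agent.S18370

/-- Let S be a scheme and G a commutative S-group scheme which is killed by a natural number n, i.e. the
n-th power map of G is the trivial homomorphism, and let n = a·b with a and b coprime. If i_a : G_a
→ G and i_b : G_b → G are scheme-theoretic kernels of the a-th and b-th power maps of G, then the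
morphism G_a ×_S G_b → G sending (x, y) to i_a(x)·i_b(y) is an isomorphism of S-schemes. (The
published statement assumes n ≠ 0; the case n = 0, where {a, b} = {0, 1} and one kernel is all of G
while the other is trivial, is included here.) -/
theorem result {S : Scheme.{u}} (G Ga Gb : Over S)
    [GrpObj G] [IsCommMonObj G] (n a b : ℕ) (hn : n = a * b) (hab : Nat.Coprime a b)
    (hG : (𝟙 G) ^ n = 1)
    (ia : Ga ⟶ G) (hia : AlgGrp.IsKernel ia ((𝟙 G) ^ a))
    (ib : Gb ⟶ G) (hib : AlgGrp.IsKernel ib ((𝟙 G) ^ b)) :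
    IsIso ((fst Ga Gb ≫ ia) * (snd Ga Gb ≫ ib)) := by
  unfold AlgGrp.IsKernel at hia hib
  -- Bezout
  have hbez : (Nat.gcdA a b) * (a : ℤ) + (Nat.gcdB a b) * (b : ℤ) = 1 := by
    have := Nat.gcd_eq_gcd_ab a b
    rw [hab] at this
    push_cast at this
    linarith
  set u : ℤ := Nat.gcdA a b with hu
  set v : ℤ := Nat.gcdB a b with hv
  have hpow : ∀ {T : Over S} (x : T ⟶ G), x ^ n = 1 := by
    intro T x
    have := congrArg (fun f => x ≫ f) hG
    simp only [MonObj.comp_pow, Category.comp_id, MonObj.comp_one] at this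
    exact this
  have hpowZ : ∀ {T : Over S} (x : T ⟶ G), x ^ ((a : ℤ) * (b : ℤ)) = 1 := by
    intro T x
    have := hpow x
    rw [hn] at this
    rw [← this]
    norm_cast
  -- the a-torsion and b-torsion parts
  have h1 : ((𝟙 G) ^ (v * (b : ℤ))) ≫ ((𝟙 G) ^ a) = toUnit G ≫ η[G] := by
    rw [MonObj.comp_pow, Category.comp_id, ← Hom.one_def, ← zpow_natCast, ← zpow_mul,
      show v * (b : ℤ) * (a : ℤ) = ((a : ℤ) * (b : ℤ)) * v by ring, zpow_mul, hpowZ, one_zpow]
  have h2 : ((𝟙 G) ^ (u * (a : ℤ))) ≫ ((𝟙 G) ^ b) = toUnit G ≫ η[G] := by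
    rw [MonObj.comp_pow, Category.comp_id, ← Hom.one_def, ← zpow_natCast, ← zpow_mul,
      show u * (a : ℤ) * (b : ℤ) = ((a : ℤ) * (b : ℤ)) * u by ring, zpow_mul, hpowZ, one_zpow]
  have hxa : ∀ {T : Over S} (x : T ⟶ Ga), (x ≫ ia) ^ a = 1 := by
    intro T x
    have := congrArg (fun f => x ≫ f) hia.w
    simp only [MonObj.comp_pow, Category.comp_id] at this
    rw [this, ← Category.assoc, toUnit_unique (_ ≫ toUnit _) (toUnit T), ← Hom.one_def]
  have hyb : ∀ {T : Over S} (y : T ⟶ Gb), (y ≫ ib) ^ b = 1 := by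
    intro T y
    have := congrArg (fun f => y ≫ f) hib.w
    simp only [MonObj.comp_pow, Category.comp_id] at this
    rw [this, ← Category.assoc, toUnit_unique (_ ≫ toUnit _) (toUnit T), ← Hom.one_def]
  let ψ : G ⟶ Ga ⊗ Gb := lift (hia.lift _ _ h1) (hib.lift _ _ h2)
  have hψ1 : ψ ≫ fst Ga Gb ≫ ia = (𝟙 G) ^ (v * (b : ℤ)) := by
    simp only [ψ, lift_fst_assoc]
    exact hia.lift_fst _ _ h1
  have hψ2 : ψ ≫ snd Ga Gb ≫ ib = (𝟙 G) ^ (u * (a : ℤ)) := by
    simp only [ψ, lift_snd_assoc]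
    exact hib.lift_fst _ _ h2
  refine ⟨ψ, ?_, ?_⟩
  · -- φ ≫ ψ = 𝟙
    set φ := (fst Ga Gb ≫ ia) * (snd Ga Gb ≫ ib) with hφ
    have hφa : φ ^ (v * (b : ℤ)) = fst Ga Gb ≫ ia := by
      rw [hφ, mul_zpow]
      have e1 : (snd Ga Gb ≫ ib) ^ (v * (b : ℤ)) = 1 := by
        rw [mul_comm, zpow_mul, zpow_natCast, hyb, one_zpow]
      have e2 : (fst Ga Gb ≫ ia) ^ (v * (b : ℤ)) = fst Ga Gb ≫ ia := by
        have : v * (b : ℤ) = 1 - (a : ℤ) * u := by linarith
        rw [this, zpow_sub, zpow_one, zpow_mul, zpow_natCast, hxa, one_zpow, inv_one, _root_.mul_one]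
      rw [e1, e2, _root_.mul_one]
    have hφb : φ ^ (u * (a : ℤ)) = snd Ga Gb ≫ ib := by
      rw [hφ, mul_zpow]
      have e1 : (fst Ga Gb ≫ ia) ^ (u * (a : ℤ)) = 1 := by
        rw [mul_comm, zpow_mul, zpow_natCast, hxa, one_zpow]
      have e2 : (snd Ga Gb ≫ ib) ^ (u * (a : ℤ)) = snd Ga Gb ≫ ib := by
        have : u * (a : ℤ) = 1 - (b : ℤ) * v := by linarith
        rw [this, zpow_sub, zpow_one, zpow_mul, zpow_natCast, hyb, one_zpow, inv_one, _root_.mul_one]
      rw [e1, e2, _root_.one_mul]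
    apply CartesianMonoidalCategory.hom_ext
    · apply hia.hom_ext
      · rw [Category.assoc, Category.assoc, hψ1, GrpObj.comp_zpow, Category.comp_id, hφa, Category.id_comp]
      · exact toUnit_unique _ _
    · apply hib.hom_ext
      · rw [Category.assoc, Category.assoc, hψ2, GrpObj.comp_zpow, Category.comp_id, hφb, Category.id_comp]
      · exact toUnit_unique _ _
  · -- ψ ≫ φ = 𝟙
    rw [MonObj.comp_mul, hψ1, hψ2, ← zpow_add, show v * (b : ℤ) + u * (a : ℤ) = 1 by linarith, zpow_one]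

end Groth.Agent.S18370
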