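import Groth.Statements.S18375
import Groth.Agent.H91.PhiTree
-- import your own Groth.Agent.* helpers here

set_option autoImplicit false
universe u
open PhiStab

namespace Groth.Agent.S18375

open PhiStab in
/-- Let (V, E, ends) be a finite multigraph and T a set of edges forming a spanning tree (the spanning
subgraph with edge set T is connected and contains no circuit), b an integer and φ a nondegenerate
real weighting of the vertices with Σ_v φ v = b. Then there is a unique integer multidegree m for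
which the sheaf datum (m, Tᶜ), not locally free exactly at the edges outside T, has total degree b
and is φ-stable. This is the statement that a stable pointed curve with this dual graph carries a
φ-stable rank-1 torsion-free sheaf of degree g - 1 = b failing to be locally free exactly at the
nodes outside T, of uniquely determined multidegree, written for the combinatorial datum. -/
theorem result {V E : Type u} [Fintype V] [Fintype E] [DecidableEq V] [DecidableEq E]
    (ends : E → V × V) (T : Finset E)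
    (hT : DualGr.IsTree (spanEnds ends T)) (b : ℤ) (φ : V → ℝ) (hφ : (∑ v : V, φ v) = (b : ℝ))
    (hnd : Nondegenerate ends φ) :
    ∃! m : V → ℤ, totDeg m Tᶜ = b ∧ IsStable ends φ m Tᶜ := by
  classical
  have hdeg : ∀ m : V → ℤ, totDeg m Tᶜ = b → (∑ v : V, φ v) = (totDeg m Tᶜ : ℝ) := by
    intro m hm
    rw [hφ, hm]
  -- shifted weighting
  obtain ⟨φ2, hφ2⟩ : ∃ φ2 : V → ℝ, φ2 = fun v => φ v - (LabGraph.endCount ends Tᶜ v : ℝ) / 2 :=
    ⟨_, rfl⟩
  have hpsi : ∀ (m : V → ℤ) (S : Finset V),
      ∑ v ∈ S, Groth.Agent.H91.PhiRed.psi ends φ m Tᶜ v =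
        ((∑ v ∈ S, m v : ℤ) : ℝ) - ∑ v ∈ S, φ2 v := by
    intro m S
    rw [hφ2]
    push_cast
    rw [← Finset.sum_sub_distrib]
    refine Finset.sum_congr rfl fun v _ => ?_
    unfold Groth.Agent.H91.PhiRed.psi
    ring
  -- existence
  obtain ⟨m, hm1, hm2⟩ := Groth.Agent.H91.PhiRed.exists_sideSum_int (spanEnds ends T) hT
    (fun e => round (∑ v ∈ side (spanEnds ends T) e, φ2 v)) (b - (Tᶜ.card : ℤ))
  have hmb : totDeg m Tᶜ = b := by
    unfold totDeg
    rw [hm2]
    ring
  have hss : IsSemistable ends φ m Tᶜ := by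
    rw [Groth.Agent.H91.PhiRed.semistable_span_iff ends T hT φ m (hdeg m hmb)]
    intro e
    rw [hpsi, hm1 e, abs_sub_comm]
    exact abs_sub_round _
  have hst : IsStable ends φ m Tᶜ := hnd m Tᶜ (hdeg m hmb) hss
  refine ⟨m, ⟨hmb, hst⟩, ?_⟩
  rintro m' ⟨hm'b, hm'st⟩
  -- uniqueness
  have h1 := (Groth.Agent.H91.PhiRed.stable_span_iff ends T hT φ m (hdeg m hmb)).mp hst
  have h2 := (Groth.Agent.H91.PhiRed.stable_span_iff ends T hT φ m' (hdeg m' hm'b)).mp hm'st
  have hside : ∀ e : {e // e ∈ T}, ∑ v ∈ side (spanEnds ends T) e, m' v =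
      ∑ v ∈ side (spanEnds ends T) e, m v := by
    intro e
    have a1 := abs_lt.mp (h1 e)
    have a2 := abs_lt.mp (h2 e)
    rw [hpsi] at a1 a2
    have b1 : ((∑ v ∈ side (spanEnds ends T) e, m' v : ℤ) : ℝ) -
        ((∑ v ∈ side (spanEnds ends T) e, m v : ℤ) : ℝ) < 1 := by linarith [a1.1, a2.2]
    have b2 : -1 < ((∑ v ∈ side (spanEnds ends T) e, m' v : ℤ) : ℝ) -
        ((∑ v ∈ side (spanEnds ends T) e, m v : ℤ) : ℝ) := by linarith [a1.2, a2.1]
    have c1 : (∑ v ∈ side (spanEnds ends T) e, m' v) - (∑ v ∈ side (spanEnds ends T) e, m v) < 1 := by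
      exact_mod_cast b1
    have c2 : -1 < (∑ v ∈ side (spanEnds ends T) e, m' v) -
        (∑ v ∈ side (spanEnds ends T) e, m v) := by
      exact_mod_cast b2
    omega
  have htot : ∑ v : V, m' v = ∑ v : V, m v := by
    have := hm'b.trans hmb.symm
    unfold totDeg at this
    linarith
  obtain ⟨ψ, _, huniq⟩ := Groth.Agent.H74.TreeSide.existsUnique_sideSum (spanEnds ends T) hT
    (fun e => ((∑ v ∈ side (spanEnds ends T) e, m v : ℤ) : ℝ)) ((∑ v : V, m v : ℤ) : ℝ)
  have e1 := huniq (fun v => (m v : ℝ)) ⟨fun e => by push_cast; rfl, by push_cast; rfl⟩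
  have e2 := huniq (fun v => (m' v : ℝ))
    ⟨fun e => by rw [← hside e]; push_cast; rfl, by rw [← htot]; push_cast; rfl⟩
  funext v
  have := congrFun (e2.trans e1.symm) v
  exact_mod_cast this

end Groth.Agent.S18375
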