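import Groth.Statements.S18376
import Groth.Agent.S18374
import Groth.Agent.S18375
-- import your own Groth.Agent.* helpers here

set_option autoImplicit false
universe u
open PhiStab

namespace Groth.Agent.H91.PhiRed

open LabGraph DualGr PhiStab Groth.Agent.H74.CircCoprime Groth.Agent.H74.SpanTree
  Groth.Agent.H74.Incidence Finset

/-- For an elementary vertex set there is a spanning tree crossing its cut at most once. -/
theorem exists_tree_cut_le_one {V E : Type u} [Fintype V] [Fintype E] [DecidableEq V]
    [DecidableEq E] (ends : E → V × V) (hconn : LabGraph.Connected ends) {S : Finset V}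
    (hS : IsElementary ends S) :
    ∃ T : Finset E, IsTree (spanEnds ends T) ∧ cutIn ends T S ≤ 1 := by
  classical
  rw [isElementary_iff] at hS
  obtain ⟨h1, h2⟩ := hS
  obtain ⟨s₀, hs₀⟩ := h1.1
  obtain ⟨t₀, ht₀⟩ := h2.1
  rcases first_exit ends S hs₀ (hconn.2 s₀ t₀) with h | ⟨u, w, hw, hsu, e₀, he₀⟩
  · exact absurd (mem_of_reach_inner ends S hs₀ h) (Finset.mem_compl.mp ht₀)
  · have hu : u ∈ S := mem_of_reach_inner ends S hs₀ hsu
    have hw' : w ∈ Sᶜ := Finset.mem_compl.mpr hw
    set F : Finset E := (inner ends S ∪ inner ends Sᶜ) ∪ {e₀} with hF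
    have hsub1 : inner ends S ⊆ F := fun e he =>
      Finset.mem_union_left _ (Finset.mem_union_left _ he)
    have hsub2 : inner ends Sᶜ ⊆ F := fun e he =>
      Finset.mem_union_left _ (Finset.mem_union_right _ he)
    have he₀F : e₀ ∈ F := Finset.mem_union_right _ (Finset.mem_singleton_self _)
    have hwu : ReachIn ends F w u :=
      Relation.ReflTransGen.single ⟨e₀, he₀F, he₀.symm⟩
    have key : ∀ a, ReachIn ends F a u := by
      intro a
      by_cases ha : a ∈ S
      · exact reachIn_mono ends hsub1 (h1.2 a ha u hu)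
      · have ha' : a ∈ Sᶜ := Finset.mem_compl.mpr ha
        exact (reachIn_mono ends hsub2 (h2.2 a ha' w hw')).trans hwu
    have hFconn : ∀ a c, ReachIn ends F a c := fun a c =>
      (key a).trans (reachIn_symm ends _ (key c))
    obtain ⟨T, hTF, hTconn, hTno⟩ := exists_tree_subset ends F hFconn
    refine ⟨T, ⟨(connected_sub_iff ends T).mpr ⟨⟨s₀⟩, hTconn⟩,
      (isForest_sub_iff ends T).mpr hTno⟩, ?_⟩
    unfold cutIn
    have hsubset : (T.filter (fun e => ((ends e).1 ∈ S ∧ (ends e).2 ∉ S) ∨
        ((ends e).1 ∉ S ∧ (ends e).2 ∈ S))) ⊆ {e₀} := by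
      intro e he
      rw [Finset.mem_filter] at he
      obtain ⟨heT, hcross⟩ := he
      have heF := hTF heT
      rw [hF, Finset.mem_union, Finset.mem_union, mem_inner, mem_inner] at heF
      simp only [Finset.mem_compl] at heF
      rcases heF with (h | h) | h
      · tauto
      · tauto
      · exact h
    calc _ ≤ ({e₀} : Finset E).card := Finset.card_le_card hsubset
      _ = 1 := Finset.card_singleton _

end Groth.Agent.H91.PhiRed

namespace Groth.Agent.S18376

open PhiStab in
/-- Let (V, E, ends) be a connected finite multigraph, b an integer, and φ₁, φ₂ real weightings of the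
vertices with Σ_v φ₁ v = Σ_v φ₂ v = b, φ₁ nondegenerate. Then every φ₁-stable sheaf datum (m, N) of
total degree b is φ₂-semistable if and only if φ₂ lies in the closed stability polytope of φ₁, that
is, for every elementary vertex set S and every integer d with d - Σ_{v ∈ S} φ₁ v + cut S / 2 > 0
one has d - Σ_{v ∈ S} φ₂ v + cut S / 2 ≥ 0. Membership in the closure of the polytope is expressed
by this half-space condition, the form in which the source's proof uses it; the sheaves of degree g
- 1 = b on stable pointed curves with this dual graph enter through their combinatorial data. -/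
theorem result {V E : Type u} [Fintype V] [Fintype E] [DecidableEq V] [DecidableEq E]
    (ends : E → V × V)
    (hconn : LabGraph.Connected ends) (b : ℤ) (φ₁ φ₂ : V → ℝ) (h₁ : (∑ v : V, φ₁ v) = (b : ℝ))
    (h₂ : (∑ v : V, φ₂ v) = (b : ℝ)) (hnd : Nondegenerate ends φ₁) :
    (∀ (m : V → ℤ) (N : Finset E), totDeg m N = b → IsStable ends φ₁ m N → IsSemistable ends φ₂ m N) ↔
      InClosedPolytope ends φ₁ φ₂ := by
  classical
  constructor
  · intro H S hS d hd
    obtain ⟨T, hT, hcut⟩ := Groth.Agent.H91.PhiRed.exists_tree_cut_le_one ends hconn hS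
    obtain ⟨m, ⟨hmb, hst⟩, -⟩ := Groth.Agent.S18375.result ends T hT b φ₁ h₁ hnd
    have hss := H m Tᶜ hmb hst
    obtain ⟨hSne, hSuniv⟩ := Groth.Agent.H91.PhiRed.isElementary_nonempty ends hS
    have hdeg₁ : (∑ v : V, φ₁ v) = (totDeg m Tᶜ : ℝ) := by rw [h₁, hmb]
    have hψ := Groth.Agent.H91.PhiRed.sum_psi ends φ₁ m Tᶜ hdeg₁
    rw [Groth.Agent.H91.PhiRed.isStable_iff, compl_compl] at hst
    have a1 := hst S hSne hSuniv
    have hcne : Sᶜ.Nonempty := by
      rw [Groth.Agent.H91.PhiRed.isElementary_iff] at hS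
      exact hS.2.1
    have hcuniv : Sᶜ ≠ Finset.univ := by
      intro h
      obtain ⟨v, hv⟩ := hSne
      have := Finset.mem_univ v
      rw [← h, Finset.mem_compl] at this
      exact this hv
    have a2 := hst Sᶜ hcne hcuniv
    have a3 := Groth.Agent.H91.PhiRed.ff_compl ends T _ hψ S
    have hcut' : (Groth.Agent.H91.PhiRed.cutIn ends T S : ℝ) ≤ 1 := by exact_mod_cast hcut
    have a4 := Groth.Agent.H91.PhiRed.stab_eq ends φ₁ m Tᶜ S
    rw [compl_compl] at a4
    have hss' := hss S hSne hSuniv
    unfold ell at hd ⊢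
    have b1 : ((d - degOn ends m Tᶜ S : ℤ) : ℝ) > -1 := by
      push_cast
      linarith
    have b2 : -1 < d - degOn ends m Tᶜ S := by exact_mod_cast b1
    have b3 : (0 : ℝ) ≤ ((d - degOn ends m Tᶜ S : ℤ) : ℝ) := by
      have : 0 ≤ d - degOn ends m Tᶜ S := by omega
      exact_mod_cast this
    push_cast at b3
    linarith
  · intro H m N hmb hst
    have hdeg₂ : (∑ v : V, φ₂ v) = (totDeg m N : ℝ) := by rw [h₂, hmb]
    rw [(Groth.Agent.S18374.result ends hconn φ₂ m N hdeg₂).1]
    intro S hS
    obtain ⟨hSne, hSuniv⟩ := Groth.Agent.H91.PhiRed.isElementary_nonempty ends hS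
    have a1 := hst S hSne hSuniv
    have a2 := H S hS (degOn ends m N S) (by unfold ell; linarith)
    unfold ell at a2
    linarith

end Groth.Agent.S18376
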