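import Groth.Statements.S18379
import Groth.Agent.H99.VerlindeE
-- import your own Groth.Agent.* helpers here

set_option autoImplicit false
open VerlindeComb

namespace Groth.Agent.S18379

/-- Let r, k ≥ 1 be integers. Summing over all integer vectors v with r + k > v_1 > v_2 > ⋯ > v_{r-1} >
v_r = 0, one has Σ_v ∏_{i<j} (2 sin(π (v_i - v_j) / (r + k)))² = r (r + k)^{r-1}; that is, the
genus-zero Verlinde number of rank r and level k with no parabolic points, defined as (r (r +
k)^{r-1})⁻¹ times this sum, equals 1. Indices are 0-based below: v i stands for v_{i+1}. -/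
theorem result (r k : ℕ) (hr : 1 ≤ r) (hk : 1 ≤ k) :
    (∑ v ∈ (Finset.univ : Finset (Fin r → Fin (r + k))).filter
        (fun v : Fin r → Fin (r + k) => StrictAnti v ∧ ∀ i : Fin r, (i : ℕ) = r - 1 → (v i : ℕ) = 0),
      ∏ p ∈ (Finset.univ : Finset (Fin r × Fin r)).filter (fun p => p.1 < p.2),
        ((2 : ℝ) * Real.sin (Real.pi * ((v p.1 : ℕ) - (v p.2 : ℕ) : ℝ) / ((r : ℝ) + k))) ^ 2) =
      (r : ℝ) * ((r : ℝ) + k) ^ (r - 1) := by
  open Groth.Agent.H99.Verlinde in
  have hmain : ∀ v ∈ AA r k, ((PP r k (ww r k v) : ℝ) : ℂ) =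
      eps r * FF r k (fun _ => 0) (fun _ => 0) (ww r k v) := by
    intro v hv
    have hsa : StrictAnti v := ((mem_AA r k v).mp hv).1
    have hinj : Function.Injective (zz r k (ww r k v)) := by
      apply zz_injective r k hr
      · intro j; exact (v j).2
      · intro i j hij
        apply hsa.injective
        apply Fin.ext
        exact hij
    have h := summand_eq r k hr (fun _ => 0) (fun _ => 0) (ww r k v) hinj
    have hD : DD r k (fun _ => 0) (ww r k v) = Delta r k (ww r k v) := by
      unfold DD Delta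
      simp
    have hΔ : Delta r k (ww r k v) ≠ 0 := by
      rw [Delta_eq]
      apply mul_ne_zero
      · intro h0
        have := eps_mul_self r
        rw [h0, mul_zero] at this
        exact zero_ne_one this
      · exact Matrix.det_vandermonde_ne_zero_iff.mpr hinj
    have hθ : theta r k (∑ _i : Fin r, 0 + ∑ _i : Fin r, 0) (ww r k v) = 1 := by
      unfold theta
      simp
    rw [hD, hθ, div_self hΔ, one_mul, one_mul, one_mul] at h
    exact h
  open Groth.Agent.H99.Verlinde in
  have hsum := sum_AA_eq_of_pair r k hr (fun _ => 0) (fun _ => 0) antitone_const (fun _ => Nat.zero_le _)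
    antitone_const (fun _ => Nat.zero_le _) 0 (fun _ => rfl)
  apply Complex.ofReal_injective
  open Groth.Agent.H99.Verlinde in
  have hgoal : ((∑ v ∈ AA r k, PP r k (ww r k v) : ℝ) : ℂ) = (((r : ℝ) * ((r : ℝ) + k) ^ (r - 1) : ℝ) : ℂ) := by
    rw [Complex.ofReal_sum, Finset.sum_congr rfl hmain, ← Finset.mul_sum, hsum, ← mul_assoc,
      eps_mul_self, one_mul]
    push_cast
    rfl
  exact hgoal

end Groth.Agent.S18379
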