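import Groth.Statements.S18383
-- import your own Groth.Agent.* helpers here

set_option autoImplicit false
universe u
open CategoryTheory CategoryTheory.Limits MonoidalCategory CartesianMonoidalCategory MonObj GrpObj AlgebraicGeometry
open GrpSch

namespace Groth.Agent.S18383

/-- Let S be a scheme, H an S-group scheme and i : G → H a homomorphism of S-group schemes which is a
closed immersion (G a closed subgroup scheme of H). Then the left-translation action of G on H is
strictly free: the S-morphism G ×_S H → H ×_S H, (g, h) ↦ (i(g)·h, h), is a closed immersion. -/
theorem result {S : Scheme.{u}} (G H : Over S)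
    [GrpObj G] [GrpObj H] (i : G ⟶ H) [IsMonHom i] [IsClosedImmersion i.left] :
    IsClosedImmersion (CartesianMonoidalCategory.lift ((i ▷ H) ≫ μ[H]) (snd G H)).left := by
  have hcomp : CartesianMonoidalCategory.lift ((i ▷ H) ≫ μ[H]) (snd G H) =
      (i ▷ H) ≫ CartesianMonoidalCategory.lift μ[H] (snd H H) := by
    apply CartesianMonoidalCategory.hom_ext
    · simp only [lift_fst, Category.assoc]
    · simp only [lift_snd, Category.assoc, whiskerRight_snd]
  have hiso : IsIso (CartesianMonoidalCategory.lift μ[H] (snd H H)) := by
    refine ⟨CartesianMonoidalCategory.lift (fst H H * (snd H H)⁻¹) (snd H H), ?_, ?_⟩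
    · apply CartesianMonoidalCategory.hom_ext
      · rw [Category.assoc, lift_fst, MonObj.comp_mul, lift_fst, GrpObj.comp_inv, lift_snd,
          MonObj.mul_eq_mul, mul_inv_cancel_right, Category.id_comp]
      · rw [Category.assoc, lift_snd, lift_snd, Category.id_comp]
    · apply CartesianMonoidalCategory.hom_ext
      · rw [Category.assoc, lift_fst, ← Hom.mul_def, inv_mul_cancel_right, Category.id_comp]
      · rw [Category.assoc, lift_snd, lift_snd, Category.id_comp]
  rw [hcomp, Over.comp_left]
  have h1 : IsClosedImmersion (i ▷ H).left := by
    rw [Over.whiskerRight_left]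
    have : MorphismProperty.IsStableUnderComposition @IsClosedImmersion.{u} :=
      (inferInstance : MorphismProperty.IsMultiplicative @IsClosedImmersion.{u}).toIsStableUnderComposition
    exact MorphismProperty.pullbackMap (P := @IsClosedImmersion) inferInstance inferInstance
      (Over.w i).symm (Category.id_comp _).symm
  have h2 : IsIso (CartesianMonoidalCategory.lift μ[H] (snd H H)).left :=
    (inferInstance : IsIso ((Over.forget S).map (CartesianMonoidalCategory.lift μ[H] (snd H H))))
  infer_instance

end Groth.Agent.S18383
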