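import Groth.Statements.S18384
import Groth.Agent.H75.KrullFibre

set_option autoImplicit false
universe u
open CategoryTheory CategoryTheory.Limits AlgebraicGeometry
open Coherent

namespace Groth.Agent.S18384

/-- Let p : X → S be a morphism of locally Noetherian schemes, t a point of S, m the maximal ideal of
the local ring O_{S,t}, and Z the closed subscheme of X defined by a quasi-coherent ideal I. Suppose
that for every n ≥ 1 the projection X ×_S Spec(O_{S,t}/m^n) → X factors through Z. Then there is an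
open subscheme U of X containing every point of the fibre p⁻¹(t) such that the inclusion U → X
factors through Z. -/
theorem result {X S : Scheme.{u}}
    [IsLocallyNoetherian X] [IsLocallyNoetherian S] (p : X ⟶ S) (t : S) (I : X.IdealSheafData)
    (h : ∀ n : ℕ, ∃ g : pullback p (Spec.map (CommRingCat.ofHom (Ideal.Quotient.mk
        (IsLocalRing.maximalIdeal ↑(S.presheaf.stalk t) ^ (n + 1)))) ≫ S.fromSpecStalk t) ⟶ I.subscheme,
        g ≫ I.subschemeι = pullback.fst p _) :
    ∃ U : X.Opens, (∀ x : X, p.base x = t → x ∈ U) ∧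
      ∃ g : (U : Scheme.{u}) ⟶ I.subscheme, g ≫ I.subschemeι = U.ι := by
  obtain ⟨U, hU, g, hg⟩ := Groth.Agent.H75.KrullFibre.exists_lift_of_ideal_eq_bot I
  refine ⟨U, ?_, g, hg⟩
  intro x hx
  subst hx
  have hI : ∀ n : ℕ, I ≤ (Spec.map (Groth.Agent.H75.KrullFibre.qn x n) ≫ X.fromSpecStalk x).ker := by
    intro n
    obtain ⟨g', hg'⟩ := h n
    have h1 : I ≤ (pullback.fst p (Spec.map (CommRingCat.ofHom (Ideal.Quotient.mk
        (IsLocalRing.maximalIdeal ↑(S.presheaf.stalk (p.base x)) ^ (n + 1)))) ≫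
        S.fromSpecStalk (p.base x))).ker := by
      rw [← hg']
      calc I = I.subschemeι.ker := I.ker_subschemeι.symm
        _ ≤ (g' ≫ I.subschemeι).ker := Scheme.Hom.le_ker_comp _ _
    have hloc : Ideal.map (p.stalkMap x).hom (IsLocalRing.maximalIdeal ↑(S.presheaf.stalk (p.base x))) ≤
        IsLocalRing.maximalIdeal ↑(X.presheaf.stalk x) :=
      ((IsLocalRing.local_hom_TFAE (p.stalkMap x).hom).out 0 2).mp
        (inferInstance : IsLocalHom (p.stalkMap x).hom)
    have hle : IsLocalRing.maximalIdeal ↑(S.presheaf.stalk (p.base x)) ^ (n + 1) ≤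
        Ideal.comap (p.stalkMap x).hom (IsLocalRing.maximalIdeal ↑(X.presheaf.stalk x) ^ (n + 1)) := by
      rw [← Ideal.map_le_iff_le_comap, Ideal.map_pow]
      exact Ideal.pow_right_mono hloc _
    let d := Spec.map (CommRingCat.ofHom (Ideal.quotientMap _ (p.stalkMap x).hom hle))
    have hcomm : (Spec.map (Groth.Agent.H75.KrullFibre.qn x n) ≫ X.fromSpecStalk x) ≫ p =
        d ≫ (Spec.map (CommRingCat.ofHom (Ideal.Quotient.mk
        (IsLocalRing.maximalIdeal ↑(S.presheaf.stalk (p.base x)) ^ (n + 1)))) ≫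
        S.fromSpecStalk (p.base x)) := by
      rw [Category.assoc, ← Scheme.SpecMap_stalkMap_fromSpecStalk, ← Spec.map_comp_assoc,
        ← Spec.map_comp_assoc]
      congr 2
    have hfac : Spec.map (Groth.Agent.H75.KrullFibre.qn x n) ≫ X.fromSpecStalk x =
        pullback.lift _ d hcomm ≫ pullback.fst p _ := (pullback.lift_fst _ _ _).symm
    rw [hfac]
    exact h1.trans (Scheme.Hom.le_ker_comp _ _)
  obtain ⟨_, ⟨V₀, hV₀, rfl⟩, hxV₀, -⟩ := X.isBasis_affineOpens.exists_subset_of_mem_open
    (Set.mem_univ x) isOpen_univ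
  have hV₀' : IsAffineOpen V₀ := hV₀
  obtain ⟨V, hxV, hV⟩ := Groth.Agent.H75.KrullFibre.exists_affine_ideal_eq_bot x I ⟨V₀, hV₀'⟩ hxV₀
    (fun j hj => Groth.Agent.H75.KrullFibre.germ_eq_zero_of_le_ker x I hI ⟨V₀, hV₀'⟩ hxV₀ j hj)
  exact hU V hV hxV

end Groth.Agent.S18384
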