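import Groth.Statements.S18386
import Mathlib.RingTheory.Ideal.IdempotentFG
import Mathlib.Topology.Connected.Clopen
-- import your own Groth.Agent.* helpers here

set_option autoImplicit false
universe u
open LVCorr

namespace Groth.Agent.S18386

open AlgebraicGeometry CategoryTheory

/-- For an idempotent section `e` over `U`, a point of `U` lies outside `D(e)` iff it lies in `D(1-e)`. -/
theorem not_mem_basicOpen_iff (X : Scheme.{u}) {U : X.Opens} (e : Γ(X, U)) (he : IsIdempotentElem e)
    (x : X) (hx : x ∈ U) : x ∉ X.basicOpen e ↔ x ∈ X.basicOpen (1 - e) := by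
  have h0 : e * (1 - e) = 0 := by rw [mul_sub, mul_one, he.eq, sub_self]
  constructor
  · intro h
    rw [Scheme.mem_basicOpen _ _ _ hx] at h ⊢
    have h1 : X.presheaf.germ U x hx e + X.presheaf.germ U x hx (1 - e) = 1 := by
      rw [← map_add, add_sub_cancel, map_one]
    exact (IsLocalRing.isUnit_or_isUnit_of_add_one h1).resolve_left h
  · intro h h'
    have hmul : x ∈ X.basicOpen (e * (1 - e)) := by
      rw [Scheme.basicOpen_mul]
      exact ⟨h', h⟩
    rw [h0, Scheme.basicOpen_zero] at hmul
    exact hmul

theorem eq_zero_of_basicOpen_eq_bot (X : Scheme.{u}) {U : X.Opens} (e : Γ(X, U))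
    (he : IsIdempotentElem e) (h : X.basicOpen e = ⊥) : e = 0 := by
  have h0 : (1 - e) * e = 0 := by rw [sub_mul, one_mul, he.eq, sub_self]
  have hu : IsUnit (1 - e) := by
    apply X.toRingedSpace.isUnit_of_isUnit_germ U (1 - e)
    intro x hx
    have : x ∈ X.basicOpen (1 - e) := by
      rw [← not_mem_basicOpen_iff X e he x hx, h]
      exact fun h => h
    exact (Scheme.mem_basicOpen _ _ _ hx).mp this
  exact hu.mul_right_eq_zero.mp h0

open AlgebraicGeometry in
/-- Let X be a connected Noetherian scheme and I a quasi-coherent sheaf of ideals on X, different from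
the structure sheaf, such that I^k = I^(k+1) for some natural number k. Then I^k = 0. -/
theorem result (X : Scheme.{u}) [AlgebraicGeometry.IsNoetherian X]
    [ConnectedSpace X] (I : X.IdealSheafData) (hI : I ≠ ⊤) (k : ℕ)
    (h : I ^ k = I ^ (k + 1)) : I ^ k = ⊥ := by
  -- local idempotent generators
  have hloc : ∀ U : X.affineOpens, ∃ e : Γ(X, U), IsIdempotentElem e ∧
      (I ^ k).ideal U = Ideal.span {e} := by
    intro U
    have hN : IsNoetherianRing Γ(X, U) := IsLocallyNoetherian.component_noetherian U
    have hb : (I ^ k).ideal U = (I ^ k).ideal U * I.ideal U := by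
      have := congrArg (fun J : X.IdealSheafData => J.ideal U) h
      simpa [pow_succ] using this
    have hbn : ∀ n : ℕ, (I ^ k).ideal U = (I ^ k).ideal U * (I.ideal U) ^ n := by
      intro n
      induction n with
      | zero => simp
      | succ n ih => rw [pow_succ, ← mul_assoc, ← ih, ← hb]
    have hbb : IsIdempotentElem ((I ^ k).ideal U) := by
      have := hbn k
      simp only [Scheme.IdealSheafData.ideal_pow, Pi.pow_apply] at this ⊢
      exact this.symm
    exact (Ideal.isIdempotentElem_iff_of_fg _ (IsNoetherian.noetherian _)).mp hbb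
  choose e he hIe using hloc
  -- the support of I^k is clopen
  have hZU : ∀ U : X.affineOpens, ((I ^ k).support : Set X) ∩ U = X.basicOpen (1 - e U) := by
    intro U
    rw [Scheme.IdealSheafData.coe_support_inter, hIe U, Scheme.zeroLocus_span, Scheme.zeroLocus_singleton]
    ext x
    constructor
    · rintro ⟨h1, h2⟩
      exact (not_mem_basicOpen_iff X (e U) (he U) x h2).mp h1
    · intro hx
      have hxU : x ∈ U.1 := X.basicOpen_le _ hx
      exact ⟨(not_mem_basicOpen_iff X (e U) (he U) x hxU).mpr hx, hxU⟩
  have hopen : IsOpen ((I ^ k).support : Set X) := by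
    have : ((I ^ k).support : Set X) = ⋃ U : X.affineOpens, ((X.basicOpen (1 - e U) : X.Opens) : Set X) := by
      ext x
      simp only [Set.mem_iUnion]
      constructor
      · intro hx
        obtain ⟨U, hxU⟩ : ∃ U : X.affineOpens, x ∈ U.1 := by
          have : x ∈ (⨆ U : X.affineOpens, (U : X.Opens)) := by
            rw [iSup_affineOpens_eq_top]; trivial
          simpa [TopologicalSpace.Opens.mem_iSup] using this
        refine ⟨U, ?_⟩
        rw [← hZU U]
        exact ⟨hx, hxU⟩
      · rintro ⟨U, hx⟩
        rw [← hZU U] at hx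
        exact hx.1
    rw [this]
    exact isOpen_iUnion fun U => (X.basicOpen (1 - e U)).isOpen
  have hclopen : IsClopen ((I ^ k).support : Set X) := ⟨(I ^ k).support.isClosed, hopen⟩
  rcases isClopen_iff.mp hclopen with hempty | huniv
  · -- support empty: I^k = ⊤, hence I = ⊤
    exfalso
    apply hI
    have htop : I ^ k = ⊤ := by
      rw [← Scheme.IdealSheafData.support_eq_bot_iff]
      exact TopologicalSpace.Closeds.ext hempty
    rcases Nat.eq_zero_or_pos k with rfl | hk
    · rw [zero_add, pow_one] at h
      rw [← h, pow_zero]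
      rfl
    · rw [eq_top_iff, ← htop]
      intro U
      simp only [Scheme.IdealSheafData.ideal_pow, Pi.pow_apply]
      exact Ideal.pow_le_self hk.ne'
  · -- support everything: all e U vanish
    ext U : 2
    rw [hIe U, Scheme.IdealSheafData.ideal_bot, Pi.bot_apply, Ideal.span_singleton_eq_bot]
    apply eq_zero_of_basicOpen_eq_bot X (e U) (he U)
    rw [eq_bot_iff]
    intro x hx
    have hxU : x ∈ U.1 := X.basicOpen_le _ hx
    have hxZ : x ∈ ((I ^ k).support : Set X) ∩ U := ⟨by rw [huniv]; trivial, hxU⟩
    rw [hZU U] at hxZ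
    exact ((not_mem_basicOpen_iff X (e U) (he U) x hxU).mpr hxZ) hx

end Groth.Agent.S18386
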