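import Groth.Statements.S18387
import Mathlib.RingTheory.Nakayama
import Mathlib.RingTheory.KrullDimension.Basic
import Mathlib.LinearAlgebra.FiniteDimensional.Lemmas
import Mathlib.RingTheory.Noetherian.Basic
-- import your own Groth.Agent.* helpers here

set_option autoImplicit false
universe u
open LVCorr

namespace Groth.Agent.S18387

theorem aux (F A : Type u) [Field F] [CommRing A] [Algebra F A]
    [FiniteDimensional F A] (i : ℕ) :
    nilradical A ^ i = ⊥ ∨
      Module.finrank F (Submodule.restrictScalars F (nilradical A ^ i)) + i ≤ Module.finrank F A := by
  induction i with
  | zero =>
    right
    simp only [add_zero]
    exact Submodule.finrank_le _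
  | succ i ih =>
    rcases ih with h | h
    · left
      rw [pow_succ, h, Ideal.bot_mul]
    · by_cases hb : nilradical A ^ i = ⊥
      · left
        rw [pow_succ, hb, Ideal.bot_mul]
      · right
        have hle : nilradical A ^ (i + 1) ≤ nilradical A ^ i := Ideal.pow_le_pow_right (Nat.le_succ i)
        have hne : nilradical A ^ (i + 1) ≠ nilradical A ^ i := by
          intro heq
          apply hb
          have : IsNoetherianRing A := IsNoetherianRing.of_finite F A
          apply Submodule.eq_bot_of_le_smul_of_le_jacobson_bot (nilradical A) (nilradical A ^ i)
            (IsNoetherian.noetherian _)
          · rw [smul_eq_mul, ← pow_succ', heq]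
          · rw [Ideal.jacobson_bot]; exact nilradical_le_jacobson A
        have hlt : Submodule.restrictScalars F (nilradical A ^ (i + 1)) <
            Submodule.restrictScalars F (nilradical A ^ i) := by
          refine lt_of_le_of_ne ?_ ?_
          · intro x hx
            exact hle hx
          · intro heq
            apply hne
            ext x
            have := congrArg (fun S : Submodule F A => x ∈ S) heq
            simpa using this
        have := Submodule.finrank_lt_finrank_of_lt hlt
        omega

/-- In the affine form which its proof establishes. Let A be a commutative algebra over a field F which
is finite-dimensional of dimension d over F. Then the d-th power of the nilradical of A vanishes.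
(Applied to the fibre algebra A = B/mB of a quasi-finite morphism over a closed point with maximal
ideal m, this says that the d-th power of the radical of mB lies in mB, i.e. the ramification of the
morphism at that point is at most the degree d of the fibre.) -/
theorem result (F A : Type u) [Field F] [CommRing A] [Algebra F A]
    [FiniteDimensional F A] : nilradical A ^ Module.finrank F A = ⊥ := by
  rcases aux F A (Module.finrank F A) with h | h
  · exact h
  · have h0 : Module.finrank F (Submodule.restrictScalars F (nilradical A ^ Module.finrank F A)) = 0 := by
      omega
    rw [Submodule.finrank_eq_zero] at h0
    ext x
    have := congrArg (fun S : Submodule F A => x ∈ S) h0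
    simpa using this

end Groth.Agent.S18387
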