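import Groth.Statements.S18389
-- import your own Groth.Agent.* helpers here

set_option autoImplicit false
universe u
open LVCorr

namespace Groth.Agent.S18389

open AlgebraicGeometry CategoryTheory in
/-- Let j : C → C̄ be an open immersion with dense image and jX : X → X̄ an open immersion, and let c₁ :
C → X and c̄₁ : C̄ → X̄ satisfy j followed by c̄₁ equals c₁ followed by jX, with c̄₁ separated. Let
U be an open subset of X such that c₁⁻¹(U) is dense in C and the restriction c₁⁻¹(U) → U of c₁ is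
proper. Then c̄₁⁻¹(jX(U)) = j(c₁⁻¹(U)) as open subsets of C̄. (In the source all schemes are
separated of finite type over a field, C̄ and X̄ are compactifications of a correspondence and of X,
so that c̄₁ is automatically separated.) -/
theorem result {C Cb X Xb : Scheme.{u}}
    (j : C ⟶ Cb) [IsOpenImmersion j] (hj : DenseRange j.base)
    (jX : X ⟶ Xb) [IsOpenImmersion jX] (c₁ : C ⟶ X) (cb₁ : Cb ⟶ Xb) [IsSeparated cb₁]
    (h : j ≫ cb₁ = c₁ ≫ jX) (U : X.Opens) (hU : Dense ((c₁ ⁻¹ᵁ U : C.Opens) : Set C))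
    [IsProper (c₁ ∣_ U)] :
    cb₁ ⁻¹ᵁ (jX ''ᵁ U) = j ''ᵁ (c₁ ⁻¹ᵁ U) := by
  apply le_antisymm
  swap
  · -- easy inclusion
    rintro _ ⟨c, hc, rfl⟩
    refine ⟨c₁.base c, hc, ?_⟩
    have := congrArg (fun f => f.base c) h
    simpa using this.symm
  · -- hard inclusion
    set W : Cb.Opens := cb₁ ⁻¹ᵁ (jX ''ᵁ U) with hW
    set V : C.Opens := c₁ ⁻¹ᵁ U with hV
    have hrange : Set.range (V.ι ≫ j).base ⊆ Set.range W.ι.base := by
      rintro _ ⟨v, rfl⟩
      rw [Scheme.Opens.range_ι]
      refine ⟨c₁.base (V.ι.base v), v.2, ?_⟩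
      have := congrArg (fun f => f.base (V.ι.base v)) h
      simpa using this.symm
    let g : (V : Scheme) ⟶ (W : Scheme) := IsOpenImmersion.lift W.ι (V.ι ≫ j) hrange
    have hg : g ≫ W.ι = V.ι ≫ j := IsOpenImmersion.lift_fac _ _ _
    have hcomp : g ≫ (cb₁ ∣_ (jX ''ᵁ U)) = (c₁ ∣_ U) ≫ (jX.isoImage U).hom := by
      rw [← cancel_mono (jX ''ᵁ U).ι]
      simp only [Category.assoc, morphismRestrict_ι, Scheme.Hom.isoImage_hom_ι]
      rw [← Category.assoc, hg, Category.assoc, h, morphismRestrict_ι_assoc]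
    have hprop : IsProper (g ≫ (cb₁ ∣_ (jX ''ᵁ U))) := by rw [hcomp]; infer_instance
    have hgp : IsProper g := IsProper.of_comp g (cb₁ ∣_ (jX ''ᵁ U))
    have hclosed : IsClosed (Set.range g.base) := g.isClosedMap.isClosed_range
    have key : ∀ v : (V : Scheme), W.ι (g v) = j (V.ι v) := fun v => by
      rw [← Scheme.Hom.comp_apply, hg, Scheme.Hom.comp_apply]
    have hdense : DenseRange g.base := by
      have hd : Dense (j.base '' (V : Set C)) := hj.dense_image j.continuous hU
      intro w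
      rw [mem_closure_iff]
      intro N hN hwN
      have hN' : IsOpen (W.ι.base '' N) := W.ι.isOpenEmbedding.isOpenMap N hN
      obtain ⟨_, ⟨n, hn, rfl⟩, ⟨c, hc, hcn⟩⟩ := hd.inter_open_nonempty _ hN' ⟨_, ⟨w, hwN, rfl⟩⟩
      refine ⟨n, hn, ⟨⟨c, hc⟩, ?_⟩⟩
      apply W.ι.isOpenEmbedding.injective
      have e := key ⟨c, hc⟩
      exact e.trans hcn
    have hsurj : Function.Surjective g.base := by
      rw [← Set.range_eq_univ, ← hclosed.closure_eq]
      exact hdense.closure_range
    intro x hx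
    obtain ⟨v, hv⟩ := hsurj ⟨x, hx⟩
    refine ⟨V.ι.base v, v.2, ?_⟩
    have e := key v
    change j (V.ι v) = x
    rw [← e, hv]
    rfl

end Groth.Agent.S18389
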