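import Groth.Statements.S18390
-- import your own Groth.Agent.* helpers here

set_option autoImplicit false
universe u
open LVCorr

namespace Groth.Agent.S18390

theorem sup_pow_le {A' : Type u} [CommRing A'] (I' J₁ J₂ : Ideal A') (h₁ : J₁ ≤ I') (h₂ : J₂ ≤ I')
    (n m : ℕ) : (J₁ ⊔ J₂) ^ (n + m) ≤ J₁ ^ n * I' ^ m ⊔ J₂ ^ m * I' ^ n := by
  induction n generalizing m with
  | zero =>
    simp only [zero_add, pow_zero, Ideal.one_eq_top, Ideal.top_mul, Ideal.mul_top]
    exact le_sup_of_le_left (Ideal.pow_right_mono (sup_le h₁ h₂) m)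
  | succ n ihn =>
    induction m with
    | zero =>
      simp only [add_zero, pow_zero, Ideal.one_eq_top, Ideal.top_mul, Ideal.mul_top]
      exact le_sup_of_le_right (Ideal.pow_right_mono (sup_le h₁ h₂) (n + 1))
    | succ m ihm =>
      have e : n + 1 + (m + 1) = (n + (m + 1)) + 1 := by ring
      rw [e, pow_succ', Ideal.sup_mul]
      apply sup_le
      · refine (Ideal.mul_mono_right (ihn (m + 1))).trans ?_
        rw [Ideal.mul_sup]
        apply sup_le
        · refine le_sup_of_le_left ?_
          rw [← mul_assoc, ← pow_succ']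
        · refine le_sup_of_le_right ?_
          rw [pow_succ I' n, ← mul_assoc, mul_comm J₁, mul_assoc]
          refine Ideal.mul_mono_right ?_
          rw [mul_comm J₁]
          exact Ideal.mul_mono_right h₁
      · have e' : n + (m + 1) = n + 1 + m := by ring
        rw [e']
        refine (Ideal.mul_mono_right ihm).trans ?_
        rw [Ideal.mul_sup]
        apply sup_le
        · refine le_sup_of_le_left ?_
          rw [pow_succ I' m, ← mul_assoc, mul_comm J₂, mul_assoc]
          refine Ideal.mul_mono_right ?_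
          rw [mul_comm J₂]
          exact Ideal.mul_mono_right h₂
        · refine le_sup_of_le_right ?_
          rw [← mul_assoc, ← pow_succ']

/-- Auxiliary predicate: some power of `J`, times any power of `I'`, is mapped one step deeper. -/
def Deep {A' A : Type u} [CommRing A'] [CommRing A] (φ : A' →+* A) (I' : Ideal A') (I : Ideal A)
    (J : Ideal A') : Prop :=
  ∃ K : ℕ, ∀ M : ℕ, (J ^ K * I' ^ M).map φ ≤ I ^ (K + M + 1)

theorem deep_bot {A' A : Type u} [CommRing A'] [CommRing A] (φ : A' →+* A) (I' : Ideal A')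
    (I : Ideal A) : Deep φ I' I ⊥ := by
  refine ⟨1, fun M => ?_⟩
  rw [pow_one, Ideal.bot_mul, Ideal.map_bot]
  exact bot_le

theorem deep_singleton {A' A : Type u} [CommRing A'] [CommRing A] (φ : A' →+* A) (I' : Ideal A')
    (I : Ideal A) (hle : I'.map φ ≤ I) (s : A') (k : ℕ) (hk : φ s ^ k ∈ I ^ (k + 1)) :
    Deep φ I' I (Ideal.span {s}) := by
  refine ⟨k, fun M => ?_⟩
  rw [Ideal.map_mul, Ideal.span_singleton_pow, Ideal.map_span, Set.image_singleton, map_pow,
    Ideal.map_pow, show k + M + 1 = (k + 1) + M by ring, pow_add]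
  refine Ideal.mul_mono ?_ (Ideal.pow_right_mono hle M)
  rw [Ideal.span_le, Set.singleton_subset_iff]
  exact hk

theorem deep_sup {A' A : Type u} [CommRing A'] [CommRing A] (φ : A' →+* A) (I' : Ideal A')
    (I : Ideal A) (J₁ J₂ : Ideal A') (h₁ : J₁ ≤ I') (h₂ : J₂ ≤ I')
    (d₁ : Deep φ I' I J₁) (d₂ : Deep φ I' I J₂) : Deep φ I' I (J₁ ⊔ J₂) := by
  obtain ⟨K₁, hK₁⟩ := d₁
  obtain ⟨K₂, hK₂⟩ := d₂
  refine ⟨K₁ + K₂, fun M => ?_⟩
  have h := sup_pow_le I' J₁ J₂ h₁ h₂ K₁ K₂
  refine (Ideal.map_mono (Ideal.mul_mono_left h)).trans ?_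
  rw [Ideal.sup_mul, Ideal.map_sup]
  apply sup_le
  · rw [mul_assoc, ← pow_add]
    refine (hK₁ (K₂ + M)).trans (le_of_eq ?_)
    congr 1
    ring
  · rw [mul_assoc, ← pow_add]
    refine (hK₂ (K₁ + M)).trans (le_of_eq ?_)
    congr 1
    ring

theorem deep_span_finset {A' A : Type u} [CommRing A'] [CommRing A] (φ : A' →+* A) (I' : Ideal A')
    (I : Ideal A) (hle : I'.map φ ≤ I) (S : Finset A')
    (hS : ∀ s ∈ S, s ∈ I' ∧ ∃ k : ℕ, φ s ^ k ∈ I ^ (k + 1)) :
    Deep φ I' I (Ideal.span (S : Set A')) := by
  classical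
  induction S using Finset.induction_on with
  | empty =>
    rw [Finset.coe_empty, Ideal.span_empty]
    exact deep_bot φ I' I
  | insert a S ha ih =>
    rw [Finset.coe_insert, Ideal.span_insert]
    have hSa := hS a (Finset.mem_insert_self a S)
    obtain ⟨k, hk⟩ := hSa.2
    refine deep_sup φ I' I _ _ ?_ ?_ (deep_singleton φ I' I hle a k hk)
      (ih fun s hs => hS s (Finset.mem_insert_of_mem hs))
    · rw [Ideal.span_le, Set.singleton_subset_iff]
      exact hSa.1
    · rw [Ideal.span_le]
      intro s hs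
      exact (hS s (Finset.mem_insert_of_mem hs)).1

/-- In the affine, ring-theoretic form which its proof establishes. Let φ : A' → A be a ring
homomorphism, I' a finitely generated ideal of A' and I an ideal of A containing the image of I'.
Then some power I'^k is mapped into I^(k+1) if and only if for every n ≥ 1 and every a ∈ I'^n there
is a k with φ(a)^k ∈ I^(nk+1). (Geometrically, for a morphism f : (X, Z) → (X', Z') of pairs with Z
a closed subscheme of the preimage of Z', the normal cone of Z in X is the spectrum of the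
associated graded algebra of I, and the second condition says that the induced map of normal cones
sends the normal cone of Z set-theoretically into the zero section Z'; the source states the
equivalence in that language.) -/
theorem result (A' A : Type u) [CommRing A'] [CommRing A]
    (φ : A' →+* A) (I' : Ideal A') (hI' : I'.FG) (I : Ideal A) (hle : I'.map φ ≤ I) :
    (∃ k : ℕ, (I' ^ k).map φ ≤ I ^ (k + 1)) ↔
      ∀ n : ℕ, 1 ≤ n → ∀ a ∈ I' ^ n, ∃ k : ℕ, 1 ≤ k ∧ φ a ^ k ∈ I ^ (n * k + 1) := by
  constructor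
  · rintro ⟨k₀, hk₀⟩ n hn a ha
    rcases Nat.eq_zero_or_pos k₀ with h0 | hpos
    · subst h0
      have htop : I = ⊤ := by
        rw [Ideal.eq_top_iff_one]
        have : (1 : A) ∈ (I' ^ 0).map φ := by
          rw [pow_zero, Ideal.one_eq_top, Ideal.map_top]
          exact Submodule.mem_top
        have h1 := hk₀ this
        rwa [zero_add, pow_one] at h1
      refine ⟨1, le_rfl, ?_⟩
      rw [htop, Ideal.top_pow]
      exact Submodule.mem_top
    · refine ⟨k₀, hpos, ?_⟩
      have h1 : a ^ k₀ ∈ (I' ^ k₀) ^ n := by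
        rw [← pow_mul, mul_comm, pow_mul]
        exact Ideal.pow_mem_pow ha k₀
      have h2 : φ (a ^ k₀) ∈ ((I' ^ k₀) ^ n).map φ := Ideal.mem_map_of_mem φ h1
      rw [Ideal.map_pow] at h2
      have h3 := Ideal.pow_right_mono hk₀ n h2
      rw [map_pow, ← pow_mul] at h3
      refine Ideal.pow_le_pow_right ?_ h3
      nlinarith
  · intro h
    obtain ⟨S, hS⟩ := hI'
    have hd : Deep φ I' I (Ideal.span (S : Set A')) := by
      apply deep_span_finset φ I' I hle S
      intro s hs
      have hsI : s ∈ I' := by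
        rw [← hS]
        exact Ideal.subset_span hs
      refine ⟨hsI, ?_⟩
      obtain ⟨k, _, hk⟩ := h 1 le_rfl s (by rwa [pow_one])
      exact ⟨k, by rwa [one_mul] at hk⟩
    obtain ⟨K, hK⟩ := hd
    refine ⟨K, ?_⟩
    have := hK 0
    rwa [pow_zero, Ideal.one_eq_top, Ideal.mul_top, hS, add_zero] at this

end Groth.Agent.S18390
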