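import Groth.Statements.S18391
import Mathlib
-- import your own Groth.Agent.* helpers here

set_option autoImplicit false
universe u
open LVCorr


namespace Groth.Agent.S18391

open IsLocalRing

theorem step1 (A : Type u) [CommRing A] [IsDomain A] [IsNoetherianRing A]
    (p : Ideal A) [p.IsPrime] (hp : p.height ≤ 1)
    (P : Ideal (Localization.AtPrime p)) (hP0 : P ≠ ⊥) (hP : P.IsPrime) :
    P = maximalIdeal (Localization.AtPrime p) := by
  set q := P.comap (algebraMap A (Localization.AtPrime p)) with hq
  have hqP : q.map (algebraMap A (Localization.AtPrime p)) = P :=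
    IsLocalization.map_comap p.primeCompl _ P
  have hq0 : q ≠ ⊥ := by
    intro h
    apply hP0
    rw [← hqP, h, Ideal.map_bot]
  have hqprime : q.IsPrime := Ideal.comap_isPrime _ _
  have hqp : q ≤ p := by
    have := (IsLocalization.AtPrime.comap_maximalIdeal (Localization.AtPrime p) p)
    rw [← this]
    exact Ideal.comap_mono (le_maximalIdeal hP.ne_top)
  have : q = p := by
    by_contra hne
    have hlt : q < p := lt_of_le_of_ne hqp hne
    have h1 : (⊥ : Ideal A).height < q.height :=
      Ideal.height_strict_mono_of_isPrime (bot_lt_iff_ne_bot.mpr hq0)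
    have h2 : q.height < p.height := Ideal.height_strict_mono_of_isPrime hlt
    have h3 : q.height < 1 := lt_of_lt_of_le h2 hp
    have : q.height = 0 := by exact ENat.lt_one_iff_eq_zero.mp h3
    rw [this] at h1
    exact not_lt_bot h1
  rw [← hqP, this]
  exact IsLocalization.AtPrime.map_eq_maximalIdeal p _

theorem step2 (A : Type u) [CommRing A] [IsDomain A]
    (p : Ideal A) [p.IsPrime] (t : A) (I : Ideal A) (hI : I.FG)
    (h : I.map (algebraMap A (Localization.AtPrime p)) ≤
      Ideal.span {algebraMap A (Localization.AtPrime p) t}) :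
    ∃ s : A, s ∉ p ∧ ∀ x ∈ I, s * x ∈ Ideal.span {t} := by
  induction I, hI using Submodule.fg_induction with
  | singleton x =>
    have hx : algebraMap A (Localization.AtPrime p) x ∈
        Ideal.span {algebraMap A (Localization.AtPrime p) t} :=
      h (Ideal.mem_map_of_mem _ (Submodule.mem_span_singleton_self x))
    rw [Ideal.mem_span_singleton'] at hx
    obtain ⟨c, hc⟩ := hx
    obtain ⟨⟨b, s⟩, hbs⟩ := IsLocalization.surj p.primeCompl c
    simp only at hbs
    refine ⟨s, s.2, ?_⟩
    intro y hy
    obtain ⟨a, rfl⟩ := Submodule.mem_span_singleton.mp hy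
    have : (s : A) * x = b * t := by
      apply IsLocalization.injective (Localization.AtPrime p) p.primeCompl_le_nonZeroDivisors
      rw [map_mul, map_mul, ← hc, ← hbs]; ring
    rw [Ideal.mem_span_singleton']
    refine ⟨a * b, ?_⟩
    simp only [smul_eq_mul]
    linear_combination a * this.symm
  | sup I₁ I₂ h₁ h₂ ih₁ ih₂ =>
    obtain ⟨s₁, hs₁, H₁⟩ := ih₁ (le_trans (Ideal.map_mono le_sup_left) h)
    obtain ⟨s₂, hs₂, H₂⟩ := ih₂ (le_trans (Ideal.map_mono le_sup_right) h)
    refine ⟨s₁ * s₂, ?_, ?_⟩
    · intro hmem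
      rcases Ideal.IsPrime.mem_or_mem ‹_› hmem with h | h
      · exact hs₁ h
      · exact hs₂ h
    · intro x hx
      obtain ⟨x₁, hx₁, x₂, hx₂, rfl⟩ := Submodule.mem_sup.mp hx
      have e : s₁ * s₂ * (x₁ + x₂) = s₂ * (s₁ * x₁) + s₁ * (s₂ * x₂) := by ring
      rw [e]
      exact Ideal.add_mem _ (Ideal.mul_mem_left _ _ (H₁ _ hx₁)) (Ideal.mul_mem_left _ _ (H₂ _ hx₂))

theorem step3 (A : Type u) [CommRing A] (w s x y : A) (hs : s ∣ w) (h : s * x ∈ Ideal.span {y}) :
    algebraMap A (Localization.Away w) x ∈ Ideal.span {algebraMap A (Localization.Away w) y} := by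
  have hu : IsUnit (algebraMap A (Localization.Away w) s) := by
    have hw : IsUnit (algebraMap A (Localization.Away w) w) :=
      IsLocalization.Away.algebraMap_isUnit w
    obtain ⟨s', rfl⟩ := hs
    rw [map_mul] at hw
    exact isUnit_of_mul_isUnit_left hw
  have h' : algebraMap A (Localization.Away w) (s * x) ∈
      Ideal.span {algebraMap A (Localization.Away w) y} := by
    have := Ideal.mem_map_of_mem (algebraMap A (Localization.Away w)) h
    rwa [Ideal.map_span, Set.image_singleton] at this
  rw [map_mul] at h'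
  exact (Ideal.unit_mul_mem_iff_mem _ hu).mp h'

theorem main (A : Type u) [CommRing A] [IsDomain A]
    [IsNoetherianRing A] [IsIntegrallyClosed A] (z : A) (hz : (Ideal.span {z}).radical.IsPrime)
    (hz0 : z ≠ 0) :
    ∃ (w t : A) (r : ℕ), w ∉ (Ideal.span {z}).radical ∧
      Ideal.span {algebraMap A (Localization.Away w) z} =
        Ideal.span {algebraMap A (Localization.Away w) t ^ r} ∧
      (Ideal.span {algebraMap A (Localization.Away w) t}).IsPrime := by
  set p := (Ideal.span {z}).radical with hpdef
  have hzp : z ∈ p := Ideal.le_radical (Ideal.mem_span_singleton_self z)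
  have hpmin : p ∈ (Ideal.span {z}).minimalPrimes := by
    refine ⟨⟨hz, Ideal.le_radical⟩, ?_⟩
    rintro q ⟨hq, hzq⟩ hqp
    exact (Ideal.IsPrime.radical_le_iff hq).mpr hzq
  have hht : p.height ≤ 1 := Ideal.height_le_one_of_isPrincipal_of_mem_minimalPrimes _ p hpmin
  let Ap := Localization.AtPrime p
  have hinj : Function.Injective (algebraMap A Ap) :=
    IsLocalization.injective Ap p.primeCompl_le_nonZeroDivisors
  have : IsIntegrallyClosed Ap :=
    isIntegrallyClosed_of_isLocalization Ap p.primeCompl p.primeCompl_le_nonZeroDivisors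
  have tfae := tfae_of_isNoetherianRing_of_isLocalRing_of_isDomain Ap
  have h3 : IsIntegrallyClosed Ap ∧ ∀ P : Ideal Ap, P ≠ ⊥ → P.IsPrime → P = maximalIdeal Ap :=
    ⟨inferInstance, fun P hP0 hP => step1 A p hht P hP0 hP⟩
  have h4 : (maximalIdeal Ap).IsPrincipal := (tfae.out 3 4).mp h3
  have h6 : ∀ I ≠ ⊥, ∃ n : ℕ, I = maximalIdeal Ap ^ n := (tfae.out 3 6).mp h3
  -- generator of the maximal ideal, from A
  obtain ⟨t, ht⟩ : ∃ t : A, maximalIdeal Ap = Ideal.span {algebraMap A Ap t} := by
    obtain ⟨g, hg⟩ := h4.principal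
    obtain ⟨⟨a, s⟩, has⟩ := IsLocalization.surj p.primeCompl g
    simp only at has
    refine ⟨a, ?_⟩
    rw [hg, ← has]
    have hu : IsUnit (algebraMap A Ap s) := IsLocalization.map_units Ap s
    change Ideal.span {g} = Ideal.span {g * _}
    rw [Ideal.span_singleton_mul_right_unit hu]
  have htp : t ∈ p := by
    have : algebraMap A Ap t ∈ maximalIdeal Ap := by
      rw [ht]; exact Ideal.mem_span_singleton_self _
    rw [← IsLocalization.AtPrime.under_maximalIdeal Ap p]
    exact this
  -- (z) = m^r
  obtain ⟨r, hr⟩ := h6 (Ideal.span {algebraMap A Ap z}) (by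
    rw [Ne, Ideal.span_singleton_eq_bot]
    intro h
    exact hz0 (hinj (by rw [h, map_zero])))
  rw [ht, Ideal.span_singleton_pow, ← map_pow] at hr
  -- spreading out
  obtain ⟨s₁, hs₁, H₁⟩ := step2 A p (t ^ r) (Ideal.span {z}) ⟨{z}, by simp⟩ (by
    rw [Ideal.map_span, Set.image_singleton, hr])
  obtain ⟨s₂, hs₂, H₂⟩ := step2 A p z (Ideal.span {t ^ r}) ⟨{t ^ r}, by simp⟩ (by
    rw [Ideal.map_span, Set.image_singleton, hr])
  obtain ⟨s₃, hs₃, H₃⟩ := step2 A p t p (IsNoetherian.noetherian p) (by
    rw [IsLocalization.AtPrime.map_eq_maximalIdeal p Ap, ht])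
  set w := s₁ * s₂ * s₃ with hw
  have hwp : w ∉ p := by
    intro hmem
    rcases Ideal.IsPrime.mem_or_mem hz hmem with h | h
    · rcases Ideal.IsPrime.mem_or_mem hz h with h | h
      · exact hs₁ h
      · exact hs₂ h
    · exact hs₃ h
  have d₁ : s₁ ∣ w := ⟨s₂ * s₃, by rw [hw]; ring⟩
  have d₂ : s₂ ∣ w := ⟨s₁ * s₃, by rw [hw]; ring⟩
  have d₃ : s₃ ∣ w := ⟨s₁ * s₂, by rw [hw]; ring⟩
  refine ⟨w, t, r, hwp, ?_, ?_⟩
  · apply le_antisymm
    · rw [Ideal.span_singleton_le_iff_mem, ← map_pow]
      exact step3 A w s₁ z (t ^ r) d₁ (H₁ z (Ideal.mem_span_singleton_self z))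
    · rw [Ideal.span_singleton_le_iff_mem, ← map_pow]
      exact step3 A w s₂ (t ^ r) z d₂ (H₂ _ (Ideal.mem_span_singleton_self _))
  · have hmap : Ideal.span {algebraMap A (Localization.Away w) t} =
        p.map (algebraMap A (Localization.Away w)) := by
      apply le_antisymm
      · rw [Ideal.span_singleton_le_iff_mem]
        exact Ideal.mem_map_of_mem _ htp
      · rw [Ideal.map_le_iff_le_comap]
        intro x hx
        exact step3 A w s₃ x t d₃ (H₃ x hx)
    rw [hmap]
    refine IsLocalization.isPrime_of_isPrime_disjoint (Submonoid.powers w) _ p hz ?_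
    rw [Set.disjoint_left]
    rintro x ⟨n, rfl⟩ hx
    exact hwp (Ideal.IsPrime.mem_of_pow_mem hz n hx)

end Groth.Agent.S18391

namespace Groth.Agent.S18391

/-- Let A be a normal (integrally closed) Noetherian domain and z an element of A such that the radical
of the principal ideal (z) is prime. Then there exist elements w, t of A and a natural number r,
with w not in the radical of (z), such that in the localization A[1/w] the ideal generated by z
equals the ideal generated by t^r and the ideal generated by t is prime. (The condition on w is the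
one the printed proof produces and the later use of the lemma needs.) -/
theorem result (A : Type u) [CommRing A] [IsDomain A]
    [IsNoetherianRing A] [IsIntegrallyClosed A] (z : A) (hz : (Ideal.span {z}).radical.IsPrime) :
    ∃ (w t : A) (r : ℕ), w ∉ (Ideal.span {z}).radical ∧
      Ideal.span {algebraMap A (Localization.Away w) z} =
        Ideal.span {algebraMap A (Localization.Away w) t ^ r} ∧
      (Ideal.span {algebraMap A (Localization.Away w) t}).IsPrime := by
  by_cases hz0 : z = 0
  · subst hz0
    have hdom : IsDomain (Localization.Away (1 : A)) :=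
      IsLocalization.isDomain_localization (M := Submonoid.powers (1 : A)) (by
          rintro x ⟨n, rfl⟩
          simp)
    refine ⟨1, 0, 1, ?_, by simp, ?_⟩
    · intro h
      have h0 : (Ideal.span {(0 : A)}).radical = ⊥ := by
        rw [Ideal.span_singleton_eq_bot.mpr rfl]
        exact Ideal.radical_bot_of_noZeroDivisors
      rw [h0] at h
      exact one_ne_zero h
    · rw [map_zero, Ideal.span_singleton_eq_bot.mpr rfl]
      exact Ideal.isPrime_bot
  · exact main A z hz hz0

end Groth.Agent.S18391
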