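import Groth.Statements.S18392
import Mathlib.RingTheory.Ideal.KrullsHeightTheorem
import Mathlib.RingTheory.Ideal.MinimalPrime.Noetherian
-- import your own Groth.Agent.* helpers here

set_option autoImplicit false
universe u
open LVCorr

namespace Groth.Agent.S18392

/-- Let A be a normal (integrally closed) Noetherian domain and z an element of A such that the radical
of (z) is prime. Then for every non-empty open subset V of Spec A contained in the basic open set
D(z) (that is, every non-empty open subset of Spec A[1/z]) there is an element x of A, not in the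
radical of (z), such that the basic open set D(xz) = Spec A[1/xz] is contained in V. -/
theorem result (A : Type u) [CommRing A]
    [IsDomain A] [IsNoetherianRing A] [IsIntegrallyClosed A] (z : A)
    (hz : (Ideal.span {z}).radical.IsPrime) (V : Set (PrimeSpectrum A)) (hV : IsOpen V)
    (hVz : V ⊆ (PrimeSpectrum.basicOpen z : Set (PrimeSpectrum A))) (hne : V.Nonempty) :
    ∃ x : A, x ∉ (Ideal.span {z}).radical ∧
      ((PrimeSpectrum.basicOpen (x * z) : TopologicalSpace.Opens (PrimeSpectrum A)) :
        Set (PrimeSpectrum A)) ⊆ V := by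
  classical
  set p := (Ideal.span {z}).radical with hp
  -- a basic open inside V
  obtain ⟨q₀, hq₀⟩ := hne
  obtain ⟨_, ⟨f, rfl⟩, hq₀f, hfV⟩ :=
    PrimeSpectrum.isTopologicalBasis_basic_opens.exists_subset_of_mem_open hq₀ hV
  have hf0 : f ≠ 0 := by
    rintro rfl
    exact hq₀f (Ideal.zero_mem _)
  -- p is minimal over (z)
  have hpmin : p ∈ (Ideal.span {z}).minimalPrimes := by
    refine ⟨⟨hz, Ideal.le_radical⟩, ?_⟩
    rintro r ⟨hr, hzr⟩ _
    exact hr.radical_le_iff.mpr hzr
  have hht : p.height ≤ 1 := Ideal.height_le_one_of_isPrincipal_of_mem_minimalPrimes _ p hpmin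
  -- minimal primes over (f)
  have hfin : (Ideal.span {f}).minimalPrimes.Finite :=
    Ideal.finite_minimalPrimes_of_isNoetherianRing A _
  have hex : ∀ q : Ideal A, q ∈ (Ideal.span {f}).minimalPrimes → q ≠ p → ∃ s : A, s ∈ q ∧ s ∉ p := by
    intro q hq hqp
    by_contra hcon
    push Not at hcon
    have hle : q ≤ p := hcon
    have hlt : q < p := lt_of_le_of_ne hle hqp
    have := hq.1.1
    have h1 : q.height < p.height := Ideal.height_strict_mono_of_isPrime_of_isPrime hlt
    have h2 : q.height = 0 := by
      have : q.height < 1 := lt_of_lt_of_le h1 hht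
      exact Order.lt_one_iff.mp this
    rw [Ideal.height_eq_zero_iff_eq_bot] at h2
    have hfq : f ∈ q := hq.1.2 (Ideal.subset_span rfl)
    rw [h2] at hfq
    exact hf0 hfq
  choose! s hs using hex
  let T : Finset (Ideal A) := hfin.toFinset.filter (fun q => q ≠ p)
  refine ⟨∏ q ∈ T, s q, ?_, ?_⟩
  · intro hmem
    obtain ⟨q, hqT, hsq⟩ := (hz.prod_mem_iff).mp hmem
    rw [Finset.mem_filter, Set.Finite.mem_toFinset] at hqT
    exact (hs q hqT.1 hqT.2).2 hsq
  · intro r hr
    apply hfV
    change r ∈ (PrimeSpectrum.basicOpen f : Set (PrimeSpectrum A))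
    rw [SetLike.mem_coe, PrimeSpectrum.mem_basicOpen] at hr ⊢
    intro hfr
    apply hr
    obtain ⟨q, hq, hqr⟩ := Ideal.exists_minimalPrimes_le (I := Ideal.span {f}) (J := r.asIdeal)
      (by rw [Ideal.span_le, Set.singleton_subset_iff]; exact hfr)
    by_cases hqp : q = p
    · apply Ideal.mul_mem_left
      apply hqr
      rw [hqp]
      exact Ideal.le_radical (Ideal.subset_span rfl)
    · apply Ideal.mul_mem_right
      have hqT : q ∈ T := by
        rw [Finset.mem_filter, Set.Finite.mem_toFinset]
        exact ⟨hq, hqp⟩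
      rw [← Finset.mul_prod_erase T s hqT]
      apply Ideal.mul_mem_right
      exact hqr (hs q hq hqp).1

end Groth.Agent.S18392
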