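import Groth.Statements.S18393
-- import your own Groth.Agent.* helpers here

set_option autoImplicit false
universe u v
open LVCorr

namespace Groth.Agent.S18393

/-- Stated for the underlying continuous maps. Let c₁, c₂ : C → X be continuous maps with C a Noetherian
topological space, let Z be a closed subset of X and B the closure in C of c₂⁻¹(Z) ∖ c₁⁻¹(Z). Call Z
locally invariant when every point x of Z has an open neighbourhood U such that every y in C with
c₂(y) ∈ Z ∩ U and c₁(y) ∈ U satisfies c₁(y) ∈ Z. Then Z is locally invariant if and only if for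
every irreducible subset T of B the closures of c₁(T) and of c₂(T) in X are disjoint. (The source
states this for a correspondence c = (c₁, c₂) : C → X × X of separated schemes of finite type over
an algebraically closed field and for the irreducible components of B; the condition for all
irreducible subsets of B is the same condition.) -/
theorem result {C : Type u} {X : Type v}
    [TopologicalSpace C] [TopologicalSpace X] [TopologicalSpace.NoetherianSpace C]
    (c₁ c₂ : C → X) (hc₁ : Continuous c₁) (hc₂ : Continuous c₂) (Z : Set X) (hZ : IsClosed Z) :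
    (∀ x ∈ Z, ∃ U : Set X, IsOpen U ∧ x ∈ U ∧
        ∀ y : C, c₂ y ∈ Z → c₂ y ∈ U → c₁ y ∈ U → c₁ y ∈ Z) ↔
      ∀ T : Set C, T ⊆ closure (c₂ ⁻¹' Z \ c₁ ⁻¹' Z) → IsIrreducible T →
        closure (c₁ '' T) ∩ closure (c₂ '' T) = ∅ := by
  classical
  set W : Set C := c₂ ⁻¹' Z \ c₁ ⁻¹' Z with hW
  have hc₂B : ∀ y ∈ closure W, c₂ y ∈ Z := by
    intro y hy
    have h1 : c₂ y ∈ closure (c₂ '' W) := image_closure_subset_closure_image hc₂ ⟨y, hy, rfl⟩
    have h2 : c₂ '' W ⊆ Z := by
      rintro _ ⟨w, hw, rfl⟩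
      exact hw.1
    exact (hZ.closure_subset_iff.mpr h2) h1
  constructor
  · intro h T hT hTirr
    by_contra hne
    obtain ⟨x, hx₁, hx₂⟩ := Set.nonempty_iff_ne_empty.mpr hne
    have hc₂T : c₂ '' T ⊆ Z := by
      rintro _ ⟨t, ht, rfl⟩
      exact hc₂B t (hT ht)
    have hxZ : x ∈ Z := (hZ.closure_subset_iff.mpr hc₂T) hx₂
    obtain ⟨U, hUo, hxU, hU⟩ := h x hxZ
    obtain ⟨_, hu1, ⟨t₁, ht₁, rfl⟩⟩ := mem_closure_iff.mp hx₁ U hUo hxU
    obtain ⟨_, hu2, ⟨t₂, ht₂, rfl⟩⟩ := mem_closure_iff.mp hx₂ U hUo hxU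
    obtain ⟨t, htT, ht1, ht2⟩ := hTirr.2 (c₁ ⁻¹' U) (c₂ ⁻¹' U) (hUo.preimage hc₁) (hUo.preimage hc₂)
      ⟨t₁, ht₁, hu1⟩ ⟨t₂, ht₂, hu2⟩
    have hopen : IsOpen (c₁ ⁻¹' U ∩ c₂ ⁻¹' U) := (hUo.preimage hc₁).inter (hUo.preimage hc₂)
    obtain ⟨y, ⟨hy1, hy2⟩, hyW⟩ := mem_closure_iff.mp (hT htT) _ hopen ⟨ht1, ht2⟩
    exact hyW.2 (hU y hyW.1 hy2 hy1)
  · intro h x hxZ
    obtain ⟨S, hSf, hSc, hSi, hSU⟩ :=
      TopologicalSpace.NoetherianSpace.exists_finite_set_isClosed_irreducible
        (isClosed_closure : IsClosed (closure W))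
    have hsub : ∀ T ∈ S, T ⊆ closure W := by
      intro T hT
      rw [hSU]
      exact Set.subset_sUnion_of_mem hT
    have hdisj : ∀ T ∈ S, x ∉ closure (c₁ '' T) ∨ x ∉ closure (c₂ '' T) := by
      intro T hT
      have := h T (hsub T hT) (hSi T hT)
      by_contra hcon
      push Not at hcon
      have hx : x ∈ closure (c₁ '' T) ∩ closure (c₂ '' T) := hcon
      rw [this] at hx
      exact hx
    let Uf : Set C → Set X := fun T =>
      if x ∈ closure (c₁ '' T) then (closure (c₂ '' T))ᶜ else (closure (c₁ '' T))ᶜ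
    have hUf_pos : ∀ T, x ∈ closure (c₁ '' T) → Uf T = (closure (c₂ '' T))ᶜ := fun T hT => if_pos hT
    have hUf_neg : ∀ T, x ∉ closure (c₁ '' T) → Uf T = (closure (c₁ '' T))ᶜ := fun T hT => if_neg hT
    refine ⟨⋂ T ∈ S, Uf T, ?_, ?_, ?_⟩
    · apply hSf.isOpen_biInter
      intro T _
      by_cases h1 : x ∈ closure (c₁ '' T)
      · rw [hUf_pos T h1]
        exact isClosed_closure.isOpen_compl
      · rw [hUf_neg T h1]
        exact isClosed_closure.isOpen_compl
    · simp only [Set.mem_iInter]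
      intro T hT
      by_cases h1 : x ∈ closure (c₁ '' T)
      · rw [hUf_pos T h1]
        exact (hdisj T hT).resolve_left (not_not.mpr h1)
      · rw [hUf_neg T h1]
        exact h1
    · intro y hy2Z hy2U hy1U
      by_contra hy1Z
      have hyW : y ∈ W := ⟨hy2Z, hy1Z⟩
      have hyB : y ∈ closure W := subset_closure hyW
      rw [hSU] at hyB
      obtain ⟨T, hT, hyT⟩ := hyB
      simp only [Set.mem_iInter] at hy2U hy1U
      have h1 := hy1U T hT
      have h2 := hy2U T hT
      by_cases hx1 : x ∈ closure (c₁ '' T)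
      · rw [hUf_pos T hx1] at h2
        exact h2 (subset_closure ⟨y, hyT, rfl⟩)
      · rw [hUf_neg T hx1] at h1
        exact h1 (subset_closure ⟨y, hyT, rfl⟩)

end Groth.Agent.S18393
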