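import Groth.Statements.S18399
import Mathlib

set_option autoImplicit false
universe u
open CAlg

namespace Groth.Agent.S18399

section key
variable {A : Type*} [CommRing A] [IsLocalRing A] (σ : A →+* A) (n : ℕ)

open IsLocalRing

/-- The ideal generated by the `a - σ a`. -/
def Iσ : Ideal A := Ideal.span (Set.range fun a : A => a - σ a)

lemma delta_mem (a : A) : a - σ a ∈ Iσ σ := Ideal.subset_span ⟨a, rfl⟩

variable {σ n}

lemma sigma_mem_max (hn0 : n ≠ 0) (hσ : ∀ a : A, (⇑σ)^[n] a = a) {a : A}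
    (ha : a ∈ maximalIdeal A) : σ a ∈ maximalIdeal A := by
  rw [mem_maximalIdeal, mem_nonunits_iff] at ha ⊢
  intro hu
  apply ha
  obtain ⟨m, rfl⟩ : ∃ m, n = m + 1 := ⟨n - 1, by omega⟩
  have := hσ a
  rw [Function.iterate_succ_apply] at this
  rw [← this]
  have hiter : ∀ (j : ℕ) (b : A), IsUnit b → IsUnit ((⇑σ)^[j] b) := by
    intro j
    induction j with
    | zero => intro b hb; simpa using hb
    | succ j ih =>
      intro b hb
      rw [Function.iterate_succ_apply]
      exact ih _ (hb.map σ)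
  exact hiter m _ hu

lemma sigma_mem_sq (hn0 : n ≠ 0) (hσ : ∀ a : A, (⇑σ)^[n] a = a) {y : A}
    (hy : y ∈ maximalIdeal A ^ 2) : σ y ∈ maximalIdeal A ^ 2 := by
  rw [pow_two] at hy ⊢
  refine Submodule.mul_induction_on hy (fun a ha b hb => ?_) (fun x z hx hz => ?_)
  · rw [map_mul]
    exact Ideal.mul_mem_mul (sigma_mem_max hn0 hσ ha) (sigma_mem_max hn0 hσ hb)
  · rw [map_add]
    exact Ideal.add_mem _ hx hz

lemma iter_mem_sq (hn0 : n ≠ 0) (hσ : ∀ a : A, (⇑σ)^[n] a = a) {y : A}
    (hy : y ∈ maximalIdeal A ^ 2) (j : ℕ) : (⇑σ)^[j] y ∈ maximalIdeal A ^ 2 := by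
  induction j with
  | zero => simpa using hy
  | succ j ih =>
    rw [Function.iterate_succ_apply']
    exact sigma_mem_sq hn0 hσ ih

/-- `δ` of an element of `𝔪²` lies in `𝔪 I`. -/
lemma delta_sq_mem (hn0 : n ≠ 0) (hσ : ∀ a : A, (⇑σ)^[n] a = a) {y : A}
    (hy : y ∈ maximalIdeal A ^ 2) : y - σ y ∈ maximalIdeal A * Iσ σ := by
  rw [pow_two] at hy
  refine Submodule.mul_induction_on hy (fun a ha b hb => ?_) (fun x z hx hz => ?_)
  · have : a * b - σ (a * b) = a * (b - σ b) + σ b * (a - σ a) := by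
      rw [map_mul]; ring
    rw [this]
    exact Ideal.add_mem _ (Ideal.mul_mem_mul ha (delta_mem σ b))
      (Ideal.mul_mem_mul (sigma_mem_max hn0 hσ hb) (delta_mem σ a))
  · have : x + z - σ (x + z) = (x - σ x) + (z - σ z) := by
      rw [map_add]; ring
    rw [this]
    exact Ideal.add_mem _ hx hz

lemma sub_iter_mem (hn0 : n ≠ 0) (hσ : ∀ a : A, (⇑σ)^[n] a = a) {y : A}
    (hy : y ∈ maximalIdeal A ^ 2) (j : ℕ) : y - (⇑σ)^[j] y ∈ maximalIdeal A * Iσ σ := by
  induction j with
  | zero => simp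
  | succ j ih =>
    have : y - (⇑σ)^[j + 1] y = (y - (⇑σ)^[j] y) + ((⇑σ)^[j] y - σ ((⇑σ)^[j] y)) := by
      rw [Function.iterate_succ_apply']; ring
    rw [this]
    exact Ideal.add_mem _ ih (delta_sq_mem hn0 hσ (iter_mem_sq hn0 hσ hy j))

/-- If `δ μ ∈ 𝔪²` then `δ μ ∈ 𝔪 I`. -/
lemma delta_mem_of_sq (hn0 : n ≠ 0) (hσ : ∀ a : A, (⇑σ)^[n] a = a) (hn : IsUnit (n : A)) (μ : A)
    (hy : μ - σ μ ∈ maximalIdeal A ^ 2) : μ - σ μ ∈ maximalIdeal A * Iσ σ := by
  have hN : ∑ i ∈ Finset.range n, (⇑σ)^[i] (μ - σ μ) = 0 := by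
    have : ∀ i, (⇑σ)^[i] (μ - σ μ) = (⇑σ)^[i] μ - (⇑σ)^[i + 1] μ := by
      intro i
      rw [Function.iterate_succ_apply, iterate_map_sub]
    simp only [this]
    rw [Finset.sum_range_sub', hσ μ]
    simp
  have hsum : (n : A) * (μ - σ μ) =
      ∑ i ∈ Finset.range n, ((μ - σ μ) - (⇑σ)^[i] (μ - σ μ)) := by
    rw [Finset.sum_sub_distrib, hN, sub_zero, Finset.sum_const, Finset.card_range, nsmul_eq_mul]
  have hmem : (n : A) * (μ - σ μ) ∈ maximalIdeal A * Iσ σ := by
    rw [hsum]
    exact Ideal.sum_mem _ fun i _ => sub_iter_mem hn0 hσ hy i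
  obtain ⟨u, hu⟩ := hn
  have : μ - σ μ = (↑u⁻¹ : A) * ((n : A) * (μ - σ μ)) := by
    rw [← mul_assoc, ← hu, Units.inv_mul, one_mul]
  rw [this]
  exact Ideal.mul_mem_left _ _ hmem

/-- Every element of `I` is `δ μ` for some `μ ∈ 𝔪`, modulo `𝔪 I`. -/
lemma exists_delta (hdec : ∀ a : A, ∃ β μ : A, a = β + μ ∧ (∀ b, σ (β * b) = β * σ b) ∧
    μ ∈ maximalIdeal A) {x : A} (hx : x ∈ Iσ σ) :
    ∃ μ ∈ maximalIdeal A, x - (μ - σ μ) ∈ maximalIdeal A * Iσ σ := by
  unfold Iσ at hx
  induction hx using Submodule.span_induction with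
  | mem x hx =>
    obtain ⟨a, rfl⟩ := hx
    obtain ⟨β, μ, rfl, hβ, hμ⟩ := hdec a
    refine ⟨μ, hμ, ?_⟩
    have h1 := hβ 1
    rw [mul_one, map_one, mul_one] at h1
    have : β + μ - σ (β + μ) - (μ - σ μ) = 0 := by
      rw [map_add, h1]; ring
    simp only
    rw [this]
    exact Ideal.zero_mem _
  | zero => exact ⟨0, Ideal.zero_mem _, by simp⟩
  | add x y _ _ hx hy =>
    obtain ⟨μ, hμ, h1⟩ := hx
    obtain ⟨ν, hν, h2⟩ := hy
    refine ⟨μ + ν, Ideal.add_mem _ hμ hν, ?_⟩
    have : x + y - (μ + ν - σ (μ + ν)) = (x - (μ - σ μ)) + (y - (ν - σ ν)) := by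
      rw [map_add]; ring
    rw [this]
    exact Ideal.add_mem _ h1 h2
  | smul b x hxs hx =>
    obtain ⟨μ, hμ, h1⟩ := hx
    obtain ⟨β, ν, rfl, hβ, hν⟩ := hdec b
    refine ⟨β * μ, Ideal.mul_mem_left _ _ hμ, ?_⟩
    have : (β + ν) • x - (β * μ - σ (β * μ)) = (β + ν) * (x - (μ - σ μ)) + ν * (μ - σ μ) := by
      rw [hβ, smul_eq_mul]; ring
    rw [this]
    exact Ideal.add_mem _ (Ideal.mul_mem_left _ _ h1) (Ideal.mul_mem_mul hν (delta_mem σ μ))

lemma Iσ_le (hdec : ∀ a : A, ∃ β μ : A, a = β + μ ∧ (∀ b, σ (β * b) = β * σ b) ∧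
    μ ∈ maximalIdeal A) (hn0 : n ≠ 0) (hσ : ∀ a : A, (⇑σ)^[n] a = a) :
    Iσ σ ≤ maximalIdeal A := by
  unfold Iσ
  rw [Ideal.span_le]
  rintro _ ⟨a, rfl⟩
  obtain ⟨β, μ, rfl, hβ, hμ⟩ := hdec a
  have h1 := hβ 1
  rw [mul_one, map_one, mul_one] at h1
  have : β + μ - σ (β + μ) = μ - σ μ := by rw [map_add, h1]; ring
  simp only
  rw [this]
  exact Ideal.sub_mem _ hμ (sigma_mem_max hn0 hσ hμ)

/-- The key inclusion `I ∩ 𝔪² ⊆ 𝔪 I`. -/
lemma inter_sq_le (hdec : ∀ a : A, ∃ β μ : A, a = β + μ ∧ (∀ b, σ (β * b) = β * σ b) ∧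
    μ ∈ maximalIdeal A) (hn0 : n ≠ 0) (hσ : ∀ a : A, (⇑σ)^[n] a = a) (hn : IsUnit (n : A))
    {x : A} (hx : x ∈ Iσ σ) (hx2 : x ∈ maximalIdeal A ^ 2) : x ∈ maximalIdeal A * Iσ σ := by
  obtain ⟨μ, hμ, h1⟩ := exists_delta hdec hx
  have hle : maximalIdeal A * Iσ σ ≤ maximalIdeal A ^ 2 := by
    rw [pow_two]
    exact Ideal.mul_mono_right (Iσ_le hdec hn0 hσ)
  have h2 : μ - σ μ ∈ maximalIdeal A ^ 2 := by
    have : μ - σ μ = x - (x - (μ - σ μ)) := by ring
    rw [this]
    exact Ideal.sub_mem _ hx2 (hle h1)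
  have h3 := delta_mem_of_sq hn0 hσ hn μ h2
  have : x = (x - (μ - σ μ)) + (μ - σ μ) := by ring
  rw [this]
  exact Ideal.add_mem _ h1 h3

end key

/-- Let k be a field and A a regular local k-algebra with residue field k (the structure map from k onto
the residue field of A is surjective), let σ be a k-algebra endomorphism of A of finite order n with
n invertible in k, and let I_σ be the ideal of A generated by the elements f - σ f. Then I_σ is
generated by finitely many elements of the maximal ideal whose classes in the cotangent space m/m^2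
are linearly independent over the residue field. (Such elements are part of a regular system of
parameters of A, hence part of a regular sequence, which is the printed conclusion; the generators
with independent classes are what the argument produces.) -/
theorem result {k : Type u} [Field k] {A : Type u} [CommRing A] [Algebra k A] [IsRegularLocalRing A] (hres : Function.Surjective ⇑(algebraMap k (IsLocalRing.ResidueField A))) (σ : A →ₐ[k] A) (n : ℕ) (hσ : ∀ a : A, (⇑σ)^[n] a = a) (hn : (n : k) ≠ 0) : ∃ (m : ℕ) (f : Fin m → ↥(IsLocalRing.maximalIdeal A)), Ideal.span (Set.range fun i : Fin m => (f i : A)) = Ideal.span (Set.range fun a : A => a - σ a) ∧ LinearIndependent (IsLocalRing.ResidueField A) (fun i : Fin m => (IsLocalRing.maximalIdeal A).toCotangent (f i)) := by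
  classical
  have hn0 : n ≠ 0 := by
    rintro rfl
    exact hn (by simp)
  have hnA : IsUnit (n : A) := by
    have : (n : A) = algebraMap k A (n : k) := by simp
    rw [this]
    exact (IsUnit.mk0 _ hn).map _
  have hσ' : ∀ a : A, (⇑(σ : A →+* A))^[n] a = a := hσ
  have hdec : ∀ a : A, ∃ β μ : A, a = β + μ ∧ (∀ b, (σ : A →+* A) (β * b) = β * (σ : A →+* A) b) ∧
      μ ∈ IsLocalRing.maximalIdeal A := by
    intro a
    obtain ⟨l, hl⟩ := hres (IsLocalRing.residue A a)
    refine ⟨algebraMap k A l, a - algebraMap k A l, by ring, fun b => ?_, ?_⟩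
    · simp only [RingHom.coe_coe]
      rw [← Algebra.smul_def, map_smul, Algebra.smul_def]
    · rw [← IsLocalRing.residue_eq_zero_iff, map_sub, ← hl, IsScalarTower.algebraMap_apply k A]
      exact sub_self _
  have hI : Ideal.span (Set.range fun a : A => a - σ a) = Iσ (σ : A →+* A) := rfl
  rw [hI]
  have hIle := Iσ_le hdec hn0 hσ'
  -- the image of `I` in the cotangent space
  obtain ⟨S, hS⟩ : ∃ S : Set (IsLocalRing.CotangentSpace A), S =
      {v | ∃ x : IsLocalRing.maximalIdeal A, (x : A) ∈ Iσ (σ : A →+* A) ∧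
        (IsLocalRing.maximalIdeal A).toCotangent x = v} := ⟨_, rfl⟩
  obtain ⟨b, hbS, hbspan, hbli⟩ := exists_linearIndependent (IsLocalRing.ResidueField A) S
  have hbfin : b.Finite := hbli.setFinite
  haveI : Finite b := hbfin
  let e := Finite.equivFin b
  have hch : ∀ i : Fin (Nat.card b), ∃ x : IsLocalRing.maximalIdeal A,
      (x : A) ∈ Iσ (σ : A →+* A) ∧ (IsLocalRing.maximalIdeal A).toCotangent x = (e.symm i : _) := by
    intro i
    have := hbS (e.symm i).2
    rw [hS] at this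
    exact this
  choose f hfI hfc using hch
  have hrange : Set.range (fun i => (IsLocalRing.maximalIdeal A).toCotangent (f i)) = b := by
    ext v
    constructor
    · rintro ⟨i, rfl⟩
      simp only [hfc]
      exact (e.symm i).2
    · intro hv
      refine ⟨e ⟨v, hv⟩, ?_⟩
      simp only [hfc, Equiv.symm_apply_apply]
  refine ⟨Nat.card b, f, ?_, ?_⟩
  · apply le_antisymm
    · rw [Ideal.span_le]
      rintro _ ⟨i, rfl⟩
      exact hfI i
    · apply Submodule.le_of_le_smul_of_le_jacobson_bot (I := IsLocalRing.maximalIdeal A)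
        (IsNoetherian.noetherian _) (IsLocalRing.maximalIdeal_le_jacobson _)
      intro x hx
      have hxm : x ∈ IsLocalRing.maximalIdeal A := hIle hx
      have hxS : (IsLocalRing.maximalIdeal A).toCotangent ⟨x, hxm⟩ ∈
          Submodule.span (IsLocalRing.ResidueField A)
            (Set.range (fun i => (IsLocalRing.maximalIdeal A).toCotangent (f i))) := by
        rw [hrange, hbspan]
        apply Submodule.subset_span
        rw [hS]
        exact ⟨⟨x, hxm⟩, hx, rfl⟩
      rw [Submodule.mem_span_range_iff_exists_fun] at hxS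
      obtain ⟨c, hc⟩ := hxS
      have hlift : ∀ i, ∃ a : A, IsLocalRing.residue A a = c i := fun i =>
        IsLocalRing.residue_surjective (c i)
      choose a ha using hlift
      obtain ⟨y, hy⟩ : ∃ y : IsLocalRing.maximalIdeal A, y = ⟨x, hxm⟩ - ∑ i, a i • f i := ⟨_, rfl⟩
      have hy0 : (IsLocalRing.maximalIdeal A).toCotangent y = 0 := by
        rw [hy, map_sub, map_sum, ← hc, sub_eq_zero]
        refine Finset.sum_congr rfl fun i _ => ?_
        rw [map_smul, ← ha i]
        exact IsScalarTower.algebraMap_smul (IsLocalRing.ResidueField A) (a i) _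
      rw [Ideal.toCotangent_eq_zero] at hy0
      have hyv : (y : A) = x - ∑ i, a i * (f i : A) := by
        rw [hy]
        simp
      have hyI : (y : A) ∈ Iσ (σ : A →+* A) := by
        rw [hyv]
        exact Ideal.sub_mem _ hx (Ideal.sum_mem _ fun i _ => Ideal.mul_mem_left _ _ (hfI i))
      have hkey := inter_sq_le hdec hn0 hσ' hnA hyI hy0
      have hx' : x = (∑ i, a i * (f i : A)) + (y : A) := by rw [hyv]; ring
      rw [hx']
      apply Submodule.add_mem_sup
      · exact Ideal.sum_mem _ fun i _ => Ideal.mul_mem_left _ _ (Ideal.subset_span ⟨i, rfl⟩)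
      · rw [smul_eq_mul]
        exact hkey
  · have : (fun i => (IsLocalRing.maximalIdeal A).toCotangent (f i)) =
        (Subtype.val : b → IsLocalRing.CotangentSpace A) ∘ e.symm := by
      funext i
      rw [hfc]
      rfl
    rw [this]
    exact hbli.comp _ e.symm.injective

end Groth.Agent.S18399
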