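import Groth.Statements.S18402
import Groth.Agent.H91.ConnGen

set_option autoImplicit false
universe u
open Pi1

namespace Groth.Agent.S18402

open AlgebraicGeometry CategoryTheory CategoryTheory.Limits in
/-- Let X be an irreducible scheme and π : W ⟶ X a flat morphism whose fibre over every field-valued
point of X is irreducible (so every fibre is geometrically irreducible and π is surjective). Then
for every finite étale cover Z of X with Z connected, the base change of Z along π is connected.
Ranging over all finite étale covers of X, this says that the monodromy group of each cover (the
image of the fundamental group in the permutations of a geometric fibre) is unchanged by pullback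
along π. The published statement asserts that equality of monodromy groups, for generically finite,
generically étale covers between irreducible algebraic stacks. -/
theorem result {X W : Scheme.{u}}
    [IrreducibleSpace X] (π : W ⟶ X) [Flat π] [GeometricallyIrreducible π]
    (Z : FEt.Cat X) [ConnectedSpace Z.left] :
    ConnectedSpace ↥(pullback Z.hom π) := by
  have hfin : IsFinite Z.hom := Z.prop.1
  have het : Etale Z.hom := Z.prop.2
  let q := pullback.fst Z.hom π
  have hgenq : GeneralizingMap q := Flat.generalizingMap q
  have hgenZ : GeneralizingMap Z.hom := Flat.generalizingMap Z.hom
  have : ConnectedSpace ↥((𝟭 Scheme).obj Z.left) := ‹ConnectedSpace Z.left›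
  have : IrreducibleSpace ↥((Functor.fromPUnit X).obj Z.right) := ‹IrreducibleSpace X›
  refine Groth.Agent.H91.connectedSpace_of_generalizingMap q q.surjective hgenq ?_
    (Z.hom ⁻¹' {genericPoint X}) (Scheme.Hom.finite_preimage_singleton Z.hom _) ?_
  · intro z
    have : IsIrreducible (q ⁻¹' {z}) := by
      rw [← q.range_fiberι, ← Set.image_univ]
      exact (IrreducibleSpace.isIrreducible_univ _).image _ (q.fiberι _).continuous.continuousOn
    exact this.isPreirreducible.isPreconnected
  · intro z
    obtain ⟨ζ, hζz, hζ⟩ := hgenZ (genericPoint_specializes (Z.hom z))
    exact ⟨ζ, hζ, hζz⟩

end Groth.Agent.S18402
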