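import Groth.Statements.S18404
import Mathlib

set_option autoImplicit false
universe u
open Cubic

namespace Groth.Agent.S18404

open MvPolynomial in
/-- Let k ∈ ℂ with k³ ≠ 1 and let h = X₀³ + X₁³ + X₂³ − 3k·X₀X₁X₂ be the Hesse cubic. For a nonzero
vector v with h(v) = 0, the corresponding point is a flex of the plane curve of h — some line
through it meets the curve there with multiplicity three, i.e. there is a vector w linearly
independent from v with h(v + t·w) = t³·h(w) for every t — exactly when v is a scalar multiple of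
one of the nine vectors (0, 1, −γ), (−γ, 0, 1), (1, −γ, 0) with γ³ = 1. -/
theorem result (k : ℂ) (hk : k ^ 3 ≠ 1) (v : Fin 3 → ℂ) (hv : v ≠ 0)
    (hCv : eval v (HesseCubic.form k) = 0) :
    (∃ w : Fin 3 → ℂ, LinearIndependent ℂ ![v, w] ∧
        ∀ t : ℂ, eval (v + t • w) (HesseCubic.form k) = t ^ 3 * eval w (HesseCubic.form k)) ↔
      ∃ γ c : ℂ, γ ^ 3 = 1 ∧ (v = c • ![0, 1, -γ] ∨ v = c • ![-γ, 0, 1] ∨ v = c • ![1, -γ, 0]) := by
  -- evaluation formula
  have heval : ∀ u : Fin 3 → ℂ, eval u (HesseCubic.form k) =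
      u 0 ^ 3 + u 1 ^ 3 + u 2 ^ 3 - 3 * k * (u 0 * u 1 * u 2) := by
    intro u
    simp [HesseCubic.form]
  have E0 : v 0 ^ 3 + v 1 ^ 3 + v 2 ^ 3 - 3 * k * (v 0 * v 1 * v 2) = 0 := by
    rw [← heval v]; exact hCv
  have hvne : v 0 ≠ 0 ∨ v 1 ≠ 0 ∨ v 2 ≠ 0 := by
    by_contra hcon
    push Not at hcon
    apply hv
    ext i
    fin_cases i
    · exact hcon.1
    · exact hcon.2.1
    · exact hcon.2.2
  constructor
  · rintro ⟨w, hind, hw⟩
    have h1 := hw 1
    have hm1 := hw (-1)
    rw [heval, heval] at h1 hm1
    simp only [Pi.add_apply, Pi.smul_apply, smul_eq_mul, one_mul, neg_mul, one_pow] at h1 hm1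
    have hL : (v 0 ^ 2 - k * v 1 * v 2) * w 0 + (v 1 ^ 2 - k * v 0 * v 2) * w 1 +
        (v 2 ^ 2 - k * v 0 * v 1) * w 2 = 0 := by
      linear_combination (1 / 6) * h1 - (1 / 6) * hm1
    have hQ : v 0 * w 0 ^ 2 + v 1 * w 1 ^ 2 + v 2 * w 2 ^ 2 -
        k * (v 0 * w 1 * w 2 + v 1 * w 0 * w 2 + v 2 * w 0 * w 1) = 0 := by
      linear_combination (1 / 6) * h1 + (1 / 6) * hm1 - (1 / 3) * E0
    -- the cross product is nonzero
    have hn : v 1 * w 2 - v 2 * w 1 ≠ 0 ∨ v 2 * w 0 - v 0 * w 2 ≠ 0 ∨ v 0 * w 1 - v 1 * w 0 ≠ 0 := by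
      by_contra hcon
      push Not at hcon
      obtain ⟨n0, n1, n2⟩ := hcon
      rw [LinearIndependent.pair_iff] at hind
      have ha0 : v 0 = 0 := by
        refine (hind (-(w 0)) (v 0) ?_).2
        ext i
        fin_cases i
        · simp; ring
        · simp; linear_combination n2
        · simp; linear_combination -n1
      have hb0 : v 1 = 0 := by
        refine (hind (-(w 1)) (v 1) ?_).2
        ext i
        fin_cases i
        · simp; linear_combination -n2
        · simp; ring
        · simp; linear_combination n0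
      have hc0 : v 2 = 0 := by
        refine (hind (-(w 2)) (v 2) ?_).2
        ext i
        fin_cases i
        · simp; linear_combination n1
        · simp; linear_combination -n0
        · simp; ring
      rcases hvne with h | h | h
      · exact h ha0
      · exact h hb0
      · exact h hc0
    -- the Hessian determinant vanishes
    have hD : ∀ n : ℂ, n ≠ 0 →
        ((8 - 2 * k ^ 3) * (v 0 * v 1 * v 2) - 2 * k ^ 2 * (v 0 ^ 3 + v 1 ^ 3 + v 2 ^ 3)) * n ^ 2 = 0 →
        v 0 * v 1 * v 2 = 0 := by
      intro n hn0 h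
      have h2 : (8 - 2 * k ^ 3) * (v 0 * v 1 * v 2) - 2 * k ^ 2 * (v 0 ^ 3 + v 1 ^ 3 + v 2 ^ 3) = 0 := by
        rcases mul_eq_zero.mp h with h' | h'
        · exact h'
        · exact absurd (pow_eq_zero_iff (two_ne_zero) |>.mp h') hn0
      have h3 : 8 * (1 - k ^ 3) * (v 0 * v 1 * v 2) = 0 := by
        linear_combination h2 + 2 * k ^ 2 * E0
      have hk' : (1 : ℂ) - k ^ 3 ≠ 0 := by
        intro h4
        apply hk
        linear_combination -h4
      rcases mul_eq_zero.mp h3 with h' | h'
      · exfalso
        rcases mul_eq_zero.mp h' with h'' | h''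
        · norm_num at h''
        · exact hk' h''
      · exact h'
    have habc : v 0 * v 1 * v 2 = 0 := by
      rcases hn with h | h | h
      · refine hD _ h ?_
        linear_combination
          (2 * (2 * (v 0 * w 0 ^ 2 + v 1 * w 1 ^ 2 + v 2 * w 2 ^ 2 -
              k * (v 0 * w 1 * w 2 + v 1 * w 0 * w 2 + v 2 * w 0 * w 1)) * (2 * v 0) -
              (2 * v 0 * w 0 - k * v 2 * w 1 - k * v 1 * w 2) ^ 2)) * E0 +
          (2 * (2 * (2 * (v 0 ^ 2 - k * v 1 * v 2)) * (2 * v 0 * w 0 - k * v 2 * w 1 - k * v 1 * w 2) -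
              2 * ((v 0 ^ 2 - k * v 1 * v 2) * w 0 + (v 1 ^ 2 - k * v 0 * v 2) * w 1 +
                (v 2 ^ 2 - k * v 0 * v 1) * w 2) * (2 * v 0))) * hL -
          (2 * (2 * (v 0 ^ 2 - k * v 1 * v 2)) ^ 2) * hQ
      · refine hD _ h ?_
        linear_combination
          (2 * (2 * (v 0 * w 0 ^ 2 + v 1 * w 1 ^ 2 + v 2 * w 2 ^ 2 -
              k * (v 0 * w 1 * w 2 + v 1 * w 0 * w 2 + v 2 * w 0 * w 1)) * (2 * v 1) -
              (-k * v 2 * w 0 + 2 * v 1 * w 1 - k * v 0 * w 2) ^ 2)) * E0 +
          (2 * (2 * (2 * (v 1 ^ 2 - k * v 0 * v 2)) * (-k * v 2 * w 0 + 2 * v 1 * w 1 - k * v 0 * w 2) -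
              2 * ((v 0 ^ 2 - k * v 1 * v 2) * w 0 + (v 1 ^ 2 - k * v 0 * v 2) * w 1 +
                (v 2 ^ 2 - k * v 0 * v 1) * w 2) * (2 * v 1))) * hL -
          (2 * (2 * (v 1 ^ 2 - k * v 0 * v 2)) ^ 2) * hQ
      · refine hD _ h ?_
        linear_combination
          (2 * (2 * (v 0 * w 0 ^ 2 + v 1 * w 1 ^ 2 + v 2 * w 2 ^ 2 -
              k * (v 0 * w 1 * w 2 + v 1 * w 0 * w 2 + v 2 * w 0 * w 1)) * (2 * v 2) -
              (-k * v 1 * w 0 - k * v 0 * w 1 + 2 * v 2 * w 2) ^ 2)) * E0 +
          (2 * (2 * (2 * (v 2 ^ 2 - k * v 0 * v 1)) * (-k * v 1 * w 0 - k * v 0 * w 1 + 2 * v 2 * w 2) -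
              2 * ((v 0 ^ 2 - k * v 1 * v 2) * w 0 + (v 1 ^ 2 - k * v 0 * v 2) * w 1 +
                (v 2 ^ 2 - k * v 0 * v 1) * w 2) * (2 * v 2))) * hL -
          (2 * (2 * (v 2 ^ 2 - k * v 0 * v 1)) ^ 2) * hQ
    rcases mul_eq_zero.mp habc with h01 | h2
    · rcases mul_eq_zero.mp h01 with h0 | h1'
      · -- `v 0 = 0`
        have hsum : v 1 ^ 3 + v 2 ^ 3 = 0 := by
          rw [h0] at E0
          linear_combination E0
        have hb : v 1 ≠ 0 := by
          intro hb
          have h3 : v 2 ^ 3 = 0 := by
            rw [hb] at hsum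
            linear_combination hsum
          have hc : v 2 = 0 := (pow_eq_zero_iff (by norm_num)).mp h3
          rcases hvne with h | h | h
          · exact h h0
          · exact h hb
          · exact h hc
        refine ⟨-(v 2) / v 1, v 1, ?_, Or.inl ?_⟩
        · field_simp
          linear_combination -hsum
        · ext i
          fin_cases i
          · simp [h0]
          · simp
          · simp
            field_simp
      · -- `v 1 = 0`
        have hsum : v 0 ^ 3 + v 2 ^ 3 = 0 := by
          rw [h1'] at E0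
          linear_combination E0
        have hc : v 2 ≠ 0 := by
          intro hc
          have h3 : v 0 ^ 3 = 0 := by
            rw [hc] at hsum
            linear_combination hsum
          have ha : v 0 = 0 := (pow_eq_zero_iff (by norm_num)).mp h3
          rcases hvne with h | h | h
          · exact h ha
          · exact h h1'
          · exact h hc
        refine ⟨-(v 0) / v 2, v 2, ?_, Or.inr (Or.inl ?_)⟩
        · field_simp
          linear_combination -hsum
        · ext i
          fin_cases i
          · simp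
            field_simp
          · simp [h1']
          · simp
    · -- `v 2 = 0`
      have hsum : v 0 ^ 3 + v 1 ^ 3 = 0 := by
        rw [h2] at E0
        linear_combination E0
      have ha : v 0 ≠ 0 := by
        intro ha
        have h3 : v 1 ^ 3 = 0 := by
          rw [ha] at hsum
          linear_combination hsum
        have hb : v 1 = 0 := (pow_eq_zero_iff (by norm_num)).mp h3
        rcases hvne with h | h | h
        · exact h ha
        · exact h hb
        · exact h h2
      refine ⟨-(v 1) / v 0, v 0, ?_, Or.inr (Or.inr ?_)⟩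
      · field_simp
        linear_combination -hsum
      · ext i
        fin_cases i
        · simp
        · simp
          field_simp
        · simp [h2]
  · rintro ⟨γ, c, hγ, h | h | h⟩
    · have hc : c ≠ 0 := by
        rintro rfl
        apply hv
        rw [h, zero_smul]
      refine ⟨![1, -k * γ, 0], ?_, ?_⟩
      · rw [LinearIndependent.pair_iff]
        intro s t hst
        have h0 := congrFun hst 0
        have h1 := congrFun hst 1
        simp [h] at h0 h1
        subst h0
        simp [hc] at h1
        exact ⟨h1, rfl⟩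
      · intro t
        rw [heval, heval, h]
        simp
        linear_combination (-c ^ 3) * hγ
    · have hc : c ≠ 0 := by
        rintro rfl
        apply hv
        rw [h, zero_smul]
      refine ⟨![0, 1, -k * γ], ?_, ?_⟩
      · rw [LinearIndependent.pair_iff]
        intro s t hst
        have h0 := congrFun hst 1
        have h1 := congrFun hst 2
        simp [h] at h0 h1
        subst h0
        simp [hc] at h1
        exact ⟨h1, rfl⟩
      · intro t
        rw [heval, heval, h]
        simp
        linear_combination (-c ^ 3) * hγ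
    · have hc : c ≠ 0 := by
        rintro rfl
        apply hv
        rw [h, zero_smul]
      refine ⟨![-k * γ, 0, 1], ?_, ?_⟩
      · rw [LinearIndependent.pair_iff]
        intro s t hst
        have h0 := congrFun hst 2
        have h1 := congrFun hst 0
        simp [h] at h0 h1
        subst h0
        simp [hc] at h1
        exact ⟨h1, rfl⟩
      · intro t
        rw [heval, heval, h]
        simp
        linear_combination (-c ^ 3) * hγ

end Groth.Agent.S18404
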