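import Groth.Statements.S18405
import Groth.Agent.H91.HesseAut
import Groth.Agent.S18404

set_option autoImplicit false
universe u
open Cubic

namespace Groth.Agent.S18405

open MvPolynomial in
/-- Let f be a nonzero homogeneous cubic in three variables over ℂ whose plane curve is smooth (at every
nonzero zero of f some partial derivative is nonzero), and let A be an invertible matrix whose
linear substitution X_i ↦ Σ_j A_ij X_j multiplies f by a constant, so that v ↦ A·v is a projective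
automorphism of the curve. If A·v is proportional to v for every flex v of the curve (every nonzero
zero v of f through which some line meets the curve with multiplicity three: there is w linearly
independent from v with f(v + t·w) = t³·f(w) for all t), then A is a scalar matrix: the projective
automorphisms of a smooth plane cubic act faithfully on its flexes. -/
theorem result (f : MvPolynomial (Fin 3) ℂ) (hf : f.IsHomogeneous 3)
    (hf0 : f ≠ 0) (hsm : ∀ v : Fin 3 → ℂ, v ≠ 0 → eval v f = 0 → ∃ i : Fin 3, eval v (pderiv i f) ≠ 0)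
    (A : Matrix (Fin 3) (Fin 3) ℂ) (hA : IsUnit A.det)
    (hAf : ∃ c : ℂ, aeval (fun i : Fin 3 => ∑ j : Fin 3, C (A i j) * X j) f = C c * f)
    (hfix : ∀ v : Fin 3 → ℂ, v ≠ 0 → eval v f = 0 →
      (∃ w : Fin 3 → ℂ, LinearIndependent ℂ ![v, w] ∧ ∀ t : ℂ, eval (v + t • w) f = t ^ 3 * eval w f) →
      ∃ d : ℂ, A.mulVec v = d • v) :
    ∃ c : ℂ, A = c • (1 : Matrix (Fin 3) (Fin 3) ℂ) := by
  classical
  obtain ⟨M, k, c0, hM, hk, hc0, hG⟩ := Groth.Agent.H91.Hesse.hesse_normal_form hf hsm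
  obtain ⟨ω, hω⟩ := Groth.Agent.H91.Hesse.exists_cubeRootUnity
  have hω3 : ω ^ 3 = 1 := by linear_combination (ω - 1) * hω
  have hω0 : ω ≠ 0 := by
    rintro rfl
    norm_num at hω
  have hω1 : ω ≠ 1 := by
    rintro rfl
    norm_num at hω
  have hω23 : (ω ^ 2) ^ 3 = 1 := by rw [← pow_mul, mul_comm, pow_mul, hω3, one_pow]
  have hG' : ∀ ξ, eval (M.mulVec ξ) f = c0 * eval ξ (HesseCubic.form k) := by
    intro ξ
    rw [hG, Groth.Agent.H91.Hesse.eval_form]
  -- every standard flex vector is an eigenvector of `M⁻¹ * A * M`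
  have key : ∀ (ξ : Fin 3 → ℂ) (γ : ℂ), γ ^ 3 = 1 →
      (ξ = ![0, 1, -γ] ∨ ξ = ![-γ, 0, 1] ∨ ξ = ![1, -γ, 0]) →
      ∃ d : ℂ, (M⁻¹ * A * M).mulVec ξ = d • ξ := by
    intro ξ γ hγ hξ
    have hξ0 : ξ ≠ 0 := by
      intro h0
      rcases hξ with rfl | rfl | rfl
      · have := congrFun h0 1
        simp at this
      · have := congrFun h0 2
        simp at this
      · have := congrFun h0 0
        simp at this
    have hC : eval ξ (HesseCubic.form k) = 0 := by
      rw [Groth.Agent.H91.Hesse.eval_form]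
      rcases hξ with rfl | rfl | rfl
      · simp [Groth.Agent.H91.Hesse.HF]
        linear_combination -hγ
      · simp [Groth.Agent.H91.Hesse.HF]
        linear_combination -hγ
      · simp [Groth.Agent.H91.Hesse.HF]
        linear_combination -hγ
    have hflex : Groth.Agent.H91.Hesse.IsFlexAt (HesseCubic.form k) ξ :=
      (Groth.Agent.S18404.result k hk ξ hξ0 hC).mpr ⟨γ, 1, hγ, by simpa using hξ⟩
    have hflex' := hflex.mulVec hM hG'
    have hv0 : M.mulVec ξ ≠ 0 := fun h =>
      hξ0 (Groth.Agent.H91.Hesse.mulVec_eq_zero_of_isUnit hM h)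
    have hfv : eval (M.mulVec ξ) f = 0 := by rw [hG', hC, mul_zero]
    obtain ⟨d, hd⟩ := hfix _ hv0 hfv hflex'
    refine ⟨d, ?_⟩
    rw [← Matrix.mulVec_mulVec, ← Matrix.mulVec_mulVec, hd, Matrix.mulVec_smul,
      Matrix.mulVec_mulVec, Matrix.nonsing_inv_mul M hM, Matrix.one_mulVec]
  obtain ⟨A', hA'⟩ : ∃ A' : Matrix (Fin 3) (Fin 3) ℂ, A' = M⁻¹ * A * M := ⟨_, rfl⟩
  rw [← hA'] at key
  -- the quadratic lemma
  have quad : ∀ α β δ : ℂ, α + β + δ = 0 → α * ω ^ 2 + β * ω + δ = 0 →
      α * (ω ^ 2) ^ 2 + β * ω ^ 2 + δ = 0 → α = 0 ∧ β = 0 ∧ δ = 0 := by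
    intro α β δ h1 h2 h3
    have hδ : δ = 0 := by
      have : 3 * δ = 0 := by
        linear_combination h1 + h2 + h3 - (α * (1 + ω ^ 2 - ω) + β) * hω
      linear_combination (1 / 3 : ℂ) * this
    subst hδ
    have hα : α * (ω * (ω - 1)) = 0 := by linear_combination h2 - ω * h1
    have hα0 : α = 0 := by
      rcases mul_eq_zero.mp hα with h | h
      · exact h
      · exfalso
        rcases mul_eq_zero.mp h with h' | h'
        · exact hω0 h'
        · exact hω1 (by linear_combination h')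
    subst hα0
    exact ⟨rfl, by linear_combination h1, rfl⟩
  -- family 1
  have f1 : ∀ γ : ℂ, γ ^ 3 = 1 → A' 0 1 - γ * A' 0 2 = 0 ∧
      (-(A' 1 2)) * γ ^ 2 + (A' 1 1 - A' 2 2) * γ + A' 2 1 = 0 := by
    intro γ hγ
    obtain ⟨d, hd⟩ := key ![0, 1, -γ] γ hγ (Or.inl rfl)
    have e0 := congrFun hd 0
    have e1 := congrFun hd 1
    have e2 := congrFun hd 2
    rw [Groth.Agent.H91.Hesse.mulVec_three] at e0 e1 e2
    simp at e0 e1 e2
    exact ⟨by linear_combination e0, by linear_combination e2 + γ * e1⟩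
  -- family 2
  have f2 : ∀ γ : ℂ, γ ^ 3 = 1 → -(γ * A' 1 0) + A' 1 2 = 0 ∧
      (-(A' 2 0)) * γ ^ 2 + (A' 2 2 - A' 0 0) * γ + A' 0 2 = 0 := by
    intro γ hγ
    obtain ⟨d, hd⟩ := key ![-γ, 0, 1] γ hγ (Or.inr (Or.inl rfl))
    have e0 := congrFun hd 0
    have e1 := congrFun hd 1
    have e2 := congrFun hd 2
    rw [Groth.Agent.H91.Hesse.mulVec_three] at e0 e1 e2
    simp at e0 e1 e2
    exact ⟨by linear_combination e1, by linear_combination e0 + γ * e2⟩
  obtain ⟨a1, q1⟩ := f1 1 (one_pow 3)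
  obtain ⟨a2, q2⟩ := f1 ω hω3
  obtain ⟨a3, q3⟩ := f1 (ω ^ 2) hω23
  obtain ⟨b1, r1⟩ := f2 1 (one_pow 3)
  obtain ⟨b2, r2⟩ := f2 ω hω3
  obtain ⟨b3, r3⟩ := f2 (ω ^ 2) hω23
  obtain ⟨h12, h1122, h21⟩ := quad (-(A' 1 2)) (A' 1 1 - A' 2 2) (A' 2 1)
    (by linear_combination q1) (by linear_combination q2) (by linear_combination q3)
  obtain ⟨h20, h2200, h02⟩ := quad (-(A' 2 0)) (A' 2 2 - A' 0 0) (A' 0 2)
    (by linear_combination r1) (by linear_combination r2) (by linear_combination r3)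
  have h01 : A' 0 1 = 0 := by linear_combination a1 + h02
  have h12' : A' 1 2 = 0 := by linear_combination -h12
  have h10 : A' 1 0 = 0 := by linear_combination -b1 + h12'
  have h20' : A' 2 0 = 0 := by linear_combination -h20
  have hscal : A' = (A' 0 0) • (1 : Matrix (Fin 3) (Fin 3) ℂ) := by
    ext i j
    fin_cases i <;> fin_cases j <;> simp [h01, h02, h10, h12', h20', h21]
    · linear_combination h1122 + h2200
    · linear_combination h2200
  refine ⟨A' 0 0, ?_⟩
  have hAM : A = M * A' * M⁻¹ := by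
    rw [hA', ← Matrix.mul_assoc, ← Matrix.mul_assoc, Matrix.mul_nonsing_inv M hM, Matrix.one_mul,
      Matrix.mul_assoc, Matrix.mul_nonsing_inv M hM, Matrix.mul_one]
  rw [hAM, hscal]
  simp only [Matrix.mul_smul, Matrix.smul_mul, Matrix.mul_one, Matrix.mul_nonsing_inv M hM]
  congr 1
  simp

end Groth.Agent.S18405
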