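import Groth.Statements.S18406
import Groth.Agent.H91.HesseAut
import Groth.Agent.S18404

set_option autoImplicit false
universe u
open Cubic

namespace Groth.Agent.S18406

open MvPolynomial in
/-- Let f be a nonzero homogeneous cubic in three variables over ℂ whose plane curve is smooth (at every
nonzero zero of f some partial derivative is nonzero), and let v and v′ be flexes of the curve, that
is nonzero zeros of f through each of which some line meets the curve with multiplicity three (there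
is a vector w linearly independent from the point with f(point + t·w) = t³·f(w) for every t). Then a
projective automorphism of the curve carries the point of v to the point of v′: there are an
invertible matrix A whose substitution X_i ↦ Σ_j A_ij X_j multiplies f by a constant c, and a
constant d with A·v = d·v′. (The published statement gives more: a subgroup of the projective
automorphism group isomorphic to C₃ × C₃ acts simply transitively on the nine flexes; only
transitivity is stated here.) -/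
theorem result (f : MvPolynomial (Fin 3) ℂ) (hf : f.IsHomogeneous 3)
    (hf0 : f ≠ 0) (hsm : ∀ v : Fin 3 → ℂ, v ≠ 0 → eval v f = 0 → ∃ i : Fin 3, eval v (pderiv i f) ≠ 0)
    (v v' : Fin 3 → ℂ) (hv : v ≠ 0) (hv' : v' ≠ 0) (hfv : eval v f = 0) (hfv' : eval v' f = 0)
    (hflex : (∃ w : Fin 3 → ℂ, LinearIndependent ℂ ![v, w] ∧ ∀ t : ℂ, eval (v + t • w) f = t ^ 3 * eval w f))
    (hflex' : (∃ w : Fin 3 → ℂ, LinearIndependent ℂ ![v', w] ∧ ∀ t : ℂ, eval (v' + t • w) f = t ^ 3 * eval w f)) :
    ∃ (A : Matrix (Fin 3) (Fin 3) ℂ) (c d : ℂ), IsUnit A.det ∧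
      aeval (fun i : Fin 3 => ∑ j : Fin 3, C (A i j) * X j) f = C c * f ∧ A.mulVec v = d • v' := by
  classical
  obtain ⟨M, k, c0, hM, hk, hc0, hG⟩ := Groth.Agent.H91.Hesse.hesse_normal_form hf hsm
  have hMi : IsUnit (M⁻¹).det := Matrix.isUnit_nonsing_inv_det M hM
  have hMMi : ∀ x : Fin 3 → ℂ, M.mulVec ((M⁻¹).mulVec x) = x := by
    intro x
    rw [Matrix.mulVec_mulVec, Matrix.mul_nonsing_inv M hM, Matrix.one_mulVec]
  -- the Hesse form in terms of `f`
  have hG' : ∀ x, eval ((M⁻¹).mulVec x) (HesseCubic.form k) = (1 / c0) * eval x f := by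
    intro x
    have := hG ((M⁻¹).mulVec x)
    rw [hMMi] at this
    rw [Groth.Agent.H91.Hesse.eval_form, this]
    field_simp
  -- move a flex of `f` to the base flex of the Hesse cubic
  have key : ∀ v : Fin 3 → ℂ, v ≠ 0 → eval v f = 0 →
      (∃ w : Fin 3 → ℂ, LinearIndependent ℂ ![v, w] ∧ ∀ t : ℂ, eval (v + t • w) f = t ^ 3 * eval w f) →
      ∃ B : Matrix (Fin 3) (Fin 3) ℂ, IsUnit B.det ∧
        (∀ η, Groth.Agent.H91.Hesse.HF k (B.mulVec η) = Groth.Agent.H91.Hesse.HF k η) ∧
        ∃ t : ℂ, t ≠ 0 ∧ B.mulVec ((M⁻¹).mulVec v) = t • ![0, 1, -1] := by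
    intro v hv hfv hflex
    have hξ0 : (M⁻¹).mulVec v ≠ 0 := fun h =>
      hv (Groth.Agent.H91.Hesse.mulVec_eq_zero_of_isUnit hMi h)
    have hC : eval ((M⁻¹).mulVec v) (HesseCubic.form k) = 0 := by
      rw [hG', hfv, mul_zero]
    have hflex' : Groth.Agent.H91.Hesse.IsFlexAt (HesseCubic.form k) ((M⁻¹).mulVec v) :=
      Groth.Agent.H91.Hesse.IsFlexAt.mulVec hMi hG' hflex
    exact Groth.Agent.H91.Hesse.exists_aut_to_base k hξ0
      ((Groth.Agent.S18404.result k hk _ hξ0 hC).mp hflex')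
  obtain ⟨B, hB, hBF, t, ht, hBv⟩ := key v hv hfv hflex
  obtain ⟨B', hB', hBF', t', ht', hBv'⟩ := key v' hv' hfv' hflex'
  have hB'i : ∀ η, Groth.Agent.H91.Hesse.HF k ((B'⁻¹).mulVec η) = Groth.Agent.H91.Hesse.HF k η := by
    intro η
    rw [← hBF' ((B'⁻¹).mulVec η), Matrix.mulVec_mulVec, Matrix.mul_nonsing_inv B' hB',
      Matrix.one_mulVec]
  refine ⟨M * (B'⁻¹ * B) * M⁻¹, 1, t / t', ?_, ?_, ?_⟩
  · rw [Matrix.det_mul, Matrix.det_mul, Matrix.det_mul]
    exact ((hM.mul ((Matrix.isUnit_nonsing_inv_det B' hB').mul hB)).mul hMi)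
  · apply MvPolynomial.funext
    intro x
    rw [Groth.Agent.H91.Cubic.eval_aeval_linear, map_mul, eval_C, one_mul]
    rw [← Matrix.mulVec_mulVec, ← Matrix.mulVec_mulVec, ← Matrix.mulVec_mulVec, hG, hB'i, hBF]
    have := hG ((M⁻¹).mulVec x)
    rw [hMMi] at this
    exact this.symm
  · rw [← Matrix.mulVec_mulVec, ← Matrix.mulVec_mulVec, ← Matrix.mulVec_mulVec, hBv]
    have h1 : (B'⁻¹).mulVec ![0, 1, -1] = (1 / t') • (M⁻¹).mulVec v' := by
      have := congrArg (B'⁻¹).mulVec hBv'
      rw [Matrix.mulVec_mulVec, Matrix.nonsing_inv_mul B' hB', Matrix.one_mulVec,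
        Matrix.mulVec_smul] at this
      rw [this, smul_smul]
      field_simp
      rw [one_smul]
    rw [Matrix.mulVec_smul, h1, Matrix.mulVec_smul, Matrix.mulVec_smul, hMMi, smul_smul]
    congr 1
    field_simp

end Groth.Agent.S18406
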