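import Groth.Statements.S18412
import Mathlib
import Groth.Agent.H91.HesseGroup

set_option autoImplicit false
universe u
open Cubic

namespace Groth.Agent.S18412


open Groth.Agent.H91.HesseGroup Groth.Agent.H91.Hesse Groth.Agent.H91.Cubic in
/-- The condition of the statement in terms of the pencil function `Psi`. -/
lemma cond_iff (k : ℂ) (A : Matrix (Fin 3) (Fin 3) ℂ) :
    (A.det = 1 ∧ ∃ c : ℂ, MvPolynomial.aeval
        (fun i : Fin 3 => ∑ j : Fin 3, MvPolynomial.C (A i j) * MvPolynomial.X j)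
        (HesseCubic.form k) = MvPolynomial.C c * HesseCubic.form k) ↔
      (A.det = 1 ∧ ∃ c, ∀ p, Psi 2 (-k) (A.mulVec p) = c * Psi 2 (-k) p) := by
  have hPsi : ∀ p, Psi 2 (-k) p = 2 * MvPolynomial.eval p (HesseCubic.form k) := by
    intro p
    rw [eval_form]
    simp only [Psi, HF]
    ring
  refine and_congr Iff.rfl (exists_congr fun c => ?_)
  rw [aeval_linear_eq_iff]
  refine forall_congr' fun p => ?_
  rw [hPsi, hPsi]
  constructor
  · intro h; rw [h]; ring
  · intro h
    have h2 : (2 : ℂ) ≠ 0 := by norm_num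
    apply mul_left_cancel₀ h2
    rw [h]; ring

open Groth.Agent.H91.HesseGroup in
lemma mon_inj {σ σ' : Equiv.Perm (Fin 3)} {a a' : Fin 3 → ℂ} (ha : ∀ i, a i ≠ 0)
    (h : mon σ a = mon σ' a') : σ = σ' ∧ a = a' := by
  have key : ∀ i, σ i = σ' i ∧ a i = a' i := by
    intro i
    have := congrFun (congrFun h i) (σ i)
    simp only [mon, if_true] at this
    by_cases hi : σ i = σ' i
    · rw [if_pos hi] at this
      exact ⟨hi, this⟩
    · rw [if_neg hi] at this
      exact absurd this (ha i)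
  exact ⟨Equiv.ext fun i => (key i).1, funext fun i => (key i).2⟩

/-- The coefficient vector attached to a pair of cube roots of unity. -/
noncomputable def vec (e z0 z1 : ℂ) : Fin 3 → ℂ := ![e * z0, e * z1, e * (z0 * z1)⁻¹]

open Groth.Agent.H91.HesseGroup in
lemma vec_spec {σ : Equiv.Perm (Fin 3)} {z0 z1 : ℂ} (h0 : z0 ^ 3 = 1) (h1 : z1 ^ 3 = 1) :
    (∀ i, vec (eps σ) z0 z1 i ^ 3 = eps σ) ∧
      vec (eps σ) z0 z1 0 * vec (eps σ) z0 z1 1 * vec (eps σ) z0 z1 2 = eps σ := by
  have he := eps_sq σ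
  have hz0 : z0 ≠ 0 := by rintro rfl; norm_num at h0
  have hz1 : z1 ≠ 0 := by rintro rfl; norm_num at h1
  have hinv : ((z0 * z1)⁻¹) ^ 3 = 1 := by
    rw [inv_pow, mul_pow, h0, h1, mul_one, inv_one]
  constructor
  · intro i
    fin_cases i
    · simp only [vec, Fin.zero_eta, Matrix.cons_val_zero]
      linear_combination (eps σ) ^ 3 * h0 + eps σ * he
    · simp only [vec, Fin.mk_one, Matrix.cons_val_one, Matrix.cons_val_zero]
      linear_combination (eps σ) ^ 3 * h1 + eps σ * he
    · simp only [vec, Fin.reduceFinMk, Matrix.cons_val_two, Matrix.tail_cons, Matrix.head_cons]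
      linear_combination (eps σ) ^ 3 * hinv + eps σ * he
  · simp only [vec, Matrix.cons_val_zero, Matrix.cons_val_one, Matrix.cons_val_two,
      Matrix.tail_cons, Matrix.head_cons]
    have : z0 * z1 * (z0 * z1)⁻¹ = 1 := mul_inv_cancel₀ (mul_ne_zero hz0 hz1)
    linear_combination (eps σ) ^ 3 * this + eps σ * he

open MvPolynomial in
/-- For all k ∈ ℂ outside a finite set, the Hesse cubic h_k = X₀³ + X₁³ + X₂³ − 3k·X₀X₁X₂ has exactly 18
projective automorphisms; spelled without quotients as: the matrices A of determinant 1 whose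
substitution X_i ↦ Σ_j A_ij X_j carries h_k to a constant multiple of h_k are exactly 54 in number
(every projective class has three lifts of determinant one, so 54 = 3 · 18). As every smooth plane
cubic over ℂ is projectively equivalent to some h_k, this is the statement that the general smooth
plane cubic has a projective automorphism group of order 18. -/
theorem result :
    ∃ T : Finset ℂ, ∀ k : ℂ, k ∉ T →
      Nat.card {A : Matrix (Fin 3) (Fin 3) ℂ // A.det = 1 ∧
        ∃ c : ℂ, aeval (fun i : Fin 3 => ∑ j : Fin 3, C (A i j) * X j) (HesseCubic.form k) =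
          C c * HesseCubic.form k} = 54 := by
  classical
  obtain ⟨q, hq⟩ : ∃ q : Polynomial ℂ, q = Polynomial.X * (Polynomial.X ^ 3 - 1) *
      (Polynomial.X ^ 6 - 20 * Polynomial.X ^ 3 - 8) * (Polynomial.X ^ 3 + 8) := ⟨_, rfl⟩
  have hq0 : q ≠ 0 := by
    intro h0
    have := congrArg (Polynomial.eval 2) h0
    rw [hq] at this
    simp at this
    norm_num at this
  refine ⟨q.roots.toFinset, fun k hk => ?_⟩
  have hev : Polynomial.eval k q ≠ 0 := by
    intro h0
    apply hk
    rw [Multiset.mem_toFinset, Polynomial.mem_roots hq0]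
    exact h0
  rw [hq] at hev
  simp only [Polynomial.eval_mul, Polynomial.eval_sub, Polynomial.eval_add, Polynomial.eval_pow,
    Polynomial.eval_X, Polynomial.eval_one, Polynomial.eval_ofNat] at hev
  have hk0 : k ≠ 0 := by
    rintro rfl
    apply hev
    ring
  have hk1 : k ^ 3 - 1 ≠ 0 := by
    intro h0
    apply hev
    rw [h0]
    ring
  have hk2 : k ^ 6 - 20 * k ^ 3 - 8 ≠ 0 := by
    intro h0
    apply hev
    rw [h0]
    ring
  have hk3 : k ^ 3 + 8 ≠ 0 := by
    intro h0
    apply hev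
    rw [h0]
    ring
  -- the parametrisation
  have hmem : ∀ x : Equiv.Perm (Fin 3) × rootsOfUnity 3 ℂ × rootsOfUnity 3 ℂ,
      (Groth.Agent.H91.HesseGroup.mon x.1 (vec (Groth.Agent.H91.HesseGroup.eps x.1)
        ((x.2.1 : ℂˣ) : ℂ) ((x.2.2 : ℂˣ) : ℂ))).det = 1 ∧
      ∃ c : ℂ, aeval (fun i : Fin 3 => ∑ j : Fin 3,
        C ((Groth.Agent.H91.HesseGroup.mon x.1 (vec (Groth.Agent.H91.HesseGroup.eps x.1)
          ((x.2.1 : ℂˣ) : ℂ) ((x.2.2 : ℂˣ) : ℂ))) i j) * X j) (HesseCubic.form k) =
          C c * HesseCubic.form k := by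
    rintro ⟨σ, z0, z1⟩
    rw [cond_iff, Groth.Agent.H91.HesseGroup.aut_iff hk0 hk1 hk2 hk3]
    have h0 : ((z0 : ℂˣ) : ℂ) ^ 3 = 1 := by
      have := (mem_rootsOfUnity 3 (z0 : ℂˣ)).mp z0.2
      rw [← Units.val_pow_eq_pow_val, this, Units.val_one]
    have h1 : ((z1 : ℂˣ) : ℂ) ^ 3 = 1 := by
      have := (mem_rootsOfUnity 3 (z1 : ℂˣ)).mp z1.2
      rw [← Units.val_pow_eq_pow_val, this, Units.val_one]
    obtain ⟨e1, e2⟩ := vec_spec (σ := σ) h0 h1
    exact ⟨σ, _, e1, e2, rfl⟩
  let f : Equiv.Perm (Fin 3) × rootsOfUnity 3 ℂ × rootsOfUnity 3 ℂ →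
      {A : Matrix (Fin 3) (Fin 3) ℂ // A.det = 1 ∧
        ∃ c : ℂ, aeval (fun i : Fin 3 => ∑ j : Fin 3, C (A i j) * X j) (HesseCubic.form k) =
          C c * HesseCubic.form k} := fun x => ⟨_, hmem x⟩
  have hinj : Function.Injective f := by
    rintro ⟨σ, z0, z1⟩ ⟨σ', z0', z1'⟩ hxy
    have hm := congrArg Subtype.val hxy
    simp only [f] at hm
    have h0 : ((z0 : ℂˣ) : ℂ) ^ 3 = 1 := by
      have := (mem_rootsOfUnity 3 (z0 : ℂˣ)).mp z0.2
      rw [← Units.val_pow_eq_pow_val, this, Units.val_one]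
    have h1 : ((z1 : ℂˣ) : ℂ) ^ 3 = 1 := by
      have := (mem_rootsOfUnity 3 (z1 : ℂˣ)).mp z1.2
      rw [← Units.val_pow_eq_pow_val, this, Units.val_one]
    have hne : ∀ i, vec (Groth.Agent.H91.HesseGroup.eps σ) ((z0 : ℂˣ) : ℂ) ((z1 : ℂˣ) : ℂ) i ≠ 0 := by
      intro i h0'
      have := (vec_spec (σ := σ) h0 h1).1 i
      rw [h0'] at this
      have he := Groth.Agent.H91.HesseGroup.eps_sq σ
      rw [← this] at he
      norm_num at he
    obtain ⟨hσ, hv⟩ := mon_inj hne hm
    subst hσ
    have he0 : Groth.Agent.H91.HesseGroup.eps σ ≠ 0 := by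
      intro h0'
      have he := Groth.Agent.H91.HesseGroup.eps_sq σ
      rw [h0'] at he
      norm_num at he
    have hv0 := congrFun hv 0
    have hv1 := congrFun hv 1
    simp only [vec, Matrix.cons_val_zero, Matrix.cons_val_one] at hv0 hv1
    have hz0 : z0 = z0' := Subtype.ext (Units.ext (mul_left_cancel₀ he0 hv0))
    have hz1 : z1 = z1' := Subtype.ext (Units.ext (mul_left_cancel₀ he0 hv1))
    rw [hz0, hz1]
  have hsurj : Function.Surjective f := by
    rintro ⟨A, hA⟩
    have hA' := hA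
    rw [cond_iff, Groth.Agent.H91.HesseGroup.aut_iff hk0 hk1 hk2 hk3] at hA'
    obtain ⟨σ, a, ha, hprod, rfl⟩ := hA'
    have he := Groth.Agent.H91.HesseGroup.eps_sq σ
    have hz : ∀ i, (Groth.Agent.H91.HesseGroup.eps σ * a i) ^ 3 = 1 := by
      intro i
      have := ha i
      linear_combination (Groth.Agent.H91.HesseGroup.eps σ) ^ 3 * this +
        (Groth.Agent.H91.HesseGroup.eps σ ^ 2 + 1) * he
    refine ⟨⟨σ, rootsOfUnity.mkOfPowEq _ (hz 0), rootsOfUnity.mkOfPowEq _ (hz 1)⟩, ?_⟩
    apply Subtype.ext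
    simp only [f, rootsOfUnity.coe_mkOfPowEq]
    congr 1
    have ha0 : a 0 ≠ 0 := by
      intro h0
      have := ha 0
      rw [h0] at this
      rw [← this] at he
      norm_num at he
    have ha1 : a 1 ≠ 0 := by
      intro h0
      have := ha 1
      rw [h0] at this
      rw [← this] at he
      norm_num at he
    funext i
    fin_cases i
    · simp only [vec, Fin.zero_eta, Matrix.cons_val_zero]
      linear_combination a 0 * he
    · simp only [vec, Fin.mk_one, Matrix.cons_val_one, Matrix.cons_val_zero]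
      linear_combination a 1 * he
    · simp only [vec, Fin.reduceFinMk, Matrix.cons_val_two, Matrix.tail_cons, Matrix.head_cons]
      have h01 : Groth.Agent.H91.HesseGroup.eps σ * a 0 * (Groth.Agent.H91.HesseGroup.eps σ * a 1) =
          a 0 * a 1 := by linear_combination a 0 * a 1 * he
      rw [h01, ← hprod]
      field_simp
  rw [← Nat.card_congr (Equiv.ofBijective f ⟨hinj, hsurj⟩), Nat.card_prod, Nat.card_prod,
    Complex.card_rootsOfUnity, Nat.card_eq_fintype_card, Fintype.card_perm, Fintype.card_fin]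
  rfl


end Groth.Agent.S18412
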