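import Groth.Statements.S18415
import Groth.Agent.H91.EtLocal

set_option autoImplicit false
universe u
open CategoryTheory AlgebraicGeometry
open EtCoh

namespace Groth.Agent.S18415

/-- Let p be a prime and X a scheme with p = 0 in Γ(X, O_X). Then the Artin–Schreier endomorphism x ↦
x^p − x of the additive group sheaf G_a on the small étale site of X is an epimorphism of abelian
étale sheaves (the right-hand exactness of 0 → Z/p → G_a → G_a → 0 on X_et). (The published example
takes X a variety over a field of characteristic p; this row assumes only that p = 0 in Γ(X, O_X).) -/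
theorem result
    (p : ℕ) (hp : p.Prime) {X : Scheme.{u}} (h0 : (p : Γ(X, ⊤)) = 0) :
    Epi (W4c5etcohweilstudent.artinSchreierEndo X p hp h0) := by
  apply Groth.Agent.H91.epi_of_forall_exists_lift
  intro U s x
  obtain ⟨A, ι, hι, x₀, rfl⟩ := Groth.Agent.H91.exists_affine_chart U x
  have hnt : Nontrivial A := PrimeSpectrum.nontrivial x₀
  let s₀ : Γ(U.left, ⊤) := ULift.down s
  let a : A := (Scheme.ΓSpecIso A).hom (ι.appTop s₀)
  have hpA : (p : A) = 0 := by
    have h1 := W4c5etcohweilstudent.natCast_eq_zero_etale p h0 U
    have h2 := congrArg (fun y => (Scheme.ΓSpecIso A).hom (ι.appTop y)) h1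
    simpa using h2
  have hpAX : (p : Polynomial A) = 0 := by
    rw [← map_natCast (Polynomial.C : A →+* Polynomial A), hpA, map_zero]
  have hdeglt : (Polynomial.X + Polynomial.C a : Polynomial A).degree < (p : WithBot ℕ) := by
    refine lt_of_le_of_lt (Polynomial.degree_add_le _ _) ?_
    refine lt_of_le_of_lt (max_le Polynomial.degree_X_le
      (Polynomial.degree_C_le.trans (by norm_num))) ?_
    exact_mod_cast hp.one_lt
  let P : StandardEtalePair A :=
    { f := Polynomial.X ^ p - (Polynomial.X + Polynomial.C a)
      monic_f := Polynomial.monic_X_pow_sub hdeglt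
      g := 1
      cond := ⟨-1, 0, 0, by
        simp only [Polynomial.derivative_sub, Polynomial.derivative_X_pow, Polynomial.derivative_add,
          Polynomial.derivative_X, Polynomial.derivative_C, map_natCast, hpAX]
        ring⟩ }
  have hdeg : P.f.natDegree ≠ 0 := by
    change (Polynomial.X ^ p - (Polynomial.X + Polynomial.C a) : Polynomial A).natDegree ≠ 0
    rw [Polynomial.natDegree_sub_eq_left_of_natDegree_lt, Polynomial.natDegree_X_pow]
    · exact hp.ne_zero
    · rw [Polynomial.natDegree_X_pow]
      rw [Polynomial.natDegree_X_add_C]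
      exact hp.one_lt
  obtain ⟨V, g, v, e, hv, hcomp⟩ :=
    Groth.Agent.H91.exists_etale_nbhd_of_standardEtalePair U ι x₀ P rfl hdeg
  let t₀ : Γ(V.left, ⊤) := e.inv P.X
  have hroot : P.X ^ p - (P.X + algebraMap A P.Ring a) = 0 := by
    have h := (P.hasMap_X).1
    change Polynomial.aeval P.X (Polynomial.X ^ p - (Polynomial.X + Polynomial.C a) : Polynomial A) = 0 at h
    simpa using h
  have hcomp' : e.hom (g.left.appTop s₀) = algebraMap A P.Ring a := by
    have := congrArg (fun h => h s₀) hcomp
    simpa using this
  have key : t₀ ^ p - t₀ = g.left.appTop s₀ := by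
    have hinj : Function.Injective e.hom := (ConcreteCategory.bijective_of_isIso e.hom).1
    apply hinj
    rw [hcomp', map_sub, map_pow]
    have : e.hom t₀ = P.X := by
      change e.hom (e.inv P.X) = P.X
      rw [← CategoryTheory.comp_apply, Iso.inv_hom_id]
      rfl
    rw [this]
    linear_combination hroot
  refine ⟨V, g, v, hv, ULift.up t₀, ?_⟩
  apply ULift.ext
  exact key

end Groth.Agent.S18415
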