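import Groth.Statements.S18417
import Groth.Agent.H91.JNIsoA

set_option autoImplicit false
universe u v
open CAlg

namespace Groth.Agent.S18417

/-- Let R → A be a ring homomorphism and x_1, …, x_d a weakly regular sequence in A generating an ideal
J such that B = A/J is formally smooth over R. Then for every N ≥ 1 there is an isomorphism of
R-algebras e : A/J^N ≅ B[T_1, …, T_d]/(T_1, …, T_d)^N which sends the class of x_i to the class of
T_i and which is compatible with the projections to B: for every a ∈ A, e(a mod J^N) is congruent to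
the constant a mod J modulo the ideal generated by the variables. (The source also assumes R → A
smooth, which its argument does not use, and a regular sequence; weak regularity is what the
argument uses.) -/
theorem result
    (R : Type u) (A : Type v) [CommRing R] [CommRing A] [Algebra R A] (d : ℕ) (x : Fin d → A)
    (hreg : RingTheory.Sequence.IsWeaklyRegular A (List.ofFn x))
    [Algebra.FormallySmooth R (A ⧸ Ideal.span (Set.range x))] (N : ℕ) (hN : 1 ≤ N) :
    ∃ e : (A ⧸ Ideal.span (Set.range x) ^ N) ≃ₐ[R]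
        (MvPolynomial (Fin d) (A ⧸ Ideal.span (Set.range x)) ⧸
          Ideal.span (Set.range (MvPolynomial.X : Fin d → MvPolynomial (Fin d) (A ⧸ Ideal.span (Set.range x)))) ^ N),
      (∀ i : Fin d, e (Ideal.Quotient.mk _ (x i)) = Ideal.Quotient.mk _ (MvPolynomial.X i)) ∧
      ∀ a : A, e (Ideal.Quotient.mk _ a) - Ideal.Quotient.mk _ (MvPolynomial.C (Ideal.Quotient.mk _ a)) ∈
        (Ideal.span (Set.range (MvPolynomial.X : Fin d → MvPolynomial (Fin d) (A ⧸ Ideal.span (Set.range x))))).map
          (Ideal.Quotient.mk _) := by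
  classical
  have hqr : Groth.Agent.H19.QReg.QR x :=
    (Groth.Agent.H19.QReg.isQuasiRegular_iff x).1
      (Groth.Agent.H19.QReg.isQuasiRegular_of_isWeaklyRegular x hreg)
  let π : (A ⧸ Ideal.span (Set.range x) ^ N) →ₐ[R] (A ⧸ Ideal.span (Set.range x)) :=
    Ideal.Quotient.factorₐ R (Groth.Agent.H91.JNIso.pow_le x N hN)
  have hπ : ∀ q, π q = Groth.Agent.H91.JNIso.proj x N hN q := fun q => rfl
  have hπsurj : Function.Surjective π :=
    Ideal.Quotient.factor_surjective (Groth.Agent.H91.JNIso.pow_le x N hN)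
  have hπnil : IsNilpotent (RingHom.ker (π : (A ⧸ Ideal.span (Set.range x) ^ N) →+* (A ⧸ Ideal.span (Set.range x)))) := by
    refine ⟨N, ?_⟩
    have hle : RingHom.ker (π : (A ⧸ Ideal.span (Set.range x) ^ N) →+* (A ⧸ Ideal.span (Set.range x))) ≤
        Groth.Agent.H91.JNIso.JQ x N := fun q hq =>
      Groth.Agent.H91.JNIso.mem_JQ_of_proj_eq_zero x N hN q hq
    have := Ideal.pow_right_mono hle N
    rw [Groth.Agent.H91.JNIso.JQ_pow_N] at this
    exact le_bot_iff.1 this
  let σ : (A ⧸ Ideal.span (Set.range x)) →ₐ[R] (A ⧸ Ideal.span (Set.range x) ^ N) :=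
    Algebra.FormallySmooth.liftOfSurjective (AlgHom.id R _) π hπsurj hπnil
  have hσ : ∀ b, Groth.Agent.H91.JNIso.proj x N hN (σ.toRingHom b) = b := by
    intro b
    have := Algebra.FormallySmooth.liftOfSurjective_apply (AlgHom.id R _) π hπsurj hπnil b
    exact this
  let Ψ : MvPolynomial (Fin d) (A ⧸ Ideal.span (Set.range x)) →ₐ[R]
      (A ⧸ Ideal.span (Set.range x) ^ N) :=
    { Groth.Agent.H91.JNIso.Psi x N σ.toRingHom with
      commutes' := by
        intro r
        change Groth.Agent.H91.JNIso.Psi x N σ.toRingHom (MvPolynomial.C (algebraMap R _ r)) = _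
        rw [Groth.Agent.H91.JNIso.Psi_C]
        exact σ.commutes r }
  have hΨ : ∀ F, Ψ F = Groth.Agent.H91.JNIso.Psi x N σ.toRingHom F := fun F => rfl
  have hker : RingHom.ker Ψ.toRingHom =
      Ideal.span (Set.range (MvPolynomial.X : Fin d → MvPolynomial (Fin d) _)) ^ N :=
    Groth.Agent.H91.JNIso.ker_Psi x N hN σ.toRingHom hσ hqr
  have hsurj : Function.Surjective Ψ :=
    Groth.Agent.H91.JNIso.Psi_surjective x N hN σ.toRingHom hσ
  let e₀ := (Ideal.quotientEquivAlgOfEq R hker.symm).trans
    (Ideal.quotientKerAlgEquivOfSurjective hsurj)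
  have he₀ : ∀ F, e₀ (Ideal.Quotient.mk _ F) = Ψ F := fun F => rfl
  refine ⟨e₀.symm, ?_, ?_⟩
  · intro i
    rw [AlgEquiv.symm_apply_eq, he₀, hΨ, Groth.Agent.H91.JNIso.Psi_X]
    rfl
  · intro a
    obtain ⟨F, hF⟩ := hsurj (Ideal.Quotient.mk _ a)
    have h1 : e₀.symm (Ideal.Quotient.mk _ a) = Ideal.Quotient.mk _ F := by
      rw [AlgEquiv.symm_apply_eq, he₀, hF]
    rw [h1, ← map_sub]
    apply Ideal.mem_map_of_mem
    have h2 : MvPolynomial.constantCoeff F = Ideal.Quotient.mk _ a := by
      rw [← Groth.Agent.H91.JNIso.proj_Psi x N hN σ.toRingHom hσ F, ← hΨ, hF]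
      rfl
    have h3 := (MvPolynomial.mem_pow_idealOfVars_iff' 1
      (F - MvPolynomial.C (Ideal.Quotient.mk (Ideal.span (Set.range x)) a))).2 (by
        intro m hm
        have hm0 : m = 0 := by
          have : m.degree = 0 := by omega
          exact (Finsupp.degree_eq_zero_iff m).1 this
        subst hm0
        rw [MvPolynomial.coeff_sub, MvPolynomial.coeff_zero_C]
        change MvPolynomial.constantCoeff F - _ = 0
        rw [h2, sub_self])
    rw [pow_one] at h3
    exact h3

end Groth.Agent.S18417
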