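import Groth.Statements.S18425
import Mathlib.Tactic
-- import your own Groth.Agent.* helpers here

set_option autoImplicit false
universe u
open Pi1

namespace Groth.Agent.S18425

section Helpers
open CategoryTheory

variable (G : Type u) [Group G]

/-- the forgetful functor -/
abbrev FF : Action FintypeCat.{u} G ⥤ FintypeCat.{u} := Action.forget FintypeCat.{u} G

/-- the canonical homomorphism `G → Aut F` -/
noncomputable def iota : G →* Aut (FF G) where
  toFun g := NatIso.ofComponents (fun X => X.ρAut g) (by
    intro X Y f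
    exact (f.comm g).symm)
  map_one' := by
    ext X x
    simp
    rfl
  map_mul' g h := by
    ext X x
    simp
    rfl

theorem iota_app (g : G) (X : Action FintypeCat.{u} G) (x : X.V) :
    (iota G g).hom.app X x = (X.ρ g).hom x := rfl

variable {G}

instance finite_aut (X : FintypeCat.{u}) : Finite (Aut X) :=
  Finite.of_injective (fun a : Aut X => (fun x : X => a.hom x)) (by
    intro a b h
    ext x
    exact congrFun h x)

/-- the joint representation on a finite family of objects -/
noncomputable def rhoS {n : ℕ} (s : Fin n → Action FintypeCat.{u} G) : G →* ∀ i : Fin n, Aut (s i).V :=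
  MonoidHom.pi (fun i : Fin n => (s i).ρAut)

/-- its image, as a finite `G`-set -/
noncomputable def objS {n : ℕ} (s : Fin n → Action FintypeCat.{u} G) : Action FintypeCat.{u} G :=
  letI : MulAction G (rhoS s).range := MulAction.compHom _ (rhoS s).rangeRestrict
  Action.FintypeCat.ofMulAction G (FintypeCat.of (rhoS s).range)

/-- evaluation at a point, as a morphism of `G`-sets -/
noncomputable def evS {n : ℕ} (s : Fin n → Action FintypeCat.{u} G) (i : Fin n) (x : (s i).V) :
    objS s ⟶ s i where
  hom := FintypeCat.homMk (fun h : (rhoS s).range => (h.1 i).hom x)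
  comm g := by
    ext (h : (rhoS s).range)
    change (((rhoS s).rangeRestrict g * h : (rhoS s).range).1 i).hom x =
      ((s i).ρ g).hom ((h.1 i).hom x)
    rfl

theorem exists_g_fin (σ : Aut (FF G)) {n : ℕ} (s : Fin n → Action FintypeCat.{u} G) :
    ∃ g : G, ∀ i, ∀ x : (s i).V, σ.hom.app (s i) x = ((s i).ρ g).hom x := by
  let h₀ : (rhoS s).range := σ.hom.app (objS s) (1 : (rhoS s).range)
  obtain ⟨g, hg⟩ := h₀.2
  refine ⟨g, fun i x => ?_⟩
  have hnat := σ.hom.naturality (evS s i x)
  have h1 := ConcreteCategory.congr_hom hnat (1 : (rhoS s).range)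
  change σ.hom.app (s i) ((((1 : (rhoS s).range)).1 i).hom x) = ((h₀.1 i).hom x) at h1
  rw [← hg] at h1
  exact h1

theorem exists_g (σ : Aut (FF G)) (s : Finset (Action FintypeCat.{u} G)) :
    ∃ g : G, ∀ X ∈ s, ∀ x : X.V, σ.hom.app X x = (X.ρ g).hom x := by
  obtain ⟨g, hg⟩ := exists_g_fin σ (fun i : Fin s.card => (s.equivFin.symm i).1)
  refine ⟨g, fun X hX x => ?_⟩
  have key : ∀ i : Fin s.card, ∀ Y : Action FintypeCat.{u} G, (s.equivFin.symm i).1 = Y →
      ∀ x : Y.V, σ.hom.app Y x = (Y.ρ g).hom x := by
    intro i Y h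
    subst h
    exact hg i
  exact key (s.equivFin ⟨X, hX⟩) X (by simp) x

open CategoryTheory.PreGaloisCategory in
theorem denseRange_iota : DenseRange (iota G) := by
  rw [DenseRange, dense_iff_inter_open]
  rintro U hU ⟨σ, hσ⟩
  obtain ⟨V, hV, rfl⟩ := isOpen_induced_iff.mp hU
  obtain ⟨I, u, hu, hsub⟩ := isOpen_pi_iff.mp hV _ hσ
  obtain ⟨g, hg⟩ := exists_g σ I
  refine ⟨iota G g, ?_, g, rfl⟩
  apply hsub
  intro X hX
  have : autEmbedding (FF G) (iota G g) X = autEmbedding (FF G) σ X := by
    ext x
    exact (hg X hX x).symm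
  rw [this]
  exact (hu X hX).2

/-- the finite `G`-set `G ⧸ H` -/
noncomputable def objQ (H : FiniteIndexNormalSubgroup G) : Action FintypeCat.{u} G :=
  Action.FintypeCat.ofMulAction G (FintypeCat.of (G ⧸ H.toSubgroup))

theorem objQ_rho (H : FiniteIndexNormalSubgroup G) (g a : G) :
    ((objQ H).ρ g).hom (QuotientGroup.mk a : G ⧸ H.toSubgroup) =
      (QuotientGroup.mk (g * a) : G ⧸ H.toSubgroup) := rfl

/-- the quotient maps `G ⧸ H → G ⧸ K` as morphisms of `G`-sets -/
noncomputable def mapQ {H K : FiniteIndexNormalSubgroup G} (h : H ≤ K) : objQ H ⟶ objQ K where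
  hom := FintypeCat.homMk (fun x : G ⧸ H.toSubgroup =>
    (QuotientGroup.map _ _ (MonoidHom.id G) h x : G ⧸ K.toSubgroup))
  comm g := by
    ext (x : G ⧸ H.toSubgroup)
    obtain ⟨a, rfl⟩ := QuotientGroup.mk_surjective x
    rfl

/-- right multiplication on `G ⧸ H` as a morphism of `G`-sets -/
noncomputable def rmulQ (H : FiniteIndexNormalSubgroup G) (t : G ⧸ H.toSubgroup) :
    objQ H ⟶ objQ H where
  hom := FintypeCat.homMk (fun x : G ⧸ H.toSubgroup => (x * t : G ⧸ H.toSubgroup))
  comm g := by
    ext (x : G ⧸ H.toSubgroup)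
    obtain ⟨a, rfl⟩ := QuotientGroup.mk_surjective x
    obtain ⟨b, rfl⟩ := QuotientGroup.mk_surjective t
    have h1 : (QuotientGroup.mk a : G ⧸ H.toSubgroup) * QuotientGroup.mk b =
        QuotientGroup.mk (a * b) := rfl
    have h2 : (QuotientGroup.mk (g * a) : G ⧸ H.toSubgroup) * QuotientGroup.mk b =
        QuotientGroup.mk (g * (a * b)) := by rw [← mul_assoc]; rfl
    change ((QuotientGroup.mk (g * a) : G ⧸ H.toSubgroup) * QuotientGroup.mk b : G ⧸ H.toSubgroup) =
      ((objQ H).ρ g).hom ((QuotientGroup.mk a : G ⧸ H.toSubgroup) * QuotientGroup.mk b : G ⧸ H.toSubgroup)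
    rw [h1, h2, objQ_rho]

/-- the component of an automorphism at `G ⧸ H` evaluated at the identity coset -/
noncomputable def psiFun (σ : Aut (FF G)) (H : FiniteIndexNormalSubgroup G) : G ⧸ H.toSubgroup :=
  σ.hom.app (objQ H) (QuotientGroup.mk 1 : G ⧸ H.toSubgroup)

theorem app_objQ (σ : Aut (FF G)) (H : FiniteIndexNormalSubgroup G) (t : G ⧸ H.toSubgroup) :
    σ.hom.app (objQ H) t = psiFun σ H * t := by
  have hnat := σ.hom.naturality (rmulQ H t)
  have h1 := ConcreteCategory.congr_hom hnat (QuotientGroup.mk 1 : G ⧸ H.toSubgroup)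
  change σ.hom.app (objQ H) ((QuotientGroup.mk 1 : G ⧸ H.toSubgroup) * t) = psiFun σ H * t at h1
  rwa [QuotientGroup.mk_one, one_mul] at h1

theorem psiFun_mul (σ τ : Aut (FF G)) (H : FiniteIndexNormalSubgroup G) :
    psiFun (σ * τ) H = psiFun σ H * psiFun τ H := by
  change σ.hom.app (objQ H) (τ.hom.app (objQ H) (QuotientGroup.mk 1 : G ⧸ H.toSubgroup)) = _
  rw [app_objQ σ H]
  rfl

theorem psiFun_compat (σ : Aut (FF G)) {H K : FiniteIndexNormalSubgroup G} (h : H ≤ K) :
    QuotientGroup.map _ _ (MonoidHom.id G) h (psiFun σ H) = psiFun σ K := by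
  have hnat := σ.hom.naturality (mapQ h)
  have h1 := ConcreteCategory.congr_hom hnat (QuotientGroup.mk 1 : G ⧸ H.toSubgroup)
  exact h1.symm

theorem psiFun_iota (g : G) (H : FiniteIndexNormalSubgroup G) :
    psiFun (iota G g) H = QuotientGroup.mk g := by
  change ((objQ H).ρ g).hom (QuotientGroup.mk 1 : G ⧸ H.toSubgroup) = _
  rw [objQ_rho, mul_one]

open ProfiniteGrp ProfiniteGrp.ProfiniteCompletion

/-- the homomorphism `Aut F → completion G` -/
noncomputable def psi : Aut (FF G) →* (completion (GrpCat.of G)) where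
  toFun σ := ⟨fun H => psiFun σ H, fun _ _ π => psiFun_compat σ π.le⟩
  map_one' := by
    apply Subtype.ext
    funext H
    rfl
  map_mul' σ τ := by
    apply Subtype.ext
    funext H
    exact psiFun_mul σ τ H

theorem psi_iota (g : G) : psi (iota G g) = etaFn (GrpCat.of G) g := by
  apply Subtype.ext
  funext H
  exact psiFun_iota g H

open CategoryTheory.PreGaloisCategory in
theorem psi_continuous : Continuous (psi (G := G)) := by
  apply continuous_induced_rng.mpr (continuous_pi _)
  intro H
  have h1 : Continuous (fun σ : Aut (FF G) => autEmbedding (FF G) σ (objQ H)) :=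
    (continuous_apply (objQ H)).comp continuous_induced_dom
  have h2 : Continuous (fun a : Aut ((FF G).obj (objQ H)) =>
      (a.hom (QuotientGroup.mk 1 : G ⧸ H.toSubgroup) : G ⧸ H.toSubgroup)) :=
    continuous_of_discreteTopology
  exact h2.comp h1

theorem psi_surjective : Function.Surjective (psi (G := G)) := by
  have hclosed : IsClosed (Set.range (psi (G := G))) :=
    (isCompact_range psi_continuous).isClosed
  have hsub : Set.range (etaFn (GrpCat.of G)) ⊆ Set.range (psi (G := G)) := by
    rintro _ ⟨g, rfl⟩
    exact ⟨iota G g, psi_iota g⟩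
  have hdense := ProfiniteGrp.ProfiniteCompletion.denseRange (GrpCat.of G)
  have : Set.range (psi (G := G)) = Set.univ := by
    apply Set.eq_univ_of_univ_subset
    rw [← hdense.closure_eq]
    exact closure_minimal hsub hclosed
  exact Set.range_eq_univ.mp this

/-- the kernel of the action on `X`, as a finite-index normal subgroup -/
noncomputable def kerX (X : Action FintypeCat.{u} G) : FiniteIndexNormalSubgroup G where
  toSubgroup := X.ρAut.ker
  isNormal' := inferInstance
  isFiniteIndex' := inferInstance

theorem psi_injective : Function.Injective (psi (G := G)) := by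
  rw [injective_iff_map_eq_one]
  intro σ hσ
  ext X x
  -- a common `g` for `X` and `G ⧸ ker`
  obtain ⟨g, hg⟩ := exists_g_fin σ ![X, objQ (kerX X)]
  have h0 : ∀ x : X.V, σ.hom.app X x = (X.ρ g).hom x := hg 0
  have h1 : ∀ t : (objQ (kerX X)).V,
      σ.hom.app (objQ (kerX X)) t = ((objQ (kerX X)).ρ g).hom t := hg 1
  have h2 : psiFun σ (kerX X) = 1 := congrFun (congrArg Subtype.val hσ) (kerX X)
  have h3 : (QuotientGroup.mk g : G ⧸ (kerX X).toSubgroup) = 1 := by
    rw [← h2]
    have := h1 (QuotientGroup.mk 1 : G ⧸ (kerX X).toSubgroup)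
    rw [objQ_rho, mul_one] at this
    exact this.symm
  have h4 : g ∈ X.ρAut.ker := (QuotientGroup.eq_one_iff g).mp h3
  have h5 : X.ρAut g = 1 := h4
  refine (h0 x).trans ?_
  have h6 : (X.ρAut g).hom x = x := by rw [h5]; rfl
  exact h6

/-- `psi` as an isomorphism of topological groups -/
noncomputable def psiEquiv : Aut (FF G) ≃ₜ* (completion (GrpCat.of G)) where
  toMulEquiv := MulEquiv.ofBijective (psi (G := G)) ⟨psi_injective, psi_surjective⟩
  continuous_toFun := psi_continuous
  continuous_invFun :=
    Continuous.continuous_symm_of_equiv_compact_to_t2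
      (f := (MulEquiv.ofBijective (psi (G := G)) ⟨psi_injective, psi_surjective⟩).toEquiv)
      psi_continuous

theorem main :
    ∃ φ : (completion (GrpCat.of G)) ≃ₜ* Aut (Action.forget FintypeCat.{u} G),
      ∀ (g : G) (X : Action FintypeCat.{u} G) (x : X.V),
        (φ (etaFn (GrpCat.of G) g)).hom.app X x = (X.ρ g).hom x := by
  refine ⟨(psiEquiv (G := G)).symm, fun g X x => ?_⟩
  have h : (psiEquiv (G := G)).symm (etaFn (GrpCat.of G) g) = iota G g := by
    rw [← psi_iota g]
    exact (psiEquiv (G := G)).symm_apply_apply (iota G g)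
  rw [h]
  rfl

end Helpers


open CategoryTheory in
/-- In the case of a discrete group G, let F be the forgetful functor from the category of finite G-sets
to finite sets. Then the canonical homomorphism from G to Aut(F), letting g act on every finite
G-set, extends to an isomorphism of topological groups from the profinite completion of G (the limit
of the finite quotients G/U over normal subgroups U of finite index) onto Aut(F) with its profinite
topology. (The published statement is for an arbitrary topological group G, with finite G-sets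
carrying a continuous action and the completion taken over open normal subgroups of finite index;
this row is the case of a discrete group.) -/
theorem result (G : Type u) [Group G] :
    ∃ φ : (ProfiniteGrp.ProfiniteCompletion.completion (GrpCat.of G)) ≃ₜ* Aut (Action.forget FintypeCat.{u} G),
      ∀ (g : G) (X : Action FintypeCat.{u} G) (x : X.V),
        (φ (ProfiniteGrp.ProfiniteCompletion.etaFn (GrpCat.of G) g)).hom.app X x = (X.ρ g).hom x := by
  exact main

end Groth.Agent.S18425
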