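import Groth.Statements.S18428
import Mathlib.Tactic
import Mathlib.CategoryTheory.Action.Concrete
-- import your own Groth.Agent.* helpers here

set_option autoImplicit false
universe u
open scoped FintypeCatDiscrete
open Pi1

namespace Groth.Agent.S18428

section Helpers
open CategoryTheory
open scoped FintypeCatDiscrete

variable (G : Type u) [Group G] [TopologicalSpace G] [IsTopologicalGroup G]

/-- the forgetful functor -/
abbrev FF : ContAction FintypeCat.{u} G ⥤ FintypeCat.{u} :=
  forget₂ (ContAction FintypeCat.{u} G) FintypeCat.{u}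

example (X : ContAction FintypeCat.{u} G) : (FF G).obj X = X.obj.V := rfl

/-- the canonical homomorphism `G → Aut F` -/
noncomputable def iota : G →* Aut (FF G) where
  toFun g := NatIso.ofComponents (fun X => X.obj.ρAut g) (by
    intro X Y f
    exact (f.hom.comm g).symm)
  map_one' := by
    ext X x
    simp
    rfl
  map_mul' g h := by
    ext X x
    simp
    rfl

theorem iota_app (g : G) (X : ContAction FintypeCat.{u} G) (x : X.obj.V) :
    (iota G g).hom.app X x = (X.obj.ρ g).hom x := rfl

variable {G}

omit [IsTopologicalGroup G] in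
theorem continuous_act (X : ContAction FintypeCat.{u} G) (x : X.obj.V) :
    Continuous (fun g : G => ((X.obj.ρ g).hom x : X.obj.V)) := by
  have h := (Action.isContinuous_def X.obj).mp X.property
  exact h.comp (Continuous.prodMk continuous_id continuous_const)

omit [IsTopologicalGroup G] in
theorem isOpen_rhoAut_eq (X : ContAction FintypeCat.{u} G) (a : Aut X.obj.V) :
    IsOpen {g : G | X.obj.ρAut g = a} := by
  have : {g : G | X.obj.ρAut g = a} = ⋂ x : X.obj.V, {g : G | (X.obj.ρ g).hom x = a.hom x} := by
    ext g
    simp only [Set.mem_ofPred_eq, Set.mem_iInter]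
    constructor
    · intro h x
      rw [← h]
      rfl
    · intro h
      ext x
      exact h x
  rw [this]
  apply isOpen_iInter_of_finite
  intro x
  exact (continuous_act X x).isOpen_preimage {a.hom x} (isOpen_discrete _)

open CategoryTheory.PreGaloisCategory in
theorem iota_continuous : Continuous (iota G) := by
  apply continuous_induced_rng.mpr (continuous_pi _)
  intro X
  rw [continuous_discrete_rng]
  intro a
  exact isOpen_rhoAut_eq X a

/-- a finite `G`-set with open point-stabiliser-type sets, as a continuous action -/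
noncomputable def mkObj (S : Type u) [Finite S] [MulAction G S]
    (h : ∀ s t : S, IsOpen {g : G | g • s = t}) : ContAction FintypeCat.{u} G :=
  ⟨Action.FintypeCat.ofMulAction G (FintypeCat.of S), by
    rw [Action.isContinuous_def]
    have : DiscreteTopology ↑((forget₂ (Action FintypeCat.{u} G) TopCat).obj
        (Action.FintypeCat.ofMulAction G (FintypeCat.of S))) := ⟨rfl⟩
    have : DiscreteTopology ↑((forget₂ FintypeCat.{u} TopCat).obj
        (Action.FintypeCat.ofMulAction G (FintypeCat.of S)).V) := ⟨rfl⟩
    rw [continuous_prod_of_discrete_right]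
    intro s
    rw [continuous_discrete_rng]
    intro t
    exact h s t⟩

omit [IsTopologicalGroup G] in
theorem mkObj_rho (S : Type u) [Finite S] [MulAction G S]
    (h : ∀ s t : S, IsOpen {g : G | g • s = t}) (g : G) (s : S) :
    ((mkObj S h).obj.ρ g).hom s = g • s := rfl

instance finite_aut (X : FintypeCat.{u}) : Finite (Aut X) :=
  Finite.of_injective (fun a : Aut X => (fun x : X => a.hom x)) (by
    intro a b h
    ext x
    exact congrFun h x)

/-- the joint representation on a finite family of objects -/
noncomputable def rhoS {n : ℕ} (s : Fin n → ContAction FintypeCat.{u} G) :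
    G →* ∀ i : Fin n, Aut (s i).obj.V :=
  MonoidHom.pi (fun i : Fin n => (s i).obj.ρAut)

noncomputable instance actS {n : ℕ} (s : Fin n → ContAction FintypeCat.{u} G) :
    MulAction G (rhoS s).range := MulAction.compHom _ (rhoS s).rangeRestrict

omit [IsTopologicalGroup G] in
theorem isOpen_rhoS_eq {n : ℕ} (s : Fin n → ContAction FintypeCat.{u} G)
    (a : ∀ i : Fin n, Aut (s i).obj.V) : IsOpen {g : G | rhoS s g = a} := by
  have : {g : G | rhoS s g = a} = ⋂ i : Fin n, {g : G | (s i).obj.ρAut g = a i} := by
    ext g
    simp only [Set.mem_ofPred_eq, Set.mem_iInter]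
    constructor
    · intro h i
      rw [← h]
      rfl
    · intro h
      funext i
      exact h i
  rw [this]
  exact isOpen_iInter_of_finite fun i => isOpen_rhoAut_eq (s i) (a i)

omit [IsTopologicalGroup G] in
theorem isOpen_actS {n : ℕ} (s : Fin n → ContAction FintypeCat.{u} G)
    (h t : (rhoS s).range) : IsOpen {g : G | g • h = t} := by
  have : {g : G | g • h = t} = {g : G | rhoS s g = t.1 * h.1⁻¹} := by
    ext g
    simp only [Set.mem_ofPred_eq]
    constructor
    · intro hg
      rw [← hg]
      change rhoS s g = (rhoS s g * h.1) * h.1⁻¹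
      rw [mul_inv_cancel_right]
    · intro hg
      apply Subtype.ext
      change rhoS s g * h.1 = t.1
      rw [hg, inv_mul_cancel_right]
  rw [this]
  exact isOpen_rhoS_eq s _

/-- its image, as a finite continuous `G`-set -/
noncomputable def objS {n : ℕ} (s : Fin n → ContAction FintypeCat.{u} G) :
    ContAction FintypeCat.{u} G :=
  mkObj (rhoS s).range (isOpen_actS s)

/-- evaluation at a point, as a morphism of `G`-sets -/
noncomputable def evS {n : ℕ} (s : Fin n → ContAction FintypeCat.{u} G) (i : Fin n)
    (x : (s i).obj.V) : objS s ⟶ s i :=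
  ObjectProperty.homMk
    { hom := FintypeCat.homMk (fun h : (rhoS s).range => (h.1 i).hom x)
      comm := fun g => by
        ext (h : (rhoS s).range)
        change (((rhoS s).rangeRestrict g * h : (rhoS s).range).1 i).hom x =
          ((s i).obj.ρ g).hom ((h.1 i).hom x)
        rfl }

omit [IsTopologicalGroup G] in
theorem exists_g_fin (σ : Aut (FF G)) {n : ℕ} (s : Fin n → ContAction FintypeCat.{u} G) :
    ∃ g : G, ∀ i, ∀ x : (s i).obj.V, σ.hom.app (s i) x = ((s i).obj.ρ g).hom x := by
  let h₀ : (rhoS s).range := σ.hom.app (objS s) (1 : (rhoS s).range)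
  obtain ⟨g, hg⟩ := h₀.2
  refine ⟨g, fun i x => ?_⟩
  have hnat := σ.hom.naturality (evS s i x)
  have h1 := ConcreteCategory.congr_hom hnat (1 : (rhoS s).range)
  change σ.hom.app (s i) ((((1 : (rhoS s).range)).1 i).hom x) = ((h₀.1 i).hom x) at h1
  rw [← hg] at h1
  exact h1

omit [IsTopologicalGroup G] in
theorem exists_g (σ : Aut (FF G)) (s : Finset (ContAction FintypeCat.{u} G)) :
    ∃ g : G, ∀ X ∈ s, ∀ x : X.obj.V, σ.hom.app X x = (X.obj.ρ g).hom x := by
  obtain ⟨g, hg⟩ := exists_g_fin σ (fun i : Fin s.card => (s.equivFin.symm i).1)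
  refine ⟨g, fun X hX x => ?_⟩
  have key : ∀ i : Fin s.card, ∀ Y : ContAction FintypeCat.{u} G, (s.equivFin.symm i).1 = Y →
      ∀ x : Y.obj.V, σ.hom.app Y x = (Y.obj.ρ g).hom x := by
    intro i Y h
    subst h
    exact hg i
  exact key (s.equivFin ⟨X, hX⟩) X (by simp) x

open CategoryTheory.PreGaloisCategory in
omit [IsTopologicalGroup G] in
theorem denseRange_iota : DenseRange (iota G) := by
  rw [DenseRange, dense_iff_inter_open]
  rintro U hU ⟨σ, hσ⟩
  obtain ⟨V, hV, rfl⟩ := isOpen_induced_iff.mp hU
  obtain ⟨I, u, hu, hsub⟩ := isOpen_pi_iff.mp hV _ hσ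
  obtain ⟨g, hg⟩ := exists_g σ I
  refine ⟨iota G g, ?_, g, rfl⟩
  apply hsub
  intro X hX
  have : autEmbedding (FF G) (iota G g) X = autEmbedding (FF G) σ X := by
    ext x
    exact (hg X hX x).symm
  rw [this]
  exact (hu X hX).2

section Univ

variable (Q : Type u) [Group Q] [Finite Q] [TopologicalSpace Q] [DiscreteTopology Q]
  (π : G →* Q) (hπ : Continuous π)

/-- `Q` as a continuous finite `G`-set through `π` -/
noncomputable def objQ : ContAction FintypeCat.{u} G :=
  letI : MulAction G Q := MulAction.compHom Q π
  mkObj Q (fun s t => by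
    have : {g : G | π g * s = t} = π ⁻¹' {t * s⁻¹} := by
      ext g
      simp only [Set.mem_ofPred_eq, Set.mem_preimage, Set.mem_singleton_iff]
      constructor
      · intro h; rw [← h, mul_inv_cancel_right]
      · intro h; rw [h, inv_mul_cancel_right]
    change IsOpen {g : G | π g * s = t}
    rw [this]
    exact hπ.isOpen_preimage _ (isOpen_discrete _))

omit [IsTopologicalGroup G] in
theorem objQ_rho (g : G) (q : Q) : ((objQ Q π hπ).obj.ρ g).hom q = π g * q := rfl

/-- right multiplication as a morphism of `G`-sets -/
noncomputable def rmulQ (t : Q) : objQ Q π hπ ⟶ objQ Q π hπ :=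
  ObjectProperty.homMk
    { hom := FintypeCat.homMk (fun x : Q => (x * t : Q))
      comm := fun g => by
        ext (x : Q)
        change π g * x * t = π g * (x * t)
        rw [mul_assoc] }

/-- the value at `1` of the component at `Q` -/
noncomputable def psiFun (σ : Aut (FF G)) : Q := σ.hom.app (objQ Q π hπ) (1 : Q)

omit [IsTopologicalGroup G] in
theorem app_objQ (σ : Aut (FF G)) (t : Q) :
    σ.hom.app (objQ Q π hπ) t = psiFun Q π hπ σ * t := by
  have hnat := σ.hom.naturality (rmulQ Q π hπ t)
  have h1 := ConcreteCategory.congr_hom hnat (1 : Q)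
  change σ.hom.app (objQ Q π hπ) ((1 : Q) * t) = psiFun Q π hπ σ * t at h1
  rwa [one_mul] at h1

/-- the induced homomorphism `Aut F → Q` -/
noncomputable def psi : Aut (FF G) →* Q where
  toFun := psiFun Q π hπ
  map_one' := rfl
  map_mul' σ τ := by
    change σ.hom.app (objQ Q π hπ) (τ.hom.app (objQ Q π hπ) (1 : Q)) = _
    rw [app_objQ Q π hπ σ]
    rfl

open CategoryTheory.PreGaloisCategory in
omit [IsTopologicalGroup G] in
theorem psi_continuous : Continuous (psi Q π hπ) := by
  have h1 : Continuous (fun σ : Aut (FF G) => autEmbedding (FF G) σ (objQ Q π hπ)) :=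
    (continuous_apply (objQ Q π hπ)).comp continuous_induced_dom
  have h2 : Continuous (fun a : Aut ((FF G).obj (objQ Q π hπ)) => (a.hom (1 : Q) : Q)) :=
    continuous_of_discreteTopology
  rw [continuous_discrete_rng]
  intro q
  exact (h2.comp h1).isOpen_preimage {q} (isOpen_discrete _)

omit [IsTopologicalGroup G] in
theorem psi_iota : (psi Q π hπ).comp (iota G) = π := by
  ext g
  change ((objQ Q π hπ).obj.ρ g).hom (1 : Q) = π g
  rw [objQ_rho, mul_one]

include hπ in
omit [IsTopologicalGroup G] in
theorem existsUnique_psi :
    ∃! ψ : Aut (FF G) →* Q, Continuous ψ ∧ ψ.comp (iota G) = π := by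
  refine ⟨psi Q π hπ, ⟨psi_continuous Q π hπ, psi_iota Q π hπ⟩, ?_⟩
  rintro ψ' ⟨hc, hcomp⟩
  have : (ψ' : Aut (FF G) → Q) = psi Q π hπ := by
    apply Continuous.ext_on (denseRange_iota (G := G)) hc (psi_continuous Q π hπ)
    rintro _ ⟨g, rfl⟩
    have h1 := DFunLike.congr_fun hcomp g
    have h2 := DFunLike.congr_fun (psi_iota Q π hπ) g
    exact h1.trans h2.symm
  exact MonoidHom.ext fun σ => congrFun this σ

end Univ

theorem main :
    ∃ ι : G →* Aut (forget₂ (ContAction FintypeCat.{u} G) FintypeCat.{u}),
      Continuous ι ∧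
      (∀ (g : G) (X : ContAction FintypeCat.{u} G) (x : X.obj.V),
        (ι g).hom.app X x = (X.obj.ρ g).hom x) ∧
      DenseRange ι ∧
      ∀ (Q : Type u) [Group Q] [Finite Q] [TopologicalSpace Q] [DiscreteTopology Q] (π : G →* Q),
        Continuous π → ∃! ψ : Aut (forget₂ (ContAction FintypeCat.{u} G) FintypeCat.{u}) →* Q,
          Continuous ψ ∧ ψ.comp ι = π :=
  ⟨iota G, iota_continuous, fun _ _ _ => rfl, denseRange_iota, fun Q _ _ _ _ π hπ =>
    existsUnique_psi Q π hπ⟩

end Helpers


open CategoryTheory in
/-- Let G be a topological group, consider the category of finite sets (with the discrete topology)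
equipped with a continuous action of G, and let F be the forgetful functor to finite sets, so that
Aut(F) is a profinite group. Then the homomorphism ι : G → Aut(F) letting g act on every finite
continuous G-set exists and is continuous, has dense image, and every continuous homomorphism from G
to a finite discrete group factors uniquely through ι by a continuous homomorphism on Aut(F). As
Aut(F) is profinite, these properties say that ι induces an isomorphism of topological groups from
the profinite completion of G (the limit of the quotients G/U by open normal subgroups of finite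
index) onto Aut(F). -/
theorem result (G : Type u) [Group G]
    [TopologicalSpace G] [IsTopologicalGroup G] :
    ∃ ι : G →* Aut (forget₂ (ContAction FintypeCat.{u} G) FintypeCat.{u}),
      Continuous ι ∧
      (∀ (g : G) (X : ContAction FintypeCat.{u} G) (x : X.obj.V), (ι g).hom.app X x = (X.obj.ρ g).hom x) ∧
      DenseRange ι ∧
      ∀ (Q : Type u) [Group Q] [Finite Q] [TopologicalSpace Q] [DiscreteTopology Q] (π : G →* Q),
        Continuous π → ∃! ψ : Aut (forget₂ (ContAction FintypeCat.{u} G) FintypeCat.{u}) →* Q,
          Continuous ψ ∧ ψ.comp ι = π := by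
  exact main

end Groth.Agent.S18428
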