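import Groth.Statements.S18429
import Mathlib.Tactic
-- import your own Groth.Agent.* helpers here

set_option autoImplicit false
universe u
open SpinCurv

namespace Groth.Agent.S18429

/-- Let n ≥ 1 and r ≥ 2 be integers and let e_0, …, e_{nr} be integers with e_0 = e_{nr} = 0 (the
coefficients of a chain of nr - 1 exceptional curves joining two non-exceptional components with
coefficient zero) such that at every interior index 1 ≤ j ≤ nr - 1 the second difference e_{j-1} - 2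
e_j + e_{j+1} (the degree of the divisor Σ e_i E_i on the j-th curve of the chain) is divisible by
r. Then there are integers e'_0, …, e'_{nr}, with e'_j ≡ e_j modulo r for every interior j, with
e'_0 = e'_{nr} = 0 and every e'_j ≤ 0, whose second differences at the interior indices are each 0
or r, and are nonzero at no two distinct interior indices. -/
theorem result (n r : ℕ) (hn : 1 ≤ n) (hr : 2 ≤ r)
    (e : ℕ → ℤ) (he0 : e 0 = 0) (henr : e (n * r) = 0)
    (hdiv : ∀ j : ℕ, 1 ≤ j → j < n * r → (r : ℤ) ∣ e (j - 1) - 2 * e j + e (j + 1)) :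
    ∃ e' : ℕ → ℤ, e' 0 = 0 ∧ e' (n * r) = 0 ∧
      (∀ j : ℕ, 1 ≤ j → j < n * r → (r : ℤ) ∣ e' j - e j) ∧
      (∀ j : ℕ, j ≤ n * r → e' j ≤ 0) ∧
      (∀ j : ℕ, 1 ≤ j → j < n * r →
        (e' (j - 1) - 2 * e' j + e' (j + 1) = 0 ∨ e' (j - 1) - 2 * e' j + e' (j + 1) = r)) ∧
      (∀ j j' : ℕ, 1 ≤ j → j < n * r → 1 ≤ j' → j' < n * r →
        e' (j - 1) - 2 * e' j + e' (j + 1) ≠ 0 → e' (j' - 1) - 2 * e' j' + e' (j' + 1) ≠ 0 → j = j') := by
  -- linearity of `e` modulo `r`
  have hlin : ∀ j : ℕ, j ≤ n * r → (r : ℤ) ∣ e j - (j : ℤ) * e 1 := by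
    intro j
    induction j using Nat.strong_induction_on with
    | _ j ih =>
      intro hj
      rcases j with _ | _ | j
      · simp [he0]
      · simp
      · have h1 := ih (j + 1) (by omega) (by omega)
        have h0 := ih j (by omega) (by omega)
        have h2 := hdiv (j + 1) (by omega) (by omega)
        simp only [Nat.add_sub_cancel] at h2
        have : e (j + 1 + 1) - ((j + 1 + 1 : ℕ) : ℤ) * e 1 =
            (e j - 2 * e (j + 1) + e (j + 1 + 1)) + 2 * (e (j + 1) - ((j + 1 : ℕ) : ℤ) * e 1)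
              - (e j - (j : ℤ) * e 1) := by
          push_cast; ring
        rw [this]
        exact dvd_sub (dvd_add h2 (Dvd.dvd.mul_left h1 2)) h0
  -- the slope `a` with `a ≡ -e 1 (mod r)`, `0 ≤ a < r`
  have hr0 : (0 : ℤ) < r := by exact_mod_cast (by omega : 0 < r)
  set a : ℤ := (-(e 1)) % (r : ℤ) with ha
  have ha0 : 0 ≤ a := Int.emod_nonneg _ hr0.ne'
  have har : a < r := Int.emod_lt_of_pos _ hr0
  have hae : (r : ℤ) ∣ a + e 1 := by
    have : (r : ℤ) ∣ (-(e 1)) - a := Int.dvd_self_sub_of_emod_eq ha.symm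
    have h2 : a + e 1 = -((-(e 1)) - a) := by ring
    rw [h2]; exact (dvd_neg).mpr this
  -- the kink position
  set j₀ : ℤ := (n : ℤ) * ((r : ℤ) - a) with hj₀
  let L1 : ℕ → ℤ := fun j => -a * (j : ℤ)
  let L2 : ℕ → ℤ := fun j => ((r : ℤ) - a) * ((j : ℤ) - (n : ℤ) * (r : ℤ))
  have hL : ∀ j : ℕ, L2 j - L1 j = (r : ℤ) * ((j : ℤ) - j₀) := by
    intro j; simp only [L1, L2, hj₀]; ring
  let e' : ℕ → ℤ := fun j => if (j : ℤ) ≤ j₀ then L1 j else L2 j
  have he'1 : ∀ j : ℕ, (j : ℤ) ≤ j₀ → e' j = L1 j := fun j h => if_pos h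
  have he'2 : ∀ j : ℕ, j₀ ≤ (j : ℤ) → e' j = L2 j := by
    intro j h
    by_cases h' : (j : ℤ) ≤ j₀
    · have : (j : ℤ) = j₀ := le_antisymm h' h
      rw [he'1 j h']
      have := hL j
      rw [‹(j : ℤ) = j₀›, sub_self, mul_zero] at this
      linarith
    · exact if_neg h'
  have hj₀nn : 0 ≤ j₀ := mul_nonneg (by positivity) (by linarith)
  have hj₀le : j₀ ≤ (n : ℤ) * r := by
    rw [hj₀]; exact mul_le_mul_of_nonneg_left (by linarith) (by positivity)
  -- second differences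
  have hsd : ∀ j : ℕ, 1 ≤ j →
      (e' (j - 1) - 2 * e' j + e' (j + 1) = 0 ∧ (j : ℤ) ≠ j₀) ∨
      (e' (j - 1) - 2 * e' j + e' (j + 1) = r ∧ (j : ℤ) = j₀) := by
    intro j hj
    obtain ⟨i, rfl⟩ : ∃ i, j = i + 1 := ⟨j - 1, by omega⟩
    simp only [Nat.add_sub_cancel]
    rcases lt_trichotomy ((i + 1 : ℕ) : ℤ) j₀ with h | h | h
    · left
      refine ⟨?_, h.ne⟩
      have h1 : ((i : ℕ) : ℤ) ≤ j₀ := by push_cast at h; linarith
      have h2 : ((i + 1 : ℕ) : ℤ) ≤ j₀ := h.le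
      have h3 : ((i + 1 + 1 : ℕ) : ℤ) ≤ j₀ := by push_cast at h ⊢; linarith
      rw [he'1 _ h1, he'1 _ h2, he'1 _ h3]
      simp only [L1]; push_cast; ring
    · right
      refine ⟨?_, h⟩
      have h1 : ((i : ℕ) : ℤ) ≤ j₀ := by push_cast at h; linarith
      have h2 : ((i + 1 : ℕ) : ℤ) ≤ j₀ := h.le
      have h3 : j₀ ≤ ((i + 1 + 1 : ℕ) : ℤ) := by push_cast at h ⊢; linarith
      rw [he'1 _ h1, he'1 _ h2, he'2 _ h3]
      have := hL (i + 1 + 1)
      have e3 : L2 (i + 1 + 1) = L1 (i + 1 + 1) + (r : ℤ) * (((i + 1 + 1 : ℕ) : ℤ) - j₀) := by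
        linarith
      rw [e3, ← h]
      simp only [L1]; push_cast; ring
    · left
      refine ⟨?_, h.ne'⟩
      have h1 : j₀ ≤ ((i : ℕ) : ℤ) := by push_cast at h; linarith
      have h2 : j₀ ≤ ((i + 1 : ℕ) : ℤ) := h.le
      have h3 : j₀ ≤ ((i + 1 + 1 : ℕ) : ℤ) := by push_cast at h ⊢; linarith
      rw [he'2 _ h1, he'2 _ h2, he'2 _ h3]
      simp only [L2]; push_cast; ring
  refine ⟨e', ?_, ?_, ?_, ?_, ?_, ?_⟩
  · rw [he'1 0 (by simpa using hj₀nn)]; simp [L1]
  · rw [he'2 (n * r) (by push_cast; exact hj₀le)]; simp [L2]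
  · intro j hj1 hj2
    have h1 := hlin j hj2.le
    -- both branches are ≡ -a j
    have hboth : (r : ℤ) ∣ e' j - L1 j := by
      by_cases h : (j : ℤ) ≤ j₀
      · rw [he'1 j h, sub_self]; exact dvd_zero _
      · rw [show e' j = L2 j from if_neg h, hL j]; exact dvd_mul_right _ _
    have h2 : (r : ℤ) ∣ L1 j - e j := by
      have : L1 j - e j = -((e j - (j : ℤ) * e 1) + (j : ℤ) * (a + e 1)) := by
        simp only [L1]; ring
      rw [this]
      exact (dvd_neg).mpr (dvd_add h1 (Dvd.dvd.mul_left hae _))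
    have : e' j - e j = (e' j - L1 j) + (L1 j - e j) := by ring
    rw [this]; exact dvd_add hboth h2
  · intro j hj
    by_cases h : (j : ℤ) ≤ j₀
    · rw [he'1 j h]
      simp only [L1]
      have : 0 ≤ a * (j : ℤ) := mul_nonneg ha0 (by positivity)
      linarith
    · rw [show e' j = L2 j from if_neg h]
      simp only [L2]
      have h1 : (0 : ℤ) ≤ (r : ℤ) - a := by linarith
      have h2 : (j : ℤ) - (n : ℤ) * r ≤ 0 := by
        have : ((j : ℕ) : ℤ) ≤ ((n * r : ℕ) : ℤ) := by exact_mod_cast hj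
        push_cast at this; linarith
      exact mul_nonpos_of_nonneg_of_nonpos h1 h2
  · intro j hj1 _
    rcases hsd j hj1 with h | h
    · exact Or.inl h.1
    · exact Or.inr h.1
  · intro j j' hj1 _ hj'1 _ hne hne'
    rcases hsd j hj1 with h | h
    · exact absurd h.1 hne
    · rcases hsd j' hj'1 with h' | h'
      · exact absurd h'.1 hne'
      · have : (j : ℤ) = (j' : ℤ) := h.2.trans h'.2.symm
        exact_mod_cast this

end Groth.Agent.S18429
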