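import Groth.Statements.S18431
import Mathlib.RingTheory.LocalRing.MaximalIdeal.Basic
import Mathlib.Algebra.Ring.GeomSum
-- import your own Groth.Agent.* helpers here

set_option autoImplicit false
universe u
open SpinCurv

namespace Groth.Agent.S18431

/-- Let R be a Noetherian local ring in which the natural number r is invertible and let ξ, ζ ∈ R
satisfy ξ^r = 1 and ζ^r = 1. Then either ξ = ζ, or ξ - ζ is a unit of R. (Consequently an element of
R annihilated by ξ - ζ is zero unless ξ = ζ. In the published setting R is moreover complete; the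
step does not use completeness.) -/
theorem result (R : Type u) [CommRing R] [IsNoetherianRing R] [IsLocalRing R]
    (r : ℕ) (hr : IsUnit (r : R)) (ξ ζ : R) (hξ : ξ ^ r = 1) (hζ : ζ ^ r = 1) :
    ξ = ζ ∨ IsUnit (ξ - ζ) := by
  have hr0 : r ≠ 0 := by
    rintro rfl
    simp at hr
  have hζu : IsUnit ζ := by
    have : ζ * ζ ^ (r - 1) = 1 := by
      rw [← pow_succ', Nat.sub_add_cancel (Nat.one_le_iff_ne_zero.mpr hr0), hζ]
    exact IsUnit.of_mul_eq_one _ this
  by_cases hu : IsUnit (ξ - ζ)
  · exact Or.inr hu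
  · left
    have hm : ξ - ζ ∈ IsLocalRing.maximalIdeal R := (IsLocalRing.mem_maximalIdeal _).2 hu
    -- ξ^r - ζ^r = (ξ - ζ) * Σ ξ^i ζ^(r-1-i)
    have hgeom := Commute.geom_sum₂_mul (Commute.all ξ ζ) r
    rw [hξ, hζ, sub_self] at hgeom
    -- the sum is ≡ r ζ^(r-1) mod m
    have hsum : IsUnit (∑ i ∈ Finset.range r, ξ ^ i * ζ ^ (r - 1 - i)) := by
      have h1 : (∑ i ∈ Finset.range r, ξ ^ i * ζ ^ (r - 1 - i)) - (r : R) * ζ ^ (r - 1) ∈
          IsLocalRing.maximalIdeal R := by
        have : (r : R) * ζ ^ (r - 1) = ∑ i ∈ Finset.range r, ζ ^ i * ζ ^ (r - 1 - i) := by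
          rw [Finset.sum_congr rfl (fun i hi => by
            rw [← pow_add, Nat.add_sub_cancel' (by have := Finset.mem_range.mp hi; omega)])]
          simp
        rw [this, ← Finset.sum_sub_distrib]
        refine Submodule.sum_mem _ (fun i _ => ?_)
        rw [← sub_mul]
        refine Ideal.mul_mem_right _ _ ?_
        have := sub_dvd_pow_sub_pow ξ ζ i
        exact Ideal.mem_of_dvd _ this hm
      have h2 : IsUnit ((r : R) * ζ ^ (r - 1)) := hr.mul (hζu.pow _)
      by_contra hns
      have h3 : (∑ i ∈ Finset.range r, ξ ^ i * ζ ^ (r - 1 - i)) ∈ IsLocalRing.maximalIdeal R :=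
        (IsLocalRing.mem_maximalIdeal _).2 hns
      have h4 := (IsLocalRing.maximalIdeal R).sub_mem h3 h1
      rw [sub_sub_cancel] at h4
      exact (IsLocalRing.mem_maximalIdeal _).1 h4 h2
    have := hsum.mul_right_eq_zero.mp hgeom
    exact sub_eq_zero.mp this

end Groth.Agent.S18431
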