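import Groth.Statements.S18435
import Mathlib
-- import your own Groth.Agent.* helpers here

set_option autoImplicit false
universe u
open SpinCurv

namespace Groth.Agent.S18435

section Helpers
open SpinCurv
open MvPolynomial

variable (k : Type u) [Field k]

noncomputable abbrev J : Ideal (MvPolynomial (Fin 2) k) :=
  Ideal.span {(X 0 * X 1 - C 0 : MvPolynomial (Fin 2) k)}

noncomputable def sxy : Fin 2 →₀ ℕ := Finsupp.single 0 1 + Finsupp.single 1 1

theorem XY_eq : (X 0 * X 1 - C 0 : MvPolynomial (Fin 2) k) = monomial sxy 1 := by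
  rw [map_zero, sub_zero, sxy, X, X, monomial_mul, one_mul]

theorem sxy_le (m : Fin 2 →₀ ℕ) : sxy ≤ m ↔ (m 0 ≠ 0 ∧ m 1 ≠ 0) := by
  rw [Finsupp.le_def]
  constructor
  · intro h
    have h0 := h 0
    have h1 := h 1
    simp [sxy] at h0 h1
    omega
  · rintro ⟨h0, h1⟩ i
    fin_cases i <;> simp [sxy] <;> omega

theorem mem_J_iff (p : MvPolynomial (Fin 2) k) :
    p ∈ J k ↔ ∀ m : Fin 2 →₀ ℕ, (m 0 = 0 ∨ m 1 = 0) → coeff m p = 0 := by
  constructor
  · intro hp m hm
    rw [J, XY_eq, Ideal.mem_span_singleton] at hp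
    obtain ⟨r, rfl⟩ := hp
    rw [coeff_monomial_mul', if_neg]
    rw [sxy_le]
    tauto
  · intro h
    rw [← p.support_sum_monomial_coeff]
    apply Ideal.sum_mem
    intro m hm
    have hc : coeff m p ≠ 0 := MvPolynomial.mem_support_iff.mp hm
    have hle : sxy ≤ m := by
      rw [sxy_le]
      constructor
      · intro h0; exact hc (h m (Or.inl h0))
      · intro h1; exact hc (h m (Or.inr h1))
    have : monomial m (coeff m p) = monomial sxy 1 * monomial (m - sxy) (coeff m p) := by
      rw [monomial_mul, one_mul, add_tsub_cancel_of_le hle]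
    rw [this, J, XY_eq]
    exact Ideal.mul_mem_right _ _ (Ideal.mem_span_singleton_self _)

noncomputable def phi1 : MvPolynomial (Fin 2) k →ₐ[k] Polynomial k :=
  aeval ![Polynomial.X, 0]

theorem coeff_phi1 (p : MvPolynomial (Fin 2) k) (n : ℕ) :
    (phi1 k p).coeff n = coeff (Finsupp.single 0 n) p := by
  induction p using MvPolynomial.induction_on' with
  | monomial m c =>
    rw [phi1, aeval_monomial, Finsupp.prod_fintype _ _ (fun i => pow_zero _), Fin.prod_univ_two,
      coeff_monomial]
    simp only [Matrix.cons_val_zero, Matrix.cons_val_one]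
    by_cases h1 : m 1 = 0
    · rw [h1, pow_zero, mul_one, ← Polynomial.C_eq_algebraMap, Polynomial.coeff_C_mul_X_pow]
      by_cases hn : n = m 0
      · rw [if_pos hn, if_pos]
        ext i; fin_cases i
        · simp [hn]
        · simp [h1]
      · rw [if_neg hn, if_neg]
        intro h
        apply hn
        rw [h]; simp
    · rw [zero_pow h1, mul_zero, mul_zero, Polynomial.coeff_zero, if_neg]
      intro h
      apply h1
      rw [h]; simp
  | add p q hp hq => rw [map_add, Polynomial.coeff_add, coeff_add, hp, hq]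

theorem toLaurent_coeff_nat (F : Polynomial k) (j : ℕ) :
    (Polynomial.toLaurent F).coeff ((j : ℕ) : ℤ) = F.coeff j := by
  rw [LaurentPolynomial.coeff_toLaurent]
  exact Finsupp.mapDomain_apply Nat.cast_injective _ j

theorem toLaurent_coeff_neg (F : Polynomial k) (j : ℕ) :
    (Polynomial.toLaurent F).coeff (-((j + 1 : ℕ) : ℤ)) = 0 := by
  rw [LaurentPolynomial.coeff_toLaurent]
  apply Finsupp.mapDomain_of_notMem_range
  rintro ⟨i, hi⟩
  simp at hi
  omega

/-- from `y * [p] = 0` we get vanishing of the coefficients of `p` along the `y`-axis. -/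
theorem coeff_axis_of_y_mul (p : MvPolynomial (Fin 2) k)
    (h : PolyNodeRing.y k 0 * (Ideal.Quotient.mk (J k) p) = 0) (j : ℕ) :
    coeff (Finsupp.single 1 j) p = 0 := by
  have h1 : (X 1 * p : MvPolynomial (Fin 2) k) ∈ J k := by
    rw [← Ideal.Quotient.eq_zero_iff_mem, map_mul]
    exact h
  have h2 := (mem_J_iff k _).mp h1 (Finsupp.single 1 1 + Finsupp.single 1 j) (Or.inl (by simp))
  rwa [coeff_X_mul] at h2

theorem phi1_J (p : MvPolynomial (Fin 2) k) (hp : p ∈ J k) : phi1 k p = 0 := by
  ext n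
  rw [coeff_phi1, Polynomial.coeff_zero]
  exact (mem_J_iff k p).mp hp _ (Or.inr (by simp))

theorem mem_J_of (p : MvPolynomial (Fin 2) k) (h1 : ∀ j, coeff (Finsupp.single 1 j) p = 0)
    (h2 : phi1 k p = 0) : p ∈ J k := by
  rw [mem_J_iff]
  rintro m (hm | hm)
  · have : m = Finsupp.single 1 (m 1) := by
      ext i; fin_cases i
      · simp [hm]
      · simp
    rw [this]; exact h1 _
  · have : m = Finsupp.single 0 (m 0) := by
      ext i; fin_cases i
      · simp
      · simp [hm]
    rw [this, ← coeff_phi1, h2, Polynomial.coeff_zero]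

theorem main (rU : SpinCurv.PolyNodeRing k 0 →ₐ[k] SpinCurv.PolyNodeRing k 0)
    (hrUx : rU (SpinCurv.PolyNodeRing.x k 0) = 0)
    (hrUy : rU (SpinCurv.PolyNodeRing.y k 0) = SpinCurv.PolyNodeRing.y k 0)
    (rV : SpinCurv.PolyNodeRing k 0 →ₐ[k] SpinCurv.PolyNodeRing k 0)
    (hrVx : rV (SpinCurv.PolyNodeRing.x k 0) = SpinCurv.PolyNodeRing.y k 0)
    (hrVy : rV (SpinCurv.PolyNodeRing.y k 0) = 0)
    (gU : SpinCurv.PolyNodeRing k 0 →ₐ[k] LaurentPolynomial k)
    (hgUs : gU (SpinCurv.PolyNodeRing.x k 0) = LaurentPolynomial.T 1)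
    (hgUy : gU (SpinCurv.PolyNodeRing.y k 0) = 0)
    (gV : SpinCurv.PolyNodeRing k 0 →ₐ[k] LaurentPolynomial k)
    (hgVt : gV (SpinCurv.PolyNodeRing.x k 0) = LaurentPolynomial.T (-1))
    (hgVx : gV (SpinCurv.PolyNodeRing.y k 0) = 0)
    (g f : SpinCurv.PolyNodeRing k 0) (hsec : gU g = LaurentPolynomial.T 1 * gV f)
    (hx : rU (SpinCurv.PolyNodeRing.x k 0) * g = 0 ∧ rV (SpinCurv.PolyNodeRing.x k 0) * f = 0)
    (hy : rU (SpinCurv.PolyNodeRing.y k 0) * g = 0 ∧ rV (SpinCurv.PolyNodeRing.y k 0) * f = 0) :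
    g = 0 ∧ f = 0 := by
  obtain ⟨p, rfl⟩ := Ideal.Quotient.mk_surjective g
  obtain ⟨q, rfl⟩ := Ideal.Quotient.mk_surjective f
  have hyg := hy.1
  rw [hrUy] at hyg
  have hyf := hx.2
  rw [hrVx] at hyf
  have hp1 := coeff_axis_of_y_mul k p hyg
  have hq1 := coeff_axis_of_y_mul k q hyf
  -- the two composites
  have hU : gU.comp (Ideal.Quotient.mkₐ k (J k)) =
      (Polynomial.toLaurentAlg).comp (phi1 k) := by
    apply MvPolynomial.algHom_ext
    intro i
    fin_cases i
    · change gU (PolyNodeRing.x k 0) = Polynomial.toLaurentAlg (phi1 k (X 0))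
      rw [hgUs, phi1, aeval_X]
      simp
    · change gU (PolyNodeRing.y k 0) = Polynomial.toLaurentAlg (phi1 k (X 1))
      rw [hgUy, phi1, aeval_X]
      simp
  have hV : gV.comp (Ideal.Quotient.mkₐ k (J k)) =
      (LaurentPolynomial.invert.toAlgHom.comp Polynomial.toLaurentAlg).comp (phi1 k) := by
    apply MvPolynomial.algHom_ext
    intro i
    fin_cases i
    · change gV (PolyNodeRing.x k 0) =
        LaurentPolynomial.invert (Polynomial.toLaurentAlg (phi1 k (X 0)))
      rw [hgVt, phi1, aeval_X]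
      simp
    · change gV (PolyNodeRing.y k 0) =
        LaurentPolynomial.invert (Polynomial.toLaurentAlg (phi1 k (X 1)))
      rw [hgVx, phi1, aeval_X]
      simp
  have hUp : gU (Ideal.Quotient.mk (J k) p) = Polynomial.toLaurent (phi1 k p) := by
    have := AlgHom.congr_fun hU p
    simpa using this
  have hVq : gV (Ideal.Quotient.mk (J k) q) =
      LaurentPolynomial.invert (Polynomial.toLaurent (phi1 k q)) := by
    have := AlgHom.congr_fun hV q
    simpa using this
  rw [hUp, hVq] at hsec
  -- constant terms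
  have hP0 : (phi1 k p).coeff 0 = 0 := by
    rw [coeff_phi1]
    have := hp1 0
    simpa using this
  have hQ0 : (phi1 k q).coeff 0 = 0 := by
    rw [coeff_phi1]
    have := hq1 0
    simpa using this
  obtain ⟨Q1, hQ1⟩ := Polynomial.X_dvd_iff.mpr hQ0
  rw [hQ1, map_mul, Polynomial.toLaurent_X, map_mul, LaurentPolynomial.invert_T, ← mul_assoc,
    ← LaurentPolynomial.T_add] at hsec
  norm_num at hsec
  have hP : phi1 k p = 0 := by
    ext n
    rcases n with _ | j
    · exact hP0
    · rw [Polynomial.coeff_zero, ← toLaurent_coeff_nat, hsec, LaurentPolynomial.invert_apply]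
      exact toLaurent_coeff_neg k Q1 j
  have hQ1z : Q1 = 0 := by
    rw [hP, map_zero] at hsec
    have : Polynomial.toLaurent Q1 = 0 := by
      have h := congrArg LaurentPolynomial.invert hsec
      rw [map_zero] at h
      have h2 := LaurentPolynomial.involutive_invert (Polynomial.toLaurent Q1)
      rw [← h2, ← h]
    exact Polynomial.toLaurent_eq_zero.mp this
  have hQ : phi1 k q = 0 := by rw [hQ1, hQ1z, mul_zero]
  constructor
  · exact Ideal.Quotient.eq_zero_iff_mem.mpr (mem_J_of k p hp1 hP)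
  · exact Ideal.Quotient.eq_zero_iff_mem.mpr (mem_J_of k q hq1 hQ)

end Helpers


/-- Let k be a field and A = k[x, y]/(xy) the node, with the two affine charts U = Spec k[s, y]/(sy) and
V = Spec k[t, x]/(tx) of the curve obtained by the (p, q)-construction with p = q = 0, glued along
k[s, s⁻¹] by t = s⁻¹ (y ↦ 0 from U, x ↦ 0 from V), and with A → O(U) given by x ↦ 0, y ↦ y and A →
O(V) by x ↦ x, y ↦ 0. A global section of O(1) is a pair (g, f) with g = s f on U ∩ V. If such a
pair is annihilated by both x and y (acting through the two restriction maps), then g = 0 and f = 0;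
so the module of global sections of O(1) has no nonzero element killed by the maximal ideal (x, y),
i.e. its direct image on the node is torsion-free there. All three coordinate rings are written as
the quotient of the polynomial ring in two variables by the product of the variables, and the four
restriction homomorphisms are k-algebra maps pinned by their values on generators. (The published
proof reduces the torsion-freeness of the direct image of O(1), for general R, p, q, to exactly this
case of a field with p = q = 0.) -/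
theorem result (k : Type u) [Field k]
    (rU : SpinCurv.PolyNodeRing k 0 →ₐ[k] SpinCurv.PolyNodeRing k 0)
    (hrUx : rU (SpinCurv.PolyNodeRing.x k 0) = 0)
    (hrUy : rU (SpinCurv.PolyNodeRing.y k 0) = SpinCurv.PolyNodeRing.y k 0)
    (rV : SpinCurv.PolyNodeRing k 0 →ₐ[k] SpinCurv.PolyNodeRing k 0)
    (hrVx : rV (SpinCurv.PolyNodeRing.x k 0) = SpinCurv.PolyNodeRing.y k 0)
    (hrVy : rV (SpinCurv.PolyNodeRing.y k 0) = 0)
    (gU : SpinCurv.PolyNodeRing k 0 →ₐ[k] LaurentPolynomial k)
    (hgUs : gU (SpinCurv.PolyNodeRing.x k 0) = LaurentPolynomial.T 1)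
    (hgUy : gU (SpinCurv.PolyNodeRing.y k 0) = 0)
    (gV : SpinCurv.PolyNodeRing k 0 →ₐ[k] LaurentPolynomial k)
    (hgVt : gV (SpinCurv.PolyNodeRing.x k 0) = LaurentPolynomial.T (-1))
    (hgVx : gV (SpinCurv.PolyNodeRing.y k 0) = 0)
    (g f : SpinCurv.PolyNodeRing k 0) (hsec : gU g = LaurentPolynomial.T 1 * gV f)
    (hx : rU (SpinCurv.PolyNodeRing.x k 0) * g = 0 ∧ rV (SpinCurv.PolyNodeRing.x k 0) * f = 0)
    (hy : rU (SpinCurv.PolyNodeRing.y k 0) * g = 0 ∧ rV (SpinCurv.PolyNodeRing.y k 0) * f = 0) :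
    g = 0 ∧ f = 0 := by
  exact main k rU hrUx hrUy rV hrVx hrVy gU hgUs hgUy gV hgVt hgVx g f hsec hx hy

end Groth.Agent.S18435
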