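import Groth.Statements.S18457
import Mathlib.Algebra.Order.Chebyshev
import Mathlib.Tactic

set_option autoImplicit false
open Finset
open Surf

namespace Groth.Agent.S18457

theorem exists_of_sum_eq_one {ι : Type*} [Fintype ι] [DecidableEq ι] (t : ι → ℤ)
    (ht : ∀ i, 0 ≤ t i) (h : ∑ i, t i = 1) : ∃ j, t j = 1 ∧ ∀ i, i ≠ j → t i = 0 := by
  obtain ⟨j, _, hj⟩ := Finset.exists_ne_zero_of_sum_ne_zero (s := Finset.univ) (f := t)
    (by rw [h]; norm_num)
  have hj1 : 1 ≤ t j := by have := ht j; omega
  rw [← Finset.add_sum_erase Finset.univ t (Finset.mem_univ j)] at h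
  have hrest : 0 ≤ ∑ i ∈ Finset.univ.erase j, t i := Finset.sum_nonneg (fun i _ => ht i)
  have h1 : t j = 1 := by omega
  have h0 : ∑ i ∈ Finset.univ.erase j, t i = 0 := by omega
  refine ⟨j, h1, fun i hi => ?_⟩
  exact (Finset.sum_eq_zero_iff_of_nonneg (fun i _ => ht i)).mp h0 i
    (Finset.mem_erase.mpr ⟨hi, Finset.mem_univ i⟩)

theorem card_filter_eq_sum {n : ℕ} (a : Fin n → ℤ) (h01 : ∀ i, a i = 0 ∨ a i = 1) :
    ((Finset.univ.filter (fun i => a i = 1)).card : ℤ) = ∑ i, a i := by
  rw [Finset.card_filter]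
  push_cast
  refine Finset.sum_congr rfl (fun i _ => ?_)
  rcases h01 i with h | h <;> simp [h]

/-- In the Picard lattice of the plane blown up at n ≤ 8 points, with basis h, e_1, …, e_n, form h² = 1,
e_i² = −1, all other products 0, and anticanonical class D = 3h − Σ e_i, let d·h − Σ a_i e_i be a
class with all a_i ≥ 0 (the class of the strict transform of a degree-d plane curve having
multiplicity a_i at the i-th point) which is a (−2)-class orthogonal to D, that is d² − Σ a_i² = −2
and 3d = Σ a_i. Then one of the following holds: d = 1 and every a_i is 0 or 1 with exactly three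
equal to 1; d = 2 and every a_i is 0 or 1 with exactly six equal to 1; d = 3, n = 8, and one a_i
equals 2 while the remaining seven equal 1. The published statement is geometric: under the
general-position hypotheses on the points, no smooth rational curve on the blown-up plane is
orthogonal to D; this row is the lattice enumeration its proof carries out (a line through three of
the points, a conic through six, a cubic through all eight and singular at one). -/
theorem result (n : ℕ) (hn : n ≤ 8)
    (d : ℤ) (a : Fin n → ℤ) (ha : ∀ i, 0 ≤ a i)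
    (hsq : d ^ 2 - ∑ i, (a i) ^ 2 = -2) (hK : 3 * d = ∑ i, a i) :
    (d = 1 ∧ (∀ i, a i = 0 ∨ a i = 1) ∧ (Finset.univ.filter (fun i => a i = 1)).card = 3) ∨
      (d = 2 ∧ (∀ i, a i = 0 ∨ a i = 1) ∧ (Finset.univ.filter (fun i => a i = 1)).card = 6) ∨
      (d = 3 ∧ n = 8 ∧ ∃ j, a j = 2 ∧ ∀ i, i ≠ j → a i = 1) := by
  have hS2 : ∑ i, (a i) ^ 2 = d ^ 2 + 2 := by linarith
  have hS1 : ∑ i, a i = 3 * d := hK.symm
  have hd0 : 0 ≤ d := by
    have := Finset.sum_nonneg (s := Finset.univ) (fun i _ => ha i)
    linarith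
  have hn8 : (n : ℤ) ≤ 8 := by exact_mod_cast hn
  have hCS := sq_sum_le_card_mul_sum_sq (s := Finset.univ) (f := a)
  simp only [Finset.card_univ, Fintype.card_fin] at hCS
  rw [hS1, hS2] at hCS
  have hd4 : d ≤ 4 := by nlinarith
  -- Σ a_i (a_i - 1) = S2 - S1
  have hAA : ∑ i, a i * (a i - 1) = d ^ 2 + 2 - 3 * d := by
    rw [← hS2, ← hS1, ← Finset.sum_sub_distrib]
    exact Finset.sum_congr rfl (fun i _ => by ring)
  have hnn : ∀ i, 0 ≤ a i * (a i - 1) := fun i => by
    have := ha i
    rcases (by omega : a i = 0 ∨ 1 ≤ a i) with h | h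
    · simp [h]
    · exact mul_nonneg this (by omega)
  have h01_of : d ^ 2 + 2 - 3 * d = 0 → ∀ i, a i = 0 ∨ a i = 1 := fun hz i => by
    rw [hz] at hAA
    have := (Finset.sum_eq_zero_iff_of_nonneg (fun i _ => hnn i)).mp hAA i (Finset.mem_univ i)
    rcases mul_eq_zero.mp this with h | h
    · exact Or.inl h
    · exact Or.inr (by omega)
  interval_cases d
  · -- d = 0
    exfalso
    have hz : ∀ i, a i = 0 := fun i =>
      (Finset.sum_eq_zero_iff_of_nonneg (fun i _ => ha i)).mp (by simpa using hS1) i
        (Finset.mem_univ i)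
    have : ∑ i, (a i) ^ 2 = 0 := Finset.sum_eq_zero (fun i _ => by rw [hz i]; norm_num)
    rw [this] at hS2
    norm_num at hS2
  · -- d = 1
    left
    have h01 := h01_of (by norm_num)
    refine ⟨rfl, h01, ?_⟩
    have := card_filter_eq_sum a h01
    rw [hS1] at this
    exact_mod_cast this
  · -- d = 2
    right; left
    have h01 := h01_of (by norm_num)
    refine ⟨rfl, h01, ?_⟩
    have := card_filter_eq_sum a h01
    rw [hS1] at this
    exact_mod_cast this
  · -- d = 3
    right; right
    have hB : ∑ i, (a i - 1) ^ 2 = (n : ℤ) - 7 := by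
      have : ∑ i, (a i - 1) ^ 2 = ∑ i, ((a i) ^ 2 - 2 * a i + 1) :=
        Finset.sum_congr rfl (fun i _ => by ring)
      rw [this, Finset.sum_add_distrib, Finset.sum_sub_distrib, ← Finset.mul_sum, hS1, hS2]
      simp
      ring
    have hBnn : 0 ≤ ∑ i, (a i - 1) ^ 2 := Finset.sum_nonneg (fun i _ => sq_nonneg _)
    obtain rfl | rfl : n = 7 ∨ n = 8 := by omega
    · exfalso
      have hz : ∀ i, a i = 1 := fun i => by
        have := (Finset.sum_eq_zero_iff_of_nonneg (fun i _ => sq_nonneg (a i - 1))).mp
          (by simpa using hB) i (Finset.mem_univ i)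
        have := pow_eq_zero_iff (two_ne_zero) |>.mp this
        omega
      have : ∑ i, a i = 7 := by
        rw [Finset.sum_congr rfl (fun i _ => hz i)]
        simp
      omega
    · refine ⟨rfl, rfl, ?_⟩
      obtain ⟨j, hj1, hj0⟩ := exists_of_sum_eq_one (fun i => (a i - 1) ^ 2)
        (fun i => sq_nonneg _) (by simpa using hB)
      have hone : ∀ i, i ≠ j → a i = 1 := fun i hi => by
        have := pow_eq_zero_iff (two_ne_zero) |>.mp (hj0 i hi)
        omega
      refine ⟨j, ?_, hone⟩
      have hsum : ∑ i, a i = a j + 7 := by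
        rw [← Finset.add_sum_erase Finset.univ a (Finset.mem_univ j)]
        congr 1
        rw [Finset.sum_congr rfl (fun i hi => hone i (Finset.ne_of_mem_erase hi))]
        simp
      omega
  · -- d = 4
    exfalso
    have hn8' : n = 8 := by omega
    subst hn8'
    have hB : ∑ i, (2 * a i - 3) ^ 2 = 0 := by
      have : ∑ i, (2 * a i - 3) ^ 2 = ∑ i, (4 * (a i) ^ 2 - 12 * a i + 9) :=
        Finset.sum_congr rfl (fun i _ => by ring)
      rw [this, Finset.sum_add_distrib, Finset.sum_sub_distrib, ← Finset.mul_sum, ← Finset.mul_sum,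
        hS1, hS2]
      simp
    have := (Finset.sum_eq_zero_iff_of_nonneg (fun i _ => sq_nonneg (2 * a i - 3))).mp hB
      (0 : Fin 8) (Finset.mem_univ _)
    have := pow_eq_zero_iff (two_ne_zero) |>.mp this
    omega

end Groth.Agent.S18457
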