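import Groth.Statements.S18464
import Mathlib
-- import your own Groth.Agent.* helpers here

set_option autoImplicit false
universe u
open CategoryTheory CategoryTheory.Limits AlgebraicGeometry
open LefPen

namespace Groth.Agent.S18464

section Helpers
open LefPen
open MvPolynomial

variable (k : Type u) [Field k] (r d m : ℕ)

abbrev V := Fin m → (Fin (r + 1) → k)

/-- dimension of the space of forms of degree `d` in `r + 1` variables (as in H64.HypHilb) -/
theorem finrank_forms :
    Module.finrank k (LefPen.Form r k d) = (r + d).choose d := by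
  classical
  change Module.finrank k (homogeneousSubmodule (Fin (r + 1)) k d) = _
  rw [homogeneousSubmodule_eq_finsupp_supported]
  have hset : {e : Fin (r + 1) →₀ ℕ | e.degree = d} =
      ((Finset.univ : Finset (Fin (r + 1))).finsuppAntidiag d : Set (Fin (r + 1) →₀ ℕ)) := by
    ext e
    simp [Finsupp.degree_eq_sum]
  rw [hset]
  rw [LinearEquiv.finrank_eq (AddMonoidAlgebra.supportedEquivFinsupp _)]
  rw [Module.finrank_finsupp_self]
  rw [Fintype.card_of_subtype ((Finset.univ : Finset (Fin (r + 1))).finsuppAntidiag d)
    (fun x => by simp), Finset.card_finsuppAntidiag_nat_eq_choose]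
  simp only [Finset.card_univ, Fintype.card_fin]
  have : r + 1 + d - 1 = r + d := by omega
  rw [this]

instance finite_forms : Module.Finite k (LefPen.Form r k d) := by
  apply Module.finite_of_finrank_pos
  rw [finrank_forms]
  exact Nat.choose_pos (Nat.le_add_left d r)

/-- polynomial functions form a subalgebra: basic closure facts -/
theorem polyFun_coord (i : Fin m) (j : Fin (r + 1)) :
    LefPen.IsPolyFun k (fun x : V k r m => x i j) := by
  apply Algebra.subset_adjoin
  exact ⟨(LinearMap.proj j) ∘ₗ (LinearMap.proj i), rfl⟩

theorem polyFun_const (a : k) : LefPen.IsPolyFun k (fun _ : V k r m => a) :=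
  Subalgebra.algebraMap_mem _ a

theorem polyFun_add {f g : V k r m → k} (hf : LefPen.IsPolyFun k f) (hg : LefPen.IsPolyFun k g) :
    LefPen.IsPolyFun k (fun x => f x + g x) :=
  Subalgebra.add_mem _ hf hg

theorem polyFun_mul {f g : V k r m → k} (hf : LefPen.IsPolyFun k f) (hg : LefPen.IsPolyFun k g) :
    LefPen.IsPolyFun k (fun x => f x * g x) :=
  Subalgebra.mul_mem _ hf hg

theorem polyFun_sum {ι : Type*} (s : Finset ι) (f : ι → V k r m → k)
    (hf : ∀ i ∈ s, LefPen.IsPolyFun k (f i)) :
    LefPen.IsPolyFun k (fun x => ∑ i ∈ s, f i x) := by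
  have h := Subalgebra.sum_mem _ hf
  have e : (fun x => ∑ i ∈ s, f i x) = ∑ i ∈ s, f i := by
    ext x; simp
  unfold LefPen.IsPolyFun
  rw [e]; exact h

theorem polyFun_prod {ι : Type*} (s : Finset ι) (f : ι → V k r m → k)
    (hf : ∀ i ∈ s, LefPen.IsPolyFun k (f i)) :
    LefPen.IsPolyFun k (fun x => ∏ i ∈ s, f i x) := by
  have h := Subalgebra.prod_mem _ hf
  have e : (fun x => ∏ i ∈ s, f i x) = ∏ i ∈ s, f i := by
    ext x; simp
  unfold LefPen.IsPolyFun
  rw [e]; exact h

theorem polyFun_aeval (i : Fin m) (G : MvPolynomial (Fin (r + 1)) k) :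
    LefPen.IsPolyFun k (fun x : V k r m => aeval (x i) G) := by
  induction G using MvPolynomial.induction_on with
  | C a =>
    simp only [aeval_C, Algebra.algebraMap_self, RingHom.id_apply]
    exact polyFun_const k r m a
  | add p q hp hq =>
    simp only [map_add]
    exact polyFun_add k r m hp hq
  | mul_X p j hp =>
    simp only [map_mul, aeval_X]
    exact polyFun_mul k r m hp (polyFun_coord k r m i j)

/-- evaluation of forms at the tuple `x` -/
noncomputable def ev (x : V k r m) : LefPen.Form r k d →ₗ[k] (Fin m → k) where
  toFun G := fun i => aeval (x i) G.1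
  map_add' G H := by ext i; simp
  map_smul' c G := by ext i; simp

theorem ev_apply (x : V k r m) (G : LefPen.Form r k d) (i : Fin m) :
    ev k r d m x G i = aeval (x i) G.1 := rfl

abbrev SS : Set (V k r m) := {x : Fin m → (Fin (r + 1) → k) |
      ∀ G : LefPen.Form r k d, (∀ i : Fin m, MvPolynomial.aeval (x i) G.1 = 0) → G = 0}

theorem mem_SS_iff (x : V k r m) : x ∈ SS k r d m ↔ LinearMap.ker (ev k r d m x) = ⊥ := by
  rw [LinearMap.ker_eq_bot']
  constructor
  · intro h G hG
    exact h G (fun i => congrFun hG i)
  · intro h G hG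
    exact h G (funext hG)

theorem zopen : LefPen.IsZOpen k (SS k r d m) := by
  classical
  intro x hx
  rw [mem_SS_iff] at hx
  obtain ⟨L, hL⟩ := LinearMap.exists_leftInverse_of_injective (ev k r d m x) hx
  refine ⟨fun w => LinearMap.det (L ∘ₗ ev k r d m w), ?_, ?_, ?_⟩
  · -- polynomial function
    let b := Module.finBasis k (LefPen.Form r k d)
    have hdet : ∀ w, LinearMap.det (L ∘ₗ ev k r d m w) =
        (LinearMap.toMatrix b b (L ∘ₗ ev k r d m w)).det := fun w =>
      (LinearMap.det_toMatrix b _).symm
    have hentry : ∀ w i j, LinearMap.toMatrix b b (L ∘ₗ ev k r d m w) i j =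
        ∑ t : Fin m, aeval (w t) (b j).1 * (b.coord i ∘ₗ L) (fun s => if t = s then 1 else 0) := by
      intro w i j
      rw [LinearMap.toMatrix_apply]
      change (b.coord i ∘ₗ L) (ev k r d m w (b j)) = _
      rw [LinearMap.pi_apply_eq_sum_univ (b.coord i ∘ₗ L)]
      rfl
    simp_rw [hdet, Matrix.det_apply, hentry]
    apply polyFun_sum
    intro σ _
    have : ∀ (c : ℤˣ) (g : V k r m → k), LefPen.IsPolyFun k g →
        LefPen.IsPolyFun k (fun x => c • g x) := by
      intro c g hg
      have e : (fun x => c • g x) = fun x => ((c : ℤ) : k) * g x := by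
        ext x
        rw [Units.smul_def, zsmul_eq_mul]
      rw [e]
      exact polyFun_mul k r m (polyFun_const k r m _) hg
    apply this
    apply polyFun_prod
    intro i _
    apply polyFun_sum
    intro t _
    exact polyFun_mul k r m (polyFun_aeval k r m t _) (polyFun_const k r m _)
  · show LinearMap.det (L ∘ₗ ev k r d m x) ≠ 0
    rw [hL, LinearMap.det_id]
    exact one_ne_zero
  · intro w hw
    replace hw : LinearMap.det (L ∘ₗ ev k r d m w) ≠ 0 := hw
    rw [mem_SS_iff]
    have hinj : Function.Injective (L ∘ₗ ev k r d m w) :=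
      (LinearMap.equivOfDetNeZero _ hw).injective
    rw [LinearMap.ker_eq_bot]
    intro G H hGH
    apply hinj
    simp [hGH]

theorem mem_ker_ev (x : V k r m) (G : LefPen.Form r k d) :
    G ∈ LinearMap.ker (ev k r d m x) ↔ ∀ i, aeval (x i) G.1 = 0 := by
  rw [LinearMap.mem_ker]
  constructor
  · intro h i; exact congrFun h i
  · intro h; exact funext h

theorem exists_small_ker [Infinite k] : ∀ j : ℕ, ∃ x : V k r j,
    Module.finrank k (LinearMap.ker (ev k r d j x)) ≤ (r + d).choose d - j := by
  intro j
  induction j with
  | zero =>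
    refine ⟨fun i => i.elim0, ?_⟩
    calc _ ≤ Module.finrank k (LefPen.Form r k d) := Submodule.finrank_le _
      _ = _ := by rw [finrank_forms]; simp
  | succ j ih =>
    obtain ⟨x, hx⟩ := ih
    by_cases hbot : LinearMap.ker (ev k r d j x) = ⊥
    · refine ⟨Fin.snoc (α := fun _ => Fin (r + 1) → k) x 0, ?_⟩
      have : LinearMap.ker (ev k r d (j + 1)
          (Fin.snoc (α := fun _ => Fin (r + 1) → k) x 0)) = ⊥ := by
        rw [eq_bot_iff, ← hbot]
        intro G hG
        rw [mem_ker_ev] at hG ⊢
        intro i
        have := hG i.castSucc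
        simpa using this
      rw [this]; simp
    · obtain ⟨G, hG, hG0⟩ := Submodule.exists_mem_ne_zero_of_ne_bot hbot
      have hG1 : G.1 ≠ 0 := fun h => hG0 (Subtype.ext h)
      obtain ⟨p, hp⟩ : ∃ p : Fin (r + 1) → k, aeval p G.1 ≠ 0 := by
        by_contra hcon
        push Not at hcon
        apply hG1
        apply MvPolynomial.funext
        intro p
        have := hcon p
        rw [MvPolynomial.aeval_eq_eval] at this
        simpa using this
      refine ⟨Fin.snoc (α := fun _ => Fin (r + 1) → k) x p, ?_⟩
      have hlt : LinearMap.ker (ev k r d (j + 1)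
          (Fin.snoc (α := fun _ => Fin (r + 1) → k) x p)) < LinearMap.ker (ev k r d j x) := by
        rw [SetLike.lt_iff_le_and_exists]
        refine ⟨?_, G, hG, ?_⟩
        · intro H hH
          rw [mem_ker_ev] at hH ⊢
          intro i
          have := hH i.castSucc
          simpa using this
        · intro hcon
          rw [mem_ker_ev] at hcon
          have := hcon (Fin.last j)
          rw [Fin.snoc_last] at this
          exact hp this
      have := Submodule.finrank_lt_finrank_of_lt hlt
      omega

theorem nonempty_SS [Infinite k] (hm : Nat.choose (r + d) d ≤ m) : ∃ x, x ∈ SS k r d m := by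
  obtain ⟨x, hx⟩ := exists_small_ker k r d m
  refine ⟨x, ?_⟩
  rw [mem_SS_iff]
  have h0 : Module.finrank k (LinearMap.ker (ev k r d m x)) = 0 := by omega
  exact Submodule.finrank_eq_zero.mp h0

theorem main [Infinite k] (hm : Nat.choose (r + d) d ≤ m) :
    LefPen.IsZOpen k (SS k r d m) ∧ LefPen.IsGeneric k (SS k r d m) := by
  refine ⟨zopen k r d m, ?_⟩
  obtain ⟨x, hx⟩ := nonempty_SS k r d m hm
  obtain ⟨f, hf, hfx, hS⟩ := zopen k r d m x hx
  exact ⟨f, hf, ⟨x, hfx⟩, hS⟩

end Helpers


/-- Let k be an infinite field, r a natural number, d ≥ 1 an integer, and m ≥ C(r+d, d), the number of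
monomials of degree d in r+1 variables. In the space of m-tuples of vectors of k^(r+1) (homogeneous
coordinate vectors of m points of projective r-space; a zero vector is allowed and imposes no
condition), the tuples such that the only form of degree d vanishing at all of them is the zero form
make up a Zariski-open subset which contains the non-vanishing locus of a not identically zero
polynomial function, so a dense open subset. (The published statement is the openness and density of
the corresponding locus in the m-fold product of projective r-space over the ground field; here the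
ground field is any infinite field and the statement is made on coordinate vectors.) -/
theorem result (k : Type u) [Field k] [Infinite k]
    (r d m : ℕ) (hd : 1 ≤ d) (hm : Nat.choose (r + d) d ≤ m) :
    LefPen.IsZOpen k {x : Fin m → (Fin (r + 1) → k) |
      ∀ G : LefPen.Form r k d, (∀ i : Fin m, MvPolynomial.aeval (x i) G.1 = 0) → G = 0} ∧
    LefPen.IsGeneric k {x : Fin m → (Fin (r + 1) → k) |
      ∀ G : LefPen.Form r k d, (∀ i : Fin m, MvPolynomial.aeval (x i) G.1 = 0) → G = 0} := by
  exact main k r d m hm

end Groth.Agent.S18464
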