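import Groth.Statements.S18466
import Mathlib.Tactic
import Mathlib.NumberTheory.LegendreSymbol.AddCharacter
import Mathlib.RingTheory.Bialgebra.MonoidAlgebra
import Mathlib.RingTheory.Bialgebra.Equiv
-- import your own Groth.Agent.* helpers here

set_option autoImplicit false
universe u
open Hopf

namespace Groth.Agent.S18466

section Helpers
open ConstGrp

variable (k : Type u) [Field k] (n : ℕ) [NeZero n]

/-- The character `h ↦ ψ (g * h)` as an element of the function algebra. -/
noncomputable def chi (ψ : AddChar (ZMod n) k) (g : Multiplicative (ZMod n)) :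
    F k (Multiplicative (ZMod n)) := fun h => ψ (g.toAdd * h.toAdd)

noncomputable def chiHom (ψ : AddChar (ZMod n) k) :
    Multiplicative (ZMod n) →* F k (Multiplicative (ZMod n)) where
  toFun := chi k n ψ
  map_one' := by
    ext h
    simp [chi]
  map_mul' a b := by
    ext h
    simp [chi, add_mul, AddChar.map_add_eq_mul]

noncomputable def phiAlg (ψ : AddChar (ZMod n) k) :
    MonoidAlgebra k (Multiplicative (ZMod n)) →ₐ[k] F k (Multiplicative (ZMod n)) :=
  MonoidAlgebra.lift k _ _ (chiHom k n ψ)

theorem comul_chi (ψ : AddChar (ZMod n) k) (g : Multiplicative (ZMod n)) :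
    Coalgebra.comul (R := k) (chi k n ψ g) = chi k n ψ g ⊗ₜ[k] chi k n ψ g := by
  rw [comul_eq_sum]
  conv_rhs => rw [eq_sum_smul_e (chi k n ψ g)]
  rw [TensorProduct.sum_tmul]
  refine Finset.sum_congr rfl fun a _ => ?_
  rw [TensorProduct.tmul_sum]
  refine Finset.sum_congr rfl fun b _ => ?_
  rw [TensorProduct.smul_tmul_smul]
  congr 1
  simp [chi, mul_add, AddChar.map_add_eq_mul]

theorem monoidAlgebra_algHom_ext {G B : Type*} [Monoid G] [Semiring B] [Algebra k B]
    {φ₁ φ₂ : MonoidAlgebra k G →ₐ[k] B}
    (h : ∀ g, φ₁ (MonoidAlgebra.single g 1) = φ₂ (MonoidAlgebra.single g 1)) : φ₁ = φ₂ := by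
  apply (MonoidAlgebra.lift k B G).symm.injective
  ext g
  simpa using h g

noncomputable def phi (ψ : AddChar (ZMod n) k) :
    MonoidAlgebra k (Multiplicative (ZMod n)) →ₐc[k] F k (Multiplicative (ZMod n)) :=
  BialgHom.ofAlgHom (phiAlg k n ψ)
    (by
      apply monoidAlgebra_algHom_ext
      intro g
      simp [phiAlg, chiHom, chi])
    (by
      apply monoidAlgebra_algHom_ext
      intro g
      simp [phiAlg, chiHom, comul_chi])

theorem chi_linearIndependent (ψ : AddChar (ZMod n) k) (hψ : ψ.IsPrimitive) :
    LinearIndependent k (chi k n ψ) := by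
  let m : Multiplicative (ZMod n) → (Multiplicative (ZMod n) →* k) :=
    fun g => (ψ.mulShift g.toAdd).toMonoidHom
  have hm : Function.Injective m := by
    intro g g' h
    have h1 : m g (Multiplicative.ofAdd 1) = m g' (Multiplicative.ofAdd 1) := by rw [h]
    simp only [m, AddChar.toMonoidHom_apply, AddChar.mulShift_apply, toAdd_ofAdd, mul_one] at h1
    have h2 : ψ (g.toAdd - g'.toAdd) = 1 := by
      rw [sub_eq_add_neg, AddChar.map_add_eq_mul, AddChar.map_neg_eq_inv, h1]
      exact mul_inv_cancel₀ (ψ.val_isUnit _).ne_zero
    have h3 := (hψ.zmod_char_eq_one_iff n _).mp h2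
    exact Multiplicative.toAdd.injective (sub_eq_zero.mp h3)
  exact (linearIndependent_monoidHom (Multiplicative (ZMod n)) k).comp m hm

theorem phi_bijective (ψ : AddChar (ZMod n) k) (hψ : ψ.IsPrimitive) :
    Function.Bijective (phi k n ψ) := by
  have hli := chi_linearIndependent k n ψ hψ
  have hcard : Fintype.card (Multiplicative (ZMod n)) =
      Module.finrank k (F k (Multiplicative (ZMod n))) :=
    (Module.finrank_fintype_fun_eq_card k).symm
  let b := basisOfLinearIndependentOfCardEqFinrank hli hcard
  have hb : ∀ x, phi k n ψ x = b.repr.symm x.coeff := by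
    intro x
    rw [Module.Basis.repr_symm_apply, Finsupp.linearCombination_apply]
    change MonoidAlgebra.lift k _ _ (chiHom k n ψ) x = _
    rw [MonoidAlgebra.lift_apply]
    simp [b, chiHom]
  constructor
  · intro x y hxy
    rw [hb, hb] at hxy
    exact MonoidAlgebra.coeff_injective (b.repr.symm.injective hxy)
  · intro f
    refine ⟨MonoidAlgebra.ofCoeff (b.repr f), ?_⟩
    rw [hb]
    simp

theorem exists_equiv_of_primitiveRoot (ζ : k) (hζ : IsPrimitiveRoot ζ n) :
    Nonempty (F k (Multiplicative (ZMod n)) ≃ₐc[k] MonoidAlgebra k (Multiplicative (ZMod n))) := by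
  have hψ := AddChar.zmodChar_primitive_of_primitive_root n hζ
  exact ⟨(BialgEquiv.ofBijective (phi k n _) (phi_bijective k n _ hψ)).symm⟩

theorem exists_primitiveRoot_of_equiv
    (e : F k (Multiplicative (ZMod n)) ≃ₐ[k] MonoidAlgebra k (Multiplicative (ZMod n))) :
    ∃ ζ : k, IsPrimitiveRoot ζ n := by
  classical
  let χ : Multiplicative (ZMod n) → (MonoidAlgebra k (Multiplicative (ZMod n)) →ₐ[k] k) :=
    fun g => (ev k g).comp e.symm.toAlgHom
  let t : MonoidAlgebra k (Multiplicative (ZMod n)) :=
    MonoidAlgebra.single (Multiplicative.ofAdd (1 : ZMod n)) 1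
  have ht : t ^ n = 1 := by
    simp only [t, MonoidAlgebra.single_pow, one_pow]
    rw [← ofAdd_nsmul]
    simp
    rfl
  have hζ : ∀ g, (χ g t) ^ n = 1 := fun g => by rw [← map_pow, ht, map_one]
  have hinj : Function.Injective (fun g => χ g t) := by
    intro g g' h
    have h1 : χ g = χ g' := by
      apply monoidAlgebra_algHom_ext
      intro a
      have ha : MonoidAlgebra.single a (1 : k) = t ^ (Multiplicative.toAdd a).val := by
        simp only [t, MonoidAlgebra.single_pow, one_pow]
        rw [← ofAdd_nsmul]
        simp
      rw [ha, map_pow, map_pow]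
      exact congrArg (· ^ _) h
    have h2 : ev k g = ev k g' := by
      ext f
      have := congrArg (fun φ => φ (e f)) h1
      simpa [χ] using this
    by_contra hne
    have := congrArg (fun φ => φ (ConstGrp.e k g)) h2
    simp only [ev_apply, e_apply_self] at this
    rw [e_apply_of_ne (Ne.symm hne)] at this
    exact one_ne_zero this
  rw [← card_rootsOfUnity_eq_iff_exists_isPrimitiveRoot]
  apply le_antisymm (card_rootsOfUnity k n)
  let r : Multiplicative (ZMod n) → rootsOfUnity n k :=
    fun g => rootsOfUnity.mkOfPowEq (χ g t) (hζ g)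
  have hr : Function.Injective r := by
    intro g g' h
    apply hinj
    have := congrArg (fun x : rootsOfUnity n k => ((x : kˣ) : k)) h
    simpa [r] using this
  have := Nat.card_le_card_of_injective r hr
  simpa using this

theorem main :
    Nonempty (F k (Multiplicative (ZMod n)) ≃ₐc[k] MonoidAlgebra k (Multiplicative (ZMod n))) ↔
      ∃ ζ : k, IsPrimitiveRoot ζ n :=
  ⟨fun ⟨e⟩ => exists_primitiveRoot_of_equiv k n (e : _ ≃ₐ[k] _),
    fun ⟨ζ, hζ⟩ => exists_equiv_of_primitiveRoot k n ζ hζ⟩

end Helpers


/-- Let k be a field and n ≥ 1. The constant group scheme ℤ/n over k is self-dual, that is, isomorphic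
to its Cartier dual μ_n — equivalently the Hopf algebra of k-valued functions on the cyclic group of
order n and the group algebra of that group over k (group elements group-like) are isomorphic as
bialgebras — precisely when the field k has a primitive n-th root of unity, i.e. k contains n
distinct n-th roots of unity in k. (The published statement assumes that the characteristic of k
does not divide n; both directions hold without that assumption by the same argument, since a
primitive n-th root of unity forces n to be nonzero in k, so it is omitted here.) -/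
theorem result
    (k : Type u) [Field k] (n : ℕ) [NeZero n] :
    Nonempty (ConstGrp.F k (Multiplicative (ZMod n)) ≃ₐc[k] MonoidAlgebra k (Multiplicative (ZMod n))) ↔
      ∃ ζ : k, IsPrimitiveRoot ζ n := by
  exact main k n

end Groth.Agent.S18466
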