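import Groth.Statements.S18467
import Mathlib.Tactic
-- import your own Groth.Agent.* helpers here

set_option autoImplicit false
universe u
open Hopf

namespace Groth.Agent.S18467

/-- Let p be a prime and R a commutative ring containing an element u with u(p − 1) = 1, and let χ be a
homomorphism from the group of units of ℤ/p to the group of units of R such that χ(m) − 1 is a unit
of R for every m ≠ 1. For 0 ≤ i < p − 1 put e_i = u · Σ_m χ(m)^{−i} [m] in the group algebra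
R[(ℤ/p)ˣ]. Then the e_i are idempotents, e_i e_j = 0 for i ≠ j, and Σ_i e_i = 1. (The published
statement is for algebras over the subring of the p-adic integers generated over ℤ by the values of
the Teichmüller character χ and by 1/(p(p − 1)); the hypotheses on R and χ here are the properties
of that situation which the computation uses, so the row is stated for every such pair.) -/
theorem result
    (p : ℕ) [Fact p.Prime] (R : Type u) [CommRing R] (u : R) (hu : u * ((p - 1 : ℕ) : R) = 1)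
    (χ : (ZMod p)ˣ →* Rˣ) (hχ : ∀ m : (ZMod p)ˣ, m ≠ 1 → IsUnit ((χ m : R) - 1)) :
    CompleteOrthogonalIdempotents (fun i : Fin (p - 1) =>
      u • ∑ m : (ZMod p)ˣ, ((χ m⁻¹ : Rˣ) : R) ^ (i : ℕ) • MonoidAlgebra.of R (ZMod p)ˣ m) := by
  classical
  have hp1 : Fintype.card (ZMod p)ˣ = p - 1 := ZMod.card_units p
  -- sums of nontrivial characters vanish
  have hsum : ∀ ψ : (ZMod p)ˣ →* Rˣ, (∃ m, IsUnit (((ψ m : Rˣ) : R) - 1)) →
      ∑ m : (ZMod p)ˣ, ((ψ m : Rˣ) : R) = 0 := by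
    rintro ψ ⟨g, hg⟩
    have h1 : ((ψ g : Rˣ) : R) * ∑ m : (ZMod p)ˣ, ((ψ m : Rˣ) : R) =
        ∑ m : (ZMod p)ˣ, ((ψ m : Rˣ) : R) := by
      rw [Finset.mul_sum]
      refine Fintype.sum_equiv (Equiv.mulLeft g) _ _ (fun m => ?_)
      simp [map_mul]
    have h2 : (((ψ g : Rˣ) : R) - 1) * ∑ m : (ZMod p)ˣ, ((ψ m : Rˣ) : R) = 0 := by
      rw [sub_mul, h1, one_mul, sub_self]
    exact (hg.mul_right_eq_zero).mp h2
  -- a generator
  obtain ⟨g, hg⟩ := IsCyclic.exists_generator (α := (ZMod p)ˣ)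
  have hord : orderOf g = p - 1 := by
    rw [orderOf_eq_card_of_forall_mem_zpowers hg, Nat.card_eq_fintype_card, hp1]
  -- the characters ψ_{ij}
  let ψ : ℕ → ℕ → ((ZMod p)ˣ →* Rˣ) := fun i j =>
    { toFun := fun m => (χ m⁻¹) ^ i * (χ m) ^ j
      map_one' := by simp
      map_mul' := fun a b => by
        simp only [mul_inv_rev, map_mul, mul_pow]
        rw [mul_comm ((χ b⁻¹) ^ i)]
        exact mul_mul_mul_comm _ _ _ _ }
  have hψ : ∀ i j : ℕ, i < p - 1 → j < p - 1 → i ≠ j →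
      ∑ m : (ZMod p)ˣ, (((χ m⁻¹ : Rˣ) : R) ^ i * ((χ m : Rˣ) : R) ^ j) = 0 := by
    intro i j hi hj hij
    have := hsum (ψ i j) ⟨g, ?_⟩
    · simpa [ψ] using this
    · rcases lt_or_gt_of_ne hij with h | h
      · -- ψ g = χ (g ^ (j - i))
        have e : (ψ i j g : Rˣ) = χ (g ^ (j - i)) := by
          simp only [ψ, MonoidHom.coe_mk, OneHom.coe_mk]
          have : j = i + (j - i) := by omega
          conv_lhs => rw [this, pow_add, ← mul_assoc, ← mul_pow, ← map_mul, inv_mul_cancel,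
            map_one, one_pow, one_mul]
          rw [map_pow]
        rw [e]
        apply hχ
        exact pow_ne_one_of_lt_orderOf (by omega) (by rw [hord]; omega)
      · have e : (ψ i j g : Rˣ) = χ (g⁻¹ ^ (i - j)) := by
          simp only [ψ, MonoidHom.coe_mk, OneHom.coe_mk]
          have : i = (i - j) + j := by omega
          conv_lhs => rw [this, pow_add, mul_assoc, ← mul_pow, ← map_mul, inv_mul_cancel,
            map_one, one_pow, mul_one]
          rw [map_pow]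
        rw [e]
        apply hχ
        exact pow_ne_one_of_lt_orderOf (by omega) (by rw [orderOf_inv, hord]; omega)
  -- product formula
  have hprod : ∀ i j : ℕ,
      (u • ∑ m : (ZMod p)ˣ, ((χ m⁻¹ : Rˣ) : R) ^ i • MonoidAlgebra.of R (ZMod p)ˣ m) *
      (u • ∑ m : (ZMod p)ˣ, ((χ m⁻¹ : Rˣ) : R) ^ j • MonoidAlgebra.of R (ZMod p)ˣ m) =
      (u * ∑ m : (ZMod p)ˣ, (((χ m⁻¹ : Rˣ) : R) ^ i * ((χ m : Rˣ) : R) ^ j)) •
        (u • ∑ m : (ZMod p)ˣ, ((χ m⁻¹ : Rˣ) : R) ^ j • MonoidAlgebra.of R (ZMod p)ˣ m) := by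
    intro i j
    have core : (∑ m : (ZMod p)ˣ, ((χ m⁻¹ : Rˣ) : R) ^ i • MonoidAlgebra.of R (ZMod p)ˣ m) *
        (∑ m : (ZMod p)ˣ, ((χ m⁻¹ : Rˣ) : R) ^ j • MonoidAlgebra.of R (ZMod p)ˣ m) =
        (∑ m : (ZMod p)ˣ, (((χ m⁻¹ : Rˣ) : R) ^ i * ((χ m : Rˣ) : R) ^ j)) •
          ∑ m : (ZMod p)ˣ, ((χ m⁻¹ : Rˣ) : R) ^ j • MonoidAlgebra.of R (ZMod p)ˣ m := by
      rw [Finset.sum_mul_sum, Finset.sum_smul]
      refine Finset.sum_congr rfl (fun m _ => ?_)
      rw [Finset.smul_sum]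
      conv_rhs => rw [← Equiv.sum_comp (Equiv.mulLeft m)]
      refine Finset.sum_congr rfl (fun m' _ => ?_)
      simp only [Equiv.coe_mulLeft]
      rw [smul_mul_smul_comm, ← map_mul, smul_smul]
      congr 1
      have h1 : ((χ m : Rˣ) : R) ^ j * ((χ m⁻¹ : Rˣ) : R) ^ j = 1 := by
        rw [← mul_pow, ← Units.val_mul, ← map_mul, mul_inv_cancel, map_one, Units.val_one, one_pow]
      rw [mul_inv_rev, map_mul, Units.val_mul, mul_pow]
      linear_combination (-(((χ m⁻¹ : Rˣ) : R) ^ i * ((χ m'⁻¹ : Rˣ) : R) ^ j)) * h1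
    rw [smul_mul_smul_comm, core, smul_smul, smul_smul]
    congr 1
    ring
  refine ⟨⟨?_, ?_⟩, ?_⟩
  · intro i
    change _ * _ = _
    rw [hprod]
    have : ∑ m : (ZMod p)ˣ, (((χ m⁻¹ : Rˣ) : R) ^ (i : ℕ) * ((χ m : Rˣ) : R) ^ (i : ℕ)) =
        ((p - 1 : ℕ) : R) := by
      have h1 : ∀ m : (ZMod p)ˣ, ((χ m⁻¹ : Rˣ) : R) ^ (i : ℕ) * ((χ m : Rˣ) : R) ^ (i : ℕ) = 1 := by
        intro m
        rw [← mul_pow, ← Units.val_mul, ← map_mul, inv_mul_cancel, map_one, Units.val_one, one_pow]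
      rw [Finset.sum_congr rfl (fun m _ => h1 m), Finset.sum_const, Finset.card_univ, hp1,
        nsmul_eq_mul, mul_one]
    rw [this, hu, one_smul]
  · intro i j hij
    change _ * _ = _
    rw [hprod, hψ i j i.2 j.2 (fun h => hij (Fin.ext h)), mul_zero, zero_smul]
  · rw [← Finset.smul_sum, Finset.sum_comm]
    have h1 : ∀ m : (ZMod p)ˣ, ∑ i : Fin (p - 1),
        ((χ m⁻¹ : Rˣ) : R) ^ (i : ℕ) • MonoidAlgebra.of R (ZMod p)ˣ m =
        (if m = 1 then ((p - 1 : ℕ) : R) else 0) • MonoidAlgebra.of R (ZMod p)ˣ m := by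
      intro m
      rw [← Finset.sum_smul]
      congr 1
      split_ifs with hm
      · subst hm; simp
      · rw [Fin.sum_univ_eq_sum_range (fun i => ((χ m⁻¹ : Rˣ) : R) ^ i) (p - 1)]
        have hm' : m⁻¹ ≠ 1 := by simpa using hm
        have h2 := geom_sum_mul (((χ m⁻¹ : Rˣ) : R)) (p - 1)
        have h3 : ((χ m⁻¹ : Rˣ) : R) ^ (p - 1) = 1 := by
          rw [← Units.val_pow_eq_pow_val, ← map_pow, ← hp1, pow_card_eq_one, map_one, Units.val_one]
        rw [h3, sub_self] at h2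
        exact ((hχ _ hm').mul_left_eq_zero).mp h2
    rw [Finset.sum_congr rfl (fun m _ => h1 m), Finset.sum_eq_single 1]
    · simp only [if_true, map_one]
      rw [smul_smul, hu, one_smul]
    · intro m _ hm; simp [hm]
    · intro h; exact absurd (Finset.mem_univ _) h

end Groth.Agent.S18467
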