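import Groth.Statements.S18468
import Groth.Agent.H92.OTEigen
-- import your own Groth.Agent.* helpers here

set_option autoImplicit false
universe u
open OortTate

namespace Groth.Agent.S18468

section Helpers
open OortTate
open Groth.Agent.H92.OTChar Groth.Agent.H92.OTEigen

theorem dvd_sub_iff_fin {p : ℕ} (i j : Fin (p - 1)) :
    ((p - 1 : ℕ) : ℤ) ∣ ((j : ℕ) : ℤ) - (i : ℕ) ↔ i = j := by
  constructor
  · intro h
    have hi := i.2
    have hj := j.2
    obtain ⟨c, hc⟩ := h
    have : c = 0 := by
      by_contra hc0
      have h1 : (1 : ℤ) ≤ |c| := Int.one_le_abs hc0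
      have h2 : |((j : ℕ) : ℤ) - (i : ℕ)| = ((p - 1 : ℕ) : ℤ) * |c| := by
        rw [hc, abs_mul, abs_of_nonneg (Int.natCast_nonneg _)]
      have h3 : |((j : ℕ) : ℤ) - (i : ℕ)| < ((p - 1 : ℕ) : ℤ) := by
        rw [abs_lt]; constructor <;> omega
      nlinarith
    rw [this, mul_zero] at hc
    ext; omega
  · rintro rfl; simp

theorem main (p : ℕ) [Fact p.Prime] (R : Type u) [CommRing R] (u : R) (hu : u * ((p - 1 : ℕ) : R) = 1)
    (χ : (ZMod p)ˣ →* Rˣ) (hχ : ∀ m : (ZMod p)ˣ, m ≠ 1 → IsUnit ((χ m : R) - 1))
    (A : Type u) [CommRing A] [HopfAlgebra R A]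
    (hp : (WithConv.toConv (AlgHom.id R A)) ^ p = 1) :
    iSupIndep (fun i : Fin (p - 1) => OortTate.eigenAug R A p χ (i : ℕ)) ∧
      (⨆ i : Fin (p - 1), OortTate.eigenAug R A p χ (i : ℕ)) =
        LinearMap.ker (Bialgebra.counitAlgHom R A).toLinearMap ∧
      ∀ i : Fin (p - 1), OortTate.eigenAug R A p χ (i : ℕ) =
        Submodule.map (OortTate.proj R A p u χ (i : ℕ))
          (LinearMap.ker (Bialgebra.counitAlgHom R A).toLinearMap) := by
  -- P_i f = δ_ij f on eigenAug j
  have hself : ∀ (i : Fin (p - 1)) (f : A), f ∈ OortTate.eigenAug R A p χ (i : ℕ) →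
      OortTate.proj R A p u χ (i : ℕ) f = f := by
    intro i f hf
    rw [proj_of_mem u χ _ _ f hf, sub_self, S_of_dvd (dvd_zero _), hu, one_smul]
  have hother : ∀ (i j : Fin (p - 1)) (f : A), j ≠ i → f ∈ OortTate.eigenAug R A p χ (j : ℕ) →
      OortTate.proj R A p u χ (i : ℕ) f = 0 := by
    intro i j f hji hf
    rw [proj_of_mem u χ _ _ f hf, S_eq_zero hχ, mul_zero, zero_smul]
    rw [dvd_sub_iff_fin]
    exact fun h => hji h.symm
  have hle : ∀ i : ℕ, OortTate.eigenAug R A p χ i ≤ LinearMap.ker (Bialgebra.counitAlgHom R A).toLinearMap :=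
    fun i => inf_le_left
  refine ⟨?_, ?_, ?_⟩
  · rw [iSupIndep_def]
    intro i
    rw [Submodule.disjoint_def]
    intro x hx1 hx2
    have hker : (⨆ j, ⨆ (_ : j ≠ i), OortTate.eigenAug R A p χ (j : ℕ)) ≤
        LinearMap.ker (OortTate.proj R A p u χ (i : ℕ)) := by
      refine iSup₂_le fun j hj f hf => ?_
      exact hother i j f hj hf
    have := hker hx2
    rw [LinearMap.mem_ker, hself i x hx1] at this
    exact this
  · apply le_antisymm
    · exact iSup_le fun i => hle _
    · intro x hx
      have hx0 : Bialgebra.counitAlgHom R A x = 0 := hx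
      have hsum := LinearMap.congr_fun (sum_proj (A := A) u hu χ hχ) x
      rw [LinearMap.sum_apply, LinearMap.id_apply] at hsum
      rw [← hsum]
      refine Submodule.sum_mem _ fun i hi => ?_
      have hi' := Finset.mem_range.mp hi
      exact (le_iSup (fun i : Fin (p - 1) => OortTate.eigenAug R A p χ (i : ℕ)) ⟨i, hi'⟩)
        (proj_mem hp u χ i x hx0)
  · intro i
    apply le_antisymm
    · intro x hx
      exact ⟨x, hle _ hx, hself i x hx⟩
    · rintro _ ⟨x, hx, rfl⟩
      exact proj_mem hp u χ i x hx

end Helpers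


/-- Let p be a prime, R a commutative ring containing u with u(p − 1) = 1, and χ a homomorphism from the
units of ℤ/p to the units of R such that χ(m) − 1 is a unit for every m ≠ 1 (the situation of an
algebra over the subring Λ_p of the p-adic integers generated by the Teichmüller values and 1/(p(p −
1)), with χ the Teichmüller character, which is the published setting). Let A be a commutative Hopf
algebra over R such that the p-th convolution power of the identity of A is the neutral element ε
followed by the unit (the affine group G = Spec A is killed by p), so that for a unit m of ℤ/p the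
power map [m] of A depends only on m. For 0 ≤ i < p − 1 let I_i ⊆ A be the submodule of those f with
ε(f) = 0 and [m]f = χ(m)^i f for every m. Then the augmentation ideal ker ε is the internal direct
sum of the I_i (the family is independent and its supremum is ker ε), and each I_i is the image of
ker ε under the averaging operator u Σ_m χ(m)^{−i}[m]. (The published statement is for the Hopf
algebra of a group scheme of order p over a Λ_p-algebra, which is commutative and killed by p; the
hypotheses here are what the argument uses.) -/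
theorem result
    (p : ℕ) [Fact p.Prime] (R : Type u) [CommRing R] (u : R) (hu : u * ((p - 1 : ℕ) : R) = 1)
    (χ : (ZMod p)ˣ →* Rˣ) (hχ : ∀ m : (ZMod p)ˣ, m ≠ 1 → IsUnit ((χ m : R) - 1))
    (A : Type u) [CommRing A] [HopfAlgebra R A]
    (hp : (WithConv.toConv (AlgHom.id R A)) ^ p = 1) :
    iSupIndep (fun i : Fin (p - 1) => OortTate.eigenAug R A p χ (i : ℕ)) ∧
      (⨆ i : Fin (p - 1), OortTate.eigenAug R A p χ (i : ℕ)) =
        LinearMap.ker (Bialgebra.counitAlgHom R A).toLinearMap ∧
      ∀ i : Fin (p - 1), OortTate.eigenAug R A p χ (i : ℕ) =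
        Submodule.map (OortTate.proj R A p u χ (i : ℕ))
          (LinearMap.ker (Bialgebra.counitAlgHom R A).toLinearMap) := by
  exact main p R u hu χ hχ A hp

end Groth.Agent.S18468
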