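import Groth.Statements.S18470
-- import your own Groth.Agent.* helpers here

set_option autoImplicit false
universe u v
open OortTate

namespace Groth.Agent.S18470

/-- Let R be a commutative ring and A a commutative Hopf algebra over R which is finitely generated and
projective as an R-module (a finite locally free group scheme G = Spec A, not assumed commutative),
and let A^D = Hom_R(A, R) be the dual algebra with its Hopf structure (the Cartier dual when A is
cocommutative), whose counit is evaluation at 1. Then restriction of linear forms to the
augmentation ideal I = ker ε_A of A is a bijection from the augmentation ideal of A^D onto the dual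
module Hom_R(I, R): the dual of the augmentation ideal of G is the augmentation ideal of the dual.
The published statement is for a group scheme of order p over a Λ_p-algebra; the argument uses only
the splitting A = R·1 ⊕ ker ε. -/
theorem result
    (R : Type u) [CommRing R] (A : Type v) [CommRing A] [HopfAlgebra R A]
    [Module.Finite R A] [Module.Projective R A] :
    Function.Bijective (fun f : LinearMap.ker (Bialgebra.counitAlgHom R (CartDual.D R A)).toLinearMap =>
      ((CartDual.toDual R A) (f : CartDual.D R A)).comp
        (LinearMap.ker (Bialgebra.counitAlgHom R A).toLinearMap).subtype) := by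
  constructor
  · rintro ⟨f, hf⟩ ⟨g, hg⟩ hfg
    apply Subtype.ext
    change f = g
    simp only [LinearMap.mem_ker, AlgHom.toLinearMap_apply, Bialgebra.counitAlgHom_apply,
      CartDual.coalgebra_counit_apply] at hf hg
    apply WithConv.ext
    apply LinearMap.ext
    intro a
    have ha : a - algebraMap R A (Coalgebra.counit (R := R) a) ∈
        LinearMap.ker (Bialgebra.counitAlgHom R A).toLinearMap := by
      simp [LinearMap.mem_ker]
    have h1 := LinearMap.congr_fun hfg ⟨_, ha⟩
    simp only [LinearMap.comp_apply, Submodule.subtype_apply, CartDual.toDual_apply, map_sub] at h1
    rw [Algebra.algebraMap_eq_smul_one, map_smul, map_smul] at h1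
    change f 1 = 0 at hf
    change g 1 = 0 at hg
    rw [CartDual.coe_apply] at hf hg
    rw [hf, hg, smul_zero, sub_zero, sub_zero] at h1
    exact h1
  · intro φ
    have hmem : ∀ a : A, a - algebraMap R A (Coalgebra.counit (R := R) a) ∈
        LinearMap.ker (Bialgebra.counitAlgHom R A).toLinearMap := by
      intro a
      simp [LinearMap.mem_ker]
    let proj : A →ₗ[R] LinearMap.ker (Bialgebra.counitAlgHom R A).toLinearMap :=
      LinearMap.codRestrict _ (LinearMap.id - (Algebra.linearMap R A).comp (Coalgebra.counit (R := R) (A := A)))
        (fun a => by simpa using hmem a)
    have hproj : ∀ a : A, ((proj a : LinearMap.ker (Bialgebra.counitAlgHom R A).toLinearMap) : A) =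
        a - algebraMap R A (Coalgebra.counit (R := R) a) := fun a => rfl
    refine ⟨⟨WithConv.toConv (φ.comp proj), ?_⟩, ?_⟩
    · simp only [LinearMap.mem_ker, AlgHom.toLinearMap_apply, Bialgebra.counitAlgHom_apply,
        CartDual.coalgebra_counit_apply]
      change φ (proj 1) = 0
      have : proj 1 = 0 := by
        apply Subtype.ext
        rw [hproj]
        simp
      rw [this, map_zero]
    · apply LinearMap.ext
      rintro ⟨a, ha⟩
      simp only [LinearMap.comp_apply, Submodule.subtype_apply, CartDual.toDual_apply,
        WithConv.ofConv_toConv]
      congr 1
      apply Subtype.ext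
      simp only [LinearMap.mem_ker, AlgHom.toLinearMap_apply, Bialgebra.counitAlgHom_apply] at ha
      rw [hproj, ha, map_zero, sub_zero]

end Groth.Agent.S18470
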