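import Groth.Statements.S18473
import Groth.Agent.H92.OTChar
-- import your own Groth.Agent.* helpers here

set_option autoImplicit false
universe u
open OortTate

namespace Groth.Agent.S18473

section Helpers
open OortTate
open Groth.Agent.H92.OTChar

variable {p : ℕ} [Fact p.Prime] {R : Type u} [CommRing R]

abbrev GA (R : Type u) [CommRing R] (p : ℕ) := MonoidAlgebra R (Multiplicative (ZMod p))

/-- `T^a`. -/
noncomputable abbrev T (R : Type u) [CommRing R] {p : ℕ} (a : ZMod p) : GA R p :=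
  MonoidAlgebra.single (Multiplicative.ofAdd a) (1 : R)

theorem convPow_single_one {M : Type*} [CommGroup M] (n : ℕ) (g : M) :
    ((WithConv.toConv (AlgHom.id R (MonoidAlgebra R M))) ^ n).ofConv (MonoidAlgebra.single g (1 : R)) =
      MonoidAlgebra.single (g ^ n) (1 : R) := by
  induction n with
  | zero =>
    rw [pow_zero, pow_zero]
    change (1 : WithConv (MonoidAlgebra R M →ₐ[R] MonoidAlgebra R M)) _ = _
    rw [AlgHom.convOne_apply]
    simp [MonoidAlgebra.one_def, Algebra.algebraMap_eq_smul_one]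
  | succ n ih =>
    rw [pow_succ]
    change ((WithConv.toConv (AlgHom.id R (MonoidAlgebra R M))) ^ n *
      (WithConv.toConv (AlgHom.id R (MonoidAlgebra R M)))) (MonoidAlgebra.single g (1 : R)) = _
    rw [MonoidAlgebra.convMul_algHom_single_one]
    change ((WithConv.toConv (AlgHom.id R (MonoidAlgebra R M))) ^ n).ofConv (MonoidAlgebra.single g (1 : R)) *
      (MonoidAlgebra.single g (1 : R)) = _
    rw [ih, MonoidAlgebra.single_mul_single, mul_one, pow_succ]

theorem powConv_T (n : ℕ) (a : ZMod p) :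
    SGA3b.powConv R (GA R p) n (T R a) = T R ((n : ZMod p) * a) := by
  unfold SGA3b.powConv
  erw [convPow_single_one]
  congr 1
  rw [← ofAdd_nsmul, nsmul_eq_mul]

/-- coefficient functional -/
noncomputable def ev (a : ZMod p) : GA R p →ₗ[R] R :=
  Finsupp.lapply (Multiplicative.ofAdd a) ∘ₗ (MonoidAlgebra.coeffLinearEquiv R).toLinearMap

theorem ev_apply (a : ZMod p) (x : GA R p) : ev a x = x.coeff (Multiplicative.ofAdd a) := rfl

theorem ev_T (a b : ZMod p) : ev a (T R b) = if b = a then 1 else 0 := by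
  rw [ev_apply, MonoidAlgebra.coeff_single, Finsupp.single_apply]
  simp only [Multiplicative.ofAdd.injective.eq_iff] 

theorem one_eq_T : (1 : GA R p) = T R 0 := rfl

theorem T_mul_T (a b : ZMod p) : T R a * T R b = T R (a + b) := by
  rw [MonoidAlgebra.single_mul_single, mul_one, ← ofAdd_add]

theorem ext_ev {x y : GA R p} (h : ∀ a, ev a x = ev a y) : x = y := by
  apply MonoidAlgebra.coeff_injective
  ext g
  exact h (Multiplicative.toAdd g)

theorem expand (x : GA R p) : x = ∑ a : ZMod p, ev a x • T R a := by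
  apply ext_ev
  intro b
  rw [map_sum]
  simp only [map_smul, ev_T, smul_eq_mul, mul_ite, mul_one, mul_zero]
  rw [Finset.sum_ite_eq' Finset.univ b]
  simp

theorem counit_T (a : ZMod p) : Bialgebra.counitAlgHom R (GA R p) (T R a) = 1 := by
  simp [T]

theorem counit_eq (x : GA R p) : Bialgebra.counitAlgHom R (GA R p) x = ∑ a : ZMod p, ev a x := by
  conv_lhs => rw [expand x]
  rw [map_sum]
  simp only [map_smul, counit_T, smul_eq_mul, mul_one]

theorem sum_zmod {M : Type*} [AddCommMonoid M] (g : ZMod p → M) :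
    ∑ x : ZMod p, g x = g 0 + ∑ m : (ZMod p)ˣ, g (m : ZMod p) := by
  classical
  let φ : (ZMod p)ˣ ↪ ZMod p := ⟨fun x ↦ x, Units.val_injective⟩
  have : Finset.univ.map φ = Finset.univ \ {0} := by
    ext x
    simpa only [Finset.mem_map, Finset.mem_univ, Function.Embedding.coeFn_mk, true_and, Finset.mem_sdiff,
      Finset.mem_singleton, φ] using! isUnit_iff_ne_zero
  rw [← Finset.sum_sdiff ({0} : Finset (ZMod p)).subset_univ, Finset.sum_singleton, add_comm, ← this,
    Finset.sum_map]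
  rfl

theorem eq_of_counit_of_ev {x y : GA R p}
    (h0 : Bialgebra.counitAlgHom R (GA R p) x = Bialgebra.counitAlgHom R (GA R p) y)
    (h : ∀ n : (ZMod p)ˣ, ev (n : ZMod p) x = ev (n : ZMod p) y) : x = y := by
  apply ext_ev
  intro a
  by_cases ha : a = 0
  · subst ha
    rw [counit_eq, counit_eq, sum_zmod, sum_zmod] at h0
    simp only [h] at h0
    exact add_right_cancel h0
  · exact h (Units.mk0 a ha)

/-- `e_m = T^m - 1`. -/
noncomputable def e (R : Type u) [CommRing R] {p : ℕ} [Fact p.Prime] (m : (ZMod p)ˣ) : GA R p :=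
  T R (m : ZMod p) - 1

theorem ev_e (n m : (ZMod p)ˣ) : ev (n : ZMod p) (e R m) = if m = n then 1 else 0 := by
  unfold e
  rw [map_sub, ev_T, one_eq_T, ev_T]
  have : ¬ (0 : ZMod p) = n := fun h => n.ne_zero h.symm
  simp only [this, if_false, sub_zero, Units.val_inj] 

theorem counit_e (m : (ZMod p)ˣ) : Bialgebra.counitAlgHom R (GA R p) (e R m) = 0 := by
  unfold e
  rw [map_sub, counit_T, map_one, sub_self]

noncomputable def Y (u : R) (χ : (ZMod p)ˣ →* Rˣ) (i : ℕ) : GA R p :=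
  u • ∑ m : (ZMod p)ˣ, (((χ m⁻¹ : Rˣ) : R) ^ i) • e R m

theorem powConv_e (m n : (ZMod p)ˣ) :
    SGA3b.powConv R (GA R p) (m : ZMod p).val (e R n) = e R (m * n) := by
  unfold e
  rw [map_sub, map_one, powConv_T, ZMod.natCast_zmod_val, Units.val_mul]

theorem ygen_eq (u : R) (χ : (ZMod p)ˣ →* Rˣ) (i : ℕ) : OortTate.ygen R p u χ i = Y u χ i := by
  unfold OortTate.ygen OortTate.proj Y
  rw [LinearMap.smul_apply, LinearMap.sum_apply]
  congr 1
  refine Finset.sum_congr rfl fun m _ => ?_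
  rw [LinearMap.smul_apply]
  congr 1
  have : OortTate.muT R p - 1 = e R (1 : (ZMod p)ˣ) := by
    unfold e OortTate.muT
    rw [MonoidAlgebra.of_apply, Units.val_one]
  rw [this]
  have := powConv_e (R := R) m 1
  rw [mul_one] at this
  exact this

theorem ev_Y (u : R) (χ : (ZMod p)ˣ →* Rˣ) (i : ℕ) (n : (ZMod p)ˣ) :
    ev (n : ZMod p) (Y u χ i) = u * ((χ n⁻¹ : Rˣ) : R) ^ i := by
  unfold Y
  rw [map_smul, map_sum]
  simp only [map_smul, ev_e, smul_eq_mul, mul_ite, mul_one, mul_zero]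
  rw [Finset.sum_ite_eq' Finset.univ n]
  simp

theorem counit_Y (u : R) (χ : (ZMod p)ˣ →* Rˣ) (i : ℕ) :
    Bialgebra.counitAlgHom R (GA R p) (Y u χ i) = 0 := by
  unfold Y
  rw [map_smul, map_sum]
  simp only [map_smul, counit_e, smul_zero, Finset.sum_const_zero]


section main
variable (u : R) (hu : u * ((p - 1 : ℕ) : R) = 1) (χ : (ZMod p)ˣ →* Rˣ)
  (hχ : ∀ m : (ZMod p)ˣ, m ≠ 1 → IsUnit ((χ m : R) - 1))

theorem chi_mul_pow (m : (ZMod p)ˣ) (j i : ℕ) :
    ((χ m : Rˣ) : R) ^ j * ((χ m⁻¹ : Rˣ) : R) ^ i = ((χ m ^ ((j : ℤ) - i) : Rˣ) : R) := by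
  rw [zpow_sub, zpow_natCast, zpow_natCast, map_inv, Units.val_mul, ← inv_pow,
    Units.val_pow_eq_pow_val, Units.val_pow_eq_pow_val]

theorem dvd_sub_iff_fin (i j : Fin (p - 1)) : ((p - 1 : ℕ) : ℤ) ∣ ((j : ℕ) : ℤ) - (i : ℕ) ↔ i = j := by
  constructor
  · intro h
    have hi := i.2
    have hj := j.2
    obtain ⟨c, hc⟩ := h
    have : c = 0 := by
      by_contra hc0
      have h1 : (1 : ℤ) ≤ |c| := Int.one_le_abs hc0
      have h2 : |((j : ℕ) : ℤ) - (i : ℕ)| = ((p - 1 : ℕ) : ℤ) * |c| := by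
        rw [hc, abs_mul, abs_of_nonneg (Int.natCast_nonneg _)]
      have h3 : |((j : ℕ) : ℤ) - (i : ℕ)| < ((p - 1 : ℕ) : ℤ) := by
        rw [abs_lt]; constructor <;> omega
      nlinarith
    rw [this, mul_zero] at hc
    ext; omega
  · rintro rfl; simp

include hu hχ in
theorem linIndep : LinearIndependent R (fun i : Fin (p - 1) => Y u χ (i : ℕ)) := by
  rw [Fintype.linearIndependent_iff]
  intro c hc j
  have h1 : ∀ n : (ZMod p)ˣ, ∑ i : Fin (p - 1), c i * (u * ((χ n⁻¹ : Rˣ) : R) ^ (i : ℕ)) = 0 := by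
    intro n
    have := congrArg (ev (n : ZMod p)) hc
    rw [map_sum, map_zero] at this
    simpa only [map_smul, ev_Y, smul_eq_mul] using this
  have h2 : ∑ n : (ZMod p)ˣ, ((χ n : Rˣ) : R) ^ (j : ℕ) *
      ∑ i : Fin (p - 1), c i * (u * ((χ n⁻¹ : Rˣ) : R) ^ (i : ℕ)) = 0 := by
    simp only [h1, mul_zero, Finset.sum_const_zero]
  have h3 : ∑ n : (ZMod p)ˣ, ((χ n : Rˣ) : R) ^ (j : ℕ) *
      ∑ i : Fin (p - 1), c i * (u * ((χ n⁻¹ : Rˣ) : R) ^ (i : ℕ)) =
      ∑ i : Fin (p - 1), c i * u * S χ (((j : ℕ) : ℤ) - (i : ℕ)) := by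
    simp only [Finset.mul_sum]
    rw [Finset.sum_comm]
    refine Finset.sum_congr rfl fun i _ => ?_
    unfold S
    rw [Finset.mul_sum]
    refine Finset.sum_congr rfl fun n _ => ?_
    rw [← chi_mul_pow]
    ring
  rw [h3, Finset.sum_eq_single j] at h2
  · rw [sub_self, S_of_dvd (dvd_zero _), mul_assoc, hu, mul_one] at h2
    exact h2
  · intro i _ hij
    rw [S_eq_zero hχ, mul_zero]
    rw [dvd_sub_iff_fin]
    exact hij
  · intro h; exact absurd (Finset.mem_univ j) h

include hu hχ in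
theorem e_eq_sum (m : (ZMod p)ˣ) :
    e R m = ∑ i ∈ Finset.range (p - 1), (((χ m : Rˣ) : R) ^ i) • Y u χ i := by
  apply eq_of_counit_of_ev
  · rw [counit_e, map_sum]
    simp only [map_smul, counit_Y, smul_zero, Finset.sum_const_zero]
  · intro n
    rw [ev_e, map_sum]
    simp only [map_smul, ev_Y, smul_eq_mul]
    have : ∀ i : ℕ, ((χ m : Rˣ) : R) ^ i * (u * ((χ n⁻¹ : Rˣ) : R) ^ i) =
        u * ((χ (m * n⁻¹) : Rˣ) : R) ^ i := by
      intro i
      rw [map_mul, Units.val_mul, mul_pow]; ring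
    simp only [this]
    rw [← Finset.mul_sum]
    split_ifs with hmn
    · subst hmn
      rw [mul_inv_cancel, geom_one, hu]
    · rw [geom_eq_zero hχ, mul_zero]
      intro h
      exact hmn (mul_inv_eq_one.mp h)

include hu hχ in
theorem span_eq : Submodule.span R (Set.range (fun i : Fin (p - 1) => Y u χ (i : ℕ))) =
    LinearMap.ker (Bialgebra.counitAlgHom R (GA R p)).toLinearMap := by
  apply le_antisymm
  · rw [Submodule.span_le]
    rintro _ ⟨i, rfl⟩
    exact counit_Y u χ i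
  · intro x hx
    have hx0 : Bialgebra.counitAlgHom R (GA R p) x = 0 := hx
    have hxe : x = ∑ m : (ZMod p)ˣ, ev (m : ZMod p) x • e R m := by
      apply eq_of_counit_of_ev
      · rw [hx0, map_sum]
        simp only [map_smul, counit_e, smul_zero, Finset.sum_const_zero]
      · intro n
        rw [map_sum]
        simp only [map_smul, ev_e, smul_eq_mul, mul_ite, mul_one, mul_zero]
        rw [Finset.sum_ite_eq' Finset.univ n]
        simp
    rw [hxe]
    refine Submodule.sum_mem _ fun m _ => Submodule.smul_mem _ _ ?_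
    rw [e_eq_sum u hu χ hχ m]
    refine Submodule.sum_mem _ fun i hi => Submodule.smul_mem _ _ ?_
    exact Submodule.subset_span ⟨⟨i, Finset.mem_range.mp hi⟩, rfl⟩


theorem powConv_Y (m : (ZMod p)ˣ) (i : ℕ) :
    SGA3b.powConv R (GA R p) (m : ZMod p).val (Y u χ i) = (((χ m : Rˣ) : R) ^ i) • Y u χ i := by
  unfold Y
  rw [map_smul, map_sum, smul_comm _ u]
  congr 1
  simp only [map_smul, powConv_e]
  rw [Finset.smul_sum, ← Equiv.sum_comp (Equiv.mulLeft m)
    (fun n => ((χ m : Rˣ) : R) ^ i • ((χ n⁻¹ : Rˣ) : R) ^ i • e R n)]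
  refine Finset.sum_congr rfl fun n _ => ?_
  have h : m * (m * n)⁻¹ = n⁻¹ := by rw [mul_inv_rev, mul_comm n⁻¹, mul_inv_cancel_left]
  simp only [Equiv.coe_mulLeft]
  rw [smul_smul, ← mul_pow, ← Units.val_mul, ← map_mul, h]

theorem ev_powConv (m : (ZMod p)ˣ) (a : ZMod p) (x : GA R p) :
    ev ((m : ZMod p) * a) (SGA3b.powConv R (GA R p) (m : ZMod p).val x) = ev a x := by
  conv_lhs => rw [expand x]
  rw [map_sum, map_sum]
  simp only [map_smul, powConv_T, ZMod.natCast_zmod_val, ev_T, smul_eq_mul, mul_ite, mul_one, mul_zero]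
  have : ∀ b : ZMod p, ((m : ZMod p) * b = (m : ZMod p) * a) ↔ b = a := fun b =>
    ⟨fun h => mul_left_cancel₀ m.ne_zero h, fun h => by rw [h]⟩
  simp only [this]
  rw [Finset.sum_ite_eq' Finset.univ a]
  simp

include hu in
theorem eigen (k : ℕ) (z : GA R p) (hz0 : Bialgebra.counitAlgHom R (GA R p) z = 0)
    (hz : ∀ m : (ZMod p)ˣ, SGA3b.powConv R (GA R p) (m : ZMod p).val z = (((χ m : Rˣ) : R) ^ k) • z) :
    z = (((p - 1 : ℕ) : R) * ev (1 : ZMod p) z) • Y u χ k := by
  apply eq_of_counit_of_ev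
  · rw [hz0, map_smul, counit_Y, smul_zero]
  · intro n
    rw [map_smul, ev_Y, smul_eq_mul]
    have h1 := ev_powConv n 1 z
    rw [hz n, mul_one, map_smul, smul_eq_mul] at h1
    have h2 : ((χ n⁻¹ : Rˣ) : R) ^ k * ((χ n : Rˣ) : R) ^ k = 1 := by
      rw [← mul_pow, ← Units.val_mul, ← map_mul, inv_mul_cancel, map_one, Units.val_one, one_pow]
    calc ev (n : ZMod p) z = (((χ n⁻¹ : Rˣ) : R) ^ k * ((χ n : Rˣ) : R) ^ k) * ev (n : ZMod p) z := by
          rw [h2, one_mul]
      _ = ((χ n⁻¹ : Rˣ) : R) ^ k * ev (1 : ZMod p) z := by rw [mul_assoc, h1]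
      _ = (u * ((p - 1 : ℕ) : R)) * (((χ n⁻¹ : Rˣ) : R) ^ k * ev (1 : ZMod p) z) := by rw [hu, one_mul]
      _ = _ := by ring

theorem chi_pow_p (m : (ZMod p)ˣ) : ((χ m : Rˣ) : R) ^ p = ((χ m : Rˣ) : R) ^ 1 := by
  have h := pow_succ ((χ m : Rˣ) : R) (p - 1)
  have hp : p - 1 + 1 = p := by have := (Fact.out : p.Prime).one_lt; omega
  rw [hp] at h
  rw [h, chi_val_pow_card, one_mul, pow_one]

include hu in
theorem exists_unique_w : ∃! w : R, Y u χ 1 ^ p = w • Y u χ 1 := by
  have hp0 : p ≠ 0 := (Fact.out : p.Prime).ne_zero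
  have h := eigen u hu χ 1 (Y u χ 1 ^ p) (by rw [map_pow, counit_Y, zero_pow hp0]) (by
    intro m
    rw [map_pow, powConv_Y, smul_pow, ← pow_mul, one_mul, chi_pow_p])
  refine ⟨_, h, ?_⟩
  intro w hw
  have hu' : IsUnit u := IsUnit.of_mul_eq_one _ hu
  have h1 := congrArg (ev (1 : ZMod p)) (h.symm.trans hw)
  have hY : ev (1 : ZMod p) (Y u χ 1) = u := by
    have := ev_Y u χ 1 (1 : (ZMod p)ˣ)
    simpa using this
  rw [map_smul, map_smul, hY, smul_eq_mul, smul_eq_mul] at h1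
  exact (hu'.mul_left_inj.mp h1).symm


theorem Y_periodic (i : ℕ) : Y u χ (i + (p - 1)) = Y u χ i := by
  unfold Y
  congr 1
  refine Finset.sum_congr rfl fun m _ => ?_
  rw [pow_add, chi_val_pow_card, mul_one]

/-- the Jacobi-type sum -/
noncomputable def J (χ : (ZMod p)ˣ →* Rˣ) (t : ℕ) : R :=
  ∑ m : (ZMod p)ˣ, ∑ n : (ZMod p)ˣ,
    if (m : ZMod p) + (n : ZMod p) = 1 then ((χ m⁻¹ : Rˣ) : R) ^ t * ((χ n⁻¹ : Rˣ) : R) else 0

theorem ev_one_e_mul_e (m n : (ZMod p)ˣ) :
    ev (1 : ZMod p) (e R m * e R n) =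
      (if (m : ZMod p) + (n : ZMod p) = 1 then 1 else 0) - (if m = 1 then 1 else 0)
        - (if n = 1 then 1 else 0) := by
  unfold e
  rw [sub_mul, mul_sub, mul_sub, mul_one, one_mul, one_mul, T_mul_T]
  simp only [map_sub, ev_T, one_eq_T]
  have h01 : ¬ (0 : ZMod p) = 1 := zero_ne_one
  have hm : ((m : ZMod p) = 1) ↔ m = 1 := by rw [← Units.val_one, Units.val_inj]
  have hn : ((n : ZMod p) = 1) ↔ n = 1 := by rw [← Units.val_one, Units.val_inj]
  simp only [h01, if_false, hm, hn]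
  ring

theorem sum_inv_pow (t : ℕ) : ∑ m : (ZMod p)ˣ, ((χ m⁻¹ : Rˣ) : R) ^ t = S χ (-(t : ℤ)) := by
  unfold S
  refine Finset.sum_congr rfl fun m _ => ?_
  rw [zpow_neg, zpow_natCast, map_inv, ← inv_pow, Units.val_pow_eq_pow_val]

theorem ev_one_Y_mul_Y (t : ℕ) :
    ev (1 : ZMod p) (Y u χ t * Y u χ 1) = u * u * (J χ t - S χ (-1) - S χ (-(t : ℤ))) := by
  unfold Y
  rw [smul_mul_smul_comm, map_smul, smul_eq_mul, Finset.sum_mul_sum]
  congr 1
  rw [map_sum]
  simp only [map_sum, smul_mul_smul_comm, map_smul, ev_one_e_mul_e, smul_eq_mul, mul_sub, 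
    Finset.sum_sub_distrib, mul_ite, mul_one, mul_zero, pow_one]
  congr 1
  · congr 1
    -- Σ_m Σ_n if m = 1 then a_m b_n else 0 = S(-1)
    rw [Finset.sum_comm]
    have : ∀ n : (ZMod p)ˣ, ∑ m : (ZMod p)ˣ,
        (if m = 1 then ((χ m⁻¹ : Rˣ) : R) ^ t * ((χ n⁻¹ : Rˣ) : R) else 0) = ((χ n⁻¹ : Rˣ) : R) := by
      intro n
      rw [Finset.sum_ite_eq' Finset.univ (1 : (ZMod p)ˣ)]
      simp
    simp only [this]
    have := sum_inv_pow χ 1
    simpa using this
  · have : ∀ m : (ZMod p)ˣ, ∑ n : (ZMod p)ˣ,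
        (if n = 1 then ((χ m⁻¹ : Rˣ) : R) ^ t * ((χ n⁻¹ : Rˣ) : R) else 0) = ((χ m⁻¹ : Rˣ) : R) ^ t := by
      intro m
      rw [Finset.sum_ite_eq' Finset.univ (1 : (ZMod p)ˣ)]
      simp
    simp only [this]
    exact sum_inv_pow χ t

include hu hχ in
theorem Y_mul_Y (t : ℕ) (ht1 : 1 ≤ t) (ht2 : t ≤ p - 2) :
    Y u χ t * Y u χ 1 = (u * J χ t) • Y u χ (t + 1) := by
  have h := eigen u hu χ (t + 1) (Y u χ t * Y u χ 1) (by rw [map_mul, counit_Y, zero_mul]) (by
    intro m
    rw [map_mul, powConv_Y, powConv_Y, smul_mul_smul_comm, pow_one, ← pow_succ])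
  rw [h]
  congr 1
  rw [ev_one_Y_mul_Y]
  have hp2 := (Fact.out : p.Prime).two_le
  have h1 : S χ (-1) = 0 := by
    apply S_eq_zero hχ
    rw [dvd_neg]
    intro hd
    have := Int.le_of_dvd one_pos hd
    omega
  have h2 : S χ (-(t : ℤ)) = 0 := by
    apply S_eq_zero hχ
    rw [dvd_neg, Int.natCast_dvd_natCast]
    intro hd
    have := Nat.le_of_dvd (by omega) hd
    omega
  rw [h1, h2, sub_zero, sub_zero]
  calc ((p - 1 : ℕ) : R) * (u * u * J χ t) = (u * ((p - 1 : ℕ) : R)) * (u * J χ t) := by ring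
    _ = u * J χ t := by rw [hu, one_mul]

include hu hχ in
theorem adjoin_eq_top (hJ : ∀ t : ℕ, 1 ≤ t → t ≤ p - 2 → IsUnit (J χ t)) :
    Algebra.adjoin R ({Y u χ 1} : Set (GA R p)) = ⊤ := by
  have hu' : IsUnit u := IsUnit.of_mul_eq_one _ hu
  have hp2 := (Fact.out : p.Prime).two_le
  have hY1 : Y u χ 1 ∈ Algebra.adjoin R ({Y u χ 1} : Set (GA R p)) :=
    Algebra.subset_adjoin (Set.mem_singleton _)
  have key : ∀ t : ℕ, 1 ≤ t → t ≤ p - 1 → Y u χ t ∈ Algebra.adjoin R ({Y u χ 1} : Set (GA R p)) := by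
    intro t ht1
    induction t, ht1 using Nat.le_induction with
    | base => intro _; exact hY1
    | succ t ht1 ih =>
      intro ht2
      have hmem := Subalgebra.mul_mem _ (ih (by omega)) hY1
      rw [Y_mul_Y u hu χ hχ t ht1 (by omega)] at hmem
      obtain ⟨v, hv⟩ := hu'.mul (hJ t ht1 (by omega))
      have := Subalgebra.smul_mem _ hmem ((v⁻¹ : Rˣ) : R)
      rwa [smul_smul, ← hv, Units.inv_mul, one_smul] at this
  have key0 : ∀ i : ℕ, i < p - 1 → Y u χ i ∈ Algebra.adjoin R ({Y u χ 1} : Set (GA R p)) := by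
    intro i hi
    rcases Nat.eq_zero_or_pos i with rfl | hpos
    · have := key (p - 1) (by omega) le_rfl
      have h0 := Y_periodic u χ 0
      rw [zero_add] at h0
      rwa [h0] at this
    · exact key i hpos (by omega)
  rw [eq_top_iff]
  intro x _
  rw [expand x]
  refine Subalgebra.sum_mem _ fun a _ => Subalgebra.smul_mem _ ?_ _
  by_cases ha : a = 0
  · subst ha
    rw [← one_eq_T]
    exact Subalgebra.one_mem _
  · have : T R a = e R (Units.mk0 a ha) + 1 := by unfold e; simp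
    rw [this]
    refine Subalgebra.add_mem _ ?_ (Subalgebra.one_mem _)
    rw [e_eq_sum u hu χ hχ]
    exact Subalgebra.sum_mem _ fun i hi => Subalgebra.smul_mem _ (key0 i (Finset.mem_range.mp hi)) _

end main

section jacobi


theorem zmod_jacobi_sum (p : ℕ) [Fact p.Prime] (t : ℕ) (ht1 : 1 ≤ t) (ht2 : t ≤ p - 2) :
    ∑ x : ZMod p, (x⁻¹) ^ t * (1 - x)⁻¹ = -((t : ZMod p) + 1) := by
  have hp2 := (Fact.out : p.Prime).two_le
  have hcard : Fintype.card (ZMod p) = p := ZMod.card p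
  have hpow : ∀ j : ℕ, j < p - 1 → ∑ y : ZMod p, y ^ j = 0 := by
    intro j hj
    exact FiniteField.sum_pow_lt_card_sub_one (ZMod p) j (by rw [hcard]; exact hj)
  -- reindex by inversion
  rw [← Equiv.sum_comp (Equiv.inv (ZMod p)) (fun x => (x⁻¹) ^ t * (1 - x)⁻¹)]
  simp only [Equiv.inv_apply, inv_inv]
  have hterm : ∀ y : ZMod p, y ^ t * (1 - y⁻¹)⁻¹ =
      (∑ j ∈ Finset.range (t + 1), y ^ j) + (y - 1)⁻¹ - (if y = 1 then ((t : ZMod p) + 1) else 0) := by
    intro y
    by_cases hy0 : y = 0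
    · subst hy0
      have ht0 : t ≠ 0 := by omega
      have h10 : ¬ (0 : ZMod p) = 1 := zero_ne_one
      rw [zero_pow ht0, zero_mul, if_neg h10, sub_zero, Finset.sum_range_succ']
      simp [zero_pow]
    by_cases hy1 : y = 1
    · subst hy1
      simp
    · rw [if_neg hy1, sub_zero]
      have hy1' : y - 1 ≠ 0 := sub_ne_zero.mpr hy1
      have h1 : (1 - y⁻¹)⁻¹ = y * (y - 1)⁻¹ := by
        field_simp
      rw [h1, geom_sum_eq hy1]
      field_simp
      ring
  simp only [hterm]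
  rw [Finset.sum_sub_distrib, Finset.sum_add_distrib, Finset.sum_comm]
  have h1 : ∑ j ∈ Finset.range (t + 1), ∑ y : ZMod p, y ^ j = 0 := by
    apply Finset.sum_eq_zero
    intro j hj
    exact hpow j (by have := Finset.mem_range.mp hj; omega)
  have h2 : ∑ y : ZMod p, (y - 1)⁻¹ = 0 := by
    have e1 := Equiv.sum_comp (Equiv.subRight (1 : ZMod p)) (fun z => z⁻¹)
    have e2 := Equiv.sum_comp (Equiv.inv (ZMod p)) (fun z => z)
    simp only [Equiv.subRight_apply, Equiv.inv_apply] at e1 e2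
    rw [e1, e2]
    have := hpow 1 (by omega)
    simpa using this
  rw [h1, h2, Finset.sum_ite_eq' Finset.univ (1 : ZMod p)]
  simp

theorem jacobiSum_eq_double {p : ℕ} [Fact p.Prime] {k : Type*} [Field k] (ψ : MulChar (ZMod p) k)
    (t : ℕ) (ht : t ≠ 0) :
    jacobiSum (ψ ^ t) ψ = ∑ m : (ZMod p)ˣ, ∑ n : (ZMod p)ˣ,
      if (m : ZMod p) + (n : ZMod p) = 1 then ψ (m : ZMod p) ^ t * ψ (n : ZMod p) else 0 := by
  unfold jacobiSum
  rw [sum_zmod]
  have h0 : (ψ ^ t) 0 = 0 := MulChar.map_nonunit _ not_isUnit_zero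
  rw [h0, zero_mul, zero_add]
  refine Finset.sum_congr rfl fun m _ => ?_
  rw [MulChar.pow_apply_coe]
  by_cases h : (1 - (m : ZMod p)) = 0
  · rw [h, MulChar.map_nonunit ψ (a := 0) not_isUnit_zero, mul_zero]
    symm
    apply Finset.sum_eq_zero
    intro n _
    rw [if_neg]
    intro hmn
    apply n.ne_zero
    rw [← hmn] at h
    simpa using h
  · have : ∀ n : (ZMod p)ˣ, ((m : ZMod p) + (n : ZMod p) = 1) ↔ n = Units.mk0 _ h := by
      intro n
      rw [← Units.val_inj, Units.val_mk0]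
      constructor
      · intro hh; rw [← hh]; ring
      · intro hh; rw [hh]; ring
    simp only [this]
    rw [Finset.sum_ite_eq' Finset.univ (Units.mk0 _ h)]
    simp

variable (χ : (ZMod p)ˣ →* Rˣ)
  (hχ : ∀ m : (ZMod p)ˣ, m ≠ 1 → IsUnit ((χ m : R) - 1))
  (hχp : ∀ m : (ZMod p)ˣ, ((χ m : Rˣ) : R) - (((m : ZMod p).val : ℕ) : R) ∈ Ideal.span ({(p : R)} : Set R))

include hχ hχp in
theorem J_isUnit (t : ℕ) (ht1 : 1 ≤ t) (ht2 : t ≤ p - 2) : IsUnit (J χ t) := by
  have hp := (Fact.out : p.Prime)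
  have hp2 := hp.two_le
  by_contra hnu
  obtain ⟨I, hI, hJI⟩ := exists_max_ideal_of_mem_nonunits (mem_nonunits_iff.mpr hnu)
  letI : Field (R ⧸ I) := Ideal.Quotient.field I
  let π : R →+* R ⧸ I := Ideal.Quotient.mk I
  have hπJ : π (J χ t) = 0 := Ideal.Quotient.eq_zero_iff_mem.mpr hJI
  let θ : (ZMod p)ˣ →* (R ⧸ I)ˣ := ((Units.map (π : R →* R ⧸ I)).comp χ).comp invMonoidHom
  let ψ : MulChar (ZMod p) (R ⧸ I) := MulChar.ofUnitHom θ
  have hψ : ∀ n : (ZMod p)ˣ, ψ (n : ZMod p) = π ((χ n⁻¹ : Rˣ) : R) := by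
    intro n
    rw [MulChar.ofUnitHom_coe]
    rfl
  have hA : jacobiSum (ψ ^ t) ψ = 0 := by
    refine Eq.trans ?_ hπJ
    rw [jacobiSum_eq_double ψ t (by omega)]
    unfold J
    rw [map_sum]
    refine Finset.sum_congr rfl fun m _ => ?_
    rw [map_sum]
    refine Finset.sum_congr rfl fun n _ => ?_
    split_ifs
    · rw [map_mul, map_pow, hψ, hψ]
    · rw [map_zero]
  by_cases hpk : ((p : ℕ) : R ⧸ I) = 0
  · -- residue characteristic p
    haveI : CharP (R ⧸ I) p := (CharP.charP_iff_prime_eq_zero hp).2 hpk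
    let c : ZMod p →+* R ⧸ I := ZMod.castHom (dvd_refl p) (R ⧸ I)
    have hπp : ∀ x ∈ Ideal.span ({(p : R)} : Set R), π x = 0 := by
      intro x hx
      obtain ⟨y, rfl⟩ := Ideal.mem_span_singleton'.mp hx
      rw [map_mul, map_natCast, hpk, mul_zero]
    have hψc : ∀ x : ZMod p, ψ x = c x⁻¹ := by
      intro x
      by_cases hx : x = 0
      · subst hx
        rw [MulChar.map_nonunit ψ (a := 0) not_isUnit_zero, inv_zero, map_zero]
      · have := hψ (Units.mk0 x hx)
        rw [Units.val_mk0] at this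
        rw [this]
        have h2 := hπp _ (hχp (Units.mk0 x hx)⁻¹)
        rw [map_sub, sub_eq_zero] at h2
        rw [h2, map_natCast, ZMod.natCast_val, ZMod.castHom_apply, Units.val_inv_eq_inv_val,
          Units.val_mk0]
    have hB : jacobiSum (ψ ^ t) ψ = c (∑ x : ZMod p, (x⁻¹) ^ t * (1 - x)⁻¹) := by
      unfold jacobiSum
      rw [map_sum]
      refine Finset.sum_congr rfl fun x _ => ?_
      rw [MulChar.pow_apply' ψ (by omega), hψc, hψc, map_mul, map_pow]
    rw [hB, zmod_jacobi_sum p t ht1 ht2, map_neg, neg_eq_zero, map_add, map_natCast, map_one,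
      ← Nat.cast_succ, CharP.cast_eq_zero_iff (R ⧸ I) p] at hA
    have := Nat.le_of_dvd (Nat.succ_pos t) hA
    omega
  · -- residue characteristic ≠ p
    have hchar : ringChar (R ⧸ I) ≠ ringChar (ZMod p) := by
      rw [ZMod.ringChar_zmod_n]
      intro h
      haveI := ringChar.of_eq h
      exact hpk (CharP.cast_eq_zero (R ⧸ I) p)
    obtain ⟨g, -, hg⟩ := exists_gen (p := p)
    have hne : ∀ s : ℕ, 0 < s → s < p - 1 → ψ ^ s ≠ 1 := by
      intro s hs0 hs1
      rw [MulChar.ne_one_iff]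
      refine ⟨g, ?_⟩
      rw [MulChar.pow_apply_coe, hψ, ← map_pow, ← Units.val_pow_eq_pow_val, ← map_pow]
      intro h1
      have hgs : g⁻¹ ^ s ≠ 1 := by
        rw [inv_pow, ne_eq, inv_eq_one, ← orderOf_dvd_iff_pow_eq_one, hg]
        intro hd
        have := Nat.le_of_dvd hs0 hd
        omega
      have hunit := (hχ _ hgs).map π
      rw [map_sub, h1, map_one, sub_self] at hunit
      exact not_isUnit_zero hunit
    have hψ1 : ψ ≠ 1 := by
      have := hne 1 one_pos (by omega)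
      rwa [pow_one] at this
    by_cases ht3 : t + 1 < p - 1
    · have h3 : ψ ^ t * ψ ≠ 1 := by
        rw [← pow_succ]
        exact hne (t + 1) (Nat.succ_pos t) ht3
      have := jacobiSum_mul_jacobiSum_inv hchar (hne t ht1 (by omega)) hψ1 h3
      rw [hA, zero_mul, ZMod.card p] at this
      exact hpk this.symm
    · have h3 : ψ ^ t * ψ = 1 := by
        rw [← pow_succ]
        have : t + 1 = Fintype.card (ZMod p)ˣ := by rw [ZMod.card_units]; omega
        rw [this]
        exact MulChar.pow_card_eq_one ψ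
      have h4 : ψ = (ψ ^ t)⁻¹ := eq_inv_of_mul_eq_one_right h3
      have h5 := jacobiSum_nontrivial_inv (hne t ht1 (by omega))
      rw [← h4, hA, eq_comm, neg_eq_zero] at h5
      have : IsUnit (-1 : ZMod p) := isUnit_one.neg
      exact (MulChar.apply_ne_zero_iff.mpr this) h5

end jacobi

theorem main (p : ℕ) [Fact p.Prime] (R : Type u) [CommRing R] (u : R) (hu : u * ((p - 1 : ℕ) : R) = 1)
    (χ : (ZMod p)ˣ →* Rˣ) (hχ : ∀ m : (ZMod p)ˣ, m ≠ 1 → IsUnit ((χ m : R) - 1))
    (hχp : ∀ m : (ZMod p)ˣ, ((χ m : Rˣ) : R) - (((m : ZMod p).val : ℕ) : R) ∈ Ideal.span ({(p : R)} : Set R)) :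
    LinearIndependent R (fun i : Fin (p - 1) => OortTate.ygen R p u χ (i : ℕ)) ∧
      Submodule.span R (Set.range (fun i : Fin (p - 1) => OortTate.ygen R p u χ (i : ℕ))) =
        LinearMap.ker (Bialgebra.counitAlgHom R (MonoidAlgebra R (Multiplicative (ZMod p)))).toLinearMap ∧
      Algebra.adjoin R ({OortTate.ygen R p u χ 1} : Set (MonoidAlgebra R (Multiplicative (ZMod p)))) = ⊤ ∧
      ∃! w : R, OortTate.ygen R p u χ 1 ^ p = w • OortTate.ygen R p u χ 1 := by
  simp only [ygen_eq]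
  exact ⟨linIndep u hu χ hχ, span_eq u hu χ hχ, adjoin_eq_top u hu χ hχ (J_isUnit χ hχ hχp),
    exists_unique_w u hu χ⟩


end Helpers


/-- With the preceding computation: let p be a prime, R a commutative ring containing u with u(p − 1) =
1, and χ a homomorphism from the units of ℤ/p to the units of R such that χ(m) − 1 is a unit for
every m ≠ 1 (the situation of an algebra over the subring Λ_p of the p-adic integers generated by
the Teichmüller values and 1/(p(p − 1)), with χ the Teichmüller character, which is the published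
setting); assume moreover χ(m) ≡ m modulo pR for every m. In the group algebra over R of the cyclic
group of order p, written R[T]/(T^p − 1) with T group-like (the Hopf algebra of μ_p, on which the
power map [m] sends T to T^m), put y_i = u Σ_m χ(m)^{−i}(T^m − 1), the average of T − 1 for the
character χ^i. Then the elements y_0, …, y_{p−2} are a basis of the augmentation ideal (they are
linearly independent and span the kernel of the counit), the R-algebra is generated by y_1 alone,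
and y_1^p = w·y_1 for a unique w ∈ R (the constant w_p of the classification). -/
theorem result
    (p : ℕ) [Fact p.Prime] (R : Type u) [CommRing R] (u : R) (hu : u * ((p - 1 : ℕ) : R) = 1)
    (χ : (ZMod p)ˣ →* Rˣ) (hχ : ∀ m : (ZMod p)ˣ, m ≠ 1 → IsUnit ((χ m : R) - 1))
    (hχp : ∀ m : (ZMod p)ˣ, ((χ m : Rˣ) : R) - (((m : ZMod p).val : ℕ) : R) ∈ Ideal.span ({(p : R)} : Set R)) :
    LinearIndependent R (fun i : Fin (p - 1) => OortTate.ygen R p u χ (i : ℕ)) ∧
      Submodule.span R (Set.range (fun i : Fin (p - 1) => OortTate.ygen R p u χ (i : ℕ))) =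
        LinearMap.ker (Bialgebra.counitAlgHom R (MonoidAlgebra R (Multiplicative (ZMod p)))).toLinearMap ∧
      Algebra.adjoin R ({OortTate.ygen R p u χ 1} : Set (MonoidAlgebra R (Multiplicative (ZMod p)))) = ⊤ ∧
      ∃! w : R, OortTate.ygen R p u χ 1 ^ p = w • OortTate.ygen R p u χ 1 := by
  exact main p R u hu χ hχ hχp

end Groth.Agent.S18473
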