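import Groth.Statements.S18475
import Groth.Agent.H92.OTIso
import Groth.Agent.S15048
import Mathlib
-- import your own Groth.Agent.* helpers here

set_option autoImplicit false
universe u
open OortTate

namespace Groth.Agent.S18475

section Helpers
open OortTate
open Groth.Agent.H92.OTChar Groth.Agent.H92.OTEigen Groth.Agent.H92.OTDual Groth.Agent.H92.OTPair
open Groth.Agent.H92.OTGen Groth.Agent.H92.OTIso
open WithConv CartDual TensorProduct

/-- the Cartier dual is spanned by the powers of `ξ` -/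
theorem span_dual {p : ℕ} [Fact p.Prime] {R : Type u} [CommRing R] (u : R)
    (hu : u * ((p - 1 : ℕ) : R) = 1)
    (χ : (ZMod p)ˣ →* Rˣ) (hχ : ∀ m : (ZMod p)ˣ, m ≠ 1 → IsUnit ((χ m : R) - 1))
    {A : Type u} [CommRing A] [HopfAlgebra R A] [Coalgebra.IsCocomm R A] [Module.Finite R A]
    [Module.Projective R A] (hp : (toConv (AlgHom.id R A)) ^ p = 1)
    (x : A) (hx : Submodule.span R {x} = OortTate.eigenAug R A p χ 1)
    (ξ : D R A) (hξ : ξ ∈ OortTate.eigenAug R (D R A) p χ 1) (hxξ : ξ.ofConv x = 1)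
    (hW : ∀ j : ℕ, j ≤ p - 1 → IsUnit (Wc u χ j)) :
    ⊤ ≤ Submodule.span R (Set.range (fun j : Fin p => ξ ^ (j : ℕ))) := by
  intro f _
  have hf : f = ∑ j ∈ Finset.range p, (Ring.inverse (Wc u χ j) * f.ofConv (x ^ j)) • ξ ^ j := by
    apply WithConv.ofConv_injective
    apply LinearMap.ext
    intro a
    conv_lhs => rw [expand hp u hu χ hχ x hx ξ hξ hxξ hW a]
    rw [map_sum, WithConv.ofConv_sum, LinearMap.sum_apply]
    refine Finset.sum_congr rfl fun j _ => ?_
    rw [map_smul, WithConv.ofConv_smul, LinearMap.smul_apply, smul_eq_mul, smul_eq_mul]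
    ring
  rw [hf]
  refine Submodule.sum_mem _ fun j hj => Submodule.smul_mem _ _ ?_
  exact Submodule.subset_span ⟨⟨j, Finset.mem_range.mp hj⟩, rfl⟩

theorem main
    (p : ℕ) [Fact p.Prime] (R : Type u) [CommRing R] (u : R) (hu : u * ((p - 1 : ℕ) : R) = 1)
    (χ : (ZMod p)ˣ →* Rˣ) (hχ : ∀ m : (ZMod p)ˣ, m ≠ 1 → IsUnit ((χ m : R) - 1))
    (hχp : ∀ m : (ZMod p)ˣ, ((χ m : Rˣ) : R) - (((m : ZMod p).val : ℕ) : R) ∈ Ideal.span ({(p : R)} : Set R))
    (A : Type u) [CommRing A] [HopfAlgebra R A] [Coalgebra.IsCocomm R A] [Module.Finite R A]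
    [Module.Projective R A] (hrk : ∀ q : PrimeSpectrum R, Module.rankAtStalk A q = p)
    (A' : Type u) [CommRing A'] [HopfAlgebra R A'] [Coalgebra.IsCocomm R A'] [Module.Finite R A']
    [Module.Projective R A'] (hrk' : ∀ q : PrimeSpectrum R, Module.rankAtStalk A' q = p)
    (x : A) (hx : Submodule.span R {x} = OortTate.eigenAug R A p χ 1)
    (ξ : CartDual.D R A) (hξ : Submodule.span R {ξ} = OortTate.eigenAug R (CartDual.D R A) p χ 1)
    (hxξ : CartDual.toDual R A ξ x = 1)
    (x' : A') (hx' : Submodule.span R {x'} = OortTate.eigenAug R A' p χ 1)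
    (ξ' : CartDual.D R A') (hξ' : Submodule.span R {ξ'} = OortTate.eigenAug R (CartDual.D R A') p χ 1)
    (hxξ' : CartDual.toDual R A' ξ' x' = 1)
    (α β α' β' : R) (hα : x ^ p = α • x) (hβ : ξ ^ p = β • ξ) (hα' : x' ^ p = α' • x')
    (hβ' : ξ' ^ p = β' • ξ')
    (v : Rˣ) (hαv : α' = ((v ^ (p - 1) : Rˣ) : R) * α) (hβv : β' = ((v⁻¹ ^ (p - 1) : Rˣ) : R) * β) :
    Nonempty (A ≃ₐc[R] A') := by
  have hp2 := (Fact.out : p.Prime).two_le
  have hpA : (toConv (AlgHom.id R A)) ^ p = 1 := Groth.Agent.S15048.result R A p hrk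
  have hpA' : (toConv (AlgHom.id R A')) ^ p = 1 := Groth.Agent.S15048.result R A' p hrk'
  have hW : ∀ j : ℕ, j ≤ p - 1 → IsUnit (Wc u χ j) := Wc_isUnit u hu χ hχ hχp
  have hξm : ξ ∈ OortTate.eigenAug R (D R A) p χ 1 := by
    rw [← hξ]; exact Submodule.mem_span_singleton_self ξ
  have hξm' : ξ' ∈ OortTate.eigenAug R (D R A') p χ 1 := by
    rw [← hξ']; exact Submodule.mem_span_singleton_self ξ'
  have hxξ0 : ξ.ofConv x = 1 := hxξ
  have hxξ0' : ξ'.ofConv x' = 1 := hxξ'
  have hspA := span_pow hpA u hu χ hχ x hx ξ hξm hxξ0 hW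
  have hspA' := span_pow hpA' u hu χ hχ x' hx' ξ' hξm' hxξ0' hW
  have hb : ∀ l : Fin p, powBasis hpA u hu χ hχ x hx ξ hξm hxξ0 hrk hW l = x ^ (l : ℕ) :=
    powBasis_apply hpA u hu χ hχ x hx ξ hξm hxξ0 hrk hW
  have hb' : ∀ l : Fin p, powBasis hpA' u hu χ hχ x' hx' ξ' hξm' hxξ0' hrk' hW l = x' ^ (l : ℕ) :=
    powBasis_apply hpA' u hu χ hχ x' hx' ξ' hξm' hxξ0' hrk' hW
  generalize powBasis hpA u hu χ hχ x hx ξ hξm hxξ0 hrk hW = b at hb
  generalize powBasis hpA' u hu χ hχ x' hx' ξ' hξm' hxξ0' hrk' hW = b' at hb'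
  have hortho := xi_pow_x_pow hpA u hu χ hχ x hx ξ hξm hxξ0 hrk hW
  have hortho' := xi_pow_x_pow hpA' u hu χ hχ x' hx' ξ' hξm' hxξ0' hrk' hW
  set c : R := ((v⁻¹ : Rˣ) : R) with hc
  set d : R := ((v : Rˣ) : R) with hd
  have hcd : c * d = 1 := by rw [hc, hd, ← Units.val_mul, inv_mul_cancel, Units.val_one]
  have hcdj : ∀ j : ℕ, c ^ j * d ^ j = 1 := fun j => by rw [← mul_pow, hcd, one_pow]
  -- the maps
  let g : A →ₗ[R] A' := b.constr R (fun j : Fin p => c ^ (j : ℕ) • x' ^ (j : ℕ))
  let g' : A' →ₗ[R] A := b'.constr R (fun j : Fin p => d ^ (j : ℕ) • x ^ (j : ℕ))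
  have hg : ∀ j : ℕ, j < p → g (x ^ j) = c ^ j • x' ^ j := by
    intro j hj
    have := b.constr_basis R (fun j : Fin p => c ^ (j : ℕ) • x' ^ (j : ℕ)) ⟨j, hj⟩
    rwa [hb] at this
  have hg' : ∀ j : ℕ, j < p → g' (x' ^ j) = d ^ j • x ^ j := by
    intro j hj
    have := b'.constr_basis R (fun j : Fin p => d ^ (j : ℕ) • x ^ (j : ℕ)) ⟨j, hj⟩
    rwa [hb'] at this
  have hgg' : g' ∘ₗ g = LinearMap.id := by
    apply b.ext
    intro l
    rw [hb, LinearMap.comp_apply, hg l l.2, map_smul, hg' l l.2, smul_smul, hcdj, one_smul]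
    rfl
  have hg'g : g ∘ₗ g' = LinearMap.id := by
    apply b'.ext
    intro l
    rw [hb', LinearMap.comp_apply, hg' l l.2, map_smul, hg l l.2, smul_smul, mul_comm, hcdj, one_smul]
    rfl
  -- multiplicativity
  have hc1 : c ^ (p - 1) * α' = α := by
    rw [hαv, Units.val_pow_eq_pow_val, ← mul_assoc, ← hd, hcdj, one_mul]
  have hc2 : c ^ (p - 1) * β = β' := by
    rw [hβv, Units.val_pow_eq_pow_val]
  have hmul := mulCompat hp2 x x' c α α' hα hα' hc1 g hg hspA
  -- transpose
  have hgT : ∀ j : ℕ, j < p → gT g (ξ' ^ j) = c ^ j • ξ ^ j := by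
    intro j hj
    apply WithConv.ofConv_injective
    apply b.ext
    intro l
    rw [gT_apply, hb, hg l l.2, map_smul, WithConv.ofConv_smul, LinearMap.smul_apply]
    have e1 := hortho' ⟨j, hj⟩ l
    have e2 := hortho ⟨j, hj⟩ l
    simp only at e1 e2
    rw [e1, e2]
    by_cases hjl : (⟨j, hj⟩ : Fin p) = l
    · have : j = (l : ℕ) := by rw [← hjl]
      rw [if_pos hjl, this]
    · rw [if_neg hjl, smul_zero, smul_zero]
  have hspD' := span_dual u hu χ hχ hpA' x' hx' ξ' hξm' hxξ0' hW
  have hmulT := mulCompat hp2 ξ' ξ c β' β hβ' hβ hc2 (gT g) hgT hspD'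
  -- assemble
  let gA : A →ₐ[R] A' := AlgHom.ofLinearMap g hmul.1 hmul.2
  have hbij : Function.Bijective gA := by
    rw [Function.bijective_iff_has_inverse]
    exact ⟨g', fun a => LinearMap.congr_fun hgg' a, fun a => LinearMap.congr_fun hg'g a⟩
  have hx0 : Coalgebra.counit (R := R) x = 0 := by
    have : x ∈ OortTate.eigenAug R A p χ 1 := by
      rw [← hx]; exact Submodule.mem_span_singleton_self x
    exact counit_of_mem χ this
  have hx0' : Coalgebra.counit (R := R) x' = 0 := by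
    have : x' ∈ OortTate.eigenAug R A' p χ 1 := by
      rw [← hx']; exact Submodule.mem_span_singleton_self x'
    exact counit_of_mem χ this
  have hcounit : (Bialgebra.counitAlgHom R A').comp (AlgEquiv.ofBijective gA hbij : A →ₐ[R] A') =
      Bialgebra.counitAlgHom R A := by
    apply AlgHom.toLinearMap_injective
    apply b.ext
    intro l
    rw [hb]
    change Bialgebra.counitAlgHom R A' (g (x ^ (l : ℕ))) = Bialgebra.counitAlgHom R A (x ^ (l : ℕ))
    rw [hg l l.2, map_smul, map_pow, map_pow, Bialgebra.counitAlgHom_apply,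
      Bialgebra.counitAlgHom_apply, hx0, hx0']
    by_cases hl : (l : ℕ) = 0
    · rw [hl]; simp
    · rw [zero_pow hl, smul_zero]
  have hcomul : (Algebra.TensorProduct.map (AlgEquiv.ofBijective gA hbij : A →ₐ[R] A')
        (AlgEquiv.ofBijective gA hbij : A →ₐ[R] A')).comp (Bialgebra.comulAlgHom R A) =
      (Bialgebra.comulAlgHom R A').comp (AlgEquiv.ofBijective gA hbij : A →ₐ[R] A') := by
    apply AlgHom.ext
    intro a
    exact comul_compat g hmulT.2 a
  exact ⟨BialgEquiv.ofAlgEquiv (AlgEquiv.ofBijective gA hbij) hcounit hcomul⟩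

end Helpers


/-- Let p be a prime, R a commutative ring containing u with u(p − 1) = 1, and χ a homomorphism from the
units of ℤ/p to the units of R such that χ(m) − 1 is a unit for every m ≠ 1 (the situation of an
algebra over the subring Λ_p of the p-adic integers generated by the Teichmüller values and 1/(p(p −
1)), with χ the Teichmüller character, which is the published setting); assume moreover χ(m) ≡ m
modulo pR for every m. Let A and A' be commutative and cocommutative Hopf algebras over R, finitely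
generated and projective as R-modules of rank p at every prime (group schemes G, G' of order p over
Spec R), with dual Hopf algebras A^D = Hom_R(A, R) and A'^D (the Cartier duals; for a unit m of ℤ/p
the power map [m] acts on all four algebras). Suppose the χ-eigenspaces of the augmentation ideals
are free of rank one with chosen generators: I_1(A) = R·x and I_1(A^D) = R·ξ with ξ(x) = 1, and
similarly I_1(A') = R·x', I_1(A'^D) = R·ξ' with ξ'(x') = 1 (this is the case of a local base R);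
write x^p = α x, ξ^p = β ξ, x'^p = α' x', ξ'^p = β' ξ' with α, β, α', β' ∈ R. If there is a unit v
of R with α' = v^{p−1} α and β' = v^{−(p−1)} β, then A and A' are isomorphic as bialgebras over R,
i.e. G ≅ G'. (This is the injectivity of the classification map G ↦ (I_1, a, b) in the case where
the invertible module I_1 is free, the case the copy spells out; the general statement compares
triples consisting of an invertible module with two maps.) The published argument obtains
commutativity and p-torsion of G over a locally Noetherian base; this row allows any commutative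
ring R, over which both still hold. -/
theorem result
    (p : ℕ) [Fact p.Prime] (R : Type u) [CommRing R] (u : R) (hu : u * ((p - 1 : ℕ) : R) = 1)
    (χ : (ZMod p)ˣ →* Rˣ) (hχ : ∀ m : (ZMod p)ˣ, m ≠ 1 → IsUnit ((χ m : R) - 1))
    (hχp : ∀ m : (ZMod p)ˣ, ((χ m : Rˣ) : R) - (((m : ZMod p).val : ℕ) : R) ∈ Ideal.span ({(p : R)} : Set R))
    (A : Type u) [CommRing A] [HopfAlgebra R A] [Coalgebra.IsCocomm R A] [Module.Finite R A]
    [Module.Projective R A] (hrk : ∀ q : PrimeSpectrum R, Module.rankAtStalk A q = p)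
    (A' : Type u) [CommRing A'] [HopfAlgebra R A'] [Coalgebra.IsCocomm R A'] [Module.Finite R A']
    [Module.Projective R A'] (hrk' : ∀ q : PrimeSpectrum R, Module.rankAtStalk A' q = p)
    (x : A) (hx : Submodule.span R {x} = OortTate.eigenAug R A p χ 1)
    (ξ : CartDual.D R A) (hξ : Submodule.span R {ξ} = OortTate.eigenAug R (CartDual.D R A) p χ 1)
    (hxξ : CartDual.toDual R A ξ x = 1)
    (x' : A') (hx' : Submodule.span R {x'} = OortTate.eigenAug R A' p χ 1)
    (ξ' : CartDual.D R A') (hξ' : Submodule.span R {ξ'} = OortTate.eigenAug R (CartDual.D R A') p χ 1)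
    (hxξ' : CartDual.toDual R A' ξ' x' = 1)
    (α β α' β' : R) (hα : x ^ p = α • x) (hβ : ξ ^ p = β • ξ) (hα' : x' ^ p = α' • x')
    (hβ' : ξ' ^ p = β' • ξ')
    (v : Rˣ) (hαv : α' = ((v ^ (p - 1) : Rˣ) : R) * α) (hβv : β' = ((v⁻¹ ^ (p - 1) : Rˣ) : R) * β) :
    Nonempty (A ≃ₐc[R] A') := by
  exact main p R u hu χ hχ hχp A hrk A' hrk' x hx ξ hξ hxξ x' hx' ξ' hξ' hxξ' α β α' β' hα hβ hα' hβ' v hαv hβv

end Groth.Agent.S18475
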