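import Groth.Statements.S18476
import Mathlib
-- import your own Groth.Agent.* helpers here

set_option autoImplicit false
universe u
open FmlGrp

namespace Groth.Agent.S18476

section Helpers
open FmlGrp
open PowerSeries

section general
variable {O : Type u} [CommRing O] [IsDomain O] [IsLocalRing O]
variable (f : PowerSeries O) (hf : HasSubst f)

include hf in
theorem subst_step (c : PowerSeries O) :
    subst f c = C (constantCoeff c) + f * subst f (PowerSeries.mk fun j => coeff (j + 1) c) := by
  conv_lhs => rw [eq_X_mul_shift_add_const c]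
  rw [subst_add hf, subst_mul hf, subst_X hf, subst_C, add_comm]
  rfl

include hf in
theorem constantCoeff_f : constantCoeff f = 0 :=
  IsNilpotent.eq_zero hf

include hf in
theorem X_dvd_f : (X : PowerSeries O) ∣ f := X_dvd_iff.mpr (constantCoeff_f f hf)

/-- residue map on power series -/
noncomputable abbrev Mp (O : Type u) [CommRing O] [IsLocalRing O] :
    PowerSeries O →+* PowerSeries (IsLocalRing.ResidueField O) :=
  PowerSeries.map (IsLocalRing.residue O)

include hf in
theorem not_free_of_forall_mem (hall : ∀ n, coeff n f ∈ IsLocalRing.maximalIdeal O)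
    (n : ℕ) (b : Fin n → PowerSeries O)
    (hb : ∀ g : PowerSeries O, ∃ c : Fin n → PowerSeries O, g = ∑ i, subst f (c i) * b i) : False := by
  classical
  have hMf : Mp O f = 0 := by
    ext m
    rw [coeff_map, map_zero]
    exact (IsLocalRing.residue_eq_zero_iff _).mpr (hall m)
  have hMs : ∀ c : PowerSeries O, Mp O (subst f c) = C (IsLocalRing.residue O (constantCoeff c)) := by
    intro c
    rw [subst_step f hf c, map_add, map_mul, hMf, zero_mul, add_zero, map_C]
  let k := IsLocalRing.ResidueField O
  let v : Fin (n + 1) → PowerSeries k := fun j => (X : PowerSeries k) ^ (j : ℕ)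
  have hv : LinearIndependent k v := by
    rw [Fintype.linearIndependent_iff]
    intro a ha j
    have := congrArg (coeff (j : ℕ)) ha
    rw [map_sum, map_zero] at this
    simp only [v, coeff_smul, coeff_X_pow, smul_eq_mul, mul_ite, mul_one, mul_zero] at this
    rw [Finset.sum_eq_single j] at this
    · simpa using this
    · intro i _ hij
      rw [if_neg]
      intro h
      exact hij (Fin.ext h.symm)
    · intro h; exact absurd (Finset.mem_univ _) h
  let w : Set (PowerSeries k) := Set.range (fun i => Mp O (b i))
  have hspan : Set.range v ≤ Submodule.span k w := by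
    rintro _ ⟨j, rfl⟩
    obtain ⟨c, hc⟩ := hb ((X : PowerSeries O) ^ (j : ℕ))
    have h1 := congrArg (Mp O) hc
    rw [map_pow, map_X, map_sum] at h1
    simp only [map_mul, hMs] at h1
    change (X : PowerSeries k) ^ (j : ℕ) ∈ Submodule.span k w
    rw [h1]
    refine Submodule.sum_mem _ fun i _ => ?_
    rw [← smul_eq_C_mul]
    exact Submodule.smul_mem _ _ (Submodule.subset_span ⟨i, rfl⟩)
  have hcard := linearIndependent_le_span' v hv w hspan
  have hw : Fintype.card w ≤ n := by
    have := Fintype.card_range_le (fun i => Mp O (b i))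
    simpa using this
  rw [Cardinal.mk_fin] at hcard
  have : (n + 1 : ℕ) ≤ Fintype.card w := by exact_mod_cast hcard
  omega


section complete
variable [IsAdicComplete (IsLocalRing.maximalIdeal O) O]

/-- the Weierstrass degree -/
noncomputable def hh : ℕ := (f.map (IsLocalRing.residue O)).order.toNat

theorem coe_poly_eq (r : Polynomial O) (hr : r.degree < (hh f : ℕ)) :
    (r : PowerSeries O) = ∑ i : Fin (hh f), C (r.coeff i) * X ^ (i : ℕ) := by
  ext m
  rw [Polynomial.coeff_coe, map_sum]
  simp only [coeff_C_mul, coeff_X_pow, mul_ite, mul_one, mul_zero]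
  by_cases hm : m < hh f
  · rw [Finset.sum_eq_single ⟨m, hm⟩]
    · simp
    · intro i _ hi
      rw [if_neg]
      intro h
      exact hi (Fin.ext h.symm)
    · intro h; exact absurd (Finset.mem_univ _) h
  · rw [Polynomial.coeff_eq_zero_of_degree_lt (lt_of_lt_of_le hr (by exact_mod_cast not_lt.mp hm))]
    symm
    apply Finset.sum_eq_zero
    intro i _
    rw [if_neg]
    intro h
    exact hm (h ▸ i.2)

noncomputable def qs (g : PowerSeries O) (j : ℕ) : PowerSeries O := (fun x => x /ʷ f)^[j] g

noncomputable def cs (g : PowerSeries O) (i : ℕ) : PowerSeries O :=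
  PowerSeries.mk fun j => ((qs f g j) %ʷ f).coeff i

noncomputable def Phi (g : PowerSeries O) : PowerSeries O :=
  ∑ i : Fin (hh f), subst f (cs f g i) * X ^ (i : ℕ)

theorem cs_shift (g : PowerSeries O) (i : ℕ) :
    (PowerSeries.mk fun j => coeff (j + 1) (cs f g i)) = cs f (g /ʷ f) i := by
  ext j
  simp only [cs, coeff_mk, qs, Function.iterate_succ_apply]

theorem constantCoeff_cs (g : PowerSeries O) (i : ℕ) :
    constantCoeff (cs f g i) = (g %ʷ f).coeff i := by
  rw [← coeff_zero_eq_constantCoeff_apply]
  simp only [cs, coeff_mk, qs, Function.iterate_zero, id_eq]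

include hf in
theorem Phi_step (g : PowerSeries O) :
    Phi f g = ((g %ʷ f : Polynomial O) : PowerSeries O) + f * Phi f (g /ʷ f) := by
  rw [coe_poly_eq f (g %ʷ f) (degree_weierstrassMod_lt g f)]
  unfold Phi
  rw [Finset.mul_sum, ← Finset.sum_add_distrib]
  refine Finset.sum_congr rfl fun i _ => ?_
  rw [subst_step f hf (cs f g i), cs_shift, constantCoeff_cs]
  ring

include hf in
theorem diff_step (hg : f.map (IsLocalRing.residue O) ≠ 0) (g : PowerSeries O) :
    g - Phi f g = f * (g /ʷ f - Phi f (g /ʷ f)) := by
  rw [Phi_step f hf g]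
  have h := eq_mul_weierstrassDiv_add_weierstrassMod g hg
  linear_combination h

include hf in
theorem pow_dvd_diff (hg : f.map (IsLocalRing.residue O) ≠ 0) (N : ℕ) :
    ∀ g : PowerSeries O, f ^ N ∣ g - Phi f g := by
  induction N with
  | zero => intro g; simp
  | succ N ih =>
    intro g
    rw [diff_step f hf hg g, pow_succ']
    exact mul_dvd_mul_left f (ih _)

include hf in
theorem eq_Phi (hg : f.map (IsLocalRing.residue O) ≠ 0) (g : PowerSeries O) : g = Phi f g := by
  rw [← sub_eq_zero]
  ext m
  have h1 : (X : PowerSeries O) ^ (m + 1) ∣ g - Phi f g :=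
    (pow_dvd_pow_of_dvd (X_dvd_f f hf) (m + 1)).trans (pow_dvd_diff f hf hg (m + 1) g)
  rw [map_zero]
  exact X_pow_dvd_iff.mp h1 m (Nat.lt_succ_self m)

include hf in
theorem uniq_aux (hg : f.map (IsLocalRing.residue O) ≠ 0) (N : ℕ) :
    ∀ c : Fin (hh f) → PowerSeries O, ∑ i, subst f (c i) * X ^ (i : ℕ) = 0 →
      ∀ i, ∀ j < N, coeff j (c i) = 0 := by
  induction N with
  | zero => intro c _ i j hj; omega
  | succ N ih =>
    intro c hc
    let a : Fin (hh f) → O := fun i => constantCoeff (c i)
    let c' : Fin (hh f) → PowerSeries O := fun i => PowerSeries.mk fun j => coeff (j + 1) (c i)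
    let r : Polynomial O := ∑ i : Fin (hh f), Polynomial.C (a i) * Polynomial.X ^ (i : ℕ)
    let Q : PowerSeries O := ∑ i, subst f (c' i) * X ^ (i : ℕ)
    have hr : (r : PowerSeries O) = ∑ i : Fin (hh f), C (a i) * X ^ (i : ℕ) := by
      change Polynomial.coeToPowerSeries.ringHom r = _
      simp only [r, map_sum, map_mul, map_pow, Polynomial.coeToPowerSeries.ringHom_apply,
        Polynomial.coe_C, Polynomial.coe_X]
    have heq : (0 : PowerSeries O) = f * Q + r := by
      rw [hr, ← hc]
      simp only [Q]
      rw [Finset.mul_sum, ← Finset.sum_add_distrib]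
      refine Finset.sum_congr rfl fun i _ => ?_
      rw [subst_step f hf (c i)]
      ring
    have hdeg : r.degree < (hh f : ℕ) := Polynomial.degree_sum_fin_lt a
    have H : IsWeierstrassDivision (0 : PowerSeries O) f Q r := ⟨hdeg, heq⟩
    obtain ⟨hQ, hr0⟩ := H.eq_zero hg
    have ha : ∀ i, a i = 0 := by
      intro i
      have := congrArg (fun q : Polynomial O => q.coeff (i : ℕ)) hr0
      simp only [r, Polynomial.finsetSum_coeff, Polynomial.coeff_C_mul_X_pow, Polynomial.coeff_zero] at this
      rw [Finset.sum_eq_single i] at this
      · simpa using this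
      · intro k _ hk
        rw [if_neg]
        intro h
        exact hk (Fin.ext h.symm)
      · intro h; exact absurd (Finset.mem_univ _) h
    have ih' := ih c' hQ
    intro i j hj
    rcases j with _ | j
    · rw [coeff_zero_eq_constantCoeff_apply]
      exact ha i
    · have := ih' i j (by omega)
      simpa [c', coeff_mk] using this

end complete

end general

theorem main (O : Type u) [CommRing O] [IsDomain O] [IsDiscreteValuationRing O]
    [IsAdicComplete (IsLocalRing.maximalIdeal O) O]
    (p : ℕ) [Fact p.Prime] (hp : (p : O) ∈ IsLocalRing.maximalIdeal O)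
    (F : FormalGroup O) :
    (∃ n : ℕ, PowerSeries.coeff n
        ((p • (show F.Point Unit from ⟨PowerSeries.X, PowerSeries.HasSubst.X'⟩)).val) ∉
          IsLocalRing.maximalIdeal O) ↔
      ∃ (n : ℕ) (b : Fin n → PowerSeries O), ∀ g : PowerSeries O, ∃! c : Fin n → PowerSeries O,
        g = ∑ i, PowerSeries.subst
          ((p • (show F.Point Unit from ⟨PowerSeries.X, PowerSeries.HasSubst.X'⟩)).val) (c i) * b i := by
  set P : F.Point Unit := p • (show F.Point Unit from ⟨PowerSeries.X, PowerSeries.HasSubst.X'⟩) with hP
  have hf : HasSubst (P.val : PowerSeries O) := P.property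
  set f : PowerSeries O := P.val with hfdef
  constructor
  · rintro ⟨n, hn⟩
    have hg : f.map (IsLocalRing.residue O) ≠ 0 := by
      intro h0
      apply hn
      have := congrArg (coeff n) h0
      rw [coeff_map, map_zero] at this
      exact (IsLocalRing.residue_eq_zero_iff _).mp this
    refine ⟨hh f, fun i => X ^ (i : ℕ), fun g => ?_⟩
    refine ⟨fun i => cs f g i, eq_Phi f hf hg g, ?_⟩
    intro c' hc'
    funext i
    have h0 : ∑ i : Fin (hh f), subst f (c' i - cs f g i) * X ^ (i : ℕ) = 0 := by
      have h1 : g = Phi f g := eq_Phi f hf hg g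
      have h2 : ∑ i : Fin (hh f), subst f (c' i - cs f g i) * X ^ (i : ℕ)
          = (∑ i : Fin (hh f), subst f (c' i) * X ^ (i : ℕ)) - Phi f g := by
        unfold Phi
        rw [← Finset.sum_sub_distrib]
        refine Finset.sum_congr rfl fun i _ => ?_
        rw [subst_sub hf]
        ring
      rw [h2, ← hc', ← h1, sub_self]
    ext j
    have := uniq_aux f hf hg (j + 1) (fun i => c' i - cs f g i) h0 i j (Nat.lt_succ_self j)
    rw [map_sub, sub_eq_zero] at this
    exact this
  · rintro ⟨n, b, hb⟩
    by_contra hcon
    push_neg at hcon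
    exact not_free_of_forall_mem f hf hcon n b (fun g => (hb g).exists)

end Helpers


/-- Let O be a complete discrete valuation ring whose maximal ideal m contains the prime number p, and
let F be a one-dimensional formal group law over O, with multiplication-by-p series f = [p]_F(X) = X
+_F ⋯ +_F X ∈ O[[X]]. Then f has a coefficient outside m (f is not ≡ 0 mod m) if and only if F is
p-divisible in the sense that O[[X]] is free of finite rank over itself through the substitution
endomorphism X ↦ f: there are finitely many power series b_1, …, b_n such that every power series g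
can be written uniquely as Σ_i c_i(f(X))·b_i. (The published statement asserts instead that F is
p-divisible iff F does not reduce to X + Y modulo m; that is false — over the p-adic integers the
law φ⁻¹(φ(X) + φ(Y)) with φ = X + X^{p+1} is not congruent to X + Y modulo p, yet its
multiplication-by-p series φ⁻¹(pφ(X)) vanishes modulo p — and the printed proof establishes exactly
the criterion on f stated here.) The published setting is the valuation ring of a finite extension
of ℚ_p; the argument uses only that O is a complete discrete valuation ring with p in its maximal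
ideal. -/
theorem result
    (O : Type u) [CommRing O] [IsDomain O] [IsDiscreteValuationRing O]
    [IsAdicComplete (IsLocalRing.maximalIdeal O) O]
    (p : ℕ) [Fact p.Prime] (hp : (p : O) ∈ IsLocalRing.maximalIdeal O)
    (F : FormalGroup O) :
    (∃ n : ℕ, PowerSeries.coeff n
        ((p • (show F.Point Unit from ⟨PowerSeries.X, PowerSeries.HasSubst.X'⟩)).val) ∉
          IsLocalRing.maximalIdeal O) ↔
      ∃ (n : ℕ) (b : Fin n → PowerSeries O), ∀ g : PowerSeries O, ∃! c : Fin n → PowerSeries O,
        g = ∑ i, PowerSeries.subst
          ((p • (show F.Point Unit from ⟨PowerSeries.X, PowerSeries.HasSubst.X'⟩)).val) (c i) * b i := by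
  exact main O p hp F

end Groth.Agent.S18476
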