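import Groth.Statements.S18484
import Mathlib
-- import your own Groth.Agent.* helpers here

set_option autoImplicit false
universe u
open CategoryTheory CategoryTheory.Limits AlgebraicGeometry MonObj
open Neron

namespace Groth.Agent.S18484

section Helpers
open CategoryTheory CategoryTheory.Limits AlgebraicGeometry MonObj
open Neron

/-- `Spec` of an injective ring map is scheme-theoretically dominant. -/
theorem dominant_Spec_map {A B : CommRingCat.{u}} (φ : A ⟶ B) (hφ : Function.Injective φ.hom) :
    IsSchemeTheoreticallyDominant (Spec.map φ) := by
  rw [isSchemeTheoreticallyDominant_iff]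
  apply Scheme.IdealSheafData.ext_of_isAffine
  have hinj : Function.Injective (Spec.map φ).appTop := by
    have h := Scheme.ΓSpecIso_naturality φ
    have h2 : (Spec.map φ).appTop = (Scheme.ΓSpecIso A).hom ≫ φ ≫ (Scheme.ΓSpecIso B).inv := by
      rw [← Category.assoc, ← h, Category.assoc, Iso.hom_inv_id, Category.comp_id]
    rw [h2]
    simp only [CommRingCat.hom_comp, RingHom.coe_comp]
    exact ((ConcreteCategory.bijective_of_isIso (Scheme.ΓSpecIso B).inv).1.comp hφ).comp
      (ConcreteCategory.bijective_of_isIso (Scheme.ΓSpecIso A).hom).1
  rw [(Spec.map φ).ker_apply ⟨⊤, isAffineOpen_top _⟩]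
  simp only [Scheme.IdealSheafData.ideal_bot, Pi.bot_apply]
  rw [← RingHom.injective_iff_ker_eq_bot]
  exact hinj

/-- the generic fibre of a flat scheme is schematically dense: a closed immersion through which
the generic fibre factors is an isomorphism -/
theorem isIso_of_factors (R : Type u) [CommRing R] [IsDomain R]
    {Y Z : Scheme.{u}} (p : Y ⟶ Spec (CommRingCat.of R)) [Flat p]
    (j : Z ⟶ Y) [IsClosedImmersion j]
    (s : pullback p (genPt R) ⟶ Z) (hs : s ≫ j = pullback.fst p (genPt R)) : IsIso j := by
  have : IsSchemeTheoreticallyDominant (genPt R) :=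
    dominant_Spec_map _ (by
      simpa using (IsFractionRing.injective R (FractionRing R)))
  have hdom : IsSchemeTheoreticallyDominant (pullback.fst p (genPt R)) := inferInstance
  rw [IsClosedImmersion.isIso_iff_ker_eq_bot, eq_bot_iff]
  calc j.ker ≤ (s ≫ j).ker := Scheme.Hom.le_ker_comp s j
    _ = ⊥ := by rw [hs]; exact hdom.ker_eq_bot

theorem main (R : Type u) [CommRing R] [IsDedekindDomain R]
    (X G : Over (Spec (CommRingCat.of R)))
    (hX : Neron.IsNeronModelOf R X ((Neron.genericFibre R).obj X) (Iso.refl _))
    (i : G ⟶ X) [IsClosedImmersion i.left] [Smooth G.hom] :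
    Neron.IsNeronModelOf R G ((Neron.genericFibre R).obj G) (Iso.refl _) := by
  obtain ⟨hXs, hXsep, hXft, hXqc, hXmap⟩ := hX
  have hGhom : G.hom = i.left ≫ X.hom := (Over.w i).symm
  have hmono : Mono i := Over.mono_of_mono_left i
  have hmonoK : Mono ((genericFibre R).map i) := inferInstance
  refine ⟨inferInstance, ?_, inferInstance, ?_, ?_⟩
  · rw [hGhom]; infer_instance
  · rw [hGhom]; infer_instance
  · intro Y hY
    constructor
    · intro g₁ g₂ h
      simp only [Iso.refl_hom, Category.comp_id] at h
      have h2 : (genericFibre R).map (g₁ ≫ i) ≫ (Iso.refl _).hom =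
          (genericFibre R).map (g₂ ≫ i) ≫ (Iso.refl _).hom := by
        simp only [Functor.map_comp, h]
      have h3 := (hXmap Y hY).1 h2
      exact (cancel_mono i).mp h3
    · intro h
      obtain ⟨f, hf⟩ := (hXmap Y hY).2 (h ≫ (genericFibre R).map i)
      simp only [Iso.refl_hom, Category.comp_id] at hf
      -- the closed subscheme f⁻¹(G) of Y
      have : Flat Y.hom := inferInstance
      let j : pullback f.left i.left ⟶ Y.left := pullback.fst f.left i.left
      have hcond : pullback.fst Y.hom (genPt R) ≫ f.left =
          (h.left ≫ pullback.fst G.hom (genPt R)) ≫ i.left := by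
        have e1 := congrArg (fun m => m.left ≫ pullback.fst X.hom (genPt R)) hf
        simp only [Over.comp_left, Over.pullback_map_left, Category.assoc,
          pullback.lift_fst] at e1
        rw [e1, Category.assoc]
      let s : pullback Y.hom (genPt R) ⟶ pullback f.left i.left :=
        pullback.lift (pullback.fst Y.hom (genPt R)) (h.left ≫ pullback.fst G.hom (genPt R)) hcond
      have hs : s ≫ j = pullback.fst Y.hom (genPt R) := pullback.lift_fst _ _ _
      have hiso : IsIso j := isIso_of_factors R Y.hom j s hs
      let gl : Y.left ⟶ G.left := inv j ≫ pullback.snd f.left i.left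
      have hgl : gl ≫ i.left = f.left := by
        simp only [gl, Category.assoc, ← pullback.condition]
        rw [IsIso.inv_hom_id_assoc]
      have hgl2 : gl ≫ G.hom = Y.hom := by
        rw [hGhom, ← Category.assoc, hgl, Over.w f]
      refine ⟨Over.homMk gl hgl2, ?_⟩
      simp only [Iso.refl_hom, Category.comp_id]
      rw [← cancel_mono ((genericFibre R).map i), ← Functor.map_comp, ← hf]
      congr 1
      ext
      simpa using hgl

end Helpers


/-- Let R be a Dedekind domain with fraction field K, X a Spec R-scheme which is a Néron model of its
generic fibre X_K, and i : G → X a closed immersion with G smooth over Spec R. Then G is a Néron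
model of its generic fibre G_K: smooth, separated, of finite type, and for every smooth Spec
R-scheme Y restriction to generic fibres is a bijection from R-morphisms Y → G onto K-morphisms Y_K
→ G_K. (The source states this for a closed subgroup scheme of a Néron model; the group laws play no
part and are not assumed. The converse direction of the source, that a Néron model is a closed
subgroup of a Néron model, is immediate and not stated.) -/
theorem result (R : Type u) [CommRing R] [IsDedekindDomain R]
    (X G : Over (Spec (CommRingCat.of R))) (hX : Neron.IsNeronModelOf R X ((Neron.genericFibre R).obj X) (Iso.refl _))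
    (i : G ⟶ X) [IsClosedImmersion i.left] [Smooth G.hom] :
    Neron.IsNeronModelOf R G ((Neron.genericFibre R).obj G) (Iso.refl _) := by
  exact main R X G hX i

end Groth.Agent.S18484
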