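import Groth.Statements.S18485
import Groth.Agent.H99.QFGenericFibre

set_option autoImplicit false
universe u
open CategoryTheory CategoryTheory.Limits AlgebraicGeometry MonObj
open Neron

namespace Groth.Agent.S18485

/-- Let R be a Dedekind domain with fraction field K and H a Spec R-scheme which is flat and locally of
finite type over Spec R. If the generic fibre H_K is locally quasi-finite over K, then H is locally
quasi-finite over Spec R. (The published statement is about the schematic closure, in an S-group
algebraic space of finite type over a connected Dedekind scheme S, of a finite subgroup of the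
generic fibre, which it asserts to be a quasi-finite S-group; this row is the statement about flat
schemes locally of finite type over an affine Dedekind base on which that rests. Locally
quasi-finite is meant here without a finite type clause, which is assumed separately.) -/
theorem result (R : Type u) [CommRing R]
    [IsDedekindDomain R] (H : Over (Spec (CommRingCat.of R))) [Flat H.hom] [LocallyOfFiniteType H.hom]
    [LocallyQuasiFinite ((Neron.genericFibre R).obj H).hom] : LocallyQuasiFinite H.hom := by
  have : IsDomain R := inferInstance
  let g := Neron.genPt R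
  have hq : LocallyQuasiFinite (pullback.snd H.hom g) :=
    ‹LocallyQuasiFinite ((Neron.genericFibre R).obj H).hom›
  have : IsPreimmersion g := IsPreimmersion.of_isLocalization (nonZeroDivisors R)
  have : Subsingleton ↥(Spec (CommRingCat.of (FractionRing R))) :=
    inferInstanceAs (Subsingleton (PrimeSpectrum (FractionRing R)))
  rw [← Scheme.Hom.quasiFiniteLocus_eq_top_iff, eq_top_iff]
  intro x _
  rw [Scheme.Hom.mem_quasiFiniteLocus]
  -- the generic point of `Spec R`
  let pt : ↥(Spec (CommRingCat.of R)) := ⟨⊥, Ideal.isPrime_bot⟩
  let ptK : ↥(Spec (CommRingCat.of (FractionRing R))) := ⟨⊥, Ideal.isPrime_bot⟩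
  have hgpt : g ptK = pt := by
    apply PrimeSpectrum.ext
    change Ideal.comap (algebraMap R (FractionRing R)) ⊥ = ⊥
    exact Ideal.comap_bot_of_injective _ (IsFractionRing.injective R (FractionRing R))
  -- the local rings of `Spec R` have dimension `≤ 1`
  have hdim : ringKrullDim ((Spec (CommRingCat.of R)).presheaf.stalk (H.hom x)) ≤ 1 := by
    let y : PrimeSpectrum R := H.hom x
    have hloc := StructureSheaf.IsLocalization.to_stalk R y
    have e := IsLocalization.algEquiv y.asIdeal.primeCompl
      ((Spec.structureSheaf R).presheaf.stalk y)
      (Localization.AtPrime y.asIdeal)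
    have h1 : ringKrullDim ((Spec (CommRingCat.of R)).presheaf.stalk (H.hom x)) =
        ringKrullDim (Localization.AtPrime y.asIdeal) :=
      ringKrullDim_eq_of_ringEquiv e.toRingEquiv
    rw [h1, IsLocalization.AtPrime.ringKrullDim_eq_height y.asIdeal
      (Localization.AtPrime y.asIdeal)]
    exact (Ideal.height_le_ringKrullDim_of_ne_top y.2.ne_top).trans
      (Ring.krullDimLE_iff.mp inferInstance)
  refine Groth.Agent.H99.QFCodimOne.quasiFiniteAt_of_codim_le_one H.hom x hdim ?_
  intro Z hZ z hz
  -- `z` maps to the generic point, by flatness
  have hpt : pt ⤳ H.hom z :=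
    (PrimeSpectrum.le_iff_specializes (R := R) pt (H.hom z)).mp bot_le
  obtain ⟨z₀, hz₀z, hz₀⟩ := Flat.generalizingMap H.hom hpt
  have hz₀eq : z₀ = z := by
    have hirr : IsIrreducible (closure {z₀}) := isIrreducible_singleton.closure
    have hle : Z ≤ closure {z₀} := by
      rw [← hz.def]
      exact specializes_iff_closure_subset.mp hz₀z
    have hge : closure {z₀} ≤ Z := hZ.2 hirr hle
    have hz₀gen : IsGenericPoint z₀ Z := le_antisymm hge hle
    exact hz₀gen.eq hz
  rw [hz₀eq] at hz₀
  refine Groth.Agent.H99.QFCodimOne.quasiFiniteAt_of_pullback_subsingleton H.hom g z ?_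
  exact ⟨ptK, by rw [hgpt, hz₀]⟩

end Groth.Agent.S18485
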