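import Groth.Statements.S1849
import Groth.Agent.H63.TameN

set_option autoImplicit false
universe u
open CycAlg IsLocalRing Groth.Agent.H63.Tame

set_option linter.style.haveILetI false

namespace Groth.Agent.S1849

/-- Let A be a Noetherian local ring of dimension 1 and A ⊆ B a finite extension with B/A killed by a
power of the maximal ideal 𝔪 and 𝔪 not an associated prime of the A-module B. For nonzerodivisors a,
b of A, ∂_A(a, b) is the product over the maximal ideals 𝔪_j of B of the norms from κ(𝔪_j) to κ of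
∂_{B_{𝔪_j}}(a, b). -/
theorem result (A : Type u) [CommRing A] [IsNoetherianRing A] [IsLocalRing A] (hA : ringKrullDim A = 1) (B : Type u) [CommRing B] [Algebra A B] (hB : CycAlg.IsFinExt A B (IsLocalRing.maximalIdeal A)) (hass : IsLocalRing.maximalIdeal A ∉ associatedPrimes A B) [hloc : ∀ q : MaximalSpectrum B, IsLocalHom (algebraMap A (Localization.AtPrime q.asIdeal))] (a b : A) (ha : a ∈ nonZeroDivisors A) (hb : b ∈ nonZeroDivisors A) : CycAlg.tameSymbol A a b = ∏ᶠ q : MaximalSpectrum B, Algebra.norm (IsLocalRing.ResidueField A) (CycAlg.tameSymbol (Localization.AtPrime q.asIdeal) (algebraMap A (Localization.AtPrime q.asIdeal) a) (algebraMap A (Localization.AtPrime q.asIdeal) b)) := by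
  classical
  haveI : Module.Finite A B := hB.2.1
  haveI : IsNoetherianRing B := IsNoetherianRing.of_finite A B
  have hA' : ringKrullDim A ≤ 1 := hA.le
  by_cases hu : IsUnit a ∧ IsUnit b
  · rw [tameSymbol_of_isUnit hu.1 hu.2]
    symm
    refine finprod_eq_one_of_forall_eq_one fun q => ?_
    rw [tameSymbol_of_isUnit (hu.1.map _) (hu.2.map _), map_one]
  -- the nonunit case
  obtain ⟨a₀, ha₀def⟩ : ∃ a₀ : A, a₀ = a * b := ⟨_, rfl⟩
  have ha₀ : a₀ ∈ nonZeroDivisors A := ha₀def ▸ mul_mem ha hb
  have ha₀m : a₀ ∈ maximalIdeal A := by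
    rw [ha₀def, mem_maximalIdeal, mem_nonunits_iff]
    intro h
    exact hu (IsUnit.mul_iff.1 h)
  have ha₀B : algebraMap A B a₀ ∈ nonZeroDivisors B := regular_of_not_ass hB hass ha₀
  have haB : algebraMap A B a ∈ nonZeroDivisors B := regular_of_not_ass hB hass ha
  have hbB : algebraMap A B b ∈ nonZeroDivisors B := regular_of_not_ass hB hass hb
  obtain ⟨hinj, hfinB, n, hn⟩ := hB
  have hn2 : ∀ β : B, ∃ c : A, algebraMap A B c = algebraMap A B a₀ ^ n * β := by
    intro β
    obtain ⟨c, hc⟩ := hn _ (Ideal.pow_mem_pow ha₀m n) β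
    exact ⟨c, by rw [hc, Algebra.smul_def, map_pow]⟩
  obtain ⟨ι, hι, -⟩ := exists_embedding a₀ B hinj ha₀B n hn2
  haveI : Module.Finite A ι.range :=
    Module.Finite.of_surjective ι.rangeRestrict.toLinearMap ι.rangeRestrict_surjective
  have hdvd : ∀ i : Fin 2, ![a, b] i ∣ a₀ := by
    intro i
    fin_cases i
    · exact ⟨b, ha₀def⟩
    · exact ⟨a, by rw [ha₀def, mul_comm]; rfl⟩
  obtain ⟨C, hle, hfinC, hC⟩ :=
    exists_factorizations_over hA' 2 ![a, b] a₀ ha₀ ha₀m hdvd ι.range
  haveI := hfinC
  choose π hπ hfac using hC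
  have hfeC : IsFinExt A C (maximalIdeal A) := isFinExt_subalgebra hA' a₀ ha₀ C
  have F : ∀ l : MaximalSpectrum C,
      Fac (Localization.AtPrime l.asIdeal) (π l) (algebraMap A _ a) := fun l =>
    ⟨(hfac l 0).choose, (hfac l 0).choose_spec.choose, (hfac l 0).choose_spec.choose_spec⟩
  have G : ∀ l : MaximalSpectrum C,
      Fac (Localization.AtPrime l.asIdeal) (π l) (algebraMap A _ b) := fun l =>
    ⟨(hfac l 1).choose, (hfac l 1).choose_spec.choose, (hfac l 1).choose_spec.choose_spec⟩
  -- `C` as a `B`-algebra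
  let f : B →ₐ[A] C := (Subalgebra.inclusion hle).comp ι.rangeRestrict
  have hf : Function.Injective f := by
    intro x y hxy
    apply hι
    have := congrArg (Subtype.val) hxy
    exact this
  letI : Algebra B C := f.toRingHom.toAlgebra
  haveI : IsScalarTower A B C := IsScalarTower.of_algebraMap_eq fun x => (f.commutes x).symm
  haveI : Module.Finite B C := Module.Finite.of_restrictScalars_finite A B C
  haveI hCloc : ∀ l : MaximalSpectrum C,
      IsLocalHom (algebraMap A (Localization.AtPrime l.asIdeal)) := isLocalHom_algebraMap C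
  have hinjBC : Function.Injective (algebraMap B C) := hf
  -- the conductor
  obtain ⟨k, hk'⟩ := hfeC.2.2
  have hk : ∀ c : C, ∃ β : B, algebraMap B C β = algebraMap A C a₀ ^ k * c := by
    intro c
    obtain ⟨x, hx⟩ := hk' (a₀ ^ k) (Ideal.pow_mem_pow ha₀m k) c
    refine ⟨algebraMap A B x, ?_⟩
    rw [← IsScalarTower.algebraMap_apply A B C, hx, Algebra.smul_def, map_pow]
  -- per `q`
  have key : ∀ q : MaximalSpectrum B,
      Algebra.norm (ResidueField A)
        (tameSymbol (Localization.AtPrime q.asIdeal)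
          (algebraMap A (Localization.AtPrime q.asIdeal) a)
          (algebraMap A (Localization.AtPrime q.asIdeal) b)) =
      ∏ᶠ (l : MaximalSpectrum C) (_ : l.asIdeal.comap (algebraMap B C) = q.asIdeal),
        Algebra.norm (ResidueField A) (Fac.th (F l) (G l)) ^
          (Ring.ord (Localization.AtPrime l.asIdeal) (π l)).toNat := by
    intro q
    haveI : Ring.KrullDimLE 1 (Localization.AtPrime q.asIdeal) :=
      krullDimLE_one_localization (A := A) B hA' q.asIdeal
    have hR : ringKrullDim (Localization.AtPrime q.asIdeal) = 1 :=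
      ringKrullDim_eq_one (algebraMap_mem_nonZeroDivisors_R (A := A) q ha₀B)
        (algebraMap_mem_maximalIdeal_R (A := A) q ha₀m)
    exact norm_tameSymbol_loc q (isFinExt_Cq C q hA' hinjBC a₀ ha₀B k hk) hR π hπ
      (algebraMap_mem_nonZeroDivisors_R (A := A) q haB)
      (algebraMap_mem_nonZeroDivisors_R (A := A) q hbB) F G
  simp_rw [key]
  rw [tameSymbol_eq hA ha hb
    (Base.tame { B := C, isFinExt := hfeC, π := π, π_mem := hπ } F G)]
  change ∏ᶠ l : MaximalSpectrum C, Algebra.norm (ResidueField A) (Fac.th (F l) (G l)) ^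
    (Ring.ord (Localization.AtPrime l.asIdeal) (π l)).toNat = _
  haveI : Finite (MaximalSpectrum B) := finite_maximalSpectrum (A := A) B
  haveI := Fintype.ofFinite (MaximalSpectrum B)
  haveI : Finite (MaximalSpectrum C) := finite_maximalSpectrum (A := A) C
  haveI := Fintype.ofFinite (MaximalSpectrum C)
  simp only [finprod_eq_prod_of_fintype, finprod_eq_if]
  rw [Finset.prod_comm]
  refine Finset.prod_congr rfl fun l _ => ?_
  symm
  rw [Finset.prod_eq_single (jmap f l)]
  · rw [if_pos]
    rfl
  · intro q _ hq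
    rw [if_neg]
    intro h
    exact hq (MaximalSpectrum.ext h.symm)
  · intro h
    exact absurd (Finset.mem_univ _) h

end Groth.Agent.S1849
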