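import Groth.Statements.S18490
import Mathlib.Tactic
-- import your own Groth.Agent.* helpers here

set_option autoImplicit false
universe u
open CategoryTheory CategoryTheory.Limits AlgebraicGeometry
open FlatMor

namespace Groth.Agent.S18490

theorem flat_of_retract {R A B : Type*} [CommRing R] [CommRing A] [CommRing B]
    (a : R →+* A) (b : A →+* B) (c : B →+* A) (hcb : c.comp b = RingHom.id A)
    (h : (b.comp a).Flat) : a.Flat := by
  algebraize [a, b.comp a]
  have hcb' : ∀ x, c (b x) = x := fun x => by
    have := congrArg (fun φ => φ x) hcb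
    simpa using this
  let i : A →ₗ[R] B :=
    { toFun := b
      map_add' := map_add b
      map_smul' := fun r x => by
        simp only [Algebra.smul_def, map_mul, RingHom.id_apply]
        rfl }
  let r : B →ₗ[R] A :=
    { toFun := c
      map_add' := map_add c
      map_smul' := fun t x => by
        simp only [Algebra.smul_def, map_mul, RingHom.id_apply]
        congr 1
        exact hcb' (a t) }
  have : Module.Flat R B := h
  exact Module.Flat.of_retract i r (by ext x; exact hcb' x)

/-- If `σ ≫ p = 𝟙` and `p ≫ f` is flat then `f` is flat. -/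
theorem flat_of_section {X Z S : Scheme.{u}} (f : X ⟶ S) (p : Z ⟶ X) (σ : X ⟶ Z)
    (hσ : σ ≫ p = 𝟙 X) [Flat (p ≫ f)] : Flat f := by
  have key : ∀ x : X, (f.stalkMap (p (σ x))).hom.Flat := by
    intro x
    have h1 : ((p ≫ f).stalkMap (σ x)).hom.Flat := Flat.stalkMap (p ≫ f) (σ x)
    rw [Scheme.Hom.stalkMap_comp] at h1
    have hx : p (σ x) = x := by
      have := congrArg (fun φ : X ⟶ X => φ x) hσ
      simpa using this
    have h2 : p.stalkMap (σ x) ≫ σ.stalkMap x = (X.presheaf.stalkCongr (.of_eq hx)).hom := by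
      have h3 := Scheme.Hom.stalkMap_congr_hom (σ ≫ p) (𝟙 X) hσ x
      rw [Scheme.Hom.stalkMap_id] at h3
      erw [Category.comp_id] at h3
      rw [Scheme.Hom.stalkMap_comp] at h3
      exact h3
    refine flat_of_retract (f.stalkMap (p (σ x))).hom (p.stalkMap (σ x)).hom
      ((σ.stalkMap x) ≫ (X.presheaf.stalkCongr (.of_eq hx)).inv).hom ?_ h1
    rw [← CommRingCat.hom_comp, ← Category.assoc, h2]
    simp
  rw [Flat.iff_flat_stalkMap]
  intro x
  have hx : p (σ x) = x := by
    have := congrArg (fun φ : X ⟶ X => φ x) hσ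
    simpa using this
  have := key x
  rw [hx] at this
  exact this

theorem quasiCompact_of_section {X Z S : Scheme.{u}} (f : X ⟶ S) (p : Z ⟶ X) (σ : X ⟶ Z)
    (hσ : σ ≫ p = 𝟙 X) [QuasiCompact (p ≫ f)] : QuasiCompact f := by
  constructor
  intro U hU hU'
  have h1 : IsCompact ((p ≫ f) ⁻¹' U) := QuasiCompact.isCompact_preimage U hU hU'
  have hp : Function.Surjective p := by
    intro x
    refine ⟨σ x, ?_⟩
    have := congrArg (fun φ : X ⟶ X => φ x) hσ
    simpa using this
  have h2 : f ⁻¹' U = p '' ((p ≫ f) ⁻¹' U) := by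
    ext x
    constructor
    · intro hx
      obtain ⟨z, rfl⟩ := hp x
      exact ⟨z, by simpa using hx, rfl⟩
    · rintro ⟨z, hz, rfl⟩
      simpa using hz
  rw [h2]
  exact h1.image p.continuous

theorem main {X Y S : Scheme.{u}} (f : X ⟶ S) (g : Y ⟶ S)
    (y : S ⟶ Y) (hy : y ≫ g = 𝟙 S) :
    (QuasiCompact (pullback.fst f g ≫ f) → QuasiCompact f) ∧
    (LocallyOfFiniteType (pullback.fst f g ≫ f) → LocallyOfFiniteType f) ∧
    (IsSeparated (pullback.fst f g ≫ f) → IsSeparated f) ∧
    (Flat (pullback.fst f g ≫ f) → Flat f) := by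
  let σ : X ⟶ pullback f g := pullback.lift (𝟙 X) (f ≫ y) (by simp [hy])
  have hσ : σ ≫ pullback.fst f g = 𝟙 X := pullback.lift_fst _ _ _
  have hf : f = σ ≫ (pullback.fst f g ≫ f) := by rw [← Category.assoc, hσ, Category.id_comp]
  refine ⟨fun _ => quasiCompact_of_section f _ σ hσ, fun _ => ?_, fun _ => ?_,
    fun _ => flat_of_section f _ σ hσ⟩
  · have : LocallyOfFiniteType (σ ≫ pullback.fst f g) := by rw [hσ]; infer_instance
    have : LocallyOfFiniteType σ := locallyOfFiniteType_of_comp σ (pullback.fst f g)
    rw [hf]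
    infer_instance
  · have : IsSeparated (σ ≫ pullback.fst f g) := by rw [hσ]; infer_instance
    have : IsSeparated σ := IsSeparated.of_comp σ (pullback.fst f g)
    rw [hf]
    infer_instance


/-- Let f : X → S and g : Y → S be morphisms of schemes and suppose that g has a section y : S → Y. If
the structure morphism X ×_S Y → S (first projection followed by f) is quasi-compact, then so is f;
likewise for locally of finite type, for separated, and for flat. (Finite type, also listed in the
source, is the conjunction of the first two.) -/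
theorem result {X Y S : Scheme.{u}} (f : X ⟶ S) (g : Y ⟶ S)
    (y : S ⟶ Y) (hy : y ≫ g = 𝟙 S) :
    (QuasiCompact (pullback.fst f g ≫ f) → QuasiCompact f) ∧
    (LocallyOfFiniteType (pullback.fst f g ≫ f) → LocallyOfFiniteType f) ∧
    (IsSeparated (pullback.fst f g ≫ f) → IsSeparated f) ∧
    (Flat (pullback.fst f g ≫ f) → Flat f) := by
  exact main f g y hy

end Groth.Agent.S18490
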