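import Groth.Statements.S18498
import Mathlib.Tactic
import Mathlib.AlgebraicGeometry.Morphisms.SchemeTheoreticallyDominant
-- import your own Groth.Agent.* helpers here

set_option autoImplicit false
universe u
open CategoryTheory CategoryTheory.Limits AlgebraicGeometry MonObj
open Neron

namespace Groth.Agent.S18498

section Helpers
open CategoryTheory CategoryTheory.Limits AlgebraicGeometry

/-- Scheme-theoretically dominant version of `ext_of_isDominant_of_isSeparated`. -/
theorem ext_of_schemeDominant {W X Y Z : Scheme.{u}} {f g : X ⟶ Y}
    (s : Y ⟶ Z) [IsSeparated s] (h : f ≫ s = g ≫ s)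
    (j : W ⟶ X) [IsSchemeTheoreticallyDominant j] (hU : j ≫ f = j ≫ g) : f = g := by
  let X' : Over Z := Over.mk (f ≫ s)
  let Y' : Over Z := Over.mk s
  let U' : Over Z := Over.mk (j ≫ f ≫ s)
  let f' : X' ⟶ Y' := Over.homMk f
  let g' : X' ⟶ Y' := Over.homMk g
  let j' : U' ⟶ X' := Over.homMk j
  have : IsSeparated Y'.hom := ‹_›
  have hl : (equalizer.lift j' (show j' ≫ f' = j' ≫ g' by ext1; exact hU)).left ≫
      (equalizer.ι f' g').left = j := by
    rw [← Over.comp_left, equalizer.lift_ι]
    rfl
  have hk : (equalizer.ι f' g').left.ker = ⊥ := by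
    have h1 := Scheme.Hom.le_ker_comp
      (equalizer.lift j' (show j' ≫ f' = j' ≫ g' by ext1; exact hU)).left (equalizer.ι f' g').left
    rw [hl, IsSchemeTheoreticallyDominant.ker_eq_bot j] at h1
    exact le_bot_iff.mp h1
  have : IsIso (equalizer.ι f' g').left := (IsClosedImmersion.isIso_iff_ker_eq_bot).mpr hk
  rw [← cancel_epi (equalizer.ι f' g').left]
  exact congr($(equalizer.condition f' g').left)

theorem isDominant_genPt (R : Type u) [CommRing R] [IsDomain R] :
    IsDominant (Neron.genPt R) := by
  rw [isDominant_iff]
  change DenseRange (PrimeSpectrum.comap (algebraMap R (FractionRing R)))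
  rw [PrimeSpectrum.denseRange_comap_iff_ker_le_nilRadical]
  rw [(RingHom.injective_iff_ker_eq_bot _).mp (IsFractionRing.injective R (FractionRing R))]
  exact bot_le

theorem main (R : Type u) [CommRing R] [IsDedekindDomain R]
    (X Y : Over (Spec (CommRingCat.of R))) [Flat X.hom] [IsSeparated Y.hom] (f g : X ⟶ Y)
    (h : (Neron.genericFibre R).map f = (Neron.genericFibre R).map g) : f = g := by
  have := isDominant_genPt R
  have : IsSchemeTheoreticallyDominant (Neron.genPt R) := .of_isDominant _
  have hfst : IsSchemeTheoreticallyDominant (pullback.fst X.hom (Neron.genPt R)) := inferInstance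
  ext1
  refine ext_of_schemeDominant Y.hom (by rw [Over.w f, Over.w g]) (pullback.fst X.hom (Neron.genPt R)) ?_
  have h1 := congrArg (fun φ => φ.left ≫ pullback.fst Y.hom (Neron.genPt R)) h
  simp only [Over.pullback_map_left] at h1
  rw [pullback.lift_fst, pullback.lift_fst] at h1
  exact h1

end Helpers


/-- Let R be a Dedekind domain with fraction field K, X a Spec R-scheme which is flat over Spec R, Y a
Spec R-scheme which is separated over Spec R, and f, g : X → Y two R-morphisms whose restrictions to
generic fibres X_K → Y_K are equal. Then f = g: an R-morphism from a flat R-scheme to a separated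
R-scheme is determined by its generic fibre. (The source states this for algebraic spaces over a
connected Dedekind scheme; the case of schemes over an affine base is stated.) -/
theorem result (R : Type u) [CommRing R] [IsDedekindDomain R]
    (X Y : Over (Spec (CommRingCat.of R))) [Flat X.hom] [IsSeparated Y.hom] (f g : X ⟶ Y)
    (h : (Neron.genericFibre R).map f = (Neron.genericFibre R).map g) : f = g := by
  exact main R X Y f g h

end Groth.Agent.S18498
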