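import Groth.Statements.S18538
import Mathlib.RingTheory.Flat.FaithfullyFlat.Basic
import Mathlib.RingTheory.IntegralClosure.IntegrallyClosed

set_option autoImplicit false
universe u
open EtAlg
open scoped TensorProduct

namespace Groth.Agent.S18538

/-- Let A ⊆ B be an injective finite extension of integrally closed domains, with fraction fields K ⊆ L
and L separable over K. Then A → B → B ⊗_A B is exact, the second map being b ↦ b ⊗ 1 - 1 ⊗ b: every
element of B whose two images in B ⊗_A B agree comes from A. -/
theorem result
    (A B K L : Type u) [CommRing A] [CommRing B] [IsDomain A] [IsDomain B]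
    [IsIntegrallyClosed A] [IsIntegrallyClosed B] [Algebra A B] [FaithfulSMul A B] [Module.Finite A B]
    [Field K] [Field L] [Algebra A K] [IsFractionRing A K] [Algebra B L] [IsFractionRing B L]
    [Algebra K L] [Algebra A L] [IsScalarTower A K L] [IsScalarTower A B L]
    [Algebra.IsSeparable K L] :
    Algebra.IsEffective A B := by
  intro b
  refine ⟨?_, fun h => Algebra.TensorProduct.includeLeftSubRight_zero_of_mem_range h⟩
  intro hb
  -- the comparison map B ⊗[A] B → L ⊗[K] L
  let φ : B ⊗[A] B →ₗ[A] L ⊗[K] L :=
    TensorProduct.lift
      { toFun := fun x =>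
          { toFun := fun y => (algebraMap B L x) ⊗ₜ[K] (algebraMap B L y)
            map_add' := fun y y' => by rw [map_add, TensorProduct.tmul_add]
            map_smul' := fun a y => by
              rw [RingHom.id_apply, Algebra.smul_def, map_mul, ← IsScalarTower.algebraMap_apply A B L,
                IsScalarTower.algebraMap_apply A K L, ← Algebra.smul_def, TensorProduct.tmul_smul,
                algebraMap_smul] }
        map_add' := fun x x' => by
          ext y
          simp only [LinearMap.coe_mk, AddHom.coe_mk, LinearMap.add_apply, map_add,
            TensorProduct.add_tmul]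
        map_smul' := fun a x => by
          ext y
          simp only [LinearMap.coe_mk, AddHom.coe_mk, LinearMap.smul_apply, RingHom.id_apply]
          rw [Algebra.smul_def, map_mul, ← IsScalarTower.algebraMap_apply A B L,
            IsScalarTower.algebraMap_apply A K L, ← Algebra.smul_def, TensorProduct.smul_tmul',
            algebraMap_smul] }
  have hφ : ∀ x y : B, φ (x ⊗ₜ[A] y) = (algebraMap B L x) ⊗ₜ[K] (algebraMap B L y) := fun x y => by
    simp [φ]
  have h1 : Algebra.TensorProduct.includeLeftSubRight K L (algebraMap B L b) = 0 := by
    have := congrArg φ hb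
    rw [Algebra.TensorProduct.includeLeftSubRight_apply, map_sub, hφ, hφ, map_one, map_zero] at this
    rw [Algebra.TensorProduct.includeLeftSubRight_apply]
    exact this
  have heff : Algebra.IsEffective K L := Algebra.IsEffective.of_faithfullyFlat K L
  obtain ⟨k, hk⟩ := (heff (algebraMap B L b)).mp h1
  have hk' : algebraMap K L k = algebraMap B L b := hk
  -- k is integral over A
  have hbint : IsIntegral A b := Algebra.IsIntegral.isIntegral b
  have hLint : IsIntegral A (algebraMap B L b) := hbint.algebraMap
  rw [← hk'] at hLint
  have hkint : IsIntegral A k :=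
    (isIntegral_algHom_iff (IsScalarTower.toAlgHom A K L) (algebraMap K L).injective).mp hLint
  obtain ⟨a, ha⟩ := IsIntegrallyClosed.isIntegral_iff.mp hkint
  refine ⟨a, ?_⟩
  apply IsFractionRing.injective B L
  rw [Algebra.linearMap_apply, ← IsScalarTower.algebraMap_apply A B L,
    IsScalarTower.algebraMap_apply A K L, ha, hk']

end Groth.Agent.S18538
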