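import Groth.Statements.S18539
import Mathlib.RingTheory.Regular.RegularSequence
import Mathlib.RingTheory.Regular.IsSMulRegular
import Mathlib.Algebra.Module.Submodule.Pointwise

set_option autoImplicit false
universe u v w
open CAlg
open Pointwise

namespace Groth.Agent.S18539

/-- For a commutative ring R, R-modules M and N and elements r₁, r₂ of R such that r₁ is a
non-zero-divisor on N and r₂ is a non-zero-divisor on N/r₁N, the element r₁ is a non-zero-divisor on
the module Hom_R(M, N) and r₂ is a non-zero-divisor on Hom_R(M, N)/r₁Hom_R(M, N). (Weak regularity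
on both sides: no condition that the quotient by (r₁, r₂) is nonzero, which would fail for M = 0.) -/
theorem result
    (R : Type u) [CommRing R] (M : Type v) (N : Type w)
    [AddCommGroup M] [Module R M] [AddCommGroup N] [Module R N]
    (r₁ r₂ : R) (h : RingTheory.Sequence.IsWeaklyRegular N [r₁, r₂]) :
    RingTheory.Sequence.IsWeaklyRegular (M →ₗ[R] N) [r₁, r₂] := by
  rw [RingTheory.Sequence.isWeaklyRegular_cons_iff,
    RingTheory.Sequence.isWeaklyRegular_singleton_iff] at h ⊢
  obtain ⟨h1, h2⟩ := h
  have hreg1 : IsSMulRegular (M →ₗ[R] N) r₁ := by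
    intro f g hfg
    ext m
    apply h1
    simpa using LinearMap.congr_fun hfg m
  refine ⟨hreg1, ?_⟩
  rw [isSMulRegular_quotient_iff_mem_of_smul_mem] at h2 ⊢
  intro f hf
  rw [Submodule.mem_smul_pointwise_iff_exists] at hf ⊢
  obtain ⟨g, -, hg⟩ := hf
  -- for every m, f m ∈ r₁ • ⊤
  have hfm : ∀ m, f m ∈ LinearMap.range (LinearMap.lsmul R N r₁) := by
    intro m
    have : r₂ • f m ∈ r₁ • (⊤ : Submodule R N) := by
      rw [Submodule.mem_smul_pointwise_iff_exists]
      exact ⟨g m, trivial, by simpa using LinearMap.congr_fun hg m⟩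
    have := h2 (f m) this
    rw [Submodule.mem_smul_pointwise_iff_exists] at this
    obtain ⟨n, -, hn⟩ := this
    exact ⟨n, by simpa using hn⟩
  have hinj : Function.Injective (LinearMap.lsmul R N r₁) := by
    intro a b hab
    apply h1
    simpa using hab
  refine ⟨((LinearEquiv.ofInjective (LinearMap.lsmul R N r₁) hinj).symm : _ →ₗ[R] N).comp
    (f.codRestrict _ hfm), trivial, ?_⟩
  ext m
  have := (LinearEquiv.ofInjective (LinearMap.lsmul R N r₁) hinj).apply_symm_apply
    (f.codRestrict _ hfm m)
  have h3 := congrArg Subtype.val this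
  rw [LinearEquiv.ofInjective_apply] at h3
  exact h3

end Groth.Agent.S18539
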