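import Groth.Statements.S18543
import Mathlib
-- import your own Groth.Agent.* helpers here

set_option autoImplicit false
universe u
open Hopf

namespace Groth.Agent.S18543

section Helpers
open Hopf TensorProduct

section pts
variable (k : Type u) [Field k] (A : Type u) [CommRing A] [Algebra k A] [Module.Finite k A]
  [Algebra.Etale k A]
variable (K : Type u) [Field K] [Algebra k K] [IsAlgClosed K]

theorem exists_points : ∃ (I : Type u) (_ : Fintype I) (γ : I → (A →ₐ[k] K)),
    Function.Injective γ ∧ Fintype.card I = Module.finrank k A ∧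
    ∀ ψ : A →ₗ[k] K, ∃ d : I → K, ∀ a, ψ a = ∑ i, d i * γ i a := by
  classical
  let AK := K ⊗[k] A
  have : Algebra.Etale K AK := inferInstance
  let e : AK ≃ₐ[K] (PrimeSpectrum AK → K) := Algebra.FormallyEtale.equivPiOfIsSepClosed K AK
  have : IsArtinianRing AK := IsArtinianRing.of_finite K AK
  have : Finite (PrimeSpectrum AK) := inferInstance
  let _ : Fintype (PrimeSpectrum AK) := Fintype.ofFinite _
  let E : PrimeSpectrum AK → (AK →ₐ[K] K) := fun i =>
    (Pi.evalAlgHom K (fun _ : PrimeSpectrum AK => K) i).comp e.toAlgHom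
  let γ : PrimeSpectrum AK → (A →ₐ[k] K) := fun i =>
    ((E i).restrictScalars k).comp (Algebra.TensorProduct.includeRight)
  refine ⟨PrimeSpectrum AK, inferInstance, γ, ?_, ?_, ?_⟩
  · intro i j hij
    have hE : E i = E j := by
      apply Algebra.TensorProduct.ext
      · ext
      · exact hij
    have h1 : E i (e.symm (Pi.single i 1)) = E j (e.symm (Pi.single i 1)) := by rw [hE]
    have h2 : ∀ (l : PrimeSpectrum AK) (x : PrimeSpectrum AK → K), E l (e.symm x) = x l := by
      intro l x
      change e (e.symm x) l = x l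
      rw [AlgEquiv.apply_symm_apply]
    rw [h2, h2, Pi.single_eq_same] at h1
    by_contra hne
    rw [Pi.single_eq_of_ne (Ne.symm hne)] at h1
    exact one_ne_zero h1
  · have h1 : Module.finrank K AK = Module.finrank k A := Module.finrank_baseChange
    have h2 : Module.finrank K AK = Module.finrank K (PrimeSpectrum AK → K) :=
      LinearEquiv.finrank_eq e.toLinearEquiv
    rw [← h1, h2, Module.finrank_fintype_fun_eq_card]
  · intro ψ
    let ψK : AK →ₗ[K] K := LinearMap.liftBaseChange K ψ
    let L : (PrimeSpectrum AK → K) →ₗ[K] K := ψK ∘ₗ e.symm.toLinearMap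
    refine ⟨fun i => L (fun j => if i = j then 1 else 0), fun a => ?_⟩
    have h1 : ψ a = L (e ((1 : K) ⊗ₜ[k] a)) := by
      simp only [L, ψK, LinearMap.comp_apply, AlgEquiv.toLinearMap_apply, AlgEquiv.symm_apply_apply]
      rw [LinearMap.liftBaseChange_tmul, one_smul]
    rw [h1, LinearMap.pi_apply_eq_sum_univ L]
    refine Finset.sum_congr rfl fun i _ => ?_
    simp only [γ, E, AlgHom.comp_apply, AlgHom.restrictScalars_apply, smul_eq_mul, mul_comm]
    rfl

end pts

section hopf
variable (p : ℕ) [Fact p.Prime] (k : Type u) [Field k] [CharP k p] (A : Type u) [CommRing A]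
  [HopfAlgebra k A] [Coalgebra.IsCocomm k A] [Module.Finite k A] [Algebra.Etale k A]
variable (K : Type u) [Field K] [Algebra k K] [IsAlgClosed K]

open Algebra Coalgebra Bialgebra HopfAlgebra TensorProduct WithConv in
noncomputable instance ptsGroup : Group (WithConv (A →ₐ[k] K)) :=
  { (inferInstance : Monoid (WithConv (A →ₐ[k] K))) with
    inv := fun f => toConv <| f.ofConv.comp (HopfAlgebra.antipodeAlgHom k A)
    inv_mul_cancel := fun f => by
      have H : (lmul' k).comp (Algebra.TensorProduct.map f.ofConv f.ofConv) =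
        f.ofConv.comp (lmul' k) := by ext <;> simp
      trans toConv <| ((lmul' k).comp (Algebra.TensorProduct.map f.ofConv f.ofConv)).comp
        ((Algebra.TensorProduct.map
        (HopfAlgebra.antipodeAlgHom k A) (.id _ _)).comp (comulAlgHom k A))
      · rw [AlgHom.comp_assoc, ← AlgHom.comp_assoc (Algebra.TensorProduct.map f.ofConv f.ofConv),
          ← Algebra.TensorProduct.map_comp]; rfl
      rw [H, AlgHom.comp_assoc, WithConv.ext_iff, ← AlgHom.toLinearMap_injective.eq_iff]
      change f.ofConv.toLinearMap.comp (toConv (antipode k (A := A)) * toConv LinearMap.id).ofConv =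
        ofConv (1 : WithConv <| A →ₗ[k] K)
      rw [LinearMap.antipode_mul_id]
      ext
      simp }

theorem card_points (n : ℕ) (hA : Module.finrank k A = p ^ n) :
    Nat.card (WithConv (A →ₐ[k] K)) = p ^ n := by
  obtain ⟨I, _, γ, hγ, hcard, -⟩ := exists_points k A K
  rw [Nat.card_congr (WithConv.equiv _)]
  apply le_antisymm
  · rw [← hA]; exact card_algHom_le_finrank k A K
  · rw [← hA, ← hcard]
    have := Nat.card_le_card_of_injective γ hγ
    simpa using this

theorem point_pow (n : ℕ) (hA : Module.finrank k A = p ^ n) (γ : A →ₐ[k] K) :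
    (WithConv.toConv γ.toLinearMap : WithConv (A →ₗ[k] K)) ^ (p ^ n) = 1 := by
  have : Finite (WithConv (A →ₐ[k] K)) := Finite.of_equiv _ (WithConv.equiv _).symm
  have h1 : (WithConv.toConv γ : WithConv (A →ₐ[k] K)) ^ (p ^ n) = 1 := by
    have := pow_card_eq_one' (G := WithConv (A →ₐ[k] K)) (x := WithConv.toConv γ)
    rwa [card_points p k A K n hA] at this
  have h2 := AlgHom.toLinearMap_convPow (WithConv.toConv γ) (p ^ n)
  rw [h1] at h2
  rw [WithConv.ofConv_toConv] at h2
  rw [← h2]
  rfl

/-- the comparison map -/
noncomputable def iota (φ : CartDual.D k A) : WithConv (A →ₗ[k] K) :=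
  WithConv.toConv ((Algebra.ofId k K).toLinearMap ∘ₗ φ.ofConv)

theorem iota_mul (φ ψ : CartDual.D k A) : iota k A K (φ * ψ) = iota k A K φ * iota k A K ψ := by
  apply WithConv.ofConv_injective
  exact LinearMap.algHom_comp_convMul_distrib (Algebra.ofId k K) φ ψ

theorem iota_one : iota k A K (1 : CartDual.D k A) = 1 := by
  apply WithConv.ofConv_injective
  ext a
  simp [iota, LinearMap.convOne_def]

theorem iota_pow (φ : CartDual.D k A) (m : ℕ) : iota k A K (φ ^ m) = iota k A K φ ^ m := by
  induction m with
  | zero => rw [pow_zero, pow_zero, iota_one]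
  | succ m ih => rw [pow_succ, pow_succ, iota_mul, ih]

theorem iota_injective : Function.Injective (iota k A K) := by
  intro φ ψ h
  apply WithConv.ofConv_injective
  ext a
  have := congrArg (fun f : WithConv (A →ₗ[k] K) => f.ofConv a) h
  simp only [iota, WithConv.ofConv_toConv, LinearMap.comp_apply, AlgHom.toLinearMap_apply,
    Algebra.ofId_apply] at this
  exact (algebraMap k K).injective this

theorem iota_zero : iota k A K (0 : CartDual.D k A) = 0 := by
  apply WithConv.ofConv_injective
  ext a
  simp [iota]

end hopf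

theorem nilp (p : ℕ) [Fact p.Prime] (k : Type u) [Field k] [CharP k p] (A : Type u) [CommRing A]
    [HopfAlgebra k A] [Coalgebra.IsCocomm k A] [Module.Finite k A] [Algebra.Etale k A]
    (K : Type u) [Field K] [Algebra k K] [IsAlgClosed K]
    (n : ℕ) (hA : Module.finrank k A = p ^ n) (φ : CartDual.D k A)
    (h1 : φ.ofConv 1 = 0) : φ ^ (p ^ n) = 0 := by
  apply iota_injective k A K
  rw [iota_pow, iota_zero]
  obtain ⟨I, _, γ, -, -, hspan⟩ := exists_points k A K
  obtain ⟨d, hd⟩ := hspan ((Algebra.ofId k K).toLinearMap ∘ₗ φ.ofConv)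
  have hι : iota k A K φ =
      ∑ i, d i • (WithConv.toConv (γ i).toLinearMap : WithConv (A →ₗ[k] K)) := by
    apply WithConv.ofConv_injective
    ext a
    rw [iota, WithConv.ofConv_toConv, hd a, WithConv.ofConv_sum, LinearMap.sum_apply]
    rfl
  have : CharP K p := charP_of_injective_algebraMap (algebraMap k K).injective p
  have : Nontrivial (WithConv (A →ₗ[k] K)) := by
    refine ⟨⟨1, 0, fun h => ?_⟩⟩
    have := congrArg (fun f : WithConv (A →ₗ[k] K) => f.ofConv 1) h
    simp [LinearMap.convOne_def] at this
  have : CharP (WithConv (A →ₗ[k] K)) p :=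
    charP_of_injective_algebraMap (algebraMap K (WithConv (A →ₗ[k] K))).injective p
  have hsum : ∑ i, d i = 0 := by
    have := hd 1
    simp only [LinearMap.comp_apply, h1, map_zero, map_one, mul_one] at this
    exact this.symm
  rw [hι, sum_pow_char_pow]
  have h2 : ∀ i, (d i • (WithConv.toConv (γ i).toLinearMap : WithConv (A →ₗ[k] K))) ^ (p ^ n)
      = (d i ^ (p ^ n)) • (1 : WithConv (A →ₗ[k] K)) := by
    intro i
    rw [smul_pow, point_pow p k A K n hA]
  simp_rw [h2]
  rw [← Finset.sum_smul, ← sum_pow_char_pow, hsum, zero_pow (pow_ne_zero _ (Fact.out : p.Prime).ne_zero),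
    zero_smul]

theorem main (p : ℕ) [Fact p.Prime]
    (k : Type u) [Field k] [CharP k p] (A : Type u) [CommRing A] [HopfAlgebra k A]
    [Coalgebra.IsCocomm k A]
    [Module.Finite k A] [Algebra.Etale k A] (n : ℕ) (hA : Module.finrank k A = p ^ n) :
    IsLocalRing (CartDual.D k A) := by
  have hnil : ∀ φ : CartDual.D k A, φ.ofConv 1 = 0 → IsNilpotent φ :=
    fun φ h => ⟨p ^ n, nilp p k A (AlgebraicClosure k) n hA φ h⟩
  have : Nontrivial (CartDual.D k A) := by
    refine ⟨⟨1, 0, fun h => ?_⟩⟩
    have := congrArg (fun f : CartDual.D k A => f.ofConv 1) h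
    simp [LinearMap.convOne_def] at this
  apply IsLocalRing.of_isUnit_or_isUnit_one_sub_self
  intro x
  by_cases hx : x.ofConv 1 = 0
  · right; exact (hnil x hx).isUnit_one_sub
  · left
    have hy : IsNilpotent (x - algebraMap k (CartDual.D k A) (x.ofConv 1)) := by
      apply hnil
      simp [Algebra.algebraMap_eq_smul_one, LinearMap.convOne_def]
    have hu : IsUnit (algebraMap k (CartDual.D k A) (x.ofConv 1)) := (IsUnit.mk0 _ hx).map _
    have : x = (x - algebraMap k (CartDual.D k A) (x.ofConv 1)) +
        algebraMap k (CartDual.D k A) (x.ofConv 1) := by ring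
    rw [this]
    exact hy.isUnit_add_right_of_commute hu (Commute.all _ _)

end Helpers


/-- Let p be a prime number, k a field of characteristic p and A a finite-dimensional commutative,
cocommutative Hopf algebra over k — the coordinate ring of a finite commutative group scheme G over
k — such that A is étale over k and dim_k A = p^n for some n (G is an étale group scheme of p-power
order). Then the Cartier dual A^∨ = Hom_k(A, k), with its convolution ring structure, is a local
ring; that is, the Cartier dual group scheme G^∨ = Spec A^∨ is infinitesimal (its underlying space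
is a single point). -/
theorem result (p : ℕ) [Fact p.Prime]
    (k : Type u) [Field k] [CharP k p] (A : Type u) [CommRing A] [HopfAlgebra k A] [Coalgebra.IsCocomm k A]
    [Module.Finite k A] [Algebra.Etale k A] (n : ℕ) (hA : Module.finrank k A = p ^ n) :
    IsLocalRing (CartDual.D k A) := by
  exact main p k A n hA

end Groth.Agent.S18543
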