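import Groth.Statements.S18544
import Groth.Agent.H92.MultPoly
-- import your own Groth.Agent.* helpers here

set_option autoImplicit false
universe u
open CAlg

namespace Groth.Agent.S18544

/-- Let F be an algebraically closed field of characteristic zero, n a natural number, and N a nonzero
polynomial over F in the n² matrix entries whose evaluation on n × n matrices is multiplicative,
N(xy) = N(x)·N(y) for all x, y (a norm form on the matrix algebra M_n(F) over F). Then N is a
natural power of the determinant: for some m, N(x) = det(x)^m for every matrix x. The published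
statement concerns norm forms of any central simple algebra over a subfield; this row is the case of
the full matrix algebra over an algebraically closed field, which is the case its proof treats. -/
theorem result (F : Type u) [Field F] [IsAlgClosed F]
    [CharZero F] (n : ℕ) (N : MvPolynomial (Fin n × Fin n) F) (hN : N ≠ 0)
    (hmul : ∀ x y : Matrix (Fin n) (Fin n) F,
      MvPolynomial.eval (fun ij : Fin n × Fin n => (x * y) ij.1 ij.2) N =
        MvPolynomial.eval (fun ij : Fin n × Fin n => x ij.1 ij.2) N * MvPolynomial.eval (fun ij : Fin n × Fin n => y ij.1 ij.2) N) :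
    ∃ m : ℕ, ∀ x : Matrix (Fin n) (Fin n) F,
      MvPolynomial.eval (fun ij : Fin n × Fin n => x ij.1 ij.2) N = x.det ^ m := by
  have hmul' : ∀ x y : Matrix (Fin n) (Fin n) F,
      Groth.Agent.H92.MultPoly.ν N (x * y) =
        Groth.Agent.H92.MultPoly.ν N x * Groth.Agent.H92.MultPoly.ν N y := hmul
  change ∃ m : ℕ, ∀ x : Matrix (Fin n) (Fin n) F, Groth.Agent.H92.MultPoly.ν N x = x.det ^ m
  rcases Nat.eq_zero_or_pos n with hn | hn
  · subst hn
    refine ⟨0, fun x => ?_⟩
    have : x = 1 := Subsingleton.elim _ _
    rw [this, pow_zero]
    exact Groth.Agent.H92.MultPoly.ν_one hN hmul'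
  · obtain ⟨m, hm⟩ := Groth.Agent.H92.MultPoly.exists_pow hN hmul' (⟨0, hn⟩ : Fin n)
    refine ⟨m, fun x => ?_⟩
    refine Matrix.diagonal_transvection_induction
      (fun M => Groth.Agent.H92.MultPoly.ν N M = M.det ^ m) x ?_ ?_ ?_
    · intro D _
      rw [Groth.Agent.H92.MultPoly.ν_diagonal hN hmul' ⟨0, hn⟩ hm D, Matrix.det_diagonal]
    · intro t
      rw [Matrix.TransvectionStruct.det, one_pow]
      exact Groth.Agent.H92.MultPoly.ν_transvection hN hmul' t.i t.j t.hij t.c
    · intro A B hA hB
      show Groth.Agent.H92.MultPoly.ν N (A * B) = (A * B).det ^ m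
      rw [hmul', hA, hB, Matrix.det_mul, mul_pow]

end Groth.Agent.S18544
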