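import Groth.Statements.S18545
import Mathlib.Tactic
-- import your own Groth.Agent.* helpers here

set_option autoImplicit false
universe u
open AbVar

namespace Groth.Agent.S18545

section Helpers

open LinearMap (BilinForm)

variable {K : Type u} [Field K] {V : Type u} [AddCommGroup V] [Module K V] [FiniteDimensional K V]
  (e : LinearMap.BilinForm K V) (F : Subalgebra K (Module.End K V))

/-- `W` is stable under every element of `F`. -/
def Stab (W : Submodule K V) : Prop := ∀ f ∈ F, ∀ w ∈ W, f w ∈ W

/-- `W` is isotropic. -/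
def Isot (W : Submodule K V) : Prop := ∀ x ∈ W, ∀ y ∈ W, e x y = 0

variable {e F}

theorem isot_iff_le {W : Submodule K V} : Isot e W ↔ W ≤ e.orthogonal W := by
  constructor
  · intro h y hy x hx
    exact h x hx y hy
  · intro h x hx y hy
    exact h hy x hx

/-- similitudes are injective -/
theorem similitude_injective (hnd : e.Nondegenerate) (s : Module.End K V) (c : K) (hc : c ≠ 0)
    (hs : ∀ x y : V, e (s x) (s y) = c * e x y) : Function.Injective s := by
  rw [← LinearMap.ker_eq_bot, LinearMap.ker_eq_bot']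
  intro x hx
  apply hnd.1 x
  intro y
  have := hs x y
  rw [hx, map_zero, LinearMap.zero_apply] at this
  exact (mul_eq_zero.mp this.symm).resolve_left hc

/-- the orthogonal of a stable subspace is stable -/
theorem stab_orthogonal (hnd : e.Nondegenerate) (S : Set (Module.End K V))
    (hS : Submodule.span K S = Subalgebra.toSubmodule F)
    (hsim : ∀ s ∈ S, ∃ c : K, c ≠ 0 ∧ ∀ x y : V, e (s x) (s y) = c * e x y)
    {U : Submodule K V} (hU : Stab F U) : Stab F (e.orthogonal U) := by
  intro f hf
  have hf' : f ∈ Submodule.span K S := by rw [hS]; exact hf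
  refine Submodule.span_induction (p := fun f _ => ∀ w ∈ e.orthogonal U, f w ∈ e.orthogonal U)
    ?_ ?_ ?_ ?_ hf'
  · intro s hsS w hw y hy
    obtain ⟨c, hc, hs⟩ := hsim s hsS
    have hsF : s ∈ F := by
      have : s ∈ Submodule.span K S := Submodule.subset_span hsS
      rw [hS] at this
      exact this
    -- s restricted to U is surjective
    let sU : U →ₗ[K] U := s.restrict (fun u hu => hU s hsF u hu)
    have hinj : Function.Injective sU := by
      intro a b hab
      apply Subtype.ext
      apply similitude_injective hnd s c hc hs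
      exact congrArg Subtype.val hab
    have hsurj : Function.Surjective sU := LinearMap.injective_iff_surjective.mp hinj
    obtain ⟨y', hy'⟩ := hsurj ⟨y, hy⟩
    have hy'' : s y' = y := congrArg Subtype.val hy'
    rw [← hy'', hs, hw y' y'.2, mul_zero]
  · intro w _
    simp
  · intro f g _ _ hf hg w hw
    rw [LinearMap.add_apply]
    exact Submodule.add_mem _ (hf w hw) (hg w hw)
  · intro a f _ hf w hw
    rw [LinearMap.smul_apply]
    exact Submodule.smul_mem _ a (hf w hw)

/-- A vector on which `F` acts through scalars. -/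
def Eigen (F : Subalgebra K (Module.End K V)) (u : V) : Prop := ∀ f ∈ F, ∃ a : K, f u = a • u

omit [FiniteDimensional K V] in
theorem stab_sup_span {W : Submodule K V} (hW : Stab F W) {u : V} (hu : Eigen F u) :
    Stab F (W ⊔ Submodule.span K {u}) := by
  intro f hf w hw
  obtain ⟨w₁, hw₁, w₂, hw₂, rfl⟩ := Submodule.mem_sup.mp hw
  obtain ⟨b, rfl⟩ := Submodule.mem_span_singleton.mp hw₂
  obtain ⟨a, ha⟩ := hu f hf
  rw [map_add, map_smul, ha]
  exact Submodule.add_mem _ (Submodule.mem_sup_left (hW f hf w₁ hw₁))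
    (Submodule.mem_sup_right (Submodule.smul_mem _ _ (Submodule.smul_mem _ _
      (Submodule.mem_span_singleton_self u))))

omit [FiniteDimensional K V] in
theorem isot_sup_span (he : e.IsAlt) {W : Submodule K V} (hW : Isot e W) {u : V}
    (hu : u ∈ e.orthogonal W) : Isot e (W ⊔ Submodule.span K {u}) := by
  have hwu : ∀ w ∈ W, e w u = 0 := fun w hw => hu w hw
  have huw : ∀ w ∈ W, e u w = 0 := fun w hw => by
    rw [← he.neg_eq w u, hwu w hw, neg_zero]
  intro x hx y hy
  obtain ⟨x₁, hx₁, x₂, hx₂, rfl⟩ := Submodule.mem_sup.mp hx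
  obtain ⟨b, rfl⟩ := Submodule.mem_span_singleton.mp hx₂
  obtain ⟨y₁, hy₁, y₂, hy₂, rfl⟩ := Submodule.mem_sup.mp hy
  obtain ⟨c, rfl⟩ := Submodule.mem_span_singleton.mp hy₂
  simp only [map_add, map_smul, LinearMap.add_apply, LinearMap.smul_apply, hW x₁ hx₁ y₁ hy₁,
    hwu x₁ hx₁, huw y₁ hy₁, he.self_eq_zero u, smul_zero, add_zero]

/-- the idempotents of `F` -/
theorem exists_idempotents (r : ℕ) (φ : F ≃ₐ[K] (Fin r → K)) :
    ∃ ε : Fin r → Module.End K V, (∀ i, ε i ∈ F) ∧ (∀ x : V, ∑ i, ε i x = x) ∧
      ∀ i x, Eigen F (ε i x) := by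
  classical
  refine ⟨fun i => (φ.symm (Pi.single i 1) : F).1, fun i => (φ.symm (Pi.single i 1)).2, ?_, ?_⟩
  · intro x
    have h1 : ∑ i, φ.symm (Pi.single i (1 : K)) = 1 := by
      rw [← map_sum]
      have : ∑ i, (Pi.single i (1 : K) : Fin r → K) = 1 := by
        ext j
        simp [Finset.sum_apply, Pi.single_apply]
      rw [this, map_one]
    have h2 := congrArg (fun f : F => (f : Module.End K V) x) h1
    simpa using h2
  · intro i x f hf
    refine ⟨φ ⟨f, hf⟩ i, ?_⟩
    have h1 : (⟨f, hf⟩ : F) * φ.symm (Pi.single i 1) = (φ ⟨f, hf⟩ i) • φ.symm (Pi.single i 1) := by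
      apply φ.injective
      rw [map_mul, map_smul, AlgEquiv.apply_symm_apply]
      ext j
      by_cases hj : j = i
      · subst hj; simp
      · simp [hj]
    have h2 := congrArg (fun f : F => (f : Module.End K V) x) h1
    simpa using h2

/-- Every stable isotropic subspace lies in a stable subspace equal to its own orthogonal. -/
theorem exists_lagrangian (he : e.IsAlt) (hnd : e.Nondegenerate)
    (r : ℕ) (φ : F ≃ₐ[K] (Fin r → K)) (S : Set (Module.End K V))
    (hS : Submodule.span K S = Subalgebra.toSubmodule F)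
    (hsim : ∀ s ∈ S, ∃ c : K, c ≠ 0 ∧ ∀ x y : V, e (s x) (s y) = c * e x y)
    {W : Submodule K V} (hWF : Stab F W) (hWiso : Isot e W) :
    ∃ L : Submodule K V, W ≤ L ∧ Stab F L ∧ e.orthogonal L = L := by
  obtain ⟨ε, hεF, hεsum, hεeig⟩ := exists_idempotents (F := F) r φ
  have hwf : WellFounded ((· > ·) : Submodule K V → Submodule K V → Prop) := wellFounded_gt
  obtain ⟨M, ⟨hWM, hMF, hMiso⟩, hmax⟩ := hwf.has_min
    {M : Submodule K V | W ≤ M ∧ Stab F M ∧ Isot e M} ⟨W, le_rfl, hWF, hWiso⟩
  refine ⟨M, hWM, hMF, ?_⟩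
  have hle : M ≤ e.orthogonal M := isot_iff_le.mp hMiso
  by_contra hne
  have hlt : M < e.orthogonal M := lt_of_le_of_ne hle (Ne.symm hne)
  obtain ⟨x, hx, hxM⟩ := SetLike.exists_of_lt hlt
  have hoF : Stab F (e.orthogonal M) := stab_orthogonal hnd S hS hsim hMF
  -- some component is not in M
  have hex : ∃ i, ε i x ∉ M := by
    by_contra hall
    push_neg at hall
    apply hxM
    rw [← hεsum x]
    exact Submodule.sum_mem _ fun i _ => hall i
  obtain ⟨i, hi⟩ := hex
  have hu : ε i x ∈ e.orthogonal M := hoF (ε i) (hεF i) x hx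
  apply hmax (M ⊔ Submodule.span K {ε i x})
    ⟨hWM.trans le_sup_left, stab_sup_span hMF (hεeig i x), isot_sup_span he hMiso hu⟩
  refine lt_of_le_of_ne le_sup_left ?_
  intro h
  apply hi
  rw [h]
  exact Submodule.mem_sup_right (Submodule.mem_span_singleton_self _)

theorem main (g : ℕ) (hV : Module.finrank K V = 2 * g)
    (he : e.IsAlt) (hnd : e.Nondegenerate)
    (r : ℕ) (hF : Nonempty (F ≃ₐ[K] (Fin r → K)))
    (S : Set (Module.End K V)) (hS : Submodule.span K S = Subalgebra.toSubmodule F)
    (hsim : ∀ s ∈ S, ∃ c : K, c ≠ 0 ∧ ∀ x y : V, e (s x) (s y) = c * e x y)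
    (D : Set (Module.End K V))
    (hmax : ∀ W : Submodule K V, (∀ f ∈ F, ∀ w ∈ W, f w ∈ W) → (∀ x ∈ W, ∀ y ∈ W, e x y = 0) →
      Module.finrank K W = g → ∀ d ∈ D, ∀ w ∈ W, d w ∈ W)
    (W : Submodule K V) (hWF : ∀ f ∈ F, ∀ w ∈ W, f w ∈ W) (hWiso : ∀ x ∈ W, ∀ y ∈ W, e x y = 0) :
    ∀ d ∈ D, ∀ w ∈ W, d w ∈ W := by
  obtain ⟨φ⟩ := hF
  obtain ⟨ε, hεF, hεsum, hεeig⟩ := exists_idempotents (F := F) r φ
  have hrefl : e.IsRefl := he.isRefl
  -- every self-orthogonal stable subspace is D-stable
  have hlag : ∀ L : Submodule K V, Stab F L → e.orthogonal L = L → ∀ d ∈ D, ∀ w ∈ L, d w ∈ L := by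
    intro L hLF hLL
    apply hmax L hLF
    · intro x hx y hy
      have : y ∈ e.orthogonal L := by rw [hLL]; exact hy
      exact this x hx
    · have h1 := LinearMap.BilinForm.finrank_orthogonal hnd L
      rw [hLL, hV] at h1
      have h2 : Module.finrank K L ≤ Module.finrank K V := Submodule.finrank_le L
      omega
  intro d hd w hw
  by_contra hdw
  set v := d w with hv
  -- find a stable Lagrangian containing W but not v
  suffices h : ∃ L : Submodule K V, W ≤ L ∧ Stab F L ∧ e.orthogonal L = L ∧ v ∉ L by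
    obtain ⟨L, hWL, hLF, hLL, hvL⟩ := h
    exact hvL (hlag L hLF hLL d hd w (hWL hw))
  by_cases hvo : v ∈ e.orthogonal W
  · -- some component of v is not in W
    have hex : ∃ i, ε i v ∉ W := by
      by_contra hall
      push_neg at hall
      apply hdw
      rw [← hεsum v]
      exact Submodule.sum_mem _ fun i _ => hall i
    obtain ⟨i, hi⟩ := hex
    set c := ε i v with hc
    -- c ∉ W = (W^⊥)^⊥, so there is y ∈ W^⊥ with e y c ≠ 0
    have hoo := LinearMap.BilinForm.orthogonal_orthogonal hnd hrefl W
    have hcy : ∃ y ∈ e.orthogonal W, e y c ≠ 0 := by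
      by_contra hall
      push_neg at hall
      apply hi
      rw [← hoo]
      exact fun y hy => hall y hy
    obtain ⟨y, hy, hyc⟩ := hcy
    have hoF : Stab F (e.orthogonal W) := stab_orthogonal hnd S hS hsim hWF
    have hex2 : ∃ j, e (ε j y) c ≠ 0 := by
      by_contra hall
      push_neg at hall
      apply hyc
      rw [← hεsum y, map_sum, LinearMap.sum_apply]
      exact Finset.sum_eq_zero fun j _ => hall j
    obtain ⟨j, hj⟩ := hex2
    have hu : ε j y ∈ e.orthogonal W := hoF (ε j) (hεF j) y hy
    obtain ⟨L, hW'L, hLF, hLL⟩ := exists_lagrangian he hnd r φ S hS hsim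
      (stab_sup_span hWF (hεeig j y)) (isot_sup_span he hWiso hu)
    refine ⟨L, le_sup_left.trans hW'L, hLF, hLL, ?_⟩
    intro hvL
    have hcL : c ∈ L := hLF (ε i) (hεF i) v hvL
    have hcL' : c ∈ e.orthogonal L := by rw [hLL]; exact hcL
    apply hj
    exact hcL' (ε j y) (hW'L (Submodule.mem_sup_right (Submodule.mem_span_singleton_self _)))
  · obtain ⟨L, hWL, hLF, hLL⟩ := exists_lagrangian he hnd r φ S hS hsim hWF hWiso
    refine ⟨L, hWL, hLF, hLL, ?_⟩
    intro hvL
    apply hvo
    have : v ∈ e.orthogonal L := by rw [hLL]; exact hvL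
    exact LinearMap.BilinForm.orthogonal_le hWL this

end Helpers


/-- A step in the proof of Tate's isogeny result over finite fields, in linear-algebra form. Let K be a
field and V a K-vector space of finite dimension 2g carrying a nondegenerate alternating bilinear
form e. Let F be a K-subalgebra of End(V) which is isomorphic as a K-algebra to a finite product K ×
⋯ × K and which is spanned over K by a set S of similitudes of e (for each s in S there is a nonzero
scalar c with e(s x, s y) = c·e(x, y) for all x, y). Let D be a set of endomorphisms of V such that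
every F-stable isotropic subspace W of dimension g (a maximal isotropic subspace) is D-stable. Then
every F-stable isotropic subspace of V is D-stable. (In the application V is the rational ℓ-adic
Tate module of an abelian variety over a finite field with the Riemann form of a polarisation, F the
algebra generated by the Galois group, split for the chosen ℓ, and D the commutant of the image of
the endomorphism algebra; the hypothesis on maximal isotropic subspaces is the step obtained from
the finiteness of isomorphism classes.) -/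
theorem result (K : Type u) [Field K]
    (V : Type u) [AddCommGroup V] [Module K V] [FiniteDimensional K V] (g : ℕ) (hV : Module.finrank K V = 2 * g)
    (e : LinearMap.BilinForm K V) (he : e.IsAlt) (hnd : e.Nondegenerate)
    (F : Subalgebra K (Module.End K V)) (r : ℕ) (hF : Nonempty (F ≃ₐ[K] (Fin r → K)))
    (S : Set (Module.End K V)) (hS : Submodule.span K S = Subalgebra.toSubmodule F)
    (hsim : ∀ s ∈ S, ∃ c : K, c ≠ 0 ∧ ∀ x y : V, e (s x) (s y) = c * e x y)
    (D : Set (Module.End K V))
    (hmax : ∀ W : Submodule K V, (∀ f ∈ F, ∀ w ∈ W, f w ∈ W) → (∀ x ∈ W, ∀ y ∈ W, e x y = 0) →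
      Module.finrank K W = g → ∀ d ∈ D, ∀ w ∈ W, d w ∈ W)
    (W : Submodule K V) (hWF : ∀ f ∈ F, ∀ w ∈ W, f w ∈ W) (hWiso : ∀ x ∈ W, ∀ y ∈ W, e x y = 0) :
    ∀ d ∈ D, ∀ w ∈ W, d w ∈ W := by
  exact main g hV he hnd r hF S hS hsim D hmax W hWF hWiso

end Groth.Agent.S18545
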