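import Groth.Statements.S18546
import Groth.Agent.H92.F2Sym
-- import your own Groth.Agent.* helpers here

set_option autoImplicit false
open scoped TensorProduct
universe u v
open GalCoh

namespace Groth.Agent.S18546

section Helpers
open scoped TensorProduct
open Groth.Agent.H92.F2Sym

variable {V : Type v} [AddCommGroup V] [Module (ZMod 2) V]

section
variable (e : Module.Basis (Fin 2) (ZMod 2) V)

/-- the `GL(V)`-stable plane `{0, s, w, w+s}` in coordinates -/
def W2 : Submodule (ZMod 2) (V ⊗[ZMod 2] V) where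
  carrier := {x | (e.tensorProduct e).repr x (0, 0) = (e.tensorProduct e).repr x (1, 1) ∧
    (e.tensorProduct e).repr x (0, 1) + (e.tensorProduct e).repr x (1, 0) = (e.tensorProduct e).repr x (0, 0)}
  add_mem' := by
    rintro a b ⟨ha1, ha2⟩ ⟨hb1, hb2⟩
    simp only [Set.mem_setOf_eq, map_add, Finsupp.add_apply] at *
    constructor
    · rw [ha1, hb1]
    · rw [← ha2, ← hb2]; ring
  zero_mem' := by simp
  smul_mem' := by
    rintro c a ⟨ha1, ha2⟩
    simp only [Set.mem_setOf_eq, map_smul, Finsupp.smul_apply, smul_eq_mul] at *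
    constructor
    · rw [ha1]
    · rw [← ha2]; ring

theorem mem_W2 (x : V ⊗[ZMod 2] V) : x ∈ W2 e ↔
    (e.tensorProduct e).repr x (0, 0) = (e.tensorProduct e).repr x (1, 1) ∧
    (e.tensorProduct e).repr x (0, 1) + (e.tensorProduct e).repr x (1, 0) =
      (e.tensorProduct e).repr x (0, 0) := Iff.rfl

theorem repr_map (T : V →ₗ[ZMod 2] V) (x : V ⊗[ZMod 2] V) (i j : Fin 2) :
    (e.tensorProduct e).repr (TensorProduct.map T T x) (i, j) =
      ∑ k : Fin 2, ∑ l : Fin 2, e.repr (T (e k)) i * e.repr (T (e l)) j *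
        (e.tensorProduct e).repr x (k, l) := by
  induction x using TensorProduct.induction_on with
  | zero => simp
  | tmul m n =>
    rw [TensorProduct.map_tmul, Module.Basis.tensorProduct_repr_tmul_apply]
    simp only [Module.Basis.tensorProduct_repr_tmul_apply, smul_eq_mul]
    conv_lhs => rw [← e.sum_repr m, ← e.sum_repr n]
    simp only [map_sum, map_smul, Finsupp.coe_finset_sum, Finsupp.coe_smul, Finset.sum_apply,
      Pi.smul_apply, smul_eq_mul]
    rw [Finset.sum_mul_sum, Finset.sum_comm]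
    refine Finset.sum_congr rfl fun k _ => Finset.sum_congr rfl fun l _ => ?_
    ring
  | add y z hy hz =>
    simp only [map_add, Finsupp.add_apply, hy, hz, mul_add, Finset.sum_add_distrib]

theorem key_decide : ∀ a b c d p x01 x10 : ZMod 2,
    ¬ (a = 0 ∧ c = 0) → ¬ (b = 0 ∧ d = 0) → ¬ (a + b = 0 ∧ c + d = 0) → x01 + x10 = p →
    (a * a * p + a * b * x01 + (b * a * x10 + b * b * p) =
      c * c * p + c * d * x01 + (d * c * x10 + d * d * p)) ∧
    ((a * c * p + a * d * x01 + (b * c * x10 + b * d * p)) +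
      (c * a * p + c * b * x01 + (d * a * x10 + d * b * p)) =
      a * a * p + a * b * x01 + (b * a * x10 + b * b * p)) := by
  decide

theorem W2_stable (T : V →ₗ[ZMod 2] V) (hT : Function.Injective T) (x : V ⊗[ZMod 2] V) (hx : x ∈ W2 e) :
    TensorProduct.map T T x ∈ W2 e := by
  rw [mem_W2] at hx ⊢
  obtain ⟨h1, h2⟩ := hx
  simp only [repr_map, Fin.sum_univ_two]
  rw [← h1]
  -- a = A00 (coefficient of e0 in T e0), b = A01 = coefficient of e0 in T e1, c = A10, d = A11
  have hne : ∀ v : V, v ≠ 0 → ¬ (e.repr (T v) 0 = 0 ∧ e.repr (T v) 1 = 0) := by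
    intro v hv ⟨h0, h1⟩
    apply hv
    apply hT
    rw [map_zero]
    apply e.repr.injective
    ext i
    fin_cases i
    · simpa using h0
    · simpa using h1
  have he0 : e 0 ≠ 0 := e.ne_zero 0
  have he1 : e 1 ≠ 0 := e.ne_zero 1
  have he01 : e 0 + e 1 ≠ 0 := by
    intro h
    have := congrArg (fun v => e.repr v 0) h
    simp [Module.Basis.repr_self, Finsupp.single_apply] at this
  have k0 := hne _ he0
  have k1 := hne _ he1
  have k01 := hne _ he01
  simp only [map_add, Finsupp.add_apply] at k01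
  exact key_decide (e.repr (T (e 0)) 0) (e.repr (T (e 1)) 0) (e.repr (T (e 0)) 1) (e.repr (T (e 1)) 1)
    _ _ _ k0 k1 k01 h2

theorem Ns_le_W2 : Ns V ≤ W2 e := by
  unfold Ns
  rw [Submodule.span_le]
  rintro _ ⟨⟨a, b⟩, rfl⟩
  rw [SetLike.mem_coe, mem_W2]
  simp only [map_add, Finsupp.add_apply, Module.Basis.tensorProduct_repr_tmul_apply, smul_eq_mul]
  have : ∀ a0 a1 b0 b1 : ZMod 2, (b0 * a0 + a0 * b0 = b1 * a1 + a1 * b1) ∧
      (b1 * a0 + a1 * b0 + (b0 * a1 + a0 * b1) = b0 * a0 + a0 * b0) := by decide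
  exact this _ _ _ _

theorem W2_inf : W2 e ⊓ Na V = Ns V := by
  apply le_antisymm
  · rintro x ⟨hxW, hxN⟩
    rw [SetLike.mem_coe, mem_W2] at hxW
    have hsym := comm_of_mem_Na hxN
    have h01 : (e.tensorProduct e).repr x (0, 1) = (e.tensorProduct e).repr x (1, 0) := by
      have := repr_comm e x 0 1
      rw [hsym] at this
      exact this
    have hz : ∀ z : ZMod 2, z + z = 0 := by decide
    have h00 : (e.tensorProduct e).repr x (0, 0) = 0 := by rw [← hxW.2, h01, hz]
    have h11 : (e.tensorProduct e).repr x (1, 1) = 0 := by rw [← hxW.1, h00]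
    have hx : x = (e.tensorProduct e).repr x (0, 1) • (e 0 ⊗ₜ[ZMod 2] e 1 + e 1 ⊗ₜ[ZMod 2] e 0) := by
      apply (e.tensorProduct e).repr.injective
      ext ⟨i, j⟩
      simp only [map_smul, map_add, Finsupp.smul_apply, Finsupp.add_apply,
        Module.Basis.tensorProduct_repr_tmul_apply, Module.Basis.repr_self, smul_eq_mul]
      fin_cases i <;> fin_cases j <;> simp [Finsupp.single_apply, h00, h11, h01]
    rw [hx]
    exact Submodule.smul_mem _ _ (Submodule.subset_span ⟨(e 0, e 1), rfl⟩)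
  · exact le_inf (Ns_le_W2 e) Ns_le_Na

theorem W2_sup : W2 e ⊔ Na V = ⊤ := by
  rw [eq_top_iff]
  intro x _
  set B := e.tensorProduct e with hB
  let α := B.repr x (0, 0) - (B.repr x (0, 1) + B.repr x (1, 0))
  let β := B.repr x (1, 1) - (B.repr x (0, 1) + B.repr x (1, 0))
  let y : V ⊗[ZMod 2] V := α • (e 0 ⊗ₜ[ZMod 2] e 0) + β • (e 1 ⊗ₜ[ZMod 2] e 1)
  have hy : y ∈ Na V := by
    refine Submodule.add_mem _ (Submodule.smul_mem _ _ ?_) (Submodule.smul_mem _ _ ?_) <;>
      exact Submodule.subset_span ⟨_, rfl⟩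
  have hxy : x - y ∈ W2 e := by
    rw [mem_W2]
    simp only [y, map_sub, map_add, map_smul, Finsupp.sub_apply, Finsupp.add_apply, Finsupp.smul_apply,
      Module.Basis.tensorProduct_repr_tmul_apply, Module.Basis.repr_self, smul_eq_mul]
    simp [Finsupp.single_apply, α, β]
    constructor <;> ring
  have : x = (x - y) + y := by abel
  rw [this]
  exact Submodule.add_mem _ (Submodule.mem_sup_left hxy) (Submodule.mem_sup_right hy)

end

theorem main (G : Type u) [Group G] (V : Type v)
    [AddCommGroup V] [Module (ZMod 2) V] (hV : Module.finrank (ZMod 2) V = 2)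
    (ρ : Representation (ZMod 2) G V) :
    ∃ W : Submodule (ZMod 2) (V ⊗[ZMod 2] V),
      (∀ g : G, ∀ w ∈ W, ρ.tprod ρ g w ∈ W) ∧
      W ⊓ Submodule.span (ZMod 2) (Set.range fun v : V => v ⊗ₜ[ZMod 2] v) =
        Submodule.span (ZMod 2) (Set.range fun p : V × V => p.1 ⊗ₜ[ZMod 2] p.2 + p.2 ⊗ₜ[ZMod 2] p.1) ∧
      W ⊔ Submodule.span (ZMod 2) (Set.range fun v : V => v ⊗ₜ[ZMod 2] v) = ⊤ := by
  haveI : Module.Finite (ZMod 2) V := Module.finite_of_finrank_pos (by rw [hV]; norm_num)
  let e : Module.Basis (Fin 2) (ZMod 2) V := Module.finBasisOfFinrankEq _ _ hV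
  refine ⟨W2 e, ?_, W2_inf e, W2_sup e⟩
  intro g w hw
  rw [Representation.tprod_apply]
  refine W2_stable e (ρ g) ?_ w hw
  intro x y hxy
  have := congrArg (ρ g⁻¹) hxy
  simpa [← Module.End.mul_apply, ← map_mul] using this

end Helpers


/-- Let G be a group acting linearly on a vector space V of dimension 2 over the field 𝔽₂ with two
elements. Then the short exact sequence of G-modules 0 → V → S²V → Λ²V → 0 (v ↦ v·v, x·y ↦ x ∧ y)
splits G-equivariantly. Here, for a vector space V over the field with two elements carrying a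
linear action ρ of a group G, write N_a ⊆ V ⊗ V for the span of the tensors v ⊗ v and N_s ⊆ N_a for
the span of the tensors x ⊗ y + y ⊗ x, so that S²V = (V ⊗ V)/N_s, Λ²V = (V ⊗ V)/N_a and the
surjection S²V → Λ²V, x·y ↦ x ∧ y, is G-equivariant for the diagonal action; a G-equivariant linear
section of this surjection is the same thing as a G-stable subspace W of V ⊗ V with W ∩ N_a = N_s
and W + N_a = V ⊗ V, which is how the splitting is stated. (The source has the absolute Galois group
of a field acting continuously; any group is allowed here.) -/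
theorem result (G : Type u) [Group G] (V : Type v)
    [AddCommGroup V] [Module (ZMod 2) V] (hV : Module.finrank (ZMod 2) V = 2)
    (ρ : Representation (ZMod 2) G V) :
    ∃ W : Submodule (ZMod 2) (V ⊗[ZMod 2] V),
      (∀ g : G, ∀ w ∈ W, ρ.tprod ρ g w ∈ W) ∧
      W ⊓ Submodule.span (ZMod 2) (Set.range fun v : V => v ⊗ₜ[ZMod 2] v) =
        Submodule.span (ZMod 2) (Set.range fun p : V × V => p.1 ⊗ₜ[ZMod 2] p.2 + p.2 ⊗ₜ[ZMod 2] p.1) ∧
      W ⊔ Submodule.span (ZMod 2) (Set.range fun v : V => v ⊗ₜ[ZMod 2] v) = ⊤ := by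
  exact main G V hV ρ

end Groth.Agent.S18546
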