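import Groth.Statements.S18547
import Groth.Agent.H92.F2Sym
-- import your own Groth.Agent.* helpers here

set_option autoImplicit false
open scoped TensorProduct
universe u v
open GalCoh

namespace Groth.Agent.S18547

section Helpers
open scoped TensorProduct
open Groth.Agent.H92.F2Sym

/-- antisymmetrisation matrix from the three bits -/
def Cm (c01 c02 c12 : ZMod 2) : Fin 3 → Fin 3 → ZMod 2 :=
  ![![0, c01, c02], ![c01, 0, c12], ![c02, c12, 0]]

/-- diagonal coefficients -/
def dg (c01 c02 c12 : ZMod 2) : Fin 3 → ZMod 2 :=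
  if c01 = 0 ∧ c02 = 0 ∧ c12 = 0 then ![0, 0, 0]
  else ![if c01 = 0 ∧ c02 = 0 ∧ c12 = 1 then 0 else 1,
         if c01 = 0 ∧ c02 = 1 ∧ c12 = 0 then 0 else 1,
         if c01 = 1 ∧ c02 = 0 ∧ c12 = 0 then 0 else 1]

/-- coefficients of t' -/
def tau (c01 c02 c12 : ZMod 2) : Fin 3 → Fin 3 → ZMod 2 :=
  ![![dg c01 c02 c12 0, c01, c02], ![0, dg c01 c02 c12 1, c12], ![0, 0, dg c01 c02 c12 2]]

def Mm (m00 m01 m02 m10 m11 m12 m20 m21 m22 : ZMod 2) : Fin 3 → Fin 3 → ZMod 2 :=
  ![![m00, m01, m02], ![m10, m11, m12], ![m20, m21, m22]]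

def act (M : Fin 3 → Fin 3 → ZMod 2) (X : Fin 3 → Fin 3 → ZMod 2) (i j : Fin 3) : ZMod 2 :=
  M i 0 * M j 0 * X 0 0 + M i 0 * M j 1 * X 0 1 + M i 0 * M j 2 * X 0 2 + M i 1 * M j 0 * X 1 0 + M i 1 * M j 1 * X 1 1 + M i 1 * M j 2 * X 1 2 + M i 2 * M j 0 * X 2 0 + M i 2 * M j 1 * X 2 1 + M i 2 * M j 2 * X 2 2

set_option maxRecDepth 100000 in
theorem check : ∀ m00 m01 m02 m10 m11 m12 m20 m21 m22 c01 c02 c12 : ZMod 2,
    (∀ i j, act (Mm m00 m01 m02 m10 m11 m12 m20 m21 m22) (Cm c01 c02 c12) i j = Cm c01 c02 c12 i j) →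
    (∀ i j, act (Mm m00 m01 m02 m10 m11 m12 m20 m21 m22) (tau c01 c02 c12) i j - tau c01 c02 c12 i j =
      act (Mm m00 m01 m02 m10 m11 m12 m20 m21 m22) (tau c01 c02 c12) j i - tau c01 c02 c12 j i) ∧
    (∀ i, act (Mm m00 m01 m02 m10 m11 m12 m20 m21 m22) (tau c01 c02 c12) i i - tau c01 c02 c12 i i = 0) := by
  decide +kernel

theorem tau_symm : ∀ c01 c02 c12 : ZMod 2, ∀ i j,
    tau c01 c02 c12 i j + tau c01 c02 c12 j i = Cm c01 c02 c12 i j := by
  decide +kernel

theorem Mm_eq (M : Fin 3 → Fin 3 → ZMod 2) :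
    Mm (M 0 0) (M 0 1) (M 0 2) (M 1 0) (M 1 1) (M 1 2) (M 2 0) (M 2 1) (M 2 2) = M := by
  funext i j
  fin_cases i <;> fin_cases j <;> rfl

theorem act_eq_sum (M X : Fin 3 → Fin 3 → ZMod 2) (i j : Fin 3) :
    ∑ k : Fin 3, ∑ l : Fin 3, M i k * M j l * X k l = act M X i j := by
  simp only [act, Fin.sum_univ_three]
  ring

theorem act_symm_add (M X : Fin 3 → Fin 3 → ZMod 2) (i j : Fin 3) :
    act M (fun k l => X k l + X l k) i j = act M X i j + act M X j i := by
  simp only [act]
  ring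

theorem Cm_eq (X : Fin 3 → Fin 3 → ZMod 2) :
    Cm (X 0 1 + X 1 0) (X 0 2 + X 2 0) (X 1 2 + X 2 1) = fun k l => X k l + X l k := by
  have hz : ∀ z : ZMod 2, z + z = 0 := by decide
  funext i j
  fin_cases i <;> fin_cases j <;> simp [Cm, hz] <;> ring

theorem zmod2_sub_eq_iff (a b c d : ZMod 2) : a - b = c - d ↔ a + c = b + d := by
  revert a b c d; decide

theorem main (G : Type u) [Group G] (V : Type v)
    [AddCommGroup V] [Module (ZMod 2) V] (hV : Module.finrank (ZMod 2) V = 3)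
    (ρ : Representation (ZMod 2) G V) (t : V ⊗[ZMod 2] V)
    (ht : ∀ g : G, ρ.tprod ρ g t - t ∈ Submodule.span (ZMod 2) (Set.range fun v : V => v ⊗ₜ[ZMod 2] v)) :
    ∃ t' : V ⊗[ZMod 2] V, t' - t ∈ Submodule.span (ZMod 2) (Set.range fun v : V => v ⊗ₜ[ZMod 2] v) ∧
      ∀ g : G, ρ.tprod ρ g t' - t' ∈
        Submodule.span (ZMod 2) (Set.range fun p : V × V => p.1 ⊗ₜ[ZMod 2] p.2 + p.2 ⊗ₜ[ZMod 2] p.1) := by
  haveI : Module.Finite (ZMod 2) V := Module.finite_of_finrank_pos (by rw [hV]; norm_num)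
  let e : Module.Basis (Fin 3) (ZMod 2) V := Module.finBasisOfFinrankEq _ _ hV
  let X : Fin 3 → Fin 3 → ZMod 2 := fun k l => (e.tensorProduct e).repr t (k, l)
  let c01 := X 0 1 + X 1 0
  let c02 := X 0 2 + X 2 0
  let c12 := X 1 2 + X 2 1
  let t' : V ⊗[ZMod 2] V :=
    (e.tensorProduct e).repr.symm (Finsupp.equivFunOnFinite.symm (fun p : Fin 3 × Fin 3 => tau c01 c02 c12 p.1 p.2))
  have ht' : ∀ i j, (e.tensorProduct e).repr t' (i, j) = tau c01 c02 c12 i j := by
    intro i j
    simp only [t', LinearEquiv.apply_symm_apply]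
    rfl
  have hC : Cm c01 c02 c12 = fun k l => X k l + X l k := Cm_eq X
  refine ⟨t', ?_, ?_⟩
  · change t' - t ∈ Na V
    apply mem_Na_of_symm e
    apply comm_eq_self_of_repr e
    intro i j
    simp only [map_sub, Finsupp.sub_apply]
    rw [ht', ht', zmod2_sub_eq_iff, tau_symm, hC]
  · intro g
    change _ ∈ Ns V
    rw [Representation.tprod_apply]
    set T := ρ g with hT
    let M : Fin 3 → Fin 3 → ZMod 2 := fun i k => e.repr (T (e k)) i
    -- hypothesis in coordinates
    have hg := ht g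
    rw [Representation.tprod_apply] at hg
    have hsym := comm_of_mem_Na (show TensorProduct.map T T t - t ∈ Na V from hg)
    have hact : ∀ i j, act M X i j - X i j = act M X j i - X j i := by
      intro i j
      have h1 := repr_comm e (TensorProduct.map T T t - t) i j
      rw [hsym] at h1
      simp only [map_sub, Finsupp.sub_apply, repr_map e T t] at h1
      rw [act_eq_sum M X, act_eq_sum M X] at h1
      exact h1
    have hhyp : ∀ i j, act M (Cm c01 c02 c12) i j = Cm c01 c02 c12 i j := by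
      intro i j
      rw [hC, act_symm_add]
      have := (zmod2_sub_eq_iff _ _ _ _).mp (hact i j)
      exact this
    have hchk := check (M 0 0) (M 0 1) (M 0 2) (M 1 0) (M 1 1) (M 1 2) (M 2 0) (M 2 1) (M 2 2) c01 c02 c12
    rw [Mm_eq M] at hchk
    obtain ⟨hs, hd⟩ := hchk hhyp
    have hcoord : ∀ i j, (e.tensorProduct e).repr (TensorProduct.map T T t' - t') (i, j) =
        act M (tau c01 c02 c12) i j - tau c01 c02 c12 i j := by
      intro i j
      simp only [map_sub, Finsupp.sub_apply]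
      rw [repr_map e T t']
      simp only [ht']
      rw [act_eq_sum M (tau c01 c02 c12)]
    apply mem_Ns_of_symm_diag e
    · apply comm_eq_self_of_repr e
      intro i j
      rw [hcoord, hcoord]
      exact hs i j
    · intro i
      rw [hcoord]
      exact hd i

end Helpers


/-- Let G be a group acting linearly on a vector space V of dimension 3 over the field 𝔽₂ with two
elements. Then the connecting map (Λ²V)^G → H¹(G, V) of the short exact sequence of G-modules 0 → V
→ S²V → Λ²V → 0 (v ↦ v·v, x·y ↦ x ∧ y) is zero; equivalently, every G-invariant element of Λ²V is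
the image of a G-invariant element of S²V. Here N_a ⊆ V ⊗ V is the span of the tensors v ⊗ v and N_s
⊆ N_a the span of the tensors x ⊗ y + y ⊗ x, so that S²V = (V ⊗ V)/N_s and Λ²V = (V ⊗ V)/N_a with
the diagonal action of G, and the statement reads: a tensor t whose class modulo N_a is G-invariant
is congruent modulo N_a to a tensor whose class modulo N_s is G-invariant. (The source writes the
rank hypothesis on the lattice M with V = M/2M, which has the same rank, and has the absolute Galois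
group of a field acting; any group is allowed here.) -/
theorem result (G : Type u) [Group G] (V : Type v)
    [AddCommGroup V] [Module (ZMod 2) V] (hV : Module.finrank (ZMod 2) V = 3)
    (ρ : Representation (ZMod 2) G V) (t : V ⊗[ZMod 2] V)
    (ht : ∀ g : G, ρ.tprod ρ g t - t ∈ Submodule.span (ZMod 2) (Set.range fun v : V => v ⊗ₜ[ZMod 2] v)) :
    ∃ t' : V ⊗[ZMod 2] V, t' - t ∈ Submodule.span (ZMod 2) (Set.range fun v : V => v ⊗ₜ[ZMod 2] v) ∧
      ∀ g : G, ρ.tprod ρ g t' - t' ∈
        Submodule.span (ZMod 2) (Set.range fun p : V × V => p.1 ⊗ₜ[ZMod 2] p.2 + p.2 ⊗ₜ[ZMod 2] p.1) := by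
  exact main G V hV ρ t ht

end Groth.Agent.S18547
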