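import Groth.Statements.S18561
import Mathlib.Tactic
import Mathlib.LinearAlgebra.FiniteDimensional.Lemmas
-- import your own Groth.Agent.* helpers here

set_option autoImplicit false
universe u v
open PtQuiv

namespace Groth.Agent.S18561

/-- Let K be a field and s i ∈ K² (i in a finite index type) nonzero vectors, regarded as a
representation of the quiver with a central vertex carrying the plane and one vertex per i carrying
a line mapping to the plane by 1 ↦ s i. Then the representation is stable for some weight of the
hypersimplex (0 ≤ θ i ≤ 1, Σ θ i = 2, central weight -1) if and only if the s i fall into at least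
three proportionality classes, i.e. three of them are pairwise non-proportional. (The published
statement is over an algebraically closed field and assumes semistability for some interior weight
instead of s i ≠ 0; any field is allowed here. Its further assertions, that the set of semistability
weights is full-dimensional exactly in this case and is a wall otherwise, are not part of this row.) -/
theorem result (K : Type u) [Field K] (ι : Type v)
    [Fintype ι] (s : ι → (Fin 2 → K)) (hs : ∀ i, s i ≠ 0) :
    (∃ θ : ι → ℚ, (∀ i, 0 ≤ θ i) ∧ (∀ i, θ i ≤ 1) ∧ ∑ i, θ i = 2 ∧ PtQuiv.QStable (-1) θ s) ↔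
      ∃ i j k : ι, s i ∉ K ∙ s j ∧ s j ∉ K ∙ s k ∧ s i ∉ K ∙ s k := by
  classical
  -- proportionality facts
  have hprop : ∀ (v x y : Fin 2 → K), x ∈ K ∙ v → y ∈ K ∙ v → y ≠ 0 → x ∈ K ∙ y := by
    intro v x y hx hy hy0
    obtain ⟨a, rfl⟩ := Submodule.mem_span_singleton.mp hx
    obtain ⟨b, rfl⟩ := Submodule.mem_span_singleton.mp hy
    have hb : b ≠ 0 := by rintro rfl; simp at hy0
    rw [Submodule.mem_span_singleton]
    exact ⟨a * b⁻¹, by rw [smul_smul, mul_assoc, inv_mul_cancel₀ hb, mul_one]⟩
  have hsymm : ∀ a b : ι, s a ∈ K ∙ s b → s b ∈ K ∙ s a := by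
    intro a b h
    exact hprop (s b) (s b) (s a) (Submodule.mem_span_singleton_self _) h (hs a)
  constructor
  · rintro ⟨θ, h0, h1, h2, ⟨-, hss⟩, hst⟩
    by_contra hno
    push Not at hno
    -- ι is nonempty
    have hne : Nonempty ι := by
      by_contra hemp
      rw [not_nonempty_iff] at hemp
      simp at h2
    obtain ⟨i₀⟩ := hne
    by_cases hall : ∀ k, s k ∈ K ∙ s i₀
    · have := hss (K ∙ s i₀) Finset.univ (fun k _ => hall k)
      unfold PtQuiv.QWt at this
      rw [finrank_span_singleton (hs i₀), h2] at this
      norm_num at this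
    · push Not at hall
      obtain ⟨j₀, hj₀⟩ := hall
      have hcl : ∀ k, s k ∈ K ∙ s i₀ ∨ s k ∈ K ∙ s j₀ := by
        intro k
        by_contra hk
        push Not at hk
        have h3 := hno j₀ i₀ k hj₀ (fun h => hk.1 (hsymm _ _ h))
        exact hk.2 (hsymm _ _ h3)
      set C1 : Finset ι := Finset.univ.filter (fun k => s k ∈ K ∙ s i₀) with hC1
      set C2 : Finset ι := Finset.univ.filter (fun k => ¬ s k ∈ K ∙ s i₀) with hC2
      have hsum : ∑ k ∈ C1, θ k + ∑ k ∈ C2, θ k = 2 := by
        rw [hC1, hC2, Finset.sum_filter_add_sum_filter_not, h2]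
      have w1 := hss (K ∙ s i₀) C1 (fun k hk => (Finset.mem_filter.mp hk).2)
      have w2 := hss (K ∙ s j₀) C2 (fun k hk =>
        (hcl k).resolve_left (Finset.mem_filter.mp hk).2)
      unfold PtQuiv.QWt at w1 w2
      rw [finrank_span_singleton (hs i₀)] at w1
      rw [finrank_span_singleton (hs j₀)] at w2
      push_cast at w1 w2
      have e1 : PtQuiv.QWt K (-1) θ (K ∙ s i₀) C1 = 0 := by
        unfold PtQuiv.QWt
        rw [finrank_span_singleton (hs i₀)]
        push_cast; linarith
      rcases hst (K ∙ s i₀) C1 (fun k hk => (Finset.mem_filter.mp hk).2) e1 with ⟨hb, -⟩ | ⟨ht, -⟩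
      · have : s i₀ ∈ (⊥ : Submodule K (Fin 2 → K)) := hb ▸ Submodule.mem_span_singleton_self _
        exact hs i₀ ((Submodule.mem_bot K).mp this)
      · exact hj₀ (ht ▸ Submodule.mem_top)
  · rintro ⟨i, j, k, hij, hjk, hik⟩
    have hij' : i ≠ j := by rintro rfl; exact hij (Submodule.mem_span_singleton_self _)
    have hjk' : j ≠ k := by rintro rfl; exact hjk (Submodule.mem_span_singleton_self _)
    have hik' : i ≠ k := by rintro rfl; exact hik (Submodule.mem_span_singleton_self _)
    set n : ℕ := Fintype.card ι with hn
    set T3 : Finset ι := {i, j, k} with hT3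
    have hcard3 : T3.card = 3 := by
      rw [hT3, Finset.card_insert_of_notMem, Finset.card_insert_of_notMem, Finset.card_singleton]
      · simpa using hjk'
      · simp [hij', hik']
    have hn3 : 3 ≤ n := by
      rw [← hcard3]; exact Finset.card_le_univ _
    have hnpos : (0 : ℚ) < n := by exact_mod_cast (by omega : 0 < n)
    set ε : ℚ := 1 / (2 * n) with hε
    have hεpos : 0 < ε := by positivity
    have hnε : (n : ℚ) * ε = 1 / 2 := by rw [hε]; field_simp
    set T : ℚ := (2 - ((n : ℚ) - 3) * ε) / 3 with hT
    have hn3' : (3 : ℚ) ≤ n := by exact_mod_cast hn3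
    have hTlow : 1 / 2 ≤ T := by
      rw [hT]
      have : ((n : ℚ) - 3) * ε ≤ 1 / 2 := by nlinarith
      linarith
    have hThigh : T ≤ 2 / 3 := by
      rw [hT]
      have : 0 ≤ ((n : ℚ) - 3) * ε := mul_nonneg (by linarith) hεpos.le
      linarith
    have hTε : T + ((n : ℚ) - 3) * ε < 1 := by
      rw [hT]
      have : ((n : ℚ) - 3) * ε < 1 / 2 := by nlinarith
      linarith
    have hεsmall : ε ≤ 1 / 6 := by
      have : 3 * ε ≤ (n : ℚ) * ε := mul_le_mul_of_nonneg_right hn3' hεpos.le
      linarith
    let θ : ι → ℚ := fun l => if l ∈ T3 then T else ε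
    have hθpos : ∀ l, 0 < θ l := by
      intro l; simp only [θ]; split_ifs
      · linarith
      · exact hεpos
    have hθsum : ∀ I : Finset ι, ∑ l ∈ I, θ l =
        ((I.filter (· ∈ T3)).card : ℚ) * T + ((I.filter (· ∉ T3)).card : ℚ) * ε := by
      intro I
      rw [← Finset.sum_filter_add_sum_filter_not I (· ∈ T3)]
      congr 1
      · rw [Finset.sum_congr rfl (fun l hl => if_pos (Finset.mem_filter.mp hl).2), Finset.sum_const,
          nsmul_eq_mul]
      · rw [Finset.sum_congr rfl (fun l hl => if_neg (Finset.mem_filter.mp hl).2), Finset.sum_const,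
          nsmul_eq_mul]
    have hcardnot : ((Finset.univ.filter (· ∉ T3)).card : ℚ) = (n : ℚ) - 3 := by
      have h1 : (Finset.univ.filter (· ∈ T3)).card = 3 := by
        rw [← hcard3]; congr 1; ext l; simp
      have h2 := Finset.card_filter_add_card_filter_not (s := (Finset.univ : Finset ι)) (· ∈ T3)
      rw [h1, Finset.card_univ] at h2
      have : (Finset.univ.filter (· ∉ T3)).card = n - 3 := by omega
      rw [this, Nat.cast_sub hn3]; norm_num
    have htot : ∑ l, θ l = 2 := by
      have h1 : (Finset.univ.filter (· ∈ T3)).card = 3 := by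
        rw [← hcard3]; congr 1; ext l; simp
      rw [hθsum Finset.univ, hcardnot, h1, hT]
      push_cast; ring
    -- weights on lines
    have hline : ∀ (L : Submodule K (Fin 2 → K)) (I : Finset ι), Module.finrank K L = 1 →
        PtQuiv.QSubrep s L I → ∑ l ∈ I, θ l < 1 := by
      intro L I hL hLI
      obtain ⟨v, hv0, hv⟩ := finrank_eq_one_iff'.mp hL
      have hmem : ∀ l ∈ I, s l ∈ K ∙ (v : Fin 2 → K) := by
        intro l hl
        obtain ⟨c, hc⟩ := hv ⟨s l, hLI l hl⟩
        rw [Submodule.mem_span_singleton]
        exact ⟨c, by simpa using congrArg Subtype.val hc⟩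
      have hc1 : (I.filter (· ∈ T3)).card ≤ 1 := by
        rw [Finset.card_le_one]
        intro a ha b hb
        have ha' := Finset.mem_filter.mp ha
        have hb' := Finset.mem_filter.mp hb
        have pa := hmem a ha'.1
        have pb := hmem b hb'.1
        have key : ∀ x y : ι, x ∈ I → y ∈ I → s x ∉ K ∙ s y → False := by
          intro x y hx hy hxy
          exact hxy (hprop _ _ _ (hmem x hx) (hmem y hy) (hs y))
        have ha3 : a = i ∨ a = j ∨ a = k := by simpa [hT3] using ha'.2
        have hb3 : b = i ∨ b = j ∨ b = k := by simpa [hT3] using hb'.2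
        rcases ha3 with rfl | rfl | rfl <;> rcases hb3 with rfl | rfl | rfl
        · rfl
        · exact (key _ _ ha'.1 hb'.1 hij).elim
        · exact (key _ _ ha'.1 hb'.1 hik).elim
        · exact (key _ _ hb'.1 ha'.1 hij).elim
        · rfl
        · exact (key _ _ ha'.1 hb'.1 hjk).elim
        · exact (key _ _ hb'.1 ha'.1 hik).elim
        · exact (key _ _ hb'.1 ha'.1 hjk).elim
        · rfl
      have hc2 : ((I.filter (· ∉ T3)).card : ℚ) ≤ (n : ℚ) - 3 := by
        rw [← hcardnot]
        exact_mod_cast Finset.card_le_card (Finset.filter_subset_filter _ (Finset.subset_univ I))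
      rw [hθsum I]
      have hc1' : ((I.filter (· ∈ T3)).card : ℚ) ≤ 1 := by exact_mod_cast hc1
      have hTpos : 0 ≤ T := by linarith
      calc ((I.filter (· ∈ T3)).card : ℚ) * T + ((I.filter (· ∉ T3)).card : ℚ) * ε
          ≤ 1 * T + ((n : ℚ) - 3) * ε :=
            add_le_add (mul_le_mul_of_nonneg_right hc1' hTpos)
              (mul_le_mul_of_nonneg_right hc2 hεpos.le)
        _ < 1 := by linarith
    have hle2 : ∀ L : Submodule K (Fin 2 → K), Module.finrank K L ≤ 2 := by
      intro L
      have := Submodule.finrank_le L
      simpa using this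
    have hzero : ∀ (L : Submodule K (Fin 2 → K)) (I : Finset ι), Module.finrank K L = 0 →
        PtQuiv.QSubrep s L I → L = ⊥ ∧ I = ∅ := by
      intro L I hL hLI
      have hbot : L = ⊥ := Submodule.finrank_eq_zero.mp hL
      refine ⟨hbot, ?_⟩
      apply Finset.eq_empty_of_forall_notMem
      intro l hl
      have := hLI l hl
      rw [hbot, Submodule.mem_bot] at this
      exact hs l this
    have hsub : ∀ I : Finset ι, ∑ l ∈ I, θ l ≤ 2 := by
      intro I
      rw [← htot]
      exact Finset.sum_le_sum_of_subset_of_nonneg (Finset.subset_univ I) (fun l _ _ => (hθpos l).le)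
    refine ⟨θ, fun l => (hθpos l).le, ?_, htot, ⟨by rw [htot]; norm_num, ?_⟩, ?_⟩
    · intro l; simp only [θ]; split_ifs <;> linarith
    · intro L I hLI
      unfold PtQuiv.QWt
      have := hle2 L
      have hI := hsub I
      rcases Nat.lt_or_ge (Module.finrank K L) 1 with h' | h'
      · have h0' : Module.finrank K L = 0 := by omega
        obtain ⟨-, rfl⟩ := hzero L I h0' hLI
        rw [h0']; simp
      · rcases Nat.lt_or_ge (Module.finrank K L) 2 with h'' | h''
        · have h1' : Module.finrank K L = 1 := by omega
          have := hline L I h1' hLI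
          rw [h1']; push_cast; linarith
        · have h2' : Module.finrank K L = 2 := by omega
          rw [h2']; push_cast; linarith
    · intro L I hLI hw
      unfold PtQuiv.QWt at hw
      have := hle2 L
      rcases Nat.lt_or_ge (Module.finrank K L) 1 with h' | h'
      · have h0' : Module.finrank K L = 0 := by omega
        exact Or.inl (hzero L I h0' hLI)
      · rcases Nat.lt_or_ge (Module.finrank K L) 2 with h'' | h''
        · have h1' : Module.finrank K L = 1 := by omega
          have := hline L I h1' hLI
          rw [h1'] at hw; push_cast at hw; linarith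
        · have h2' : Module.finrank K L = 2 := by omega
          right
          refine ⟨?_, ?_⟩
          · apply Submodule.eq_top_of_finrank_eq
            rw [h2']; simp
          · rw [h2'] at hw
            push_cast at hw
            have hI2 : ∑ l ∈ I, θ l = ∑ l, θ l := by rw [htot]; linarith
            by_contra hne
            obtain ⟨l, hl⟩ : ∃ l, l ∉ I := by
              by_contra hall
              push Not at hall
              exact hne (Finset.eq_univ_of_forall hall)
            have : ∑ l ∈ I, θ l < ∑ l, θ l :=
              Finset.sum_lt_sum_of_subset (Finset.subset_univ I) (Finset.mem_univ l) hl (hθpos l)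
                (fun m _ _ => (hθpos m).le)
            linarith

end Groth.Agent.S18561
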