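import Groth.Statements.S18568
import Groth.Agent.H92.LocFreeRank
import Mathlib.Tactic
-- import your own Groth.Agent.* helpers here

set_option autoImplicit false
universe u
open CategoryTheory CategoryTheory.Limits AlgebraicGeometry
open ParSh

namespace Groth.Agent.S18568

section Helpers
open CategoryTheory CategoryTheory.Limits AlgebraicGeometry

theorem one_sub_mul_lt (d n : ℕ) (hd : 0 < d) (hn : 2 ≤ n) (α : ℝ)
    (hα : 1 - 1 / ((d : ℝ) * (n : ℝ) * ((n : ℝ) - 1)) < α) :
    (1 - α) * ((d : ℝ) * (n : ℝ) * ((n : ℝ) - 1)) < 1 := by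
  have hd' : (0 : ℝ) < d := by exact_mod_cast hd
  have hn' : (2 : ℝ) ≤ n := by exact_mod_cast hn
  have hD : 0 < (d : ℝ) * (n : ℝ) * ((n : ℝ) - 1) := by
    apply mul_pos (mul_pos hd' (by linarith)) (by linarith)
  have h1 : 1 - α < 1 / ((d : ℝ) * (n : ℝ) * ((n : ℝ) - 1)) := by linarith
  rwa [lt_div_iff₀ hD] at h1

theorem num_semistable (a b : ℤ) (f f' n r' d : ℕ) (α : ℝ) (hn : 2 ≤ n) (hr : 0 < r')
    (hrn : r' ≤ n) (hd : 0 < d) (hf' : f' ≤ r' * d) (hα1 : α < 1)
    (hα : 1 - 1 / ((d : ℝ) * (n : ℝ) * ((n : ℝ) - 1)) < α)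
    (h : ((a : ℝ) + α * (f' : ℝ)) * (n : ℝ) ≤ ((b : ℝ) + α * (f : ℝ)) * (r' : ℝ)) :
    ((a : ℝ) + 1 * (f' : ℝ)) * (n : ℝ) ≤ ((b : ℝ) + 1 * (f : ℝ)) * (r' : ℝ) := by
  have hkey := one_sub_mul_lt d n hd hn α hα
  have h0f : (0 : ℝ) ≤ f := Nat.cast_nonneg _
  have h0f' : (0 : ℝ) ≤ f' := Nat.cast_nonneg _
  have h0n : (0 : ℝ) ≤ n := Nat.cast_nonneg _
  have h0r : (0 : ℝ) ≤ r' := Nat.cast_nonneg _
  have h0d : (0 : ℝ) ≤ d := Nat.cast_nonneg _
  have hn2 : (2 : ℝ) ≤ n := by exact_mod_cast hn
  have h1α : 0 < 1 - α := by linarith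
  have hf'R : (f' : ℝ) ≤ (r' : ℝ) * d := by exact_mod_cast hf'
  by_contra hcon
  push_neg at hcon
  rcases Nat.lt_or_ge r' n with hlt | hge
  · -- r' < n
    have hZ : (b + f) * r' + 1 ≤ (a + f') * n := by
      have : (b + f) * r' < (a + f') * n := by
        have h' : (((b + f) * r' : ℤ) : ℝ) < (((a + f') * n : ℤ) : ℝ) := by
          push_cast
          linarith
        exact_mod_cast h'
      omega
    have hR : ((b : ℝ) + f) * r' + 1 ≤ ((a : ℝ) + f') * n := by exact_mod_cast hZ
    have hr' : (r' : ℝ) ≤ (n : ℝ) - 1 := by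
      have : r' + 1 ≤ n := hlt
      have : ((r' + 1 : ℕ) : ℝ) ≤ n := by exact_mod_cast this
      push_cast at this
      linarith
    have hfn : (f' : ℝ) * n ≤ (d : ℝ) * n * ((n : ℝ) - 1) := by
      calc (f' : ℝ) * n ≤ ((r' : ℝ) * d) * n := mul_le_mul_of_nonneg_right hf'R h0n
        _ ≤ (((n : ℝ) - 1) * d) * n := by
            apply mul_le_mul_of_nonneg_right _ h0n
            exact mul_le_mul_of_nonneg_right hr' h0d
        _ = (d : ℝ) * n * ((n : ℝ) - 1) := by ring
    have h2 : (1 - α) * ((f' : ℝ) * n - f * r') < 1 := by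
      calc (1 - α) * ((f' : ℝ) * n - f * r') ≤ (1 - α) * ((f' : ℝ) * n) := by
            apply mul_le_mul_of_nonneg_left _ h1α.le
            have := mul_nonneg h0f h0r
            linarith
        _ ≤ (1 - α) * ((d : ℝ) * n * ((n : ℝ) - 1)) := mul_le_mul_of_nonneg_left hfn h1α.le
        _ < 1 := hkey
    nlinarith [h2, hR, h]
  · -- r' = n
    have hrn' : r' = n := le_antisymm hrn hge
    subst hrn'
    have hnpos : (0 : ℝ) < r' := by linarith
    have h' : (a : ℝ) + α * f' ≤ (b : ℝ) + α * f := le_of_mul_le_mul_right h hnpos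
    have hcon' : (b : ℝ) + 1 * f < (a : ℝ) + 1 * f' := lt_of_mul_lt_mul_right hcon h0r
    have hZ : (b + f) + 1 ≤ (a + f') := by
      have : (b + f : ℤ) < (a + f') := by
        have h'' : (((b + f : ℤ)) : ℝ) < (((a + f' : ℤ)) : ℝ) := by
          push_cast
          linarith
        exact_mod_cast h''
      omega
    have hR : ((b : ℝ) + f) + 1 ≤ ((a : ℝ) + f') := by exact_mod_cast hZ
    have h3 : (1 - α) * ((r' : ℝ) * d) ≤ (1 - α) * ((d : ℝ) * r' * ((r' : ℝ) - 1)) := by
      apply mul_le_mul_of_nonneg_left _ h1α.le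
      have : (r' : ℝ) * d * 1 ≤ (r' : ℝ) * d * ((r' : ℝ) - 1) :=
        mul_le_mul_of_nonneg_left (by linarith) (mul_nonneg h0r h0d)
      nlinarith [this]
    have h4 : (1 - α) * ((f' : ℝ) - f) < 1 := by
      calc (1 - α) * ((f' : ℝ) - f) ≤ (1 - α) * (f' : ℝ) := by
            apply mul_le_mul_of_nonneg_left _ h1α.le
            linarith
        _ ≤ (1 - α) * ((r' : ℝ) * d) := mul_le_mul_of_nonneg_left hf'R h1α.le
        _ ≤ _ := h3
        _ < 1 := hkey
    nlinarith [h4, hR, h']

theorem main (k : Type u) [Field k] (X : Scheme.{u}) [X.Over (Spec (CommRingCat.of k))]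
    [Nonempty X]
    (I : X.IdealSheafData) (d : ℕ) (hd : 0 < d)
    (hdegD : ∀ (G : X.Modules) (r : ℕ), FlatMod.IsFinLocFreeOfRank r G →
      Module.finrank k (ParSh.fibD X I G) = r * d)
    {E : X.Modules} (n : ℕ) (hn : 2 ≤ n) (hE : FlatMod.IsFinLocFreeOfRank n E)
    (F₁ : Submodule k (ParSh.fibD X I E))
    (α : ℝ) (hα1 : α < 1) (hα : 1 - 1 / ((d : ℝ) * (n : ℝ) * ((n : ℝ) - 1)) < α)
    (hss : ParSh.IsGPSemistable k X I α F₁ n) :
    ParSh.IsGPSemistable k X I 1 F₁ n := by
  intro F r' i hi hr hF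
  have h := hss F r' i hi hr hF
  have hrn : r' ≤ n := Groth.Agent.H92.LocFreeRank.rank_le_of_mono i hF hE
  have hfin : Module.finrank k (ParSh.fibD X I F) = r' * d := hdegD F r' hF
  have hpos : 0 < Module.finrank k (ParSh.fibD X I F) := by
    rw [hfin]; exact Nat.mul_pos hr hd
  have : Module.Finite k (ParSh.fibD X I F) := Module.finite_of_finrank_pos hpos
  have hf : Module.finrank k (ParSh.gpInduced k X I i F₁) ≤ r' * d := by
    rw [← hfin]; exact Submodule.finrank_le _
  simp only [ParSh.gpDeg, ParSh.gpWt] at h ⊢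
  exact num_semistable _ _ _ _ n r' d α hn hr hrn hd hf hα1 hα h

end Helpers


/-- Let Y be a smooth proper integral curve (integral, smooth and proper over k, of dimension one) over
an algebraically closed field k and D an effective Cartier divisor on Y with ideal I, of degree d ≥
1 in the sense that H⁰(Y, G ⊗ O_D) has k-dimension r·d for every finite locally free G of rank r. A
generalised parabolic structure on a finite locally free E is a k-subspace F₁ of H⁰(E ⊗ O_D); with
weight α its parabolic degree in rank n is deg E + α·dim_k F₁ (deg E = χ(E) − n·χ(O_Y)); a submodule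
G → E carries the preimage structure under H⁰(G ⊗ O_D) → H⁰(E ⊗ O_D), and (E, F₁) is α-semistable
(α-stable) when deg_α(G)·n ≤ (<) deg_α(E)·r for every finite locally free submodule G of rank r ≥ 1
(with r < n for stability); weight α = 1 gives 1-semistability and 1-stability. Let E have rank n ≥
2 with structure F₁ and let 0 ≤ α < 1 satisfy 1 − 1/(d·n·(n−1)) < α. If (E, F₁) is α-semistable then
it is 1-semistable. The published statement is set on the normalisation of a singular curve, with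
structures over several disjoint divisors D_i lying over its singular points and d their total
degree; here Y is any smooth proper integral curve with one structure over one divisor, which
contains the several-divisor case (D the sum of the D_i, F₁ the direct sum of the F₁^i). -/
theorem result (k : Type u) [Field k] [IsAlgClosed k] (X : Scheme.{u}) [X.Over (Spec (CommRingCat.of k))]
    [AlgebraicGeometry.IsIntegral X] [IsProper (X ↘ Spec (CommRingCat.of k))] [Smooth (X ↘ Spec (CommRingCat.of k))]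
    (hdim : topologicalKrullDim X = 1)
    (I : X.IdealSheafData) (hD : FGA.IsEffCartier I) (d : ℕ) (hd : 0 < d)
    (hdegD : ∀ (G : X.Modules) (r : ℕ), FlatMod.IsFinLocFreeOfRank r G → Module.finrank k (ParSh.fibD X I G) = r * d)
    {E : X.Modules} (n : ℕ) (hn : 2 ≤ n) (hE : FlatMod.IsFinLocFreeOfRank n E)
    (F₁ : Submodule k (ParSh.fibD X I E))
    (α : ℝ) (hα0 : 0 ≤ α) (hα1 : α < 1) (hα : 1 - 1 / ((d : ℝ) * (n : ℝ) * ((n : ℝ) - 1)) < α)
    (hss : ParSh.IsGPSemistable k X I α F₁ n) :
    ParSh.IsGPSemistable k X I 1 F₁ n := by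
  exact main k X I d hd hdegD n hn hE F₁ α hα1 hα hss

end Groth.Agent.S18568
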