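import Groth.Statements.S18569
import Mathlib.Tactic
-- import your own Groth.Agent.* helpers here

set_option autoImplicit false
universe u
open CategoryTheory CategoryTheory.Limits AlgebraicGeometry
open ParSh

namespace Groth.Agent.S18569

section Helpers
open CategoryTheory CategoryTheory.Limits AlgebraicGeometry

theorem one_sub_mul_lt (d n : ℕ) (hd : 0 < d) (hn : 2 ≤ n) (α : ℝ)
    (hα : 1 - 1 / ((d : ℝ) * (n : ℝ) * ((n : ℝ) - 1)) < α) :
    (1 - α) * ((d : ℝ) * (n : ℝ) * ((n : ℝ) - 1)) < 1 := by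
  have hd' : (0 : ℝ) < d := by exact_mod_cast hd
  have hn' : (2 : ℝ) ≤ n := by exact_mod_cast hn
  have hD : 0 < (d : ℝ) * (n : ℝ) * ((n : ℝ) - 1) := by
    apply mul_pos (mul_pos hd' (by linarith)) (by linarith)
  have h1 : 1 - α < 1 / ((d : ℝ) * (n : ℝ) * ((n : ℝ) - 1)) := by linarith
  rwa [lt_div_iff₀ hD] at h1

theorem num_stable (a b : ℤ) (f f' n r' d : ℕ) (α : ℝ) (hn : 2 ≤ n) (hr : 0 < r') (hrn : r' < n)
    (hd : 0 < d) (hf : f ≤ n * d) (hα1 : α < 1)
    (hα : 1 - 1 / ((d : ℝ) * (n : ℝ) * ((n : ℝ) - 1)) < α)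
    (h : ((a : ℝ) + 1 * (f' : ℝ)) * (n : ℝ) < ((b : ℝ) + 1 * (f : ℝ)) * (r' : ℝ)) :
    ((a : ℝ) + α * (f' : ℝ)) * (n : ℝ) < ((b : ℝ) + α * (f : ℝ)) * (r' : ℝ) := by
  have hZ : (a + f') * n + 1 ≤ (b + f) * r' := by
    have : (a + f') * n < (b + f) * r' := by
      have h' : (((a + f') * n : ℤ) : ℝ) < (((b + f) * r' : ℤ) : ℝ) := by
        push_cast
        linarith
      exact_mod_cast h'
    omega
  have hR : ((a : ℝ) + f') * n + 1 ≤ ((b : ℝ) + f) * r' := by exact_mod_cast hZ
  have hkey := one_sub_mul_lt d n hd hn α hα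
  have hf' : (f : ℝ) ≤ (n : ℝ) * d := by exact_mod_cast hf
  have hr' : (r' : ℝ) ≤ (n : ℝ) - 1 := by
    have : r' + 1 ≤ n := hrn
    have : ((r' + 1 : ℕ) : ℝ) ≤ n := by exact_mod_cast this
    push_cast at this
    linarith
  have h0f : (0 : ℝ) ≤ f := Nat.cast_nonneg _
  have h0f' : (0 : ℝ) ≤ f' := Nat.cast_nonneg _
  have h0n : (0 : ℝ) ≤ n := Nat.cast_nonneg _
  have h0r : (0 : ℝ) ≤ r' := Nat.cast_nonneg _
  have h0d : (0 : ℝ) ≤ d := Nat.cast_nonneg _
  have h1α : 0 < 1 - α := by linarith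
  have hfr : (f : ℝ) * r' ≤ (d : ℝ) * n * ((n : ℝ) - 1) := by
    calc (f : ℝ) * r' ≤ ((n : ℝ) * d) * ((n : ℝ) - 1) :=
          mul_le_mul hf' hr' h0r (mul_nonneg h0n h0d)
      _ = (d : ℝ) * n * ((n : ℝ) - 1) := by ring
  have h2 : (1 - α) * ((f : ℝ) * r' - f' * n) < 1 := by
    calc (1 - α) * ((f : ℝ) * r' - f' * n) ≤ (1 - α) * ((f : ℝ) * r') := by
          apply mul_le_mul_of_nonneg_left _ h1α.le
          have := mul_nonneg h0f' h0n
          linarith
      _ ≤ (1 - α) * ((d : ℝ) * n * ((n : ℝ) - 1)) := mul_le_mul_of_nonneg_left hfr h1α.le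
      _ < 1 := hkey
  nlinarith [h2, hR]

theorem main (k : Type u) [Field k] [IsAlgClosed k] (X : Scheme.{u}) [X.Over (Spec (CommRingCat.of k))]
    (I : X.IdealSheafData) (d : ℕ) (hd : 0 < d)
    (hdegD : ∀ (G : X.Modules) (r : ℕ), FlatMod.IsFinLocFreeOfRank r G →
      Module.finrank k (ParSh.fibD X I G) = r * d)
    {E : X.Modules} (n : ℕ) (hn : 2 ≤ n) (hE : FlatMod.IsFinLocFreeOfRank n E)
    (F₁ : Submodule k (ParSh.fibD X I E))
    (α : ℝ) (hα1 : α < 1) (hα : 1 - 1 / ((d : ℝ) * (n : ℝ) * ((n : ℝ) - 1)) < α)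
    (hst : ParSh.IsGPStable k X I 1 F₁ n) :
    ParSh.IsGPStable k X I α F₁ n := by
  intro F r' i hi hr hrn hF
  have h := hst F r' i hi hr hrn hF
  have hfin : Module.finrank k (ParSh.fibD X I E) = n * d := hdegD E n hE
  have hpos : 0 < Module.finrank k (ParSh.fibD X I E) := by
    rw [hfin]; exact Nat.mul_pos (by omega) hd
  have : Module.Finite k (ParSh.fibD X I E) := Module.finite_of_finrank_pos hpos
  have hf : Module.finrank k F₁ ≤ n * d := by
    rw [← hfin]; exact Submodule.finrank_le F₁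
  simp only [ParSh.gpDeg, ParSh.gpWt] at h ⊢
  exact num_stable _ _ _ _ n r' d α hn hr hrn hd hf hα1 hα h

end Helpers


/-- Let Y be a smooth proper integral curve (integral, smooth and proper over k, of dimension one) over
an algebraically closed field k and D an effective Cartier divisor on Y with ideal I, of degree d ≥
1 in the sense that H⁰(Y, G ⊗ O_D) has k-dimension r·d for every finite locally free G of rank r. A
generalised parabolic structure on a finite locally free E is a k-subspace F₁ of H⁰(E ⊗ O_D); with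
weight α its parabolic degree in rank n is deg E + α·dim_k F₁ (deg E = χ(E) − n·χ(O_Y)); a submodule
G → E carries the preimage structure under H⁰(G ⊗ O_D) → H⁰(E ⊗ O_D), and (E, F₁) is α-semistable
(α-stable) when deg_α(G)·n ≤ (<) deg_α(E)·r for every finite locally free submodule G of rank r ≥ 1
(with r < n for stability); weight α = 1 gives 1-semistability and 1-stability. Let E have rank n ≥
2 with structure F₁ and let 0 ≤ α < 1 satisfy 1 − 1/(d·n·(n−1)) < α. If (E, F₁) is 1-stable then it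
is α-stable. The published statement is set on the normalisation of a singular curve, with
structures over several disjoint divisors D_i lying over its singular points and d their total
degree; here Y is any smooth proper integral curve with one structure over one divisor, which
contains the several-divisor case (D the sum of the D_i, F₁ the direct sum of the F₁^i). -/
theorem result (k : Type u) [Field k] [IsAlgClosed k] (X : Scheme.{u}) [X.Over (Spec (CommRingCat.of k))]
    [AlgebraicGeometry.IsIntegral X] [IsProper (X ↘ Spec (CommRingCat.of k))] [Smooth (X ↘ Spec (CommRingCat.of k))]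
    (hdim : topologicalKrullDim X = 1)
    (I : X.IdealSheafData) (hD : FGA.IsEffCartier I) (d : ℕ) (hd : 0 < d)
    (hdegD : ∀ (G : X.Modules) (r : ℕ), FlatMod.IsFinLocFreeOfRank r G → Module.finrank k (ParSh.fibD X I G) = r * d)
    {E : X.Modules} (n : ℕ) (hn : 2 ≤ n) (hE : FlatMod.IsFinLocFreeOfRank n E)
    (F₁ : Submodule k (ParSh.fibD X I E))
    (α : ℝ) (hα0 : 0 ≤ α) (hα1 : α < 1) (hα : 1 - 1 / ((d : ℝ) * (n : ℝ) * ((n : ℝ) - 1)) < α)
    (hst : ParSh.IsGPStable k X I 1 F₁ n) :
    ParSh.IsGPStable k X I α F₁ n := by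
  exact main k X I d hd hdegD n hn hE F₁ α hα1 hα hst

end Groth.Agent.S18569
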