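import Groth.Statements.S1857
import Groth.Agent.H79.CycRelDim
import Groth.Agent.H79.CycComp

set_option autoImplicit false
universe u
open CategoryTheory AlgebraicGeometry
open Cyc

namespace Groth.Agent.S1857

/-- For flat morphisms f : X → Y and g : Y → Z locally of finite type of relative dimensions r and s,
the composite has relative dimension r + s and (g ∘ f)^* = f^* ∘ g^* on k-cycles (equality of
coefficient functions). Here a pair (X, δ) with Cyc.IsSetup plays the role of a scheme locally of
finite type over a fixed base with a dimension function (X locally Noetherian with universally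
catenary local rings, δ a dimension function), and Cyc.DeltaCompat records that the dimension
function upstairs is the induced one. -/
theorem result (X Y Z : Scheme.{u}) (δX : X → ℤ) (δY : Y → ℤ) (δZ : Z → ℤ) (hX : Cyc.IsSetup X δX) (hY : Cyc.IsSetup Y δY) (hZ : Cyc.IsSetup Z δZ) (f : X ⟶ Y) (g : Y ⟶ Z) [Flat f] [LocallyOfFiniteType f] [Flat g] [LocallyOfFiniteType g] (r s : ℕ) (hr : Cyc.HasRelDim f r) (hs : Cyc.HasRelDim g s) (hf : Cyc.DeltaCompat f δX δY) (hg : Cyc.DeltaCompat g δY δZ) (k : ℤ) : Cyc.HasRelDim (f ≫ g) (r + s) ∧ ∀ α : AlgebraicCycle Z ℤ, α ∈ Cyc.Zk Z δZ k → Cyc.pullFun f δX δY r (Cyc.pullFun g δY δZ s ⇑α) = Cyc.pullFun (f ≫ g) δX δZ ((r : ℤ) + s) ⇑α := by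
  obtain ⟨hNX, -, hδX⟩ := hX
  obtain ⟨hNY, -, hδY⟩ := hY
  refine ⟨Groth.Agent.H79.CycComp.hasRelDim_comp f g δX δY δZ hδX hδY hf hg r s hr hs, ?_⟩
  intro α _
  funext x
  have hle1 := Groth.Agent.H79.CycRelDim.delta_le_add_relDim f δX δY hδX hf r hr x
  have hle2 := Groth.Agent.H79.CycRelDim.delta_le_add_relDim g δY δZ hδY hg s hs (f x)
  have hcomp : (f ≫ g) x = g (f x) := rfl
  simp only [Cyc.pullFun]
  by_cases h1 : δX x = δY (f x) + r
  · rw [if_pos h1]
    by_cases h2 : δY (f x) = δZ (g (f x)) + s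
    · rw [if_pos h2, if_pos (by rw [hcomp]; omega)]
      have hfl := Groth.Agent.H79.CycComp.isFiniteLength_fibre_stalk g (f x) (by
        intro y' hy' hgy'
        by_contra hne
        have h3 := (hδY y' (f x) hy' hne).1
        have h4 := Groth.Agent.H79.CycRelDim.delta_le_add_relDim g δY δZ hδY hg s hs y'
        rw [hgy'] at h4
        omega)
      rw [Groth.Agent.H79.CycComp.length_fibre_comp f g x hfl, ENat.toNat_mul]
      push_cast
      rw [mul_assoc]
      rfl
    · rw [if_neg h2, zero_mul, if_neg (by rw [hcomp]; omega)]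
  · rw [if_neg h1, if_neg (by rw [hcomp]; omega)]

end Groth.Agent.S1857
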