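import Groth.Statements.S18579
import Groth.Agent.H92.PrimeUnits
-- import your own Groth.Agent.* helpers here

set_option autoImplicit false
universe u
open LogDiff

namespace Groth.Agent.S18579

/-- The exact sequence for units (first Milnor K-groups) when every component of the divisor is removed.
Let k be a field, B a smooth k-algebra, R the localization of B at a prime ideal, K the fraction
field of R and f_1, …, f_r pairwise non-associate prime elements of R. If w is a unit of K such that
w and w⁻¹ both lie in R[1/(f_1⋯f_r)], i.e. each becomes an element of R after multiplication by a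
power of f_1⋯f_r, then there is exactly one pair (v, b) consisting of a unit v of R and integers
b_1, …, b_r with w = v · ∏ f_i^{b_i} in K. (This is the exactness of 0 → Γ(Spec R, O^×) → Γ(Spec R ∖
V(f_1⋯f_r), O^×) → ℤ^r → 0, the last map being the orders along the f_i. The published statement
takes the f_i to be local equations of the components of a normal crossings divisor, over a field of
characteristic zero; this row allows arbitrary pairwise non-associate prime elements and any field.) -/
theorem result
    {k B R K : Type u} [Field k] [CommRing B] [Algebra k B] [Algebra.Smooth k B]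
    (p : Ideal B) [p.IsPrime] [CommRing R] [Algebra B R] [IsLocalization.AtPrime R p]
    [Field K] [Algebra R K] [IsFractionRing R K]
    {r : ℕ} (f : Fin r → R) (hf : ∀ i, Prime (f i)) (hfa : ∀ i j, Associated (f i) (f j) → i = j)
    (w : Kˣ)
    (hw : ∃ (a : R) (n : ℕ), (w : K) * algebraMap R K ((∏ i, f i) ^ n) = algebraMap R K a)
    (hw' : ∃ (a : R) (n : ℕ), (w⁻¹ : Kˣ) * algebraMap R K ((∏ i, f i) ^ n) = algebraMap R K a) :
    ∃! vb : Rˣ × (Fin r → ℤ),
      (w : K) = algebraMap R K (vb.1 : R) * ∏ i, (algebraMap R K (f i)) ^ (vb.2 i) := by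
  classical
  have hinj : Function.Injective (algebraMap R K) := IsFractionRing.injective R K
  have : IsDomain R := hinj.isDomain (algebraMap R K)
  have hfK : ∀ i, algebraMap R K (f i) ≠ 0 := fun i =>
    (map_ne_zero_iff _ hinj).mpr (hf i).ne_zero
  obtain ⟨a, n, ha⟩ := hw
  obtain ⟨a', n', ha'⟩ := hw'
  -- a * a' = F ^ (n + n')
  have haa' : a * a' = 1 * ∏ i, f i ^ (n + n') := by
    apply hinj
    rw [map_mul, ← ha, ← ha', one_mul, Finset.prod_pow, pow_add, map_mul]
    have : (w : K) * ((w⁻¹ : Kˣ) : K) = 1 := by rw [← Units.val_mul, mul_inv_cancel, Units.val_one]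
    calc (w : K) * algebraMap R K ((∏ i, f i) ^ n) * (((w⁻¹ : Kˣ) : K) * algebraMap R K ((∏ i, f i) ^ n'))
        = ((w : K) * ((w⁻¹ : Kˣ) : K)) * (algebraMap R K ((∏ i, f i) ^ n) * algebraMap R K ((∏ i, f i) ^ n')) := by ring
      _ = _ := by rw [this, one_mul]
  obtain ⟨b, e, hb1, hab⟩ := Groth.Agent.H92.PrimeUnits.exists_eq_mul_prod_pow f hf
    (fun _ => n + n') Finset.univ a a' 1 haa'
  have hbu : IsUnit b := isUnit_of_dvd_one hb1
  -- existence
  have hFn : algebraMap R K ((∏ i, f i) ^ n) ≠ 0 :=
    (map_ne_zero_iff _ hinj).mpr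
      (pow_ne_zero _ (Finset.prod_ne_zero_iff.mpr (fun i _ => (hf i).ne_zero)))
  have hex : (w : K) = algebraMap R K (hbu.unit : R) *
      ∏ i, (algebraMap R K (f i)) ^ ((e i : ℤ) - n) := by
    apply mul_right_cancel₀ hFn
    rw [ha, hab, map_mul, map_prod, mul_assoc]
    congr 1
    rw [← Finset.prod_pow, map_prod, ← Finset.prod_mul_distrib]
    refine Finset.prod_congr rfl (fun i _ => ?_)
    rw [map_pow, map_pow, ← zpow_natCast, ← zpow_natCast, ← zpow_add₀ (hfK i)]
    congr 1
    ring
  refine ⟨(hbu.unit, fun i => (e i : ℤ) - n), hex, ?_⟩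
  rintro ⟨v', b'⟩ hv'
  simp only at hv'
  -- clear denominators
  let M : Fin r → ℕ := fun i => n + (b' i).natAbs
  have key : ((hbu.unit : Rˣ) : R) * ∏ i, f i ^ (e i + (b' i).natAbs) =
      (v' : R) * ∏ i, f i ^ ((b' i + M i).toNat) := by
    apply hinj
    have h1 : (w : K) * ∏ i, algebraMap R K (f i) ^ ((M i : ℕ) : ℤ) =
        algebraMap R K (((hbu.unit : Rˣ) : R) * ∏ i, f i ^ (e i + (b' i).natAbs)) := by
      rw [hex, mul_assoc, ← Finset.prod_mul_distrib, map_mul, map_prod]
      congr 1
      refine Finset.prod_congr rfl (fun i _ => ?_)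
      rw [← zpow_add₀ (hfK i), map_pow, ← zpow_natCast]
      congr 1
      simp only [M]; push_cast; ring
    have h2 : (w : K) * ∏ i, algebraMap R K (f i) ^ ((M i : ℕ) : ℤ) =
        algebraMap R K ((v' : R) * ∏ i, f i ^ ((b' i + M i).toNat)) := by
      rw [hv', mul_assoc, ← Finset.prod_mul_distrib, map_mul, map_prod]
      congr 1
      refine Finset.prod_congr rfl (fun i _ => ?_)
      rw [← zpow_add₀ (hfK i), map_pow, ← zpow_natCast]
      congr 1
      have : 0 ≤ b' i + M i := by
        simp only [M, Nat.cast_add]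
        omega
      rw [Int.toNat_of_nonneg this]
    rw [← h1, h2]
  obtain ⟨hv, hm⟩ := Groth.Agent.H92.PrimeUnits.unit_mul_prod_injective f hf hfa key
  refine Prod.ext hv.symm ?_
  funext i
  have := congrFun hm i
  simp only at this ⊢
  have hnn : 0 ≤ b' i + M i := by
    simp only [M, Nat.cast_add]
    omega
  have h3 : ((e i + (b' i).natAbs : ℕ) : ℤ) = b' i + M i := by
    rw [this, Int.toNat_of_nonneg hnn]
  simp only [M, Nat.cast_add] at h3
  omega

end Groth.Agent.S18579
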