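import Groth.Statements.S18580
import Mathlib.Tactic
-- import your own Groth.Agent.* helpers here

set_option autoImplicit false
universe u
open EtBase

namespace Groth.Agent.S18580

section Helpers
open CategoryTheory CategoryTheory.Limits AlgebraicGeometry

theorem isOpenImmersion_of_section {X Y : Scheme.{u}} (f : X ⟶ Y)
    [FormallyUnramified f] [LocallyOfFiniteType f] (s : Y ⟶ X) (hs : s ≫ f = 𝟙 Y) :
    IsOpenImmersion s := by
  set gr : Y ⟶ pullback (s ≫ f) f := pullback.lift (𝟙 Y) s (by simp) with hgr
  have h0 : s = gr ≫ pullback.snd _ _ := (pullback.lift_snd _ _ _).symm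
  have h1 : IsOpenImmersion gr :=
    MorphismProperty.of_isPullback (P := @IsOpenImmersion)
      (pullback_lift_diagonal_isPullback s f) inferInstance
  have h2 : IsOpenImmersion (pullback.snd (s ≫ f) f) := by
    have : IsIso (s ≫ f) := by rw [hs]; infer_instance
    infer_instance
  rw [h0]
  infer_instance

theorem isClosedImmersion_of_section {X Y : Scheme.{u}} (f : X ⟶ Y)
    [IsSeparated f] (s : Y ⟶ X) (hs : s ≫ f = 𝟙 Y) :
    IsClosedImmersion s := by
  have : IsClosedImmersion (s ≫ f) := by rw [hs]; infer_instance
  exact IsClosedImmersion.of_comp s f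

theorem main {X Y : Scheme.{u}} (f : X ⟶ Y)
    [FormallyUnramified f] [LocallyOfFiniteType f] [IsSeparated f] [ConnectedSpace Y] :
    ∃ e : {s : Y ⟶ X // s ≫ f = 𝟙 Y} ≃
        {U : X.Opens // (∃ x : X, (U : Set X) = connectedComponent x) ∧ IsIso (U.ι ≫ f)},
      ∀ s : {s : Y ⟶ X // s ≫ f = 𝟙 Y}, ((e s).1 : Set X) = Set.range s.1 := by
  have hoi : ∀ s : {s : Y ⟶ X // s ≫ f = 𝟙 Y}, IsOpenImmersion s.1 :=
    fun s => isOpenImmersion_of_section f s.1 s.2
  have key : ∀ s : {s : Y ⟶ X // s ≫ f = 𝟙 Y},
      (∃ x : X, (Set.range s.1 : Set X) = connectedComponent x) ∧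
      ∀ U : X.Opens, (U : Set X) = Set.range s.1 →
        ∃ (h : IsIso (U.ι ≫ f)), @inv _ _ _ _ (U.ι ≫ f) h ≫ U.ι = s.1 := by
    rintro ⟨s, hs⟩
    have ho := isOpenImmersion_of_section f s hs
    have hc := isClosedImmersion_of_section f s hs
    refine ⟨?_, ?_⟩
    · obtain ⟨y₀⟩ : Nonempty Y := inferInstance
      refine ⟨s y₀, ?_⟩
      have hclopen : IsClopen (Set.range s) :=
        ⟨s.isClosedEmbedding.isClosed_range, s.isOpenEmbedding.isOpen_range⟩
      have hconn : _root_.IsPreconnected (Set.range s) := isPreconnected_range s.continuous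
      apply subset_antisymm
      · exact hconn.subset_connectedComponent ⟨y₀, rfl⟩
      · exact hclopen.connectedComponent_subset ⟨y₀, rfl⟩
    · intro U hU
      let i : Y ≅ U := IsOpenImmersion.isoOfRangeEq s U.ι (by simp [hU])
      have hi : i.hom ≫ U.ι = s := IsOpenImmersion.isoOfRangeEq_hom_fac _ _ _
      have h1 : U.ι ≫ f = i.inv := by
        rw [← cancel_epi i.hom, ← Category.assoc, hi, hs, Iso.hom_inv_id]
      have h2 : IsIso (U.ι ≫ f) := by rw [h1]; infer_instance
      refine ⟨h2, ?_⟩
      change inv (U.ι ≫ f) ≫ U.ι = s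
      rw [← hi]
      congr 1
      rw [IsIso.inv_eq_of_hom_inv_id]
      rw [h1, Iso.inv_hom_id]
  refine ⟨{ toFun := fun s => ⟨⟨Set.range s.1, (hoi s).base_open.isOpen_range⟩, (key s).1,
              ((key s).2 _ rfl).1⟩
            invFun := fun U => ⟨@inv _ _ _ _ (U.1.ι ≫ f) U.2.2 ≫ U.1.ι, by simp⟩
            left_inv := fun s => Subtype.ext ((key s).2 _ rfl).2
            right_inv := fun U => ?_ }, fun s => rfl⟩
  obtain ⟨U, hU1, hU2⟩ := U
  apply Subtype.ext
  apply TopologicalSpace.Opens.ext
  simp only [TopologicalSpace.Opens.coe_mk, Scheme.Hom.comp_base, TopCat.hom_comp,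
    ContinuousMap.coe_comp, Set.range_comp]
  have : Function.Surjective (@inv _ _ _ _ (U.ι ≫ f) hU2) := by
    intro x
    refine ⟨(U.ι ≫ f) x, ?_⟩
    rw [← Scheme.Hom.comp_apply]
    simp
  rw [this.range_eq]
  simp only [Set.image_univ]
  exact U.range_ι


end Helpers

open AlgebraicGeometry CategoryTheory in
/-- Let Y be a connected scheme and f : X ⟶ Y a separated morphism that is unramified (locally of finite
type and formally unramified). Then the sections of f correspond bijectively to the connected
components of X mapping isomorphically onto Y: there is a bijection from the set of sections s of f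
to the set of open subschemes U of X whose underlying set is a connected component of X and for
which U ⟶ X ⟶ Y is an isomorphism, sending s to its image. In particular every section is an
isomorphism onto a connected component of X and is determined by its image. (A connected component
mapping isomorphically onto Y is the image of a section, hence open, so restricting to open
components loses nothing. The published statement also assumes Y Noetherian; that hypothesis plays
no role and is omitted.) -/
theorem result {X Y : Scheme.{u}} (f : X ⟶ Y)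
    [FormallyUnramified f] [LocallyOfFiniteType f] [IsSeparated f] [ConnectedSpace Y] :
    ∃ e : {s : Y ⟶ X // s ≫ f = 𝟙 Y} ≃
        {U : X.Opens // (∃ x : X, (U : Set X) = connectedComponent x) ∧ IsIso (U.ι ≫ f)},
      ∀ s : {s : Y ⟶ X // s ≫ f = 𝟙 Y}, ((e s).1 : Set X) = Set.range s.1 := by
  exact main f

end Groth.Agent.S18580
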