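import Groth.Statements.S18587
import Groth.Agent.H92.WittCyc
-- import your own Groth.Agent.* helpers here

set_option autoImplicit false
universe u
open CAlg

namespace Groth.Agent.S18587

/-- Affine form with D = 0: let p be a prime, ℓ ≥ 1 an integer not divisible by p and n ≥ 1. Let A → B
be an injective ring homomorphism of integral domains of characteristic p such that B is spanned as
an A-module by finitely many elements y with y ^ ℓ in the image of A (a weakly ℓ-cyclic extension).
Then for every p-typical Witt vector ζ over B in the image of the n-fold Verschiebung there is a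
nonzero a in A such that the product of the Teichmüller representative of (the image of) a with ζ
lies in the ideal of W(B) generated by the images of the n-fold Verschiebungs of Witt vectors over
A. (This is the case D = 0 of the published statement, written for the coordinate rings; the
published statement allows a twist by a real Weil divisor D and assumes the rings excellent and
normal, hypotheses which the case D = 0 does not use.) -/
theorem result
    (p : ℕ) [Fact p.Prime] (ℓ n : ℕ) (hℓ : 0 < ℓ) (hpℓ : ¬ p ∣ ℓ) (hn : 0 < n)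
    (A B : Type u) [CommRing A] [CommRing B] [IsDomain A] [IsDomain B] [Algebra A B]
    [CharP A p] [CharP B p] (hinj : Function.Injective (algebraMap A B))
    (y : Finset B) (hspan : Submodule.span A (y : Set B) = ⊤)
    (hpow : ∀ b ∈ y, b ^ ℓ ∈ Set.range (algebraMap A B))
    (ζ : WittVector p B)
    (hζ : ∃ η : WittVector p B, (⇑(WittVector.verschiebung : WittVector p B →+ WittVector p B))^[n] η = ζ) :
    ∃ a : A, a ≠ 0 ∧ WittVector.teichmuller p (algebraMap A B a) * ζ ∈
      Ideal.span (Set.range (fun x : WittVector p A =>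
        WittVector.map (algebraMap A B) ((⇑(WittVector.verschiebung : WittVector p A →+ WittVector p A))^[n] x))) := by
  classical
  obtain ⟨η, rfl⟩ := hζ
  set f : A →+* B := algebraMap A B with hf
  -- the nonzero generators
  let Y' : Finset B := y.filter (fun b => b ≠ 0)
  have hY'mem : ∀ b : Y', (b : B) ∈ y := fun b => (Finset.mem_filter.mp b.2).1
  have hY'ne : ∀ b : Y', (b : B) ≠ 0 := fun b => (Finset.mem_filter.mp b.2).2
  let aOf : Y' → A := fun b => (hpow b (hY'mem b)).choose
  have haOf : ∀ b : Y', f (aOf b) = (b : B) ^ ℓ := fun b => (hpow b (hY'mem b)).choose_spec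
  have haOf_ne : ∀ b : Y', aOf b ≠ 0 := by
    intro b h0
    have := haOf b
    rw [h0, map_zero] at this
    exact pow_ne_zero ℓ (hY'ne b) this.symm
  let P : A := ∏ b : Y', aOf b
  have hP : P ≠ 0 := Finset.prod_ne_zero_iff.mpr (fun b _ => haOf_ne b)
  let α : A := P ^ p ^ n
  have hα : α ≠ 0 := pow_ne_zero _ hP
  let z : Y' × Fin ℓ → B := fun j => (j.1 : B) ^ ((j.2 : ℕ) + 1)
  have hp0 : 0 < p := (Fact.out : p.Prime).pos
  have hcop : ∀ m : ℕ, Nat.Coprime (p ^ m) ℓ := fun m =>
    Nat.Coprime.pow_left m ((Nat.Prime.coprime_iff_not_dvd Fact.out).mpr hpℓ)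
  have hyp : Groth.Agent.H92.WittCyc.Hyp (p := p) f z n α := by
    refine ⟨?_, ?_⟩
    · intro b'
      have hb' : b' ∈ Submodule.span A (y : Set B) := by rw [hspan]; trivial
      obtain ⟨c, -, hc⟩ := Submodule.mem_span_finset.mp hb'
      refine ⟨fun j => if (j.2 : ℕ) = 0 then c j.1 else 0, ?_⟩
      rw [Fintype.sum_prod_type]
      have h1 : ∀ b : Y', ∑ u : Fin ℓ, f (if (u : ℕ) = 0 then c b else 0) * z (b, u) =
          c b • (b : B) := by
        intro b
        rw [Finset.sum_eq_single (⟨0, hℓ⟩ : Fin ℓ)]
        · simp [z, Algebra.smul_def, hf]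
        · intro u _ hu
          have : (u : ℕ) ≠ 0 := fun h => hu (Fin.ext h)
          simp [this]
        · intro h; exact absurd (Finset.mem_univ _) h
      rw [Finset.sum_congr rfl (fun b _ => h1 b)]
      rw [Finset.sum_coe_sort Y' (fun b => c b • b), Finset.sum_filter, ← hc]
      refine Finset.sum_congr rfl (fun b _ => ?_)
      by_cases hb0 : b = 0
      · simp [hb0]
      · simp [hb0]
    · intro i j
      obtain ⟨e', q, he'1, he'ℓ, hq, heq⟩ := Groth.Agent.H92.WittCyc.exists_mul_eq_add_mul hℓ
        (hcop (n + i)) (pow_pos hp0 _) (Nat.succ_le_succ (Nat.zero_le (j.2 : ℕ)))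
        (Nat.succ_le_of_lt j.2.2)
      -- divisibility
      have hdvd : aOf j.1 ^ q ∣ α ^ p ^ i := by
        have h1 : aOf j.1 ∣ P := Finset.dvd_prod_of_mem _ (Finset.mem_univ j.1)
        have h2 : α ^ p ^ i = P ^ p ^ (n + i) := by
          simp only [α]; rw [← pow_mul, ← pow_add]
        rw [h2]
        exact (pow_dvd_pow _ hq.le).trans (pow_dvd_pow_of_dvd h1 _)
      obtain ⟨g, hg⟩ := hdvd
      refine ⟨(j.1, ⟨e' - 1, by omega⟩), g, ?_⟩
      have he'' : e' - 1 + 1 = e' := by omega
      have hz' : ((j.1 : B) ^ e') ^ p ^ (n + i) =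
          (j.1 : B) ^ ((j.2 : ℕ) + 1) * f (aOf j.1) ^ q := by
        rw [← pow_mul, heq, Nat.succ_eq_add_one, pow_add _ ((j.2 : ℕ) + 1), pow_mul, haOf]
      change f α ^ p ^ i * (j.1 : B) ^ ((j.2 : ℕ) + 1) =
        f g * ((j.1 : B) ^ (e' - 1 + 1)) ^ p ^ (n + i)
      rw [he'', hz', ← map_pow, hg, map_mul, map_pow]
      ring
  -- apply the Teichmüller trick
  obtain ⟨X, hX⟩ := Groth.Agent.H92.WittCyc.main hyp (WittVector.teichmuller p (f α ^ (p ^ n - 1)) * η)
  refine ⟨α, hα, ?_⟩
  have hpn : p ^ n ≠ 0 := pow_ne_zero _ hp0.ne'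
  have e1 : WittVector.teichmuller p (f α) *
      (⇑(WittVector.verschiebung : WittVector p B →+ WittVector p B))^[n] η =
      ∑ j, WittVector.map f ((⇑(WittVector.verschiebung : WittVector p A →+ WittVector p A))^[n] (X j)) *
        WittVector.teichmuller p (z j) := by
    rw [Groth.Agent.H92.WittCyc.teichmuller_mul_iterate_verschiebung, ← mul_pow_sub_one hpn (f α),
      map_mul, mul_assoc, hX, Groth.Agent.H92.WittCyc.iterate_verschiebung_sum]
    refine Finset.sum_congr rfl (fun j _ => ?_)
    rw [Groth.Agent.H92.WittCyc.iterate_verschiebung_mul_teichmuller_pow,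
      Groth.Agent.H92.WittCyc.map_iterate_verschiebung]
  rw [e1]
  refine Ideal.sum_mem _ (fun j _ => ?_)
  exact Ideal.mul_mem_right _ _ (Ideal.subset_span ⟨X j, rfl⟩)

end Groth.Agent.S18587
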