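import Groth.Statements.S18590
import Groth.Agent.H92.WittHomog
import Mathlib.RingTheory.WittVector.Basic

set_option autoImplicit false
universe u
open CAlg

namespace Groth.Agent.S18590

open MvPolynomial

section Aux

variable {A K : Type u} [CommRing A] [CommRing K] [Algebra A K] (M : ℕ → Submodule A K)

/-- graded membership: degree `0` means a scalar from `A`, positive degree `j` means `M j`. -/
def GrMem (j : ℕ) (y : K) : Prop :=
  (j = 0 ∧ y ∈ Set.range (algebraMap A K)) ∨ (0 < j ∧ y ∈ M j)

variable {M}

theorem grMem_one : GrMem M 0 (1 : K) := Or.inl ⟨rfl, 1, map_one _⟩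

theorem grMem_mul (hmul : ∀ (i j : ℕ) (a b : K), a ∈ M i → b ∈ M j → a * b ∈ M (i + j))
    {i j : ℕ} {a b : K} (ha : GrMem M i a) (hb : GrMem M j b) : GrMem M (i + j) (a * b) := by
  rcases ha with ⟨rfl, a', rfl⟩ | ⟨hi, ha⟩
  · rcases hb with ⟨rfl, b', rfl⟩ | ⟨hj, hb⟩
    · exact Or.inl ⟨rfl, a' * b', map_mul _ _ _⟩
    · refine Or.inr ⟨by omega, ?_⟩
      rw [zero_add, ← Algebra.smul_def]
      exact Submodule.smul_mem _ _ hb
  · rcases hb with ⟨rfl, b', rfl⟩ | ⟨hj, hb⟩
    · refine Or.inr ⟨by omega, ?_⟩
      rw [add_zero, mul_comm, ← Algebra.smul_def]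
      exact Submodule.smul_mem _ _ ha
    · exact Or.inr ⟨by omega, hmul i j a b ha hb⟩

theorem grMem_pow (hmul : ∀ (i j : ℕ) (a b : K), a ∈ M i → b ∈ M j → a * b ∈ M (i + j))
    {i : ℕ} {a : K} (ha : GrMem M i a) (k : ℕ) : GrMem M (k * i) (a ^ k) := by
  induction k with
  | zero => simpa using grMem_one
  | succ k ih =>
    rw [pow_succ, Nat.succ_mul]
    exact grMem_mul hmul ih ha

theorem grMem_prod (hmul : ∀ (i j : ℕ) (a b : K), a ∈ M i → b ∈ M j → a * b ∈ M (i + j))
    {ι : Type*} (S : Finset ι) (e : ι → ℕ) (y : ι → K) (h : ∀ i ∈ S, GrMem M (e i) (y i)) :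
    GrMem M (∑ i ∈ S, e i) (∏ i ∈ S, y i) := by
  classical
  induction S using Finset.induction_on with
  | empty => simpa using grMem_one
  | insert a S ha ih =>
    rw [Finset.sum_insert ha, Finset.prod_insert ha]
    exact grMem_mul hmul (h a (Finset.mem_insert_self _ _))
      (ih (fun i hi => h i (Finset.mem_insert_of_mem hi)))

theorem aeval_mem (hmul : ∀ (i j : ℕ) (a b : K), a ∈ M i → b ∈ M j → a * b ∈ M (i + j))
    {σ : Type*} (w : σ → ℕ) (P : MvPolynomial σ ℤ) (m : ℕ) (hm : 0 < m)
    (hP : IsWeightedHomogeneous w P m) (z : σ → K) (hz : ∀ s, GrMem M (w s) (z s)) :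
    aeval z P ∈ M m := by
  rw [← support_sum_monomial_coeff P, map_sum]
  refine Submodule.sum_mem _ (fun d hd => ?_)
  rw [aeval_monomial]
  have wd : Finsupp.weight w d = m := hP (mem_support_iff.mp hd)
  have h1 : GrMem M (Finsupp.weight w d) (d.prod fun i k => z i ^ k) := by
    rw [Finsupp.weight_apply, Finsupp.prod, Finsupp.sum]
    refine grMem_prod hmul _ _ _ (fun i _ => ?_)
    rw [smul_eq_mul]
    exact grMem_pow hmul (hz i) _
  rw [wd] at h1
  rcases h1 with ⟨h0, _⟩ | ⟨_, hmem⟩
  · omega
  · rw [eq_intCast, ← zsmul_eq_mul]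
    exact zsmul_mem hmem _

end Aux

/-- Let p be a prime, A a commutative ring, K a commutative A-algebra of characteristic p and M_0, M_1,
M_2, … A-submodules of K with M_i · M_j ⊆ M_(i+j) for all i, j. Then the subset of the ring W(K) of
p-typical Witt vectors consisting of the vectors whose n-th coordinate lies in M_(p^n) for every n
is closed under addition and under multiplication by the image of W(A) under W of the structure map;
in other words it is a W(A)-submodule of W(K). (The published statement is the case of an integral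
normal noetherian scheme X of characteristic p with function field K, an affine open subset U with
coordinate ring A, and M_k the module of sections over U of the divisorial sheaf of k·D for a real
Weil divisor D on X; these form such a multiplicative family, and the subset is then the module of
sections over U of the Witt divisorial sheaf of D inside W(K). Only the two stated properties of
that family enter.) -/
theorem result
    (p : ℕ) [Fact p.Prime] (A K : Type u) [CommRing A] [CommRing K] [Algebra A K] [CharP K p]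
    (M : ℕ → Submodule A K)
    (hmul : ∀ (i j : ℕ) (a b : K), a ∈ M i → b ∈ M j → a * b ∈ M (i + j)) :
    (∀ φ ψ : WittVector p K, (∀ n : ℕ, φ.coeff n ∈ M (p ^ n)) → (∀ n : ℕ, ψ.coeff n ∈ M (p ^ n)) →
        ∀ n : ℕ, (φ + ψ).coeff n ∈ M (p ^ n)) ∧
      (∀ (x : WittVector p A) (φ : WittVector p K), (∀ n : ℕ, φ.coeff n ∈ M (p ^ n)) →
        ∀ n : ℕ, (WittVector.map (algebraMap A K) x * φ).coeff n ∈ M (p ^ n)) := by
  constructor
  · intro φ ψ hφ hψ n
    rw [WittVector.add_coeff, WittVector.peval]
    have h := Groth.Agent.H92.wittAdd_isWeightedHomogeneous p n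
    rw [one_mul] at h
    refine aeval_mem hmul _ _ _ (pow_pos (Fact.out : p.Prime).pos n) h _ (fun s => ?_)
    obtain ⟨b, i⟩ := s
    refine Or.inr ⟨?_, ?_⟩
    · simp only [Groth.Agent.H92.wittWt, one_mul]
      exact pow_pos (Fact.out : p.Prime).pos i
    · simp only [Groth.Agent.H92.wittWt, one_mul, Function.uncurry]
      fin_cases b
      · exact hφ i
      · exact hψ i
  · intro x φ hφ n
    rw [WittVector.mul_coeff, WittVector.peval]
    have h := Groth.Agent.H92.wittMul_isWeightedHomogeneous_right p n
    rw [one_mul] at h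
    refine aeval_mem hmul _ _ _ (pow_pos (Fact.out : p.Prime).pos n) h _ (fun s => ?_)
    obtain ⟨b, i⟩ := s
    fin_cases b
    · refine Or.inl ⟨?_, ?_⟩
      · simp [Groth.Agent.H92.wittWt]
      · simp only [Function.uncurry]
        exact ⟨x.coeff i, by simp [WittVector.map_coeff]⟩
    · refine Or.inr ⟨?_, ?_⟩
      · simp only [Groth.Agent.H92.wittWt]
        simpa using pow_pos (Fact.out : p.Prime).pos i
      · simp only [Groth.Agent.H92.wittWt, Function.uncurry]
        simpa using hφ i

end Groth.Agent.S18590
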