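import Groth.Statements.S18598
import Mathlib
-- import your own Groth.Agent.* helpers here

set_option autoImplicit false
universe u
open SSRed

namespace Groth.Agent.S18598

section Helpers
open SSRed
open Polynomial

variable {O : Type u} [CommRing O] [IsDomain O]

theorem one_sub_dvd {m : ℕ} [NeZero m] {α μ : O} (hα : IsPrimitiveRoot α m) (hμ : IsPrimitiveRoot μ m) :
    (1 - α) ∣ (1 - μ) := by
  obtain ⟨i, -, rfl⟩ := hα.eq_pow_of_pow_eq_one hμ.pow_eq_one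
  have := sub_dvd_pow_sub_pow 1 α i
  rwa [one_pow] at this

theorem eval_one_eq {m : ℕ} {α : O} (hα : IsPrimitiveRoot α m) :
    eval 1 (cyclotomic m O) = ∏ μ ∈ primitiveRoots m O, (1 - μ) := by
  rw [cyclotomic_eq_prod_X_sub_primitiveRoots hα, eval_prod]
  simp

theorem pow_dvd_eval {m : ℕ} [NeZero m] {α : O} (hα : IsPrimitiveRoot α m) :
    (1 - α) ^ m.totient ∣ eval 1 (cyclotomic m O) := by
  rw [eval_one_eq hα, ← hα.card_primitiveRoots, ← Finset.prod_const]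
  apply Finset.prod_dvd_prod_of_dvd
  intro μ hμ
  exact one_sub_dvd hα ((mem_primitiveRoots (NeZero.pos m)).mp hμ)

theorem eval_dvd_pow {m : ℕ} [NeZero m] {α : O} (hα : IsPrimitiveRoot α m) :
    eval 1 (cyclotomic m O) ∣ (1 - α) ^ m.totient := by
  rw [eval_one_eq hα, ← hα.card_primitiveRoots, ← Finset.prod_const]
  apply Finset.prod_dvd_prod_of_dvd
  intro μ hμ
  exact one_sub_dvd ((mem_primitiveRoots (NeZero.pos m)).mp hμ) hα

/-- arithmetic core -/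
theorem arith (ℓ k a : ℕ) (hℓ : ℓ.Prime) (ha : 1 ≤ a) (h : ℓ ^ k * (ℓ - 1) * a ≤ 2) :
    (ℓ ^ a = 2 ∧ ℓ ^ (k + 1) ∣ 4) ∨ (ℓ ^ a = 3 ∧ ℓ ^ (k + 1) = 3) ∨ (ℓ ^ a = 4 ∧ ℓ ^ (k + 1) = 2) := by
  have h2 := hℓ.two_le
  have hk : 1 ≤ ℓ ^ k := Nat.one_le_pow _ _ (by omega)
  have h1 : (ℓ - 1) * a ≤ 2 := by
    calc (ℓ - 1) * a = 1 * ((ℓ - 1) * a) := (one_mul _).symm
      _ ≤ ℓ ^ k * ((ℓ - 1) * a) := Nat.mul_le_mul_right _ hk
      _ = ℓ ^ k * (ℓ - 1) * a := (mul_assoc _ _ _).symm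
      _ ≤ 2 := h
  have h3 : ℓ - 1 ≤ 2 := by
    calc ℓ - 1 = (ℓ - 1) * 1 := (mul_one _).symm
      _ ≤ (ℓ - 1) * a := Nat.mul_le_mul_left _ ha
      _ ≤ 2 := h1
  have hℓ3 : ℓ = 2 ∨ ℓ = 3 := by omega
  rcases hℓ3 with rfl | rfl
  · -- ℓ = 2 : 2^k * a ≤ 2
    have h4 : 2 ^ k * a ≤ 2 := by simpa using h
    rcases k with _ | _ | k
    · -- k = 0, a ≤ 2
      have : a = 1 ∨ a = 2 := by simp at h4; omega
      rcases this with rfl | rfl
      · left; norm_num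
      · right; right; norm_num
    · -- k = 1 : 2 a ≤ 2 → a = 1
      have : a = 1 := by simp at h4; omega
      subst this
      left; norm_num
    · exfalso
      have : 4 ≤ 2 ^ (k + 1 + 1) := by
        calc 4 = 2 ^ 2 := by norm_num
          _ ≤ 2 ^ (k + 1 + 1) := Nat.pow_le_pow_right (by norm_num) (by omega)
      nlinarith
  · -- ℓ = 3 : 3^k * 2 * a ≤ 2
    have h4 : 3 ^ k * 2 * a ≤ 2 := by simpa using h
    have ha1 : a = 1 := by
      by_contra hne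
      have : 2 ≤ a := by omega
      nlinarith
    subst ha1
    rcases k with _ | k
    · right; left; norm_num
    · exfalso
      have : 3 ≤ 3 ^ (k + 1) := by
        calc 3 = 3 ^ 1 := by norm_num
          _ ≤ 3 ^ (k + 1) := Nat.pow_le_pow_right (by norm_num) (by omega)
      nlinarith

theorem main (O : Type u) [CommRing O] [IsDomain O] [CharZero O]
    (n : ℕ) (hn : 0 < n) (hO : ∀ p : ℕ, p.Prime → p ∣ n → ¬ IsUnit (p : O))
    (α : O) (hα : IsOfFinOrder α) (h : (n : O) ∣ (α - 1) ^ 2) :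
    (5 ≤ n → α = 1) ∧ (n = 4 → α ^ 2 = 1) ∧ (n = 3 → α ^ 3 = 1) ∧ (n = 2 → α ^ 4 = 1) := by
  by_cases hα1 : α = 1
  · subst hα1; simp
  -- it suffices to treat n ≥ 2
  suffices H : 2 ≤ n → (n = 2 ∧ orderOf α ∣ 4) ∨ (n = 3 ∧ orderOf α = 3) ∨ (n = 4 ∧ orderOf α = 2) by
    refine ⟨fun h5 => ?_, fun h4 => ?_, fun h3 => ?_, fun h2 => ?_⟩
    · rcases H (by omega) with ⟨h, -⟩ | ⟨h, -⟩ | ⟨h, -⟩ <;> omega
    · rcases H (by omega) with ⟨h, -⟩ | ⟨h, -⟩ | ⟨-, h⟩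
      · omega
      · omega
      · rw [← h]; exact pow_orderOf_eq_one α
    · rcases H (by omega) with ⟨h, -⟩ | ⟨-, h⟩ | ⟨h, -⟩
      · omega
      · rw [← h]; exact pow_orderOf_eq_one α
      · omega
    · rcases H (by omega) with ⟨-, h⟩ | ⟨h, -⟩ | ⟨h, -⟩
      · exact orderOf_dvd_iff_pow_eq_one.mp h
      · omega
      · omega
  intro hn2
  set m := orderOf α with hm
  have hmpos : 0 < m := hα.orderOf_pos
  haveI : NeZero m := ⟨hmpos.ne'⟩
  have hprim : IsPrimitiveRoot α m := IsPrimitiveRoot.orderOf α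
  have hm1 : m ≠ 1 := by
    intro h1
    apply hα1
    rw [← orderOf_eq_one_iff]; exact h1
  -- a prime dividing n
  obtain ⟨q, hq, hqn⟩ := Nat.exists_prime_and_dvd (show n ≠ 1 by omega)
  have hnotunit : ¬ IsUnit (n : O) := fun hu =>
    hO q hq hqn (isUnit_of_dvd_unit (Nat.cast_dvd_cast hqn) hu)
  have hα0 : α - 1 ≠ 0 := sub_ne_zero.mpr hα1
  have hnu : ¬ IsUnit (α - 1) := fun hu => hnotunit (isUnit_of_dvd_unit h (hu.pow 2))
  have hneg : (1 - α) = -(α - 1) := by ring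
  have hnu' : ¬ IsUnit (1 - α) := by rw [hneg, IsUnit.neg_iff]; exact hnu
  have htot : 0 < m.totient := Nat.totient_pos.mpr hmpos
  -- m is a prime power
  by_cases hpp : ∀ {p : ℕ}, p.Prime → ∀ k : ℕ, p ^ k ≠ m
  · exfalso
    have h1 := pow_dvd_eval hprim
    rw [eval_one_cyclotomic_not_prime_pow hpp] at h1
    exact hnu' ((isUnit_pow_iff htot.ne').mp (isUnit_of_dvd_one h1))
  push_neg at hpp
  obtain ⟨ℓ, hℓ, k', hk'⟩ := hpp
  have hk'0 : k' ≠ 0 := by
    rintro rfl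
    rw [pow_zero] at hk'
    exact hm1 hk'.symm
  obtain ⟨k, rfl⟩ := Nat.exists_eq_succ_of_ne_zero hk'0
  haveI : Fact ℓ.Prime := ⟨hℓ⟩
  have hΦ : eval 1 (cyclotomic m O) = (ℓ : O) := by
    rw [← hk']; exact eval_one_cyclotomic_prime_pow k
  have hφ : m.totient = ℓ ^ k * (ℓ - 1) := by
    rw [← hk', Nat.totient_prime_pow_succ hℓ]
  have hd1 : (1 - α) ^ m.totient ∣ (ℓ : O) := by rw [← hΦ]; exact pow_dvd_eval hprim
  have hd2 : (ℓ : O) ∣ (1 - α) ^ m.totient := by rw [← hΦ]; exact eval_dvd_pow hprim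
  have hℓnu : ¬ IsUnit (ℓ : O) := by
    intro hu
    exact hnu' ((isUnit_pow_iff htot.ne').mp (isUnit_of_dvd_unit hd1 hu))
  -- every prime dividing n is ℓ
  have hsq : (α - 1) ^ 2 = (1 - α) ^ 2 := by ring
  have hnℓ : (n : O) ∣ (ℓ : O) ^ 2 := by
    have h1 : (1 - α) ∣ (ℓ : O) := (dvd_pow_self (1 - α) htot.ne').trans hd1
    rw [hsq] at h
    exact h.trans (pow_dvd_pow_of_dvd h1 2)
  have huniq : ∀ {d : ℕ}, d.Prime → d ∣ n → d = ℓ := by
    intro d hd hdn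
    by_contra hne
    have hcop : Nat.Coprime d (ℓ ^ 2) := Nat.Coprime.pow_right 2 ((Nat.coprime_primes hd hℓ).mpr hne)
    have hcop' : IsCoprime ((d : ℤ)) ((ℓ ^ 2 : ℕ) : ℤ) := Nat.isCoprime_iff_coprime.mpr hcop
    have hcopO : IsCoprime ((d : O)) ((ℓ : O) ^ 2) := by
      have := hcop'.map (Int.castRingHom O)
      simpa using this
    have hdℓ : (d : O) ∣ (ℓ : O) ^ 2 := (Nat.cast_dvd_cast hdn).trans hnℓ
    exact hO d hd hdn (hcopO.isUnit_of_dvd' dvd_rfl hdℓ)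
  have hnpow := Nat.eq_prime_pow_of_unique_prime_dvd (by omega : n ≠ 0) huniq
  set a := n.primeFactorsList.length with ha
  have ha1 : 1 ≤ a := by
    by_contra h0
    have : a = 0 := by omega
    rw [this, pow_zero] at hnpow
    omega
  -- the key inequality
  have hkey : m.totient * a ≤ 2 := by
    have h1 : ((1 - α) ^ m.totient) ^ a ∣ (ℓ : O) ^ a := pow_dvd_pow_of_dvd hd1 a
    have h2 : (ℓ : O) ^ a ∣ (1 - α) ^ 2 := by
      rw [← hsq]
      have : ((ℓ ^ a : ℕ) : O) = (ℓ : O) ^ a := by push_cast; rfl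
      rw [← this, ← hnpow]; exact h
    have h3 : (1 - α) ^ (m.totient * a) ∣ (1 - α) ^ 2 := by
      rw [pow_mul]; exact h1.trans h2
    have h10 : (1 - α) ≠ 0 := by rw [hneg]; exact neg_ne_zero.mpr hα0
    exact (pow_dvd_pow_iff h10 hnu').mp h3
  rw [hφ] at hkey
  have := arith ℓ k a hℓ ha1 hkey
  rw [← hnpow, hk'] at this
  exact this

end Helpers


/-- Let O be a commutative integral domain of characteristic zero, n a positive integer such that no
prime number dividing n is a unit in O, and α an element of O of finite multiplicative order such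
that (α − 1)² is divisible by n in O. Then α = 1 if n ≥ 5, α² = 1 if n = 4, α³ = 1 if n = 3, and α⁴
= 1 if n = 2. -/
theorem result (O : Type u) [CommRing O] [IsDomain O] [CharZero O]
    (n : ℕ) (hn : 0 < n) (hO : ∀ p : ℕ, p.Prime → p ∣ n → ¬ IsUnit (p : O))
    (α : O) (hα : IsOfFinOrder α) (h : (n : O) ∣ (α - 1) ^ 2) :
    (5 ≤ n → α = 1) ∧ (n = 4 → α ^ 2 = 1) ∧ (n = 3 → α ^ 3 = 1) ∧ (n = 2 → α ^ 4 = 1) := by
  exact main O n hn hO α hα h

end Groth.Agent.S18598
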