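import Groth.Statements.S18600
import Mathlib
-- import your own Groth.Agent.* helpers here

set_option autoImplicit false
universe v
open SSRed

namespace Groth.Agent.S18600

section Helpers
open SSRed
open Polynomial

/-- local step, case `ℓ ∣ n` -/
theorem local_dvd {R : Type*} [CommRing R] {L : Type*} [Field L] [Algebra R L] (g : ℕ)
    (n : ℕ) (hnL : (n : L) ≠ 0)
    (A B : Matrix (Fin g) (Fin g) R) (hAB : (A - 1) ^ 2 = (n : R) • B)
    (α' : L) (hα' : (A.charpoly.map (algebraMap R L)).eval α' = 0) :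
    IsIntegral R ((α' - 1) ^ 2 / (n : L)) := by
  refine ⟨B.charpoly, Matrix.charpoly_monic B, ?_⟩
  rw [← Polynomial.eval_map, ← Matrix.charpoly_map, Matrix.eval_charpoly]
  rw [← Matrix.charpoly_map, Matrix.eval_charpoly] at hα'
  set AL := A.map (algebraMap R L) with hAL
  set BL := B.map (algebraMap R L) with hBL
  have hABL : (AL - 1) ^ 2 = (n : L) • BL := by
    have := congrArg (algebraMap R L).mapMatrix hAB
    rw [Nat.cast_smul_eq_nsmul, map_pow, map_sub, map_one, map_nsmul] at this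
    rw [Nat.cast_smul_eq_nsmul]
    exact this
  have key : (n : L) • (Matrix.scalar (Fin g) ((α' - 1) ^ 2 / (n : L)) - BL) =
      (Matrix.scalar (Fin g) α' - AL) * (Matrix.scalar (Fin g) α' + AL - 2) := by
    set S := Matrix.scalar (Fin g) α' with hS
    have hc : S * AL = AL * S := (Matrix.scalar_commute α' (fun r => Commute.all _ _) AL).eq
    have h1 : (n : L) • Matrix.scalar (Fin g) ((α' - 1) ^ 2 / (n : L)) = (S - 1) ^ 2 := by
      rw [hS, ← map_one (Matrix.scalar (Fin g)), ← map_sub, ← map_pow]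
      ext i j
      simp only [Matrix.smul_apply, Matrix.scalar_apply, Matrix.diagonal_apply, smul_eq_mul,
        mul_ite, mul_zero]
      split_ifs
      · field_simp
      · rfl
    rw [smul_sub, h1, ← hABL]
    have h2 : (S - AL) * (S + AL - 2) = (S - 1) ^ 2 - (AL - 1) ^ 2 + (S * AL - AL * S) := by
      noncomm_ring
    rw [h2, hc, sub_self, add_zero]
  have hdet := congrArg Matrix.det key
  rw [Matrix.det_smul, Matrix.det_mul, hα', zero_mul] at hdet
  rcases mul_eq_zero.mp hdet with h | h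
  · exact absurd h (pow_ne_zero _ hnL)
  · exact h

theorem local_ndvd {R : Type*} [CommRing R] {L : Type*} [Field L] [Algebra R L]
    (n : ℕ) (hn : IsUnit (n : R)) (α' : L) (hα' : IsIntegral R α') :
    IsIntegral R ((α' - 1) ^ 2 / (n : L)) := by
  obtain ⟨u, hu⟩ := hn
  have h1 : algebraMap R L (↑u⁻¹ : R) * (n : L) = 1 := by
    rw [← map_natCast (algebraMap R L), ← hu, ← map_mul, Units.inv_mul, map_one]
  have hnL : (n : L) ≠ 0 := by
    intro h
    rw [h, mul_zero] at h1
    exact zero_ne_one h1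
  have h2 : (α' - 1) ^ 2 / (n : L) = (α' - 1) ^ 2 * algebraMap R L (↑u⁻¹ : R) := by
    rw [div_eq_iff hnL, mul_assoc, h1, mul_one]
  rw [h2]
  exact ((hα'.sub isIntegral_one).pow 2).mul isIntegral_algebraMap

theorem eval_map_map (R : Type*) [CommRing R] (L : Type*) [Field L] [Algebra R L]
    (f : Polynomial ℤ) (α' : L) :
    ((f.map (Int.castRingHom R)).map (algebraMap R L)).eval α' = aeval α' f := by
  rw [Polynomial.map_map, Polynomial.eval_map, Polynomial.aeval_def]
  congr 1
  exact RingHom.ext_int _ _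

theorem local_all (n : ℕ) (hn : 0 < n) (g : ℕ) (f : Polynomial ℤ) (hf : f.Monic)
    (ℓ : ℕ) [Fact ℓ.Prime]
    (hA : ℓ ∣ n → ∃ A : Matrix (Fin g) (Fin g) ℤ_[ℓ],
      A.charpoly = f.map (Int.castRingHom ℤ_[ℓ]) ∧
        ∃ B : Matrix (Fin g) (Fin g) ℤ_[ℓ], (A - 1) ^ 2 = (n : ℤ_[ℓ]) • B)
    (L : Type*) [Field L] [Algebra ℤ_[ℓ] L] [CharZero L] (α' : L) (hα' : aeval α' f = 0) :
    IsIntegral ℤ_[ℓ] ((α' - 1) ^ 2 / (n : L)) := by
  by_cases hdvd : ℓ ∣ n
  · obtain ⟨A, hAf, B, hAB⟩ := hA hdvd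
    apply local_dvd g n (by exact_mod_cast hn.ne') A B hAB α'
    rw [hAf, eval_map_map, hα']
  · apply local_ndvd
    · rw [PadicInt.isUnit_iff, PadicInt.norm_natCast_eq_one_iff]
      exact (Nat.Prime.coprime_iff_not_dvd Fact.out).mpr hdvd
    · refine ⟨f.map (Int.castRingHom ℤ_[ℓ]), hf.map _, ?_⟩
      rw [← Polynomial.eval_map, eval_map_map, hα']

theorem rat_isInt_of_forall_padic (c : ℚ)
    (h : ∀ (ℓ : ℕ) [Fact ℓ.Prime], ‖(c : ℚ_[ℓ])‖ ≤ 1) : ∃ z : ℤ, (z : ℚ) = c := by
  have hden : c.den = 1 := by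
    by_contra hne
    obtain ⟨ℓ, hℓ, hdvd⟩ := Nat.exists_prime_and_dvd hne
    have : Fact ℓ.Prime := ⟨hℓ⟩
    have := (Padic.norm_rat_le_one_iff_padicValuation_le_one ℓ).mp (h ℓ)
    rw [Rat.padicValuation_le_one_iff] at this
    exact this hdvd
  exact ⟨c.num, Rat.coe_int_num_of_den_eq_one hden⟩

/-- coefficients of a monic split polynomial with integral roots are integral -/
theorem coeff_integral_of_roots {R : Type*} [CommRing R] {L : Type*} [Field L] [Algebra R L]
    (P : Polynomial L) (hP : P.Monic) (hs : P.Splits)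
    (hr : ∀ a ∈ P.roots, IsIntegral R a) (i : ℕ) : IsIntegral R (P.coeff i) := by
  let IC := integralClosure R L
  have hmem : P ∈ Polynomial.liftsRing (algebraMap IC L) := by
    rw [hs.eq_prod_roots_of_monic hP]
    apply Subring.multiset_prod_mem
    intro q hq
    obtain ⟨a, ha, rfl⟩ := Multiset.mem_map.mp hq
    apply Subring.sub_mem
    · rw [← Polynomial.lifts_iff_liftsRing]; exact Polynomial.X_mem_lifts _
    · rw [← Polynomial.lifts_iff_liftsRing]
      exact Polynomial.C_mem_lifts (algebraMap IC L) ⟨a, hr a ha⟩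
  rw [← Polynomial.lifts_iff_liftsRing, Polynomial.lifts_iff_coeff_lifts] at hmem
  obtain ⟨y, hy⟩ := hmem i
  rw [← hy]
  exact y.2

theorem global (n : ℕ) (hn : 0 < n) (f : Polynomial ℤ) (hf : f.Monic)
    (K : Type v) [Field K] [CharZero K] (α : K) (hα : aeval α f = 0)
    (hloc : ∀ (ℓ : ℕ) [Fact ℓ.Prime] (α' : AlgebraicClosure ℚ_[ℓ]), aeval α' f = 0 →
      IsIntegral ℤ_[ℓ] ((α' - 1) ^ 2 / (n : AlgebraicClosure ℚ_[ℓ]))) :
    IsIntegral ℤ ((α - 1) ^ 2 / (n : K)) := by
  set γ : K := (α - 1) ^ 2 / (n : K) with hγ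
  have hαint : IsIntegral ℤ α := ⟨f, hf, hα⟩
  have hαQ : IsIntegral ℚ α := hαint.tower_top
  have hγmem : γ ∈ IntermediateField.adjoin ℚ {α} := by
    have hαm : α ∈ IntermediateField.adjoin ℚ {α} := IntermediateField.mem_adjoin_simple_self ℚ α
    exact div_mem (pow_mem (sub_mem hαm (one_mem _)) 2) (natCast_mem _ n)
  have hγQ : IsIntegral ℚ γ := by
    have : Algebra.IsIntegral ℚ (IntermediateField.adjoin ℚ {α}) :=
      IntermediateField.isAlgebraic_adjoin_simple hαQ |>.isIntegral
    have := Algebra.IsIntegral.isIntegral (R := ℚ) (⟨γ, hγmem⟩ : IntermediateField.adjoin ℚ {α})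
    exact this.map (IntermediateField.val (IntermediateField.adjoin ℚ {α}))
  set m := minpoly ℚ γ with hm
  have hmmonic : m.Monic := minpoly.monic hγQ
  -- all coefficients are integers
  have hcoeff : ∀ i, ∃ z : ℤ, (z : ℚ) = m.coeff i := by
    intro i
    apply rat_isInt_of_forall_padic
    intro ℓ _
    set L := AlgebraicClosure ℚ_[ℓ]
    have hroots : ∀ a ∈ (m.map (algebraMap ℚ L)).roots, IsIntegral ℤ_[ℓ] a := by
      intro a ha
      have hay : aeval a (minpoly ℚ γ) = 0 := by
        rw [Polynomial.mem_roots', Polynomial.IsRoot.def, Polynomial.eval_map] at ha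
        exact ha.2
      obtain ⟨φ, hφ⟩ := IntermediateField.exists_algHom_adjoin_of_splits_of_aeval
        (F := ℚ) (E := K) (K := L) (S := {α})
        (fun s hs => by
          rw [Set.mem_singleton_iff] at hs
          subst hs
          exact ⟨hαQ, IsAlgClosed.splits _⟩) hγmem hay
      set αE : IntermediateField.adjoin ℚ {α} := ⟨α, IntermediateField.mem_adjoin_simple_self ℚ α⟩
      have hγE : (⟨γ, hγmem⟩ : IntermediateField.adjoin ℚ {α}) = (αE - 1) ^ 2 / (n : _) := by
        apply Subtype.ext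
        simp [hγ, αE]
      have hfE : aeval αE f = 0 := by
        apply (algebraMap (IntermediateField.adjoin ℚ {α}) K).injective
        rw [← Polynomial.aeval_algebraMap_apply, map_zero]
        exact hα
      have hα' : aeval (φ αE) f = 0 := by
        have h := Polynomial.aeval_algHom_apply (φ.restrictScalars ℤ) αE f
        rw [AlgHom.restrictScalars_apply] at h
        rw [h, hfE, map_zero]
      have := hloc ℓ (φ αE) hα'
      rw [← hφ, hγE, map_div₀, map_pow, map_sub, map_one, map_natCast]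
      exact this
    have hci := coeff_integral_of_roots (R := ℤ_[ℓ]) (m.map (algebraMap ℚ L))
      (hmmonic.map _) (IsAlgClosed.splits _) hroots i
    rw [Polynomial.coeff_map] at hci
    have h1 : algebraMap ℚ L (m.coeff i) = algebraMap ℚ_[ℓ] L ((m.coeff i : ℚ) : ℚ_[ℓ]) := by
      rw [IsScalarTower.algebraMap_apply ℚ ℚ_[ℓ] L]
      simp
    rw [h1, isIntegral_algebraMap_iff (algebraMap ℚ_[ℓ] L).injective,
      IsIntegrallyClosed.isIntegral_iff] at hci
    obtain ⟨y, hy⟩ := hci
    rw [← hy]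
    exact y.2
  have hlifts : m ∈ Polynomial.lifts (Int.castRingHom ℚ) := by
    rw [Polynomial.lifts_iff_coeff_lifts]
    intro i
    obtain ⟨z, hz⟩ := hcoeff i
    exact ⟨z, by simpa using hz⟩
  obtain ⟨q, hq, -, hqm⟩ := Polynomial.lifts_and_degree_eq_and_monic hlifts hmmonic
  refine ⟨q, hqm, ?_⟩
  have : aeval γ m = 0 := minpoly.aeval ℚ γ
  rw [← hq, Polynomial.aeval_def, Polynomial.eval₂_map] at this
  rw [← this]
  congr 1
  exact RingHom.ext_int _ _

theorem main (n : ℕ) (hn : 0 < n) (g : ℕ) (f : Polynomial ℤ)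
    (hf : f.Monic)
    (hA : ∀ (ℓ : ℕ) [Fact ℓ.Prime], ℓ ∣ n → ∃ A : Matrix (Fin g) (Fin g) ℤ_[ℓ],
      A.charpoly = f.map (Int.castRingHom ℤ_[ℓ]) ∧
        ∃ B : Matrix (Fin g) (Fin g) ℤ_[ℓ], (A - 1) ^ 2 = (n : ℤ_[ℓ]) • B)
    (K : Type v) [Field K] [CharZero K] (α s : K) (hα : Polynomial.aeval α f = 0)
    (hs : s ^ 2 = (n : K)) :
    IsIntegral ℤ ((α - 1) / s) := by
  apply IsIntegral.of_pow (n := 2) (by norm_num)
  rw [div_pow, hs]
  apply global n hn f hf K α hα
  intro ℓ _ α' hα'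
  have : CharZero (AlgebraicClosure ℚ_[ℓ]) :=
    charZero_of_injective_algebraMap (algebraMap ℚ_[ℓ] (AlgebraicClosure ℚ_[ℓ])).injective
  exact local_all n hn g f hf ℓ (fun hd => hA ℓ hd) (AlgebraicClosure ℚ_[ℓ]) α' hα'

end Helpers


/-- Let n be a positive integer, g a natural number and f ∈ ℤ[x] a monic polynomial such that for every
prime ℓ dividing n there is a g × g matrix A_ℓ over ℤ_ℓ whose characteristic polynomial is f and
such that (A_ℓ − 1)² lies in n·M_g(ℤ_ℓ). Then for every root α of f in a field of characteristic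
zero and every square root s of n in that field, (α − 1)/s is integral over ℤ. (The published
statement is for matrices of size 2d and speaks of the eigenvalues of the A_ℓ, which are the roots
of their common characteristic polynomial f; the parity of the size plays no role.) -/
theorem result (n : ℕ) (hn : 0 < n) (g : ℕ) (f : Polynomial ℤ)
    (hf : f.Monic)
    (hA : ∀ (ℓ : ℕ) [Fact ℓ.Prime], ℓ ∣ n → ∃ A : Matrix (Fin g) (Fin g) ℤ_[ℓ],
      A.charpoly = f.map (Int.castRingHom ℤ_[ℓ]) ∧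
        ∃ B : Matrix (Fin g) (Fin g) ℤ_[ℓ], (A - 1) ^ 2 = (n : ℤ_[ℓ]) • B)
    (K : Type v) [Field K] [CharZero K] (α s : K) (hα : Polynomial.aeval α f = 0) (hs : s ^ 2 = (n : K)) :
    IsIntegral ℤ ((α - 1) / s) := by
  exact main n hn g f hf hA K α s hα hs

end Groth.Agent.S18600
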