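import Groth.Statements.S18615
import Groth.Agent.H92.LinTop

set_option autoImplicit false
universe u v
open LinTop

namespace Groth.Agent.S18615

/-- Let k be a field carrying the discrete topology and M a separated topological k-module with a
k-linear topology (open k-submodules form a basis of neighbourhoods of zero, M a topological
additive group). For closed submodules M₁ ⊆ M₂ there is a short exact sequence 0 → M₂^⊥ → M₁^⊥ →
(M₂/M₁)^* → 0 of plain k-modules, where ⊥ denotes the annihilator in the continuous dual of M and *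
the continuous dual. Stated here as its one non-formal part, surjectivity on the right: every
continuous functional on M₂ (subspace topology) that vanishes on M₁ is the restriction of a
continuous functional on M vanishing on M₁ (continuous functionals on M₂/M₁ being the continuous
functionals on M₂ that kill M₁). -/
theorem result (k : Type u) (M : Type v) [Field k]
    [TopologicalSpace k] [DiscreteTopology k] [AddCommGroup M] [Module k M] [TopologicalSpace M]
    [IsTopologicalAddGroup M] [IsLinearTopology k M] [T2Space M]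
    (M₁ M₂ : Submodule k M) (h₁₂ : M₁ ≤ M₂) (hM₁ : IsClosed (M₁ : Set M))
    (hM₂ : IsClosed (M₂ : Set M)) (ψ : M₂ →L[k] k)
    (hψ : ∀ m : M₂, (m : M) ∈ M₁ → ψ m = 0) :
    ∃ φ : M →L[k] k, (∀ m ∈ M₁, φ m = 0) ∧ ∀ m : M₂, φ (m : M) = ψ m := by
  -- the kernel of ψ is open in M₂, so it contains M₂ ∩ U for an open submodule U of M
  have hker : (ψ : M₂ → k) ⁻¹' {0} ∈ nhds (0 : M₂) := by
    have hc : ContinuousAt ψ 0 := ψ.continuous.continuousAt
    apply hc
    rw [map_zero, nhds_discrete k]
    exact Filter.mem_pure.mpr rfl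
  rw [nhds_subtype_eq_comap, Filter.mem_comap] at hker
  obtain ⟨t, ht, hts⟩ := hker
  obtain ⟨U, hU, hUt⟩ := (IsLinearTopology.hasBasis_open_submodule k (M := M)).mem_iff.mp ht
  have hψU : ∀ m : M₂, (m : M) ∈ U → ψ m = 0 := fun m hm => by
    have : m ∈ (Subtype.val : M₂ → M) ⁻¹' t := hUt hm
    exact hts this
  -- define a functional on M₂ ⊔ U
  -- first: the linear map M₂ × U → k, (m, u) ↦ ψ m, factors through M₂ ⊔ U
  let P : Submodule k M := M₂ ⊔ U
  have hex : ∀ y : P, ∃ m : M₂, ∃ u : U, (m : M) + (u : M) = (y : M) := fun y => by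
    obtain ⟨m, hm, u, hu, hmu⟩ := Submodule.mem_sup.mp y.2
    exact ⟨⟨m, hm⟩, ⟨u, hu⟩, hmu⟩
  have hwd : ∀ (m m' : M₂) (u u' : U), (m : M) + (u : M) = (m' : M) + (u' : M) → ψ m = ψ m' := by
    intro m m' u u' h
    have h1 : ((m - m' : M₂) : M) ∈ U := by
      have : ((m - m' : M₂) : M) = (u' : M) - (u : M) := by
        rw [Submodule.coe_sub, sub_eq_sub_iff_add_eq_add, h, add_comm]
      rw [this]
      exact U.sub_mem u'.2 u.2
    have := hψU _ h1
    rwa [map_sub, sub_eq_zero] at this
  choose mf uf hmu using hex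
  let g : P →ₗ[k] k :=
    { toFun := fun y => ψ (mf y)
      map_add' := fun y y' => by
        rw [← map_add]
        refine hwd _ _ (uf (y + y')) (uf y + uf y') ?_
        have e1 := hmu y
        have e2 := hmu y'
        have e3 := hmu (y + y')
        rw [e3, Submodule.coe_add, Submodule.coe_add, Submodule.coe_add]
        calc (y : M) + (y' : M) = ((mf y : M) + (uf y : M)) + ((mf y' : M) + (uf y' : M)) := by
              rw [e1, e2]
          _ = _ := by abel
      map_smul' := fun c y => by
        rw [RingHom.id_apply, ← map_smul]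
        refine hwd _ _ (uf (c • y)) (c • uf y) ?_
        have e1 := hmu y
        have e3 := hmu (c • y)
        rw [e3, Submodule.coe_smul, Submodule.coe_smul, Submodule.coe_smul, ← smul_add, e1] }
  have hg : ∀ (m : M₂) (hm : (m : M) ∈ P), g ⟨m, hm⟩ = ψ m := fun m hm => by
    refine hwd _ _ (uf ⟨m, hm⟩) 0 ?_
    rw [hmu]
    simp
  have hgU : ∀ (u : M) (hu : u ∈ U), g ⟨u, (le_sup_right : U ≤ P) hu⟩ = 0 := fun u hu => by
    have e := hmu ⟨u, (le_sup_right : U ≤ P) hu⟩
    have h1 : ((mf ⟨u, (le_sup_right : U ≤ P) hu⟩ : M₂) : M) ∈ U := by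
      have : ((mf ⟨u, (le_sup_right : U ≤ P) hu⟩ : M₂) : M) =
          u - (uf ⟨u, (le_sup_right : U ≤ P) hu⟩ : M) := by
        rw [eq_sub_iff_add_eq]; exact e
      rw [this]
      exact U.sub_mem hu (uf _).2
    exact hψU _ h1
  obtain ⟨f, hf⟩ := LinearMap.exists_extend g
  have hfP : ∀ y : P, f (y : M) = g y := fun y => by
    have := LinearMap.congr_fun hf y
    simpa using this
  have hcont : Continuous f := by
    refine Groth.Agent.H92.continuous_of_open_le_ker f U hU (fun u hu => ?_)
    rw [LinearMap.mem_ker]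
    have := hfP ⟨u, (le_sup_right : U ≤ P) hu⟩
    rw [hgU u hu] at this
    exact this
  have hfM₂ : ∀ m : M₂, f (m : M) = ψ m := fun m => by
    have := hfP ⟨m, (le_sup_left : M₂ ≤ P) m.2⟩
    rw [hg m] at this
    exact this
  refine ⟨⟨f, hcont⟩, fun m hm => ?_, fun m => hfM₂ m⟩
  have := hfM₂ ⟨m, h₁₂ hm⟩
  rw [hψ ⟨m, h₁₂ hm⟩ hm] at this
  exact this

end Groth.Agent.S18615
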