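import Groth.Statements.S18616
import Mathlib.Tactic
import Mathlib.RingTheory.MvPowerSeries.Derivative
import Mathlib.LinearAlgebra.ExteriorPower.Basis
import Mathlib.LinearAlgebra.Alternating.Uncurry.Fin
-- import your own Groth.Agent.* helpers here

set_option autoImplicit false
universe u
open DeRham

namespace Groth.Agent.S18616

section Helpers
open exteriorPower

section PowerSeries

variable {k : Type u} [Field k] [CharZero k] {σ : Type u} [Fintype σ]

/-- the Euler operator plus a constant: `f ↦ Σ x_i ∂_i f + q f` -/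
noncomputable def eulerAdd (q : ℕ) (f : MvPowerSeries σ k) : MvPowerSeries σ k :=
  ∑ i, MvPowerSeries.X i * MvPowerSeries.pderiv k i f + (q : MvPowerSeries σ k) * f

theorem coeff_X_mul_pderiv (i : σ) (f : MvPowerSeries σ k) (m : σ →₀ ℕ) :
    MvPowerSeries.coeff m (MvPowerSeries.X i * MvPowerSeries.pderiv k i f) =
      (m i : k) * MvPowerSeries.coeff m f := by
  classical
  rw [MvPowerSeries.X, MvPowerSeries.coeff_monomial_mul]
  split_ifs with h
  · rw [one_mul, MvPowerSeries.coeff_pderiv]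
    have h1 : m - Finsupp.single i 1 + Finsupp.single i 1 = m := tsub_add_cancel_of_le h
    rw [h1]
    have h2 : 1 ≤ m i := by
      have := h i
      simpa using this
    have h3 : (((m - Finsupp.single i 1 : σ →₀ ℕ) i : ℕ) : k) + 1 = (m i : k) := by
      rw [Finsupp.tsub_apply, Finsupp.single_eq_same]
      have : ((m i - 1 : ℕ) : k) = (m i : k) - 1 := by
        rw [Nat.cast_sub h2, Nat.cast_one]
      rw [this]; ring
    rw [h3, mul_comm]
  · have h2 : m i = 0 := by
      by_contra hne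
      apply h
      intro j
      by_cases hj : j = i
      · subst hj
        simp only [Finsupp.single_eq_same]
        omega
      · rw [Finsupp.single_eq_of_ne hj]
        exact Nat.zero_le _
    rw [h2, Nat.cast_zero, zero_mul]

theorem coeff_eulerAdd (q : ℕ) (f : MvPowerSeries σ k) (m : σ →₀ ℕ) :
    MvPowerSeries.coeff m (eulerAdd q f) =
      (((∑ i, m i) + q : ℕ) : k) * MvPowerSeries.coeff m f := by
  rw [eulerAdd, map_add, map_sum]
  simp only [coeff_X_mul_pderiv]
  rw [← Finset.sum_mul]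
  have : MvPowerSeries.coeff m ((q : MvPowerSeries σ k) * f) = (q : k) * MvPowerSeries.coeff m f := by
    have : (q : MvPowerSeries σ k) = MvPowerSeries.C (q : k) := by simp
    rw [this, MvPowerSeries.coeff_C_mul]
  rw [this, ← add_mul]
  push_cast
  rfl

theorem eulerAdd_surjective (q : ℕ) (hq : 0 < q) (f : MvPowerSeries σ k) :
    ∃ g : MvPowerSeries σ k, eulerAdd q g = f := by
  refine ⟨fun m => MvPowerSeries.coeff m f / (((∑ i, m i) + q : ℕ) : k), ?_⟩
  ext m
  rw [coeff_eulerAdd]
  have hne : ((((∑ i, m i) + q : ℕ)) : k) ≠ 0 := by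
    rw [Nat.cast_ne_zero]; omega
  change _ * (MvPowerSeries.coeff m f / _) = _
  field_simp

theorem eulerAdd_injective (q : ℕ) (hq : 0 < q) (g : MvPowerSeries σ k)
    (h : eulerAdd q g = 0) : g = 0 := by
  ext m
  have h1 := congrArg (MvPowerSeries.coeff m) h
  rw [coeff_eulerAdd, map_zero] at h1
  have hne : ((((∑ i, m i) + q : ℕ)) : k) ≠ 0 := by
    rw [Nat.cast_ne_zero]; omega
  rw [map_zero]
  exact (mul_eq_zero.mp h1).resolve_left hne

end PowerSeries

section Contraction

variable {A : Type u} [CommRing A] {M : Type u} [AddCommGroup M] [Module A M]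

/-- contraction with a linear form -/
noncomputable def contr (E : M →ₗ[A] A) (q : ℕ) : ↥(⋀[A]^(q + 1) M) →ₗ[A] ↥(⋀[A]^q M) :=
  alternatingMapLinearEquiv
    (AlternatingMap.alternatizeUncurryFin (E.smulRight (ιMulti A q (M := M))))

theorem contr_ιMulti (E : M →ₗ[A] A) (q : ℕ) (w : Fin (q + 1) → M) :
    contr E q (ιMulti A (q + 1) w) =
      ∑ j : Fin (q + 1), (-1 : ℤ) ^ (j : ℕ) • (E (w j) • ιMulti A q (Fin.removeNth j w)) := by
  rw [contr, alternatingMapLinearEquiv_apply_ιMulti, AlternatingMap.alternatizeUncurryFin_apply]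
  rfl

/-- `Σ_j (-1)^j u_j ∧ (u without j) = (q+1) u_0 ∧ ... ∧ u_q` -/
theorem sum_cons_removeNth (q : ℕ) (u : Fin (q + 1) → M) :
    ∑ j : Fin (q + 1), (-1 : ℤ) ^ (j : ℕ) •
      ιMulti A (q + 1) (Fin.cons (u j) (Fin.removeNth j u)) = (q + 1) • ιMulti A (q + 1) u := by
  have h := AlternatingMap.alternatizeUncurryFin_curryLeft (ιMulti A (q + 1) (M := M))
  have h1 := congrArg (fun g => g u) h
  simp only [AlternatingMap.alternatizeUncurryFin_apply, AlternatingMap.smul_apply] at h1
  rw [← h1]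
  rfl

end Contraction

section Lie

variable {k : Type u} [Field k] [CharZero k] {σ : Type u} [Fintype σ]

/-- the Euler linear form `m ↦ Σ x_i m_i` -/
noncomputable def Eform : (σ → MvPowerSeries σ k) →ₗ[(MvPowerSeries σ k)] (MvPowerSeries σ k) :=
  ∑ i, (MvPowerSeries.X i : (MvPowerSeries σ k)) • (LinearMap.proj i : (σ → MvPowerSeries σ k) →ₗ[(MvPowerSeries σ k)] (MvPowerSeries σ k))

omit [CharZero k] in
theorem Eform_apply (m : (σ → MvPowerSeries σ k)) : Eform m = ∑ i, MvPowerSeries.X i * m i := by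
  simp [Eform, LinearMap.sum_apply]

variable (δ : Derivation k (MvPowerSeries σ k) (σ → MvPowerSeries σ k)) (hδ : ∀ (f : (MvPowerSeries σ k)) (i : σ), δ f i = MvPowerSeries.pderiv k i f)

include hδ in
omit [CharZero k] in
theorem Eform_δ (f : (MvPowerSeries σ k)) :
    Eform (δ f) = ∑ i, MvPowerSeries.X i * MvPowerSeries.pderiv k i f := by
  rw [Eform_apply]
  exact Finset.sum_congr rfl fun i _ => by rw [hδ]

include hδ in
omit [CharZero k] in
theorem Eform_δ_X (j : σ) : Eform (δ (MvPowerSeries.X j : (MvPowerSeries σ k))) = MvPowerSeries.X j := by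
  classical
  rw [Eform_δ δ hδ]
  simp only [MvPowerSeries.pderiv_X]
  simp [Pi.single_apply]

include hδ in
omit [CharZero k] in
theorem eulerAdd_eq (q : ℕ) (f : (MvPowerSeries σ k)) :
    eulerAdd q f = Eform (δ f) + (q : (MvPowerSeries σ k)) * f := by
  rw [eulerAdd, Eform_δ δ hδ]

/-- the form `δ x_{v 0} ∧ ... ∧ δ x_{v (q-1)}` -/
noncomputable def Bv (q : ℕ) (v : Fin q → σ) : ↥(⋀[(MvPowerSeries σ k)]^q (σ → MvPowerSeries σ k)) :=
  ιMulti (MvPowerSeries σ k) q (fun j => δ (MvPowerSeries.X (v j) : (MvPowerSeries σ k)))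

variable (d : ∀ p : ℕ, ↥(⋀[(MvPowerSeries σ k)]^p (σ → MvPowerSeries σ k)) →ₗ[k] ↥(⋀[(MvPowerSeries σ k)]^(p + 1) (σ → MvPowerSeries σ k))) (hd : DeRham.IsRule δ d)

include hd in
omit [CharZero k] [Fintype σ] in
theorem d_smul_Bv (q : ℕ) (v : Fin q → σ) (f : (MvPowerSeries σ k)) :
    d q (f • Bv δ q v) =
      ιMulti (MvPowerSeries σ k) (q + 1) (Fin.cons (δ f) (fun j => δ (MvPowerSeries.X (v j) : (MvPowerSeries σ k)))) :=
  hd q f (fun j => MvPowerSeries.X (v j))

include hδ hd in
omit [CharZero k] in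
/-- contraction after `d` on `f • B_v` -/
theorem contr_d (q : ℕ) (v : Fin (q + 1) → σ) (f : (MvPowerSeries σ k)) :
    contr Eform (q + 1) (d (q + 1) (f • Bv δ (q + 1) v)) =
      Eform (δ f) • Bv δ (q + 1) v -
        ∑ j : Fin (q + 1), (-1 : ℤ) ^ (j : ℕ) • ((MvPowerSeries.X (v j) : (MvPowerSeries σ k)) •
          ιMulti (MvPowerSeries σ k) (q + 1) (Fin.cons (δ f)
            (Fin.removeNth j (fun j => δ (MvPowerSeries.X (v j) : (MvPowerSeries σ k)))))) := by
  rw [d_smul_Bv δ d hd, contr_ιMulti, Fin.sum_univ_succ]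
  simp only [Fin.val_zero, pow_zero, one_smul, Fin.cons_zero, Fin.removeNth_zero, Fin.tail_cons,
    Fin.cons_succ, Fin.val_succ]
  rw [sub_eq_add_neg, ← Finset.sum_neg_distrib]
  congr 1
  refine Finset.sum_congr rfl fun j _ => ?_
  rw [Eform_δ_X δ hδ, pow_succ, mul_neg, mul_one, neg_smul]
  congr 3
  exact congrArg _ (Fin.cons_comp_succ_succAbove _ _ j)

omit [CharZero k] [Fintype σ] in
theorem ιMulti_cons_add_smul (q : ℕ) (a b : (MvPowerSeries σ k)) (x y : (σ → MvPowerSeries σ k)) (t : Fin q → (σ → MvPowerSeries σ k)) :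
    ιMulti (MvPowerSeries σ k) (q + 1) (Fin.cons (a • x + b • y) t) =
      a • ιMulti (MvPowerSeries σ k) (q + 1) (Fin.cons x t) + b • ιMulti (MvPowerSeries σ k) (q + 1) (Fin.cons y t) := by
  have h1 := (ιMulti (MvPowerSeries σ k) (q + 1) (M := (σ → MvPowerSeries σ k))).toMultilinearMap.cons_add t (a • x) (b • y)
  have h2 := (ιMulti (MvPowerSeries σ k) (q + 1) (M := (σ → MvPowerSeries σ k))).toMultilinearMap.cons_smul t a x
  have h3 := (ιMulti (MvPowerSeries σ k) (q + 1) (M := (σ → MvPowerSeries σ k))).toMultilinearMap.cons_smul t b y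
  simp only [AlternatingMap.coe_multilinearMap] at h1 h2 h3
  rw [h1, h2, h3]

include hδ hd in
omit [CharZero k] in
/-- `d` after contraction on `f • B_v` -/
theorem d_contr (q : ℕ) (v : Fin (q + 1) → σ) (f : (MvPowerSeries σ k)) :
    d q (contr Eform q (f • Bv δ (q + 1) v)) =
      (q + 1) • (f • Bv δ (q + 1) v) +
        ∑ j : Fin (q + 1), (-1 : ℤ) ^ (j : ℕ) • ((MvPowerSeries.X (v j) : (MvPowerSeries σ k)) •
          ιMulti (MvPowerSeries σ k) (q + 1) (Fin.cons (δ f)
            (Fin.removeNth j (fun j => δ (MvPowerSeries.X (v j) : (MvPowerSeries σ k)))))) := by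
  have h1 : contr Eform q (f • Bv δ (q + 1) v) =
      ∑ j : Fin (q + 1), (-1 : ℤ) ^ (j : ℕ) •
        ((f * MvPowerSeries.X (v j)) • Bv δ q (Fin.removeNth j v)) := by
    rw [map_smul, Bv, contr_ιMulti, Finset.smul_sum]
    refine Finset.sum_congr rfl fun j _ => ?_
    rw [Eform_δ_X δ hδ, smul_comm f, smul_smul]
    rfl
  rw [h1, map_sum]
  have h2 : ∀ j : Fin (q + 1), d q ((-1 : ℤ) ^ (j : ℕ) •
        ((f * MvPowerSeries.X (v j)) • Bv δ q (Fin.removeNth j v))) =
      (-1 : ℤ) ^ (j : ℕ) • (f • ιMulti (MvPowerSeries σ k) (q + 1)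
          (Fin.cons (δ (MvPowerSeries.X (v j) : (MvPowerSeries σ k)))
            (Fin.removeNth j (fun j => δ (MvPowerSeries.X (v j) : (MvPowerSeries σ k)))))) +
      (-1 : ℤ) ^ (j : ℕ) • ((MvPowerSeries.X (v j) : (MvPowerSeries σ k)) • ιMulti (MvPowerSeries σ k) (q + 1)
          (Fin.cons (δ f) (Fin.removeNth j (fun j => δ (MvPowerSeries.X (v j) : (MvPowerSeries σ k)))))) := by
    intro j
    rw [map_zsmul, d_smul_Bv δ d hd, Derivation.leibniz, ← smul_add]
    congr 1
    exact ιMulti_cons_add_smul q _ _ _ _ _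
  simp only [h2]
  rw [Finset.sum_add_distrib]
  congr 1
  have h3 := sum_cons_removeNth (A := (MvPowerSeries σ k)) q (fun j => δ (MvPowerSeries.X (v j) : (MvPowerSeries σ k)))
  have h4 : ∑ j : Fin (q + 1), (-1 : ℤ) ^ (j : ℕ) • (f • ιMulti (MvPowerSeries σ k) (q + 1)
          (Fin.cons (δ (MvPowerSeries.X (v j) : (MvPowerSeries σ k)))
            (Fin.removeNth j (fun j => δ (MvPowerSeries.X (v j) : (MvPowerSeries σ k)))))) =
      f • ∑ j : Fin (q + 1), (-1 : ℤ) ^ (j : ℕ) • ιMulti (MvPowerSeries σ k) (q + 1)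
          (Fin.cons (δ (MvPowerSeries.X (v j) : (MvPowerSeries σ k)))
            (Fin.removeNth j (fun j => δ (MvPowerSeries.X (v j) : (MvPowerSeries σ k))))) := by
    rw [Finset.smul_sum]
    exact Finset.sum_congr rfl fun j _ => (smul_comm _ _ _)
  rw [h4, h3, Bv]
  rw [smul_comm]

include hδ hd in
omit [CharZero k] in
theorem lie_formula (q : ℕ) (v : Fin (q + 1) → σ) (f : (MvPowerSeries σ k)) :
    contr Eform (q + 1) (d (q + 1) (f • Bv δ (q + 1) v)) +
      d q (contr Eform q (f • Bv δ (q + 1) v)) = eulerAdd (q + 1) f • Bv δ (q + 1) v := by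
  have h : eulerAdd (q + 1) f • Bv δ (q + 1) v =
      Eform (δ f) • Bv δ (q + 1) v + (q + 1) • (f • Bv δ (q + 1) v) := by
    rw [eulerAdd_eq δ hδ, add_smul, mul_smul, Nat.cast_smul_eq_nsmul]
  rw [contr_d δ hδ d hd, d_contr δ hδ d hd, h]
  abel

/-- the Lie derivative `c d + d c` as a `k`-linear map -/
noncomputable def Lop (q : ℕ) : ↥(⋀[(MvPowerSeries σ k)]^(q + 1) (σ → MvPowerSeries σ k)) →ₗ[k] ↥(⋀[(MvPowerSeries σ k)]^(q + 1) (σ → MvPowerSeries σ k)) :=
  ((contr Eform (q + 1)).restrictScalars k).comp (d (q + 1)) +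
    (d q).comp ((contr Eform q).restrictScalars k)

omit [CharZero k] in
theorem Lop_apply (q : ℕ) (x : ↥(⋀[(MvPowerSeries σ k)]^(q + 1) (σ → MvPowerSeries σ k))) :
    Lop d q x = contr Eform (q + 1) (d (q + 1) x) + d q (contr Eform q x) := rfl

include hδ in
omit [CharZero k] [Fintype σ] in
theorem δ_X [DecidableEq σ] (i : σ) : δ (MvPowerSeries.X i : (MvPowerSeries σ k)) = Pi.single i 1 := by
  funext j
  rw [hδ, MvPowerSeries.pderiv_X]
  simp only [Pi.single_apply]
  by_cases h : i = j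
  · subst h; simp
  · rw [if_neg h, if_neg (Ne.symm h)]

section Basis

variable [LinearOrder σ]

/-- the standard basis of the `q`-th exterior power -/
noncomputable def bq (q : ℕ) : Module.Basis (Set.powersetCard σ q) (MvPowerSeries σ k) ↥(⋀[(MvPowerSeries σ k)]^q (σ → MvPowerSeries σ k)) :=
  (Pi.basisFun (MvPowerSeries σ k) σ).exteriorPower q

include hδ in
omit [CharZero k] in
theorem bq_apply (q : ℕ) (s : Set.powersetCard σ q) :
    bq (k := k) q s = Bv δ q (fun j => Set.powersetCard.ofFinEmbEquiv.symm s j) := by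
  rw [bq, exteriorPower.basis_apply, ιMulti_family, Bv]
  congr 1
  funext j
  simp only [Function.comp_apply, Pi.basisFun_apply]
  rw [δ_X δ hδ]

include hδ hd in
omit [CharZero k] in
theorem Lop_smul_bq (q : ℕ) (c : (MvPowerSeries σ k)) (s : Set.powersetCard σ (q + 1)) :
    Lop d q (c • bq (k := k) (q + 1) s) = eulerAdd (q + 1) c • bq (k := k) (q + 1) s := by
  rw [bq_apply δ hδ, Lop_apply]
  exact lie_formula δ hδ d hd q _ c

include hδ hd in
omit [CharZero k] in
theorem Lop_sum (q : ℕ) (c : Set.powersetCard σ (q + 1) → (MvPowerSeries σ k)) :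
    Lop d q (∑ s, c s • bq (k := k) (q + 1) s) =
      ∑ s, eulerAdd (q + 1) (c s) • bq (k := k) (q + 1) s := by
  rw [map_sum]
  exact Finset.sum_congr rfl fun s _ => Lop_smul_bq δ hδ d hd q (c s) s

include hδ hd in
theorem Lop_injective (q : ℕ) (x : ↥(⋀[(MvPowerSeries σ k)]^(q + 1) (σ → MvPowerSeries σ k))) (hx : Lop d q x = 0) : x = 0 := by
  have h1 := (bq (k := k) (σ := σ) (q + 1)).sum_repr x
  rw [← h1, Lop_sum δ hδ d hd] at hx
  have h2 := congrArg (fun y => (⇑((bq (k := k) (σ := σ) (q + 1)).repr y) :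
    Set.powersetCard σ (q + 1) → MvPowerSeries σ k)) hx
  simp only [Module.Basis.repr_sum_self, map_zero] at h2
  rw [← h1]
  refine Finset.sum_eq_zero fun s _ => ?_
  have h3 : eulerAdd (q + 1) ((bq (k := k) (σ := σ) (q + 1)).repr x s) = 0 := by
    have := congrFun h2 s
    simpa using this
  rw [eulerAdd_injective (q + 1) (Nat.succ_pos q) _ h3, zero_smul]

include hδ hd in
theorem Lop_surjective (q : ℕ) (x : ↥(⋀[(MvPowerSeries σ k)]^(q + 1) (σ → MvPowerSeries σ k))) :
    ∃ y, Lop d q y = x := by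
  have h1 := (bq (k := k) (σ := σ) (q + 1)).sum_repr x
  choose g hg using fun s => eulerAdd_surjective (q + 1) (Nat.succ_pos q)
    ((bq (k := k) (σ := σ) (q + 1)).repr x s)
  refine ⟨∑ s, g s • bq (k := k) (q + 1) s, ?_⟩
  rw [Lop_sum δ hδ d hd]
  simp only [hg]
  exact h1

end Basis

include hδ hd in
theorem poincare [LinearOrder σ] (hdd : ∀ p : ℕ, d (p + 1) ∘ₗ d p = 0) (p : ℕ)
    (ω : ↥(⋀[(MvPowerSeries σ k)]^(p + 1) (σ → MvPowerSeries σ k))) (hω : d (p + 1) ω = 0) : ∃ η, d p η = ω := by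
  obtain ⟨ω', hω'⟩ := Lop_surjective δ hδ d hd p ω
  have hζ : d (p + 1) ω' = 0 := by
    apply Lop_injective δ hδ d hd (p + 1)
    rw [Lop_apply]
    have h1 : d (p + 1 + 1) (d (p + 1) ω') = 0 := LinearMap.congr_fun (hdd (p + 1)) ω'
    rw [h1, map_zero, zero_add]
    have h2 : contr Eform (p + 1) (d (p + 1) ω') = ω - d p (contr Eform p ω') := by
      rw [← hω', Lop_apply]; abel
    rw [h2, map_sub, hω]
    have h3 : d (p + 1) (d p (contr Eform p ω')) = 0 := LinearMap.congr_fun (hdd p) _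
    rw [h3, sub_zero]
  refine ⟨contr Eform p ω', ?_⟩
  rw [← hω', Lop_apply, hζ, map_zero, zero_add]

end Lie

theorem main (k : Type u) [Field k] [CharZero k]
    (σ : Type u) [Finite σ]
    (δ : Derivation k (MvPowerSeries σ k) (σ → MvPowerSeries σ k))
    (hδ : ∀ (f : MvPowerSeries σ k) (i : σ), δ f i = MvPowerSeries.pderiv k i f)
    (d : ∀ p : ℕ, ↥(⋀[MvPowerSeries σ k]^p (σ → MvPowerSeries σ k)) →ₗ[k]
      ↥(⋀[MvPowerSeries σ k]^(p + 1) (σ → MvPowerSeries σ k)))
    (hd : DeRham.IsDiff δ d) (p : ℕ) :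
    DeRham.cocycles d (p + 1) ≤ DeRham.coboundaries d (p + 1) := by
  classical
  haveI : Fintype σ := Fintype.ofFinite σ
  letI : LinearOrder σ := linearOrderOfSTO (WellOrderingRel (α := σ))
  intro ω hω
  have hω' : d (p + 1) ω = 0 := hω
  obtain ⟨η, hη⟩ := poincare δ hδ d hd.1 hd.2 p ω hω'
  exact ⟨η, hη⟩

end Helpers


open exteriorPower in
/-- The formal Poincaré lemma. The published statement is that for a complete separated linearly
topologized commutative algebra K over a field k of characteristic zero the inclusion of the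
separated de Rham complex of K into that of K[[t_1, ..., t_n]] is a quasi-isomorphism; this row is
the case K = k in positive degrees. Concretely: k is a field of characteristic 0, σ is finite, A =
k[[σ]]; the separated differentials are modelled by the free A-module of functions σ → A (the
coordinate dt_i being the i-th basis vector) with the derivation δ whose components are the formal
partial derivatives, so that δ(A) generates it; d is any family of k-linear maps between consecutive
exterior powers of this module over A satisfying the de Rham rule with d ∘ d = 0. Then for every p ≥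
1 the closed p-forms are exact. (Degree zero, that a power series with all partial derivatives zero
is constant, is omitted.) -/
theorem result (k : Type u) [Field k] [CharZero k]
    (σ : Type u) [Finite σ]
    (δ : Derivation k (MvPowerSeries σ k) (σ → MvPowerSeries σ k))
    (hδ : ∀ (f : MvPowerSeries σ k) (i : σ), δ f i = MvPowerSeries.pderiv k i f)
    (hgen : Submodule.span (MvPowerSeries σ k) (Set.range δ) = ⊤)
    (d : ∀ p : ℕ, ↥(⋀[MvPowerSeries σ k]^p (σ → MvPowerSeries σ k)) →ₗ[k]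
      ↥(⋀[MvPowerSeries σ k]^(p + 1) (σ → MvPowerSeries σ k)))
    (hd : DeRham.IsDiff δ d) (p : ℕ) :
    DeRham.cocycles d (p + 1) ≤ DeRham.coboundaries d (p + 1) := by
  exact main k σ δ hδ d hd p

end Groth.Agent.S18616
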