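import Groth.Statements.S18617
-- import your own Groth.Agent.* helpers here

set_option autoImplicit false
universe u
open LocRes

namespace Groth.Agent.S18617

/-- The published statement is that, for a complete separated linearly topologized commutative algebra K
over a field of characteristic zero, the separated de Rham complex of K tensored with the exterior
algebra on symbols α_1, ..., α_n maps quasi-isomorphically to the separated de Rham complex of the
iterated Laurent series ring K((t_1, ..., t_n)), α_i going to dlog t_i; this row is the case K = k
and n = 1, unpacked: over a field k of characteristic 0, a formal Laurent series f in k((t)) has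
term-by-term derivative zero if and only if it is the constant series on its coefficient of degree
0, and a Laurent series g is the derivative of some Laurent series if and only if its residue (the
coefficient of t⁻¹) vanishes; so H⁰ of the complex k((t)) → k((t)) dt is k and H¹ is the line
spanned by the class of dt/t, on which the residue is 1. -/
theorem result (k : Type u) [Field k] [CharZero k] :
    (∀ f : LaurentSeries k, LocRes.D k f = 0 ↔ f = HahnSeries.C (f.coeff 0)) ∧
      ∀ g : LaurentSeries k, (∃ f : LaurentSeries k, LocRes.D k f = g) ↔ LocRes.res k g = 0 := by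
  have hz : ∀ (m : ℤ) (a : k), m ≠ 0 → m • a = 0 → a = 0 := by
    intro m a hm h
    rw [zsmul_eq_mul] at h
    rcases mul_eq_zero.mp h with h | h
    · exact absurd (Int.cast_eq_zero.mp h) hm
    · exact h
  refine ⟨fun f => ⟨fun h => ?_, fun h => ?_⟩, fun g => ⟨?_, fun h => ?_⟩⟩
  · ext n
    rw [HahnSeries.C_apply, HahnSeries.coeff_single]
    by_cases hn : n = 0
    · rw [if_pos hn, hn]
    · rw [if_neg hn]
      have h1 := LocRes.D_coeff k f (n - 1)
      rw [h, HahnSeries.coeff_zero, sub_add_cancel] at h1
      exact hz n _ hn h1.symm
  · rw [h, LocRes.D_apply, LocRes.derivative_C]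
  · rintro ⟨f, rfl⟩
    rw [LocRes.res_apply, LocRes.D_coeff]
    simp
  · rw [LocRes.res_apply] at h
    have hbdd : BddBelow (Function.support (fun m : ℤ => g.coeff (m - 1) / (m : k))) := by
      refine ⟨g.order + 1, fun m hm => ?_⟩
      by_contra hlt
      have : g.coeff (m - 1) = 0 := HahnSeries.coeff_eq_zero_of_lt_order (by omega)
      apply hm
      simp only [this, zero_div]
    refine ⟨HahnSeries.ofSuppBddBelow _ hbdd, ?_⟩
    ext n
    rw [LocRes.D_coeff, HahnSeries.coeff_ofSuppBddBelow]
    simp only [add_sub_cancel_right]
    by_cases hn : n + 1 = 0
    · have : n = -1 := by omega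
      rw [hn, zero_smul, this, h]
    · rw [zsmul_eq_mul]
      have : ((n + 1 : ℤ) : k) ≠ 0 := Int.cast_ne_zero.mpr hn
      field_simp

end Groth.Agent.S18617
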