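import Groth.Statements.S18656
import Groth.Agent.H98.GrStar.TopDeg
import Groth.Agent.H98.GrStar.EndDeg

set_option autoImplicit false
universe u
open GrLC

namespace Groth.Agent.S18656

/-- Let R be a graded ring defined over a field k = R_0, generated over k by R_1, of dimension r ≥ 1,
and let a(R) be its a-invariant. Then the homogeneous piece H^r_m(R)_n is nonzero for every n ≤
a(R). Here 'graded ring defined over a field' means R = ⊕_{n ≥ 0} R_n is Noetherian with R_0 a
field, and m = R_+ is its unique graded maximal ideal. The a-invariant a(R) is the largest degree in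
which the graded local cohomology H^n_m(R) (n = dim R, m = R_+), computed from a *injective
resolution of R in the graded category, is nonzero. -/
theorem result (R : Type u) [CommRing R] [IsNoetherianRing R] (𝒜 : ℤ → AddSubgroup R) [GradedRing 𝒜] (hpos : ∀ n : ℤ, n < 0 → 𝒜 n = ⊥) (h0 : IsField (GrLC.deg0 𝒜)) (m : HomogeneousIdeal 𝒜) (hm : GrLC.IsStarLocal 𝒜 m) (hmsp : m.toIdeal = Ideal.span (⋃ n ∈ Set.Ioi (0 : ℤ), (𝒜 n : Set R))) (hstd : Ideal.span (⋃ n ∈ Set.Ioi (0 : ℤ), (𝒜 n : Set R)) = Ideal.span ((𝒜 1 : AddSubgroup R) : Set R)) (r : ℕ) (hr : ringKrullDim R = r) (h1 : 1 ≤ r) (I : GrLC.StarInjRes 𝒜 𝒜) (a : ℤ) (ha : GrLC.endDeg (I.Hgr m r) = ((a : WithTop ℤ) : WithBot (WithTop ℤ))) (n : ℤ) (hn : n ≤ a) : I.Hcomp m r n ≠ ⊥ := by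
  classical
  have hm1 : m.toIdeal = Ideal.span ((𝒜 1 : AddSubgroup R) : Set R) := hmsp.trans hstd
  have htop_loc := Groth.Agent.H98.LCRes.smul_top_eq_top_of_dim_le m.toIdeal r h1 (le_of_eq hr)
  have htop := Groth.Agent.H98.GrStar.smul_top_eq_top_of_locCoh I m r htop_loc
  have step : ∀ k : ℤ, (∀ x ∈ I.Hgr m r k, x = 0) → ∀ x ∈ I.Hgr m r (1 + k), x = 0 := fun k hk =>
    Groth.Agent.H98.GrStar.Hgr_add_eq_zero_of_smul_top I m r 1 hm1 htop k hk
  intro hbot
  have h0' : ∀ x ∈ I.Hgr m r n, x = 0 := by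
    intro x hx
    have hx' : x ∈ I.Hcomp m r n := hx
    rw [hbot] at hx'
    exact (Submodule.mem_bot _).mp hx'
  have hall : ∀ j : ℕ, ∀ x ∈ I.Hgr m r (n + j), x = 0 := by
    intro j
    induction j with
    | zero => simpa using h0'
    | succ j ih =>
      have h2 := step (n + j) ih
      have h3 : (1 : ℤ) + (n + (j : ℤ)) = n + ((j + 1 : ℕ) : ℤ) := by push_cast; ring
      rw [h3] at h2
      exact h2
  have ha0 : I.Hgr m r a = ⊥ := by
    rw [eq_bot_iff]
    intro x hx
    have h4 := hall (a - n).toNat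
    have h5 : n + ((a - n).toNat : ℤ) = a := by
      rw [Int.toNat_of_nonneg (by omega)]; ring
    rw [h5] at h4
    exact (AddSubgroup.mem_bot).mpr (h4 x hx)
  have hle : GrLC.endDeg (I.Hgr m r) ≤ (((a - 1 : ℤ) : WithTop ℤ) : WithBot (WithTop ℤ)) := by
    apply Groth.Agent.H98.GrStar.endDeg_le_of_forall
    intro k hk
    by_contra hne
    have h6 := Groth.Agent.H98.GrStar.le_endDeg (I.Hgr m r) k hne
    rw [ha, WithBot.coe_le_coe, WithTop.coe_le_coe] at h6
    have hka : k = a := by omega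
    rw [hka] at hne
    exact hne ha0
  rw [ha, WithBot.coe_le_coe, WithTop.coe_le_coe] at hle
  omega

end Groth.Agent.S18656
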