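import Groth.Statements.S18657
import Mathlib
import Groth.Agent.H81.CanonLoc
import Groth.Agent.H81.CanonPieces
import Groth.Agent.H2.CanonModule
import Groth.Agent.H85.GrLCBase
import Groth.Agent.H98.GrStar.MaxHull
import Groth.Agent.H98.GrStar.LCCompare
import Groth.Agent.H98.GrHt.StarLocalDim

set_option autoImplicit false
universe u
open GrLC

namespace Groth.Agent.S18657

/-- Let R be a graded ring defined over a field k = R_0 which is Cohen–Macaulay and generated over k by
R_1, of dimension r ≥ 2, with canonical module K_R and a-invariant a(R). Then dim_k (K_R)_n ≥ 2 for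
every n > −a(R). Here 'graded ring defined over a field' means R = ⊕_{n ≥ 0} R_n is Noetherian with
R_0 a field (so R is finitely generated over R_0), m = R_+ is its unique graded maximal ideal and n
= dim R; the canonical module K_R (the graded dual of H^n_m(R)) is represented by a finitely
generated graded module C together with a homogeneous isomorphism from Hom_R(C, E) onto H^n_m(R),
where E is a *injective envelope of R/m and H^n_m(R) is computed from a *injective resolution of R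
in the graded category; by graded Matlis duality this says exactly that C ≅ K_R as graded modules.
The a-invariant a(R) is the largest degree in which the graded local cohomology H^n_m(R) (n = dim R,
m = R_+), computed from a *injective resolution of R in the graded category, is nonzero. -/
theorem result (R : Type u) [CommRing R] [LocCoh.IsCohenMacaulayRing R] (𝒜 : ℤ → AddSubgroup R) [GradedRing 𝒜] (hpos : ∀ n : ℤ, n < 0 → 𝒜 n = ⊥) (h0 : IsField (GrLC.deg0 𝒜)) (m : HomogeneousIdeal 𝒜) (hm : GrLC.IsStarLocal 𝒜 m) (hmsp : m.toIdeal = Ideal.span (⋃ n ∈ Set.Ioi (0 : ℤ), (𝒜 n : Set R))) (hstd : Ideal.span (⋃ n ∈ Set.Ioi (0 : ℤ), (𝒜 n : Set R)) = Ideal.span ((𝒜 1 : AddSubgroup R) : Set R)) (n : ℕ) (hn : ringKrullDim R = n) (h2 : 2 ≤ n) (I : GrLC.StarInjRes 𝒜 𝒜) (a : ℤ) (ha : GrLC.endDeg (I.Hgr m n) = ((a : WithTop ℤ) : WithBot (WithTop ℤ))) (E' : Type u) [AddCommGroup E'] [Module R E'] (𝓔 : ℤ → AddSubgroup E') [DirectSum.Decomposition 𝓔] [SetLike.GradedSMul 𝒜 𝓔]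 (e : (R ⧸ m.toIdeal) →ₗ[R] E') (he : GrLC.IsStarInjHull 𝒜 (GrLC.quotGr 𝒜 m) 𝓔 e) (C : Type u) [AddCommGroup C] [Module R C] (𝒞 : ℤ → AddSubgroup C) [DirectSum.Decomposition 𝒞] [SetLike.GradedSMul 𝒜 𝒞] (hC : GrLC.IsStarCanonical 𝒜 𝒞 𝓔 m n I) (j : ℤ) (hj : -a < j) : 2 ≤ Module.finrank (GrLC.deg0 𝒜) (GrLC.comp 𝒜 𝒞 j) := by
  haveI : IsNoetherianRing R := inferInstance
  obtain ⟨hfin, φ, hφ⟩ := hC
  haveI := hfin
  have hne : m.toIdeal ≠ ⊤ := by
    intro h
    exact hm.1.1 (HomogeneousIdeal.toIdeal_injective h)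
  haveI hmax : m.toIdeal.IsMaximal := Groth.Agent.H85.GrLCBase.isMaximal_irr 𝒜 hpos h0 m hne hmsp
  obtain ⟨ψ⟩ := Groth.Agent.H98.GrStar.nonempty_H_equiv_locCoh I m n
  have heE : InjHull.IsInjectiveHull e :=
    Groth.Agent.H98.GrStar.isInjectiveHull_of_maximal 𝒜 𝓔 m e he
  haveI hp : m.toIdeal.IsPrime := Ideal.IsMaximal.isPrime inferInstance
  obtain ⟨f₀, hf₀⟩ := Groth.Agent.H81.CanonLoc.exists_isInjectiveHull_residueField m.toIdeal e heE
  obtain ⟨eK⟩ := Groth.Agent.H81.CanonLoc.nonempty_canon_localization m.toIdeal C n (φ.trans ψ)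
  haveI : LocCoh.IsCohenMacaulayLocalRing (Localization.AtPrime m.toIdeal) :=
    LocCoh.IsCohenMacaulayRing.isCohenMacaulayLocalRing_localization m.toIdeal
  have hdim : ringKrullDim (Localization.AtPrime m.toIdeal) = n := by
    rw [IsLocalization.AtPrime.ringKrullDim_eq_height m.toIdeal (Localization.AtPrime m.toIdeal),
      Groth.Agent.H98.GrHt.height_eq_ringKrullDim_of_isStarLocal 𝒜 hpos hm, hn]
  have hvan := Groth.Agent.H2.CanonModule.hvan_of_isCM (Localization.AtPrime m.toIdeal) n hdim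
  have hdepth : LocCoh.depth (Localization.AtPrime m.toIdeal)
      (LocalizedModule m.toIdeal.primeCompl C) = n :=
    Groth.Agent.H2.CanonModule.depth_eq f₀ hf₀ hdim hvan eK
  have hdepth2 : (2 : ℕ∞) ≤ LocCoh.depth (Localization.AtPrime m.toIdeal)
      (LocalizedModule m.toIdeal.primeCompl C) := by
    rw [hdepth]
    exact_mod_cast h2
  have hgen : m.toIdeal = Ideal.span ((𝒜 1 : AddSubgroup R) : Set R) := hmsp.trans hstd
  have hHa : I.Hgr m n a ≠ ⊥ := Groth.Agent.H81.CanonPieces.ne_bot_of_endDeg_eq _ a ha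
  obtain ⟨l₀, hl₀, hl₀ne⟩ := Groth.Agent.H81.CanonPieces.exists_piece_ne_bot 𝒜 hpos m hmsp 𝒞 𝓔 e
    he.toIsStarEss n I φ hφ a hHa
  exact Groth.Agent.H81.CanonPieces.two_le_finrank 𝒜 hpos h0 m hmsp hgen 𝒞 hdepth2 l₀ j
    (by omega) hl₀ne

end Groth.Agent.S18657
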