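import Groth.Statements.S18658
import Groth.Agent.H98.Ver.CanonPair
import Groth.Agent.H98.Ver.MPairVer
import Groth.Agent.H98.Ver.TopEquiv
import Groth.Agent.H98.Ver.Local
import Groth.Agent.H98.Ver.Ring
import Groth.Agent.H81.CanonPieces

set_option autoImplicit false
universe u
open GrLC

namespace Groth.Agent.S18658

/-- Let R be a graded ring defined over a field, q ≥ 1, and R' = R^(q) its Veronese subring. Then K_{R'}
= (K_R)^(q): the canonical module of R' is the Veronese submodule ⊕_j (K_R)_{jq} of the canonical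
module of R. Stated here as: for canonical modules C of R and C' of R' there is an injective
additive map g : C' → C, semilinear over the inclusion φ : R' → R, carrying C'_j onto C_{jq} for
every j. Here 'graded ring defined over a field' means R = ⊕_{n ≥ 0} R_n is Noetherian with R_0 a
field, and m = R_+ is its unique graded maximal ideal. Both R and R' have dimension n = dim R; the
canonical module of each is represented by a finitely generated graded module together with a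
homogeneous isomorphism from its Hom into a *injective envelope of the residue field onto the top
graded local cohomology H^n of the ring with support in its irrelevant ideal, computed from a
*injective resolution in the graded category (by graded Matlis duality this pins the module up to
graded isomorphism). The Veronese subring R^(q) = ⊕_j R_{jq}, regraded by (R^(q))_j = R_{jq}, is
presented abstractly as a ℤ-graded ring R' with an injective ring homomorphism φ : R' → R carrying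
R'_j onto R_{jq} for every j. -/
theorem result (R : Type u) [CommRing R] [IsNoetherianRing R] (𝒜 : ℤ → AddSubgroup R) [GradedRing 𝒜] (hpos : ∀ n : ℤ, n < 0 → 𝒜 n = ⊥) (h0 : IsField (GrLC.deg0 𝒜)) (m : HomogeneousIdeal 𝒜) (hm : GrLC.IsStarLocal 𝒜 m) (hmsp : m.toIdeal = Ideal.span (⋃ n ∈ Set.Ioi (0 : ℤ), (𝒜 n : Set R))) (n : ℕ) (hn : ringKrullDim R = n) (I : GrLC.StarInjRes 𝒜 𝒜) (E' : Type u) [AddCommGroup E'] [Module R E'] (𝓔 : ℤ → AddSubgroup E') [DirectSum.Decomposition 𝓔] [SetLike.GradedSMul 𝒜 𝓔] (e : (R ⧸ m.toIdeal) →ₗ[R] E') (he : GrLC.IsStarInjHull 𝒜 (GrLC.quotGr 𝒜 m) 𝓔 e) (C : Type u) [AddCommGroup C] [Module R C] (𝒞 : ℤ → AddSubgroup C) [DirectSum.Decomposition 𝒞] [SetLike.GradedSMul 𝒜 𝒞] (hC : GrLC.IsStarCanonical 𝒜 𝒞 𝓔 m n I) (q : ℕ) (hq : 0 < q) (R' : Type u) [CommRing R'] (𝒜' : ℤ → AddSubgroup R') [GradedRing 𝒜'] (φ : R' →+* R) (hφ : Function.Injective φ) (hdeg : ∀ j : ℤ, (𝒜' j).map (φ : R' →+ R) = 𝒜 (j *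 q)) (m' : HomogeneousIdeal 𝒜') (hm' : GrLC.IsStarLocal 𝒜' m') (hm'sp : m'.toIdeal = Ideal.span (⋃ j ∈ Set.Ioi (0 : ℤ), (𝒜' j : Set R'))) (I' : GrLC.StarInjRes 𝒜' 𝒜') (E'' : Type u) [AddCommGroup E''] [Module R' E''] (𝓔'' : ℤ → AddSubgroup E'') [DirectSum.Decomposition 𝓔''] [SetLike.GradedSMul 𝒜' 𝓔''] (e' : (R' ⧸ m'.toIdeal) →ₗ[R'] E'') (he' : GrLC.IsStarInjHull 𝒜' (GrLC.quotGr 𝒜' m') 𝓔'' e') (C' : Type u) [AddCommGroup C'] [Module R' C'] (𝒞' : ℤ → AddSubgroup C') [DirectSum.Decomposition 𝒞'] [SetLike.GradedSMul 𝒜' 𝒞'] (hC' : GrLC.IsStarCanonical 𝒜' 𝒞' 𝓔'' m' n I') : ∃ g : C' →ₛₗ[φ] C, Function.Injective g ∧ ∀ j : ℤ, (𝒞' j).map (g : C' →+ C) = 𝒞 (j * q) := by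
  classical
  have hv : Groth.Agent.H98.Ver.IsVer 𝒜 𝒜' φ q := ⟨hφ, hdeg, hq⟩
  haveI : IsNoetherianRing R' := Groth.Agent.H98.Ver.isNoetherianRing hv
  have hpos'' := Groth.Agent.H98.Ver.hpos' hv hpos
  have h0' := Groth.Agent.H98.Ver.isField_deg0' hv h0
  have hle := Groth.Agent.H98.Ver.map_irrel_le hv m hmsp m' hm'sp
  have hpow := Groth.Agent.H98.Ver.exists_pow_irrel_le hv m hmsp m' hm'sp
  obtain ⟨Θ, hΘinj, hΘ⟩ := Groth.Agent.H98.Ver.exists_semilinear_self hv I I' m m' hle hpow n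
  letI decH : DirectSum.Decomposition (I.Hgr m n) :=
    (Groth.Agent.H98.GrStar.Hgr_isInternal 𝒜 𝒜 I m n).chooseDecomposition
  letI decH' : DirectSum.Decomposition (I'.Hgr m' n) :=
    (Groth.Agent.H98.GrStar.Hgr_isInternal 𝒜' 𝒜' I' m' n).chooseDecomposition
  haveI : SetLike.GradedSMul 𝒜 (I.Hgr m n) := ⟨fun {d k r z} hr hz => by
    have := Groth.Agent.H98.GrStar.smul_mem_Hgr I m hr n z hz
    rwa [← vadd_eq_add] at this⟩
  haveI : SetLike.GradedSMul 𝒜' (I'.Hgr m' n) := ⟨fun {d k r z} hr hz => by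
    have := Groth.Agent.H98.GrStar.smul_mem_Hgr I' m' hr n z hz
    rwa [← vadd_eq_add] at this⟩
  obtain ⟨hCfin, Φ, hΦ⟩ := hC
  obtain ⟨hCfin', Φ', hΦ'⟩ := hC'
  haveI := hCfin
  haveI := hCfin'
  obtain ⟨P, hP⟩ := Groth.Agent.H98.Ver.exists_mpair 𝒜 hpos h0 hm hmsp 𝓔 e he 𝒞 (I.Hgr m n) Φ hΦ
  obtain ⟨P', hP'⟩ := Groth.Agent.H98.Ver.exists_mpair 𝒜' hpos'' h0' hm' hm'sp 𝓔'' e' he' 𝒞'
    (I'.Hgr m' n) Φ' hΦ'
  exact Groth.Agent.H98.Ver.exists_semilinear_of_mpair hv hP hP' Θ hΘinj hΘ h0 h0'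
    (fun j => Groth.Agent.H81.CanonPieces.finite_comp 𝒜 hpos h0 𝒞 j)
    (fun j => Groth.Agent.H81.CanonPieces.finite_comp 𝒜' hpos'' h0' 𝒞' j)

end Groth.Agent.S18658
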