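import Groth.Statements.S18659
import Groth.Agent.S19757
import Groth.Agent.S18638
import Groth.Agent.S18647
import Groth.Agent.H93.GorEndDeg
import Groth.Agent.H98.SegCM.RingCM

set_option autoImplicit false
universe u
open scoped TensorProduct
open GrSegre

namespace Groth.Agent.S18659

/-- Let R and S be graded rings defined over a field k which are Gorenstein, of dimensions r ≥ 2 and s ≥
2, with a(R) = a(S). If the Segre product T = R # S is a Cohen–Macaulay ring, then T is a Gorenstein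
ring. (No generation in degree one is assumed here.) Here a graded ring defined over k is a
commutative k-algebra of finite type, graded in nonnegative degrees by k-subspaces with degree-zero
part k·1; the a-invariant a(R) is the largest degree in which the graded local cohomology H^{dim
R}_{R_+}(R), computed from a *injective resolution of R in the graded category, is nonzero; the
Segre product T = ⊕_n R_n ⊗_k S_n is presented abstractly as a graded k-algebra T with an injective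
k-algebra homomorphism ψ : T → R ⊗_k S carrying T_n onto the k-span of the elementary tensors a ⊗ b
with a ∈ R_n, b ∈ S_n. -/
theorem result (k : Type u) [Field k] (R : Type u) [CommRing R] [Algebra k R] (𝒜 : ℤ → Submodule k R) [GradedAlgebra 𝒜] (hposR : ∀ n : ℤ, n < 0 → 𝒜 n = ⊥) (h0R : 𝒜 0 = Submodule.span k {(1 : R)}) [Algebra.FiniteType k R] (S : Type u) [CommRing S] [Algebra k S] (ℬ : ℤ → Submodule k S) [GradedAlgebra ℬ] (hposS : ∀ n : ℤ, n < 0 → ℬ n = ⊥) (h0S : ℬ 0 = Submodule.span k {(1 : S)}) [Algebra.FiniteType k S] (T : Type u) [CommRing T] [Algebra k T] (𝒯 : ℤ → Submodule k T) [GradedAlgebra 𝒯] (ψ : T →ₐ[k] TensorProduct k R S) (hψ : Function.Injective ψ) (hdegT : ∀ n : ℤ, (𝒯 n).map ψ.toLinearMap = Submodule.span k {x : TensorProduct k R S | ∃ a ∈ 𝒜 n, ∃ b ∈ ℬ n, x = a ⊗ₜ[k] b}) [LocCoh.IsGorensteinRing R] [LocCoh.IsGorensteinRing S] (mR : HomogeneousIdeal 𝒜) (hmR : mR.toIdeal = Ideal.span (⋃ n ∈ Set.Ioi (0 : ℤ),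 (𝒜 n : Set R))) (I : GrLC.StarInjRes 𝒜 𝒜) (mS : HomogeneousIdeal ℬ) (hmS : mS.toIdeal = Ideal.span (⋃ n ∈ Set.Ioi (0 : ℤ), (ℬ n : Set S))) (J : GrLC.StarInjRes ℬ ℬ) (r s : ℕ) (hr : ringKrullDim R = r) (hs : ringKrullDim S = s) (h2r : 2 ≤ r) (h2s : 2 ≤ s) (haeq : GrLC.endDeg (I.Hgr mR r) = GrLC.endDeg (J.Hgr mS s)) [LocCoh.IsCohenMacaulayRing T] : LocCoh.IsGorensteinRing T := by
  classical
  haveI : Nontrivial R := by
    by_contra hne
    haveI : Subsingleton R := not_nontrivial_iff_subsingleton.mp hne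
    rw [ringKrullDim_eq_bot_of_subsingleton] at hr
    simp at hr
  haveI : Nontrivial S := by
    by_contra hne
    haveI : Subsingleton S := not_nontrivial_iff_subsingleton.mp hne
    rw [ringKrullDim_eq_bot_of_subsingleton] at hs
    simp at hs
  have hT : GrSeg.IsSegreRing 𝒜 ℬ 𝒯 ψ := ⟨hψ, hdegT⟩
  haveI : Nontrivial T := by
    refine ⟨⟨0, 1, fun h => ?_⟩⟩
    have h1 : ψ 0 = ψ 1 := congrArg ψ h
    rw [map_zero, map_one] at h1
    exact zero_ne_one h1
  have hposT := Groth.Agent.H85.SegreRingFacts.segre_hpos 𝒜 ℬ 𝒯 ψ hψ hdegT hposR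
  have h0T := Groth.Agent.H85.SegreRingFacts.segre_h0 𝒜 ℬ 𝒯 ψ hψ hdegT h0R h0S
  haveI : Algebra.FiniteType k T :=
    Groth.Agent.H85.SegreRingFacts.segre_finiteType 𝒜 ℬ 𝒯 ψ hψ hdegT hposR h0R h0S
  haveI : IsNoetherianRing T := Algebra.FiniteType.isNoetherianRing k T
  -- the common `a`-invariant
  obtain ⟨a, ha⟩ := Groth.Agent.H93.GorEndDeg.exists_endDeg_eq 𝒜 hposR h0R mR hmR r hr I
  have hb : GrLC.endDeg (J.Hgr mS s) = ((a : WithTop ℤ) : WithBot (WithTop ℤ)) := by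
    rw [← haeq]; exact ha
  -- the canonical modules of `R` and `S`
  obtain ⟨ER, eR, heR, hCR⟩ := Groth.Agent.H93.ShiftCanon.exists_hull_canonical_shift 𝒜 hposR h0R
    mR hmR r hr I a ha
  obtain ⟨ES, eS, heS, hCS⟩ := Groth.Agent.H93.ShiftCanon.exists_hull_canonical_shift ℬ hposS h0S
    mS hmS s hs J a hb
  -- the irrelevant ideal, a *injective hull of `T/T_+` and a *injective resolution of `T`
  let mT : HomogeneousIdeal 𝒯 := Groth.Agent.H98.SegCM.irrHom 𝒯
  have hmT : mT.toIdeal = Ideal.span (⋃ n ∈ Set.Ioi (0 : ℤ), (𝒯 n : Set T)) :=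
    Groth.Agent.H98.SegCM.irrHom_toIdeal 𝒯
  obtain ⟨ET, eT, heT⟩ := Groth.Agent.H98.GrStar.exists_isStarInjHull 𝒯
    (Groth.Agent.H98.GrStar.quotIdealGMod 𝒯 mT).gr
  let IT : GrLC.StarInjRes 𝒯 𝒯 := Groth.Agent.H98.SegCM.resOf 𝒯 𝒯
  -- the Segre product `R(a) # S(a)` is `T(a)`
  have hP : GrSeg.IsSegreMod ψ (Groth.Agent.H93.ShiftCanon.shiftGr 𝒜 a)
      (Groth.Agent.H93.ShiftCanon.shiftGr ℬ a) (Groth.Agent.H93.ShiftCanon.shiftGr 𝒯 a)
      ψ.toLinearMap := by
    refine ⟨hψ, fun n => ?_, fun t p => ?_⟩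
    · have h := hdegT (n + a)
      have h' : ((𝒯 (n + a)).map ψ.toLinearMap : Set (TensorProduct k R S)) =
          (GrSeg.segrePiece k (Groth.Agent.H93.ShiftCanon.shiftGr 𝒜 a)
            (Groth.Agent.H93.ShiftCanon.shiftGr ℬ a) n : Set (TensorProduct k R S)) := by
        rw [h]; rfl
      rw [Submodule.map_coe] at h'
      exact h'
    · change ψ (t * p) = _
      rw [map_mul, Groth.Agent.H98.act_self_eq_mul]
      rfl
  have hCT := Groth.Agent.S19757.result k R 𝒜 hposR h0R S ℬ hposS h0S T 𝒯 ψ hT mR hmR I mS hmS J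
    mT hmT IT r s hr hs h2r h2s ER.carrier ER.gr eR heR R
    (Groth.Agent.H93.ShiftCanon.shiftGr 𝒜 a) hCR ES.carrier ES.gr eS heS S
    (Groth.Agent.H93.ShiftCanon.shiftGr ℬ a) hCS ET.carrier ET.gr eT heT
    T (Groth.Agent.H93.ShiftCanon.shiftGr 𝒯 a) ψ.toLinearMap hP
  -- transfer to the additive-subgroup grading and apply the Gorenstein criterion `K_T ≅ T(a)`
  have hposT' := Groth.Agent.H85.SegreOneCM.selfGr_neg 𝒯 hposT
  have h0T' := Groth.Agent.H85.SegreOneCM.isField_deg0_selfGr 𝒯 h0T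
  have hmT' := Groth.Agent.H93.CanonDim.isStarLocal_toSelf_of_span 𝒯 hposT h0T mT hmT
  haveI gs1 : SetLike.GradedSMul (Groth.Agent.H98.GrStar.selfGr 𝒯) ET.gr :=
    Groth.Agent.H98.Canon.gradedSMul_toSelf 𝒯 ET.gr
  haveI gs2 : SetLike.GradedSMul (Groth.Agent.H98.GrStar.selfGr 𝒯)
      (Groth.Agent.H93.ShiftCanon.shiftGr 𝒯 a) :=
    Groth.Agent.H98.Canon.gradedSMul_toSelf 𝒯 _
  have heT' := Groth.Agent.H98.Canon.isStarInjHull_toSelf 𝒯 mT ET.gr eT heT
  have hCT' := Groth.Agent.H98.Canon.isStarCanonical_toSelf 𝒯 mT ET.gr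
    (Groth.Agent.H93.ShiftCanon.shiftGr 𝒯 a) (r + s - 1) IT hCT
  have hdim := Groth.Agent.S18647.result k R 𝒜 hposR h0R S ℬ hposS h0S T 𝒯 ψ hψ hdegT r s hr hs
    (by omega) (by omega)
  have hiff := Groth.Agent.S18638.result T (Groth.Agent.H98.GrStar.selfGr 𝒯) hposT' h0T'
    (Groth.Agent.H98.Canon.toSelfIdeal 𝒯 mT) hmT' hmT (r + s - 1) hdim
    (Groth.Agent.H98.Canon.resToSelf 𝒯 IT) ET.carrier ET.gr eT heT'
    T (Groth.Agent.H93.ShiftCanon.shiftGr 𝒯 a) hCT'
  refine hiff.mpr ⟨-a, LinearMap.id, Function.bijective_id, ?_⟩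
  intro g x hx
  change x ∈ 𝒯 (g + -a + a)
  rw [neg_add_cancel_right]
  exact hx

end Groth.Agent.S18659
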