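import Groth.Statements.S18665
import Groth.Agent.S19757
import Groth.Agent.S18640
import Groth.Agent.S19750
import Groth.Agent.S18647
import Groth.Agent.H93.SegType

set_option autoImplicit false
universe u
open scoped TensorProduct
open GrSegre

namespace Groth.Agent.S18665

/-- Let R and S be standard graded rings defined over a field k which are Gorenstein, of dimensions r ≥
2 and s ≥ 2, put a = a(R), b = a(S) with a ≥ b, and assume that the Segre product T = R # S is a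
Cohen–Macaulay ring. Then the type r(T) equals dim_k R_{a−b}. Here the type of T is the Bass number
μ_{r+s−1}(T_+, T), the dimension over the residue field of Ext^{r+s−1} over the local ring of T at
its graded maximal ideal T_+ (T has dimension r + s − 1); a graded ring defined over k is a
commutative k-algebra of finite type, graded in nonnegative degrees by k-subspaces with degree-zero
part k·1, standard graded when its irrelevant ideal is generated by the degree-one piece; the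
a-invariant is the largest nonzero degree of the top graded local cohomology with support in the
irrelevant ideal, computed from a *injective resolution in the graded category; the Segre product T
= ⊕_n R_n ⊗_k S_n is presented abstractly as a graded k-algebra T with an injective k-algebra
homomorphism ψ : T → R ⊗_k S carrying T_n onto the k-span of the elementary tensors a ⊗ b with a ∈
R_n, b ∈ S_n. -/
theorem result (k : Type u) [Field k] (R : Type u) [CommRing R] [Algebra k R] (𝒜 : ℤ → Submodule k R) [GradedAlgebra 𝒜] (hposR : ∀ n : ℤ, n < 0 → 𝒜 n = ⊥) (h0R : 𝒜 0 = Submodule.span k {(1 : R)}) [Algebra.FiniteType k R] (S : Type u) [CommRing S] [Algebra k S] (ℬ : ℤ → Submodule k S) [GradedAlgebra ℬ] (hposS : ∀ n : ℤ, n < 0 → ℬ n = ⊥) (h0S : ℬ 0 = Submodule.span k {(1 : S)}) [Algebra.FiniteType k S] (T : Type u) [CommRing T] [Algebra k T] (𝒯 : ℤ → Submodule k T) [GradedAlgebra 𝒯] (ψ : T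 →ₐ[k] TensorProduct k R S) (hψ : Function.Injective ψ) (hdegT : ∀ n : ℤ, (𝒯 n).map ψ.toLinearMap = Submodule.span k {x : TensorProduct k R S | ∃ a ∈ 𝒜 n, ∃ b ∈ ℬ n, x = a ⊗ₜ[k] b}) [LocCoh.IsGorensteinRing R] [LocCoh.IsGorensteinRing S] (mR : HomogeneousIdeal 𝒜) (hmR : mR.toIdeal = Ideal.span (⋃ n ∈ Set.Ioi (0 : ℤ), (𝒜 n : Set R))) (hstdR : Ideal.span (⋃ n ∈ Set.Ioi (0 : ℤ), (𝒜 n : Set R)) = Ideal.span ((𝒜 1 : Submodule k R) : Set R)) (I : GrLC.StarInjRes 𝒜 𝒜) (mS : HomogeneousIdeal ℬ) (hmS : mS.toIdeal = Ideal.span (⋃ n ∈ Set.Ioi (0 : ℤ), (ℬ n : Set S))) (hstdS : Ideal.span (⋃ n ∈ Set.Ioi (0 : ℤ), (ℬ n : Set S)) = Ideal.span ((ℬ 1 : Submodule k S) : Set S)) (J : GrLC.StarInjRes ℬ ℬ) (r s : ℕ) (hr : ringKrullDim R = r) (hs : ringKrullDim S = s) (h2r : 2 ≤ r) (h2s : 2 ≤ s) (a b : ℤ) (ha : GrLC.endDeg (I.Hgr mR r) = ((a : WithTop ℤ) : WithBot (WithTop ℤ))) (hb : GrLC.endDeg (J.Hgr mS s) =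 ((b : WithTop ℤ) : WithBot (WithTop ℤ))) (hab : b ≤ a) [LocCoh.IsCohenMacaulayRing T] (mT : HomogeneousIdeal 𝒯) [mT.toIdeal.IsMaximal] (hmT : mT.toIdeal = Ideal.span (⋃ n ∈ Set.Ioi (0 : ℤ), (𝒯 n : Set T))) : GrLC.bassNum mT.toIdeal T (r + s - 1) = (Module.finrank k (𝒜 (a - b)) : ℕ∞) := by
  classical
  haveI : Nontrivial R := by
    by_contra hne
    haveI : Subsingleton R := not_nontrivial_iff_subsingleton.mp hne
    rw [ringKrullDim_eq_bot_of_subsingleton] at hr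
    simp at hr
  haveI : Nontrivial S := by
    by_contra hne
    haveI : Subsingleton S := not_nontrivial_iff_subsingleton.mp hne
    rw [ringKrullDim_eq_bot_of_subsingleton] at hs
    simp at hs
  have hT : GrSeg.IsSegreRing 𝒜 ℬ 𝒯 ψ := ⟨hψ, hdegT⟩
  haveI : Nontrivial T := by
    refine ⟨⟨0, 1, fun h => ?_⟩⟩
    have h1 : ψ 0 = ψ 1 := congrArg ψ h
    rw [map_zero, map_one] at h1
    exact zero_ne_one h1
  have hposT := Groth.Agent.H85.SegreRingFacts.segre_hpos 𝒜 ℬ 𝒯 ψ hψ hdegT hposR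
  have h0T := Groth.Agent.H85.SegreRingFacts.segre_h0 𝒜 ℬ 𝒯 ψ hψ hdegT h0R h0S
  haveI : Algebra.FiniteType k T :=
    Groth.Agent.H85.SegreRingFacts.segre_finiteType 𝒜 ℬ 𝒯 ψ hψ hdegT hposR h0R h0S
  haveI : IsNoetherianRing T := Algebra.FiniteType.isNoetherianRing k T
  -- the canonical modules of `R` and `S`
  obtain ⟨ER, eR, heR, hCR⟩ := Groth.Agent.H93.ShiftCanon.exists_hull_canonical_shift 𝒜 hposR h0R
    mR hmR r hr I a ha
  obtain ⟨ES, eS, heS, hCS⟩ := Groth.Agent.H93.ShiftCanon.exists_hull_canonical_shift ℬ hposS h0S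
    mS hmS s hs J b hb
  -- a *injective hull of `T/T_+` and a *injective resolution of `T`
  obtain ⟨ET, eT, heT⟩ := Groth.Agent.H98.GrStar.exists_isStarInjHull 𝒯
    (Groth.Agent.H98.GrStar.quotIdealGMod 𝒯 mT).gr
  let IT : GrLC.StarInjRes 𝒯 𝒯 := Groth.Agent.H98.SegCM.resOf 𝒯 𝒯
  -- the Segre product `R(a) # S(b)`
  have hP := Groth.Agent.H93.SegModEx.isSegreMod 𝒜 ℬ 𝒯 ψ hT
    (Groth.Agent.H93.ShiftCanon.shiftGr 𝒜 a) (Groth.Agent.H93.ShiftCanon.shiftGr ℬ b)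
  have hCT := Groth.Agent.S19757.result k R 𝒜 hposR h0R S ℬ hposS h0S T 𝒯 ψ hT mR hmR I mS hmS J
    mT hmT IT r s hr hs h2r h2s ER.carrier ER.gr eR heR R
    (Groth.Agent.H93.ShiftCanon.shiftGr 𝒜 a) hCR ES.carrier ES.gr eS heS S
    (Groth.Agent.H93.ShiftCanon.shiftGr ℬ b) hCS ET.carrier ET.gr eT heT
    (Groth.Agent.H93.SegModEx.SegMod 𝒜 ℬ 𝒯 ψ hT (Groth.Agent.H93.ShiftCanon.shiftGr 𝒜 a)
      (Groth.Agent.H93.ShiftCanon.shiftGr ℬ b))
    (Groth.Agent.H93.SegModEx.segGr 𝒜 ℬ 𝒯 ψ hT (Groth.Agent.H93.ShiftCanon.shiftGr 𝒜 a)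
      (Groth.Agent.H93.ShiftCanon.shiftGr ℬ b))
    (Groth.Agent.H93.SegModEx.incl 𝒜 ℬ 𝒯 ψ hT (Groth.Agent.H93.ShiftCanon.shiftGr 𝒜 a)
      (Groth.Agent.H93.ShiftCanon.shiftGr ℬ b)) hP
  -- transfer to the additive-subgroup grading and apply the type formula `r(T) = ν(K_T)`
  have hposT' := Groth.Agent.H85.SegreOneCM.selfGr_neg 𝒯 hposT
  have h0T' := Groth.Agent.H85.SegreOneCM.isField_deg0_selfGr 𝒯 h0T
  have hmT' := Groth.Agent.H93.CanonDim.isStarLocal_toSelf_of_span 𝒯 hposT h0T mT hmT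
  haveI gs1 : SetLike.GradedSMul (Groth.Agent.H98.GrStar.selfGr 𝒯) ET.gr :=
    Groth.Agent.H98.Canon.gradedSMul_toSelf 𝒯 ET.gr
  haveI gs2 : SetLike.GradedSMul (Groth.Agent.H98.GrStar.selfGr 𝒯)
      (Groth.Agent.H93.SegModEx.segGr 𝒜 ℬ 𝒯 ψ hT (Groth.Agent.H93.ShiftCanon.shiftGr 𝒜 a)
        (Groth.Agent.H93.ShiftCanon.shiftGr ℬ b)) :=
    Groth.Agent.H98.Canon.gradedSMul_toSelf 𝒯 _
  have heT' := Groth.Agent.H98.Canon.isStarInjHull_toSelf 𝒯 mT ET.gr eT heT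
  have hCT' := Groth.Agent.H98.Canon.isStarCanonical_toSelf 𝒯 mT ET.gr
    (Groth.Agent.H93.SegModEx.segGr 𝒜 ℬ 𝒯 ψ hT (Groth.Agent.H93.ShiftCanon.shiftGr 𝒜 a)
      (Groth.Agent.H93.ShiftCanon.shiftGr ℬ b)) (r + s - 1) IT hCT
  have hdim := Groth.Agent.S18647.result k R 𝒜 hposR h0R S ℬ hposS h0S T 𝒯 ψ hψ hdegT r s hr hs
    (by omega) (by omega)
  haveI hmax' : (Groth.Agent.H98.Canon.toSelfIdeal 𝒯 mT).toIdeal.IsMaximal :=
    (inferInstance : mT.toIdeal.IsMaximal)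
  obtain ⟨-, h2⟩ := Groth.Agent.S18640.result T (Groth.Agent.H98.GrStar.selfGr 𝒯) hposT' h0T'
    (Groth.Agent.H98.Canon.toSelfIdeal 𝒯 mT) hmT' hmT (r + s - 1) hdim
    (Groth.Agent.H98.Canon.resToSelf 𝒯 IT) ET.carrier ET.gr eT heT'
    (Groth.Agent.H93.SegModEx.SegMod 𝒜 ℬ 𝒯 ψ hT (Groth.Agent.H93.ShiftCanon.shiftGr 𝒜 a)
      (Groth.Agent.H93.ShiftCanon.shiftGr ℬ b))
    (Groth.Agent.H93.SegModEx.segGr 𝒜 ℬ 𝒯 ψ hT (Groth.Agent.H93.ShiftCanon.shiftGr 𝒜 a)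
      (Groth.Agent.H93.ShiftCanon.shiftGr ℬ b)) hCT'
  -- the number of generators of `R(a) # S(b)`
  have hP' : GrSeg.IsSegreMod ψ (fun n : ℤ => 𝒜 (n + a)) (fun n : ℤ => ℬ (n + b))
      (Groth.Agent.H93.SegModEx.segGr 𝒜 ℬ 𝒯 ψ hT (Groth.Agent.H93.ShiftCanon.shiftGr 𝒜 a)
        (Groth.Agent.H93.ShiftCanon.shiftGr ℬ b))
      (Groth.Agent.H93.SegModEx.incl 𝒜 ℬ 𝒯 ψ hT (Groth.Agent.H93.ShiftCanon.shiftGr 𝒜 a)
        (Groth.Agent.H93.ShiftCanon.shiftGr ℬ b)) :=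
    ⟨hP.injective, fun n => hP.image_piece n, hP.map_smul⟩
  have h3 := Groth.Agent.S19750.result k R 𝒜 hposR h0R S ℬ hposS h0S T 𝒯 ψ hT hstdR hstdS
    (by rw [hr]; exact_mod_cast (by omega : 1 ≤ r)) (by rw [hs]; exact_mod_cast (by omega : 1 ≤ s))
    mT hmT a b hab _ _ _ hP'
  haveI : Nontrivial (T ⧸ mT.toIdeal) :=
    Ideal.Quotient.nontrivial_iff.mpr (Ideal.IsMaximal.ne_top inferInstance)
  have h4 := Groth.Agent.H93.SegType.finrank_quot_tensor_eq 𝒯 hposT h0T mT hmT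
    (P := Groth.Agent.H93.SegModEx.SegMod 𝒜 ℬ 𝒯 ψ hT (Groth.Agent.H93.ShiftCanon.shiftGr 𝒜 a)
      (Groth.Agent.H93.ShiftCanon.shiftGr ℬ b))
  rw [← h3, ← h4]
  exact h2

end Groth.Agent.S18665
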