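import Groth.Statements.S18668
import Groth.Agent.H86.SR3

set_option autoImplicit false
universe u
open GrSect Groth.Agent.H86

namespace Groth.Agent.S18668

/-- Let X be a complete smooth curve of genus g ≥ 1 over an algebraically closed field k, P a closed
point, R = R_{X,P} = ⊕_{n ≥ 0} H^0(X, O_X(nP)) and H = H_{X,P} its Weierstrass semigroup. For any
nonzero t of degree one in R, t is prime in R and the quotient R/tR is isomorphic to k[H], the
semigroup algebra of H. Here the complete smooth curve X over the algebraically closed field k is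
given by its function field K/k (a function field of one variable in which k is algebraically
closed), the closed point P by a place of K/k, g ≥ 1 is the genus, H^0(X, O_X(nP)) = L(nP), and
R_{X,P} = ⊕_{n ≥ 0} L(nP)·T^n is realised as the k-subalgebra of K[T] of polynomials whose
coefficient of T^n lies in L(nP); the Weierstrass semigroup H_{X,P} is the set of n ≥ 0 with ℓ(nP) =
ℓ((n−1)P) + 1. The isomorphism is stated as a k-algebra isomorphism with the semigroup algebra of
the additive submonoid of ℕ generated by H_{X,P} (which is H_{X,P} itself). -/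
theorem result (k : Type u) [Field k] [IsAlgClosed k] (K : Type u) [Field K] [Algebra k K] (hK : FunFld.IsFunctionField k K) (hg : 1 ≤ FunFld.genus k K) (P : FunFld.Place k K) (t : ↥(W4c6gradedringsgw.sectRing (Finsupp.single P 1 : FunFld.Divisor k K))) (a : K) (ha : a ≠ 0) (ht : (t : Polynomial K) = Polynomial.C a * Polynomial.X) : Prime t ∧ Nonempty ((↥(W4c6gradedringsgw.sectRing (Finsupp.single P 1 : FunFld.Divisor k K)) ⧸ Ideal.span {t}) ≃ₐ[k] AddMonoidAlgebra k ↥(AddSubmonoid.closure (W4c6gradedringsgw.poleOrders P))) := by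
  obtain ⟨π, hπ⟩ := Groth.Agent.H55.Place.exists_uniformizer P
  have hker : RingHom.ker (FF.Psi hK P hπ) = Ideal.span {t} := FF.ker_Psi hK P hπ hg t a ha ht
  have hrange := FF.range_eq hK P hπ
  constructor
  · have ht0 : t ≠ 0 := by
      intro h
      have h1 : (t : Polynomial K) = 0 := by rw [h]; rfl
      rw [ht] at h1
      have h2 := congrArg (fun q => Polynomial.coeff q 1) h1
      simp at h2
      exact ha h2
    rw [← Ideal.span_singleton_prime ht0, ← hker]
    exact RingHom.ker_isPrime (FF.Psi hK P hπ)
  · let e2 : (FF.Psi hK P hπ).range ≃ₐ[k]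
        (FF.SPhi (k := k) (AddSubmonoid.closure (W4c6gradedringsgw.poleOrders P))).range :=
      Subalgebra.equivOfEq _ _ hrange
    let e3 : AddMonoidAlgebra k ↥(AddSubmonoid.closure (W4c6gradedringsgw.poleOrders P)) ≃ₐ[k]
        (FF.SPhi (k := k) (AddSubmonoid.closure (W4c6gradedringsgw.poleOrders P))).range :=
      AlgEquiv.ofInjective _ (FF.SPhi_injective _)
    let Θ : ↥(W4c6gradedringsgw.sectRing (Finsupp.single P 1 : FunFld.Divisor k K)) →ₐ[k]
        AddMonoidAlgebra k ↥(AddSubmonoid.closure (W4c6gradedringsgw.poleOrders P)) :=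
      (e3.symm.toAlgHom.comp e2.toAlgHom).comp (FF.Psi hK P hπ).rangeRestrict
    have hsurj : Function.Surjective Θ := by
      intro y
      obtain ⟨x, hx⟩ := (FF.Psi hK P hπ).rangeRestrict_surjective (e2.symm (e3 y))
      refine ⟨x, ?_⟩
      change e3.symm (e2 ((FF.Psi hK P hπ).rangeRestrict x)) = y
      rw [hx, AlgEquiv.apply_symm_apply, AlgEquiv.symm_apply_apply]
    have hk : Ideal.span {t} = RingHom.ker Θ := by
      rw [← hker]
      ext x
      rw [RingHom.mem_ker, RingHom.mem_ker]
      change _ ↔ e3.symm (e2 ((FF.Psi hK P hπ).rangeRestrict x)) = 0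
      constructor
      · intro h
        have h1 : (FF.Psi hK P hπ).rangeRestrict x = 0 := Subtype.ext h
        rw [h1, map_zero, map_zero]
      · intro h
        have h1 : e2 ((FF.Psi hK P hπ).rangeRestrict x) = 0 :=
          (EmbeddingLike.map_eq_zero_iff (f := e3.symm)).mp h
        have h2 : (FF.Psi hK P hπ).rangeRestrict x = 0 :=
          (EmbeddingLike.map_eq_zero_iff (f := e2)).mp h1
        exact congrArg Subtype.val h2
    exact ⟨(Ideal.quotientEquivAlgOfEq k hk).trans (Ideal.quotientKerAlgEquivOfSurjective hsurj)⟩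

end Groth.Agent.S18668
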