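import Mathlib
import Groth.Statements.S18702
import Groth.Agent.H34.SkHom
import Groth.Agent.H15.Depth
-- import your own Groth.Agent.* helpers here

set_option autoImplicit false
universe u
open QGor

namespace Groth.Agent.S18702

open RingTheory.Sequence Pointwise

/-- Affine form, for an arbitrary Noetherian ring A (not assumed to be a domain). Let I be an ideal and
G a finite reflexive A-module (the evaluation map into the double dual is bijective). For k = 1 and
k = 2: if depth_I A ≥ k then depth_I G ≥ k; and if A satisfies (S_k) then G satisfies (S_k). -/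
theorem result (A : Type u) [CommRing A] [IsNoetherianRing A] (I : Ideal A)
    (G : Type u) [AddCommGroup G] [Module A G] [Module.Finite A G] [Module.IsReflexive A G] :
    (1 ≤ LocCoh.idealDepth I A → 1 ≤ LocCoh.idealDepth I G) ∧
    (2 ≤ LocCoh.idealDepth I A → 2 ≤ LocCoh.idealDepth I G) ∧
    (LocCoh.HasSk 1 A A → LocCoh.HasSk 1 A G) ∧ (LocCoh.HasSk 2 A A → LocCoh.HasSk 2 A G) := by
  let e : G ≃ₗ[A] (Module.Dual A G →ₗ[A] A) := Module.evalEquiv A G
  have hfin : Module.Finite A (Module.Dual A G) := inferInstance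
  have htop : I • (⊤ : Submodule A A) = ⊤ → ∀ n : ℕ∞, n ≤ LocCoh.idealDepth I G := by
    intro h n
    have hI : I = ⊤ := by simpa using h
    rw [Groth.Agent.H15.idealDepth_eq_top_of_smul_top_eq I G (by rw [hI]; simp)]
    exact le_top
  refine ⟨?_, ?_, ?_, ?_⟩
  · intro h
    by_cases hI : I • (⊤ : Submodule A A) = ⊤
    · exact htop hI 1
    · obtain ⟨r, hr, hreg⟩ := Groth.Agent.H34.exists_regular_of_one_le_idealDepth I A hI h
      rw [Groth.Agent.H15.idealDepth_congr e I]
      exact Groth.Agent.H34.one_le_idealDepth_of_regular I _ r hr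
        (Groth.Agent.H34.isSMulRegular_linearMap _ _ r hreg)
  · intro h
    by_cases hI : I • (⊤ : Submodule A A) = ⊤
    · exact htop hI 2
    · obtain ⟨r₁, hr₁, r₂, hr₂, hreg₁, hreg₂⟩ :=
        Groth.Agent.H34.exists_regular_of_two_le_idealDepth I A hI h
      rw [Groth.Agent.H15.idealDepth_congr e I]
      exact Groth.Agent.H34.two_le_idealDepth_of_regular I _ r₁ r₂ hr₁ hr₂
        (Groth.Agent.H34.isSMulRegular_linearMap _ _ r₁ hreg₁)
        (Groth.Agent.H34.isSMulRegular_quotSMulTop_linearMap _ _ r₁ r₂ hreg₁ hreg₂)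
  · intro h
    exact Groth.Agent.H34.hasSk_congr e.symm 1 (Groth.Agent.H34.hasSk_hom _ _ 1 (by norm_num) h)
  · intro h
    exact Groth.Agent.H34.hasSk_congr e.symm 2 (Groth.Agent.H34.hasSk_hom _ _ 2 le_rfl h)

end Groth.Agent.S18702
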