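import Mathlib
import Groth.Statements.S18704
import Groth.Agent.H72.ReflexiveDepth
import Groth.Agent.H72.DepthCM
import Groth.Agent.S18699
import Groth.Agent.S18702
import Groth.Agent.S18724
-- import your own Groth.Agent.* helpers here

set_option autoImplicit false
universe u
open QGor

namespace Groth.Agent.S18704

/-- Affine form. Let A be a Noetherian ring with Serre's condition (S_2), I an ideal with ht I ≥ 2
(every prime containing I has height ≥ 2), and G a finite A-module with G_p reflexive for every
prime p not containing I. Then the following are equivalent: (i) G has (S_2) and dim Supp(G_p) ≥ 2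
for every prime p ⊇ I in Supp G; (ii) depth_I G ≥ 2; (iii) G is reflexive. -/
theorem result (A : Type u) [CommRing A] [IsNoetherianRing A]
    (hA : LocCoh.HasSk 2 A A) (I : Ideal A) (hI : 2 ≤ I.height)
    (G : Type u) [AddCommGroup G] [Module A G] [Module.Finite A G]
    (hU : ∀ p : PrimeSpectrum A, ¬ I ≤ p.asIdeal →
      Module.IsReflexive (Localization.AtPrime p.asIdeal) (LocalizedModule p.asIdeal.primeCompl G)) :
    ((LocCoh.HasSk 2 A G ∧ ∀ p : PrimeSpectrum A, I ≤ p.asIdeal → p ∈ Module.support A G →
        (2 : WithBot ℕ∞) ≤ Module.supportDim (Localization.AtPrime p.asIdeal) (LocalizedModule p.asIdeal.primeCompl G)) ↔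
      2 ≤ LocCoh.idealDepth I G) ∧
    (2 ≤ LocCoh.idealDepth I G ↔ Module.IsReflexive A G) := by
  have hdA : 2 ≤ LocCoh.idealDepth I A := by
    have := Groth.Agent.S18699.result 2 A A I hA (by
      intro p hp _
      rw [Module.supportDim_eq_of_equiv (Groth.Agent.H72.DepthCM.locSelfEquiv p.asIdeal),
        Module.supportDim_self_eq_ringKrullDim,
        IsLocalization.AtPrime.ringKrullDim_eq_height p.asIdeal (Localization.AtPrime p.asIdeal)]
      have h2 : (2 : ℕ∞) ≤ p.asIdeal.height := hI.trans (Ideal.height_mono hp)
      exact WithBot.coe_le_coe.mpr h2)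
    simpa using this
  have hb1 : 2 ≤ LocCoh.idealDepth I G → Module.IsReflexive A G := fun h =>
    Groth.Agent.H72.ReflexiveDepth.isReflexive_of_idealDepth I (le_trans (by norm_num) hdA) G hU h
  refine ⟨⟨?_, ?_⟩, ⟨hb1, ?_⟩⟩
  · intro h
    have := Groth.Agent.S18699.result 2 A G I h.1 (by
      intro p hp hs
      have := h.2 p hp hs
      exact_mod_cast this)
    simpa using this
  · intro h
    have := hb1 h
    refine ⟨(Groth.Agent.S18702.result A I G).2.2.2 hA, ?_⟩
    intro p hp hs
    have h1 := Groth.Agent.S18724.result A G I p hp hs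
    refine le_trans ?_ h1
    exact WithBot.coe_le_coe.mpr h
  · intro h
    have := h
    exact (Groth.Agent.S18702.result A I G).2.1 hdA

end Groth.Agent.S18704
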