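import Groth.Statements.S18706
import Groth.Agent.H70.FlatAss.FibreReg
-- import your own Groth.Agent.* helpers here

set_option autoImplicit false
universe u
open QGor

namespace Groth.Agent.S18706

/-- Affine-local form. Let A → B be a local homomorphism of Noetherian local rings, m the maximal ideal
of A, J an ideal of B and M a finite B-module with M_q flat over A for every prime q not containing
J. If depth_J (M/mM) ≥ 2 (the restriction map of the closed fibre of M to the complement of V(J) is
bijective), then depth_J (M/m^(n+1)M) ≥ 2 for every n ≥ 0 (the same holds for every infinitesimal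
neighbourhood of the closed fibre). -/
theorem result (A B : Type u) [CommRing A] [CommRing B]
    [IsNoetherianRing A] [IsNoetherianRing B] [IsLocalRing A] [IsLocalRing B] [Algebra A B]
    [IsLocalHom (algebraMap A B)] (J : Ideal B)
    (M : Type u) [AddCommGroup M] [Module B M] [Module A M] [IsScalarTower A B M] [Module.Finite B M]
    (hU : ∀ q : PrimeSpectrum B, ¬ J ≤ q.asIdeal → FlatCA.FlatAt A q.asIdeal M)
    (h2 : 2 ≤ LocCoh.idealDepth J (EGA4.FibMod A B M)) (n : ℕ) :
    2 ≤ LocCoh.idealDepth J (M ⧸ ((EGA4.mB A B) ^ (n + 1) • (⊤ : Submodule B M))) := by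
  obtain ⟨x, hxJ, y, hyJ, hx, hy⟩ : ∃ x ∈ J, ∃ y ∈ J, IsSMulRegular (EGA4.FibMod A B M) x ∧
      IsSMulRegular (QuotSMulTop x (EGA4.FibMod A B M)) y := by
    by_cases hJtop : J = ⊤
    · exact ⟨1, hJtop ▸ Submodule.mem_top, 1, hJtop ▸ Submodule.mem_top,
        fun a b h => by simpa using h, fun a b h => by simpa using h⟩
    by_cases hne : J • (⊤ : Submodule B (EGA4.FibMod A B M)) = ⊤
    · have hJ : J ≤ Ideal.jacobson ⊥ := by
        rw [IsLocalRing.jacobson_eq_maximalIdeal ⊥ bot_ne_top]
        exact IsLocalRing.le_maximalIdeal hJtop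
      have hbot := Submodule.eq_bot_of_le_smul_of_le_jacobson_bot J
        (⊤ : Submodule B (EGA4.FibMod A B M)) Module.Finite.fg_top hne.ge hJ
      have hsub : Subsingleton (EGA4.FibMod A B M) :=
        (Submodule.subsingleton_iff B).mp (subsingleton_of_bot_eq_top hbot.symm)
      exact ⟨0, J.zero_mem, 0, J.zero_mem, fun a b _ => Subsingleton.elim a b,
        fun a b _ => Subsingleton.elim a b⟩
    · obtain ⟨r₁, h₁, r₂, h₂, hr₁, hr₂⟩ :=
        Groth.Agent.H70.FC.D.exists_regular_of_two_le_idealDepth J _ hne h2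
      exact ⟨r₁, h₁, r₂, h₂, hr₁, hr₂⟩
  have hflat : Module.Flat A M :=
    Groth.Agent.H70.FlatAss.flat_of_flatAt_off_of_isSMulRegular M J (fun q hq => hU q hq) x hxJ hx
  exact Groth.Agent.H70.FlatAss.two_le_idealDepth_quot_pow M J x y hxJ hyJ hx hy (n + 1)

end Groth.Agent.S18706
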