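import Groth.Statements.S1871
import Groth.Agent.H79.DiagGeom
import Groth.Agent.H79.IntMultGeom
import Groth.Agent.H53.SmoothFieldRegular

set_option autoImplicit false
universe u
open CategoryTheory AlgebraicGeometry
attribute [local instance] HasDerivedCategory.standard
open IntMult

namespace Groth.Agent.S1871

/-- Positivity of intersection multiplicities. Let X be a nonsingular variety of dimension n over an
algebraically closed field K (X integral, smooth, separated and quasi-compact over K), and V, W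
integral closed subschemes of X, given by quasi-coherent ideal sheaves, of dimensions r and s, which
intersect properly (if V ∩ W is nonempty then n ≤ r + s and dim(V ∩ W) ≤ r + s − n). Let ξ be the
generic point of an irreducible component Z of V ∩ W, i.e. a point of V ∩ W such that every point of
V ∩ W specializing to ξ equals ξ. Then the intersection multiplicity e(X, V·W, Z) = ∑_i (−1)^i
length_{O_{X,ξ}} Tor_i^{O_{X,ξ}}(O_{X,ξ}/I_{W,ξ}, O_{X,ξ}/I_{V,ξ}) is positive. -/
theorem result (K : Type u) [Field K] [IsAlgClosed K] (X : Scheme.{u}) (f : X ⟶ Spec (CommRingCat.of K)) [Smooth f] [IsSeparated f] [QuasiCompact f] [IsIntegral X] (IV IW : X.IdealSheafData) [IsIntegral IV.subscheme] [IsIntegral IW.subscheme] (n r s : ℕ) (hn : topologicalKrullDim X = n) (hr : topologicalKrullDim IV.support = r) (hs : topologicalKrullDim IW.support = s) (hprop : IntMult.ProperInt (IV.support : Set X) (IW.support : Set X) n r s) (ξ : X) (hξV : ξ ∈ IV.support) (hξW : ξ ∈ IW.support) (hmax : ∀ ξ' :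 X, ξ' ∈ IV.support → ξ' ∈ IW.support → ξ' ⤳ ξ → ξ' = ξ) : 0 < IntMult.mult IV IW ξ := by
  let _ : X.Over (Spec (CommRingCat.of K)) := ⟨f⟩
  have hlft : LocallyOfFiniteType (X ↘ Spec (CommRingCat.of K)) :=
    inferInstanceAs (LocallyOfFiniteType f)
  obtain ⟨hmx, -, -, hdim⟩ := Groth.Agent.H79.IntMultGeom.master K IV IW n r s hn hr hs
    hprop ξ hξV hξW hmax
  have hregO : IsRegularLocalRing (X.presheaf.stalk ξ) :=
    Groth.Agent.H53.isRegularLocalRing_stalk_of_smooth_field K f ξ
  obtain ⟨_, ⟨U, hU, rfl⟩, hξU, -⟩ :=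
    X.isBasis_affineOpens.exists_subset_of_mem_open (Set.mem_univ ξ) isOpen_univ
  have hU' : IsAffineOpen U := hU
  have hle : U ≤ f ⁻¹ᵁ ⊤ := le_top
  let ψ : Γ(Spec (CommRingCat.of K), ⊤) →+* Γ(X, U) := (f.appLE ⊤ U hle).hom
  have hψ : ψ.Smooth :=
    HasRingHomProperty.appLE (P := @Smooth) f inferInstance ⟨⊤, isAffineOpen_top _⟩ ⟨U, hU'⟩ hle
  let e : Γ(Spec (CommRingCat.of K), ⊤) ≃+* K :=
    (Scheme.ΓSpecIso (CommRingCat.of K)).commRingCatIsoToRingEquiv
  have hι : (e.symm : K →+* Γ(Spec (CommRingCat.of K), ⊤)).Smooth :=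
    RingHom.Smooth.of_bijective e.symm.bijective
  let ψ' : K →+* Γ(X, U) := ψ.comp (e.symm : K →+* Γ(Spec (CommRingCat.of K), ⊤))
  have hψ' : ψ'.Smooth := hι.comp hψ
  let _ : Algebra K Γ(X, U) := ψ'.toAlgebra
  have hsm : Algebra.Smooth K Γ(X, U) := hψ'
  let y : ↥U := ⟨ξ, hξU⟩
  let _ : Algebra Γ(X, U) (X.presheaf.stalk (y : X)) :=
    TopCat.Presheaf.algebra_section_stalk X.presheaf y
  have hloc := hU'.isLocalization_stalk y
  unfold IntMult.mult
  exact Groth.Agent.H79.DiagGeom.chi_pos_of_smooth K Γ(X, U) (hU'.primeIdealOf y).asIdeal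
    (X.presheaf.stalk ξ) (IntMult.stalkIdeal IV ξ) (IntMult.stalkIdeal IW ξ) hmx hdim

end Groth.Agent.S1871
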