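import Groth.Statements.S18720
import Groth.Agent.H2.DualCx.PLocalOrdinary

set_option autoImplicit false
universe u
open CategoryTheory
attribute [local instance] HasDerivedCategory.standard
open QGor

namespace Groth.Agent.S18720

/-- Affine-local form. Let A be a Noetherian local ring of Krull dimension n with a dualizing complex ω,
L = H⁰(ω), and J an ideal with ht J ≥ 1 such that ω restricted off V(J) is L placed in degree 0,
i.e. H^i(ω)_p = 0 for every i ≠ 0 and every prime p not containing J. Then ω is ordinary (its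
codimension function is p ↦ ht p), which for the local ring means: A is equidimensional and ω[n] is
normalized; and L satisfies (S₂). If moreover ht J ≥ 2, then depth_J L ≥ 2 (L is the module of
sections of its restriction off V(J)). -/
theorem result (A : Type u) [CommRing A] [IsNoetherianRing A]
    [IsLocalRing A] (ω : Dual.D A) (hω : Dual.IsDualizing A ω) (n : ℕ) (hd : ringKrullDim A = n)
    (J : Ideal A) (hJ : 1 ≤ J.height)
    (hoff : ∀ p : PrimeSpectrum A, ¬ J ≤ p.asIdeal → ∀ i : ℤ, i ≠ 0 → p ∉ Module.support A (Dual.HD A ω i)) :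
    (EGA4.IsEquidim A ∧ Dual.IsNormalized A (ω⟦(n : ℤ)⟧) ∧ LocCoh.HasSk 2 A (Dual.HD A ω 0)) ∧
    (2 ≤ J.height → 2 ≤ LocCoh.idealDepth J (Dual.HD A ω 0)) := by
  have H0 : ∀ Q : PrimeSpectrum A, Q.asIdeal ∈ minimalPrimes A →
      Groth.Agent.H2.DualCx.topDeg hω Q = 0 := by
    intro Q hQ
    have hnJ : ¬ J ≤ Q.asIdeal := by
      intro hle
      have h1 : J.height ≤ Q.asIdeal.height := Ideal.height_mono hle
      have h2 : Order.height Q = 0 := by
        rw [Order.height_eq_zero]
        intro q hq
        exact hQ.2 ⟨q.2, bot_le⟩ hq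
      rw [PrimeSpectrum.height_eq_orderHeight, h2] at h1
      have h3 := hJ.trans h1
      simp at h3
    by_contra hne
    have h1 := (Groth.Agent.H2.DualCx.mem_support_HD_iff_of_minimal hω Q hQ
      (Groth.Agent.H2.DualCx.topDeg hω Q)
      (fun M _ _ _ k hk => Groth.Agent.H2.DualCx.topDeg_max hω Q M k hk)
      (Groth.Agent.H2.DualCx.topDeg_mem hω Q) (Groth.Agent.H2.DualCx.topDeg hω Q)).mpr rfl
    exact hoff Q hnJ _ hne h1
  refine ⟨⟨Groth.Agent.H2.DualCx.isEquidim_of_ordinary hω H0 n hd,
    Groth.Agent.H2.DualCx.isNormalized_shift_of_ordinary hω H0 n hd,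
    Groth.Agent.H2.DualCx.hasSk_two_HD_zero hω H0⟩, fun hJ2 => ?_⟩
  exact Groth.Agent.H2.DualCx.two_le_idealDepth_HD_zero hω H0 J hJ2

end Groth.Agent.S18720
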