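import Groth.Statements.S18721
import Groth.Agent.H2.DualCx.PLocalSkGen
import Groth.Agent.H24.Catenary

set_option autoImplicit false
universe u
open CategoryTheory
attribute [local instance] HasDerivedCategory.standard
open QGor

namespace Groth.Agent.S18721

/-- Affine form. Let k be a field and A a finitely generated k-algebra, equidimensional of Krull
dimension n, and let ω be a dualizing complex of A normalized at every maximal ideal m (no nonzero
morphisms A/m → ω[i] in D(A) for i ≠ 0 — the canonical dualizing complex of Spec A over k). Put Z_i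
= Supp H^{-i}(ω). Then H^{-i}(ω) = 0 for every i > n, and for every k′ ≥ 1: A satisfies (S_{k′}) if
and only if dim Z_i ≤ i − k′ for all i ≠ n, where for i < k′ this means H^{-i}(ω) = 0. -/
theorem result (k A : Type u) [Field k] [CommRing A]
    [Algebra k A] (hft : Algebra.FiniteType k A) [IsNoetherianRing A]
    (hEq : EGA4.IsEquidim A) (n : ℕ) (hd : ringKrullDim A = n)
    (ω : Dual.D A) (hω : Dual.IsDualizing A ω)
    (hnorm : ∀ (m : Ideal A) (_ : m.IsMaximal) (i : ℤ), i ≠ 0 → Subsingleton (Dual.inD A (A ⧸ m) ⟶ ω⟦i⟧)) :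
    (∀ i : ℕ, n < i → Subsingleton (Dual.HD A ω (-(i : ℤ)))) ∧
    ∀ k' : ℕ, 1 ≤ k' →
      (LocCoh.HasSk k' A A ↔
        ∀ i : ℕ, i ≠ n →
          (i < k' → Subsingleton (Dual.HD A ω (-(i : ℤ)))) ∧
          (k' ≤ i → Module.supportDim A (Dual.HD A ω (-(i : ℤ))) ≤ ((i - k' : ℕ) : WithBot ℕ∞))) := by
  have hcoh := Groth.Agent.H2.DualCx.exists_coheight_eq_of_normalized hω hnorm
  have hfinH := hω.finite_cohomology
  have hsuppA : ∀ P : PrimeSpectrum A, P ∈ Module.support A A := by
    intro P
    rw [Module.mem_support_iff']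
    refine ⟨1, fun r hr h0 => hr ?_⟩
    rw [smul_eq_mul, mul_one] at h0
    rw [h0]
    exact P.asIdeal.zero_mem
  have hδ : ∀ Q ∈ Module.support A A, (∀ p ∈ Module.support A A, p ≤ Q → p = Q) →
      Order.coheight Q = (n : ℕ∞) := by
    intro Q _ hmin
    have hQmin : Q.asIdeal ∈ minimalPrimes A := by
      refine ⟨⟨Q.2, bot_le⟩, ?_⟩
      rintro q' ⟨hq'prime, -⟩ hq'Q
      have := hmin ⟨q', hq'prime⟩ (hsuppA _) hq'Q
      rw [← this]
    have h1 := hEq Q.asIdeal hQmin
    rw [hd, ← Groth.Agent.H24.coheight_eq_ringKrullDim_quotient Q] at h1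
    have h2 : ((Order.coheight Q : ℕ∞) : WithBot ℕ∞) = (((n : ℕ) : ℕ∞) : WithBot ℕ∞) := h1
    exact WithBot.coe_injective h2
  -- transfer between `T^j(A)` and `H^j(ω)`
  have hsub : ∀ j : ℤ, Subsingleton (Dual.HD A ω j) ↔
      Subsingleton (Groth.Agent.H2.DualCx.T ω j A) :=
    fun j => (Groth.Agent.H2.DualCx.subsingleton_T_self_iff ω j).symm
  have hdim : ∀ j : ℤ, Module.supportDim A (Dual.HD A ω j) =
      Module.supportDim A (Groth.Agent.H2.DualCx.T ω j A) := by
    intro j
    have := hfinH j
    unfold Module.supportDim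
    rw [Groth.Agent.H2.DualCx.support_HD_eq ω j]
  have hTsub : ∀ j : ℤ, (∀ p : PrimeSpectrum A,
      p ∉ Module.support A (Groth.Agent.H2.DualCx.T ω j A)) →
      Subsingleton (Groth.Agent.H2.DualCx.T ω j A) := by
    intro j h
    rw [← Module.support_eq_empty_iff (R := A)]
    exact Set.eq_empty_of_forall_notMem h
  constructor
  · intro i hi
    rw [hsub]
    apply hTsub
    intro p hp
    have := Groth.Agent.H2.DualCx.neg_le_of_mem_support_T_gen hω hcoh A n hδ p _ hp
    omega
  · intro k' hk'
    rw [Groth.Agent.H2.DualCx.hasSk_iff_of_equidim_gen hω hcoh A n hδ k']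
    constructor
    · intro h i hi
      have hne : -(i : ℤ) ≠ -(n : ℤ) := by omega
      obtain ⟨h1, h2⟩ := h (-(i : ℤ)) hne
      rw [hsub, hdim]
      constructor
      · intro hik
        exact h1 (by omega)
      · intro hik
        have h3 := h2 (by omega)
        have e : (-(-(i : ℤ)) - (k' : ℤ)).toNat = i - k' := by omega
        rw [e] at h3
        exact h3
    · intro h j hj
      by_cases hj0 : 0 < j
      · have hs : Subsingleton (Groth.Agent.H2.DualCx.T ω j A) := by
          apply hTsub
          intro p hp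
          have := Groth.Agent.H2.DualCx.le_zero_of_mem_support_T_gen hω hcoh A p j hp
          omega
        refine ⟨fun _ => hs, fun _ => ?_⟩
        rw [Module.supportDim_eq_bot_of_subsingleton]
        exact bot_le
      · push Not at hj0
        obtain ⟨i, hi⟩ : ∃ i : ℕ, j = -(i : ℤ) := ⟨(-j).toNat, by omega⟩
        subst hi
        have hne : i ≠ n := by
          intro h'
          apply hj
          rw [h']
        obtain ⟨h1, h2⟩ := h i hne
        rw [hsub] at h1
        rw [hdim] at h2
        constructor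
        · intro hik
          exact h1 (by omega)
        · intro hik
          have h3 := h2 (by omega)
          have e : (-(-(i : ℤ)) - (k' : ℤ)).toNat = i - k' := by omega
          rw [e]
          exact h3

end Groth.Agent.S18721
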