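import Groth.Statements.S18723
import Groth.Agent.H2.DualCx.PLocalOrdinary
import Groth.Agent.H2.DualCx.SkSelfDepth
import Groth.Agent.S18703

set_option autoImplicit false
set_option linter.style.haveILetI false
universe u
open CategoryTheory
attribute [local instance] HasDerivedCategory.standard
open QGor

namespace Groth.Agent.S18723

/-- Affine-local form, with (2) for tensor powers m ≥ 0. Let A be a Noetherian local ring of Krull
dimension n with a dualizing complex ω, L = H⁰(ω), and J an ideal with ht J ≥ 2 (the closed set V(J)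
has codimension ≥ 2) such that off V(J) the complex ω is the invertible module L in degree 0: for
every prime p not containing J, H^i(ω)_p = 0 for i ≠ 0 and L_p is free of rank 1. (1) If A satisfies
(S₁), then ω is ordinary (A is equidimensional and ω[n] is normalized) and L is reflexive and
satisfies (S₂). (2) If A satisfies (S₂), then for every m ≥ 0 the double dual L^[m] of the m-th
tensor power of L satisfies (S₂) and depth_J L^[m] ≥ 2 (it is the module of sections of L^⊗m off
V(J)). -/
theorem result (A : Type u) [CommRing A] [IsNoetherianRing A]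
    [IsLocalRing A] (ω : Dual.D A) (hω : Dual.IsDualizing A ω) (n : ℕ) (hd : ringKrullDim A = n)
    (J : Ideal A) (hJ : 2 ≤ J.height)
    (hoff : ∀ p : PrimeSpectrum A, ¬ J ≤ p.asIdeal →
      (∀ i : ℤ, i ≠ 0 → p ∉ Module.support A (Dual.HD A ω i)) ∧
      Module.Free (Localization.AtPrime p.asIdeal) (LocalizedModule p.asIdeal.primeCompl (Dual.HD A ω 0)) ∧
      Module.finrank (Localization.AtPrime p.asIdeal) (LocalizedModule p.asIdeal.primeCompl (Dual.HD A ω 0)) = 1) :
    (LocCoh.HasSk 1 A A →
      (EGA4.IsEquidim A ∧ Dual.IsNormalized A (ω⟦(n : ℤ)⟧)) ∧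
      Module.IsReflexive A (Dual.HD A ω 0) ∧ LocCoh.HasSk 2 A (Dual.HD A ω 0)) ∧
    (LocCoh.HasSk 2 A A → ∀ m : ℕ,
      LocCoh.HasSk 2 A (Module.Dual A (Module.Dual A (TensorPower A m (Dual.HD A ω 0)))) ∧
      2 ≤ LocCoh.idealDepth J (Module.Dual A (Module.Dual A (TensorPower A m (Dual.HD A ω 0))))) := by
  have hJ1 : 1 ≤ J.height := le_trans (by norm_num) hJ
  haveI hfinL : Module.Finite A (Dual.HD A ω 0) := hω.finite_cohomology 0
  have H0 : ∀ Q : PrimeSpectrum A, Q.asIdeal ∈ minimalPrimes A →
      Groth.Agent.H2.DualCx.topDeg hω Q = 0 := by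
    intro Q hQ
    have hnJ : ¬ J ≤ Q.asIdeal := by
      intro hle
      have h1 : J.height ≤ Q.asIdeal.height := Ideal.height_mono hle
      have h2 : Order.height Q = 0 := by
        rw [Order.height_eq_zero]
        intro q hq
        exact hQ.2 ⟨q.2, bot_le⟩ hq
      rw [PrimeSpectrum.height_eq_orderHeight, h2] at h1
      have h3 := hJ1.trans h1
      simp at h3
    by_contra hne
    have h1 := (Groth.Agent.H2.DualCx.mem_support_HD_iff_of_minimal hω Q hQ
      (Groth.Agent.H2.DualCx.topDeg hω Q)
      (fun M _ _ _ k hk => Groth.Agent.H2.DualCx.topDeg_max hω Q M k hk)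
      (Groth.Agent.H2.DualCx.topDeg_mem hω Q) (Groth.Agent.H2.DualCx.topDeg hω Q)).mpr rfl
    exact (hoff Q hnJ).1 _ hne h1
  refine ⟨fun hS1 => ⟨⟨Groth.Agent.H2.DualCx.isEquidim_of_ordinary hω H0 n hd,
    Groth.Agent.H2.DualCx.isNormalized_shift_of_ordinary hω H0 n hd⟩, ?_,
    Groth.Agent.H2.DualCx.hasSk_two_HD_zero hω H0⟩, fun hS2 m => ⟨?_, ?_⟩⟩
  · have hA : 1 ≤ LocCoh.idealDepth J A := by
      have := Groth.Agent.H2.SkSelf.le_idealDepth_self_of_hasSk 1 J (by simpa using hJ1) hS1
      simpa using this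
    refine Groth.Agent.S18703.result A J hA (Dual.HD A ω 0) (fun p hp => ?_)
      (Groth.Agent.H2.DualCx.two_le_idealDepth_HD_zero hω H0 J hJ)
    obtain ⟨-, hfree, -⟩ := hoff p hp
    haveI := hfree
    haveI : Module.Finite (Localization.AtPrime p.asIdeal)
        (LocalizedModule p.asIdeal.primeCompl (Dual.HD A ω 0)) :=
      Module.Finite.of_isLocalizedModule p.asIdeal.primeCompl
        (LocalizedModule.mkLinearMap p.asIdeal.primeCompl (Dual.HD A ω 0))
    exact Module.IsReflexive.of_finite_of_free _ _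
  · exact Groth.Agent.H34.hasSk_hom _ A 2 le_rfl hS2
  · have hA : 2 ≤ LocCoh.idealDepth J A := by
      have := Groth.Agent.H2.SkSelf.le_idealDepth_self_of_hasSk 2 J (by simpa using hJ) hS2
      simpa using this
    exact Groth.Agent.H2.SkSelf.two_le_idealDepth_linearMap J _ A hA

end Groth.Agent.S18723
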