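import Groth.Statements.S18742
import Groth.Agent.H20.LimFT

set_option autoImplicit false
universe u
open CategoryTheory CategoryTheory.Limits AlgebraicGeometry TopologicalSpace
open ModPair

namespace Groth.Agent.S18742

/-- Let S be a quasi-compact quasi-separated scheme, (X_i) a cofiltered system of S-schemes with affine,
scheme-theoretically dominant transition morphisms and all X_i quasi-compact and quasi-separated, X
its limit in the category of S-schemes, and Y ⟶ S locally of finite type with Y quasi-compact and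
quasi-separated. Then the canonical map from the colimit of the sets Hom_S(X_i, Y) to Hom_S(X, Y) is
bijective: every S-morphism X ⟶ Y factors through the projection to some X_i, and two S-morphisms
X_i ⟶ Y with the same composite X ⟶ Y become equal after composition with some transition morphism
X_j ⟶ X_i. No finite-presentation hypothesis on Y is assumed. -/
theorem result {S : Scheme.{u}} [CompactSpace S]
    [QuasiSeparatedSpace S] {I : Type u} [SmallCategory I] [IsCofiltered I] (D : I ⥤ Over S)
    (c : Cone D) (hc : IsLimit c)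
    [∀ (i j : I) (t : i ⟶ j), IsAffineHom (D.map t).left]
    [∀ (i j : I) (t : i ⟶ j), IsSchemeTheoreticallyDominant (D.map t).left]
    [∀ i, CompactSpace (D.obj i).left] [∀ i, QuasiSeparatedSpace (D.obj i).left]
    (Y : Over S) [CompactSpace Y.left] [QuasiSeparatedSpace Y.left] [LocallyOfFiniteType Y.hom] :
    (∀ φ : c.pt ⟶ Y, ∃ (i : I) (φi : D.obj i ⟶ Y), c.π.app i ≫ φi = φ) ∧
      ∀ (i : I) (φ ψ : D.obj i ⟶ Y), c.π.app i ≫ φ = c.π.app i ≫ ψ →
        ∃ (j : I) (t : j ⟶ i), D.map t ≫ φ = D.map t ≫ ψ := by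
  have h1 (i : I) : CompactSpace ((D ⋙ Over.forget S).obj i) :=
    ‹∀ i, CompactSpace (D.obj i).left› i
  have h2 (i : I) : QuasiSeparatedSpace ((D ⋙ Over.forget S).obj i) :=
    ‹∀ i, QuasiSeparatedSpace (D.obj i).left› i
  have h3 {i j : I} (f : i ⟶ j) : IsAffineHom ((D ⋙ Over.forget S).map f) :=
    ‹∀ (i j : I) (t : i ⟶ j), IsAffineHom (D.map t).left› i j f
  have h4 {i j : I} (f : i ⟶ j) : IsSchemeTheoreticallyDominant ((D ⋙ Over.forget S).map f) :=
    ‹∀ (i j : I) (t : i ⟶ j), IsSchemeTheoreticallyDominant (D.map t).left› i j f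
  have hc' : IsLimit ((Over.forget S).mapCone c) := isLimitOfPreserves _ hc
  have h5 (i : I) : IsSchemeTheoreticallyDominant (((Over.forget S).mapCone c).π.app i) :=
    Groth.Agent.H20.LimFT.isSchemeTheoreticallyDominant_π_app (D ⋙ Over.forget S) _ hc' i
  refine ⟨fun φ ↦ ?_, fun i φ ψ h ↦ ?_⟩
  · obtain ⟨k, u, h, h'⟩ := Groth.Agent.H20.LimFT.exists_π_app_comp_eq
      (D ⋙ Over.forget _) (.mk (fun _ ↦ (D.obj _).hom)) Y.hom _ hc' φ.left (by
        ext i
        have e1 : (c.π.app i).left ≫ (D.obj i).hom = c.pt.hom := Over.w (c.π.app i)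
        have e2 : φ.left ≫ Y.hom = c.pt.hom := Over.w φ
        change (c.π.app i).left ≫ (D.obj i).hom = φ.left ≫ Y.hom
        rw [e1, e2])
    refine ⟨k, Over.homMk u h', ?_⟩
    ext
    exact h
  · obtain ⟨k, hik, heq⟩ := Scheme.exists_hom_comp_eq_comp_of_locallyOfFiniteType
      (D ⋙ Over.forget _) (.mk (fun _ ↦ (D.obj _).hom)) Y.hom _ hc'
      φ.left ψ.left (Over.w φ).symm (Over.w ψ).symm congr($(h).left)
    refine ⟨k, hik, ?_⟩
    ext
    exact heq

end Groth.Agent.S18742
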