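import Groth.Statements.S1875
import Groth.Agent.H36.PPowLoc

set_option autoImplicit false
universe u
open TensorProduct
open RelCyc

namespace Groth.Agent.S1875

/-- Let k be a field of exponential characteristic p, K/k any field extension and L/k a finitely
generated field extension (the function field of an integral scheme locally of finite type over k).
For every minimal prime 𝔮 of K ⊗_k L the length of the Artinian local ring (K ⊗_k L)_𝔮 — the
multiplicity of the corresponding irreducible component of the base change — is a power of p (so 1
in characteristic zero). -/
theorem result (k K L : Type u) [Field k] [Field K] [Field L] [Algebra k K] [Algebra k L] (hL : (⊤ : IntermediateField k L).FG) (p : ℕ) [ExpChar k p] (q : Ideal (K ⊗[k] L)) [q.IsPrime] (hq : q ∈ minimalPrimes (K ⊗[k] L)) : ∃ n : ℕ, Module.length (Localization.AtPrime q) (Localization.AtPrime q) = (p ^ n : ℕ) := by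
  have h1 : Groth.Agent.H36.PPL.PPowLoc p (L ⊗[k] K) :=
    Groth.Agent.H36.PPL.FL.of_fg p k L hL K
  exact Groth.Agent.H36.PPL.PPowLoc.of_ringEquiv
    (Algebra.TensorProduct.comm k L K).toRingEquiv h1 q hq

end Groth.Agent.S1875
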