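import Groth.Statements.S18754
import Groth.Agent.H20.AdmBlowupLimit
import Groth.Agent.S18742

set_option autoImplicit false
universe u
open CategoryTheory CategoryTheory.Limits AlgebraicGeometry TopologicalSpace
open ModPair

namespace Groth.Agent.S18754

/-- Let (Y, I_Y) be a modulus pair with Y quasi-compact and quasi-separated, and let (X_i ⟶ Y) be a
cofiltered system of Y-schemes with affine transition morphisms such that every X_i is quasi-compact
and quasi-separated, the pulled-back ideal I_Y.comap (X_i ⟶ Y) is the ideal of an effective Cartier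
divisor, and X_i ⟶ Y is an abstract admissible blow-up of modulus pairs which is locally of finite
presentation. Let X be the limit of the system over Y and suppose that X ⟶ Y, with the pulled-back
modulus (assumed effective Cartier), is also an abstract admissible blow-up. Then X ⟶ Y is locally
of finite presentation: an abstract admissible blow-up of quasi-compact quasi-separated modulus
pairs which is not of finite presentation is never a limit of finitely presented ones. -/
theorem result {Y : Scheme.{u}}
    [CompactSpace Y] [QuasiSeparatedSpace Y] (IY : Y.IdealSheafData) (hY : BlowUp.IsEffCartierIdeal IY)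
    {I : Type u} [SmallCategory I] [IsCofiltered I] (D : I ⥤ Over Y) (c : Cone D) (hc : IsLimit c)
    [∀ (i j : I) (t : i ⟶ j), IsAffineHom (D.map t).left]
    [∀ i, CompactSpace (D.obj i).left] [∀ i, QuasiSeparatedSpace (D.obj i).left]
    (hI : ∀ i, BlowUp.IsEffCartierIdeal (IY.comap (D.obj i).hom))
    (hadm : ∀ i, ModPair.IsAdmBlowup (IY.comap (D.obj i).hom) IY (D.obj i).hom)
    [∀ i, LocallyOfFinitePresentation (D.obj i).hom]
    (hX : BlowUp.IsEffCartierIdeal (IY.comap c.pt.hom))
    (hXadm : ModPair.IsAdmBlowup (IY.comap c.pt.hom) IY c.pt.hom) :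
    LocallyOfFinitePresentation c.pt.hom := by
  have hstd : ∀ (i j : I) (t : i ⟶ j), IsSchemeTheoreticallyDominant (D.map t).left :=
    fun i j t => Groth.Agent.H20.AdmBlowupLimit.isSchemeTheoreticallyDominant_of_isIso_restrict IY
      (D.obj i).hom (D.obj j).hom (D.map t).left (Over.w (D.map t)) (hadm i).2.2 (hadm j).2.2 (hI j)
  have hprop : IsProper c.pt.hom := hXadm.2.1
  have hcpt : CompactSpace c.pt.left := QuasiCompact.compactSpace_of_compactSpace c.pt.hom
  have hqs : QuasiSeparatedSpace c.pt.left := quasiSeparatedSpace_of_quasiSeparated c.pt.hom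
  obtain ⟨i, r, hr⟩ := (Groth.Agent.S18742.result D c hc c.pt).1 (𝟙 c.pt)
  have hpropi : IsProper (D.obj i).hom := (hadm i).2.1
  have hsep : IsSeparated r.left := by
    have : IsSeparated (r.left ≫ c.pt.hom) := by
      rw [Over.w r]
      infer_instance
    exact IsSeparated.of_comp r.left c.pt.hom
  have hcl : IsClosedImmersion (c.π.app i).left := by
    have : IsClosedImmersion ((c.π.app i).left ≫ r.left) := by
      rw [← Over.comp_left, hr]
      exact inferInstanceAs (IsClosedImmersion (𝟙 c.pt.left))
    exact IsClosedImmersion.of_comp (c.π.app i).left r.left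
  have h3 {i j : I} (f : i ⟶ j) : IsAffineHom ((D ⋙ Over.forget Y).map f) :=
    ‹∀ (i j : I) (t : i ⟶ j), IsAffineHom (D.map t).left› i j f
  have h4 {i j : I} (f : i ⟶ j) : IsSchemeTheoreticallyDominant ((D ⋙ Over.forget Y).map f) :=
    hstd i j f
  have hc' : IsLimit ((Over.forget Y).mapCone c) := isLimitOfPreserves _ hc
  have hdom : IsSchemeTheoreticallyDominant (c.π.app i).left :=
    Groth.Agent.H20.LimFT.isSchemeTheoreticallyDominant_π_app (D ⋙ Over.forget Y) _ hc' i
  have hiso : IsIso (c.π.app i).left :=
    IsClosedImmersion.isIso_iff_ker_eq_bot.mpr hdom.ker_eq_bot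
  have hw : (c.π.app i).left ≫ (D.obj i).hom = c.pt.hom := Over.w (c.π.app i)
  rw [← hw]
  infer_instance

end Groth.Agent.S18754
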