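import Groth.Statements.S18758
import Groth.Agent.S18738
import Groth.Agent.H84.OverLoc
import Groth.Agent.H93.SubLoc

set_option autoImplicit false
universe w v u
open CategoryTheory CategoryTheory.Limits AlgebraicGeometry TopologicalSpace
open ModPair

namespace Groth.Agent.S18758

/-- Let S be a modulus pair and PSch_S the full subcategory of the slice category of modulus pairs over
S on the objects whose structure morphism is of finite type (locally of finite type and
quasi-compact); let Σ_ft be the class of morphisms of PSch_S whose underlying morphism of modulus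
pairs is an abstract admissible blow-up, and Q the localization functor of modulus pairs at all
abstract admissible blow-ups. Then the canonical functor from the localization of PSch_S at Σ_ft to
the slice category over Q S is fully faithful, so that it identifies the localization with the full
subcategory MSch_S of objects isomorphic to finite type ones: for every localization functor L' of
PSch_S at Σ_ft and every functor Φ to the slice over Q S through which the inclusion followed by Q
on slices factors up to isomorphism, Φ is full and faithful. -/
theorem result (S : ModPair.Pair.{u})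
    {E : Type v} [Category.{w} E]
    (L' : (ObjectProperty.FullSubcategory
        ((fun X : Over S => LocallyOfFiniteType X.hom.hom ∧ QuasiCompact X.hom.hom) :
          ObjectProperty (Over S))) ⥤ E)
    [L'.IsLocalization ((((ModPair.Pair.admBlowup.{u}).inverseImage (Over.forget S)).inverseImage
      (ObjectProperty.ι ((fun X : Over S => LocallyOfFiniteType X.hom.hom ∧ QuasiCompact X.hom.hom) :
          ObjectProperty (Over S)))))]
    (Φ : E ⥤ Over ((ModPair.Pair.admBlowup.{u}).Q.obj S))
    (e : L' ⋙ Φ ≅ ObjectProperty.ι ((fun X : Over S => LocallyOfFiniteType X.hom.hom ∧ QuasiCompact X.hom.hom) :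
          ObjectProperty (Over S)) ⋙ Over.post (ModPair.Pair.admBlowup.{u}).Q) :
    Φ.Full ∧ Φ.Faithful := by
  haveI hW : (ModPair.Pair.admBlowup.{u}).HasRightCalculusOfFractions := Groth.Agent.S18738.result
  haveI hWS : ((ModPair.Pair.admBlowup.{u}).inverseImage
      (Over.forget S)).HasRightCalculusOfFractions :=
    Groth.Agent.H84.OverLoc.hasRightCalculusOfFractions_over _ S
  -- `Over.post Q` is a localization functor for the slice category
  have hinv : ((ModPair.Pair.admBlowup.{u}).inverseImage (Over.forget S)).IsInvertedBy
      (Over.post (X := S) (ModPair.Pair.admBlowup.{u}).Q) := by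
    intro X Y f hf
    have h1 : IsIso ((ModPair.Pair.admBlowup.{u}).Q.map f.left) :=
      Localization.inverts (ModPair.Pair.admBlowup.{u}).Q (ModPair.Pair.admBlowup.{u}) _ hf
    have h2 : IsIso ((Over.forget _).map
        ((Over.post (X := S) (ModPair.Pair.admBlowup.{u}).Q).map f)) := h1
    exact isIso_of_reflects_iso _ (Over.forget _)
  let Φ'' := Localization.lift (Over.post (X := S) (ModPair.Pair.admBlowup.{u}).Q) hinv
    ((ModPair.Pair.admBlowup.{u}).inverseImage (Over.forget S)).Q
  let e'' : ((ModPair.Pair.admBlowup.{u}).inverseImage (Over.forget S)).Q ⋙ Φ'' ≅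
      Over.post (X := S) (ModPair.Pair.admBlowup.{u}).Q := Localization.fac _ _ _
  haveI : Φ''.IsEquivalence :=
    Groth.Agent.H84.OverLoc.isEquivalence_of_iso (ModPair.Pair.admBlowup.{u}) S
      (ModPair.Pair.admBlowup.{u}).Q
      ((ModPair.Pair.admBlowup.{u}).inverseImage (Over.forget S)).Q Φ'' e''
  haveI : (Over.post (X := S) (ModPair.Pair.admBlowup.{u}).Q).IsLocalization
      ((ModPair.Pair.admBlowup.{u}).inverseImage (Over.forget S)) :=
    Functor.IsLocalization.of_equivalence_target
      ((ModPair.Pair.admBlowup.{u}).inverseImage (Over.forget S)).Q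
      ((ModPair.Pair.admBlowup.{u}).inverseImage (Over.forget S))
      (Over.post (X := S) (ModPair.Pair.admBlowup.{u}).Q) Φ''.asEquivalence e''
  have hP : ∀ ⦃X' X : Over S⦄ (s : X' ⟶ X),
      ((ModPair.Pair.admBlowup.{u}).inverseImage (Over.forget S)) s →
      ((fun X : Over S => LocallyOfFiniteType X.hom.hom ∧ QuasiCompact X.hom.hom) :
          ObjectProperty (Over S)) X →
      ((fun X : Over S => LocallyOfFiniteType X.hom.hom ∧ QuasiCompact X.hom.hom) :
          ObjectProperty (Over S)) X' := by
    intro X' X s hs hX
    obtain ⟨h1, h2⟩ := hX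
    have hprop : IsProper s.left.hom := hs.2.1
    have hw : X'.hom.hom = s.left.hom ≫ X.hom.hom := by
      rw [← Over.w s]; rfl
    refine ⟨?_, ?_⟩
    · show LocallyOfFiniteType X'.hom.hom
      rw [hw]; infer_instance
    · show QuasiCompact X'.hom.hom
      rw [hw]; infer_instance
  exact ⟨Groth.Agent.H93.SubLoc.full _ _ hP (Over.post (X := S) (ModPair.Pair.admBlowup.{u}).Q)
      L' Φ e,
    Groth.Agent.H93.SubLoc.faithful _ _ hP (Over.post (X := S) (ModPair.Pair.admBlowup.{u}).Q)
      L' Φ e⟩

end Groth.Agent.S18758
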