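import Groth.Statements.S18798
import Groth.Agent.H63.ArtFunctor
import Groth.Agent.H63.ArtSmall
import Groth.Agent.H63.ArtPaste
import Groth.Agent.H63.ArtDefFun

set_option autoImplicit false
universe u v
open CategoryTheory
open scoped TensorProduct
open ArtFun

namespace Groth.Agent.S18798

/-- In the case of set-valued deformation functors, let k be a field of characteristic zero and φ : F →
G a morphism of set-valued deformation functors on Artinian local k-algebras with residue field k
(each of F(k), G(k) is a single point and F, G satisfy (RS): bijectivity of the comparison map for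
fibre-product squares A₁ ×_A A₂ with A₂ → A surjective). Let V, W be obstruction theories for F, G
in the vector-space form (obstruction classes in V ⊗ J for surjections with kernel J annihilated by
the maximal ideal, vanishing exactly when the element lifts), and let γ : V → W be an injective
k-linear map compatible with φ on small extensions: the obstruction of φ(x) along a small extension
p equals (γ ⊗ 1) applied to the obstruction of x along p. If the tangent map F(k[ε]) → G(k[ε]) is
surjective, then φ is smooth. (The published statement is for deformation categories cofibred in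
groupoids with obstruction spaces defined on small extensions only; it is rendered here for
set-valued functors with obstruction theories defined on all surjections whose kernel is annihilated
by the maximal ideal, the compatibility being required on small extensions only.) -/
theorem result
    {k : Type u} [Field k] [CharZero k]
    {F G : ArtFun.Art k k ⥤ Type v} (φ : F ⟶ G)
    (hF0 : ArtFun.H0 F) (hFrs : (∀ ⦃B A A' A'' : ArtFun.Art k k⦄ (p' : B ⟶ A') (p'' : B ⟶ A'') (f' : A' ⟶ A) (f'' : A'' ⟶ A)
        (h : ArtFun.Art.IsFibreProd p' p'' f' f''), Function.Surjective f'' → Function.Bijective (ArtFun.cmp F h)))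
    (hG0 : ArtFun.H0 G) (hGrs : (∀ ⦃B A A' A'' : ArtFun.Art k k⦄ (p' : B ⟶ A') (p'' : B ⟶ A'') (f' : A' ⟶ A) (f'' : A'' ⟶ A)
        (h : ArtFun.Art.IsFibreProd p' p'' f' f''), Function.Surjective f'' → Function.Bijective (ArtFun.cmp G h)))
    {V W : Type u} [AddCommGroup V] [Module k V] [AddCommGroup W] [Module k W]
    (oF : ArtFun.ObsTheory F V) (oG : ArtFun.ObsTheory G W)
    (γ : V →ₗ[k] W) (hγ : Function.Injective γ)
    (hcompat : ∀ ⦃C' C : ArtFun.Art k k⦄ (p : C' ⟶ C) (hp : ArtFun.Art.IsSmallExt p) (x : F.obj C),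
      oG.obs p hp.isSemismallExt (φ.app C x) = LinearMap.rTensor _ γ (oF.obs p hp.isSemismallExt x))
    (hT : Function.Surjective (ArtFun.TangentSpace.map φ)) :
    ArtFun.IsSmooth φ := by
  classical
  apply Groth.Agent.H63.isSmooth_of_smallExt φ
  intro B A μ hμ
  rw [Groth.Agent.H63.relCmp_surjective_iff]
  intro x y hxy
  -- the obstruction of `x` vanishes
  have h0 : oG.obs μ hμ.isSemismallExt (φ.app A x) = 0 :=
    (oG.obs_eq_zero_iff μ hμ.isSemismallExt (φ.app A x)).2 ⟨y, hxy.symm⟩
  rw [hcompat μ hμ x] at h0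
  have hinj : Function.Injective (LinearMap.rTensor (↥(RingHom.ker μ.toAlgHom)) γ) :=
    Module.Flat.rTensor_preserves_injective_linearMap γ hγ
  have h1 : oF.obs μ hμ.isSemismallExt x = 0 := hinj (by rw [h0, map_zero])
  obtain ⟨z₀, hz₀⟩ := (oF.obs_eq_zero_iff μ hμ.isSemismallExt x).1 h1
  obtain ⟨C, π₁, π₂, δ, Δ, hC₁, hC₂, hΔ₁, hΔ₂, hΔδ⟩ := Groth.Agent.H63.exists_smallData μ hμ
  have hyz : G.map μ (φ.app B z₀) = G.map μ y := by
    rw [← NatTrans.naturality_apply φ μ z₀, hz₀, hxy]
  obtain ⟨w, hw₁, hw₂⟩ := (Groth.Agent.H63.cmp_surjective_iff G hC₁).1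
    (hGrs _ _ _ _ hC₁ hμ.1).2 (φ.app B z₀) y hyz
  obtain ⟨tF, htF⟩ := hT (G.map δ w)
  have hsub : Subsingleton (F.obj (ArtFun.Art.base k k)) := hF0.2
  obtain ⟨v, hv₁, hv₂⟩ := (Groth.Agent.H63.cmp_surjective_iff F hC₂).1
    (hFrs _ _ _ _ hC₂ (Groth.Agent.H63.toBase_surjective _)).2 z₀ tF (Subsingleton.elim _ _)
  have hφv : φ.app C v = w := by
    apply (Groth.Agent.H63.cmp_injective_iff G hC₂).1
      (hGrs _ _ _ _ hC₂ (Groth.Agent.H63.toBase_surjective _)).1
    · rw [← NatTrans.naturality_apply φ π₁ v, hv₁, hw₁]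
    · rw [← NatTrans.naturality_apply φ δ v, hv₂]
      exact htF
  refine ⟨F.map π₂ v, ?_, ?_⟩
  · rw [← Groth.Agent.H63.map_comp_apply, ← hC₁.w, Groth.Agent.H63.map_comp_apply, hv₁, hz₀]
  · rw [NatTrans.naturality_apply φ π₂ v, hφv, hw₂]

end Groth.Agent.S18798
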