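import Groth.Statements.S18802
import Mathlib.LinearAlgebra.Basis.VectorSpace
import Mathlib.Algebra.Module.Projective

set_option autoImplicit false
universe u v w w' w''
open DefMod

namespace Groth.Agent.S18802

/-- Let K be a field of characteristic zero, D an associative K-algebra and E, F left D-modules. A
K-linear map s : D → Hom_K(E, F) with s(ab)(e) = a s(b)(e) + s(a)(b e) (a derivation into the
bimodule Hom_K(E, F), i.e. a Hochschild 1-cocycle) defines the twisted sum F ⊕_s E = F × E with a ·
(f, e) = (a f + s(a) e, a e), an extension of E by F. Every extension of left D-modules 0 → F → Q →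
E → 0 arises this way: there are such an s and a D-linear isomorphism Q ≅ F ⊕_s E carrying the given
map F → Q to the inclusion f ↦ (f, 0) and compatible with the two projections onto E. (Together with
the splitting criterion this identifies derivations modulo principal derivations with Ext¹_D(E, F);
the compatibility of that identification with addition and scalars is not restated.) -/
theorem result
    {K : Type u} [Field K] [CharZero K]
    {D : Type v} [Ring D] [Algebra K D]
    {E : Type w} [AddCommGroup E] [Module K E] [Module D E] [IsScalarTower K D E]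
    {F : Type w'} [AddCommGroup F] [Module K F] [Module D F] [IsScalarTower K D F]
    {Q : Type w''} [AddCommGroup Q] [Module D Q]
    (i : F →ₗ[D] Q) (p : Q →ₗ[D] E) (hi : Function.Injective i) (hp : Function.Surjective p)
    (hex : Function.Exact i p) :
    ∃ (s : D →ₗ[K] E →ₗ[K] F) (hs : W4c6defoisocp1.IsHomDerivation s) (Φ : Q ≃ₗ[D] W4c6defoisocp1.TwistExt s hs),
      (∀ f : F, Φ (i f) = W4c6defoisocp1.TwistExt.inl f) ∧ ∀ q : Q, W4c6defoisocp1.TwistExt.snd (Φ q) = p q := by
  classical
  letI : Module K Q := Module.compHom Q (algebraMap K D)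
  have hsmulQ : ∀ (c : K) (q : Q), c • q = (algebraMap K D c) • q := fun _ _ => rfl
  haveI : IsScalarTower K D Q := ⟨fun c d q => by
    rw [hsmulQ, Algebra.smul_def, mul_smul]⟩
  haveI : SMulCommClass D K Q := ⟨fun d c q => by
    rw [hsmulQ, hsmulQ, ← mul_smul, ← mul_smul, Algebra.commutes]⟩
  let pK : Q →ₗ[K] E := p.restrictScalars K
  let iK : F →ₗ[K] Q := i.restrictScalars K
  obtain ⟨σ, hσ⟩ := pK.exists_rightInverse_of_surjective (LinearMap.range_eq_top.2 hp)
  obtain ⟨ρ, hρ⟩ := iK.exists_leftInverse_of_injective (LinearMap.ker_eq_bot.2 hi)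
  have hσ' : ∀ e, p (σ e) = e := fun e => LinearMap.congr_fun hσ e
  have hρ' : ∀ f, ρ (i f) = f := fun f => LinearMap.congr_fun hρ f
  let r : Q →ₗ[K] F := ρ ∘ₗ (LinearMap.id - σ ∘ₗ pK)
  have hr : ∀ q, i (r q) = q - σ (p q) := by
    intro q
    have hmem : q - σ (p q) ∈ LinearMap.ker p := by
      rw [LinearMap.mem_ker, map_sub, hσ', sub_self]
    obtain ⟨f, hf⟩ := (hex (q - σ (p q))).1 hmem
    have : r q = f := by
      change ρ (q - σ (p q)) = f
      rw [← hf, hρ']
    rw [this, hf]
  let s : D →ₗ[K] E →ₗ[K] F := LinearMap.mk₂ K (fun a e => r (a • σ e))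
    (fun a b e => by simp only [add_smul, map_add])
    (fun c a e => by simp only [smul_assoc, map_smul])
    (fun a e e' => by simp only [map_add, smul_add])
    (fun c a e => by simp only [map_smul, smul_comm a c])
  have hsapp : ∀ a e, s a e = r (a • σ e) := fun _ _ => rfl
  have his : ∀ a e, i (s a e) = a • σ e - σ (a • e) := by
    intro a e
    rw [hsapp, hr, p.map_smul, hσ']
  have hs : W4c6defoisocp1.IsHomDerivation s := by
    intro a b e
    apply hi
    rw [map_add, i.map_smul, his, his, his, mul_smul, mul_smul, smul_sub]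
    abel
  refine ⟨s, hs, ?_⟩
  let Φ : Q ≃ₗ[D] W4c6defoisocp1.TwistExt s hs :=
    { toFun := fun q => W4c6defoisocp1.TwistExt.mk (r q, p q)
      map_add' := fun q q' => by
        apply W4c6defoisocp1.TwistExt.ext <;> simp
      map_smul' := fun a q => by
        apply W4c6defoisocp1.TwistExt.ext
        · simp only [RingHom.id_apply, W4c6defoisocp1.TwistExt.val_mk,
            W4c6defoisocp1.TwistExt.val_smul]
          apply hi
          rw [hr, map_add, his, i.map_smul, hr, p.map_smul, smul_sub]
          abel
        · simp
      invFun := fun x => i (W4c6defoisocp1.TwistExt.val x).1 + σ (W4c6defoisocp1.TwistExt.val x).2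
      left_inv := fun q => by
        simp only [W4c6defoisocp1.TwistExt.val_mk]
        rw [hr]; abel
      right_inv := fun x => by
        apply W4c6defoisocp1.TwistExt.ext
        · simp only [W4c6defoisocp1.TwistExt.val_mk]
          apply hi
          rw [hr, map_add, hσ']
          have : p (i (W4c6defoisocp1.TwistExt.val x).1) = 0 := (hex _).2 ⟨_, rfl⟩
          rw [this, zero_add]; abel
        · simp only [W4c6defoisocp1.TwistExt.val_mk]
          rw [map_add, hσ']
          have : p (i (W4c6defoisocp1.TwistExt.val x).1) = 0 := (hex _).2 ⟨_, rfl⟩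
          rw [this, zero_add] }
  refine ⟨Φ, ?_, ?_⟩
  · intro f
    apply W4c6defoisocp1.TwistExt.ext
    · change r (i f) = f
      apply hi
      have : p (i f) = 0 := (hex _).2 ⟨_, rfl⟩
      rw [hr, this, map_zero, sub_zero]
    · change p (i f) = 0
      exact (hex _).2 ⟨_, rfl⟩
  · intro q
    rfl

end Groth.Agent.S18802
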