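import Groth.Statements.S18806
import Groth.Agent.H93.CoalgHom

set_option autoImplicit false
universe u v v' w w' x
open TensorProduct
open HopfRep

namespace Groth.Agent.S18806

/-- Let k be a field, i : C → D an injective morphism of k-coalgebras and V a right D-comodule with
coaction ρ : V → V ⊗ D. If ρ(v) lies in the image of V ⊗ C → V ⊗ D (induced by i) for every v, then
V comes from a C-comodule: there is a C-comodule structure on V whose coaction, followed by V ⊗ C →
V ⊗ D, is ρ. (The source states this for left comodules over the coordinate bialgebras of an affine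
monoid scheme over k and of its group of units, assumed open and schematically dense, and uses that
assumption only through the injectivity of the restriction map of coordinate rings; the row is the
right-comodule mirror image for any injective coalgebra map. The converse direction is immediate.) -/
theorem result (k : Type u) [Field k]
    (C : Type v) [AddCommGroup C] [Module k C] [Coalgebra k C]
    (D : Type v') [AddCommGroup D] [Module k D] [Coalgebra k D]
    (i : C →ₗc[k] D) (hi : Function.Injective i)
    (V : Type w) [AddCommGroup V] [Module k V] [HopfRep.Comod k D V]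
    (h : ∀ v : V, HopfRep.Comod.coact (k := k) (A := D) v ∈ LinearMap.range ((i : C →ₗ[k] D).lTensor V)) :
    ∃ c : HopfRep.Comod k C V,
      (i : C →ₗ[k] D).lTensor V ∘ₗ c.coact = HopfRep.Comod.coact (k := k) (A := D) := by
  have hinj : Function.Injective ((i : C →ₗ[k] D).lTensor V) :=
    Module.Flat.lTensor_preserves_injective_linearMap _ hi
  obtain ⟨g, hg⟩ := ((i : C →ₗ[k] D).lTensor V).exists_leftInverse_of_injective
    (LinearMap.ker_eq_bot.2 hinj)
  obtain ⟨cc, hcc⟩ : ∃ cc : V →ₗ[k] V ⊗[k] C,
      (i : C →ₗ[k] D).lTensor V ∘ₗ cc = HopfRep.Comod.coact (k := k) (A := D) := by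
    refine ⟨g ∘ₗ HopfRep.Comod.coact (k := k) (A := D), ?_⟩
    ext v
    obtain ⟨x, hx⟩ := h v
    have hgx : g ((i : C →ₗ[k] D).lTensor V x) = x := LinearMap.congr_fun hg x
    simp only [LinearMap.comp_apply, ← hx, hgx]
  have hcc' : ∀ v, (i : C →ₗ[k] D).lTensor V (cc v) = HopfRep.Comod.coact (k := k) (A := D) v :=
    fun v => LinearMap.congr_fun hcc v
  have hii : Function.Injective (TensorProduct.map (i : C →ₗ[k] D) (i : C →ₗ[k] D)) :=
    TensorProduct.map_injective_of_flat_flat _ _ hi hi
  have hJ : Function.Injective ((TensorProduct.map (i : C →ₗ[k] D) (i : C →ₗ[k] D)).lTensor V) :=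
    Module.Flat.lTensor_preserves_injective_linearMap _ hii
  refine ⟨{ coact := cc, coassoc := ?_, counit_comp := ?_ }, hcc⟩
  · have hco := HopfRep.Comod.coassoc (k := k) (A := D) (V := V)
    have h1 := Groth.Agent.H93.lTensor_map_comp_assoc (V := V) (i : C →ₗ[k] D)
    have h3 := Groth.Agent.H93.lTensor_map_comp_comul (V := V) i
    have h2 := Groth.Agent.H93.map_lTensor_comp_rTensor (V := V) (i : C →ₗ[k] D) cc
    ext v
    apply hJ
    have e1 := LinearMap.congr_fun hco v
    have e2 := LinearMap.congr_fun h1 (cc.rTensor C (cc v))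
    have e3 := LinearMap.congr_fun h3 (cc v)
    have e4 := LinearMap.congr_fun h2 (cc v)
    simp only [LinearMap.comp_apply, LinearEquiv.coe_coe] at e1 e2 e3 e4 ⊢
    rw [e3, e2, e4, hcc, hcc', e1]
  · have hcu := HopfRep.Comod.counit_comp (k := k) (A := D) (V := V)
    rw [← hcu, ← hcc, ← LinearMap.comp_assoc, ← LinearMap.lTensor_comp]
    congr 2
    exact (i.counit_comp).symm

end Groth.Agent.S18806
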