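import Groth.Statements.S18808
import Groth.Agent.H93.CoalgHom

set_option autoImplicit false
universe u v v' w w' x
open TensorProduct
open HopfRep

namespace Groth.Agent.S18808

/-- Let k be a field, i : C → D an injective morphism of k-coalgebras and V a right D-comodule with
coaction ρ. Call a D-subcomodule K of V admissible when the induced coaction of V/K, namely ρ
followed by the projection V ⊗ D → (V/K) ⊗ D, takes all its values in the image of (V/K) ⊗ C → (V/K)
⊗ D (so that V/K comes from a C-comodule). Then there is a least admissible D-subcomodule of V: V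
has a largest quotient D-comodule coming from C, through which every D-comodule map from V to a
comodule coming from C factors. (The source states this for left comodules over the coordinate
bialgebras of an affine monoid scheme and its open schematically dense group of units, as the
existence of a universal map from a representation of the unit group to a representation of the
monoid; it uses that assumption only through the injectivity of the restriction map.) -/
theorem result (k : Type u) [Field k]
    (C : Type v) [AddCommGroup C] [Module k C] [Coalgebra k C]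
    (D : Type v') [AddCommGroup D] [Module k D] [Coalgebra k D]
    (i : C →ₗc[k] D) (hi : Function.Injective i)
    (V : Type w) [AddCommGroup V] [Module k V] [HopfRep.Comod k D V] :
    ∃ K : Submodule k V, HopfRep.IsSubcomod (k := k) (A := D) K ∧
      (∀ v : V, K.mkQ.rTensor D (HopfRep.Comod.coact (k := k) (A := D) v) ∈
        LinearMap.range ((i : C →ₗ[k] D).lTensor (V ⧸ K))) ∧
      ∀ K' : Submodule k V, HopfRep.IsSubcomod (k := k) (A := D) K' →
        (∀ v : V, K'.mkQ.rTensor D (HopfRep.Comod.coact (k := k) (A := D) v) ∈
          LinearMap.range ((i : C →ₗ[k] D).lTensor (V ⧸ K'))) → K ≤ K' := by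
  letI := Groth.Agent.H93.dualModule k D V
  -- admissibility in terms of the dual-algebra operators
  have hadm : ∀ K : Submodule k V,
      (∀ v : V, K.mkQ.rTensor D (HopfRep.Comod.coact (k := k) (A := D) v) ∈
        LinearMap.range ((i : C →ₗ[k] D).lTensor (V ⧸ K))) ↔
      ∀ (φ : D →ₗ[k] k), φ ∘ₗ (i : C →ₗ[k] D) = 0 → ∀ v : V,
        Groth.Agent.H93.dualAct (A := D) V φ v ∈ K := by
    intro K
    constructor
    · intro h φ hφ v
      have h1 := (Groth.Agent.H93.mem_range_lTensor_iff (i : C →ₗ[k] D) (V ⧸ K) _).1 (h v) φ hφ
      rw [Groth.Agent.H93.slice_rTensor_apply, Submodule.mkQ_apply,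
        Submodule.Quotient.mk_eq_zero] at h1
      exact h1
    · intro h v
      rw [Groth.Agent.H93.mem_range_lTensor_iff]
      intro φ hφ
      rw [Groth.Agent.H93.slice_rTensor_apply, Submodule.mkQ_apply,
        Submodule.Quotient.mk_eq_zero]
      exact h φ hφ v
  let N : Submodule (WithConv (D →ₗ[k] k)) V := Submodule.span (WithConv (D →ₗ[k] k))
    {x | ∃ (φ : D →ₗ[k] k) (v : V), φ ∘ₗ (i : C →ₗ[k] D) = 0 ∧
      x = Groth.Agent.H93.dualAct (A := D) V φ v}
  refine ⟨N.restrictScalars k, Groth.Agent.H93.isSubcomod_restrictScalars N, ?_, ?_⟩
  · rw [hadm]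
    intro φ hφ v
    exact Submodule.subset_span ⟨φ, v, hφ, rfl⟩
  · intro K' hK' hK'adm
    rw [hadm] at hK'adm
    have : N ≤ Groth.Agent.H93.toDualSub K' hK' := by
      apply Submodule.span_le.2
      rintro x ⟨φ, v, hφ, rfl⟩
      exact hK'adm φ hφ v
    intro x hx
    exact this hx

end Groth.Agent.S18808
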