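import Groth.Statements.S18810
import Groth.Agent.H93.DualMod
import Groth.Agent.H93.IsotypicIndep

set_option autoImplicit false
universe u v v' w w' x
open TensorProduct
open HopfRep

namespace Groth.Agent.S18810

/-- Let k be a field, C a k-coalgebra, V a right C-comodule and (S_j) a family of simple C-comodules
which are pairwise non-isomorphic (for j ≠ j' no k-linear isomorphism S_j ≃ S_j' commutes with the
coactions). For each j let V[j] be the isotypic component of type S_j: the sum of the images of all
comodule maps S_j → V (equivalently of all simple subcomodules of V isomorphic to S_j, a nonzero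
such map being injective). Then the family j ↦ V[j] is independent, so that the socle of V is the
direct sum of its isotypic components. (The source states this for representations of an affine
monoid scheme over k, i.e. left comodules over its coordinate bialgebra; the row is the
right-comodule form over any coalgebra.) -/
theorem result (k : Type u) [Field k]
    (C : Type v) [AddCommGroup C] [Module k C] [Coalgebra k C]
    (V : Type w) [AddCommGroup V] [Module k V] [HopfRep.Comod k C V]
    {ι : Type x} (S : ι → Type w') [∀ j, AddCommGroup (S j)] [∀ j, Module k (S j)]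
    [∀ j, HopfRep.Comod k C (S j)] (hS : ∀ j, HopfRep.IsSimpleComod k C (S j))
    (hne : ∀ j j', j ≠ j' → ∀ e : S j ≃ₗ[k] S j', ¬ Hoch.IsComodHom C (e : S j →ₗ[k] S j')) :
    iSupIndep (fun j => ⨆ f : {f : S j →ₗ[k] V // Hoch.IsComodHom C f}, LinearMap.range f.1) := by
  letI := Groth.Agent.H93.dualModule k C V
  letI : ∀ j, Module (WithConv (C →ₗ[k] k)) (S j) := fun j => Groth.Agent.H93.dualModule k C (S j)
  haveI hSs : ∀ j, IsSimpleModule (WithConv (C →ₗ[k] k)) (S j) :=
    fun j => Groth.Agent.H93.isSimpleModule_dual_iff.2 (hS j)
  have hne' : ∀ j j', j ≠ j' → IsEmpty (S j ≃ₗ[WithConv (C →ₗ[k] k)] S j') := by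
    intro j j' hjj'
    refine ⟨fun E => ?_⟩
    exact hne j j' hjj' (E.restrictScalars k)
      (Groth.Agent.H93.isComodHom_restrictScalars (E : S j →ₗ[WithConv (C →ₗ[k] k)] S j'))
  have hind := Groth.Agent.H93.iSupIndep_isotypicComponent_of_not_iso (R := WithConv (C →ₗ[k] k))
    (M := V) S hne'
  let I' : ι → Submodule (WithConv (C →ₗ[k] k)) V := fun j =>
    ⨆ f : {f : S j →ₗ[k] V // Hoch.IsComodHom C f}, LinearMap.range (Groth.Agent.H93.toDualHom f.1 f.2)
  have hI' : ∀ j, I' j ≤ isotypicComponent (WithConv (C →ₗ[k] k)) V (S j) := fun j =>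
    iSup_le fun f => Groth.Agent.H93.range_le_isotypicComponent (S j) _
  have hind' : iSupIndep I' := hind.mono hI'
  have hres : ∀ j, (I' j).restrictScalars k =
      ⨆ f : {f : S j →ₗ[k] V // Hoch.IsComodHom C f}, LinearMap.range f.1 := by
    intro j
    rw [Submodule.restrictScalars_iSup]
    rfl
  intro j
  have h1 := hind' j
  rw [← Submodule.disjoint_restrictScalars_iff (S := k)] at h1
  rw [Submodule.restrictScalars_iSup] at h1
  simp only [Submodule.restrictScalars_iSup, hres] at h1
  exact h1

end Groth.Agent.S18810
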