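import Groth.Statements.S18811
import Mathlib.AlgebraicGeometry.Morphisms.Flat

set_option autoImplicit false
universe u
open CategoryTheory CategoryTheory.Limits AlgebraicGeometry
open Variety

namespace Groth.Agent.S18811

/-- Let k be a field and X, Y quasi-compact k-schemes whose diagonal morphisms over k are affine
(semi-separated; for instance X and Y separated over k). Then the canonical map Γ(X, O_X) ⊗_k Γ(Y,
O_Y) → Γ(X ×_k Y, O) is an isomorphism: the commutative square of rings of global sections formed by
Spec k, X, Y and X ×_k Y with the pullback maps along the structure morphisms and the two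
projections is a pushout square of commutative rings. -/
theorem result (k : Type u) [Field k]
    (X : Scheme.{u}) [X.Over (Spec (CommRingCat.of k))] [CompactSpace ↥X]
    [IsAffineHom (pullback.diagonal (X ↘ (Spec (CommRingCat.of k))))]
    (Y : Scheme.{u}) [Y.Over (Spec (CommRingCat.of k))] [CompactSpace ↥Y]
    [IsAffineHom (pullback.diagonal (Y ↘ (Spec (CommRingCat.of k))))] :
    IsPushout (X ↘ (Spec (CommRingCat.of k))).appTop (Y ↘ (Spec (CommRingCat.of k))).appTop
      (pullback.fst (X ↘ (Spec (CommRingCat.of k))) (Y ↘ (Spec (CommRingCat.of k)))).appTop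
      (pullback.snd (X ↘ (Spec (CommRingCat.of k))) (Y ↘ (Spec (CommRingCat.of k)))).appTop := by
  let iX := X ↘ (Spec (CommRingCat.of k))
  let f := Y ↘ (Spec (CommRingCat.of k))
  have H : IsPullback (pullback.fst iX f) (pullback.snd iX f) iX f := IsPullback.of_hasPullback _ _
  have hflat : Flat f := inferInstance
  have hfld : IsField Γ(Spec (CommRingCat.of k), ⊤) := isField_of_isIntegral_of_subsingleton _
  have qX : QuasiSeparated iX := ⟨inferInstance⟩
  have qY : QuasiSeparated f := ⟨inferInstance⟩
  have qsX : QuasiSeparatedSpace ↥X := quasiSeparatedSpace_of_quasiSeparated iX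
  have qsY : QuasiSeparatedSpace ↥Y := quasiSeparatedSpace_of_quasiSeparated f
  have h := isIso_pushoutSection_of_isCompact_of_flat_right_of_ringHomFlat H
    (US := ⊤) (UT := ⊤) (UX := ⊤) (UY := ⊤) le_top le_top (by simp)
    (isAffineOpen_top _) isCompact_univ (isQuasiSeparated_univ_iff.mpr qsY)
    isCompact_univ (isQuasiSeparated_univ_iff.mpr qsX) (RingHom.Flat.of_isField hfld _)
  have h2 := (isIso_pushoutSection_iff H le_top le_top (by simp)).mp h
  have key : ∀ {A B : Scheme.{u}} (g : A ⟶ B) (h : (⊤ : A.Opens) ≤ g ⁻¹ᵁ ⊤),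
      g.appTop = g.appLE ⊤ ⊤ h := by
    intro A B g h
    rw [Scheme.Hom.appTop, Scheme.Hom.app_eq_appLE]
    rfl
  convert h2 using 1 <;> exact key _ _

end Groth.Agent.S18811
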