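import Groth.Statements.S18814
import Groth.Agent.H93.DualMod

set_option autoImplicit false
universe u v v' w w'
open TensorProduct
open HopfRep

namespace Groth.Agent.S18814

/-- Let k be a field, C and D commutative bialgebras over k (coordinate rings of affine monoid schemes M
and N) and V a k-vector space carrying a right C-comodule structure with coaction ρ_C : V → V ⊗ C
and a right D-comodule structure with coaction ρ_D : V → V ⊗ D which commute: (ρ_C ⊗ id_D) ∘ ρ_D and
(ρ_D ⊗ id_C) ∘ ρ_C agree in V ⊗ C ⊗ D after reassociating and swapping the last two factors (the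
actions of M and N on V commute). Assume V is semisimple as a D-comodule. Then for every simple
D-comodule S the isotypic component of V of type S, the sum of the images of all D-comodule maps S →
V, is a C-subcomodule of V. (The source works with left comodules; this is the right-comodule form.) -/
theorem result (k : Type u) [Field k]
    (C : Type v) [CommRing C] [Bialgebra k C] (D : Type v') [CommRing D] [Bialgebra k D]
    (V : Type w) [AddCommGroup V] [Module k V] [HopfRep.Comod k C V] [HopfRep.Comod k D V]
    (hcomm : (TensorProduct.assoc k V C D).toLinearMap ∘ₗ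
        (HopfRep.Comod.coact (k := k) (A := C) (V := V)).rTensor D ∘ₗ HopfRep.Comod.coact (k := k) (A := D) =
      (TensorProduct.comm k D C).toLinearMap.lTensor V ∘ₗ (TensorProduct.assoc k V D C).toLinearMap ∘ₗ
        (HopfRep.Comod.coact (k := k) (A := D) (V := V)).rTensor C ∘ₗ HopfRep.Comod.coact (k := k) (A := C))
    (hV : HopfRep.IsSemisimpleComod k D V)
    (S : Type w') [AddCommGroup S] [Module k S] [HopfRep.Comod k D S] (hS : HopfRep.IsSimpleComod k D S) :
    HopfRep.IsSubcomod (k := k) (A := C)
      (⨆ f : {f : S →ₗ[k] V // Hoch.IsComodHom D f}, LinearMap.range f.1) := by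
  -- the operators of the two dual algebras commute
  have key : ∀ (ψ : C →ₗ[k] k) (φ : D →ₗ[k] k),
      Groth.Agent.H93.slice V φ ∘ₗ Groth.Agent.H93.slice (V ⊗[k] D) ψ =
      Groth.Agent.H93.slice V ψ ∘ₗ Groth.Agent.H93.slice (V ⊗[k] C) φ ∘ₗ
        (TensorProduct.assoc k V C D).symm.toLinearMap ∘ₗ
        (TensorProduct.comm k D C).toLinearMap.lTensor V ∘ₗ
        (TensorProduct.assoc k V D C).toLinearMap := by
    intro ψ φ
    apply TensorProduct.ext_threefold
    intro v d c
    simp only [LinearMap.comp_apply, LinearEquiv.coe_coe, TensorProduct.assoc_tmul,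
      LinearMap.lTensor_tmul, TensorProduct.comm_tmul, TensorProduct.assoc_symm_tmul,
      Groth.Agent.H93.slice_tmul, map_smul]
    rw [smul_comm]
  have hcommute : ∀ (ψ : C →ₗ[k] k) (φ : D →ₗ[k] k) (v : V),
      Groth.Agent.H93.dualAct (A := C) V ψ (Groth.Agent.H93.dualAct (A := D) V φ v) =
      Groth.Agent.H93.dualAct (A := D) V φ (Groth.Agent.H93.dualAct (A := C) V ψ v) := by
    intro ψ φ v
    have h1 := LinearMap.congr_fun hcomm v
    simp only [LinearMap.comp_apply, LinearEquiv.coe_coe] at h1
    have h2 := LinearMap.congr_fun (key ψ φ)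
      ((HopfRep.Comod.coact (k := k) (A := D) (V := V)).rTensor C
        (HopfRep.Comod.coact (k := k) (A := C) v))
    simp only [LinearMap.comp_apply, LinearEquiv.coe_coe] at h2
    rw [← h1, LinearEquiv.symm_apply_apply, Groth.Agent.H93.slice_rTensor_apply,
      Groth.Agent.H93.slice_rTensor_apply] at h2
    exact h2.symm
  have hhom : ∀ ψ : C →ₗ[k] k, Hoch.IsComodHom D (Groth.Agent.H93.dualAct (A := C) V ψ) := by
    intro ψ
    rw [Groth.Agent.H93.isComodHom_iff]
    intro φ v
    exact hcommute ψ φ v
  rw [Groth.Agent.H93.isSubcomod_iff]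
  intro ψ v hv
  induction hv using Submodule.iSup_induction' with
  | mem f x hx =>
    obtain ⟨s, rfl⟩ := hx
    have hcomp : Hoch.IsComodHom D (Groth.Agent.H93.dualAct (A := C) V ψ ∘ₗ f.1) := by
      rw [Groth.Agent.H93.isComodHom_iff]
      intro φ s'
      rw [LinearMap.comp_apply, LinearMap.comp_apply,
        Groth.Agent.H93.dualAct_comodHom f.2, Groth.Agent.H93.dualAct_comodHom (hhom ψ)]
    exact Submodule.mem_iSup_of_mem ⟨_, hcomp⟩ ⟨s, rfl⟩
  | zero => rw [map_zero]; exact Submodule.zero_mem _
  | add x y _ _ hx hy => rw [map_add]; exact Submodule.add_mem _ hx hy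

end Groth.Agent.S18814
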