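import Groth.Statements.S18818
import Groth.Agent.H93.DualMod

set_option autoImplicit false
universe u v w
open TensorProduct
open HopfRep

namespace Groth.Agent.S18818

/-- Let k be a field, C a k-coalgebra and V a right C-comodule which is semisimple in the sense that
every subcomodule has a complementary subcomodule (equivalently every injective comodule map into V
splits). Then V is completely reducible: V is the sum of its simple subcomodules, the nonzero
subcomodules W whose only subcomodules are 0 and W. (The source states this for representations of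
an affine monoid scheme over k, i.e. left comodules over its coordinate bialgebra; the converse
implication and the stability of the class under subobjects and quotients are not part of this row.) -/
theorem result (k : Type u) [Field k]
    (C : Type v) [AddCommGroup C] [Module k C] [Coalgebra k C]
    (V : Type w) [AddCommGroup V] [Module k V] [HopfRep.Comod k C V] (hV : HopfRep.IsSemisimpleComod k C V) :
    (⨆ W : {W : Submodule k V // HopfRep.IsSubcomod (k := k) (A := C) W ∧ W ≠ ⊥ ∧
        ∀ W' : Submodule k V, HopfRep.IsSubcomod (k := k) (A := C) W' → W' ≤ W → W' = ⊥ ∨ W' = W},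
      (W.1 : Submodule k V)) = ⊤ := by
  letI := Groth.Agent.H93.dualModule k C V
  have ss : IsSemisimpleModule (WithConv (C →ₗ[k] k)) V :=
    Groth.Agent.H93.isSemisimpleModule_dual_iff.2 hV
  have htop := IsSemisimpleModule.sSup_simples_eq_top (WithConv (C →ₗ[k] k)) V
  set T : Submodule k V := ⨆ W : {W : Submodule k V // HopfRep.IsSubcomod (k := k) (A := C) W ∧ W ≠ ⊥ ∧
        ∀ W' : Submodule k V, HopfRep.IsSubcomod (k := k) (A := C) W' → W' ≤ W → W' = ⊥ ∨ W' = W},
      (W.1 : Submodule k V) with hT
  have hTsub : HopfRep.IsSubcomod (k := k) (A := C) T :=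
    Groth.Agent.H93.isSubcomod_iSup _ (fun W => W.2.1)
  have hle : sSup { m : Submodule (WithConv (C →ₗ[k] k)) V | IsSimpleModule (WithConv (C →ₗ[k] k)) m } ≤
      Groth.Agent.H93.toDualSub T hTsub := by
    apply sSup_le
    intro m hm
    have hatom : IsAtom m := isSimpleModule_iff_isAtom.1 hm
    have hW : HopfRep.IsSubcomod (k := k) (A := C) (m.restrictScalars k) ∧ m.restrictScalars k ≠ ⊥ ∧
        ∀ W' : Submodule k V, HopfRep.IsSubcomod (k := k) (A := C) W' → W' ≤ m.restrictScalars k →
          W' = ⊥ ∨ W' = m.restrictScalars k := by
      refine ⟨Groth.Agent.H93.isSubcomod_restrictScalars m, ?_, ?_⟩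
      · intro h
        exact hatom.1 ((Submodule.restrictScalars_eq_bot_iff _ _ _).1 h)
      · intro W' hW' hle'
        have h1 : Groth.Agent.H93.toDualSub W' hW' ≤ m := fun v hv => hle' hv
        rcases hatom.le_iff.1 h1 with h2 | h2
        · left
          rw [← Groth.Agent.H93.toDualSub_restrictScalars W' hW', h2]; rfl
        · right
          rw [← Groth.Agent.H93.toDualSub_restrictScalars W' hW', h2]
    intro v hv
    have : m.restrictScalars k ≤ T := le_iSup (fun W : {W : Submodule k V // HopfRep.IsSubcomod (k := k) (A := C) W ∧ W ≠ ⊥ ∧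
        ∀ W' : Submodule k V, HopfRep.IsSubcomod (k := k) (A := C) W' → W' ≤ W → W' = ⊥ ∨ W' = W} =>
      (W.1 : Submodule k V)) ⟨m.restrictScalars k, hW⟩
    exact this hv
  rw [htop] at hle
  rw [eq_top_iff]
  intro v _
  exact hle (Submodule.mem_top : v ∈ (⊤ : Submodule (WithConv (C →ₗ[k] k)) V))

end Groth.Agent.S18818
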