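import Groth.Statements.S18819
import Groth.Agent.H93.DualMod
import Mathlib.RingTheory.SimpleModule.Isotypic

set_option autoImplicit false
universe u v w w'
open TensorProduct
open HopfRep

namespace Groth.Agent.S18819

/-- Let k be a field, C a k-coalgebra and V a right C-comodule which is the sum of finitely many simple
subcomodules, given as the images of comodule maps g_i : K_i → V (i < n) from simple comodules K_i.
If S is a simple comodule and f : S → V a nonzero comodule map (so that its image is a simple
subcomodule of V), then S is isomorphic as a comodule to some K_i: there is a k-linear isomorphism S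
≃ K_i commuting with the coactions. (The source states this for representations of an affine monoid
scheme over k with the subrepresentations given as subspaces; here the simple subcomodules are
presented as images of maps from simple comodules.) -/
theorem result (k : Type u) [Field k]
    (C : Type v) [AddCommGroup C] [Module k C] [Coalgebra k C]
    (V : Type w) [AddCommGroup V] [Module k V] [HopfRep.Comod k C V]
    {n : ℕ} (K : Fin n → Type w') [∀ i, AddCommGroup (K i)] [∀ i, Module k (K i)] [∀ i, HopfRep.Comod k C (K i)]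
    (hK : ∀ i, HopfRep.IsSimpleComod k C (K i)) (g : ∀ i, K i →ₗ[k] V) (hg : ∀ i, Hoch.IsComodHom C (g i))
    (hsum : (⨆ i, LinearMap.range (g i)) = ⊤)
    (S : Type w') [AddCommGroup S] [Module k S] [HopfRep.Comod k C S] (hS : HopfRep.IsSimpleComod k C S)
    (f : S →ₗ[k] V) (hf : Hoch.IsComodHom C f) (hf0 : f ≠ 0) :
    ∃ (i : Fin n) (e : S ≃ₗ[k] K i), Hoch.IsComodHom C (e : S →ₗ[k] K i) := by
  letI := Groth.Agent.H93.dualModule k C V
  letI := Groth.Agent.H93.dualModule k C S
  letI : ∀ i, Module (WithConv (C →ₗ[k] k)) (K i) := fun i => Groth.Agent.H93.dualModule k C (K i)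
  have hSs : IsSimpleModule (WithConv (C →ₗ[k] k)) S := Groth.Agent.H93.isSimpleModule_dual_iff.2 hS
  have hKs : ∀ i, IsSimpleModule (WithConv (C →ₗ[k] k)) (K i) :=
    fun i => Groth.Agent.H93.isSimpleModule_dual_iff.2 (hK i)
  let f' : S →ₗ[WithConv (C →ₗ[k] k)] V := Groth.Agent.H93.toDualHom f hf
  let g' : ∀ i, K i →ₗ[WithConv (C →ₗ[k] k)] V := fun i => Groth.Agent.H93.toDualHom (g i) (hg i)
  have hf'0 : f' ≠ 0 := by
    intro h
    apply hf0
    ext x
    exact LinearMap.congr_fun h x
  have hf'inj : Function.Injective f' := LinearMap.injective_of_ne_zero hf'0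
  let eS : S ≃ₗ[WithConv (C →ₗ[k] k)] LinearMap.range f' := LinearEquiv.ofInjective f' hf'inj
  haveI : IsSimpleModule (WithConv (C →ₗ[k] k)) (LinearMap.range f') := IsSimpleModule.congr eS.symm
  let s : Set (Submodule (WithConv (C →ₗ[k] k)) V) := {m | ∃ i, g' i ≠ 0 ∧ m = LinearMap.range (g' i)}
  have hsimple : ∀ m : s, IsSimpleModule (WithConv (C →ₗ[k] k)) m := by
    rintro ⟨m, i, hi0, rfl⟩
    haveI := hKs i
    exact IsSimpleModule.congr (LinearEquiv.ofInjective (g' i) (LinearMap.injective_of_ne_zero hi0)).symm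
  have hs : sSup s = ⊤ := by
    rw [eq_top_iff]
    have h1 : (⊤ : Submodule (WithConv (C →ₗ[k] k)) V) ≤ ⨆ i, LinearMap.range (g' i) := by
      intro v _
      have hv : v ∈ (⨆ i, LinearMap.range (g i)) := by rw [hsum]; trivial
      have : (⨆ i, LinearMap.range (g i)) = (⨆ i, LinearMap.range (g' i)).restrictScalars k := by
        rw [Submodule.restrictScalars_iSup]
        congr 1
      rw [this] at hv
      exact hv
    refine h1.trans (iSup_le fun i => ?_)
    by_cases hi0 : g' i = 0
    · rw [hi0, LinearMap.range_zero]; exact bot_le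
    · exact le_sSup ⟨i, hi0, rfl⟩
  obtain ⟨m, ⟨i, hi0, rfl⟩, ⟨e⟩⟩ := Submodule.linearEquiv_of_sSup_eq_top (LinearMap.range f') s hs
  haveI := hKs i
  let eK : K i ≃ₗ[WithConv (C →ₗ[k] k)] LinearMap.range (g' i) :=
    LinearEquiv.ofInjective (g' i) (LinearMap.injective_of_ne_zero hi0)
  let E : S ≃ₗ[WithConv (C →ₗ[k] k)] K i := (eS.trans e).trans eK.symm
  refine ⟨i, E.restrictScalars k, ?_⟩
  exact Groth.Agent.H93.isComodHom_restrictScalars (E : S →ₗ[WithConv (C →ₗ[k] k)] K i)

end Groth.Agent.S18819
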