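import Groth.Statements.S18824
import Groth.Agent.H90.EquivOpenLocus

set_option autoImplicit false
universe u
open CategoryTheory MonoidalCategory CartesianMonoidalCategory MonObj AlgebraicGeometry
open AlgGrp

namespace Groth.Agent.S18824

/-- Let k be a field, G a locally algebraic group over k (a group k-scheme locally of finite type)
acting on a k-scheme X through a : G ×_k X → X, and U an open subset of X. Let G·U ⊆ X be the image
under a of G ×_k U (the preimage of U under the projection). Then G·U is open in X, contains U, is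
G-stable in the sense that a maps G ×_k (G·U) into G·U, and is the smallest such set: every G-stable
open subset of X containing U contains G·U. -/
theorem result (k : Type u) [Field k]
    (G X : Over (Spec (CommRingCat.of k))) [GrpObj G] [LocallyOfFiniteType G.hom] (a : AlgGrp.Action G X)
    (U : Set ↥X.left) (hU : IsOpen U) :
    IsOpen (a.act.left.base '' ((CartesianMonoidalCategory.snd G X).left.base ⁻¹' U)) ∧
      U ⊆ a.act.left.base '' ((CartesianMonoidalCategory.snd G X).left.base ⁻¹' U) ∧
      a.act.left.base '' ((CartesianMonoidalCategory.snd G X).left.base ⁻¹'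
          (a.act.left.base '' ((CartesianMonoidalCategory.snd G X).left.base ⁻¹' U))) ⊆
        a.act.left.base '' ((CartesianMonoidalCategory.snd G X).left.base ⁻¹' U) ∧
      ∀ W : Set ↥X.left, IsOpen W → U ⊆ W →
        a.act.left.base '' ((CartesianMonoidalCategory.snd G X).left.base ⁻¹' W) ⊆ W →
          a.act.left.base '' ((CartesianMonoidalCategory.snd G X).left.base ⁻¹' U) ⊆ W := by
  have hopen : IsOpenMap a.act.left.base := by
    have hfac : a.act = (Groth.Agent.H90.shearAct a).hom ≫ CartesianMonoidalCategory.snd G X :=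
      (Groth.Agent.H90.shearAct_hom_snd a).symm
    have hiso : IsIso (Groth.Agent.H90.shearAct a).hom.left :=
      inferInstanceAs (IsIso ((Over.forget _).map (Groth.Agent.H90.shearAct a).hom))
    have huo : UniversallyOpen (CartesianMonoidalCategory.snd G X).left := by
      rw [Over.snd_left]
      infer_instance
    rw [hfac, Over.comp_left]
    exact ((Groth.Agent.H90.shearAct a).hom.left ≫ (CartesianMonoidalCategory.snd G X).left).isOpenMap
  -- the key multiplication map on triples
  let g₁ : G ⊗ (G ⊗ X) ⟶ G := CartesianMonoidalCategory.fst G (G ⊗ X)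
  let g₂ : G ⊗ (G ⊗ X) ⟶ G :=
    CartesianMonoidalCategory.snd G (G ⊗ X) ≫ CartesianMonoidalCategory.fst G X
  let x₃ : G ⊗ (G ⊗ X) ⟶ X :=
    CartesianMonoidalCategory.snd G (G ⊗ X) ≫ CartesianMonoidalCategory.snd G X
  let m : G ⊗ (G ⊗ X) ⟶ G ⊗ X := lift (g₁ * g₂) x₃
  have hm_act : m ≫ a.act = (G ◁ a.act) ≫ a.act := by
    have h1 : m ≫ a.act = Groth.Agent.H40.psmul a (g₁ * g₂) x₃ := rfl
    have h2 : CartesianMonoidalCategory.snd G (G ⊗ X) ≫ a.act = Groth.Agent.H40.psmul a g₂ x₃ := by
      rw [Groth.Agent.H40.psmul_def, ← comp_lift, lift_fst_snd, Category.comp_id]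
    have h3 : (G ◁ a.act) ≫ a.act = Groth.Agent.H40.psmul a g₁ (Groth.Agent.H40.psmul a g₂ x₃) := by
      rw [← h2, Groth.Agent.H40.psmul_def]
      congr 1
    rw [h1, h3, Groth.Agent.H40.mul_psmul]
  have hm_snd : m ≫ CartesianMonoidalCategory.snd G X =
      CartesianMonoidalCategory.snd G (G ⊗ X) ≫ CartesianMonoidalCategory.snd G X := lift_snd _ _
  refine ⟨hopen _ (hU.preimage (CartesianMonoidalCategory.snd G X).left.base.hom.continuous), ?_, ?_, ?_⟩
  · intro u hu
    refine ⟨(lift (toUnit X ≫ η[G]) (𝟙 X)).left.base u, ?_, ?_⟩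
    · change ((lift (toUnit X ≫ η[G]) (𝟙 X)).left ≫ (CartesianMonoidalCategory.snd G X).left).base u ∈ U
      rw [← Over.comp_left, lift_snd]
      exact hu
    · change ((lift (toUnit X ≫ η[G]) (𝟙 X)).left ≫ a.act.left).base u = u
      rw [← Over.comp_left]
      have : lift (toUnit X ≫ η[G]) (𝟙 X) ≫ a.act = 𝟙 X := by
        rw [← Groth.Agent.H40.psmul_def, ← Hom.one_def, Groth.Agent.H40.one_psmul]
      rw [this]
      rfl
  · rintro _ ⟨z, ⟨z', hz'U, hz'⟩, rfl⟩
    have sq := Groth.Agent.H90.isPullback_whiskerLeft_snd G a.act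
    obtain ⟨t₀, ht₁, ht₂⟩ := Scheme.Pullback.exists_preimage_pullback
      (f := (CartesianMonoidalCategory.snd G X).left) (g := a.act.left) z z' hz'.symm
    let t := sq.isoPullback.inv.base t₀
    have ht1 : (G ◁ a.act).left.base t = z := by
      change (sq.isoPullback.inv ≫ (G ◁ a.act).left).base t₀ = z
      rw [sq.isoPullback_inv_fst]
      exact ht₁
    have ht2 : (CartesianMonoidalCategory.snd G (G ⊗ X)).left.base t = z' := by
      change (sq.isoPullback.inv ≫ (CartesianMonoidalCategory.snd G (G ⊗ X)).left).base t₀ = z'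
      rw [sq.isoPullback_inv_snd]
      exact ht₂
    refine ⟨m.left.base t, ?_, ?_⟩
    · change (m.left ≫ (CartesianMonoidalCategory.snd G X).left).base t ∈ U
      rw [← Over.comp_left, hm_snd, Over.comp_left]
      change (CartesianMonoidalCategory.snd G X).left.base
        ((CartesianMonoidalCategory.snd G (G ⊗ X)).left.base t) ∈ U
      rw [ht2]
      exact hz'U
    · change (m.left ≫ a.act.left).base t = a.act.left.base z
      rw [← Over.comp_left, hm_act, Over.comp_left]
      change a.act.left.base ((G ◁ a.act).left.base t) = _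
      rw [ht1]
  · intro W _ hUW hW
    exact (Set.image_mono (Set.preimage_mono hUW)).trans hW

end Groth.Agent.S18824
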