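import Groth.Statements.S18827
import Groth.Agent.H94.Comod

set_option autoImplicit false
universe u v w
open TensorProduct
open HopfRep

namespace Groth.Agent.S18827

/-- Let k be a field, C a k-coalgebra, V a right C-comodule which is semisimple (every subcomodule has a
complementary subcomodule, which over a field is the same as being the sum of its simple
subcomodules) and W a subcomodule of V. Then the subcomodule W with its induced structure and the
quotient comodule V/W are again semisimple. (The source states this for representations of an affine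
monoid scheme over k.) -/
theorem result (k : Type u) [Field k]
    (C : Type v) [AddCommGroup C] [Module k C] [Coalgebra k C]
    (V : Type w) [AddCommGroup V] [Module k V] [c : HopfRep.Comod k C V] (hV : HopfRep.IsSemisimpleComod k C V)
    (W : Submodule k V) (hW : HopfRep.IsSubcomod (k := k) (A := C) W) :
    @HopfRep.IsSemisimpleComod k C _ _ _ _ ↥W _ _ (ComodSub.Comod.restr c W hW) ∧
      @HopfRep.IsSemisimpleComod k C _ _ _ _ (V ⧸ W) _ _ (ComodSub.Comod.quot c W hW) := by
  constructor
  · intro U hU
    have hι := ComodSub.isComodHom_subtype c W hW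
    have hU' := Groth.Agent.H94.subcomod_map (ComodSub.Comod.restr c W hW).coact c.coact W.subtype hι U hU
    obtain ⟨T, hT, hcompl⟩ := hV (U.map W.subtype) hU'
    refine ⟨T.comap W.subtype,
      Groth.Agent.H94.subcomod_comap (ComodSub.Comod.restr c W hW).coact c.coact W.subtype hι T hT, ?_⟩
    constructor
    · rw [Submodule.disjoint_def]
      intro x hxU hxT
      have h1 : (x : V) ∈ U.map W.subtype := ⟨x, hxU, rfl⟩
      have h2 : (x : V) ∈ T := hxT
      have h3 := (Submodule.disjoint_def.mp hcompl.disjoint) _ h1 h2
      exact Subtype.ext h3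
    · rw [codisjoint_iff, eq_top_iff]
      intro x _
      have hx : (x : V) ∈ U.map W.subtype ⊔ T := by
        rw [hcompl.sup_eq_top]; trivial
      obtain ⟨u', ⟨u, hu, rfl⟩, t, ht, hsum⟩ := Submodule.mem_sup.mp hx
      rw [Submodule.mem_sup]
      refine ⟨u, hu, x - u, ?_, by abel⟩
      rw [Submodule.mem_comap]
      have : W.subtype (x - u) = t := by
        rw [map_sub, Submodule.subtype_apply, Submodule.subtype_apply, ← hsum]
        simp
      rw [this]
      exact ht
  · intro Q hQ
    have hπ := ComodSub.isComodHom_mkQ c W hW
    have hP := Groth.Agent.H94.subcomod_comap c.coact (ComodSub.Comod.quot c W hW).coact W.mkQ hπ Q hQ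
    obtain ⟨T, hT, hcompl⟩ := hV (Q.comap W.mkQ) hP
    refine ⟨T.map W.mkQ,
      Groth.Agent.H94.subcomod_map c.coact (ComodSub.Comod.quot c W hW).coact W.mkQ hπ T hT, ?_⟩
    constructor
    · rw [Submodule.disjoint_def]
      rintro q hqQ ⟨t, ht, rfl⟩
      have h1 : t ∈ Q.comap W.mkQ := hqQ
      have h3 := (Submodule.disjoint_def.mp hcompl.disjoint) _ h1 ht
      rw [h3, map_zero]
    · rw [codisjoint_iff, eq_top_iff]
      intro q _
      obtain ⟨v, rfl⟩ := W.mkQ_surjective q
      have hv : v ∈ Q.comap W.mkQ ⊔ T := by
        rw [hcompl.sup_eq_top]; trivial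
      obtain ⟨p, hp, t, ht, rfl⟩ := Submodule.mem_sup.mp hv
      rw [map_add]
      exact Submodule.add_mem_sup hp (Submodule.mem_map_of_mem ht)

end Groth.Agent.S18827
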