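import Groth.Statements.S18832
import Mathlib
import Groth.Agent.H96.JetsReg
import Groth.Agent.H23.RegSmooth
-- import your own Groth.Agent.* helpers here

set_option autoImplicit false
universe u
open Polynomial
open DefT

namespace Groth.Agent.S18832

/-- Let k be an algebraically closed field of characteristic zero, A a finitely generated k-algebra and
m a maximal ideal of A. Then A_m is a regular local ring (the pointed scheme (Spec A, m) is smooth
at m) if and only if, for every l ≥ 1, every k-algebra homomorphism φ : A → k[X]/(X^l) mapping m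
into the nilpotent elements extends to a k-algebra homomorphism ψ : A → k[X]/(X^(l+1)) reducing to φ
modulo X^l. Only jets along Spec k[X]/(X^l) are tested, not all local Artinian algebras. -/
theorem result (k : Type u) [Field k] [IsAlgClosed k] [CharZero k]
    (A : Type u) [CommRing A] [Algebra k A] [Algebra.FiniteType k A]
    (m : Ideal A) [m.IsMaximal] :
    IsRegularLocalRing (Localization.AtPrime m) ↔
      ∀ (l : ℕ), 1 ≤ l →
        ∀ (φ : A →ₐ[k] (k[X] ⧸ Ideal.span {(X : k[X]) ^ l})),
          (∀ a ∈ m, IsNilpotent (φ a)) →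
          ∃ ψ : A →ₐ[k] (k[X] ⧸ Ideal.span {(X : k[X]) ^ (l + 1)}),
            (Ideal.Quotient.factorₐ k
                (Ideal.span_singleton_le_span_singleton.mpr (pow_dvd_pow (X : k[X]) (Nat.le_succ l)))).comp ψ = φ := by
  classical
  have hess : Algebra.EssFiniteType k (Localization.AtPrime m) :=
    have : Algebra.EssFiniteType A (Localization.AtPrime m) :=
      Algebra.EssFiniteType.of_isLocalization _ m.primeCompl
    Algebra.EssFiniteType.comp k A _
  have hres := Groth.Agent.H23.RegSmooth.residue_surjective k A m
  -- units lift along the reduction maps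
  have hunit : ∀ {a b : ℕ} (h : b ≤ a) (hb : 1 ≤ b) (y : Groth.Agent.H96.JetsReg.B k a),
      IsUnit (Groth.Agent.H96.JetsReg.red k h y) → IsUnit y := by
    intro a b h hb y hy
    obtain ⟨z', hz'⟩ := hy.exists_right_inv
    obtain ⟨z, rfl⟩ := Groth.Agent.H96.JetsReg.red_surjective h z'
    have hmem : y * z - 1 ∈ RingHom.ker (Groth.Agent.H96.JetsReg.red k h).toRingHom := by
      rw [RingHom.mem_ker]
      change Groth.Agent.H96.JetsReg.red k h (y * z - 1) = 0
      rw [map_sub, map_mul, hz', map_one, sub_self]
    obtain ⟨N, hN⟩ := Groth.Agent.H96.JetsReg.ker_red_isNilpotent (k := k) h hb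
    have hnil : IsNilpotent (y * z - 1) := by
      refine ⟨N, ?_⟩
      have := Ideal.pow_mem_pow hmem N
      rw [hN] at this
      exact this
    have h1 : IsUnit (y * z) := by
      have := hnil.isUnit_add_one
      rwa [sub_add_cancel] at this
    exact isUnit_of_mul_isUnit_left h1
  constructor
  · -- regular ⟹ jets lift
    intro hreg l hl φ hφ
    have : Algebra.FormallySmooth k (Localization.AtPrime m) :=
      Groth.Agent.H23.RegSmooth.formallySmooth_of_isRegularLocalRing k A m hreg
    have := Groth.Agent.H96.JetsReg.nontrivial_B (k := k) hl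
    have hu : ∀ y : m.primeCompl, IsUnit (φ y) := by
      intro y
      obtain ⟨c, hc⟩ := Groth.Agent.H23.RegSmooth.exists_sub_mem_of_isMaximal k A m (y : A)
      have hc0 : c ≠ 0 := by
        rintro rfl
        rw [map_zero, sub_zero] at hc
        exact y.2 hc
      have h1 : φ (y : A) = φ ((y : A) - algebraMap k A c) + algebraMap k _ c := by
        rw [map_sub, AlgHom.commutes]; ring
      rw [h1]
      exact (hφ _ hc).isUnit_add_right_of_commute
        ((isUnit_iff_ne_zero.2 hc0).map (algebraMap k _)) (Commute.all _ _)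
    let φ' : Localization.AtPrime m →ₐ[k] (k[X] ⧸ Ideal.span {(X : k[X]) ^ l}) :=
      IsLocalization.liftAlgHom (M := m.primeCompl) (f := φ) hu
    let ψ' := Algebra.FormallySmooth.liftOfSurjective φ'
      (Groth.Agent.H96.JetsReg.red k (Nat.le_succ l))
      (Groth.Agent.H96.JetsReg.red_surjective _)
      (Groth.Agent.H96.JetsReg.ker_red_isNilpotent (k := k) (Nat.le_succ l) hl)
    refine ⟨ψ'.comp (IsScalarTower.toAlgHom k A (Localization.AtPrime m)), ?_⟩
    have h2 : (Groth.Agent.H96.JetsReg.red k (Nat.le_succ l)).comp ψ' = φ' :=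
      Algebra.FormallySmooth.comp_liftOfSurjective _ _ _ _
    change (Groth.Agent.H96.JetsReg.red k (Nat.le_succ l)).comp
      (ψ'.comp (IsScalarTower.toAlgHom k A (Localization.AtPrime m))) = φ
    rw [← AlgHom.comp_assoc, h2]
    apply AlgHom.ext
    intro a
    change IsLocalization.lift hu (algebraMap A (Localization.AtPrime m) a) = φ a
    rw [IsLocalization.lift_eq]
    rfl
  · -- jets lift ⟹ regular
    intro H
    apply Groth.Agent.H96.JetsReg.regular_of_jetProp (k := k) hres
    intro l hl φ'
    have := Groth.Agent.H96.JetsReg.nontrivial_B (k := k) hl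
    let ι : A →ₐ[k] Localization.AtPrime m := IsScalarTower.toAlgHom k A (Localization.AtPrime m)
    have hnil : ∀ a ∈ m, IsNilpotent ((φ'.comp ι) a) := by
      intro a ha
      have ham : ι a ∈ IsLocalRing.maximalIdeal (Localization.AtPrime m) :=
        (IsLocalization.AtPrime.to_map_mem_maximal_iff (Localization.AtPrime m) m a).2 ha
      obtain ⟨q, hq⟩ := Groth.Agent.H96.JetsReg.exists_map_eq_mk_X_mul hl φ' ham
      refine ⟨l, ?_⟩
      change (φ' (ι a)) ^ l = 0
      rw [hq, ← map_pow, Groth.Agent.H96.JetsReg.mk_eq_zero_iff, mul_pow]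
      exact Dvd.intro _ rfl
    obtain ⟨ψ, hψ⟩ := H l hl (φ'.comp ι) hnil
    have hu : ∀ y : m.primeCompl, IsUnit (ψ y) := by
      intro y
      apply hunit (Nat.le_succ l) hl
      have h1 : Groth.Agent.H96.JetsReg.red k (Nat.le_succ l) (ψ y) = φ' (ι y) :=
        DFunLike.congr_fun hψ (y : A)
      rw [h1]
      exact (IsLocalization.map_units (Localization.AtPrime m) y).map φ'
    refine ⟨IsLocalization.liftAlgHom (M := m.primeCompl) (f := ψ) hu, ?_⟩
    apply IsLocalization.algHom_ext m.primeCompl
    apply AlgHom.ext
    intro a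
    change Groth.Agent.H96.JetsReg.red k (Nat.le_succ l)
      (IsLocalization.lift hu (algebraMap A (Localization.AtPrime m) a)) = φ' (ι a)
    rw [IsLocalization.lift_eq]
    exact DFunLike.congr_fun hψ a

end Groth.Agent.S18832
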