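import Groth.Statements.S18834
import Groth.Agent.H93.ReynoldsAlg

set_option autoImplicit false
universe u
open TensorProduct
open GIT

namespace Groth.Agent.S18834

/-- Let k be an algebraically closed field of characteristic zero, G = Spec A a linearly reductive
affine group over k (A a commutative Hopf algebra whose finite-dimensional comodules are semisimple)
acting on an affine k-scheme Spec R of finite type (a multiplicative coaction of A on R), and R^G
the ring of invariants. Then for every ideal I of R^G the ideal I·R of R generated by I satisfies
(I·R) ∩ R^G = I. (The section also assumes Spec R irreducible; that hypothesis plays no role here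
and is not carried.) -/
theorem result (k : Type u) [Field k] [IsAlgClosed k] [CharZero k]
    (A : Type u) [CommRing A] [HopfAlgebra k A] (hG : HopfRep.IsLinearlyReductive k A)
    (R : Type u) [CommRing R] [Algebra k R] [Algebra.FiniteType k R]
    [HopfRep.Comod k A R] [GLin.IsCoactAlg k A R]
    (I : Ideal (GLin.invariants k A R)) :
    Ideal.comap (GLin.invariants k A R).val.toRingHom
        (Ideal.map (GLin.invariants k A R).val.toRingHom I) = I := by
  obtain ⟨E, hE1, hE2, hE3, -⟩ := Groth.Agent.H93.exists_reynolds (R := R) hG
  apply le_antisymm
  · intro x hx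
    rw [Ideal.mem_comap] at hx
    have key : ∀ y ∈ Ideal.map (GLin.invariants k A R).val.toRingHom I,
        ∀ r : R, ∃ c ∈ I, (c : R) = E (r * y) := by
      intro y hy
      rw [Ideal.map] at hy
      induction hy using Submodule.span_induction with
      | mem y hy =>
        obtain ⟨c, hc, rfl⟩ := hy
        intro r
        refine ⟨c * ⟨E r, hE1 r⟩, I.mul_mem_right _ hc, ?_⟩
        change (c : R) * E r = E (r * (c : R))
        rw [mul_comm r, hE3 _ c.2]
      | zero => intro r; exact ⟨0, I.zero_mem, by simp⟩
      | add y z _ _ hy hz =>
        intro r
        obtain ⟨c, hc, hc'⟩ := hy r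
        obtain ⟨d, hd, hd'⟩ := hz r
        refine ⟨c + d, I.add_mem hc hd, ?_⟩
        rw [mul_add, map_add, ← hc', ← hd']
        rfl
      | smul s y _ hy =>
        intro r
        obtain ⟨c, hc, hc'⟩ := hy (r * s)
        exact ⟨c, hc, by rw [hc', smul_eq_mul, mul_assoc]⟩
    obtain ⟨c, hc, hc'⟩ := key _ hx 1
    rw [one_mul] at hc'
    have hx2 : E ((GLin.invariants k A R).val.toRingHom x) = (x : R) := hE2 _ x.2
    have : c = x := Subtype.ext (hc'.trans hx2)
    rwa [← this]
  · exact Ideal.le_comap_map

end Groth.Agent.S18834
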