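import Groth.Statements.S18859
import Groth.Agent.H40.TorsDesc
import Groth.Agent.H40.FnA1

set_option autoImplicit false
universe u
open CategoryTheory MonoidalCategory CartesianMonoidalCategory MonObj GrpObj AlgebraicGeometry
open NonAbH1

namespace Groth.Agent.S18859

/-- Let S be a scheme, G a group scheme over S and X → S a G-torsor for the fpqc topology (a
pseudo-torsor under G acquiring sections on the members of some fpqc covering family of S). Then the
functions on S are the G-invariant functions on X: the ring map Γ(S, O_S) → Γ(X, O_X) is injective,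
and a global function s on X lies in its image if and only if the pullbacks of s to G ×_S X along
the action morphism and along the second projection coincide. (The source works over a scheme of
finite type over a field with G the base change of an affine group scheme over that field and states
the equality O_S = (O_X)^G as sheaves on S; applied to the restriction of the torsor over each open
of S, the present global form is that equality.) -/
theorem result {S : Scheme.{u}} {G X : Over S}
    [GrpObj G] (a : AlgGrp.Action G X) (ha : NonAbH1.IsTorsorFor Scheme.fpqcPrecoverage a) :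
    Function.Injective X.hom.appTop.hom ∧
      ∀ s : Γ(X.left, ⊤), s ∈ Set.range X.hom.appTop.hom ↔
        a.act.left.appTop.hom s = (CartesianMonoidalCategory.snd G X).left.appTop.hom s := by
  obtain ⟨hps, R, hR, hsec⟩ := ha
  have hps' : IsIso (lift a.act (snd G X)) := hps
  have hsec' : ∀ ⦃U : Scheme.{u}⦄ (g : U ⟶ S), R g → ∃ s : U ⟶ X.left, s ≫ X.hom = g :=
    fun U g hg => hsec g hg
  -- pairs of points with the same image are related by the action
  have hrel : ∀ {Z : Scheme.{u}} (z₁ z₂ : Z ⟶ X.left), z₁ ≫ X.hom = z₂ ≫ X.hom →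
      ∃ p : Z ⟶ (G ⊗ X).left, p ≫ a.act.left = z₁ ∧ p ≫ (snd G X).left = z₂ := by
    intro Z z₁ z₂ h12
    let Z' : Over S := Over.mk (z₁ ≫ X.hom)
    let ζ₁ : Z' ⟶ X := Over.homMk z₁ rfl
    let ζ₂ : Z' ⟶ X := Over.homMk z₂ h12.symm
    let p : Z' ⟶ G ⊗ X := lift ζ₁ ζ₂ ≫ inv (lift a.act (snd G X))
    have hp : p ≫ lift a.act (snd G X) = lift ζ₁ ζ₂ := by
      simp only [p, Category.assoc, IsIso.inv_hom_id, Category.comp_id]
    have hp1 : p ≫ a.act = ζ₁ := by
      have := congr($hp ≫ fst X X)
      simpa only [Category.assoc, lift_fst] using this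
    have hp2 : p ≫ snd G X = ζ₂ := by
      have := congr($hp ≫ snd X X)
      simpa only [Category.assoc, lift_snd] using this
    exact ⟨p.left, congr(($hp1).left), congr(($hp2).left)⟩
  have hdesc : ∀ e : X.left ⟶ Groth.Agent.H40.A1.{u},
      a.act.left ≫ e = (snd G X).left ≫ e → ∃! w : S ⟶ Groth.Agent.H40.A1.{u}, X.hom ≫ w = e := by
    intro e he
    refine Groth.Agent.H40.existsUnique_desc_of_fpqc_sections X.hom hR hsec' e ?_
    intro Z z₁ z₂ h12
    obtain ⟨p, rfl, rfl⟩ := hrel z₁ z₂ h12
    rw [Category.assoc, Category.assoc, he]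
  have hw : a.act.left ≫ X.hom = (snd G X).left ≫ X.hom := by
    rw [Over.w, Over.w]
  refine ⟨?_, ?_⟩
  · intro s₁ s₂ h12
    obtain ⟨w, -, hwu⟩ := hdesc (X.hom ≫ (Groth.Agent.H40.fnEquiv S).symm s₁) (by
      rw [← Category.assoc, ← Category.assoc, hw])
    have h1 := hwu ((Groth.Agent.H40.fnEquiv S).symm s₁) rfl
    have h2 := hwu ((Groth.Agent.H40.fnEquiv S).symm s₂) (by
      change X.hom ≫ (Groth.Agent.H40.fnEquiv S).symm s₂ = X.hom ≫ (Groth.Agent.H40.fnEquiv S).symm s₁
      rw [Groth.Agent.H40.comp_fnEquiv_symm, Groth.Agent.H40.comp_fnEquiv_symm, h12])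
    exact (Groth.Agent.H40.fnEquiv S).symm.injective (h1.trans h2.symm)
  · intro s
    constructor
    · rintro ⟨s₀, rfl⟩
      have e1 : a.act.left.appTop.hom (X.hom.appTop.hom s₀) =
          (a.act.left ≫ X.hom).appTop.hom s₀ := by
        rw [Scheme.Hom.comp_appTop]; rfl
      have e2 : (snd G X).left.appTop.hom (X.hom.appTop.hom s₀) =
          ((snd G X).left ≫ X.hom).appTop.hom s₀ := by
        rw [Scheme.Hom.comp_appTop]; rfl
      rw [e1, e2, hw]
    · intro hs
      obtain ⟨w, hw', -⟩ := hdesc ((Groth.Agent.H40.fnEquiv X.left).symm s) (by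
        rw [Groth.Agent.H40.comp_fnEquiv_symm, Groth.Agent.H40.comp_fnEquiv_symm, hs])
      refine ⟨Groth.Agent.H40.fnEquiv S w, ?_⟩
      rw [← Groth.Agent.H40.fnEquiv_comp, hw', Equiv.apply_symm_apply]

end Groth.Agent.S18859
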