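import Groth.Statements.S18864
import Mathlib

set_option autoImplicit false
universe u v w
open HopfRep

namespace Groth.Agent.S18864

/-- Let k be a field and G = lim G_i a pro-algebraic group scheme over k, so that G = Spec A with A the
direct limit of the Hopf algebras A_i of the affine group schemes G_i of finite type; assume
moreover that the maps A_i → A are injective, so that A is the directed union of the A_i, here given
as injective bialgebra maps A_i → A with directed, jointly covering images. Then every homomorphism
from G to an affine group scheme H = Spec B of finite type over k factors through some projection G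
→ G_i: every bialgebra map f : B → A with B finitely generated as a k-algebra is the composite of
A_i → A with a bialgebra map B → A_i for some i. (The published statement allows arbitrary
transition maps in the system; this row assumes each A_i → A injective, the case the printed
argument treats. The source also states the pro-finite variant with H finite, which is the case of
finite-dimensional A_i and B; finite generation of the A_i is not used.) -/
theorem result (k : Type u) [Field k]
    (A : Type v) [CommRing A] [HopfAlgebra k A] {ι : Type v} (Aι : ι → Type v)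
    [∀ i, CommRing (Aι i)] [∀ i, HopfAlgebra k (Aι i)] (emb : ∀ i, Aι i →ₐc[k] A)
    (hinj : ∀ i, Function.Injective (emb i))
    (hdir : ∀ i j, ∃ l, Set.range (emb i) ⊆ Set.range (emb l) ∧ Set.range (emb j) ⊆ Set.range (emb l))
    (hcov : ∀ a : A, ∃ i, a ∈ Set.range (emb i))
    (B : Type w) [CommRing B] [HopfAlgebra k B] [Algebra.FiniteType k B] (f : B →ₐc[k] A) :
    ∃ (i : ι) (g : B →ₐc[k] Aι i), (emb i).comp g = f := by
  classical
  obtain ⟨S, hS⟩ := (Algebra.FiniteType.out : (⊤ : Subalgebra k B).FG)
  have hex : ∀ T : Finset B, ∃ i, ∀ s ∈ T, f s ∈ Set.range (emb i) := by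
    intro T
    induction T using Finset.induction_on with
    | empty =>
      obtain ⟨i, _⟩ := hcov 0
      exact ⟨i, by simp⟩
    | insert b T hb ih =>
      obtain ⟨i, hi⟩ := ih
      obtain ⟨j, hj⟩ := hcov (f b)
      obtain ⟨l, hil, hjl⟩ := hdir i j
      refine ⟨l, ?_⟩
      intro s hs
      rcases Finset.mem_insert.mp hs with rfl | hs
      · exact hjl hj
      · exact hil (hi s hs)
  obtain ⟨i, hi⟩ := hex S
  let ei : Aι i →ₐ[k] A := (emb i : Aι i →ₐ[k] A)
  let fa : B →ₐ[k] A := (f : B →ₐ[k] A)
  have hrange : ∀ b : B, fa b ∈ ei.range := by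
    intro b
    have hb : b ∈ Algebra.adjoin k (S : Set B) := by rw [hS]; trivial
    have hle : Algebra.adjoin k (S : Set B) ≤ Subalgebra.comap fa ei.range := by
      apply Algebra.adjoin_le
      intro s hs
      exact hi s hs
    exact hle hb
  let g₀ : B →ₐ[k] Aι i :=
    ((AlgEquiv.ofInjective ei (hinj i)).symm : ei.range →ₐ[k] Aι i).comp (fa.codRestrict ei.range hrange)
  have hg₀ : ∀ b : B, emb i (g₀ b) = f b := by
    intro b
    have h1 : ei (g₀ b) = ((AlgEquiv.ofInjective ei (hinj i))
        ((AlgEquiv.ofInjective ei (hinj i)).symm (fa.codRestrict ei.range hrange b)) : A) := rfl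
    change ei (g₀ b) = fa b
    rw [h1, AlgEquiv.apply_symm_apply]
    rfl
  have hinj2 : Function.Injective (TensorProduct.map (emb i : Aι i →ₗ[k] A) (emb i : Aι i →ₗ[k] A)) :=
    TensorProduct.map_injective_of_flat_flat _ _ (hinj i) (hinj i)
  refine ⟨i, BialgHom.ofAlgHom g₀ ?_ ?_, ?_⟩
  · ext b
    simp only [AlgHom.comp_apply, Bialgebra.counitAlgHom_apply]
    rw [← CoalgHomClass.counit_comp_apply (emb i) (g₀ b), hg₀, CoalgHomClass.counit_comp_apply]
  · ext b
    simp only [AlgHom.comp_apply, Bialgebra.comulAlgHom_apply]
    apply hinj2
    have h1 := CoalgHomClass.map_comp_comul_apply (emb i) (g₀ b)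
    have h2 := CoalgHomClass.map_comp_comul_apply f b
    rw [h1, hg₀, ← h2]
    have key : (TensorProduct.map (emb i : Aι i →ₗ[k] A) (emb i : Aι i →ₗ[k] A)) ∘ₗ
        (Algebra.TensorProduct.map g₀ g₀).toLinearMap =
        TensorProduct.map (f : B →ₗ[k] A) (f : B →ₗ[k] A) := by
      apply TensorProduct.ext'
      intro x y
      simp only [LinearMap.coe_comp, Function.comp_apply, AlgHom.toLinearMap_apply,
        Algebra.TensorProduct.map_tmul, TensorProduct.map_tmul]
      congr 1
      · exact hg₀ x
      · exact hg₀ y
    exact LinearMap.congr_fun key _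
  · ext b
    exact hg₀ b

end Groth.Agent.S18864
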