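import Groth.Statements.S18865
import Mathlib
import Groth.Agent.H81.GrUnmixed

set_option autoImplicit false
universe u
open Liaison

namespace Groth.Agent.S18865

/-- Let K be a field, R = K[x_0, …, x_n] graded by degree, c ≥ 2 an integer, 𝔠 ⊂ R a homogeneous ideal
of height c such that R/𝔠 is a Gorenstein ring, and I ⊂ R a homogeneous ideal with I ⊄ 𝔠. Then the
ideal quotient 𝔠 : I is unmixed of codimension c: it has height c and every associated prime of R/(𝔠
: I) has height c. (A Gorenstein ideal of the notes, one whose quotient is Cohen–Macaulay with last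
graded Betti number 1, is rendered as: the quotient ring is Gorenstein.) -/
theorem result (K : Type u) [Field K] (n c : ℕ) (hc : 2 ≤ c)
    (𝔠 I : Ideal (MvPolynomial (Fin (n + 1)) K))
    (h𝔠 : 𝔠.IsHomogeneous (GrSyz.stdGr K (Fin (n + 1)))) (hI : I.IsHomogeneous (GrSyz.stdGr K (Fin (n + 1))))
    [LocCoh.IsGorensteinRing (MvPolynomial (Fin (n + 1)) K ⧸ 𝔠)] (h𝔠c : 𝔠.height = c) (hI𝔠 : ¬ I ≤ 𝔠) :
    (𝔠.colon (I : Set (MvPolynomial (Fin (n + 1)) K))).height = c ∧
      ∀ p ∈ associatedPrimes (MvPolynomial (Fin (n + 1)) K) (MvPolynomial (Fin (n + 1)) K ⧸ 𝔠.colon (I : Set (MvPolynomial (Fin (n + 1)) K))), p.height = c := by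
  have hcmloc : ∀ (P : Ideal (MvPolynomial (Fin (n + 1)) K ⧸ 𝔠)) [P.IsPrime],
      LocCoh.IsCohenMacaulayLocalRing (Localization.AtPrime P) := fun P _ =>
    Groth.Agent.H81.Liaison.isCohenMacaulayLocalRing_localization_of_isGorensteinRing _ P
  have hcm : LocCoh.IsCohenMacaulayRing (MvPolynomial (Fin (n + 1)) K ⧸ 𝔠) :=
    { isCohenMacaulayLocalRing_localization := fun P _ => hcmloc P }
  have hass : ∀ p ∈ associatedPrimes (MvPolynomial (Fin (n + 1)) K)
      (MvPolynomial (Fin (n + 1)) K ⧸ 𝔠.colon (I : Set (MvPolynomial (Fin (n + 1)) K))),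
      p.height = c := by
    intro p hp
    have h1 := Groth.Agent.H81.GrUnmixed.mem_associatedPrimes_of_mem_associatedPrimes_colon 𝔠 I p hp
    have h2 := Groth.Agent.H81.Liaison.mem_minimalPrimes_of_mem_associatedPrimes_quotient 𝔠
      (fun P _ => hcmloc P) p h1
    rw [Groth.Agent.H81.GrUnmixed.height_eq_of_mem_minimalPrimes K (n + 1) 𝔠 h𝔠 hcm p h2, h𝔠c]
  refine ⟨?_, hass⟩
  have hne : 𝔠.colon (I : Set (MvPolynomial (Fin (n + 1)) K)) ≠ ⊤ := by
    intro htop
    apply hI𝔠
    intro i hi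
    have h1 : (1 : MvPolynomial (Fin (n + 1)) K) ∈
        𝔠.colon (I : Set (MvPolynomial (Fin (n + 1)) K)) := htop ▸ Submodule.mem_top
    rw [Submodule.mem_colon] at h1
    have := h1 i hi
    rwa [one_smul] at this
  rw [Ideal.height_eq_inf_minimalPrimes]
  obtain ⟨q, hq⟩ := Ideal.nonempty_minimalPrimes hne
  have hmin : ∀ q ∈ (𝔠.colon (I : Set (MvPolynomial (Fin (n + 1)) K))).minimalPrimes,
      q.height = c := by
    intro q hq
    apply hass
    apply Module.associatedPrimes.minimalPrimes_annihilator_subset_associatedPrimes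
    rw [Ideal.annihilator_quotient]
    exact hq
  apply le_antisymm
  · exact (iInf₂_le q hq).trans (le_of_eq (hmin q hq))
  · exact le_iInf₂ fun q' hq' => le_of_eq (hmin q' hq').symm

end Groth.Agent.S18865
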