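import Groth.Statements.S18870
import Mathlib

set_option autoImplicit false
universe u
open Liaison

namespace Groth.Agent.S18870

/-- Let K be a field, R = K[x_0, …, x_n] graded by degree, and J ⊆ I ⊂ R homogeneous ideals with J ≠ 0,
height I = height J + 1 = h + 1 and R/J Cohen–Macaulay; let f ∈ R be homogeneous of degree d with J
: f = J, and put Ĩ = J + fI (the basic double link). Then Ĩ has the same height h + 1 as I. -/
theorem result (K : Type u) [Field K] (n h : ℕ)
    (J I : Ideal (MvPolynomial (Fin (n + 1)) K))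
    (hJ : J.IsHomogeneous (GrSyz.stdGr K (Fin (n + 1)))) (hI : I.IsHomogeneous (GrSyz.stdGr K (Fin (n + 1))))
    (hJ0 : J ≠ ⊥) (hJI : J ≤ I) (hJh : J.height = h) (hIh : I.height = h + 1)
    [LocCoh.IsCohenMacaulayRing (MvPolynomial (Fin (n + 1)) K ⧸ J)]
    (f : MvPolynomial (Fin (n + 1)) K) (d : ℕ) (hf : f ∈ GrSyz.stdGr K (Fin (n + 1)) (d : ℤ)) (hJf : J.colon {f} = J) :
    (J ⊔ Ideal.span {f} * I).height = h + 1 := by
  apply le_antisymm
  · rw [← hIh]
    apply Ideal.height_mono
    exact sup_le hJI Ideal.mul_le_right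
  · rw [Ideal.height_eq_inf_minimalPrimes]
    refine le_iInf₂ fun p hp => ?_
    have hpP : p.IsPrime := hp.1.1
    have hJp : J ≤ p := le_trans le_sup_left hp.1.2
    have hfI : Ideal.span {f} * I ≤ p := le_trans le_sup_right hp.1.2
    rcases (Ideal.IsPrime.mul_le hpP).mp hfI with hf' | hI'
    · have hfp : f ∈ p := hf' (Ideal.mem_span_singleton_self f)
      obtain ⟨q, hq, hqp⟩ := Ideal.exists_minimalPrimes_le hJp
      have hqP : q.IsPrime := hq.1.1
      have hfq : f ∉ q := by
        intro hfq
        obtain ⟨y, hy, hxy⟩ := Ideal.exists_mul_mem_of_mem_minimalPrimes hq hfq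
        apply hy
        rw [← hJf, Submodule.mem_colon_singleton, smul_eq_mul]
        rw [mul_comm]; exact hxy
      have hlt : q < p := lt_of_le_of_ne hqp (fun h => hfq (h ▸ hfp))
      have h1 := Ideal.height_add_one_le_of_lt_of_isPrime hlt
      have h2 : J.height ≤ q.height := Ideal.height_mono hq.1.2
      rw [hJh] at h2
      calc (h : ℕ∞) + 1 ≤ q.height + 1 := by gcongr
        _ ≤ p.height := h1
    · rw [← hIh]; exact Ideal.height_mono hI'

end Groth.Agent.S18870
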