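import Groth.Statements.S18873
import Groth.Agent.H81.HilbDeg.Relative
import Groth.Agent.H81.HilbDeg.MultAdd
import Groth.Agent.H81.HilbDeg.ColonHom
import Groth.Agent.H81.GrUnmixed
import Groth.Agent.H2.GorensteinCM

set_option autoImplicit false
universe u
open Liaison

namespace Groth.Agent.S18873

/-- Let K be a field, R = K[x_0, …, x_n] graded by degree, 2 ≤ c ≤ n, 𝔠 ⊂ R a homogeneous ideal of
height c such that R/𝔠 is a Gorenstein ring, I ⊂ R a homogeneous ideal of height c containing 𝔠, and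
J = 𝔠 : I. Write h_𝔞(j) = dim_K [R/𝔞]_j for the Hilbert function of R/𝔞. If p_𝔠, p_I, p_J ∈ ℚ[t] are
polynomials agreeing with h_𝔠, h_I, h_J in all sufficiently large degrees (Hilbert polynomials; R/𝔠
and R/I have dimension n + 1 − c ≥ 1, and so has R/J unless I = 𝔠, when J = R and p_J = 0), then the
coefficients of t^(n−c) satisfy p_J = p_𝔠 − p_I in that degree; multiplying by (n − c)! this says
deg J = deg 𝔠 − deg I. -/
theorem result (K : Type u) [Field K] (n c : ℕ) (hc : 2 ≤ c) (hcn : c ≤ n)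
    (𝔠 I : Ideal (MvPolynomial (Fin (n + 1)) K))
    (h𝔠 : 𝔠.IsHomogeneous (GrSyz.stdGr K (Fin (n + 1)))) (hI : I.IsHomogeneous (GrSyz.stdGr K (Fin (n + 1))))
    [LocCoh.IsGorensteinRing (MvPolynomial (Fin (n + 1)) K ⧸ 𝔠)] (h𝔠c : 𝔠.height = c) (hIc : I.height = c) (h𝔠I : 𝔠 ≤ I)
    (p𝔠 pI pJ : Polynomial ℚ)
    (hp𝔠 : ∃ j₀ : ℕ, ∀ j : ℕ, j₀ ≤ j → (Module.finrank K ↥(Submodule.map (Ideal.Quotient.mkₐ K (𝔠)).toLinearMap (GrSyz.stdGr K (Fin (n + 1)) (j : ℤ))) : ℚ) = p𝔠.eval (j : ℚ))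
    (hpI : ∃ j₀ : ℕ, ∀ j : ℕ, j₀ ≤ j → (Module.finrank K ↥(Submodule.map (Ideal.Quotient.mkₐ K (I)).toLinearMap (GrSyz.stdGr K (Fin (n + 1)) (j : ℤ))) : ℚ) = pI.eval (j : ℚ))
    (hpJ : ∃ j₀ : ℕ, ∀ j : ℕ, j₀ ≤ j → (Module.finrank K ↥(Submodule.map (Ideal.Quotient.mkₐ K (𝔠.colon (I : Set (MvPolynomial (Fin (n + 1)) K)))).toLinearMap (GrSyz.stdGr K (Fin (n + 1)) (j : ℤ))) : ℚ) = pJ.eval (j : ℚ)) :
    pJ.coeff (n - c) = p𝔠.coeff (n - c) - pI.coeff (n - c) := by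
  classical
  open Groth.Agent.H81.HilbDeg in
  have hG : LocCoh.IsGorensteinRing (MvPolynomial (Fin (n + 1)) K ⧸ 𝔠) := inferInstance
  have hcm : LocCoh.IsCohenMacaulayRing (MvPolynomial (Fin (n + 1)) K ⧸ 𝔠) :=
    @LocCoh.IsCohenMacaulayRing.mk _ _ hG.toIsNoetherian (fun p hp => by
      haveI := hG.isGorensteinLocalRing_localization p
      exact Groth.Agent.H2.GorensteinCM.isCohenMacaulayLocalRing _)
  -- homogeneity for the `ℕ`-grading
  have h𝔠' := isHomogeneous_polyGrading_of_stdGr K n 𝔠 h𝔠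
  have hI' := isHomogeneous_polyGrading_of_stdGr K n I hI
  have hJ' := isHomogeneous_colon (CohB1.polyGrading n K) 𝔠 I h𝔠' hI'
  -- Hilbert polynomials
  have H𝔠 := isHilbPoly_of_map 𝔠 p𝔠 hp𝔠
  have HI := isHilbPoly_of_map I pI hpI
  have HJ := isHilbPoly_of_map (𝔠.colon (I : Set (MvPolynomial (Fin (n + 1)) K))) pJ hpJ
  -- the minimal primes of `𝔠`
  set S := minFinset K n 𝔠 with hSdef
  have hS : ∀ q ∈ S, q.IsPrime ∧ q.IsHomogeneous (CohB1.polyGrading n K) ∧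
      q.height = (c : ℕ∞) := by
    intro q hq
    have hq' := (mem_minFinset 𝔠 q).mp hq
    refine ⟨hq'.1.1, Groth.Agent.H54.isHomogeneous_of_mem_minimalPrimes _ h𝔠' hq', ?_⟩
    rw [Groth.Agent.H81.GrUnmixed.height_eq_of_mem_minimalPrimes K (n + 1) 𝔠 h𝔠 hcm q hq', h𝔠c]
  have hcover : ∀ 𝔞 : Ideal (MvPolynomial (Fin (n + 1)) K), 𝔠 ≤ 𝔞 →
      ∀ p : Ideal (MvPolynomial (Fin (n + 1)) K), p.IsPrime → 𝔞 ≤ p → ∃ q ∈ S, q ≤ p := by
    intro 𝔞 h𝔞 p hp hle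
    haveI := hp
    obtain ⟨q, hq, hqp⟩ := Ideal.exists_minimalPrimes_le (h𝔞.trans hle)
    exact ⟨q, (mem_minFinset 𝔠 q).mpr hq, hqp⟩
  have e𝔠 := coeff_formula c hcn S hS 𝔠 h𝔠' (hcover 𝔠 le_rfl) p𝔠 H𝔠
  have eI := coeff_formula c hcn S hS I hI' (hcover I h𝔠I) pI HI
  have eJ := coeff_formula c hcn S hS _ hJ' (hcover _ Ideal.le_colon) pJ HJ
  have hadd : ∀ q ∈ S, mult I q + mult (𝔠.colon (I : Set (MvPolynomial (Fin (n + 1)) K))) q =
      mult 𝔠 q := fun q hq => mult_add 𝔠 I h𝔠I q ((mem_minFinset 𝔠 q).mp hq)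
  have hsum : ((n - c).factorial : ℚ) * pI.coeff (n - c) +
      ((n - c).factorial : ℚ) * pJ.coeff (n - c) = ((n - c).factorial : ℚ) * p𝔠.coeff (n - c) := by
    rw [e𝔠, eI, eJ, ← Finset.sum_add_distrib]
    apply Finset.sum_congr rfl
    intro q hq
    rw [← hadd q hq]
    push_cast
    ring
  have hne : ((n - c).factorial : ℚ) ≠ 0 := by exact_mod_cast Nat.factorial_ne_zero _
  have : ((n - c).factorial : ℚ) * (pI.coeff (n - c) + pJ.coeff (n - c)) =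
      ((n - c).factorial : ℚ) * p𝔠.coeff (n - c) := by rw [mul_add]; exact hsum
  have := mul_left_cancel₀ hne this
  linarith

end Groth.Agent.S18873
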