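import Groth.Statements.S18878
import Groth.Agent.H24.GrpLim.SubgrpLim

set_option autoImplicit false
universe u
open Lim

namespace Groth.Agent.S18878

open CategoryTheory AlgebraicGeometry in
/-- Let S = lim S_i be a cofiltered limit of schemes with affine transition morphisms over a
quasi-compact quasi-separated stage S_{i₀}, let G₀ be a group scheme separated and of finite
presentation over S_{i₀} and H₀ ⊆ G₀ a closed subscheme whose immersion is of finite presentation,
and write G, H (resp. G_i, H_i) for the base changes to S (resp. to a stage S_i). If H is a closed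
subgroup scheme of G, that is H carries a group structure over S for which H → G is a homomorphism,
then H_i is a closed subgroup scheme of G_i for some stage i → i₀; if moreover H is normal in G, the
stage can be chosen so that H_i is normal in G_i. (The published statement is for separated finitely
presented group algebraic spaces and an arbitrary closed subspace H₀; this row is the case of
schemes and assumes H₀ → G₀ of finite presentation: over the limit Spec k of the spectra of k[x_1,
x_2, …]/(x_1, …, x_n), k of characteristic zero, the closed subscheme of the additive group cut out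
by all x_m t^m becomes the whole additive group over Spec k but is a subgroup over no stage, so a
finiteness condition on H₀ is needed, and finite presentation is what the published limit argument
uses.) -/
theorem result
    {I : Type u} [SmallCategory I] [IsCofiltered I]
    (D : I ⥤ Scheme.{u}) (c : Limits.Cone D) (hc : Limits.IsLimit c)
    [∀ (i j : I) (a : i ⟶ j), IsAffineHom (D.map a)] (i₀ : I)
    [CompactSpace (D.obj i₀)] [QuasiSeparatedSpace (D.obj i₀)]
    (G₀ : Over (D.obj i₀)) [GrpObj G₀] [IsSeparated G₀.hom] [QuasiCompact G₀.hom]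
    [LocallyOfFinitePresentation G₀.hom]
    (H₀ : Over (D.obj i₀)) (ι₀ : H₀ ⟶ G₀) [IsClosedImmersion ι₀.left]
    [LocallyOfFinitePresentation ι₀.left]
    (hH : ∃ _ : GrpObj (Red.bc (c.π.app i₀) H₀), IsMonHom ((Over.pullback (c.π.app i₀)).map ι₀)) :
    (∃ (i : I) (a : i ⟶ i₀) (_ : GrpObj (Red.bc (D.map a) H₀)),
        IsMonHom ((Over.pullback (D.map a)).map ι₀)) ∧
    ((∃ (_ : GrpObj (Red.bc (c.π.app i₀) H₀)) (_ : IsMonHom ((Over.pullback (c.π.app i₀)).map ι₀)),
        AlgGrp.IsNormalHom ((Over.pullback (c.π.app i₀)).map ι₀)) →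
      ∃ (i : I) (a : i ⟶ i₀) (_ : GrpObj (Red.bc (D.map a) H₀))
        (_ : IsMonHom ((Over.pullback (D.map a)).map ι₀)),
        AlgGrp.IsNormalHom ((Over.pullback (D.map a)).map ι₀)) := by
  -- finiteness of `H₀`
  haveI : Mono ι₀.left := inferInstance
  haveI : Mono ι₀ := Over.mono_of_mono_left ι₀
  haveI a1 : LocallyOfFinitePresentation H₀.hom := by rw [← Over.w ι₀]; infer_instance
  haveI a2 : QuasiCompact H₀.hom := by rw [← Over.w ι₀]; infer_instance
  haveI a3 : QuasiSeparated H₀.hom := by rw [← Over.w ι₀]; infer_instance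
  haveI b3 : QuasiSeparated G₀.hom := inferInstance
  have main1 : ∀ (_ : GrpObj (Red.bc (c.π.app i₀) H₀)),
      IsMonHom ((Over.pullback (c.π.app i₀)).map ι₀) →
      Groth.Agent.H24.GrpLim.Ev (fun (k : I) (g : k ⟶ i₀) =>
        Groth.Agent.H24.GrpLim.SubgrpData ((Over.pullback (D.map g)).map ι₀)) := by
    intro instH hmon
    have h0 : Groth.Agent.H24.GrpLim.SubgrpData ((Over.pullback (c.π.app i₀)).map ι₀) :=
      Groth.Agent.H24.GrpLim.subgrpData_of_isMonHom _
    exact Groth.Agent.H24.GrpLim.exists_subgrpData_stage D c hc ι₀ h0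
  constructor
  · obtain ⟨instH, hmon⟩ := hH
    obtain ⟨k, g, hk⟩ := main1 instH hmon
    have hk' := hk k (𝟙 k)
    rw [Category.id_comp] at hk'
    obtain ⟨inst, hm⟩ := Groth.Agent.H24.GrpLim.exists_grpObj_of_subgrpData _ hk'
    exact ⟨k, g, inst, hm⟩
  · rintro ⟨instH, hmon, hnorm⟩
    have E1 := main1 instH hmon
    have h1 : Groth.Agent.H24.GrpLim.Factors
        (Groth.Agent.H24.GrpLim.conjRestr ((Over.pullback (c.π.app i₀)).map ι₀))
        ((Over.pullback (c.π.app i₀)).map ι₀) :=
      (Groth.Agent.H24.GrpLim.isNormalPts_iff_factors _).mp hnorm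
    have E2 := Groth.Agent.H24.GrpLim.exists_conjRestr_stage D c hc ι₀ h1
    obtain ⟨k, g, hk⟩ := E1.and E2
    have hk' := hk k (𝟙 k)
    rw [Category.id_comp] at hk'
    obtain ⟨inst, hm⟩ := Groth.Agent.H24.GrpLim.exists_grpObj_of_subgrpData _ hk'.1
    refine ⟨k, g, inst, hm, ?_⟩
    letI := inst
    exact (Groth.Agent.H24.GrpLim.isNormalPts_iff_factors _).mpr hk'.2

end Groth.Agent.S18878
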