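import Groth.Statements.S18879
import Groth.Agent.H79.ResFieldEssFT

set_option autoImplicit false
universe u
open CategoryTheory AlgebraicGeometry
open Resolve

namespace Groth.Agent.S18879

/-- Let f : Y ⟶ X be a morphism locally of finite type between Noetherian separated schemes which is
birational: it maps the maximal points of Y bijectively onto the maximal points of X, and over every
maximal point of X its fibre is one point with the same residue field. Then for every point y of Y,
the Krull dimension of the local ring of Y at y is at most the Krull dimension of the local ring of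
X at f y (the codimension of a point does not increase along f). -/
theorem result {X Y : Scheme.{u}} (f : Y ⟶ X)
    [IsNoetherian X] [X.IsSeparated] [IsNoetherian Y] [Y.IsSeparated] [LocallyOfFiniteType f]
    (hf : RadPt.IsBirational f) (y : Y) :
    ringKrullDim (Y.presheaf.stalk y) ≤ ringKrullDim (X.presheaf.stalk (f.base y)) := by
  obtain ⟨n, hn⟩ := Groth.Agent.H79.ResFieldEssFT.exists_nat_trdeg_residueFieldMap f y
  have hE : ∀ ξ : Y, closure {ξ} ∈ irreducibleComponents ↥Y → ξ ⤳ y →
      letI := (f.residueFieldMap ξ).hom.toAlgebra
      Algebra.trdeg (X.residueField (f.base ξ)) (Y.residueField ξ) ≤ (0 : ℕ) := by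
    intro ξ hξ _
    let _ := (f.residueFieldMap ξ).hom.toAlgebra
    have hgen : f ξ ∈ genericPoints X := hf.1.mapsTo hξ
    have hbij : Function.Bijective (f.residueFieldMap ξ).hom := (hf.2 (f ξ) hgen).2 ξ rfl
    have halg : Algebra.IsAlgebraic (X.residueField (f.base ξ)) (Y.residueField ξ) := by
      refine ⟨fun z => ?_⟩
      obtain ⟨w, rfl⟩ := hbij.2 z
      exact isAlgebraic_algebraMap w
    rw [Nat.cast_zero, nonpos_iff_eq_zero]
    exact _root_.trdeg_eq_zero
  have h := Groth.Agent.H48.DimIneqSch.ringKrullDim_stalk_add_le f y n 0 hn hE
  rw [Nat.cast_zero, add_zero] at h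
  exact le_trans (le_add_of_nonneg_right (Nat.cast_nonneg n)) h

end Groth.Agent.S18879
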