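import Groth.Statements.S18884
import Mathlib

set_option autoImplicit false
universe v u w
open CategoryTheory CategoryTheory.Limits
open Desc

namespace Groth.Agent.S18884


theorem map_comp_apply {C : Type u} [Category.{v} C] (F : C ⥤ AddCommGrpCat.{w}) {X Y Z : C}
    (f : X ⟶ Y) (g : Y ⟶ Z) (x : F.obj X) :
    (F.map (f ≫ g)).hom x = (F.map g).hom ((F.map f).hom x) := by
  rw [F.map_comp]; rfl

theorem exists_extension {C : Type u} [Category.{v} C]
    [HasPullbacks C] (W : MorphismProperty C) [W.IsStableUnderBaseChange] [W.IsStableUnderComposition]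
    (D : ObjectProperty C) (hD : ∀ X : C, ∃ (Y : C) (π : Y ⟶ X), W π ∧ D Y)
    (F G : C ⥤ AddCommGrpCat.{w})
    (hF : ∀ ⦃Y X : C⦄ (π : Y ⟶ X), W π → Function.Surjective (F.map π).hom ∧
          (F.map π).hom.ker = ((F.map (pullback.fst π π)).hom - (F.map (pullback.snd π π)).hom).range)
    (γ : D.ι ⋙ F ⟶ D.ι ⋙ G) : ∃ α : F ⟶ G, Functor.whiskerLeft D.ι α = γ := by
  classical
  choose Yc πc hWc hDc using hD
  have hγ : ∀ {Y₁ Y₂ : C} (h₁ : D Y₁) (h₂ : D Y₂) (g : Y₁ ⟶ Y₂) (y : F.obj Y₁),
      (γ.app ⟨Y₂, h₂⟩).hom ((F.map g).hom y) = (G.map g).hom ((γ.app ⟨Y₁, h₁⟩).hom y) := by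
    intro Y₁ Y₂ h₁ h₂ g y
    have := γ.naturality (X := ⟨Y₁, h₁⟩) (Y := ⟨Y₂, h₂⟩) (ObjectProperty.homMk g)
    exact congrArg (fun φ => φ.hom y) this
  have hkerA : ∀ {Y X : C} (π : Y ⟶ X) (hπ : W π) (hY : D Y),
      (F.map π).hom.ker ≤ ((G.map π).hom.comp (γ.app ⟨Y, hY⟩).hom).ker := by
    intro Y X π hπ hY y hy
    rw [(hF π hπ).2] at hy
    obtain ⟨z, rfl⟩ := hy
    obtain ⟨z', rfl⟩ := (hF (πc (pullback π π)) (hWc (pullback π π))).1 z
    rw [AddMonoidHom.mem_ker, AddMonoidHom.comp_apply, AddMonoidHom.sub_apply, map_sub, map_sub]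
    rw [← map_comp_apply, ← map_comp_apply, hγ (hDc _) hY, hγ (hDc _) hY, ← map_comp_apply,
      ← map_comp_apply]
    rw [Category.assoc, Category.assoc, pullback.condition, sub_self]
  let αX : ∀ X : C, F.obj X →+ G.obj X := fun X =>
    (F.map (πc X)).hom.liftOfRightInverse (Function.surjInv (hF (πc X) (hWc X)).1)
      (Function.rightInverse_surjInv _)
      ⟨(G.map (πc X)).hom.comp (γ.app ⟨Yc X, hDc X⟩).hom, hkerA (πc X) (hWc X) (hDc X)⟩
  have hαX : ∀ X (y : F.obj (Yc X)), αX X ((F.map (πc X)).hom y) =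
      (G.map (πc X)).hom ((γ.app ⟨Yc X, hDc X⟩).hom y) :=
    fun X y => AddMonoidHom.liftOfRightInverse_comp_apply _ _ _ _ y
  have hK : ∀ {Y X' : C} (hY : D Y) (g : Y ⟶ X') (y : F.obj Y),
      αX X' ((F.map g).hom y) = (G.map g).hom ((γ.app ⟨Y, hY⟩).hom y) := by
    intro Y X' hY g y
    have hq1 : W (pullback.fst g (πc X')) := W.pullback_fst g (πc X') (hWc X')
    have ha : W (πc (pullback g (πc X')) ≫ pullback.fst g (πc X')) :=
      W.comp_mem _ _ (hWc _) hq1
    obtain ⟨v, rfl⟩ := (hF _ ha).1 y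
    have hcomm : (πc (pullback g (πc X')) ≫ pullback.fst g (πc X')) ≫ g =
        (πc (pullback g (πc X')) ≫ pullback.snd g (πc X')) ≫ πc X' := by
      rw [Category.assoc, Category.assoc, pullback.condition]
    rw [hγ (hDc _) hY, ← map_comp_apply, ← map_comp_apply, hcomm, map_comp_apply, hαX,
      hγ (hDc _) (hDc X'), ← map_comp_apply]
  refine ⟨{ app := fun X => AddCommGrpCat.ofHom (αX X), naturality := ?_ }, ?_⟩
  · intro X X' f
    apply AddCommGrpCat.hom_ext
    apply AddMonoidHom.ext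
    intro x
    obtain ⟨y, rfl⟩ := (hF (πc X) (hWc X)).1 x
    show αX X' ((F.map f).hom ((F.map (πc X)).hom y)) =
      (G.map f).hom (αX X ((F.map (πc X)).hom y))
    rw [← map_comp_apply, hK (hDc X), hαX, map_comp_apply]
  · apply NatTrans.ext
    funext Y'
    apply AddCommGrpCat.hom_ext
    apply AddMonoidHom.ext
    intro x
    obtain ⟨y, rfl⟩ := (hF (πc Y'.obj) (hWc Y'.obj)).1 x
    show αX Y'.obj ((F.map (πc Y'.obj)).hom y) = (γ.app Y').hom ((F.map (πc Y'.obj)).hom y)
    rw [hαX]
    exact (hγ (hDc Y'.obj) Y'.property (πc Y'.obj) y).symm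

/-- Let C be a category with pullbacks equipped with a class W of morphisms, the covers, stable under
base change and under composition. An abelian cosheaf is a functor F : C ⥤ Ab such that for every
cover π : Y ⟶ X the map F(π) is surjective and its kernel is the image of F(p₁) − F(p₂), where p₁,
p₂ : Y ×_X Y ⟶ Y are the two projections. If D is a full subcategory of C such that every object of
C is the target of a cover whose source lies in D, then the restriction functor from the full
subcategory of abelian cosheaves in C ⥤ Ab to D ⥤ Ab is full and faithful. -/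
theorem result {C : Type u} [Category.{v} C]
    [HasPullbacks C] (W : MorphismProperty C) [W.IsStableUnderBaseChange] [W.IsStableUnderComposition]
    (D : ObjectProperty C) (hD : ∀ X : C, ∃ (Y : C) (π : Y ⟶ X), W π ∧ D Y) :
    (ObjectProperty.ι (fun F : C ⥤ AddCommGrpCat.{w} =>
        ∀ ⦃Y X : C⦄ (π : Y ⟶ X), W π → Function.Surjective (F.map π).hom ∧
          (F.map π).hom.ker = ((F.map (pullback.fst π π)).hom - (F.map (pullback.snd π π)).hom).range) ⋙
      (Functor.whiskeringLeft D.FullSubcategory C AddCommGrpCat.{w}).obj D.ι).Full ∧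
    (ObjectProperty.ι (fun F : C ⥤ AddCommGrpCat.{w} =>
        ∀ ⦃Y X : C⦄ (π : Y ⟶ X), W π → Function.Surjective (F.map π).hom ∧
          (F.map π).hom.ker = ((F.map (pullback.fst π π)).hom - (F.map (pullback.snd π π)).hom).range) ⋙
      (Functor.whiskeringLeft D.FullSubcategory C AddCommGrpCat.{w}).obj D.ι).Faithful := by
  classical
  constructor
  · refine ⟨fun {F G} γ => ?_⟩
    obtain ⟨α, hα⟩ := exists_extension W D hD F.obj G.obj F.property γ
    exact ⟨ObjectProperty.homMk α, hα⟩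
  · refine ⟨fun {F G} α β h => ?_⟩
    choose Yc πc hWc hDc using hD
    apply ObjectProperty.hom_ext
    apply NatTrans.ext
    funext X
    apply AddCommGrpCat.hom_ext
    apply AddMonoidHom.ext
    intro x
    obtain ⟨y, rfl⟩ := (F.property (πc X) (hWc X)).1 x
    have h1 := congrArg (fun φ => φ.hom y) (α.hom.naturality (πc X))
    have h2 := congrArg (fun φ => φ.hom y) (β.hom.naturality (πc X))
    have h3 : (α.hom.app (Yc X)).hom y = (β.hom.app (Yc X)).hom y :=
      congrArg (fun ν => (ν.app ⟨Yc X, hDc X⟩).hom y) h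
    simp only [AddCommGrpCat.hom_comp, AddMonoidHom.comp_apply] at h1 h2
    rw [h1, h2, h3]

end Groth.Agent.S18884
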