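import Groth.Statements.S18887
import Mathlib

set_option autoImplicit false
universe u v
open DblCov

namespace Groth.Agent.S18887

/-- Let A be a commutative ring in which 2 is invertible and B a commutative A-algebra which is free of
rank 2 as an A-module and whose trace form tr : B → A has kernel free of rank 1 over A. Then σ(b) =
tr(b) − b defines an A-algebra endomorphism σ of B with σ ≠ id and σ ∘ σ = id, and the elements
fixed by σ are exactly the image of A in B. -/
theorem result {A : Type u} {B : Type v} [CommRing A] [CommRing B]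
    [Algebra A B] (h2 : IsUnit (2 : A)) [Module.Free A B] [Module.Finite A B]
    (hrk : Module.finrank A B = 2)
    [Module.Free A (LinearMap.ker (Algebra.trace A B))]
    (hker : Module.finrank A (LinearMap.ker (Algebra.trace A B)) = 1) :
    ∃ σ : B →ₐ[A] B, (∀ b : B, σ b = algebraMap A B (Algebra.trace A B b) - b) ∧
      σ ≠ AlgHom.id A B ∧ σ.comp σ = AlgHom.id A B ∧
      ∀ b : B, σ b = b ↔ b ∈ Set.range (algebraMap A B) := by
  classical
  -- `A` is nontrivial
  have hnt : Nontrivial A := by
    by_contra hcon
    rw [not_nontrivial_iff_subsingleton] at hcon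
    rw [Module.finrank_subsingleton] at hrk
    omega
  have htr1 : ∀ a : A, Algebra.trace A B (algebraMap A B a) = 2 * a := by
    intro a
    rw [Algebra.trace_algebraMap, hrk, nsmul_eq_mul]
    norm_num
  obtain ⟨u, hu⟩ := h2
  have hu2 : ((u⁻¹ : Aˣ) : A) * 2 = 1 := by rw [← hu]; simp
  -- generator of the kernel of the trace
  have : Module.Finite A (LinearMap.ker (Algebra.trace A B)) :=
    Module.finite_of_finrank_pos (by omega)
  have htr_one : Algebra.trace A B 1 = 2 := by
    have := htr1 1
    rwa [map_one, mul_one] at this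
  let bk : Module.Basis (Fin 1) A (LinearMap.ker (Algebra.trace A B)) :=
    Module.finBasisOfFinrankEq A _ hker
  set w : B := (bk 0 : B) with hw
  have htrw : Algebra.trace A B w = 0 := (bk 0).2
  have hw_inj : ∀ t : A, t • w = 0 → t = 0 := by
    intro t ht
    have h1 : t • bk 0 = 0 := by
      apply Subtype.ext
      simpa using ht
    have h2 := congrArg (fun z => bk.repr z 0) h1
    simpa using h2
  -- decomposition
  have hdecomp : ∀ b : B, ∃ a c : A, b = algebraMap A B a + c • w := by
    intro b
    set a : A := ((u⁻¹ : Aˣ) : A) * Algebra.trace A B b with ha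
    have hk : b - algebraMap A B a ∈ LinearMap.ker (Algebra.trace A B) := by
      rw [LinearMap.mem_ker, map_sub, htr1, ha, ← mul_assoc, mul_comm 2, hu2, one_mul, sub_self]
    refine ⟨a, bk.repr ⟨_, hk⟩ 0, ?_⟩
    have h1 := bk.sum_repr ⟨_, hk⟩
    rw [Fin.sum_univ_one] at h1
    have h2 := congrArg Subtype.val h1
    simp only [Submodule.coe_smul] at h2
    rw [← hw] at h2
    rw [h2]
    abel
  -- the basis `{1, w}`
  have hli : LinearIndependent A ![(1 : B), w] := by
    rw [LinearIndependent.pair_iff]
    intro s t hst
    have h1 := congrArg (Algebra.trace A B) hst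
    rw [map_add, map_smul, map_smul, htrw, smul_zero, add_zero, map_zero, htr_one, smul_eq_mul] at h1
    have hs : s = 0 := by
      have : ((u⁻¹ : Aˣ) : A) * (2 * s) = 0 := by rw [mul_comm 2 s, h1, mul_zero]
      rwa [← mul_assoc, hu2, one_mul] at this
    subst hs
    rw [zero_smul, zero_add] at hst
    exact ⟨rfl, hw_inj t hst⟩
  have hsp : ⊤ ≤ Submodule.span A (Set.range ![(1 : B), w]) := by
    intro b _
    obtain ⟨a, c, rfl⟩ := hdecomp b
    apply Submodule.add_mem
    · rw [Algebra.algebraMap_eq_smul_one]
      exact Submodule.smul_mem _ _ (Submodule.subset_span ⟨0, rfl⟩)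
    · exact Submodule.smul_mem _ _ (Submodule.subset_span ⟨1, rfl⟩)
  let e : Module.Basis (Fin 2) A B := Module.Basis.mk hli hsp
  have he0 : e 0 = 1 := by simp [e]
  have he1 : e 1 = w := by simp [e]
  -- `w * w` lies in `A`
  obtain ⟨α, hα⟩ : ∃ α : A, w * w = algebraMap A B α := by
    have h1 := Algebra.trace_eq_matrix_trace e w
    rw [htrw, Matrix.trace, Fin.sum_univ_two] at h1
    simp only [Matrix.diag_apply, Algebra.leftMulMatrix_eq_repr_mul, he0, he1, mul_one] at h1
    have h2 : e.repr w 0 = 0 := by
      rw [← he1, Module.Basis.repr_self]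
      simp
    rw [h2, zero_add] at h1
    refine ⟨e.repr (w * w) 0, ?_⟩
    have h3 := e.sum_repr (w * w)
    rw [Fin.sum_univ_two, ← h1, zero_smul, add_zero, he0, ← Algebra.algebraMap_eq_smul_one] at h3
    exact h3.symm
  -- the involution
  let f : B →ₗ[A] B := (Algebra.linearMap A B).comp (Algebra.trace A B) - LinearMap.id
  have hf_apply : ∀ b, f b = algebraMap A B (Algebra.trace A B b) - b := by
    intro b
    simp [f]
  have hf_form : ∀ a c : A, f (algebraMap A B a + c • w) = algebraMap A B a - c • w := by
    intro a c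
    rw [hf_apply, map_add, map_smul, htrw, smul_zero, add_zero, htr1, map_mul, map_ofNat]
    ring
  have hf_one : f 1 = 1 := by
    rw [hf_apply, htr_one, map_ofNat]
    ring
  have hf_mul : ∀ x y, f (x * y) = f x * f y := by
    intro x y
    obtain ⟨a, c, rfl⟩ := hdecomp x
    obtain ⟨a', c', rfl⟩ := hdecomp y
    have hprod : (algebraMap A B a + c • w) * (algebraMap A B a' + c' • w) =
        algebraMap A B (a * a' + c * c' * α) + (a * c' + a' * c) • w := by
      simp only [Algebra.smul_def, map_add, map_mul]
      linear_combination (algebraMap A B c * algebraMap A B c') * hα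
    rw [hprod, hf_form, hf_form, hf_form]
    simp only [Algebra.smul_def, map_add, map_mul]
    linear_combination (-(algebraMap A B c * algebraMap A B c')) * hα
  let σ : B →ₐ[A] B := AlgHom.ofLinearMap f hf_one hf_mul
  have hσf : ∀ b, σ b = f b := fun b => rfl
  refine ⟨σ, fun b => by rw [hσf, hf_apply], ?_, ?_, ?_⟩
  · intro hσ
    have h1 : σ w = w := by rw [hσ]; rfl
    have h2 : σ w = -w := by
      rw [hσf]
      have := hf_form 0 1
      simpa using this
    rw [h2] at h1
    have h3 : (2 : A) • w = 0 := by
      rw [two_smul]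
      nth_rewrite 1 [← h1]
      exact neg_add_cancel w
    have h4 := hw_inj 2 h3
    rw [← hu] at h4
    exact u.ne_zero h4
  · apply AlgHom.ext
    intro b
    obtain ⟨a, c, rfl⟩ := hdecomp b
    rw [AlgHom.comp_apply, hσf, hσf, hf_form, sub_eq_add_neg, ← neg_smul, hf_form, neg_smul,
      sub_neg_eq_add]
    rfl
  · intro b
    rw [hσf, hf_apply]
    constructor
    · intro h
      refine ⟨((u⁻¹ : Aˣ) : A) * Algebra.trace A B b, ?_⟩
      have h1 : algebraMap A B (Algebra.trace A B b) = 2 * b := by
        rw [two_mul]
        exact eq_add_of_sub_eq h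
      rw [map_mul, h1, ← mul_assoc, ← map_ofNat (algebraMap A B) 2, ← map_mul, hu2, map_one, one_mul]
    · rintro ⟨a, rfl⟩
      rw [htr1, map_mul, map_ofNat]
      ring

end Groth.Agent.S18887
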