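import Groth.Statements.S18888
import Mathlib

set_option autoImplicit false
universe u v w
open CAlg

namespace Groth.Agent.S18888

/-- Let A be a unique factorisation domain in which 2 is invertible, with fraction field K, and let L ⊇
K be a quadratic extension field (of degree 2 over K) containing an element y ∉ K whose square is a
squarefree element d of A. Then the integral closure of A in L equals the A-subalgebra A[y]
generated by y. -/
theorem result {A : Type u} {K : Type v} {L : Type w}
    [CommRing A] [IsDomain A] [UniqueFactorizationMonoid A] [Field K] [Algebra A K] [IsFractionRing A K]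
    [Field L] [Algebra K L] [Algebra A L] [IsScalarTower A K L]
    (h2 : IsUnit (2 : A)) (hL : Module.finrank K L = 2)
    (d : A) (hd : Squarefree d) (y : L) (hy : y * y = algebraMap A L d)
    (hyK : y ∉ Set.range (algebraMap K L)) :
    integralClosure A L = Algebra.adjoin A {y} := by
  classical
  have hinjKL : Function.Injective (algebraMap K L) := (algebraMap K L).injective
  have hinjAK : Function.Injective (algebraMap A K) := IsFractionRing.injective A K
  have hAKL : ∀ a : A, algebraMap A L a = algebraMap K L (algebraMap A K a) :=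
    fun a => IsScalarTower.algebraMap_apply A K L a
  have hy' : y * y = algebraMap K L (algebraMap A K d) := by rw [hy, hAKL]
  -- y is integral
  have hyint : IsIntegral A y := by
    refine ⟨Polynomial.X ^ 2 - Polynomial.C d, Polynomial.monic_X_pow_sub_C d (by norm_num), ?_⟩
    rw [← Polynomial.aeval_def]
    simp only [map_sub, map_pow, Polynomial.aeval_X, Polynomial.aeval_C]
    rw [pow_two, hy, sub_self]
  apply le_antisymm
  swap
  · rw [Algebra.adjoin_le_iff]
    rintro _ rfl
    exact hyint
  -- main inclusion
  intro z hz
  have hzint : IsIntegral A z := hz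
  -- basis {1, y}
  have hli : LinearIndependent K ![(1 : L), y] := by
    rw [LinearIndependent.pair_iff]
    intro s t hst
    have ht : t = 0 := by
      by_contra ht
      apply hyK
      refine ⟨-s / t, ?_⟩
      have h1 : t • y = -(s • (1 : L)) := by
        rw [eq_neg_iff_add_eq_zero, add_comm]; exact hst
      rw [Algebra.smul_def, Algebra.smul_def, mul_one] at h1
      have ht' : algebraMap K L t ≠ 0 := fun h0 => ht (hinjKL (by rw [h0, map_zero]))
      rw [map_div₀, map_neg, ← h1]
      exact mul_div_cancel_left₀ y ht'
    subst ht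
    rw [zero_smul, add_zero, Algebra.smul_def, mul_one] at hst
    exact ⟨hinjKL (by rw [hst, map_zero]), rfl⟩
  have hfd : FiniteDimensional K L := Module.finite_of_finrank_pos (by rw [hL]; norm_num)
  have hspan : Submodule.span K (Set.range ![(1 : L), y]) = ⊤ := by
    apply hli.span_eq_top_of_card_eq_finrank'
    rw [hL]; rfl
  have hzmem : z ∈ Submodule.span K (Set.range ![(1 : L), y]) := by rw [hspan]; trivial
  have hrange : Set.range ![(1 : L), y] = {1, y} := by
    ext w
    simp only [Set.mem_range, Fin.exists_fin_two, Matrix.cons_val_zero, Matrix.cons_val_one,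
      Set.mem_insert_iff, Set.mem_singleton_iff]
    constructor
    · rintro (h | h)
      exacts [Or.inl h.symm, Or.inr h.symm]
    · rintro (h | h)
      exacts [Or.inl h.symm, Or.inr h.symm]
  rw [hrange, Submodule.mem_span_pair] at hzmem
  obtain ⟨a, b, hab⟩ := hzmem
  rw [Algebra.smul_def, Algebra.smul_def, mul_one] at hab
  -- integrally closed
  have hIC : ∀ c : K, IsIntegral A c → ∃ α : A, algebraMap A K α = c := fun c hc =>
    IsIntegrallyClosed.isIntegral_iff.mp hc
  -- the claim
  suffices h : ∃ α β : A, algebraMap A K α = a ∧ algebraMap A K β = b by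
    obtain ⟨α, β, rfl, rfl⟩ := h
    rw [← hab, ← hAKL, ← hAKL]
    refine add_mem (Subalgebra.algebraMap_mem _ _) (mul_mem (Subalgebra.algebraMap_mem _ _) ?_)
    exact Algebra.subset_adjoin rfl
  by_cases hb : b = 0
  · subst hb
    rw [map_zero, zero_mul, add_zero] at hab
    have : IsIntegral A a := by
      rw [← hab] at hzint
      exact (isIntegral_algebraMap_iff hinjKL).mp hzint
    obtain ⟨α, hα⟩ := hIC a this
    exact ⟨α, 0, hα, map_zero _⟩
  -- z ∉ K
  have hzK : z ∉ (algebraMap K L).range := by
    rintro ⟨c, hc⟩
    apply hyK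
    refine ⟨(c - a) / b, ?_⟩
    rw [map_div₀, map_sub, hc, ← hab]
    have : algebraMap K L b ≠ 0 := fun h0 => hb (hinjKL (by rw [h0, map_zero]))
    field_simp
    ring
  have hzintK : IsIntegral K z := hzint.tower_top
  have hdeg : 2 ≤ (minpoly K z).natDegree := (minpoly.two_le_natDegree_iff hzintK).mpr hzK
  set d' := algebraMap A K d with hd'
  set c0 : K := a ^ 2 - b ^ 2 * d' with hc0def
  let q : Polynomial K := Polynomial.X ^ 2 - Polynomial.C (2 * a) * Polynomial.X +
    Polynomial.C c0
  have hqz : Polynomial.aeval z q = 0 := by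
    simp only [q, map_add, map_sub, map_mul, map_pow, Polynomial.aeval_X, Polynomial.aeval_C,
      hc0def]
    rw [← hab]
    simp only [map_ofNat, map_sub, map_mul, map_pow]
    linear_combination (algebraMap K L b) ^ 2 * hy'
  have hqmonic : q.Monic := by
    have : q = Polynomial.X ^ 2 + (- Polynomial.C (2 * a) * Polynomial.X +
        Polynomial.C c0) := by simp only [q]; ring
    rw [this]
    apply Polynomial.monic_X_pow_add
    refine lt_of_le_of_lt (Polynomial.degree_add_le _ _) ?_
    refine max_lt ?_ ?_
    · rw [← Polynomial.C_neg]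
      exact lt_of_le_of_lt (Polynomial.degree_C_mul_X_le _) (by norm_num)
    · exact lt_of_le_of_lt Polynomial.degree_C_le (by norm_num)
  have hqdeg : q.natDegree = 2 := by
    have : q = Polynomial.X ^ 2 + (- Polynomial.C (2 * a) * Polynomial.X +
        Polynomial.C c0) := by simp only [q]; ring
    rw [this, Polynomial.natDegree_add_eq_left_of_degree_lt, Polynomial.natDegree_X_pow]
    rw [Polynomial.degree_X_pow]
    refine lt_of_le_of_lt (Polynomial.degree_add_le _ _) ?_
    refine max_lt ?_ ?_
    · rw [← Polynomial.C_neg]
      exact lt_of_le_of_lt (Polynomial.degree_C_mul_X_le _) (by norm_num)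
    · exact lt_of_le_of_lt Polynomial.degree_C_le (by norm_num)
  have hqeq : q = minpoly K z :=
    Polynomial.eq_of_monic_of_dvd_of_natDegree_le (minpoly.monic hzintK) hqmonic
      (minpoly.dvd K z hqz) (by rw [hqdeg]; exact hdeg)
  have hmin := minpoly.isIntegrallyClosed_eq_field_fractions' K hzint
  rw [← hqeq] at hmin
  -- coefficients
  have hc1 : algebraMap A K ((minpoly A z).coeff 1) = -(2 * a) := by
    rw [← Polynomial.coeff_map, ← hmin]
    simp [q, Polynomial.coeff_X_pow, Polynomial.coeff_C, Polynomial.coeff_X]
  have hc0 : algebraMap A K ((minpoly A z).coeff 0) = c0 := by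
    rw [← Polynomial.coeff_map, ← hmin]
    simp [q, Polynomial.coeff_X_pow, Polynomial.coeff_C, Polynomial.coeff_X]
  obtain ⟨u, hu⟩ := h2.exists_left_inv
  have hu' : algebraMap A K u * 2 = 1 := by
    have := congrArg (algebraMap A K) hu
    rw [map_mul, map_one, map_ofNat] at this
    exact this
  set α : A := -(u * (minpoly A z).coeff 1) with hα
  have hαa : algebraMap A K α = a := by
    rw [hα, map_neg, map_mul, hc1]
    linear_combination a * hu'
  set e : A := α ^ 2 - (minpoly A z).coeff 0 with he
  have hee : algebraMap A K e = b ^ 2 * d' := by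
    rw [he, map_sub, map_pow, hαa, hc0, hc0def]; ring
  -- reduced fraction for b
  obtain ⟨r, s, hrs, hbrs⟩ := IsFractionRing.exists_reduced_fraction (A := A) (K := K) b
  have hs0 : algebraMap A K (s : A) ≠ 0 := by
    intro h0
    have := hinjAK (by rw [h0, map_zero] : algebraMap A K (s : A) = algebraMap A K 0)
    exact nonZeroDivisors.ne_zero s.2 this
  have hbs : b * algebraMap A K (s : A) = algebraMap A K r := by
    rw [← hbrs, IsLocalization.mk'_spec]
  have hmain : r ^ 2 * d = e * (s : A) ^ 2 := by
    apply hinjAK
    simp only [map_mul, map_pow]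
    rw [hee, ← hbs, ← hd']
    ring
  have hdvd : (s : A) ^ 2 ∣ d := by
    have h1 : (s : A) ^ 2 ∣ r ^ 2 * d := ⟨e, by rw [hmain]; ring⟩
    have h2 : IsRelPrime ((s : A) ^ 2) (r ^ 2) := (hrs.symm.pow_left).pow_right
    exact h2.dvd_of_dvd_mul_left h1
  have hsunit : IsUnit (s : A) := hd (s : A) (by rw [← pow_two]; exact hdvd)
  obtain ⟨v, hv⟩ := hsunit.exists_right_inv
  refine ⟨α, r * v, hαa, ?_⟩
  rw [map_mul, ← hbs]
  have : algebraMap A K (s : A) * algebraMap A K v = 1 := by
    rw [← map_mul, hv, map_one]
  linear_combination b * this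

end Groth.Agent.S18888
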