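import Groth.Statements.S18890
import Mathlib

set_option autoImplicit false
universe u v w w'
open CAlg

namespace Groth.Agent.S18890

/-- Let R be a commutative ring, G a finite group whose order is invertible in R, M an R-module with an
R-linear action ρ of G and N an arbitrary R-module. Then the natural map M^G ⊗_R N → M ⊗_R N induced
by the inclusion of the invariants is injective, and its image is the submodule of invariants of M
⊗_R N under the action ρ ⊗ 1 (G acting on the first factor). (The source lets G be a group of
R-automorphisms of M; a possibly non-faithful linear action changes nothing.) -/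
theorem result {R : Type u} [CommRing R]
    {G : Type v} [Group G] [Finite G] (hG : IsUnit ((Nat.card G : ℕ) : R))
    {M : Type w} {N : Type w'} [AddCommGroup M] [Module R M] [AddCommGroup N] [Module R N]
    (ρ : Representation R G M) :
    Function.Injective (LinearMap.rTensor N ρ.invariants.subtype) ∧
      LinearMap.range (LinearMap.rTensor N ρ.invariants.subtype) =
        (ρ.tprod (Representation.trivial R G N)).invariants := by
  classical
  have : Fintype G := Fintype.ofFinite G
  obtain ⟨u, hu⟩ := hG
  rw [Nat.card_eq_fintype_card] at hu
  -- the averaging operator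
  let avg : M →ₗ[R] M := ((u⁻¹ : Rˣ) : R) • ∑ g : G, ρ g
  have havg_inv : ∀ m : M, avg m ∈ ρ.invariants := by
    intro m g
    simp only [avg, LinearMap.smul_apply, LinearMap.sum_apply, map_smul, map_sum]
    congr 1
    change ∑ x : G, (ρ g) ((ρ x) m) = ∑ d : G, (ρ d) m
    have : ∀ x : G, (ρ g) ((ρ x) m) = ρ (g * x) m := by
      intro x; rw [map_mul]; rfl
    simp only [this]
    exact Fintype.sum_equiv (Equiv.mulLeft g) _ _ (fun x => rfl)
  have havg_id : ∀ m : M, m ∈ ρ.invariants → avg m = m := by
    intro m hm
    simp only [avg, LinearMap.smul_apply, LinearMap.sum_apply]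
    have : ∀ g : G, ρ g m = m := hm
    simp only [this, Finset.sum_const, Finset.card_univ]
    rw [← Nat.cast_smul_eq_nsmul R, smul_smul, ← hu, Units.inv_mul, one_smul]
  let avg' : M →ₗ[R] ρ.invariants := avg.codRestrict _ havg_inv
  have hleft : avg' ∘ₗ ρ.invariants.subtype = LinearMap.id := by
    ext ⟨m, hm⟩
    simp [avg', havg_id m hm]
  constructor
  · have h1 : (LinearMap.rTensor N avg') ∘ₗ (LinearMap.rTensor N ρ.invariants.subtype) = LinearMap.id := by
      rw [← LinearMap.rTensor_comp, hleft, LinearMap.rTensor_id]
    exact Function.LeftInverse.injective (g := LinearMap.rTensor N avg')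
      (fun x => by rw [← LinearMap.comp_apply, h1]; rfl)
  · apply le_antisymm
    · rintro _ ⟨x, rfl⟩
      intro g
      rw [Representation.tprod_apply]
      have h2 : TensorProduct.map (ρ g) ((Representation.trivial R G N) g) ∘ₗ
          LinearMap.rTensor N ρ.invariants.subtype = LinearMap.rTensor N ρ.invariants.subtype := by
        ext ⟨m, hm⟩ n
        simp only [TensorProduct.AlgebraTensorModule.curry_apply, TensorProduct.curry_apply,
          LinearMap.coe_restrictScalars, LinearMap.coe_comp, Function.comp_apply,
          LinearMap.rTensor_tmul, Submodule.coe_subtype, TensorProduct.map_tmul,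
          Representation.trivial_apply]
        rw [hm g]
      exact LinearMap.congr_fun h2 x
    · intro x hx
      have h3 : LinearMap.rTensor N avg x = x := by
        have hsum : LinearMap.rTensor N avg =
            ((u⁻¹ : Rˣ) : R) • ∑ g : G, (ρ.tprod (Representation.trivial R G N)) g := by
          ext m n
          simp only [avg, TensorProduct.AlgebraTensorModule.curry_apply, TensorProduct.curry_apply,
            LinearMap.coe_restrictScalars, LinearMap.rTensor_tmul, LinearMap.smul_apply,
            LinearMap.sum_apply, Representation.tprod_apply, TensorProduct.map_tmul,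
            Representation.trivial_apply]
          rw [← TensorProduct.smul_tmul', TensorProduct.sum_tmul]
        rw [hsum]
        simp only [LinearMap.smul_apply, LinearMap.sum_apply]
        have : ∀ g : G, (ρ.tprod (Representation.trivial R G N)) g x = x := hx
        simp only [this, Finset.sum_const, Finset.card_univ]
        rw [← Nat.cast_smul_eq_nsmul R, smul_smul, ← hu, Units.inv_mul, one_smul]
      have h4 : avg = ρ.invariants.subtype ∘ₗ avg' := by
        ext m
        simp [avg']
      rw [h4, LinearMap.rTensor_comp] at h3
      exact ⟨LinearMap.rTensor N avg' x, h3⟩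

end Groth.Agent.S18890
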