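import Groth.Statements.S18891
import Mathlib

set_option autoImplicit false
universe u
open CategoryTheory CategoryTheory.Limits AlgebraicGeometry
open Mor

namespace Groth.Agent.S18891

/-- Let f : X → Y be a morphism of schemes which is proper and formally unramified, and such that for
every algebraically closed field Ω the map X(Ω) → Y(Ω), g ↦ g ≫ f, is injective. Then f is a closed
immersion. -/
theorem result {X Y : Scheme.{u}} (f : X ⟶ Y)
    [IsProper f] [FormallyUnramified f]
    (hinj : ∀ (Ω : Type u) [Field Ω] [IsAlgClosed Ω],
      Function.Injective (fun g : Spec (CommRingCat.of Ω) ⟶ X => g ≫ f)) :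
    IsClosedImmersion f := by
  rw [IsClosedImmersion.iff_isProper_and_mono]
  refine ⟨inferInstance, ?_⟩
  have h2 : ∀ (K : Type u) [Field K],
      Function.Injective (fun g : Spec (.of K) ⟶ X ↦ g ≫ f) := by
    intro K _ g₁ g₂ hg
    let c : Spec (CommRingCat.of (AlgebraicClosure K)) ⟶ Spec (CommRingCat.of K) :=
      Spec.map (CommRingCat.ofHom (algebraMap K (AlgebraicClosure K)))
    have hflat : Flat c := by
      rw [HasRingHomProperty.Spec_iff (P := @Flat)]
      exact RingHom.flat_algebraMap_iff.mpr inferInstance
    have hsurj : Surjective c := by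
      constructor
      intro x
      refine ⟨IsLocalRing.closedPoint _, ?_⟩
      exact Subsingleton.elim _ _
    have hepi : Epi c := Flat.epi_of_flat_of_surjective c
    have h3 : (c ≫ g₁) ≫ f = (c ≫ g₂) ≫ f := by
      rw [Category.assoc, Category.assoc]
      exact congr(c ≫ $hg)
    have h4 := hinj (AlgebraicClosure K) h3
    exact (cancel_epi c).mp h4
  have hsurj : Surjective (pullback.diagonal f) :=
    ((tfae_universallyInjective f).out 1 3).mp h2
  have hopen : IsOpenImmersion (pullback.diagonal f) := inferInstance
  have : IsIso (pullback.diagonal f) :=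
    (isIso_iff_isOpenImmersion_and_surjective _).mpr ⟨hopen, hsurj⟩
  exact (pullback.isIso_diagonal_iff f).mp this

end Groth.Agent.S18891
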