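import Groth.Statements.S18899
import Mathlib

set_option autoImplicit false
universe u v w
open CAlg

namespace Groth.Agent.S18899

section Aux

open Polynomial

/-- Pointwise version: two ring homomorphisms to a domain agreeing on invariants agree at each
element up to the action of some group element. -/
theorem pointwise {B : Type*} [CommRing B] {G : Type*} [Group G] [Fintype G]
    [MulSemiringAction G B] {L : Type*} [CommRing L] [IsDomain L] (φ₁ φ₂ : B →+* L)
    (h : ∀ b : B, (∀ g : G, g • b = b) → φ₁ b = φ₂ b) (b : B) :
    ∃ g : G, φ₂ b = φ₁ (g • b) := by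
  classical
  set P : B[X] := ∏ g : G, (X - C (g • b)) with hP
  have hinv : ∀ g : G, g • P = P := by
    intro g
    rw [hP, Finset.smul_prod']
    simp only [smul_sub, Polynomial.smul_X, Polynomial.smul_C, smul_smul]
    exact Fintype.prod_equiv (Equiv.mulLeft g) _ _ (fun x => rfl)
  have hcoeff : ∀ n : ℕ, φ₁ (P.coeff n) = φ₂ (P.coeff n) := by
    intro n
    apply h
    intro g
    rw [← Polynomial.coeff_smul, hinv g]
  have hmap : P.map φ₁ = P.map φ₂ := by
    ext n
    rw [coeff_map, coeff_map, hcoeff]
  have h1 : (P.map φ₂).eval (φ₂ b) = 0 := by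
    rw [hP, Polynomial.map_prod, eval_prod]
    apply Finset.prod_eq_zero (Finset.mem_univ (1 : G))
    simp
  rw [← hmap, hP, Polynomial.map_prod, eval_prod, Finset.prod_eq_zero_iff] at h1
  obtain ⟨g, _, hg⟩ := h1
  refine ⟨g, ?_⟩
  simpa [sub_eq_zero] using hg

end Aux

/-- Let A be a commutative ring on which a finite group G acts by ring automorphisms, with ring of
invariants A^G, and let K be a field. If two ring homomorphisms f₁, f₂ : A → K have the same
restriction to A^G, then f₂ = f₁ ∘ γ for some γ ∈ G. -/
theorem result {A : Type u} [CommRing A] {G : Type v} [Group G] [Finite G]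
    [MulSemiringAction G A] {K : Type w} [Field K] (f₁ f₂ : A →+* K)
    (h : ∀ a : A, (∀ g : G, g • a = a) → f₁ a = f₂ a) :
    ∃ γ : G, ∀ a : A, f₂ a = f₁ (γ • a) := by
  classical
  have : Fintype G := Fintype.ofFinite G
  by_contra hcon
  push Not at hcon
  choose a ha using hcon
  -- encode the family `a` in a single polynomial
  let e : G ≃ Fin (Fintype.card G) := Fintype.equivFin G
  set b : Polynomial A := ∑ γ : G, Polynomial.monomial (e γ : ℕ) (a γ) with hb
  have hbcoeff : ∀ γ : G, b.coeff (e γ : ℕ) = a γ := by
    intro γ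
    rw [hb, Polynomial.finsetSum_coeff]
    rw [Finset.sum_eq_single γ]
    · simp
    · intro γ' _ hne
      rw [Polynomial.coeff_monomial, if_neg]
      intro h
      apply hne
      exact e.injective (Fin.ext h)
    · intro h
      exact absurd (Finset.mem_univ γ) h
  have hagree : ∀ c : Polynomial A, (∀ g : G, g • c = c) →
      Polynomial.mapRingHom f₁ c = Polynomial.mapRingHom f₂ c := by
    intro c hc
    ext n
    simp only [Polynomial.coe_mapRingHom, Polynomial.coeff_map]
    apply h
    intro g
    rw [← Polynomial.coeff_smul, hc g]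
  obtain ⟨γ, hγ⟩ := pointwise (Polynomial.mapRingHom f₁) (Polynomial.mapRingHom f₂) hagree b
  have h1 := congrArg (fun c => Polynomial.coeff c (e γ : ℕ)) hγ
  simp only [Polynomial.coe_mapRingHom, Polynomial.coeff_map, Polynomial.coeff_smul, hbcoeff] at h1
  exact ha γ h1

end Groth.Agent.S18899
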