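import Groth.Statements.S18908
import Mathlib

set_option autoImplicit false
universe u v w
open scoped TensorProduct
open CAlg

namespace Groth.Agent.S18908

/-- Let K ⊇ k be a finite field extension of degree n and Ω ⊇ k an algebraically closed extension. Then
K is separable over k if and only if Ω ⊗_k K is isomorphic, as an Ω-algebra, to the product of n
copies of Ω. (The source says 'for every (some) algebraically closed extension Ω'; the equivalence
is stated for each fixed Ω, which gives both readings.) -/
theorem result (k : Type u) (K : Type v) (Ω : Type w)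
    [Field k] [Field K] [Algebra k K] [FiniteDimensional k K]
    [Field Ω] [Algebra k Ω] [IsAlgClosed Ω] :
    Algebra.IsSeparable k K ↔ Nonempty ((Ω ⊗[k] K) ≃ₐ[Ω] (Fin (Module.finrank k K) → Ω)) := by
  classical
  constructor
  · intro hsep
    have h1 : Algebra.FormallyEtale k K := Algebra.FormallyEtale.of_isSeparable k K
    have h2 : Algebra.FormallyEtale Ω (Ω ⊗[k] K) := inferInstance
    have h3 : Module.Finite Ω (Ω ⊗[k] K) := inferInstance
    have hart : IsArtinianRing (Ω ⊗[k] K) := IsArtinianRing.of_finite Ω _
    let e := Algebra.FormallyEtale.equivPiOfIsSepClosed Ω (Ω ⊗[k] K)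
    have hfin : Finite (PrimeSpectrum (Ω ⊗[k] K)) := inferInstance
    let := Fintype.ofFinite (PrimeSpectrum (Ω ⊗[k] K))
    have hcard : Fintype.card (PrimeSpectrum (Ω ⊗[k] K)) = Module.finrank k K := by
      have h4 := e.toLinearEquiv.finrank_eq
      rw [Module.finrank_fintype_fun_eq_card] at h4
      rw [← h4, Module.finrank_baseChange]
    let σ : PrimeSpectrum (Ω ⊗[k] K) ≃ Fin (Module.finrank k K) :=
      Fintype.equivFinOfCardEq hcard
    exact ⟨e.trans (AlgEquiv.piCongrLeft Ω (fun _ => Ω) σ)⟩
  · rintro ⟨e⟩
    have h1 : Algebra.FormallyUnramified Ω (Fin (Module.finrank k K) → Ω) := inferInstance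
    have h2 : Algebra.FormallyUnramified Ω (Ω ⊗[k] K) := Algebra.FormallyUnramified.of_equiv e.symm
    have h3 : Algebra.FormallyUnramified k K :=
      Algebra.FormallyUnramified.of_formallyUnramified_tensorProduct_of_faithfullyFlat Ω
    exact Algebra.FormallyUnramified.isSeparable k K

end Groth.Agent.S18908
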