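import Groth.Statements.S18912
import Mathlib

set_option autoImplicit false
universe u
open CategoryTheory CategoryTheory.Limits AlgebraicGeometry
open TFNodal

namespace Groth.Agent.S18912


theorem germ_tau_res {X : Scheme.{u}} (F : X.Modules) (τ : F ⟶ Coh.structureModule X) (η : X)
    {U V : X.Opens} (i : V ⟶ U) (hV : η ∈ V) (a : Γ(F, U)) :
    (X.presheaf.germ V η hV (τ.app V (F.presheaf.map i.op a) : Γ(X, V)) : X.presheaf.stalk η) =
      X.presheaf.germ U η (i.le hV) (τ.app U a : Γ(X, U)) := by
  have h1 := congrArg (fun φ => φ a) (τ.mapPresheaf.naturality i.op)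
  simp only [Scheme.Modules.mapPresheaf_app] at h1
  have h2 : (τ.app V (F.presheaf.map i.op a) : Γ(X, V)) =
      X.presheaf.map i.op (τ.app U a : Γ(X, U)) := h1
  rw [h2]
  exact X.presheaf.germ_res_apply i η hV _

/-- A `d`-th root of unity in a domain containing an algebraically closed field comes from the
field. -/
theorem exists_root_of_unity (k : Type u) [Field k] [IsAlgClosed k] {K : Type u} [CommRing K]
    [IsDomain K] (ι : k →+* K) (d : ℕ) (hd : 1 ≤ d) (ζ : K) (hζ : ζ ^ d = 1) :
    ∃ ξ : k, ξ ^ d = 1 ∧ ι ξ = ζ := by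
  classical
  let p : Polynomial k := Polynomial.X ^ d - 1
  have hp0 : p ≠ 0 := Polynomial.X_pow_sub_C_ne_zero (by omega) (1 : k)
  have hmonic : p.Monic := Polynomial.monic_X_pow_sub_C (1 : k) (by omega)
  have hsplit : p.Splits := IsAlgClosed.splits p
  have hprod := hsplit.eq_prod_roots_of_monic hmonic
  have heval : Polynomial.eval₂ ι ζ p = 0 := by
    simp [p, hζ]
  rw [hprod, Polynomial.eval₂_multiset_prod, Multiset.map_map] at heval
  rw [Multiset.prod_eq_zero_iff] at heval
  obtain ⟨ξ, hξ, h0⟩ := Multiset.mem_map.mp heval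
  refine ⟨ξ, ?_, ?_⟩
  · have := (Polynomial.mem_roots hp0).mp hξ
    simp only [p, Polynomial.IsRoot, Polynomial.eval_sub, Polynomial.eval_pow, Polynomial.eval_X,
      Polynomial.eval_one] at this
    exact sub_eq_zero.mp this
  · simp only [Function.comp_apply, Polynomial.eval₂_sub, Polynomial.eval₂_X,
      Polynomial.eval₂_C] at h0
    exact (sub_eq_zero.mp h0).symm

/-- Let k be an algebraically closed field of characteristic zero, X a reduced scheme locally of finite
type over k, F an O_X-module, d ≥ 1 an integer and τ, τ' : F → O_X two O_X-linear maps whose d-th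
symmetric powers agree, in the sense that for every open U and all sections a_1, …, a_d of F over U
the products τ(a_1)⋯τ(a_d) and τ'(a_1)⋯τ'(a_d) coincide in Γ(U, O_X). Then for every point η of X
whose local ring is a field (a generic point of an irreducible component) there is a d-th root of
unity ξ in k such that, for every section a of F over an open containing η, the germ of τ'(a) at η
is ξ times the germ of τ(a). The published statement is for a coherent module on a projective nodal
curve and concludes that τ' = ξ τ with one root of unity ξ on each connected component; that form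
fails for the union of two lines meeting at a node, F the ideal of the node, τ the inclusion and τ'
equal to τ on one line and to −τ on the other (d = 2), so the conclusion is stated here at each
generic point, i.e. per irreducible component, which is what the stalkwise argument yields. -/
theorem result
    (k : Type u) [Field k] [IsAlgClosed k] [CharZero k]
    (X : Scheme.{u}) [X.Over (Spec (CommRingCat.of k))]
    [LocallyOfFiniteType (X ↘ Spec (CommRingCat.of k))] [AlgebraicGeometry.IsReduced X]
    (F : X.Modules) (τ τ' : F ⟶ Coh.structureModule X) (d : ℕ) (hd : 1 ≤ d)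
    (hS : ∀ (U : X.Opens) (a : Fin d → Γ(F, U)),
      (∏ i, (τ.app U (a i) : Γ(X, U)) : Γ(X, U)) = (∏ i, (τ'.app U (a i) : Γ(X, U)) : Γ(X, U)))
    (η : X) (hη : IsField (X.presheaf.stalk η)) :
    ∃ ξ : k, ξ ^ d = 1 ∧ ∀ (U : X.Opens) (hU : η ∈ U) (a : Γ(F, U)),
      (X.presheaf.germ U η hU (τ'.app U a : Γ(X, U)) : X.presheaf.stalk η) =
        Curv2.stalkMap k X η ξ * X.presheaf.germ U η hU (τ.app U a : Γ(X, U)) := by
  classical
  obtain ⟨d', rfl⟩ : ∃ d', d = d' + 1 := ⟨d - 1, by omega⟩
  have hdom : IsDomain (X.presheaf.stalk η) := hη.isDomain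
  -- germs
  let g : ∀ (U : X.Opens) (hU : η ∈ U) (a : Γ(F, U)), X.presheaf.stalk η :=
    fun U hU a => X.presheaf.germ U η hU (τ.app U a : Γ(X, U))
  let g' : ∀ (U : X.Opens) (hU : η ∈ U) (a : Γ(F, U)), X.presheaf.stalk η :=
    fun U hU a => X.presheaf.germ U η hU (τ'.app U a : Γ(X, U))
  -- the key identity
  have key : ∀ (U U₀ : X.Opens) (hU : η ∈ U) (hU₀ : η ∈ U₀) (a : Γ(F, U)) (a₀ : Γ(F, U₀)),
      g U hU a * g U₀ hU₀ a₀ ^ d' = g' U hU a * g' U₀ hU₀ a₀ ^ d' := by
    intro U U₀ hU hU₀ a a₀
    let V : X.Opens := U ⊓ U₀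
    have hV : η ∈ V := ⟨hU, hU₀⟩
    let i : V ⟶ U := homOfLE inf_le_left
    let i₀ : V ⟶ U₀ := homOfLE inf_le_right
    let b : Γ(F, V) := F.presheaf.map i.op a
    let b₀ : Γ(F, V) := F.presheaf.map i₀.op a₀
    have h := hS V (Fin.cons b (fun _ => b₀))
    rw [Fin.prod_univ_succ, Fin.prod_univ_succ] at h
    simp only [Fin.cons_zero, Fin.cons_succ, Finset.prod_const, Finset.card_univ,
      Fintype.card_fin] at h
    have h' := congrArg (fun z => (X.presheaf.germ V η hV z : X.presheaf.stalk η)) h
    simp only [map_mul, map_pow] at h'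
    rw [germ_tau_res F τ η i hV a, germ_tau_res F τ η i₀ hV a₀, germ_tau_res F τ' η i hV a,
      germ_tau_res F τ' η i₀ hV a₀] at h'
    exact h'
  have keypow : ∀ (U : X.Opens) (hU : η ∈ U) (a : Γ(F, U)),
      g U hU a ^ (d' + 1) = g' U hU a ^ (d' + 1) := by
    intro U hU a
    have := key U U hU hU a a
    rw [pow_succ', pow_succ']
    exact this
  by_cases hall : ∀ (U : X.Opens) (hU : η ∈ U) (a : Γ(F, U)), g U hU a = 0
  · refine ⟨1, one_pow _, fun U hU a => ?_⟩
    have h1 := keypow U hU a
    rw [hall U hU a, zero_pow (Nat.succ_ne_zero d')] at h1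
    have h2 : g' U hU a = 0 := pow_eq_zero_iff (Nat.succ_ne_zero d') |>.mp h1.symm
    show g' U hU a = Curv2.stalkMap k X η 1 * g U hU a
    rw [h2, hall U hU a, mul_zero]
  · push Not at hall
    obtain ⟨U₀, hU₀, a₀, hc⟩ := hall
    set c := g U₀ hU₀ a₀ with hcdef
    set c' := g' U₀ hU₀ a₀ with hc'def
    obtain ⟨e, he⟩ := hη.mul_inv_cancel hc
    have hcc' : c ^ (d' + 1) = c' ^ (d' + 1) := keypow U₀ hU₀ a₀
    set ζ := c' * e with hζdef
    have hζ : ζ ^ (d' + 1) = 1 := by
      rw [hζdef, mul_pow, ← hcc', ← mul_pow, he, one_pow]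
    obtain ⟨ξ, hξ1, hξ2⟩ := exists_root_of_unity k (Curv2.stalkMap k X η) (d' + 1) hd ζ hζ
    refine ⟨ξ, hξ1, fun U hU a => ?_⟩
    show g' U hU a = Curv2.stalkMap k X η ξ * g U hU a
    rw [hξ2]
    have h1 := key U U₀ hU hU₀ a a₀
    have h2 : g U hU a = g' U hU a * ζ ^ d' := by
      have := congrArg (fun z => z * e ^ d') h1
      simp only [mul_assoc, ← mul_pow] at this
      rw [he, one_pow, mul_one] at this
      exact this
    rw [h2]
    calc g' U hU a = g' U hU a * ζ ^ (d' + 1) := by rw [hζ, mul_one]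
      _ = ζ * (g' U hU a * ζ ^ d') := by ring

end Groth.Agent.S18912
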