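import Groth.Statements.S18916
import Groth.Agent.H94.TorsionFreeQuot
import Groth.Agent.H6.HomShRefl2
import Groth.Agent.H79.StructStalk

set_option autoImplicit false
universe u
open CategoryTheory CategoryTheory.Limits AlgebraicGeometry
open TFNodal

namespace Groth.Agent.S18916

/-- Let k be an algebraically closed field of characteristic zero, X a reduced proper curve over k (a
proper k-scheme of dimension one) without isolated points (no closed point is open, i.e. X is
one-dimensional at every point) and F a coherent O_X-module. Then the dual 𝓗om(F, O_X) is torsion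
free: no closed point of X is an associated point of it. -/
theorem result
    (k : Type u) [Field k] [IsAlgClosed k] [CharZero k]
    (X : Scheme.{u}) [X.Over (Spec (CommRingCat.of k))] [IsProper (X ↘ Spec (CommRingCat.of k))]
    [AlgebraicGeometry.IsReduced X] (hdim : topologicalKrullDim X = 1)
    (hpure : ∀ x : X, IsClosed ({x} : Set X) → ¬ IsOpen ({x} : Set X))
    (F : X.Modules) (hF : Coh.IsCoh F) (x : X) (hx : IsClosed ({x} : Set X)) :
    ¬ Curv2.IsAssPoint (RefHull.dual F) x := by
  haveI : IsLocallyNoetherian X :=
    LocallyOfFiniteType.isLocallyNoetherian (X ↘ Spec (CommRingCat.of k))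
  haveI : CompactSpace X :=
    QuasiCompact.compactSpace_of_compactSpace (X ↘ Spec (CommRingCat.of k))
  haveI : IsNoetherian X := {}
  haveI := Groth.Agent.H67.StalkLoc.isQuasicoherent_structureModule X
  intro hass
  -- transport to `Hom(F_x, O_x)`
  have h1 : IsAssociatedPrime (IsLocalRing.maximalIdeal (X.presheaf.stalk x))
      (RefHull.StalkHom F (Coh.structureModule X) x) :=
    (LinearEquiv.isAssociatedPrime_iff
      (Groth.Agent.H6.HomSh.stalkHomEquiv F (Coh.structureModule X) hF x)).1 hass
  rw [isAssociatedPrime_iff] at h1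
  obtain ⟨-, θ, hθ⟩ := h1
  have hmem : ∀ r : X.presheaf.stalk x,
      r ∈ IsLocalRing.maximalIdeal (X.presheaf.stalk x) ↔ r • θ = 0 := by
    intro r
    rw [hθ, Submodule.mem_colon_singleton, Submodule.mem_bot]
  have hθ0 : θ ≠ 0 := by
    intro h0
    have : (1 : X.presheaf.stalk x) ∈ IsLocalRing.maximalIdeal (X.presheaf.stalk x) := by
      rw [hmem, h0, smul_zero]
    exact (IsLocalRing.maximalIdeal.isMaximal _).ne_top ((Ideal.eq_top_iff_one _).2 this)
  obtain ⟨v, hv⟩ : ∃ v, θ v ≠ 0 := by
    by_contra hcon
    push_neg at hcon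
    exact hθ0 (LinearMap.ext hcon)
  set e := Groth.Agent.H79.StructStalk.structStalkEquiv X x with he
  set t : X.presheaf.stalk x := e.symm (θ v) with ht
  have ht0 : t ≠ 0 := by
    intro h0
    apply hv
    have := congrArg e h0
    rwa [ht, LinearEquiv.apply_symm_apply, map_zero] at this
  have hkill : ∀ r ∈ IsLocalRing.maximalIdeal (X.presheaf.stalk x), r * t = 0 := by
    intro r hr
    have h2 : r • θ = 0 := (hmem r).1 hr
    have h3 : r • θ v = 0 := by
      rw [← LinearMap.smul_apply, h2, LinearMap.zero_apply]
    have h4 : e.symm (r • θ v) = 0 := by rw [h3, map_zero]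
    rw [map_smul, smul_eq_mul] at h4
    exact h4
  -- `t` is a unit
  have htu : IsUnit t := by
    by_contra hnu
    have htm : t ∈ IsLocalRing.maximalIdeal (X.presheaf.stalk x) := hnu
    have h5 : t * t = 0 := hkill t htm
    have h5' : IsNilpotent t := ⟨2, by rw [pow_two]; exact h5⟩
    exact ht0 (IsReduced.eq_zero t h5')
  have hbot : IsLocalRing.maximalIdeal (X.presheaf.stalk x) = ⊥ := by
    rw [eq_bot_iff]
    intro r hr
    have h6 := hkill r hr
    rw [Submodule.mem_bot]
    exact (htu.mul_left_eq_zero).1 h6
  have hfield : IsField (X.presheaf.stalk x) :=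
    IsLocalRing.isField_iff_maximalIdeal_eq.2 hbot
  -- a closed point whose local ring is a field is open
  apply hpure x hx
  by_contra hnot
  have hdense : Dense ({x}ᶜ : Set X) := dense_compl_singleton_iff_not_open.2 hnot
  let U : X.Opens := ⟨{x}ᶜ, hx.isOpen_compl⟩
  have := Groth.Agent.H94.TorsionFreeQuot.mem_of_dense_of_isField_stalk U hdense x hfield
  exact this rfl

end Groth.Agent.S18916
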