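import Groth.Statements.S18918
import Groth.Agent.H75.FEtSections
import Groth.Agent.H67.CoverFree

set_option autoImplicit false
universe u
open CategoryTheory CategoryTheory.Limits AlgebraicGeometry
open FEt

namespace Groth.Agent.S18918

/-- Let f : X → Y be a finite étale morphism of degree n (f_*O_X locally free of rank n) and φ : X' → Y
a morphism from a nonempty connected scheme X'. Then the Y-morphisms X' → X (equivalently, the
sections of X ×_Y X' → X') form a finite set with at most n elements, and there are exactly n of
them if and only if the covering X ×_Y X' → X' is trivial, i.e. X ×_Y X' is isomorphic over X' to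
the disjoint union of n copies of X'. The source works with separated Noetherian schemes over an
algebraically closed field of characteristic zero; that setting is not needed for the statement. -/
theorem result
    {X Y X' : Scheme.{u}} (f : X ⟶ Y) [IsFinite f] [Etale f] (n : ℕ)
    (hdeg : FlatMod.IsFinLocFreeOfRank n ((Scheme.Modules.pushforward f).obj (Coh.structureModule X)))
    (φ : X' ⟶ Y) [Nonempty X'] [ConnectedSpace X'] :
    Finite (Over.mk φ ⟶ Over.mk f) ∧ Nat.card (Over.mk φ ⟶ Over.mk f) ≤ n ∧
      (Nat.card (Over.mk φ ⟶ Over.mk f) = n ↔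
        ∃ e : pullback f φ ≅ ∐ fun _ : Fin n => X',
          e.hom ≫ Sigma.desc (fun _ : Fin n => 𝟙 X') = pullback.snd f φ) := by
  have hcov : FinCov.IsCover f n :=
    (Groth.Agent.H67.CoverFree.isCover_iff f n).mpr ⟨inferInstance, hdeg⟩
  have hn : ∀ x, (pullback.snd f φ).finrank x = n := fun x => by
    rw [Scheme.Hom.finrank_pullback_snd]
    exact hcov.2 _
  -- morphisms over `Y` are sections of the base change
  let E : (Over.mk φ ⟶ Over.mk f) ≃ Groth.Agent.H75.FEtSections.Sec (pullback.snd f φ) :=
    { toFun := fun g => ⟨pullback.lift g.left (𝟙 X') (by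
          have := Over.w g
          simpa using this), pullback.lift_snd _ _ _⟩
      invFun := fun σ => Over.homMk (σ.1 ≫ pullback.fst f φ) (by
          change (σ.1 ≫ pullback.fst f φ) ≫ f = φ
          rw [Category.assoc, pullback.condition, ← Category.assoc, σ.2, Category.id_comp])
      left_inv := fun g => by
        apply Over.OverMorphism.ext
        exact pullback.lift_fst _ _ _
      right_inv := fun σ => by
        apply Subtype.ext
        apply pullback.hom_ext
        · exact pullback.lift_fst _ _ _
        · rw [pullback.lift_snd, σ.2] }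
  obtain ⟨hfin, hle⟩ := Groth.Agent.H75.FEtSections.finite_sec_and_card_le (pullback.snd f φ) n hn
  haveI : Finite (Over.mk φ ⟶ Over.mk f) := Finite.of_equiv _ E.symm
  refine ⟨inferInstance, ?_, ?_⟩
  · rw [Nat.card_congr E]
    exact hle
  · rw [Nat.card_congr E]
    constructor
    · intro hc
      obtain ⟨e, he⟩ :=
        (Groth.Agent.H75.FEtSections.isSplit_of_card_eq (pullback.snd f φ) n hn hc).exists_iso
      exact ⟨e, (Groth.Agent.H21.FEtSplit.eq_comp_desc e he).symm⟩
    · rintro ⟨e, he⟩
      have he' : ∀ i : Fin n, Sigma.ι (fun _ : Fin n => X') i ≫ e.inv ≫ pullback.snd f φ = 𝟙 X' := by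
        intro i
        rw [← he, Iso.inv_hom_id_assoc, Sigma.ι_desc]
      have hs := Groth.Agent.H21.FEtSplit.IsSplit.of_iso e he'
      exact le_antisymm hle
        (Groth.Agent.H75.FEtSections.le_card_of_isSplit (pullback.snd f φ) n hs)

end Groth.Agent.S18918
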