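import Groth.Statements.S18922
import Groth.Agent.H94.TorsionFreeGerm

set_option autoImplicit false
universe u
open CategoryTheory CategoryTheory.Limits AlgebraicGeometry
open TFNodal

namespace Groth.Agent.S18922

/-- Let k be an algebraically closed field of characteristic zero, X a reduced proper curve over k (a
proper k-scheme of dimension one) and F a coherent torsion free O_X-module (every stalk a torsion
free module over the local ring). Let x be a point of X and U an open subset containing x such that
every irreducible component of U passes through x, that is, every point of U whose local ring is a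
field specializes to x. Then the map from the sections of F over U to the stalk F_x is injective.
(The source states this for x a node of a connected nodal curve and U inside the union of the
irreducible components through x, meeting no other node.) -/
theorem result
    (k : Type u) [Field k] [IsAlgClosed k] [CharZero k]
    (X : Scheme.{u}) [X.Over (Spec (CommRingCat.of k))] [IsProper (X ↘ Spec (CommRingCat.of k))]
    [AlgebraicGeometry.IsReduced X] (hdim : topologicalKrullDim X = 1)
    (F : X.Modules) (hF : Coh.IsCoh F) (htF : TorSh.IsTorsionFree F)
    (x : X) (U : X.Opens) (hxU : x ∈ U)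
    (hU : ∀ y : X, y ∈ U → IsField (X.presheaf.stalk y) → x ∈ closure ({y} : Set X)) :
    Function.Injective (F.presheaf.germ U x hxU) := by
  haveI : IsLocallyNoetherian X :=
    LocallyOfFiniteType.isLocallyNoetherian (X ↘ Spec (CommRingCat.of k))
  haveI : F.IsQuasicoherent := hF.1
  rw [injective_iff_map_eq_zero]
  intro s hs0
  apply Groth.Agent.H94.TorsionFreeGerm.eq_zero_of_germ_eq_zero_of_isField F htF s
  intro η hη hfield
  have hxη : x ∈ closure ({η} : Set X) := hU η hη hfield
  -- `s` vanishes on a neighbourhood `W` of `x`
  have h0 : F.presheaf.germ U x hxU s = F.presheaf.germ U x hxU 0 := by rw [hs0, map_zero]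
  obtain ⟨W, hxW, iWU, iWU', hW⟩ := TopCat.Presheaf.germ_eq F.presheaf x hxU hxU s 0 h0
  have hηW : η ∈ W := by
    obtain ⟨z, hzW, hz⟩ := mem_closure_iff.1 hxη W W.2 hxW
    rw [Set.mem_singleton_iff] at hz
    rw [← hz]
    exact hzW
  have h1 : F.presheaf.germ W η hηW (F.presheaf.map iWU.op s) = F.presheaf.germ U η hη s :=
    TopCat.Presheaf.germ_res_apply F.presheaf iWU η hηW s
  rw [← h1, hW, map_zero, map_zero]

end Groth.Agent.S18922
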