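import Groth.Statements.S18924
import Groth.Agent.H83.ResHyp.One

set_option autoImplicit false
universe u
open ResHyp

namespace Groth.Agent.S18924

/-- Let F be a finite field with q elements and let n ≥ 3 be odd. Count the pairs (f, g) where f is a
binary quadratic form and g a binary form of degree n over F, recorded by their coefficient vectors
of lengths 3 and n + 1 (leading coefficients may vanish), whose resultant — the Sylvester
determinant of the two coefficient vectors with size parameters 2 and n — equals 1. The number of
such pairs is q ^ (n + 3) - q ^ (n + 1). (The published statement gives q ^ (n + 3) + q ^ (n + 1);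
for q = 3 and n = 3 the count is 648, not 810.) -/
theorem result (F : Type u) [Field F] [Fintype F] (n : ℕ)
    (hn : Odd n) (h3 : 3 ≤ n) :
    Nat.card {p : (Fin 3 → F) × (Fin (n + 1) → F) //
      Polynomial.resultant (∑ i : Fin 3, Polynomial.C (p.1 i) * Polynomial.X ^ (i : ℕ))
        (∑ j : Fin (n + 1), Polynomial.C (p.2 j) * Polynomial.X ^ (j : ℕ)) 2 n = 1} =
      Fintype.card F ^ (n + 3) - Fintype.card F ^ (n + 1) := by
  classical
  obtain ⟨k, rfl⟩ : ∃ k, n = k + 1 := ⟨n - 1, by omega⟩
  have hk : Even k := by
    rcases Nat.even_or_odd k with h | h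
    · exact h
    · exfalso
      have : Even (k + 1) := h.add_one
      exact (Nat.not_even_iff_odd.mpr hn) this
  rw [Nat.card_eq_fintype_card, Fintype.card_subtype]
  have h := Groth.Agent.H83.ResHyp.card_resultant_eq_one (F := F) k hk
  unfold Groth.Agent.H83.ResHyp.poly at h
  have hq : 2 ≤ Fintype.card F := Fintype.one_lt_card
  set q := Fintype.card F with hqdef
  have e1 : q ^ (k + 1 + 1) ≤ q ^ (k + 1 + 3) := Nat.pow_le_pow_right (by omega) (by omega)
  zify [e1]
  rw [h]
  unfold Groth.Agent.H83.ResHyp.qz
  rw [← hqdef]
  ring

end Groth.Agent.S18924
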