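import Groth.Statements.S18927
import Groth.Agent.H32.SchejaStorch

set_option autoImplicit false
universe u v
open W4c6secantcecovers

namespace Groth.Agent.S18927

open TensorProduct in
/-- Let R be a commutative ring, E = R^r the free module with its coordinate basis, S = R[X_1, …, X_r]
(the symmetric algebra of E), and N an R-module carrying R-linear operators φ_j (the action of the
j-th basis vector of E) and an R-bilinear form β with β(φ_j n, m) = β(n, φ_j m) for every j. On (ΛE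
⊗ S) ⊗ N — all terms Λ^k(S ⊗ E) ⊗ N of the Scheja–Storch complex at once — let δ be the differential
sending (e_1 ∧ ⋯ ∧ e_k) ⊗ s ⊗ n to Σ_i (-1)^(i-1) (e_1 ∧ ⋯ ê_i ⋯ ∧ e_k) ⊗ x(e_i) s ⊗ n + Σ_i (-1)^i
(e_1 ∧ ⋯ ê_i ⋯ ∧ e_k) ⊗ s ⊗ e_i · n, and pair a term u = ω ⊗ s ⊗ n of degree k with v = η ⊗ t ⊗ m by
⟨u, v⟩_k = (-1)^(k choose 2) β(n, m) · (ω ∧ η) ⊗ s t. Then the differential is adjoint to itself for
this pairing in complementary degrees: for u = (e_0 ∧ ⋯ ∧ e_k) ⊗ s ⊗ n of degree k + 1 ≤ r and v =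
(f_1 ∧ ⋯ ∧ f_(r-k)) ⊗ t ⊗ m of degree r - k, ⟨δ u, v⟩_k = ⟨u, δ v⟩_(k+1). (The source takes E
finitely generated projective and N a module over the ambient algebra with a pairing satisfying ⟨f,
g h⟩ = ⟨g f, h⟩; the proof runs on a basis, which is the form stated here, with the action of E
recorded by the operators φ_j.) -/
theorem result
    (R : Type u) [CommRing R] (r : ℕ) (N : Type v) [AddCommGroup N] [Module R N]
    (φ : Fin r → (N →ₗ[R] N)) (β : N →ₗ[R] N →ₗ[R] R)
    (hβ : ∀ (j : Fin r) (n m : N), β (φ j n) m = β n (φ j m))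
    (k : ℕ) (hk : k < r)
    (e : Fin (k + 1) → (Fin r → R)) (f : Fin (r - k) → (Fin r → R))
    (s t : MvPolynomial (Fin r) R) (n m : N) :
    W4c6secantcecovers.ssPair R r N β k
        (W4c6secantcecovers.ssDelta R r N φ ((ExteriorAlgebra.ιMulti R (k + 1) e ⊗ₜ[R] s) ⊗ₜ[R] n))
        ((ExteriorAlgebra.ιMulti R (r - k) f ⊗ₜ[R] t) ⊗ₜ[R] m) =
      W4c6secantcecovers.ssPair R r N β (k + 1)
        ((ExteriorAlgebra.ιMulti R (k + 1) e ⊗ₜ[R] s) ⊗ₜ[R] n)
        (W4c6secantcecovers.ssDelta R r N φ ((ExteriorAlgebra.ιMulti R (r - k) f ⊗ₜ[R] t) ⊗ₜ[R] m)) := by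
  classical
  have hr : r - k + (k + 1) = r + 1 := by omega
  set ω := ExteriorAlgebra.ιMulti R (k + 1) e with hω
  set η := ExteriorAlgebra.ιMulti R (r - k) f with hη
  -- wedge vanishes for degree reasons
  have hzero : ω * η = 0 := by
    rw [hω, hη, ExteriorAlgebra.ιMulti_mul_ιMulti]
    exact Groth.Agent.H32.SchejaStorch.ιMulti_eq_zero_of_lt R r (by omega) _
  have hkey : ∀ j : Fin r, W4c6secantcecovers.ssContr R r j ω * η =
      (-1 : R) ^ k • (ω * W4c6secantcecovers.ssContr R r j η) := by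
    intro j
    have h := Groth.Agent.H32.SchejaStorch.contr_ιMulti_mul R r j e η
    rw [← hω, hzero, map_zero] at h
    have h2 : W4c6secantcecovers.ssContr R r j ω * η =
        - ((-1 : R) ^ (k + 1) • (ω * W4c6secantcecovers.ssContr R r j η)) :=
      eq_neg_of_add_eq_zero_left h.symm
    rw [h2, pow_succ, mul_smul, ← neg_smul, ← mul_smul]
    congr 1
    ring
  have hch : (k + 1).choose 2 = k + k.choose 2 := by
    rw [Nat.choose_succ_succ, Nat.choose_one_right]
  have pair_tmul : ∀ (q : ℕ) (b b' : W4c6secantcecovers.SSB R r) (x y : N),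
      W4c6secantcecovers.ssPair R r N β q (b ⊗ₜ[R] x) (b' ⊗ₜ[R] y) =
        ((-1 : R) ^ (q.choose 2)) • (β x y • (b * b')) := by
    intro q b b' x y
    simp [W4c6secantcecovers.ssPair, W4c6secantcecovers.ssPairAux]
  have delta_tmul : ∀ (w : W4c6secantcecovers.SSLam R r) (p : MvPolynomial (Fin r) R) (x : N),
      W4c6secantcecovers.ssDelta R r N φ ((w ⊗ₜ[R] p) ⊗ₜ[R] x) =
        ∑ j : Fin r, (((W4c6secantcecovers.ssContr R r j w) ⊗ₜ[R] (MvPolynomial.X j * p)) ⊗ₜ[R] x
          + (-1 : R) • (((W4c6secantcecovers.ssContr R r j w) ⊗ₜ[R] p) ⊗ₜ[R] (φ j x))) := by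
    intro w p x
    simp [W4c6secantcecovers.ssDelta, W4c6secantcecovers.ssDKoszul, W4c6secantcecovers.ssDAct]
  rw [delta_tmul, delta_tmul, map_sum, LinearMap.sum_apply, map_sum]
  refine Finset.sum_congr rfl fun j _ => ?_
  rw [map_add, LinearMap.add_apply, map_add, map_smul, LinearMap.smul_apply, map_smul,
    pair_tmul, pair_tmul, pair_tmul, pair_tmul]
  simp only [Algebra.TensorProduct.tmul_mul_tmul]
  rw [hkey j, hch, hβ j n m, pow_add]
  simp only [TensorProduct.smul_tmul', smul_smul, mul_assoc, mul_left_comm]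
  congr 1
  · congr 1; ring
  · congr 1; ring

end Groth.Agent.S18927
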