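import Groth.Statements.S18929
import Groth.Agent.H94.DPow
import Groth.Agent.H94.WittGhost

set_option autoImplicit false
universe u
open DPow

namespace Groth.Agent.S18929

/-- Let p be a prime, n a natural number, B a commutative ring in which p^n = 0, and I an ideal of B
equipped with divided powers. There is a ring homomorphism θ from the truncated Witt vectors
W_n(B/I) to B such that, for every Witt vector x over B, θ applied to the truncation of the image of
x in W_n(B/I) equals Σ_{i<n} p^i x_i^(p^(n−i)); in particular this sum depends only on the residues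
of x_0, …, x_{n−1} modulo I. (The source works with a divided power thickening of an algebra over a
perfect field and also checks linearity over the Witt vectors of that field; only the ring
homomorphism is asserted here. θ is unique, the truncation-of-reduction map being surjective.) -/
theorem result (p : ℕ) [Fact p.Prime] (n : ℕ)
    {B : Type u} [CommRing B] (hp : (p : B) ^ n = 0) {I : Ideal B} (hI : DividedPowers I) :
    ∃ θ : TruncatedWittVector p n (B ⧸ I) →+* B, ∀ x : WittVector p B, θ (WittVector.truncate n (WittVector.map (Ideal.Quotient.mk I) x)) =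
        ∑ i : Fin n, (p : B) ^ (i : ℕ) * (x.coeff i) ^ (p ^ (n - i)) := by
  have hker : RingHom.ker (Groth.Agent.H94.redTrunc p n I) ≤
      RingHom.ker (WittVector.ghostComponent n : WittVector p B →+* B) := by
    intro x hx
    rw [Groth.Agent.H94.mem_ker_redTrunc] at hx
    rw [RingHom.mem_ker, Groth.Agent.H94.ghostComponent_eq_sum_fin p n hp]
    apply Finset.sum_eq_zero
    intro i _
    have h1 := Groth.Agent.H94.add_pow_sub_pow_mem hI (p ^ (n - i)) 0 (x.coeff i) (hx i)
    rw [zero_add, zero_pow (pow_ne_zero _ (Fact.out : p.Prime).ne_zero), sub_zero,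
      Ideal.mem_span_singleton_mul] at h1
    obtain ⟨z, _, hz⟩ := h1
    rw [← hz, Nat.cast_pow, ← mul_assoc, ← pow_add]
    have : (i : ℕ) + (n - i) = n := by have := i.isLt; omega
    rw [this, hp, zero_mul]
  refine ⟨RingHom.liftOfSurjective (Groth.Agent.H94.redTrunc p n I)
    (Groth.Agent.H94.redTrunc_surjective p n I) ⟨WittVector.ghostComponent n, hker⟩, ?_⟩
  intro x
  rw [← Groth.Agent.H94.redTrunc_apply, RingHom.liftOfSurjective_comp_apply]
  exact Groth.Agent.H94.ghostComponent_eq_sum_fin p n hp x

end Groth.Agent.S18929
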