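import Groth.Statements.S18930
import Groth.Agent.H94.WittGhost
import Mathlib.Tactic.Ring

set_option autoImplicit false
universe u
open DPow

namespace Groth.Agent.S18930

/-- Let p be a prime, n ≥ 1, B a commutative ring with p^n = 0 and A = B/pB. Let θ : W_n(A) → B be the
ring homomorphism which sends the reduction of a Witt vector (x_0, …, x_{n−1}) over B to Σ_{i<n} p^i
x_i^(p^(n−i)), let J_n be its kernel and let I_n be the set of a in W_n(A) whose zeroth component
satisfies a_0^(p^n) = 0. Then J_n + (p) ⊆ I_n. (In the source B is the ring of global sections of a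
scheme over the Witt vectors of length n of a perfect field.) -/
theorem result (p : ℕ) [Fact p.Prime] (n : ℕ) (hn : 0 < n)
    {B : Type u} [CommRing B] (hp : (p : B) ^ n = 0)
    (θ : TruncatedWittVector p n (B ⧸ (Ideal.span {(p : B)})) →+* B)
    (hθ : ∀ x : WittVector p B, θ (WittVector.truncate n (WittVector.map (Ideal.Quotient.mk (Ideal.span {(p : B)})) x)) =
        ∑ i : Fin n, (p : B) ^ (i : ℕ) * (x.coeff i) ^ (p ^ (n - i)))
    (a : TruncatedWittVector p n (B ⧸ (Ideal.span {(p : B)})))
    (ha : a ∈ RingHom.ker θ ⊔ Ideal.span {(p : TruncatedWittVector p n (B ⧸ (Ideal.span {(p : B)})))}) :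
    (TruncatedWittVector.coeff ⟨0, hn⟩ a) ^ (p ^ n) = 0 := by
  set J : Ideal B := Ideal.span {(p : B)} with hJ
  have hpJ : (Ideal.Quotient.mk J) (p : B) = 0 :=
    Ideal.Quotient.eq_zero_iff_mem.mpr (Ideal.mem_span_singleton_self _)
  obtain ⟨j, hj, c, hc, rfl⟩ := Submodule.mem_sup.mp ha
  obtain ⟨d, rfl⟩ := Ideal.mem_span_singleton'.mp hc
  obtain ⟨xj, rfl⟩ := Groth.Agent.H94.redTrunc_surjective p n J j
  obtain ⟨xd, rfl⟩ := Groth.Agent.H94.redTrunc_surjective p n J d
  have hsum : Groth.Agent.H94.redTrunc p n J xj + Groth.Agent.H94.redTrunc p n J xd * (p : TruncatedWittVector p n (B ⧸ J)) =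
      Groth.Agent.H94.redTrunc p n J (xj + xd * (p : WittVector p B)) := by
    rw [map_add, map_mul, map_natCast]
  rw [hsum, Groth.Agent.H94.redTrunc_coeff]
  have h0 : (xj + xd * (p : WittVector p B)).coeff 0 = xj.coeff 0 + xd.coeff 0 * (p : B) := by
    have := map_add (WittVector.constantCoeff (p := p) (R := B)) xj (xd * (p : WittVector p B))
    rw [map_mul, map_natCast] at this
    exact this
  change (Ideal.Quotient.mk J ((xj + xd * (p : WittVector p B)).coeff 0)) ^ (p ^ n) = 0
  rw [h0, map_add, map_mul, hpJ, mul_zero, add_zero]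
  -- now use θ (π xj) = 0
  rw [RingHom.mem_ker, Groth.Agent.H94.redTrunc_apply, hθ] at hj
  have h1 := congrArg (Ideal.Quotient.mk J) hj
  rw [map_sum, map_zero, Finset.sum_eq_single (⟨0, hn⟩ : Fin n)] at h1
  · simpa using h1
  · intro i _ hi
    have hi0 : (i : ℕ) ≠ 0 := fun h => hi (Fin.ext h)
    rw [map_mul, map_pow, hpJ, zero_pow hi0, zero_mul]
  · intro h
    exact absurd (Finset.mem_univ _) h

end Groth.Agent.S18930
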