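import Groth.Statements.S18931
import Groth.Agent.H94.WittTheta

set_option autoImplicit false
universe u
open DPow

namespace Groth.Agent.S18931

/-- Let p be a prime, n ≥ 1, B a commutative ring with p^n = 0 and A = B/pB, and assume that the p-th
power map of A is surjective. Let θ : W_n(A) → B be the ring homomorphism which sends the reduction
of a Witt vector (x_0, …, x_{n−1}) over B to Σ_{i<n} p^i x_i^(p^(n−i)). Then every a in W_n(A) with
a_0^(p^n) = 0 lies in ker θ + (p); together with the reverse inclusion, ker θ + (p) is exactly the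
set of such a. (In the source B is the ring of global sections of a scheme over the Witt vectors of
length n of a perfect field. The printed argument subtracts a single correction term, which suffices
for n ≤ 2; in general one corrects the components one at a time.) -/
theorem result (p : ℕ) [Fact p.Prime]
    (n : ℕ) (hn : 0 < n) {B : Type u} [CommRing B] (hp : (p : B) ^ n = 0)
    (hF : Function.Surjective (fun y : B ⧸ (Ideal.span {(p : B)}) => y ^ p))
    (θ : TruncatedWittVector p n (B ⧸ (Ideal.span {(p : B)})) →+* B)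
    (hθ : ∀ x : WittVector p B, θ (WittVector.truncate n (WittVector.map (Ideal.Quotient.mk (Ideal.span {(p : B)})) x)) =
        ∑ i : Fin n, (p : B) ^ (i : ℕ) * (x.coeff i) ^ (p ^ (n - i)))
    (a : TruncatedWittVector p n (B ⧸ (Ideal.span {(p : B)}))) (ha : (TruncatedWittVector.coeff ⟨0, hn⟩ a) ^ (p ^ n) = 0) :
    a ∈ RingHom.ker θ ⊔ Ideal.span {(p : TruncatedWittVector p n (B ⧸ (Ideal.span {(p : B)})))} := by
  rcases subsingleton_or_nontrivial B with hB | hB
  · have : a = 0 := by
      apply TruncatedWittVector.ext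
      intro i
      exact Subsingleton.elim _ _
    rw [this]
    exact Ideal.zero_mem _
  have hchar : CharP (B ⧸ Ideal.span {(p : B)}) p := Groth.Agent.H94.charP_quot p n hp
  have hpJ : (Ideal.Quotient.mk (Ideal.span {(p : B)})) (p : B) = 0 :=
    Ideal.Quotient.eq_zero_iff_mem.mpr (Ideal.mem_span_singleton_self _)
  obtain ⟨x, rfl⟩ := Groth.Agent.H94.redTrunc_surjective p n (Ideal.span {(p : B)}) a
  have hG : ∀ w : WittVector p B,
      θ (Groth.Agent.H94.redTrunc p n (Ideal.span {(p : B)}) w) = WittVector.ghostComponent n w := by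
    intro w
    rw [Groth.Agent.H94.redTrunc_apply, hθ, Groth.Agent.H94.ghostComponent_eq_sum_fin p n hp]
  obtain ⟨β, hβ⟩ : ∃ β : B, WittVector.ghostComponent n x = (p : B) ^ 1 * β := by
    have h1 : Ideal.Quotient.mk (Ideal.span {(p : B)}) (WittVector.ghostComponent n x) = 0 := by
      rw [Groth.Agent.H94.ghostComponent_eq_sum_fin p n hp, map_sum,
        Finset.sum_eq_single (⟨0, hn⟩ : Fin n)]
      · rw [Groth.Agent.H94.redTrunc_coeff] at ha
        simpa using ha
      · intro i _ hi
        have hi0 : (i : ℕ) ≠ 0 := fun h => hi (Fin.ext h)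
        rw [map_mul, map_pow, hpJ, zero_pow hi0, zero_mul]
      · intro h
        exact absurd (Finset.mem_univ _) h
    rw [Ideal.Quotient.eq_zero_iff_mem, Ideal.mem_span_singleton'] at h1
    obtain ⟨β, hβ⟩ := h1
    exact ⟨β, by rw [← hβ, pow_one, mul_comm]⟩
  obtain ⟨f, hf⟩ := Groth.Agent.H94.exists_tail p n hp hF (n - 1) 1 (by omega) β
  set z : WittVector p B := WittVector.mk p (fun i => if i = 0 then 0 else f i) with hz
  have hGz : WittVector.ghostComponent n z = (p : B) ^ 1 * β := by
    rw [Groth.Agent.H94.ghostComponent_eq_sum p n z, Finset.sum_range_succ, hp, zero_mul, add_zero,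
      Finset.range_eq_Ico, Finset.sum_eq_sum_Ico_succ_bot hn, ← hf]
    have h0 : z.coeff 0 = 0 := by simp [hz]
    rw [h0, zero_pow (pow_ne_zero _ (Fact.out : p.Prime).ne_zero), mul_zero, zero_add]
    refine Finset.sum_congr rfl fun i hi => ?_
    rw [Finset.mem_Ico] at hi
    have : z.coeff i = f i := by
      rw [hz, WittVector.coeff_mk, if_neg (by omega)]
    rw [this]
  rw [Submodule.mem_sup]
  refine ⟨Groth.Agent.H94.redTrunc p n (Ideal.span {(p : B)}) (x - z), ?_, Groth.Agent.H94.redTrunc p n (Ideal.span {(p : B)}) z, ?_, ?_⟩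
  · rw [RingHom.mem_ker, hG, map_sub, hβ, hGz, sub_self]
  · apply Groth.Agent.H94.mem_span_p_of_coeff_zero p n hn hF
    rw [Groth.Agent.H94.redTrunc_coeff]
    simp [hz]
  · rw [← map_add, sub_add_cancel]

end Groth.Agent.S18931
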