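import Groth.Statements.S18936
import Mathlib

set_option autoImplicit false
universe u
open CAlg

namespace Groth.Agent.S18936

/-- Let A be a Noetherian commutative ring, q a prime ideal of A and f an element of A whose image in
the localization A_q is a non-zero-divisor. Then there is an element b of A not in q such that the
image of f in A[1/b] is a non-zero-divisor. -/
theorem result {A : Type u} [CommRing A] [IsNoetherianRing A]
    (q : Ideal A) [q.IsPrime] (f : A)
    (hf : algebraMap A (Localization.AtPrime q) f ∈ nonZeroDivisors (Localization.AtPrime q)) :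
    ∃ b : A, b ∉ q ∧ algebraMap A (Localization.Away b) f ∈ nonZeroDivisors (Localization.Away b) := by
  classical
  -- the annihilator of `f`
  set K : Ideal A := (Ideal.span {f}).annihilator with hK
  have hKmem : ∀ k : A, k ∈ K ↔ k * f = 0 := by
    intro k
    rw [hK, Submodule.mem_annihilator_span_singleton, smul_eq_mul]
  have hfg : K.FG := IsNoetherian.noetherian K
  -- each element of `K` is killed by an element outside `q`
  have hkill : ∀ k ∈ K, ∃ s : A, s ∉ q ∧ s * k = 0 := by
    intro k hk
    have h0 : algebraMap A (Localization.AtPrime q) k = 0 := by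
      apply (mem_nonZeroDivisors_iff_right.mp hf)
      rw [← map_mul, (hKmem k).mp hk, map_zero]
    rw [IsLocalization.map_eq_zero_iff q.primeCompl] at h0
    obtain ⟨⟨s, hs⟩, hsk⟩ := h0
    exact ⟨s, hs, hsk⟩
  obtain ⟨S, hS⟩ := hfg
  choose! s hsq hsk using hkill
  refine ⟨∏ k ∈ S, s k, ?_, ?_⟩
  · intro hmem
    obtain ⟨k, hk, hkq⟩ := (Ideal.IsPrime.prod_mem_iff).mp hmem
    exact hsq k (hS ▸ Ideal.subset_span hk) hkq
  · set b := ∏ k ∈ S, s k with hb
    have hbK : ∀ k ∈ K, b * k = 0 := by
      intro k hk
      rw [← hS] at hk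
      refine Submodule.span_induction ?_ ?_ ?_ ?_ hk
      · intro x hx
        have hxK : x ∈ K := hS ▸ Ideal.subset_span hx
        rw [hb, ← Finset.mul_prod_erase S s hx, mul_comm (s x), mul_assoc, hsk x hxK, mul_zero]
      · simp
      · intro x y _ _ hx hy
        rw [mul_add, hx, hy, add_zero]
      · intro a x _ hx
        rw [smul_eq_mul, mul_left_comm, hx, mul_zero]
    rw [mem_nonZeroDivisors_iff_right]
    intro x hx
    obtain ⟨⟨a, ⟨_, m, rfl⟩⟩, rfl⟩ := IsLocalization.mk'_surjective (Submonoid.powers b) x
    rw [← IsLocalization.mk'_one (M := Submonoid.powers b) (Localization.Away b) f,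
      ← IsLocalization.mk'_mul, IsLocalization.mk'_eq_zero_iff] at hx
    obtain ⟨⟨_, l, rfl⟩, hc⟩ := hx
    rw [IsLocalization.mk'_eq_zero_iff]
    refine ⟨⟨b * b ^ l, l + 1, by simp only [pow_succ']⟩, ?_⟩
    simp only
    have : b ^ l * a ∈ K := by
      rw [hKmem]
      simp only at hc
      rw [← hc]; ring
    rw [mul_assoc]
    exact hbK _ this

end Groth.Agent.S18936
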