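import Groth.Statements.S18939
import Groth.Agent.H79.KoszulRel

set_option autoImplicit false
universe u
open LCI

namespace Groth.Agent.S18939

/-- Let R be a commutative ring, I a proper ideal of R and f_1, …, f_r a Koszul-regular sequence of
elements of I generating I. Then I/I² is a free R/I-module of rank r, with basis the classes of f_1,
…, f_r. -/
theorem result {R : Type u} [CommRing R] {I : Ideal R} (hI : I ≠ ⊤)
    (r : ℕ) (f : Fin r → I) (hf : LCI.IsKoszulRegularSeq R (List.ofFn (fun i => (f i : R))))
    (hfI : Ideal.span (Set.range (fun i => (f i : R))) = I) :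
    ∃ b : Module.Basis (Fin r) (R ⧸ I) I.Cotangent, ∀ i, b i = I.toCotangent (f i) := by
  classical
  let g : Fin r → R := fun i => (f i : R)
  have hH : CategoryTheory.Limits.IsZero ((Koszul.koszul R (List.ofFn g)).homology (-1)) := hf (-1) (by norm_num)
  have hrel : ∀ a : Fin r → R, ∑ i, a i * g i = 0 → ∀ i, a i ∈ I := by
    intro a ha i
    have := Groth.Agent.H79.KoszulRel.rel_coeff_mem_ofFn g hH a ha i
    rwa [hfI] at this
  -- scalar compatibility
  have hsm : ∀ (a : R) (y : I.Cotangent), (Ideal.Quotient.mk I a) • y = a • y := by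
    intro a y
    rfl
  have hsum : ∀ a : Fin r → R, ∑ i, (Ideal.Quotient.mk I (a i)) • I.toCotangent (f i) =
      I.toCotangent (∑ i, a i • f i) := by
    intro a
    rw [map_sum]
    apply Finset.sum_congr rfl
    intro i _
    rw [hsm, map_smul]
  have hval : ∀ a : Fin r → R, ((∑ i, a i • f i : I) : R) = ∑ i, a i * g i := by
    intro a
    rw [Submodule.coe_sum]
    rfl
  have hli : LinearIndependent (R ⧸ I) (fun i => I.toCotangent (f i)) := by
    rw [Fintype.linearIndependent_iff]
    intro c hc i
    choose a ha using fun i => Ideal.Quotient.mk_surjective (c i)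
    have hc' : ∑ i, (Ideal.Quotient.mk I (a i)) • I.toCotangent (f i) = 0 := by
      rw [← hc]
      apply Finset.sum_congr rfl
      intro i _
      rw [ha]
    rw [hsum, Ideal.toCotangent_eq_zero, hval, pow_two] at hc'
    have hc2 : ∑ i, a i * g i ∈ I • Submodule.span R (Set.range g) := by
      rw [show Submodule.span R (Set.range g) = I from hfI]
      exact hc'
    rw [Submodule.mem_ideal_smul_span_iff_exists_sum] at hc2
    obtain ⟨b, hb, hbs⟩ := hc2
    rw [Finsupp.sum_fintype _ _ (fun i => by simp)] at hbs
    have h0 : ∑ i, (a i - b i) * g i = 0 := by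
      simp only [sub_mul, Finset.sum_sub_distrib]
      rw [sub_eq_zero]
      exact hbs.symm
    have h1 := hrel _ h0 i
    have h2 : a i ∈ I := by
      have := I.add_mem h1 (hb i)
      rwa [sub_add_cancel] at this
    rw [← ha i]
    exact Ideal.Quotient.eq_zero_iff_mem.mpr h2
  have hsp : ⊤ ≤ Submodule.span (R ⧸ I) (Set.range fun i => I.toCotangent (f i)) := by
    intro y _
    obtain ⟨x, rfl⟩ := I.toCotangent_surjective y
    have hx : (x : R) ∈ Ideal.span (Set.range g) := by
      rw [show Ideal.span (Set.range g) = I from hfI]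
      exact x.2
    rw [Ideal.mem_span_range_iff_exists_fun] at hx
    obtain ⟨c, hc⟩ := hx
    have hx' : x = ∑ i, c i • f i := by
      apply Subtype.ext
      rw [hval, hc]
    rw [hx', ← hsum]
    apply Submodule.sum_mem
    intro i _
    exact Submodule.smul_mem _ _ (Submodule.subset_span ⟨i, rfl⟩)
  refine ⟨Module.Basis.mk hli hsp, ?_⟩
  intro i
  rw [Module.Basis.mk_apply]

end Groth.Agent.S18939
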