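import Groth.Statements.S1894
import Groth.Agent.H40.GQ.CompactGen
import Groth.Agent.H40.GQ.ClosureImage
import Groth.Agent.H40.GQ.Orbit
import Mathlib.AlgebraicGeometry.Morphisms.UniversallyOpen

set_option autoImplicit false
universe u
open CategoryTheory CategoryTheory.Limits AlgebraicGeometry
open Grpd

namespace Groth.Agent.S1894

/-- Let (U, R, s, t, c) be a groupoid scheme over S with s, t quasi-compact and flat and U
quasi-separated, and W ⊆ U a quasi-compact open. Then there are an R-invariant open V (s⁻¹V = t⁻¹V)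
and a quasi-compact open W' with W ⊆ V ⊆ W'. (A groupoid scheme carries U, R, s, t, c, e, i over S
with the groupoid axioms on T-points; 'finite locally free' is finite, flat and locally of finite
presentation; C ⊂ Γ(U) is the ring of functions a with s♯(a) = t♯(a) and M = Spec C.) -/
theorem result (S : Scheme.{u}) (G : Grpd.GroupoidScheme S) [QuasiCompact G.s] [Flat G.s] [QuasiCompact G.t] [Flat G.t] [QuasiSeparatedSpace G.U] (W : G.U.Opens) (hW : IsCompact (W : Set G.U)) : ∃ V W' : G.U.Opens, G.s ⁻¹ᵁ V = G.t ⁻¹ᵁ V ∧ IsCompact (W' : Set G.U) ∧ W ≤ V ∧ V ≤ W' := by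
  classical
  -- the saturation of `W` is compact and contains `W`
  have hE : IsCompact (⇑G.t '' (⇑G.s ⁻¹' (W : Set G.U))) :=
    (QuasiCompact.isCompact_preimage (f := G.s) _ W.isOpen hW).image G.t.continuous
  obtain ⟨W', hW', hEW', -⟩ := Groth.Agent.H40.GQ.exists_compact_open_of_notMem _ hE
    (fun _ => True) (fun e _ => ⟨⊤, trivial, fun _ _ => trivial⟩)
  -- the saturation `T` of the complement of `W'`
  set T : Set G.U := ⇑G.t '' (⇑G.s ⁻¹' ((W' : Set G.U)ᶜ)) with hT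
  have hZT : (W' : Set G.U)ᶜ ⊆ T := by
    intro z hz
    obtain ⟨r, h1, h2⟩ := Groth.Agent.H40.GQ.orb_refl G z
    exact ⟨r, by rw [Set.mem_preimage, h1]; exact hz, h2⟩
  have hTW : Disjoint (W : Set G.U) T := by
    rw [Set.disjoint_left]
    rintro w hw ⟨r, hr, rfl⟩
    apply hr
    apply hEW'
    obtain ⟨r', h1, h2⟩ := Groth.Agent.H40.GQ.Orb.symm ⟨r, rfl, rfl⟩
    exact ⟨r', by rw [Set.mem_preimage, h1]; exact hw, h2⟩
  have hTinv : ∀ x y : G.U, Groth.Agent.H40.GQ.Orb G x y → x ∈ T → y ∈ T := by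
    rintro x y hxy ⟨ρ, hρ, rfl⟩
    obtain ⟨c, h1, h2⟩ := Groth.Agent.H40.GQ.Orb.trans ⟨ρ, rfl, rfl⟩ hxy
    exact ⟨c, by rw [Set.mem_preimage, h1]; exact hρ, h2⟩
  have hcl : ∀ x y : G.U, Groth.Agent.H40.GQ.Orb G x y → x ∈ closure T → y ∈ closure T := by
    intro x y hxy hx
    obtain ⟨r, rfl, rfl⟩ := hxy
    obtain ⟨z, hz, hzx⟩ := Groth.Agent.H40.GQ.exists_specializes_of_mem_closure_image G.t
      (⇑G.s ⁻¹' ((W' : Set G.U)ᶜ)) (W'.isOpen.isClosed_compl.preimage G.s.continuous) _ hx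
    obtain ⟨r', hr'r, hr'⟩ := Flat.generalizingMap G.s hzx
    have h1 : G.t r' ∈ T := hTinv _ _ ⟨r', rfl, rfl⟩ (hr' ▸ ⟨z, hz, rfl⟩)
    exact (hr'r.map G.t.continuous).mem_closed isClosed_closure (subset_closure h1)
  refine ⟨⟨(closure T)ᶜ, isClosed_closure.isOpen_compl⟩, W', ?_, hW', ?_, ?_⟩
  · ext r
    change G.s r ∈ (closure T)ᶜ ↔ G.t r ∈ (closure T)ᶜ
    rw [Set.mem_compl_iff, Set.mem_compl_iff, not_iff_not]
    exact ⟨hcl _ _ ⟨r, rfl, rfl⟩, hcl _ _ (Groth.Agent.H40.GQ.Orb.symm ⟨r, rfl, rfl⟩)⟩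
  · intro w hw hwT
    exact (hTW.closure_right W.isOpen).le_bot ⟨hw, hwT⟩
  · intro v hv
    by_contra hvW'
    exact hv (subset_closure (hZT hvW'))

end Groth.Agent.S1894
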