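import Groth.Statements.S18942
import Mathlib

set_option autoImplicit false
universe u
open DPow

namespace Groth.Agent.S18942


theorem frobSymm_pow_apply (p : ℕ) [Fact p.Prime] (k : Type u) [CommRing k] [CharP k p]
    [PerfectRing k p] (i : ℕ) (z : k) :
    ((frobeniusEquiv k p).symm ^ i) (z ^ p ^ i) = z := by
  induction i generalizing z with
  | zero => simp
  | succ i ih =>
    rw [pow_succ ((frobeniusEquiv k p).symm) i, RingAut.mul_apply, pow_succ p i, pow_mul,
      frobeniusEquiv_symm_pow, ih]

theorem key (p : ℕ) [Fact p.Prime]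
    (k : Type u) [Field k] [CharP k p] [PerfectRing k p] (n : ℕ) (x : WittVector p k)
    (y : Fin n → WittVector p k) (hy : ∀ i : Fin n, ((y i).coeff 0) ^ (p ^ n) = x.coeff i) :
    (p : WittVector p k) ^ n ∣
      x - ∑ i : Fin n, (p : WittVector p k) ^ (i : ℕ) * (y i) ^ (p ^ (n - i)) := by
  cases n with
  | zero => simp
  | succ m =>
    have h1 := WittVector.dvd_sub_sum_teichmuller_iterateFrobeniusEquiv_coeff x m
    have hIic : Finset.Iic m = Finset.range (m + 1) := by
      ext j; simp
    rw [hIic, ← Fin.sum_univ_eq_sum_range (fun i => WittVector.teichmuller p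
        (((frobeniusEquiv k p).symm ^ i) (x.coeff i)) * (p : WittVector p k) ^ i) (m + 1)] at h1
    have h2 : (p : WittVector p k) ^ (m + 1) ∣
        (∑ i : Fin (m + 1), WittVector.teichmuller p
          (((frobeniusEquiv k p).symm ^ (i : ℕ)) (x.coeff i)) * (p : WittVector p k) ^ (i : ℕ)) -
        ∑ i : Fin (m + 1), (p : WittVector p k) ^ (i : ℕ) * (y i) ^ (p ^ (m + 1 - i)) := by
      rw [← Finset.sum_sub_distrib]
      refine Finset.dvd_sum (fun i _ => ?_)
      have hi : (i : ℕ) ≤ m := Nat.lt_succ_iff.mp i.2
      set b := (y i).coeff 0 with hb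
      have ha : ((frobeniusEquiv k p).symm ^ (i : ℕ)) (x.coeff i) = b ^ p ^ (m + 1 - i) := by
        rw [← hy i, show p ^ (m + 1) = p ^ (m + 1 - i) * p ^ (i : ℕ) by
          rw [← pow_add]; congr 1; omega, pow_mul, frobSymm_pow_apply]
      rw [ha, map_pow]
      have hdiv : (p : WittVector p k) ∣ WittVector.teichmuller p b - y i := by
        rw [← Ideal.mem_span_singleton, WittVector.mem_span_p_iff_coeff_zero_eq_zero]
        have h5 := map_sub (WittVector.constantCoeff (p := p) (R := k))
          (WittVector.teichmuller p b) (y i)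
        simp only [WittVector.constantCoeff_apply] at h5
        rw [h5, WittVector.teichmuller_coeff_zero, hb, sub_self]
      have h3 := dvd_sub_pow_of_dvd_sub hdiv (m + 1 - i)
      have h4 : (p : WittVector p k) ^ (m + 1 - i) ∣
          WittVector.teichmuller p b ^ p ^ (m + 1 - i) - y i ^ p ^ (m + 1 - i) :=
        dvd_trans (pow_dvd_pow _ (Nat.le_succ _)) h3
      have e : WittVector.teichmuller p b ^ p ^ (m + 1 - i) * (p : WittVector p k) ^ (i : ℕ) -
          (p : WittVector p k) ^ (i : ℕ) * y i ^ p ^ (m + 1 - i) =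
          (p : WittVector p k) ^ (i : ℕ) *
            (WittVector.teichmuller p b ^ p ^ (m + 1 - i) - y i ^ p ^ (m + 1 - i)) := by ring
      rw [e]
      have e2 : (p : WittVector p k) ^ (m + 1) =
          (p : WittVector p k) ^ (i : ℕ) * (p : WittVector p k) ^ (m + 1 - i) := by
        rw [← pow_add, Nat.add_sub_cancel' (hi.trans (Nat.le_succ m))]
      rw [e2]
      exact mul_dvd_mul_left _ h4
    have := dvd_add h1 h2
    rwa [sub_add_sub_cancel] at this

/-- Let p be a prime, k a perfect field of characteristic p, n a natural number and x an element of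
W_n(k), written here as the truncation of a Witt vector x over k. For any Witt vectors y_0, …,
y_{n−1} over k lifting the components of x under the map y ↦ (y_0)^(p^n) (that is, (y_i)_0^(p^n) =
x_i), one has x = Σ_{i<n} p^i y_i^(p^(n−i)) in W_n(k). -/
theorem result (p : ℕ) [Fact p.Prime]
    (k : Type u) [Field k] [CharP k p] [PerfectRing k p] (n : ℕ) (x : WittVector p k)
    (y : Fin n → WittVector p k) (hy : ∀ i : Fin n, ((y i).coeff 0) ^ (p ^ n) = x.coeff i) :
    WittVector.truncate n x =
      WittVector.truncate n (∑ i : Fin n, (p : WittVector p k) ^ (i : ℕ) * (y i) ^ (p ^ (n - i))) := by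
  obtain ⟨c, hc⟩ := key p k n x y hy
  have h0 : WittVector.truncate n (x - ∑ i : Fin n, (p : WittVector p k) ^ (i : ℕ) *
      (y i) ^ (p ^ (n - i))) = 0 := by
    rw [hc]
    ext i
    rw [WittVector.coeff_truncate, mul_comm, WittVector.mul_pow_charP_coeff_zero c i.2,
      TruncatedWittVector.coeff_zero]
  rw [map_sub, sub_eq_zero] at h0
  exact h0

end Groth.Agent.S18942
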