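import Groth.Statements.S18943
import Mathlib

set_option autoImplicit false
open scoped ContDiff
open CInfGerm

namespace Groth.Agent.S18943


open MeasureTheory in
/-- The parametric integral `∫₀¹ t^k φ(t x) dt`. -/
noncomputable def G (φ : ℝ → ℝ) (k : ℕ) (x : ℝ) : ℝ := ∫ t in (0:ℝ)..1, t ^ k * φ (t * x)

theorem G_continuous (φ : ℝ → ℝ) (hφ : Continuous φ) (k : ℕ) : Continuous (G φ k) := by
  unfold G
  apply intervalIntegral.continuous_parametric_intervalIntegral_of_continuous'
  exact (continuous_snd.pow k).mul (hφ.comp (continuous_snd.mul continuous_fst))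

open MeasureTheory in
theorem G_hasDerivAt (φ : ℝ → ℝ) (hφ : ContDiff ℝ ∞ φ) (k : ℕ) (x₀ : ℝ) :
    HasDerivAt (G φ k) (G (deriv φ) (k + 1) x₀) x₀ := by
  have hφc : Continuous φ := hφ.continuous
  have hφd : Differentiable ℝ φ := hφ.differentiable (by simp)
  have hφ' : Continuous (deriv φ) := hφ.continuous_deriv (by simp)
  obtain ⟨M, hM⟩ : ∃ M, ∀ u ∈ Metric.closedBall (0:ℝ) (|x₀| + 1), ‖deriv φ u‖ ≤ M :=
    (isCompact_closedBall _ _).exists_bound_of_continuousOn hφ'.continuousOn
  have key := intervalIntegral.hasDerivAt_integral_of_dominated_loc_of_deriv_le (μ := volume)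
    (a := 0) (b := 1) (F := fun x t => t ^ k * φ (t * x))
    (F' := fun x t => t ^ (k + 1) * deriv φ (t * x)) (x₀ := x₀) (s := Metric.ball x₀ 1)
    (bound := fun _ => M) (Metric.ball_mem_nhds x₀ one_pos) ?_ ?_ ?_ ?_ ?_ ?_
  · exact key.2
  · refine Filter.Eventually.of_forall (fun x => ?_)
    exact ((continuous_id.pow k).mul (hφc.comp (continuous_id.mul continuous_const))).aestronglyMeasurable
  · exact ((continuous_id.pow k).mul (hφc.comp (continuous_id.mul continuous_const))).intervalIntegrable _ _
  · exact ((continuous_id.pow (k + 1)).mul (hφ'.comp (continuous_id.mul continuous_const))).aestronglyMeasurable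
  · refine Filter.Eventually.of_forall (fun t ht x hx => ?_)
    rw [Set.uIoc_of_le zero_le_one] at ht
    have ht1 : |t| ≤ 1 := by rw [abs_le]; constructor <;> linarith [ht.1, ht.2]
    have hx1 : |x| ≤ |x₀| + 1 := by
      have : |x - x₀| < 1 := by simpa [Real.dist_eq] using hx
      have := abs_sub_abs_le_abs_sub x x₀
      linarith
    have hmem : t * x ∈ Metric.closedBall (0:ℝ) (|x₀| + 1) := by
      rw [mem_closedBall_zero_iff, Real.norm_eq_abs, abs_mul]
      calc |t| * |x| ≤ 1 * (|x₀| + 1) := mul_le_mul ht1 hx1 (abs_nonneg _) zero_le_one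
        _ = |x₀| + 1 := one_mul _
    have h1 := hM _ hmem
    have hM0 : 0 ≤ M := le_trans (norm_nonneg _) h1
    rw [norm_mul, norm_pow, Real.norm_eq_abs]
    calc |t| ^ (k + 1) * ‖deriv φ (t * x)‖ ≤ 1 * M :=
          mul_le_mul (pow_le_one₀ (abs_nonneg _) ht1) h1 (norm_nonneg _) zero_le_one
      _ = M := one_mul _
  · exact intervalIntegrable_const
  · refine Filter.Eventually.of_forall (fun t _ x _ => ?_)
    have h1 : HasDerivAt (fun x => t * x) t x := by
      simpa using (hasDerivAt_id x).const_mul t
    have h2 : HasDerivAt (fun x => φ (t * x)) (deriv φ (t * x) * t) x :=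
      (hφd (t * x)).hasDerivAt.comp x h1
    have h3 := h2.const_mul (t ^ k)
    have e : t ^ (k + 1) * deriv φ (t * x) = t ^ k * (deriv φ (t * x) * t) := by ring
    show HasDerivAt (fun x => t ^ k * φ (t * x)) (t ^ (k + 1) * deriv φ (t * x)) x
    rw [e]
    exact h3

theorem contDiff_infty_deriv (φ : ℝ → ℝ) (hφ : ContDiff ℝ ∞ φ) : ContDiff ℝ ∞ (deriv φ) :=
  (contDiff_infty_iff_deriv.mp hφ).2

theorem G_contDiff : ∀ (n : ℕ) (φ : ℝ → ℝ), ContDiff ℝ ∞ φ → ∀ k : ℕ, ContDiff ℝ n (G φ k) := by
  intro n
  induction n with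
  | zero =>
    intro φ hφ k
    exact contDiff_zero.mpr (G_continuous φ hφ.continuous k)
  | succ n ih =>
    intro φ hφ k
    have hderiv : deriv (G φ k) = G (deriv φ) (k + 1) :=
      funext fun x => (G_hasDerivAt φ hφ k x).deriv
    have : ((n + 1 : ℕ) : WithTop ℕ∞) = (n : WithTop ℕ∞) + 1 := by push_cast; rfl
    rw [this, contDiff_succ_iff_deriv]
    refine ⟨fun x => (G_hasDerivAt φ hφ k x).differentiableAt, ?_, ?_⟩
    · intro h; exact absurd h (by simp)
    · rw [hderiv]
      exact ih (deriv φ) (contDiff_infty_deriv φ hφ) (k + 1)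

/-- Let f be an infinitely differentiable real-valued function on the real line with f(0) = 0. Then f(x)
= x·g(x) for an infinitely differentiable function g. (The source phrases this for germs at 0: the
maximal ideal of the local ring of germs of smooth functions at the origin is generated by the
coordinate t; the global form stated here is what its argument, smooth extension of f(x)/x across 0,
gives.) -/
theorem result (f : ℝ → ℝ) (hf : ContDiff ℝ ∞ f) (h0 : f 0 = 0) :
    ∃ g : ℝ → ℝ, ContDiff ℝ ∞ g ∧ ∀ x : ℝ, f x = x * g x := by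
  refine ⟨G (deriv f) 0, ?_, ?_⟩
  · rw [contDiff_infty]
    intro n
    exact G_contDiff n (deriv f) (contDiff_infty_deriv f hf) 0
  · intro x
    have hfd : Differentiable ℝ f := hf.differentiable (by simp)
    have hf' : Continuous (deriv f) := hf.continuous_deriv (by simp)
    have hder : ∀ t ∈ Set.uIcc (0:ℝ) 1, HasDerivAt (fun t => f (t * x)) (deriv f (t * x) * x) t := by
      intro t _
      have h1 : HasDerivAt (fun t => t * x) x t := by
        simpa using (hasDerivAt_id t).mul_const x
      exact (hfd (t * x)).hasDerivAt.comp t h1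
    have hint : IntervalIntegrable (fun t => deriv f (t * x) * x) MeasureTheory.volume 0 1 :=
      ((hf'.comp (continuous_id.mul continuous_const)).mul continuous_const).intervalIntegrable _ _
    have hftc := intervalIntegral.integral_eq_sub_of_hasDerivAt hder hint
    simp only [one_mul, zero_mul, h0, sub_zero] at hftc
    unfold G
    rw [← intervalIntegral.integral_const_mul, ← hftc]
    refine intervalIntegral.integral_congr (fun t _ => ?_)
    simp only [pow_zero, one_mul]
    ring

end Groth.Agent.S18943
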