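import Groth.Statements.S18946
import Mathlib

set_option autoImplicit false
universe u
open scoped BigOperators
open InvQ

namespace Groth.Agent.S18946

section Aux
open MvPolynomial

variable {k : Type u} [Field k] {N : ℕ}

theorem prod_X_pow' (m : Fin N →₀ ℕ) :
    (∏ i : Fin N, (X i : MvPolynomial (Fin N) k) ^ m i) = monomial m 1 := by
  rw [monomial_eq, Finsupp.prod_fintype _ _ (fun i => pow_zero _)]
  simp

theorem scale_monomial (σ : Fin N → kˣ) (m : Fin N →₀ ℕ) (a : k) :
    aeval (fun i => C (σ i : k) * X i) (monomial m a) =
      monomial m (a * ∏ i, (σ i : k) ^ m i) := by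
  rw [aeval_monomial, Finsupp.prod_fintype _ _ (fun i => pow_zero _)]
  simp only [mul_pow, Finset.prod_mul_distrib]
  rw [prod_X_pow', algebraMap_eq]
  simp only [← map_pow, ← map_prod]
  rw [← mul_assoc, ← map_mul, C_mul_monomial, mul_one]

theorem scale_coeff (σ : Fin N → kˣ) (f : MvPolynomial (Fin N) k) (m : Fin N →₀ ℕ) :
    coeff m (aeval (fun i => C (σ i : k) * X i) f) = coeff m f * ∏ i, (σ i : k) ^ m i := by
  induction f using MvPolynomial.induction_on' with
  | monomial m' a =>
    rw [scale_monomial, coeff_monomial, coeff_monomial]
    split_ifs with h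
    · rw [h]
    · rw [zero_mul]
  | add p q hp hq =>
    rw [map_add, coeff_add, coeff_add, hp, hq, add_mul]

end Aux


/-- Let k be an algebraically closed field of characteristic zero and n a natural number, and let the
torus of (n+1)-tuples of units of k with product 1 act on the polynomial ring k[t_0, ..., t_n] by
rescaling each variable t_i by the i-th unit. A polynomial is fixed by every such rescaling if and
only if it lies in the k-subalgebra generated by the product t_0 t_1 ... t_n. (This is the
computation of the ring of functions on affine (n+1)-space invariant under the maximal diagonal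
torus of the special linear group, identified with the polynomial ring in the single coordinate t =
t_0 ... t_n of the line it maps to by the product map; invariance is tested on k-valued points of
the torus, which over an infinite field is the same as invariance under the group scheme.) -/
theorem result
    (k : Type u) [Field k] [IsAlgClosed k] [CharZero k] (n : ℕ)
    (f : MvPolynomial (Fin (n + 1)) k) :
    (∀ σ : Fin (n + 1) → kˣ, ∏ i, (σ i : k) = 1 →
        MvPolynomial.aeval (fun i => MvPolynomial.C (σ i : k) * MvPolynomial.X i) f = f) ↔
      f ∈ Algebra.adjoin k ({∏ i : Fin (n + 1), MvPolynomial.X i} : Set (MvPolynomial (Fin (n + 1)) k)) := by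
  classical
  constructor
  · intro hinv
    have hexp : ∀ m ∈ f.support, ∀ i j, m i = m j := by
      intro m hm i j
      have hcm : MvPolynomial.coeff m f ≠ 0 := MvPolynomial.mem_support_iff.mp hm
      by_cases hij : i = j
      · rw [hij]
      let two : kˣ := Units.mk0 2 two_ne_zero
      let σ : Fin (n + 1) → kˣ := Function.update (Function.update (fun _ => 1) i two) j two⁻¹
      have hσi : σ i = two := by simp [σ, hij]
      have hσj : σ j = two⁻¹ := by simp [σ]
      have hσl : ∀ l, l ≠ i ∧ l ≠ j → σ l = 1 := by
        intro l hl
        simp [σ, hl.1, hl.2]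
      have hprod : ∏ l, (σ l : k) = 1 := by
        rw [Fintype.prod_eq_mul i j hij (fun l hl => by rw [hσl l hl]; rfl), hσi, hσj]
        simp
      have h2 := congrArg (MvPolynomial.coeff m) (hinv σ hprod)
      rw [scale_coeff] at h2
      have h3 : ∏ l, (σ l : k) ^ m l = 1 :=
        mul_left_cancel₀ hcm (h2.trans (mul_one _).symm)
      rw [Fintype.prod_eq_mul i j hij (fun l hl => by rw [hσl l hl]; simp), hσi, hσj] at h3
      have h4 : ((2 : k)) ^ m i = (2 : k) ^ m j := by
        have h2ne : (2 : k) ^ m j ≠ 0 := pow_ne_zero _ two_ne_zero
        simp only [two, Units.val_mk0, Units.val_inv_eq_inv_val, inv_pow] at h3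
        field_simp at h3
        exact h3
      have h5 : ((2 ^ m i : ℕ) : k) = ((2 ^ m j : ℕ) : k) := by push_cast; exact h4
      exact Nat.pow_right_injective (le_refl 2) (Nat.cast_injective h5)
    rw [f.as_sum]
    apply Subalgebra.sum_mem
    intro m hm
    have hm0 : ∀ l, m l = m 0 := fun l => hexp m hm l 0
    have hmon : MvPolynomial.monomial m (MvPolynomial.coeff m f) =
        MvPolynomial.C (MvPolynomial.coeff m f) * (∏ i : Fin (n + 1), MvPolynomial.X i) ^ (m 0) := by
      rw [← Finset.prod_pow, MvPolynomial.monomial_eq, Finsupp.prod_fintype _ _ (fun i => pow_zero _)]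
      congr 1
      exact Finset.prod_congr rfl (fun l _ => by rw [hm0 l])
    rw [hmon]
    apply Subalgebra.mul_mem
    · exact Subalgebra.algebraMap_mem _ _
    · exact Subalgebra.pow_mem _ (Algebra.subset_adjoin (Set.mem_singleton _)) _
  · intro hf σ hσ
    have hle : Algebra.adjoin k ({∏ i : Fin (n + 1), MvPolynomial.X i} : Set (MvPolynomial (Fin (n + 1)) k)) ≤
        AlgHom.equalizer (MvPolynomial.aeval (fun i => MvPolynomial.C (σ i : k) * MvPolynomial.X i))
          (AlgHom.id k (MvPolynomial (Fin (n + 1)) k)) := by
      apply Algebra.adjoin_le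
      intro x hx
      rw [Set.mem_singleton_iff] at hx
      subst hx
      rw [SetLike.mem_coe, AlgHom.mem_equalizer, map_prod]
      simp only [MvPolynomial.aeval_X, AlgHom.id_apply, Finset.prod_mul_distrib]
      rw [← map_prod, hσ, map_one, one_mul]
    exact hle hf

end Groth.Agent.S18946
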