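import Groth.Statements.S18948
-- import your own Groth.Agent.* helpers here

set_option autoImplicit false
universe u v
open CExt

namespace Groth.Agent.S18948

theorem horb {H : Type*} [Group H] (a y : H) :
    y ∈ MulAction.orbit (ConjAct H) a ↔ ∃ c : H, c * a * c⁻¹ = y := by
  rw [MulAction.mem_orbit_iff]
  constructor
  · rintro ⟨c, rfl⟩
    exact ⟨ConjAct.ofConjAct c, (ConjAct.smul_def c a).symm⟩
  · rintro ⟨c, rfl⟩
    exact ⟨ConjAct.toConjAct c, ConjAct.toConjAct_smul c a⟩

/-- Let f : E → G be a surjective homomorphism of groups whose kernel is central in E, and let x ∈ E.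
Then f maps the conjugacy class of x bijectively onto the conjugacy class of f(x) if and only if
every element of G commuting with f(x) is the image of some element of E commuting with x. (In the
source E → G is the central extension, with kernel the roots of unity, attached to a Brauer class of
the classifying stack of a finite tame étale group scheme, and a conjugacy class of E mapping
bijectively onto a given class of G is a marking; the equivalence is stated here for an arbitrary
central extension of abstract groups.) -/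
theorem result {E : Type u} {G : Type v} [Group E] [Group G]
    (f : E →* G) (hf : Function.Surjective f) (hker : f.ker ≤ Subgroup.center E) (x : E) :
    Set.BijOn f (MulAction.orbit (ConjAct E) x) (MulAction.orbit (ConjAct G) (f x)) ↔
      ∀ g : G, g * f x = f x * g → ∃ e : E, f e = g ∧ e * x = x * e := by
  have hmaps : Set.MapsTo f (MulAction.orbit (ConjAct E) x) (MulAction.orbit (ConjAct G) (f x)) := by
    intro y hy
    rw [horb] at hy ⊢
    obtain ⟨c, rfl⟩ := hy
    exact ⟨f c, by simp⟩
  have hsurj : Set.SurjOn f (MulAction.orbit (ConjAct E) x) (MulAction.orbit (ConjAct G) (f x)) := by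
    intro z hz
    rw [horb] at hz
    obtain ⟨c, rfl⟩ := hz
    obtain ⟨e, rfl⟩ := hf c
    refine ⟨e * x * e⁻¹, ?_, by simp⟩
    rw [horb]
    exact ⟨e, rfl⟩
  constructor
  · rintro ⟨_, hinj, _⟩ g hg
    obtain ⟨e, rfl⟩ := hf g
    refine ⟨e, rfl, ?_⟩
    have h1 : e * x * e⁻¹ ∈ MulAction.orbit (ConjAct E) x := (horb x _).mpr ⟨e, rfl⟩
    have h2 : x ∈ MulAction.orbit (ConjAct E) x := MulAction.mem_orbit_self x
    have h3 : f (e * x * e⁻¹) = f x := by
      rw [map_mul, map_mul, map_inv, hg, mul_inv_cancel_right]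
    have h4 := hinj h1 h2 h3
    calc e * x = e * x * e⁻¹ * e := by simp
      _ = x * e := by rw [h4]
  · intro h
    refine ⟨hmaps, ?_, hsurj⟩
    intro y hy y' hy' hyy'
    rw [horb] at hy hy'
    obtain ⟨a, rfl⟩ := hy
    obtain ⟨b, rfl⟩ := hy'
    have hcomm : f (b⁻¹ * a) * f x = f x * f (b⁻¹ * a) := by
      simp only [map_mul, map_inv] at hyy' ⊢
      calc (f b)⁻¹ * f a * f x = (f b)⁻¹ * (f a * f x * (f a)⁻¹) * f a := by simp [mul_assoc]
        _ = (f b)⁻¹ * (f b * f x * (f b)⁻¹) * f a := by rw [hyy']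
        _ = f x * ((f b)⁻¹ * f a) := by simp [mul_assoc]
    obtain ⟨e, hfe, hex⟩ := h _ hcomm
    have hc : e⁻¹ * (b⁻¹ * a) ∈ f.ker := by
      rw [MonoidHom.mem_ker, map_mul, map_inv, hfe, inv_mul_cancel]
    have hcen := Subgroup.mem_center_iff.mp (hker hc) x
    -- (b⁻¹ a) x = x (b⁻¹ a)
    have key : (b⁻¹ * a) * x = x * (b⁻¹ * a) := by
      have e1 : b⁻¹ * a = e * (e⁻¹ * (b⁻¹ * a)) := by simp
      rw [e1, mul_assoc, ← hcen, ← mul_assoc, hex, mul_assoc]
    calc a * x * a⁻¹ = b * ((b⁻¹ * a) * x) * a⁻¹ := by simp [mul_assoc]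
      _ = b * (x * (b⁻¹ * a)) * a⁻¹ := by rw [key]
      _ = b * x * b⁻¹ := by simp [mul_assoc]

end Groth.Agent.S18948
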