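import Groth.Statements.S18949
-- import your own Groth.Agent.* helpers here

set_option autoImplicit false
universe u v
open CExt

namespace Groth.Agent.S18949

/-- Automorphisms over the base: let f : E → G be a surjective homomorphism of groups with central
kernel A. For every homomorphism χ : G → A the map e ↦ χ(f(e)) · e is an endomorphism of E over G
which is the identity on A; and every endomorphism α of E with f ∘ α = f and α equal to the identity
on A is of this form for exactly one χ. (In the source this identifies the automorphisms of a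
central extension fixing its kernel with Hom(G, A), for extensions of profinite étale group schemes
over a field; stated here for abstract groups.) -/
theorem result {E : Type u} {G : Type v} [Group E] [Group G]
    (f : E →* G) (hf : Function.Surjective f) (hker : f.ker ≤ Subgroup.center E) :
    (∀ χ : G →* f.ker, ∃ α : E →* E, f.comp α = f ∧ (∀ a ∈ f.ker, α a = a) ∧
        ∀ e : E, α e = (χ (f e) : E) * e) ∧
      ∀ α : E →* E, f.comp α = f → (∀ a ∈ f.ker, α a = a) →
        ∃! χ : G →* f.ker, ∀ e : E, α e = (χ (f e) : E) * e := by
  refine ⟨?_, ?_⟩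
  · intro χ
    have hc : ∀ (g : G) (x : E), (χ g : E) * x = x * (χ g : E) := fun g x =>
      ((Subgroup.mem_center_iff.mp (hker (χ g).2)) x).symm
    have hk : ∀ g : G, f (χ g : E) = 1 := fun g => MonoidHom.mem_ker.mp (χ g).2
    refine ⟨{ toFun := fun e => (χ (f e) : E) * e, map_one' := by simp, map_mul' := ?_ }, ?_, ?_, ?_⟩
    · intro x y
      simp only [map_mul, Subgroup.coe_mul]
      rw [mul_assoc, mul_assoc, ← mul_assoc _ x y, hc (f y) x, mul_assoc]
    · ext e
      simp [hk]
    · intro a ha
      have : f a = 1 := MonoidHom.mem_ker.mp ha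
      simp [this]
    · intro e
      rfl
  · intro α hα hαA
    have hfα : ∀ e : E, f (α e) = f e := fun e => by
      have := congrArg (fun h : E →* G => h e) hα
      simpa using this
    have hmem : ∀ e : E, α e * e⁻¹ ∈ f.ker := fun e => by
      rw [MonoidHom.mem_ker, map_mul, hfα, map_inv, mul_inv_cancel]
    have hcen : ∀ (e x : E), (α e * e⁻¹) * x = x * (α e * e⁻¹) := fun e x =>
      ((Subgroup.mem_center_iff.mp (hker (hmem e))) x).symm
    let φ : E →* f.ker :=
      { toFun := fun e => ⟨α e * e⁻¹, hmem e⟩
        map_one' := by ext; simp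
        map_mul' := by
          intro x y
          ext
          simp only [map_mul, mul_inv_rev, Subgroup.coe_mul]
          calc α x * α y * (y⁻¹ * x⁻¹) = α x * ((α y * y⁻¹) * x⁻¹) := by simp only [mul_assoc]
            _ = α x * (x⁻¹ * (α y * y⁻¹)) := by rw [hcen y x⁻¹]
            _ = α x * x⁻¹ * (α y * y⁻¹) := by simp only [mul_assoc] }
    have hφker : f.ker ≤ φ.ker := by
      intro a ha
      rw [MonoidHom.mem_ker]
      ext
      simp [φ, hαA a ha]
    refine ⟨f.liftOfSurjective hf ⟨φ, hφker⟩, ?_, ?_⟩
    · intro e
      have h1 : (f.liftOfSurjective hf ⟨φ, hφker⟩) (f e) = φ e :=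
        MonoidHom.liftOfRightInverse_comp_apply _ _ _ _ e
      rw [h1]
      simp [φ]
    · intro χ' hχ'
      ext g
      obtain ⟨e, rfl⟩ := hf g
      have h1 : (f.liftOfSurjective hf ⟨φ, hφker⟩) (f e) = φ e :=
        MonoidHom.liftOfRightInverse_comp_apply _ _ _ _ e
      rw [h1]
      have := hχ' e
      simp [φ, this]

end Groth.Agent.S18949
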