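import Groth.Statements.S18950
-- import your own Groth.Agent.* helpers here

set_option autoImplicit false
universe u v
open CExt

namespace Groth.Agent.S18950

/-- Let f : E → G be a homomorphism of groups whose kernel is central in E, let α be an endomorphism of
E with f ∘ α = f which is the identity on the kernel, and let S ⊆ E be a subset fixed pointwise by α
such that f(S) generates G. Then α is the identity. (In the source S is the marking of a marked
central extension of finite tame étale group schemes and the hypothesis is that the marked conjugacy
classes generate G; the conclusion there is that a morphism of marked extensions inducing the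
identity on the kernel and on G is unique.) -/
theorem result {E : Type u} {G : Type v} [Group E] [Group G]
    (f : E →* G) (hker : f.ker ≤ Subgroup.center E) (α : E →* E) (hα : f.comp α = f)
    (hαA : ∀ a ∈ f.ker, α a = a) (S : Set E) (hS : Subgroup.closure (f '' S) = ⊤)
    (hαS : ∀ s ∈ S, α s = s) : α = MonoidHom.id E := by
  ext e
  have hmap : (Subgroup.closure S).map f = ⊤ := by
    rw [MonoidHom.map_closure]; exact hS
  have he : f e ∈ (Subgroup.closure S).map f := by rw [hmap]; trivial
  obtain ⟨s', hs', hfs⟩ := he
  have hfix : ∀ x ∈ Subgroup.closure S, α x = x := by
    intro x hx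
    induction hx using Subgroup.closure_induction with
    | mem x hx => exact hαS x hx
    | one => simp
    | mul x y _ _ hx hy => simp [hx, hy]
    | inv x _ hx => simp [hx]
  have ha : s'⁻¹ * e ∈ f.ker := by
    rw [MonoidHom.mem_ker, map_mul, map_inv, hfs]; simp
  have h2 : e = s' * (s'⁻¹ * e) := (mul_inv_cancel_left s' e).symm
  rw [MonoidHom.id_apply]
  conv_lhs => rw [h2]
  rw [map_mul, hfix s' hs', hαA _ ha, mul_inv_cancel_left]

end Groth.Agent.S18950
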