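import Groth.Statements.S18951
import Mathlib

set_option autoImplicit false
universe u
open OrbPic

namespace Groth.Agent.S18951

/-- Let G be a group and C ⊆ G a subset that generates G. Then the projection (χ, w) ↦ w from the group
of geometric partial orbifold line bundles with respect to C to functions G → ℚ is injective, its
image contains every conjugation-invariant integer-valued function vanishing at 1 and outside C, and
the group is torsion-free. (The source works with the geometric points of a tame finite étale group
scheme, characters with values in roots of unity and weights on conjugacy classes of the Tate twist;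
here these are identified with a group, homomorphisms to ℚ/ℤ and class functions as the source does
after choosing roots of unity. The case C = G ∖ {1} is the statement for full orbifold line
bundles.) -/
theorem result (G : Type u) [Group G] (C : Set G)
    (hC : Subgroup.closure C = ⊤) :
    Set.InjOn (fun p : (Additive G →+ W4c6brauerbgmalle.QmodZ) × (G → ℚ) => p.2) (W4c6brauerbgmalle.picOrb G C) ∧
      (∀ w ∈ W4c6brauerbgmalle.intWeights G C, ((0 : Additive G →+ W4c6brauerbgmalle.QmodZ), w) ∈ W4c6brauerbgmalle.picOrb G C) ∧
      ∀ (n : ℕ) (p : (Additive G →+ W4c6brauerbgmalle.QmodZ) × (G → ℚ)), p ∈ W4c6brauerbgmalle.picOrb G C → n ≠ 0 →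
        n • p = 0 → p = 0 := by
  have hinj : ∀ p ∈ W4c6brauerbgmalle.picOrb G C, ∀ q ∈ W4c6brauerbgmalle.picOrb G C,
      p.2 = q.2 → p = q := by
    rintro ⟨χ, w⟩ ⟨_, _, _, hp4⟩ ⟨χ', w'⟩ ⟨_, _, _, hq4⟩ (hw : w = w')
    subst hw
    have hχ : χ = χ' := by
      ext a
      have ha : Additive.toMul a ∈ Subgroup.closure C := by rw [hC]; trivial
      have key : ∀ g ∈ Subgroup.closure C, χ (Additive.ofMul g) = χ' (Additive.ofMul g) := by
        intro g hg
        refine Subgroup.closure_induction ?_ ?_ ?_ ?_ hg
        · intro x hx
          rw [← hp4 x hx, ← hq4 x hx]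
        · simp
        · intro x y _ _ hx hy
          rw [ofMul_mul, map_add, map_add, hx, hy]
        · intro x _ hx
          rw [ofMul_inv, map_neg, map_neg, hx]
      exact key _ ha
    rw [hχ]
  refine ⟨fun p hp q hq h => hinj p hp q hq h, ?_, ?_⟩
  · rintro w ⟨h1, h2, h3, h4⟩
    refine ⟨h1, h2, h3, fun g _ => ?_⟩
    obtain ⟨n, hn⟩ := h4 g
    simp only [AddMonoidHom.zero_apply]
    rw [hn]
    exact (QuotientAddGroup.eq_zero_iff _).mpr ⟨n, by simp⟩
  · intro n p hp hn hnp
    have h2 : p.2 = 0 := by
      have := congrArg Prod.snd hnp
      simp only [Prod.smul_snd, Prod.snd_zero] at this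
      funext g
      have hg := congrFun this g
      simp only [Pi.smul_apply, Pi.zero_apply, nsmul_eq_mul] at hg
      rcases mul_eq_zero.mp hg with h | h
      · exact absurd (by exact_mod_cast h) hn
      · exact h
    exact hinj p hp 0 (W4c6brauerbgmalle.picOrb G C).zero_mem h2

end Groth.Agent.S18951
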