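import Groth.Statements.S18952
import Mathlib

set_option autoImplicit false
universe u
open OrbPic

namespace Groth.Agent.S18952

/-- Let G be a group and C ⊆ G a subset stable under conjugation. Then (χ, w) ↦ χ maps the group of
geometric partial orbifold line bundles with respect to C onto all characters G → ℚ/ℤ, and a pair in
its kernel (χ trivial) has w a conjugation-invariant integer-valued function vanishing at 1 and
outside C: with the inclusion of such functions this is the exact sequence 0 → Hom(C/conj, ℤ) → Pic
→ Hom(G, ℚ/ℤ) → 0 over a separably closed field. (As in the source after a choice of roots of unity,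
the group G stands for the geometric points of a tame finite étale group scheme, characters are
homomorphisms to ℚ/ℤ and weights are class functions on G.) -/
theorem result (G : Type u) [Group G] (C : Set G)
    (hC : ∀ g h : G, g ∈ C → h * g * h⁻¹ ∈ C) :
    (∀ χ : Additive G →+ W4c6brauerbgmalle.QmodZ, ∃ w : G → ℚ, (χ, w) ∈ W4c6brauerbgmalle.picOrb G C) ∧
      (∀ p : (Additive G →+ W4c6brauerbgmalle.QmodZ) × (G → ℚ), p ∈ W4c6brauerbgmalle.picOrb G C → p.1 = 0 →
        p.2 ∈ W4c6brauerbgmalle.intWeights G C) := by
  classical
  have hC' : ∀ g h : G, h * g * h⁻¹ ∈ C ↔ g ∈ C := by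
    intro g h
    constructor
    · intro hg
      have := hC (h * g * h⁻¹) h⁻¹ hg
      simpa [mul_assoc] using this
    · exact hC g h
  constructor
  · intro χ
    refine ⟨fun g => if g ∈ C ∧ g ≠ 1 then Quotient.out (χ (Additive.ofMul g)) else 0, ?_, ?_, ?_, ?_⟩
    · simp
    · intro g hg
      simp [hg]
    · intro g h
      have h1 : (h * g * h⁻¹ ≠ 1) ↔ g ≠ 1 := by
        rw [not_iff_not]
        constructor
        · intro e
          have : g = h⁻¹ * (h * g * h⁻¹) * h := by group
          rw [this, e]; group
        · rintro rfl; group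
      have h2 : χ (Additive.ofMul (h * g * h⁻¹)) = χ (Additive.ofMul g) := by
        rw [ofMul_mul, ofMul_mul, ofMul_inv, map_add, map_add, map_neg]
        abel
      simp only [hC' g h, h1, h2]
    · intro g hg
      by_cases h1 : g = 1
      · subst h1
        simp
      · simp only [hg, h1, ne_eq, not_false_eq_true, and_self, if_true]
        exact Quotient.out_eq' _
  · rintro ⟨χ, w⟩ ⟨h1, h2, h3, h4⟩ (hχ : χ = 0)
    refine ⟨h1, h2, h3, fun g => ?_⟩
    by_cases hg : g ∈ C
    · have := h4 g hg
      rw [hχ, AddMonoidHom.zero_apply] at this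
      obtain ⟨n, hn⟩ := (QuotientAddGroup.eq_zero_iff _).mp this
      refine ⟨n, ?_⟩
      rw [← hn]
      simp
    · exact ⟨0, by have := h2 g hg; simpa using this⟩

end Groth.Agent.S18952
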