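import Groth.Statements.S18953
import Mathlib

set_option autoImplicit false
universe u v
open OrbPic

namespace Groth.Agent.S18953

/-- Let G₁ and G₂ be groups with subsets C₁ ⊆ G₁ and C₂ ⊆ G₂, and let C ⊆ G₁ × G₂ be the union of C₁ ×
{1} and {1} × C₂. Restricting the character and the weight along the two inclusions G₁ → G₁ × G₂ and
G₂ → G₁ × G₂ is a bijection from the geometric partial orbifold line bundles of G₁ × G₂ with respect
to C onto pairs of geometric partial orbifold line bundles of G₁ with respect to C₁ and of G₂ with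
respect to C₂. (As in the source after a choice of roots of unity, each group stands for the
geometric points of a tame finite étale group scheme, characters are homomorphisms to ℚ/ℤ and
weights are class functions; the source states the Galois-equivariant version, which follows by
taking invariants.) -/
theorem result (G₁ : Type u) (G₂ : Type v) [Group G₁] [Group G₂] (C₁ : Set G₁) (C₂ : Set G₂) :
    Set.BijOn
      (fun p : (Additive (G₁ × G₂) →+ W4c6brauerbgmalle.QmodZ) × (G₁ × G₂ → ℚ) =>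
        ((p.1.comp (MonoidHom.toAdditive (MonoidHom.inl G₁ G₂)), fun g => p.2 (g, 1)),
          (p.1.comp (MonoidHom.toAdditive (MonoidHom.inr G₁ G₂)), fun g => p.2 (1, g))))
      (W4c6brauerbgmalle.picOrb (G₁ × G₂) ((fun g => (g, (1 : G₂))) '' C₁ ∪ (fun g => ((1 : G₁), g)) '' C₂))
      ((W4c6brauerbgmalle.picOrb G₁ C₁ : Set _) ×ˢ (W4c6brauerbgmalle.picOrb G₂ C₂ : Set _)) := by
  classical
  have hmemC : ∀ (g₁ : G₁) (g₂ : G₂),
      (g₁, g₂) ∈ ((fun g => (g, (1 : G₂))) '' C₁ ∪ (fun g => ((1 : G₁), g)) '' C₂) ↔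
        (g₁ ∈ C₁ ∧ g₂ = 1) ∨ (g₁ = 1 ∧ g₂ ∈ C₂) := by
    intro g₁ g₂
    simp only [Set.mem_union, Set.mem_image, Prod.mk.injEq]
    constructor
    · rintro (⟨x, hx, rfl, rfl⟩ | ⟨x, hx, rfl, rfl⟩)
      · exact Or.inl ⟨hx, rfl⟩
      · exact Or.inr ⟨rfl, hx⟩
    · rintro (⟨h1, rfl⟩ | ⟨rfl, h2⟩)
      · exact Or.inl ⟨g₁, h1, rfl, rfl⟩
      · exact Or.inr ⟨g₂, h2, rfl, rfl⟩
  refine ⟨?_, ?_, ?_⟩
  · -- maps to
    rintro ⟨χ, w⟩ ⟨h1, h2, h3, h4⟩
    refine ⟨⟨h1, ?_, ?_, ?_⟩, ⟨h1, ?_, ?_, ?_⟩⟩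
    · intro g hg
      by_cases hg1 : g = 1
      · subst hg1; exact h1
      · apply h2
        rw [hmemC]
        rintro (⟨h, _⟩ | ⟨h, _⟩)
        · exact hg h
        · exact hg1 h
    · intro g h
      have := h3 (g, 1) (h, 1)
      simpa using this
    · intro g hg
      have := h4 (g, 1) ((hmemC g 1).mpr (Or.inl ⟨hg, rfl⟩))
      simpa using this
    · intro g hg
      by_cases hg1 : g = 1
      · subst hg1; exact h1
      · apply h2
        rw [hmemC]
        rintro (⟨_, h⟩ | ⟨_, h⟩)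
        · exact hg1 h
        · exact hg h
    · intro g h
      have := h3 (1, g) (1, h)
      simpa using this
    · intro g hg
      have := h4 (1, g) ((hmemC 1 g).mpr (Or.inr ⟨rfl, hg⟩))
      simpa using this
  · -- injective
    rintro ⟨χ, w⟩ ⟨h1, h2, h3, h4⟩ ⟨χ', w'⟩ ⟨h1', h2', h3', h4'⟩ heq
    simp only [Prod.mk.injEq] at heq
    obtain ⟨⟨e1, e2⟩, ⟨e3, e4⟩⟩ := heq
    have hχ : χ = χ' := by
      refine DFunLike.ext _ _ (fun a => ?_)
      rcases hga : Additive.toMul a with ⟨g₁, g₂⟩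
      have haeq : a = Additive.ofMul ((g₁, g₂) : G₁ × G₂) := by rw [← hga]; rfl
      have hsplit : (Additive.ofMul ((g₁, g₂) : G₁ × G₂)) =
          Additive.ofMul ((g₁, 1) : G₁ × G₂) + Additive.ofMul ((1, g₂) : G₁ × G₂) := by
        rw [← ofMul_mul]; simp
      have ea := DFunLike.congr_fun e1 (Additive.ofMul g₁)
      have eb := DFunLike.congr_fun e3 (Additive.ofMul g₂)
      simp only [AddMonoidHom.coe_comp, Function.comp_apply, MonoidHom.toAdditive_apply_apply,
        toMul_ofMul, MonoidHom.inl_apply, MonoidHom.inr_apply] at ea eb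
      rw [haeq, hsplit, map_add, map_add, ea, eb]
    have hw : w = w' := by
      funext ⟨g₁, g₂⟩
      by_cases hmem : (g₁, g₂) ∈ ((fun g => (g, (1 : G₂))) '' C₁ ∪ (fun g => ((1 : G₁), g)) '' C₂)
      · rcases (hmemC g₁ g₂).mp hmem with ⟨_, rfl⟩ | ⟨rfl, _⟩
        · exact congrFun e2 g₁
        · exact congrFun e4 g₂
      · rw [show w (g₁, g₂) = 0 from h2 _ hmem, show w' (g₁, g₂) = 0 from h2' _ hmem]
    rw [hχ, hw]
  · -- surjective
    rintro ⟨⟨χ₁, w₁⟩, ⟨χ₂, w₂⟩⟩ ⟨⟨a1, a2, a3, a4⟩, ⟨b1, b2, b3, b4⟩⟩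
    simp only at a1 a2 a3 a4 b1 b2 b3 b4
    refine ⟨(AddMonoidHom.coprod χ₁ χ₂ |>.comp
        (AddMonoidHom.prod (MonoidHom.toAdditive (MonoidHom.fst G₁ G₂))
          (MonoidHom.toAdditive (MonoidHom.snd G₁ G₂))),
      fun g => if g.2 = 1 then w₁ g.1 else if g.1 = 1 then w₂ g.2 else 0), ⟨?_, ?_, ?_, ?_⟩, ?_⟩
    · simp [a1]
    · rintro ⟨g₁, g₂⟩ hg
      rw [hmemC] at hg
      push Not at hg
      simp only
      split_ifs with h1 h2
      · apply a2
        intro h
        exact hg.1 h h1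
      · apply b2
        intro h
        exact hg.2 h2 h
      · rfl
    · rintro ⟨g₁, g₂⟩ ⟨k₁, k₂⟩
      have e1 : (k₂ * g₂ * k₂⁻¹ = 1) ↔ g₂ = 1 := by
        constructor
        · intro e
          have : g₂ = k₂⁻¹ * (k₂ * g₂ * k₂⁻¹) * k₂ := by group
          rw [this, e]; group
        · rintro rfl; group
      have e2 : (k₁ * g₁ * k₁⁻¹ = 1) ↔ g₁ = 1 := by
        constructor
        · intro e
          have : g₁ = k₁⁻¹ * (k₁ * g₁ * k₁⁻¹) * k₁ := by group
          rw [this, e]; group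
        · rintro rfl; group
      simp only [Prod.mk_mul_mk, Prod.inv_mk, e1, e2, a3, b3]
    · rintro ⟨g₁, g₂⟩ hg
      rw [hmemC] at hg
      simp only [AddMonoidHom.coe_comp, Function.comp_apply, AddMonoidHom.prod_apply,
        MonoidHom.toAdditive_apply_apply, toMul_ofMul, MonoidHom.coe_fst, MonoidHom.coe_snd,
        AddMonoidHom.coprod_apply]
      rcases hg with ⟨h1, rfl⟩ | ⟨rfl, h2⟩
      · simp only [if_true, ofMul_one, map_zero, add_zero]
        exact a4 g₁ h1
      · by_cases hg2 : g₂ = 1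
        · subst hg2
          simp [a1]
        · simp only [hg2, if_false, if_true, ofMul_one, map_zero, zero_add]
          exact b4 g₂ h2
    · simp only [Prod.mk.injEq]
      refine ⟨⟨?_, ?_⟩, ⟨?_, ?_⟩⟩
      · refine DFunLike.ext _ _ (fun a => ?_)
        simp
      · funext g
        simp
      · refine DFunLike.ext _ _ (fun a => ?_)
        simp
      · funext g
        by_cases hg : g = 1
        · subst hg; simp [a1, b1]
        · simp [hg]

end Groth.Agent.S18953
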