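import Groth.Statements.S18954
import Mathlib.Tactic.FieldSimp
import Mathlib.Tactic.Ring

set_option autoImplicit false
universe u v w
open Classical
open BGCount

namespace Groth.Agent.S18954

/-- Let a finite group G act on a finite set X, let W be a finite set of orbits and f a function on
orbits with values in a field of characteristic zero. Then Σ_{O ∈ W} f(O)/|Stab(x_O)|, with x_O any
point of O, equals |G|⁻¹ · Σ f(orbit(x)) over the points x of X whose orbit lies in W. (In the
source X is the set of 1-cocycles of the absolute Galois group of a field in a finite étale group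
scheme G, acted on by the geometric points of G, the orbits are the isomorphism classes of G-torsors
and the stabilisers their automorphism groups; stated here for an arbitrary action of a finite group
on a finite set, the representative x_O being chosen by Quotient.out.) -/
theorem result {G : Type u} {X : Type v} (𝕜 : Type w)
    [Group G] [Fintype G] [MulAction G X] [Fintype X] [Field 𝕜] [CharZero 𝕜]
    (W : Finset (MulAction.orbitRel.Quotient G X)) (f : MulAction.orbitRel.Quotient G X → 𝕜) :
    (∑ O ∈ W, f O / (Nat.card (MulAction.stabilizer G O.out) : 𝕜)) =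
      (Fintype.card G : 𝕜)⁻¹ *
        ∑ x ∈ Finset.univ.filter (fun x : X => (Quotient.mk (MulAction.orbitRel G X) x) ∈ W),
          f (Quotient.mk (MulAction.orbitRel G X) x) := by
  have hcard : ∀ O : MulAction.orbitRel.Quotient G X,
      ((Finset.univ.filter (fun x : X => Quotient.mk (MulAction.orbitRel G X) x = O)).card : 𝕜) *
        (Nat.card (MulAction.stabilizer G O.out) : 𝕜) = (Fintype.card G : 𝕜) := by
    intro O
    have h1 : (Finset.univ.filter (fun x : X => Quotient.mk (MulAction.orbitRel G X) x = O)).card =
        Nat.card (MulAction.orbit G O.out) := by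
      rw [Nat.card_eq_fintype_card, ← Set.toFinset_card]
      congr 1
      ext x
      simp only [Finset.mem_filter, Finset.mem_univ, true_and, Set.mem_toFinset]
      rw [← MulAction.orbitRel_apply, ← Quotient.eq (r := MulAction.orbitRel G X), Quotient.out_eq]
    rw [h1, ← Nat.cast_mul]
    congr 1
    rw [Nat.card_eq_fintype_card, Nat.card_eq_fintype_card]
    exact MulAction.card_orbit_mul_card_stabilizer_eq_card_group G O.out
  have hGne : (Fintype.card G : 𝕜) ≠ 0 := by
    exact_mod_cast Fintype.card_ne_zero
  have hstab : ∀ O : MulAction.orbitRel.Quotient G X, (Nat.card (MulAction.stabilizer G O.out) : 𝕜) ≠ 0 := by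
    intro O h
    have := hcard O
    rw [h, mul_zero] at this
    exact hGne this.symm
  rw [← Finset.sum_fiberwise_of_maps_to (s := Finset.univ.filter (fun x : X => (Quotient.mk (MulAction.orbitRel G X) x) ∈ W))
    (t := W) (g := fun x => Quotient.mk (MulAction.orbitRel G X) x) (fun x hx => (Finset.mem_filter.mp hx).2)]
  rw [Finset.mul_sum]
  refine Finset.sum_congr rfl fun O hO => ?_
  have h2 : ∀ x ∈ (Finset.univ.filter (fun x : X => (Quotient.mk (MulAction.orbitRel G X) x) ∈ W)).filter
      (fun x => Quotient.mk (MulAction.orbitRel G X) x = O), f (Quotient.mk (MulAction.orbitRel G X) x) = f O := by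
    intro x hx
    rw [(Finset.mem_filter.mp hx).2]
  rw [Finset.sum_congr rfl h2, Finset.sum_const, nsmul_eq_mul]
  have h3 : (Finset.univ.filter (fun x : X => (Quotient.mk (MulAction.orbitRel G X) x) ∈ W)).filter
      (fun x => Quotient.mk (MulAction.orbitRel G X) x = O) =
      Finset.univ.filter (fun x : X => Quotient.mk (MulAction.orbitRel G X) x = O) := by
    ext x
    simp only [Finset.mem_filter, Finset.mem_univ, true_and]
    constructor
    · exact fun h => h.2
    · intro h
      exact ⟨h ▸ hO, h⟩
  rw [h3]
  have h4 := hcard O
  have h5 := hstab O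
  rw [← h4] at hGne ⊢
  have h6 : ((Finset.univ.filter (fun x : X => Quotient.mk (MulAction.orbitRel G X) x = O)).card : 𝕜) ≠ 0 :=
    left_ne_zero_of_mul hGne
  field_simp

end Groth.Agent.S18954
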