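import Groth.Statements.S1896
import Groth.Agent.H38.ModStalk
import Groth.Agent.H79.SuppGeneric

set_option autoImplicit false
universe u
open CategoryTheory AlgebraicGeometry
open Cyc

namespace Groth.Agent.S1896

/-- For a short exact sequence 0 → F → G → H → 0 of coherent O_X-modules (X locally Noetherian with
dimension function δ) whose supports have δ-dimension at most k, one has [G]_k = [F]_k + [H]_k
coefficientwise. Here (X, δ) satisfies Cyc.IsSetup (X locally Noetherian with universally catenary
local rings, δ a dimension function). -/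
theorem result (X : Scheme.{u}) (δ : X → ℤ) (hX : Cyc.IsSetup X δ) (k : ℤ) (T : ShortComplex X.Modules) (hT : T.ShortExact) (h₁ : Coh.IsCoh T.X₁) (h₂ : Coh.IsCoh T.X₂) (h₃ : Coh.IsCoh T.X₃) (hdim : ∀ x : X, Nontrivial (T.X₂.presheaf.stalk x) → δ x ≤ k) : Cyc.sheafFun δ k T.X₂ = Cyc.sheafFun δ k T.X₁ + Cyc.sheafFun δ k T.X₃ := by
  obtain ⟨hN, -, hδ⟩ := hX
  funext x
  simp only [Pi.add_apply, Cyc.sheafFun]
  split_ifs with hk
  swap
  · simp
  have hinj : Function.Injective (Groth.Agent.H38.ModStalk.stalkMapₗ T.f x) := by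
    rw [← LinearMap.ker_eq_bot, LinearMap.ker_eq_bot']
    intro a ha
    obtain ⟨W, hxW, s, rfl⟩ := TopCat.Presheaf.exists_germ_eq T.X₁.presheaf a
    rw [Groth.Agent.H38.ModStalk.stalkMapₗ_apply, Groth.Agent.H38.ModStalk.stalkMap_germ] at ha
    have ha' : T.X₂.presheaf.germ W x hxW (T.f.app W s) = T.X₂.presheaf.germ W x hxW 0 := by
      rw [ha, map_zero]
    obtain ⟨W', hxW', i, i', hW'⟩ := TopCat.Presheaf.germ_eq T.X₂.presheaf x hxW hxW _ _ ha'
    rw [map_zero] at hW'
    have hnat : T.f.app W' (T.X₁.presheaf.map i.op s) = T.X₂.presheaf.map i.op (T.f.app W s) := by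
      have := T.f.mapPresheaf.naturality i.op
      exact congr($(this) s)
    have hi := (Groth.Agent.H13.sections_injective_and_exact T hT W').1
    have h0 : T.X₁.presheaf.map i.op s = 0 := by
      apply hi
      change T.f.app W' (T.X₁.presheaf.map i.op s) = _
      rw [hnat, hW']
      exact (map_zero (T.f.val.app (Opposite.op W')).hom).symm
    rw [← TopCat.Presheaf.germ_res_apply T.X₁.presheaf i x hxW' s, h0, map_zero]
  have hsurj : Function.Surjective (Groth.Agent.H38.ModStalk.stalkMapₗ T.g x) := by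
    have : Epi T.g := hT.epi_g
    exact Groth.Agent.H38.ModStalk.stalkMap_surjective_of_epi T.g x
  have hex : Function.Exact (Groth.Agent.H38.ModStalk.stalkMapₗ T.f x)
      (Groth.Agent.H38.ModStalk.stalkMapₗ T.g x) :=
    Groth.Agent.H38.ModStalk.stalkMap_exact T hT x
  have hlen := Module.length_eq_add_of_exact _ _ hinj hsurj hex
  have hfl : IsFiniteLength (X.presheaf.stalk x) (T.X₂.presheaf.stalk x) := by
    apply Groth.Agent.H79.SuppGeneric.isFiniteLength_stalk_of_generic T.X₂ h₂ x
    intro y hy hyx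
    by_contra hne
    have h1 := (hδ y x hyx hne).1
    have h2 := hdim y hy
    omega
  rw [← Module.length_ne_top_iff, hlen] at hfl
  rw [hlen, ENat.toNat_add (fun h => hfl (by rw [h, top_add])) (fun h => hfl (by rw [h, add_top]))]
  push_cast
  rfl

end Groth.Agent.S1896
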