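import Groth.Statements.S18960
import Mathlib

set_option autoImplicit false
universe w' w v u
open CategoryTheory Limits
open CatLim

namespace Groth.Agent.S18960

/-- Let C be a category and T an endofunctor of C; let C(T) be the category whose objects are pairs (X,
u) with u : T X → X an isomorphism and whose morphisms (X, u) → (Y, w) are the morphisms X → Y
compatible with u and w — the full subcategory of T-algebras with invertible structure map — and let
π : C(T) → C be the forgetful functor. If T preserves colimits of shape J then π creates colimits of
shape J. (The source assumes T preserves all small colimits and concludes for all small shapes; the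
argument is shape by shape.) -/
theorem result {C : Type u} [Category.{v} C] (T : C ⥤ C)
    (J : Type w) [Category.{w'} J] [PreservesColimitsOfShape J T] :
    Nonempty (CreatesColimitsOfShape J
      ((ObjectProperty.ι (fun A : Endofunctor.Algebra T => IsIso A.str)) ⋙ Endofunctor.Algebra.forget T)) := by
  classical
  let P : ObjectProperty (Endofunctor.Algebra T) := fun A => IsIso A.str
  let G : P.FullSubcategory ⥤ C := P.ι ⋙ Endofunctor.Algebra.forget T
  refine ⟨⟨fun {K} => ?_⟩⟩
  refine createsColimitOfReflectsIso (K := K) (F := G) (fun c t => ?_)
  -- the natural isomorphism given by the structure maps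
  have hiso : ∀ j, IsIso (K.obj j).obj.str := fun j => (K.obj j).property
  let γ : (K ⋙ G) ⋙ T ≅ K ⋙ G :=
    NatIso.ofComponents (fun j => @asIso _ _ _ _ (K.obj j).obj.str (hiso j))
      (fun {j j'} f => by
        simp only [Functor.comp_obj, Functor.comp_map, asIso_hom]
        exact (K.map f).hom.h)
  let tT : IsColimit (T.mapCocone c) := isColimitOfPreserves T t
  let e : T.obj c.pt ≅ c.pt := tT.coconePointsIsoOfNatIso t γ
  have he : ∀ j, T.map (c.ι.app j) ≫ e.hom = (K.obj j).obj.str ≫ c.ι.app j := by
    intro j
    have := tT.comp_coconePointsIsoOfNatIso_hom t γ j
    exact this
  let Apt : P.FullSubcategory := ⟨⟨c.pt, e.hom⟩, (inferInstance : IsIso e.hom)⟩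
  let lifted : Cocone K :=
    { pt := Apt
      ι :=
        { app := fun j => ObjectProperty.homMk ⟨c.ι.app j, he j⟩
          naturality := fun j j' f => by
            apply ObjectProperty.hom_ext
            apply Endofunctor.Algebra.Hom.ext
            exact (c.w f).trans (Category.comp_id _).symm } }
  refine
    { liftedCocone := lifted
      validLift := Cocone.ext (Iso.refl _) (fun j => Category.comp_id _)
      makesColimit :=
        { desc := fun s => ObjectProperty.homMk
            ⟨t.desc (G.mapCocone s), by
              apply tT.hom_ext
              intro j
              let d : c.pt ⟶ s.pt.obj.a := t.desc (G.mapCocone s)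
              let Xj : C := (K.obj j).obj.a
              let cj : Xj ⟶ c.pt := c.ι.app j
              let sj : Xj ⟶ s.pt.obj.a := (s.ι.app j).hom.f
              let u : T.obj Xj ⟶ Xj := (K.obj j).obj.str
              have h1 : cj ≫ d = sj := t.fac (G.mapCocone s) j
              have h2 : T.map sj ≫ s.pt.obj.str = u ≫ sj := (s.ι.app j).hom.h
              have h3 : T.map cj ≫ e.hom = u ≫ cj := he j
              show T.map cj ≫ T.map d ≫ s.pt.obj.str = T.map cj ≫ e.hom ≫ d
              have e1 : T.map cj ≫ T.map d ≫ s.pt.obj.str = u ≫ sj := by
                rw [← Category.assoc, ← T.map_comp, h1, h2]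
              have e2 : T.map cj ≫ e.hom ≫ d = u ≫ sj := by
                rw [← Category.assoc, h3, Category.assoc, h1]
              exact e1.trans e2.symm⟩
          fac := fun s j => by
            apply ObjectProperty.hom_ext
            apply Endofunctor.Algebra.Hom.ext
            exact t.fac (G.mapCocone s) j
          uniq := fun s m hm => by
            apply ObjectProperty.hom_ext
            apply Endofunctor.Algebra.Hom.ext
            apply t.uniq (G.mapCocone s) m.hom.f
            intro j
            have := congrArg (fun φ => φ.hom.f) (hm j)
            exact this } }

end Groth.Agent.S18960
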