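import Groth.Statements.S18961
import Groth.Agent.H94.BBDecE
import Groth.Agent.H94.BBDecF

set_option autoImplicit false
universe u
open BBDec

namespace Groth.Agent.S18961

/-- Let k be a field, A a finitely generated k-algebra and B a finitely generated A-algebra graded by
the natural numbers as an A-algebra, with degree-zero part equal to the image of A and A → B
injective; let B₊ be the irrelevant ideal. So Spec B → Spec A is the retraction of an affine scheme
with an action of the multiplicative monoid of the affine line onto its fixed-point scheme, with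
zero section cut out by B₊; this is the affine-local graded form, for that monoid, of the published
statement, which covers any Kempf monoid M with unit group G and a k-scheme X locally of finite
type, and concludes that the retraction X⁺ → X^G is an affine-space bundle near a fixed point at
whose section value it is smooth. Assume that A → B is smooth at every prime ideal containing B₊ and
that B₊/B₊² is a free A-module of finite rank. Then B is isomorphic, as an A-algebra, to the
polynomial ring over A in (rank of B₊/B₊²) variables. (The published statement also makes the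
isomorphism equivariant for a suitable linear action when G is linearly reductive; only the
existence of an A-algebra isomorphism is stated here. Freeness of the conormal module holds after
shrinking the base, which is how the published proof reaches this situation.) -/
theorem result (k : Type u) [Field k]
    (A B : Type u) [CommRing A] [CommRing B] [Algebra k A] [Algebra k B] [Algebra A B] [IsScalarTower k A B]
    [Algebra.FiniteType k A] [Algebra.FiniteType A B] (𝒜 : ℕ → Submodule A B) [GradedAlgebra 𝒜]
    (h0 : ∀ b : B, b ∈ 𝒜 0 ↔ b ∈ Set.range (algebraMap A B)) (hinj : Function.Injective (algebraMap A B))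
    (hsm : ∀ (P : Ideal B) [P.IsPrime], (HomogeneousIdeal.irrelevant 𝒜).toIdeal ≤ P → Algebra.IsSmoothAt A P)
    [Module.Free A (HomogeneousIdeal.irrelevant 𝒜).toIdeal.Cotangent]
    [Module.Finite A (HomogeneousIdeal.irrelevant 𝒜).toIdeal.Cotangent] :
    Nonempty (B ≃ₐ[A]
      MvPolynomial (Fin (Module.finrank A (HomogeneousIdeal.irrelevant 𝒜).toIdeal.Cotangent)) A) := by
  classical
  rcases subsingleton_or_nontrivial A with hA | hA
  · have hB : Subsingleton B := by
      refine ⟨fun x y => ?_⟩
      have h1 : (1 : B) = 0 := by
        rw [← map_one (algebraMap A B), Subsingleton.elim (1 : A) 0, map_zero]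
      rw [← mul_one x, ← mul_one y, h1, mul_zero, mul_zero]
    refine ⟨{ toFun := fun _ => 0, invFun := fun _ => 0, left_inv := fun _ => Subsingleton.elim _ _,
              right_inv := fun _ => Subsingleton.elim _ _, map_mul' := fun _ _ => Subsingleton.elim _ _,
              map_add' := fun _ _ => Subsingleton.elim _ _, commutes' := fun _ => Subsingleton.elim _ _ }⟩
  have : IsNoetherianRing A := Algebra.FiniteType.isNoetherianRing k A
  have : Algebra.FinitePresentation A B := Algebra.FinitePresentation.of_finiteType.mp inferInstance
  -- notation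
  let I : Ideal B := Groth.Agent.H94.BBDec.irr 𝒜
  let e := Module.finBasis A I.Cotangent
  obtain ⟨b, hb, hst⟩ := Groth.Agent.H94.BBDec.exists_graded_lifts 𝒜 e
  let φ : MvPolynomial (Fin (Module.finrank A I.Cotangent)) A →ₐ[A] B :=
    MvPolynomial.aeval (fun i => (b i : B))
  have hφs : Function.Surjective φ := by
    have h1 := Groth.Agent.H94.BBDec.adjoin_eq_top 𝒜 (fun x hx => (h0 x).mp hx) e b hb hst
    rw [Algebra.adjoin_range_eq_range_aeval] at h1
    intro x
    have : x ∈ (MvPolynomial.aeval (fun i => (b i : B)) :
        MvPolynomial (Fin (Module.finrank A I.Cotangent)) A →ₐ[A] B).range := by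
      rw [h1]; trivial
    exact this
  have hK : RingHom.ker φ ≤ MvPolynomial.idealOfVars _ A ^ 2 :=
    Groth.Agent.H94.BBDec.ker_aeval_le_sq 𝒜 hinj e b hb
  -- an element f ≡ 1 mod B₊ with B_f smooth
  obtain ⟨f, g, hgI, hfg, hfs⟩ : ∃ f g : B, g ∈ I ∧ f + g = 1 ∧
      Algebra.FormallySmooth A (Localization.Away f) := by
    have hopen : IsOpen (Algebra.smoothLocus A B) := Algebra.isOpen_smoothLocus
    obtain ⟨J, hJ⟩ := (PrimeSpectrum.isClosed_iff_zeroLocus_ideal _).mp hopen.isClosed_compl
    have htop : J ⊔ I = ⊤ := by
      rw [← PrimeSpectrum.zeroLocus_empty_iff_eq_top, PrimeSpectrum.zeroLocus_sup, ← hJ]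
      rw [Set.eq_empty_iff_forall_notMem]
      rintro p ⟨hp1, hp2⟩
      apply hp1
      have := p.2
      exact hsm p.asIdeal hp2
    have h1 : (1 : B) ∈ J ⊔ I := by rw [htop]; trivial
    obtain ⟨f, hfJ, g, hgI, hfg⟩ := Submodule.mem_sup.mp h1
    refine ⟨f, g, hgI, hfg, ?_⟩
    rw [← Algebra.basicOpen_subset_smoothLocus_iff]
    intro p hp
    by_contra hns
    have : p ∈ PrimeSpectrum.zeroLocus (J : Set B) := by rw [← hJ]; exact hns
    exact hp (this hfJ)
  -- h with φ h = g and h ∈ 𝔪
  obtain ⟨h, hh⟩ := hφs g
  have hc : MvPolynomial.constantCoeff h = 0 :=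
    Groth.Agent.H94.BBDec.constantCoeff_eq_zero_of_aeval_mem_irr 𝒜 hinj b h (by
      show φ h ∈ I
      rw [hh]; exact hgI)
  have hhm : h ∈ MvPolynomial.idealOfVars (Fin (Module.finrank A I.Cotangent)) A := by
    have := Groth.Agent.H94.BBDec.sub_C_constantCoeff_mem h
    rwa [hc, map_zero, sub_zero] at this
  have hf1 : φ h = 1 - f := by rw [hh, ← hfg]; ring
  have hinjφ : Function.Injective φ := by
    rw [injective_iff_map_eq_zero]
    intro x hx
    apply Groth.Agent.H94.BBDec.eq_zero_of_forall_mem_pow_idealOfVars
    intro n
    exact Groth.Agent.H94.BBDec.ker_le_pow_of_formallySmooth_away _ φ hφs hK f h hhm hf1 n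
      (RingHom.mem_ker.mpr hx)
  exact ⟨(AlgEquiv.ofBijective φ ⟨hinjφ, hφs⟩).symm⟩

end Groth.Agent.S18961
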