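import Groth.Statements.S18962
-- import your own Groth.Agent.* helpers here

set_option autoImplicit false
universe u
open BBDec

namespace Groth.Agent.S18962

open TensorProduct KaehlerDifferential

section General

variable {A B₁ B₂ C : Type u} [CommRing A] [CommRing B₁] [CommRing B₂] [CommRing C]
  [Algebra A B₁] [Algebra A B₂] [Algebra B₂ B₁] [IsScalarTower A B₂ B₁]
  [Algebra A C] [Algebra B₁ C] [Algebra B₂ C] [IsScalarTower A B₁ C] [IsScalarTower A B₂ C]
  [IsScalarTower B₂ B₁ C]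

/-- Final assembly: if `C ⊗[B₂] Ω[B₂⁄A] → Ω[C⁄A]` is bijective and `H¹(L_{C/A}) = 0`
then `C` is formally étale over `B₂`. -/
theorem formallyEtale_of_bijective_mapBaseChange [Subsingleton (Algebra.H1Cotangent A C)]
    (h : Function.Bijective (mapBaseChange A B₂ C)) : Algebra.FormallyEtale B₂ C := by
  constructor
  · have hs : Function.Surjective (KaehlerDifferential.map A B₂ C C) :=
      KaehlerDifferential.map_surjective A B₂ C
    have h0 : ∀ x : Ω[C⁄B₂], x = 0 := by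
      intro x
      obtain ⟨x', rfl⟩ := hs x
      obtain ⟨x'', rfl⟩ := h.2 x'
      exact (KaehlerDifferential.exact_mapBaseChange_map A B₂ C _).mpr ⟨_, rfl⟩
    exact ⟨fun x y => (h0 x).trans (h0 y).symm⟩
  · have h0 : ∀ x : Algebra.H1Cotangent B₂ C, x = 0 := by
      intro x
      have h1 : Algebra.H1Cotangent.δ A B₂ C x = 0 := by
        apply h.1
        rw [map_zero]
        exact (Algebra.H1Cotangent.exact_δ_mapBaseChange A B₂ C _).mpr ⟨_, rfl⟩
      obtain ⟨y, rfl⟩ := (Algebra.H1Cotangent.exact_map_δ A B₂ C x).mp h1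
      rw [Subsingleton.elim y 0, map_zero]
    exact ⟨fun x y => (h0 x).trans (h0 y).symm⟩

/-- `D z ∈ J • ⊤` for `z ∈ J ^ 2` (image in `C`). -/
theorem D_mem_smul_top_of_mem_sq (J : Ideal B₁) (z : B₁) (hz : z ∈ J ^ 2) :
    D A C (algebraMap B₁ C z) ∈
      ((J.map (algebraMap B₁ C)) • ⊤ : Submodule C Ω[C⁄A]) := by
  rw [pow_two] at hz
  refine Submodule.mul_induction_on hz ?_ ?_
  · intro u hu v hv
    rw [map_mul, Derivation.leibniz]
    exact add_mem (Submodule.smul_mem_smul (Ideal.mem_map_of_mem _ hu) trivial)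
      (Submodule.smul_mem_smul (Ideal.mem_map_of_mem _ hv) trivial)
  · intro x y hx hy
    rw [map_add, map_add]
    exact add_mem hx hy

variable (σ₁ : B₁ →ₐ[A] A) (σ₂ : B₂ →ₐ[A] A)
  (hσ : σ₁.comp (IsScalarTower.toAlgHom A B₂ B₁) = σ₂)
  (hle : RingHom.ker σ₂ ≤ (RingHom.ker σ₁).comap (IsScalarTower.toAlgHom A B₂ B₁))

theorem sub_mem_ker (σ : B₁ →ₐ[A] A) (b : B₁) : b - algebraMap A B₁ (σ b) ∈ RingHom.ker σ := by
  rw [RingHom.mem_ker, map_sub, AlgHom.commutes, Algebra.algebraMap_self_apply, sub_self]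

include hσ in
theorem sigma_apply (y : B₂) : σ₁ (algebraMap B₂ B₁ y) = σ₂ y := by
  rw [← hσ]; rfl

/-- Surjectivity of `C ⊗[B₂] Ω[B₂⁄A] → Ω[C⁄A]` by Nakayama. -/
theorem surjective_mapBaseChange [Module.Finite C Ω[C⁄A]]
    (hspan : Submodule.span C (Set.range (fun b : B₁ => D A C (algebraMap B₁ C b))) = ⊤)
    (hI : (RingHom.ker σ₁).map (algebraMap B₁ C) ≤ Ideal.jacobson ⊥)
    (hcot : Function.Surjective
      (Ideal.mapCotangent (RingHom.ker σ₂) (RingHom.ker σ₁) (IsScalarTower.toAlgHom A B₂ B₁) hle)) :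
    Function.Surjective (mapBaseChange A B₂ C) := by
  rw [← LinearMap.range_eq_top, eq_top_iff]
  refine Submodule.le_of_le_smul_of_le_jacobson_bot (Module.Finite.fg_top) hI ?_
  refine hspan.symm.le.trans (Submodule.span_le.mpr ?_)
  rintro _ ⟨b, rfl⟩
  change D A C (algebraMap B₁ C b) ∈ _
  -- decompose b
  obtain ⟨y, hy⟩ := hcot ((RingHom.ker σ₁).toCotangent ⟨_, sub_mem_ker σ₁ b⟩)
  obtain ⟨y, rfl⟩ := Ideal.toCotangent_surjective _ y
  rw [Ideal.mapCotangent_toCotangent, Ideal.toCotangent_eq] at hy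
  have hz := D_mem_smul_top_of_mem_sq (A := A) (C := C) _ _ hy
  have hb : algebraMap B₁ C b = algebraMap B₂ C y.1 + algebraMap A C (σ₁ b) -
      algebraMap B₁ C (algebraMap B₂ B₁ y.1 - (b - algebraMap A B₁ (σ₁ b))) := by
    rw [IsScalarTower.algebraMap_apply B₂ B₁ C, IsScalarTower.algebraMap_apply A B₁ C]
    simp only [map_sub]
    ring
  rw [hb, map_sub, map_add, Derivation.map_algebraMap, add_zero]
  refine sub_mem (Submodule.mem_sup_left ?_) (Submodule.mem_sup_right ?_)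
  · refine ⟨1 ⊗ₜ D A B₂ y.1, ?_⟩
    rw [mapBaseChange_tmul, one_smul, map_D]
  · simpa using hz

variable (A B₂ C) in
/-- The target module `Z = (C ⊗ Ω[B₂/A]) / I (C ⊗ Ω[B₂/A])`, `I = b₁ C`. -/
abbrev ZMod (σ₁ : B₁ →ₐ[A] A) : Type u :=
  (C ⊗[B₂] Ω[B₂⁄A]) ⧸ (((RingHom.ker σ₁).map (algebraMap B₁ C)) • ⊤ :
    Submodule C (C ⊗[B₂] Ω[B₂⁄A]))

theorem smul_ZMod_eq_zero (x : B₁) (hx : x ∈ RingHom.ker σ₁) (z : ZMod A B₂ C σ₁) :
    x • z = 0 := by
  obtain ⟨t, rfl⟩ := Submodule.mkQ_surjective _ z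
  rw [← algebraMap_smul C x, ← map_smul, Submodule.mkQ_apply, Submodule.Quotient.mk_eq_zero]
  exact Submodule.smul_mem_smul (Ideal.mem_map_of_mem _ hx) trivial

include hle in
theorem smul_ZMod_eq_zero' (y : B₂) (hy : y ∈ RingHom.ker σ₂) (z : ZMod A B₂ C σ₁) :
    y • z = 0 := by
  rw [← algebraMap_smul B₁ y z]
  exact smul_ZMod_eq_zero σ₁ _ (hle hy) z

/-- `y ↦ [1 ⊗ dy]`, which is `B₂`-linear on `b₂`. -/
noncomputable def nu0 : RingHom.ker σ₂ →ₗ[B₂] ZMod A B₂ C σ₁ where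
  toFun y := Submodule.mkQ _ (1 ⊗ₜ D A B₂ y.1)
  map_add' y y' := by
    simp only [Submodule.coe_add, map_add, tmul_add]
  map_smul' r y := by
    simp only [Submodule.coe_smul, smul_eq_mul, Derivation.leibniz, tmul_add, map_add,
      RingHom.id_apply, tmul_smul]
    rw [LinearMap.map_smul_of_tower, LinearMap.map_smul_of_tower,
      smul_ZMod_eq_zero' σ₁ σ₂ hle y.1 y.2, add_zero]

include hle in
/-- `ν : b₂/b₂² → Z`, `[y] ↦ [1 ⊗ dy]`. -/
theorem exists_nu : ∃ ν : (RingHom.ker σ₂).Cotangent →ₗ[A] ZMod A B₂ C σ₁,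
    ∀ y : RingHom.ker σ₂, ν ((RingHom.ker σ₂).toCotangent y) =
      Submodule.mkQ _ (1 ⊗ₜ D A B₂ y.1) := by
  have h : ((RingHom.ker σ₂) • ⊤ : Submodule B₂ (RingHom.ker σ₂)) ≤
      LinearMap.ker (nu0 (C := C) σ₁ σ₂ hle) := by
    rw [Submodule.smul_le]
    intro r hr n _
    rw [LinearMap.mem_ker, map_smul]
    exact smul_ZMod_eq_zero' σ₁ σ₂ hle r hr _
  exact ⟨(Submodule.liftQ _ (nu0 (C := C) σ₁ σ₂ hle) h).restrictScalars A, fun y => rfl⟩

/-- `b ↦ [b - σ₁ b] ∈ b₁/b₁²` as an `A`-linear map. -/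
noncomputable def D1 : B₁ →ₗ[A] (RingHom.ker σ₁).Cotangent where
  toFun b := (RingHom.ker σ₁).toCotangent ⟨_, sub_mem_ker σ₁ b⟩
  map_add' b b' := by
    rw [← map_add, Ideal.toCotangent_eq]
    simp only [Submodule.coe_add, map_add]
    ring_nf
    exact zero_mem _
  map_smul' a b := by
    rw [RingHom.id_apply, ← LinearMap.map_smul_of_tower, Ideal.toCotangent_eq]
    simp only [Submodule.coe_smul_of_tower, Algebra.smul_def, map_mul, AlgHom.commutes,
      Algebra.algebraMap_self_apply]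
    ring_nf
    exact zero_mem _

theorem D1_mul (b b' : B₁) : D1 σ₁ (b * b') = σ₁ b • D1 σ₁ b' + σ₁ b' • D1 σ₁ b := by
  change (RingHom.ker σ₁).toCotangent _ = σ₁ b • (RingHom.ker σ₁).toCotangent _ +
    σ₁ b' • (RingHom.ker σ₁).toCotangent _
  rw [← LinearMap.map_smul_of_tower, ← LinearMap.map_smul_of_tower, ← map_add,
    Ideal.toCotangent_eq]
  simp only [Submodule.coe_add, Submodule.coe_smul_of_tower, Algebra.smul_def, map_mul]
  have : b * b' - (algebraMap A B₁) (σ₁ b) * (algebraMap A B₁) (σ₁ b') -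
      ((algebraMap A B₁) (σ₁ b) * (b' - (algebraMap A B₁) (σ₁ b')) +
        (algebraMap A B₁) (σ₁ b') * (b - (algebraMap A B₁) (σ₁ b))) =
      (b - algebraMap A B₁ (σ₁ b)) * (b' - algebraMap A B₁ (σ₁ b')) := by ring
  rw [this, pow_two]
  exact Ideal.mul_mem_mul (sub_mem_ker σ₁ b) (sub_mem_ker σ₁ b')

include hσ hle in
/-- A retraction of `ψ = mapBaseChange` modulo `I`. -/
theorem exists_Phi [Algebra.FormallyEtale B₁ C]
    (hcot : Function.Bijective
      (Ideal.mapCotangent (RingHom.ker σ₂) (RingHom.ker σ₁) (IsScalarTower.toAlgHom A B₂ B₁) hle)) :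
    ∃ Φ : Ω[C⁄A] →ₗ[C] ZMod A B₂ C σ₁, ∀ t, Φ (mapBaseChange A B₂ C t) = Submodule.mkQ _ t := by
  obtain ⟨ν, hν⟩ := exists_nu (C := C) σ₁ σ₂ hle
  let e := (LinearEquiv.ofBijective _ hcot).symm
  let L : B₁ →ₗ[A] ZMod A B₂ C σ₁ := ν ∘ₗ e.toLinearMap ∘ₗ D1 σ₁
  have hsm : ∀ (b : B₁) (z : ZMod A B₂ C σ₁), σ₁ b • z = b • z := by
    intro b z
    have := smul_ZMod_eq_zero σ₁ _ (sub_mem_ker σ₁ b) z
    rw [sub_smul, sub_eq_zero, algebraMap_smul] at this
    exact this.symm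
  have hL : ∀ b b', L (b * b') = b • L b' + b' • L b := by
    intro b b'
    change ν (e (D1 σ₁ (b * b'))) = b • ν (e (D1 σ₁ b')) + b' • ν (e (D1 σ₁ b))
    rw [D1_mul, map_add, map_add, map_smul, map_smul, map_smul, map_smul, hsm, hsm]
  let Δ : Derivation A B₁ (ZMod A B₂ C σ₁) := Derivation.mk' L hL
  let Φ : Ω[C⁄A] →ₗ[C] ZMod A B₂ C σ₁ :=
    (LinearMap.liftBaseChange C Δ.liftKaehlerDifferential) ∘ₗ
      (tensorKaehlerEquivOfFormallyEtale A B₁ C).symm.toLinearMap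
  have hΦ : ∀ b : B₁, Φ (D A C (algebraMap B₁ C b)) = L b := by
    intro b
    change LinearMap.liftBaseChange C Δ.liftKaehlerDifferential
      ((tensorKaehlerEquivOfFormallyEtale A B₁ C).symm (D A C (algebraMap B₁ C b))) = L b
    rw [tensorKaehlerEquivOfFormallyEtale_symm_D_algebraMap, LinearMap.liftBaseChange_tmul,
      one_smul, Derivation.liftKaehlerDifferential_comp_D]
    rfl
  have hLf : ∀ y : B₂, L (algebraMap B₂ B₁ y) = Submodule.mkQ _ (1 ⊗ₜ D A B₂ y) := by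
    intro y
    have h1 : D1 σ₁ (algebraMap B₂ B₁ y) =
        Ideal.mapCotangent (RingHom.ker σ₂) (RingHom.ker σ₁) (IsScalarTower.toAlgHom A B₂ B₁) hle
          ((RingHom.ker σ₂).toCotangent ⟨_, sub_mem_ker σ₂ y⟩) := by
      rw [Ideal.mapCotangent_toCotangent]
      change (RingHom.ker σ₁).toCotangent _ = _
      congr 1
      ext
      simp only [IsScalarTower.coe_toAlgHom', map_sub, sigma_apply σ₁ σ₂ hσ,
        ← IsScalarTower.algebraMap_apply]
    change ν (e (D1 σ₁ (algebraMap B₂ B₁ y))) = _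
    rw [h1]
    change ν ((LinearEquiv.ofBijective _ hcot).symm ((LinearEquiv.ofBijective _ hcot) _)) = _
    rw [LinearEquiv.symm_apply_apply, hν]
    simp only [map_sub, Derivation.map_algebraMap, sub_zero]
  refine ⟨Φ, fun t => ?_⟩
  let F₁ : Ω[B₂⁄A] →ₗ[B₂] ZMod A B₂ C σ₁ :=
    ((Φ ∘ₗ mapBaseChange A B₂ C).restrictScalars B₂) ∘ₗ (TensorProduct.mk B₂ C Ω[B₂⁄A] 1)
  let F₂ : Ω[B₂⁄A] →ₗ[B₂] ZMod A B₂ C σ₁ :=
    ((Submodule.mkQ _).restrictScalars B₂) ∘ₗ (TensorProduct.mk B₂ C Ω[B₂⁄A] 1)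
  have hF : F₁ = F₂ := by
    apply Derivation.liftKaehlerDifferential_unique
    ext y
    change Φ (mapBaseChange A B₂ C (1 ⊗ₜ D A B₂ y)) = Submodule.mkQ _ (1 ⊗ₜ D A B₂ y)
    rw [mapBaseChange_tmul, one_smul, map_D, IsScalarTower.algebraMap_apply B₂ B₁ C, hΦ, hLf]
  induction t using TensorProduct.induction_on with
  | zero => simp
  | tmul c ω =>
    have : c ⊗ₜ[B₂] ω = c • ((1 : C) ⊗ₜ[B₂] ω) := by rw [smul_tmul', smul_eq_mul, mul_one]
    rw [this, map_smul, map_smul, map_smul]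
    congr 1
    exact LinearMap.congr_fun hF ω
  | add x y hx hy => rw [map_add, map_add, map_add, hx, hy]

include hσ hle in
/-- Bijectivity of `C ⊗[B₂] Ω[B₂⁄A] → Ω[C⁄A]`. -/
theorem bijective_mapBaseChange [Algebra.FormallyEtale B₁ C] [Module.Finite C Ω[C⁄A]]
    [Module.Projective C Ω[C⁄A]] [Module.Finite B₂ Ω[B₂⁄A]]
    (hspan : Submodule.span C (Set.range (fun b : B₁ => D A C (algebraMap B₁ C b))) = ⊤)
    (hI : (RingHom.ker σ₁).map (algebraMap B₁ C) ≤ Ideal.jacobson ⊥)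
    (hcot : Function.Bijective
      (Ideal.mapCotangent (RingHom.ker σ₂) (RingHom.ker σ₁) (IsScalarTower.toAlgHom A B₂ B₁) hle)) :
    Function.Bijective (mapBaseChange A B₂ C) := by
  have hsurj := surjective_mapBaseChange (C := C) σ₁ σ₂ hle hspan hI hcot.2
  refine ⟨?_, hsurj⟩
  obtain ⟨Φ, hΦ⟩ := exists_Phi (C := C) σ₁ σ₂ hσ hle hcot
  obtain ⟨s, hs⟩ := Module.projective_lifting_property (mapBaseChange A B₂ C) LinearMap.id hsurj
  set ψ := mapBaseChange A B₂ C with hψ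
  let π : (C ⊗[B₂] Ω[B₂⁄A]) →ₗ[C] (C ⊗[B₂] Ω[B₂⁄A]) := LinearMap.id - s ∘ₗ ψ
  have hπ1 : ∀ t, ψ (π t) = 0 := by
    intro t
    have := LinearMap.congr_fun hs (ψ t)
    simp only [LinearMap.comp_apply, LinearMap.id_apply] at this
    simp only [π, LinearMap.sub_apply, LinearMap.id_apply, LinearMap.comp_apply, map_sub, this,
      sub_self]
  have hπ2 : ∀ t, ψ t = 0 → π t = t := by
    intro t ht
    simp only [π, LinearMap.sub_apply, LinearMap.id_apply, LinearMap.comp_apply, ht, map_zero,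
      sub_zero]
  have hK : LinearMap.ker ψ = Submodule.map π ⊤ := by
    ext t
    constructor
    · intro ht
      exact ⟨t, trivial, hπ2 t ht⟩
    · rintro ⟨t', -, rfl⟩
      exact hπ1 t'
  have hfg : (LinearMap.ker ψ).FG := by
    rw [hK]
    exact Submodule.FG.map _ Module.Finite.fg_top
  have hle' : LinearMap.ker ψ ≤ ((RingHom.ker σ₁).map (algebraMap B₁ C)) • LinearMap.ker ψ := by
    intro t ht
    have h1 : t ∈ (((RingHom.ker σ₁).map (algebraMap B₁ C)) • ⊤ :
        Submodule C (C ⊗[B₂] Ω[B₂⁄A])) := by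
      rw [← Submodule.Quotient.mk_eq_zero, ← Submodule.mkQ_apply, ← hΦ t]
      rw [LinearMap.mem_ker] at ht
      rw [ht, map_zero]
    rw [hK, ← Submodule.map_smul'', ← hπ2 t ht]
    exact Submodule.mem_map_of_mem h1
  have hbot := Submodule.eq_bot_of_le_smul_of_le_jacobson_bot _ _ hfg hle' hI
  exact LinearMap.ker_eq_bot.mp hbot

end General

/-- Let A be a commutative ring (the base V = Spec A) and B₁, B₂ commutative A-algebras (V-schemes X₁,
X₂) with A-algebra maps σ₁ : B₁ → A and σ₂ : B₂ → A (sections s₁, s₂ of the structure maps, closed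
immersions with ideals b₁ = ker σ₁, b₂ = ker σ₂), and let B₂ → B₁ be an A-algebra map (a V-morphism
f : X₁ → X₂) with σ₁ ∘ (B₂ → B₁) = σ₂ (f s₁ = s₂). Assume B₁ is finitely presented over A and smooth
over A at every prime containing b₁ (r₁ smooth along s₁(V)), B₂ is of finite type over A, and the
induced map b₂/b₂² → b₁/b₁² of conormal modules is bijective. Then B₂ → B₁ is étale at every prime
of B₁ containing b₁ (f étale along s₁(V)). (The published statement puts no finiteness condition on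
B₂ over A, and in that generality the conclusion fails: over a field k, the square-zero extension of
k[x] by k[x, 1/x] mapping onto k[y] by x ↦ y, with the zero sections, satisfies every other
hypothesis and is not étale at the origin. Here B₂ is assumed of finite type over A.) -/
theorem result (A B₁ B₂ : Type u)
    [CommRing A] [CommRing B₁] [CommRing B₂] [Algebra A B₁] [Algebra A B₂] [Algebra B₂ B₁]
    [IsScalarTower A B₂ B₁] [Algebra.FinitePresentation A B₁] [Algebra.FiniteType A B₂]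
    (σ₁ : B₁ →ₐ[A] A) (σ₂ : B₂ →ₐ[A] A) (hσ : σ₁.comp (IsScalarTower.toAlgHom A B₂ B₁) = σ₂)
    (hle : RingHom.ker σ₂ ≤ (RingHom.ker σ₁).comap (IsScalarTower.toAlgHom A B₂ B₁))
    (hcot : Function.Bijective
      (Ideal.mapCotangent (RingHom.ker σ₂) (RingHom.ker σ₁) (IsScalarTower.toAlgHom A B₂ B₁) hle))
    (hsm : ∀ (P : Ideal B₁) [P.IsPrime], RingHom.ker σ₁ ≤ P → Algebra.IsSmoothAt A P)
    (P : Ideal B₁) [P.IsPrime] (hP : RingHom.ker σ₁ ≤ P) : Algebra.IsEtaleAt B₂ P := by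
  have hsmP : Algebra.FormallySmooth A (Localization.AtPrime P) := hsm P hP
  have hspan : Submodule.span (Localization.AtPrime P) (Set.range (fun b : B₁ =>
      D A (Localization.AtPrime P) (algebraMap B₁ (Localization.AtPrime P) b))) = ⊤ := by
    rw [← KaehlerDifferential.span_range_map_derivation_of_isLocalization A B₁
      (Localization.AtPrime P) P.primeCompl]
    congr 2
    ext b
    simp only [Function.comp_apply, map_D]
  have hI : (RingHom.ker σ₁).map (algebraMap B₁ (Localization.AtPrime P)) ≤ Ideal.jacobson ⊥ := by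
    rw [IsLocalRing.jacobson_eq_maximalIdeal ⊥ bot_ne_top, Ideal.map_le_iff_le_comap]
    exact hP.trans (IsLocalization.AtPrime.comap_maximalIdeal (Localization.AtPrime P) P).ge
  exact formallyEtale_of_bijective_mapBaseChange (A := A)
    (bijective_mapBaseChange σ₁ σ₂ hσ hle hspan hI hcot)

end Groth.Agent.S18962
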