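import Groth.Statements.S1897
import Groth.Agent.H79.CycRelDim
import Groth.Agent.H79.PullStalkLength
import Groth.Agent.H79.SuppGeneric

set_option autoImplicit false
universe u
open CategoryTheory AlgebraicGeometry
open Cyc

namespace Groth.Agent.S1897

/-- Let f : X → Y be flat, locally of finite type, of relative dimension r, and F a coherent O_Y-module
whose support has δ-dimension ≤ k. Then the support of f^*F has δ-dimension ≤ k + r and f^*[F]_k =
[f^*F]_{k+r} (coefficientwise). A pair (X, δ) with Cyc.IsSetup plays the role of a scheme locally of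
finite type over a fixed base with a dimension function (X locally Noetherian with universally
catenary local rings, δ a dimension function), and Cyc.DeltaCompat records that the dimension
function upstairs is the induced one. -/
theorem result (X Y : Scheme.{u}) (δX : X → ℤ) (δY : Y → ℤ) (hX : Cyc.IsSetup X δX) (hY : Cyc.IsSetup Y δY) (f : X ⟶ Y) [Flat f] [LocallyOfFiniteType f] (r : ℕ) (hr : Cyc.HasRelDim f r) (hδ : Cyc.DeltaCompat f δX δY) (k : ℤ) (F : Y.Modules) (hF : Coh.IsCoh F) (hdim : ∀ y : Y, Nontrivial (F.presheaf.stalk y) → δY y ≤ k) : (∀ x : X, Nontrivial (((Scheme.Modules.pullback f).obj F).presheaf.stalk x) → δX x ≤ k + r) ∧ Cyc.pullFun f δX δY r (Cyc.sheafFun δY k F) = Cyc.sheafFun δX (k + r) ((Scheme.Modules.pullback f).obj F) := by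
  obtain ⟨hNX, -, hδX⟩ := hX
  obtain ⟨hNY, -, hδY⟩ := hY
  have hle : ∀ x : X, δX x ≤ δY (f x) + r := fun x =>
    Groth.Agent.H79.CycRelDim.delta_le_add_relDim f δX δY hδX hδ r hr x
  have hsub : ∀ x : X, ¬ Nontrivial (F.presheaf.stalk (f x)) →
      Subsingleton (((Scheme.Modules.pullback f).obj F).presheaf.stalk x) := by
    intro x hx
    rw [not_nontrivial_iff_subsingleton] at hx
    exact Groth.Agent.H79.PullStalkLength.subsingleton_pullback_stalk f x F hx
  refine ⟨fun x hx => ?_, ?_⟩
  · have h1 : Nontrivial (F.presheaf.stalk (f x)) := by
      by_contra h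
      exact not_subsingleton _ (hsub x h)
    have h2 := hdim (f x) h1
    have h3 := hle x
    omega
  · funext x
    simp only [Cyc.pullFun, Cyc.sheafFun]
    by_cases h1 : δX x = δY (f x) + r
    · rw [if_pos h1]
      by_cases h2 : δY (f x) = k
      · rw [if_pos h2, if_pos (by omega)]
        have hfl : IsFiniteLength (Y.presheaf.stalk (f x)) (F.presheaf.stalk (f x)) := by
          apply Groth.Agent.H79.SuppGeneric.isFiniteLength_stalk_of_generic F hF (f x)
          intro y hy hyx
          by_contra hne
          have h3 := (hδY y (f x) hyx hne).1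
          have h4 := hdim y hy
          omega
        rw [Groth.Agent.H79.PullStalkLength.length_pullback_stalk f x F hfl, ENat.toNat_mul]
        push_cast
        rfl
      · rw [if_neg h2, if_neg (by omega), zero_mul]
    · rw [if_neg h1]
      by_cases h2 : δX x = k + r
      · rw [if_pos h2]
        have h3 := hle x
        have h4 : ¬ Nontrivial (F.presheaf.stalk (f x)) := by
          intro h
          have := hdim (f x) h
          omega
        have h5 := hsub x h4
        have h0 : Module.length (X.presheaf.stalk x)
            (((Scheme.Modules.pullback f).obj F).presheaf.stalk x) = 0 :=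
          Module.length_eq_zero_iff.mpr h5
        rw [h0]
        rfl
      · rw [if_neg h2]

end Groth.Agent.S1897
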