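import Groth.Statements.S18975
import Groth.Agent.H40.GeomQuot
import Groth.Agent.H40.QuotShDesc
import Groth.Agent.H1.Descent
set_option backward.isDefEq.respectTransparency.types false

set_option autoImplicit false
universe u
open CategoryTheory MonoidalCategory CartesianMonoidalCategory MonObj AlgebraicGeometry
open GIT

namespace Groth.Agent.S18975

/-- Over an algebraically closed field k of characteristic zero, let G be an affine group scheme of
finite type over k acting on a k-scheme X, and let φ : X → Y be a morphism of k-schemes which is a
G-torsor over Y: the square formed by the action G ×_k X → X, the second projection and φ (twice) is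
cartesian, and φ acquires sections on the members of some fpqc covering family of Y. Then φ is
affine and (Y, φ) is a geometric quotient: φ is invariant and surjective, G ×_k X → X ×_Y X is
surjective, φ is universally submersive, and over every open of Y the functions on Y are exactly the
invariant functions on its preimage. (The source defines a torsor by the existence of one fpqc
morphism to Y trivialising it and defines geometric quotients with φ affine and submersive;
universal submersiveness follows because every base change of a torsor is a torsor.) -/
theorem result
    (k : Type u) [Field k] [IsAlgClosed k] [CharZero k]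
    (G X Y : Over (Spec (CommRingCat.of k))) [GrpObj G] [IsAffine G.left] [LocallyOfFiniteType G.hom]
    (a : AlgGrp.Action G X) (φ : X ⟶ Y)
    (hcart : IsPullback a.act (snd G X) φ φ)
    (hloc : NonAbH1.IsLocallyTrivialFor Scheme.fpqcPrecoverage (Over.mk φ.left : Over Y.left)) :
    IsAffineHom φ.left ∧ GIT.IsGeomQuot a φ := by
  obtain ⟨R, hR, hs⟩ := hloc
  have hs' : ∀ ⦃Z : Scheme.{u}⦄ (g : Z ⟶ Y.left), R g → ∃ s : Z ⟶ X.left, s ≫ φ.left = g :=
    fun Z g hg => hs g hg
  have hpb : IsPullback a.act.left (snd G X).left φ.left φ.left := hcart.map (Over.forget _)
  refine ⟨?_, ?_⟩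
  · have hG : IsAffineHom G.hom := by
      have : IsAffine ((Functor.fromPUnit (Spec (CommRingCat.of k))).obj G.right) :=
        inferInstanceAs (IsAffine (Spec (CommRingCat.of k)))
      exact isAffineHom_of_isAffine _
    have h1 : IsAffineHom (snd G X).left := by
      change IsAffineHom (Limits.pullback.snd G.hom X.hom)
      exact MorphismProperty.pullback_snd (P := @IsAffineHom) _ _ hG
    exact Groth.Agent.H40.QuotShLoc.prop_of_isKernelPair_of_local_sections (snd G X) a.act
      @IsAffineHom Groth.Agent.H1.isAffineHom_descendsAlong_fpqc φ hcart.flip hR hs' h1
  · refine Groth.Agent.H40.isGeomQuot_of_local a φ hcart.w ⟨R, hR, hs⟩ ?_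
    refine Groth.Agent.H40.locTrans_of_lift a φ ?_
    intro Z z₁ z₂ h12
    exact ⟨hpb.lift z₁ z₂ h12, hpb.lift_fst _ _ _, hpb.lift_snd _ _ _⟩

end Groth.Agent.S18975
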