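import Groth.Statements.S18976
import Groth.Agent.S18975
import Groth.Agent.H40.AssocBundleMain
import Groth.Agent.H40.FpqcTors
import Groth.Agent.H40.LocTriv

set_option autoImplicit false
universe u
open CategoryTheory MonoidalCategory CartesianMonoidalCategory MonObj AlgebraicGeometry
open GIT

namespace Groth.Agent.S18976

/-- The associated fibre bundle exists. Over an algebraically closed field k of characteristic zero, let
G be an affine group scheme of finite type over k acting on a k-scheme X, let φ : X → Y be a
G-torsor over Y (the square formed by the action, the second projection and φ twice is cartesian,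
and φ acquires sections on the members of some fpqc covering family of Y), and let G act on an
affine k-scheme F. Give X ×_k F the diagonal action. Then there are a k-scheme Q with a morphism to
Y and a morphism q : X ×_k F → Q compatible with the projection to Y such that q is a G-torsor over
Q in the same sense; moreover q is affine and a geometric quotient. (The source writes the torsor
with a right action and lets g act on X × F by (x g⁻¹, g f); with the left action g x := x g⁻¹ this
is the diagonal action used here. The last assertion of the source, on the case where F is a larger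
affine group containing G, is not part of this row.) -/
theorem result
    (k : Type u) [Field k] [IsAlgClosed k] [CharZero k]
    (G X Y F : Over (Spec (CommRingCat.of k))) [GrpObj G] [IsAffine G.left] [LocallyOfFiniteType G.hom]
    (a : AlgGrp.Action G X) (φ : X ⟶ Y)
    (hcart : IsPullback a.act (snd G X) φ φ)
    (hloc : NonAbH1.IsLocallyTrivialFor Scheme.fpqcPrecoverage (Over.mk φ.left : Over Y.left))
    [IsAffine F.left] (b : AlgGrp.Action G F) :
    ∃ (Q : Over (Spec (CommRingCat.of k))) (q : X ⊗ F ⟶ Q) (r : Q ⟶ Y),
      q ≫ r = fst X F ≫ φ ∧
      IsPullback (a.prod b).act (snd G (X ⊗ F)) q q ∧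
      NonAbH1.IsLocallyTrivialFor Scheme.fpqcPrecoverage (Over.mk q.left : Over Q.left) ∧
      IsAffineHom q.left ∧ GIT.IsGeomQuot (a.prod b) q := by
  obtain ⟨haff, hgq⟩ := Groth.Agent.S18975.result k G X Y a φ hcart hloc
  have hsurj : Surjective φ.left := ⟨hgq.surj⟩
  have hqc : QuasiCompact φ.left := inferInstance
  have hflat : Flat φ.left := by
    obtain ⟨R, hR, hs⟩ := hloc
    have hs' : ∀ ⦃Z : Scheme.{u}⦄ (g : Z ⟶ Y.left), R g → ∃ s : Z ⟶ X.left, s ≫ φ.left = g :=
      fun Z g hg => hs g hg
    have h1 : Flat (snd G X).left := by
      change Flat (Limits.pullback.snd G.hom X.hom)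
      infer_instance
    exact Groth.Agent.H40.QuotShLoc.prop_of_isKernelPair_of_local_sections (snd G X) a.act
      @Flat Groth.Agent.H40.flat_descendsAlong φ hcart.flip hR hs' h1
  have hF : IsAffineHom (fst X F).left := by
    have hF0 : IsAffineHom F.hom := by
      have : IsAffine ((Functor.fromPUnit (Spec (CommRingCat.of k))).obj F.right) :=
        inferInstanceAs (IsAffine (Spec (CommRingCat.of k)))
      exact isAffineHom_of_isAffine _
    change IsAffineHom (Limits.pullback.fst X.hom F.hom)
    exact MorphismProperty.pullback_fst (P := @IsAffineHom) _ _ hF0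
  obtain ⟨Q, q, r, hqr, hpb, htors⟩ := Groth.Agent.H40.AssocBundle.exists_assocBundle a φ hcart b
  have hlocq : NonAbH1.IsLocallyTrivialFor Scheme.fpqcPrecoverage (Over.mk q.left : Over Q.left) :=
    Groth.Agent.H40.isLocallyTrivialFor_of_isPullback (hpb.map (Over.forget _)) hloc
  obtain ⟨h1, h2⟩ := Groth.Agent.S18975.result k G (X ⊗ F) Q (a.prod b) q htors hlocq
  exact ⟨Q, q, r, hqr, htors, hlocq, h1, h2⟩

end Groth.Agent.S18976
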