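import Groth.Statements.S18980
import Mathlib

set_option autoImplicit false
universe u
open CategoryTheory MonoidalCategory CartesianMonoidalCategory MonObj AlgebraicGeometry Topology
open NRQuot

namespace Groth.Agent.S18980

/-- Over an algebraically closed field k of characteristic zero, let G be an affine group scheme of
finite type over k acting on a k-scheme X and let φ : X → Y be a good quotient: φ is affine and
invariant, over every open of Y the functions on Y are exactly the invariant functions on the
preimage, invariant closed subsets of X have closed images, and the image of the intersection of any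
family of invariant closed subsets is the intersection of the images. Then φ is submersive: a subset
of Y is open exactly when its preimage is, and φ is surjective (the underlying map is a topological
quotient map). -/
theorem result
    (k : Type u) [Field k] [IsAlgClosed k] [CharZero k]
    (G X Y : Over (Spec (CommRingCat.of k))) [GrpObj G] [IsAffine G.left] [LocallyOfFiniteType G.hom]
    (a : AlgGrp.Action G X) (φ : X ⟶ Y) (h : NRQuot.IsGoodQuot a φ) :
    IsQuotientMap φ.left.base := by
  have hinv := h.inv.left
  have hpt : ∀ p : ↥(G ⊗ X).left,
      φ.left.base (a.act.left.base p) = φ.left.base ((snd G X).left.base p) := by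
    intro p
    have h1 : (a.act.left ≫ φ.left).base p = ((snd G X).left ≫ φ.left).base p := by rw [hinv]
    simpa using h1
  have hpre : ∀ V : Set ↥Y.left, NRQuot.IsInvariantSet a (φ.left.base ⁻¹' V) := by
    intro V p hp
    change φ.left.base (a.act.left.base p) ∈ V
    rw [hpt]
    exact hp
  have hsurj : Function.Surjective φ.left.base := by
    have hcl : IsClosed (Set.range φ.left.base) := by
      have := h.closed Set.univ isClosed_univ (fun p _ => Set.mem_univ _)
      rwa [Set.image_univ] at this
    by_contra hns
    let U : Y.left.Opens := ⟨(Set.range φ.left.base)ᶜ, hcl.isOpen_compl⟩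
    have hU : φ.left ⁻¹ᵁ U = ⊥ := by
      ext x
      simp [U]
    have hinjU := (h.sections U).1
    have hsub : Subsingleton Γ(X.left, φ.left ⁻¹ᵁ U) := by
      rw [hU]
      infer_instance
    have h01 : (1 : Γ(Y.left, U)) = 0 := hinjU (Subsingleton.elim _ _)
    have hUbot : U = ⊥ := by
      rw [← Scheme.basicOpen_of_isUnit Y.left (f := (1 : Γ(Y.left, U))) isUnit_one, h01,
        Scheme.basicOpen_zero]
    apply hns
    intro y
    by_contra hy
    have : y ∈ U := hy
    rw [hUbot] at this
    exact this
  rw [Topology.isQuotientMap_iff_isClosed]
  refine ⟨hsurj, ?_⟩
  intro V
  constructor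
  · intro hV
    exact hV.preimage φ.left.base.hom.continuous_toFun
  · intro hV
    have hcl : IsClosed (φ.left.base '' (φ.left.base ⁻¹' V)) := h.closed _ hV (hpre _)
    rwa [Set.image_preimage_eq _ hsurj] at hcl

end Groth.Agent.S18980
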