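import Groth.Statements.S19004
import Mathlib

set_option autoImplicit false
open GIT

namespace Groth.Agent.S19004

section Aux
open MvPolynomial Matrix Finset

theorem prod_split (n : ℕ) :
    (∏ i : Fin n, ∏ j ∈ Finset.univ.erase i, (X i - X j : MvPolynomial (Fin n) ℤ)) =
      (projVandermonde (1 : Fin n → MvPolynomial (Fin n) ℤ) X).det * (vandermonde (X : Fin n → MvPolynomial (Fin n) ℤ)).det := by
  rw [det_projVandermonde, det_vandermonde]
  have h1 : ∀ i : Fin n, Finset.univ.erase i = Finset.Ioi i ∪ Finset.Iio i := by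
    intro i
    ext j
    simp only [Finset.mem_erase, Finset.mem_univ, and_true, Finset.mem_union, Finset.mem_Ioi,
      Finset.mem_Iio]
    constructor
    · intro h; rcases lt_or_gt_of_ne h with h | h
      · right; exact h
      · left; exact h
    · rintro (h | h)
      · exact (ne_of_gt h)
      · exact (ne_of_lt h)
  have h2 : ∀ i : Fin n, Disjoint (Finset.Ioi i) (Finset.Iio i) := by
    intro i
    rw [Finset.disjoint_left]
    intro j hj hj'
    rw [Finset.mem_Ioi] at hj
    rw [Finset.mem_Iio] at hj'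
    exact lt_asymm hj hj'
  simp_rw [h1, Finset.prod_union (h2 _), Finset.prod_mul_distrib]
  congr 1
  · refine Finset.prod_congr rfl fun i _ => Finset.prod_congr rfl fun j _ => ?_
    simp
  · rw [Finset.prod_comm' (s' := fun j => Finset.Ioi j) (t' := Finset.univ)]
    intro x y
    simp

theorem prod_X_pow (n : ℕ) (e : Fin n → ℕ) :
    (∏ i : Fin n, (X i : MvPolynomial (Fin n) ℤ) ^ e i) = monomial (Finsupp.equivFunOnFinite.symm e) 1 := by
  rw [monomial_eq, Finsupp.prod_fintype _ _ (fun i => pow_zero _)]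
  simp

theorem detA (n : ℕ) :
    (projVandermonde (1 : Fin n → MvPolynomial (Fin n) ℤ) X).det =
      ∑ σ : Equiv.Perm (Fin n), monomial (Finsupp.equivFunOnFinite.symm fun i => n - 1 - (σ i : ℕ))
        ((Equiv.Perm.sign σ : ℤˣ) : ℤ) := by
  rw [← det_transpose, det_apply]
  refine Finset.sum_congr rfl fun σ _ => ?_
  have : ∀ i : Fin n, (projVandermonde (1 : Fin n → MvPolynomial (Fin n) ℤ) X)ᵀ (σ i) i =
      (X i : MvPolynomial (Fin n) ℤ) ^ (n - 1 - (σ i : ℕ)) := by
    intro i
    rw [transpose_apply, projVandermonde_apply]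
    simp [Fin.rev]
    congr 1
    omega
  rw [Finset.prod_congr rfl fun i _ => this i, prod_X_pow, Units.smul_def, zsmul_eq_mul,
    ← map_intCast (C : ℤ →+* MvPolynomial (Fin n) ℤ), C_mul_monomial, mul_one, Int.cast_id]

theorem detB (n : ℕ) :
    (vandermonde (X : Fin n → MvPolynomial (Fin n) ℤ)).det =
      ∑ σ : Equiv.Perm (Fin n), monomial (Finsupp.equivFunOnFinite.symm fun i => (σ i : ℕ))
        ((Equiv.Perm.sign σ : ℤˣ) : ℤ) := by
  rw [← det_transpose, det_apply]
  refine Finset.sum_congr rfl fun σ _ => ?_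
  have : ∀ i : Fin n, (vandermonde (X : Fin n → MvPolynomial (Fin n) ℤ))ᵀ (σ i) i =
      (X i : MvPolynomial (Fin n) ℤ) ^ ((σ i : ℕ)) := by
    intro i
    rw [transpose_apply, vandermonde_apply]
  rw [Finset.prod_congr rfl fun i _ => this i, prod_X_pow, Units.smul_def, zsmul_eq_mul,
    ← map_intCast (C : ℤ →+* MvPolynomial (Fin n) ℤ), C_mul_monomial, mul_one, Int.cast_id]

end Aux


/-- For the group PGL(n) acting on the space of n × n matrices the T-quotient is (P^{n−1})^n with Chow
ring ℚ[t_1,…,t_n]/(t_1^n,…,t_n^n), the class c_top(g/t) is the product of all roots t_i − t_j (i ≠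
j), and the computation in the proof shows that this product equals n!·t_1^{n−1}⋯t_n^{n−1} in that
ring. Stated here as the equivalent coefficient identity in ℤ[t_1,…,t_n]: the coefficient of
t_1^{n−1}⋯t_n^{n−1} in the product over ordered pairs i ≠ j of (t_i − t_j) is n!. -/
theorem result (n : ℕ) :
    MvPolynomial.coeff (Finsupp.equivFunOnFinite.symm (fun _ : Fin n => n - 1))
      (∏ i : Fin n, ∏ j ∈ Finset.univ.erase i, (MvPolynomial.X i - MvPolynomial.X j : MvPolynomial (Fin n) ℤ)) = (n.factorial : ℤ) := by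
  rw [prod_split, detA, detB, Finset.sum_mul_sum, MvPolynomial.coeff_sum]
  simp_rw [MvPolynomial.coeff_sum, MvPolynomial.monomial_mul, MvPolynomial.coeff_monomial]
  have key : ∀ σ τ : Equiv.Perm (Fin n),
      ((Finsupp.equivFunOnFinite.symm fun i => n - 1 - (σ i : ℕ)) +
        (Finsupp.equivFunOnFinite.symm fun i => (τ i : ℕ)) =
          Finsupp.equivFunOnFinite.symm (fun _ : Fin n => n - 1)) ↔ σ = τ := by
    intro σ τ
    constructor
    · intro h
      ext i
      have := DFunLike.congr_fun h i
      simp only [Finsupp.coe_add, Pi.add_apply, Finsupp.coe_equivFunOnFinite_symm] at this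
      have h1 := (σ i).isLt
      have h2 := (τ i).isLt
      omega
    · rintro rfl
      ext i
      simp only [Finsupp.coe_add, Pi.add_apply, Finsupp.coe_equivFunOnFinite_symm]
      have h1 := (σ i).isLt
      omega
  simp_rw [key, Finset.sum_ite_eq, Finset.mem_univ, if_true]
  have : ∀ σ : Equiv.Perm (Fin n), ((Equiv.Perm.sign σ : ℤˣ) : ℤ) * ((Equiv.Perm.sign σ : ℤˣ) : ℤ) = 1 := by
    intro σ
    rw [← Units.val_mul, Int.units_mul_self, Units.val_one]
  simp_rw [this]
  simp [Fintype.card_perm]

end Groth.Agent.S19004
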