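import Groth.Statements.S19005
import Mathlib.Tactic.Abel

set_option autoImplicit false
open scoped TensorProduct
open K2Cent

namespace Groth.Agent.S19005

/-- For abelian groups X and M and ε in M with 2ε = 0 (in the source X is the character group of a split
torus and ε is the class of −1 among the units), the map x ↦ (x ⊗ x, −(x ⊗ ε)) into (X ⊗ X) × (X ⊗
M) is quadratic over ℤ, i.e. it underlies an integer quadratic map with exactly these values. -/
theorem result (X M : Type*) [AddCommGroup X]
    [AddCommGroup M] (ε : M) (hε : 2 • ε = 0) :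
    ∃ R : QuadraticMap ℤ X (TensorProduct ℤ X X × TensorProduct ℤ X M),
      ∀ x : X, R x = (x ⊗ₜ[ℤ] x, -(x ⊗ₜ[ℤ] ε)) := by
  have hev : ∀ (a : ℤ) (x : X), (a * a) • (x ⊗ₜ[ℤ] ε) = a • (x ⊗ₜ[ℤ] ε) := by
    intro a x
    obtain ⟨m, hm⟩ := Int.even_mul_pred_self a
    have h1 : a * a = a + (m + m) := by
      have : a * (a - 1) = a * a - a := by rw [mul_sub, mul_one]
      rw [this] at hm
      rw [← hm]; abel
    have h2 : (m + m) • (x ⊗ₜ[ℤ] ε) = 0 := by
      rw [← TensorProduct.tmul_smul, add_smul, ← smul_add]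
      have : ε + ε = 0 := by rw [← two_nsmul]; exact hε
      rw [this, smul_zero, TensorProduct.tmul_zero]
    rw [h1, add_smul, h2, add_zero]
  refine ⟨{ toFun := fun x => (x ⊗ₜ[ℤ] x, -(x ⊗ₜ[ℤ] ε)), toFun_smul := ?_, exists_companion' := ?_ },
    fun x => rfl⟩
  · intro a x
    refine Prod.ext ?_ ?_
    · simp only [Prod.smul_fst]
      rw [TensorProduct.smul_tmul_smul]
    · simp only [Prod.smul_snd, smul_neg]
      rw [← TensorProduct.smul_tmul', hev]
  · refine ⟨LinearMap.mk₂ ℤ (fun x y => ((x ⊗ₜ[ℤ] y + y ⊗ₜ[ℤ] x, 0) : TensorProduct ℤ X X × TensorProduct ℤ X M))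
      ?_ ?_ ?_ ?_, ?_⟩
    · intro x x' y
      refine Prod.ext ?_ ?_
      · simp only [Prod.fst_add, TensorProduct.add_tmul, TensorProduct.tmul_add]; abel
      · simp
    · intro c x y
      refine Prod.ext ?_ ?_
      · simp only [Prod.smul_fst, smul_add, TensorProduct.smul_tmul', TensorProduct.tmul_smul]
      · simp
    · intro x y y'
      refine Prod.ext ?_ ?_
      · simp only [Prod.fst_add, TensorProduct.add_tmul, TensorProduct.tmul_add]; abel
      · simp
    · intro c x y
      refine Prod.ext ?_ ?_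
      · simp only [Prod.smul_fst, smul_add, TensorProduct.smul_tmul', TensorProduct.tmul_smul]
      · simp
    · intro x y
      refine Prod.ext ?_ ?_
      · simp only [LinearMap.mk₂_apply, Prod.fst_add, TensorProduct.add_tmul, TensorProduct.tmul_add]; abel
      · simp only [LinearMap.mk₂_apply, Prod.snd_add, TensorProduct.add_tmul, neg_add, add_zero]

end Groth.Agent.S19005
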