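import Groth.Statements.S19006
import Mathlib.Tactic.Ring
import Mathlib.Tactic.LinearCombination

set_option autoImplicit false
universe u v w x
open RootD

namespace Groth.Agent.S19006

/-- For a root pairing over an integral domain of characteristic zero, a quadratic form Q on the
coweight module N with polar form B, and a root α with coroot α^∨, the form Q is invariant under the
reflection attached to α acting on N if and only if B(y, α^∨) = ⟨α, y⟩ Q(α^∨) for all y in N. (The
source states this for integer-valued forms on the cocharacter lattice of a split reductive group;
here the form takes values in the base ring of the pairing.) -/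
theorem result {ι : Type u} {R : Type v} {M : Type w} {N : Type x} [CommRing R] [IsDomain R] [CharZero R]
    [AddCommGroup M] [Module R M] [AddCommGroup N] [Module R N] (P : RootPairing ι R M N)
    (Q : QuadraticMap R N R) (j : ι) :
    (∀ y : N, Q (P.coreflection j y) = Q y) ↔
      ∀ y : N, QuadraticMap.polar Q y (P.coroot j) = P.root' j y * Q (P.coroot j) := by
  have hrefl : ∀ y, P.coreflection j y = y + (-(P.root' j y)) • P.coroot j := by
    intro y
    rw [RootPairing.coreflection_apply, neg_smul, sub_eq_add_neg]
  have hQ : ∀ y, Q (P.coreflection j y) = Q y + (P.root' j y) *
      ((P.root' j y) * Q (P.coroot j) - QuadraticMap.polar Q y (P.coroot j)) := by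
    intro y
    rw [hrefl, QuadraticMap.map_add Q, QuadraticMap.map_smul, QuadraticMap.polar_smul_right]
    simp only [smul_eq_mul]
    ring
  constructor
  · intro h
    have hne : ∀ y, P.root' j y ≠ 0 →
        QuadraticMap.polar Q y (P.coroot j) = P.root' j y * Q (P.coroot j) := by
      intro y hy
      have h1 := h y
      rw [hQ] at h1
      have h2 : (P.root' j y) *
          ((P.root' j y) * Q (P.coroot j) - QuadraticMap.polar Q y (P.coroot j)) = 0 := by
        linear_combination h1
      rcases mul_eq_zero.mp h2 with h3 | h3
      · exact absurd h3 hy
      · exact (sub_eq_zero.mp h3).symm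
    intro y
    by_cases hy : P.root' j y = 0
    · have h2 : P.root' j (y + P.coroot j) = 2 := by
        rw [map_add, hy, zero_add, RootPairing.root'_coroot_eq_pairing, RootPairing.pairing_same]
      have h3 := hne (y + P.coroot j) (by rw [h2]; exact two_ne_zero)
      rw [QuadraticMap.polar_add_left, QuadraticMap.polar_self, h2] at h3
      rw [hy, zero_mul]
      rw [two_nsmul, two_mul] at h3
      exact add_eq_right.mp h3
    · exact hne y hy
  · intro h y
    rw [hQ, h y, sub_self, mul_zero, add_zero]

end Groth.Agent.S19006
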