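import Groth.Statements.S19007
import Groth.Agent.H94.RootD

set_option autoImplicit false
universe u v w x
open RootD

namespace Groth.Agent.S19007

/-- Let P be a finite reduced crystallographic root pairing over an integral domain of characteristic
zero, b a base of P (a system of simple roots) and Q a quadratic form on the coweight module with
polar form B. Then Q is invariant under all root reflections (equivalently under the Weyl group) on
the span of the coroots if and only if for all pairs of distinct simple roots α_i ≠ α_j one has
B(α_i^∨, α_j^∨) = ⟨α_j, α_i^∨⟩ Q(α_j^∨). (In the source the form is integer-valued on the lattice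
spanned by the coroots and the condition says that the bilinear form lies in the kernel of the last
map of a three-term complex built from the Bruhat cells of codimension at most two; here the form
takes values in the base ring.) -/
theorem result {ι : Type u} {R : Type v} {M : Type w} {N : Type x} [CommRing R] [IsDomain R] [CharZero R]
    [AddCommGroup M] [Module R M] [AddCommGroup N] [Module R N] (P : RootPairing ι R M N)
    [Finite ι] [P.IsCrystallographic] [P.IsReduced] (b : P.Base) (Q : QuadraticMap R N R) :
    (∀ i : ι, ∀ y ∈ Submodule.span R (Set.range P.coroot), Q (P.coreflection i y) = Q y) ↔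
      ∀ i ∈ b.support, ∀ j ∈ b.support, i ≠ j →
        QuadraticMap.polar Q (P.coroot i) (P.coroot j) = P.pairing j i * Q (P.coroot j) := by
  have hDinv : ∀ (i : ι) (y : N), y ∈ Submodule.span R (Set.range P.coroot) →
      P.coreflection i y ∈ Submodule.span R (Set.range P.coroot) := by
    intro i y hy
    have := P.corootSpan_mem_invtSubmodule_coreflection i
    rw [Module.End.mem_invtSubmodule] at this
    exact this hy
  have hcor : ∀ i : ι, P.coroot i ∈ Submodule.span R (Set.range P.coroot) :=
    fun i => Submodule.subset_span ⟨i, rfl⟩
  constructor
  · intro h i _ j _ _
    have h1 := (Groth.Agent.H94.coreflection_invariant_on_iff P Q _ j (hcor j)).mp (h j)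
      (P.coroot i) (hcor i)
    rw [h1, RootPairing.root'_coroot_eq_pairing]
  · intro h
    have hsimple : ∀ i ∈ b.support, ∀ y ∈ Submodule.span R (Set.range P.coroot),
        Q (P.coreflection i y) = Q y := by
      intro i hi
      rw [Groth.Agent.H94.coreflection_invariant_on_iff P Q _ i (hcor i)]
      intro y hy
      have hy' : y ∈ Submodule.span R (P.coroot '' b.support) := by
        rw [b.span_coroot_support]; exact hy
      refine Groth.Agent.H94.polar_eq_on_span Q (P.coroot i) (Q (P.coroot i)) (P.root' i) _ ?_ y hy'
      rintro _ ⟨j, hj, rfl⟩
      by_cases hij : j = i
      · subst hij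
        rw [QuadraticMap.polar_self, RootPairing.root'_coroot_eq_pairing, RootPairing.pairing_same,
          two_nsmul, two_mul]
      · rw [h j hj i hi hij, RootPairing.root'_coroot_eq_pairing]
    intro i
    refine b.induction_reflect i (p := fun i => ∀ y ∈ Submodule.span R (Set.range P.coroot),
      Q (P.coreflection i y) = Q y) ?_ hsimple ?_
    · intro i hi y hy
      rw [Groth.Agent.H94.coreflection_reflectionPerm_self]
      exact hi y hy
    · intro i j hi hj y hy
      rw [Groth.Agent.H94.coreflection_reflectionPerm']
      rw [hsimple j hj _ (hDinv i _ (hDinv j _ hy)), hi _ (hDinv j _ hy), hsimple j hj _ hy]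

end Groth.Agent.S19007
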