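import Groth.Statements.S19010
import Groth.Agent.H94.RootD
import Groth.Agent.S19006

set_option autoImplicit false
universe u v w x
open RootD

namespace Groth.Agent.S19010

/-- Let P be a root pairing over an integral domain R of characteristic zero (roots α acting on the
coweight module N through reflections y ↦ y − ⟨α, y⟩ α^∨), D ⊆ N a submodule containing every coroot
and such that every element of D has a positive integer multiple in the span of the coroots (the
derived part), and Y₀ a complement of D in N. Let Q' be a quadratic form on N invariant under all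
root reflections. Then restriction to Y₀ is a bijection from the set of quadratic forms on N that
are invariant under all root reflections and agree with Q' on D onto the set of all quadratic forms
on Y₀. (In the source R = ℤ and N = Y₀ ⊕ Y_der is the cocharacter lattice of a split reductive
group; forms take values in R here.) -/
theorem result {ι : Type u} {R : Type v} {M : Type w} {N : Type x} [CommRing R] [IsDomain R] [CharZero R]
    [AddCommGroup M] [Module R M] [AddCommGroup N] [Module R N] (P : RootPairing ι R M N)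
    (D Y₀ : Submodule R N) (hD : ∀ i : ι, P.coroot i ∈ D)
    (hDsat : ∀ y ∈ D, ∃ n : ℕ, 0 < n ∧ n • y ∈ Submodule.span R (Set.range P.coroot))
    (hc : IsCompl Y₀ D)
    (Q' : QuadraticMap R N R) (hQ' : ∀ (i : ι) (y : N), Q' (P.coreflection i y) = Q' y) :
    Set.BijOn (fun Q : QuadraticMap R N R => Q.comp Y₀.subtype)
      {Q | (∀ (i : ι) (y : N), Q (P.coreflection i y) = Q y) ∧ ∀ y ∈ D, Q y = Q' y} Set.univ := by
  refine ⟨Set.mapsTo_univ _ _, ?_, ?_⟩
  · rintro Q₁ ⟨h₁, h₁D⟩ Q₂ ⟨h₂, h₂D⟩ hres
    have hresY : ∀ y₀ ∈ Y₀, Q₁ y₀ = Q₂ y₀ := by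
      intro y₀ hy₀
      have := congrArg (fun q : QuadraticMap R Y₀ R => q ⟨y₀, hy₀⟩) hres
      simpa [QuadraticMap.comp_apply] using this
    have hcor : ∀ (y₀ : N) (i : ι), QuadraticMap.polar Q₁ y₀ (P.coroot i) =
        QuadraticMap.polar Q₂ y₀ (P.coroot i) := by
      intro y₀ i
      rw [(Groth.Agent.S19006.result P Q₁ i).mp (h₁ i) y₀,
        (Groth.Agent.S19006.result P Q₂ i).mp (h₂ i) y₀, h₁D _ (hD i), h₂D _ (hD i)]
    have hspan : ∀ (y₀ : N), ∀ d ∈ Submodule.span R (Set.range P.coroot),
        QuadraticMap.polar Q₁ y₀ d = QuadraticMap.polar Q₂ y₀ d := by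
      intro y₀ d hd
      induction hd using Submodule.span_induction with
      | mem z hz => obtain ⟨i, rfl⟩ := hz; exact hcor y₀ i
      | zero => simp
      | add a c _ _ ha hc' => rw [QuadraticMap.polar_add_right, QuadraticMap.polar_add_right, ha, hc']
      | smul r a _ ha => rw [QuadraticMap.polar_smul_right, QuadraticMap.polar_smul_right, ha]
    have hpolD : ∀ (y₀ : N), ∀ d ∈ D, QuadraticMap.polar Q₁ y₀ d = QuadraticMap.polar Q₂ y₀ d := by
      intro y₀ d hd
      obtain ⟨n, hn, hnd⟩ := hDsat d hd
      have h3 := hspan y₀ _ hnd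
      rw [← Nat.cast_smul_eq_nsmul R, QuadraticMap.polar_smul_right, QuadraticMap.polar_smul_right,
        smul_eq_mul, smul_eq_mul] at h3
      have hn' : (n : R) ≠ 0 := Nat.cast_ne_zero.mpr (Nat.pos_iff_ne_zero.mp hn)
      exact mul_left_cancel₀ hn' h3
    ext y
    have hsum : Y₀.projection D hc y + D.projection Y₀ hc.symm y = y :=
      Submodule.projection_add_projection_eq_self hc y
    have hy₀ : Y₀.projection D hc y ∈ Y₀ := Submodule.projection_apply_mem hc y
    have hd : D.projection Y₀ hc.symm y ∈ D := Submodule.projection_apply_mem hc.symm y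
    rw [← hsum, QuadraticMap.map_add Q₁, QuadraticMap.map_add Q₂, hresY _ hy₀, h₁D _ hd, h₂D _ hd,
      hpolD _ _ hd]
  · intro q₀ _
    obtain ⟨Q, h1, h2, h3⟩ := Groth.Agent.H94.exists_invariant_extension P D Y₀ hD hc Q'
      (fun i y _ => hQ' i y) Q'.polarBilin
      (fun y₀ _ i => by
        rw [QuadraticMap.polarBilin_apply_apply, (Groth.Agent.S19006.result P Q' i).mp (hQ' i) y₀]) q₀
    exact ⟨Q, ⟨h1, h2⟩, h3⟩

end Groth.Agent.S19010
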