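import Groth.Statements.S19012
import Groth.Agent.S19006

set_option autoImplicit false
universe u v w x
open RootD

namespace Groth.Agent.S19012

/-- Let P be a finite reduced crystallographic root pairing over a field of characteristic zero which is
irreducible, and b a base. A quadratic form on the coweight module that is invariant under all root
reflections and vanishes on some simple coroot is zero; in other words an invariant form is
determined by its value on a single simple coroot. (The source proves, component by component of the
Dynkin diagram, that an invariant integer-valued form on the coroot lattice with prescribed value on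
the first simple coroot of each component is unique; here the system is irreducible, the coroots
span the coweight module, and forms take values in the base field.) -/
theorem result {ι : Type u} {K : Type v} {M : Type w} {N : Type x} [Field K] [CharZero K]
    [AddCommGroup M] [Module K M] [AddCommGroup N] [Module K N] (P : RootPairing ι K M N)
    [Finite ι] [P.IsCrystallographic] [P.IsReduced] [P.IsIrreducible] (b : P.Base)
    (Q : QuadraticMap K N K) (hQ : ∀ (i : ι) (y : N), Q (P.coreflection i y) = Q y)
    (i₀ : ι) (hi₀ : i₀ ∈ b.support) (h0 : Q (P.coroot i₀) = 0) : Q = 0 := by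
  have hpol : ∀ y : N, QuadraticMap.polar Q y (P.coroot i₀) = P.root' i₀ y * Q (P.coroot i₀) :=
    (Groth.Agent.S19006.result P Q i₀).mp (hQ i₀)
  let S : Submodule K N :=
    { carrier := {x | Q x = 0 ∧ ∀ y, QuadraticMap.polar Q y x = 0}
      add_mem' := by
        rintro a c ⟨ha, ha'⟩ ⟨hc, hc'⟩
        refine ⟨?_, fun y => ?_⟩
        · rw [QuadraticMap.map_add Q, ha, hc, hc' a, add_zero, add_zero]
        · rw [QuadraticMap.polar_add_right, ha' y, hc' y, add_zero]
      zero_mem' := ⟨map_zero Q, fun y => QuadraticMap.polar_zero_right Q y⟩
      smul_mem' := by
        rintro c a ⟨ha, ha'⟩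
        refine ⟨?_, fun y => ?_⟩
        · rw [QuadraticMap.map_smul, ha, smul_zero]
        · rw [QuadraticMap.polar_smul_right, ha' y, smul_zero] }
  have hinv : ∀ i, S ∈ Module.End.invtSubmodule (P.coreflection i) := by
    intro i
    rw [Module.End.mem_invtSubmodule]
    rintro x ⟨hx, hx'⟩
    refine ⟨?_, fun y => ?_⟩
    · change Q (P.coreflection i x) = 0
      rw [hQ, hx]
    · change QuadraticMap.polar Q y (P.coreflection i x) = 0
      have h1 : y = P.coreflection i (P.coreflection i y) := (P.coreflection_same i y).symm
      have h2 : QuadraticMap.polar Q (P.coreflection i (P.coreflection i y)) (P.coreflection i x) =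
          QuadraticMap.polar Q (P.coreflection i y) x := by
        unfold QuadraticMap.polar
        rw [← map_add, hQ, hQ, hQ, hQ]
      rw [h1, h2, hx']
  have hne : S ≠ ⊥ := by
    intro h
    have hmem : P.coroot i₀ ∈ S := by
      refine ⟨h0, fun y => ?_⟩
      rw [hpol, h0, mul_zero]
    rw [h] at hmem
    exact P.ne_zero' i₀ ((Submodule.mem_bot K).mp hmem)
  have htop := RootPairing.IsIrreducible.eq_top_of_invtSubmodule_coreflection (P := P) S hinv hne
  ext x
  have hx : x ∈ S := by rw [htop]; trivial
  exact hx.1

end Groth.Agent.S19012
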