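import Groth.Statements.S19013
import Groth.Agent.H94.MilKGen

set_option autoImplicit false
universe u v
open MilnorK

namespace Groth.Agent.S19013

/-- Let A ⊆ B be discrete valuation rings, the inclusion being a local homomorphism, with fraction
fields E ⊆ F compatibly, with the induced homomorphism of residue fields κ(A) → κ(B), and with
ramification index e, the natural number such that the maximal ideal of A generates the e-th power
of the maximal ideal of B. Let ∂_A : K_{n+1}(E) → K_n(κ(A)) and ∂_B : K_{n+1}(F) → K_n(κ(B)) be the
residue maps (tame symbols) on Milnor K-groups. Then for every x in K_{n+1}(E) one has ∂_B(x_F) = e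
· (∂_A x)_{κ(B)}, where the subscripts denote the change-of-fields maps along E → F and κ(A) → κ(B).
(The published statement concerns discrete valuations of geometric type on fields finitely generated
over a base field; it is stated here for an arbitrary pair of discrete valuation rings, which is all
the printed computation uses.) -/
theorem result
    (A B : Type u) [CommRing A] [IsDomain A] [IsDiscreteValuationRing A]
    [CommRing B] [IsDomain B] [IsDiscreteValuationRing B] [Algebra A B] [IsLocalHom (algebraMap A B)]
    (E F : Type v) [Field E] [Field F] [Algebra A E] [IsFractionRing A E] [Algebra B F] [IsFractionRing B F]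
    [Algebra E F] [Algebra A F] [IsScalarTower A E F] [IsScalarTower A B F]
    (e : ℕ) (he : Ideal.map (algebraMap A B) (IsLocalRing.maximalIdeal A) = IsLocalRing.maximalIdeal B ^ e)
    (n : ℕ) (dA : MilK.K E (n + 1) →+ MilK.K (IsLocalRing.ResidueField A) n) (hdA : MilK.IsTameSymbol A E n dA)
    (dB : MilK.K F (n + 1) →+ MilK.K (IsLocalRing.ResidueField B) n) (hdB : MilK.IsTameSymbol B F n dB)
    (x : MilK.K E (n + 1)) :
    dB (MilK.map (algebraMap E F) (n + 1) x) =
      e • MilK.map (IsLocalRing.ResidueField.map (algebraMap A B)) n (dA x) := by
  have hcompat : ∀ a : A, algebraMap E F (algebraMap A E a) = algebraMap B F (algebraMap A B a) := by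
    intro a
    rw [← IsScalarTower.algebraMap_apply A E F, ← IsScalarTower.algebraMap_apply A B F]
  have hunit : ∀ w : Aˣ, Units.map ((algebraMap E F : E →+* F) : E →* F) (MilK.unitToFrac A E w) =
      MilK.unitToFrac B F (Units.map ((algebraMap A B : A →+* B) : A →* B) w) := by
    intro w
    ext
    simp [MilK.unitToFrac, hcompat]
  have hres : ∀ w : Aˣ,
      Units.map ((IsLocalRing.ResidueField.map (algebraMap A B) :
        IsLocalRing.ResidueField A →+* IsLocalRing.ResidueField B) :
          IsLocalRing.ResidueField A →* IsLocalRing.ResidueField B) (MilK.unitResidue A w) =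
      MilK.unitResidue B (Units.map ((algebraMap A B : A →+* B) : A →* B) w) := by
    intro w
    ext
    simp [MilK.unitResidue, IsLocalRing.ResidueField.map_residue]
  have h : dB.comp (MilK.map (algebraMap E F) (n + 1)) =
      e • ((MilK.map (IsLocalRing.ResidueField.map (algebraMap A B)) n).comp dA) := by
    apply Groth.Agent.H94.tame_ext A E n
    · intro ϖ hϖ w
      simp only [AddMonoidHom.comp_apply, AddMonoidHom.smul_apply]
      rw [hdA ϖ hϖ w, MilK.map_symbol, MilK.map_symbol]
      -- uniformizer of B
      obtain ⟨ϖB, hϖB⟩ := IsDiscreteValuationRing.exists_irreducible B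
      have hmA : IsLocalRing.maximalIdeal A = Ideal.span {ϖ} := hϖ.maximalIdeal_eq
      have hmB : IsLocalRing.maximalIdeal B = Ideal.span {ϖB} := hϖB.maximalIdeal_eq
      rw [hmA, hmB, Ideal.map_span, Set.image_singleton, Ideal.span_singleton_pow,
        Ideal.span_singleton_eq_span_singleton] at he
      obtain ⟨v, hv⟩ := he.symm
      -- hv : ϖB ^ e * v = algebraMap A B ϖ
      have e1 : Units.map ((algebraMap E F : E →+* F) : E →* F) (MilK.unitFrac A E ϖ hϖ.ne_zero) =
          MilK.unitFrac B F ϖB hϖB.ne_zero ^ e * MilK.unitToFrac B F v := by
        ext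
        simp [MilK.unitToFrac, hcompat, ← hv]
      have e2 : (fun i => Units.map ((algebraMap E F : E →+* F) : E →* F)
          ((Fin.cons (MilK.unitFrac A E ϖ hϖ.ne_zero) fun i => MilK.unitToFrac A E (w i) :
            Fin (n + 1) → Eˣ) i)) =
          (Fin.cons (MilK.unitFrac B F ϖB hϖB.ne_zero ^ e * MilK.unitToFrac B F v)
            (fun i => MilK.unitToFrac B F (Units.map ((algebraMap A B : A →+* B) : A →* B) (w i))) :
              Fin (n + 1) → Fˣ) := by
        funext i
        refine Fin.cases ?_ (fun j => ?_) i
        · simp only [Fin.cons_zero]; exact e1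
        · simp only [Fin.cons_succ]; exact hunit (w j)
      rw [e2, Groth.Agent.H94.symbol_cons_mul, map_add]
      have hpow : ∀ (k : ℕ) (a : Fˣ) (t : Fin n → Fˣ),
          MilK.symbol (Fin.cons (a ^ k) t : Fin (n + 1) → Fˣ) =
            k • MilK.symbol (Fin.cons a t : Fin (n + 1) → Fˣ) := by
        intro k a t
        induction k with
        | zero =>
          rw [pow_zero, zero_smul]
          have h := Groth.Agent.H94.symbol_cons_mul (1 : Fˣ) 1 t
          rw [mul_one] at h
          exact left_eq_add.mp h
        | succ k ih => rw [pow_succ, Groth.Agent.H94.symbol_cons_mul, ih, succ_nsmul]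
      rw [hpow, map_nsmul, hdB ϖB hϖB]
      have e3 : (fun i => MilK.unitToFrac B F (Units.map ((algebraMap A B : A →+* B) : A →* B) (w i))) =
          fun i => MilK.unitToFrac B F ((fun i => Units.map ((algebraMap A B : A →+* B) : A →* B) (w i)) i) := rfl
      have e4 : (Fin.cons (MilK.unitToFrac B F v)
          (fun i => MilK.unitToFrac B F (Units.map ((algebraMap A B : A →+* B) : A →* B) (w i))) :
            Fin (n + 1) → Fˣ) =
          fun i => MilK.unitToFrac B F ((Fin.cons v
            (fun i => Units.map ((algebraMap A B : A →+* B) : A →* B) (w i)) : Fin (n + 1) → Bˣ) i) := by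
        funext i
        refine Fin.cases ?_ (fun j => ?_) i <;> simp
      rw [e4, Groth.Agent.H94.tame_units_eq_zero B F n dB hdB, add_zero]
      have e5 : (fun i => MilK.unitResidue B (Units.map ((algebraMap A B : A →+* B) : A →* B) (w i))) =
          fun i => Units.map ((IsLocalRing.ResidueField.map (algebraMap A B) :
            IsLocalRing.ResidueField A →+* IsLocalRing.ResidueField B) :
              IsLocalRing.ResidueField A →* IsLocalRing.ResidueField B) (MilK.unitResidue A (w i)) := by
        funext i
        exact (hres (w i)).symm
      rw [e5]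
    · intro w
      simp only [AddMonoidHom.comp_apply, AddMonoidHom.smul_apply]
      rw [Groth.Agent.H94.tame_units_eq_zero A E n dA hdA w, map_zero, smul_zero, MilK.map_symbol]
      have e : (fun i => Units.map ((algebraMap E F : E →+* F) : E →* F) (MilK.unitToFrac A E (w i))) =
          fun i => MilK.unitToFrac B F (Units.map ((algebraMap A B : A →+* B) : A →* B) (w i)) := by
        funext i
        exact hunit (w i)
      rw [e]
      exact Groth.Agent.H94.tame_units_eq_zero B F n dB hdB _
  exact DFunLike.congr_fun h x

end Groth.Agent.S19013
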