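import Groth.Statements.S19016
import Groth.Agent.H94.MilKGen

set_option autoImplicit false
universe u v
open MilnorK

namespace Groth.Agent.S19016

/-- Let B be a discrete valuation ring with fraction field F and residue field κ, let u be a unit of B
with residue class ū, and let ∂ denote the residue maps (tame symbols) K_{n+1}(F) → K_n(κ) and
K_{n+2}(F) → K_{n+1}(κ) on Milnor K-groups. Then ∂({u} · ρ) = −{ū} · ∂(ρ) for every ρ in K_{n+1}(F),
the products {u} · ρ in K_{1+(n+1)}(F) and {ū} · ∂ρ in K_{1+n}(κ) being regarded in K_{n+2}(F) and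
K_{n+1}(κ). (The published statement concerns discrete valuations of geometric type on fields
finitely generated over a base field; it is stated here for an arbitrary discrete valuation ring,
which is all the printed computation uses.) -/
theorem result
    (B : Type u) [CommRing B] [IsDomain B] [IsDiscreteValuationRing B]
    (F : Type v) [Field F] [Algebra B F] [IsFractionRing B F] (n : ℕ)
    (d : MilK.K F (n + 1) →+ MilK.K (IsLocalRing.ResidueField B) n) (hd : MilK.IsTameSymbol B F n d)
    (d' : MilK.K F (n + 1 + 1) →+ MilK.K (IsLocalRing.ResidueField B) (n + 1))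
    (hd' : MilK.IsTameSymbol B F (n + 1) d')
    (u : Bˣ) (ρ : MilK.K F (n + 1)) :
    d' (MilK.cast F (Nat.add_comm 1 (n + 1)) (MilK.mul F 1 (n + 1) (MilK.symbol ![MilK.unitToFrac B F u]) ρ)) =
      -(MilK.cast (IsLocalRing.ResidueField B) (Nat.add_comm 1 n)
          (MilK.mul (IsLocalRing.ResidueField B) 1 n (MilK.symbol ![MilK.unitResidue B u]) (d ρ))) := by
  have h : d'.comp ((MilK.cast F (Nat.add_comm 1 (n + 1))).toAddMonoidHom.comp
      (MilK.mul F 1 (n + 1) (MilK.symbol ![MilK.unitToFrac B F u]))) =
      -((MilK.cast (IsLocalRing.ResidueField B) (Nat.add_comm 1 n)).toAddMonoidHom.comp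
        ((MilK.mul (IsLocalRing.ResidueField B) 1 n (MilK.symbol ![MilK.unitResidue B u])).comp d)) := by
    apply Groth.Agent.H94.tame_ext B F n
    · intro ϖ hϖ w
      simp only [AddMonoidHom.comp_apply, AddEquiv.toAddMonoidHom_eq_coe, AddMonoidHom.coe_coe,
        AddMonoidHom.neg_apply]
      rw [hd ϖ hϖ w, MilK.mul_symbol_symbol, MilK.mul_symbol_symbol, MilK.cast_symbol, MilK.cast_symbol,
        Groth.Agent.H94.append_one_comp_cast, Groth.Agent.H94.append_one_comp_cast,
        Groth.Agent.H94.symbol_cons_cons_swap, map_neg]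
      congr 1
      have e : (Fin.cons (MilK.unitToFrac B F u) fun i => MilK.unitToFrac B F (w i) : Fin (n + 1) → Fˣ) =
          fun i => MilK.unitToFrac B F ((Fin.cons u w : Fin (n + 1) → Bˣ) i) := by
        funext i
        refine Fin.cases ?_ (fun j => ?_) i <;> simp
      rw [e, hd' ϖ hϖ (Fin.cons u w)]
      congr 1
      funext i
      refine Fin.cases ?_ (fun j => ?_) i <;> simp
    · intro w
      simp only [AddMonoidHom.comp_apply, AddEquiv.toAddMonoidHom_eq_coe, AddMonoidHom.coe_coe,
        AddMonoidHom.neg_apply]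
      rw [Groth.Agent.H94.tame_units_eq_zero B F n d hd w, map_zero, map_zero, neg_zero,
        MilK.mul_symbol_symbol, MilK.cast_symbol, Groth.Agent.H94.append_one_comp_cast]
      have e : (Fin.cons (MilK.unitToFrac B F u) fun i => MilK.unitToFrac B F (w i) : Fin (n + 1 + 1) → Fˣ) =
          fun i => MilK.unitToFrac B F ((Fin.cons u w : Fin (n + 1 + 1) → Bˣ) i) := by
        funext i
        refine Fin.cases ?_ (fun j => ?_) i <;> simp
      rw [e]
      exact Groth.Agent.H94.tame_units_eq_zero B F (n + 1) d' hd' _
  exact DFunLike.congr_fun h ρ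

end Groth.Agent.S19016
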