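import Groth.Statements.S19018
import Mathlib

set_option autoImplicit false
universe u
open TensorProduct
open SymTen
open scoped Pointwise

namespace Groth.Agent.S19018

/-- Suppose k is a field in which 2 ≠ 0 and R is a commutative k-algebra. Write I for the ideal of the
diagonal, i.e. the kernel of multiplication R ⊗_k R → R, and write S for the subalgebra of R ⊗_k R
consisting of elements invariant under interchanging the two tensor factors. Then, viewed as ideals
of S, the swap-invariant elements of I^4 form precisely the square of the ideal of swap-invariant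
elements of I^2. (The source is stated over the complex numbers; the proof needs only that 2 is
invertible.) -/
theorem result
    (k R : Type u) [Field k] [NeZero (2 : k)] [CommRing R] [Algebra k R] :
    Ideal.comap
        (AlgHom.equalizer ((Algebra.TensorProduct.comm k R R : R ⊗[k] R ≃ₐ[k] R ⊗[k] R) : R ⊗[k] R →ₐ[k] R ⊗[k] R)
          (AlgHom.id k (R ⊗[k] R))).val
        (KaehlerDifferential.ideal k R ^ 4) =
      (Ideal.comap
        (AlgHom.equalizer ((Algebra.TensorProduct.comm k R R : R ⊗[k] R ≃ₐ[k] R ⊗[k] R) : R ⊗[k] R →ₐ[k] R ⊗[k] R)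
          (AlgHom.id k (R ⊗[k] R))).val
        (KaehlerDifferential.ideal k R ^ 2)) ^ 2 := by
  classical
  set σ : R ⊗[k] R →ₐ[k] R ⊗[k] R :=
    ((Algebra.TensorProduct.comm k R R : R ⊗[k] R ≃ₐ[k] R ⊗[k] R) : R ⊗[k] R →ₐ[k] R ⊗[k] R) with hσ
  set S := AlgHom.equalizer σ (AlgHom.id k (R ⊗[k] R)) with hS
  set I := KaehlerDifferential.ideal k R with hI
  set J := Ideal.comap S.val (I ^ 2) with hJ
  have h2 : (2 : k) ≠ 0 := NeZero.ne 2
  have hσσ : ∀ x, σ (σ x) = x := by
    intro x
    induction x using TensorProduct.induction_on with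
    | zero => simp
    | tmul a b => simp [hσ]
    | add x y hx hy => rw [map_add, map_add, hx, hy]
  -- generators
  let δ : R → R ⊗[k] R := fun r => (1 : R) ⊗ₜ[k] r - r ⊗ₜ[k] (1 : R)
  have hδI : ∀ r, δ r ∈ I := fun r => KaehlerDifferential.one_smul_sub_smul_one_mem_ideal k r
  have hσδ : ∀ r, σ (δ r) = - δ r := by
    intro r; simp [hσ, δ]
  have hIspan : I = Ideal.span (Set.range δ) := (KaehlerDifferential.span_range_eq_ideal (R := k) (S := R)).symm
  let G2 : Set (R ⊗[k] R) := Set.range δ * Set.range δ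
  have hI2 : I ^ 2 = Ideal.span G2 := by
    rw [pow_two, hIspan, Ideal.span_mul_span']
  have hI4 : I ^ 4 = Ideal.span (G2 * G2) := by
    rw [show I ^ 4 = I ^ 2 * I ^ 2 by rw [← pow_add], hI2, Ideal.span_mul_span']
  have hG2σ : ∀ u ∈ G2, σ u = u := by
    rintro _ ⟨_, ⟨a, rfl⟩, _, ⟨b, rfl⟩, rfl⟩
    simp only [map_mul, hσδ]; ring
  have hG2I : ∀ u ∈ G2, u ∈ I ^ 2 := fun u hu => by rw [hI2]; exact Ideal.subset_span hu
  -- the Reynolds operator
  have hρmem : ∀ y : R ⊗[k] R, (2⁻¹ : k) • (y + σ y) ∈ S := by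
    intro y
    rw [hS, AlgHom.mem_equalizer]
    simp only [map_smul, map_add, hσσ, AlgHom.id_apply, add_comm]
  let ρ : R ⊗[k] R → S := fun y => ⟨(2⁻¹ : k) • (y + σ y), hρmem y⟩
  apply le_antisymm
  · -- ⊆
    intro x hx
    have hx4 : (x : R ⊗[k] R) ∈ I ^ 4 := hx
    have key : ∀ y ∈ Ideal.span (G2 * G2), ∀ a : R ⊗[k] R, ρ (a * y) ∈ J ^ 2 := by
      intro y hy
      induction hy using Submodule.span_induction with
      | mem y hy =>
        obtain ⟨u, hu, v, hv, rfl⟩ := hy
        intro a
        have huS : u ∈ S := by rw [hS, AlgHom.mem_equalizer]; simpa using hG2σ u hu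
        have hvS : v ∈ S := by rw [hS, AlgHom.mem_equalizer]; simpa using hG2σ v hv
        have e : ρ (a * (u * v)) = ρ a * ((⟨u, huS⟩ : S) * ⟨v, hvS⟩) := by
          apply Subtype.ext
          show (2⁻¹ : k) • (a * (u * v) + σ (a * (u * v))) =
            ((2⁻¹ : k) • (a + σ a)) * (u * v)
          rw [map_mul, map_mul, hG2σ u hu, hG2σ v hv, smul_mul_assoc, add_mul]
        rw [e, pow_two]
        refine Ideal.mul_mem_left _ _ (Ideal.mul_mem_mul ?_ ?_)
        · exact hG2I u hu
        · exact hG2I v hv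
      | zero => intro a; 
                have : ρ (a * 0) = 0 := Subtype.ext (by simp [ρ])
                rw [this]; exact zero_mem _
      | add y z _ _ hy hz =>
        intro a
        have : ρ (a * (y + z)) = ρ (a * y) + ρ (a * z) := by
          apply Subtype.ext
          show (2⁻¹ : k) • (a * (y + z) + σ (a * (y + z))) =
            (2⁻¹ : k) • (a * y + σ (a * y)) + (2⁻¹ : k) • (a * z + σ (a * z))
          rw [mul_add, map_add, ← smul_add]; congr 1; abel
        rw [this]; exact add_mem (hy a) (hz a)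
      | smul b y _ hy =>
        intro a
        have : a * (b • y) = (a * b) * y := by rw [smul_eq_mul, mul_assoc]
        rw [this]; exact hy (a * b)
    have hxρ : x = ρ (1 * (x : R ⊗[k] R)) := by
      apply Subtype.ext
      have hxS : σ (x : R ⊗[k] R) = x := by
        have := (AlgHom.mem_equalizer σ (AlgHom.id k (R ⊗[k] R)) (x : R ⊗[k] R)).mp x.2
        simpa using this
      show (x : R ⊗[k] R) = (2⁻¹ : k) • (1 * (x : R ⊗[k] R) + σ (1 * (x : R ⊗[k] R)))
      rw [one_mul, hxS, ← two_smul k (x : R ⊗[k] R), smul_smul, inv_mul_cancel₀ h2, one_smul]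
    rw [hxρ]
    exact key _ (by rw [← hI4]; exact hx4) 1
  · -- ⊇
    rw [pow_two, Ideal.mul_le]
    intro a ha b hb
    show ((a * b : S) : R ⊗[k] R) ∈ I ^ 4
    rw [show I ^ 4 = I ^ 2 * I ^ 2 by rw [← pow_add]]
    exact Ideal.mul_mem_mul ha hb

end Groth.Agent.S19018
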