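import Groth.Statements.S19020
import Groth.Agent.H94.Toeplitz

set_option autoImplicit false
open Toeplitz

namespace Groth.Agent.S19020

/-- For natural numbers n and m, the m × m real Toeplitz matrix with (i, j) entry (-1)^(i+j) · C(2n, n +
|i - j|), i.e. with t_k = (-1)^k C(2n, n + k) on the k-th diagonal for |k| ≤ n and zero beyond, is
positive definite; in particular it is nondegenerate, which is the printed assertion (positive
definiteness is what the printed proof establishes; m = 0 is the empty matrix). -/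
theorem result (n m : ℕ) :
    (Matrix.of fun i j : Fin m =>
        (-1 : ℝ) ^ ((i : ℕ) + (j : ℕ)) * (Nat.choose (2 * n) (n + Nat.dist i j) : ℝ)).PosDef := by
  set M : Matrix (Fin m) (Fin m) ℝ := Matrix.of fun i j : Fin m =>
        (-1 : ℝ) ^ ((i : ℕ) + (j : ℕ)) * (Nat.choose (2 * n) (n + Nat.dist i j) : ℝ) with hM
  have hH : M.IsHermitian := by
    apply Matrix.IsHermitian.ext
    intro i j
    simp only [hM, Matrix.of_apply, star_trivial]
    rw [Nat.dist_comm, Nat.add_comm]
  refine Matrix.PosDef.of_dotProduct_mulVec_pos hH fun x hx => ?_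
  -- complexify
  set t : ℤ → ℂ := fun k =>
    (((-1 : ℝ) ^ k.natAbs * (Nat.choose (2 * n) (n + k.natAbs) : ℝ) : ℝ) : ℂ) with ht
  set A : Matrix (Fin m) (Fin m) ℂ := Matrix.of fun i j => ((M i j : ℝ) : ℂ) with hAdef
  set xc : Fin m → ℂ := fun i => ((x i : ℝ) : ℂ) with hxc
  have hA : ∀ i j : Fin m, A i j = t ((j : ℤ) - (i : ℤ)) := by
    intro i j
    simp only [hAdef, hM, ht, Matrix.of_apply]
    have e1 : ((j : ℤ) - (i : ℤ)).natAbs = Nat.dist i j := by
      unfold Nat.dist
      omega
    rw [e1]
    congr 2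
    rcases le_total (i : ℕ) (j : ℕ) with hij | hij
    · rw [Nat.dist_eq_sub_of_le hij]
      exact Groth.Agent.H94.Toeplitz.neg_one_pow_congr _ _ (i : ℕ) (by omega)
    · rw [Nat.dist_eq_sub_of_le_right hij]
      exact Groth.Agent.H94.Toeplitz.neg_one_pow_congr _ _ (j : ℕ) (by omega)
  have hxc0 : xc ≠ 0 := by
    intro h
    apply hx
    funext i
    have := congrFun h i
    simpa [hxc] using this
  have hpos : Set.Countable {y : ℝ | ¬ 0 < (Groth.Agent.H94.Toeplitz.symb t (m + n + 1) y).re} := by
    apply Set.Countable.mono (s₂ := Set.range fun k : ℤ => (k : ℝ) * (2 * Real.pi))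
    · intro y hy
      simp only [Set.mem_ofPred_eq] at hy
      rw [ht, Groth.Agent.H94.Toeplitz.symb_binom_even n (m + n + 1) (by omega), Complex.ofReal_re] at hy
      by_contra hcon
      apply hy
      apply pow_pos
      have h1 : Real.cos y ≠ 1 := by
        intro h
        rw [Real.cos_eq_one_iff] at h
        exact hcon h
      have h2 := Real.cos_le_one y
      have h3 : Real.cos y < 1 := lt_of_le_of_ne h2 h1
      linarith
    · exact Set.countable_range _
  have hre := Groth.Agent.H94.Toeplitz.re_quad_pos m (m + n + 1) (by omega) t A hA hpos xc hxc0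
  have hcast : star xc ⬝ᵥ A.mulVec xc = ((star x ⬝ᵥ M.mulVec x : ℝ) : ℂ) := by
    simp only [dotProduct, Matrix.mulVec, hxc, hAdef, Matrix.of_apply, Pi.star_apply, star_trivial,
      RCLike.star_def, Complex.conj_ofReal]
    push_cast
    rfl
  rw [hcast, Complex.ofReal_re] at hre
  exact hre

end Groth.Agent.S19020
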