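import Groth.Statements.S19021
import Groth.Agent.S19020

set_option autoImplicit false
open Toeplitz

namespace Groth.Agent.S19021

/-- For natural numbers n and m, the m × m integer Toeplitz matrix with (i, j) entry (-1)^(i+j) ·
C(2n+1, n+1+i-j) (the binomial coefficient being 0 outside the range 0 ≤ n+1+i-j ≤ 2n+1;
equivalently s_k = (-1)^k C(2n+1, n+k+1) on the diagonal i - j = k for -n-1 ≤ k ≤ n and zero beyond)
is nondegenerate: its determinant is nonzero (m = 0 is the empty matrix, of determinant 1). -/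
theorem result (n m : ℕ) :
    (Matrix.of fun i j : Fin m =>
        (-1 : ℤ) ^ ((i : ℕ) + (j : ℕ)) *
          (if (j : ℕ) ≤ (i : ℕ) then (Nat.choose (2 * n + 1) (n + 1 + ((i : ℕ) - (j : ℕ))) : ℤ)
            else (Nat.choose (2 * n + 1) (n + ((j : ℕ) - (i : ℕ))) : ℤ))).det ≠ 0 := by
  set A : Matrix (Fin m) (Fin m) ℤ := Matrix.of fun i j : Fin m =>
        (-1 : ℤ) ^ ((i : ℕ) + (j : ℕ)) *
          (if (j : ℕ) ≤ (i : ℕ) then (Nat.choose (2 * n + 1) (n + 1 + ((i : ℕ) - (j : ℕ))) : ℤ)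
            else (Nat.choose (2 * n + 1) (n + ((j : ℕ) - (i : ℕ))) : ℤ)) with hA
  intro hdet
  obtain ⟨v, hv0, hv⟩ := Matrix.exists_mulVec_eq_zero_iff.mpr hdet
  have hP := Groth.Agent.S19020.result (n + 1) m
  set M : Matrix (Fin m) (Fin m) ℝ := Matrix.of fun i j : Fin m =>
        (-1 : ℝ) ^ ((i : ℕ) + (j : ℕ)) * (Nat.choose (2 * (n + 1)) (n + 1 + Nat.dist i j) : ℝ) with hM
  -- the symmetrization of `A` is `M`
  have hsym : ∀ i j : Fin m, M i j = ((A i j + A j i : ℤ) : ℝ) := by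
    intro i j
    simp only [hM, hA, Matrix.of_apply]
    rw [show 2 * (n + 1) = 2 * n + 1 + 1 by ring]
    rcases lt_trichotomy (i : ℕ) (j : ℕ) with hij | hij | hij
    · have h1 : ¬ ((j : ℕ) ≤ (i : ℕ)) := by omega
      have h2 : (i : ℕ) ≤ (j : ℕ) := by omega
      rw [if_neg h1, if_pos h2, Nat.dist_eq_sub_of_le h2,
        show n + 1 + ((j : ℕ) - (i : ℕ)) = (n + ((j : ℕ) - (i : ℕ))) + 1 by ring, Nat.choose_succ_succ,
        Nat.add_comm (j : ℕ) (i : ℕ)]
      push_cast
      ring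
    · have h1 : ((j : ℕ) ≤ (i : ℕ)) := by omega
      have h2 : (i : ℕ) ≤ (j : ℕ) := by omega
      rw [if_pos h1, if_pos h2, hij, Nat.dist_self, Nat.sub_self, Nat.add_zero, Nat.choose_succ_succ,
        Nat.choose_symm_half]
      push_cast
      ring
    · have h1 : ((j : ℕ) ≤ (i : ℕ)) := by omega
      have h2 : ¬ (i : ℕ) ≤ (j : ℕ) := by omega
      rw [if_pos h1, if_neg h2, Nat.dist_eq_sub_of_le_right h1,
        show n + 1 + ((i : ℕ) - (j : ℕ)) = (n + ((i : ℕ) - (j : ℕ))) + 1 by ring, Nat.choose_succ_succ,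
        Nat.add_comm (j : ℕ) (i : ℕ)]
      push_cast
      ring
  set vr : Fin m → ℝ := fun i => ((v i : ℤ) : ℝ) with hvr
  have hvr0 : vr ≠ 0 := by
    intro h
    apply hv0
    funext i
    have := congrFun h i
    simpa [hvr] using this
  have hpos := hP.dotProduct_mulVec_pos hvr0
  have hzero : star vr ⬝ᵥ M.mulVec vr = 0 := by
    have e : star vr ⬝ᵥ M.mulVec vr = ((v ⬝ᵥ A.mulVec v + (A.mulVec v) ⬝ᵥ v : ℤ) : ℝ) := by
      simp only [dotProduct, Matrix.mulVec, hvr, hsym, Pi.star_apply, star_trivial]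
      push_cast
      simp only [Finset.mul_sum, Finset.sum_mul, add_mul, mul_add, Finset.sum_add_distrib]
      congr 1
      rw [Finset.sum_comm]
      refine Finset.sum_congr rfl fun i _ => Finset.sum_congr rfl fun j _ => ?_
      ring
    rw [e, hv]
    simp
  rw [hzero] at hpos
  exact lt_irrefl _ hpos

end Groth.Agent.S19021
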