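import Groth.Statements.S19025
import Mathlib.Tactic.Ring
import Mathlib.Tactic.Abel
import Mathlib.Tactic.Linarith

set_option autoImplicit false
universe u
open HigherRestr

namespace Groth.Agent.S19025

section Aux

variable {S : Type u} [CommRing S]

/-- The iterated forward difference at `0` depends only on the first `N + 1` values. -/
theorem fwdDiff_iter_congr (N : ℕ) (f f' : ℕ → S) (hf : ∀ j ≤ N, f j = f' j) :
    (fwdDiff (1 : ℕ))^[N] f 0 = (fwdDiff (1 : ℕ))^[N] f' 0 := by
  rw [fwdDiff_iter_eq_sum_shift, fwdDiff_iter_eq_sum_shift]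
  refine Finset.sum_congr rfl fun k hk => ?_
  rw [Finset.mem_range] at hk
  congr 1
  apply hf
  simp only [smul_eq_mul, mul_one, zero_add]
  omega

/-- The twisted sequence. -/
def tw (g₀ g₁ : S) (N : ℕ) (y : ℕ → S) : ℕ → S := fun j => g₀ ^ (N - j) * g₁ ^ j * y j

theorem tw_step (g₀ g₁ : S) (N : ℕ) (y : ℕ → S) :
    (fwdDiff (1 : ℕ))^[N + 1] (tw g₀ g₁ (N + 1) y) 0 =
      (fwdDiff (1 : ℕ))^[N] (tw g₀ g₁ N (fun j => g₁ * y (j + 1) - g₀ * y j)) 0 := by
  rw [Function.iterate_succ_apply]
  apply fwdDiff_iter_congr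
  intro j hj
  simp only [fwdDiff, tw]
  rw [show N + 1 - (j + 1) = N - j by omega, show N + 1 - j = (N - j) + 1 by omega]
  ring

theorem main (I : Ideal S) (g₀ g₁ : S) (hg : g₁ - g₀ ∈ I) :
    ∀ (N c : ℕ) (y : ℕ → S),
      (∀ i : ℕ, 1 ≤ i → i ≤ N → (fwdDiff (1 : ℕ))^[N - i] y i ∈ I ^ (N - i + c)) →
      g₀ ^ N * (fwdDiff (1 : ℕ))^[N] y 0 - (fwdDiff (1 : ℕ))^[N] (tw g₀ g₁ N y) 0 ∈ I ^ (N + c) := by
  intro N
  induction N with
  | zero =>
    intro c y _
    simp [tw]
  | succ N ih =>
    intro c y hy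
    rw [tw_step]
    -- decompose `T y = g₀ • Δ y + ε • E y`
    have hT : tw g₀ g₁ N (fun j => g₁ * y (j + 1) - g₀ * y j) =
        (g₀ • tw g₀ g₁ N (fwdDiff (1 : ℕ) y)) + ((g₁ - g₀) • tw g₀ g₁ N (fun j => y (j + 1))) := by
      funext j
      simp only [tw, fwdDiff, Pi.add_apply, Pi.smul_apply, smul_eq_mul]
      ring
    rw [hT, fwdDiff_iter_add, Pi.add_apply, fwdDiff_iter_const_smul, fwdDiff_iter_const_smul,
      Pi.smul_apply, Pi.smul_apply, smul_eq_mul, smul_eq_mul]
    have h1 := ih (c + 1) (fwdDiff (1 : ℕ) y) (by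
      intro i hi1 hiN
      have := hy i hi1 (by omega)
      rw [show N + 1 - i = (N - i) + 1 by omega, Function.iterate_succ_apply] at this
      rw [show N - i + (c + 1) = N - i + 1 + c by ring]
      exact this)
    have h2 := ih c (fun j => y (j + 1)) (by
      intro i hi1 hiN
      have := hy (i + 1) (by omega) (by omega)
      rw [show N + 1 - (i + 1) = N - i by omega] at this
      rw [fwdDiff_iter_comp_add]
      exact this)
    have h3 : (fwdDiff (1 : ℕ))^[N] (fun j => y (j + 1)) 0 ∈ I ^ (N + c) := by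
      have := hy 1 le_rfl (by omega)
      rw [show N + 1 - 1 = N by omega] at this
      rw [fwdDiff_iter_comp_add, zero_add]
      exact this
    have h4 : (fwdDiff (1 : ℕ))^[N] (tw g₀ g₁ N (fun j => y (j + 1))) 0 ∈ I ^ (N + c) := by
      have h5 := Ideal.mul_mem_left (I ^ (N + c)) (g₀ ^ N) h3
      have := Ideal.sub_mem _ h5 h2
      simpa using this
    have h6 : (g₁ - g₀) * (fwdDiff (1 : ℕ))^[N] (tw g₀ g₁ N (fun j => y (j + 1))) 0 ∈
        I ^ (N + 1 + c) := by
      rw [show N + 1 + c = (N + c) + 1 by ring, pow_succ']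
      exact Ideal.mul_mem_mul hg h4
    have h7 := Ideal.mul_mem_left _ g₀ h1
    rw [show N + (c + 1) = N + 1 + c by ring] at h7
    have h8 := Ideal.sub_mem _ h7 h6
    rw [Function.iterate_succ_apply]
    convert h8 using 1
    ring

end Aux

/-- In abstract form, the estimate its proof establishes. Let S be a commutative ring, I an ideal of S,
g₀ and g₁ elements with g₁ - g₀ ∈ I, N a natural number and y a sequence in S such that, for 1 ≤ i ≤
N, the (N-i)-fold unit-step forward difference of y taken at i lies in I^(N-i). Then g₀^N times the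
N-fold forward difference of y at 0, minus the N-fold forward difference at 0 of the twisted
sequence j ↦ g₀^(N-j) g₁^j y_j, lies in I^N. (In the source S is the ring of functions on an affine
chart of X^n, I the ideal of a pairwise diagonal, g₀ and g₁ the two pullbacks of a transition unit
of L, and y_j the components x_λ along the compositions a₀^(N-j) a₁^j μ; the estimate is what makes
the higher order restrictions D^l_L well defined on ker D^(l-1)_L independently of the
trivialisation.) -/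
theorem result
    (S : Type u) [CommRing S] (I : Ideal S) (g₀ g₁ : S) (hg : g₁ - g₀ ∈ I)
    (N : ℕ) (y : ℕ → S)
    (hy : ∀ i : ℕ, 1 ≤ i → i ≤ N → (fwdDiff (1 : ℕ))^[N - i] y i ∈ I ^ (N - i)) :
    g₀ ^ N * (fwdDiff (1 : ℕ))^[N] y 0 -
        (fwdDiff (1 : ℕ))^[N] (fun j : ℕ => g₀ ^ (N - j) * g₁ ^ j * y j) 0 ∈ I ^ N := by
  have h := main I g₀ g₁ hg N 0 y (by simpa using hy)
  rw [Nat.add_zero] at h
  exact h

end Groth.Agent.S19025
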