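import Groth.Statements.S19037
import Mathlib.Tactic

set_option autoImplicit false
universe u v
open scoped Polynomial LaurentPolynomial
open Instab

namespace Groth.Agent.S19037

/-- Affine form over a ring R. Let A be a commutative ℤ-graded R-algebra and t an element of degree −1
(so A is a graded algebra over R[t] with t in degree −1), and let ψ : A[1/t] → R[T, T⁻¹] be an
R-algebra map sending t to T which is graded, in the sense that each homogeneous element of degree n
of A goes to an element of R times T^(−n). Then ψ is obtained by inverting t from an R-algebra map χ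
: A → R[T] (compared through the inclusion of R[T] in R[T, T⁻¹]) if and only if ψ kills t·a for
every homogeneous a of degree 1; such a χ is unique. (The source states this for quasi-coherent
graded algebras over an arbitrary base scheme; the statement is local on the base and is given here
over an affine base.) -/
theorem result
    {R : Type u} {A : Type v} [CommRing R] [CommRing A] [Algebra R A]
    (𝒜 : ℤ → Submodule R A) [GradedAlgebra 𝒜] (t : A) (ht : t ∈ 𝒜 (-1))
    (ψ : Localization.Away t →ₐ[R] R[T;T⁻¹])
    (hψt : ψ (algebraMap A (Localization.Away t) t) = LaurentPolynomial.T 1)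
    (hψ : ∀ (n : ℤ) (a : A), a ∈ 𝒜 n →
      ∃ r : R, ψ (algebraMap A (Localization.Away t) a) = LaurentPolynomial.C r * LaurentPolynomial.T (-n)) :
    (∃! χ : A →ₐ[R] R[X], ∀ a : A,
        ψ (algebraMap A (Localization.Away t) a) = Polynomial.toLaurentAlg (χ a)) ↔
      ∀ a ∈ 𝒜 1, ψ (algebraMap A (Localization.Away t) (t * a)) = 0 := by
  classical
  have hinj : Function.Injective (Polynomial.toLaurentAlg (R := R)) := by
    intro f g h
    rw [Polynomial.toLaurentAlg_apply, Polynomial.toLaurentAlg_apply] at h
    exact Polynomial.toLaurent_injective h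
  constructor
  · rintro ⟨χ, hχ, -⟩ a ha
    obtain ⟨r, hr⟩ := hψ 1 a ha
    have h1 : Polynomial.toLaurent (χ a) = LaurentPolynomial.C r * LaurentPolynomial.T (-1) := by
      rw [← hr, hχ a, Polynomial.toLaurentAlg_apply]
    have h2 : χ a = 0 := by
      have := congrArg LaurentPolynomial.trunc h1
      rw [Polynomial.trunc_toLaurent, LaurentPolynomial.trunc_C_mul_T] at this
      simpa using this
    have h3 : ψ (algebraMap A (Localization.Away t) a) = 0 := by
      rw [hχ a, h2, map_zero]
    rw [map_mul, map_mul, h3, mul_zero]
  · intro h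
    -- every element of `A` is sent into the image of `R[X]`
    have hmem : ∀ a : A, ∃ f : R[X], ψ (algebraMap A (Localization.Away t) a) = Polynomial.toLaurentAlg f := by
      intro a
      induction a using DirectSum.Decomposition.inductionOn 𝒜 with
      | zero => exact ⟨0, by simp⟩
      | homogeneous a =>
        rename_i n
        obtain ⟨r, hr⟩ := hψ n a a.2
        by_cases hn : n ≤ 0
        · obtain ⟨m, hm⟩ : ∃ m : ℕ, -n = m := ⟨(-n).toNat, by omega⟩
          refine ⟨Polynomial.C r * Polynomial.X ^ m, ?_⟩
          rw [hr, hm, Polynomial.toLaurentAlg_apply, Polynomial.toLaurent_C_mul_X_pow]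
        · push Not at hn
          obtain ⟨m, hm⟩ : ∃ m : ℕ, n = m + 1 := ⟨(n - 1).toNat, by omega⟩
          have hdeg : t ^ m * (a : A) ∈ 𝒜 1 := by
            have h1 : t ^ m ∈ 𝒜 (m • (-1 : ℤ)) := SetLike.pow_mem_graded m ht
            have h2 := SetLike.mul_mem_graded h1 a.2
            have e : m • (-1 : ℤ) + n = 1 := by
              rw [hm]; simp
            rwa [e] at h2
          have h0 := h _ hdeg
          rw [← mul_assoc, ← pow_succ', map_mul, map_mul, map_pow, map_pow, hψt] at h0
          have hu : IsUnit ((LaurentPolynomial.T 1 : R[T;T⁻¹]) ^ (m + 1)) :=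
            (LaurentPolynomial.isUnit_T 1).pow _
          have h3 : ψ (algebraMap A (Localization.Away t) (a : A)) = 0 :=
            (hu.mul_right_eq_zero).mp h0
          exact ⟨0, by rw [h3, map_zero]⟩
      | add a b ha hb =>
        obtain ⟨f, hf⟩ := ha
        obtain ⟨g, hg⟩ := hb
        exact ⟨f + g, by rw [map_add, map_add, hf, hg, map_add]⟩
    let φ : A →ₐ[R] R[T;T⁻¹] := ψ.comp (IsScalarTower.toAlgHom R A (Localization.Away t))
    have hφ : ∀ a, φ a = ψ (algebraMap A (Localization.Away t) a) := fun a => rfl
    have hφmem : ∀ a, φ a ∈ (Polynomial.toLaurentAlg (R := R)).range := by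
      intro a
      obtain ⟨f, hf⟩ := hmem a
      exact ⟨f, hf.symm⟩
    let e := AlgEquiv.ofInjective (Polynomial.toLaurentAlg (R := R)) hinj
    let χ : A →ₐ[R] R[X] := (e.symm : _ →ₐ[R] R[X]).comp (φ.codRestrict _ hφmem)
    have hχ : ∀ a : A, ψ (algebraMap A (Localization.Away t) a) = Polynomial.toLaurentAlg (χ a) := by
      intro a
      have h1 : (e (χ a) : R[T;T⁻¹]) = Polynomial.toLaurentAlg (χ a) := rfl
      have h2 : e (χ a) = φ.codRestrict _ hφmem a := by
        exact e.apply_symm_apply _
      rw [← h1, h2]
      rfl
    refine ⟨χ, hχ, ?_⟩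
    intro χ' hχ'
    ext a
    apply congrArg (fun f : R[X] => f.coeff _)
    apply hinj
    rw [← hχ' a, ← hχ a]

end Groth.Agent.S19037
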