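import Groth.Statements.S19042
import Mathlib.Tactic
import Groth.Agent.H95.Gc

set_option autoImplicit false
universe u
open Dieu

namespace Groth.Agent.S19042

/-- Let `k` be a perfect field of characteristic `2` and `c` a natural number, and consider the explicit
`2c`-dimensional `k`-space on `X_1, …, X_c, Y_1, …, Y_c` with its operators `F` and `V` (`F Y_j =
0`; `F X_j = X_{j/2}` for `j` even and `Y_{c-(j-1)/2}` for `j` odd; `V Y_j = Y_{2j}` when `2j ≤ c`,
else `0`; `V X_j = Y_{2c-2j+1}` when `2j > c`, else `0`). The vectors `X_j` with `c < 2j ≤ 2c`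
generate it as a module over `k[F, V]`: a `k`-subspace stable under `F` and `V` containing them is
everything. (Stated over any perfect field of characteristic `2`; the source works over an
algebraically closed one.) -/
theorem result (c : ℕ) (k : Type u) [Field k] [CharP k 2] [PerfectRing k 2]
    (N : Submodule k (W4c6eohyperellchar2.GcMod c k))
    (hF : ∀ v ∈ N, W4c6eohyperellchar2.F c k v ∈ N) (hV : ∀ v ∈ N, W4c6eohyperellchar2.V c k v ∈ N)
    (hX : ∀ j : ℕ, c < 2 * j → j ≤ c → W4c6eohyperellchar2.X c k j ∈ N) : N = ⊤ := by
  have hXall : ∀ d n : ℕ, c - n = d → 1 ≤ n → n ≤ c → W4c6eohyperellchar2.X c k n ∈ N := by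
    intro d
    induction d using Nat.strong_induction_on with
    | _ d ih =>
      intro n hd h1 hn
      by_cases h2 : c < 2 * n
      · exact hX n h2 hn
      · have h2' : 2 * n ≤ c := by omega
        have := ih (c - 2 * n) (by omega) (2 * n) rfl (by omega) h2'
        have hF' := hF _ this
        rwa [Groth.Agent.H95.F_X_even c k n h2'] at hF'
  have hYall : ∀ m : ℕ, 1 ≤ m → m ≤ c → W4c6eohyperellchar2.Y c k m ∈ N := by
    intro m
    induction m using Nat.strong_induction_on with
    | _ m ih =>
      intro h1 hm
      rcases Nat.even_or_odd' m with ⟨t, rfl | rfl⟩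
      · have := ih t (by omega) (by omega) (by omega)
        have hV' := hV _ this
        rwa [Groth.Agent.H95.V_Y] at hV'
      · have hx : W4c6eohyperellchar2.X c k (c - t) ∈ N := hX (c - t) (by omega) (by omega)
        have hV' := hV _ hx
        rw [Groth.Agent.H95.V_X c k (c - t) (by omega) (by omega)] at hV'
        have e : 2 * c - 2 * (c - t) + 1 = 2 * t + 1 := by omega
        rwa [e] at hV'
  exact Groth.Agent.H95.gc_eq_top_of_basis_mem c k N (fun n h1 hn => hXall (c - n) n rfl h1 hn) hYall

end Groth.Agent.S19042
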