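import Groth.Statements.S19043
import Mathlib.Tactic
import Groth.Agent.H95.Gc

set_option autoImplicit false
universe u
open Dieu

namespace Groth.Agent.S19043

/-- Let `k` be a perfect field of characteristic `2` and `c` a natural number, and let `M` be the
explicit `2c`-dimensional `k`-space on `X_1, …, X_c, Y_1, …, Y_c` with its operators `F` and `V` (`F
Y_j = 0`; `F X_j = X_{j/2}` for `j` even and `Y_{c-(j-1)/2}` for `j` odd; `V Y_j = Y_{2j}` when `2j
≤ c`, else `0`; `V X_j = Y_{2c-2j+1}` when `2j > c`, else `0`). The classes of the `X_j` with `c <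
2j ≤ 2c` in the quotient of `M` by the `k`-span of `F(M) ∪ V(M)` are linearly independent and span
that quotient. (Stated over any perfect field of characteristic `2`; the source works over an
algebraically closed one.) -/
theorem result (c : ℕ) (k : Type u) [Field k] [CharP k 2] [PerfectRing k 2] :
    LinearIndependent k (fun j : {j : ℕ // c < 2 * j ∧ j ≤ c} =>
        Submodule.mkQ (Submodule.span k (Set.range (W4c6eohyperellchar2.F c k) ∪ Set.range (W4c6eohyperellchar2.V c k))) (W4c6eohyperellchar2.X c k j.1)) ∧
      Submodule.span k (Set.range (fun j : {j : ℕ // c < 2 * j ∧ j ≤ c} =>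
        Submodule.mkQ (Submodule.span k (Set.range (W4c6eohyperellchar2.F c k) ∪ Set.range (W4c6eohyperellchar2.V c k))) (W4c6eohyperellchar2.X c k j.1))) = ⊤ := by
  classical
  set W : Submodule k (W4c6eohyperellchar2.GcMod c k) :=
    Submodule.span k (Set.range (W4c6eohyperellchar2.F c k) ∪ Set.range (W4c6eohyperellchar2.V c k)) with hW
  -- coordinate functionals
  let φ : Fin c → (W4c6eohyperellchar2.GcMod c k →ₗ[k] k) := fun i =>
    (LinearMap.proj i).comp (LinearMap.fst k (Fin c → k) (Fin c → k))
  have hφ : ∀ i v, φ i v = v.1 i := fun i v => rfl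
  have hker : ∀ i : Fin c, c < 2 * (i.val + 1) → W ≤ LinearMap.ker (φ i) := by
    intro i hi
    rw [hW, Submodule.span_le]
    rintro w (⟨v, rfl⟩ | ⟨v, rfl⟩)
    · change φ i _ = 0
      rw [hφ]
      simp only [W4c6eohyperellchar2.F, W4c6eohyperellchar2.coefX]
      rw [dif_neg (by omega)]
      simp
    · change φ i _ = 0
      rw [hφ]
      simp [W4c6eohyperellchar2.V]
  have hYW : ∀ m : ℕ, 1 ≤ m → m ≤ c → W4c6eohyperellchar2.Y c k m ∈ W := by
    intro m h1 hm
    rcases Nat.even_or_odd' m with ⟨t, rfl | rfl⟩
    · apply Submodule.subset_span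
      right
      exact ⟨W4c6eohyperellchar2.Y c k t, Groth.Agent.H95.V_Y c k t⟩
    · apply Submodule.subset_span
      right
      refine ⟨W4c6eohyperellchar2.X c k (c - t), ?_⟩
      rw [Groth.Agent.H95.V_X c k (c - t) (by omega) (by omega)]
      congr 1
      omega
  have hXW : ∀ n : ℕ, 2 * n ≤ c → W4c6eohyperellchar2.X c k n ∈ W := by
    intro n hn
    apply Submodule.subset_span
    left
    exact ⟨W4c6eohyperellchar2.X c k (2 * n), Groth.Agent.H95.F_X_even c k n hn⟩
  constructor
  · rw [linearIndependent_iff']
    intro s g hsum j0 hj0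
    have hj0' : j0.1 - 1 < c := by have := j0.2; omega
    let i0 : Fin c := ⟨j0.1 - 1, hj0'⟩
    have hi0 : c < 2 * (i0.val + 1) := by
      have := j0.2
      simp only [i0]
      omega
    have h1 := congrArg (W.liftQ (φ i0) (hker i0 hi0)) hsum
    rw [map_sum, map_zero] at h1
    simp only [map_smul, Submodule.mkQ_apply, Submodule.liftQ_apply, hφ, smul_eq_mul] at h1
    rw [Finset.sum_eq_single j0] at h1
    · have : (W4c6eohyperellchar2.X c k j0.1).1 i0 = 1 := by
        simp only [W4c6eohyperellchar2.X, i0]
        rw [if_pos]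
        have := j0.2
        omega
      rw [this, mul_one] at h1
      exact h1
    · intro b _ hb
      have : (W4c6eohyperellchar2.X c k b.1).1 i0 = 0 := by
        simp only [W4c6eohyperellchar2.X, i0]
        rw [if_neg]
        intro h
        apply hb
        apply Subtype.ext
        have := j0.2
        omega
      rw [this, mul_zero]
    · intro h
      exact absurd hj0 h
  · rw [eq_top_iff]
    intro q _
    obtain ⟨v, rfl⟩ := Submodule.mkQ_surjective W q
    rw [Groth.Agent.H95.gc_decomp c k v, map_add, map_sum, map_sum]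
    refine Submodule.add_mem _ (Submodule.sum_mem _ fun i _ => ?_) (Submodule.sum_mem _ fun i _ => ?_)
    · rw [map_smul]
      apply Submodule.smul_mem
      by_cases hi : c < 2 * (i.val + 1)
      · exact Submodule.subset_span ⟨⟨i.val + 1, hi, by have := i.2; omega⟩, rfl⟩
      · have : W.mkQ (W4c6eohyperellchar2.X c k (i.val + 1)) = 0 := by
          rw [Submodule.mkQ_apply, Submodule.Quotient.mk_eq_zero]
          exact hXW _ (by omega)
        rw [this]
        exact Submodule.zero_mem _
    · rw [map_smul]
      apply Submodule.smul_mem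
      have : W.mkQ (W4c6eohyperellchar2.Y c k (i.val + 1)) = 0 := by
        rw [Submodule.mkQ_apply, Submodule.Quotient.mk_eq_zero]
        exact hYW _ (by omega) (by have := i.2; omega)
      rw [this]
      exact Submodule.zero_mem _

end Groth.Agent.S19043
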