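import Groth.Statements.S19093
import Groth.Agent.H95.FrobFinite

set_option autoImplicit false
universe u
open FrobAlg

namespace Groth.Agent.S19093

/-- Let p be a prime, k a finite field of characteristic p, A a commutative k[[t]]-algebra of finite
type over the power series ring k[[t]], and P a prime ideal of A. Then the absolute Frobenius a ↦
a^p of the local ring A_P is a finite ring homomorphism. In particular every local ring of a scheme
of finite type over k[[t]] has finite absolute Frobenius. (The instance hypothesis that A_P has
characteristic p always holds, A_P being a nonzero algebra over k.) The published statement is for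
the local rings of a projective strictly semistable scheme over k[[t]] and adds that such a scheme
is regular with F-finite local rings; its proof uses only that the scheme is of finite type over
k[[t]], which is the form stated here. -/
theorem result (p : ℕ) [Fact p.Prime]
    (k : Type u) [Field k] [Finite k] [CharP k p]
    (A : Type u) [CommRing A] [Algebra (PowerSeries k) A] [Algebra.FiniteType (PowerSeries k) A]
    (P : Ideal A) [P.IsPrime] [CharP (Localization.AtPrime P) p] :
    (frobenius (Localization.AtPrime P) p).Finite := by
  haveI : PerfectRing k p := inferInstance
  haveI : CharP (PowerSeries k) p :=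
    charP_of_injective_algebraMap (algebraMap k (PowerSeries k)).injective p
  haveI : Nontrivial A :=
    nontrivial_of_ne (0 : A) 1 (fun h => (Ideal.IsPrime.ne_top ‹P.IsPrime›)
      ((Ideal.eq_top_iff_one P).mpr (h ▸ P.zero_mem)))
  haveI : CharP A p :=
    charP_of_injective_ringHom
      (f := (algebraMap (PowerSeries k) A).comp (algebraMap k (PowerSeries k)))
      (RingHom.injective _) p
  have h0 := Groth.Agent.H95.frobenius_finite_powerSeries p k
  obtain ⟨n, φ, hφ⟩ := Algebra.FiniteType.iff_quotient_mvPolynomial''.mp
    (inferInstance : Algebra.FiniteType (PowerSeries k) A)
  have h1 := Groth.Agent.H95.frobenius_finite_mvPolynomial p (PowerSeries k) (Fin n) h0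
  have h2 := Groth.Agent.H95.frobenius_finite_of_surjective p φ.toRingHom hφ h1
  exact Groth.Agent.H95.frobenius_finite_localization p A h2 P.primeCompl (Localization.AtPrime P)

end Groth.Agent.S19093
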