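import Groth.Statements.S19106
import Mathlib.Tactic

set_option autoImplicit false
open HilbD

namespace Groth.Agent.S19106

/-- Let μ be a non-empty Young diagram, V the number of its cells, E the number of unordered pairs of
cells sharing a side (a cell together with the cell immediately below it, or immediately to its
right, both in μ) and Q the number of 2 × 2 blocks of cells of μ (cells c such that the cell
diagonally below-right of c is in μ, the other two corners being in μ automatically). Then V − E + Q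
− 1 = 0, stated as V + Q = E + 1 in the naturals. (The empty diagram, for which the count reads 0 −
0 + 0 − 1, is excluded.) -/
theorem result (μ : YoungDiagram) (hμ : μ ≠ ⊥) :
    μ.cells.card + (μ.cells.filter (fun c => (c.1 + 1, c.2 + 1) ∈ μ)).card =
      (μ.cells.filter (fun c => (c.1 + 1, c.2) ∈ μ)).card + (μ.cells.filter (fun c => (c.1, c.2 + 1) ∈ μ)).card + 1 := by
  classical
  have hD : (μ.cells.filter (fun c => (c.1 + 1, c.2) ∈ μ)).card =
      (μ.cells.filter (fun c => 1 ≤ c.1)).card := by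
    apply Finset.card_bij (fun c _ => (c.1 + 1, c.2))
    · intro c hc
      rw [Finset.mem_filter] at hc ⊢
      exact ⟨(YoungDiagram.mem_cells _).mpr hc.2, Nat.le_add_left 1 c.1⟩
    · intro c₁ _ c₂ _ h
      simp only [Prod.mk.injEq, Nat.add_right_cancel_iff] at h
      exact Prod.ext h.1 h.2
    · intro c hc
      rw [Finset.mem_filter] at hc
      obtain ⟨i, j⟩ := c
      obtain ⟨hc1, hc2⟩ := hc
      have hi : i - 1 + 1 = i := Nat.sub_add_cancel hc2
      refine ⟨(i - 1, j), ?_, ?_⟩
      · rw [Finset.mem_filter, YoungDiagram.mem_cells]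
        rw [YoungDiagram.mem_cells] at hc1
        refine ⟨μ.up_left_mem (Nat.sub_le i 1) le_rfl hc1, ?_⟩
        simpa only [hi] using hc1
      · simp only [hi]
  have hR : (μ.cells.filter (fun c => (c.1, c.2 + 1) ∈ μ)).card =
      (μ.cells.filter (fun c => 1 ≤ c.2)).card := by
    apply Finset.card_bij (fun c _ => (c.1, c.2 + 1))
    · intro c hc
      rw [Finset.mem_filter] at hc ⊢
      exact ⟨(YoungDiagram.mem_cells _).mpr hc.2, Nat.le_add_left 1 c.2⟩
    · intro c₁ _ c₂ _ h
      simp only [Prod.mk.injEq, Nat.add_right_cancel_iff] at h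
      exact Prod.ext h.1 h.2
    · intro c hc
      rw [Finset.mem_filter] at hc
      obtain ⟨i, j⟩ := c
      obtain ⟨hc1, hc2⟩ := hc
      have hj : j - 1 + 1 = j := Nat.sub_add_cancel hc2
      refine ⟨(i, j - 1), ?_, ?_⟩
      · rw [Finset.mem_filter, YoungDiagram.mem_cells]
        rw [YoungDiagram.mem_cells] at hc1
        refine ⟨μ.up_left_mem le_rfl (Nat.sub_le j 1) hc1, ?_⟩
        simpa only [hj] using hc1
      · simp only [hj]
  have hQ : (μ.cells.filter (fun c => (c.1 + 1, c.2 + 1) ∈ μ)).card =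
      (μ.cells.filter (fun c => 1 ≤ c.1 ∧ 1 ≤ c.2)).card := by
    apply Finset.card_bij (fun c _ => (c.1 + 1, c.2 + 1))
    · intro c hc
      rw [Finset.mem_filter] at hc ⊢
      exact ⟨(YoungDiagram.mem_cells _).mpr hc.2, Nat.le_add_left 1 c.1, Nat.le_add_left 1 c.2⟩
    · intro c₁ _ c₂ _ h
      simp only [Prod.mk.injEq, Nat.add_right_cancel_iff] at h
      exact Prod.ext h.1 h.2
    · intro c hc
      rw [Finset.mem_filter] at hc
      obtain ⟨i, j⟩ := c
      obtain ⟨hc1, hc2, hc3⟩ := hc
      have hi : i - 1 + 1 = i := Nat.sub_add_cancel hc2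
      have hj : j - 1 + 1 = j := Nat.sub_add_cancel hc3
      refine ⟨(i - 1, j - 1), ?_, ?_⟩
      · rw [Finset.mem_filter, YoungDiagram.mem_cells]
        rw [YoungDiagram.mem_cells] at hc1
        refine ⟨μ.up_left_mem (Nat.sub_le i 1) (Nat.sub_le j 1) hc1, ?_⟩
        simpa only [hi, hj] using hc1
      · simp only [hi, hj]
  have h00 : ((0, 0) : ℕ × ℕ) ∈ μ := by
    have hne : μ.cells.Nonempty := by
      rw [Finset.nonempty_iff_ne_empty]
      intro h
      apply hμ
      apply le_antisymm _ bot_le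
      rw [← YoungDiagram.cells_subset_iff, h]
      exact Finset.empty_subset _
    obtain ⟨⟨i, j⟩, hc⟩ := hne
    exact μ.up_left_mem (Nat.zero_le i) (Nat.zero_le j) ((YoungDiagram.mem_cells _).mp hc)
  have hZ : (μ.cells.filter (fun c => c.1 = 0 ∧ c.2 = 0)).card = 1 := by
    rw [Finset.card_eq_one]
    refine ⟨(0, 0), ?_⟩
    ext ⟨i, j⟩
    simp only [Finset.mem_filter, YoungDiagram.mem_cells, Finset.mem_singleton, Prod.mk.injEq]
    constructor
    · rintro ⟨_, h1, h2⟩; exact ⟨h1, h2⟩
    · rintro ⟨rfl, rfl⟩; exact ⟨h00, rfl, rfl⟩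
  have key : μ.cells.card + (μ.cells.filter (fun c => 1 ≤ c.1 ∧ 1 ≤ c.2)).card =
      (μ.cells.filter (fun c => 1 ≤ c.1)).card + (μ.cells.filter (fun c => 1 ≤ c.2)).card +
        (μ.cells.filter (fun c => c.1 = 0 ∧ c.2 = 0)).card := by
    simp only [Finset.card_filter]
    rw [Finset.card_eq_sum_ones, ← Finset.sum_add_distrib, ← Finset.sum_add_distrib,
      ← Finset.sum_add_distrib]
    apply Finset.sum_congr rfl
    rintro ⟨i, j⟩ _
    rcases Nat.eq_zero_or_pos i with hi | hi <;> rcases Nat.eq_zero_or_pos j with hj | hj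
    · simp [hi, hj]
    · have : 1 ≤ j := hj
      simp [hi, this, Nat.pos_iff_ne_zero.mp hj]
    · have : 1 ≤ i := hi
      simp [hj, this, Nat.pos_iff_ne_zero.mp hi]
    · have h1 : 1 ≤ i := hi
      have h2 : 1 ≤ j := hj
      simp [h1, h2, Nat.pos_iff_ne_zero.mp hi]
  rw [hD, hR, hQ, key, hZ]

end Groth.Agent.S19106
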