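import Groth.Statements.S19130
import Groth.Agent.H21.SepClosedCoh

set_option autoImplicit false
universe u
open CategoryTheory CategoryTheory.Limits AlgebraicGeometry Opposite
open EtCoh

namespace Groth.Agent.S19130

/-- Let p be a prime and Y an integral scheme which is normal (every local ring is integrally closed in
its fraction field) and whose function field is algebraically closed. Then the étale cohomology of
the constant sheaf Z/p on Y is Z/p in degree 0 and vanishes in positive degrees: H^0(Y_et, Z/p) has
exactly p elements and H^i(Y_et, Z/p) = 0 for i > 0. Moreover, for every nonempty open subscheme j :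
U → Y, the unit morphism from the constant sheaf Z/p on Y_et to j_* of its restriction to U is an
isomorphism. -/
theorem result
    (p : ℕ) [Fact p.Prime] (Y : Scheme.{u}) [IsIntegral Y]
    (hnorm : ∀ y : Y, IsIntegrallyClosed (Y.presheaf.stalk y)) [IsAlgClosed Y.functionField] :
    Nat.card (EtCoh.H Y (EtCoh.const Y (ZMod p)) 0) = p ∧
      (∀ i : ℕ, 0 < i → Subsingleton (EtCoh.H Y (EtCoh.const Y (ZMod p)) i)) ∧
      ∀ U : Y.Opens, (U : Set Y).Nonempty →
        IsIso ((EtCoh.pullPushAdj U.ι).unit.app (EtCoh.const Y (ZMod p))) := by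
  refine ⟨?_, ?_, ?_⟩
  · rw [Groth.Agent.H21.SepClosedCoh.natCard_H_zero Y]
    show Nat.card (ULift.{u + 1} (ZMod p)) = p
    rw [Nat.card_congr Equiv.ulift, Nat.card_zmod]
  · intro i hi
    obtain ⟨n, rfl⟩ : ∃ n, i = n + 1 := ⟨i - 1, by omega⟩
    exact Groth.Agent.H21.SepClosedCoh.subsingleton_H_const hnorm _ n
  · intro U hU
    have : Nonempty ↥(U : Scheme.{u}) := by
      obtain ⟨x, hx⟩ := hU
      exact ⟨⟨x, hx⟩⟩
    exact Groth.Agent.H21.ConstUnitGeom.isIso_unit_of_isOpenImmersion hnorm U.ι _

end Groth.Agent.S19130
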