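import Groth.Statements.S19136
import Mathlib.Tactic

set_option autoImplicit false
universe u
open Instab

namespace Groth.Agent.S19136

/-- Let p be a seminorm and ℓ a linear form on a real vector space, let y₀ and y₁ be vectors at which p
is positive and ℓ is non-negative, and let y = t y₀ + (1 - t) y₁ with 0 < t < 1 be a point of the
open segment at which p is positive. Then ℓ(y)/p(y) is at least the smaller of ℓ(y₀)/p(y₀) and
ℓ(y₁)/p(y₁), and if it equals that smaller value then ℓ(y₀)/p(y₀) = ℓ(y₁)/p(y₁). (The published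
lemma concerns the numerical invariant attached to a degree-two cohomology class and a semi-norm on
graded points of a stack; restricted to one rational simplex that invariant is the quotient of a
linear form by a semi-norm on the non-negative orthant of a real coordinate space, and local
quasi-concavity there amounts to this inequality with its equality clause, the set where the linear
form is non-negative being automatically convex; the lemma's further assertion, that the invariant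
is positive at no pair of antipodal points, is not stated here. The vector space is arbitrary here.) -/
theorem result {E : Type u} [AddCommGroup E] [Module ℝ E]
    (p : Seminorm ℝ E) (ℓ : E →ₗ[ℝ] ℝ) (y₀ y₁ : E) (h₀ : 0 < p y₀) (h₁ : 0 < p y₁)
    (hℓ₀ : 0 ≤ ℓ y₀) (hℓ₁ : 0 ≤ ℓ y₁) (t : ℝ) (ht₀ : 0 < t) (ht₁ : t < 1)
    (hy : 0 < p (t • y₀ + (1 - t) • y₁)) :
    min (ℓ y₀ / p y₀) (ℓ y₁ / p y₁) ≤ ℓ (t • y₀ + (1 - t) • y₁) / p (t • y₀ + (1 - t) • y₁) ∧
      (ℓ (t • y₀ + (1 - t) • y₁) / p (t • y₀ + (1 - t) • y₁) = min (ℓ y₀ / p y₀) (ℓ y₁ / p y₁) →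
        ℓ y₀ / p y₀ = ℓ y₁ / p y₁) := by
  set y := t • y₀ + (1 - t) • y₁ with hydef
  have ht1' : 0 < 1 - t := by linarith
  have hpy : p y ≤ t * p y₀ + (1 - t) * p y₁ := by
    calc p y ≤ p (t • y₀) + p ((1 - t) • y₁) := map_add_le_add p _ _
      _ = t * p y₀ + (1 - t) * p y₁ := by
        rw [map_smul_eq_mul, map_smul_eq_mul, Real.norm_of_nonneg ht₀.le,
          Real.norm_of_nonneg ht1'.le]
  have hℓy : ℓ y = t * ℓ y₀ + (1 - t) * ℓ y₁ := by
    rw [hydef, map_add, map_smul, map_smul, smul_eq_mul, smul_eq_mul]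
  set a₀ := ℓ y₀ / p y₀ with ha₀
  set a₁ := ℓ y₁ / p y₁ with ha₁
  have hL0 : ℓ y₀ = a₀ * p y₀ := by rw [ha₀, div_mul_cancel₀ _ h₀.ne']
  have hL1 : ℓ y₁ = a₁ * p y₁ := by rw [ha₁, div_mul_cancel₀ _ h₁.ne']
  have ha₀nn : 0 ≤ a₀ := div_nonneg hℓ₀ h₀.le
  have ha₁nn : 0 ≤ a₁ := div_nonneg hℓ₁ h₁.le
  set m := min a₀ a₁ with hm
  have hm0 : m ≤ a₀ := min_le_left _ _
  have hm1 : m ≤ a₁ := min_le_right _ _
  have hmnn : 0 ≤ m := le_min ha₀nn ha₁nn
  have e1 : 0 ≤ (a₀ - m) * (t * p y₀) := mul_nonneg (sub_nonneg.mpr hm0) (mul_pos ht₀ h₀).le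
  have e2 : 0 ≤ (a₁ - m) * ((1 - t) * p y₁) := mul_nonneg (sub_nonneg.mpr hm1) (mul_pos ht1' h₁).le
  have e3 : 0 ≤ m * (t * p y₀ + (1 - t) * p y₁ - p y) := mul_nonneg hmnn (sub_nonneg.mpr hpy)
  have hsum : ℓ y - m * p y = (a₀ - m) * (t * p y₀) + (a₁ - m) * ((1 - t) * p y₁) +
      m * (t * p y₀ + (1 - t) * p y₁ - p y) := by
    rw [hℓy, hL0, hL1]; ring
  refine ⟨?_, ?_⟩
  · rw [le_div_iff₀ hy]
    linarith
  · intro heq
    have h0 : ℓ y = m * p y := by
      rw [← heq, div_mul_cancel₀ _ hy.ne']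
    have hz : (a₀ - m) * (t * p y₀) + (a₁ - m) * ((1 - t) * p y₁) +
      m * (t * p y₀ + (1 - t) * p y₁ - p y) = 0 := by rw [← hsum, h0, sub_self]
    have z1 : (a₀ - m) * (t * p y₀) = 0 := by linarith
    have z2 : (a₁ - m) * ((1 - t) * p y₁) = 0 := by linarith
    have w1 : a₀ - m = 0 := by
      rcases mul_eq_zero.mp z1 with h | h
      · exact h
      · exact absurd h (mul_pos ht₀ h₀).ne'
    have w2 : a₁ - m = 0 := by
      rcases mul_eq_zero.mp z2 with h | h
      · exact h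
      · exact absurd h (mul_pos ht1' h₁).ne'
    linarith

end Groth.Agent.S19136
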