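import Groth.Statements.S19137
import Mathlib.Tactic

set_option autoImplicit false
universe u
open Instab

namespace Groth.Agent.S19137

/-- Let p be a seminorm on a real vector space whose unit ball is strictly convex in the sense that p(a
+ b) < p(a) + p(b) whenever p(a) and p(b) are non-zero and b is not a positive multiple of a; let ℓ
be a linear form, y₀ and y₁ vectors with p and ℓ positive at both and y₁ not a positive multiple of
y₀, and y = t y₀ + (1 - t) y₁ with 0 < t < 1 a point at which p is positive. Then ℓ(y)/p(y) is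
strictly greater than the smaller of ℓ(y₀)/p(y₀) and ℓ(y₁)/p(y₁). (The published lemma says that
when the norm on graded points is locally a norm with strictly convex unit balls, the numerical
invariant attached to a degree-two class and that norm is strictly quasi-concave on each cone and is
positive at no pair of antipodal points; on one rational simplex the first property is this strict
form of the quasi-concavity inequality for the quotient of a linear form by the norm, at points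
where the linear form is positive, and the second property is not stated here. The vector space is
arbitrary here.) -/
theorem result {E : Type u} [AddCommGroup E] [Module ℝ E]
    (p : Seminorm ℝ E)
    (hp : ∀ a b : E, p a ≠ 0 → p b ≠ 0 → (¬ ∃ c : ℝ, 0 < c ∧ b = c • a) → p (a + b) < p a + p b)
    (ℓ : E →ₗ[ℝ] ℝ) (y₀ y₁ : E) (h₀ : 0 < p y₀) (h₁ : 0 < p y₁)
    (hℓ₀ : 0 < ℓ y₀) (hℓ₁ : 0 < ℓ y₁) (hne : ¬ ∃ c : ℝ, 0 < c ∧ y₁ = c • y₀)
    (t : ℝ) (ht₀ : 0 < t) (ht₁ : t < 1) (hy : 0 < p (t • y₀ + (1 - t) • y₁)) :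
    min (ℓ y₀ / p y₀) (ℓ y₁ / p y₁) < ℓ (t • y₀ + (1 - t) • y₁) / p (t • y₀ + (1 - t) • y₁) := by
  set y := t • y₀ + (1 - t) • y₁ with hydef
  have ht1' : 0 < 1 - t := by linarith
  have hpa : p (t • y₀) = t * p y₀ := by
    rw [map_smul_eq_mul, Real.norm_of_nonneg ht₀.le]
  have hpb : p ((1 - t) • y₁) = (1 - t) * p y₁ := by
    rw [map_smul_eq_mul, Real.norm_of_nonneg ht1'.le]
  have hpy : p y < t * p y₀ + (1 - t) * p y₁ := by
    rw [← hpa, ← hpb]
    apply hp
    · rw [hpa]; exact (mul_pos ht₀ h₀).ne'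
    · rw [hpb]; exact (mul_pos ht1' h₁).ne'
    · rintro ⟨c, hc, hcc⟩
      apply hne
      refine ⟨(1 - t)⁻¹ * (c * t), mul_pos (inv_pos.mpr ht1') (mul_pos hc ht₀), ?_⟩
      have : y₁ = (1 - t)⁻¹ • ((1 - t) • y₁) := by
        rw [smul_smul, inv_mul_cancel₀ ht1'.ne', one_smul]
      rw [this, hcc, smul_smul, smul_smul, mul_assoc]
  have hℓy : ℓ y = t * ℓ y₀ + (1 - t) * ℓ y₁ := by
    rw [hydef, map_add, map_smul, map_smul, smul_eq_mul, smul_eq_mul]
  set a₀ := ℓ y₀ / p y₀ with ha₀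
  set a₁ := ℓ y₁ / p y₁ with ha₁
  have hL0 : ℓ y₀ = a₀ * p y₀ := by rw [ha₀, div_mul_cancel₀ _ h₀.ne']
  have hL1 : ℓ y₁ = a₁ * p y₁ := by rw [ha₁, div_mul_cancel₀ _ h₁.ne']
  have ha₀pos : 0 < a₀ := div_pos hℓ₀ h₀
  have ha₁pos : 0 < a₁ := div_pos hℓ₁ h₁
  set m := min a₀ a₁ with hm
  have hm0 : m ≤ a₀ := min_le_left _ _
  have hm1 : m ≤ a₁ := min_le_right _ _
  have hmpos : 0 < m := lt_min ha₀pos ha₁pos
  have e1 : 0 ≤ (a₀ - m) * (t * p y₀) := mul_nonneg (sub_nonneg.mpr hm0) (mul_pos ht₀ h₀).le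
  have e2 : 0 ≤ (a₁ - m) * ((1 - t) * p y₁) := mul_nonneg (sub_nonneg.mpr hm1) (mul_pos ht1' h₁).le
  have e3 : 0 < m * (t * p y₀ + (1 - t) * p y₁ - p y) := mul_pos hmpos (sub_pos.mpr hpy)
  have hsum : ℓ y - m * p y = (a₀ - m) * (t * p y₀) + (a₁ - m) * ((1 - t) * p y₁) +
      m * (t * p y₀ + (1 - t) * p y₁ - p y) := by
    rw [hℓy, hL0, hL1]; ring
  rw [lt_div_iff₀ hy]
  linarith

end Groth.Agent.S19137
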