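import Groth.Statements.S1914
import Groth.Agent.H79.KoszulTor
import Groth.Agent.H79.SerreLimit
import Groth.Agent.H79.LechLimit

set_option autoImplicit false
universe u
open CategoryTheory
attribute [local instance] HasDerivedCategory.standard
open IntMult

namespace Groth.Agent.S1914

/-- Let A be a Noetherian local ring, I = (g₁, …, g_c) an ideal generated by a regular sequence and M a
finite A-module with Supp(M/IM) of dimension ≤ 0. Then c! · length_A(M/I^t M)/t^c tends, as t → ∞,
to Σ_i (−1)^i length_A Tor_i^A(A/I, M); that is, e_I(M, c) equals this alternating sum. -/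
theorem result (A : Type u) [CommRing A] [IsNoetherianRing A] [IsLocalRing A] (c : ℕ) (g : Fin c → A) (hreg : RingTheory.Sequence.IsRegular A (List.ofFn g)) (M : Type u) [AddCommGroup M] [Module A M] [Module.Finite A M] (h0 : Module.supportDim A (M ⧸ (Ideal.span (Set.range g) • (⊤ : Submodule A M))) ≤ 0) : Filter.Tendsto (fun t : ℕ => (c.factorial : ℝ) * ((Module.length A (M ⧸ (Ideal.span (Set.range g) ^ t • (⊤ : Submodule A M)))).toNat : ℝ) / (t : ℝ) ^ c) Filter.atTop (nhds (IntMult.chi A (A ⧸ Ideal.span (Set.range g)) M : ℝ)) := by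
  classical
  set l := List.ofFn g with hl
  have hIl : Ideal.ofList l = Ideal.span (Set.range g) := Groth.Agent.H79.KoszulRel.ofList_ofFn g
  -- support condition
  have hs : Groth.Agent.H79.KoszulEuler.SuppCond M l := by
    intro p hp hle
    rw [hIl] at hle
    have hpq : p ∈ Module.support A (M ⧸ (Ideal.span (Set.range g) • (⊤ : Submodule A M))) := by
      rw [Module.support_quotient]
      exact ⟨hp, hle⟩
    have hnt : Nontrivial (M ⧸ (Ideal.span (Set.range g) • (⊤ : Submodule A M))) := by
      rw [← Module.nonempty_support_iff (R := A)]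
      exact ⟨p, hpq⟩
    have hm := IsLocalRing.closedPoint_mem_support A
      (M ⧸ (Ideal.span (Set.range g) • (⊤ : Submodule A M)))
    by_contra hmax
    have hne : p ≠ IsLocalRing.closedPoint A := by
      intro h
      apply hmax
      rw [h]
      exact IsLocalRing.maximalIdeal.isMaximal A
    have hlt : p < IsLocalRing.closedPoint A :=
      lt_of_le_of_ne (IsLocalRing.le_maximalIdeal p.2.ne_top) hne
    have hpos : 0 < Module.supportDim A (M ⧸ (Ideal.span (Set.range g) • (⊤ : Submodule A M))) := by
      simp only [Module.supportDim, Order.krullDim_pos_iff, Subtype.exists,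
        Subtype.mk_lt_mk, exists_prop]
      exact ⟨p, hpq, _, hm, hlt⟩
    exact absurd h0 (not_le.mpr hpos)
  have h := Groth.Agent.H79.SerreLimit.tendsto_samuel M l hs
  rw [hl, List.length_ofFn, ← hl, hIl] at h
  -- identify the Euler characteristics
  have hreg' : ∀ i : ℤ, i ≠ 0 →
      Limits.IsZero ((CohIII.koszulCx (ModuleCat.of A A) l).homology i) :=
    fun i hi => Groth.Agent.H12.KoszulReg.isZero_koszulH_of_isWeaklyRegular l A
      hreg.toIsWeaklyRegular i hi
  have hlen : ∀ i : ℕ, Module.length A (DRing.Tor A i (A ⧸ Ideal.span (Set.range g)) M) =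
      Groth.Agent.H79.KoszulEuler.hlen M l (-(i : ℤ)) := by
    intro i
    obtain ⟨e⟩ := Groth.Agent.H79.KoszulTor.nonempty_tor_equiv l (Ideal.span (Set.range g)) hIl
      hreg' (ModuleCat.of A M) i
    rw [← Groth.Agent.H79.KoszulEuler.length_tensorCx_homology,
      Groth.Agent.H79.KoszulCone.koszul_eq]
    exact e.length_eq
  have hchi : IntMult.chi A (A ⧸ Ideal.span (Set.range g)) M =
      Groth.Agent.H79.KoszulEuler.chi M l := by
    unfold IntMult.chi
    rw [Groth.Agent.H79.LechLimit.chi_eq_sum_range]
    rw [finsum_eq_sum_of_support_subset (s := Finset.range (l.length + 1))]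
    · apply Finset.sum_congr rfl
      intro i _
      rw [hlen i]
    · intro i hi
      rw [Function.mem_support] at hi
      rw [Finset.coe_range, Set.mem_Iio]
      by_contra hcon
      apply hi
      rw [hlen i, Groth.Agent.H79.KoszulEulerAdd.hlen_eq_zero M l _ (Or.inr (by omega))]
      simp
  rw [hchi]
  exact h

end Groth.Agent.S1914
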