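import Groth.Statements.S19146
import Groth.Agent.H42.HensTwConst

set_option autoImplicit false
open CategoryTheory MonoidalCategory CartesianMonoidalCategory MonObj GrpObj AlgebraicGeometry
universe u
open TwC

namespace Groth.Agent.S19146

/-- Let R be a henselian local ring, s the closed point of S = Spec R, and X a quasi-isotrivial twisted
constant S-scheme (etale-locally on S isomorphic to a constant scheme). Then X is the disjoint
union, over the points x of the closed fibre X_s, of the local schemes X(x) = Spec O_{X,x}: for each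
such x the canonical morphism Spec O_{X,x} ⟶ X is an open and closed immersion and X(x) is a finite
etale cover of S (finite, etale, surjective), every point of X lies in X(x) for exactly one x ∈ X_s,
and restricting a section of X ⟶ S to the closed point is a bijection from the sections of X over S
onto the sections of X_s over s. -/
theorem result (R : Type u) [CommRing R] [HenselianLocalRing R]
    (X : Over (Spec (CommRingCat.of R))) (hX : TwC.IsTwConst TwC.Topology.etale X) :
    (∀ x : X.left, X.hom.base x = IsLocalRing.closedPoint R →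
      IsOpenImmersion (X.left.fromSpecStalk x) ∧ IsClosedImmersion (X.left.fromSpecStalk x) ∧
        IsFinite (X.left.fromSpecStalk x ≫ X.hom) ∧ Etale (X.left.fromSpecStalk x ≫ X.hom) ∧
        Surjective (X.left.fromSpecStalk x ≫ X.hom)) ∧
    (∀ y : X.left, ∃! x : X.left, X.hom.base x = IsLocalRing.closedPoint R ∧
      y ∈ Set.range (X.left.fromSpecStalk x).base) ∧
    (∀ σ₁ σ₂ : Spec (CommRingCat.of R) ⟶ X.left, σ₁ ≫ X.hom = 𝟙 _ → σ₂ ≫ X.hom = 𝟙 _ →
      Spec.map (CommRingCat.ofHom (IsLocalRing.residue R)) ≫ σ₁ = Spec.map (CommRingCat.ofHom (IsLocalRing.residue R)) ≫ σ₂ → σ₁ = σ₂) ∧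
    (∀ τ : Spec (CommRingCat.of (IsLocalRing.ResidueField R)) ⟶ X.left,
      τ ≫ X.hom = Spec.map (CommRingCat.ofHom (IsLocalRing.residue R)) →
      ∃ σ : Spec (CommRingCat.of R) ⟶ X.left, σ ≫ X.hom = 𝟙 _ ∧ Spec.map (CommRingCat.ofHom (IsLocalRing.residue R)) ≫ σ = τ) := by
  obtain ⟨h1, h2, h3⟩ := Groth.Agent.H42.TwConstMain.main X hX
  have : IsSeparated X.hom := h1
  have : Etale X.hom := h2
  refine ⟨fun x hx => Groth.Agent.H42.HensTwConst.stalk_piece R X.hom x hx,
    fun y => Groth.Agent.H42.HensTwConst.existsUnique_closed_specialization R X.hom h3.existence y,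
    fun σ₁ σ₂ h₁ h₂ hη => ?_,
    fun τ hτ => Groth.Agent.H42.HensTwConst.exists_section R X.hom τ hτ⟩
  refine Groth.Agent.H42.HensTwConst.section_ext' X.hom σ₁ σ₂ h₁ h₂ _ hη (fun U hU hsub => ?_)
  refine Groth.Agent.H42.HensTwConst.eq_univ_of_isOpen_of_closedPoint_mem R U hU.isOpen (hsub ?_)
  exact ⟨IsLocalRing.closedPoint (IsLocalRing.ResidueField R),
    Groth.Agent.H42.HensTwConst.range_SpecMap_residue R _⟩

end Groth.Agent.S19146
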