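import Groth.Statements.S19149
import Groth.Agent.H94.UnitSection

set_option autoImplicit false
universe u
open GrpSch

namespace Groth.Agent.S19149

/-- In affine form, let R be a commutative ring, A a smooth R-algebra with an augmentation ε : A → R
(the unit section of G = Spec A over S = Spec R), I = ker ε its augmentation ideal, and J ⊆ I an
ideal (defining a closed subscheme H of G through the unit section) such that (1) J is finitely
generated, (2) J ∩ I² = I·J in A, and (3) I/(J + I²) is a finitely generated projective R-module
(finite locally free on S). Then H = Spec (A/J) is smooth over S at every point of the unit section: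
for every prime P of A/J containing the image of I, the localization (A/J)_P is formally smooth over
R. (The source states this for G an affine smooth group scheme over a scheme S and H a closed
subgroup, concluding that the neutral component H° is a smooth open subgroup scheme; that conclusion
is smoothness of H along the unit section, which is the statement here in affine form; the group
structure is not used.) -/
theorem result (R A : Type u) [CommRing R] [CommRing A] [Algebra R A]
    [Algebra.Smooth R A] (ε : A →ₐ[R] R) (J : Ideal A) (hJI : J ≤ RingHom.ker ε)
    (h1 : J.FG)
    (h2 : J ⊓ RingHom.ker ε ^ 2 = RingHom.ker ε * J)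
    (h3 : Module.Finite R (↥(RingHom.ker ε) ⧸ Submodule.comap (RingHom.ker ε).subtype (J ⊔ RingHom.ker ε ^ 2)) ∧
      Module.Projective R (↥(RingHom.ker ε) ⧸ Submodule.comap (RingHom.ker ε).subtype (J ⊔ RingHom.ker ε ^ 2)))
    (P : Ideal (A ⧸ J)) [P.IsPrime] (hP : (RingHom.ker ε).map (Ideal.Quotient.mk J) ≤ P) :
    Algebra.IsSmoothAt R P := by
  have hfs : Algebra.FormallySmooth R A := Algebra.Smooth.formallySmooth
  have hfp : Algebra.FinitePresentation R A := Algebra.Smooth.finitePresentation
  haveI : Algebra.IsSmoothAt R (P.comap (Ideal.Quotient.mk J)) :=
    inferInstanceAs (Algebra.FormallySmooth R (Localization.AtPrime _))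
  rw [Groth.Agent.H94.GlobalJac.isSmoothAt_iff R J P h1 P.ResidueField
    (Ideal.ker_algebraMap_residueField P)]
  refine Groth.Agent.H94.UnitSection.injective_cotangentComplexBaseChange ε J hJI P.ResidueField
    h2 h3.2 ?_
  intro a ha
  rw [IsScalarTower.algebraMap_apply A (A ⧸ J) P.ResidueField, ← RingHom.mem_ker,
    Ideal.ker_algebraMap_residueField]
  exact hP (Ideal.mem_map_of_mem _ ha)

end Groth.Agent.S19149
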