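import Groth.Statements.S19158
import Mathlib.Tactic
import Groth.Agent.H95.SplitFilt

set_option autoImplicit false
universe u v w
open FiltMod

namespace Groth.Agent.S19158

/-- In affine form, let Γ be a non-trivial totally ordered commutative group, R a commutative ring and
(M_a) a finite family of finitely generated projective R-modules, each carrying a non-increasing
Γ-indexed family of submodules F_a; give M = Π_a M_a the family F^γ = Π_a F_a^γ. Then F is split by
a Γ-grading of M (an internal direct sum decomposition M = ⊕_γ G_γ with F^γ = Σ_{η ≥ γ} G_η for all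
γ) if and only if each F_a is split by a Γ-grading of M_a. (The published statement is for finite
locally free sheaves on a scheme, where a filtration counts as split when it is split by a grading
locally on the scheme; this row is the affine case, in which that is the same as being split by one
global grading.) -/
theorem result
    {Γ : Type w} [AddCommGroup Γ] [LinearOrder Γ] [IsOrderedAddMonoid Γ] [Nontrivial Γ]
    {R : Type u} [CommRing R] {A : Type v} [Fintype A] (M : A → Type v) [∀ a, AddCommGroup (M a)] [∀ a, Module R (M a)]
    [∀ a, Module.Finite R (M a)] [∀ a, Module.Projective R (M a)]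
    (F : ∀ a, Γ → Submodule R (M a)) (hF : ∀ a, Antitone (F a)) :
    (∃ G : Γ → Submodule R (∀ a, M a), DirectSum.IsInternal G ∧
        ∀ γ, Submodule.pi Set.univ (fun a => F a γ) = ⨆ η ∈ Set.Ici γ, G η) ↔
    ∀ a, ∃ G : Γ → Submodule R (M a), DirectSum.IsInternal G ∧ ∀ γ, F a γ = ⨆ η ∈ Set.Ici γ, G η := by
  classical
  constructor
  · rintro ⟨G, hG, hGF⟩ a
    refine Groth.Agent.H95.split_of_retract G hG (F a) (hF a) (LinearMap.single R M a)
      (LinearMap.proj a) (fun x => by simp) ?_ ?_
    · intro γ x hx
      rw [← hGF γ, Submodule.mem_pi]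
      intro b _
      by_cases hb : b = a
      · subst hb
        simpa using hx
      · rw [LinearMap.single_apply, Pi.single_eq_of_ne hb]
        exact Submodule.zero_mem _
    · intro γ y hy
      rw [← hGF γ, Submodule.mem_pi] at hy
      exact hy a (Set.mem_univ a)
  · intro h
    choose G hG hGF using h
    let 𝒢 : Γ → Submodule R (∀ a, M a) := fun γ => Submodule.pi Set.univ (fun a => G a γ)
    have hsingle : ∀ a γ, (G a γ).map (LinearMap.single R M a) ≤ 𝒢 γ := by
      rintro a γ _ ⟨x, hx, rfl⟩
      rw [Submodule.mem_pi]
      intro b _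
      by_cases hb : b = a
      · subst hb
        simpa using hx
      · rw [LinearMap.single_apply, Pi.single_eq_of_ne hb]
        exact Submodule.zero_mem _
    have hproj : ∀ a γ, (𝒢 γ).map (LinearMap.proj a) ≤ G a γ := by
      rintro a γ _ ⟨y, hy, rfl⟩
      rw [SetLike.mem_coe, Submodule.mem_pi] at hy
      exact hy a (Set.mem_univ a)
    refine ⟨𝒢, ?_, ?_⟩
    · rw [DirectSum.isInternal_submodule_iff_iSupIndep_and_iSup_eq_top]
      constructor
      · intro γ
        rw [Submodule.disjoint_def]
        intro x hx hx'
        funext a
        have h1 : x a ∈ G a γ := by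
          rw [Submodule.mem_pi] at hx
          exact hx a (Set.mem_univ a)
        have h2 : x a ∈ ⨆ η, ⨆ (_ : η ≠ γ), G a η := by
          have hmap : (⨆ η, ⨆ (_ : η ≠ γ), 𝒢 η).map (LinearMap.proj a) ≤ ⨆ η, ⨆ (_ : η ≠ γ), G a η := by
            rw [Submodule.map_iSup]
            refine iSup_le fun η => ?_
            rw [Submodule.map_iSup]
            refine iSup_le fun hη => ?_
            exact (hproj a η).trans (le_iSup₂ (f := fun η (_ : η ≠ γ) => G a η) η hη)
          exact hmap ⟨x, hx', rfl⟩
        have hind := (hG a).submodule_iSupIndep γ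
        rw [Submodule.disjoint_def] at hind
        exact hind _ h1 h2
      · rw [eq_top_iff]
        intro x _
        rw [← Finset.univ_sum_single x]
        refine Submodule.sum_mem _ fun a _ => ?_
        have hxa : x a ∈ ⨆ γ, G a γ := by
          rw [(hG a).submodule_iSup_eq_top]
          exact Submodule.mem_top
        have hmap : (⨆ γ, G a γ).map (LinearMap.single R M a) ≤ ⨆ γ, 𝒢 γ := by
          rw [Submodule.map_iSup]
          exact iSup_le fun γ => (hsingle a γ).trans (le_iSup 𝒢 γ)
        exact hmap ⟨x a, hxa, rfl⟩
    · intro γ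
      apply le_antisymm
      · intro x hx
        rw [Submodule.mem_pi] at hx
        rw [← Finset.univ_sum_single x]
        refine Submodule.sum_mem _ fun a _ => ?_
        have hxa : x a ∈ ⨆ η ∈ Set.Ici γ, G a η := by
          rw [← hGF a γ]
          exact hx a (Set.mem_univ a)
        have hmap : (⨆ η ∈ Set.Ici γ, G a η).map (LinearMap.single R M a) ≤ ⨆ η ∈ Set.Ici γ, 𝒢 η := by
          rw [Submodule.map_iSup]
          refine iSup_le fun η => ?_
          rw [Submodule.map_iSup]
          refine iSup_le fun hη => ?_
          exact (hsingle a η).trans (le_iSup₂ (f := fun η (_ : η ∈ Set.Ici γ) => 𝒢 η) η hη)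
        exact hmap ⟨x a, hxa, rfl⟩
      · refine iSup₂_le fun η hη x hx => ?_
        rw [Submodule.mem_pi] at hx ⊢
        intro a ha
        rw [hGF a γ]
        exact (le_iSup₂ (f := fun η (_ : η ∈ Set.Ici γ) => G a η) η hη) (hx a ha)

end Groth.Agent.S19158
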