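import Groth.Statements.S1916
import Groth.Agent.H79.SuppGeneric

set_option autoImplicit false
universe u
open CategoryTheory AlgebraicGeometry
open Cyc

namespace Groth.Agent.S1916

/-- Let F be a coherent O_X-module on a locally Noetherian scheme X. The irreducible components of Supp
F form a locally finite family of subsets of X, and at every point ξ of Supp F admitting no proper
generalization inside Supp F the stalk F_ξ has finite length over O_{X,ξ}. -/
theorem result (X : Scheme.{u}) [IsLocallyNoetherian X] (F : X.Modules) (hF : Coh.IsCoh F) : LocallyFinite (fun Z : irreducibleComponents {x : X | Nontrivial (F.presheaf.stalk x)} => ((↑) '' (Z : Set {x : X | Nontrivial (F.presheaf.stalk x)}) : Set X)) ∧ ∀ ξ : X, Nontrivial (F.presheaf.stalk ξ) → (∀ x : X, Nontrivial (F.presheaf.stalk x) → x ⤳ ξ → x = ξ) → Module.length (X.presheaf.stalk ξ) (F.presheaf.stalk ξ) < ⊤ := by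
  refine ⟨Groth.Agent.H79.SuppGeneric.locallyFinite_irreducibleComponents_subset _, ?_⟩
  intro ξ _ hgen
  rw [lt_top_iff_ne_top, Module.length_ne_top_iff]
  exact Groth.Agent.H79.SuppGeneric.isFiniteLength_stalk_of_generic F hF ξ hgen

end Groth.Agent.S1916
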