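import Groth.Statements.S19167
import Mathlib.Tactic
import Mathlib.Algebra.Category.Grp.Injective
import Mathlib.Topology.Algebra.OpenSubgroup

set_option autoImplicit false
universe u v
open ProCompl

namespace Groth.Agent.S19167

open Topology in
/-- Let i : A → B be an injective continuous homomorphism of topological abelian groups inducing the
topology of A from that of B (a strict injection), with open image. Then every character χ : A → ℚ/ℤ
with open kernel extends along i to a character ψ : B → ℚ/ℤ with open kernel. Here ℚ/ℤ is regarded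
as a discrete group, so that continuity of a character means that its kernel is open. -/
theorem result
    {A : Type u} {B : Type v} [AddCommGroup A] [TopologicalSpace A] [IsTopologicalAddGroup A]
    [AddCommGroup B] [TopologicalSpace B] [IsTopologicalAddGroup B]
    (i : A →+ B) (hi : Continuous i) (hinj : Function.Injective i) (hind : IsInducing i)
    (hopen : IsOpen (Set.range i))
    (χ : A →+ ℚ ⧸ AddSubgroup.zmultiples (1 : ℚ)) (hχ : IsOpen (χ.ker : Set A)) :
    ∃ ψ : B →+ ℚ ⧸ AddSubgroup.zmultiples (1 : ℚ), IsOpen (ψ.ker : Set B) ∧ ψ.comp i = χ := by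
  letI : DivisibleBy ℚ ℕ := AddGroup.divisibleByNatOfDivisibleByInt ℚ
  letI : DivisibleBy (ℚ ⧸ AddSubgroup.zmultiples (1 : ℚ)) ℕ := inferInstance
  letI : DivisibleBy (ℚ ⧸ AddSubgroup.zmultiples (1 : ℚ)) ℤ :=
    AddGroup.divisibleByIntOfDivisibleByNat _
  obtain ⟨ψ, hψ⟩ := (Module.Baer.of_divisible
    (ℚ ⧸ AddSubgroup.zmultiples (1 : ℚ))).extension_property_addMonoidHom i hinj χ
  refine ⟨ψ, ?_, hψ⟩
  have hemb : IsOpenEmbedding i := ⟨⟨hind, hinj⟩, hopen⟩
  have h1 : IsOpen ((χ.ker.map i : AddSubgroup B) : Set B) := by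
    rw [AddSubgroup.coe_map]
    exact hemb.isOpenMap _ hχ
  refine AddSubgroup.isOpen_mono ?_ h1
  rintro _ ⟨a, ha, rfl⟩
  rw [AddMonoidHom.mem_ker]
  have : ψ (i a) = χ a := by rw [← hψ]; rfl
  rw [this]
  exact ha

end Groth.Agent.S19167
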