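import Groth.Statements.S19168
import Mathlib.Tactic

set_option autoImplicit false
universe u v
open ProCompl

namespace Groth.Agent.S19168

/-- Let p : B → C be a continuous open surjective homomorphism of topological abelian groups (so that C
carries the quotient topology of B modulo the kernel of p). Then a character χ : B → ℚ/ℤ with open
kernel vanishing on the kernel of p factors uniquely through p, and the induced character of C again
has open kernel. In other words, for a topological exact sequence 0 → A → B → C → 0 with p open, the
sequence 0 → C^D → B^D → A^D of groups of characters with open kernel (continuous characters for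
discrete ℚ/ℤ) is exact; injectivity of C^D → B^D being immediate from surjectivity of p, this row
records exactness at B^D. -/
theorem result
    {B : Type u} {C : Type v} [AddCommGroup B] [TopologicalSpace B] [IsTopologicalAddGroup B]
    [AddCommGroup C] [TopologicalSpace C] [IsTopologicalAddGroup C]
    (p : B →+ C) (hp : Continuous p) (hpo : IsOpenMap p) (hps : Function.Surjective p)
    (χ : B →+ ℚ ⧸ AddSubgroup.zmultiples (1 : ℚ)) (hχ : IsOpen (χ.ker : Set B)) (hχp : p.ker ≤ χ.ker) :
    ∃ φ : C →+ ℚ ⧸ AddSubgroup.zmultiples (1 : ℚ), IsOpen (φ.ker : Set C) ∧ φ.comp p = χ := by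
  let φ : C →+ ℚ ⧸ AddSubgroup.zmultiples (1 : ℚ) :=
    p.liftOfRightInverse (Function.surjInv hps) (Function.rightInverse_surjInv hps) ⟨χ, hχp⟩
  have hφ : φ.comp p = χ :=
    p.liftOfRightInverse_comp (Function.surjInv hps) (Function.rightInverse_surjInv hps) ⟨χ, hχp⟩
  refine ⟨φ, ?_, hφ⟩
  have hker : (φ.ker : Set C) = p '' (χ.ker : Set B) := by
    ext c
    constructor
    · intro hc
      obtain ⟨b, rfl⟩ := hps c
      refine ⟨b, ?_, rfl⟩
      have : φ (p b) = χ b := by rw [← hφ]; rfl
      rw [SetLike.mem_coe, AddMonoidHom.mem_ker] at hc ⊢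
      rw [← this]; exact hc
    · rintro ⟨b, hb, rfl⟩
      have : φ (p b) = χ b := by rw [← hφ]; rfl
      rw [SetLike.mem_coe, AddMonoidHom.mem_ker] at hb ⊢
      rw [this]; exact hb
  rw [hker]
  exact hpo _ hχ

end Groth.Agent.S19168
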