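import Groth.Statements.S19169
import Groth.Agent.H95.VanDantzig

set_option autoImplicit false
universe u
open ProCompl

namespace Groth.Agent.S19169

/-- Let B be a Hausdorff, locally compact, totally disconnected topological abelian group which is
compactly generated, i.e. generated as a group by a compact subset. Then the open subgroups of
finite index of B have trivial intersection: every nonzero b lies outside some open subgroup of
finite index. Equivalently, the natural map from B to its completion with respect to open subgroups
of finite index is injective. -/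
theorem result
    {B : Type u} [AddCommGroup B] [TopologicalSpace B] [IsTopologicalAddGroup B]
    [T2Space B] [LocallyCompactSpace B] [TotallyDisconnectedSpace B]
    (hcg : ∃ K : Set B, IsCompact K ∧ AddSubgroup.closure K = ⊤) (b : B) (hb : b ≠ 0) :
    ∃ B' : AddSubgroup B, IsOpen (B' : Set B) ∧ B'.FiniteIndex ∧ b ∉ B' := by
  have hN : ({b}ᶜ : Set B) ∈ nhds (0 : B) :=
    isOpen_compl_singleton.mem_nhds (by simpa using hb.symm)
  obtain ⟨U, hUo, -, hUN⟩ := Groth.Agent.H95.exists_compact_open_addSubgroup hN
  have hbU : b ∉ U := fun h => (hUN h) rfl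
  haveI : AddGroup.FG (B ⧸ U) := Groth.Agent.H95.quotient_fg_of_compactly_generated hcg U hUo
  have hq : (QuotientAddGroup.mk b : B ⧸ U) ≠ 0 := by
    rw [Ne, QuotientAddGroup.eq_zero_iff]
    exact hbU
  obtain ⟨H, hHfi, hqH⟩ := Groth.Agent.H95.exists_finiteIndex_not_mem_of_fg _ hq
  refine ⟨H.comap (QuotientAddGroup.mk' U), ?_, ?_, ?_⟩
  · apply AddSubgroup.isOpen_mono (H₁ := U) _ hUo
    intro x hx
    rw [AddSubgroup.mem_comap, QuotientAddGroup.mk'_apply, (QuotientAddGroup.eq_zero_iff x).mpr hx]
    exact H.zero_mem
  · constructor
    rw [AddSubgroup.index_comap_of_surjective _ (QuotientAddGroup.mk'_surjective U)]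
    exact hHfi.index_ne_zero
  · exact hqH

end Groth.Agent.S19169
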