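import Groth.Statements.S19170
import Mathlib.Tactic
import Mathlib.GroupTheory.FiniteAbelian.Basic

set_option autoImplicit false
universe u
open ProCompl

namespace Groth.Agent.S19170

/-- Let B be a topological abelian group generated as a group by a compact subset. Then every character
χ : B → ℚ/ℤ with open kernel (a continuous character for discrete ℚ/ℤ) has kernel of finite index;
consequently each such character factors through B^∧, the completion of B taken along its
finite-index open subgroups, i.e. (B^∧)^D = B^D. (The published statement assumes moreover that B is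
Hausdorff, locally compact and totally disconnected; only compact generation is needed for this
assertion, so those assumptions are dropped here.) -/
theorem result
    {B : Type u} [AddCommGroup B] [TopologicalSpace B] [IsTopologicalAddGroup B]
    (hcg : ∃ K : Set B, IsCompact K ∧ AddSubgroup.closure K = ⊤)
    (χ : B →+ ℚ ⧸ AddSubgroup.zmultiples (1 : ℚ)) (hχ : IsOpen (χ.ker : Set B)) : χ.ker.FiniteIndex := by
  obtain ⟨K, hK, hgen⟩ := hcg
  have hopenU : ∀ b : B, IsOpen {x : B | χ x = χ b} := by
    intro b
    have : {x : B | χ x = χ b} = (fun x => x - b) ⁻¹' (χ.ker : Set B) := by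
      ext x
      simp only [Set.mem_setOf_eq, Set.mem_preimage, SetLike.mem_coe, AddMonoidHom.mem_ker, map_sub,
        sub_eq_zero]
    rw [this]
    exact hχ.preimage (continuous_id.sub continuous_const)
  obtain ⟨t, ht⟩ := hK.elim_finite_subcover (fun b : B => {x : B | χ x = χ b}) hopenU
    (fun x _ => Set.mem_iUnion.mpr ⟨x, rfl⟩)
  have hfin : (χ '' K).Finite := by
    refine Set.Finite.subset (t.finite_toSet.image χ) ?_
    rintro _ ⟨x, hx, rfl⟩
    obtain ⟨b, hb⟩ := Set.mem_iUnion.mp (ht hx)
    obtain ⟨hbt, hxb⟩ := Set.mem_iUnion.mp hb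
    exact ⟨b, hbt, hxb.symm⟩
  have hrange : χ.range = AddSubgroup.closure (χ '' K) := by
    rw [AddMonoidHom.range_eq_map, ← hgen, AddMonoidHom.map_closure]
  have hfg : χ.range.FG := (AddSubgroup.fg_iff _).mpr ⟨χ '' K, hrange.symm, hfin⟩
  haveI : AddGroup.FG χ.range := (AddGroup.fg_iff_addSubgroup_fg _).mpr hfg
  have htors : IsAddTorsion χ.range := by
    rintro ⟨y, hy⟩
    obtain ⟨q, rfl⟩ := QuotientAddGroup.mk_surjective y
    rw [isOfFinAddOrder_iff_nsmul_eq_zero]
    refine ⟨q.den, q.den_pos, ?_⟩
    apply Subtype.ext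
    change q.den • (QuotientAddGroup.mk q : ℚ ⧸ AddSubgroup.zmultiples (1 : ℚ)) = 0
    rw [← QuotientAddGroup.mk_nsmul, QuotientAddGroup.eq_zero_iff, nsmul_eq_mul, Rat.den_mul_eq_num]
    exact AddSubgroup.mem_zmultiples_iff.mpr ⟨q.num, by simp⟩
  haveI : Finite χ.range := AddCommGroup.finite_of_fg_isAddTorsion _ htors
  refine ⟨?_⟩
  rw [AddSubgroup.index_ker]
  exact Nat.card_pos.ne'

end Groth.Agent.S19170
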