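import Groth.Statements.S19176
import Groth.Agent.H95.MonoQuot

set_option autoImplicit false
universe u
open PlaneCurve

namespace Groth.Agent.S19176

open MvPolynomial in
/-- Let k be a field of characteristic p (p = 0 allowed) and F = y² − x³ in k[x, y] (x the variable of
index 0, y of index 1). The singular subscheme of the plane curve F = 0, cut out by F and its two
partial derivatives, is finite over k of degree 4 when p = 2, of degree 3 when p = 3, and of degree
2 otherwise: the k-dimension of k[x, y]/(F, ∂F/∂x, ∂F/∂y) is that number. (The source phrases this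
through the complete local ring of a cusp; the row is the computation for the standard cusp y² =
x³.) -/
theorem result (k : Type u) [Field k] (p : ℕ) [CharP k p] :
    Module.finrank k (MvPolynomial (Fin 2) k ⧸ Ideal.span
      ({X 1 ^ 2 - X 0 ^ 3, pderiv 0 (X 1 ^ 2 - X 0 ^ 3), pderiv 1 (X 1 ^ 2 - X 0 ^ 3)} :
        Set (MvPolynomial (Fin 2) k))) = (if p = 2 then 4 else if p = 3 then 3 else 2) := by
  by_cases h2 : p = 2
  · subst h2
    rw [if_pos rfl, Groth.Agent.H95.cusp_ideal_char_two, Groth.Agent.H95.finrank_quot_pow]
  · rw [if_neg h2]
    by_cases h3 : p = 3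
    · subst h3
      rw [if_pos rfl, Groth.Agent.H95.cusp_ideal_char_three, Groth.Agent.H95.finrank_quot_pow]
    · rw [if_neg h3]
      have hp1 : p ≠ 1 := CharP.char_ne_one k p
      have hp : p = 0 ∨ Nat.Prime p := (CharP.char_is_prime_or_zero k p).symm
      have h2k : (2 : k) ≠ 0 := by
        intro h
        have h' : ((2 : ℕ) : k) = 0 := by exact_mod_cast h
        rw [CharP.cast_eq_zero_iff k p] at h'
        rcases hp with rfl | hp
        · simp at h'
        · exact h2 ((Nat.prime_dvd_prime_iff_eq hp Nat.prime_two).mp h')
      have h3k : (3 : k) ≠ 0 := by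
        intro h
        have h' : ((3 : ℕ) : k) = 0 := by exact_mod_cast h
        rw [CharP.cast_eq_zero_iff k p] at h'
        rcases hp with rfl | hp
        · simp at h'
        · exact h3 ((Nat.prime_dvd_prime_iff_eq hp Nat.prime_three).mp h')
      rw [Groth.Agent.H95.cusp_ideal_char_other k h2k h3k, Groth.Agent.H95.finrank_quot_pow]

end Groth.Agent.S19176
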