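import Groth.Statements.S19177
import Mathlib.Tactic
import Mathlib.RingTheory.Finiteness.Projective
import Mathlib.RingTheory.Finiteness.Nakayama
import Mathlib.RingTheory.Support

set_option autoImplicit false
universe u
open CAlg

namespace Groth.Agent.S19177

/-- Let S → R be a homomorphism of commutative rings making R a finitely generated projective S-module
of rank 2 at every prime of S (the affine form of a finite locally free morphism of degree 2). Then
the cokernel of the (injective) structure map S → R, the S-module R/S, is a projective S-module of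
rank 1 at every prime of S (locally free of rank 1). -/
theorem result
    (S R : Type u) [CommRing S] [CommRing R] [Algebra S R] [Module.Finite S R] [Module.Projective S R]
    (h2 : ∀ p : PrimeSpectrum S, Module.rankAtStalk (R := S) R p = 2) :
    Module.Projective S (R ⧸ LinearMap.range (Algebra.linearMap S R)) ∧
      ∀ p : PrimeSpectrum S,
        Module.rankAtStalk (R := S) (R ⧸ LinearMap.range (Algebra.linearMap S R)) p = 1 := by
  classical
  set ι : S →ₗ[S] R := Algebra.linearMap S R with hι
  -- Step 1: find φ with φ 1 = 1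
  have hex : ∃ φ : R →ₗ[S] S, φ 1 = 1 := by
    let ev : (R →ₗ[S] S) →ₗ[S] S := LinearMap.applyₗ (1 : R)
    let J : Ideal S := LinearMap.range ev
    by_contra hno
    have hJ : J ≠ ⊤ := by
      intro hJ
      have h1 : (1 : S) ∈ J := hJ ▸ Submodule.mem_top
      obtain ⟨φ, hφ⟩ := h1
      exact hno ⟨φ, hφ⟩
    obtain ⟨m, hm, hJm⟩ := Ideal.exists_le_maximal J hJ
    obtain ⟨n, f, g, -, -, hfg⟩ := Module.Finite.exists_comp_eq_id_of_projective S R
    have hcoord : ∀ k : Fin n, g 1 k ∈ m := by
      intro k
      apply hJm
      exact ⟨(LinearMap.proj k).comp g, rfl⟩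
    have h1 : (1 : R) ∈ m • (⊤ : Submodule S R) := by
      have e1 : (1 : R) = f (g 1) := by
        rw [← LinearMap.comp_apply, hfg, LinearMap.id_apply]
      have e2 : g 1 = ∑ k, (g 1 k) • (Pi.single k (1 : S) : Fin n → S) := by
        funext j
        simp [Finset.sum_apply, Pi.single_apply]
      rw [e1, e2, map_sum]
      refine Submodule.sum_mem _ fun k _ => ?_
      rw [map_smul]
      exact Submodule.smul_mem_smul (hcoord k) Submodule.mem_top
    have htop : (⊤ : Submodule S R) ≤ m • (⊤ : Submodule S R) := by
      rw [Ideal.smul_top_eq_map] at h1 ⊢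
      intro x _
      rw [Submodule.restrictScalars_mem] at h1 ⊢
      rw [(Ideal.eq_top_iff_one _).mpr h1]
      exact Submodule.mem_top
    obtain ⟨r, hr1, hr2⟩ := Submodule.exists_sub_one_mem_and_smul_eq_zero_of_fg_of_le_smul m
      (⊤ : Submodule S R) Module.Finite.fg_top htop
    have hrm : r ∉ m := by
      intro hr
      apply hm.ne_top
      rw [Ideal.eq_top_iff_one]
      have : (1 : S) = r - (r - 1) := by ring
      rw [this]
      exact m.sub_mem hr hr1
    have hrank : Module.rankAtStalk (R := S) R ⟨m, hm.isPrime⟩ = 0 := by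
      rw [Module.rankAtStalk_eq_zero_iff_notMem_support, Module.notMem_support_iff']
      intro x
      exact ⟨r, hrm, hr2 x Submodule.mem_top⟩
    rw [h2] at hrank
    exact absurd hrank (by norm_num)
  obtain ⟨φ, hφ⟩ := hex
  have hφι : ∀ s : S, φ (ι s) = s := by
    intro s
    have : ι s = s • (1 : R) := by rw [hι, Algebra.linearMap_apply, Algebra.algebraMap_eq_smul_one]
    rw [this, map_smul, hφ, smul_eq_mul, mul_one]
  set Q := R ⧸ LinearMap.range ι with hQ
  -- the section Q → R
  let i : Q →ₗ[S] R := (LinearMap.range ι).liftQ (LinearMap.id - ι.comp φ) (by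
    rintro _ ⟨s, rfl⟩
    rw [LinearMap.mem_ker, LinearMap.sub_apply, LinearMap.id_apply, LinearMap.comp_apply, hφι,
      sub_self])
  have hi : ∀ x : R, i ((LinearMap.range ι).mkQ x) = x - ι (φ x) := fun x => rfl
  have hsi : (LinearMap.range ι).mkQ.comp i = LinearMap.id := by
    apply LinearMap.ext
    intro q
    obtain ⟨x, rfl⟩ := (LinearMap.range ι).mkQ_surjective q
    rw [LinearMap.comp_apply, hi, map_sub, LinearMap.id_apply, sub_eq_self]
    exact (Submodule.Quotient.mk_eq_zero _).mpr ⟨φ x, rfl⟩
  haveI hproj : Module.Projective S Q := Module.Projective.of_split i _ hsi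
  refine ⟨hproj, ?_⟩
  intro p
  haveI : Nontrivial S := ⟨⟨0, 1, fun h => p.2.ne_top ((Ideal.eq_top_iff_one _).mpr (h ▸ p.asIdeal.zero_mem))⟩⟩
  -- R ≃ S × Q
  let e : R ≃ₗ[S] S × Q :=
    { toLinearMap := LinearMap.prod φ (LinearMap.range ι).mkQ
      invFun := fun z => ι z.1 + i z.2
      left_inv := by
        intro x
        change ι (φ x) + i ((LinearMap.range ι).mkQ x) = x
        rw [hi]; abel
      right_inv := by
        rintro ⟨s, q⟩
        obtain ⟨x, rfl⟩ := (LinearMap.range ι).mkQ_surjective q
        change (φ (ι s + i ((LinearMap.range ι).mkQ x)),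
          (LinearMap.range ι).mkQ (ι s + i ((LinearMap.range ι).mkQ x))) = (s, (LinearMap.range ι).mkQ x)
        rw [hi, map_add, map_add, map_sub, map_sub, hφι, hφι]
        refine Prod.ext (by simp) ?_
        simp only
        have h0 : ∀ t : S, (LinearMap.range ι).mkQ (ι t) = 0 := fun t =>
          (Submodule.Quotient.mk_eq_zero _).mpr ⟨t, rfl⟩
        rw [h0, h0, zero_add, sub_zero] }
  have hr := congrFun (Module.rankAtStalk_eq_of_equiv e) p
  rw [Module.rankAtStalk_prod, Pi.add_apply, h2, Module.rankAtStalk_self, Pi.one_apply] at hr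
  change Module.rankAtStalk Q p = 1
  omega

end Groth.Agent.S19177
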