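import Groth.Statements.S19181
import Groth.Agent.H95.Charts

set_option autoImplicit false
universe u
open CAlg

namespace Groth.Agent.S19181

open MvPolynomial in
/-- Let R be a commutative ring, a₁, a₂ ∈ R, and C ⊂ A²_R the curve y² + a₁xy = x³ + a₂x², blown up at
the section x = y = 0. In the chart where x = yα (variables y = X 0, α = X 1) the equation of C
becomes y²·g₁ with g₁ = 1 + a₁α − yα³ − a₂α², and the y-saturation of the ideal (y²g₁) is (g₁): for
s ∈ R[y, α], some yⁿs lies in (y²g₁) if and only if s ∈ (g₁). In the chart where y = xβ (variables x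
= X 0, β = X 1) the equation becomes x²·g₂ with g₂ = β² + a₁β − x − a₂, and some xⁿs lies in (x²g₂)
if and only if s ∈ (g₂). In other words the strict transform of C is cut out by g₁, resp. g₂, in the
two charts. -/
theorem result (R : Type u) [CommRing R] (a₁ a₂ : R) :
    (∀ s : MvPolynomial (Fin 2) R,
      (∃ n : ℕ, X 0 ^ n * s ∈ Ideal.span ({X 0 ^ 2 * (1 + C a₁ * X 1 - X 0 * X 1 ^ 3 - C a₂ * X 1 ^ 2)} :
        Set (MvPolynomial (Fin 2) R))) ↔
      s ∈ Ideal.span ({1 + C a₁ * X 1 - X 0 * X 1 ^ 3 - C a₂ * X 1 ^ 2} : Set (MvPolynomial (Fin 2) R))) ∧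
    (∀ s : MvPolynomial (Fin 2) R,
      (∃ n : ℕ, X 0 ^ n * s ∈ Ideal.span ({X 0 ^ 2 * (X 1 ^ 2 + C a₁ * X 1 - X 0 - C a₂)} :
        Set (MvPolynomial (Fin 2) R))) ↔
      s ∈ Ideal.span ({X 1 ^ 2 + C a₁ * X 1 - X 0 - C a₂} : Set (MvPolynomial (Fin 2) R))) := by
  refine ⟨?_, ?_⟩
  · intro s
    apply Groth.Agent.H95.saturation_of_nzd (X 0)
      (1 + C a₁ * X 1 - X 0 * X 1 ^ 3 - C a₂ * X 1 ^ 2) ?_ s
    obtain ⟨e, he⟩ := Groth.Agent.H95.chart1Equiv R a₁ a₂ _ rfl
    apply Groth.Agent.H95.nzd_of_algEquiv e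
    rw [he]
    refine mul_mem ?_ (IsUnit.mem_nonZeroDivisors (IsUnit.pow 3 (IsUnit.of_mul_eq_one
      (algebraMap (Polynomial R) _ Polynomial.X)
      (by rw [mul_comm]; exact IsLocalization.Away.mul_invSelf _))))
    have hc : (1 + algebraMap R (Localization.Away (Polynomial.X : Polynomial R)) a₁ *
            algebraMap (Polynomial R) (Localization.Away (Polynomial.X : Polynomial R)) Polynomial.X -
          algebraMap R (Localization.Away (Polynomial.X : Polynomial R)) a₂ *
            algebraMap (Polynomial R) (Localization.Away (Polynomial.X : Polynomial R)) Polynomial.X ^ 2) =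
        algebraMap (Polynomial R) (Localization.Away (Polynomial.X : Polynomial R))
          (1 + Polynomial.C a₁ * Polynomial.X - Polynomial.C a₂ * Polynomial.X ^ 2) := by
      rw [map_sub, map_add, map_one, map_mul, map_mul, map_pow,
        IsScalarTower.algebraMap_apply R (Polynomial R) (Localization.Away (Polynomial.X : Polynomial R)) a₁,
        IsScalarTower.algebraMap_apply R (Polynomial R) (Localization.Away (Polynomial.X : Polynomial R)) a₂]
      rfl
    rw [hc]
    exact IsLocalization.map_nonZeroDivisors_le (Submonoid.powers (Polynomial.X : Polynomial R)) _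
      (Submonoid.mem_map_of_mem _ (Groth.Agent.H95.nzd_one_add R a₁ a₂))
  · intro s
    apply Groth.Agent.H95.saturation_of_nzd (X 0)
      (X 1 ^ 2 + C a₁ * X 1 - X 0 - C a₂) ?_ s
    obtain ⟨e, he⟩ := Groth.Agent.H95.chart2Equiv R a₁ a₂ _ rfl
    apply Groth.Agent.H95.nzd_of_algEquiv e
    rw [he]
    apply Polynomial.Monic.mem_nonZeroDivisors
    rcases subsingleton_or_nontrivial R with hR | hR
    · exact Polynomial.monic_of_subsingleton _
    have h1 : (Polynomial.X ^ 2 + Polynomial.C a₁ * Polynomial.X - Polynomial.C a₂ : Polynomial R) =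
        Polynomial.X ^ 2 + (Polynomial.C a₁ * Polynomial.X + Polynomial.C (-a₂)) := by
      rw [Polynomial.C_neg]; ring
    rw [h1]
    apply Polynomial.monic_X_pow_add
    exact lt_of_le_of_lt Polynomial.degree_linear_le (by norm_num)

end Groth.Agent.S19181
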