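import Groth.Statements.S19182
import Groth.Agent.H95.Charts

set_option autoImplicit false
universe u
open CAlg

namespace Groth.Agent.S19182

open MvPolynomial in
/-- Let R be a commutative ring and a₁, a₂ ∈ R. The two affine charts of the blow-up of the plane curve
y² + a₁xy = x³ + a₂x² at the section x = y = 0, with coordinate rings R[y, α]/(1 + a₁α − yα³ − a₂α²)
and R[x, β]/(β² + a₁β − x − a₂) (variables indexed 0 and 1 in this order), are smooth R-algebras
(formally smooth of finite presentation). This is the local computation behind the statement that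
the blow-up of a Weierstrass curve along a section through its singular locus is a smooth proper
curve of genus 0. -/
theorem result (R : Type u) [CommRing R] (a₁ a₂ : R) :
    Algebra.Smooth R (MvPolynomial (Fin 2) R ⧸
      Ideal.span ({1 + C a₁ * X 1 - X 0 * X 1 ^ 3 - C a₂ * X 1 ^ 2} : Set (MvPolynomial (Fin 2) R))) ∧
    Algebra.Smooth R (MvPolynomial (Fin 2) R ⧸
      Ideal.span ({X 1 ^ 2 + C a₁ * X 1 - X 0 - C a₂} : Set (MvPolynomial (Fin 2) R))) := by
  refine ⟨?_, ?_⟩
  · obtain ⟨e, -⟩ := Groth.Agent.H95.chart1Equiv R a₁ a₂ _ rfl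
    haveI := Groth.Agent.H95.smooth_localizationAway_X R
    exact Algebra.Smooth.of_equiv e.symm
  · obtain ⟨e, -⟩ := Groth.Agent.H95.chart2Equiv R a₁ a₂ _ rfl
    haveI := Groth.Agent.H95.smooth_polynomial R
    exact Algebra.Smooth.of_equiv e.symm

end Groth.Agent.S19182
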