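import Groth.Statements.S19183
import Mathlib.Tactic
import Mathlib.LinearAlgebra.Dimension.Constructions
import Mathlib.LinearAlgebra.Dimension.Free

set_option autoImplicit false
universe u
open CAlg

namespace Groth.Agent.S19183

/-- Let A be a non-zero commutative ring and f ∈ A a non-zero-divisor. The fibre product A ×_{A/(f)} A
of two copies of A over A/(f) — the A-submodule of A × A of pairs (x, y) with x − y ∈ (f), which is
the coordinate ring of two copies of Spec A glued along the Cartier divisor f = 0 — is a free
A-module of rank 2. (This is what makes the gluing of two copies of a curve along an effective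
Cartier divisor finite locally free of degree 2 over the curve.) -/
theorem result (A : Type u) [CommRing A] [Nontrivial A]
    (f : A) (hf : f ∈ nonZeroDivisors A) :
    Module.Free A (Submodule.comap (LinearMap.fst A A A - LinearMap.snd A A A) (Ideal.span ({f} : Set A))) ∧
      Module.finrank A (Submodule.comap (LinearMap.fst A A A - LinearMap.snd A A A) (Ideal.span ({f} : Set A))) = 2 := by
  set N : Submodule A (A × A) :=
    Submodule.comap (LinearMap.fst A A A - LinearMap.snd A A A) (Ideal.span ({f} : Set A)) with hN
  let g0 : A × A →ₗ[A] A × A :=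
    LinearMap.prod (LinearMap.fst A A A + f • LinearMap.snd A A A) (LinearMap.fst A A A)
  have hg0 : ∀ z, g0 z ∈ N := by
    intro z
    rw [hN, Submodule.mem_comap]
    change (z.1 + f • z.2) - z.1 ∈ Ideal.span ({f} : Set A)
    rw [add_sub_cancel_left, smul_eq_mul]
    exact Ideal.mul_mem_right _ _ (Ideal.subset_span rfl)
  let g : A × A →ₗ[A] N := g0.codRestrict N hg0
  have hginj : Function.Injective g := by
    rw [injective_iff_map_eq_zero]
    intro z hz
    have hz' : g0 z = 0 := congrArg Subtype.val hz
    have h1 : z.1 + f • z.2 = 0 := congrArg Prod.fst hz'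
    have h2 : z.1 = 0 := congrArg Prod.snd hz'
    rw [h2, zero_add, smul_eq_mul, mul_comm] at h1
    have h3 : z.2 = 0 := (mem_nonZeroDivisors_iff_right.mp hf) _ h1
    exact Prod.ext h2 h3
  have hgsurj : Function.Surjective g := by
    rintro ⟨⟨x, y⟩, hxy⟩
    rw [hN, Submodule.mem_comap] at hxy
    change x - y ∈ Ideal.span ({f} : Set A) at hxy
    obtain ⟨c, hc⟩ := Ideal.mem_span_singleton'.mp hxy
    refine ⟨(y, c), ?_⟩
    apply Subtype.ext
    change (y + f • c, y) = (x, y)
    rw [smul_eq_mul, mul_comm, hc, add_sub_cancel]
  let e : (A × A) ≃ₗ[A] N := LinearEquiv.ofBijective g ⟨hginj, hgsurj⟩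
  refine ⟨Module.Free.of_equiv e, ?_⟩
  rw [← e.finrank_eq, Module.finrank_prod, Module.finrank_self]

end Groth.Agent.S19183
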