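import Groth.Statements.S19184
import Mathlib.Tactic
import Mathlib.Algebra.Polynomial.Div
import Mathlib.LinearAlgebra.FreeModule.Basic
import Mathlib.RingTheory.Polynomial.Basic

set_option autoImplicit false
universe u
open CAlg

namespace Groth.Agent.S19184

open Polynomial in
/-- Let S be a commutative ring, a, b ∈ S, f = x² + ax + b ∈ S[x] and R = S[x]/(f), a free S-algebra of
rank 2. Let A ⊂ S[x] be the S-subalgebra of polynomials whose class in R lies in the image of S → R;
it is the fibre product S[x] ×_R S, the coordinate ring of the affine line over S with the degree-2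
subscheme Spec R collapsed onto Spec S. Then A is a free S-module and S[x] is a finitely generated
A-module. -/
theorem result (S : Type u) [CommRing S] (a b : S) :
    Module.Free S ((⊥ : Subalgebra S (S[X] ⧸ Ideal.span ({X ^ 2 + C a * X + C b} : Set S[X]))).comap
        (Ideal.Quotient.mkₐ S (Ideal.span ({X ^ 2 + C a * X + C b} : Set S[X])))) ∧
      Module.Finite ((⊥ : Subalgebra S (S[X] ⧸ Ideal.span ({X ^ 2 + C a * X + C b} : Set S[X]))).comap
        (Ideal.Quotient.mkₐ S (Ideal.span ({X ^ 2 + C a * X + C b} : Set S[X])))) S[X] := by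
  classical
  set f : S[X] := X ^ 2 + C a * X + C b with hf
  set I : Ideal S[X] := Ideal.span ({f} : Set S[X]) with hI
  set A : Subalgebra S S[X] := (⊥ : Subalgebra S (S[X] ⧸ I)).comap (Ideal.Quotient.mkₐ S I) with hA
  rcases subsingleton_or_nontrivial S with hS | hS
  · haveI : Subsingleton S[X] := inferInstance
    haveI : Subsingleton A := inferInstance
    exact ⟨Module.Free.of_subsingleton S A, inferInstance⟩
  have hlin : (C a * X + C b : S[X]).degree < ((2 : ℕ) : WithBot ℕ) :=
    lt_of_le_of_lt (degree_linear_le) (by exact_mod_cast (by norm_num : (1 : ℕ) < 2))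
  have hf' : f = X ^ 2 + (C a * X + C b) := by rw [hf, add_assoc]
  have hmonic : f.Monic := by rw [hf']; exact monic_X_pow_add hlin
  have hdeg : f.degree = 2 := by
    rw [hf', degree_add_eq_left_of_degree_lt (by rw [degree_X_pow]; exact hlin), degree_X_pow]; rfl
  have hmemA : ∀ q : S[X], q ∈ A ↔ ∃ s : S, ∃ g : S[X], q = C s + f * g := by
    intro q
    rw [hA, Subalgebra.mem_comap, Algebra.mem_bot]
    constructor
    · rintro ⟨s, hs⟩
      have h1 : Ideal.Quotient.mk I (C s) = Ideal.Quotient.mk I q := hs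
      rw [Ideal.Quotient.eq, hI, Ideal.mem_span_singleton] at h1
      obtain ⟨g, hg⟩ := h1
      refine ⟨s, -g, ?_⟩
      rw [mul_neg, ← hg]; ring
    · rintro ⟨s, g, rfl⟩
      refine ⟨s, ?_⟩
      change Ideal.Quotient.mk I (C s) = Ideal.Quotient.mk I (C s + f * g)
      rw [Ideal.Quotient.eq, hI, Ideal.mem_span_singleton]
      exact ⟨-g, by ring⟩
  refine ⟨?_, ?_⟩
  · let Φ₀ : S × S[X] →ₗ[S] S[X] := (Algebra.linearMap S S[X]).coprod (LinearMap.mulLeft S f)
    have hΦ₀ : ∀ z : S × S[X], Φ₀ z = C z.1 + f * z.2 := fun z => rfl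
    have hmem : ∀ z, Φ₀ z ∈ Subalgebra.toSubmodule A := by
      intro z
      rw [Subalgebra.mem_toSubmodule, hmemA]
      exact ⟨z.1, z.2, hΦ₀ z⟩
    let Φ : S × S[X] →ₗ[S] ↥(Subalgebra.toSubmodule A) := Φ₀.codRestrict _ hmem
    have hinj : Function.Injective Φ := by
      rw [injective_iff_map_eq_zero]
      intro z hz
      have hz0 : C z.1 + f * z.2 = 0 := by
        have := congrArg Subtype.val hz
        simpa [Φ, hΦ₀] using this
      have hlt : (C z.1 : S[X]).degree < f.degree := by
        rw [hdeg]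
        exact lt_of_le_of_lt degree_C_le (by norm_num)
      obtain ⟨h1, h2⟩ := div_modByMonic_unique z.2 (C z.1) hmonic ⟨hz0, hlt⟩
      rw [zero_divByMonic] at h1
      rw [zero_modByMonic] at h2
      have h3 : z.1 = 0 := C_injective (by rw [← h2, C_0])
      exact Prod.ext h3 h1.symm
    have hsurj : Function.Surjective Φ := by
      rintro ⟨q, hq⟩
      rw [Subalgebra.mem_toSubmodule, hmemA] at hq
      obtain ⟨s, g, rfl⟩ := hq
      exact ⟨(s, g), Subtype.ext (hΦ₀ (s, g))⟩
    let e : (S × S[X]) ≃ₗ[S] A :=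
      (LinearEquiv.ofBijective Φ ⟨hinj, hsurj⟩).trans (Subalgebra.toSubmoduleEquiv A)
    exact Module.Free.of_equiv e
  · refine ⟨⟨{1, X}, ?_⟩⟩
    rw [eq_top_iff]
    intro q _
    have hq : q = f * (q /ₘ f) + q %ₘ f := by
      rw [add_comm]; exact (modByMonic_add_div q f).symm
    have hr : (q %ₘ f).degree ≤ 1 := by
      have := degree_modByMonic_lt q hmonic
      rw [hdeg] at this
      have h2 : (q %ₘ f).degree < ((2 : ℕ) : WithBot ℕ) := by exact_mod_cast this
      rw [degree_lt_iff_coeff_zero] at h2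
      have h3 : (q %ₘ f).degree ≤ ((1 : ℕ) : WithBot ℕ) := by
        rw [degree_le_iff_coeff_zero]
        intro m hm
        exact h2 m (by exact_mod_cast hm)
      exact_mod_cast h3
    have hr' := eq_X_add_C_of_degree_le_one hr
    set c1 := (q %ₘ f).coeff 1
    set c0 := (q %ₘ f).coeff 0
    have ha1 : (C c0 + f * (q /ₘ f)) ∈ A := (hmemA _).mpr ⟨c0, q /ₘ f, rfl⟩
    have ha2 : (C c1 : S[X]) ∈ A := (hmemA _).mpr ⟨c1, 0, by simp⟩
    have : q = (⟨C c0 + f * (q /ₘ f), ha1⟩ : A) • (1 : S[X]) + (⟨C c1, ha2⟩ : A) • (X : S[X]) := by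
      rw [Subalgebra.smul_def, Subalgebra.smul_def]
      simp only [smul_eq_mul, mul_one]
      conv_lhs => rw [hq, hr']
      ring
    rw [this]
    refine Submodule.add_mem _ (Submodule.smul_mem _ _ (Submodule.subset_span (by simp)))
      (Submodule.smul_mem _ _ (Submodule.subset_span (by simp)))

end Groth.Agent.S19184
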