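import Groth.Statements.S19186
import Mathlib.Tactic

set_option autoImplicit false
universe u
open OneMot

namespace Groth.Agent.S19186

/-- Let p and ℓ be distinct prime numbers, r and n natural numbers, and f : A → B a homomorphism of
abelian groups whose kernel and cokernel are annihilated by p^r (f a = 0 implies p^r • a = 0, and
every p^r • b lies in the image of f). Then f induces a bijection between the ℓ^n-torsion subgroups
of A and B and a bijection A/ℓ^n A → B/ℓ^n B. Spelled out without quotients: every ℓ^n-torsion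
element of B has exactly one ℓ^n-torsion preimage; an element of A whose image is an ℓ^n-multiple is
itself an ℓ^n-multiple; and every element of B is the sum of an image and an ℓ^n-multiple. -/
theorem result {A B : Type u} [AddCommGroup A] [AddCommGroup B] (f : A →+ B) (p ℓ r n : ℕ) (hp : p.Prime) (hl : ℓ.Prime) (hne : ℓ ≠ p) (hker : ∀ a : A, f a = 0 → p ^ r • a = 0) (hcoker : ∀ b : B, ∃ a : A, f a = p ^ r • b) : (∀ b : B, ℓ ^ n • b = 0 → ∃! a : A, ℓ ^ n • a = 0 ∧ f a = b) ∧ (∀ a : A, (∃ b' : B, f a = ℓ ^ n • b') → ∃ a' : A, a = ℓ ^ n • a') ∧ (∀ b : B, ∃ (a : A) (b' : B), b = f a + ℓ ^ n • b') := by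
  have hcop : Nat.Coprime (p ^ r) (ℓ ^ n) :=
    Nat.Coprime.pow _ _ ((Nat.coprime_primes hp hl).mpr (Ne.symm hne))
  have hcop2 : Nat.Coprime ((p ^ r) ^ 2) (ℓ ^ n) := Nat.Coprime.pow_left 2 hcop
  obtain ⟨u, v, huv⟩ := (Nat.isCoprime_iff_coprime.mpr hcop)
  obtain ⟨u2, v2, huv2⟩ := (Nat.isCoprime_iff_coprime.mpr hcop2)
  set P : ℤ := ((p ^ r : ℕ) : ℤ) with hP
  set L : ℤ := ((ℓ ^ n : ℕ) : ℤ) with hL
  have hkerZ : ∀ a : A, f a = 0 → P • a = 0 := by
    intro a ha
    rw [hP, natCast_zsmul]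
    exact hker a ha
  have hcokerZ : ∀ b : B, ∃ a : A, f a = P • b := by
    intro b
    obtain ⟨a, ha⟩ := hcoker b
    exact ⟨a, by rw [ha, hP, natCast_zsmul]⟩
  have key1 : ∀ x : A, P • x = 0 → L • x = 0 → x = 0 := by
    intro x h1 h2
    have : x = (u * P + v * L) • x := by rw [huv, one_zsmul]
    rw [this, add_zsmul, mul_zsmul, mul_zsmul, h1, h2, zsmul_zero, zsmul_zero, add_zero]
  have hP2 : ((((p ^ r) ^ 2 : ℕ)) : ℤ) = P * P := by
    rw [hP]; push_cast; ring
  rw [hP2] at huv2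
  refine ⟨?_, ?_, ?_⟩
  · intro b hb
    have hbZ : L • b = 0 := by rw [hL, natCast_zsmul]; exact hb
    obtain ⟨a₀, ha₀⟩ := hcokerZ b
    have h0 : P • (L • a₀) = 0 := by
      apply hkerZ
      rw [map_zsmul, ha₀, smul_comm, hbZ, zsmul_zero]
    refine ⟨(u2 * P) • a₀, ⟨?_, ?_⟩, ?_⟩
    · rw [← natCast_zsmul, ← hL]
      rw [mul_zsmul, smul_comm L, smul_comm L, h0, zsmul_zero]
    · rw [map_zsmul, ha₀, ← mul_zsmul]
      have : u2 * P * P = 1 - v2 * L := by linear_combination huv2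
      rw [this, sub_zsmul, one_zsmul, mul_zsmul, hbZ, zsmul_zero]; simp
    · rintro a' ⟨ha'1, ha'2⟩
      have hd : a' - (u2 * P) • a₀ = 0 := by
        apply key1
        · apply hkerZ
          rw [map_sub, ha'2, map_zsmul, ha₀, ← mul_zsmul]
          have : u2 * P * P = 1 - v2 * L := by linear_combination huv2
          rw [this, sub_zsmul, one_zsmul, mul_zsmul, hbZ, zsmul_zero]; simp
        · rw [zsmul_sub, hL, natCast_zsmul, ha'1, ← hL, mul_zsmul, smul_comm L, smul_comm L, h0,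
            zsmul_zero, sub_zero]
      exact sub_eq_zero.mp hd
  · rintro a ⟨b', hb'⟩
    have hb'Z : f a = L • b' := by rw [hb', hL, natCast_zsmul]
    obtain ⟨a₁, ha₁⟩ := hcokerZ b'
    have h0 : P • (P • a - L • a₁) = 0 := by
      apply hkerZ
      rw [map_sub, map_zsmul, map_zsmul, hb'Z, ha₁, smul_comm, sub_self]
    refine ⟨(u2 * P) • a₁ + v2 • a, ?_⟩
    rw [← natCast_zsmul, ← hL]
    have h1 : P • P • a = P • L • a₁ := by
      rw [zsmul_sub] at h0
      exact sub_eq_zero.mp h0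
    have : a = (u2 * (P * P) + v2 * L) • a := by
      rw [show u2 * (P * P) + v2 * L = 1 by linear_combination huv2, one_zsmul]
    conv_lhs => rw [this]
    rw [add_zsmul, mul_zsmul, mul_zsmul, h1, zsmul_add, mul_zsmul, mul_zsmul]
    congr 1
    · rw [smul_comm L u2, smul_comm L P]
    · rw [smul_comm]
  · intro b
    obtain ⟨a₀, ha₀⟩ := hcokerZ b
    refine ⟨u • a₀, v • b, ?_⟩
    rw [map_zsmul, ha₀, ← natCast_zsmul, ← hL, ← mul_zsmul, smul_comm, ← mul_zsmul, ← add_zsmul,
      huv, one_zsmul]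

end Groth.Agent.S19186
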