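import Groth.Statements.S19187
import Mathlib.Tactic
import Mathlib.AlgebraicGeometry.Morphisms.Proper

set_option autoImplicit false
universe u
open Cpct

namespace Groth.Agent.S19187

open CategoryTheory AlgebraicGeometry in
/-- Let k be a field, X̄ and Ȳ schemes proper over Spec k, j : X → X̄ an open immersion with dense image
and v : Y → Ȳ an open immersion (compactifications of X and Y), f : X → Y a proper morphism and f̄ :
X̄ → Ȳ a morphism over Spec k with f̄ ∘ j = v ∘ f. Then the preimage under f̄ of the open v(Y) is
the open j(X); equivalently, the complement of X in X̄ is the preimage of the complement of Y in Ȳ.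
(The base field k is arbitrary: no perfectness assumption is needed.) -/
theorem result {k : Type u} [Field k] {X Y Xb Yb : Scheme.{u}} (a : Xb ⟶ Spec (CommRingCat.of k)) (b : Yb ⟶ Spec (CommRingCat.of k)) [IsProper a] [IsProper b] (j : X ⟶ Xb) [IsOpenImmersion j] (hj : Dense (Set.range j.base)) (v : Y ⟶ Yb) [IsOpenImmersion v] (f : X ⟶ Y) [IsProper f] (fb : Xb ⟶ Yb) (hfb : fb ≫ b = a) (hsq : j ≫ fb = f ≫ v) : fb ⁻¹ᵁ v.opensRange = j.opensRange := by
  haveI : IsProper (fb ≫ b) := by rw [hfb]; infer_instance
  haveI : IsProper fb := IsProper.of_comp fb b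
  apply le_antisymm
  · -- the hard inclusion
    set U : Xb.Opens := fb ⁻¹ᵁ v.opensRange with hU
    have hjU : Set.range j.base ⊆ Set.range U.ι.base := by
      rintro _ ⟨x, rfl⟩
      rw [Scheme.Opens.range_ι]
      change fb.base (j.base x) ∈ v.opensRange
      have : fb.base (j.base x) = v.base (f.base x) := by
        have := congrArg (fun g => g.base x) hsq
        simpa using this
      rw [this]
      exact ⟨f.base x, rfl⟩
    let j' : X ⟶ U := IsOpenImmersion.lift U.ι j hjU
    have hj' : j' ≫ U.ι = j := IsOpenImmersion.lift_fac _ _ _
    let g : (U : Scheme) ⟶ v.opensRange := fb ∣_ v.opensRange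
    have hcomp : j' ≫ g = f ≫ v.isoOpensRange.hom := by
      rw [← cancel_mono v.opensRange.ι]
      simp only [Category.assoc, g, morphismRestrict_ι, Scheme.Hom.isoOpensRange_hom_ι]
      rw [← Category.assoc, hj', hsq]
    haveI : IsProper (j' ≫ g) := by rw [hcomp]; infer_instance
    haveI : IsProper j' := IsProper.of_comp j' g
    have hclosed : IsClosed (Set.range j'.base) := j'.isClosedMap.isClosed_range
    have hdense : Dense (Set.range j'.base) := by
      have h1 : Set.range j'.base = U.ι.base ⁻¹' (Set.range j.base) := by
        ext y
        constructor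
        · rintro ⟨x, rfl⟩
          refine ⟨x, ?_⟩
          have := congrArg (fun g => g.base x) hj'
          simpa using this.symm
        · rintro ⟨x, hx⟩
          refine ⟨x, ?_⟩
          apply U.ι.isOpenEmbedding.injective
          have := congrArg (fun g => g.base x) hj'
          simp only [Scheme.Hom.comp_base, TopCat.hom_comp, ContinuousMap.comp_apply] at this
          rw [this, hx]
      rw [h1]
      exact hj.preimage U.ι.isOpenEmbedding.isOpenMap
    have huniv : Set.range j'.base = Set.univ := by
      rw [← hclosed.closure_eq]
      exact hdense.closure_eq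
    intro x hx
    have : (⟨x, hx⟩ : U) ∈ Set.range j'.base := by rw [huniv]; exact Set.mem_univ _
    obtain ⟨x', hx'⟩ := this
    refine ⟨x', ?_⟩
    have := congrArg (fun g => g.base x') hj'
    simp only [Scheme.Hom.comp_base, TopCat.hom_comp, ContinuousMap.comp_apply] at this
    rw [← this, hx']
    rfl
  · rintro _ ⟨x, rfl⟩
    change fb.base (j.base x) ∈ v.opensRange
    have : fb.base (j.base x) = v.base (f.base x) := by
      have := congrArg (fun g => g.base x) hsq
      simpa using this
    rw [this]
    exact ⟨f.base x, rfl⟩

end Groth.Agent.S19187
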