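import Groth.Statements.S19190
import Groth.Agent.H33.TorsionLoc

set_option autoImplicit false
universe w v u v' u'
open CategoryTheory CategoryTheory.Limits CategoryTheory.Pretriangulated CategoryTheory.Triangulated
open CohDer

namespace Groth.Agent.S19190

/-- Let `A` be a commutative ring, `S` a multiplicative subset of `A` and `T` an `A`-linear triangulated
category (octahedron axiom included; the shift functors are `A`-linear). Call an object of `T`
`S`-torsion when it lies in the smallest thick subcategory `U` of `T` (a property of objects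
containing zero, stable under shifts, extensions, isomorphisms and direct factors) containing every
cone of an endomorphism `f • 𝟙 X` with `f ∈ S`. Let `Q : T ⥤ E` exhibit `E` as the localization of
`T` at the morphisms whose cone lies in `U` (the Verdier quotient `T/U`), where `E` is preadditive
and `A`-linear and `Q` is `A`-linear. Then for all objects `X`, `Y` of `T` the `A`-linear map
`Hom_T(X, Y) → Hom_E(Q X, Q Y)` given by `Q` exhibits its target as the localization of `Hom_T(X,
Y)` at `S`. Since `Q` is essentially surjective, this says that the comparison functor from `T/U` to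
the category having the objects of `T` and morphism modules `Hom_T(X, Y) ⊗_A S⁻¹A` is an
equivalence. -/
theorem result
    {A : Type w} [CommRing A] (S : Submonoid A)
    {T : Type u} [Category.{v} T] [Preadditive T] [Linear A T] [HasZeroObject T] [HasShift T ℤ]
    [∀ n : ℤ, (shiftFunctor T n).Additive] [∀ n : ℤ, (shiftFunctor T n).Linear A]
    [Pretriangulated T] [IsTriangulated T]
    (U : ObjectProperty T) [U.IsTriangulated] [U.IsClosedUnderIsomorphisms] [U.IsStableUnderRetracts]
    (hU : ∀ (X : T) (f : A), f ∈ S → ∀ (Z : T) (g : X ⟶ Z) (h : Z ⟶ X⟦(1 : ℤ)⟧),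
      Triangle.mk (f • 𝟙 X) g h ∈ distTriang T → U Z)
    (hmin : ∀ (U' : ObjectProperty T) [U'.IsTriangulated] [U'.IsClosedUnderIsomorphisms]
      [U'.IsStableUnderRetracts],
      (∀ (X : T) (f : A), f ∈ S → ∀ (Z : T) (g : X ⟶ Z) (h : Z ⟶ X⟦(1 : ℤ)⟧),
        Triangle.mk (f • 𝟙 X) g h ∈ distTriang T → U' Z) → U ≤ U')
    {E : Type u'} [Category.{v'} E] [Preadditive E] [Linear A E]
    (Q : T ⥤ E) [Q.Additive] [Q.Linear A] [Q.IsLocalization U.trW] (X Y : T) :
    IsLocalizedModule S (Q.mapLinearMap A : (X ⟶ Y) →ₗ[A] (Q.obj X ⟶ Q.obj Y)) := by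
  have hUk : U ≤ Groth.Agent.H33.TorsionLoc.killed S :=
    hmin (Groth.Agent.H33.TorsionLoc.killed S)
      (fun X f hf Z g h hT => Groth.Agent.H33.TorsionLoc.killed_cone X f hf Z g h hT)
  -- multiplication by `s ∈ S` becomes invertible
  have hW : ∀ (Z : T) (s : A), s ∈ S → U.trW (s • 𝟙 Z) := fun Z s hs => by
    obtain ⟨C, g, h, hT⟩ := distinguished_cocone_triangle (s • 𝟙 Z)
    exact ⟨C, g, h, hT, hU Z s hs C g h hT⟩
  have hiso : ∀ (Z : T) (s : A), s ∈ S → IsIso (s • 𝟙 (Q.obj Z)) := fun Z s hs => by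
    have := Localization.inverts Q U.trW _ (hW Z s hs)
    rw [Functor.map_smul, CategoryTheory.Functor.map_id] at this
    exact this
  refine ⟨fun x => ?_, fun y => ?_, fun {x₁ x₂} hx => ?_⟩
  · -- units
    rw [Module.End.isUnit_iff]
    have := hiso Y x.1 x.2
    have hmul : ∀ y : Q.obj X ⟶ Q.obj Y,
        (algebraMap A (Module.End A (Q.obj X ⟶ Q.obj Y)) x) y = y ≫ ((x : A) • 𝟙 (Q.obj Y)) := by
      intro y
      rw [Linear.comp_smul, Category.comp_id]
      rfl
    constructor
    · intro y₁ y₂ h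
      rw [hmul, hmul] at h
      exact (cancel_mono _).1 h
    · intro y
      refine ⟨y ≫ inv ((x : A) • 𝟙 (Q.obj Y)), ?_⟩
      rw [hmul, Category.assoc, IsIso.inv_hom_id, Category.comp_id]
  · -- surjectivity up to denominators
    obtain ⟨ψ, hψ⟩ := Localization.exists_leftFraction Q U.trW y
    have : IsIso (Q.map ψ.s) := Localization.inverts Q U.trW _ ψ.hs
    have h1 : y ≫ Q.map ψ.s = Q.map ψ.f := by
      rw [hψ]; exact ψ.map_comp_map_s Q (Localization.inverts Q U.trW)
    obtain ⟨C, c, h, hT, hC⟩ := (ObjectProperty.trW_iff U ψ.s).1 ψ.hs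
    obtain ⟨s, hs, hsC⟩ := hUk C hC
    obtain ⟨r, hr⟩ := Groth.Agent.H33.TorsionLoc.exists_factor_left ψ.s c h hT s hsC
    refine ⟨(ψ.f ≫ r, ⟨s, hs⟩), ?_⟩
    show s • y = Q.map (ψ.f ≫ r)
    rw [← cancel_mono (Q.map ψ.s), Q.map_comp, Category.assoc, ← Q.map_comp r, ← hr,
      Functor.map_smul, CategoryTheory.Functor.map_id, Linear.comp_smul, Category.comp_id,
      Linear.smul_comp, h1]
  · -- injectivity up to denominators
    have hx' : Q.map x₁ = Q.map x₂ := hx
    obtain ⟨Y', t, ht, hxt⟩ := (MorphismProperty.map_eq_iff_postcomp Q U.trW x₁ x₂).1 hx'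
    obtain ⟨C, c, h, hT, hC⟩ := (ObjectProperty.trW_iff U t).1 ht
    obtain ⟨s, hs, hsC⟩ := hUk C hC
    obtain ⟨r, hr⟩ := Groth.Agent.H33.TorsionLoc.exists_factor_right t c h hT s hsC
    refine ⟨⟨s, hs⟩, ?_⟩
    show s • x₁ = s • x₂
    rw [← Groth.Agent.H33.TorsionLoc.comp_smul_id, ← Groth.Agent.H33.TorsionLoc.comp_smul_id s x₂,
      hr, reassoc_of% hxt]

end Groth.Agent.S19190
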