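import Groth.Statements.S19193
import Groth.Agent.H95.Cech

set_option autoImplicit false
universe u
open CategoryTheory Opposite TopologicalSpace
open CohTop

namespace Groth.Agent.S19193

open W4c6blochformula0cyc in
/-- Let `F` be a presheaf of abelian groups on a topological space `X`, `U` a family of opens of `X`
indexed by a finite type, and suppose given, for every open `V` and every index `α`, an additive map
`E V α : F(V ∩ U_α) → F(V)` such that for every nonempty tuple of indices `t`, with `V = U_{t_0} ∩ ⋯
∩ U_{t_m}`: (i) `∑_α E V α (f|_{V ∩ U_α}) = f` for all `f ∈ F(V)`, and (ii) `(E V α g)|_{V ∩ U_β} =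
E (V ∩ U_β) α (g|_{V ∩ U_β ∩ U_α})` for all indices `α, β` and all `g ∈ F(V ∩ U_α)`. Then the
operator `H` on ordered Čech cochains, `(H f)_t = ∑_α E (U_t) α (f_{(α, t)})`, satisfies `H (δ f) +
δ (H f) = f` for every Čech cochain `f` on tuples of length at least `2`, i.e. in every Čech degree
`≥ 1`. (The published statement takes a flasque sheaf on an open cover and extension maps attached
to pairs of finite intersections; this row takes any presheaf, any finite family of opens, and maps
that may depend on the index, none of which the printed argument needs. The published statement also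
asserts the identity in every degree of the Čech complex without augmentation term, and allows an
infinite index set with finitely supported sums; in Čech degree `0`, where that complex has no term
below and the identity reads `H (δ f) = f`, it fails in general — for the one-member cover of a
point and the constant presheaf `ℤ` with `E` the identity, `δ f` vanishes on the pair while `f` need
not — so it is stated here from degree `1` on, i.e. for cochains on tuples of length at least `2`
(the whole-space term on the empty tuple carried by the cochain groups used here plays no role), and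
for a finite index type.) -/
theorem result {X : Type u} [TopologicalSpace X]
    {ι : Type u} [Fintype ι] (F : (Opens X)ᵒᵖ ⥤ AddCommGrpCat.{u}) (U : ι → Opens X)
    (E : ∀ (V : Opens X) (α : ι), F.obj (op (V ⊓ U α)) →+ F.obj (op V))
    (h2 : ∀ (m : ℕ) (t : Fin (m + 1) → ι) (f : F.obj (op (cechOpen U t))),
      ∑ α, E (cechOpen U t) α (res F inf_le_left f) = f)
    (h3 : ∀ (m : ℕ) (t : Fin (m + 1) → ι) (α β : ι) (g : F.obj (op (cechOpen U t ⊓ U α))),
      res F inf_le_left (E (cechOpen U t) α g) =
        E (cechOpen U t ⊓ U β) α (res F (inf_le_inf_right (U α) inf_le_left) g))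
    (n : ℕ) (f : Cochain F U (n + 2)) :
    homotopy F U E (n + 2) (delta F U (n + 2) f) + delta F U (n + 1) (homotopy F U E (n + 1) f) = f := by
  classical
  -- transport lemma for E along an equality of opens
  have K : ∀ (m : ℕ) (t' : Fin (m + 1) → ι) (β : ι) (V : Opens X)
      (hV : V = cechOpen U t' ⊓ U β) (α : ι) (g : F.obj (op (cechOpen U t' ⊓ U α)))
      (hle1 : V ≤ cechOpen U t') (hle2 : V ⊓ U α ≤ cechOpen U t' ⊓ U α),
      res F hle1 (E (cechOpen U t') α g) = E V α (res F hle2 g) := by
    intro m t' β V hV α g hle1 hle2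
    subst hV
    exact h3 m t' α β g
  funext t
  -- unfold the two operators at t
  have hH : ∀ (g : Cochain F U (n + 3)), homotopy F U E (n + 2) g t =
      ∑ α, E (cechOpen U t) α (res F (inf_le_cechOpen_cons U t α) (g (Fin.cons α t))) := fun g => rfl
  have hD : ∀ (g : Cochain F U (n + 1)), delta F U (n + 1) g t =
      ∑ j : Fin (n + 2), ((-1 : ℤ) ^ (j : ℕ)) • res F (cechOpen_le_comp U t j) (g (t ∘ j.succAbove)) :=
    fun g => rfl
  have hle : ∀ (α : ι) (i : Fin (n + 2)),
      cechOpen U t ⊓ U α ≤ cechOpen U (Fin.cons α (t ∘ i.succAbove) : Fin (n + 2) → ι) := by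
    intro α i
    exact (inf_le_inf_right (U α) (cechOpen_le_comp U t i)).trans
      (inf_le_cechOpen_cons U (t ∘ i.succAbove) α)
  -- Step A
  have hA : ∀ α : ι, res F (inf_le_cechOpen_cons U t α) ((delta F U (n + 2) f) (Fin.cons α t)) =
      res F inf_le_left (f t) -
        ∑ i : Fin (n + 2), ((-1 : ℤ) ^ (i : ℕ)) • res F (hle α i) (f (Fin.cons α (t ∘ i.succAbove))) := by
    intro α
    have hd : (delta F U (n + 2) f) (Fin.cons α t) =
        ∑ j : Fin (n + 3), ((-1 : ℤ) ^ (j : ℕ)) •
          res F (cechOpen_le_comp U (Fin.cons α t) j) (f ((Fin.cons α t : Fin (n + 3) → ι) ∘ j.succAbove)) := rfl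
    rw [hd, map_sum, Fin.sum_univ_succ]
    have h0 : res F (inf_le_cechOpen_cons U t α) (((-1 : ℤ) ^ ((0 : Fin (n + 3)) : ℕ)) •
          res F (cechOpen_le_comp U (Fin.cons α t) 0) (f ((Fin.cons α t : Fin (n + 3) → ι) ∘ (0 : Fin (n + 3)).succAbove)))
        = res F inf_le_left (f t) := by
      simp only [Fin.val_zero, pow_zero, one_smul]
      rw [Groth.Agent.H95.res_res]
      exact Groth.Agent.H95.res_congr_tuple F U f (Groth.Agent.H95.cons_comp_succAbove_zero α t) _ _
    rw [h0, sub_eq_add_neg, ← Finset.sum_neg_distrib]
    congr 1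
    apply Finset.sum_congr rfl
    intro i _
    rw [map_zsmul, Groth.Agent.H95.res_res, Fin.val_succ, pow_succ, mul_neg_one, neg_smul]
    congr 2
    exact Groth.Agent.H95.res_congr_tuple F U f (Groth.Agent.H95.cons_comp_succAbove_succ α t i) _ _
  -- Step B
  have hB : ∀ i : Fin (n + 2), res F (cechOpen_le_comp U t i) ((homotopy F U E (n + 1) f) (t ∘ i.succAbove)) =
      ∑ α, E (cechOpen U t) α (res F (hle α i) (f (Fin.cons α (t ∘ i.succAbove)))) := by
    intro i
    have hh : (homotopy F U E (n + 1) f) (t ∘ i.succAbove) =
        ∑ α, E (cechOpen U (t ∘ i.succAbove)) α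
          (res F (inf_le_cechOpen_cons U (t ∘ i.succAbove) α) (f (Fin.cons α (t ∘ i.succAbove)))) := rfl
    rw [hh, map_sum]
    apply Finset.sum_congr rfl
    intro α _
    rw [K n (t ∘ i.succAbove) (t i) (cechOpen U t) (Groth.Agent.H95.cechOpen_eq_inf U t i) α _
      (cechOpen_le_comp U t i) (inf_le_inf_right (U α) (cechOpen_le_comp U t i)),
      Groth.Agent.H95.res_res]
  -- combine
  rw [Pi.add_apply, hH, hD]
  simp only [hA, hB, map_sub, map_sum, map_zsmul, Finset.sum_sub_distrib]
  rw [h2 (n + 1) t (f t), Finset.sum_comm]
  simp only [Finset.smul_sum]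
  abel

end Groth.Agent.S19193
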