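import Groth.Statements.S19196
import Mathlib.Tactic
import Mathlib.RingTheory.Ideal.MinimalPrime.Noetherian

set_option autoImplicit false
universe u
open RelS1

namespace Groth.Agent.S19196

/-- Let R be a Noetherian commutative ring and N a finitely generated R-module which fails Serre's
condition (S_1), in the sense that some associated prime of N is not a minimal prime of the
annihilator of N. Then there exist an element a of R lying in no minimal prime of the annihilator of
N and a nonzero element b of N with a • b = 0; thus the basic open set D(a) meets the support of N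
densely while restriction to it is not injective on N. -/
theorem result (R N : Type u) [CommRing R] [IsNoetherianRing R]
    [AddCommGroup N] [Module R N] [Module.Finite R N]
    (h : ¬ associatedPrimes R N ⊆ (Module.annihilator R N).minimalPrimes) :
    ∃ (a : R) (b : N), (∀ P ∈ (Module.annihilator R N).minimalPrimes, a ∉ P) ∧ b ≠ 0 ∧ a • b = 0 := by
  rw [Set.not_subset] at h
  obtain ⟨P, hPass, hPmin⟩ := h
  obtain ⟨hPprime, b, hPb⟩ := isAssociatedPrime_iff.mp hPass
  have hfin := Ideal.finite_minimalPrimes_of_isNoetherianRing R (Module.annihilator R N)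
  have hAnnP : Module.annihilator R N ≤ P := by
    intro r hr
    rw [hPb, Submodule.mem_colon_singleton, Submodule.mem_bot]
    exact Module.mem_annihilator.mp hr b
  have hnot : ¬ ((P : Set R) ⊆ ⋃ Q ∈ (hfin.toFinset : Set (Ideal R)), ((fun Q : Ideal R => Q) Q : Set R)) := by
    rw [Ideal.subset_union_prime (s := hfin.toFinset) (f := fun Q : Ideal R => Q) P P]
    · rintro ⟨Q, hQ, hPQ⟩
      rw [Set.Finite.mem_toFinset] at hQ
      have hQP : Q ≤ P := hQ.2 ⟨hPprime, hAnnP⟩ hPQ
      have : P = Q := le_antisymm hPQ hQP
      exact hPmin (this ▸ hQ)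
    · intro Q hQ _ _
      rw [Set.Finite.mem_toFinset] at hQ
      exact hQ.1.1
  rw [Set.not_subset] at hnot
  obtain ⟨a, haP, haQ⟩ := hnot
  refine ⟨a, b, ?_, ?_, ?_⟩
  · intro Q hQ haQ'
    apply haQ
    simp only [Set.mem_iUnion]
    exact ⟨Q, by simpa using hQ, haQ'⟩
  · rintro rfl
    apply hPprime.ne_top
    rw [hPb, Ideal.eq_top_iff_one, Submodule.mem_colon_singleton, smul_zero]
    exact Submodule.zero_mem _
  · have := haP
    rw [SetLike.mem_coe, hPb, Submodule.mem_colon_singleton, Submodule.mem_bot] at this
    exact this

end Groth.Agent.S19196
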