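import Groth.Statements.S19213
-- import your own Groth.Agent.* helpers here

set_option autoImplicit false
universe u v
open TensorProduct
open DiagIdeal

namespace Groth.Agent.S19213

section aux
variable {k : Type u} [Field k] {A : Type v} [CommRing A] [Algebra k A]

/-- restriction to the diagonal of factors 1,2 -/
noncomputable def R12 : A ⊗[k] (A ⊗[k] A) →ₐ[k] A ⊗[k] A :=
  Algebra.TensorProduct.lift (Algebra.TensorProduct.includeLeft) (AlgHom.id k _)
    (fun _ _ => Commute.all _ _)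

/-- restriction to the diagonal of factors 2,3 -/
noncomputable def R23 : A ⊗[k] (A ⊗[k] A) →ₐ[k] A ⊗[k] A :=
  Algebra.TensorProduct.lift (Algebra.TensorProduct.includeRight)
    ((Algebra.TensorProduct.includeLeft).comp (Algebra.TensorProduct.lmul' k))
    (fun _ _ => Commute.all _ _)

/-- swap of the last two factors -/
noncomputable def SW : A ⊗[k] (A ⊗[k] A) →ₐ[k] A ⊗[k] (A ⊗[k] A) :=
  Algebra.TensorProduct.map (AlgHom.id k A) (Algebra.TensorProduct.comm k A A).toAlgHom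

lemma R12_tmul (a : A) (y : A ⊗[k] A) : R12 (a ⊗ₜ[k] y) = (a ⊗ₜ[k] (1:A)) * y := by
  simp [R12]

lemma R23_tmul (a : A) (y : A ⊗[k] A) :
    R23 (a ⊗ₜ[k] y) = ((1:A) ⊗ₜ[k] a) * (Algebra.TensorProduct.lmul' k y ⊗ₜ[k] (1:A)) := by
  simp [R23]

lemma SW_tmul (a : A) (y : A ⊗[k] A) :
    SW (a ⊗ₜ[k] y) = a ⊗ₜ[k] (Algebra.TensorProduct.comm k A A y) := by
  simp [SW]

lemma swap_eq (x : A ⊗[k] (A ⊗[k] A)) :
    LinearMap.lTensor A (TensorProduct.comm k A A).toLinearMap x = SW x := by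
  induction x using TensorProduct.induction_on with
  | zero => simp
  | tmul a y =>
    rw [LinearMap.lTensor_tmul, SW_tmul]
    congr 1
  | add x y hx hy => rw [map_add, map_add, hx, hy]

lemma eq_R12 (r₁₂ : A ⊗[k] (A ⊗[k] A) →ₗ[k] A ⊗[k] A)
    (h₁₂ : ∀ a u v : A, r₁₂ (a ⊗ₜ[k] (u ⊗ₜ[k] v)) = (a * u) ⊗ₜ[k] v)
    (x : A ⊗[k] (A ⊗[k] A)) : r₁₂ x = R12 x := by
  induction x using TensorProduct.induction_on with
  | zero => simp
  | tmul a y =>
    induction y using TensorProduct.induction_on with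
    | zero => simp
    | tmul u v => rw [h₁₂, R12_tmul, Algebra.TensorProduct.tmul_mul_tmul, one_mul]
    | add y z hy hz => rw [TensorProduct.tmul_add, map_add, map_add, hy, hz]
  | add x y hx hy => rw [map_add, map_add, hx, hy]

lemma eq_R23 (r₂₃ : A ⊗[k] (A ⊗[k] A) →ₗ[k] A ⊗[k] A)
    (h₂₃ : ∀ a u v : A, r₂₃ (a ⊗ₜ[k] (u ⊗ₜ[k] v)) = (u * v) ⊗ₜ[k] a)
    (x : A ⊗[k] (A ⊗[k] A)) : r₂₃ x = R23 x := by
  induction x using TensorProduct.induction_on with
  | zero => simp
  | tmul a y =>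
    induction y using TensorProduct.induction_on with
    | zero => simp
    | tmul u v =>
      rw [h₂₃, R23_tmul, Algebra.TensorProduct.lmul'_apply_tmul,
        Algebra.TensorProduct.tmul_mul_tmul, one_mul, mul_one]
    | add y z hy hz => rw [TensorProduct.tmul_add, map_add, map_add, hy, hz]
  | add x y hx hy => rw [map_add, map_add, hx, hy]

lemma exists_sym_lift (c : A ⊗[k] A) :
    ∃ y : A ⊗[k] (A ⊗[k] A), SW y = y ∧ R12 y = c := by
  induction c using TensorProduct.induction_on with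
  | zero => exact ⟨0, map_zero _, map_zero _⟩
  | tmul a b =>
    refine ⟨a ⊗ₜ[k] (b ⊗ₜ[k] (1:A) + (1:A) ⊗ₜ[k] b) - (a * b) ⊗ₜ[k] ((1:A) ⊗ₜ[k] (1:A)), ?_, ?_⟩
    · rw [map_sub, SW_tmul, SW_tmul, map_add, Algebra.TensorProduct.comm_tmul,
        Algebra.TensorProduct.comm_tmul, Algebra.TensorProduct.comm_tmul, add_comm]
    · rw [map_sub, R12_tmul, R12_tmul, mul_add, Algebra.TensorProduct.tmul_mul_tmul,
        Algebra.TensorProduct.tmul_mul_tmul, Algebra.TensorProduct.tmul_mul_tmul]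
      simp
  | add c d hc hd =>
    obtain ⟨y, hy, rfl⟩ := hc
    obtain ⟨z, hz, rfl⟩ := hd
    exact ⟨y + z, by rw [map_add, hy, hz], map_add _ _ _⟩

/-- The ideal of restrictions to the diagonal `12` of symmetric functions vanishing on the
diagonal `23`. -/
noncomputable def Tid (k : Type u) [Field k] (A : Type v) [CommRing A] [Algebra k A] :
    Ideal (A ⊗[k] A) where
  carrier := {p | ∃ x : A ⊗[k] (A ⊗[k] A), SW x = x ∧ R12 x = p ∧ R23 x = 0}
  add_mem' := by
    rintro _ _ ⟨x, hx, rfl, hx0⟩ ⟨y, hy, rfl, hy0⟩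
    exact ⟨x + y, by rw [map_add, hx, hy], map_add _ _ _, by rw [map_add, hx0, hy0, add_zero]⟩
  zero_mem' := ⟨0, map_zero _, map_zero _, map_zero _⟩
  smul_mem' := by
    rintro c _ ⟨x, hx, rfl, hx0⟩
    obtain ⟨y, hy, rfl⟩ := exists_sym_lift (k := k) c
    exact ⟨y * x, by rw [map_mul, hx, hy], by rw [map_mul, smul_eq_mul],
      by rw [map_mul, hx0, mul_zero]⟩

lemma ideal_sq_le_Tid : (KaehlerDifferential.ideal k A) ^ 2 ≤ Tid k A := by
  rw [pow_two, ← KaehlerDifferential.span_range_eq_ideal, Ideal.span_mul_span', Ideal.span_le]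
  rintro _ ⟨_, ⟨u, rfl⟩, _, ⟨v, rfl⟩, rfl⟩
  refine ⟨(1:A) ⊗ₜ[k] (((1:A) ⊗ₜ[k] u - u ⊗ₜ[k] (1:A)) * ((1:A) ⊗ₜ[k] v - v ⊗ₜ[k] (1:A))),
    ?_, ?_, ?_⟩
  · rw [SW_tmul, map_mul, map_sub, map_sub, Algebra.TensorProduct.comm_tmul,
      Algebra.TensorProduct.comm_tmul, Algebra.TensorProduct.comm_tmul,
      Algebra.TensorProduct.comm_tmul]
    congr 1
    ring
  · rw [R12_tmul, ← Algebra.TensorProduct.one_def, one_mul]
  · rw [R23_tmul, map_mul, map_sub, Algebra.TensorProduct.lmul'_apply_tmul,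
      Algebra.TensorProduct.lmul'_apply_tmul]
    simp

lemma exists_sym_lift23 [CharZero k] (q : A ⊗[k] A) :
    ∃ y : A ⊗[k] (A ⊗[k] A), SW y = y ∧ R23 y = q := by
  have h2 : (2 : k) ≠ 0 := two_ne_zero
  induction q using TensorProduct.induction_on with
  | zero => exact ⟨0, map_zero _, map_zero _⟩
  | tmul b v =>
    refine ⟨(2⁻¹ : k) • (v ⊗ₜ[k] (b ⊗ₜ[k] (1:A) + (1:A) ⊗ₜ[k] b)), ?_, ?_⟩
    · rw [map_smul, SW_tmul, map_add, Algebra.TensorProduct.comm_tmul,
        Algebra.TensorProduct.comm_tmul, add_comm]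
    · rw [map_smul, R23_tmul, map_add, Algebra.TensorProduct.lmul'_apply_tmul,
        Algebra.TensorProduct.lmul'_apply_tmul, Algebra.TensorProduct.tmul_mul_tmul,
        one_mul, mul_one, one_mul, mul_one, TensorProduct.add_tmul, ← two_smul k, smul_smul,
        inv_mul_cancel₀ h2, one_smul]
  | add c d hc hd =>
    obtain ⟨y, hy, rfl⟩ := hc
    obtain ⟨z, hz, rfl⟩ := hd
    exact ⟨y + z, by rw [map_add, hy, hz], map_add _ _ _⟩

lemma lmul'_R12 (x : A ⊗[k] (A ⊗[k] A)) :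
    Algebra.TensorProduct.lmul' k (R12 x) = Algebra.TensorProduct.lmul' k (R23 x) := by
  induction x using TensorProduct.induction_on with
  | zero => simp
  | tmul a y =>
    rw [R12_tmul, R23_tmul, map_mul, map_mul, Algebra.TensorProduct.lmul'_apply_tmul,
      Algebra.TensorProduct.lmul'_apply_tmul, Algebra.TensorProduct.lmul'_apply_tmul]
    ring
  | add x y hx hy => rw [map_add, map_add, map_add, map_add, hx, hy]

end aux

theorem result' (k : Type u) [Field k] [CharZero k]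
    (A : Type v) [CommRing A] [Algebra k A]
    (r₁₂ r₂₃ : A ⊗[k] (A ⊗[k] A) →ₗ[k] A ⊗[k] A)
    (h₁₂ : ∀ a u v : A, r₁₂ (a ⊗ₜ[k] (u ⊗ₜ[k] v)) = (a * u) ⊗ₜ[k] v)
    (h₂₃ : ∀ a u v : A, r₂₃ (a ⊗ₜ[k] (u ⊗ₜ[k] v)) = (u * v) ⊗ₜ[k] a)
    (ψ : (A ⊗[k] A) × (A ⊗[k] A) →ₗ[k] Ω[A⁄k])
    (hψ : ∀ a u b v : A, ψ (a ⊗ₜ[k] u, b ⊗ₜ[k] v) =
      (2 : A) • (a • KaehlerDifferential.D k A u) - v • KaehlerDifferential.D k A b) :
    (∀ p q : A ⊗[k] A, LinearMap.mul' k A p = LinearMap.mul' k A q →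
      (ψ (p, q) = 0 ↔ ∃ x : A ⊗[k] (A ⊗[k] A),
        LinearMap.lTensor A (TensorProduct.comm k A A).toLinearMap x = x ∧ r₁₂ x = p ∧ r₂₃ x = q)) ∧
    (∀ ω : Ω[A⁄k], ∃ p q : A ⊗[k] A, LinearMap.mul' k A p = LinearMap.mul' k A q ∧ ψ (p, q) = ω) := by
  classical
  have e12 := eq_R12 r₁₂ h₁₂
  have e23 := eq_R23 r₂₃ h₂₃
  have h2 : (2 : k) ≠ 0 := two_ne_zero
  have hmul : ∀ p : A ⊗[k] A, LinearMap.mul' k A p = Algebra.TensorProduct.lmul' k p := by
    intro p; rw [← Algebra.TensorProduct.lmul'_toLinearMap]; rfl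
  -- `ψ` on the first component
  have hψ1 : ∀ p : A ⊗[k] A,
      ψ (p, 0) = (2:A) • (KaehlerDifferential.D k A).tensorProductTo p := by
    intro p
    have : ∀ p : A ⊗[k] A, (ψ ∘ₗ LinearMap.inl k _ _) p =
        (2:A) • (KaehlerDifferential.D k A).tensorProductTo p := by
      intro p
      induction p using TensorProduct.induction_on with
      | zero => rw [map_zero, map_zero, smul_zero]
      | tmul a u =>
        have := hψ a u 0 0
        rw [TensorProduct.zero_tmul] at this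
        rw [LinearMap.comp_apply, LinearMap.inl_apply, this, Derivation.tensorProductTo_tmul]
        simp
      | add p q hp hq => rw [map_add, hp, hq, map_add, smul_add]
    exact this p
  -- the composite `x ↦ ψ (r₁₂ x, r₂₃ x)` kills symmetrised tensors
  have hΘ : ∀ x : A ⊗[k] (A ⊗[k] A),
      (ψ ∘ₗ (r₁₂.prod r₂₃) + (ψ ∘ₗ (r₁₂.prod r₂₃)) ∘ₗ (SW (k := k) (A := A)).toLinearMap) x
        = 0 := by
    intro x
    induction x using TensorProduct.induction_on with
    | zero => rw [map_zero]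
    | tmul a y =>
      induction y using TensorProduct.induction_on with
      | zero => rw [TensorProduct.tmul_zero, map_zero]
      | tmul u v =>
        simp only [LinearMap.add_apply, LinearMap.comp_apply, AlgHom.toLinearMap_apply,
          LinearMap.prod_apply, Function.prod_apply]
        rw [SW_tmul, Algebra.TensorProduct.comm_tmul, h₁₂, h₂₃, h₁₂, h₂₃, hψ, hψ,
          Derivation.leibniz, Derivation.leibniz]
        module
      | add y z hy hz => rw [TensorProduct.tmul_add, map_add, hy, hz, add_zero]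
    | add x y hx hy => rw [map_add, hx, hy, add_zero]
  have hsym : ∀ x : A ⊗[k] (A ⊗[k] A), SW x = x → ψ (r₁₂ x, r₂₃ x) = 0 := by
    intro x hx
    have h := hΘ x
    simp only [LinearMap.add_apply, LinearMap.comp_apply, AlgHom.toLinearMap_apply,
      LinearMap.prod_apply, Function.prod_apply, hx] at h
    rw [← two_smul k] at h
    exact (smul_eq_zero.mp h).resolve_left h2
  refine ⟨fun p q hpq => ⟨fun h0 => ?_, ?_⟩, fun ω => ?_⟩
  · obtain ⟨x₁, hx₁, hq⟩ := exists_sym_lift23 (k := k) q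
    have hp' : p - R12 x₁ ∈ KaehlerDifferential.ideal k A := by
      change Algebra.TensorProduct.lmul' k (p - R12 x₁) = 0
      rw [map_sub, lmul'_R12, hq, ← hmul, ← hmul, hpq, sub_self]
    have h1 : ψ (p - R12 x₁, 0) = 0 := by
      have : ((p - R12 x₁, 0) : (A ⊗[k] A) × (A ⊗[k] A)) = (p, q) - (r₁₂ x₁, r₂₃ x₁) := by
        rw [e12, e23, hq]; simp
      rw [this, map_sub, h0, hsym x₁ hx₁, sub_zero]
    have h3 : (KaehlerDifferential.D k A).tensorProductTo (p - R12 x₁) = 0 := by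
      rw [hψ1, ofNat_smul_eq_nsmul, ← Nat.cast_smul_eq_nsmul k] at h1
      exact (smul_eq_zero.mp h1).resolve_left (by exact_mod_cast h2)
    have h4 : p - R12 x₁ ∈ (KaehlerDifferential.ideal k A) ^ 2 := by
      rw [← Ideal.toCotangent_eq_zero _ ⟨_, hp'⟩, ← KaehlerDifferential.D_tensorProductTo]
      exact h3
    obtain ⟨x₂, hx₂, h12, h23⟩ := ideal_sq_le_Tid h4
    refine ⟨x₁ + x₂, ?_, ?_, ?_⟩
    · rw [swap_eq, map_add, hx₁, hx₂]
    · rw [e12, map_add, h12]; abel
    · rw [e23, map_add, h23, hq, add_zero]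
  · rintro ⟨x, hx, rfl, rfl⟩
    exact hsym x (by rw [← swap_eq, hx])
  · obtain ⟨⟨p, hp⟩, rfl⟩ := (KaehlerDifferential.ideal k A).toCotangent_surjective ω
    refine ⟨(2⁻¹ : k) • p, 0, ?_, ?_⟩
    · rw [map_smul, map_zero, hmul]
      have : Algebra.TensorProduct.lmul' k p = 0 := hp
      rw [this, smul_zero]
    · have : (((2⁻¹ : k) • p, 0) : (A ⊗[k] A) × (A ⊗[k] A)) = (2⁻¹ : k) • (p, 0) := by simp
      rw [this, map_smul, hψ1, ← KaehlerDifferential.D_tensorProductTo ⟨p, hp⟩,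
        ofNat_smul_eq_nsmul, ← Nat.cast_smul_eq_nsmul k, smul_smul]
      simp


/-- Let k be an algebraically closed field of characteristic zero and A a smooth k-algebra which is a
domain. Let r₁₂, r₂₃ : A ⊗ (A ⊗ A) → A ⊗ A be the k-linear maps a ⊗ u ⊗ v ↦ au ⊗ v and a ⊗ u ⊗ v ↦
uv ⊗ a (restriction to the diagonal of factors 1, 2, resp. 2, 3, the repeated coordinate written
first), let m : A ⊗ A → A be multiplication, and let ψ : (A ⊗ A) × (A ⊗ A) → Ω_{A/k} be the k-linear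
map with ψ(a ⊗ u, b ⊗ v) = 2a·du − v·db. Then for p, q in A ⊗ A with m p = m q one has ψ(p, q) = 0
if and only if (p, q) = (r₁₂ x, r₂₃ x) for some x fixed by the swap of the last two tensor factors;
and every element of Ω_{A/k} is ψ(p, q) for some pair with m p = m q. (This is exactness at the last
two places of the right resolution, on the symmetric cube of X = Spec A, of the invariants of the
ideal of the big diagonal under the transposition of the last two factors; exactness at the first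
two places is immediate. The published statement is the sheaf version for a smooth complex variety
of any dimension; an algebraically closed field of characteristic zero is used here.) -/
theorem result (k : Type u) [Field k] [IsAlgClosed k] [CharZero k]
    (A : Type v) [CommRing A] [Algebra k A] [Algebra.Smooth k A] [IsDomain A]
    (r₁₂ r₂₃ : A ⊗[k] (A ⊗[k] A) →ₗ[k] A ⊗[k] A)
    (h₁₂ : ∀ a u v : A, r₁₂ (a ⊗ₜ[k] (u ⊗ₜ[k] v)) = (a * u) ⊗ₜ[k] v)
    (h₂₃ : ∀ a u v : A, r₂₃ (a ⊗ₜ[k] (u ⊗ₜ[k] v)) = (u * v) ⊗ₜ[k] a)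
    (ψ : (A ⊗[k] A) × (A ⊗[k] A) →ₗ[k] Ω[A⁄k])
    (hψ : ∀ a u b v : A, ψ (a ⊗ₜ[k] u, b ⊗ₜ[k] v) =
      (2 : A) • (a • KaehlerDifferential.D k A u) - v • KaehlerDifferential.D k A b) :
    (∀ p q : A ⊗[k] A, LinearMap.mul' k A p = LinearMap.mul' k A q →
      (ψ (p, q) = 0 ↔ ∃ x : A ⊗[k] (A ⊗[k] A),
        LinearMap.lTensor A (TensorProduct.comm k A A).toLinearMap x = x ∧ r₁₂ x = p ∧ r₂₃ x = q)) ∧
    (∀ ω : Ω[A⁄k], ∃ p q : A ⊗[k] A, LinearMap.mul' k A p = LinearMap.mul' k A q ∧ ψ (p, q) = ω) := by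
  exact result' k A r₁₂ r₂₃ h₁₂ h₂₃ ψ hψ

end Groth.Agent.S19213
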