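import Groth.Statements.S19212
import Groth.Agent.S19213

set_option autoImplicit false
universe u v
open TensorProduct
open DiagIdeal

namespace Groth.Agent.S19212

open Groth.Agent.S19213 (R12 SW R12_tmul SW_tmul swap_eq eq_R12)

section aux
variable {k : Type u} [Field k] {A : Type v} [CommRing A] [Algebra k A]

/-- swap of the first two factors -/
noncomputable def T12 : A ⊗[k] (A ⊗[k] A) →ₐ[k] A ⊗[k] (A ⊗[k] A) :=
  (Algebra.TensorProduct.leftComm k A A A).toAlgHom

lemma T12_tmul (a b c : A) : T12 (a ⊗ₜ[k] (b ⊗ₜ[k] c)) = b ⊗ₜ[k] (a ⊗ₜ[k] c) := rfl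

lemma leftComm_eq (x : A ⊗[k] (A ⊗[k] A)) : TensorProduct.leftComm k A A A x = T12 x := by
  rw [← Algebra.TensorProduct.leftComm_toLinearEquiv]; rfl

lemma SW_tmul3 (a b c : A) : SW (a ⊗ₜ[k] (b ⊗ₜ[k] c)) = a ⊗ₜ[k] (c ⊗ₜ[k] b) := by
  rw [SW_tmul, Algebra.TensorProduct.comm_tmul]

lemma R12_tmul3 (a b c : A) : R12 (a ⊗ₜ[k] (b ⊗ₜ[k] c)) = (a * b) ⊗ₜ[k] c := by
  rw [R12_tmul, Algebra.TensorProduct.tmul_mul_tmul, one_mul]

/-- symmetrisation of a pure tensor -/
noncomputable def Sym3 (a b c : A) : A ⊗[k] (A ⊗[k] A) :=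
  a ⊗ₜ[k] (b ⊗ₜ[k] c) + a ⊗ₜ[k] (c ⊗ₜ[k] b) + b ⊗ₜ[k] (a ⊗ₜ[k] c) + b ⊗ₜ[k] (c ⊗ₜ[k] a)
    + c ⊗ₜ[k] (a ⊗ₜ[k] b) + c ⊗ₜ[k] (b ⊗ₜ[k] a)

lemma T12_Sym3 (a b c : A) : T12 (Sym3 (k := k) a b c) = Sym3 a b c := by
  simp only [Sym3, map_add, T12_tmul]; abel

lemma SW_Sym3 (a b c : A) : SW (Sym3 (k := k) a b c) = Sym3 a b c := by
  simp only [Sym3, map_add, SW_tmul3]; abel

lemma R12_Sym3 (a b c : A) : R12 (Sym3 (k := k) a b c) =
    (2:k) • ((a * b) ⊗ₜ[k] c + (a * c) ⊗ₜ[k] b + (b * c) ⊗ₜ[k] a) := by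
  simp only [Sym3, map_add, R12_tmul3, mul_comm b a, mul_comm c a, mul_comm c b, two_smul]; abel

/-- restrictions to the diagonal `12` of fully symmetric tensors -/
noncomputable def Bsub (k : Type u) [Field k] (A : Type v) [CommRing A] [Algebra k A] :
    Subalgebra k (A ⊗[k] A) :=
  ((AlgHom.equalizer (T12 (k := k) (A := A)) (AlgHom.id k _)) ⊓
    (AlgHom.equalizer (SW (k := k) (A := A)) (AlgHom.id k _))).map R12

lemma mem_Bsub {y : A ⊗[k] A} :
    y ∈ Bsub k A ↔ ∃ x : A ⊗[k] (A ⊗[k] A), T12 x = x ∧ SW x = x ∧ R12 x = y := by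
  simp only [Bsub, Subalgebra.mem_map, Algebra.mem_inf, AlgHom.mem_equalizer, AlgHom.id_apply,
    and_assoc]

lemma R12_Sym3_mem (a b c : A) : R12 (Sym3 (k := k) a b c) ∈ Bsub k A :=
  mem_Bsub.mpr ⟨_, T12_Sym3 a b c, SW_Sym3 a b c, rfl⟩

lemma left_mul_gg_mem [CharZero k] (c u v : A) :
    (c ⊗ₜ[k] (1:A)) * (((1:A) ⊗ₜ[k] u - u ⊗ₜ[k] (1:A)) * ((1:A) ⊗ₜ[k] v - v ⊗ₜ[k] (1:A)))
      ∈ Bsub k A := by
  have h2 : (2:k) ≠ 0 := two_ne_zero
  have key : (c ⊗ₜ[k] (1:A)) *
      (((1:A) ⊗ₜ[k] u - u ⊗ₜ[k] (1:A)) * ((1:A) ⊗ₜ[k] v - v ⊗ₜ[k] (1:A)))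
      = (2⁻¹:k) • (R12 (Sym3 (k := k) c 1 (u * v)) - R12 (Sym3 (k := k) c u v)) := by
    rw [R12_Sym3, R12_Sym3, ← smul_sub, smul_smul, inv_mul_cancel₀ h2, one_smul]
    simp only [mul_sub, sub_mul, Algebra.TensorProduct.tmul_mul_tmul, mul_one, one_mul]
    abel
  rw [key]
  exact Subalgebra.smul_mem _ (Subalgebra.sub_mem _ (R12_Sym3_mem _ _ _) (R12_Sym3_mem _ _ _)) _

lemma beta_mem [CharZero k] (b : A) :
    (2:k) • (b ⊗ₜ[k] (1:A)) + (1:A) ⊗ₜ[k] b ∈ Bsub k A := by
  have h2 : (2:k) ≠ 0 := two_ne_zero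
  have key : (2:k) • (b ⊗ₜ[k] (1:A)) + (1:A) ⊗ₜ[k] b
      = (2⁻¹:k) • R12 (Sym3 (k := k) b 1 1) := by
    rw [R12_Sym3, smul_smul, inv_mul_cancel₀ h2, one_smul, mul_one, one_mul, two_smul]
  rw [key]
  exact Subalgebra.smul_mem _ (R12_Sym3_mem _ _ _) _

lemma mul_gg_mem [CharZero k] (c : A ⊗[k] A) (u v : A) :
    c * (((1:A) ⊗ₜ[k] u - u ⊗ₜ[k] (1:A)) * ((1:A) ⊗ₜ[k] v - v ⊗ₜ[k] (1:A))) ∈ Bsub k A := by
  induction c using TensorProduct.induction_on with
  | zero => rw [zero_mul]; exact zero_mem _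
  | tmul a b =>
    have key : a ⊗ₜ[k] b = ((2:k) • (b ⊗ₜ[k] (1:A)) + (1:A) ⊗ₜ[k] b) * (a ⊗ₜ[k] (1:A))
        - (2:k) • ((a * b) ⊗ₜ[k] (1:A)) := by
      rw [add_mul, smul_mul_assoc, Algebra.TensorProduct.tmul_mul_tmul,
        Algebra.TensorProduct.tmul_mul_tmul, mul_one, one_mul, mul_one, mul_comm b a]
      abel
    rw [key, sub_mul, mul_assoc, smul_mul_assoc]
    exact Subalgebra.sub_mem _ (Subalgebra.mul_mem _ (beta_mem b) (left_mul_gg_mem a u v))
      (Subalgebra.smul_mem _ (left_mul_gg_mem (a * b) u v) _)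
  | add c d hc hd => rw [add_mul]; exact add_mem hc hd

lemma ideal_sq_le_Bsub [CharZero k] {p : A ⊗[k] A}
    (hp : p ∈ (KaehlerDifferential.ideal k A) ^ 2) : p ∈ Bsub k A := by
  rw [pow_two, ← KaehlerDifferential.span_range_eq_ideal, Ideal.span_mul_span'] at hp
  have : ∀ c : A ⊗[k] A, c * p ∈ Bsub k A := by
    induction hp using Submodule.span_induction with
    | mem x hx =>
      obtain ⟨_, ⟨u, rfl⟩, _, ⟨v, rfl⟩, rfl⟩ := hx
      intro c
      exact mul_gg_mem c u v
    | zero => intro c; rw [mul_zero]; exact zero_mem _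
    | add x y _ _ hx hy => intro c; rw [mul_add]; exact add_mem (hx c) (hy c)
    | smul d x _ hx => intro c; rw [smul_eq_mul, ← mul_assoc]; exact hx _
  simpa using this 1

end aux

theorem result' (k : Type u) [Field k] [CharZero k]
    (A : Type v) [CommRing A] [Algebra k A]
    (r : A ⊗[k] (A ⊗[k] A) →ₗ[k] A ⊗[k] A)
    (hr : ∀ a b c : A, r (a ⊗ₜ[k] (b ⊗ₜ[k] c)) = (a * b) ⊗ₜ[k] c)
    (D : A ⊗[k] A →ₗ[k] Ω[A⁄k])
    (hD : ∀ a b : A, D (a ⊗ₜ[k] b) =
      (2 : A) • (a • KaehlerDifferential.D k A b) - b • KaehlerDifferential.D k A a) :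
    (∀ y : A ⊗[k] A, D y = 0 ↔ ∃ x : A ⊗[k] (A ⊗[k] A),
        TensorProduct.leftComm k A A A x = x ∧
        LinearMap.lTensor A (TensorProduct.comm k A A).toLinearMap x = x ∧ r x = y) ∧
    Function.Surjective D := by
  classical
  have er := eq_R12 r hr
  have h3 : (3:k) ≠ 0 := by norm_num
  have h6 : (6:k) ≠ 0 := by norm_num
  have h3' : ∀ ω : Ω[A⁄k], (3:A) • ω = (3:k) • ω := by
    intro ω
    rw [← algebraMap_smul A (3:k) ω, map_ofNat]
  -- `D` in terms of the universal derivation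
  have hC : ∀ p : A ⊗[k] A, D p = (3:A) • (KaehlerDifferential.D k A).tensorProductTo p
      - KaehlerDifferential.D k A (Algebra.TensorProduct.lmul' k p) := by
    intro p
    induction p using TensorProduct.induction_on with
    | zero => simp
    | tmul a b =>
      rw [hD, Derivation.tensorProductTo_tmul, Algebra.TensorProduct.lmul'_apply_tmul,
        Derivation.leibniz]
      module
    | add p q hp hq => rw [map_add, hp, hq, map_add, map_add, map_add, smul_add]; abel
  -- `D` kills restrictions of symmetrised pure tensors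
  have hA : ∀ a b c : A, D (R12 (Sym3 (k := k) a b c)) = 0 := by
    intro a b c
    rw [R12_Sym3, map_smul, map_add, map_add, hD, hD, hD, Derivation.leibniz, Derivation.leibniz,
      Derivation.leibniz, smul_eq_zero]
    right
    module
  -- hence restrictions of all symmetric tensors
  have hB : ∀ x : A ⊗[k] (A ⊗[k] A), T12 x = x → SW x = x → D (R12 x) = 0 := by
    intro x hx1 hx2
    let NL : A ⊗[k] (A ⊗[k] A) →ₗ[k] A ⊗[k] (A ⊗[k] A) :=
      LinearMap.id + (SW (k := k) (A := A)).toLinearMap + (T12 (k := k) (A := A)).toLinearMap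
        + (T12 (k := k) (A := A)).toLinearMap ∘ₗ (SW (k := k) (A := A)).toLinearMap
        + (SW (k := k) (A := A)).toLinearMap ∘ₗ (T12 (k := k) (A := A)).toLinearMap
        + (T12 (k := k) (A := A)).toLinearMap ∘ₗ (SW (k := k) (A := A)).toLinearMap ∘ₗ
            (T12 (k := k) (A := A)).toLinearMap
    have hf : ∀ x : A ⊗[k] (A ⊗[k] A),
        (D ∘ₗ (R12 (k := k) (A := A)).toLinearMap ∘ₗ NL) x = 0 := by
      intro x
      induction x using TensorProduct.induction_on with
      | zero => rw [map_zero]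
      | tmul a y =>
        induction y using TensorProduct.induction_on with
        | zero => rw [TensorProduct.tmul_zero, map_zero]
        | tmul b c =>
          have : NL (a ⊗ₜ[k] (b ⊗ₜ[k] c)) = Sym3 a b c := by
            simp only [NL, LinearMap.add_apply, LinearMap.comp_apply, LinearMap.id_apply,
              AlgHom.toLinearMap_apply, T12_tmul, SW_tmul3, Sym3]
            abel
          rw [LinearMap.comp_apply, LinearMap.comp_apply, this, AlgHom.toLinearMap_apply, hA]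
        | add y z hy hz => rw [TensorProduct.tmul_add, map_add, hy, hz, add_zero]
      | add x y hx hy => rw [map_add, hx, hy, add_zero]
    have h := hf x
    have hN : NL x = (6:k) • x := by
      simp only [NL, LinearMap.add_apply, LinearMap.comp_apply, LinearMap.id_apply,
        AlgHom.toLinearMap_apply, hx1, hx2]
      module
    rw [LinearMap.comp_apply, LinearMap.comp_apply, hN, map_smul, map_smul] at h
    exact (smul_eq_zero.mp h).resolve_left h6
  refine ⟨fun y => ⟨fun h0 => ?_, ?_⟩, fun ω => ?_⟩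
  · set c : A := Algebra.TensorProduct.lmul' k y with hc
    have hmS : Algebra.TensorProduct.lmul' k (R12 (Sym3 (k := k) c 1 1)) = (6:k) • c := by
      rw [R12_Sym3, map_smul, map_add, map_add]
      simp only [Algebra.TensorProduct.lmul'_apply_tmul, mul_one, one_mul]
      module
    set y' : A ⊗[k] A := y - (6⁻¹:k) • R12 (Sym3 (k := k) c 1 1) with hy'
    have hm : Algebra.TensorProduct.lmul' k y' = 0 := by
      rw [hy', map_sub, map_smul, hmS, smul_smul, inv_mul_cancel₀ h6, one_smul, sub_self]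
    have hDy' : D y' = 0 := by
      rw [hy', map_sub, map_smul, h0, hA, smul_zero, sub_zero]
    have hT : (KaehlerDifferential.D k A).tensorProductTo y' = 0 := by
      rw [hC, hm, map_zero, sub_zero, h3'] at hDy'
      exact (smul_eq_zero.mp hDy').resolve_left h3
    have hI : y' ∈ KaehlerDifferential.ideal k A := hm
    have hI2 : y' ∈ (KaehlerDifferential.ideal k A) ^ 2 := by
      rw [← Ideal.toCotangent_eq_zero _ ⟨_, hI⟩, ← KaehlerDifferential.D_tensorProductTo]
      exact hT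
    have hyB : y ∈ Bsub k A := by
      have : y = y' + (6⁻¹:k) • R12 (Sym3 (k := k) c 1 1) := by rw [hy']; abel
      rw [this]
      exact add_mem (ideal_sq_le_Bsub hI2) (Subalgebra.smul_mem _ (R12_Sym3_mem _ _ _) _)
    obtain ⟨x, hx1, hx2, hx3⟩ := mem_Bsub.mp hyB
    exact ⟨x, by rw [leftComm_eq, hx1], by rw [swap_eq, hx2], by rw [er, hx3]⟩
  · rintro ⟨x, hx1, hx2, rfl⟩
    rw [er]
    exact hB x (by rw [← leftComm_eq, hx1]) (by rw [← swap_eq, hx2])
  · obtain ⟨⟨p, hp⟩, rfl⟩ := (KaehlerDifferential.ideal k A).toCotangent_surjective ω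
    refine ⟨(3⁻¹ : k) • p, ?_⟩
    have hp0 : Algebra.TensorProduct.lmul' k p = 0 := hp
    rw [map_smul, hC, hp0, map_zero, sub_zero, h3', smul_smul, inv_mul_cancel₀ h3, one_smul,
      ← KaehlerDifferential.D_tensorProductTo ⟨p, hp⟩]


/-- Let k be an algebraically closed field of characteristic zero and A a smooth k-algebra which is a
domain. Let the symmetric group on three letters permute the factors of A ⊗ A ⊗ A (it is generated
by the swap of the first two factors and the swap of the last two), let r : A ⊗ (A ⊗ A) → A ⊗ A be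
the k-linear map a ⊗ b ⊗ c ↦ ab ⊗ c, and let D : A ⊗ A → Ω_{A/k} be the k-linear map a ⊗ b ↦ 2a·db −
b·da. Then an element y of A ⊗ A satisfies D y = 0 if and only if y = r x for some x fixed by both
swaps, and D is surjective. (This is exactness at the last two places of the four-term right
resolution of the invariants of the ideal of the big diagonal on the symmetric cube of X = Spec A,
namely invariant functions on X³, then functions on X × X through restriction to a diagonal, then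
one-forms on X; exactness at the first two places is immediate. The published statement is the sheaf
version on the symmetric cube of a smooth complex variety of any dimension; an algebraically closed
field of characteristic zero is used here.) -/
theorem result (k : Type u) [Field k] [IsAlgClosed k] [CharZero k]
    (A : Type v) [CommRing A] [Algebra k A] [Algebra.Smooth k A] [IsDomain A]
    (r : A ⊗[k] (A ⊗[k] A) →ₗ[k] A ⊗[k] A)
    (hr : ∀ a b c : A, r (a ⊗ₜ[k] (b ⊗ₜ[k] c)) = (a * b) ⊗ₜ[k] c)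
    (D : A ⊗[k] A →ₗ[k] Ω[A⁄k])
    (hD : ∀ a b : A, D (a ⊗ₜ[k] b) = (2 : A) • (a • KaehlerDifferential.D k A b) - b • KaehlerDifferential.D k A a) :
    (∀ y : A ⊗[k] A, D y = 0 ↔ ∃ x : A ⊗[k] (A ⊗[k] A),
        TensorProduct.leftComm k A A A x = x ∧
        LinearMap.lTensor A (TensorProduct.comm k A A).toLinearMap x = x ∧ r x = y) ∧
    Function.Surjective D := by
  exact result' k A r hr D hD

end Groth.Agent.S19212
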