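import Groth.Statements.S19216
import Mathlib.Tactic

set_option autoImplicit false
universe u
open SymRep

namespace Groth.Agent.S19216

/-- Let k be a field of characteristic zero and r, s ≥ 1. Realise the standard representation of the
symmetric group on a finite set T as the hyperplane of functions T → k with sum zero, the group
acting by precomposition with the inverse. Then the standard representation of the symmetric group
of Fin r ⊕ Fin s, restricted to the subgroup S_r × S_s, is isomorphic to the direct sum of the
standard representations of S_r and of S_s and of a one-dimensional trivial representation: there is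
a k-linear map E from functions on Fin r ⊕ Fin s to triples (function on Fin r, function on Fin s,
scalar), compatible with the actions of S_r × S_s (trivial on the scalar), which maps the sum-zero
hyperplane bijectively onto the product of the two sum-zero hyperplanes and k. (The published
statement is over the complex numbers; a field of characteristic zero is used here. The published
statement also gives the analogous decomposition for any number of blocks, which follows by
induction; only the two-block case is stated here.) -/
theorem result (k : Type u) [Field k] [CharZero k]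
    (r s : ℕ) (hr : 1 ≤ r) (hs : 1 ≤ s) :
    ∃ E : (Fin r ⊕ Fin s → k) →ₗ[k] (Fin r → k) × (Fin s → k) × k,
      (∀ (σ : Equiv.Perm (Fin r)) (τ : Equiv.Perm (Fin s)) (f : Fin r ⊕ Fin s → k),
        E (f ∘ ⇑(Equiv.sumCongr σ τ).symm) = ((E f).1 ∘ ⇑σ.symm, (E f).2.1 ∘ ⇑τ.symm, (E f).2.2)) ∧
      Set.BijOn E {f | ∑ i, f i = 0}
        ({g : Fin r → k | ∑ i, g i = 0} ×ˢ ({h : Fin s → k | ∑ i, h i = 0} ×ˢ Set.univ)) := by
  have hr0 : (r : k) ≠ 0 := Nat.cast_ne_zero.mpr (by omega)
  have hs0 : (s : k) ≠ 0 := Nat.cast_ne_zero.mpr (by omega)
  let E : (Fin r ⊕ Fin s → k) →ₗ[k] (Fin r → k) × (Fin s → k) × k :=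
    { toFun := fun f => (fun i => f (Sum.inl i) - (∑ a, f (Sum.inl a)) / (r : k),
        fun j => f (Sum.inr j) - (∑ b, f (Sum.inr b)) / (s : k), (∑ a, f (Sum.inl a)) / (r : k))
      map_add' := by
        intro f g
        refine Prod.ext ?_ (Prod.ext ?_ ?_)
        · funext i
          simp only [Pi.add_apply, Finset.sum_add_distrib, Prod.fst_add]
          ring
        · funext j
          simp only [Pi.add_apply, Finset.sum_add_distrib, Prod.snd_add, Prod.fst_add]
          ring
        · simp only [Pi.add_apply, Finset.sum_add_distrib, Prod.snd_add]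
          ring
      map_smul' := by
        intro c f
        refine Prod.ext ?_ (Prod.ext ?_ ?_)
        · funext i
          simp only [Pi.smul_apply, smul_eq_mul, ← Finset.mul_sum, RingHom.id_apply, Prod.smul_fst]
          ring
        · funext j
          simp only [Pi.smul_apply, smul_eq_mul, ← Finset.mul_sum, RingHom.id_apply, Prod.smul_snd,
            Prod.smul_fst]
          ring
        · simp only [Pi.smul_apply, smul_eq_mul, ← Finset.mul_sum, RingHom.id_apply, Prod.smul_snd]
          ring }
  have hE : ∀ f, E f = (fun i => f (Sum.inl i) - (∑ a, f (Sum.inl a)) / (r : k),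
        fun j => f (Sum.inr j) - (∑ b, f (Sum.inr b)) / (s : k), (∑ a, f (Sum.inl a)) / (r : k)) :=
    fun f => rfl
  refine ⟨E, ?_, ?_, ?_, ?_⟩
  · intro σ τ f
    have h1 : ∑ a, (f ∘ ⇑(Equiv.sumCongr σ τ).symm) (Sum.inl a) = ∑ a, f (Sum.inl a) := by
      have : ∀ a, (f ∘ ⇑(Equiv.sumCongr σ τ).symm) (Sum.inl a) = (fun a => f (Sum.inl a)) (σ.symm a) := by
        intro a; simp
      simp only [this]
      exact Equiv.sum_comp σ.symm (fun a => f (Sum.inl a))
    have h2 : ∑ b, (f ∘ ⇑(Equiv.sumCongr σ τ).symm) (Sum.inr b) = ∑ b, f (Sum.inr b) := by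
      have : ∀ b, (f ∘ ⇑(Equiv.sumCongr σ τ).symm) (Sum.inr b) = (fun b => f (Sum.inr b)) (τ.symm b) := by
        intro b; simp
      simp only [this]
      exact Equiv.sum_comp τ.symm (fun b => f (Sum.inr b))
    rw [hE, hE, h1, h2]
    refine Prod.ext ?_ (Prod.ext ?_ ?_)
    · funext i; simp
    · funext j; simp
    · rfl
  · intro f hf
    rw [Set.mem_ofPred_eq, Fintype.sum_sum_type] at hf
    rw [hE]
    refine ⟨?_, ?_, Set.mem_univ _⟩
    · simp only [Set.mem_ofPred_eq, Finset.sum_sub_distrib, Finset.sum_const, Finset.card_univ,
        Fintype.card_fin, nsmul_eq_mul]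
      field_simp
      ring
    · simp only [Set.mem_ofPred_eq, Finset.sum_sub_distrib, Finset.sum_const, Finset.card_univ,
        Fintype.card_fin, nsmul_eq_mul]
      field_simp
      ring
  · intro f hf g hg hfg
    rw [Set.mem_ofPred_eq, Fintype.sum_sum_type] at hf hg
    rw [hE, hE] at hfg
    have e1 := congrArg Prod.fst hfg
    have e2 := congrArg (fun z => z.2.1) hfg
    have e3 := congrArg (fun z => z.2.2) hfg
    simp only at e1 e2 e3
    have hA : ∑ a, f (Sum.inl a) = ∑ a, g (Sum.inl a) := by
      field_simp at e3
      exact e3
    have hB : ∑ b, f (Sum.inr b) = ∑ b, g (Sum.inr b) := by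
      have h1 : ∑ b, f (Sum.inr b) = - ∑ a, f (Sum.inl a) := by linear_combination hf
      have h2 : ∑ b, g (Sum.inr b) = - ∑ a, g (Sum.inl a) := by linear_combination hg
      rw [h1, h2, hA]
    funext x
    rcases x with i | j
    · have := congrFun e1 i
      simp only [hA] at this
      exact sub_left_injective this
    · have := congrFun e2 j
      simp only [hB] at this
      exact sub_left_injective this
  · rintro ⟨g, h, c⟩ ⟨hg, hh, _⟩
    rw [Set.mem_ofPred_eq] at hg hh
    refine ⟨Sum.elim (fun i => g i + c) (fun j => h j - (r : k) * c / (s : k)), ?_, ?_⟩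
    · rw [Set.mem_ofPred_eq, Fintype.sum_sum_type]
      simp only [Sum.elim_inl, Sum.elim_inr, Finset.sum_add_distrib, Finset.sum_sub_distrib, hg, hh,
        Finset.sum_const, Finset.card_univ, Fintype.card_fin, nsmul_eq_mul]
      field_simp
      ring
    · rw [hE]
      simp only [Sum.elim_inl, Sum.elim_inr, Finset.sum_add_distrib, Finset.sum_sub_distrib, hg, hh,
        Finset.sum_const, Finset.card_univ, Fintype.card_fin, nsmul_eq_mul]
      refine Prod.ext ?_ (Prod.ext ?_ ?_)
      · funext i
        simp only
        field_simp
        ring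
      · funext j
        simp only
        field_simp
        ring
      · simp only
        field_simp
        ring

end Groth.Agent.S19216
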