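import Groth.Statements.S19218
import Mathlib.Tactic
import Groth.Agent.H95.PiTensorPerm

set_option autoImplicit false
universe u v
open TensorProduct
open DiagIdeal

namespace Groth.Agent.S19218

/-- Let k be an algebraically closed field of characteristic zero and A a smooth k-algebra which is a
domain of Krull dimension 2. In the n-fold tensor power R of A over k, indexed by Fin n, let I_p (p
= (i, j), i < j) be the ideal generated by the a_i − a_j, a ∈ A, and let I be the intersection of
the I_p, the ideal of the big diagonal. Assume that for every s ≥ 0 the power I ^ s is the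
intersection of the powers I_p ^ s (a property of the big diagonal of a smooth surface that the
source takes from the literature). Then for m ≥ 1 every element of R fixed by all permutations of
the n factors and lying in I ^ (2m − 1) lies in I ^ (2m): on the symmetric product the invariants of
the odd power and of the next even power of the ideal of the big diagonal coincide. (The source
states the sheaf version for a smooth quasi-projective complex surface, using the displayed property
of the powers without restating it as a hypothesis.) -/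
theorem result (k : Type u) [Field k] [IsAlgClosed k] [CharZero k]
    (A : Type v) [CommRing A] [Algebra k A] [Algebra.Smooth k A] [IsDomain A]
    (hdim : ringKrullDim A = 2) (n : ℕ)
    (I : Fin n × Fin n → Ideal (⨂[k] _ : Fin n, A))
    (hI : ∀ p, I p = Ideal.span (Set.range fun a : A =>
        PiTensorProduct.singleAlgHom (R := k) (A := fun _ : Fin n => A) p.1 a -
        PiTensorProduct.singleAlgHom (R := k) (A := fun _ : Fin n => A) p.2 a))
    (IΔ : Ideal (⨂[k] _ : Fin n, A))
    (hIΔ : IΔ = ⨅ p ∈ Finset.univ.filter (fun p : Fin n × Fin n => p.1 < p.2), I p)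
    (hpow : ∀ s : ℕ, IΔ ^ s = ⨅ p ∈ Finset.univ.filter (fun p : Fin n × Fin n => p.1 < p.2), (I p) ^ s)
    (m : ℕ) (hm : 1 ≤ m) (x : ⨂[k] _ : Fin n, A)
    (hx : ∀ σ : Equiv.Perm (Fin n), PiTensorProduct.reindex k (fun _ : Fin n => A) σ x = x)
    (hmem : x ∈ IΔ ^ (2 * m - 1)) :
    x ∈ IΔ ^ (2 * m) := by
  have h2k : (2 : k) ≠ 0 := two_ne_zero
  rw [hpow (2 * m - 1)] at hmem
  rw [hpow (2 * m)]
  simp only [Submodule.mem_iInf] at hmem ⊢
  intro p hp
  have hIp : I p = Groth.Agent.H95.diagIdeal (k := k) (A := A) p.1 p.2 := by
    rw [hI p]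
    rfl
  have hxp := hmem p hp
  rw [hIp] at hxp ⊢
  have key := Groth.Agent.H95.permAlgHom_swap_sub_pow_mem (k := k) (A := A) p.1 p.2 (2 * m - 1) x hxp
  rw [Groth.Agent.H95.permAlgHom_apply, hx (Equiv.swap p.1 p.2)] at key
  have hodd : Odd (2 * m - 1) := ⟨m - 1, by omega⟩
  rw [hodd.neg_one_pow] at key
  have e : 2 * m - 1 + 1 = 2 * m := by omega
  rw [e] at key
  have h2x : x - -1 * x = algebraMap k (⨂[k] _ : Fin n, A) 2 * x := by
    rw [map_ofNat]; ring
  rw [h2x] at key
  have hfin : x = algebraMap k (⨂[k] _ : Fin n, A) (2 : k)⁻¹ * (algebraMap k (⨂[k] _ : Fin n, A) 2 * x) := by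
    rw [← mul_assoc, ← map_mul, inv_mul_cancel₀ h2k, map_one, one_mul]
  rw [hfin]
  exact Ideal.mul_mem_left _ _ key

end Groth.Agent.S19218
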