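import Groth.Statements.S19221
import Mathlib.Tactic
import Groth.Agent.H95.ExtWedge

set_option autoImplicit false
universe u
open SymRep

namespace Groth.Agent.S19221

/-- Let k be a field of characteristic zero and F the k-space of functions Fin 2 → Fin 4 → Fin 4 → k,
with the symmetric group of Fin 4 acting through P σ f c a b = f c (σ⁻¹ a) (σ⁻¹ b). The signed edge
vectors of the complete graph on four vertices live in F as the functions antisymmetric in the two
vertex arguments, and for a colour c and an oriented 3-cycle i → j → l → i the cycle vector z c i j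
l is the function equal, in colour c, to +1 at (i,j), (j,l), (l,i), to −1 at (j,i), (l,j), (i,l) and
to 0 elsewhere (and 0 in the other colour); these cycle vectors span k² ⊗ (cycle space), the
representation written C² ⊗ q in the published text. Let Γ be the graph with edges 01, 02, 03, 12,
23 (a 4-cycle with one chord), whose cycle space is spanned by the cycles (0,1,2) and (0,2,3), and
let ω be the product in the exterior algebra of F of the four vectors z 0 0 1 2, z 1 0 1 2, z 0 0 2
3, z 1 0 2 3 (a generator of the top exterior power of k² ⊗ q_Γ). Then ω is fixed by the stabiliser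
of Γ in the symmetric group (generated by the transpositions (0 2) and (1 3)), and the sum over all
24 permutations σ of the images of ω under the maps induced by P σ is nonzero: the projection of ω
to the invariants of the fourth exterior power of k² ⊗ q_{K₄} does not vanish. (The published
statement is over the complex numbers; a field of characteristic zero is used here. The published
statement also asserts that this map is an isomorphism onto the one-dimensional space of
S₄-invariants of the fourth exterior power of k² ⊗ q_{K₄}; only its non-vanishing is stated here.) -/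
theorem result (k : Type u) [Field k] [CharZero k]
    (P : Equiv.Perm (Fin 4) → ((Fin 2 → Fin 4 → Fin 4 → k) →ₗ[k] (Fin 2 → Fin 4 → Fin 4 → k)))
    (hP : ∀ (σ : Equiv.Perm (Fin 4)) (f : Fin 2 → Fin 4 → Fin 4 → k) (c : Fin 2) (a b : Fin 4),
      P σ f c a b = f c (σ.symm a) (σ.symm b))
    (z : Fin 2 → Fin 4 → Fin 4 → Fin 4 → (Fin 2 → Fin 4 → Fin 4 → k))
    (hz : ∀ (c : Fin 2) (i j l : Fin 4) (c' : Fin 2) (a b : Fin 4), z c i j l c' a b =
      if c' = c then
        ((if a = i ∧ b = j then 1 else 0) + (if a = j ∧ b = l then 1 else 0) + (if a = l ∧ b = i then 1 else 0)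
          - (if a = j ∧ b = i then 1 else 0) - (if a = l ∧ b = j then 1 else 0) - (if a = i ∧ b = l then 1 else 0))
      else 0)
    (ω : ExteriorAlgebra k (Fin 2 → Fin 4 → Fin 4 → k))
    (hω : ω = ExteriorAlgebra.ι k (z 0 0 1 2) * ExteriorAlgebra.ι k (z 1 0 1 2) *
      ExteriorAlgebra.ι k (z 0 0 2 3) * ExteriorAlgebra.ι k (z 1 0 2 3)) :
    ExteriorAlgebra.map (P (Equiv.swap 0 2)) ω = ω ∧
    ExteriorAlgebra.map (P (Equiv.swap 1 3)) ω = ω ∧
    (∑ σ : Equiv.Perm (Fin 4), ExteriorAlgebra.map (P σ) ω) ≠ 0 := by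
  classical
  -- basic symmetries of the cycle vectors
  have hPz : ∀ (σ : Equiv.Perm (Fin 4)) (c : Fin 2) (i j l : Fin 4),
      P σ (z c i j l) = z c (σ i) (σ j) (σ l) := by
    intro σ c i j l
    funext c' a b
    rw [hP, hz, hz]
    simp only [Equiv.symm_apply_eq]
  have hrot : ∀ (c : Fin 2) (i j l : Fin 4), z c j l i = z c i j l := by
    intro c i j l
    funext c' a b
    rw [hz, hz]
    split_ifs <;> ring
  have hrev : ∀ (c : Fin 2) (i j l : Fin 4), z c l j i = -z c i j l := by
    intro c i j l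
    funext c' a b
    rw [Pi.neg_apply, Pi.neg_apply, Pi.neg_apply, hz, hz]
    split_ifs <;> ring
  have e02_0 : Equiv.swap (0 : Fin 4) 2 0 = 2 := by decide
  have e02_1 : Equiv.swap (0 : Fin 4) 2 1 = 1 := by decide
  have e02_2 : Equiv.swap (0 : Fin 4) 2 2 = 0 := by decide
  have e02_3 : Equiv.swap (0 : Fin 4) 2 3 = 3 := by decide
  have e13_0 : Equiv.swap (1 : Fin 4) 3 0 = 0 := by decide
  have e13_1 : Equiv.swap (1 : Fin 4) 3 1 = 3 := by decide
  have e13_2 : Equiv.swap (1 : Fin 4) 3 2 = 2 := by decide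
  have e13_3 : Equiv.swap (1 : Fin 4) 3 3 = 1 := by decide
  refine ⟨?_, ?_, ?_⟩
  · rw [hω]
    simp only [map_mul, ExteriorAlgebra.map_apply_ι, hPz, e02_0, e02_1, e02_2, e02_3]
    have h1 : ∀ c, z c 2 1 0 = -z c 0 1 2 := fun c => hrev c 0 1 2
    have h2 : ∀ c, z c 2 0 3 = -z c 0 2 3 := fun c => by
      rw [hrot c 3 2 0, hrev c 0 2 3]
    simp only [h1, h2, map_neg, neg_mul, mul_neg, neg_neg]
  · rw [hω]
    simp only [map_mul, ExteriorAlgebra.map_apply_ι, hPz, e13_0, e13_1, e13_2, e13_3]
    have h1 : ∀ c, z c 0 3 2 = -z c 0 2 3 := fun c => by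
      rw [hrev c 2 3 0, hrot c 0 2 3]
    have h2 : ∀ c, z c 0 2 1 = -z c 0 1 2 := fun c => by
      rw [hrev c 1 2 0, hrot c 0 1 2]
    simp only [h1, h2, map_neg, neg_mul, mul_neg, neg_neg]
    exact Groth.Agent.H95.ext_swap_pairs _ _ _ _
  · -- non-vanishing via the determinant functional
    let gZ : Fin 4 → Fin 4 → Fin 4 → Fin 4 → Fin 4 → ℤ := fun i j l a b =>
      ((if a = i ∧ b = j then 1 else 0) + (if a = j ∧ b = l then 1 else 0) + (if a = l ∧ b = i then 1 else 0)
          - (if a = j ∧ b = i then 1 else 0) - (if a = l ∧ b = j then 1 else 0) - (if a = i ∧ b = l then 1 else 0))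
    have hzg : ∀ (c : Fin 2) (i j l : Fin 4) (c' : Fin 2) (a b : Fin 4),
        z c i j l c' a b = if c' = c then ((gZ i j l a b : ℤ) : k) else 0 := by
      intro c i j l c' a b
      rw [hz]
      simp only [gZ]
      push_cast
      rfl
    let mZ : Equiv.Perm (Fin 4) → ℤ := fun σ =>
      gZ (σ 0) (σ 1) (σ 2) 1 2 * gZ (σ 0) (σ 2) (σ 3) 2 3 -
        gZ (σ 0) (σ 1) (σ 2) 2 3 * gZ (σ 0) (σ 2) (σ 3) 1 2
    have hterm : ∀ σ : Equiv.Perm (Fin 4),
        Groth.Agent.H95.Lam (ExteriorAlgebra.map (P σ) ω) = ((mZ σ : ℤ) : k) ^ 2 := by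
      intro σ
      rw [hω]
      simp only [map_mul, ExteriorAlgebra.map_apply_ι, hPz]
      rw [Groth.Agent.H95.Lam_prod]
      simp only [Groth.Agent.H95.Phi_apply, hzg]
      have h01 : ((0 : Fin 2) = 1) = False := by simp
      have h10 : ((1 : Fin 2) = 0) = False := by simp
      simp only [h01, h10, if_true, if_false]
      have := Groth.Agent.H95.det_block4 (k := k)
        ((gZ (σ 0) (σ 1) (σ 2) 1 2 : ℤ) : k) ((gZ (σ 0) (σ 1) (σ 2) 2 3 : ℤ) : k)
        ((gZ (σ 0) (σ 2) (σ 3) 1 2 : ℤ) : k) ((gZ (σ 0) (σ 2) (σ 3) 2 3 : ℤ) : k)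
      simp only [mZ]
      push_cast
      rw [← this]
    intro hsum
    have h0 := congrArg Groth.Agent.H95.Lam hsum
    rw [map_sum, map_zero, Finset.sum_congr rfl (fun σ _ => hterm σ)] at h0
    have hpos : (0 : ℤ) < ∑ σ : Equiv.Perm (Fin 4), (mZ σ) ^ 2 := by
      apply Finset.sum_pos'
      · intro σ _
        exact sq_nonneg _
      · refine ⟨1, Finset.mem_univ _, ?_⟩
        decide
    have hcast : (∑ σ : Equiv.Perm (Fin 4), ((mZ σ : ℤ) : k) ^ 2) =
        ((∑ σ : Equiv.Perm (Fin 4), (mZ σ) ^ 2 : ℤ) : k) := by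
      push_cast
      rfl
    rw [hcast] at h0
    have := Int.cast_eq_zero.mp h0
    omega

end Groth.Agent.S19221
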