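import Groth.Statements.S19237
import Groth.Agent.H96.WittSigma
-- import your own Groth.Agent.* helpers here

set_option autoImplicit false
universe u v
open SigmaLin

namespace Groth.Agent.S19237

/-- Let k be an algebraically closed field of characteristic p > 0 and n a natural number; let M be a
finitely generated module over the ring W_n(k) of truncated Witt vectors and T : M → M an additive
map with T (c • m) = σ(c) • T m, where σ is either the Frobenius endomorphism of W_n(k) (induced by
the p-th power map of k) or its inverse (induced by the inverse of the p-th power map). Then m ↦ T m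
− m is surjective on M. (The printed statement takes k perfect and separably closed, which is the
same as algebraically closed.) -/
theorem result
    (p : ℕ) [Fact p.Prime] (k : Type u) [Field k] [CharP k p] [IsAlgClosed k] (n : ℕ)
    (σ : TruncatedWittVector p n k →+* TruncatedWittVector p n k)
    (hσ : σ = WittGrp.truncMap p n (frobenius k p) ∨
      σ = WittGrp.truncMap p n (frobeniusEquiv k p).symm.toRingHom)
    (M : Type v) [AddCommGroup M] [Module (TruncatedWittVector p n k) M] [Module.Finite (TruncatedWittVector p n k) M]
    (T : M →ₛₗ[σ] M) :
    Function.Surjective (fun m : M => T m - m) := by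
  cases n with
  | zero =>
    intro y
    have hsub : ∀ m : M, m = 0 := by
      intro m
      have h01 : (1 : TruncatedWittVector p 0 k) = 0 := by
        ext i
        exact i.elim0
      rw [← one_smul (TruncatedWittVector p 0 k) m, h01, zero_smul]
    exact ⟨0, by rw [hsub y]; simp⟩
  | succ n =>
    obtain ⟨f, hf, rfl⟩ : ∃ f : k →+* k,
        (f = frobenius k p ∨ f = (frobeniusEquiv k p).symm.toRingHom) ∧
          σ = WittGrp.truncMap p (n + 1) f := by
      rcases hσ with h | h
      · exact ⟨_, Or.inl rfl, h⟩
      · exact ⟨_, Or.inr rfl, h⟩
    obtain ⟨hsurj, hsolv, hh3, -⟩ := Groth.Agent.H96.WittSigma.data p k n f hf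
    have key := Groth.Agent.H96.SigmaLin.surj_local
      (Groth.Agent.H96.WittSigma.sbar_residue p k n f) p
      (Groth.Agent.H96.WittTrunc.maximalIdeal_eq p k n) hsurj hsolv hh3 (n + 1) M T
      (fun m => by rw [Groth.Agent.H96.WittTrunc.p_pow_eq_zero, zero_smul])
    intro y
    obtain ⟨m, hm⟩ := key (-y)
    refine ⟨m, ?_⟩
    simp only at hm ⊢
    rw [← neg_sub, hm, neg_neg]

end Groth.Agent.S19237
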