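import Groth.Statements.S19238
import Groth.Agent.H96.WittSigma
import Mathlib.RingTheory.Finiteness.Cardinality
-- import your own Groth.Agent.* helpers here

set_option autoImplicit false
universe u v
open SigmaLin

namespace Groth.Agent.S19238

/-- Let k be an algebraically closed field of characteristic p > 0 and n a natural number; let M be a
finitely generated module over the ring W_n(k) of truncated Witt vectors and T : M → M an additive
map with T (c • m) = σ(c) • T m, where σ is either the Frobenius endomorphism of W_n(k) or its
inverse. Then the set of T-fixed elements of M is finite. (The printed statement says that the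
T-fixed elements form a finitely generated module over the σ-fixed subring of W_n(k), which is the
finite ring of integers modulo p^n.) -/
theorem result
    (p : ℕ) [Fact p.Prime] (k : Type u) [Field k] [CharP k p] [IsAlgClosed k] (n : ℕ)
    (σ : TruncatedWittVector p n k →+* TruncatedWittVector p n k)
    (hσ : σ = WittGrp.truncMap p n (frobenius k p) ∨
      σ = WittGrp.truncMap p n (frobeniusEquiv k p).symm.toRingHom)
    (M : Type v) [AddCommGroup M] [Module (TruncatedWittVector p n k) M] [Module.Finite (TruncatedWittVector p n k) M]
    (T : M →ₛₗ[σ] M) :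
    {m : M | T m = m}.Finite := by
  cases n with
  | zero =>
    have hsub : ∀ m : M, m = 0 := by
      intro m
      have h01 : (1 : TruncatedWittVector p 0 k) = 0 := by
        ext i
        exact i.elim0
      rw [← one_smul (TruncatedWittVector p 0 k) m, h01, zero_smul]
    apply Set.Finite.subset (Set.finite_singleton (0 : M))
    intro m _
    exact hsub m
  | succ n =>
    obtain ⟨f, hf, rfl⟩ : ∃ f : k →+* k,
        (f = frobenius k p ∨ f = (frobeniusEquiv k p).symm.toRingHom) ∧
          σ = WittGrp.truncMap p (n + 1) f := by
      rcases hσ with h | h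
      · exact ⟨_, Or.inl rfl, h⟩
      · exact ⟨_, Or.inr rfl, h⟩
    obtain ⟨hsurj, hsolv, hh3, hlift⟩ := Groth.Agent.H96.WittSigma.data p k n f hf
    obtain ⟨s, hsfin, -, hsgen⟩ := Groth.Agent.H96.SigmaLin.fixed_gen
      (Groth.Agent.H96.WittSigma.sbar_residue p k n f) p
      (Groth.Agent.H96.WittTrunc.maximalIdeal_eq p k n) hsurj hsolv hh3 hlift (n + 1) M T
      (fun m => by rw [Groth.Agent.H96.WittTrunc.p_pow_eq_zero, zero_smul])
    -- the fixed subring is finite
    have hA : {y : k | y ^ p = y}.Finite := Groth.Agent.H96.SigmaLin.finite_frob_fixed p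
    have hR0 : (Set.univ : Set (Groth.Agent.H96.SigmaLin.R0 (WittGrp.truncMap p (n + 1) f))).Finite := by
      have hpi : (Set.pi Set.univ (fun _ : Fin (n + 1) => {y : k | y ^ p = y})).Finite :=
        Set.Finite.pi (fun _ => hA)
      refine Set.Finite.of_injOn (f := fun r : Groth.Agent.H96.SigmaLin.R0 (WittGrp.truncMap p (n + 1) f) =>
        fun i : Fin (n + 1) => (r : TruncatedWittVector p (n + 1) k).coeff i) ?_ ?_ hpi
      · intro r _
        rw [Set.mem_pi]
        intro i _
        have h1 := (Groth.Agent.H96.SigmaLin.mem_R0 (r : TruncatedWittVector p (n + 1) k)).mp r.2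
        have h2 := congrArg (fun x => TruncatedWittVector.coeff i x) h1
        simp only [WittGrp.coeff_truncMap] at h2
        exact Groth.Agent.H96.WittSigma.frob_or_inv_fixed p k f hf _ h2
      · intro r _ r' _ hrr'
        apply Subtype.ext
        ext i
        exact congrFun hrr' i
    have hfinR0 : Finite (Groth.Agent.H96.SigmaLin.R0 (WittGrp.truncMap p (n + 1) f)) :=
      Set.finite_univ_iff.mp hR0
    have hmodfin : Module.Finite (Groth.Agent.H96.SigmaLin.R0 (WittGrp.truncMap p (n + 1) f))
        (Submodule.span (Groth.Agent.H96.SigmaLin.R0 (WittGrp.truncMap p (n + 1) f)) s) :=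
      Module.Finite.span_of_finite _ hsfin
    have hfin : Finite (Submodule.span (Groth.Agent.H96.SigmaLin.R0 (WittGrp.truncMap p (n + 1) f)) s) :=
      Module.finite_of_finite (Groth.Agent.H96.SigmaLin.R0 (WittGrp.truncMap p (n + 1) f))
    apply Set.Finite.subset (Set.toFinite (Submodule.span (Groth.Agent.H96.SigmaLin.R0 (WittGrp.truncMap p (n + 1) f)) s : Set M))
    intro m hm
    exact hsgen m hm

end Groth.Agent.S19238
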