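import Groth.Statements.S19244
import Mathlib
-- import your own Groth.Agent.* helpers here

set_option autoImplicit false
universe v v' u u'
open HomAlg3

namespace Groth.Agent.S19244

open CategoryTheory in
/-- Let A be an abelian category and let P be the class of bounded-torsion objects of A, those X with n
• 𝟙_X = 0 for some nonzero integer n; assume P is a Serre class. Let L : A ⥤ D be an additive
functor to a preadditive category exhibiting D as the localization of A at the morphisms whose
kernel and cokernel are in P (so D is the quotient category A_ℚ = A ⧸ A_{b-tor}; the source assumes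
A well-powered, which guarantees that this quotient exists). Then for all objects X, Y of A: (1) for
every nonzero integer n, multiplication by n is bijective on Hom_D(L X, L Y), so that this group is
naturally a ℚ-vector space; (2) a morphism f : X ⟶ Y satisfies L f = 0 if and only if n • f = 0 for
some nonzero integer n; (3) for every g : L X ⟶ L Y there are a nonzero integer n and f : X ⟶ Y with
n • g = L f. Equivalently, the natural map Hom_A(X, Y) ⊗_ℤ ℚ → Hom_D(L X, L Y) is an isomorphism. -/
theorem result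
    {A : Type u} [Category.{v} A] [Abelian A] {D : Type u'} [Category.{v'} D] [Preadditive D]
    (P : ObjectProperty A) (hP : ∀ X : A, P X ↔ ∃ n : ℤ, n ≠ 0 ∧ n • (𝟙 X) = 0) [P.IsSerreClass]
    (L : A ⥤ D) [L.Additive] [L.IsLocalization P.isoModSerre] (X Y : A) :
    (∀ n : ℤ, n ≠ 0 → Function.Bijective (fun g : L.obj X ⟶ L.obj Y => n • g)) ∧
    (∀ f : X ⟶ Y, L.map f = 0 ↔ ∃ n : ℤ, n ≠ 0 ∧ n • f = 0) ∧
    (∀ g : L.obj X ⟶ L.obj Y, ∃ (n : ℤ) (f : X ⟶ Y), n ≠ 0 ∧ n • g = L.map f) := by
  classical
  -- multiplication by a nonzero integer is inverted by L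
  have hmul : ∀ (Z : A) (n : ℤ), n ≠ 0 → P.isoModSerre (n • 𝟙 Z) := by
    intro Z n hn
    rw [ObjectProperty.isoModSerre_iff]
    constructor
    · change P (Limits.kernel (n • 𝟙 Z))
      rw [hP]
      refine ⟨n, hn, ?_⟩
      rw [← cancel_mono (Limits.kernel.ι (n • 𝟙 Z))]
      rw [Preadditive.zsmul_comp, Category.id_comp, Limits.zero_comp]
      have := Limits.kernel.condition (n • 𝟙 Z)
      rw [Preadditive.comp_zsmul, Category.comp_id] at this
      exact this
    · change P (Limits.cokernel (n • 𝟙 Z))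
      rw [hP]
      refine ⟨n, hn, ?_⟩
      rw [← cancel_epi (Limits.cokernel.π (n • 𝟙 Z))]
      rw [Preadditive.comp_zsmul, Category.comp_id, Limits.comp_zero]
      have := Limits.cokernel.condition (n • 𝟙 Z)
      rw [Preadditive.zsmul_comp, Category.id_comp] at this
      exact this
  have hiso : ∀ (Z : A) (n : ℤ), n ≠ 0 → IsIso (n • 𝟙 (L.obj Z)) := by
    intro Z n hn
    have h1 : IsIso (L.map (n • 𝟙 Z)) := Localization.inverts L P.isoModSerre _ (hmul Z n hn)
    rw [L.map_zsmul, L.map_id] at h1
    exact h1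
  -- (2)
  have part2 : ∀ f : X ⟶ Y, L.map f = 0 ↔ ∃ n : ℤ, n ≠ 0 ∧ n • f = 0 := by
    intro f
    rw [ObjectProperty.SerreClassLocalization.map_eq_zero_iff L P f, hP]
    constructor
    · rintro ⟨n, hn, h⟩
      refine ⟨n, hn, ?_⟩
      have hf : n • f = Abelian.factorThruImage f ≫ (n • 𝟙 _) ≫ Abelian.image.ι f := by
        rw [Preadditive.zsmul_comp, Category.id_comp, Preadditive.comp_zsmul, Abelian.image.fac]
      rw [hf, h, Limits.zero_comp, Limits.comp_zero]
    · rintro ⟨n, hn, h⟩
      refine ⟨n, hn, ?_⟩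
      rw [← cancel_mono (Abelian.image.ι f), ← cancel_epi (Abelian.factorThruImage f)]
      rw [Limits.zero_comp, Limits.comp_zero, Preadditive.zsmul_comp, Category.id_comp,
        Preadditive.comp_zsmul, Abelian.image.fac]
      exact h
  refine ⟨?_, part2, ?_⟩
  · -- (1)
    intro n hn
    have := hiso X n hn
    have heq : (fun g : L.obj X ⟶ L.obj Y => n • g) = fun g => (n • 𝟙 (L.obj X)) ≫ g := by
      funext g
      rw [Preadditive.zsmul_comp, Category.id_comp]
    rw [heq]
    constructor
    · intro g g' h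
      exact (cancel_epi (n • 𝟙 (L.obj X))).mp h
    · intro g
      exact ⟨inv (n • 𝟙 (L.obj X)) ≫ g, by simp⟩
  · -- (3)
    intro g
    obtain ⟨φ, hφ⟩ := Localization.exists_rightFraction L P.isoModSerre g
    obtain ⟨hker, hcoker⟩ := (ObjectProperty.isoModSerre_iff P φ.s).mp φ.hs
    change P (Limits.kernel φ.s) at hker
    change P (Limits.cokernel φ.s) at hcoker
    rw [hP] at hker hcoker
    obtain ⟨a, ha, hak⟩ := hker
    obtain ⟨b, hb, hbq⟩ := hcoker
    -- β : X ⟶ image s with β ≫ ι = b • 𝟙
    have hβ0 : (b • 𝟙 X) ≫ Limits.cokernel.π φ.s = 0 := by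
      rw [Preadditive.zsmul_comp, Category.id_comp]
      have : b • Limits.cokernel.π φ.s = Limits.cokernel.π φ.s ≫ (b • 𝟙 _) := by
        rw [Preadditive.comp_zsmul, Category.comp_id]
      rw [this, hbq, Limits.comp_zero]
    let β : X ⟶ Abelian.image φ.s := Limits.kernel.lift _ (b • 𝟙 X) hβ0
    have hβ : β ≫ Abelian.image.ι φ.s = b • 𝟙 X := Limits.kernel.lift_ι _ _ _
    -- α : image s ⟶ X' with factorThruImage ≫ α = a • 𝟙
    have hcolim := Abelian.epiIsCokernelOfKernel _
      (Limits.kernelIsKernel (Abelian.factorThruImage φ.s))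
    have hα0 : Limits.kernel.ι (Abelian.factorThruImage φ.s) ≫ (a • 𝟙 φ.X') = 0 := by
      have h1 : Limits.kernel.ι (Abelian.factorThruImage φ.s) ≫ φ.s = 0 := by
        calc Limits.kernel.ι (Abelian.factorThruImage φ.s) ≫ φ.s
            = Limits.kernel.ι (Abelian.factorThruImage φ.s) ≫
                (Abelian.factorThruImage φ.s ≫ Abelian.image.ι φ.s) := by
              rw [Abelian.image.fac]
          _ = 0 := by rw [← Category.assoc, Limits.kernel.condition, Limits.zero_comp]
      have h2 : Limits.kernel.ι (Abelian.factorThruImage φ.s) =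
          Limits.kernel.lift φ.s _ h1 ≫ Limits.kernel.ι φ.s := (Limits.kernel.lift_ι _ _ _).symm
      rw [h2, Category.assoc, Preadditive.comp_zsmul, Category.comp_id]
      have : a • Limits.kernel.ι φ.s = (a • 𝟙 _) ≫ Limits.kernel.ι φ.s := by
        rw [Preadditive.zsmul_comp, Category.id_comp]
      rw [this, hak, Limits.zero_comp, Limits.comp_zero]
    let α : Abelian.image φ.s ⟶ φ.X' :=
      hcolim.desc (Limits.CokernelCofork.ofπ (a • 𝟙 φ.X') hα0)
    have hα : Abelian.factorThruImage φ.s ≫ α = a • 𝟙 φ.X' :=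
      hcolim.fac (Limits.CokernelCofork.ofπ (a • 𝟙 φ.X') hα0) Limits.WalkingParallelPair.one
    have hαs : α ≫ φ.s = a • Abelian.image.ι φ.s := by
      rw [← cancel_epi (Abelian.factorThruImage φ.s), ← Category.assoc, hα,
        Preadditive.zsmul_comp, Category.id_comp, Preadditive.comp_zsmul, Abelian.image.fac]
    let t : X ⟶ φ.X' := β ≫ α
    have hts : t ≫ φ.s = (a * b) • 𝟙 X := by
      change (β ≫ α) ≫ φ.s = _
      rw [Category.assoc, hαs, Preadditive.comp_zsmul, hβ, smul_smul]
    refine ⟨a * b, t ≫ φ.f, mul_ne_zero ha hb, ?_⟩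
    have hs_iso : IsIso (L.map φ.s) := Localization.inverts L P.isoModSerre _ φ.hs
    have h1 : L.map t ≫ L.map φ.s = (a * b) • 𝟙 (L.obj X) := by
      rw [← L.map_comp, hts, L.map_zsmul, L.map_id]
    have h2 : L.map φ.s ≫ g = L.map φ.f := by
      rw [hφ]
      exact MorphismProperty.RightFraction.map_s_comp_map φ L _
    calc (a * b) • g = ((a * b) • 𝟙 (L.obj X)) ≫ g := by
          rw [Preadditive.zsmul_comp, Category.id_comp]
      _ = (L.map t ≫ L.map φ.s) ≫ g := by rw [h1]
      _ = L.map t ≫ L.map φ.f := by rw [Category.assoc, h2]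
      _ = L.map (t ≫ φ.f) := (L.map_comp t φ.f).symm

end Groth.Agent.S19244
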