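import Groth.Statements.S19268
import Groth.Agent.H96.WittPS
-- import your own Groth.Agent.* helpers here

set_option autoImplicit false
universe u
open WittFil

namespace Groth.Agent.S19268

/-- Let S be an integral domain of characteristic p, A = S[[π]] the power series ring, B = A[1/π] with u
the unit of B given by π, and let m > s ≥ 0 and i be an integer with s = 0 or p ∤ i; put n = p ^
(m−1−s) · i. For e in B write fil(e) for the set of truncated p-typical Witt vectors of length m
over B whose j-th coordinate y_j satisfies y_j ^ (p ^ (m−1−j)) · e ∈ A for all j, and for a Witt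
vector c over S let Φ(c) ∈ W_m(B) be the length-m truncation of V^s(c · [u ^ i]) (V the
Verschiebung, [ ] the Teichmüller map, c mapped to B). Then Φ induces a bijection from the
length-(m−s) truncated Witt vectors of S onto the graded piece fil(u^(−n)) / fil(u^(−n−1)): (1) Φ(c)
lies in fil(u^(−n)) for every c; (2) Φ(c) lies in fil(u^(−n−1)) exactly when the length-(m−s)
truncation of c is zero; (3) every element of fil(u^(−n)) is congruent to some Φ(c) modulo
fil(u^(−n−1)). (Published for S a regular local Noetherian F-finite F_p-algebra; the argument uses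
only that S is a domain.) -/
theorem result (p : ℕ) [Fact p.Prime] {S B : Type u} [CommRing S]
    [IsDomain S] [CharP S p] [CommRing B] [Algebra (PowerSeries S) B] [Algebra S B]
    [IsScalarTower S (PowerSeries S) B] [IsLocalization.Away (PowerSeries.X : PowerSeries S) B]
    (u : Bˣ) (hu : (u : B) = algebraMap (PowerSeries S) B PowerSeries.X) (m s : ℕ) (hs : s < m)
    (i : ℤ) (hsi : s = 0 ∨ ¬ ((p : ℤ) ∣ i)) :
    (∀ c : WittVector p S,
        WittFil.vShiftTeich p m s ((u ^ i : Bˣ) : B) c ∈
          WittFil.fil p m (A := PowerSeries S) ((u ^ (-((p : ℤ) ^ (m - 1 - s) * i)) : Bˣ) : B)) ∧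
      (∀ c : WittVector p S,
        WittFil.vShiftTeich p m s ((u ^ i : Bˣ) : B) c ∈
            WittFil.fil p m (A := PowerSeries S) ((u ^ (-((p : ℤ) ^ (m - 1 - s) * i) - 1) : Bˣ) : B) ↔
          WittVector.truncate (m - s) c = 0) ∧
      (∀ y ∈ WittFil.fil p m (A := PowerSeries S) ((u ^ (-((p : ℤ) ^ (m - 1 - s) * i)) : Bˣ) : B),
        ∃ c : WittVector p S,
          y - WittFil.vShiftTeich p m s ((u ^ i : Bˣ) : B) c ∈
            WittFil.fil p m (A := PowerSeries S)
              ((u ^ (-((p : ℤ) ^ (m - 1 - s) * i) - 1) : Bˣ) : B)) := by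
  have hp0 : 0 < p := (Fact.out : p.Prime).pos
  have : CharP B p := Groth.Agent.H96.ps_charP (S := S) (B := B) p
  have hroot := Groth.Agent.H96.ps_hroot (S := S) (B := B) p
  have hH : ∀ (w : B) (q t : ℕ), t < q →
      w ^ q * algebraMap (PowerSeries S) B (PowerSeries.X ^ t) ∈ (algebraMap (PowerSeries S) B).range →
      w ∈ (algebraMap (PowerSeries S) B).range := Groth.Agent.H96.ps_mem_range
  have hSA : ∀ d : S, algebraMap S B d = algebraMap (PowerSeries S) B (PowerSeries.C d) := by
    intro d
    rw [IsScalarTower.algebraMap_apply S (PowerSeries S) B, PowerSeries.algebraMap_eq]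
  refine ⟨?_, ?_, ?_⟩
  · -- part 1
    intro c j
    by_cases hj : (j : ℕ) < s
    · rw [Groth.Agent.H96.vShiftTeich_coeff_lt p m s _ c j hj, zero_pow (pow_pos hp0 _).ne', zero_mul]
      exact Subring.zero_mem _
    · rw [not_lt] at hj
      rw [Groth.Agent.H96.vShiftTeich_coeff_ge p m s _ c j hj]
      have := Groth.Agent.H96.key_unit p u m s j hj j.isLt i 0 (algebraMap S B (c.coeff ((j : ℕ) - s)))
      rw [add_zero] at this
      rw [this, zpow_zero, Units.val_one, mul_one, hSA, ← map_pow]
      exact ⟨_, rfl⟩
  · -- part 2
    intro c
    constructor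
    · intro h
      ext k
      rw [WittVector.coeff_truncate, TruncatedWittVector.coeff_zero]
      have hk := k.isLt
      have hj : s + (k : ℕ) < m := by omega
      have h1 := h ⟨s + (k : ℕ), hj⟩
      rw [Groth.Agent.H96.vShiftTeich_coeff_ge p m s _ c ⟨s + (k : ℕ), hj⟩ (by simp)] at h1
      have h2 := Groth.Agent.H96.key_unit p u m s (s + (k : ℕ)) (by omega) hj i (-1)
        (algebraMap S B (c.coeff (s + (k : ℕ) - s)))
      rw [← sub_eq_add_neg] at h2
      simp only at h1
      rw [h2, hSA, ← map_pow, ← map_pow] at h1
      have h3 := Groth.Agent.H96.ps_const_eq_zero u hu _ h1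
      have h4 := pow_eq_zero_iff (pow_pos hp0 _).ne' |>.mp h3
      rwa [Nat.add_sub_cancel_left] at h4
    · intro h j
      have hz : (WittFil.vShiftTeich p m s ((u ^ i : Bˣ) : B) c).coeff j = 0 := by
        by_cases hj : (j : ℕ) < s
        · exact Groth.Agent.H96.vShiftTeich_coeff_lt p m s _ c j hj
        · rw [not_lt] at hj
          rw [Groth.Agent.H96.vShiftTeich_coeff_ge p m s _ c j hj]
          have hjm := j.isLt
          have hk : (j : ℕ) - s < m - s := by omega
          have := congrArg (fun t => TruncatedWittVector.coeff ⟨(j : ℕ) - s, hk⟩ t) h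
          simp only [WittVector.coeff_truncate, TruncatedWittVector.coeff_zero] at this
          rw [this, map_zero, zero_mul]
      rw [hz, zero_pow (pow_pos hp0 _).ne', zero_mul]
      exact Subring.zero_mem _
  · -- part 3
    intro y hy
    obtain ⟨Y, rfl⟩ := WittVector.truncate_surjective p m B y
    have hw : ∀ k : Fin (m - s), Y.coeff (s + (k : ℕ)) * ((u ^ (-i) : Bˣ) : B) ^ p ^ (k : ℕ) ∈
        (algebraMap (PowerSeries S) B).range := by
      intro k
      have hk := k.isLt
      have hj : s + (k : ℕ) < m := by omega
      have h1 := hy ⟨s + (k : ℕ), hj⟩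
      rw [WittVector.coeff_truncate] at h1
      simp only at h1
      apply hroot _ (m - 1 - (s + (k : ℕ)))
      rw [mul_pow, Groth.Agent.H96.key_unit2 p u m s k hj i]
      exact h1
    choose α hα using hw
    set αt : WittVector p (PowerSeries S) :=
      WittVector.mk p (fun k => if h : k < m - s then α ⟨k, h⟩ else 0) with hαt
    clear_value αt
    set c : WittVector p S := WittVector.map (PowerSeries.constantCoeff (R := S)) αt with hc
    clear_value c
    refine ⟨c, ?_⟩
    unfold WittFil.vShiftTeich
    rw [← map_sub]
    set cB : WittVector p B := WittVector.map (algebraMap S B) c with hcB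
    clear_value cB
    set T : WittVector p B := WittVector.teichmuller p ((u ^ i : Bˣ) : B) with hT
    clear_value T
    set T' : WittVector p B := WittVector.teichmuller p ((u ^ (-i) : Bˣ) : B) with hT'
    clear_value T'
    have hTT' : T * T' = 1 := by
      rw [hT, hT', ← map_mul, ← Units.val_mul, ← zpow_add, add_neg_cancel, zpow_zero, Units.val_one,
        map_one]
    set Y2 : WittVector p B := (WittVector.tail s Y).shift s with hY2
    clear_value Y2
    have hYdec : Y = WittVector.init s Y + (WittVector.verschiebung)^[s] Y2 := by
      rw [hY2]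
      exact Groth.Agent.H96.eq_init_add_iterate_verschiebung p Y s
    set t : WittVector p B := Y2 - cB * T with ht
    clear_value t
    have hdec : Y - (WittVector.verschiebung)^[s] (cB * T) =
        WittVector.init s Y + (WittVector.verschiebung)^[s] t := by
      rw [ht, iterate_map_sub]
      conv_lhs => rw [hYdec]
      ring
    rw [hdec]
    apply Groth.Agent.H96.fil_add_mem p hroot
    · -- T1
      intro j
      rw [WittVector.coeff_truncate, Groth.Agent.H96.coeff_init']
      by_cases hj : (j : ℕ) < s
      · rw [if_pos hj]
        have h1 := hy j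
        rw [WittVector.coeff_truncate] at h1
        have hs0 : s ≠ 0 := by omega
        have hpi : ¬ ((p : ℤ) ∣ i) := hsi.resolve_left hs0
        have hjm := j.isLt
        have hnd : ¬ (((p ^ (m - 1 - (j : ℕ)) : ℕ) : ℤ) ∣ -((p : ℤ) ^ (m - 1 - s) * i)) := by
          intro hd
          rw [dvd_neg] at hd
          have e : m - 1 - (j : ℕ) = (m - 1 - s) + (s - (j : ℕ)) := by omega
          rw [Nat.cast_pow, e, pow_add] at hd
          have hp0' : ((p : ℤ) ^ (m - 1 - s)) ≠ 0 := pow_ne_zero _ (by exact_mod_cast hp0.ne')
          have hd' := (mul_dvd_mul_iff_left hp0').mp hd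
          exact hpi ((dvd_pow_self (p : ℤ) (by omega : s - (j : ℕ) ≠ 0)).trans hd')
        exact Groth.Agent.H96.single_step_of_star (PowerSeries.X : PowerSeries S) u hu hH
          (p ^ (m - 1 - (j : ℕ))) (pow_pos hp0 _) _ hnd _ h1
      · rw [if_neg hj, zero_pow (pow_pos hp0 _).ne', zero_mul]
        exact Subring.zero_mem _
    · -- T2
      -- the Witt vector `t * T'` is congruent to the image of `D`
      set W : WittVector p B := Y2 * T' with hW
      clear_value W
      have htT' : t * T' = W - cB := by
        rw [ht, hW, sub_mul, mul_assoc, hTT', mul_one]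
      set cA : WittVector p (PowerSeries S) := WittVector.map (PowerSeries.C (R := S)) c with hcA
      clear_value cA
      set D : WittVector p (PowerSeries S) := αt - cA with hD
      clear_value D
      have hcBA : cB = WittVector.map (algebraMap (PowerSeries S) B) cA := by
        ext n
        rw [hcB, hcA, WittVector.map_coeff, WittVector.map_coeff, WittVector.map_coeff, hSA]
      have hWtr : WittVector.truncate (m - s) W =
          WittVector.truncate (m - s) (WittVector.map (algebraMap (PowerSeries S) B) αt) := by
        ext k
        rw [WittVector.coeff_truncate, WittVector.coeff_truncate, hW, hT',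
          Groth.Agent.H96.mul_teichmuller_coeff, hY2, Groth.Agent.H96.shift_tail_coeff,
          WittVector.map_coeff, hαt, WittVector.coeff_mk, dif_pos k.isLt, hα]
      have hWD : WittVector.truncate (m - s) (W - cB) =
          WittVector.truncate (m - s) (WittVector.map (algebraMap (PowerSeries S) B) D) := by
        rw [hD, map_sub, map_sub, map_sub, hWtr, hcBA]
      have hD0 : WittVector.map (PowerSeries.constantCoeff (R := S)) D = 0 := by
        rw [hD, map_sub, ← hc, sub_eq_zero]
        ext n
        rw [hcA, WittVector.map_coeff, WittVector.map_coeff, PowerSeries.constantCoeff_C]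
      intro j
      rw [WittVector.coeff_truncate]
      by_cases hj : (j : ℕ) < s
      · rw [WittVector.iterate_verschiebung_coeff_eq_zero _ hj, zero_pow (pow_pos hp0 _).ne',
          zero_mul]
        exact Subring.zero_mem _
      · rw [not_lt] at hj
        obtain ⟨k, hk⟩ : ∃ k, (j : ℕ) = k + s := ⟨(j : ℕ) - s, (Nat.sub_add_cancel hj).symm⟩
        have hjm := j.isLt
        have hkm : k < m - s := by omega
        rw [hk, WittVector.iterate_verschiebung_coeff]
        -- coefficient of D
        have hDk : PowerSeries.constantCoeff (D.coeff k) = 0 := by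
          have := congrArg (fun z => WittVector.coeff z k) hD0
          simpa [WittVector.map_coeff] using this
        obtain ⟨d', hd'⟩ := PowerSeries.X_dvd_iff.mpr hDk
        have hWk : (W - cB).coeff k = algebraMap (PowerSeries S) B (D.coeff k) := by
          have := congrArg (fun z => TruncatedWittVector.coeff ⟨k, hkm⟩ z) hWD
          rw [WittVector.coeff_truncate, WittVector.coeff_truncate, WittVector.map_coeff] at this
          exact this
        have htk : t.coeff k = (W - cB).coeff k * ((u ^ i : Bˣ) : B) ^ p ^ k := by
          rw [← htT', hT', Groth.Agent.H96.mul_teichmuller_coeff, mul_assoc,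
            Groth.Agent.H96.unit_pow_mul_cancel, mul_one]
        have hsk : s ≤ k + s := by omega
        have hksm : k + s < m := by omega
        have h2 := Groth.Agent.H96.key_unit p u m s (k + s) hsk hksm i (-1) ((W - cB).coeff k)
        rw [Nat.add_sub_cancel, ← sub_eq_add_neg] at h2
        rw [htk, h2, hWk, hd']
        exact Groth.Agent.H96.ps_X_mul_pow_mem u hu d' _ (pow_pos hp0 _)

end Groth.Agent.S19268
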