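import Groth.Statements.S19272
import Groth.Agent.H96.WittFil
-- import your own Groth.Agent.* helpers here

set_option autoImplicit false
universe u
open WittFil

namespace Groth.Agent.S19272

/-- Let A be a unique factorisation domain of characteristic p, x_1, …, x_r pairwise non-associate prime
elements of A, B = A[1/(x_1⋯x_r)] with u_i the unit of B defined by x_i, m ≥ 0, and n ∈ ℤ^r with n_i
< 0 for every i. Then every truncated p-typical Witt vector of length m over B lying in the filtered
piece cut out by ∏ u_i ^ n_i (every coordinate y_j has y_j ^ (p ^ (m−1−j)) · ∏ u_i ^ n_i in the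
image of A) has all its coordinates in the image of the ideal (x_1⋯x_r)·A. (The published item,
stated for the filtered de Rham–Witt pieces in all degrees over a regular local ring, says only that
such vectors have all coordinates in A; this row states the divisibility of every coordinate by
x_1⋯x_r that its proof establishes, in degree zero, for a unique factorisation domain in place of a
regular local ring.) -/
theorem result (p : ℕ) [Fact p.Prime] {A B : Type u} [CommRing A] [IsDomain A]
    [UniqueFactorizationMonoid A] [CharP A p] [CommRing B] [Algebra A B] {r : ℕ} (x : Fin r → A)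
    (hx : ∀ i, Prime (x i)) (hxa : ∀ i j, Associated (x i) (x j) → i = j)
    [IsLocalization.Away (∏ i, x i) B] (u : Fin r → Bˣ)
    (hu : ∀ i, (u i : B) = algebraMap A B (x i)) (m : ℕ) (n : Fin r → ℤ) (hn : ∀ i, n i < 0)
    (a : TruncatedWittVector p m B) (ha : a ∈ WittFil.fil p m (A := A) (WittFil.zmon u n))
    (j : Fin m) :
    ∃ b : A, TruncatedWittVector.coeff j a = algebraMap A B ((∏ i, x i) * b) := by
  have hπ := Groth.Agent.H96.prod_primes_ne_zero x hx
  have hroot := Groth.Agent.H96.hroot_of_away (B := B) p (∏ i, x i) hπ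
  have hinj := Groth.Agent.H96.injective_of_away (B := B) (∏ i, x i) hπ
  set q := p ^ (m - 1 - (j : ℕ)) with hq
  have hqpos : 0 < q := pow_pos (Fact.out : p.Prime).pos _
  obtain ⟨α, hα⟩ := ha j
  -- the inverse monomial
  have hinv : WittFil.zmon u n * algebraMap A B (∏ i, x i ^ (-n i).toNat) = 1 := by
    unfold WittFil.zmon
    rw [map_prod]
    have : ∀ i, algebraMap A B (x i ^ (-n i).toNat) = ((u i ^ (-n i).toNat : Bˣ) : B) := by
      intro i
      rw [map_pow, ← hu i, Units.val_pow_eq_pow_val]
    simp only [this]
    rw [← Units.coe_prod, ← Units.val_mul, ← Finset.prod_mul_distrib]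
    have h1 : ∀ i ∈ (Finset.univ : Finset (Fin r)), u i ^ n i * u i ^ (-n i).toNat = 1 := by
      intro i _
      rw [← zpow_natCast, ← zpow_add, Int.toNat_of_nonneg (by have := hn i; omega)]
      simp
    rw [Finset.prod_congr rfl h1]
    simp
  have hpow : TruncatedWittVector.coeff j a ^ q = algebraMap A B (α * ∏ i, x i ^ (-n i).toNat) := by
    rw [map_mul, hα, mul_assoc, hinv, mul_one]
  obtain ⟨a', ha'⟩ := hroot _ _ ⟨_, hpow.symm⟩
  have hA : a' ^ q = α * ∏ i, x i ^ (-n i).toNat := by
    apply hinj
    rw [map_pow, ha', hpow]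
  have hdvd : ∀ i, x i ∣ a' := by
    intro i
    apply (hx i).dvd_of_dvd_pow (n := q)
    rw [hA]
    apply Dvd.dvd.mul_left
    apply Dvd.dvd.trans _ (Finset.dvd_prod_of_mem _ (Finset.mem_univ i))
    apply dvd_pow_self
    have := hn i
    omega
  have hrel : Pairwise (Function.onFun IsRelPrime x) := by
    intro i k hik
    apply ((hx i).irreducible.isRelPrime_iff_not_dvd).mpr
    intro hd
    exact hik (hxa i k ((hx i).associated_of_dvd (hx k) hd))
  obtain ⟨b, hb⟩ := Fintype.prod_dvd_of_isRelPrime hrel hdvd
  exact ⟨b, by rw [← hb, ha']⟩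

end Groth.Agent.S19272
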