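import Groth.Statements.S19273
import Mathlib
-- import your own Groth.Agent.* helpers here

set_option autoImplicit false
universe u
open CAlg

namespace Groth.Agent.S19273

open KaehlerDifferential in
/-- Let A be an integral domain of prime characteristic p, x_1, …, x_N elements of A, r ≤ N, B =
A[1/(x_1⋯x_r)] with u_i the unit of B defined by x_i for i ≤ r, and suppose that the module Ω_A of
absolute Kähler differentials of A is free with a basis b indexed by {1, …, N} ⊔ ι whose i-th vector
is d(x_i) for i ≤ N. Then the module of logarithmic 1-forms — the A-submodule of Ω_B spanned by the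
image of Ω_A and the forms u_i⁻¹ · d(x_i), i ≤ r — is a free A-module: it has a basis indexed by {1,
…, N} ⊔ ι whose vector at i ≤ r is u_i⁻¹ · d(x_i), at r < i ≤ N is d(x_i), and at k ∈ ι is the image
of b_k. (In the published statement A is a regular local F-finite algebra over the prime field with
maximal ideal (x_1, …, x_N), the basis of Ω_A comes from the preceding lemma, and the assertion
covers the logarithmic q-forms for all q together with their identification with the log de Rham
complex of the log ring; only the degree-one freeness is stated here, from the properties of A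
actually used.) -/
theorem result (p : ℕ) [Fact p.Prime]
    {A B : Type u} [CommRing A] [IsDomain A] [CharP A p] [CommRing B] [Algebra A B] {r N : ℕ}
    (hr : r ≤ N) (x : Fin N → A) [IsLocalization.Away (∏ i : Fin r, x (Fin.castLE hr i)) B]
    (u : Fin r → Bˣ) (hu : ∀ i, (u i : B) = algebraMap A B (x (Fin.castLE hr i)))
    {ι : Type u} (b : Module.Basis (Fin N ⊕ ι) A (Ω[A⁄ℤ])) (hb : ∀ i, b (Sum.inl i) = D ℤ A (x i)) :
    ∃ e : Module.Basis (Fin N ⊕ ι) A
        (W4c6katofilta.logForms1 (fun i : Fin r => x (Fin.castLE hr i)) u),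
      (∀ i : Fin r, (e (Sum.inl (Fin.castLE hr i)) : Ω[B⁄ℤ]) =
          ((u i)⁻¹ : Bˣ) • KaehlerDifferential.map ℤ ℤ A B (D ℤ A (x (Fin.castLE hr i)))) ∧
      (∀ i : Fin N, r ≤ (i : ℕ) →
          (e (Sum.inl i) : Ω[B⁄ℤ]) = KaehlerDifferential.map ℤ ℤ A B (D ℤ A (x i))) ∧
      (∀ k : ι, (e (Sum.inr k) : Ω[B⁄ℤ]) = KaehlerDifferential.map ℤ ℤ A B (b (Sum.inr k))) := by
  classical
  set f : A := ∏ i : Fin r, x (Fin.castLE hr i) with hf
  have hx0 : ∀ i, x i ≠ 0 := by
    intro i h0
    have h1 := b.ne_zero (Sum.inl i)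
    rw [hb, h0, map_zero] at h1
    exact h1 rfl
  have hf0 : f ≠ 0 := Finset.prod_ne_zero_iff.mpr (fun i _ => hx0 _)
  have hinj : Function.Injective (algebraMap A B) :=
    IsLocalization.injective B (M := Submonoid.powers f)
      (powers_le_nonZeroDivisors_of_noZeroDivisors hf0)
  -- the `B`-basis of `Ω_B`
  have : IsLocalizedModule (Submonoid.powers f) (KaehlerDifferential.map ℤ ℤ A B) :=
    KaehlerDifferential.isLocalizedModule_map ℤ A B (Submonoid.powers f)
  let bB : Module.Basis (Fin N ⊕ ι) B (Ω[B⁄ℤ]) :=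
    b.ofIsLocalizedModule B (Submonoid.powers f) (KaehlerDifferential.map ℤ ℤ A B)
  have hbB : ∀ j, bB j = KaehlerDifferential.map ℤ ℤ A B (b j) :=
    fun j => Module.Basis.ofIsLocalizedModule_apply _ _ _ _ _
  let c : Fin N ⊕ ι → Bˣ := fun j => match j with
    | Sum.inl i => if h : (i : ℕ) < r then (u ⟨i, h⟩)⁻¹ else 1
    | Sum.inr _ => 1
  let bB' : Module.Basis (Fin N ⊕ ι) B (Ω[B⁄ℤ]) := bB.unitsSMul c
  have hbB' : ∀ j, bB' j = c j • KaehlerDifferential.map ℤ ℤ A B (b j) := by
    intro j
    rw [← hbB]
    exact Module.Basis.unitsSMul_apply j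
  have hli : LinearIndependent A (fun j => bB' j) := by
    refine bB'.linearIndependent.restrict_scalars ?_
    intro a1 a2 h
    apply hinj
    simpa [Algebra.smul_def] using h
  -- values of the family
  have hv1 : ∀ i : Fin r, bB' (Sum.inl (Fin.castLE hr i)) =
      ((u i)⁻¹ : Bˣ) • KaehlerDifferential.map ℤ ℤ A B (D ℤ A (x (Fin.castLE hr i))) := by
    intro i
    rw [hbB', hb]
    have : c (Sum.inl (Fin.castLE hr i)) = (u i)⁻¹ := by
      show (if h : ((Fin.castLE hr i : Fin N) : ℕ) < r then (u ⟨_, h⟩)⁻¹ else 1) = (u i)⁻¹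
      rw [dif_pos (by simp)]
      rfl
    rw [this]
  have hv2 : ∀ i : Fin N, r ≤ (i : ℕ) →
      bB' (Sum.inl i) = KaehlerDifferential.map ℤ ℤ A B (D ℤ A (x i)) := by
    intro i hi
    rw [hbB', hb]
    have : c (Sum.inl i) = 1 := by
      show (if h : (i : ℕ) < r then (u ⟨_, h⟩)⁻¹ else 1) = 1
      rw [dif_neg (by omega)]
    rw [this, one_smul]
  have hv3 : ∀ k : ι, bB' (Sum.inr k) = KaehlerDifferential.map ℤ ℤ A B (b (Sum.inr k)) := by
    intro k
    rw [hbB']
    show (1 : Bˣ) • _ = _
    rw [one_smul]
  have hmem : ∀ j, KaehlerDifferential.map ℤ ℤ A B (b j) ∈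
      Submodule.span A (Set.range (fun j => bB' j)) := by
    intro j
    rcases j with i | k
    · by_cases hi : (i : ℕ) < r
      · have h1 := hv1 ⟨i, hi⟩
        have hcast : Fin.castLE hr ⟨i, hi⟩ = i := Fin.ext rfl
        rw [hcast] at h1
        have h2 : KaehlerDifferential.map ℤ ℤ A B (D ℤ A (x i)) = x i • bB' (Sum.inl i) := by
          rw [h1, Units.smul_def, ← algebraMap_smul B (x i), ← mul_smul]
          have : algebraMap A B (x i) * ((u ⟨i, hi⟩)⁻¹ : Bˣ) = 1 := by
            have := hu ⟨i, hi⟩
            rw [hcast] at this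
            rw [← this]
            exact Units.mul_inv _
          rw [this, one_smul]
        rw [hb, h2]
        exact Submodule.smul_mem _ _ (Submodule.subset_span ⟨_, rfl⟩)
      · rw [hb, ← hv2 i (by omega)]
        exact Submodule.subset_span ⟨_, rfl⟩
    · rw [← hv3 k]
      exact Submodule.subset_span ⟨_, rfl⟩
  have hspan : Submodule.span A (Set.range (fun j => bB' j)) =
      W4c6katofilta.logForms1 (fun i : Fin r => x (Fin.castLE hr i)) u := by
    apply le_antisymm
    · rw [Submodule.span_le]
      rintro _ ⟨j, rfl⟩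
      unfold W4c6katofilta.logForms1
      apply Submodule.subset_span
      rcases j with i | k
      · by_cases hi : (i : ℕ) < r
        · right
          refine ⟨⟨i, hi⟩, ?_⟩
          have h1 := hv1 ⟨i, hi⟩
          exact h1.symm
        · left
          exact ⟨_, (hv2 i (by omega)).symm⟩
      · left
        exact ⟨_, (hv3 k).symm⟩
    · unfold W4c6katofilta.logForms1
      rw [Submodule.span_le]
      rintro _ (⟨ω, rfl⟩ | ⟨i, rfl⟩)
      · have hω : ω ∈ Submodule.span A (Set.range b) := by rw [b.span_eq]; trivial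
        induction hω using Submodule.span_induction with
        | mem y hy =>
          obtain ⟨j, rfl⟩ := hy
          exact hmem j
        | zero => rw [map_zero]; exact Submodule.zero_mem _
        | add y z _ _ hy hz => rw [map_add]; exact Submodule.add_mem _ hy hz
        | smul a y _ hy => rw [map_smul]; exact Submodule.smul_mem _ a hy
      · exact Submodule.subset_span ⟨_, hv1 i⟩
  let e0 := Module.Basis.span hli
  let e := e0.map (LinearEquiv.ofEq _ _ hspan)
  have he : ∀ j, (e j : Ω[B⁄ℤ]) = bB' j := by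
    intro j
    show ((LinearEquiv.ofEq _ _ hspan (e0 j) : _) : Ω[B⁄ℤ]) = bB' j
    rw [LinearEquiv.coe_ofEq_apply]
    exact congrArg Subtype.val (Module.Basis.span_apply hli j)
  refine ⟨e, fun i => ?_, fun i hi => ?_, fun k => ?_⟩
  · rw [he]; exact hv1 i
  · rw [he]; exact hv2 i hi
  · rw [he]; exact hv3 k

end Groth.Agent.S19273
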