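import Groth.Statements.S19274
import Groth.Agent.H96.WittFil
-- import your own Groth.Agent.* helpers here

set_option autoImplicit false
universe u
open WittFil

namespace Groth.Agent.S19274

/-- Let A be a unique factorisation domain of characteristic p, x a prime element of A, B = A[1/x] with
u the unit of B defined by x, m ≥ 1, and n an integer NOT divisible by p^m. For e in B and k ≥ 0
write fil_k(e) for the set of truncated p-typical Witt vectors of length k over B whose j-th
coordinate y_j satisfies y_j ^ (p ^ (k−1−j)) · e ∈ A for all j < k (the filtered piece; fil_k(u^n)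
is the piece of index n). Then fil_{m+1}(u^n) is contained in fil_{m+1}(u^(n−1)) + V(fil_m(u^n))
(the reverse inclusion is immediate): every a in fil_{m+1}(u^n) can be written a = b + V(y) with b
in fil_{m+1}(u^(n−1)) and y a Witt vector over B whose length-m truncation lies in fil_m(u^n), V(y)
being truncated to length m+1. (In the source A is a henselian discrete valuation ring, n = p^r·l >
1 with p not dividing l, and the condition reads m ≥ r + 1.) -/
theorem result (p : ℕ) [Fact p.Prime]
    {A B : Type u} [CommRing A] [IsDomain A] [UniqueFactorizationMonoid A] [CharP A p]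
    [CommRing B] [Algebra A B] (x : A) (hx : Prime x) [IsLocalization.Away x B] (u : Bˣ)
    (hu : (u : B) = algebraMap A B x) (m : ℕ) (hm : 0 < m) (n : ℤ) (hn : ¬ ((p : ℤ) ^ m ∣ n)) :
    ∀ a ∈ WittFil.fil p (m + 1) (A := A) ((u ^ n : Bˣ) : B),
      ∃ b ∈ WittFil.fil p (m + 1) (A := A) ((u ^ (n - 1) : Bˣ) : B),
        ∃ y : WittVector p B,
          WittVector.truncate m y ∈ WittFil.fil p m (A := A) ((u ^ n : Bˣ) : B) ∧
            a = b + WittVector.truncate (m + 1) (WittVector.verschiebung y) := by
  have hπ : x ≠ 0 := hx.ne_zero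
  have : CharP B p := Groth.Agent.H96.charP_of_away p x hπ
  have hroot := Groth.Agent.H96.hroot_of_away (B := B) p x hπ
  have hp0 : 0 < p := (Fact.out : p.Prime).pos
  intro a ha
  obtain ⟨X, rfl⟩ := WittVector.truncate_surjective p (m + 1) B a
  set T : WittVector p B := WittVector.teichmuller p (X.coeff 0) with hT
  set Y : WittVector p B := X - T with hY
  have hY0 : ∀ i < 0 + 1, Y.coeff i = 0 := by
    intro i hi
    have : i = 0 := by omega
    subst this
    have h1 : (X - T).coeff 0 = X.coeff 0 - T.coeff 0 := map_sub (WittVector.constantCoeff (p := p) (R := B)) X T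
    rw [hY, h1, hT, WittVector.teichmuller_coeff_zero, sub_self]
  have hVy : WittVector.verschiebung (Y.shift 1) = Y := by
    rw [WittVector.verschiebung_shift Y 0 hY0]
    ext k
    rw [WittVector.shift_coeff, zero_add]
  -- b lies in the smaller piece
  have hX0 : X.coeff 0 ^ p ^ m * ((u ^ n : Bˣ) : B) ∈ (algebraMap A B).range := by
    have h := ha 0
    rw [WittVector.coeff_truncate] at h
    simpa using h
  have hpm : ¬ (((p ^ m : ℕ) : ℤ) ∣ n) := by
    rw [Nat.cast_pow]; exact hn
  have hb0 := Groth.Agent.H96.single_prime_step x hx u hu (p ^ m) (pow_pos hp0 m) n hpm _ hX0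
  have hTfil : ∀ (c : B), X.coeff 0 ^ p ^ m * c ∈ (algebraMap A B).range →
      WittVector.truncate (m + 1) T ∈ WittFil.fil p (m + 1) (A := A) c := by
    intro c hc j
    rw [WittVector.coeff_truncate]
    by_cases hj : (j : ℕ) = 0
    · rw [hj, hT, WittVector.teichmuller_coeff_zero]
      simpa using hc
    · rw [hT, WittVector.teichmuller_coeff_pos p _ _ (Nat.pos_of_ne_zero hj),
        zero_pow (pow_pos hp0 _).ne', zero_mul]
      exact Subring.zero_mem _
  refine ⟨WittVector.truncate (m + 1) T, hTfil _ hb0, Y.shift 1, ?_, ?_⟩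
  · -- a - b lies in fil (m+1) (u^n), and it is V y
    have hab : WittVector.truncate (m + 1) Y ∈ WittFil.fil p (m + 1) (A := A) ((u ^ n : Bˣ) : B) := by
      have hb := hTfil _ hX0
      rw [Groth.Agent.H96.mem_fil_iff_twist p hroot] at ha hb
      rw [hY, Groth.Agent.H96.mem_fil_iff_twist p hroot, Groth.Agent.H96.filTwist_sub, map_sub]
      exact Subring.sub_mem _ ha hb
    intro j
    have h := hab ⟨(j : ℕ) + 1, Nat.succ_lt_succ j.isLt⟩
    rw [WittVector.coeff_truncate] at h ⊢
    simp only at h
    rw [← hVy, WittVector.verschiebung_coeff_succ] at h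
    have e : m + 1 - 1 - ((j : ℕ) + 1) = m - 1 - (j : ℕ) := by omega
    rw [e] at h
    exact h
  · rw [hVy, ← map_add, hY]
    congr 1
    ring

end Groth.Agent.S19274
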