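import Groth.Statements.S19275
import Groth.Agent.H83.HochBC

set_option autoImplicit false
universe u v w
open Hoch

namespace Groth.Agent.S19275

open TensorProduct in
/-- In the case of an affine group scheme over a field (a K-groupoid acting on Spec K itself),
cohomology commutes with arbitrary base change. Precisely: let K be a field, A a commutative Hopf
algebra over K (the coordinate ring of an affine K-group scheme G), V a right A-comodule (a linear
representation of G) and R any commutative K-algebra. Give R ⊗ V the base-changed comodule structure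
over the R-bialgebra R ⊗ A, whose coaction sends r ⊗ v to the image of r ⊗ ρ(v) under the canonical
identification of R ⊗ (V ⊗ A) with (R ⊗ V) ⊗_R (R ⊗ A), and let φ_n : R ⊗ C^n(A, V) → C^n(R ⊗ A, R ⊗
V) be the canonical R-linear maps between the Hochschild cochain modules, determined by φ_0 = id and
φ_{n+1}(r ⊗ (c ⊗ a)) = φ_n(r ⊗ c) ⊗ (1 ⊗ a). Then every φ_n is bijective, the φ_n commute with the
Hochschild differentials, and for every n there is an R-linear isomorphism R ⊗ H^n(A, V) ≅ H^n(R ⊗
A, R ⊗ V) sending r ⊗ [z] to [φ_n(r ⊗ z)] for every n-cocycle z. (The published statement is for an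
affine K-groupoid acting on the spectrum of a finite extension L of K and its coherent
representations, with K of characteristic 0; this is its case L = K, in which the cochain complex of
a representation is the Hochschild complex of the comodule; V is not assumed finite-dimensional and
K may be any field.) -/
theorem result
    (K : Type u) [Field K] (A : Type v) [CommRing A] [HopfAlgebra K A]
    (V : Type v) [AddCommGroup V] [Module K V] [HopfRep.Comod K A V]
    (R : Type w) [CommRing R] [Algebra K R]
    (φ : ∀ n : ℕ, R ⊗[K] (Hoch.cochain K A V n) →ₗ[R] (Hoch.cochain R (R ⊗[K] A) (R ⊗[K] V) n))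
    (hφ0 : ∀ x : R ⊗[K] V, φ 0 x = x)
    (hφs : ∀ (n : ℕ) (r : R) (c : Hoch.cochain K A V n) (a : A),
      φ (n + 1) (r ⊗ₜ[K] (c ⊗ₜ[K] a)) = (φ n (r ⊗ₜ[K] c)) ⊗ₜ[R] ((1 : R) ⊗ₜ[K] a)) :
    letI := CoactBr.Comod.baseChange K R A V
    (∀ n : ℕ, Function.Bijective (φ n)) ∧
    (∀ (n : ℕ) (x : R ⊗[K] (Hoch.cochain K A V n)),
        φ (n + 1) ((Hoch.d K A V n).baseChange R x) = Hoch.d R (R ⊗[K] A) (R ⊗[K] V) n (φ n x)) ∧
      ∀ n : ℕ, ∃ e : R ⊗[K] Hoch.H K A V n ≃ₗ[R] Hoch.H R (R ⊗[K] A) (R ⊗[K] V) n,
        ∀ (r : R) (z : Hoch.cocycles K A V n)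
          (hz : φ n (r ⊗ₜ[K] (z : Hoch.cochain K A V n)) ∈ Hoch.cocycles R (R ⊗[K] A) (R ⊗[K] V) n),
          e (r ⊗ₜ[K] Hoch.H.mk K A V n z) = Hoch.H.mk R (R ⊗[K] A) (R ⊗[K] V) n ⟨φ n (r ⊗ₜ[K] (z : Hoch.cochain K A V n)), hz⟩ := by
  let _ := CoactBr.Comod.baseChange K R A V
  have hφ : ∀ n : ℕ, φ n = (Groth.Agent.H83.HochBC.Phi K A V R n).toLinearMap :=
    Groth.Agent.H83.HochBC.eq_Phi K A V R φ hφ0 hφs
  have hcomm := Groth.Agent.H83.HochBC.comm K A V R
  refine ⟨fun n => ?_, fun n x => ?_, fun n => ?_⟩
  · rw [hφ n]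
    exact (Groth.Agent.H83.HochBC.Phi K A V R n).bijective
  · rw [hφ n, hφ (n + 1)]
    exact hcomm n x
  · have hB : Hoch.coboundaries R (R ⊗[K] A) (R ⊗[K] V) n =
        Submodule.map (Groth.Agent.H83.HochBC.Phi K A V R n).toLinearMap
          (LinearMap.range ((Hoch.coboundaries K A V n).subtype.baseChange R)) := by
      cases n with
      | zero =>
        change (⊥ : Submodule R (R ⊗[K] V)) = _
        symm
        rw [eq_bot_iff]
        rintro _ ⟨_, ⟨y, rfl⟩, rfl⟩
        have hy : y = 0 := by
          induction y using TensorProduct.induction_on with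
          | zero => rfl
          | tmul r b =>
            have hb : b = 0 := Subsingleton.elim (α := ((⊥ : Submodule K V) : Type v)) _ _
            rw [hb, TensorProduct.tmul_zero]
          | add x y hx hy => rw [hx, hy, add_zero]
        rw [hy, map_zero]
        exact Submodule.zero_mem _
      | succ m =>
        change LinearMap.range (Hoch.d R (R ⊗[K] A) (R ⊗[K] V) m) = _
        apply le_antisymm
        · rintro _ ⟨y, rfl⟩
          obtain ⟨x, rfl⟩ := (Groth.Agent.H83.HochBC.Phi K A V R m).surjective y
          rw [← hcomm m x]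
          refine ⟨(Hoch.d K A V m).baseChange R x, ?_, rfl⟩
          have hfac : Hoch.d K A V m =
              (LinearMap.range (Hoch.d K A V m)).subtype ∘ₗ (Hoch.d K A V m).rangeRestrict := rfl
          rw [hfac, LinearMap.baseChange_comp]
          exact ⟨_, rfl⟩
        · rintro _ ⟨_, ⟨y, rfl⟩, rfl⟩
          have hs : Function.Surjective ((Hoch.d K A V m).rangeRestrict.baseChange R) := by
            rw [LinearMap.baseChange_eq_ltensor]
            exact LinearMap.lTensor_surjective R (LinearMap.surjective_rangeRestrict _)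
          obtain ⟨x, rfl⟩ := hs y
          have hfac : (LinearMap.range (Hoch.d K A V m)).subtype ∘ₗ
              (Hoch.d K A V m).rangeRestrict = Hoch.d K A V m := rfl
          have h2 : (LinearMap.range (Hoch.d K A V m)).subtype.baseChange R
              ((Hoch.d K A V m).rangeRestrict.baseChange R x) = (Hoch.d K A V m).baseChange R x := by
            rw [Groth.Agent.H83.FlatQuot.baseChange_comp_apply, hfac]
          change (Groth.Agent.H83.HochBC.Phi K A V R (m + 1))
            ((LinearMap.range (Hoch.d K A V m)).subtype.baseChange R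
              ((Hoch.d K A V m).rangeRestrict.baseChange R x)) ∈ _
          rw [h2, hcomm m x]
          exact ⟨_, rfl⟩
    obtain ⟨e, he⟩ := Groth.Agent.H83.FlatQuot.exists_equiv (Hoch.d K A V n)
      (Hoch.coboundaries K A V n) (Hoch.d R (R ⊗[K] A) (R ⊗[K] V) n)
      (Hoch.coboundaries R (R ⊗[K] A) (R ⊗[K] V) n)
      (Groth.Agent.H83.HochBC.Phi K A V R n) (Groth.Agent.H83.HochBC.Phi K A V R (n + 1))
      (hcomm n) hB
    refine ⟨e, fun r z hz => ?_⟩
    obtain rfl : φ = fun n => ((Groth.Agent.H83.HochBC.Phi K A V R n).toLinearMap) := funext hφ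
    exact he r z hz

end Groth.Agent.S19275
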