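import Groth.Statements.S19276
import Groth.Agent.H28.GrpAlgCyc

set_option autoImplicit false
universe u v
open GrpAlg

namespace Groth.Agent.S19276

/-- Let `A` be a finite commutative group and `Λ` a commutative ring in which the order of `A` is
invertible. Then the ring homomorphism from the group ring `Λ[A]` to the product, over the subgroups
`B` of `A` with cyclic quotient, of the cyclotomic quotients `Λ[A ⧸ B]/(Φ_{|A/B|})`, each component
induced by `A → A/B`, is bijective. (In terms of group schemes: `Λ[A]` is the representation ring
with coefficients in `Λ` of the finite diagonalizable group with character group `A`, the factors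
are indexed by its dual cyclic subgroups, i.e. those isomorphic to some `μ_n`, and the components
are restriction followed by the cyclotomic quotient. The published statement takes `Λ = ℤ[1/|A|]`;
here `Λ` is any commutative ring in which `|A|` is invertible.) -/
theorem result (Λ : Type u) [CommRing Λ] (A : Type v)
    [AddCommGroup A] [Finite A] (hA : IsUnit ((Nat.card A : ℕ) : Λ)) :
    Function.Bijective (RingHom.pi fun B : {B : AddSubgroup A // IsAddCyclic (A ⧸ B)} =>
      W4c6equivkfinstab.cycQuotMap Λ A B.1) := by
  classical
  have hu : IsUnit (((⊥ : AddSubgroup A).index : ℕ) : Λ) := by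
    rw [AddSubgroup.index_bot]; exact hA
  constructor
  · rw [injective_iff_map_eq_zero]
    intro x hx
    have h1 : W4c6equivkfinstab.quotMap Λ A ⊥ x = 0 := by
      apply Groth.Agent.H28.GrpAlgCyc.quotMap_eq_zero_of_forall_cycQuotMap_eq_zero Λ ⊥ hu
      intro B _ hB
      exact congrFun hx ⟨B, hB⟩
    have hinj : Function.Injective (QuotientAddGroup.mk' (⊥ : AddSubgroup A)) := by
      rw [← AddMonoidHom.ker_eq_bot_iff, QuotientAddGroup.ker_mk']
    have h2 : Function.Injective (W4c6equivkfinstab.quotMap Λ A ⊥) :=
      AddMonoidAlgebra.mapDomain_injective hinj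
    exact h2 (by rw [h1, map_zero])
  · intro y
    obtain ⟨x, hx⟩ := Groth.Agent.H28.GrpAlgCyc.exists_forall_cycQuotMap_eq Λ ⊥ hu
      (fun B : {B : AddSubgroup A // IsAddCyclic (A ⧸ B)} => B.1) Subtype.val_injective
      (fun _ => bot_le) (fun B => B.2) y
    exact ⟨x, funext hx⟩

end Groth.Agent.S19276
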