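import Groth.Statements.S19279
import Groth.Agent.H28.GrpAlgCyc

set_option autoImplicit false
universe u v
open GrpAlg

namespace Groth.Agent.S19279

/-- Let `M` be a commutative group, `B₀` a subgroup of finite index and `Λ` a commutative ring in which
the index of `B₀` is invertible. Then the `Λ[M]`-linear map from `Λ[M ⧸ B₀]` to the product, over
the subgroups `B ⊇ B₀` with `M ⧸ B` cyclic, of the localizations of `Λ[M ⧸ B₀]` at the
multiplicative subsets of `Λ[M]` of elements with image `1` in `Λ[M ⧸ B]/(Φ_{|M/B|})`, with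
components the localization maps, is bijective. (In terms of group schemes: for a finite closed
subgroup T' = D(M/B₀) of the diagonalizable group with character group `M`, the representation ring
of T' with coefficients in `Λ` is the product of its localizations at the dual cyclic subgroups of
T'. The published statement has a split torus and `Λ = ℤ[1/|T'|]`; here `M` is any commutative group
and `Λ` any commutative ring in which the order of T' is invertible.) -/
theorem result (Λ : Type u) [CommRing Λ]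
    (M : Type v) [AddCommGroup M] (B₀ : AddSubgroup M) [B₀.FiniteIndex]
    (hu : IsUnit ((B₀.index : ℕ) : Λ)) :
    Function.Bijective (LinearMap.pi (R := AddMonoidAlgebra Λ M)
      fun B : {B : AddSubgroup M // B₀ ≤ B ∧ IsAddCyclic (M ⧸ B)} =>
        LocalizedModule.mkLinearMap (W4c6equivkfinstab.locSubmonoid Λ M B.1)
          (AddMonoidAlgebra Λ (M ⧸ B₀))) := by
  classical
  obtain ⟨ε, hε1, hε0⟩ := Groth.Agent.H28.GrpAlgCyc.exists_orthogonal Λ B₀ hu
  have hfin := Groth.Agent.H28.GrpAlgCyc.finite_cyclic_subgroups_ge (M := M) B₀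
  cases nonempty_fintype {B : AddSubgroup M // B₀ ≤ B ∧ IsAddCyclic (M ⧸ B)}
  constructor
  · rw [injective_iff_map_eq_zero]
    intro z hz
    have h1 : ∀ i : {B : AddSubgroup M // B₀ ≤ B ∧ IsAddCyclic (M ⧸ B)},
        ∃ s : W4c6equivkfinstab.locSubmonoid Λ M i.1, s • z = 0 := by
      intro i
      have h := congrFun hz i
      exact (IsLocalizedModule.eq_zero_iff (W4c6equivkfinstab.locSubmonoid Λ M i.1)
        (LocalizedModule.mkLinearMap _ _)).mp h
    choose s hs using h1
    have h2 : z = (∑ i, ε i * (s i : AddMonoidAlgebra Λ M)) • z := by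
      conv_lhs => rw [← one_smul (AddMonoidAlgebra Λ M) z]
      apply Groth.Agent.H28.GrpAlgCyc.smul_eq_smul_of_forall Λ B₀ hu
      intro B hB hc
      rw [map_one, map_sum, Finset.sum_eq_single ⟨B, hB, hc⟩]
      · have e1 : W4c6equivkfinstab.cycQuotMap Λ M B (ε ⟨B, hB, hc⟩) = 1 := hε1 ⟨B, hB, hc⟩
        have e2 : W4c6equivkfinstab.cycQuotMap Λ M B
            (s ⟨B, hB, hc⟩ : AddMonoidAlgebra Λ M) = 1 := (s ⟨B, hB, hc⟩).2
        rw [map_mul, e1, e2, one_mul]
      · intro j _ hj
        have e0 : W4c6equivkfinstab.cycQuotMap Λ M B (ε j) = 0 := hε0 j ⟨B, hB, hc⟩ hj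
        rw [map_mul, e0, zero_mul]
      · intro h
        exact absurd (Finset.mem_univ _) h
    rw [h2, Finset.sum_smul]
    apply Finset.sum_eq_zero
    intro i _
    rw [mul_smul]
    have h3 : (s i : AddMonoidAlgebra Λ M) • z = 0 := hs i
    rw [h3, smul_zero]
  · intro w
    have h1 : ∀ i : {B : AddSubgroup M // B₀ ≤ B ∧ IsAddCyclic (M ⧸ B)},
        ∃ (m : AddMonoidAlgebra Λ (M ⧸ B₀)) (t : W4c6equivkfinstab.locSubmonoid Λ M i.1),
          w i = LocalizedModule.mk m t := by
      intro i
      induction w i using LocalizedModule.induction_on with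
      | _ m t => exact ⟨m, t, rfl⟩
    choose m t hmt using h1
    refine ⟨∑ j, ε j • m j, funext fun i => ?_⟩
    rw [LinearMap.pi_apply, LocalizedModule.mkLinearMap_apply, hmt i, LocalizedModule.mk_eq]
    refine ⟨⟨ε i, hε1 i⟩, ?_⟩
    have hti : W4c6equivkfinstab.cycQuotMap Λ M i.1 (t i : AddMonoidAlgebra Λ M) = 1 := (t i).2
    simp only [Submonoid.smul_def, one_smul]
    rw [Finset.smul_sum, Finset.smul_sum, Finset.sum_eq_single i]
    · rw [← mul_smul, ← mul_smul]
      apply Groth.Agent.H28.GrpAlgCyc.smul_eq_smul_of_forall Λ B₀ hu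
      intro B hB hc
      by_cases h : (⟨B, hB, hc⟩ : {B : AddSubgroup M // B₀ ≤ B ∧ IsAddCyclic (M ⧸ B)}) = i
      · subst h
        have e1 : W4c6equivkfinstab.cycQuotMap Λ M B (ε ⟨B, hB, hc⟩) = 1 := hε1 ⟨B, hB, hc⟩
        have e2 : W4c6equivkfinstab.cycQuotMap Λ M B
            (t ⟨B, hB, hc⟩ : AddMonoidAlgebra Λ M) = 1 := hti
        rw [map_mul, map_mul, e1, e2, one_mul, one_mul]
      · have e0 : W4c6equivkfinstab.cycQuotMap Λ M B (ε i) = 0 :=
          hε0 i ⟨B, hB, hc⟩ (Ne.symm h)
        rw [map_mul, map_mul, e0, zero_mul, zero_mul]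
    · intro j _ hj
      rw [← mul_smul, ← mul_smul]
      apply Groth.Agent.H28.GrpAlgCyc.smul_eq_zero_of_forall Λ B₀ hu
      intro B hB hc
      by_cases h : (⟨B, hB, hc⟩ : {B : AddSubgroup M // B₀ ≤ B ∧ IsAddCyclic (M ⧸ B)}) = i
      · subst h
        have e0 : W4c6equivkfinstab.cycQuotMap Λ M B (ε j) = 0 := hε0 j ⟨B, hB, hc⟩ hj
        rw [map_mul, e0, mul_zero]
      · have e0 : W4c6equivkfinstab.cycQuotMap Λ M B (ε i) = 0 :=
          hε0 i ⟨B, hB, hc⟩ (Ne.symm h)
        rw [map_mul, map_mul, e0, zero_mul, zero_mul]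
    · intro h
      exact absurd (Finset.mem_univ _) h

end Groth.Agent.S19279
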