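import Groth.Statements.S19281
import Groth.Agent.H40.MuSubGL2

set_option autoImplicit false
universe u
open CategoryTheory MonoidalCategory CartesianMonoidalCategory MonObj GrpObj AlgebraicGeometry
open AlgGrp

namespace Groth.Agent.S19281

/-- Let `k` be a field with an algebraic closure `K`, `m ≥ 0`, `n > 0`, and let `σ'` be a closed
subgroup scheme of the base change of `GL_{m,k}` to `K` which is isomorphic as a `K`-group scheme to
`μ_n = D(ℤ/n)`. Then there are a closed subgroup scheme `σ` of `GL_{m,k}` isomorphic to `μ_n` over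
`k`, a `K`-point `g` of `GL_m` and an isomorphism `σ' ≅ σ_K` through which conjugation by `g`
carries the inclusion of `σ'` to the base change of the inclusion of `σ`. (This is the second
rationality condition, stated for all dual cyclic subgroups rather than only for those with a fixed
point on a given algebraic space, which is what the printed argument establishes and which gives the
printed statement for every action of `GL_m`.) -/
theorem result (k : Type u) [Field k]
    (K : Type u) [Field K] [Algebra k K] [IsAlgClosure k K] (m n : ℕ) (hn : 0 < n)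
    (σ' : Over (Spec (CommRingCat.of K))) [GrpObj σ']
    (i' : σ' ⟶ Red.bc (Spec.map (CommRingCat.ofHom (algebraMap k K))) (CoactBr.sp k (CoordGrp.GLn m k)))
    [IsMonHom i'] (hi' : IsClosedImmersion i'.left) (hσ' : Red.IsSplitTorusWith (ZMod n) σ') :
    ∃ (σ : Over (Spec (CommRingCat.of k))) (_ : GrpObj σ) (i : σ ⟶ CoactBr.sp k (CoordGrp.GLn m k))
      (_ : IsMonHom i), IsClosedImmersion i.left ∧ Red.IsSplitTorusWith (ZMod n) σ ∧
      ∃ (g : 𝟙_ (Over (Spec (CommRingCat.of K))) ⟶
          Red.bc (Spec.map (CommRingCat.ofHom (algebraMap k K))) (CoactBr.sp k (CoordGrp.GLn m k)))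
        (φ : σ' ≅ Red.bc (Spec.map (CommRingCat.ofHom (algebraMap k K))) σ),
        AGF.conjBy g i' = φ.hom ≫ (Over.pullback (Spec.map (CommRingCat.ofHom (algebraMap k K)))).map i := by
  haveI : NeZero n := ⟨hn.ne'⟩
  obtain ⟨e⟩ := hσ'
  let ψ : Red.DS (Spec (CommRingCat.of K)) (ZMod n) ≅ σ' := ((Grp.forget _).mapIso e).symm
  haveI : IsMonHom ψ.hom := inferInstanceAs (IsMonHom e.inv.hom.hom)
  haveI : Mono i'.left := inferInstance
  haveI : Mono i' := Over.mono_of_mono_left i'
  obtain ⟨_, _, c, Q, Q', h1, h2, hconj⟩ :=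
    Groth.Agent.H40.MuSubGL.exists_weights (k := k) (K := K) (ψ.hom ≫ i')
  have hc := Groth.Agent.H40.MuSubGL.closure_eq_top_of_mono (ψ.hom ≫ i') c Q Q' h1 h2 hconj
  obtain ⟨g, hg⟩ := Groth.Agent.H40.MuSubGL.exists_point k K m Q Q' h1
  obtain ⟨θ, hθ⟩ := Groth.Agent.H40.DiagEmb.exists_theta
    (Spec.map (CommRingCat.ofHom (algebraMap k K))) (ZMod n)
  refine ⟨Red.DS (Spec (CommRingCat.of k)) (ZMod n), inferInstance,
    Groth.Agent.H40.DiagEmb.iDiag k c, inferInstance,
    Groth.Agent.H40.DiagEmb.isClosedImmersion_iDiag c hc, ⟨Iso.refl _⟩, g, ψ.symm ≪≫ θ, ?_⟩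
  rw [← cancel_epi ψ.hom]
  have e1 : ψ.hom ≫ AGF.conjBy g i' =
      (toUnit _ ≫ g) * (ψ.hom ≫ i') * (toUnit _ ≫ g)⁻¹ :=
    Groth.Agent.H40.GLnPts.comp_conjBy g i' ψ.hom
  rw [e1]
  simp only [Iso.trans_hom, Iso.symm_hom, Category.assoc, Iso.hom_inv_id_assoc]
  apply Groth.Agent.H40.GLnPts.glMatB_injective (Spec.map (CommRingCat.ofHom (algebraMap k K)))
  rw [Groth.Agent.H40.MuSubGL.glMatB_conj g Q Q' h1 h2 hg, Groth.Agent.H40.GLnPts.glMatB_map,
    Groth.Agent.H40.DiagEmb.glMat_iDiag]
  have h3 := hconj (𝟙 _)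
  rw [Category.id_comp] at h3
  rw [h3]
  congr 1
  funext j
  have h4 := hθ (𝟙 _) (c j)
  rw [Category.id_comp] at h4
  exact h4.symm

end Groth.Agent.S19281
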