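import Groth.Statements.S19309
import Groth.Agent.H75.LaurentExt

set_option autoImplicit false
universe u
open PowerSeries LaurentSeries
open CAlg

namespace Groth.Agent.S19309

/-- Let k be a field, R a commutative k-algebra, B a finitely presented R⟦X⟧-algebra (an affine scheme V
= Spec B of finite presentation over the disc D_R = Spec R⟦X⟧) and s : B → R((X)) an R⟦X⟧-algebra
map (a section of V over the punctured disc). Then there is an ideal I of R such that for every ring
map φ : R → R', writing θ : R((X)) → R'((X)) for the ring map compatible with R⟦X⟧ → R'⟦X⟧, the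
section s extends to a section over D_{R'} — an R⟦X⟧-algebra map s' : B → R'⟦X⟧ whose composite with
R'⟦X⟧ → R'((X)) is θ ∘ s — if and only if φ kills I. In other words the sub-presheaf of Spec R where
s extends over the disc is the closed subscheme defined by I. -/
theorem result
    (k : Type u) [Field k] (R : Type u) [CommRing R] [Algebra k R]
    (B : Type u) [CommRing B] [Algebra R⟦X⟧ B] [Algebra.FinitePresentation R⟦X⟧ B]
    (s : B →ₐ[R⟦X⟧] R⸨X⸩) :
    ∃ I : Ideal R, ∀ (R' : Type u) [CommRing R'] (φ : R →+* R') (θ : R⸨X⸩ →+* R'⸨X⸩),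
      θ.comp (algebraMap R⟦X⟧ R⸨X⸩) = (algebraMap R'⟦X⟧ R'⸨X⸩).comp (PowerSeries.map φ) →
      ((∃ s' : B →+* R'⟦X⟧, s'.comp (algebraMap R⟦X⟧ B) = PowerSeries.map φ ∧
          (algebraMap R'⟦X⟧ R'⸨X⸩).comp s' = θ.comp s.toRingHom) ↔ I ≤ RingHom.ker φ) := by
  classical
  refine ⟨Ideal.span {r | ∃ (b : B) (j : ℤ), j < 0 ∧ r = (s b).coeff j}, ?_⟩
  intro R' _ φ θ hθ
  have hinj : Function.Injective (algebraMap R'⟦X⟧ R'⸨X⸩) := by
    rw [LaurentSeries.coe_algebraMap]
    exact HahnSeries.ofPowerSeries_injective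
  constructor
  · rintro ⟨s', h1, h2⟩
    rw [Ideal.span_le]
    rintro r ⟨b, j, hj, rfl⟩
    show φ ((s b).coeff j) = 0
    rw [← Groth.Agent.H75.laurent_coeff_map φ θ hθ]
    have := RingHom.congr_fun h2 b
    have e : θ (s b) = algebraMap R'⟦X⟧ R'⸨X⸩ (s' b) := this.symm
    rw [e, LaurentSeries.coe_algebraMap]
    change ((s' b : R'⟦X⟧) : R'⸨X⸩).coeff j = 0
    rw [PowerSeries.coeff_coe, if_pos hj]
  · intro hI
    have hneg : ∀ (b : B) (j : ℤ), j < 0 → (θ (s b)).coeff j = 0 := by
      intro b j hj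
      rw [Groth.Agent.H75.laurent_coeff_map φ θ hθ]
      exact hI (Ideal.subset_span ⟨b, j, hj, rfl⟩)
    let g : B → R'⟦X⟧ := fun b => PowerSeries.mk fun n : ℕ => (θ (s b)).coeff n
    have hg : ∀ b, algebraMap R'⟦X⟧ R'⸨X⸩ (g b) = θ (s b) := by
      intro b
      rw [LaurentSeries.coe_algebraMap]
      exact (Groth.Agent.H75.laurent_eq_coe_of_neg_coeff_zero (θ (s b)) (hneg b)).symm
    let s' : B →+* R'⟦X⟧ :=
      { toFun := g
        map_one' := hinj (by rw [hg, map_one, map_one, map_one])
        map_mul' := fun a b => hinj (by rw [hg, map_mul, map_mul, map_mul, hg, hg])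
        map_zero' := hinj (by rw [hg, map_zero, map_zero, map_zero])
        map_add' := fun a b => hinj (by rw [hg, map_add, map_add, map_add, hg, hg]) }
    refine ⟨s', ?_, ?_⟩
    · ext1 f
      apply hinj
      show algebraMap R'⟦X⟧ R'⸨X⸩ (g (algebraMap R⟦X⟧ B f)) = _
      rw [hg, s.commutes]
      exact RingHom.congr_fun hθ f
    · ext1 b
      exact hg b

end Groth.Agent.S19309
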