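import Groth.Statements.S19325
import Groth.Agent.H83.StabIdeal

set_option autoImplicit false
universe u
open GLin

namespace Groth.Agent.S19325

/-- Let k be a field and G = Spec A a finite linearly reductive group scheme over k acting on the
polynomial ring in finitely many variables through a multiplicative, linear coaction that is
faithful on linear forms. Let H be the closed subgroup scheme generated by the pseudo-reflections of
G, i.e. the one whose ideal is the supremum of all Hopf ideals contained in every pseudo-reflection
ideal (a pseudo-reflection ideal being a Hopf ideal whose subgroup scheme fixes a subspace of linear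
forms of codimension exactly one). Then a polynomial is invariant under H exactly when it is
invariant under every pseudo-reflection: the invariants for the ideal of H are the intersection,
over the pseudo-reflection ideals I, of the invariants for I. -/
theorem result
    {k : Type u} [Field k] {A : Type u} [CommRing A] [HopfAlgebra k A] [Module.Finite k A]
    (hG : HopfRep.IsLinearlyReductive k A)
    {ι : Type u} [Fintype ι] [HopfRep.Comod k A (MvPolynomial ι k)]
    [GLin.IsCoactAlg k A (MvPolynomial ι k)]
    (hlin : GLin.IsLinear k A ι) (hf : GLin.IsFaithfulLin k A ι) :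
    GLin.quotInvariants k A (MvPolynomial ι k) (GLin.genIdeal k A ι) =
      ⨅ (I : Ideal A) (_ : GLin.IsPseudoRefl k A ι I), GLin.quotInvariants k A (MvPolynomial ι k) I := by
  classical
  apply le_antisymm
  · refine le_iInf fun I => le_iInf fun hI => ?_
    have hle : GLin.genIdeal k A ι ≤ I := sSup_le fun J hJ => hJ.2 I hI
    exact Groth.Agent.H83.Stab.quotInvariants_mono hle
  · intro f hf
    obtain ⟨F, hF⟩ : ∃ F : Submodule k (MvPolynomial ι k), F =
        ⨅ (I : Ideal A) (_ : GLin.IsPseudoRefl k A ι I),
          GLin.quotInvariants k A (MvPolynomial ι k) I := ⟨_, rfl⟩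
    rw [← hF] at hf
    have hJ := Groth.Agent.H83.Stab.isHopfIdeal_stabIdeal (k := k) (A := A)
      (F : Set (MvPolynomial ι k))
    have h1 : Groth.Agent.H83.Stab.stabIdeal k A (F : Set (MvPolynomial ι k)) ≤
        GLin.genIdeal k A ι := by
      apply le_sSup
      refine ⟨hJ, fun I hI => ?_⟩
      rw [← Groth.Agent.H83.Stab.subset_quotInvariants_iff]
      intro g hg
      have hg' : g ∈ F := hg
      rw [hF] at hg'
      rw [Submodule.mem_iInf] at hg'
      have h2 := hg' I
      rw [Submodule.mem_iInf] at h2
      exact h2 hI
    exact Groth.Agent.H83.Stab.quotInvariants_mono h1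
      ((Groth.Agent.H83.Stab.subset_quotInvariants_iff (F : Set (MvPolynomial ι k))
        (Groth.Agent.H83.Stab.stabIdeal k A (F : Set (MvPolynomial ι k)))).mpr le_rfl f hf)

end Groth.Agent.S19325
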