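import Groth.Statements.S19326
import Groth.Agent.H96.DiagComod
-- import your own Groth.Agent.* helpers here

set_option autoImplicit false
universe u
open TensorProduct
open GLin

namespace Groth.Agent.S19326

/-- Let k be a field, M a finite abelian group and D = Spec k[M] the finite diagonalizable group scheme
it defines, acting on an affine k-scheme U = Spec R through a multiplicative coaction R → R ⊗ k[M];
write R_a for the weight space of a ∈ M (elements with coaction f ⊗ a). For an ideal J of R the
induced action of D on the closed subscheme V(J) is trivial, meaning that the coaction followed by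
reduction modulo J equals f ↦ (f mod J) ⊗ 1, exactly when J contains the ideal generated by the
weight spaces R_a for a ≠ 0; in other words that ideal defines the largest closed subscheme of U on
which D acts trivially. (The printed setting has U smooth, which plays no role here and is not
assumed; the further assertion that the construction commutes with flat base change on U/D is not
part of this statement.) -/
theorem result
    {k : Type u} [Field k] {M : Type u} [AddCommGroup M] [Finite M]
    {R : Type u} [CommRing R] [Algebra k R] [HopfRep.Comod k (AddMonoidAlgebra k M) R]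
    [GLin.IsCoactAlg k (AddMonoidAlgebra k M) R] (J : Ideal R) :
    (∀ f : R, LinearMap.rTensor (AddMonoidAlgebra k M) (Ideal.Quotient.mkₐ k J).toLinearMap
        (HopfRep.Comod.coact (k := k) (A := AddMonoidAlgebra k M) f) =
        (Ideal.Quotient.mk J f) ⊗ₜ[k] (1 : AddMonoidAlgebra k M)) ↔
      Ideal.span (⋃ (a : M) (_ : a ≠ 0),
        (HopfRep.eigenspace k (AddMonoidAlgebra k M) R (AddMonoidAlgebra.single a 1) : Set R)) ≤ J := by
  classical
  letI : Fintype M := Fintype.ofFinite M
  constructor
  · intro h
    rw [Ideal.span_le]
    intro x hx
    simp only [Set.mem_iUnion, SetLike.mem_coe] at hx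
    obtain ⟨a, ha, hxa⟩ := hx
    have hx' : HopfRep.Comod.coact (k := k) (A := AddMonoidAlgebra k M) x =
        x ⊗ₜ[k] AddMonoidAlgebra.single a (1 : k) := hxa
    have h1 := h x
    rw [hx', LinearMap.rTensor_tmul] at h1
    have h2 := congrArg (Groth.Agent.H96.DiagComod.sl (k := k) a) h1
    rw [Groth.Agent.H96.DiagComod.sl_tmul, Groth.Agent.H96.DiagComod.sl_tmul,
      AddMonoidAlgebra.one_def, AddMonoidAlgebra.coeff_single, AddMonoidAlgebra.coeff_single,
      Finsupp.single_eq_same, Finsupp.single_eq_of_ne ha, one_smul, zero_smul] at h2
    exact Ideal.Quotient.eq_zero_iff_mem.mp h2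
  · intro h f
    have hJ : ∀ a : M, a ≠ 0 → Ideal.Quotient.mk J (Groth.Agent.H96.DiagComod.comp (k := k) a f) = 0 := by
      intro a ha
      apply Ideal.Quotient.eq_zero_iff_mem.mpr
      apply h
      apply Ideal.subset_span
      simp only [Set.mem_iUnion, SetLike.mem_coe]
      exact ⟨a, ha, Groth.Agent.H96.DiagComod.coact_comp a f⟩
    rw [Groth.Agent.H96.DiagComod.coact_eq_sum f, map_sum]
    simp only [LinearMap.rTensor_tmul, AlgHom.toLinearMap_apply, Ideal.Quotient.mkₐ_eq_mk]
    rw [Finset.sum_eq_single (0 : M)]
    · congr 1
      conv_rhs => rw [← Groth.Agent.H96.DiagComod.sum_comp (k := k) (M := M) f, map_sum]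
      rw [Finset.sum_eq_single (0 : M)]
      · intro b _ hb
        exact hJ b hb
      · intro h0; exact absurd (Finset.mem_univ _) h0
    · intro b _ hb
      rw [hJ b hb, zero_tmul]
    · intro h0; exact absurd (Finset.mem_univ _) h0

end Groth.Agent.S19326
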