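import Groth.Statements.S19328
-- import your own Groth.Agent.* helpers here

set_option autoImplicit false
universe u
open CategoryTheory CategoryTheory.Limits AlgebraicGeometry
open ModPair

namespace Groth.Agent.S19328

open Polynomial in
theorem exists_root_of_fppfLocal (A : Type u) [CommRing A]
    (hloc : ∀ (X : Scheme.{u}) (R : Presieve X),
      R ∈ Scheme.precoverage (@Flat ⊓ @LocallyOfFinitePresentation ⊓ @QuasiCompact ⊓ @QuasiSeparated) X →
      ∀ g : Spec (CommRingCat.of A) ⟶ X,
        ∃ (Y : Scheme.{u}) (v : Y ⟶ X) (h : Spec (CommRingCat.of A) ⟶ Y), R v ∧ h ≫ v = g)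
    (F : A[X]) (hF : F.Monic) (hd : F.natDegree ≠ 0) : ∃ a : A, F.eval a = 0 := by
  nontriviality A
  let φ : A →+* AdjoinRoot F := AdjoinRoot.of F
  let v : Spec (CommRingCat.of (AdjoinRoot F)) ⟶ Spec (CommRingCat.of A) :=
    Spec.map (CommRingCat.ofHom φ)
  have hfree : Module.Free A (AdjoinRoot F) := Module.Free.of_basis (AdjoinRoot.powerBasis' hF).basis
  have hnt : Nontrivial (AdjoinRoot F) := by
    have : Nonempty (Fin (AdjoinRoot.powerBasis' hF).dim) := by
      rw [AdjoinRoot.powerBasis'_dim]
      exact ⟨⟨0, Nat.pos_of_ne_zero hd⟩⟩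
    obtain ⟨i⟩ := this
    exact ⟨⟨(AdjoinRoot.powerBasis' hF).basis i, 0, (AdjoinRoot.powerBasis' hF).basis.ne_zero i⟩⟩
  have hff : Module.FaithfullyFlat A (AdjoinRoot F) := inferInstance
  have hsurj : Function.Surjective v.base := by
    intro x
    obtain ⟨y, hy⟩ := PrimeSpectrum.comap_surjective_of_faithfullyFlat (A := A) (B := AdjoinRoot F) x
    exact ⟨y, hy⟩
  have hflat : Flat v := by
    rw [HasRingHomProperty.Spec_iff (P := @Flat)]
    exact (RingHom.flat_algebraMap_iff (R := A) (S := AdjoinRoot F)).mpr inferInstance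
  have hfp : LocallyOfFinitePresentation v := by
    rw [HasRingHomProperty.Spec_iff (P := @LocallyOfFinitePresentation)]
    have : Algebra.FinitePresentation A (AdjoinRoot F) :=
      Algebra.FinitePresentation.quotient (Submodule.fg_span_singleton F)
    exact (RingHom.finitePresentation_algebraMap (A := A) (B := AdjoinRoot F)).mpr this
  have hmem : Presieve.singleton v ∈ Scheme.precoverage
      (@Flat ⊓ @LocallyOfFinitePresentation ⊓ @QuasiCompact ⊓ @QuasiSeparated) (Spec (CommRingCat.of A)) := by
    rw [Scheme.singleton_mem_precoverage_iff]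
    exact ⟨hsurj, ⟨⟨hflat, hfp⟩, inferInstance⟩, inferInstance⟩
  obtain ⟨Y, w, h, hw, hcomp⟩ := hloc _ _ hmem (𝟙 _)
  obtain ⟨⟩ := hw
  obtain ⟨ψ, rfl⟩ := Spec.map_surjective h
  have hψ : CommRingCat.ofHom φ ≫ ψ = 𝟙 _ := by
    apply Spec.map_injective
    rw [Spec.map_comp, Spec.map_id]
    exact hcomp
  have hψ' : ∀ a : A, ψ.hom (φ a) = a := fun a => by
    have := congr_arg (fun f => f.hom a) hψ
    simpa using this
  refine ⟨ψ.hom (AdjoinRoot.root F), ?_⟩
  have h1 : Polynomial.eval₂ φ (AdjoinRoot.root F) F = 0 := AdjoinRoot.eval₂_root F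
  have h2 := congr_arg ψ.hom h1
  rw [Polynomial.hom_eval₂, map_zero] at h2
  have h3 : (ψ.hom.comp φ) = RingHom.id A := RingHom.ext hψ'
  rw [h3, Polynomial.eval₂_id] at h2
  exact h2

open Polynomial in
theorem isAlgClosed_of_roots (A : Type u) [CommRing A]
    (hroot : ∀ F : A[X], F.Monic → F.natDegree ≠ 0 → ∃ a : A, F.eval a = 0)
    (p : Ideal A) [p.IsPrime] : IsAlgClosed p.ResidueField := by
  apply IsAlgClosed.of_exists_root
  intro f hf hirr
  classical
  set K := p.ResidueField
  have hn : f.natDegree ≠ 0 := by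
    intro h
    have := hirr.natDegree_pos
    omega
  -- common denominator
  obtain ⟨b, hb⟩ := IsLocalization.exist_integer_multiples_of_finset (nonZeroDivisors (A ⧸ p))
    (S := K) (f.support.image f.coeff)
  set s : K := algebraMap (A ⧸ p) K b with hs
  have hs0 : s ≠ 0 := by
    have := IsFractionRing.injective (A ⧸ p) K
    exact (map_ne_zero_iff _ this).mpr (nonZeroDivisors.ne_zero b.2)
  -- scaled polynomial
  set g := f.scaleRoots s with hg
  have hgm : g.Monic := (monic_scaleRoots_iff s).mpr hf
  have hglift : g ∈ Polynomial.lifts (algebraMap A K) := by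
    rw [Polynomial.lifts_iff_coeff_lifts]
    intro i
    rw [hg, coeff_scaleRoots]
    by_cases hi : i ∈ f.support
    · by_cases hin : i = f.natDegree
      · subst hin
        rw [coeff_natDegree, hf.leadingCoeff, Nat.sub_self, pow_zero, one_mul]
        exact ⟨1, map_one _⟩
      · have hlt : i < f.natDegree := lt_of_le_of_ne (le_natDegree_of_mem_supp i hi) hin
        obtain ⟨c, hc⟩ := hb (f.coeff i) (Finset.mem_image_of_mem _ hi)
        obtain ⟨c', rfl⟩ := Ideal.Quotient.mk_surjective c
        obtain ⟨b', hb'⟩ := Ideal.Quotient.mk_surjective (b : A ⧸ p)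
        refine ⟨c' * b' ^ (f.natDegree - i - 1), ?_⟩
        have e1 : algebraMap A K c' = s * f.coeff i := by
          rw [IsScalarTower.algebraMap_apply A (A ⧸ p) K, Ideal.Quotient.algebraMap_eq, hc, hs,
            Algebra.smul_def]
        have e2 : algebraMap A K b' = s := by
          rw [IsScalarTower.algebraMap_apply A (A ⧸ p) K, Ideal.Quotient.algebraMap_eq, hb']
        rw [map_mul, map_pow, e1, e2]
        have : f.natDegree - i = (f.natDegree - i - 1) + 1 := by omega
        conv_rhs => rw [this, pow_succ]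
        ring
    · rw [Polynomial.notMem_support_iff.mp hi, zero_mul]
      exact ⟨0, map_zero _⟩
  obtain ⟨G, hGmap, hGdeg, hGm⟩ := Polynomial.lifts_and_degree_eq_and_monic hglift hgm
  have hGn : G.natDegree ≠ 0 := by
    have : G.natDegree = g.natDegree := Polynomial.natDegree_eq_natDegree hGdeg
    rw [this, hg, natDegree_scaleRoots]
    exact hn
  obtain ⟨a, ha⟩ := hroot G hGm hGn
  refine ⟨algebraMap A K a / s, ?_⟩
  have h1 : g.eval (algebraMap A K a) = 0 := by
    rw [← hGmap, Polynomial.eval_map_algebraMap, Polynomial.aeval_algebraMap_apply, Polynomial.coe_aeval_eq_eval, ha, map_zero]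
  have h2 := scaleRoots_eval_mul f (algebraMap A K a / s) s
  rw [mul_div_cancel₀ _ hs0, ← hg, h1] at h2
  exact (mul_eq_zero.mp h2.symm).resolve_left (pow_ne_zero _ hs0)


/-- Let A be a commutative ring such that Spec A is local for fppf coverings, in the sense that for
every scheme X, every jointly surjective family of morphisms to X each of which is flat and of
finite presentation (locally of finite presentation, quasi-compact and quasi-separated), and every
morphism Spec A ⟶ X, the morphism factors through a member of the family. Then the residue field of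
A at every prime ideal is algebraically closed. -/
theorem result (A : Type u) [CommRing A]
    (hloc : ∀ (X : Scheme.{u}) (R : Presieve X),
      R ∈ Scheme.precoverage (@Flat ⊓ @LocallyOfFinitePresentation ⊓ @QuasiCompact ⊓ @QuasiSeparated) X →
      ∀ g : Spec (CommRingCat.of A) ⟶ X,
        ∃ (Y : Scheme.{u}) (v : Y ⟶ X) (h : Spec (CommRingCat.of A) ⟶ Y), R v ∧ h ≫ v = g)
    (p : Ideal A) [p.IsPrime] : IsAlgClosed p.ResidueField := by
  exact isAlgClosed_of_roots A (exists_root_of_fppfLocal A hloc) p

end Groth.Agent.S19328
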