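import Groth.Statements.S19330
import Mathlib
import Groth.Agent.H96.ModPairImage
-- import your own Groth.Agent.* helpers here

set_option autoImplicit false
universe u
open CategoryTheory CategoryTheory.Limits AlgebraicGeometry TopologicalSpace
open ModPair

namespace Groth.Agent.S19330

/-- Let (S, I) be a modulus pair, i.e. a scheme with the quasi-coherent ideal sheaf of an effective
Cartier divisor, with interior U, and let g_i : V_i ⟶ U be a jointly surjective family of closed
immersions into the interior. Let V̄_i be the scheme-theoretic image of V_i ⟶ U ⟶ S. Then the closed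
immersions V̄_i ⟶ S are jointly surjective, the modulus restricted to each V̄_i is again the ideal
sheaf of an effective Cartier divisor (so that V̄_i ⟶ S is a minimal morphism of modulus pairs), and
the interior of V̄_i is V_i: the canonical morphism V_i ⟶ V̄_i is an open immersion whose image is
the preimage of U. -/
theorem result {S : Scheme.{u}} (I : S.IdealSheafData)
    (hI : BlowUp.IsEffCartierIdeal I) {ι : Type u} (V : ι → Scheme.{u})
    (g : ∀ i, V i ⟶ (ModPair.interior I : Scheme.{u})) [∀ i, IsClosedImmersion (g i)]
    (hsurj : ∀ u : (ModPair.interior I : Scheme.{u}), ∃ (i : ι) (v : V i), (g i).base v = u) :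
    (∀ s : S, ∃ (i : ι) (v : (g i ≫ (ModPair.interior I).ι).image),
        (g i ≫ (ModPair.interior I).ι).imageι.base v = s) ∧
      (∀ i, BlowUp.IsEffCartierIdeal (I.comap (g i ≫ (ModPair.interior I).ι).imageι)) ∧
      ∀ i, IsOpenImmersion (g i ≫ (ModPair.interior I).ι).toImage ∧
        Set.range (g i ≫ (ModPair.interior I).ι).toImage.base =
          (g i ≫ (ModPair.interior I).ι).imageι.base ⁻¹' (ModPair.interior I : Set S) := by
  have haff : IsAffineHom (ModPair.interior I).ι :=
    Groth.Agent.H20.ModPairFlat.isAffineHom_interior_ι I hI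
  have hqc : ∀ i, QuasiCompact (g i ≫ (ModPair.interior I).ι) := fun i => inferInstance
  refine ⟨?_, ?_, ?_⟩
  · intro s
    obtain ⟨u, hu, hus⟩ := Groth.Agent.H96.ModPairImage.exists_specializes I hI s
    obtain ⟨i, v, hv⟩ := hsurj ⟨u, hu⟩
    have h1 : s ∈ Set.range (g i ≫ (ModPair.interior I).ι).imageι := by
      rw [Scheme.IdealSheafData.range_subschemeι, Scheme.Hom.support_ker]
      have h2 : s ∈ closure ({u} : Set S) := specializes_iff_mem_closure.mp hus
      refine closure_mono ?_ h2
      intro x hx
      rw [Set.mem_singleton_iff.mp hx]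
      refine ⟨v, ?_⟩
      rw [Scheme.Hom.comp_apply]
      have h3 : (g i) v = ⟨u, hu⟩ := hv
      rw [h3]
      rfl
    obtain ⟨w, hw⟩ := h1
    exact ⟨i, w, hw⟩
  · intro i
    have := Groth.Agent.H96.ModPairImage.isSchemeTheoreticallyDominant_preimage_ι
      (ModPair.interior I) (g i)
    exact (Groth.Agent.H20.EffCartierInterior.main I hI
      (g i ≫ (ModPair.interior I).ι).imageι).2
  · intro i
    refine ⟨Groth.Agent.H96.ModPairImage.isOpenImmersion_toImage (ModPair.interior I).ι (g i), ?_⟩
    have h1 := Groth.Agent.H96.ModPairImage.range_toImage (ModPair.interior I).ι (g i)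
    rw [Scheme.Opens.range_ι] at h1
    exact h1

end Groth.Agent.S19330
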