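import Groth.Statements.S19333
import Mathlib
-- import your own Groth.Agent.* helpers here

set_option autoImplicit false
universe u
open ModPair

namespace Groth.Agent.S19333

/-- Let A → B be any homomorphism of commutative rings. An element x of B is integral over A if and only
if for every field K, every valuation subring R of K and every ring homomorphism φ : B → K which
sends the image of A into R, the element φ(x) lies in R. In other words the integral closure of A in
B is the intersection of the subrings R ×_K B taken over all commutative squares A → R ⊆ K ← B with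
R a valuation ring of the field K. -/
theorem result {A B : Type u} [CommRing A]
    [CommRing B] [Algebra A B] (x : B) :
    x ∈ integralClosure A B ↔
      ∀ (K : Type u) [Field K] (R : ValuationSubring K) (φ : B →+* K),
        (∀ a : A, φ (algebraMap A B a) ∈ R) → φ x ∈ R := by
  constructor
  · intro hx K _ R φ hφ
    have hx' : IsIntegral A x := hx
    let f : A →+* R.toSubring := (φ.comp (algebraMap A B)).codRestrict R.toSubring hφ
    have hcomm : (algebraMap R.toSubring K).comp f = φ.comp (algebraMap A B) := by
      ext a
      rfl
    have h1 : IsIntegral R.toSubring (φ x) := IsIntegral.map_of_comp_eq f φ hcomm hx'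
    have h2 : IsIntegrallyClosedIn R.toSubring K := inferInstanceAs (IsIntegrallyClosedIn R K)
    obtain ⟨y, hy⟩ := (IsIntegrallyClosedIn.isIntegral_iff (R := R.toSubring) (A := K)).mp h1
    rw [← hy]
    exact y.2
  · intro h
    by_contra hx
    have hx' : ¬ IsIntegral A x := hx
    -- the multiplicative set of values of monic polynomials at x
    let S : Submonoid B :=
      { carrier := {b | ∃ p : Polynomial A, p.Monic ∧ b = Polynomial.aeval x p}
        one_mem' := ⟨1, Polynomial.monic_one, by simp⟩
        mul_mem' := by
          rintro _ _ ⟨p, hp, rfl⟩ ⟨q, hq, rfl⟩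
          exact ⟨p * q, hp.mul hq, by simp⟩ }
    have h0 : (0 : B) ∉ S := by
      rintro ⟨p, hp, h0⟩
      exact hx' ⟨p, hp, by rw [← Polynomial.aeval_def]; exact h0.symm⟩
    have hdisj : Disjoint ((⊥ : Ideal B) : Set B) (S : Set B) := by
      rw [Set.disjoint_left]
      intro b hb hbS
      have : b = 0 := hb
      rw [this] at hbS
      exact h0 hbS
    obtain ⟨q, hq, -, hqS⟩ := Ideal.exists_le_prime_disjoint ⊥ S hdisj
    let K := FractionRing (B ⧸ q)
    let φ : B →+* K := (algebraMap (B ⧸ q) K).comp (Ideal.Quotient.mk q)
    let _ : Algebra A K := (φ.comp (algebraMap A B)).toAlgebra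
    have hnot : φ x ∉ (integralClosure A K).toSubring := by
      intro hmem
      have hint : IsIntegral A (φ x) := hmem
      obtain ⟨p, hp, hp0⟩ := hint
      have h1 : Polynomial.eval₂ (algebraMap A K) (φ x) p =
          φ (Polynomial.eval₂ (algebraMap A B) x p) := by
        rw [Polynomial.hom_eval₂]
        rfl
      rw [h1] at hp0
      have h2 : Polynomial.eval₂ (algebraMap A B) x p ∈ q := by
        have h3 : (Ideal.Quotient.mk q) (Polynomial.eval₂ (algebraMap A B) x p) = 0 := by
          apply IsFractionRing.injective (B ⧸ q) K
          rw [map_zero]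
          exact hp0
        exact Ideal.Quotient.eq_zero_iff_mem.mp h3
      have h4 : Polynomial.eval₂ (algebraMap A B) x p ∈ S := ⟨p, hp, Polynomial.aeval_def x p ▸ rfl⟩
      exact Set.disjoint_left.mp hqS h2 h4
    obtain ⟨V, hV, hxV⟩ := Subring.exists_le_valuationSubring_of_isIntegrallyClosedIn hnot
    apply hxV
    apply h K V φ
    intro a
    apply hV
    exact (integralClosure A K).algebraMap_mem a

end Groth.Agent.S19333
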