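import Groth.Statements.S19334
import Groth.Agent.H19.ComapAff
import Mathlib.RingTheory.Valuation.LocalSubring

set_option autoImplicit false
universe u
open CategoryTheory CategoryTheory.Limits AlgebraicGeometry TopologicalSpace
open ModPair

namespace Groth.Agent.S19334

/-- ring-level: a nonzerodivisor `t` in a prime `q` of `B` maps to a nonzero nonunit in some valuation
ring, via a ring map whose pullback of the maximal ideal is `q`. -/
theorem exists_valuationRing (B : Type u) [CommRing B] (q : Ideal B) [q.IsPrime] (t : B)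
    (ht : t ∈ nonZeroDivisors B) (htq : t ∈ q) :
    ∃ (R : Type u) (_ : CommRing R) (_ : IsDomain R) (_ : ValuationRing R) (ψ : B →+* R),
      ψ t ≠ 0 ∧ ¬ IsUnit (ψ t) := by
  obtain ⟨q0, hq0, hle⟩ := Ideal.exists_minimalPrimes_le (bot_le : (⊥ : Ideal B) ≤ q)
  have hq0p : q0.IsPrime := hq0.1.1
  have htq0 : t ∉ q0 := fun h =>
    (Ideal.disjoint_nonZeroDivisors_of_mem_minimalPrimes hq0).le_bot ⟨h, ht⟩
  let K := q0.ResidueField
  have hunits : ∀ s : q.primeCompl, IsUnit (algebraMap B K s) := by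
    intro s
    rw [isUnit_iff_ne_zero, Ne, Ideal.algebraMap_residueField_eq_zero]
    exact fun h => s.2 (hle h)
  let ρ : Localization.AtPrime q →+* K := IsLocalization.lift (M := q.primeCompl) hunits
  obtain ⟨A, hA, hloc⟩ := IsLocalRing.exists_factor_valuationRing ρ
  let ψ : B →+* A := (ρ.codRestrict A.toSubring hA).comp (algebraMap B (Localization.AtPrime q))
  refine ⟨A, inferInstance, inferInstance, inferInstance, ψ, ?_, ?_⟩
  · intro h
    have h1 : (ψ t : K) = algebraMap B K t := by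
      simp [ψ, ρ]
    rw [h] at h1
    have : algebraMap B K t = 0 := by simpa using h1.symm
    rw [Ideal.algebraMap_residueField_eq_zero] at this
    exact htq0 this
  · intro h
    have h1 : IsUnit (algebraMap B (Localization.AtPrime q) t) := hloc.map_nonunit _ h
    rw [IsLocalization.AtPrime.isUnit_to_map_iff (Localization.AtPrime q) q] at h1
    exact h1 htq


theorem appLE_eq {X : Scheme.{u}} (U : X.Opens) (hU : IsAffineOpen U) (R : CommRingCat.{u})
    (ψ : Γ(X, U) ⟶ R) (e : (⊤ : (Spec R).Opens) ≤ (Spec.map ψ ≫ hU.fromSpec) ⁻¹ᵁ U) :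
    (Spec.map ψ ≫ hU.fromSpec).appLE U ⊤ e = ψ ≫ (Scheme.ΓSpecIso R).inv := by
  apply Spec.map_injective
  have h := IsAffineOpen.SpecMap_appLE_fromSpec (Spec.map ψ ≫ hU.fromSpec) hU
    (isAffineOpen_top (Spec R)) e
  rw [IsAffineOpen.fromSpec_top, Scheme.isoSpec_Spec_inv, ← Category.assoc, cancel_mono] at h
  rw [h, Spec.map_comp]

theorem main {X : Scheme.{u}}
    (I : X.IdealSheafData) (hI : BlowUp.IsEffCartierIdeal I)
    (h : ∀ (R : Type u) [CommRing R] [IsDomain R] [ValuationRing R]
      (p : Spec (CommRingCat.of R) ⟶ X), BlowUp.IsEffCartierIdeal (I.comap p) → I.comap p = ⊤) :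
    I = ⊤ := by
  by_contra hne
  have hsupp : I.support ≠ ⊥ := fun hs => hne ((Scheme.IdealSheafData.support_eq_bot_iff (I := I)).mp hs)
  obtain ⟨x, hx⟩ : ∃ x, x ∈ I.support := by
    by_contra hcon
    apply hsupp
    ext y
    constructor
    · intro hy
      exact (hcon ⟨y, hy⟩).elim
    · intro hy
      exact hy.elim
  obtain ⟨U, hxU, t, ht, hIU⟩ := hI x
  have hU : IsAffineOpen U.1 := U.2
  set q := hU.primeIdealOf ⟨x, hxU⟩ with hq
  have hqx : hU.fromSpec q = x := hU.fromSpec_primeIdealOf ⟨x, hxU⟩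
  have htq : t ∈ q.asIdeal := by
    have h1 := (Scheme.IdealSheafData.mem_support_iff_of_mem (I := I) (U := U) hxU).mp hx
    rw [← hqx] at h1
    have h2 : q ∈ hU.fromSpec ⁻¹' X.zeroLocus (U := U.1) (I.ideal U) := h1
    rw [hU.fromSpec_preimage_zeroLocus] at h2
    have h3 : (I.ideal U : Set Γ(X, U.1)) ⊆ (q.asIdeal : Set Γ(X, U.1)) :=
      (PrimeSpectrum.mem_zeroLocus q _).mp h2
    rw [hIU] at h3
    exact h3 (Ideal.subset_span rfl)
  obtain ⟨R, _, _, _, ψ, hψ0, hψu⟩ := exists_valuationRing Γ(X, U.1) q.asIdeal t ht htq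
  let p : Spec (CommRingCat.of R) ⟶ X := Spec.map (CommRingCat.ofHom ψ) ≫ hU.fromSpec
  have e : (⊤ : (Spec (CommRingCat.of R)).Opens) ≤ p ⁻¹ᵁ U.1 := by
    intro y _
    show hU.fromSpec ((Spec.map (CommRingCat.ofHom ψ)) y) ∈ U.1
    have := hU.range_fromSpec
    rw [← SetLike.mem_coe, ← this]
    exact ⟨_, rfl⟩
  have hideal : (I.comap p).ideal ⟨⊤, isAffineOpen_top _⟩ =
      Ideal.span {(Scheme.ΓSpecIso (CommRingCat.of R)).inv.hom (ψ t)} := by
    rw [Groth.Agent.H19.ComapAff.ideal_comap_appLE p I U ⟨⊤, isAffineOpen_top _⟩ e, hIU,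
      Ideal.map_span, Set.image_singleton, appLE_eq]
    rfl
  set g := (Scheme.ΓSpecIso (CommRingCat.of R)).inv.hom (ψ t) with hg
  have hbij : Function.Bijective (Scheme.ΓSpecIso (CommRingCat.of R)).inv.hom :=
    ConcreteCategory.bijective_of_isIso (Scheme.ΓSpecIso (CommRingCat.of R)).inv
  have hcart : BlowUp.IsEffCartierIdeal (I.comap p) := by
    intro y
    refine ⟨⟨⊤, isAffineOpen_top _⟩, trivial, g, ?_, hideal⟩
    rw [mem_nonZeroDivisors_iff_right]
    intro z hz
    obtain ⟨z', rfl⟩ := hbij.2 z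
    rw [hg, ← map_mul] at hz
    have hz' : z' * ψ t = 0 := hbij.1 (by rw [hz, map_zero])
    rcases mul_eq_zero.mp hz' with h0 | h0
    · rw [h0, map_zero]
    · exact (hψ0 h0).elim
  have htop := h R p hcart
  have h1 : (I.comap p).ideal ⟨⊤, isAffineOpen_top _⟩ = ⊤ := by rw [htop]; rfl
  rw [hideal, Ideal.span_singleton_eq_top] at h1
  apply hψu
  have h2 := h1.map (Scheme.ΓSpecIso (CommRingCat.of R)).hom.hom
  have h3 : (Scheme.ΓSpecIso (CommRingCat.of R)).hom.hom g = ψ t := by
    rw [hg]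
    exact congr_arg (fun f => f.hom (ψ t)) (Scheme.ΓSpecIso (CommRingCat.of R)).inv_hom_id
  rwa [h3] at h2



/-- Let (X, I) be a modulus pair, i.e. a scheme X with the quasi-coherent ideal sheaf I of an effective
Cartier divisor. Suppose that for every valuation ring R and every morphism p : Spec R ⟶ X along
which the divisor of I pulls back to an effective Cartier divisor on Spec R (so that p is a minimal
morphism of modulus pairs for the pulled-back modulus), the pulled-back divisor is empty, I.comap p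
= ⊤. Then the divisor of I is empty: I = ⊤. -/
theorem result {X : Scheme.{u}}
    (I : X.IdealSheafData) (hI : BlowUp.IsEffCartierIdeal I)
    (h : ∀ (R : Type u) [CommRing R] [IsDomain R] [ValuationRing R]
      (p : Spec (CommRingCat.of R) ⟶ X), BlowUp.IsEffCartierIdeal (I.comap p) → I.comap p = ⊤) :
    I = ⊤ := by
  exact main I hI h

end Groth.Agent.S19334
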