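import Groth.Statements.S19335
import Groth.Agent.H96.ModPairVal

set_option autoImplicit false
universe u
open CategoryTheory CategoryTheory.Limits AlgebraicGeometry TopologicalSpace
open ModPair

namespace Groth.Agent.S19335

open Groth.Agent.H96.ModPairVal

theorem local_le {X : Scheme.{u}} (I J : X.IdealSheafData)
    (hI : BlowUp.IsEffCartierIdeal I) (hJ : BlowUp.IsEffCartierIdeal J) (hJI : J ≤ I)
    (h : ∀ (R : Type u) [CommRing R] [IsDomain R] [ValuationRing R]
      (p : Spec (CommRingCat.of R) ⟶ X), BlowUp.IsEffCartierIdeal (I.comap p) →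
        (∀ x : Spec (CommRingCat.of R),
          x ∈ (ModPair.interior (I.comap p) : Set (Spec (CommRingCat.of R))) ↔ x.asIdeal = ⊥) →
        I.comap p = J.comap p) (x : X) :
    ∃ W' : X.affineOpens, x ∈ W'.1 ∧ I.ideal W' ≤ J.ideal W' := by
  obtain ⟨W, hxW, s, t, hs, ht, hIW, hJW⟩ := exists_common_principal I J hI hJ x
  have hW : IsAffineOpen W.1 := W.2
  have htI : t ∈ Ideal.span {s} := by
    rw [← hIW]
    apply hJI W
    rw [hJW]
    exact Ideal.subset_span rfl
  obtain ⟨c, hc⟩ := Ideal.mem_span_singleton'.mp htI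
  set q := hW.primeIdealOf ⟨x, hxW⟩ with hq
  have hqx : hW.fromSpec q = x := hW.fromSpec_primeIdealOf ⟨x, hxW⟩
  by_cases hcq : c ∈ q.asIdeal
  · exfalso
    obtain ⟨R, _, _, _, ψ, hψs, hψP, hψc⟩ :=
      exists_valuationRing Γ(X, W.1) q.asIdeal s c hs hcq
    let p : Spec (CommRingCat.of R) ⟶ X := Spec.map (CommRingCat.ofHom ψ) ≫ hW.fromSpec
    have hI' : (I.comap p).ideal ⟨⊤, isAffineOpen_top _⟩ =
        Ideal.span {(Scheme.ΓSpecIso (CommRingCat.of R)).inv.hom (ψ s)} := by
      rw [ideal_comap_top I W hW, hIW, Ideal.map_span, Set.image_singleton]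
      rfl
    have hJ' : (J.comap p).ideal ⟨⊤, isAffineOpen_top _⟩ =
        Ideal.span {(Scheme.ΓSpecIso (CommRingCat.of R)).inv.hom (ψ t)} := by
      rw [ideal_comap_top J W hW, hJW, Ideal.map_span, Set.image_singleton]
      rfl
    have hbij : Function.Bijective (Scheme.ΓSpecIso (CommRingCat.of R)).inv.hom :=
      ConcreteCategory.bijective_of_isIso (Scheme.ΓSpecIso (CommRingCat.of R)).inv
    have hcart : BlowUp.IsEffCartierIdeal (I.comap p) := by
      intro y
      refine ⟨⟨⊤, isAffineOpen_top _⟩, trivial, _, ?_, hI'⟩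
      rw [mem_nonZeroDivisors_iff_right]
      intro z hz
      obtain ⟨z', rfl⟩ := hbij.2 z
      rw [← map_mul] at hz
      have hz' : z' * ψ s = 0 := hbij.1 (by rw [hz, map_zero])
      rcases mul_eq_zero.mp hz' with h0 | h0
      · rw [h0, map_zero]
      · exact (hψs h0).elim
    have hint : ∀ y : Spec (CommRingCat.of R),
        y ∈ (ModPair.interior (I.comap p) : Set (Spec (CommRingCat.of R))) ↔ y.asIdeal = ⊥ := by
      intro y
      have h1 : y ∈ (ModPair.interior (I.comap p) : Set (Spec (CommRingCat.of R))) ↔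
          ¬ y ∈ (I.comap p).support := Iff.rfl
      rw [h1, mem_support_comap_iff I W hW, hIW]
      have h2 : (∀ a ∈ Ideal.span {s}, (CommRingCat.ofHom ψ).hom a ∈ y.asIdeal) ↔
          ψ s ∈ y.asIdeal := by
        constructor
        · intro h
          exact h s (Ideal.subset_span rfl)
        · intro h a ha
          obtain ⟨r, rfl⟩ := Ideal.mem_span_singleton'.mp ha
          show ψ (r * s) ∈ y.asIdeal
          rw [map_mul]
          exact Ideal.mul_mem_left _ _ h
      rw [h2]
      exact hψP y.asIdeal y.isPrime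
    have heq := h R p hcart hint
    have hspan : Ideal.span {(Scheme.ΓSpecIso (CommRingCat.of R)).inv.hom (ψ s)} =
        Ideal.span {(Scheme.ΓSpecIso (CommRingCat.of R)).inv.hom (ψ t)} := by
      rw [← hI', ← hJ', heq]
    have hmem : (Scheme.ΓSpecIso (CommRingCat.of R)).inv.hom (ψ s) ∈
        Ideal.span {(Scheme.ΓSpecIso (CommRingCat.of R)).inv.hom (ψ t)} := by
      rw [← hspan]
      exact Ideal.subset_span rfl
    obtain ⟨r, hr⟩ := Ideal.mem_span_singleton'.mp hmem
    obtain ⟨r', rfl⟩ := hbij.2 r
    rw [← map_mul] at hr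
    have hr' : r' * ψ t = ψ s := hbij.1 hr
    rw [← hc, map_mul, ← mul_assoc] at hr'
    have hr'' : r' * ψ c = 1 := by
      have : (r' * ψ c) * ψ s = 1 * ψ s := by rw [hr', one_mul]
      exact mul_right_cancel₀ hψs this
    exact hψc (IsUnit.of_mul_eq_one _ (by rw [mul_comm]; exact hr''))
  · let W' : X.affineOpens := X.affineBasicOpen c
    have hxW' : x ∈ W'.1 := by
      show x ∈ X.basicOpen c
      rw [← hqx]
      have : q ∈ hW.fromSpec ⁻¹ᵁ X.basicOpen c := by
        rw [hW.fromSpec_preimage_basicOpen]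
        exact hcq
      exact this
    refine ⟨W', hxW', ?_⟩
    have hle : W' ≤ W := X.basicOpen_le c
    rw [← I.map_ideal hle, ← J.map_ideal hle, hIW, hJW, Ideal.map_span, Ideal.map_span,
      Set.image_singleton, Set.image_singleton, Ideal.span_singleton_le_span_singleton]
    have hunit : IsUnit ((X.presheaf.map (homOfLE hle).op).hom c) :=
      X.toRingedSpace.isUnit_res_basicOpen c
    rw [← hc, map_mul]
    exact hunit.mul_left_dvd.mpr dvd_rfl

theorem main {X : Scheme.{u}} (I J : X.IdealSheafData)
    (hI : BlowUp.IsEffCartierIdeal I) (hJ : BlowUp.IsEffCartierIdeal J) (hJI : J ≤ I)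
    (h : ∀ (R : Type u) [CommRing R] [IsDomain R] [ValuationRing R]
      (p : Spec (CommRingCat.of R) ⟶ X), BlowUp.IsEffCartierIdeal (I.comap p) →
        (∀ x : Spec (CommRingCat.of R),
          x ∈ (ModPair.interior (I.comap p) : Set (Spec (CommRingCat.of R))) ↔ x.asIdeal = ⊥) →
        I.comap p = J.comap p) :
    I = J := by
  apply le_antisymm _ hJI
  choose W hxW hle using local_le I J hI hJ hJI h
  apply Scheme.IdealSheafData.le_of_iSup_eq_top W _ hle
  rw [eq_top_iff]
  intro x _
  exact TopologicalSpace.Opens.mem_iSup.mpr ⟨x, hxW x⟩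



/-- Let X be a scheme and I, J quasi-coherent ideal sheaves of effective Cartier divisors D_I ≤ D_J on
X, i.e. J ≤ I. Suppose that for every valuation ring R and every morphism p : Spec R ⟶ X such that
I.comap p is the ideal sheaf of an effective Cartier divisor on Spec R (so p is a minimal morphism
of modulus pairs for (X, I)) whose open complement consists of the generic point of Spec R only, the
two divisors agree after pull-back, I.comap p = J.comap p. Then I = J. -/
theorem result {X : Scheme.{u}} (I J : X.IdealSheafData)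
    (hI : BlowUp.IsEffCartierIdeal I) (hJ : BlowUp.IsEffCartierIdeal J) (hJI : J ≤ I)
    (h : ∀ (R : Type u) [CommRing R] [IsDomain R] [ValuationRing R]
      (p : Spec (CommRingCat.of R) ⟶ X), BlowUp.IsEffCartierIdeal (I.comap p) →
        (∀ x : Spec (CommRingCat.of R),
          x ∈ (ModPair.interior (I.comap p) : Set (Spec (CommRingCat.of R))) ↔ x.asIdeal = ⊥) →
        I.comap p = J.comap p) :
    I = J := by
  exact main I J hI hJ hJI h

end Groth.Agent.S19335
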