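import Groth.Statements.S19336
import Groth.Agent.H96.SupBlowUp
-- import your own Groth.Agent.* helpers here

set_option autoImplicit false
universe u
open CategoryTheory CategoryTheory.Limits AlgebraicGeometry TopologicalSpace
open ModPair

namespace Groth.Agent.S19336

/-- Let (S, I) be a modulus pair, i.e. a scheme S with the quasi-coherent ideal sheaf I of an effective
Cartier divisor, with S quasi-compact and quasi-separated and with interior U, and let (V_i) be a
covering of U by quasi-compact open subsets. Then there are a quasi-coherent ideal sheaf F of finite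
type on S whose support is disjoint from U, a blow-up b : Y ⟶ S of S in F (an admissible blow-up)
such that I.comap b is again the ideal sheaf of an effective Cartier divisor, and a covering of Y by
quasi-compact open subsets W_j such that each W_j ∩ b⁻¹(U) is contained in b⁻¹(V_i) for some i: the
Zariski covering of the interior extends, after an admissible blow-up, to a Zariski covering of the
total space. -/
theorem result {S : Scheme.{u}}
    [CompactSpace S] [QuasiSeparatedSpace S] (I : S.IdealSheafData)
    (hI : BlowUp.IsEffCartierIdeal I) {ι : Type u} (V : ι → S.Opens)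
    (hVU : ∀ i, V i ≤ ModPair.interior I) (hVqc : ∀ i, IsCompact (V i : Set S))
    (hcov : ModPair.interior I ≤ ⨆ i, V i) :
    ∃ (F : S.IdealSheafData) (Y : Scheme.{u}) (b : Y ⟶ S) (κ : Type u) (W : κ → Y.Opens),
      BlowUp.IsAdmissibleFor (ModPair.interior I) F ∧ BlowUp.IsBlowUp b F ∧
        BlowUp.IsEffCartierIdeal (I.comap b) ∧ (∀ k, IsCompact (W k : Set Y)) ∧
        (⨆ k, W k) = ⊤ ∧ ∀ k, ∃ i, W k ⊓ b ⁻¹ᵁ ModPair.interior I ≤ b ⁻¹ᵁ V i := by
  classical
  -- `I` is of finite type
  have hIfg : ∀ A : S.affineOpens, (I.ideal A).FG := by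
    intro A
    apply Groth.Agent.H96.FiniteTypeExt.fg_ideal_of_forall
    intro x _
    obtain ⟨A', hxA', f, -, hf⟩ := hI x
    exact ⟨A', hxA', by rw [hf]; exact ⟨{f}, by simp⟩⟩
  -- the interior is quasi-compact
  have hUc : IsCompact (ModPair.interior I : Set S) :=
    Groth.Agent.H96.FiniteTypeExt.isCompact_of_support_eq_compl I hIfg (ModPair.interior I)
      (by simp [ModPair.interior])
  -- finite subcover
  obtain ⟨t, ht⟩ := hUc.elim_finite_subcover (fun i => (V i : Set S)) (fun i => (V i).2)
    (by
      intro x hx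
      have := hcov hx
      simpa using this)
  -- finite type ideals with supports the complements of the `V i`
  have hex : ∀ i, ∃ F : S.IdealSheafData, (∀ A : S.affineOpens, (F.ideal A).FG) ∧
      (F.support : Set S) = (V i : Set S)ᶜ := fun i =>
    Groth.Agent.H96.FiniteTypeExt.exists_finiteType_support_eq (V i) (hVqc i)
  choose Fi hFifg hFisupp using hex
  let F : S.IdealSheafData := ⨆ i : t, Fi i.1
  have hFfg : ∀ A : S.affineOpens, (F.ideal A).FG := by
    intro A
    rw [Groth.Agent.H96.SupBlowUp.ideal_iSup_apply]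
    exact Submodule.fg_iSup _ fun i => hFifg i.1 A
  have hFsupp : ∀ x, x ∈ F.support ↔ ∀ i ∈ t, x ∉ V i := by
    intro x
    change x ∈ (⨆ i : t, Fi i.1).support ↔ _
    rw [Scheme.IdealSheafData.support_iSup]
    simp only [Closeds.mem_iInf, Subtype.forall]
    refine forall₂_congr fun i hi => ?_
    change x ∈ ((Fi i).support : Set S) ↔ _
    rw [hFisupp i]
    rfl
  have hFdisj : Disjoint (F.support : Set S) (ModPair.interior I : Set S) := by
    rw [Set.disjoint_left]
    intro x hxF hxU
    obtain ⟨i, hi, hxi⟩ := Set.mem_iUnion₂.mp (ht hxU)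
    exact (hFsupp x).mp hxF i hi hxi
  have hIF : I.support ≤ F.support := by
    intro x hx
    refine (hFsupp x).mpr fun i _ hxi => ?_
    exact (hVU i hxi) hx
  obtain ⟨Y, b, hb⟩ := Groth.Agent.H8.exists_isBlowUp S F
  refine ⟨F, Y, b, {O : Y.affineOpens // ∃ i, O.1 ⊓ b ⁻¹ᵁ ModPair.interior I ≤ b ⁻¹ᵁ V i},
    fun k => k.1.1, ⟨hFfg, hFdisj⟩, hb, ?_, fun k => k.1.2.isCompact, ?_, fun k => k.2⟩
  · exact Groth.Agent.H96.SupBlowUp.isEffCartier_comap_of_support_le b F I hb.1 hI hFfg hIF
  · rw [eq_top_iff]
    intro y _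
    have hcm : F.comap b = ⨆ i : t, (Fi i.1).comap b :=
      Groth.Agent.H96.SupBlowUp.comap_iSup b fun i : t => Fi i.1
    have hE : BlowUp.IsEffCartierIdeal (⨆ i : t, (Fi i.1).comap b) := hcm ▸ hb.1
    obtain ⟨O, i, hyO, hO⟩ :=
      Groth.Agent.H96.SupBlowUp.exists_affine_ideal_eq (fun i : t => (Fi i.1).comap b) hE y
    refine Opens.mem_iSup.mpr ⟨⟨O, i.1, ?_⟩, hyO⟩
    rintro z ⟨hzO, hzU⟩
    by_contra hzV
    have h1 : b z ∈ (Fi i.1).support := by
      change b z ∈ ((Fi i.1).support : Set S)
      rw [hFisupp i.1]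
      exact hzV
    have h2 : z ∈ ((Fi i.1).comap b).support := by
      rw [Scheme.IdealSheafData.support_comap]
      exact h1
    rw [Scheme.IdealSheafData.mem_support_iff_of_mem (U := O) hzO, hO, ← hcm,
      ← Scheme.IdealSheafData.mem_support_iff_of_mem (U := O) hzO,
      Scheme.IdealSheafData.support_comap] at h2
    exact Set.disjoint_left.mp hFdisj h2 hzU

end Groth.Agent.S19336
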