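import Groth.Statements.S19338
-- import your own Groth.Agent.* helpers here

set_option autoImplicit false
universe w v u
open CategoryTheory
open ModPair

namespace Groth.Agent.S19338

/-- Let C be a category and S a class of morphisms which contains the identities, is closed under
composition, admits a right calculus of fractions, and consists of monomorphisms. Then the sieves
containing a morphism of S are the covering sieves of a Grothendieck topology on C, and for every
such topology J a presheaf of types F on C is a J-sheaf if and only if it is S-local, i.e. F sends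
every morphism of S to a bijection. -/
theorem result {C : Type u} [Category.{v} C]
    (S : MorphismProperty C) [S.HasRightCalculusOfFractions]
    (hmono : ∀ ⦃X Y : C⦄ (s : X ⟶ Y), S s → Mono s) :
    (∃ J : GrothendieckTopology C, ∀ (X : C) (T : Sieve X),
        T ∈ J X ↔ ∃ (Y : C) (s : Y ⟶ X), S s ∧ T s) ∧
      ∀ J : GrothendieckTopology C, (∀ (X : C) (T : Sieve X),
          T ∈ J X ↔ ∃ (Y : C) (s : Y ⟶ X), S s ∧ T s) →
        ∀ F : Cᵒᵖ ⥤ Type w,
          Presheaf.IsSheaf J F ↔ ∀ ⦃X Y : C⦄ (s : X ⟶ Y), S s → IsIso (F.map s.op) := by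
  have hid : ∀ X : C, S (𝟙 X) := fun X => S.id_mem X
  have hcomp : ∀ ⦃X Y Z : C⦄ (f : X ⟶ Y) (g : Y ⟶ Z), S f → S g → S (f ≫ g) :=
    fun _ _ _ f g hf hg => S.comp_mem f g hf hg
  -- Ore condition
  have hore : ∀ ⦃X X' Y : C⦄ (s : X' ⟶ X) (_ : S s) (f : Y ⟶ X),
      ∃ (Y' : C) (s' : Y' ⟶ Y) (f' : Y' ⟶ X'), S s' ∧ s' ≫ f = f' ≫ s := by
    intro X X' Y s hs f
    obtain ⟨ψ, hψ⟩ := MorphismProperty.HasRightCalculusOfFractions.exists_rightFraction
      (W := S) (⟨f, s, hs⟩ : S.LeftFraction Y X')
    exact ⟨ψ.X', ψ.s, ψ.f, ψ.hs, hψ⟩
  refine ⟨⟨{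
    sieves := fun X => {T | ∃ (Y : C) (s : Y ⟶ X), S s ∧ T s}
    top_mem' := fun X => ⟨X, 𝟙 X, hid X, trivial⟩
    pullback_stable' := ?_
    transitive' := ?_ }, fun X T => Iff.rfl⟩, ?_⟩
  · rintro X Y T f ⟨X', s, hs, hTs⟩
    obtain ⟨Y', s', f', hs', hcomm⟩ := hore s hs f
    refine ⟨Y', s', hs', ?_⟩
    change T (s' ≫ f)
    rw [hcomm]
    exact T.downward_closed hTs f'
  · rintro X T ⟨X', s, hs, hTs⟩ R hR
    obtain ⟨Y, t, ht, hRt⟩ := hR hTs
    exact ⟨Y, t ≫ s, hcomp t s ht hs, hRt⟩
  · intro J hJ F
    rw [isSheaf_iff_isSheaf_of_type]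
    constructor
    · intro hF X Y s hs
      have := hmono s hs
      rw [isIso_iff_bijective]
      have hcov : Sieve.generate (Presieve.singleton s) ∈ J Y := by
        rw [hJ]
        exact ⟨X, s, hs, ⟨X, 𝟙 X, s, Presieve.singleton.mk, Category.id_comp s⟩⟩
      have hsh := hF _ hcov
      rw [← Presieve.isSheafFor_iff_generate] at hsh
      constructor
      · intro a b hab
        -- both are amalgamations of the same family
        let x : Presieve.FamilyOfElements F (Presieve.singleton s) :=
          fun Z g hg => by
            cases hg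
            exact F.map s.op a
        have hx : x.Compatible := by
          intro Y₁ Y₂ Z g₁ g₂ f₁ f₂ h₁ h₂ hc
          cases h₁
          cases h₂
          have : g₁ = g₂ := (cancel_mono s).mp hc
          rw [this]
        obtain ⟨t, -, htuniq⟩ := hsh x hx
        have ha : x.IsAmalgamation a := by
          intro Z g hg
          cases hg
          rfl
        have hb : x.IsAmalgamation b := by
          intro Z g hg
          cases hg
          exact hab.symm
        rw [htuniq a ha, htuniq b hb]
      · intro y
        let x : Presieve.FamilyOfElements F (Presieve.singleton s) :=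
          fun Z g hg => by
            cases hg
            exact y
        have hx : x.Compatible := by
          intro Y₁ Y₂ Z g₁ g₂ f₁ f₂ h₁ h₂ hc
          cases h₁
          cases h₂
          have : g₁ = g₂ := (cancel_mono s).mp hc
          rw [this]
        obtain ⟨t, ht, -⟩ := hsh x hx
        exact ⟨t, ht s Presieve.singleton.mk⟩
    · intro hF X T hT
      rw [hJ] at hT
      obtain ⟨Y, s, hs, hTs⟩ := hT
      have hbij : Function.Bijective (F.map s.op) := by
        rw [← isIso_iff_bijective]
        exact hF s hs
      intro x hx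
      obtain ⟨a, ha⟩ := hbij.2 (x s hTs)
      refine ⟨a, ?_, ?_⟩
      · intro Z f hf
        obtain ⟨Z', s', f', hs', hcomm⟩ := hore s hs f
        have hinj : Function.Injective (F.map s'.op) := by
          have := hF s' hs'
          rw [isIso_iff_bijective] at this
          exact this.1
        apply hinj
        have h1 : F.map s'.op (F.map f.op a) = F.map f'.op (F.map s.op a) := by
          rw [← FunctorToTypes.map_comp_apply, ← FunctorToTypes.map_comp_apply, ← op_comp, ← op_comp,
            hcomm]
        rw [h1, ha]
        exact hx f' s' hTs hf hcomm.symm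
      · intro b hb
        apply hbij.1
        rw [ha]
        exact hb s hTs

end Groth.Agent.S19338
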