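import Groth.Statements.S19340
-- import your own Groth.Agent.* helpers here

set_option autoImplicit false
universe v v' u u'
open CategoryTheory
open ModPair

namespace Groth.Agent.S19340

/-- Let C be a category, S a class of morphisms of C containing the identities, closed under composition
and admitting a right calculus of fractions, and L : C ⥤ D a localization functor for S. Then for
every object X of C the comma category of L under X, whose objects are pairs (Y, L(X) ⟶ L(Y)) and
whose morphisms are morphisms Y ⟶ Y' of C compatible with the structure maps, is cofiltered. The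
published statement calls this category filtered; its proof verifies, and this row states,
cofilteredness. -/
theorem result {C : Type u}
    [Category.{v} C] {D : Type u'} [Category.{v'} D] (S : MorphismProperty C)
    [S.HasRightCalculusOfFractions] (L : C ⥤ D) [L.IsLocalization S] (X : C) :
    IsCofiltered (StructuredArrow (L.obj X) L) := by
  have hL : S.IsInvertedBy L := Localization.inverts L S
  have hcomp : ∀ ⦃X Y Z : C⦄ (f : X ⟶ Y) (g : Y ⟶ Z), S f → S g → S (f ≫ g) :=
    fun _ _ _ f g hf hg => S.comp_mem f g hf hg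
  -- key computation
  have key : ∀ {X₁ X₃ Y : C} (s₁ : X₁ ⟶ X) (s₃ : X₃ ⟶ X) (u : X₃ ⟶ X₁) (f : X₁ ⟶ Y)
      [IsIso (L.map s₁)] [IsIso (L.map s₃)], s₃ = u ≫ s₁ →
      inv (L.map s₃) ≫ L.map (u ≫ f) = inv (L.map s₁) ≫ L.map f := by
    intro X₁ X₃ Y s₁ s₃ u f _ _ h
    subst h
    rw [IsIso.inv_comp_eq, L.map_comp, L.map_comp, Category.assoc, IsIso.hom_inv_id_assoc]
  refine { cone_objs := ?_, cone_maps := ?_, nonempty := ⟨StructuredArrow.mk (𝟙 (L.obj X))⟩ }
  · intro A B
    obtain ⟨ψ₁, h₁⟩ := Localization.exists_rightFraction L S A.hom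
    obtain ⟨ψ₂, h₂⟩ := Localization.exists_rightFraction L S B.hom
    obtain ⟨θ, hθ⟩ := MorphismProperty.HasRightCalculusOfFractions.exists_rightFraction
      (W := S) (⟨ψ₂.s, ψ₁.s, ψ₁.hs⟩ : S.LeftFraction ψ₂.X' ψ₁.X')
    simp only at hθ
    have hs₃ : S (θ.s ≫ ψ₂.s) := hcomp _ _ θ.hs ψ₂.hs
    have i3 : IsIso (L.map (θ.s ≫ ψ₂.s)) := hL _ hs₃
    have i1 : IsIso (L.map ψ₁.s) := hL _ ψ₁.hs
    have i2 : IsIso (L.map ψ₂.s) := hL _ ψ₂.hs
    refine ⟨StructuredArrow.mk (inv (L.map (θ.s ≫ ψ₂.s))),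
      StructuredArrow.homMk (θ.f ≫ ψ₁.f) ?_, StructuredArrow.homMk (θ.s ≫ ψ₂.f) ?_, trivial⟩
    · simp only [StructuredArrow.mk_hom_eq_self]
      rw [h₁, MorphismProperty.RightFraction.map]
      exact key ψ₁.s (θ.s ≫ ψ₂.s) θ.f ψ₁.f hθ
    · simp only [StructuredArrow.mk_hom_eq_self]
      rw [h₂, MorphismProperty.RightFraction.map]
      exact key ψ₂.s (θ.s ≫ ψ₂.s) θ.s ψ₂.f rfl
  · intro A B a b
    obtain ⟨ψ, hψ⟩ := Localization.exists_rightFraction L S A.hom
    have i0 : IsIso (L.map ψ.s) := hL _ ψ.hs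
    have ha := StructuredArrow.w a
    have hb := StructuredArrow.w b
    have heq : L.map (ψ.f ≫ a.right) = L.map (ψ.f ≫ b.right) := by
      have h1 : L.map ψ.f = L.map ψ.s ≫ A.hom := by
        rw [hψ, MorphismProperty.RightFraction.map, IsIso.hom_inv_id_assoc]
      rw [L.map_comp, L.map_comp, h1, Category.assoc, Category.assoc, ha, hb]
    obtain ⟨X'', t, ht, hfac⟩ := (MorphismProperty.map_eq_iff_precomp L S _ _).mp heq
    have hts : S (t ≫ ψ.s) := hcomp _ _ ht ψ.hs
    have i4 : IsIso (L.map (t ≫ ψ.s)) := hL _ hts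
    refine ⟨StructuredArrow.mk (inv (L.map (t ≫ ψ.s))), StructuredArrow.homMk (t ≫ ψ.f) ?_, ?_⟩
    · simp only [StructuredArrow.mk_hom_eq_self]
      rw [hψ, MorphismProperty.RightFraction.map]
      exact key ψ.s (t ≫ ψ.s) t ψ.f rfl
    · apply StructuredArrow.hom_ext
      simp only [StructuredArrow.comp_right, StructuredArrow.homMk_right, Category.assoc]
      exact hfac

end Groth.Agent.S19340
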