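import Groth.Statements.S19345
import Mathlib

set_option autoImplicit false
universe u
open CategoryTheory CategoryTheory.Limits AlgebraicGeometry TopologicalSpace
open ModPair

namespace Groth.Agent.S19345

open Polynomial

/-- over an AIC ring, a root of a monic polynomial in a domain extension comes from the base. -/
theorem exists_eq_of_eval₂_eq_zero {A B : Type*} [CommRing A] [CommRing B] [IsDomain B]
    (hA : Curves.IsAIC A) (φ : A →+* B) :
    ∀ (n : ℕ) (F : A[X]), F.Monic → F.natDegree = n → ∀ b : B, F.eval₂ φ b = 0 → ∃ a : A, φ a = b := by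
  intro n
  induction n with
  | zero =>
    intro F hF hdeg b hb
    have : F = 1 := by
      rw [Polynomial.eq_C_of_natDegree_eq_zero hdeg] 
      have h1 := hF.leadingCoeff
      rw [Polynomial.leadingCoeff, hdeg] at h1
      rw [h1, map_one]
    rw [this, eval₂_one] at hb
    exact absurd hb one_ne_zero
  | succ n ih =>
    intro F hF hdeg b hb
    have hnt : Nontrivial A := φ.domain_nontrivial
    obtain ⟨a, ha⟩ := hA F hF (by omega)
    have hmon : (F /ₘ (X - C a)).Monic := by
      show (F /ₘ (X - C a)).leadingCoeff = 1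
      rw [leadingCoeff_divByMonic_of_monic (monic_X_sub_C a), hF.leadingCoeff]
      rw [degree_X_sub_C, degree_eq_natDegree hF.ne_zero, hdeg]
      exact_mod_cast Nat.succ_le_succ (Nat.zero_le n)
    have hdiv : (X - C a) * (F /ₘ (X - C a)) = F := mul_divByMonic_eq_iff_isRoot.mpr ha
    have hb2 := hb
    rw [← hdiv, eval₂_mul, eval₂_sub, eval₂_X, eval₂_C] at hb2
    rcases mul_eq_zero.mp hb2 with h | h
    · exact ⟨a, (sub_eq_zero.mp h).symm⟩
    · refine ih (F /ₘ (X - C a)) hmon ?_ b h
      rw [natDegree_divByMonic F (monic_X_sub_C a), natDegree_X_sub_C, hdeg]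
      rfl

/-- Ring-level retraction: an integral extension of an AIC domain with a prime lying over `0`
retracts onto the base. -/
theorem exists_retraction {A B : Type*} [CommRing A] [CommRing B] [IsDomain A]
    (hA : Curves.IsAIC A) (φ : A →+* B) (hφ : φ.IsIntegral) (q : Ideal B) [q.IsPrime]
    (hq : q.comap φ = ⊥) : ∃ ψ : B →+* A, ψ.comp φ = RingHom.id A := by
  let π : B →+* B ⧸ q := Ideal.Quotient.mk q
  let θ : A →+* B ⧸ q := π.comp φ
  have hinj : Function.Injective θ := by
    rw [injective_iff_map_eq_zero]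
    intro a ha
    have : a ∈ q.comap φ := by
      rw [Ideal.mem_comap]
      exact Ideal.Quotient.eq_zero_iff_mem.mp ha
    rw [hq] at this
    exact this
  have hsurj : Function.Surjective θ := by
    intro y
    obtain ⟨b, rfl⟩ := Ideal.Quotient.mk_surjective y
    obtain ⟨F, hF, hFb⟩ := hφ b
    have h2 : F.eval₂ θ (π b) = 0 := by
      have := congr_arg π hFb
      rw [Polynomial.hom_eval₂, map_zero] at this
      exact this
    exact exists_eq_of_eval₂_eq_zero hA θ F.natDegree F hF rfl (π b) h2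
  let e : A ≃+* B ⧸ q := RingEquiv.ofBijective θ ⟨hinj, hsurj⟩
  refine ⟨(e.symm : B ⧸ q →+* A).comp π, ?_⟩
  ext a
  show e.symm (π (φ a)) = a
  exact e.symm_apply_apply a


/-- `P` is local for the coverings made of jointly surjective families of `Q₀`-morphisms. -/
def LocalFor (Q₀ : MorphismProperty Scheme.{u}) (P : Scheme.{u}) : Prop :=
  ∀ (X : Scheme.{u}) (R : Presieve X), R ∈ Scheme.precoverage Q₀ X →
    ∀ g : P ⟶ X, ∃ (Y : Scheme.{u}) (w : Y ⟶ X) (h : P ⟶ Y), R w ∧ h ≫ w = g

theorem LocalFor.of_iso {Q₀ : MorphismProperty Scheme.{u}} {P Q : Scheme.{u}} (e : P ≅ Q)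
    (h : LocalFor Q₀ P) : LocalFor Q₀ Q := by
  intro X R hR g
  obtain ⟨Y, w, k, hw, hk⟩ := h X R hR (e.hom ≫ g)
  exact ⟨Y, w, e.inv ≫ k, hw, by rw [Category.assoc, hk, Iso.inv_hom_id_assoc]⟩

theorem mem_precoverage_iff {Q₀ : MorphismProperty Scheme.{u}} {X : Scheme.{u}} {R : Presieve X} :
    R ∈ Scheme.precoverage Q₀ X ↔
      (∀ x : X, ∃ (Y : Scheme.{u}) (w : Y ⟶ X), R w ∧ x ∈ Set.range w) ∧
        ∀ ⦃Y : Scheme.{u}⦄ (w : Y ⟶ X), R w → Q₀ w := by
  constructor
  · rintro ⟨h1, h2⟩
    refine ⟨fun x => ?_, fun Y w hw => h2 hw⟩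
    obtain ⟨Y, w, hw, hx⟩ := (Presieve.mem_comap_jointlySurjectivePrecoverage_iff
      (F := Scheme.forget)).mp h1 x
    exact ⟨Y, w, hw, hx⟩
  · rintro ⟨h1, h2⟩
    refine ⟨?_, fun {Y} w hw => h2 w hw⟩
    rw [Presieve.mem_comap_jointlySurjectivePrecoverage_iff]
    intro x
    obtain ⟨Y, w, hw, hx⟩ := h1 x
    exact ⟨Y, w, hw, hx⟩

theorem isAffine_of_localFor (P : Scheme.{u}) [QuasiSeparatedSpace P]
    (h : LocalFor (@IsOpenImmersion ⊓ @QuasiCompact) P) : IsAffine P := by
  let 𝒰 := P.affineCover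
  have hR : Presieve.ofArrows 𝒰.X 𝒰.f ∈
      Scheme.precoverage (@IsOpenImmersion ⊓ @QuasiCompact) P := by
    rw [Scheme.ofArrows_mem_precoverage_iff]
    refine ⟨fun x => ?_, fun i => ⟨inferInstance, inferInstance⟩⟩
    obtain ⟨i, y, hy⟩ := 𝒰.exists_eq x
    exact ⟨i, y, hy⟩
  obtain ⟨Y, w, k, hw, hk⟩ := h P _ hR (𝟙 P)
  obtain ⟨i⟩ := hw
  have : IsSplitEpi (𝒰.f i) := ⟨⟨k, hk⟩⟩
  have : Mono (𝒰.f i) := inferInstance
  have hiso : IsIso (𝒰.f i) := isIso_of_mono_of_isSplitEpi _
  exact IsAffine.of_isIso (inv (𝒰.f i))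


/-- a retraction of rings from a section of `Spec.map`. -/
theorem exists_retraction_of_section {A B : Type u} [CommRing A] [CommRing B] (φ : A →+* B)
    (k : Spec (CommRingCat.of A) ⟶ Spec (CommRingCat.of B))
    (hk : k ≫ Spec.map (CommRingCat.ofHom φ) = 𝟙 _) : ∃ ψ : B →+* A, ∀ a, ψ (φ a) = a := by
  obtain ⟨ψ, rfl⟩ := Spec.map_surjective k
  have hψ : CommRingCat.ofHom φ ≫ ψ = 𝟙 _ := by
    apply Spec.map_injective
    rw [Spec.map_comp, Spec.map_id]
    exact hk
  refine ⟨ψ.hom, fun a => ?_⟩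
  have := congr_arg (fun f => f.hom a) hψ
  simpa using this

theorem nontrivial_of_localFor (A : Type u) [CommRing A] (Q₀ : MorphismProperty Scheme.{u})
    (h : LocalFor Q₀ (Spec (CommRingCat.of A))) : Nontrivial A := by
  by_contra hnt
  rw [not_nontrivial_iff_subsingleton] at hnt
  have : IsEmpty (Spec (CommRingCat.of A)) := by
    show IsEmpty (PrimeSpectrum A)
    infer_instance
  obtain ⟨Y, w, k, hw, _⟩ := h _ _ (Scheme.bot_mem_precoverage Q₀ (Spec (CommRingCat.of A))) (𝟙 _)
  exact hw

theorem isLocalRing_of_localFor (A : Type u) [CommRing A]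
    (h : LocalFor (@IsOpenImmersion ⊓ @QuasiCompact) (Spec (CommRingCat.of A))) :
    IsLocalRing A := by
  have hnt := nontrivial_of_localFor A _ h
  apply IsLocalRing.of_isUnit_or_isUnit_one_sub_self
  intro f
  let e : Bool → A := fun b => if b then f else 1 - f
  let Y : Bool → Scheme.{u} := fun b => Spec (CommRingCat.of (Localization.Away (e b)))
  let w : ∀ b, Y b ⟶ Spec (CommRingCat.of A) := fun b =>
    Spec.map (CommRingCat.ofHom (algebraMap A (Localization.Away (e b))))
  have hR : Presieve.ofArrows Y w ∈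
      Scheme.precoverage (@IsOpenImmersion ⊓ @QuasiCompact) (Spec (CommRingCat.of A)) := by
    rw [Scheme.ofArrows_mem_precoverage_iff]
    refine ⟨fun x => ?_, fun b => ⟨inferInstance, inferInstance⟩⟩
    have hx : f ∉ x.asIdeal ∨ (1 - f) ∉ x.asIdeal := by
      by_contra hcon
      push Not at hcon
      have := x.asIdeal.add_mem hcon.1 hcon.2
      rw [add_sub_cancel] at this
      exact x.isPrime.ne_top ((Ideal.eq_top_iff_one _).mpr this)
    rcases hx with hx | hx
    · refine ⟨true, ?_⟩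
      have := PrimeSpectrum.localization_away_comap_range (Localization.Away f) f
      have hx' : x ∈ (PrimeSpectrum.basicOpen f : Set (PrimeSpectrum A)) := hx
      rw [← this] at hx'
      exact hx'
    · refine ⟨false, ?_⟩
      have := PrimeSpectrum.localization_away_comap_range (Localization.Away (1 - f)) (1 - f)
      have hx' : x ∈ (PrimeSpectrum.basicOpen (1 - f) : Set (PrimeSpectrum A)) := hx
      rw [← this] at hx'
      exact hx'
  obtain ⟨Y', w', k, hw, hk⟩ := h _ _ hR (𝟙 _)
  obtain ⟨b⟩ := hw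
  obtain ⟨ψ, hψ⟩ := exists_retraction_of_section _ k hk
  have hunit : IsUnit (e b) := by
    have := (IsLocalization.Away.algebraMap_isUnit (S := Localization.Away (e b)) (e b)).map ψ
    rwa [hψ] at this
  cases b
  · right; exact hunit
  · left; exact hunit


theorem noZeroDivisors_of_localFor (A : Type u) [CommRing A]
    (h : LocalFor @IsFinite (Spec (CommRingCat.of A))) : NoZeroDivisors A := by
  refine ⟨fun {a b} hab => ?_⟩
  let e : Bool → A := fun c => if c then a else b
  let Y : Bool → Scheme.{u} := fun c => Spec (CommRingCat.of (A ⧸ Ideal.span {e c}))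
  let w : ∀ c, Y c ⟶ Spec (CommRingCat.of A) := fun c =>
    Spec.map (CommRingCat.ofHom (Ideal.Quotient.mk (Ideal.span {e c})))
  have hfin : ∀ c, IsFinite (w c) := by
    intro c
    rw [IsFinite.SpecMap_iff]
    exact RingHom.Finite.of_surjective _ Ideal.Quotient.mk_surjective
  have hR : Presieve.ofArrows Y w ∈ Scheme.precoverage @IsFinite (Spec (CommRingCat.of A)) := by
    refine (Scheme.ofArrows_mem_precoverage_iff _).mpr ⟨fun x => ?_, hfin⟩
    have hx : a ∈ x.asIdeal ∨ b ∈ x.asIdeal := by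
      apply x.isPrime.mem_or_mem
      rw [hab]
      exact zero_mem _
    have key : ∀ c, e c ∈ x.asIdeal → x ∈ Set.range (w c) := by
      intro c hc
      have hr := range_comap_of_surjective (A ⧸ Ideal.span {e c})
        (Ideal.Quotient.mk (Ideal.span {e c})) Ideal.Quotient.mk_surjective
      have hx' : (x : PrimeSpectrum A) ∈
          PrimeSpectrum.zeroLocus (RingHom.ker (Ideal.Quotient.mk (Ideal.span {e c})) : Set A) := by
        rw [Ideal.mk_ker]
        refine (PrimeSpectrum.mem_zeroLocus (x : PrimeSpectrum A) _).mpr ?_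
        rw [SetLike.coe_subset_coe, Ideal.span_singleton_le_iff_mem]
        exact hc
      rw [← hr] at hx'
      exact hx'
    rcases hx with hx | hx
    · exact ⟨true, key true hx⟩
    · exact ⟨false, key false hx⟩
  obtain ⟨Y', w', k, hw, hk⟩ := h _ _ hR (𝟙 _)
  obtain ⟨c⟩ := hw
  obtain ⟨ψ, hψ⟩ := exists_retraction_of_section _ k hk
  have hzero : e c = 0 := by
    rw [← hψ (e c)]
    have : Ideal.Quotient.mk (Ideal.span {e c}) (e c) = 0 :=
      Ideal.Quotient.eq_zero_iff_mem.mpr (Ideal.subset_span rfl)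
    rw [this, map_zero]
  cases c
  · right; exact hzero
  · left; exact hzero

theorem isAIC_of_localFor (A : Type u) [CommRing A] [Nontrivial A]
    (h : LocalFor @IsFinite (Spec (CommRingCat.of A))) : Curves.IsAIC A := by
  intro F hF hd
  let φ : A →+* AdjoinRoot F := AdjoinRoot.of F
  let v : Spec (CommRingCat.of (AdjoinRoot F)) ⟶ Spec (CommRingCat.of A) :=
    Spec.map (CommRingCat.ofHom φ)
  have hfree : Module.Free A (AdjoinRoot F) := Module.Free.of_basis (AdjoinRoot.powerBasis' hF).basis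
  have hnt : Nontrivial (AdjoinRoot F) := by
    have : Nonempty (Fin (AdjoinRoot.powerBasis' hF).dim) := by
      rw [AdjoinRoot.powerBasis'_dim]
      exact ⟨⟨0, hd⟩⟩
    obtain ⟨i⟩ := this
    exact ⟨⟨(AdjoinRoot.powerBasis' hF).basis i, 0, (AdjoinRoot.powerBasis' hF).basis.ne_zero i⟩⟩
  have hff : Module.FaithfullyFlat A (AdjoinRoot F) := inferInstance
  have hsurj : Function.Surjective v.base := by
    intro x
    obtain ⟨y, hy⟩ := PrimeSpectrum.comap_surjective_of_faithfullyFlat (A := A) (B := AdjoinRoot F) x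
    exact ⟨y, hy⟩
  have hfin : IsFinite v := by
    rw [IsFinite.SpecMap_iff]
    have : Module.Finite A (AdjoinRoot F) := Module.Finite.of_basis (AdjoinRoot.powerBasis' hF).basis
    exact (RingHom.finite_algebraMap (A := A) (B := AdjoinRoot F)).mpr this
  have hmem : Presieve.singleton v ∈ Scheme.precoverage @IsFinite (Spec (CommRingCat.of A)) := by
    exact (Scheme.singleton_mem_precoverage_iff _ v).mpr ⟨hsurj, hfin⟩
  obtain ⟨Y, w, k, hw, hk⟩ := h _ _ hmem (𝟙 _)
  obtain ⟨⟩ := hw
  obtain ⟨ψ, hψ⟩ := exists_retraction_of_section _ k hk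
  refine ⟨ψ (AdjoinRoot.root F), ?_⟩
  have h1 : Polynomial.eval₂ φ (AdjoinRoot.root F) F = 0 := AdjoinRoot.eval₂_root F
  have h2 := congr_arg ψ h1
  rw [Polynomial.hom_eval₂, map_zero] at h2
  have h3 : (ψ.comp φ) = RingHom.id A := RingHom.ext hψ
  rw [h3, Polynomial.eval₂_id] at h2
  exact h2


theorem localFor_zariski (A : Type u) [CommRing A] [IsLocalRing A] :
    LocalFor (@IsOpenImmersion ⊓ @QuasiCompact) (Spec (CommRingCat.of A)) := by
  intro X R hR g
  obtain ⟨h1, h2⟩ := mem_precoverage_iff.mp hR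
  obtain ⟨Y, w, hw, hx⟩ := h1 (g (IsLocalRing.closedPoint A))
  have hoi : IsOpenImmersion w := (h2 w hw).1
  have htop : g ⁻¹ᵁ w.opensRange = ⊤ := by
    apply (IsLocalRing.closedPoint_mem_iff (R := A) _).mp
    exact hx
  have hrange : Set.range g ⊆ Set.range w := by
    rintro _ ⟨y, rfl⟩
    have : y ∈ g ⁻¹ᵁ w.opensRange := by rw [htop]; trivial
    exact this
  exact ⟨Y, w, IsOpenImmersion.lift w g hrange, hw, IsOpenImmersion.lift_fac w g hrange⟩


theorem localFor_finite (A : Type u) [CommRing A] [IsDomain A] (hA : Curves.IsAIC A) :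
    LocalFor @IsFinite (Spec (CommRingCat.of A)) := by
  intro X R hR g
  obtain ⟨h1, h2⟩ := mem_precoverage_iff.mp hR
  let η : Spec (CommRingCat.of A) := (⊥ : PrimeSpectrum A)
  obtain ⟨Y, w, hw, y, hy⟩ := h1 (g η)
  have hfin : IsFinite w := h2 w hw
  -- the pullback
  let Y' := pullback w g
  let sn : Y' ⟶ Spec (CommRingCat.of A) := pullback.snd w g
  have hsnfin : IsFinite sn := inferInstance
  have haff : IsAffine Y' := isAffine_of_isAffineHom sn
  obtain ⟨y', hy'1, hy'2⟩ := Scheme.Pullback.exists_preimage_pullback (f := w) (g := g) y η hy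
  let B := Γ(Y', ⊤)
  let φ' : CommRingCat.of A ⟶ B := (Scheme.ΓSpecIso (CommRingCat.of A)).inv ≫ sn.appTop
  -- key identity
  have hkey : Y'.isoSpec.inv ≫ sn = Spec.map φ' := by
    have := Scheme.isoSpec_inv_naturality sn
    rw [Scheme.isoSpec_Spec_inv, ← Spec.map_comp] at this
    exact this.symm
  have hkey' : sn = Y'.isoSpec.hom ≫ Spec.map φ' := by
    rw [← hkey, Iso.hom_inv_id_assoc]
  -- integrality
  have hint : φ'.hom.IsIntegral := by
    have h1 : sn.appTop.hom.Finite := Scheme.Hom.finite_appTop sn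
    have h2 : (Scheme.ΓSpecIso (CommRingCat.of A)).inv.hom.Finite :=
      RingHom.Finite.of_surjective _
        (ConcreteCategory.bijective_of_isIso (Scheme.ΓSpecIso (CommRingCat.of A)).inv).2
    have h3 : φ'.hom.Finite := by
      have := RingHom.Finite.comp h1 h2
      exact this
    exact h3.to_isIntegral
  -- the prime
  let q : PrimeSpectrum B := Y'.isoSpec.hom y'
  have hq : q.asIdeal.comap φ'.hom = ⊥ := by
    have h4 : (Spec.map φ') q = η := by
      show (Spec.map φ') (Y'.isoSpec.hom y') = η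
      rw [← Scheme.Hom.comp_apply, ← hkey']
      exact hy'2
    have h5 : ((Spec.map φ') q).asIdeal = q.asIdeal.comap φ'.hom := rfl
    rw [← h5, h4]
    rfl
  obtain ⟨ψ, hψ⟩ := exists_retraction hA φ'.hom hint q.asIdeal hq
  let s : Spec (CommRingCat.of A) ⟶ Y' := Spec.map (CommRingCat.ofHom ψ) ≫ Y'.isoSpec.inv
  have hs : s ≫ sn = 𝟙 _ := by
    show (Spec.map (CommRingCat.ofHom ψ) ≫ Y'.isoSpec.inv) ≫ sn = 𝟙 _
    rw [Category.assoc, hkey, ← Spec.map_comp]
    have : φ' ≫ CommRingCat.ofHom ψ = 𝟙 _ := by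
      ext a
      exact congr_arg (fun f => f a) hψ
    rw [this, Spec.map_id]
  refine ⟨Y, w, s ≫ pullback.fst w g, hw, ?_⟩
  rw [Category.assoc, pullback.condition, ← Category.assoc]
  show (s ≫ sn) ≫ g = g
  rw [hs, Category.id_comp]



/-- Let P be a quasi-separated scheme. Then P is local for Zariski coverings (for every scheme X, every
jointly surjective family of quasi-compact open immersions into X and every morphism P ⟶ X, the
morphism factors through a member) and for finite coverings (the same for jointly surjective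
families of finite morphisms) — which together is locality for the rqfh coverings, the finite
composites of coverings of these two kinds — if and only if P is affine and Γ(P) is a local integral
domain in which every monic polynomial of positive degree has a root, i.e. the spectrum of an
absolutely integrally closed local domain. The published statement allows any scheme P; this row
assumes P quasi-separated. -/
theorem result (P : Scheme.{u}) [QuasiSeparatedSpace P] :
    ((∀ (X : Scheme.{u}) (R : Presieve X), R ∈ Scheme.precoverage (@IsOpenImmersion ⊓ @QuasiCompact) X →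
        ∀ g : P ⟶ X, ∃ (Y : Scheme.{u}) (w : Y ⟶ X) (h : P ⟶ Y), R w ∧ h ≫ w = g) ∧
      (∀ (X : Scheme.{u}) (R : Presieve X), R ∈ Scheme.precoverage @IsFinite X →
        ∀ g : P ⟶ X, ∃ (Y : Scheme.{u}) (w : Y ⟶ X) (h : P ⟶ Y), R w ∧ h ≫ w = g)) ↔
    (IsAffine P ∧ IsLocalRing Γ(P, ⊤) ∧ IsDomain Γ(P, ⊤) ∧ Curves.IsAIC Γ(P, ⊤)) := by
  constructor
  · rintro ⟨hZ, hF⟩
    have hZ0 : LocalFor (@IsOpenImmersion ⊓ @QuasiCompact) P := hZ
    have hF0 : LocalFor @IsFinite P := hF
    have haff : IsAffine P := isAffine_of_localFor P hZ0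
    have hZ' : LocalFor (@IsOpenImmersion ⊓ @QuasiCompact) (Spec (CommRingCat.of Γ(P, ⊤))) :=
      hZ0.of_iso P.isoSpec
    have hF' : LocalFor @IsFinite (Spec (CommRingCat.of Γ(P, ⊤))) := hF0.of_iso P.isoSpec
    have hloc : IsLocalRing Γ(P, ⊤) := isLocalRing_of_localFor _ hZ'
    have hnzd : NoZeroDivisors Γ(P, ⊤) := noZeroDivisors_of_localFor _ hF'
    have hdom : IsDomain Γ(P, ⊤) := NoZeroDivisors.to_isDomain _
    exact ⟨haff, hloc, hdom, isAIC_of_localFor _ hF'⟩
  · rintro ⟨haff, hloc, hdom, haic⟩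
    have hZ' : LocalFor (@IsOpenImmersion ⊓ @QuasiCompact) (Spec (CommRingCat.of Γ(P, ⊤))) :=
      localFor_zariski _
    have hF' : LocalFor @IsFinite (Spec (CommRingCat.of Γ(P, ⊤))) := localFor_finite _ haic
    exact ⟨hZ'.of_iso P.isoSpec.symm, hF'.of_iso P.isoSpec.symm⟩

end Groth.Agent.S19345
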