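import Groth.Statements.S19350
import Groth.Agent.H8.StrictTransformIso

set_option autoImplicit false
universe u
open RigCh

namespace Groth.Agent.S19350

open AlgebraicGeometry CategoryTheory in
/-- Let X be a separated scheme of finite type over a field k, I a quasi-coherent ideal sheaf on X, b :
X' → X a blowing up of X in I and F a finite locally free O_X-module. Then for any strict transform
G of F along b (an epimorphism π from the pullback of F onto G whose kernel consists,
affine-locally, of the sections annihilated by a power of the exceptional ideal), π is an
isomorphism and G is finite locally free. (The published statement asserts only that the strict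
transform is locally free. The source assumes k of positive characteristic, which plays no role
here.) -/
theorem result (k : Type u) [Field k]
    (X : Scheme.{u}) (f : X ⟶ Spec (CommRingCat.of k)) [IsSeparated f] [QuasiCompact f] [LocallyOfFiniteType f]
    (I : X.IdealSheafData) {X' : Scheme.{u}} (b : X' ⟶ X) (hb : BlowUp.IsBlowUp b I)
    (F : X.Modules) (hF : FlatMod.IsFinLocFree F) (G : X'.Modules) (π : (Scheme.Modules.pullback b).obj F ⟶ G)
    (hG : BlowUp.IsStrictTransform b I F G π) : IsIso π ∧ FlatMod.IsFinLocFree G := by
  have hfl : FlatMod.IsFinLocFree ((Scheme.Modules.pullback b).obj F) :=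
    Groth.Agent.H5.PerfectPull.isFinLocFree_pullback b F hF
  have hflat := Groth.Agent.H5.PerfectPull.flatMod_of_isFinLocFree F hF
  haveI hiso : IsIso π :=
    Groth.Agent.H8.isIso_of_isStrictTransform_of_flat b I hb.1 F (fun s _ => hflat s) G π hG
  refine ⟨hiso, ?_⟩
  intro y
  obtain ⟨W, n, hy, ⟨a⟩⟩ := hfl y
  exact ⟨W, n, hy, ⟨(Scheme.Modules.restrictFunctor W.ι).mapIso (asIso π).symm ≪≫ a⟩⟩

end Groth.Agent.S19350
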