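import Groth.Statements.S19358
import Groth.Agent.H96.FanCore
-- import your own Groth.Agent.* helpers here

set_option autoImplicit false
universe u
open CategoryTheory Opposite Instab
open Instab Instab.Fan

namespace Groth.Agent.S19358

/-- Let f : F ⟶ G be a map of formal fans. If f is injective on n-cones for every n, then the induced
continuous map of projective realizations P F → P G is injective; if f is surjective on n-cones for
every n, then P F → P G is surjective. -/
theorem result {F G : Fan.{u}} (f : F ⟶ G) :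
    ((∀ n : ICone, Function.Injective (f.app (op n))) → Function.Injective (Fan.P.map f)) ∧
    ((∀ n : ICone, Function.Surjective (f.app (op n))) → Function.Surjective (Fan.P.map f)) := by
  constructor
  · intro hinj x x' hxx'
    obtain ⟨n₁, σ₁, v₁, rfl⟩ := Groth.Agent.H96.FanCore.exists_rep x
    obtain ⟨n₂, σ₂, v₂, rfl⟩ := Groth.Agent.H96.FanCore.exists_rep x'
    rw [Groth.Agent.H96.FanCore.map_mk, Groth.Agent.H96.FanCore.map_mk,
      Groth.Agent.H96.FanCore.mk_eq_mk_iff] at hxx'
    obtain ⟨k, φ₁, φ₂, y, c₁, c₂, e, h1, h2, h3, h4⟩ := hxx'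
    rw [Groth.Agent.H96.FanCore.mk_eq_mk_iff]
    refine ⟨k, φ₁, φ₂, y, c₁, c₂, ?_, h1, h2, h3, h4⟩
    apply hinj k
    rw [Groth.Agent.H96.FanCore.app_map_op, Groth.Agent.H96.FanCore.app_map_op]
    exact e
  · intro hsurj y
    obtain ⟨n, η, v, rfl⟩ := Groth.Agent.H96.FanCore.exists_rep y
    obtain ⟨ξ, rfl⟩ := hsurj n η
    exact ⟨Fan.P.mk ξ v, rfl⟩

end Groth.Agent.S19358
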