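import Groth.Statements.S19359
import Groth.Agent.H96.FanBdd
-- import your own Groth.Agent.* helpers here

set_option autoImplicit false
universe u
open CategoryTheory Opposite Instab
open Instab Instab.Fan

namespace Groth.Agent.S19359

/-- A formal fan G is quasi-separated (the fibre product of any two of its cones is a bounded fan) if
and only if, for every bounded formal fan F, every map of fans F ⟶ G is bounded (its base change
along each cone of G is a bounded fan). -/
theorem result (G : Fan.{u}) :
    G.IsQuasiSeparated ↔
      ∀ (F : Fan.{u}) (f : F ⟶ G), F.IsBounded → Fan.IsBoundedMap f := by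
  constructor
  · intro hG F f hF n σ
    obtain ⟨s, hs⟩ := hF
    apply Groth.Agent.H96.FanBdd.isBounded_pullback_of_cover f (Fan.coneMap σ) s hs
    intro e _
    have key : ∀ f' : uliftYoneda.{u}.obj e.1 ⟶ G, f' = Fan.coneMap (f.app _ e.2) →
        Fan.IsBounded (Limits.pullback f' (Fan.coneMap σ)) := by
      rintro _ rfl
      exact hG _ _ _ _
    exact key _ (Groth.Agent.H96.FanBdd.coneMap_comp f e.2)
  · intro h n₀ n₁ σ₀ σ₁
    exact h (uliftYoneda.{u}.obj n₀) (Fan.coneMap σ₀) (Groth.Agent.H96.FanBdd.yo_isBounded n₀) n₁ σ₁

end Groth.Agent.S19359
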