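import Groth.Statements.S19375
import Groth.Agent.H26.ZariskiComplNormal
import Groth.Agent.H78.SchFin.Conn
import Groth.Agent.H96.NormalConn
-- import your own Groth.Agent.* helpers here

set_option autoImplicit false
universe u
open EGA4

namespace Groth.Agent.S19375

/-- Let A be a Noetherian ring, J a proper ideal of A, Â the J-adic completion of A and A_T the
localization of A at the multiplicative set T = 1 + J (the elements congruent to 1 modulo J). Assume
that the canonical map A → Â is a normal homomorphism (flat, with geometrically normal fibres), as
happens when A is excellent. Then Â is an integrally closed domain if and only if A_T is an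
integrally closed domain and the spectrum of A/J is connected. (The published statement asserts the
equivalence of the first two conditions alone; for A = ℤ and J = 6ℤ the localization A_T is an
integrally closed domain while Â ≅ ℤ_2 × ℤ_3 is not a domain, and the published proof tacitly uses
that Spec Â, whose connected components correspond to those of Spec(A/J), is connected. The case of
the henselization of the pair and of the weak completion is not stated here.) -/
theorem result
    (A : Type u) [CommRing A] [IsNoetherianRing A] (J : Ideal A) (hJ : J ≠ ⊤)
    (hf : EGA4.IsNormalHom A (AdicCompletion J A))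
    (T : Submonoid A) (hT : T = MonoidHom.mker (Ideal.Quotient.mk J)) :
    (IsDomain (AdicCompletion J A) ∧ IsIntegrallyClosed (AdicCompletion J A)) ↔
      ((IsDomain (Localization T) ∧ IsIntegrallyClosed (Localization T)) ∧
        ConnectedSpace (PrimeSpectrum (A ⧸ J))) := by
  classical
  subst hT
  have hiff := Groth.Agent.H26.ZariskiCompl.isNormalRing_localization_iff J hf
    (MonoidHom.mker (Ideal.Quotient.mk J)) rfl
  have : IsNoetherianRing (AdicCompletion J A) :=
    Groth.Agent.H20.isNoetherianRing_adicCompletion J
  have hND : ∀ (R : Type u) [CommRing R], IsDomain R → IsIntegrallyClosed R →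
      EGA4.IsNormalRing R := by
    intro R _ hd hic p hp
    exact ⟨IsLocalization.isDomain_localization p.primeCompl_le_nonZeroDivisors,
      isIntegrallyClosed_of_isLocalization _ p.primeCompl p.primeCompl_le_nonZeroDivisors⟩
  have hNR : ∀ (R : Type u) [CommRing R], IsDomain R → EGA4.IsNormalRing R →
      IsIntegrallyClosed R := by
    intro R _ hd hn
    exact IsIntegrallyClosed.of_localization_maximal (fun p _ hp => (hn p).2)
  constructor
  · rintro ⟨hd, hic⟩
    have hnC := hND _ hd hic
    have hnT := hiff.mpr hnC
    have hunits : ∀ y : (MonoidHom.mker (Ideal.Quotient.mk J) : Submonoid A),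
        IsUnit (algebraMap A (AdicCompletion J A) y) :=
      fun y => Groth.Agent.H26.ZariskiCompl.isUnit_algebraMap J y (MonoidHom.mem_mker.mp y.2)
    have hinj : Function.Injective
        (IsLocalization.lift (M := (MonoidHom.mker (Ideal.Quotient.mk J) : Submonoid A))
          (S := Localization (MonoidHom.mker (Ideal.Quotient.mk J) : Submonoid A)) hunits) := by
      rw [IsLocalization.lift_injective_iff]
      intro x y
      constructor
      · intro h
        have := congrArg (IsLocalization.lift hunits) h
        rwa [IsLocalization.lift_eq, IsLocalization.lift_eq] at this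
      · intro h
        obtain ⟨t, ht, hxy⟩ :=
          Groth.Agent.H96.NormalConn.exists_mul_eq_of_algebraMap_eq J x y h
        rw [IsLocalization.eq_iff_exists (MonoidHom.mker (Ideal.Quotient.mk J) : Submonoid A)]
        exact ⟨⟨t, MonoidHom.mem_mker.mpr ht⟩, hxy⟩
    have hdT : IsDomain (Localization (MonoidHom.mker (Ideal.Quotient.mk J) : Submonoid A)) :=
      hinj.isDomain _
    refine ⟨⟨hdT, hNR _ hdT hnT⟩, ?_⟩
    rw [Groth.Agent.H78.connectedSpace_primeSpectrum_iff]
    refine ⟨Ideal.Quotient.nontrivial_iff.mpr hJ, Groth.Agent.H96.NormalConn.idem_trivial_quot J ?_⟩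
    intro x hx
    exact IsIdempotentElem.iff_eq_zero_or_one.mp hx
  · rintro ⟨⟨hd, hic⟩, hconn⟩
    have hnT := hND _ hd hic
    have hnC := hiff.mp hnT
    obtain ⟨hnt, hidem⟩ := (Groth.Agent.H78.connectedSpace_primeSpectrum_iff _).mp hconn
    have : Nontrivial (AdicCompletion J A) :=
      (AdicCompletion.evalOneₐ_surjective J).nontrivial
    have : ConnectedSpace (PrimeSpectrum (AdicCompletion J A)) :=
      (Groth.Agent.H78.connectedSpace_primeSpectrum_iff _).mpr
        ⟨inferInstance, Groth.Agent.H96.NormalConn.idem_trivial_compl J hidem⟩
    have hdC : IsDomain (AdicCompletion J A) :=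
      Groth.Agent.H96.NormalConn.isDomain_of_locally_domain _ (fun p _ => (hnC p).1)
    exact ⟨hdC, hNR _ hdC hnC⟩

end Groth.Agent.S19375
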