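import Groth.Statements.S19379
import Groth.Agent.H23.FlatOfAdic2
import Groth.Agent.H23.GeomRegIff

set_option autoImplicit false
universe u
open CAlg

namespace Groth.Agent.S19379

/-- Let A and B be Noetherian rings and let B be an A-algebra which is formally smooth for the discrete
topologies. Then A → B is a regular homomorphism, that is, flat with (Noetherian) geometrically
regular fibres. -/
theorem result
    (A B : Type u) [CommRing A] [CommRing B] [Algebra A B]
    [IsNoetherianRing A] [IsNoetherianRing B] [Algebra.FormallySmooth A B] :
    CAlg.IsRegularHom A B := by
  refine ⟨?_, ?_⟩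
  · -- flatness, checked at the primes of `B`
    rw [← RingHom.flat_algebraMap_iff]
    apply RingHom.Flat.ofLocalizationPrime
    intro P hP
    haveI := hP
    letI : Algebra (Localization.AtPrime (Ideal.comap (algebraMap A B) P))
        (Localization.AtPrime P) :=
      (Localization.localRingHom (Ideal.comap (algebraMap A B) P) P (algebraMap A B) rfl).toAlgebra
    haveI : IsScalarTower A (Localization.AtPrime (Ideal.comap (algebraMap A B) P))
        (Localization.AtPrime P) :=
      .of_algebraMap_eq fun x => by
        rw [IsScalarTower.algebraMap_apply A B (Localization.AtPrime P)]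
        exact (Localization.localRingHom_to_map _ _ _ rfl x).symm
    haveI : IsLocalHom (algebraMap (Localization.AtPrime (Ideal.comap (algebraMap A B) P))
        (Localization.AtPrime P)) :=
      Localization.isLocalHom_localRingHom _ _ _ rfl
    haveI : Algebra.FormallySmooth (Localization.AtPrime (Ideal.comap (algebraMap A B) P))
        (Localization.AtPrime P) :=
      Algebra.FormallySmooth.localization_base (Ideal.comap (algebraMap A B) P).primeCompl
    have hadic : CAlgX.IsAdicFormallySmooth
        (Localization.AtPrime (Ideal.comap (algebraMap A B) P)) (Localization.AtPrime P)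
        (IsLocalRing.maximalIdeal (Localization.AtPrime P)) :=
      Groth.Agent.H46.isAdicFormallySmooth_of_formallySmooth _
    show Module.Flat (Localization.AtPrime (Ideal.comap (algebraMap A B) P))
      (Localization.AtPrime P)
    exact Groth.Agent.H23.FlatOfAdic.flat_of_adic hadic
  · intro p _
    have h1 : Algebra.EssFiniteType B (TensorProduct A B p.ResidueField) := inferInstance
    have h2 : IsNoetherianRing (TensorProduct A B p.ResidueField) :=
      Algebra.EssFiniteType.isNoetherianRing B _
    haveI h3 : IsNoetherianRing (p.Fiber B) := isNoetherianRing_of_ringEquiv _
      (Algebra.TensorProduct.comm A B p.ResidueField).toRingEquiv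
    exact ⟨h3, Groth.Agent.H23.GeomRegIff.geomReg_of_formallySmooth _⟩

end Groth.Agent.S19379
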