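import Groth.Statements.S19380
import Mathlib.LinearAlgebra.Matrix.SchurComplement
-- import your own Groth.Agent.* helpers here

set_option autoImplicit false
universe u
open CAlg

namespace Groth.Agent.S19380


open Polynomial Matrix in
theorem charpolyRev_map_aux {L : Type*} [CommRing L] {n : Type*} [Fintype n] [DecidableEq n]
    (f : L →+* L) (M : Matrix n n L) :
    (M.map f).charpolyRev = M.charpolyRev.map f := by
  unfold Matrix.charpolyRev
  rw [← Polynomial.coe_mapRingHom, RingHom.map_det]
  congr 1
  ext i j
  simp [Matrix.one_apply, apply_ite]

open Polynomial Matrix in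
theorem charpolyRev_mul_comm_aux {L : Type*} [CommRing L] {n : Type*} [Fintype n] [DecidableEq n]
    (A B : Matrix n n L) :
    (A * B).charpolyRev = (B * A).charpolyRev := by
  unfold Matrix.charpolyRev
  have h1 : (X : L[X]) • (A * B).map ⇑(Polynomial.C : L →+* L[X]) =
      ((X : L[X]) • A.map ⇑(Polynomial.C : L →+* L[X])) * B.map ⇑(Polynomial.C : L →+* L[X]) := by
    rw [Matrix.map_mul, Matrix.smul_mul]
  have h2 : (X : L[X]) • (B * A).map ⇑(Polynomial.C : L →+* L[X]) =
      B.map ⇑(Polynomial.C : L →+* L[X]) * ((X : L[X]) • A.map ⇑(Polynomial.C : L →+* L[X])) := by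
    rw [Matrix.map_mul, Matrix.mul_smul]
  rw [h1, h2, det_one_sub_mul_comm]

/-- Let L be a commutative ring, σ a ring automorphism of L of finite order dividing d (σ^d = 1), and C
an r × r matrix over L. The reverse characteristic polynomial det(1 − T·N) of the twisted product N
= C·σ(C)·σ²(C)⋯σ^(d−1)(C), with σ applied to the entries, is fixed by σ acting on coefficients. (In
the source this is phrased for the fibre at a closed point x of degree d of a convergent F-module
with Frobenius matrix C: the d-th iterate of the semilinear Frobenius of the fibre is the linear map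
with matrix N, so its characteristic polynomial has coefficients in the subfield fixed by the
Frobenius of K(x), namely K, and likewise with the valuation ring in place of K for an integral
F-module; only this linear-algebra statement, over any commutative ring, is given here.) -/
theorem result
    (L : Type u) [CommRing L] (σ : L ≃+* L) (d : ℕ) (hσ : σ ^ d = 1)
    (r : ℕ) (C : Matrix (Fin r) (Fin r) L) :
    (Matrix.charpolyRev (((List.range d).map fun i => C.map ⇑(σ ^ i)).prod)).map (σ : L →+* L) =
      Matrix.charpolyRev (((List.range d).map fun i => C.map ⇑(σ ^ i)).prod) := by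
  rw [← charpolyRev_map_aux]
  cases d with
  | zero => simp
  | succ d' =>
    have hmap : (((List.range (d' + 1)).map fun i => C.map ⇑(σ ^ i)).prod).map ⇑(σ : L →+* L) =
        ((List.range (d' + 1)).map fun i => C.map ⇑(σ ^ (i + 1))).prod := by
      have h := map_list_prod (RingHom.mapMatrix (m := Fin r) (σ : L →+* L))
        ((List.range (d' + 1)).map fun i => C.map ⇑(σ ^ i))
      rw [RingHom.mapMatrix_apply] at h
      rw [h, List.map_map]
      congr 1
      apply List.map_congr_left
      intro i _
      simp only [Function.comp_apply, RingHom.mapMatrix_apply]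
      ext a b
      simp [pow_succ']
    rw [hmap]
    have e1 : ((List.range (d' + 1)).map fun i => C.map ⇑(σ ^ i)).prod =
        C * ((List.range d').map fun i => C.map ⇑(σ ^ (i + 1))).prod := by
      rw [List.range_succ_eq_map, List.map_cons, List.prod_cons, List.map_map]
      congr 1
    have e2 : ((List.range (d' + 1)).map fun i => C.map ⇑(σ ^ (i + 1))).prod =
        ((List.range d').map fun i => C.map ⇑(σ ^ (i + 1))).prod * C := by
      rw [List.range_succ, List.map_append, List.prod_append, List.map_singleton, List.prod_singleton, hσ]
      congr 1
    rw [e1, e2]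
    exact charpolyRev_mul_comm_aux _ _

end Groth.Agent.S19380
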