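import Groth.Statements.S19381
import Groth.Agent.H11.FlatComplSch
import Groth.Agent.H20.ComplNoeth2

set_option autoImplicit false
universe u
open CategoryTheory CategoryTheory.Limits AlgebraicGeometry
open FlatMor

namespace Groth.Agent.S19381

/-- Over a discrete valuation ring, let V be a henselian discrete valuation ring with maximal ideal 𝔪, A
a smooth V-algebra, Â the 𝔪A-adic completion of A, and h : X → Spec A a proper morphism with
reduction h₀ : X ×_{Spec A} Spec(A/𝔪A) → Spec(A/𝔪A). Then X is flat over V and h₀ is flat if and
only if the base change of h to Spec Â is flat. (The published statement is for an excellent normal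
ring V with a henselian pair (V, V/I) and the projective lift h built from lifted equations, and
also lists the base changes to the weak completion and to the henselization of (A, 𝔪A); it rests on
a lemma asserting 'B flat over V iff B̂ flat over V' for V-algebras B of finite type, which fails
when V has dimension ≥ 2 (V = ℤ_p[[x]], I = (p), B = V[y]/(x, py − 1) ≅ ℚ_p has B̂ = 0), so the
statement is given over a discrete valuation ring and for an arbitrary proper h.) -/
theorem result
    (V : Type u) [CommRing V] [IsDomain V] [IsDiscreteValuationRing V] [HenselianLocalRing V]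
    (A : Type u) [CommRing A] [Algebra V A] [Algebra.Smooth V A]
    (X : Scheme.{u}) (h : X ⟶ Spec (.of A)) [IsProper h] :
    (Flat (h ≫ Spec.map (CommRingCat.ofHom (algebraMap V A))) ∧
        Flat (pullback.snd h (Spec.map (CommRingCat.ofHom
          (Ideal.Quotient.mk ((IsLocalRing.maximalIdeal V).map (algebraMap V A))))))) ↔
      Flat (pullback.snd h (Spec.map (CommRingCat.ofHom
          (algebraMap A (AdicCompletion ((IsLocalRing.maximalIdeal V).map (algebraMap V A)) A))))) := by
  classical
  obtain ⟨ϖ, hϖ⟩ := IsDiscreteValuationRing.exists_irreducible V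
  haveI : IsNoetherianRing A := Algebra.FiniteType.isNoetherianRing V A
  haveI : Module.Flat V A := inferInstance
  set I : Ideal A := (IsLocalRing.maximalIdeal V).map (algebraMap V A) with hI
  have hIspan : I = Ideal.span {algebraMap V A ϖ} := by
    rw [hI, hϖ.maximalIdeal_eq, Ideal.map_span, Set.image_singleton]
  haveI : IsNoetherianRing (AdicCompletion I A) :=
    Groth.Agent.H20.isNoetherianRing_adicCompletion I
  constructor
  · rintro ⟨hXV, h0⟩
    have h0' : Flat (pullback.snd h (Spec.map (CommRingCat.ofHom
        (Ideal.Quotient.mk (Ideal.span {algebraMap V A ϖ} : Ideal A))))) := hIspan ▸ h0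
    refine Groth.Agent.H11.FlatComplSch.flat_baseChange_of_flat_quotient A h (algebraMap V A ϖ) h0'
      (fun W hW s hs => Groth.Agent.H11.FlatComplSch.regular_sec_of_flat_comp A h V hXV ϖ
        hϖ.ne_zero W hW s hs) (AdicCompletion I A) ?_
    have hc := AdicCompletion.isAdicComplete_self I (IsNoetherian.noetherian I)
    have hle := hc.le_jacobson_bot
    have hmap : Ideal.span {algebraMap A (AdicCompletion I A) (algebraMap V A ϖ)} =
        I.map (algebraMap A (AdicCompletion I A)) := by
      have : ∀ (J : Ideal A) (f : A →+* AdicCompletion I A), J = Ideal.span {algebraMap V A ϖ} →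
          Ideal.span {f (algebraMap V A ϖ)} = J.map f := by
        intro J f hJ
        rw [hJ, Ideal.map_span, Set.image_singleton]
      exact this I _ hIspan
    exact hmap.le.trans hle
  · intro hflat
    refine ⟨?_, ?_⟩
    · refine Groth.Agent.H11.FlatComplSch.flat_comp_of_flat_baseChange A h V ϖ hϖ
        (AdicCompletion I A) ?_ hflat
      intro p hp
      have hIp : I ≤ p.asIdeal := by
        rw [hIspan, Ideal.span_singleton_le_iff_mem]; exact hp
      have hker : RingHom.ker (Ideal.Quotient.mk I) ≤ p.asIdeal := by
        rw [Ideal.mk_ker]; exact hIp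
      haveI : (p.asIdeal.map (Ideal.Quotient.mk I)).IsPrime :=
        Ideal.map_isPrime_of_surjective Ideal.Quotient.mk_surjective hker
      let p₀ : PrimeSpectrum (A ⧸ I) := ⟨p.asIdeal.map (Ideal.Quotient.mk I), inferInstance⟩
      refine ⟨PrimeSpectrum.comap (AdicCompletion.evalOneₐ I).toRingHom p₀, ?_⟩
      rw [← PrimeSpectrum.comap_comp_apply, AdicCompletion.evalOneₐ_comp_algebraMap_eq_mk]
      ext1
      change Ideal.comap (Ideal.Quotient.mk I) (p.asIdeal.map (Ideal.Quotient.mk I)) = p.asIdeal
      rw [Ideal.comap_map_of_surjective' _ Ideal.Quotient.mk_surjective, Ideal.mk_ker,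
        sup_eq_left.mpr hIp]
    · exact Groth.Agent.H11.FlatComplSch.quotient_of_baseChange (P := @Flat) A h I
        (AdicCompletion I A) (AdicCompletion.evalOneₐ I).toRingHom
        (AdicCompletion.evalOneₐ_comp_algebraMap_eq_mk I) hflat


end Groth.Agent.S19381
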