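import Groth.Statements.S19382
import Groth.Agent.H11.SmoothComplSch
import Groth.Agent.H20.ComplNoeth2
import Groth.Agent.S19381

set_option autoImplicit false
universe u
open CategoryTheory CategoryTheory.Limits AlgebraicGeometry
open FlatMor

namespace Groth.Agent.S19382

/-- Over a discrete valuation ring, let V be a henselian discrete valuation ring with maximal ideal 𝔪, A
a smooth V-algebra, Â the 𝔪A-adic completion of A, and h : X → Spec A a proper morphism with
reduction h₀ over Spec(A/𝔪A). Then X is flat over V and h₀ is smooth if and only if the base change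
of h to Spec Â is smooth. (As for the flat case, the published statement concerns an excellent
normal base ring with a henselian pair and the projective lift built from lifted equations, together
with the weak completion and the henselization; it is given here over a discrete valuation ring and
for an arbitrary proper h.) -/
theorem result
    (V : Type u) [CommRing V] [IsDomain V] [IsDiscreteValuationRing V] [HenselianLocalRing V]
    (A : Type u) [CommRing A] [Algebra V A] [Algebra.Smooth V A]
    (X : Scheme.{u}) (h : X ⟶ Spec (.of A)) [IsProper h] :
    (Flat (h ≫ Spec.map (CommRingCat.ofHom (algebraMap V A))) ∧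
        Smooth (pullback.snd h (Spec.map (CommRingCat.ofHom
          (Ideal.Quotient.mk ((IsLocalRing.maximalIdeal V).map (algebraMap V A))))))) ↔
      Smooth (pullback.snd h (Spec.map (CommRingCat.ofHom
          (algebraMap A (AdicCompletion ((IsLocalRing.maximalIdeal V).map (algebraMap V A)) A))))) := by
  classical
  haveI : IsNoetherianRing A := Algebra.FiniteType.isNoetherianRing V A
  set I : Ideal A := (IsLocalRing.maximalIdeal V).map (algebraMap V A) with hI
  haveI : IsNoetherianRing (AdicCompletion I A) :=
    Groth.Agent.H20.isNoetherianRing_adicCompletion I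
  have hS := Groth.Agent.S19381.result V A X h
  rw [← hI] at hS
  set α := Spec.map (CommRingCat.ofHom (algebraMap A (AdicCompletion I A))) with hα
  set ι := Spec.map (CommRingCat.ofHom (AdicCompletion.evalOneₐ I).toRingHom) with hι
  have hια : ι ≫ α = Spec.map (CommRingCat.ofHom (Ideal.Quotient.mk I)) := by
    rw [hι, hα, ← Spec.map_comp, ← CommRingCat.ofHom_comp,
      AdicCompletion.evalOneₐ_comp_algebraMap_eq_mk]
  constructor
  · rintro ⟨hXV, h0⟩
    haveI : Smooth (pullback.snd h (Spec.map (CommRingCat.ofHom (Ideal.Quotient.mk I)))) := h0
    have hfl : Flat (pullback.snd h α) := hS.mp ⟨hXV, inferInstance⟩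
    haveI : LocallyOfFinitePresentation (pullback.snd h α) :=
      MorphismProperty.pullback_snd _ _ inferInstance
    refine Groth.Agent.H11.SmoothComplSch.smooth_of_smooth_quotient (AdicCompletion I A)
      (pullback.snd h α) (A ⧸ I) (AdicCompletion.evalOneₐ I).toRingHom
      (AdicCompletion.evalOneₐ_surjective I) ?_ ?_
    · rw [AdicCompletion.ker_evalOneₐ_eq_map I (IsNoetherian.noetherian I)]
      exact (AdicCompletion.isAdicComplete_self I (IsNoetherian.noetherian I)).le_jacobson_bot
    · change Smooth (pullback.snd (pullback.snd h α) ι)
      rw [← pullbackLeftPullbackSndIso_hom_snd h α ι,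
        (MorphismProperty.cancel_left_of_respectsIso @Smooth)]
      have key : ∀ (β : Spec (CommRingCat.of (A ⧸ I)) ⟶ Spec (CommRingCat.of A)), ι ≫ α = β →
          Smooth (pullback.snd h β) → Smooth (pullback.snd h (ι ≫ α)) := by
        rintro β rfl hβ; exact hβ
      exact key _ hια h0
  · intro hsm
    haveI : Smooth (pullback.snd h α) := hsm
    obtain ⟨hXV, -⟩ := hS.mpr inferInstance
    refine ⟨hXV, ?_⟩
    exact Groth.Agent.H11.FlatComplSch.quotient_of_baseChange (P := @Smooth) A h I
      (AdicCompletion I A) (AdicCompletion.evalOneₐ I).toRingHom
      (AdicCompletion.evalOneₐ_comp_algebraMap_eq_mk I) hsm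


end Groth.Agent.S19382
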