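import Groth.Statements.S19383
import Mathlib.RingTheory.AdicCompletion.AsTensorProduct
import Mathlib.RingTheory.Flat.TorsionFree
import Mathlib.RingTheory.Filtration
import Mathlib.RingTheory.Flat.Stability
-- import your own Groth.Agent.* helpers here

set_option autoImplicit false
universe u
open CAlg

namespace Groth.Agent.S19383

/-- Over a discrete valuation ring, let V be a henselian discrete valuation ring with maximal ideal 𝔪
and B a Noetherian V-algebra, B̂ its 𝔪B-adic completion. Then B is flat over V if and only if B̂ is
flat over V. (The published lemma takes V an excellent normal ring with an ideal I such that (V,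
V/I) is a henselian pair and B of finite type; in that generality it fails: for V = ℤ_p[[x]], I =
(p) and B = V[y]/(x, py − 1) ≅ ℚ_p one has IB = B, so B̂ = 0 is flat while B is not flat over V.
Over a discrete valuation ring flatness is torsion-freeness and the statement holds for every
Noetherian B.) -/
theorem result
    (V : Type u) [CommRing V] [IsDomain V] [IsDiscreteValuationRing V] [HenselianLocalRing V]
    (B : Type u) [CommRing B] [Algebra V B] [IsNoetherianRing B] :
    Module.Flat V B ↔
      Module.Flat V (AdicCompletion ((IsLocalRing.maximalIdeal V).map (algebraMap V B)) B) := by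
  set I : Ideal B := (IsLocalRing.maximalIdeal V).map (algebraMap V B) with hI
  constructor
  · intro hflat
    have : Module.Flat B (AdicCompletion I B) := AdicCompletion.flat_of_isNoetherian I
    exact Module.Flat.trans V B (AdicCompletion I B)
  · intro hflat
    rw [IsDedekindDomain.flat_iff_torsion_eq_bot] at hflat ⊢
    obtain ⟨π, hπ⟩ := IsDiscreteValuationRing.exists_irreducible V
    have hπ0 : π ≠ 0 := hπ.ne_zero
    have hIspan : I = Ideal.span {algebraMap V B π} := by
      rw [hI, hπ.maximalIdeal_eq, Ideal.map_span, Set.image_singleton]
    -- π-torsion-freeness of the completion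
    have hcomp : ∀ x : AdicCompletion I B, π • x = 0 → x = 0 := by
      intro x hx
      have : x ∈ Submodule.torsion V (AdicCompletion I B) :=
        ⟨⟨π, mem_nonZeroDivisors_of_ne_zero hπ0⟩, hx⟩
      rw [hflat] at this
      exact this
    have claim1 : ∀ b : B, π • b = 0 → b = 0 := by
      intro b hb
      have h1 : AdicCompletion.of I B b = 0 := by
        apply hcomp
        rw [← algebraMap_smul B π (AdicCompletion.of I B b), ← map_smul, algebraMap_smul, hb,
          map_zero]
      have h2 : b ∈ (⨅ i : ℕ, I ^ i • ⊤ : Submodule B B) := by
        rw [Submodule.mem_iInf]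
        intro n
        have := congrArg (AdicCompletion.eval I B n) h1
        rw [AdicCompletion.eval_of, map_zero, Submodule.mkQ_apply,
          Submodule.Quotient.mk_eq_zero] at this
        exact this
      obtain ⟨⟨a, ha⟩, hab⟩ := (Ideal.mem_iInf_smul_pow_eq_bot_iff I b).mp h2
      rw [hIspan, Ideal.mem_span_singleton'] at ha
      obtain ⟨c, rfl⟩ := ha
      simp only [smul_eq_mul] at hab
      rw [← hab, mul_assoc, ← Algebra.smul_def, hb, mul_zero]
    have claim2 : ∀ (m : ℕ) (b : B), π ^ m • b = 0 → b = 0 := by
      intro m
      induction m with
      | zero => intro b hb; simpa using hb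
      | succ m ih =>
        intro b hb
        apply ih
        apply claim1
        rw [smul_smul, ← pow_succ']
        exact hb
    rw [eq_bot_iff]
    rintro b ⟨⟨r, hr⟩, hrb⟩
    have hr0 : r ≠ 0 := nonZeroDivisors.ne_zero hr
    obtain ⟨m, u, rfl⟩ := IsDiscreteValuationRing.eq_unit_mul_pow_irreducible hr0 hπ
    rw [Submodule.mem_bot]
    apply claim2 m
    have : (u : V) • (π ^ m • b) = 0 := by rw [smul_smul]; exact hrb
    have h3 : π ^ m • b = ((u⁻¹ : Vˣ) : V) • ((u : V) • (π ^ m • b)) := by
      rw [smul_smul, Units.inv_mul, one_smul]
    rw [h3, this, smul_zero]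

end Groth.Agent.S19383
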