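import Groth.Statements.S19390
import Mathlib
import Groth.Agent.H96.Pairing
-- import your own Groth.Agent.* helpers here

set_option autoImplicit false
universe u
open GIT

namespace Groth.Agent.S19390

/-- Let e ≥ 1, n = 2e + 1, and let x_1, …, x_n be points such that no point occurs more than e times
among them (the stability condition for n ordered points on a line, n odd). Then there are index
sequences i_1, …, i_n and j_1, …, j_n in which every index between 1 and n occurs exactly twice in
total, such that x_{i_k} ≠ x_{j_k} for every k and (i_1, i_2, i_3) = (j_3, j_1, j_2). Indices are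
written 0, …, n − 1 here. -/
theorem result {α : Type u} [DecidableEq α] (e : ℕ) (he : 1 ≤ e)
    (x : Fin (2 * e + 1) → α)
    (hx : ∀ a : α, (Finset.univ.filter fun k => x k = a).card ≤ e) :
    ∃ i j : Fin (2 * e + 1) → Fin (2 * e + 1),
      (∀ m : Fin (2 * e + 1),
        (Finset.univ.filter fun k => i k = m).card + (Finset.univ.filter fun k => j k = m).card = 2) ∧
      (∀ k, x (i k) ≠ x (j k)) ∧
      i 0 = j 2 ∧ i 1 = j 0 ∧ i 2 = j 1 := by
  classical
  -- class representatives
  let f : Fin (2 * e + 1) → Fin (2 * e + 1) := fun k =>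
    (Finset.univ.filter fun k' => x k' = x k).min' ⟨k, by simp⟩
  have hf1 : ∀ k, x (f k) = x k := fun k => by
    have := Finset.min'_mem (Finset.univ.filter fun k' => x k' = x k) ⟨k, by simp⟩
    exact (Finset.mem_filter.mp this).2
  have hfle : ∀ k l, x k = x l → f k ≤ f l := by
    intro k l h
    apply Finset.min'_le
    rw [Finset.mem_filter]
    exact ⟨Finset.mem_univ _, (hf1 l).trans h.symm⟩
  have hf2 : ∀ k l, x k = x l → f k = f l := fun k l h => le_antisymm (hfle k l h) (hfle l k h.symm)
  have hf3 : ∀ k l, f k = f l → x k = x l := fun k l h => by rw [← hf1 k, ← hf1 l, h]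
  -- sort
  let σ : Equiv.Perm (Fin (2 * e + 1)) := Tuple.sort f
  have hmono : Monotone (f ∘ σ) := Tuple.monotone_sort f
  have hsep : ∀ s t : Fin (2 * e + 1), (s : ℕ) + e ≤ t → x (σ s) ≠ x (σ t) := by
    intro s t hst heq
    have hall : ∀ u ∈ Finset.Icc s t, x (σ u) = x (σ s) := by
      intro u hu
      rw [Finset.mem_Icc] at hu
      apply hf3
      apply le_antisymm
      · calc f (σ u) ≤ f (σ t) := hmono hu.2
          _ = f (σ s) := (hf2 _ _ heq).symm
      · exact hmono hu.1
    have hcard : (Finset.Icc s t).card ≤ e := by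
      calc (Finset.Icc s t).card = ((Finset.Icc s t).image σ).card :=
            (Finset.card_image_of_injective _ σ.injective).symm
        _ ≤ (Finset.univ.filter fun k => x k = x (σ s)).card := by
            apply Finset.card_le_card
            intro k hk
            obtain ⟨u, hu, rfl⟩ := Finset.mem_image.mp hk
            rw [Finset.mem_filter]
            exact ⟨Finset.mem_univ _, hall u hu⟩
        _ ≤ e := hx _
    rw [Fin.card_Icc] at hcard
    omega
  -- the position maps
  let Pi : Fin (2 * e + 1) → Fin (2 * e + 1) := fun k =>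
    ⟨Groth.Agent.H96.Pairing.pi e k, Groth.Agent.H96.Pairing.pi_lt e k he k.2⟩
  let Pj : Fin (2 * e + 1) → Fin (2 * e + 1) := fun k =>
    ⟨Groth.Agent.H96.Pairing.pj e k, Groth.Agent.H96.Pairing.pj_lt e k he k.2⟩
  have hPi : Function.Injective Pi := by
    intro k l h
    apply Fin.ext
    exact Groth.Agent.H96.Pairing.pi_inj e k l he k.2 l.2 (congrArg Fin.val h)
  have hPj : Function.Injective Pj := by
    intro k l h
    apply Fin.ext
    exact Groth.Agent.H96.Pairing.pj_inj e k l he k.2 l.2 (congrArg Fin.val h)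
  have hcount : ∀ g : Fin (2 * e + 1) → Fin (2 * e + 1), Function.Injective g →
      ∀ m, (Finset.univ.filter fun k => g k = m).card = 1 := by
    intro g hg m
    obtain ⟨k0, hk0⟩ := (Finite.injective_iff_surjective.mp hg) m
    rw [Finset.card_eq_one]
    refine ⟨k0, ?_⟩
    ext k
    simp only [Finset.mem_filter, Finset.mem_univ, true_and, Finset.mem_singleton]
    constructor
    · intro h
      exact hg (h.trans hk0.symm)
    · rintro rfl
      exact hk0
  have h0 : ((0 : Fin (2 * e + 1)) : ℕ) = 0 := rfl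
  have h1 : ((1 : Fin (2 * e + 1)) : ℕ) = 1 := by
    rw [Fin.val_one']
    exact Nat.mod_eq_of_lt (by omega)
  have h2 : ((2 : Fin (2 * e + 1)) : ℕ) = 2 := by
    have : ((2 : Fin (2 * e + 1)) : ℕ) = 2 % (2 * e + 1) := rfl
    rw [this]
    exact Nat.mod_eq_of_lt (by omega)
  refine ⟨σ ∘ Pi, σ ∘ Pj, fun m => ?_, fun k => ?_, ?_, ?_, ?_⟩
  · rw [hcount (σ ∘ Pi) (σ.injective.comp hPi) m, hcount (σ ∘ Pj) (σ.injective.comp hPj) m]
  · rcases Groth.Agent.H96.Pairing.sep e k he k.2 with h | h
    · exact hsep (Pi k) (Pj k) h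
    · exact (hsep (Pj k) (Pi k) h).symm
  · show σ (Pi 0) = σ (Pj 2)
    congr 1
    apply Fin.ext
    show Groth.Agent.H96.Pairing.pi e ((0 : Fin (2 * e + 1)) : ℕ) =
      Groth.Agent.H96.Pairing.pj e ((2 : Fin (2 * e + 1)) : ℕ)
    rw [h0, h2]
    simp [Groth.Agent.H96.Pairing.pi, Groth.Agent.H96.Pairing.pj]
  · show σ (Pi 1) = σ (Pj 0)
    congr 1
    apply Fin.ext
    show Groth.Agent.H96.Pairing.pi e ((1 : Fin (2 * e + 1)) : ℕ) =
      Groth.Agent.H96.Pairing.pj e ((0 : Fin (2 * e + 1)) : ℕ)
    rw [h0, h1]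
    simp [Groth.Agent.H96.Pairing.pi, Groth.Agent.H96.Pairing.pj]
  · show σ (Pi 2) = σ (Pj 1)
    congr 1
    apply Fin.ext
    show Groth.Agent.H96.Pairing.pi e ((2 : Fin (2 * e + 1)) : ℕ) =
      Groth.Agent.H96.Pairing.pj e ((1 : Fin (2 * e + 1)) : ℕ)
    rw [h1, h2]
    simp [Groth.Agent.H96.Pairing.pi, Groth.Agent.H96.Pairing.pj]

end Groth.Agent.S19390
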