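import Groth.Statements.S19392
import Groth.Agent.H96.Quartic
-- import your own Groth.Agent.* helpers here

set_option autoImplicit false
universe u
open InvQ

namespace Groth.Agent.S19392

/-- Over a field of characteristic different from 2 and 3, a nonzero binary quartic f has P(f) = Q(f) =
0 for the two basic invariants P, Q if and only if f has a triple zero. Stated for f = ∏_i (μ_i X₀ −
λ_i X₁) given by four root points (λ_i, μ_i) ≠ (0, 0) (over an algebraically closed field every
nonzero quartic form is of this shape), with the integral invariants I = 6P and J = 72Q of the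
coefficients of f; a triple zero means that three of the four root points are pairwise proportional. -/
theorem result (k : Type u) [Field k]
    (h2 : (2 : k) ≠ 0) (h3 : (3 : k) ≠ 0) (la mu : Fin 4 → k) (hne : ∀ i, la i ≠ 0 ∨ mu i ≠ 0) :
    (W4c6intromoduli.invI (W4c6intromoduli.coef la mu) = 0 ∧
        W4c6intromoduli.invJ (W4c6intromoduli.coef la mu) = 0) ↔
      ∃ i j l : Fin 4, i ≠ j ∧ j ≠ l ∧ i ≠ l ∧
        la i * mu j = la j * mu i ∧ la j * mu l = la l * mu j := by
  have hI := Groth.Agent.H96.invI_eq_ABC la mu
  have hJ := Groth.Agent.H96.invJ_eq_ABC la mu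
  have hs := Groth.Agent.H96.ABC_sum la mu
  have h6 : (6 : k) ≠ 0 := by
    have : (6 : k) = 2 * 3 := by norm_num
    rw [this]; exact mul_ne_zero h2 h3
  set A := Groth.Agent.H96.brk la mu 0 1 * Groth.Agent.H96.brk la mu 2 3 with hA
  set B := Groth.Agent.H96.brk la mu 0 2 * Groth.Agent.H96.brk la mu 3 1 with hB
  set C := Groth.Agent.H96.brk la mu 0 3 * Groth.Agent.H96.brk la mu 1 2 with hC
  clear_value A B C
  constructor
  · rintro ⟨hI0, hJ0⟩
    rw [hI0, mul_zero] at hI
    rw [hJ0] at hJ
    -- all of A, B, C vanish
    have hABC : A = 0 ∧ B = 0 ∧ C = 0 := by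
      have hCeq : C = -A - B := by linear_combination hs
      rcases mul_eq_zero.mp hJ.symm with h | h
      · rcases mul_eq_zero.mp h with h | h
        · -- A = B
          have hAB : A = B := sub_eq_zero.mp h
          have : 6 * (B * B) = 0 := by
            rw [hCeq, hAB] at hI
            linear_combination -hI
          have hB0 : B = 0 := by
            rcases mul_eq_zero.mp this with h' | h'
            · exact absurd h' h6
            · exact mul_self_eq_zero.mp h'
          refine ⟨by rw [hAB, hB0], hB0, by rw [hCeq, hAB, hB0]; ring⟩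
        · -- B = C
          have hBC : B = C := sub_eq_zero.mp h
          have hA2 : A = -2 * B := by linear_combination hs + hBC
          have : 6 * (B * B) = 0 := by
            rw [← hBC, hA2] at hI
            linear_combination -hI
          have hB0 : B = 0 := by
            rcases mul_eq_zero.mp this with h' | h'
            · exact absurd h' h6
            · exact mul_self_eq_zero.mp h'
          refine ⟨by rw [hA2, hB0]; ring, hB0, by rw [← hBC, hB0]⟩
      · -- C = A
        have hCA : C = A := sub_eq_zero.mp h
        have hB2 : B = -2 * A := by linear_combination hs - hCA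
        have : 6 * (A * A) = 0 := by
          rw [hCA, hB2] at hI
          linear_combination -hI
        have hA0 : A = 0 := by
          rcases mul_eq_zero.mp this with h' | h'
          · exact absurd h' h6
          · exact mul_self_eq_zero.mp h'
        refine ⟨hA0, by rw [hB2, hA0]; ring, by rw [hCA, hA0]⟩
    obtain ⟨hA0, hB0, hC0⟩ := hABC
    rw [hA] at hA0
    rw [hB] at hB0
    rw [hC] at hC0
    unfold Groth.Agent.H96.brk at hA0 hB0 hC0
    rcases mul_eq_zero.mp hA0 with a | a <;> rcases mul_eq_zero.mp hB0 with b | b <;>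
      rcases mul_eq_zero.mp hC0 with c | c
    · exact ⟨1, 0, 2, by decide, by decide, by decide, by linear_combination -a, by linear_combination b⟩
    · exact ⟨1, 0, 2, by decide, by decide, by decide, by linear_combination -a, by linear_combination b⟩
    · exact ⟨0, 1, 3, by decide, by decide, by decide, by linear_combination a, by linear_combination -b⟩
    · exact ⟨0, 1, 3, by decide, by decide, by decide, by linear_combination a, by linear_combination -b⟩
    · exact ⟨2, 0, 3, by decide, by decide, by decide, by linear_combination -b, by linear_combination c⟩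
    · exact ⟨3, 2, 0, by decide, by decide, by decide, by linear_combination -a, by linear_combination -b⟩
    · exact ⟨2, 3, 1, by decide, by decide, by decide, by linear_combination a, by linear_combination b⟩
    · exact ⟨2, 3, 1, by decide, by decide, by decide, by linear_combination a, by linear_combination b⟩
  · rintro ⟨i, j, l, hij, hjl, hil, e1, e2⟩
    have e3 : la i * mu l = la l * mu i := by
      rcases hne j with hj | hj
      · apply mul_left_cancel₀ hj
        linear_combination la i * e2 + la l * e1
      · apply mul_left_cancel₀ hj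
        linear_combination mu l * e1 + mu i * e2
    have hZ : ∀ x y : Fin 4, (x = i ∨ x = j ∨ x = l) → (y = i ∨ y = j ∨ y = l) →
        Groth.Agent.H96.brk la mu x y = 0 := by
      intro x y hx hy
      unfold Groth.Agent.H96.brk
      rcases hx with rfl | rfl | rfl <;> rcases hy with rfl | rfl | rfl
      · ring
      · linear_combination e1
      · linear_combination e3
      · linear_combination -e1
      · ring
      · linear_combination e2
      · linear_combination -e3
      · linear_combination -e2
      · ring
    have hcomb1 : ∀ i j l : Fin 4, i ≠ j → j ≠ l → i ≠ l →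
        (((0 : Fin 4) = i ∨ 0 = j ∨ 0 = l) ∧ ((1 : Fin 4) = i ∨ 1 = j ∨ 1 = l)) ∨
        (((2 : Fin 4) = i ∨ 2 = j ∨ 2 = l) ∧ ((3 : Fin 4) = i ∨ 3 = j ∨ 3 = l)) := by decide
    have hcomb2 : ∀ i j l : Fin 4, i ≠ j → j ≠ l → i ≠ l →
        (((0 : Fin 4) = i ∨ 0 = j ∨ 0 = l) ∧ ((2 : Fin 4) = i ∨ 2 = j ∨ 2 = l)) ∨
        (((3 : Fin 4) = i ∨ 3 = j ∨ 3 = l) ∧ ((1 : Fin 4) = i ∨ 1 = j ∨ 1 = l)) := by decide
    have hcomb3 : ∀ i j l : Fin 4, i ≠ j → j ≠ l → i ≠ l →
        (((0 : Fin 4) = i ∨ 0 = j ∨ 0 = l) ∧ ((3 : Fin 4) = i ∨ 3 = j ∨ 3 = l)) ∨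
        (((1 : Fin 4) = i ∨ 1 = j ∨ 1 = l) ∧ ((2 : Fin 4) = i ∨ 2 = j ∨ 2 = l)) := by decide
    have hA0 : A = 0 := by
      rw [hA]
      rcases hcomb1 i j l hij hjl hil with ⟨h1, h2'⟩ | ⟨h1, h2'⟩
      · rw [hZ 0 1 h1 h2', zero_mul]
      · rw [hZ 2 3 h1 h2', mul_zero]
    have hB0 : B = 0 := by
      rw [hB]
      rcases hcomb2 i j l hij hjl hil with ⟨h1, h2'⟩ | ⟨h1, h2'⟩
      · rw [hZ 0 2 h1 h2', zero_mul]
      · rw [hZ 3 1 h1 h2', mul_zero]
    have hC0 : C = 0 := by
      rw [hC]
      rcases hcomb3 i j l hij hjl hil with ⟨h1, h2'⟩ | ⟨h1, h2'⟩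
      · rw [hZ 0 3 h1 h2', zero_mul]
      · rw [hZ 1 2 h1 h2', mul_zero]
    rw [hA0, hB0, hC0] at hI hJ
    refine ⟨?_, by rw [hJ]; ring⟩
    have : (2 : k) * W4c6intromoduli.invI (W4c6intromoduli.coef la mu) = 0 := by
      rw [hI]; ring
    rcases mul_eq_zero.mp this with h | h
    · exact absurd h h2
    · exact h

end Groth.Agent.S19392
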