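import Groth.Statements.S19395
import Groth.Agent.H96.SSConj
-- import your own Groth.Agent.* helpers here

set_option autoImplicit false
universe u
open InvQ

namespace Groth.Agent.S19395

/-- Over an algebraically closed field, the Zariski closures of the conjugation orbits of two square
matrices B₁, B₂ meet if and only if their semisimple parts lie in one orbit. The semisimple parts
are given as S_i with B_i = S_i + N_i, S_i semisimple, N_i nilpotent, S_i N_i = N_i S_i; a common
point of the two closures is a matrix C at which every polynomial in the matrix entries vanishing on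
the whole orbit of B₁, and every one vanishing on the whole orbit of B₂, vanishes. -/
theorem result (k : Type u) [Field k] [IsAlgClosed k]
    (n : ℕ) (B₁ S₁ N₁ B₂ S₂ N₂ : Matrix (Fin n) (Fin n) k)
    (hS₁ : Module.End.IsSemisimple (Matrix.toLin' S₁)) (hN₁ : IsNilpotent N₁) (hc₁ : Commute S₁ N₁)
    (hB₁ : B₁ = S₁ + N₁)
    (hS₂ : Module.End.IsSemisimple (Matrix.toLin' S₂)) (hN₂ : IsNilpotent N₂) (hc₂ : Commute S₂ N₂)
    (hB₂ : B₂ = S₂ + N₂) :
    (∃ C : Matrix (Fin n) (Fin n) k,
        (∀ F : MvPolynomial (Fin n × Fin n) k,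
          (∀ A : Matrix (Fin n) (Fin n) k, IsUnit A.det →
            MvPolynomial.eval (fun p => (A * B₁ * A⁻¹) p.1 p.2) F = 0) →
          MvPolynomial.eval (fun p => C p.1 p.2) F = 0) ∧
        (∀ F : MvPolynomial (Fin n × Fin n) k,
          (∀ A : Matrix (Fin n) (Fin n) k, IsUnit A.det →
            MvPolynomial.eval (fun p => (A * B₂ * A⁻¹) p.1 p.2) F = 0) →
          MvPolynomial.eval (fun p => C p.1 p.2) F = 0)) ↔
      ∃ A : Matrix (Fin n) (Fin n) k, IsUnit A.det ∧ A * S₁ * A⁻¹ = S₂ := by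
  obtain ⟨m₁, hm₁⟩ := hN₁
  obtain ⟨m₂, hm₂⟩ := hN₂
  haveI : Infinite k := IsAlgClosed.instInfinite
  have hin₁ := Groth.Agent.H96.OrbitCl.inCl_semisimple_part (k := k) (n := Fin n) m₁ S₁ N₁ hS₁ hc₁ hm₁
  have hin₂ := Groth.Agent.H96.OrbitCl.inCl_semisimple_part (k := k) (n := Fin n) m₂ S₂ N₂ hS₂ hc₂ hm₂
  rw [← hB₁] at hin₁
  rw [← hB₂] at hin₂
  constructor
  · rintro ⟨C, hC₁, hC₂⟩
    have hC₁' : Groth.Agent.H96.OrbitCl.InCl B₁ C := hC₁
    have hC₂' : Groth.Agent.H96.OrbitCl.InCl B₂ C := hC₂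
    have e1 := Groth.Agent.H96.SSConj.charpoly_eq_of_inCl hC₁'
    have e2 := Groth.Agent.H96.SSConj.charpoly_eq_of_inCl hC₂'
    have e3 := Groth.Agent.H96.SSConj.charpoly_eq_of_inCl hin₁
    have e4 := Groth.Agent.H96.SSConj.charpoly_eq_of_inCl hin₂
    have hcp : (Matrix.toLin' S₁).charpoly = (Matrix.toLin' S₂).charpoly := by
      rw [Matrix.charpoly_toLin', Matrix.charpoly_toLin', e3, e4, ← e1, ← e2]
    obtain ⟨Al, hAl⟩ := Groth.Agent.H96.SSConj.exists_equiv_of_charpoly_eq
      (Matrix.toLin' S₁) (Matrix.toLin' S₂) hS₁ hS₂ rfl hcp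
    set Am : Matrix (Fin n) (Fin n) k := LinearMap.toMatrix' Al.toLinearMap with hAm
    have hAmlin : Matrix.toLin' Am = Al.toLinearMap := Matrix.toLin'_toMatrix' _
    have hdet : IsUnit Am.det := by
      apply Matrix.isUnit_det_of_right_inverse (B := LinearMap.toMatrix' Al.symm.toLinearMap)
      rw [hAm, ← LinearMap.toMatrix'_comp]
      have : Al.toLinearMap ∘ₗ Al.symm.toLinearMap = LinearMap.id := by
        ext v
        simp
      rw [this, LinearMap.toMatrix'_id]
    have hcomm : Am * S₁ = S₂ * Am := by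
      apply Matrix.toLin'.injective
      rw [Matrix.toLin'_mul, Matrix.toLin'_mul, hAmlin]
      exact hAl
    refine ⟨Am, hdet, ?_⟩
    rw [hcomm]
    exact Matrix.mul_nonsing_inv_cancel_right _ _ hdet
  · rintro ⟨A, hA, hAS⟩
    refine ⟨S₂, ?_, ?_⟩
    · have := hin₁.conj A hA
      rw [hAS] at this
      exact this
    · exact hin₂

end Groth.Agent.S19395
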