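import Groth.Statements.S19396
import Groth.Agent.H96.FFVal
-- import your own Groth.Agent.* helpers here

set_option autoImplicit false
universe u v
open FunFld

namespace Groth.Agent.S19396

/-- On an elliptic curve with base point 0, if f has a double pole at 0 and no other pole and g a triple
pole at 0 and no other pole, then for n ≥ 2 the functions 1, f, …, f^[n/2], g, fg, …, f^[(n−3)/2] g
form a basis of the space of functions with at most an n-fold pole at 0. Stated for a function field
K/k of one variable of genus 1 with a place P of degree 1 in the role of the curve and its base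
point: the family indexed by Fin (n/2 + 1) ⊕ Fin ((n − 1)/2), sending i on the left to f^i and i on
the right to f^i g, is linearly independent over k and spans L(nP). -/
theorem result (k : Type u) (K : Type v) [Field k] [Field K]
    [Algebra k K] (hK : FunFld.IsFunctionField k K) (hgen : FunFld.genus k K = 1)
    (P : FunFld.Place k K) (hP : P.deg = 1) (f g : K)
    (hf : f ∈ FunFld.L (Finsupp.single P 2)) (hf2 : P.ord f = -2)
    (hg : g ∈ FunFld.L (Finsupp.single P 3)) (hg3 : P.ord g = -3) (n : ℕ) (hn : 2 ≤ n) :
    LinearIndependent k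
        (Sum.elim (fun i : Fin (n / 2 + 1) => f ^ (i : ℕ)) (fun i : Fin ((n - 1) / 2) => f ^ (i : ℕ) * g)) ∧
      Submodule.span k (Set.range
        (Sum.elim (fun i : Fin (n / 2 + 1) => f ^ (i : ℕ)) (fun i : Fin ((n - 1) / 2) => f ^ (i : ℕ) * g))) =
        FunFld.L (Finsupp.single P (n : ℤ)) := by
  classical
  obtain ⟨hf0, hPf⟩ := Groth.Agent.H96.FFVal.val_eq_exp_of_ord P (m := 2) (by norm_num) hf2
  obtain ⟨hg0, hPg⟩ := Groth.Agent.H96.FFVal.val_eq_exp_of_ord P (m := 3) (by norm_num) hg3
  set F : Fin (n / 2 + 1) ⊕ Fin ((n - 1) / 2) → K :=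
    Sum.elim (fun i : Fin (n / 2 + 1) => f ^ (i : ℕ)) (fun i : Fin ((n - 1) / 2) => f ^ (i : ℕ) * g) with hF
  let e : Fin (n / 2 + 1) ⊕ Fin ((n - 1) / 2) → ℤ :=
    Sum.elim (fun i => 2 * (i : ℤ)) (fun i => 2 * (i : ℤ) + 3)
  have hval : ∀ a, P.1 (F a) = WithZero.exp (e a) := by
    rintro (i | i)
    · simp only [hF, e, Sum.elim_inl, map_pow, hPf]
      rw [← WithZero.exp_nsmul]
      congr 1
      simp [mul_comm]
    · simp only [hF, e, Sum.elim_inr, map_mul, map_pow, hPf, hPg]
      rw [← WithZero.exp_nsmul, ← WithZero.exp_add]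
      congr 1
      simp [mul_comm]
  have hF0 : ∀ a, F a ≠ 0 := by
    rintro (i | i) <;> simp [hF, hf0, hg0]
  have hle : ∀ a, e a ≤ n := by
    rintro (i | i)
    · simp only [e, Sum.elim_inl]
      have := i.2
      omega
    · simp only [e, Sum.elim_inr]
      have := i.2
      omega
  have hinj : Function.Injective e := by
    rintro (i | i) (j | j) h <;> simp only [e, Sum.elim_inl, Sum.elim_inr] at h
    · congr 1
      ext
      omega
    · omega
    · omega
    · congr 1
      ext
      omega
  have hli : LinearIndependent k F := by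
    apply Groth.Agent.H96.FFVal.linearIndependent_of_val_injective P F hF0
    intro a b hab
    simp only [hval] at hab
    exact hinj (WithZero.exp_injective hab)
  refine ⟨hli, ?_⟩
  have hmem : ∀ a, F a ∈ FunFld.L (Finsupp.single P (n : ℤ)) := by
    intro a Q
    by_cases hQ : Q = P
    · subst hQ
      rw [hval, Finsupp.single_eq_same, WithZero.exp_le_exp]
      exact hle a
    · rw [Finsupp.single_eq_of_ne hQ, WithZero.exp_zero]
      have hfQ : Q.1 f ≤ 1 := by
        have := hf Q
        rwa [Finsupp.single_eq_of_ne hQ, WithZero.exp_zero] at this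
      have hgQ : Q.1 g ≤ 1 := by
        have := hg Q
        rwa [Finsupp.single_eq_of_ne hQ, WithZero.exp_zero] at this
      rcases a with i | i
      · simp only [hF, Sum.elim_inl, map_pow]
        exact pow_le_one' hfQ _
      · simp only [hF, Sum.elim_inr, map_mul, map_pow]
        exact mul_le_one' (pow_le_one' hfQ _) hgQ
  have hspan_le : Submodule.span k (Set.range F) ≤ FunFld.L (Finsupp.single P (n : ℤ)) := by
    rw [Submodule.span_le]
    rintro _ ⟨a, rfl⟩
    exact hmem a
  haveI := Groth.Agent.H55.L_finite hK (Finsupp.single P (n : ℤ))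
  apply Submodule.eq_of_le_of_finrank_eq hspan_le
  rw [finrank_span_eq_card hli]
  have hell := Groth.Agent.H55.ell_of_deg_ge hK (Finsupp.single P (n : ℤ))
    (by rw [Groth.Agent.H55.Divisor.deg_single, hgen, hP]; push_cast; omega)
  rw [Groth.Agent.H55.Divisor.deg_single, hgen, hP] at hell
  unfold FunFld.ell at hell
  simp only [Fintype.card_sum, Fintype.card_fin]
  push_cast at hell
  omega

end Groth.Agent.S19396
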