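import Groth.Statements.S19398
import Groth.Agent.H62.Comod
-- import your own Groth.Agent.* helpers here

set_option autoImplicit false
universe u
open GIT

namespace Groth.Agent.S19398

/-- For a reductive group G (here: every finite-dimensional representation completely reducible, i.e.
linearly reductive) acting linearly on vector spaces V and V′ of any dimension, with Reynolds
operators E and E′ (the projections onto the invariants along the unique invariant complement),
every G-linear map u : V → V′ satisfies E′ ∘ u = u ∘ E. Stated for comodules over a commutative Hopf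
algebra A whose finite-dimensional comodules are semisimple; a Reynolds operator is a comodule
endomorphism that is idempotent and fixes exactly the invariant vectors (such an operator is the
projection onto the invariants along an invariant complement, which is unique). -/
theorem result (k : Type u) [Field k] (A : Type u) [CommRing A] [HopfAlgebra k A]
    (hG : HopfRep.IsLinearlyReductive k A)
    (V W : Type u) [AddCommGroup V] [Module k V] [HopfRep.Comod k A V]
    [AddCommGroup W] [Module k W] [HopfRep.Comod k A W]
    (E : V →ₗ[k] V) (hE₁ : Hoch.IsComodHom A E) (hE₂ : E ∘ₗ E = E)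
    (hE₃ : ∀ x : V, E x = x ↔ x ∈ HopfRep.fixedPts k A V)
    (E' : W →ₗ[k] W) (hE'₁ : Hoch.IsComodHom A E') (hE'₂ : E' ∘ₗ E' = E')
    (hE'₃ : ∀ y : W, E' y = y ↔ y ∈ HopfRep.fixedPts k A W)
    (u : V →ₗ[k] W) (hu : Hoch.IsComodHom A u) :
    E' ∘ₗ u = u ∘ₗ E := by
  have hfixE : ∀ x : V, E x ∈ HopfRep.fixedPts k A V := fun x => by
    rw [← hE₃]; exact LinearMap.congr_fun hE₂ x
  have hfixE' : ∀ y : W, E' y ∈ HopfRep.fixedPts k A W := fun y => by
    rw [← hE'₃]; exact LinearMap.congr_fun hE'₂ y
  have hufix : ∀ x ∈ HopfRep.fixedPts k A V, u x ∈ HopfRep.fixedPts k A W := by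
    intro x hx
    change HopfRep.Comod.coact (k := k) (A := A) (u x) = u x ⊗ₜ[k] (1 : A)
    have h1 := LinearMap.congr_fun hu x
    simp only [LinearMap.comp_apply] at h1
    rw [h1, show HopfRep.Comod.coact (k := k) (A := A) x = x ⊗ₜ[k] (1 : A) from hx,
      LinearMap.rTensor_tmul]
  have hψ : Hoch.IsComodHom A (E' ∘ₗ u) := Groth.Agent.H62.isComodHom_comp hu hE'₁
  apply LinearMap.ext
  intro x
  have hz : E (x - E x) = 0 := by
    rw [map_sub, show E (E x) = E x from LinearMap.congr_fun hE₂ x, sub_self]
  have h0 := Groth.Agent.H62.hom_ker_eq_zero hG V E hE₁ hE₂ hE₃ W (E' ∘ₗ u) hψ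
    (fun v => hfixE' _) (x - E x) hz
  simp only [LinearMap.comp_apply, map_sub, sub_eq_zero] at h0
  simp only [LinearMap.comp_apply]
  rw [h0]
  exact (hE'₃ _).mpr (hufix _ (hfixE x))

end Groth.Agent.S19398
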