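import Groth.Statements.S19402
import Groth.Agent.H1.InvEtale4

set_option autoImplicit false
universe u v w
open scoped Pointwise
open GLin

namespace Groth.Agent.S19402

/-- Let k be an algebraically closed field of characteristic zero, R a finitely generated commutative
k-algebra which is an integrally closed domain (a normal irreducible affine variety X), and G a
finite group acting faithfully on R by k-algebra automorphisms. Let B be a commutative k-algebra
with an injective algebra map B → R, compatible with the k-structures and G-invariant, whose image
is exactly the subring of G-invariants (so Spec R → Spec B is the quotient morphism X → X/G). Then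
for a maximal ideal m of R (a closed point x of X), R is étale over B at m (the local ring R_m is
formally étale over B) if and only if the stabilizer of m in G is trivial. -/
theorem result (k : Type u) [Field k] [IsAlgClosed k] [CharZero k]
    (R : Type v) [CommRing R] [IsDomain R] [IsIntegrallyClosed R] [Algebra k R] [Algebra.FiniteType k R]
    (G : Type w) [Group G] [Finite G] [MulSemiringAction G R] [FaithfulSMul G R] [SMulCommClass G k R]
    (B : Type v) [CommRing B] [Algebra k B] [Algebra B R] [IsScalarTower k B R] [FaithfulSMul B R]
    [SMulCommClass G B R] [Algebra.IsInvariant B R G]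
    (m : Ideal R) [m.IsMaximal] :
    Algebra.IsEtaleAt B m ↔ MulAction.stabilizer G m = ⊥ := by
  have hnoeth : IsNoetherianRing R := Algebra.FiniteType.isNoetherianRing k R
  constructor
  · intro het
    rw [eq_bot_iff]
    intro σ hσ
    rw [Subgroup.mem_bot]
    -- `σ` lies in the inertia group because the residue field is `k`
    have hI : σ ∈ m.inertia G := by
      intro r
      let _ : Field (R ⧸ m) := Ideal.Quotient.field m
      have hfin : Module.Finite k (R ⧸ m) := finite_of_finite_type_of_isJacobsonRing k (R ⧸ m)
      have hsurj : Function.Surjective (algebraMap k (R ⧸ m)) :=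
        (IsAlgClosed.algebraMap_bijective_of_isIntegral (k := k)).2
      obtain ⟨c, hc⟩ := hsurj (Ideal.Quotient.mk m r)
      have hmem : r - algebraMap k R c ∈ m := by
        rw [← Ideal.Quotient.eq, ← hc]
        rfl
      have h1 := Groth.Agent.H1.InSep.smul_mem_of_mem_stabilizer m hσ hmem
      rw [smul_sub, smul_algebraMap] at h1
      have h2 := m.sub_mem h1 hmem
      rwa [sub_sub_sub_cancel_right] at h2
    have hfu : Algebra.FormallyUnramified B (Localization.AtPrime m) := by
      have : Algebra.FormallyEtale B (Localization.AtPrime m) := het
      infer_instance
    have hall : ∀ r : R, σ • r = r := fun r =>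
      Groth.Agent.H1.InvEt.smul_eq_of_mem_inertia_of_formallyUnramified (B := B) m σ hI r
    exact FaithfulSMul.eq_of_smul_eq_smul (α := R) (fun r => by rw [hall r, one_smul])
  · intro hD
    have hI : m.inertia G = ⊥ := le_bot_iff.mp ((Ideal.inertia_le_stabilizer m).trans hD.le)
    exact Groth.Agent.H1.InvEt.isEtaleAt_of_inertia_eq_bot (B := B) (G := G)
      (FaithfulSMul.algebraMap_injective B R) m hI

end Groth.Agent.S19402
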