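import Groth.Statements.S19403
import Groth.Agent.H74.EquivZMT

set_option autoImplicit false
universe u
open TensorProduct
open GLin

namespace Groth.Agent.S19403

/-- The equivariant form of Zariski's Main Theorem. Let k be an algebraically closed field of
characteristic zero, A a finitely generated commutative Hopf algebra over k all of whose
finite-dimensional comodules are semisimple (a reductive group G), R and S finitely generated
commutative k-algebras with multiplicative A-coactions (G acting on the affine schemes X = Spec R, Y
= Spec S), and S → R an algebra map compatible with the coactions (a G-morphism φ : X → Y) which is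
quasi-finite. Then there exist a finitely generated commutative k-algebra B with a multiplicative
A-coaction (an affine G-scheme Z), an algebra map ψ : S → B compatible with the coactions and
finite, and an algebra map i : B → R compatible with the coactions such that Spec R → Spec B is an
open immersion, with i ∘ ψ the given map S → R (φ factors as an equivariant open immersion followed
by a finite G-morphism). -/
theorem result (k : Type u) [Field k] [IsAlgClosed k] [CharZero k]
    (A : Type u) [CommRing A] [HopfAlgebra k A] [Algebra.FiniteType k A] (hG : HopfRep.IsLinearlyReductive k A)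
    (S : Type u) [CommRing S] [Algebra k S] [Algebra.FiniteType k S] [HopfRep.Comod k A S] [GLin.IsCoactAlg k A S]
    (R : Type u) [CommRing R] [Algebra k R] [Algebra.FiniteType k R] [HopfRep.Comod k A R] [GLin.IsCoactAlg k A R]
    [Algebra S R] [IsScalarTower k S R] [Algebra.QuasiFinite S R]
    (hequiv : (∀ s : S, HopfRep.Comod.coact (k := k) (A := A) (algebraMap S R s) =
      Algebra.TensorProduct.map (IsScalarTower.toAlgHom k S R) (AlgHom.id k A) (HopfRep.Comod.coact (k := k) (A := A) s))) :
    ∃ (B : Type u) (_ : CommRing B) (_ : Algebra k B) (_ : HopfRep.Comod k A B) (_ : GLin.IsCoactAlg k A B),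
      Algebra.FiniteType k B ∧
      ∃ (ψ : S →ₐ[k] B) (i : B →ₐ[k] R),
        (∀ s : S, HopfRep.Comod.coact (k := k) (A := A) (ψ s) =
        Algebra.TensorProduct.map ψ (AlgHom.id k A) (HopfRep.Comod.coact (k := k) (A := A) s)) ∧
        (∀ s : B, HopfRep.Comod.coact (k := k) (A := A) (i s) =
        Algebra.TensorProduct.map i (AlgHom.id k A) (HopfRep.Comod.coact (k := k) (A := A) s)) ∧
        i.comp ψ = IsScalarTower.toAlgHom k S R ∧ ψ.toRingHom.Finite ∧
        AlgebraicGeometry.IsOpenImmersion (AlgebraicGeometry.Spec.map (CommRingCat.ofHom i.toRingHom)) := by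
  obtain ⟨B, hB, hfg, hS, hint, hopen⟩ :=
    Groth.Agent.H74.EquivZMT.exists_stable_subalgebra (k := k) (A := A) (S := S) (R := R) hequiv
  letI cB := Groth.Agent.H74.UnipOrb2.subalgComod B hB
  haveI iB := Groth.Agent.H74.UnipOrb2.subalg_isCoactAlg B hB
  refine ⟨↥B, inferInstance, inferInstance, cB, iB, (Subalgebra.fg_iff_finiteType B).mp hfg,
    (IsScalarTower.toAlgHom k S R).codRestrict B hS, B.val, ?_, ?_, ?_, ?_, hopen⟩
  · intro s
    apply Groth.Agent.H74.UnipOrb2.incl_subalg_injective (A := A) B
    rw [Groth.Agent.H74.UnipOrb2.incl_subalg_coact]
    have h1 : ((((IsScalarTower.toAlgHom k S R).codRestrict B hS) s : ↥B) : R) =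
        algebraMap S R s := rfl
    rw [h1, hequiv s]
    generalize HopfRep.Comod.coact (k := k) (A := A) s = t
    induction t using TensorProduct.induction_on with
    | zero => simp
    | tmul x a => rfl
    | add x y hx hy => simp only [map_add, hx, hy]
  · intro b
    exact (Groth.Agent.H74.UnipOrb2.incl_subalg_coact B hB b).symm
  · ext s
    rfl
  · exact Groth.Agent.H74.EquivZMT.finite_codRestrict B hfg hS hint

end Groth.Agent.S19403
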