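import Groth.Statements.S19414
import Groth.Agent.H96.WeilDim
-- import your own Groth.Agent.* helpers here

set_option autoImplicit false
universe u v
open CategoryTheory AlgebraicGeometry
open WeilCoh

namespace Groth.Agent.S19414

/-- Let H be a Weil cohomology theory with coefficients in a field K of characteristic zero on
nonsingular connected projective varieties over an algebraically closed field k, X such a variety, P
= X × X with its projections p and q, and d : X → P the diagonal (the section of p and of q). For a
closed irreducible subset Z ⊆ X with generic point η and a class α ∈ H^i(X), the cohomological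
correspondence given by the class of the diagonal image d(Z) ⊆ P acts on α as cup product with the
class of Z: q_*(p^*(α) · cl_P(d(Z))) = α · cl_X(Z) in the total cohomology ring of X. The
push-forward q_* (Gysin map, defined through Poincaré duality) is taken on the homogeneous component
of degree i + 2 codim_P(d(Z)) that contains p^*(α) · cl_P(d(Z)). The published statement takes Z to
be a smooth hyperplane section, in which case cup product with cl_X(Z) is the Lefschetz operator L
and the identity says that L is given by an algebraic correspondence; it is stated here for every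
closed irreducible Z, which is what the argument establishes. -/
theorem result (k : Type u) [Field k] [IsAlgClosed k]
    (K : Type v) [Field K] [CharZero K] (T : WeilCoh.Theory k K) (X P : WeilCoh.Var k)
    (p q : P ⟶ X) (hP : WeilCoh.IsProd p q) (d : X ⟶ P) (hdp : d ≫ p = 𝟙 X) (hdq : d ≫ q = 𝟙 X)
    (η : ↥X.obj.left) (i : ℤ) (a : ↥(T.gr X i)) :
    (T.push q (i + 2 * (WeilCoh.codim P.obj.left (WeilCoh.sm d η) : ℤ))
        ⟨T.pull p (a : T.H X) * T.cl P (WeilCoh.sm d η),
          SetLike.mul_mem_graded (T.pull_mem p i a a.2) (T.cl_mem P (WeilCoh.sm d η))⟩ : T.H X) =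
      (a : T.H X) * T.cl X η := by
  have hn : dim P.obj.left = dim X.obj.left + dim X.obj.left :=
    Groth.Agent.H96.WeilDim.dim_prod T p q hP
  have hci : IsClosedImmersion (sm d) :=
    Groth.Agent.H96.WeilDim.isClosedImmersion_of_section p d hdp
  have hpd : pdim P.obj.left (sm d η) = pdim X.obj.left η :=
    Groth.Agent.H96.WeilDim.pdim_eq_of_isClosedEmbedding (sm d) (sm d).isClosedEmbedding η
  have hle : pdim X.obj.left η ≤ dim X.obj.left := Groth.Agent.H96.WeilDim.pdim_le_dim X η
  have hrd : (sm d).residueDegree η = 1 :=
    Groth.Agent.H96.WeilDim.residueDegree_eq_one_of_section (sm d) (sm p)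
      (by rw [← Groth.Agent.H96.WeilDim.sm_comp, hdp]; rfl) η
  have hc' : (codim P.obj.left (sm d η) : ℤ) =
      2 * (dim X.obj.left : ℤ) - (pdim X.obj.left η : ℤ) := by
    unfold codim; rw [hpd, hn]; omega
  have hc : (codim X.obj.left η : ℤ) = (dim X.obj.left : ℤ) - (pdim X.obj.left η : ℤ) := by
    unfold codim; omega
  have hnP : (dim P.obj.left : ℤ) = 2 * (dim X.obj.left : ℤ) := by omega
  refine Groth.Agent.H77.eq_of_tr_mul_eq T X (i + 2 * (codim X.obj.left η : ℤ))
    (2 * (pdim X.obj.left η : ℤ) - i) (by omega) _ _ ?_ ?_ ?_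
  · exact Groth.Agent.H77.mem_gr_of_eq T X (Subtype.property _) (by omega)
  · exact SetLike.mul_mem_graded a.2 (T.cl_mem X η)
  · intro b hb
    rw [Groth.Agent.H77.push_spec T q _ _ b (Groth.Agent.H77.mem_gr_of_eq T X hb (by omega))]
    have hpa : T.pull p (a : T.H X) ∈ T.gr P i := T.pull_mem p i a a.2
    have hqb : T.pull q b ∈ T.gr P (2 * (pdim X.obj.left η : ℤ) - i) := T.pull_mem q _ b hb
    have hab : T.pull p (a : T.H X) * T.pull q b ∈ T.gr P (2 * (pdim X.obj.left η : ℤ)) :=
      Groth.Agent.H77.mem_gr_of_eq T P (SetLike.mul_mem_graded hpa hqb) (by omega)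
    have h1 := T.cl_push d η _ hab
    rw [hrd, Nat.cast_one, one_mul] at h1
    have h2 : T.pull d (T.pull p (a : T.H X) * T.pull q b) = (a : T.H X) * b := by
      rw [map_mul, ← AlgHom.comp_apply, ← AlgHom.comp_apply, ← T.pull_comp, ← T.pull_comp, hdp,
        hdq, T.pull_id]
      rfl
    rw [h2] at h1
    change T.tr P (T.pull p (a : T.H X) * T.cl P (sm d η) * T.pull q b) = _
    rw [Groth.Agent.H96.WeilDim.mul_comm_of_even T P i _ _ _ hpa (T.cl_mem P (sm d η)), mul_assoc,
      ← h1, ← mul_assoc,
      Groth.Agent.H96.WeilDim.mul_comm_of_even T X i _ _ _ a.2 (T.cl_mem X η)]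

end Groth.Agent.S19414
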