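import Groth.Statements.S19418
import Groth.Agent.H79.WeilCorr4
import Groth.Agent.H79.WeilIsoPull

set_option autoImplicit false
universe u v
open CategoryTheory AlgebraicGeometry
open WeilCoh

namespace Groth.Agent.S19418

/-- Key step, cohomological form: let H be a Weil cohomology theory with coefficients in a field K of
characteristic zero on nonsingular connected projective varieties over an algebraically closed field
k, X such a variety of dimension n, P = X × X with projections p, q and the swap automorphism σ (σ p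
= q, σ q = p); the identity dim P = 2n is carried as the arithmetic hypothesis hdim. A class u ∈
H^{2n}(P) acts as a degree-0 correspondence on each H^j(X), 0 ≤ j ≤ 2n, by β ↦ q_*(p^*(β) · u); call
u algebraic when it lies in the K-linear span of the classes of closed irreducible subsets of P, and
let A be the K-subalgebra of ∏_j End_K(H^j(X)) generated by the actions of the algebraic classes in
H^{2n}(P). If u is algebraic and ψ ∘ (action of u) is nilpotent for every ψ ∈ A — that is, the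
action of u lies in the Jacobson radical of the finite-dimensional algebra A — then u is numerically
trivial against algebraic classes: Tr_P(u · v) = 0 for every algebraic v ∈ H^{2n}(P). In the
published argument this is the step showing that the algebra of degree-0 algebraic correspondences
modulo numerical equivalence has zero Jacobson radical, hence is semisimple; it is stated here on
the cohomological side, with the algebra generated by the correspondence actions in place of the
algebra of cycle classes. -/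
theorem result (k : Type u) [Field k] [IsAlgClosed k]
    (K : Type v) [Field K] [CharZero K] (T : WeilCoh.Theory k K) (X P : WeilCoh.Var k)
    (p q : P ⟶ X) (hP : WeilCoh.IsProd p q) (σ : P ⟶ P) (hσp : σ ≫ p = q) (hσq : σ ≫ q = p)
    (hdim : ∀ j : ℤ, j + 2 * (WeilCoh.dim X.obj.left : ℤ) + 2 * (WeilCoh.dim X.obj.left : ℤ) - 2 * (WeilCoh.dim P.obj.left : ℤ) = j)
    (u : ↥(T.gr P (2 * (WeilCoh.dim X.obj.left : ℤ)))) (hu : (u : T.H P) ∈ Submodule.span K (Set.range (T.cl P)))
    (hJ : ∀ ψ ∈ Algebra.adjoin K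
          (Set.range (fun w : {w : ↥(T.gr P (2 * (WeilCoh.dim X.obj.left : ℤ))) // (w : T.H P) ∈ Submodule.span K (Set.range (T.cl P))} =>
            fun j : Fin (2 * WeilCoh.dim X.obj.left + 1) =>
              ((LinearEquiv.ofEq (T.gr X (((j : ℕ) : ℤ) + 2 * (WeilCoh.dim X.obj.left : ℤ) + 2 * (WeilCoh.dim X.obj.left : ℤ) - 2 * (WeilCoh.dim P.obj.left : ℤ))) (T.gr X ((j : ℕ) : ℤ)) (congrArg (T.gr X) (hdim ((j : ℕ) : ℤ)))).toLinearMap ∘ₗ
              ((T.push q (((j : ℕ) : ℤ) + 2 * (WeilCoh.dim X.obj.left : ℤ))) ∘ₗ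
                (((LinearMap.mulRight K (w.1 : T.H P)).restrict (p := T.gr P ((j : ℕ) : ℤ))
                    (q := T.gr P (((j : ℕ) : ℤ) + 2 * (WeilCoh.dim X.obj.left : ℤ))) (fun x hx => SetLike.mul_mem_graded hx w.1.2)) ∘ₗ
                  T.pullDeg p ((j : ℕ) : ℤ)))))),
        IsNilpotent (ψ * fun j : Fin (2 * WeilCoh.dim X.obj.left + 1) =>
          ((LinearEquiv.ofEq (T.gr X (((j : ℕ) : ℤ) + 2 * (WeilCoh.dim X.obj.left : ℤ) + 2 * (WeilCoh.dim X.obj.left : ℤ) - 2 * (WeilCoh.dim P.obj.left : ℤ))) (T.gr X ((j : ℕ) : ℤ)) (congrArg (T.gr X) (hdim ((j : ℕ) : ℤ)))).toLinearMap ∘ₗ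
              ((T.push q (((j : ℕ) : ℤ) + 2 * (WeilCoh.dim X.obj.left : ℤ))) ∘ₗ
                (((LinearMap.mulRight K (u : T.H P)).restrict (p := T.gr P ((j : ℕ) : ℤ))
                    (q := T.gr P (((j : ℕ) : ℤ) + 2 * (WeilCoh.dim X.obj.left : ℤ))) (fun x hx => SetLike.mul_mem_graded hx u.2)) ∘ₗ
                  T.pullDeg p ((j : ℕ) : ℤ))))))
    (v : ↥(T.gr P (2 * (WeilCoh.dim X.obj.left : ℤ)))) (hv : (v : T.H P) ∈ Submodule.span K (Set.range (T.cl P))) :
    T.tr P ((u : T.H P) * (v : T.H P)) = 0 := by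
  classical
  -- σ is an involution
  have hσσ : σ ≫ σ = 𝟙 P := by
    apply ObjectProperty.hom_ext
    apply Over.OverMorphism.ext
    apply hP.hom_ext
    · change WeilCoh.sm ((σ ≫ σ) ≫ p) = WeilCoh.sm (𝟙 P ≫ p)
      rw [Category.assoc, hσp, hσq, Category.id_comp]
    · change WeilCoh.sm ((σ ≫ σ) ≫ q) = WeilCoh.sm (𝟙 P ≫ q)
      rw [Category.assoc, hσq, hσp, Category.id_comp]
  have hiso : IsIso (WeilCoh.sm σ) := by
    refine ⟨WeilCoh.sm σ, ?_, ?_⟩ <;>
    · change WeilCoh.sm (σ ≫ σ) = _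
      rw [hσσ]
      rfl
  -- σ^* preserves algebraic classes
  have hspan : ∀ z : T.H P, z ∈ Submodule.span K (Set.range (T.cl P)) →
      T.pull σ z ∈ Submodule.span K (Set.range (T.cl P)) := by
    intro z hz
    induction hz using Submodule.span_induction with
    | mem z hz =>
      obtain ⟨ξ, rfl⟩ := hz
      obtain ⟨w₀, rfl⟩ : ∃ w₀, WeilCoh.sm σ w₀ = ξ :=
        ⟨(WeilCoh.sm σ).homeomorph.symm ξ, (WeilCoh.sm σ).homeomorph.apply_symm_apply ξ⟩
      rw [Groth.Agent.H79.WeilIsoPull.pull_cl_of_isIso T σ w₀]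
      exact Submodule.subset_span ⟨w₀, rfl⟩
    | zero => rw [map_zero]; exact Submodule.zero_mem _
    | add a b _ _ ha hb => rw [map_add]; exact Submodule.add_mem _ ha hb
    | smul c a _ ha => rw [map_smul]; exact Submodule.smul_mem _ _ ha
  -- v' = σ^* v
  have hv'mem : T.pull σ (v : T.H P) ∈ T.gr P (2 * (WeilCoh.dim X.obj.left : ℤ)) := T.pull_mem σ _ _ v.2
  let v' : ↥(T.gr P (2 * (WeilCoh.dim X.obj.left : ℤ))) := ⟨T.pull σ (v : T.H P), hv'mem⟩
  have hv'alg : (v' : T.H P) ∈ Submodule.span K (Set.range (T.cl P)) := hspan _ hv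
  have hvv' : (v : T.H P) = T.pull σ (v' : T.H P) := by
    change _ = T.pull σ (T.pull σ (v : T.H P))
    rw [← AlgHom.comp_apply, ← T.pull_comp, hσσ, T.pull_id]
    rfl
  have hdim' : ∀ i : ℤ, ((i + 2 * (WeilCoh.dim X.obj.left : ℤ) + 2 * (WeilCoh.dim X.obj.left : ℤ) -
      2 * (WeilCoh.dim P.obj.left : ℤ)) + 2 * (WeilCoh.dim X.obj.left : ℤ) + 2 * (WeilCoh.dim X.obj.left : ℤ) -
      2 * (WeilCoh.dim P.obj.left : ℤ)) = i := by
    intro i
    have := hdim i
    omega
  rw [hvv', Groth.Agent.H79.WeilCorr.tr_mul_pull_swap T p q p q (2 * (WeilCoh.dim X.obj.left : ℤ)) (2 * (WeilCoh.dim X.obj.left : ℤ)) hdim'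
    hP hP σ hσp hσq u v']
  refine Finset.sum_eq_zero fun i hi => ?_
  have hi' : i < 2 * WeilCoh.dim X.obj.left + 1 := Finset.mem_range.mp hi
  -- the generator of the algebra attached to v'
  have hgen := hJ _ (Algebra.subset_adjoin ⟨⟨v', hv'alg⟩, rfl⟩)
  have hnil := hgen.map (Pi.evalRingHom (fun j : Fin (2 * WeilCoh.dim X.obj.left + 1) =>
    Module.End K ↥(T.gr X ((j : ℕ) : ℤ))) ⟨i, hi'⟩)
  have hcomp := Groth.Agent.H79.WeilCorr.compMap_eq_act_comp T p q
    (2 * (WeilCoh.dim X.obj.left : ℤ)) hdim hdim' u v' (i : ℤ)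
  rw [hcomp]
  have := LinearMap.isNilpotent_trace_of_isNilpotent hnil
  have h0 := this.eq_zero
  rw [show LinearMap.trace K ↥(T.gr X (i : ℤ))
      (Groth.Agent.H79.WeilCorr.act T p q (2 * (WeilCoh.dim X.obj.left : ℤ)) hdim v' (i : ℤ) ∘ₗ
        Groth.Agent.H79.WeilCorr.act T p q (2 * (WeilCoh.dim X.obj.left : ℤ)) hdim u (i : ℤ)) = 0
    from h0, mul_zero]

end Groth.Agent.S19418
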