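import Groth.Statements.S19422
import Groth.Agent.H96.GmWeights
-- import your own Groth.Agent.* helpers here

set_option autoImplicit false
universe u
open TensorProduct LaurentPolynomial
open GIT

namespace Groth.Agent.S19422

/-- Over an algebraically closed field k, let the multiplicative group, whose coordinate Hopf algebra is
the Laurent polynomial ring, act diagonally on affine ι-space, ι finite: the coaction on the
polynomial ring is multiplicative and sends the coordinate function X_i to X_i ⊗ T^(r_i) for
integers r_i. Then a vector v is semistable (some invariant homogeneous polynomial of positive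
degree does not vanish at v) if and only if there are indices i and j, possibly equal, with v_i ≠ 0,
v_j ≠ 0 and r_i ≤ 0 ≤ r_j, i.e. the origin lies in the convex hull of the weights of v. (Stated for
the ambient projective space on its affine cone; the published statement is for a point of a closed
invariant subvariety, whose semistability is that of the point in the ambient space.) -/
theorem result (k : Type u) [Field k] [IsAlgClosed k]
    (ι : Type u) [Fintype ι] [HopfRep.Comod k k[T;T⁻¹] (MvPolynomial ι k)] [GLin.IsCoactAlg k k[T;T⁻¹] (MvPolynomial ι k)]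
    (r : ι → ℤ)
    (hr : ∀ i : ι, HopfRep.Comod.coact (k := k) (A := k[T;T⁻¹]) (MvPolynomial.X i : MvPolynomial ι k) =
      (MvPolynomial.X i : MvPolynomial ι k) ⊗ₜ[k] (T (r i) : k[T;T⁻¹]))
    (v : ι → k) :
    GLin.IsSemistableVec k k[T;T⁻¹] v ↔ ∃ i j : ι, v i ≠ 0 ∧ v j ≠ 0 ∧ r i ≤ 0 ∧ 0 ≤ r j := by
  classical
  unfold GLin.IsSemistableVec GLin.IsNullform
  constructor
  · intro h
    push Not at h
    obtain ⟨F, hF, d, hd, hhom, hev⟩ := h
    rw [MvPolynomial.eval_eq'] at hev
    obtain ⟨m, hm, hmne⟩ := Finset.exists_ne_zero_of_sum_ne_zero hev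
    have hcoeff : MvPolynomial.coeff m F ≠ 0 := left_ne_zero_of_mul hmne
    have hprod : ∏ i, v i ^ m i ≠ 0 := right_ne_zero_of_mul hmne
    have hv : ∀ i, m i ≠ 0 → v i ≠ 0 := by
      intro i hi hvi
      apply hprod
      apply Finset.prod_eq_zero (Finset.mem_univ i)
      rw [hvi, zero_pow hi]
    have hwt := Groth.Agent.H96.GmWeights.wt_eq_zero_of_mem_invariants r hr F hF m hcoeff
    have hdeg : Finsupp.weight (1 : ι → ℕ) m = d := hhom hcoeff
    have hm0 : m ≠ 0 := by
      rintro rfl
      simp at hdeg
      omega
    obtain ⟨i₀, hi₀⟩ : ∃ i, m i ≠ 0 := by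
      by_contra hcon
      push Not at hcon
      exact hm0 (Finsupp.ext hcon)
    unfold Groth.Agent.H96.GmWeights.wt at hwt
    have h1 : ∃ i, m i ≠ 0 ∧ r i ≤ 0 := by
      by_contra hcon
      push Not at hcon
      have : 0 < ∑ i, (m i : ℤ) * r i := by
        apply Finset.sum_pos'
        · intro i _
          by_cases hmi : m i = 0
          · simp [hmi]
          · have := hcon i hmi
            positivity
        · refine ⟨i₀, Finset.mem_univ _, ?_⟩
          have := hcon i₀ hi₀
          have h2 : (0 : ℤ) < m i₀ := by
            have := Nat.pos_of_ne_zero hi₀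
            exact_mod_cast this
          positivity
      omega
    have h2 : ∃ j, m j ≠ 0 ∧ 0 ≤ r j := by
      by_contra hcon
      push Not at hcon
      have : ∑ i, (m i : ℤ) * r i < 0 := by
        apply Finset.sum_neg'
        · intro i _
          by_cases hmi : m i = 0
          · simp [hmi]
          · have := hcon i hmi
            have h3 : (0 : ℤ) ≤ m i := by positivity
            nlinarith
        · refine ⟨i₀, Finset.mem_univ _, ?_⟩
          have := hcon i₀ hi₀
          have h2 : (0 : ℤ) < m i₀ := by
            have := Nat.pos_of_ne_zero hi₀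
            exact_mod_cast this
          nlinarith
      omega
    obtain ⟨i, hi, hri⟩ := h1
    obtain ⟨j, hj, hrj⟩ := h2
    exact ⟨i, j, hv i hi, hv j hj, hri, hrj⟩
  · rintro ⟨i, j, hvi, hvj, hri, hrj⟩ hnull
    obtain ⟨a, ha⟩ := Int.eq_ofNat_of_zero_le hrj
    obtain ⟨b, hb⟩ := Int.eq_ofNat_of_zero_le (neg_nonneg.mpr hri)
    by_cases hab : 0 < a + b
    · set m : ι →₀ ℕ := Finsupp.single i a + Finsupp.single j b with hm
      have hwt : Groth.Agent.H96.GmWeights.wt r m = 0 := by
        rw [hm, Groth.Agent.H96.GmWeights.wt_add, Groth.Agent.H96.GmWeights.wt_single,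
          Groth.Agent.H96.GmWeights.wt_single, ← ha, ← hb]
        ring
      have hinv := Groth.Agent.H96.GmWeights.monomial_mem_invariants r hr m hwt (1 : k)
      have hhom : (MvPolynomial.monomial m (1 : k)).IsHomogeneous (a + b) := by
        apply MvPolynomial.isHomogeneous_monomial
        rw [hm, map_add]
        simp [Finsupp.weight_single]
      have h0 := hnull _ hinv (a + b) hab hhom
      rw [MvPolynomial.eval_monomial, one_mul, hm, Finsupp.prod_add_index' (by simp) (by simp [pow_add]),
        Finsupp.prod_single_index (by simp), Finsupp.prod_single_index (by simp)] at h0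
      exact mul_ne_zero (pow_ne_zero _ hvi) (pow_ne_zero _ hvj) h0
    · have ha0 : a = 0 := by omega
      have hb0 : b = 0 := by omega
      have hri0 : r i = 0 := by rw [hb0] at hb; simpa using hb
      have hwt : Groth.Agent.H96.GmWeights.wt r (Finsupp.single i 1) = 0 := by
        rw [Groth.Agent.H96.GmWeights.wt_single, hri0]; simp
      have hinv := Groth.Agent.H96.GmWeights.monomial_mem_invariants r hr _ hwt (1 : k)
      have hhom : (MvPolynomial.monomial (Finsupp.single i 1) (1 : k)).IsHomogeneous 1 := by
        apply MvPolynomial.isHomogeneous_monomial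
        simp [Finsupp.weight_single]
      have h0 := hnull _ hinv 1 Nat.one_pos hhom
      rw [MvPolynomial.eval_monomial, one_mul, Finsupp.prod_single_index (by simp), pow_one] at h0
      exact hvi h0

end Groth.Agent.S19422
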