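import Groth.Statements.S19423
import Groth.Agent.H96.GmStable
-- import your own Groth.Agent.* helpers here

set_option autoImplicit false
universe u
open TensorProduct LaurentPolynomial
open GIT

namespace Groth.Agent.S19423

/-- Over an algebraically closed field k, let the multiplicative group, whose coordinate Hopf algebra is
the Laurent polynomial ring, act diagonally on affine ι-space, ι finite: the coaction on the
polynomial ring is multiplicative and sends the coordinate function X_i to X_i ⊗ T^(r_i) for
integers r_i. Then a vector v is stable (the orbit of the point v of affine space is closed and its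
stabiliser is a finite group scheme) if and only if there are indices i and j with v_i ≠ 0, v_j ≠ 0
and r_i < 0 < r_j, i.e. the origin is an interior point of the convex hull of the weights of v.
(Stated for the ambient projective space on its affine cone, where stability means a closed orbit
with finite stabiliser in the cone.) -/
theorem result (k : Type u) [Field k] [IsAlgClosed k]
    (ι : Type u) [Fintype ι] [HopfRep.Comod k k[T;T⁻¹] (MvPolynomial ι k)] [GLin.IsCoactAlg k k[T;T⁻¹] (MvPolynomial ι k)]
    (r : ι → ℤ)
    (hr : ∀ i : ι, HopfRep.Comod.coact (k := k) (A := k[T;T⁻¹]) (MvPolynomial.X i : MvPolynomial ι k) =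
      (MvPolynomial.X i : MvPolynomial ι k) ⊗ₜ[k] (T (r i) : k[T;T⁻¹]))
    (v : ι → k) :
    GLin.IsStableVec k k[T;T⁻¹] v ↔ ∃ i j : ι, v i ≠ 0 ∧ v j ≠ 0 ∧ r i < 0 ∧ 0 < r j := by
  classical
  have hφX : ∀ i, GLin.orbitHom k k[T;T⁻¹] (GLin.vecPt k ι v) (MvPolynomial.X i) =
      v i • (T (r i) : k[T;T⁻¹]) := by
    intro i
    simp only [GLin.orbitHom, AlgHom.comp_apply, GLin.coactAlgHom_apply, hr,
      Algebra.TensorProduct.map_tmul, MvPolynomial.aeval_X, AlgHom.id_apply]
    simp [Algebra.smul_def]
  unfold GLin.IsStableVec GLin.IsStablePt GLin.IsClosedOrbit GLin.HasFiniteStab GLin.stabIdeal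
  set φ := GLin.orbitHom k k[T;T⁻¹] (GLin.vecPt k ι v) with hφ
  clear_value φ
  constructor
  · rintro ⟨hclosed, hfin⟩
    by_contra hcon
    push Not at hcon
    have h1 : ∃ i, v i ≠ 0 ∧ r i ≠ 0 := by
      by_contra h1
      push Not at h1
      have hφeq : φ = (Algebra.ofId k _).comp (GLin.vecPt k ι v) := by
        apply MvPolynomial.algHom_ext
        intro i
        rw [hφX]
        simp only [AlgHom.comp_apply, MvPolynomial.aeval_X, Algebra.ofId_apply,
          Algebra.algebraMap_eq_smul_one]
        by_cases hvi : v i = 0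
        · simp [hvi]
        · rw [h1 i hvi, T_zero]
      have hbot : Ideal.map φ (RingHom.ker (GLin.vecPt k ι v)) = ⊥ := by
        rw [eq_bot_iff, Ideal.map_le_iff_le_comap]
        intro f hf
        rw [Ideal.mem_comap, hφeq, AlgHom.comp_apply, RingHom.mem_ker.mp hf, map_zero]
        exact Ideal.zero_mem _
      rw [hbot] at hfin
      apply Groth.Agent.H96.GmStable.not_finite_laurent (k := k)
      exact Module.Finite.equiv ((Submodule.quotEquivOfEqBot (⊥ : Ideal k[T;T⁻¹]) rfl).restrictScalars k)
    obtain ⟨i0, hvi0, hri0⟩ := h1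
    rcases lt_or_gt_of_ne hri0 with hneg | hpos
    · have hall : ∀ i, v i ≠ 0 → r i ≤ 0 := fun i hi => hcon i0 i hvi0 hi hneg
      let h : MvPolynomial ι k →ₐ[k] Polynomial k :=
        MvPolynomial.aeval (fun i => Polynomial.C (v i) * Polynomial.X ^ (-r i).toNat)
      let j : Polynomial k →ₐ[k] k[T;T⁻¹] :=
        (LaurentPolynomial.invert (R := k)).toAlgHom.comp Polynomial.toLaurentAlg
      have hj : Function.Injective j := by
        intro a b hab
        exact Polynomial.toLaurent_injective ((LaurentPolynomial.invert (R := k)).injective hab)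
      have hφeq : φ = j.comp h := by
        apply MvPolynomial.algHom_ext
        intro i
        rw [hφX]
        have e1 : j (h (MvPolynomial.X i)) =
            LaurentPolynomial.invert (Polynomial.toLaurent
              (Polynomial.C (v i) * Polynomial.X ^ (-r i).toNat)) := by
          simp only [h, MvPolynomial.aeval_X]; rfl
        rw [AlgHom.comp_apply, e1, map_mul, Polynomial.toLaurent_C, Polynomial.toLaurent_X_pow,
          map_mul, invert_C, invert_T, Algebra.smul_def]
        by_cases hvi : v i = 0
        · simp [hvi]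
        · rw [Int.toNat_of_nonneg (neg_nonneg.mpr (hall i hvi)), neg_neg]
          rfl
      refine Groth.Agent.H96.GmStable.not_isClosed_range_comap φ h j hj hφeq (MvPolynomial.X i0) ?_ ?_ hclosed
      · rw [hφX]
        rw [Algebra.smul_def]
        exact ((isUnit_iff_ne_zero.mpr hvi0).map (algebraMap k k[T;T⁻¹])).mul (isUnit_T _)
      · simp only [h, MvPolynomial.aeval_X, Polynomial.eval_mul, Polynomial.eval_C,
          Polynomial.eval_pow, Polynomial.eval_X]
        rw [zero_pow, mul_zero]
        intro h0
        have : 0 < (-r i0).toNat := by omega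
        omega
    · have hall : ∀ i, v i ≠ 0 → 0 ≤ r i := by
        intro i hi
        by_contra hlt
        push Not at hlt
        have := hcon i i0 hi hvi0 hlt
        omega
      let h : MvPolynomial ι k →ₐ[k] Polynomial k :=
        MvPolynomial.aeval (fun i => Polynomial.C (v i) * Polynomial.X ^ (r i).toNat)
      let j : Polynomial k →ₐ[k] k[T;T⁻¹] := Polynomial.toLaurentAlg
      have hj : Function.Injective j := Polynomial.toLaurent_injective
      have hφeq : φ = j.comp h := by
        apply MvPolynomial.algHom_ext
        intro i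
        rw [hφX]
        have e1 : j (h (MvPolynomial.X i)) =
            Polynomial.toLaurent (Polynomial.C (v i) * Polynomial.X ^ (r i).toNat) := by
          simp only [h, MvPolynomial.aeval_X]; rfl
        rw [AlgHom.comp_apply, e1, map_mul, Polynomial.toLaurent_C, Polynomial.toLaurent_X_pow,
          Algebra.smul_def]
        by_cases hvi : v i = 0
        · simp [hvi]
        · rw [Int.toNat_of_nonneg (hall i hvi)]
          rfl
      refine Groth.Agent.H96.GmStable.not_isClosed_range_comap φ h j hj hφeq (MvPolynomial.X i0) ?_ ?_ hclosed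
      · rw [hφX]
        rw [Algebra.smul_def]
        exact ((isUnit_iff_ne_zero.mpr hvi0).map (algebraMap k k[T;T⁻¹])).mul (isUnit_T _)
      · simp only [h, MvPolynomial.aeval_X, Polynomial.eval_mul, Polynomial.eval_C,
          Polynomial.eval_pow, Polynomial.eval_X]
        rw [zero_pow, mul_zero]
        intro h0
        have : 0 < (r i0).toNat := by omega
        omega
  · rintro ⟨i, j, hvi, hvj, hri, hrj⟩
    obtain ⟨a, ha⟩ := Int.eq_ofNat_of_zero_le hrj.le
    obtain ⟨b, hb⟩ := Int.eq_ofNat_of_zero_le (neg_nonneg.mpr hri.le)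
    have ha0 : 0 < a := by omega
    have hb0 : 0 < b := by omega
    have hTa : (T (a : ℤ) : k[T;T⁻¹]) = φ (MvPolynomial.C (v j)⁻¹ * MvPolynomial.X j) := by
      rw [map_mul, hφX, ← ha, ← MvPolynomial.algebraMap_eq, AlgHom.commutes, Algebra.smul_def,
        ← mul_assoc, ← map_mul, inv_mul_cancel₀ hvj, map_one, one_mul]
    have hTb : (T (-(b : ℤ)) : k[T;T⁻¹]) = φ (MvPolynomial.C (v i)⁻¹ * MvPolynomial.X i) := by
      rw [map_mul, hφX, ← hb, neg_neg, ← MvPolynomial.algebraMap_eq, AlgHom.commutes, Algebra.smul_def,
        ← mul_assoc, ← map_mul, inv_mul_cancel₀ hvi, map_one, one_mul]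
    constructor
    · have hint : φ.toRingHom.IsIntegral :=
        Groth.Agent.H96.GmStable.isIntegral_of_T_mem φ a b ha0 hb0 ⟨_, hTa.symm⟩ ⟨_, hTb.symm⟩
      have := PrimeSpectrum.isClosedMap_comap_of_isIntegral φ.toRingHom hint
      rw [← Set.image_univ]
      exact this _ isClosed_univ
    · apply Groth.Agent.H96.GmStable.finite_quotient_of_T_sub_one_mem _ a ha0
      have hmem : φ (MvPolynomial.C (v j)⁻¹ * (MvPolynomial.X j - MvPolynomial.C (v j))) ∈
          Ideal.map φ (RingHom.ker (GLin.vecPt k ι v)) := by
        apply Ideal.mem_map_of_mem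
        rw [RingHom.mem_ker]
        simp
      convert hmem using 1
      rw [mul_sub, map_sub, ← hTa, ← map_mul, inv_mul_cancel₀ hvj, map_one, map_one]

end Groth.Agent.S19423
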