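import Groth.Statements.S19424
import Groth.Agent.H37.OrbitLib

set_option autoImplicit false
universe u
open CategoryTheory MonoidalCategory CartesianMonoidalCategory MonObj AlgebraicGeometry Topology
open NRQuot
open Groth.Agent.H37

namespace Groth.Agent.S19424

/-- Let k be an algebraically closed field, G an affine group scheme of finite type over k acting on a
k-scheme X locally of finite type, and φ : X → Y a good quotient (affine and invariant, functions on
every open of Y are exactly the invariant functions on its preimage, invariant closed subsets have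
closed images, and images commute with intersections of families of invariant closed subsets). Then
for two k-points x₁, x₂ of X, the closures of their orbits (the images of the orbit morphisms G → X)
have a common point if and only if x₁ and x₂ have the same image in Y. -/
theorem result
    (k : Type u) [Field k] [IsAlgClosed k]
    (G X Y : Over (Spec (CommRingCat.of k))) [GrpObj G] [IsAffine G.left] [LocallyOfFiniteType G.hom]
    [LocallyOfFiniteType X.hom]
    (a : AlgGrp.Action G X) (φ : X ⟶ Y) (h : NRQuot.IsGoodQuot a φ)
    (x₁ x₂ : 𝟙_ (Over (Spec (CommRingCat.of k))) ⟶ X) :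
    (closure (Set.range (a.orbitMap x₁).left.base) ∩ closure (Set.range (a.orbitMap x₂).left.base)).Nonempty ↔
      x₁ ≫ φ = x₂ ≫ φ := by
  haveI : UniversallyOpen G.hom := inferInstance
  have hopen : IsOpenMap (snd G X).left.base := by
    change IsOpenMap (Limits.pullback.snd G.hom X.hom).base
    exact (Limits.pullback.snd G.hom X.hom).isOpenMap
  change (closure (orbitSet a x₁) ∩ closure (orbitSet a x₂)).Nonempty ↔ _
  have hinv₁ := isInvariantSet_closure a hopen (isInvariantSet_orbitSet a x₁)
  have hinv₂ := isInvariantSet_closure a hopen (isInvariantSet_orbitSet a x₂)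
  constructor
  · rintro ⟨z, hz₁, hz₂⟩
    have key : ∀ x : 𝟙_ (Over (Spec (CommRingCat.of k))) ⟶ X, z ∈ closure (orbitSet a x) →
        φ.left.base z ∈ Set.range (x ≫ φ).left.base := by
      intro x hz
      have h1 : φ.left.base z ∈ φ.left.base '' closure (orbitSet a x) := ⟨z, hz, rfl⟩
      have h2 := image_closure_subset_closure_image φ.left.continuous h1
      have h3 : φ.left.base '' orbitSet a x ⊆ Set.range (x ≫ φ).left.base := by
        rintro _ ⟨w, hw, rfl⟩
        exact map_orbitSet_of_invariant a φ h.inv x w hw
      have h4 := closure_mono h3 h2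
      rwa [(isClosed_range_section (x ≫ φ)).closure_eq] at h4
    obtain ⟨s, hs⟩ := key x₁ hz₁
    obtain ⟨t, ht⟩ := key x₂ hz₂
    exact section_ext _ _ s t (hs.trans ht.symm)
  · intro hφ
    let s₀ : Spec (CommRingCat.of k) := IsLocalRing.closedPoint k
    let Wfam : ULift.{u} Bool → Set X.left := fun j =>
      if j.down then closure (orbitSet a x₁) else closure (orbitSet a x₂)
    have hcl : ∀ j, IsClosed (Wfam j) := by
      intro j
      by_cases hj : j.down <;> simp only [Wfam, hj] <;> exact isClosed_closure
    have hinvW : ∀ j, NRQuot.IsInvariantSet a (Wfam j) := by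
      intro j
      by_cases hj : j.down
      · simp only [Wfam, hj]; exact hinv₁
      · simp only [Wfam, hj]; exact hinv₂
    have hint := h.inter (ULift.{u} Bool) Wfam hcl hinvW
    have hmem : (x₁ ≫ φ).left.base s₀ ∈ ⋂ j, φ.left.base '' Wfam j := by
      rw [Set.mem_iInter]
      intro j
      by_cases hj : j.down
      · simp only [Wfam, hj]
        exact ⟨x₁.left.base s₀, subset_closure (mem_orbitSet_self a x₁ s₀), rfl⟩
      · simp only [Wfam, hj]
        rw [hφ]
        exact ⟨x₂.left.base s₀, subset_closure (mem_orbitSet_self a x₂ s₀), rfl⟩
    rw [← hint] at hmem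
    obtain ⟨z, hz, -⟩ := hmem
    rw [Set.mem_iInter] at hz
    refine ⟨z, ?_, ?_⟩
    · have := hz ⟨true⟩
      simpa [Wfam] using this
    · have := hz ⟨false⟩
      simpa [Wfam] using this

end Groth.Agent.S19424
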