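import Groth.Statements.S19427
import Groth.Agent.H96.MilK2
-- import your own Groth.Agent.* helpers here

set_option autoImplicit false
universe u
open MilnorK

namespace Groth.Agent.S19427

/-- For a field F and nonzero b, c with b + c ≠ 0, in the Milnor K-group K_2(F) one has {b, c} + {b + c,
-b/c} = 0, that is {b, c} = -{b + c, -b/c} = {b + c, -c/b}. (The identity as displayed in the source
is {b, c} = {b + c, -b/c}, which differs from this by a sign and fails in general: for b = 3, c = 5
over the rationals the tame symbol at 5 takes the values 3 and 1/3 on the two sides; the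
accompanying derivation from the Steinberg relation b/(b+c) + c/(b+c) = 1 gives exactly the identity
stated here.) -/
theorem result (F : Type u) [Field F] (b c : Fˣ)
    (h : (b : F) + (c : F) ≠ 0) :
    (MilK.symbol ![b, c] : MilK.K F 2) + MilK.symbol ![Units.mk0 ((b : F) + (c : F)) h, -(b / c)] = 0 := by
  open Groth.Agent.H96.MilK2 in
  change B b c + B (Units.mk0 ((b : F) + (c : F)) h) (-(b / c)) = 0
  set s : Fˣ := Units.mk0 ((b : F) + (c : F)) h with hs
  have hst : B (b / s) (c / s) = 0 := by
    apply B_steinberg
    simp only [Units.val_div_eq_div_val, hs, Units.val_mk0]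
    field_simp
  rw [div_eq_mul_inv, div_eq_mul_inv, B_mul_left, B_mul_right, B_mul_right, B_inv_right, B_inv_left,
    B_inv_left, B_inv_right, neg_neg] at hst
  have h1 : B s (-s) = 0 := B_neg_self s
  have e1 : -s = s * (-1) := by rw [mul_neg, mul_one]
  rw [e1, B_mul_right] at h1
  have h2 : B s (-1) + B s (-1) = 0 := by
    rw [← B_mul_right, neg_mul_neg, mul_one, B_one_right]
  have h3 := B_antisymm b s
  have e2 : -(b / c) = (-1) * b * c⁻¹ := by
    rw [neg_mul, one_mul, div_eq_mul_inv, neg_mul]
  rw [e2, B_mul_right, B_mul_right, B_inv_right]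
  -- hst : B b c + -B b s + (-B s c + B s s) = 0
  have hbc : B b c = B b s + B s c - B s s := by
    rw [← sub_eq_zero, ← hst]; abel
  have hss : B s s = - B s (-1) := eq_neg_of_add_eq_zero_left h1
  have hbs : B b s = - B s b := eq_neg_of_add_eq_zero_left h3
  rw [hbc, hss, hbs]
  have : -B s b + B s c - -B s (-1) + (B s (-1) + B s b + -B s c) = B s (-1) + B s (-1) := by abel
  rw [this, h2]

end Groth.Agent.S19427
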