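import Groth.Statements.S1943
import Groth.Agent.H79.SerreLimit

set_option autoImplicit false
universe u
open CategoryTheory
open IntMult

namespace Groth.Agent.S1943

/-- Let A be a Noetherian local ring, f₁, …, f_r elements generating an ideal of definition I (𝔪^n ⊆ I ⊆
𝔪 for some n) and M a finite A-module. Then r! · length_A(M/I^t M)/t^r tends, as t → ∞, to Σ_i
(−1)^i length_A H^i(K(f₁, …, f_r) ⊗_A M), the Euler characteristic of the Koszul complex tensored
with M (cohomological indexing, degrees −r, …, 0); that is, e_I(M, r) equals that alternating sum.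
The Koszul complex is the shared prelude's mapping-cone model. -/
theorem result (A : Type u) [CommRing A] [IsNoetherianRing A] [IsLocalRing A] (r : ℕ) (f : Fin r → A) (hI : Ideal.span (Set.range f) ≤ IsLocalRing.maximalIdeal A ∧ ∃ n : ℕ, IsLocalRing.maximalIdeal A ^ n ≤ Ideal.span (Set.range f)) (M : Type u) [AddCommGroup M] [Module A M] [Module.Finite A M] : Filter.Tendsto (fun t : ℕ => (r.factorial : ℝ) * ((Module.length A (M ⧸ (Ideal.span (Set.range f) ^ t • (⊤ : Submodule A M)))).toNat : ℝ) / (t : ℝ) ^ r) Filter.atTop (nhds ((∑ᶠ i : ℤ, ((i.negOnePow : ℤˣ) : ℤ) * ((Module.length A ((DRing.tensorCx (Koszul.koszul A (List.ofFn f)) (ModuleCat.of A M)).homology i)).toNat : ℤ) : ℤ) : ℝ)) := by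
  have hs : Groth.Agent.H79.KoszulEuler.SuppCond M (List.ofFn f) := by
    intro p _ hle
    rw [Groth.Agent.H79.KoszulRel.ofList_ofFn] at hle
    obtain ⟨n, hn⟩ := hI.2
    have h1 : IsLocalRing.maximalIdeal A ≤ p.asIdeal := p.2.le_of_pow_le (hn.trans hle)
    have h2 : p.asIdeal = IsLocalRing.maximalIdeal A :=
      le_antisymm (IsLocalRing.le_maximalIdeal p.2.ne_top) h1
    rw [h2]
    exact IsLocalRing.maximalIdeal.isMaximal A
  have h := Groth.Agent.H79.SerreLimit.tendsto_samuel M (List.ofFn f) hs
  rw [Groth.Agent.H79.KoszulEuler.chi_eq_tensorCx]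
  rw [List.length_ofFn, Groth.Agent.H79.KoszulRel.ofList_ofFn] at h
  exact h

end Groth.Agent.S1943
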