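import Groth.Statements.S19436
import Mathlib

set_option autoImplicit false
universe u
open CAlg

namespace Groth.Agent.S19436

/-- strict drop of the quotient dimension along a strict inclusion of ideals -/
theorem finrank_quot_lt (k : Type u) [Field k] (R : Type u) [CommRing R] [Algebra k R]
    (J₁ J₂ : Ideal R) [Module.Finite k (R ⧸ J₁)] (h : J₁ ≤ J₂) (hne : J₁ ≠ J₂) :
    Module.finrank k (R ⧸ J₂) < Module.finrank k (R ⧸ J₁) := by
  set π : (R ⧸ J₁) →ₗ[k] (R ⧸ J₂) := (Ideal.Quotient.factorₐ k h).toLinearMap with hπ
  have hsurj : Function.Surjective π := Ideal.Quotient.factor_surjective h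
  have h1 := LinearMap.finrank_range_add_finrank_ker π
  have hrange : LinearMap.range π = ⊤ := LinearMap.range_eq_top.mpr hsurj
  rw [hrange, finrank_top] at h1
  have hker : LinearMap.ker π ≠ ⊥ := by
    intro hbot
    apply hne
    apply le_antisymm h
    intro x hx
    have : (Ideal.Quotient.mk J₁ x) ∈ LinearMap.ker π := by
      rw [LinearMap.mem_ker]
      show Ideal.Quotient.factor h (Ideal.Quotient.mk J₁ x) = 0
      rw [Ideal.Quotient.factor_mk]
      exact Ideal.Quotient.eq_zero_iff_mem.mpr hx
    rw [hbot, Submodule.mem_bot] at this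
    exact Ideal.Quotient.eq_zero_iff_mem.mp this
  have : 0 < Module.finrank k (LinearMap.ker π) := by
    rw [Module.finrank_pos_iff]
    exact (Submodule.nontrivial_iff_ne_bot).mpr hker
  omega

/-- For a Noetherian local commutative algebra R over a field k, with maximal ideal M, and an ideal I of
R whose quotient R/I is finite-dimensional over k of dimension n, the power M^n lies in I. -/
theorem result (k : Type u) [Field k] (R : Type u) [CommRing R]
    [Algebra k R] [IsNoetherianRing R] [IsLocalRing R] (I : Ideal R) [Module.Finite k (R ⧸ I)] (n : ℕ)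
    (hn : Module.finrank k (R ⧸ I) = n) : IsLocalRing.maximalIdeal R ^ n ≤ I := by
  set M := IsLocalRing.maximalIdeal R with hM
  have hfin : ∀ J : Ideal R, I ≤ J → Module.Finite k (R ⧸ J) := by
    intro J hJ
    exact Module.Finite.of_surjective (Ideal.Quotient.factorₐ k hJ).toLinearMap
      (Ideal.Quotient.factor_surjective hJ)
  have key : ∀ i : ℕ, M ^ i ≤ I ∨ i ≤ Module.finrank k (R ⧸ (I ⊔ M ^ i)) := by
    intro i
    induction i with
    | zero => right; exact Nat.zero_le _
    | succ i ih =>
      rcases ih with h | h
      · left
        exact (Ideal.pow_le_pow_right (Nat.le_succ i)).trans h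
      · by_cases heq : I ⊔ M ^ (i + 1) = I ⊔ M ^ i
        · left
          have hle : M ^ i ≤ I ⊔ M • M ^ i := by
            have : M • M ^ i = M ^ (i + 1) := by
              rw [smul_eq_mul, pow_succ']
            rw [this, heq]
            exact le_sup_right
          have := Submodule.le_of_le_smul_of_le_jacobson_bot (N := I) (N' := M ^ i)
            (IsNoetherian.noetherian _) (IsLocalRing.maximalIdeal_le_jacobson ⊥) hle
          exact (Ideal.pow_le_pow_right (Nat.le_succ i)).trans this
        · right
          haveI := hfin (I ⊔ M ^ (i + 1)) le_sup_left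
          have hle : I ⊔ M ^ (i + 1) ≤ I ⊔ M ^ i :=
            sup_le_sup_left (Ideal.pow_le_pow_right (Nat.le_succ i)) I
          have := finrank_quot_lt k R _ _ hle heq
          omega
  rcases key n with h | h
  · exact h
  · by_contra hcon
    have hne : I ≠ I ⊔ M ^ n := by
      intro heq
      apply hcon
      rw [heq]
      exact le_sup_right
    have := finrank_quot_lt k R I (I ⊔ M ^ n) le_sup_left hne
    omega

end Groth.Agent.S19436
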