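import Groth.Statements.S19437
import Mathlib
import Groth.Agent.H76.NodeIdealC

set_option autoImplicit false
universe u
open CAlg

namespace Groth.Agent.S19437

/-- Ideals of colength n of the complete local ring of a node. Let k be a field and J an ideal of the
power series ring k[[x,y]] in two variables x, y which contains xy and whose quotient is
finite-dimensional over k of dimension n ≥ 2. Then there are integers a, b ≥ 1 such that either a +
b = n + 1 and J is generated by xy, x^a, y^b, or a + b = n and J is generated by xy and x^a + α y^b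
for some nonzero scalar α. -/
theorem result (k : Type u) [Field k]
    (J : Ideal (MvPowerSeries (Fin 2) k))
    (hxy : (MvPowerSeries.X 0 * MvPowerSeries.X 1 : MvPowerSeries (Fin 2) k) ∈ J)
    [Module.Finite k (MvPowerSeries (Fin 2) k ⧸ J)] (n : ℕ) (hn : Module.finrank k (MvPowerSeries (Fin 2) k ⧸ J) = n)
    (h2 : 2 ≤ n) :
    ∃ a b : ℕ, 1 ≤ a ∧ 1 ≤ b ∧
      ((a + b = n + 1 ∧
        J = Ideal.span {MvPowerSeries.X 0 * MvPowerSeries.X 1, MvPowerSeries.X 0 ^ a, MvPowerSeries.X 1 ^ b}) ∨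
       (a + b = n ∧ ∃ α : k, α ≠ 0 ∧
        J = Ideal.span {MvPowerSeries.X 0 * MvPowerSeries.X 1,
          MvPowerSeries.X 0 ^ a + MvPowerSeries.C α * MvPowerSeries.X 1 ^ b})) := by
  classical
  have hJtop : J ≠ ⊤ := by
    intro htop
    have hsub : Subsingleton (MvPowerSeries (Fin 2) k ⧸ J) :=
      Ideal.Quotient.subsingleton_iff.2 htop
    have := Module.finrank_zero_of_subsingleton (R := k) (M := MvPowerSeries (Fin 2) k ⧸ J)
    omega
  have hxy' : (MvPowerSeries.X 1 * MvPowerSeries.X 0 : MvPowerSeries (Fin 2) k) ∈ J := by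
    rwa [mul_comm]
  have hexa := Groth.Agent.H76.NodeIdeal.exists_X_pow_mem 0 1 (by decide) J hxy
  have hexb := Groth.Agent.H76.NodeIdeal.exists_X_pow_mem 1 0 (by decide) J hxy'
  have ha := (Nat.find_spec hexa).1
  have haJ := (Nat.find_spec hexa).2
  have hb := (Nat.find_spec hexb).1
  have hbJ := (Nat.find_spec hexb).2
  have hamin : ∀ a', 1 ≤ a' → a' < Nat.find hexa →
      (MvPowerSeries.X 0 ^ a' : MvPowerSeries (Fin 2) k) ∉ J := by
    intro a' h1 h2 h3
    exact Nat.find_min hexa h2 ⟨h1, h3⟩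
  have hbmin : ∀ b', 1 ≤ b' → b' < Nat.find hexb →
      (MvPowerSeries.X 1 ^ b' : MvPowerSeries (Fin 2) k) ∉ J := by
    intro b' h1 h2 h3
    exact Nat.find_min hexb h2 ⟨h1, h3⟩
  set a := Nat.find hexa
  set b := Nat.find hexb
  by_cases hall : ∀ h ∈ J, Groth.Agent.S18434.Phi k a b h = 0
  · obtain ⟨h1, h3⟩ := Groth.Agent.H76.NodeIdeal.case1 J hxy a b ha hb haJ hbJ hall
    exact ⟨a, b, ha, hb, Or.inl ⟨by omega, h1⟩⟩
  · push Not at hall
    obtain ⟨h₀, hh₀, hΦ⟩ := hall
    obtain ⟨a', b', α, ha', hb', hα, h1, h3⟩ :=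
      Groth.Agent.H76.NodeIdeal.case2 J hxy a b ha hb haJ hbJ hamin hbmin hJtop h₀ hh₀ hΦ
    exact ⟨a', b', ha', hb', Or.inr ⟨by omega, α, hα, h1⟩⟩

end Groth.Agent.S19437
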