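import Groth.Statements.S19438
import Mathlib

set_option autoImplicit false
universe u
open CAlg

namespace Groth.Agent.S19438

/-- First assertion: let A be a Noetherian local commutative algebra over a field k with maximal ideal
M, residue field k (the map from k to A/M is onto) and embedding dimension dim M/M^2 at least 2, and
let I be a proper ideal with A/I finite-dimensional over k. If A/I is generated as a k-algebra by
one element, then some element of I does not lie in M^2; that is, the finite closed subscheme
defined by I lies on a smooth hypersurface germ (it is curvilinear). (The published statement is for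
the local ring of a smooth surface at a closed point; only a Noetherian local algebra with residue
field k and embedding dimension at least 2 is assumed here, which is what the published argument
uses.) -/
theorem result (k : Type u) [Field k]
    (A : Type u) [CommRing A] [Algebra k A] [IsNoetherianRing A] [IsLocalRing A]
    (hres : Function.Surjective (algebraMap k (IsLocalRing.ResidueField A)))
    (hemb : 2 ≤ Module.finrank (IsLocalRing.ResidueField A) (IsLocalRing.CotangentSpace A))
    (I : Ideal A) (hI : I ≠ ⊤) [Module.Finite k (A ⧸ I)]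
    (f : A ⧸ I) (hf : Algebra.adjoin k {f} = ⊤) :
    ∃ g ∈ I, g ∉ IsLocalRing.maximalIdeal A ^ 2 := by
  classical
  by_contra hcon
  push_neg at hcon
  set M := IsLocalRing.maximalIdeal A with hM
  have hIM2 : I ≤ M ^ 2 := fun g hg => hcon g hg
  -- linearly independent pair in the cotangent space
  obtain ⟨v, hv⟩ := exists_linearIndependent_of_le_finrank hemb
  obtain ⟨x, hx⟩ := Ideal.toCotangent_surjective M (v 0)
  obtain ⟨y, hy⟩ := Ideal.toCotangent_surjective M (v 1)
  -- residue field decomposition
  have hdecomp : ∀ a : A, ∃ c : k, a - algebraMap k A c ∈ M := by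
    intro a
    obtain ⟨c, hc⟩ := hres (IsLocalRing.residue A a)
    refine ⟨c, ?_⟩
    rw [hM, ← IsLocalRing.residue_eq_zero_iff, map_sub, ← hc, sub_eq_zero,
      IsScalarTower.algebraMap_apply k A (IsLocalRing.ResidueField A),
      IsLocalRing.ResidueField.algebraMap_eq]
  -- the quotient map A/I → A/M^2
  let π : (A ⧸ I) →ₐ[k] (A ⧸ M ^ 2) := Ideal.Quotient.factorₐ k hIM2
  have hπsurj : Function.Surjective π := Ideal.Quotient.factor_surjective hIM2
  have hadj : Algebra.adjoin k {π f} = ⊤ := by
    have h1 := AlgHom.map_adjoin π {f}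
    rw [hf, Algebra.map_top, Set.image_singleton] at h1
    rw [← h1]
    exact (AlgHom.range_eq_top π).mpr hπsurj
  obtain ⟨a, ha⟩ := Ideal.Quotient.mk_surjective (π f)
  obtain ⟨c, hc⟩ := hdecomp a
  set m : A := a - algebraMap k A c with hm
  set mb : A ⧸ M ^ 2 := Ideal.Quotient.mk (M ^ 2) m with hmb
  have hmm : mb * mb = 0 := by
    rw [hmb, ← map_mul, Ideal.Quotient.eq_zero_iff_mem, pow_two]
    exact Ideal.mul_mem_mul hc hc
  have hπf : π f = algebraMap k (A ⧸ M ^ 2) c + mb := by
    rw [← ha, hmb, hm, map_sub]
    simp only [Ideal.Quotient.mk_algebraMap]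
    ring
  -- W = span {1, mb} is a subalgebra
  let W : Submodule k (A ⧸ M ^ 2) := Submodule.span k {1, mb}
  have hW1 : (1 : A ⧸ M ^ 2) ∈ W := Submodule.subset_span (by simp)
  have hWmul : ∀ u w : A ⧸ M ^ 2, u ∈ W → w ∈ W → u * w ∈ W := by
    intro u w hu hw
    rw [Submodule.mem_span_pair] at hu hw
    obtain ⟨α, β, rfl⟩ := hu
    obtain ⟨α', β', rfl⟩ := hw
    rw [Submodule.mem_span_pair]
    refine ⟨α * α', α * β' + β * α', ?_⟩
    simp only [Algebra.smul_def, mul_one, map_mul, map_add]
    linear_combination (-(algebraMap k (A ⧸ M ^ 2) β) * (algebraMap k (A ⧸ M ^ 2) β')) * hmm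
  have htop : ∀ z : A ⧸ M ^ 2, z ∈ W := by
    intro z
    have h1 : Algebra.adjoin k {π f} ≤ W.toSubalgebra hW1 hWmul := by
      rw [Algebra.adjoin_le_iff]
      rintro _ rfl
      change π f ∈ W
      rw [hπf, Submodule.mem_span_pair]
      exact ⟨c, 1, by rw [Algebra.smul_def, mul_one, one_smul]⟩
    rw [hadj] at h1
    exact h1 (Algebra.mem_top : z ∈ ⊤)
  -- elements of M in W are multiples of m modulo M^2
  have hmult : ∀ z : A, z ∈ M → ∃ β : k, z - algebraMap k A β * m ∈ M ^ 2 := by
    intro z hz
    have := htop (Ideal.Quotient.mk (M ^ 2) z)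
    rw [Submodule.mem_span_pair] at this
    obtain ⟨α, β, hαβ⟩ := this
    have hα : α = 0 := by
      by_contra hα0
      -- algebraMap α ∈ M, contradiction
      have h1 : Ideal.Quotient.mk (M ^ 2) (algebraMap k A α + algebraMap k A β * m - z) = 0 := by
        rw [map_sub, map_add, map_mul, ← hαβ, Algebra.smul_def, Algebra.smul_def, mul_one]
        simp only [Ideal.Quotient.mk_algebraMap]
        rw [← hmb]
        ring
      rw [Ideal.Quotient.eq_zero_iff_mem] at h1
      have h2 : algebraMap k A α + algebraMap k A β * m - z ∈ M := Ideal.pow_le_self two_ne_zero h1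
      have h3 : algebraMap k A α ∈ M := by
        have : algebraMap k A α = (algebraMap k A α + algebraMap k A β * m - z) + z -
            algebraMap k A β * m := by ring
        rw [this]
        exact Ideal.sub_mem _ (Ideal.add_mem _ h2 hz) (Ideal.mul_mem_left _ _ hc)
      have h4 : IsUnit (algebraMap k A α) := (IsUnit.mk0 α hα0).map (algebraMap k A)
      exact (IsLocalRing.maximalIdeal.isMaximal A).ne_top (Ideal.eq_top_of_isUnit_mem _ h3 h4)
    refine ⟨β, ?_⟩
    rw [← Ideal.Quotient.eq_zero_iff_mem, map_sub, map_mul, ← hαβ, hα, zero_smul, zero_add,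
      Algebra.smul_def]
    simp only [Ideal.Quotient.mk_algebraMap]
    rw [← hmb]
    ring
  obtain ⟨β, hβ⟩ := hmult x x.2
  obtain ⟨β', hβ'⟩ := hmult y y.2
  -- in the cotangent space
  let w := M.toCotangent ⟨m, hc⟩
  have hxw : v 0 = (IsLocalRing.residue A (algebraMap k A β)) • w := by
    rw [← hx]
    have h1 : M.toCotangent x = M.toCotangent ((algebraMap k A β) • (⟨m, hc⟩ : M)) := by
      rw [Ideal.toCotangent_eq]
      exact hβ
    rw [h1, map_smul]
    rfl
  have hyw : v 1 = (IsLocalRing.residue A (algebraMap k A β')) • w := by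
    rw [← hy]
    have h1 : M.toCotangent y = M.toCotangent ((algebraMap k A β') • (⟨m, hc⟩ : M)) := by
      rw [Ideal.toCotangent_eq]
      exact hβ'
    rw [h1, map_smul]
    rfl
  have hli := hv
  rw [Fintype.linearIndependent_iff] at hli
  set b := IsLocalRing.residue A (algebraMap k A β) with hb
  set b' := IsLocalRing.residue A (algebraMap k A β') with hb'
  have h1 := hli ![b', -b] (by
    rw [Fin.sum_univ_two]
    simp only [Matrix.cons_val_zero, Matrix.cons_val_one]
    rw [hxw, hyw, smul_smul, smul_smul]
    rw [neg_mul, neg_smul, mul_comm b' b, add_neg_cancel])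
  have hb0 : b = 0 := by simpa using h1 1
  have hv0 : v 0 = 0 := by rw [hxw, hb0, zero_smul]
  exact hv.ne_zero 0 hv0

end Groth.Agent.S19438
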