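import Groth.Statements.S19439
import Mathlib

set_option autoImplicit false
universe u
open CAlg

namespace Groth.Agent.S19439

/-- Affine form: for all n and N there is an integer d, that depends only on n and N, such that for
every algebraically closed field k and every ideal I of the polynomial ring in N variables over k
whose quotient has finite dimension n over k, the polynomials of total degree at most d map onto the
quotient. -/
theorem result (n N : ℕ) :
    ∃ d : ℕ, ∀ (k : Type u) [Field k] [IsAlgClosed k] (I : Ideal (MvPolynomial (Fin N) k))
      [Module.Finite k (MvPolynomial (Fin N) k ⧸ I)],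
      Module.finrank k (MvPolynomial (Fin N) k ⧸ I) = n →
      Submodule.map (Ideal.Quotient.mkₐ k I).toLinearMap (MvPolynomial.restrictTotalDegree (Fin N) k d) = ⊤ := by
  refine ⟨n, ?_⟩
  intro k _ _ I _ hn
  set W : ℕ → Submodule k (MvPolynomial (Fin N) k ⧸ I) := fun j =>
    Submodule.map (Ideal.Quotient.mkₐ k I).toLinearMap (MvPolynomial.restrictTotalDegree (Fin N) k j)
    with hW
  have hmono : ∀ j, W j ≤ W (j + 1) := by
    intro j
    apply Submodule.map_mono
    intro p hp
    rw [MvPolynomial.mem_restrictTotalDegree] at hp ⊢
    omega
  -- stabilisation forces everything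
  have hstab : ∀ j, W (j + 1) = W j → W j = ⊤ := by
    intro j hj
    rw [eq_top_iff]
    intro x hx
    clear hx
    obtain ⟨p, rfl⟩ := Ideal.Quotient.mk_surjective x
    induction p using MvPolynomial.induction_on with
    | C a =>
      refine ⟨MvPolynomial.C a, ?_, rfl⟩
      rw [SetLike.mem_coe, MvPolynomial.mem_restrictTotalDegree, MvPolynomial.totalDegree_C]
      exact Nat.zero_le _
    | add p q hp hq =>
      rw [map_add]
      exact Submodule.add_mem _ hp hq
    | mul_X p i hp =>
      obtain ⟨q, hq, hqp⟩ := hp
      rw [← hj]
      refine ⟨q * MvPolynomial.X i, ?_, ?_⟩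
      · rw [SetLike.mem_coe, MvPolynomial.mem_restrictTotalDegree] at hq ⊢
        calc (q * MvPolynomial.X i).totalDegree ≤ q.totalDegree + (MvPolynomial.X i : MvPolynomial (Fin N) k).totalDegree :=
              MvPolynomial.totalDegree_mul _ _
          _ ≤ j + 1 := by
              rw [MvPolynomial.totalDegree_X]; omega
      · have h1 : (Ideal.Quotient.mkₐ k I).toLinearMap (q * MvPolynomial.X i)
            = (Ideal.Quotient.mkₐ k I).toLinearMap q * (Ideal.Quotient.mk I) (MvPolynomial.X i) := by
          simp
        rw [h1, hqp]
        simp
  have key : ∀ j, W j = ⊤ ∨ j + 1 ≤ Module.finrank k (W j) := by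
    intro j
    induction j with
    | zero =>
      by_cases hnt : Nontrivial (MvPolynomial (Fin N) k ⧸ I)
      · right
        have h1 : (1 : MvPolynomial (Fin N) k ⧸ I) ∈ W 0 := by
          refine ⟨1, ?_, by simp⟩
          rw [SetLike.mem_coe, MvPolynomial.mem_restrictTotalDegree]
          simp
        have : W 0 ≠ ⊥ := by
          intro h0
          rw [h0, Submodule.mem_bot] at h1
          exact one_ne_zero h1
        have : 0 < Module.finrank k (W 0) := by
          rw [Module.finrank_pos_iff]
          exact (Submodule.nontrivial_iff_ne_bot).mpr this
        omega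
      · left
        rw [not_nontrivial_iff_subsingleton] at hnt
        exact Subsingleton.elim _ _
    | succ j ih =>
      rcases ih with h | h
      · left
        exact top_le_iff.mp (h ▸ hmono j)
      · by_cases heq : W (j + 1) = W j
        · left
          rw [heq]
          exact hstab j heq
        · right
          have hlt : W j < W (j + 1) := lt_of_le_of_ne (hmono j) (Ne.symm heq)
          have := Submodule.finrank_lt_finrank_of_lt hlt
          omega
  rcases key n with h | h
  · exact h
  · exfalso
    have := Submodule.finrank_le (W n)
    omega

end Groth.Agent.S19439
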