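import Groth.Statements.S19443
import Mathlib

set_option autoImplicit false
universe u
open LinAlg

namespace Groth.Agent.S19443

/-- Algebraic form: let G be a finite group with order invertible in the field k, ρ a linear
representation of G on a k-vector space V, and ω a nondegenerate bilinear form on V invariant under
G. Then ω restricted to the fixed subspace V^G is nondegenerate (for a finite group of symplectic
automorphisms, the fixed subspace is a symplectic subspace). -/
theorem result (k : Type u) [Field k]
    (G : Type u) [Group G] [Finite G] (hG : (Nat.card G : k) ≠ 0)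
    (V : Type u) [AddCommGroup V] [Module k V] (ρ : Representation k G V)
    (ω : LinearMap.BilinForm k V) (hω : ω.Nondegenerate)
    (hinv : ∀ (g : G) (v w : V), ω (ρ g v) (ρ g w) = ω v w) :
    (ω.restrict ρ.invariants).Nondegenerate := by
  classical
  haveI : Fintype G := Fintype.ofFinite G
  have hcard : (Fintype.card G : k) ≠ 0 := by
    rwa [← Nat.card_eq_fintype_card]
  -- the (unnormalised) sum over the group
  set S : V → V := fun w => ∑ g : G, ρ g w with hS
  have hSinv : ∀ w, S w ∈ ρ.invariants := by
    intro w g
    simp only [hS, map_sum]
    have : ∀ h : G, ρ g (ρ h w) = ρ (g * h) w := fun h => by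
      rw [map_mul]; rfl
    simp_rw [this]
    exact Fintype.sum_bijective (fun h => g * h) (Group.mulLeft_bijective g) _ _ (fun _ => rfl)
  have hleft : ∀ x ∈ ρ.invariants, ∀ w, ω x (S w) = (Fintype.card G : k) * ω x w := by
    intro x hx w
    simp only [hS, map_sum]
    have : ∀ g : G, ω x (ρ g w) = ω x w := fun g => by
      conv_lhs => rw [← hx g]
      exact hinv g x w
    simp [this, Finset.card_univ]
  have hright : ∀ x ∈ ρ.invariants, ∀ w, ω (S w) x = (Fintype.card G : k) * ω w x := by
    intro x hx w
    simp only [hS, map_sum, LinearMap.sum_apply]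
    have : ∀ g : G, ω (ρ g w) x = ω w x := fun g => by
      conv_lhs => rw [← hx g]
      exact hinv g w x
    simp [this, Finset.card_univ]
  refine ⟨?_, ?_⟩
  · intro x hx
    have hx0 : (x : V) = 0 := by
      apply hω.1
      intro w
      have h1 := hx ⟨S w, hSinv w⟩
      simp only [LinearMap.BilinForm.restrict_apply] at h1
      have h2 := hleft x.1 x.2 w
      have h3 : ω x.1 (S w) = 0 := h1
      rw [h3] at h2
      exact (mul_eq_zero.mp h2.symm).resolve_left hcard
    exact Subtype.ext hx0
  · intro x hx
    have hx0 : (x : V) = 0 := by
      apply hω.2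
      intro w
      have h1 := hx ⟨S w, hSinv w⟩
      have h2 := hright x.1 x.2 w
      have h3 : ω (S w) x.1 = 0 := h1
      rw [h3] at h2
      exact (mul_eq_zero.mp h2.symm).resolve_left hcard
    exact Subtype.ext hx0

end Groth.Agent.S19443
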