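import Groth.Statements.S19444
import Mathlib
import Groth.Agent.H89.SymNorm
import Groth.Agent.H89.Polarize

set_option autoImplicit false
universe u
open SymTen

namespace Groth.Agent.S19444

/-- Linearised norm: let A be a commutative ring in which n! is invertible and R a commutative
A-algebra, free of rank n as an A-module. There is a unique A-algebra homomorphism from the
symmetric tensors TS^n_A(R) to A taking r ⊗ ⋯ ⊗ r to the norm of r for every r in R. (The published
corollary is stated for any free algebra of rank n; the construction printed for it divides by n!,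
and n! invertible is assumed here.) -/
theorem result (A : Type u) [CommRing A] (R : Type u) [CommRing R]
    [Algebra A R] [Module.Free A R] [Module.Finite A R] (n : ℕ) (hn : Module.finrank A R = n)
    (hfact : IsUnit ((Nat.factorial n : ℕ) : A)) :
    ∃! φ : SymTen.TS A R n →ₐ[A] A, ∀ r : R, φ (SymTen.tpow A R n r) = Algebra.norm A r := by
  classical
  subst hn
  rcases subsingleton_or_nontrivial A with hA | hA
  · let φ : SymTen.TS A R (Module.finrank A R) →ₐ[A] A :=
      { toFun := fun _ => 0
        map_one' := Subsingleton.elim _ _
        map_mul' := fun _ _ => Subsingleton.elim _ _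
        map_zero' := rfl
        map_add' := fun _ _ => Subsingleton.elim _ _
        commutes' := fun _ => Subsingleton.elim _ _ }
    refine ⟨φ, fun r => Subsingleton.elim _ _, fun ψ _ => ?_⟩
    ext z
    exact Subsingleton.elim _ _
  have b : Module.Basis (Fin (Module.finrank A R)) A R := Module.finBasis A R
  have hTS : ∀ c : SymTen.TS A R (Module.finrank A R),
      (SymTen.TS A R (Module.finrank A R)).val c ∈ SymTen.TS A R (Module.finrank A R) := fun c => c.2
  have hpsi : ∀ r : R, Groth.Agent.H89.SymNorm.psi A R (Module.finrank A R) b
      (SymTen.TS A R (Module.finrank A R)).val hTS (SymTen.tpow A R (Module.finrank A R) r) =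
      Algebra.norm A r := by
    intro r
    change Groth.Agent.H89.SymNorm.detL A R (Module.finrank A R) b
      (SymTen.tpowAct A R R (Module.finrank A R)
        (PiTensorProduct.tprod A (fun _ : Fin (Module.finrank A R) => r))
        (PiTensorProduct.tprod A b)) = Algebra.norm A r
    rw [Groth.Agent.S17910.tpowAct_tprod, Groth.Agent.H89.SymNorm.detL_tprod]
    have := Module.Basis.det_comp b (Algebra.lmul A R r) b
    rw [Module.Basis.det_self, mul_one] at this
    rw [Algebra.norm_apply, ← this]
    rfl
  refine ⟨Groth.Agent.H89.SymNorm.psi A R (Module.finrank A R) b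
    (SymTen.TS A R (Module.finrank A R)).val hTS, hpsi, ?_⟩
  intro φ hφ
  have h := Groth.Agent.H89.Polarize.linearMap_ext_of_tpow A R (Module.finrank A R) hfact
    φ.toLinearMap (Groth.Agent.H89.SymNorm.psi A R (Module.finrank A R) b
      (SymTen.TS A R (Module.finrank A R)).val hTS).toLinearMap ?_
  · ext z
    exact congrArg (fun g => g z) h
  · intro r
    change φ (SymTen.tpow A R (Module.finrank A R) r) = Groth.Agent.H89.SymNorm.psi A R
      (Module.finrank A R) b (SymTen.TS A R (Module.finrank A R)).val hTS
      (SymTen.tpow A R (Module.finrank A R) r)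
    rw [hφ r, hpsi r]

end Groth.Agent.S19444
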