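import Groth.Statements.S19445
import Groth.Agent.H46.RegularSeqIndep

set_option autoImplicit false
universe u
open CAlg

namespace Groth.Agent.S19445

open IsLocalRing

section

variable {k : Type u} [Field k] {A : Type u} [CommRing A] [Algebra k A] [IsLocalRing A]
  {G : Type u} [Group G] [MulSemiringAction G A] [SMulCommClass G k A]

/-- the coinvariant ideal -/
def J (G : Type u) (A : Type u) [CommRing A] [Group G] [MulSemiringAction G A] : Ideal A :=
  Ideal.span {x : A | ∃ (g : G) (a : A), x = g • a - a}

omit [IsLocalRing A] in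
theorem smul_algebraMap (g : G) (c : k) : g • (algebraMap k A c) = algebraMap k A c := by
  rw [Algebra.algebraMap_eq_smul_one, smul_comm, smul_one]

omit [Algebra k A] in
theorem smul_mem_maximalIdeal (g : G) {a : A} (ha : a ∈ maximalIdeal A) :
    g • a ∈ maximalIdeal A := by
  rw [mem_maximalIdeal, mem_nonunits_iff] at ha ⊢
  intro hu
  apply ha
  have := hu.map (MulSemiringAction.toRingHom G A g⁻¹)
  simpa using this

omit [Algebra k A] [IsLocalRing A] in
theorem sub_mem_J (g : G) (a : A) : g • a - a ∈ J G A :=
  Ideal.subset_span ⟨g, a, rfl⟩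

omit [Algebra k A] [IsLocalRing A] in
theorem smul_mem_J (g : G) {x : A} (hx : x ∈ J G A) : g • x ∈ J G A := by
  have := sub_mem_J g x
  have h2 : g • x = (g • x - x) + x := by ring
  rw [h2]
  exact (J G A).add_mem this hx

omit [Algebra k A] in
theorem smul_mem_mJ (g : G) {x : A} (hx : x ∈ maximalIdeal A * J G A) :
    g • x ∈ maximalIdeal A * J G A := by
  refine Submodule.mul_induction_on hx ?_ ?_
  · intro a ha b hb
    rw [smul_mul']
    exact Ideal.mul_mem_mul (smul_mem_maximalIdeal g ha) (smul_mem_J g hb)
  · intro a b ha hb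
    rw [smul_add]
    exact Ideal.add_mem _ ha hb

/-- every element is a scalar plus an element of the maximal ideal -/
theorem exists_scalar (hres : Function.Surjective (algebraMap k (ResidueField A))) (a : A) :
    ∃ c : k, a - algebraMap k A c ∈ maximalIdeal A := by
  obtain ⟨c, hc⟩ := hres (residue A a)
  refine ⟨c, ?_⟩
  rw [← Ideal.Quotient.eq_zero_iff_mem, map_sub]
  rw [IsScalarTower.algebraMap_apply k A (ResidueField A)] at hc
  change residue A a - residue A (algebraMap k A c) = 0
  rw [sub_eq_zero]
  exact hc.symm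

theorem J_le (hres : Function.Surjective (algebraMap k (ResidueField A))) :
    J G A ≤ maximalIdeal A := by
  rw [J, Ideal.span_le]
  rintro _ ⟨g, a, rfl⟩
  obtain ⟨c, hc⟩ := exists_scalar hres a
  have h : g • a - a = g • (a - algebraMap k A c) - (a - algebraMap k A c) := by
    rw [smul_sub, smul_algebraMap]
    ring
  rw [h]
  exact Ideal.sub_mem _ (smul_mem_maximalIdeal g hc) hc

/-- `(g - 1) m² ⊆ m J` -/
theorem sub_mem_mJ_of_mem_sq (hres : Function.Surjective (algebraMap k (ResidueField A)))
    (g : G) {x : A} (hx : x ∈ maximalIdeal A ^ 2) :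
    g • x - x ∈ maximalIdeal A * J G A := by
  rw [pow_two] at hx
  refine Submodule.mul_induction_on hx ?_ ?_
  · intro a ha b hb
    have h : g • (a * b) - a * b = (g • b) * (g • a - a) + a * (g • b - b) := by
      rw [smul_mul']
      ring
    rw [h]
    exact Ideal.add_mem _ (Ideal.mul_mem_mul (smul_mem_maximalIdeal g hb) (sub_mem_J g a))
      (Ideal.mul_mem_mul ha (sub_mem_J g b))
  · intro a b ha hb
    have h : g • (a + b) - (a + b) = (g • a - a) + (g • b - b) := by
      rw [smul_add]
      ring
    rw [h]
    exact Ideal.add_mem _ ha hb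

variable [Fintype G]

/-- the (unnormalized) trace -/
def tr (a : A) : A := ∑ g : G, g • a

omit [Algebra k A] [IsLocalRing A] in
theorem tr_add (a b : A) : tr (G := G) (a + b) = tr (G := G) a + tr (G := G) b := by
  simp only [tr, smul_add, Finset.sum_add_distrib]

omit [Algebra k A] [IsLocalRing A] in
theorem tr_smul (g : G) (a : A) : tr (G := G) (g • a) = tr (G := G) a := by
  simp only [tr, ← mul_smul]
  exact Fintype.sum_equiv (Equiv.mulRight g) _ _ (fun h => rfl)

omit [IsLocalRing A] in
theorem tr_algebraMap_mul (c : k) (a : A) :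
    tr (G := G) (algebraMap k A c * a) = algebraMap k A c * tr (G := G) a := by
  simp only [tr, smul_mul', smul_algebraMap, Finset.mul_sum]

omit [Algebra k A] in
theorem tr_mem_mJ {x : A} (hx : x ∈ maximalIdeal A * J G A) :
    tr (G := G) x ∈ maximalIdeal A * J G A :=
  Ideal.sum_mem _ fun g _ => smul_mem_mJ g hx

/-- the trace of an element of `J` lies in `m J` -/
theorem tr_mem_mJ_of_mem_J (hres : Function.Surjective (algebraMap k (ResidueField A)))
    {x : A} (hx : x ∈ J G A) : tr (G := G) x ∈ maximalIdeal A * J G A := by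
  unfold J at hx
  induction hx using Submodule.span_induction with
  | mem x hx =>
    obtain ⟨g, a, rfl⟩ := hx
    have : tr (G := G) (g • a - a) = 0 := by
      have h1 : tr (G := G) (g • a) = tr (G := G) (g • a - a) + tr (G := G) a := by
        rw [← tr_add]
        congr 1
        ring
      rw [tr_smul] at h1
      exact (add_eq_right.mp h1.symm)
    rw [this]
    exact Ideal.zero_mem _
  | zero =>
    have : tr (G := G) (0 : A) = 0 := by simp [tr]
    rw [this]
    exact Ideal.zero_mem _
  | add x y _ _ hx hy =>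
    rw [tr_add]
    exact Ideal.add_mem _ hx hy
  | smul a x hxJ hx =>
    obtain ⟨c, hc⟩ := exists_scalar hres a
    have h : a • x = algebraMap k A c * x + (a - algebraMap k A c) * x := by
      rw [smul_eq_mul]
      ring
    rw [h, tr_add, tr_algebraMap_mul]
    refine Ideal.add_mem _ (Ideal.mul_mem_left _ _ hx) (tr_mem_mJ ?_)
    exact Ideal.mul_mem_mul hc hxJ

/-- key claim: `J ∩ m² ⊆ m J` -/
theorem mem_mJ (hres : Function.Surjective (algebraMap k (ResidueField A)))
    (hG : (Fintype.card G : k) ≠ 0) {x : A} (hxJ : x ∈ J G A)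
    (hx2 : x ∈ maximalIdeal A ^ 2) : x ∈ maximalIdeal A * J G A := by
  have h1 : tr (G := G) x ∈ maximalIdeal A * J G A := tr_mem_mJ_of_mem_J hres hxJ
  have h2 : algebraMap k A (Fintype.card G : k) * x - tr (G := G) x ∈
      maximalIdeal A * J G A := by
    have : algebraMap k A (Fintype.card G : k) * x - tr (G := G) x =
        - ∑ g : G, (g • x - x) := by
      simp only [tr, Finset.sum_sub_distrib, Finset.sum_const, Finset.card_univ, nsmul_eq_mul,
        map_natCast]
      ring
    rw [this]
    exact Ideal.neg_mem_iff _ |>.mpr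
      (Ideal.sum_mem _ fun g _ => sub_mem_mJ_of_mem_sq hres g hx2)
  have h3 : algebraMap k A (Fintype.card G : k) * x ∈ maximalIdeal A * J G A := by
    have := Ideal.add_mem _ h2 h1
    simpa using this
  have h4 : x = algebraMap k A ((Fintype.card G : k)⁻¹) *
      (algebraMap k A (Fintype.card G : k) * x) := by
    rw [← mul_assoc, ← map_mul, inv_mul_cancel₀ hG, map_one, one_mul]
  rw [h4]
  exact Ideal.mul_mem_left _ _ h3

end

theorem result (k : Type u) [Field k] (A : Type u) [CommRing A]
    [Algebra k A] [IsRegularLocalRing A]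
    (hres : Function.Surjective (algebraMap k (IsLocalRing.ResidueField A)))
    (G : Type u) [Group G] [Finite G] [MulSemiringAction G A] [SMulCommClass G k A]
    (hG : (Nat.card G : k) ≠ 0) :
    IsRegularLocalRing (A ⧸ Ideal.span {x : A | ∃ (g : G) (a : A), x = g • a - a}) := by
  classical
  haveI : Fintype G := Fintype.ofFinite G
  rw [Nat.card_eq_fintype_card] at hG
  change IsRegularLocalRing (A ⧸ J G A)
  have hJfg : (J G A).FG := IsNoetherian.noetherian _
  obtain ⟨s, hscard, hsspan⟩ := Submodule.FG.exists_span_finset_card_eq_spanFinrank hJfg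
  obtain ⟨x, hx⟩ := Groth.Agent.Lead.RLR.exists_fin_range_eq s _ hscard
  have hspan : Ideal.span (Set.range x) = J G A := by
    rw [hx]
    exact hsspan
  have hxJ : ∀ i, x i ∈ J G A := fun i => by
    rw [← hspan]
    exact Ideal.subset_span ⟨i, rfl⟩
  have hxm : ∀ i, x i ∈ maximalIdeal A := fun i => J_le hres (hxJ i)
  have hindep : Groth.Agent.H46.IndepModSq x := by
    intro c hc j0
    by_contra hj0
    have hsumJ : ∑ j, c j * x j ∈ J G A :=
      Ideal.sum_mem _ fun j _ => Ideal.mul_mem_left _ _ (hxJ j)
    have hmJ := mem_mJ hres hG hsumJ hc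
    -- `m J = ∑ m x_j`
    have hmJ' : maximalIdeal A * J G A = Ideal.span (Set.range x) * maximalIdeal A := by
      rw [hspan, mul_comm]
    rw [hmJ', mul_comm] at hmJ
    -- elements of `m * span (range x)` are combinations with coefficients in `m`
    obtain ⟨μ, hμm, hμ⟩ : ∃ μ : Fin (J G A).spanFinrank → A, (∀ j, μ j ∈ maximalIdeal A) ∧
        ∑ j, c j * x j = ∑ j, μ j * x j := by
      have h := hmJ
      rw [← smul_eq_mul, Ideal.span, Submodule.mem_ideal_smul_span_iff_exists_sum] at h
      obtain ⟨a, ha, hsum⟩ := h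
      refine ⟨a, ha, ?_⟩
      rw [← hsum, Finsupp.sum_fintype _ _ (fun i => by simp)]
      simp only [smul_eq_mul]
    -- `x j0` lies in the span of the others
    set u := c j0 - μ j0 with hu
    have huu : IsUnit u := by
      by_contra hnu
      have : u ∈ maximalIdeal A := by rwa [mem_maximalIdeal, mem_nonunits_iff]
      apply hj0
      have h2 : c j0 = u + μ j0 := by rw [hu]; ring
      rw [h2]
      exact Ideal.add_mem _ this (hμm j0)
    have hzero : ∑ j, (c j - μ j) * x j = 0 := by
      simp only [sub_mul, Finset.sum_sub_distrib, hμ, sub_self]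
    set T : Set A := x '' {j | j ≠ j0} with hT
    have hxj0 : x j0 ∈ Ideal.span T := by
      rw [← Finset.add_sum_erase _ _ (Finset.mem_univ j0)] at hzero
      have h3 : u * x j0 = - ∑ j ∈ Finset.univ.erase j0, (c j - μ j) * x j :=
        eq_neg_of_add_eq_zero_left hzero
      have h4 : x j0 = huu.unit⁻¹ * (u * x j0) := by
        rw [← mul_assoc, IsUnit.val_inv_mul, one_mul]
      rw [h4, h3]
      refine Ideal.mul_mem_left _ _ (Ideal.neg_mem_iff _ |>.mpr (Ideal.sum_mem _ fun j hj => ?_))
      refine Ideal.mul_mem_left _ _ (Ideal.subset_span ⟨j, ?_, rfl⟩)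
      exact Finset.ne_of_mem_erase hj
    have hle : J G A ≤ Ideal.span T := by
      rw [← hspan, Ideal.span_le]
      rintro _ ⟨j, rfl⟩
      by_cases hj : j = j0
      · rw [hj]; exact hxj0
      · exact Ideal.subset_span ⟨j, hj, rfl⟩
    have hge : Ideal.span T ≤ J G A := by
      rw [Ideal.span_le]
      rintro _ ⟨j, _, rfl⟩
      exact hxJ j
    have hTfin : T.Finite := Set.toFinite _
    have h5 : (J G A).spanFinrank ≤ T.ncard := by
      have := Submodule.spanFinrank_span_le_ncard_of_finite (R := A) hTfin
      rwa [show Submodule.span A T = J G A from le_antisymm hge hle] at this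
    have h6 : T.ncard ≤ ({j | j ≠ j0} : Set (Fin (J G A).spanFinrank)).ncard :=
      Set.ncard_image_le (Set.toFinite _)
    have h7 : ({j | j ≠ j0} : Set (Fin (J G A).spanFinrank)).ncard =
        (J G A).spanFinrank - 1 := by
      have : ({j | j ≠ j0} : Set (Fin (J G A).spanFinrank)) = ({j0}ᶜ : Set _) := by
        ext j; simp
      rw [this, Set.ncard_compl, Set.ncard_singleton, Nat.card_eq_fintype_card, Fintype.card_fin]
    have hpos : 0 < (J G A).spanFinrank := Fin.pos j0
    omega
  have := (Groth.Agent.H46.regular_of_indepModSq _ A x hxm hindep).1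
  rw [hspan] at this
  exact this

end Groth.Agent.S19445
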