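import Groth.Statements.S19448
import Mathlib

set_option autoImplicit false
universe u
open CAlg

namespace Groth.Agent.S19448

/-- Let k be a field, A a Noetherian local k-algebra with maximal ideal M and residue field k, and G a
finite group with |G| ≠ 0 in k acting on A by k-algebra automorphisms. An element of G which acts
trivially on M/M^2 acts trivially on A; in other words the stabilizer acts faithfully on the
cotangent space whenever it acts faithfully on the local ring. -/
theorem result (k : Type u) [Field k] (A : Type u) [CommRing A]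
    [Algebra k A] [IsLocalRing A] [IsNoetherianRing A]
    (hres : Function.Surjective (algebraMap k (IsLocalRing.ResidueField A)))
    (G : Type u) [Group G] [Finite G] [MulSemiringAction G A] [SMulCommClass G k A]
    (hG : (Nat.card G : k) ≠ 0) (g : G)
    (hg : ∀ a ∈ IsLocalRing.maximalIdeal A, g • a - a ∈ IsLocalRing.maximalIdeal A ^ 2) (a : A) :
    g • a = a := by
  classical
  set M := IsLocalRing.maximalIdeal A with hM
  -- σ as k-linear endomorphism
  let σ : Module.End k A := DistribMulAction.toLinearMap k A g
  have hσ : ∀ x, σ x = g • x := fun x => rfl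
  let δ : Module.End k A := σ - 1
  have hδ : ∀ x, δ x = g • x - x := fun x => rfl
  -- F1 : δ a ∈ M^2 for all a
  have F1 : ∀ x : A, δ x ∈ M ^ 2 := by
    intro x
    obtain ⟨c, hc⟩ := hres (IsLocalRing.residue A x)
    have hm : x - algebraMap k A c ∈ M := by
      rw [hM, ← IsLocalRing.residue_eq_zero_iff, map_sub, ← hc, sub_eq_zero,
        IsScalarTower.algebraMap_apply k A (IsLocalRing.ResidueField A),
        IsLocalRing.ResidueField.algebraMap_eq]
    have h1 := hg _ hm
    have h2 : g • algebraMap k A c = algebraMap k A c := by
      rw [Algebra.algebraMap_eq_smul_one, smul_comm, smul_one]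
    rw [hδ]
    have : g • x - x = g • (x - algebraMap k A c) - (x - algebraMap k A c) := by
      rw [smul_sub, h2]; ring
    rw [this]
    exact h1
  -- F2 : δ maps M^r into M^(r+1)
  have F2 : ∀ r : ℕ, ∀ x ∈ M ^ r, δ x ∈ M ^ (r + 1) := by
    intro r
    induction r with
    | zero =>
      intro x _
      exact Ideal.pow_le_pow_right (by omega) (F1 x)
    | succ r ih =>
      intro x hx
      rw [pow_succ] at hx
      refine Submodule.mul_induction_on hx ?_ ?_
      · intro y hy z hz
        have h1 : δ (y * z) = (g • y) * δ z + δ y * z := by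
          rw [hδ, hδ, hδ, smul_mul']; ring
        rw [h1]
        have hgy : g • y ∈ M ^ r := by
          have : g • y = y + δ y := by rw [hδ]; ring
          rw [this]
          exact Ideal.add_mem _ hy (Ideal.pow_le_pow_right (Nat.le_succ r) (ih y hy))
        have hz2 : δ z ∈ M ^ 2 := F1 z
        have e1 : (g • y) * δ z ∈ M ^ (r + 1 + 1) := by
          have : r + 1 + 1 = r + 2 := by omega
          rw [this, pow_add]
          exact Ideal.mul_mem_mul hgy hz2
        have e2 : δ y * z ∈ M ^ (r + 1 + 1) := by
          rw [pow_succ (M) (r + 1)]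
          exact Ideal.mul_mem_mul (ih y hy) hz
        exact Ideal.add_mem _ e1 e2
      · intro y z hy hz
        rw [map_add]
        exact Ideal.add_mem _ hy hz
  -- order of g
  set N := orderOf g with hN
  have hNpos : 0 < N := orderOf_pos g
  have hNk : (N : k) ≠ 0 := by
    obtain ⟨d, hd⟩ := orderOf_dvd_natCard g
    intro h0
    apply hG
    rw [hd, Nat.cast_mul, h0, zero_mul]
  have hσN : σ ^ N = 1 := by
    apply LinearMap.ext
    intro x
    have : ∀ n : ℕ, (σ ^ n) x = (g ^ n) • x := by
      intro n
      induction n with
      | zero => simp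
      | succ n ih => rw [pow_succ', Module.End.mul_apply, ih, hσ, pow_succ', mul_smul]
    rw [this, hN, pow_orderOf_eq_one, one_smul]
    rfl
  -- the identity N • δ = - δ * δ * T
  let T : Module.End k A := ∑ i ∈ Finset.range N, ∑ l ∈ Finset.range i, σ ^ l
  have hS : ∑ i ∈ Finset.range N, σ ^ i = (N : Module.End k A) + δ * T := by
    have h1 : ∀ i, σ ^ i = 1 + δ * ∑ l ∈ Finset.range i, σ ^ l := by
      intro i
      have := mul_geom_sum σ i
      rw [show σ - 1 = δ from rfl] at this
      rw [this]; abel
    calc ∑ i ∈ Finset.range N, σ ^ i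
        = ∑ i ∈ Finset.range N, (1 + δ * ∑ l ∈ Finset.range i, σ ^ l) :=
          Finset.sum_congr rfl (fun i _ => h1 i)
      _ = (N : Module.End k A) + δ * T := by
          rw [Finset.sum_add_distrib, Finset.sum_const, Finset.card_range, ← Finset.mul_sum]
          simp only [nsmul_eq_mul, mul_one]
          rfl
  have hkey : (N : Module.End k A) * δ = - (δ * δ * T) := by
    have h0 : δ * ∑ i ∈ Finset.range N, σ ^ i = 0 := by
      have := mul_geom_sum σ N
      rw [hσN, sub_self] at this
      exact this
    rw [hS, mul_add] at h0
    have hcomm : δ * (N : Module.End k A) = (N : Module.End k A) * δ := (Nat.cast_commute N δ).symm.eq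
    rw [hcomm] at h0
    rw [eq_neg_iff_add_eq_zero, mul_assoc]
    exact h0
  -- induction: δ b ∈ M^r for all r
  have P : ∀ r : ℕ, ∀ b : A, δ b ∈ M ^ r := by
    intro r
    induction r with
    | zero => intro b; simp
    | succ r ih =>
      intro b
      have h1 : ((N : Module.End k A) * δ) b = - (δ (δ (T b))) := by
        rw [hkey]
        rfl
      have h2 : ((N : Module.End k A) * δ) b = (N : k) • δ b := by
        rw [Module.End.mul_apply]
        simp [Nat.cast_smul_eq_nsmul]
      have h3 : (N : k) • δ b ∈ M ^ (r + 1) := by
        rw [← h2, h1]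
        exact Ideal.neg_mem_iff _ |>.mpr (F2 r _ (ih _))
      have h4 : δ b = (N : k)⁻¹ • ((N : k) • δ b) := by
        rw [smul_smul, inv_mul_cancel₀ hNk, one_smul]
      rw [h4, Algebra.smul_def]
      exact Ideal.mul_mem_left _ _ h3
  have hzero : δ a = 0 := by
    have hbot : (⨅ i : ℕ, M ^ i) = ⊥ :=
      Ideal.iInf_pow_eq_bot_of_isLocalRing M (IsLocalRing.maximalIdeal.isMaximal A).ne_top
    have : δ a ∈ (⨅ i : ℕ, M ^ i) := by
      rw [Ideal.mem_iInf]
      exact fun i => P i a
    rw [hbot] at this
    exact this
  rw [hδ, sub_eq_zero] at hzero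
  exact hzero

end Groth.Agent.S19448
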