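import Groth.Statements.S19452
import Mathlib
import Groth.Agent.H97.DualLift

set_option autoImplicit false
universe u
attribute [local instance] W4c6puncthilbintro.dualAlgebra
open HilbD

namespace Groth.Agent.S19452

/-- Let A be a commutative ring, R a commutative A-algebra free as an A-module, I an ideal of R with R/I
flat over A, and view the dual numbers R[ε] as an algebra over A[ε] (ε ↦ ε). For φ : I → R/I linear
over R, let J_φ be the ideal of elements a + bε of R[ε] with a ∈ I and b ≡ φ(a) modulo I. Then each
R[ε]/J_φ is flat over A[ε] and J_φ reduces to I modulo ε; the assignment φ ↦ J_φ is injective; and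
every ideal J of R[ε] with R[ε]/J flat over A[ε] which reduces to I modulo ε equals some J_φ. Thus
the first-order liftings of I correspond one-to-one to Hom_R(I, R/I) (the tangent space of the
Hilbert scheme at I). -/
theorem result (A : Type u) [CommRing A] (R : Type u) [CommRing R]
    [Algebra A R] [Module.Free A R] (I : Ideal R) [Module.Flat A (R ⧸ I)] :
    (∀ φ : I →ₗ[R] R ⧸ I,
        Module.Flat (DualNumber A) (DualNumber R ⧸ W4c6puncthilbintro.liftIdeal I φ) ∧
          Ideal.map (TrivSqZeroExt.fstHom A R R) (W4c6puncthilbintro.liftIdeal I φ) = I) ∧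
      Function.Injective (W4c6puncthilbintro.liftIdeal I) ∧
      ∀ J : Ideal (DualNumber R), Module.Flat (DualNumber A) (DualNumber R ⧸ J) →
        Ideal.map (TrivSqZeroExt.fstHom A R R) J = I →
          ∃ φ : I →ₗ[R] R ⧸ I, J = W4c6puncthilbintro.liftIdeal I φ := by
  refine ⟨fun φ => ⟨?_, ?_⟩, Groth.Agent.H97.DualLift.liftIdeal_injective, ?_⟩
  · haveI := Groth.Agent.H97.DualLift.flat_tensor A I (W4c6puncthilbintro.liftIdeal I φ)
      (Groth.Agent.H97.DualLift.liftIdeal_fst φ) (Groth.Agent.H97.DualLift.liftIdeal_exists φ)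
    exact Groth.Agent.H97.DualFlat.flat_dual _
      (Groth.Agent.H97.DualLift.liftIdeal_cond A φ)
  · exact (Groth.Agent.H97.DualLift.map_fst_eq_iff A I _).mpr
      ⟨Groth.Agent.H97.DualLift.liftIdeal_fst φ, Groth.Agent.H97.DualLift.liftIdeal_exists φ⟩
  · intro J hJ hmap
    obtain ⟨h1, h2⟩ := (Groth.Agent.H97.DualLift.map_fst_eq_iff A I J).mp hmap
    exact Groth.Agent.H97.DualLift.exists_eq_liftIdeal A J h1 h2

end Groth.Agent.S19452
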