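import Groth.Statements.S19453
import Mathlib
import Groth.Agent.Lead.RegularLocal3

set_option autoImplicit false
universe u
open CAlg

namespace Groth.Agent.S19453

/-- Converse direction: let k be a field, A a regular local k-algebra of Krull dimension 2 with maximal
ideal M and residue field k, and I an ideal with A/I of finite dimension n ≥ 1 over k. If some
element of I does not lie in M^2, then A/I is isomorphic as a k-algebra to k[x]/(x^n): a cluster
lying on a smooth curve germ of a smooth surface is curvilinear, with coordinate ring generated by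
one element. -/
theorem result (k : Type u) [Field k]
    (A : Type u) [CommRing A] [Algebra k A] [IsRegularLocalRing A] (hdim : ringKrullDim A = 2)
    (hres : Function.Surjective (algebraMap k (IsLocalRing.ResidueField A)))
    (I : Ideal A) [Module.Finite k (A ⧸ I)] (n : ℕ) (hn : Module.finrank k (A ⧸ I) = n) (h1 : 1 ≤ n)
    (g : A) (hgI : g ∈ I) (hg : g ∉ IsLocalRing.maximalIdeal A ^ 2) :
    Nonempty ((A ⧸ I) ≃ₐ[k] (Polynomial k ⧸ Ideal.span {(Polynomial.X : Polynomial k) ^ n})) := by
  classical
  have hQnt : Nontrivial (A ⧸ I) := Module.nontrivial_of_finrank_pos (R := k) (by omega)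
  have hItop : I ≠ ⊤ := Ideal.Quotient.nontrivial_iff.mp hQnt
  have hIM : I ≤ IsLocalRing.maximalIdeal A := IsLocalRing.le_maximalIdeal hItop
  have hgM : g ∈ IsLocalRing.maximalIdeal A := hIM hgI
  obtain ⟨t, htcard, htspan⟩ := Groth.Agent.Lead.RLR.exists_finset_span_insert A g hgM hg
  have hsf : (IsLocalRing.maximalIdeal A).spanFinrank = 2 := by
    have h := IsRegularLocalRing.spanFinrank_maximalIdeal (R := A)
    rw [hdim] at h
    exact_mod_cast h
  have ht1 : t.card = 1 := by omega
  obtain ⟨x, rfl⟩ := Finset.card_eq_one.mp ht1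
  have hspan : Ideal.span {g, x} = IsLocalRing.maximalIdeal A := by
    rw [← htspan]
    simp
  have hxM : x ∈ IsLocalRing.maximalIdeal A := by
    rw [← hspan]
    exact Ideal.subset_span (by simp)
  set xb : A ⧸ I := Ideal.Quotient.mk I x with hxb
  have hg0 : Ideal.Quotient.mk I g = 0 := Ideal.Quotient.eq_zero_iff_mem.mpr hgI
  -- decomposition of elements
  have hdec : ∀ a : A, ∃ (c : k) (β : A),
      Ideal.Quotient.mk I a = algebraMap k (A ⧸ I) c + Ideal.Quotient.mk I β * xb := by
    intro a
    obtain ⟨c, hc⟩ := hres (IsLocalRing.residue A a)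
    have h1 : IsLocalRing.residue A (a - algebraMap k A c) = 0 := by
      rw [map_sub, ← hc]
      rw [IsScalarTower.algebraMap_apply k A (IsLocalRing.ResidueField A)]
      exact sub_self _
    have h2 : a - algebraMap k A c ∈ IsLocalRing.maximalIdeal A :=
      (IsLocalRing.residue_eq_zero_iff _).mp h1
    rw [← hspan, Ideal.mem_span_pair] at h2
    obtain ⟨u, v, huv⟩ := h2
    refine ⟨c, v, ?_⟩
    have h3 : a = algebraMap k A c + (u * g + v * x) := by rw [huv]; ring
    conv_lhs => rw [h3]
    rw [map_add, map_add, map_mul, map_mul, hg0, mul_zero, zero_add]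
    rfl
  -- nilpotency of xb
  have hart : IsArtinianRing (A ⧸ I) := IsArtinianRing.of_finite k (A ⧸ I)
  have hloc : IsLocalRing (A ⧸ I) :=
    IsLocalRing.of_surjective' (Ideal.Quotient.mk I) Ideal.Quotient.mk_surjective
  have hxbM : xb ∈ IsLocalRing.maximalIdeal (A ⧸ I) := by
    rw [← IsLocalRing.map_maximalIdeal_of_surjective (Ideal.Quotient.mk I)
      Ideal.Quotient.mk_surjective]
    exact Ideal.mem_map_of_mem _ hxM
  obtain ⟨N, hN⟩ : ∃ N : ℕ, xb ^ N = 0 := by
    have hnil := IsArtinianRing.isNilpotent_jacobson_bot (R := A ⧸ I)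
    rw [IsLocalRing.jacobson_eq_maximalIdeal ⊥ bot_ne_top] at hnil
    obtain ⟨N, hN⟩ := hnil
    refine ⟨N, ?_⟩
    have : xb ^ N ∈ IsLocalRing.maximalIdeal (A ⧸ I) ^ N := Ideal.pow_mem_pow hxbM N
    rw [hN] at this
    simpa using this
  -- the evaluation map
  let φ : Polynomial k →ₐ[k] (A ⧸ I) := Polynomial.aeval xb
  have hstep : ∀ j : ℕ, ∀ q : A ⧸ I, ∃ s : Polynomial k, ∃ q' : A ⧸ I, q = φ s + xb ^ j * q' := by
    intro j
    induction j with
    | zero =>
      intro q
      exact ⟨0, q, by simp⟩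
    | succ j ih =>
      intro q
      obtain ⟨s, q', hq⟩ := ih q
      obtain ⟨a, rfl⟩ := Ideal.Quotient.mk_surjective q'
      obtain ⟨c, β, hcβ⟩ := hdec a
      refine ⟨s + Polynomial.C c * Polynomial.X ^ j, Ideal.Quotient.mk I β, ?_⟩
      rw [hq, hcβ, map_add, map_mul, map_pow]
      simp only [φ, Polynomial.aeval_C, Polynomial.aeval_X]
      ring
  have hsurj : Function.Surjective φ := by
    intro q
    obtain ⟨s, q', hq⟩ := hstep N q
    exact ⟨s, by rw [hq, hN, zero_mul, add_zero]⟩
  -- the kernel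
  have hXN : (Polynomial.X : Polynomial k) ^ N ∈ RingHom.ker (φ : Polynomial k →+* (A ⧸ I)) := by
    rw [RingHom.mem_ker]
    change φ (Polynomial.X ^ N) = 0
    rw [map_pow]
    simp only [φ, Polynomial.aeval_X]
    exact hN
  obtain ⟨i, hi⟩ : ∃ i : ℕ, RingHom.ker (φ : Polynomial k →+* (A ⧸ I)) =
      Ideal.span {(Polynomial.X : Polynomial k) ^ i} := by
    set K := RingHom.ker (φ : Polynomial k →+* (A ⧸ I)) with hK
    have hgen : Ideal.span {Submodule.IsPrincipal.generator K} = K :=
      Ideal.span_singleton_generator K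
    have hdvd : Submodule.IsPrincipal.generator K ∣ (Polynomial.X : Polynomial k) ^ N := by
      rw [← Ideal.mem_span_singleton, hgen]
      exact hXN
    obtain ⟨i, -, hassoc⟩ := (dvd_prime_pow Polynomial.prime_X N).mp hdvd
    exact ⟨i, by rw [← hgen]; exact Ideal.span_singleton_eq_span_singleton.mpr hassoc⟩
  let e1 : (Polynomial k ⧸ RingHom.ker (φ : Polynomial k →+* (A ⧸ I))) ≃ₐ[k] (A ⧸ I) :=
    Ideal.quotientKerAlgEquivOfSurjective hsurj
  let e2 : (Polynomial k ⧸ RingHom.ker (φ : Polynomial k →+* (A ⧸ I))) ≃ₐ[k]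
      (Polynomial k ⧸ Ideal.span {(Polynomial.X : Polynomial k) ^ i}) :=
    Ideal.quotientEquivAlgOfEq k hi
  have hin : i = n := by
    have h1 : Module.finrank k (Polynomial k ⧸ Ideal.span {(Polynomial.X : Polynomial k) ^ i}) = i := by
      rw [finrank_quotient_span_eq_natDegree, Polynomial.natDegree_X_pow]
    have h2 := (e2.symm.trans e1).toLinearEquiv.finrank_eq
    rw [h1, hn] at h2
    exact h2
  subst hin
  exact ⟨(e2.symm.trans e1).symm⟩

end Groth.Agent.S19453
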