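import Groth.Statements.S19461
import Groth.Agent.H2.FFlatDescent
import Mathlib.RingTheory.AdicCompletion.LocalRing
import Mathlib.RingTheory.AdicCompletion.AsTensorProduct
import Mathlib.RingTheory.Flat.FaithfullyFlat.Algebra

set_option autoImplicit false
universe u
open CAlg

namespace Groth.Agent.S19461

/-- The implication from isomorphic completions to flat and unramified. Let A → B be a local
homomorphism of Noetherian local rings and ψ a ring map from the completion of A at its maximal
ideal to that of B whose composite with A → A^ is A → B → B^. If ψ is bijective, then A → B is flat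
and the maximal ideal of A generates the maximal ideal of B. (The published statement is the
implication, for a morphism of algebraic varieties over an algebraically closed field, from
isomorphic induced maps of completed local rings at every point to flat and unramified; its proof is
this local-ring argument, valid for any Noetherian local rings. The converse implication is a
separate result.) -/
theorem result (A B : Type u) [CommRing A]
    [CommRing B] [IsLocalRing A] [IsLocalRing B] [IsNoetherianRing A] [IsNoetherianRing B]
    [Algebra A B] [IsLocalHom (algebraMap A B)]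
    (ψ : AdicCompletion (IsLocalRing.maximalIdeal A) A →+* AdicCompletion (IsLocalRing.maximalIdeal B) B)
    (hψ : ψ.comp (algebraMap A (AdicCompletion (IsLocalRing.maximalIdeal A) A)) =
      (algebraMap B (AdicCompletion (IsLocalRing.maximalIdeal B) B)).comp (algebraMap A B))
    (hbij : Function.Bijective ψ) :
    Module.Flat A B ∧
      Ideal.map (algebraMap A B) (IsLocalRing.maximalIdeal A) = IsLocalRing.maximalIdeal B := by
  have tower : IsScalarTower A B (AdicCompletion (IsLocalRing.maximalIdeal B) B) :=
    IsScalarTower.of_algebraMap_eq (fun _ => rfl)
  have hAB : algebraMap A (AdicCompletion (IsLocalRing.maximalIdeal B) B) =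
      (algebraMap B (AdicCompletion (IsLocalRing.maximalIdeal B) B)).comp (algebraMap A B) :=
    IsScalarTower.algebraMap_eq A B _
  let ψA : AdicCompletion (IsLocalRing.maximalIdeal A) A →ₐ[A]
      AdicCompletion (IsLocalRing.maximalIdeal B) B :=
    { ψ with
      commutes' := fun a => by
        have := congrArg (fun g => g a) hψ
        simpa [hAB] using this }
  let eA : AdicCompletion (IsLocalRing.maximalIdeal A) A ≃ₐ[A]
      AdicCompletion (IsLocalRing.maximalIdeal B) B := AlgEquiv.ofBijective ψA hbij
  have hflat : Module.Flat A (AdicCompletion (IsLocalRing.maximalIdeal B) B) :=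
    Module.Flat.of_linearEquiv eA.toLinearEquiv.symm
  have hff : Module.FaithfullyFlat B (AdicCompletion (IsLocalRing.maximalIdeal B) B) :=
    Module.FaithfullyFlat.of_flat_of_isLocalHom
  refine ⟨Groth.Agent.H2.flat_of_faithfullyFlat_module A B
    (AdicCompletion (IsLocalRing.maximalIdeal B) B), ?_⟩
  apply Ideal.map_injective_of_faithfullyFlat (B := AdicCompletion (IsLocalRing.maximalIdeal B) B)
  rw [← AdicCompletion.maximalIdeal_eq_map, Ideal.map_map, ← hψ, ← Ideal.map_map,
    ← AdicCompletion.maximalIdeal_eq_map]
  let e : AdicCompletion (IsLocalRing.maximalIdeal A) A ≃+*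
      AdicCompletion (IsLocalRing.maximalIdeal B) B := RingEquiv.ofBijective ψ hbij
  have hmax : (Ideal.map e
      (IsLocalRing.maximalIdeal (AdicCompletion (IsLocalRing.maximalIdeal A) A))).IsMaximal :=
    Ideal.map_isMaximal_of_equiv e
  exact IsLocalRing.eq_maximalIdeal hmax

end Groth.Agent.S19461
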