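import Groth.Statements.S1947
import Groth.Agent.H30.Swindle.Main

set_option autoImplicit false
universe u
open CategoryTheory AlgebraicGeometry
open Cyc

namespace Groth.Agent.S1947

/-- Let X be locally Noetherian and i : Z → X a closed immersion. Pushforward of coherent modules along
i induces an isomorphism K_0(Coh(Z)) → K_0(Coh_Z(X)), where Coh_Z(X) consists of those coherent
O_X-modules supported inside (the image of) Z. Here K_0 of a full subcategory of the abelian
category of O-modules is the shared prelude's KZero.K0sub (free abelian group on the objects modulo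
the relations of short exact sequences with all terms in the subcategory), and the isomorphism is
asserted to exist compatibly with classes of objects. -/
theorem result (X Z : Scheme.{u}) [IsLocallyNoetherian X] (i : Z ⟶ X) [IsClosedImmersion i] : ∃ φ : KZero.K0sub (fun F : Z.Modules => Coh.IsCoh F) ≃+ KZero.K0sub (fun G : X.Modules => Coh.IsCoh G ∧ ∀ x : X, Nontrivial (G.presheaf.stalk x) → x ∈ Set.range ⇑i), ∀ F : Z.Modules, Coh.IsCoh F → φ (KZero.clSub (fun F : Z.Modules => Coh.IsCoh F) F) = KZero.clSub (fun G : X.Modules => Coh.IsCoh G ∧ ∀ x : X, Nontrivial (G.presheaf.stalk x) → x ∈ Set.range ⇑i) ((Coh.push i).obj F) := by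
  let f := SGA6.mapSub (Scheme.Modules.pushforward i) (fun F : Z.Modules => Coh.IsCoh F)
    (Groth.Agent.H30.Swindle.QS i) (Groth.Agent.H30.Swindle.adjHypS i).hF
  have hb : Function.Bijective f := Groth.Agent.H30.Swindle.k0_supp_bijective i
  refine ⟨AddEquiv.ofBijective f hb, fun F hF => ?_⟩
  exact Groth.Agent.H30.K0Bridge.mapSub_clSub (Scheme.Modules.pushforward i)
    (fun F : Z.Modules => Coh.IsCoh F) (Groth.Agent.H30.Swindle.QS i)
    (Groth.Agent.H30.Swindle.adjHypS i).hF hF

end Groth.Agent.S1947
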