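import Groth.Statements.S19474
import Groth.Agent.Lead.CompletionIAdic

set_option autoImplicit false
universe u
open CAlg

namespace Groth.Agent.S19474

/-- Let A be a Noetherian local ring and I an ideal of A different from A. Then the I-adic completion of
A has the same Krull dimension as A, and A is a regular local ring if and only if the I-adic
completion of A is a regular local ring (in particular the completion is then local and Noetherian).
The case where I is the maximal ideal is the classical one; here I is any proper ideal. -/
theorem result (A : Type u) [CommRing A]
    [IsLocalRing A] [IsNoetherianRing A] (I : Ideal A) (hI : I ≠ ⊤) :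
    ringKrullDim (AdicCompletion I A) = ringKrullDim A ∧
      (IsRegularLocalRing A ↔ IsRegularLocalRing (AdicCompletion I A)) := by
  exact ⟨Groth.Agent.Lead.RLR.ringKrullDim_adicCompletion_eq A I hI,
    Groth.Agent.Lead.RLR.isRegularLocalRing_adicCompletion_iff_of_ne_top A I hI⟩

end Groth.Agent.S19474
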