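import Groth.Statements.S19479
import Mathlib
import Groth.Agent.H93.DualMod

set_option autoImplicit false
universe u v w
open HopfRep

namespace Groth.Agent.S19479

open TensorProduct in
/-- Let K be a field, C a K-coalgebra and V a right C-comodule. The following are equivalent: (i) V is
the internal direct sum of a family of simple subcomodules, i.e. there is an independent family of
subcomodules W_i with sum V, each W_i nonzero and having no subcomodules inside it other than 0 and
W_i; (ii) every subcomodule of V has a complementary subcomodule. A subcomodule is a subspace W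
whose coaction lands in the image of W ⊗ C. (The source states this for left comodules; a left
comodule over C is a right comodule over the co-opposite coalgebra, so the statement is the same.) -/
theorem result {K : Type u} {C : Type v} [Field K]
    [AddCommGroup C] [Module K C] [Coalgebra K C] (V : Type w) [AddCommGroup V] [Module K V] [HopfRep.Comod K C V] :
    (∃ (ι : Type w) (W : ι → Submodule K V), iSupIndep W ∧ iSup W = ⊤ ∧ ∀ i,
        HopfRep.IsSubcomod (k := K) (A := C) (W i) ∧ W i ≠ ⊥ ∧
          ∀ W' : Submodule K V, HopfRep.IsSubcomod (k := K) (A := C) W' → W' ≤ W i → W' = ⊥ ∨ W' = W i) ↔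
      HopfRep.IsSemisimpleComod K C V := by
  classical
  let _ := Groth.Agent.H93.dualModule K C V
  have : IsScalarTower K (WithConv (C →ₗ[K] K)) V := Groth.Agent.H93.dualModule_isScalarTower
  rw [← Groth.Agent.H93.isSemisimpleModule_dual_iff]
  constructor
  · rintro ⟨ι, W, hind, hsup, hW⟩
    apply IsSemisimpleModule.of_sSup_simples_eq_top
    rw [eq_top_iff]
    intro v _
    -- v ∈ ⨆ W i
    have hv : v ∈ ⨆ i, W i := by rw [hsup]; trivial
    have hle : (⨆ i, W i) ≤
        (sSup {m : Submodule (WithConv (C →ₗ[K] K)) V | IsSimpleModule (WithConv (C →ₗ[K] K)) m}).restrictScalars K := by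
      apply iSup_le
      intro i
      have hmem : Groth.Agent.H93.toDualSub (W i) (hW i).1 ∈
          {m : Submodule (WithConv (C →ₗ[K] K)) V | IsSimpleModule (WithConv (C →ₗ[K] K)) m} := by
        rw [Set.mem_ofPred_eq, isSimpleModule_iff_isAtom]
        refine ⟨?_, ?_⟩
        · intro h0
          apply (hW i).2.1
          rw [← Groth.Agent.H93.toDualSub_restrictScalars (W i) (hW i).1, h0]
          rfl
        · intro N hN
          have hN' : N.restrictScalars K ≤ W i := by
            intro x hx
            exact hN.le hx
          rcases (hW i).2.2 (N.restrictScalars K) (Groth.Agent.H93.isSubcomod_restrictScalars N) hN'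
            with h | h
          · rw [← Submodule.restrictScalars_eq_bot_iff (S := K)]
            exact h
          · exfalso
            apply hN.ne
            apply Submodule.restrictScalars_injective K
            rw [h, Groth.Agent.H93.toDualSub_restrictScalars]
      intro x hx
      exact (le_sSup hmem : _ ≤ _) hx
    exact hle hv
  · intro hss
    obtain ⟨s, hind, hsup, hsimple⟩ :=
      IsSemisimpleModule.exists_sSupIndep_sSup_simples_eq_top (WithConv (C →ₗ[K] K)) V
    refine ⟨s, fun i => (i : Submodule (WithConv (C →ₗ[K] K)) V).restrictScalars K, ?_, ?_, ?_⟩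
    · rw [sSupIndep_iff] at hind
      intro i
      have := hind i
      rw [disjoint_iff] at this ⊢
      have e : (⨆ (j : s) (_ : j ≠ i), (j : Submodule (WithConv (C →ₗ[K] K)) V).restrictScalars K) =
          (⨆ (j : s) (_ : j ≠ i), (j : Submodule (WithConv (C →ₗ[K] K)) V)).restrictScalars K := by
        rw [Submodule.restrictScalars_iSup]
        congr 1
        funext j
        rw [Submodule.restrictScalars_iSup]
      rw [e, ← Submodule.restrictScalars_inf, this, Submodule.restrictScalars_bot]
    · rw [← Submodule.restrictScalars_iSup, ← sSup_eq_iSup', hsup, Submodule.restrictScalars_top]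
    · intro i
      have hat : IsAtom (i : Submodule (WithConv (C →ₗ[K] K)) V) :=
        isSimpleModule_iff_isAtom.mp (hsimple i i.2)
      refine ⟨Groth.Agent.H93.isSubcomod_restrictScalars _, ?_, ?_⟩
      · intro h0
        exact hat.1 ((Submodule.restrictScalars_eq_bot_iff K _ _).mp h0)
      · intro W' hW' hle
        have hle' : Groth.Agent.H93.toDualSub W' hW' ≤ (i : Submodule (WithConv (C →ₗ[K] K)) V) := by
          intro x hx
          exact hle hx
        rcases hle'.lt_or_eq with h | h
        · left
          have := hat.2 _ h
          rw [← Groth.Agent.H93.toDualSub_restrictScalars W' hW', this]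
          rfl
        · right
          change W' = Submodule.restrictScalars K (i : Submodule (WithConv (C →ₗ[K] K)) V)
          rw [← h, Groth.Agent.H93.toDualSub_restrictScalars]

end Groth.Agent.S19479
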