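import Groth.Statements.S19480
import Groth.Agent.H74.FrobPthRoot
import Groth.Agent.H74.PthRootBC
import Groth.Agent.H74.FrobRegular
import Groth.Agent.H20.QuotPushout

set_option autoImplicit false
open CategoryTheory AlgebraicGeometry MvPolynomial
universe u
open Quiet

namespace Groth.Agent.S19480

/-- Let k be a perfect field of prime characteristic p, A a smooth k-algebra of characteristic p and
t_1, …, t_n a regular sequence in A, so that A₀ = A/(t_1^p, …, t_n^p) is a p-good algebra when A has
a system of parameters; let v_1, …, v_m ∈ A[Y_1, …, Y_r] have images forming a regular sequence in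
A₀[Y_1, …, Y_r], and put B_0 = A[Y]/(t_1^p, …, t_n^p, v_1, …, v_m). Identify A^{1/p} with A as a
ring, so that u_i = t_i^p and the Frobenius x ↦ x^p of A[Y] carries the ideal (t_i^p, v_j) into
(u_i^p, v_j^p) = (t_i^{p²}, v_j^p). Then: (ii) (t_1^{p²}, …, t_n^{p²}, v_1^p, …, v_m^p) is a regular
sequence in A[Y]; (iii) the induced ring map β : B_0 → B = A[Y]/(t_i^{p²}, v_j^p) is faithfully flat
and Spec β is an extraction of p-th roots, i.e. every point of Spec B_0 has an affine open
neighbourhood with affine preimage over which the ring map is a tower of finitely many elementary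
extractions R → R[x]/(x^p − a). (The published statement also assumes B_0 faithfully flat and
syntomic over A₀ and A good; these are not used for (ii) and (iii) and are not assumed here. The v_j
are taken in A[Y] rather than in A₀[Y], which is how their p-th powers in A^{1/p}[Y] are meant.) -/
theorem result (p : ℕ) [Fact p.Prime]
    (k : Type u) [Field k] [CharP k p] [PerfectRing k p] (A : Type u) [CommRing A] [Algebra k A]
    [CharP A p] [Algebra.Smooth k A] (n : ℕ) (t : Fin n → A) (ht : RingTheory.Sequence.IsRegular A (List.ofFn t))
    (r m : ℕ) (v : Fin m → MvPolynomial (Fin r) A)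
    (hv : RingTheory.Sequence.IsRegular
      (MvPolynomial (Fin r) A ⧸ Ideal.span (Set.range fun i => C (t i) ^ p))
      (List.ofFn fun j => Ideal.Quotient.mk (Ideal.span (Set.range fun i => C (t i) ^ p)) (v j))) :
    RingTheory.Sequence.IsRegular (MvPolynomial (Fin r) A)
        (List.ofFn (fun i => C (t i) ^ (p ^ 2)) ++ List.ofFn (fun j => v j ^ p)) ∧
      (Ideal.quotientMap ((Ideal.span (Set.range (fun i => C (t i) ^ p) ∪ Set.range v)).map (frobenius (MvPolynomial (Fin r) A) p)) (frobenius (MvPolynomial (Fin r) A) p) Ideal.le_comap_map).FaithfullyFlat ∧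
      Quiet.IsPthRoot p (Spec.map (CommRingCat.ofHom (Ideal.quotientMap ((Ideal.span (Set.range (fun i => C (t i) ^ p) ∪ Set.range v)).map (frobenius (MvPolynomial (Fin r) A) p)) (frobenius (MvPolynomial (Fin r) A) p) Ideal.le_comap_map))) := by
  classical
  have hsm0 : Algebra.Smooth A (MvPolynomial (Fin r) A) := ⟨inferInstance, inferInstance⟩
  have hsm : Algebra.Smooth k (MvPolynomial (Fin r) A) :=
    Algebra.Smooth.comp k A (MvPolynomial (Fin r) A)
  have hFF : (frobenius (MvPolynomial (Fin r) A) p).FaithfullyFlat :=
    Groth.Agent.H74.FrobRootTower.faithfullyFlat_frobenius_of_smooth p k (MvPolynomial (Fin r) A)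
  refine ⟨?_, ?_, ?_⟩
  · -- (ii) the regular sequence
    have hntA : Nontrivial A := CharP.nontrivial_of_char_ne_one (R := A) (Fact.out : p.Prime).ne_one
    have hofList : ∀ {R : Type u} [CommRing R] (n' : ℕ) (f : Fin n' → R),
        Ideal.ofList (List.ofFn f) = Ideal.span (Set.range f) := by
      intro R _ n' f
      have : {r | r ∈ List.ofFn f} = Set.range f := by
        ext x
        simp [List.mem_ofFn]
      rw [Ideal.ofList, this]
    -- step A
    have hA : RingTheory.Sequence.IsRegular (MvPolynomial (Fin r) A)
        (List.ofFn fun i => (C (t i) : MvPolynomial (Fin r) A)) := by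
      have h := ht.of_faithfullyFlat (S := MvPolynomial (Fin r) A)
      rwa [List.map_ofFn] at h
    -- step B
    have hB : RingTheory.Sequence.IsRegular (MvPolynomial (Fin r) A)
        (List.ofFn fun i => (C (t i) : MvPolynomial (Fin r) A) ^ p) := by
      have h := Groth.Agent.H74.FrobRegular.isRegular_map_frobenius p k _ hA
      rwa [List.map_ofFn] at h
    -- step C
    have hI₀ : (Ideal.ofList (List.ofFn fun i => (C (t i) : MvPolynomial (Fin r) A) ^ p) •
        (⊤ : Submodule (MvPolynomial (Fin r) A) (MvPolynomial (Fin r) A))) =
        Ideal.span (Set.range fun i => (C (t i) : MvPolynomial (Fin r) A) ^ p) := by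
      rw [hofList, smul_eq_mul, Ideal.mul_top]
    have hC : RingTheory.Sequence.IsRegular (MvPolynomial (Fin r) A)
        ((List.ofFn fun i => (C (t i) : MvPolynomial (Fin r) A) ^ p) ++ List.ofFn v) := by
      refine ⟨(RingTheory.Sequence.isWeaklyRegular_append_iff _ _ _).2 ⟨hB.1, ?_⟩, ?_⟩
      · -- weak regularity of `v` modulo the `t i ^ p`
        have h1 := hv.1
        have h2 : (List.ofFn fun j => Ideal.Quotient.mk
            (Ideal.span (Set.range fun i => (C (t i) : MvPolynomial (Fin r) A) ^ p)) (v j)) =
            (List.ofFn v).map (algebraMap (MvPolynomial (Fin r) A) (MvPolynomial (Fin r) A ⧸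
              Ideal.span (Set.range fun i => (C (t i) : MvPolynomial (Fin r) A) ^ p))) := by
          rw [List.map_ofFn]
          rfl
        rw [h2, RingTheory.Sequence.isWeaklyRegular_map_algebraMap_iff] at h1
        exact ((Submodule.quotEquivOfEq _ _ hI₀.symm).isWeaklyRegular_congr _).1 h1
      · -- properness
        intro htop
        apply hv.2
        rw [smul_eq_mul, Ideal.mul_top, Ideal.ofList_append, hofList] at htop
        have h4 := congrArg (Ideal.map (Ideal.Quotient.mk
          (Ideal.span (Set.range fun i => (C (t i) : MvPolynomial (Fin r) A) ^ p)))) htop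
        rw [Ideal.map_sup, Ideal.map_top, Ideal.map_quotient_self, bot_sup_eq, Ideal.map_ofList,
          List.map_ofFn] at h4
        rw [smul_eq_mul, Ideal.mul_top]
        exact h4
    have h := Groth.Agent.H74.FrobRegular.isRegular_map_frobenius p k _ hC
    rw [List.map_append, List.map_ofFn, List.map_ofFn] at h
    have hlist : (List.ofFn (⇑(frobenius (MvPolynomial (Fin r) A) p) ∘
          fun i => (C (t i) : MvPolynomial (Fin r) A) ^ p) ++
        List.ofFn (⇑(frobenius (MvPolynomial (Fin r) A) p) ∘ v)) =
        (List.ofFn (fun i => (C (t i) : MvPolynomial (Fin r) A) ^ (p ^ 2)) ++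
          List.ofFn (fun j => v j ^ p)) := by
      congr 2
      funext i
      simp only [Function.comp_apply, frobenius_def, ← pow_mul, sq]
    rw [hlist] at h
    exact h
  · -- faithful flatness by cobase change
    have hst : (RingHom.toMorphismProperty RingHom.FaithfullyFlat).IsStableUnderCobaseChange :=
      RingHom.isStableUnderCobaseChange_toMorphismProperty_iff.2
        RingHom.FaithfullyFlat.isStableUnderBaseChange
    exact hst.of_isPushout (Groth.Agent.H20.isPushout_quotient
      (frobenius (MvPolynomial (Fin r) A) p) _).flip hFF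
  · -- extraction of p-th roots by base change
    have hP : Quiet.IsPthRoot p (Spec.map (CommRingCat.ofHom (frobenius (MvPolynomial (Fin r) A) p))) :=
      Groth.Agent.H74.FrobPthRoot.isPthRoot_of_frobenius p k (CommRingCat.of (MvPolynomial (Fin r) A))
        (CommRingCat.ofHom (frobenius (MvPolynomial (Fin r) A) p)) (fun a => rfl)
    have hpb := isPullback_SpecMap_of_isPushout _ _ _ _ (Groth.Agent.H20.isPushout_quotient
      (frobenius (MvPolynomial (Fin r) A) p)
      (Ideal.span (Set.range (fun i => C (t i) ^ p) ∪ Set.range v)))
    exact Groth.Agent.H74.PthRootBC.isPthRoot_of_isPullback p _ _ _ _ hpb hP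

end Groth.Agent.S19480
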