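import Groth.Statements.S19485
import Mathlib
import Groth.Agent.H97.RootDisk

set_option autoImplicit false
universe u
open Crimp

namespace Groth.Agent.S19485

/-- The criterion for closedness under multiplication on which the description of the stratum rests.
Over R = k⟦t⟧ with k an algebraically closed field of characteristic zero, let S̃ = k⟦x⟧ regarded as
an R-algebra through t ↦ x ^ 3, that is S̃ = R[x] / (x ^ 3 - t). Let m, n be natural numbers with m
not divisible by 3, and let g be a power series with nonzero constant term. Then the R-submodule of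
S̃ spanned by 1 and x ^ m g together with the ideal x ^ n S̃ is closed under multiplication if and
only if n ≤ 2m. (The published proposition goes on to describe the stratum of crimps with these
invariants as irreducible of dimension ⌊(n - m)/3⌋ with a normal form for g; only the closedness
criterion is stated here.) -/
theorem result {k : Type u} [Field k] [IsAlgClosed k] [CharZero k]
    (m n : ℕ) (hm : ¬ 3 ∣ m) (x g : W4c1hurwitzcpt.RootDisk 3 k)
    (hx : W4c1hurwitzcpt.RootDisk.val x = PowerSeries.X) (hg : PowerSeries.order (W4c1hurwitzcpt.RootDisk.val g) = 0)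
    (M : Submodule (PowerSeries k) (W4c1hurwitzcpt.RootDisk 3 k))
    (hM : M = Submodule.span (PowerSeries k) {1, x ^ m * g} ⊔
      (Ideal.span {x ^ n} : Ideal (W4c1hurwitzcpt.RootDisk 3 k)).restrictScalars (PowerSeries k)) :
    (∀ a ∈ M, ∀ b ∈ M, a * b ∈ M) ↔ n ≤ 2 * m := by
  classical
  set w : W4c1hurwitzcpt.RootDisk 3 k := x ^ m * g with hw
  set I : Ideal (W4c1hurwitzcpt.RootDisk 3 k) := Ideal.span {x ^ n} with hI
  have hwM : w ∈ M := by
    rw [hM]
    apply Submodule.mem_sup_left
    apply Submodule.subset_span
    simp
  constructor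
  · intro hclosed
    by_contra hn
    push_neg at hn
    have hmem := hclosed w hwM w hwM
    rw [hM, Submodule.mem_sup] at hmem
    obtain ⟨y, hy, z, hz, hyz⟩ := hmem
    rw [Submodule.mem_span_pair] at hy
    obtain ⟨r, s, rfl⟩ := hy
    rw [Submodule.restrictScalars_mem, Ideal.mem_span_singleton'] at hz
    obtain ⟨c, rfl⟩ := hz
    have h1' := congrArg (W4c1hurwitzcpt.RootDisk.val (p := 3) (k := k)) hyz
    rw [map_add, map_add, Groth.Agent.H97.val_smul, Groth.Agent.H97.val_smul] at h1'
    simp only [hw, map_mul, map_pow, hx, map_one, mul_one] at h1'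
    set G := W4c1hurwitzcpt.RootDisk.val g with hG
    set C := W4c1hurwitzcpt.RootDisk.val c with hC
    set E0 := PowerSeries.expand 3 (NeZero.ne 3) r with hE0
    set E1 := PowerSeries.expand 3 (NeZero.ne 3) s with hE1
    have hR : PowerSeries.order ((PowerSeries.X : PowerSeries k) ^ m * G * (PowerSeries.X ^ m * G)) =
        ((2 * m : ℕ) : ℕ∞) := by
      simp only [PowerSeries.order_mul, PowerSeries.order_X_pow, hg, add_zero]
      push_cast
      ring
    have ho2 : ((n : ℕ) : ℕ∞) ≤ PowerSeries.order (C * (PowerSeries.X : PowerSeries k) ^ n) := by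
      rw [PowerSeries.order_mul, PowerSeries.order_X_pow]
      exact le_add_self
    have ho0 : PowerSeries.order E0 = 3 • PowerSeries.order r := by
      rw [hE0, PowerSeries.order_expand]
    have ho1 : PowerSeries.order (E1 * ((PowerSeries.X : PowerSeries k) ^ m * G)) =
        3 • PowerSeries.order s + (m : ℕ∞) := by
      rw [PowerSeries.order_mul, PowerSeries.order_mul, PowerSeries.order_X_pow, hg, add_zero, hE1,
        PowerSeries.order_expand]
    have hlt : ((2 * m : ℕ) : ℕ∞) < (n : ℕ∞) := by exact_mod_cast hn
    -- order of T := E0 + E1 * (X^m G) is 2m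
    set T := E0 + E1 * ((PowerSeries.X : PowerSeries k) ^ m * G) with hT
    set t2 := C * (PowerSeries.X : PowerSeries k) ^ n with ht2
    have hTt : PowerSeries.order (T + t2) = ((2 * m : ℕ) : ℕ∞) := by rw [h1', hR]
    have hTord : PowerSeries.order T = ((2 * m : ℕ) : ℕ∞) := by
      have hne : PowerSeries.order (T + t2) ≠ PowerSeries.order (-t2) := by
        rw [PowerSeries.order_neg, hTt]
        exact ne_of_lt (lt_of_lt_of_le hlt ho2)
      have := PowerSeries.order_add_of_order_ne _ _ hne
      rw [add_neg_cancel_right, PowerSeries.order_neg, hTt] at this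
      rw [this]
      apply min_eq_left
      exact hlt.le.trans ho2
    -- orders of E0 and E1 X^m G differ
    have key : ∀ a b : ℕ∞, 3 • a + 0 = ((2 * m : ℕ) : ℕ∞) ∨ 3 • b + (m : ℕ∞) = ((2 * m : ℕ) : ℕ∞) ∨
        3 • a = 3 • b + (m : ℕ∞) → (a = ⊤ ∧ b = ⊤) := by
      intro a b h
      induction a using ENat.recTopCoe with
      | top =>
        induction b using ENat.recTopCoe with
        | top => exact ⟨rfl, rfl⟩
        | coe b =>
          exfalso
          rcases h with h | h | h
          · simp at h
            exact ENat.coe_ne_top _ h.symm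
          · have h' : ((3 * b + m : ℕ) : ℕ∞) = ((2 * m : ℕ) : ℕ∞) := by
              rw [← h]; push_cast; rw [nsmul_eq_mul]; rfl
            have : 3 * b + m = 2 * m := by exact_mod_cast h'
            exact hm ⟨b, by omega⟩
          · have h' : (⊤ : ℕ∞) = ((3 * b + m : ℕ) : ℕ∞) := by
              rw [← (by simp : 3 • (⊤ : ℕ∞) = ⊤), h]; push_cast; rw [nsmul_eq_mul]; rfl
            exact ENat.coe_ne_top _ h'.symm
      | coe a =>
        exfalso
        induction b using ENat.recTopCoe with
        | top =>
          rcases h with h | h | h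
          · have h' : ((3 * a : ℕ) : ℕ∞) = ((2 * m : ℕ) : ℕ∞) := by
              rw [← h]; push_cast; rw [nsmul_eq_mul, add_zero]; rfl
            have : 3 * a = 2 * m := by exact_mod_cast h'
            exact hm (by omega)
          · simp at h
            exact ENat.coe_ne_top _ h.symm
          · have h' : ((3 * a : ℕ) : ℕ∞) = ⊤ := by
              have : (3 • (⊤ : ℕ∞) + (m : ℕ∞)) = ⊤ := by simp
              rw [← this, ← h]; push_cast; rw [nsmul_eq_mul]; rfl
            exact ENat.coe_ne_top _ h'
        | coe b =>
          rcases h with h | h | h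
          · have h' : ((3 * a : ℕ) : ℕ∞) = ((2 * m : ℕ) : ℕ∞) := by
              rw [← h]; push_cast; rw [nsmul_eq_mul, add_zero]; rfl
            have : 3 * a = 2 * m := by exact_mod_cast h'
            exact hm (by omega)
          · have h' : ((3 * b + m : ℕ) : ℕ∞) = ((2 * m : ℕ) : ℕ∞) := by
              rw [← h]; push_cast; rw [nsmul_eq_mul]; rfl
            have : 3 * b + m = 2 * m := by exact_mod_cast h'
            exact hm ⟨b, by omega⟩
          · have h' : ((3 * a : ℕ) : ℕ∞) = ((3 * b + m : ℕ) : ℕ∞) := by
              push_cast
              rw [nsmul_eq_mul, nsmul_eq_mul] at h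
              exact h
            have : 3 * a = 3 * b + m := by exact_mod_cast h'
            exact hm ⟨a - b, by omega⟩
    by_cases heq : PowerSeries.order E0 =
        PowerSeries.order (E1 * ((PowerSeries.X : PowerSeries k) ^ m * G))
    · rw [ho0, ho1] at heq
      obtain ⟨hr, hs⟩ := key (PowerSeries.order r) (PowerSeries.order s) (Or.inr (Or.inr heq))
      rw [PowerSeries.order_eq_top] at hr hs
      have : T = 0 := by rw [hT, hE0, hE1, hr, hs]; simp
      rw [this, PowerSeries.order_zero] at hTord
      exact ENat.coe_ne_top _ hTord.symm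
    · have := PowerSeries.order_add_of_order_ne _ _ heq
      rw [← hT, hTord, ho0, ho1] at this
      rcases min_choice (3 • PowerSeries.order r) (3 • PowerSeries.order s + (m : ℕ∞)) with h | h
      · rw [h] at this
        obtain ⟨hr, hs⟩ := key (PowerSeries.order r) (PowerSeries.order s)
          (Or.inl (by rw [add_zero]; exact this.symm))
        rw [hr] at this
        have h4 : ((2 * m : ℕ) : ℕ∞) = ⊤ := by rw [this]; simp
        exact ENat.coe_ne_top _ h4
      · rw [h] at this
        obtain ⟨hr, hs⟩ := key (PowerSeries.order r) (PowerSeries.order s)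
          (Or.inr (Or.inl this.symm))
        rw [hs] at this
        have h4 : ((2 * m : ℕ) : ℕ∞) = ⊤ := by rw [this]; simp
        exact ENat.coe_ne_top _ h4
  · intro hn a ha b hb
    -- M as a span
    have hS : M = Submodule.span (PowerSeries k) (({1, w} : Set (W4c1hurwitzcpt.RootDisk 3 k)) ∪
        ((I.restrictScalars (PowerSeries k) : Submodule (PowerSeries k) (W4c1hurwitzcpt.RootDisk 3 k)) :
          Set (W4c1hurwitzcpt.RootDisk 3 k))) := by
      rw [hM, Submodule.span_union, Submodule.span_eq]
    have hmul : M * M ≤ M := by
      conv_lhs => rw [hS]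
      rw [Submodule.span_mul_span, Submodule.span_le]
      rintro _ ⟨u, hu, v, hv, rfl⟩
      have hIM : ∀ t : W4c1hurwitzcpt.RootDisk 3 k, t ∈ I → t ∈ M := by
        intro t ht
        rw [hM]
        exact Submodule.mem_sup_right ht
      have h1M : (1 : W4c1hurwitzcpt.RootDisk 3 k) ∈ M := by
        rw [hM]
        apply Submodule.mem_sup_left
        apply Submodule.subset_span
        simp
      have hww : w * w ∈ I := by
        rw [hI, Ideal.mem_span_singleton']
        refine ⟨x ^ (2 * m - n) * g * g, ?_⟩
        have : x ^ (2 * m) = x ^ (2 * m - n) * x ^ n := by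
          rw [← pow_add]; congr 1; omega
        rw [hw]
        calc x ^ (2 * m - n) * g * g * x ^ n = (x ^ (2 * m - n) * x ^ n) * g * g := by ring
          _ = x ^ (2 * m) * g * g := by rw [← this]
          _ = x ^ m * g * (x ^ m * g) := by ring
      rcases hu with hu | hu
      · rcases hv with hv | hv
        · rcases hu with rfl | hu
          · rcases hv with rfl | hv
            · simpa using h1M
            · rw [Set.mem_singleton_iff] at hv; subst hv; simpa using hwM
          · rw [Set.mem_singleton_iff] at hu; subst hu
            rcases hv with rfl | hv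
            · simpa using hwM
            · rw [Set.mem_singleton_iff] at hv; subst hv; exact hIM _ hww
        · exact hIM _ (I.mul_mem_left u hv)
      · exact hIM _ (I.mul_mem_right v hu)
    exact hmul (Submodule.mul_mem_mul ha hb)

end Groth.Agent.S19485
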