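import Groth.Statements.S19486
import Mathlib
import Groth.Agent.H97.RootDisk

set_option autoImplicit false
universe u
open Crimp

namespace Groth.Agent.S19486

/-- The emptiness of the stratum rests on the following computation. Over R = k⟦t⟧ with k an
algebraically closed field of characteristic zero, let S̃ = S̃₁ × R where S̃₁ = k⟦x⟧ is regarded as
an R-algebra through t ↦ x ^ 2, that is S̃₁ = R[x] / (x ^ 2 - t), with R embedded diagonally in the
product. Let m be odd, n > 2m, and let g be a power series with nonzero constant term. Then the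
R-submodule of S̃ spanned by 1 = (1, 1) and (x ^ m g, 0) together with the ideal x ^ n S̃₁ × 0 is
not closed under multiplication. (The published item concludes that the corresponding stratum of
crimps is empty; only this computation is stated here, with the ideal read as x ^ n S̃₁ × 0.) -/
theorem result {k : Type u} [Field k] [IsAlgClosed k] [CharZero k]
    (m n : ℕ) (hm : Odd m) (hmn : 2 * m < n) (x g : W4c1hurwitzcpt.RootDisk 2 k)
    (hx : W4c1hurwitzcpt.RootDisk.val x = PowerSeries.X) (hg : PowerSeries.order (W4c1hurwitzcpt.RootDisk.val g) = 0)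
    (M : Submodule (PowerSeries k) (W4c1hurwitzcpt.RootDisk 2 k × PowerSeries k))
    (hM : M = Submodule.span (PowerSeries k) {(1 : W4c1hurwitzcpt.RootDisk 2 k × PowerSeries k), (x ^ m * g, 0)} ⊔
      ((Ideal.span {x ^ n} : Ideal (W4c1hurwitzcpt.RootDisk 2 k)).restrictScalars (PowerSeries k)).prod ⊥) :
    ∃ a ∈ M, ∃ b ∈ M, a * b ∉ M := by
  classical
  have ha : ((x ^ m * g, 0) : W4c1hurwitzcpt.RootDisk 2 k × PowerSeries k) ∈ M := by
    rw [hM]
    apply Submodule.mem_sup_left
    apply Submodule.subset_span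
    simp
  refine ⟨_, ha, _, ha, ?_⟩
  intro hmem
  rw [hM, Submodule.mem_sup] at hmem
  obtain ⟨y, hy, z, hz, hyz⟩ := hmem
  rw [Submodule.mem_span_pair] at hy
  obtain ⟨r, s, rfl⟩ := hy
  rw [Submodule.mem_prod] at hz
  obtain ⟨hz1, hz2⟩ := hz
  rw [Submodule.mem_bot] at hz2
  rw [Submodule.restrictScalars_mem, Ideal.mem_span_singleton'] at hz1
  obtain ⟨c, hc⟩ := hz1
  -- second component
  have h2 := congrArg Prod.snd hyz
  simp only [Prod.snd_add, Prod.smul_snd, Prod.snd_one, Prod.snd_mul, hz2, smul_zero, add_zero,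
    mul_zero, smul_eq_mul, mul_one] at h2
  -- first component
  have h1 := congrArg Prod.fst hyz
  simp only [Prod.fst_add, Prod.smul_fst, Prod.fst_one, Prod.fst_mul, h2, zero_smul, zero_add,
    ← hc] at h1
  have h1' := congrArg (W4c1hurwitzcpt.RootDisk.val (p := 2) (k := k)) h1
  rw [map_add, Groth.Agent.H97.val_smul] at h1'
  simp only [map_mul, map_pow, hx] at h1'
  set G := W4c1hurwitzcpt.RootDisk.val g with hG
  set C := W4c1hurwitzcpt.RootDisk.val c with hC
  set E := PowerSeries.expand 2 (NeZero.ne 2) s with hE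
  -- orders
  have hR : PowerSeries.order ((PowerSeries.X : PowerSeries k) ^ m * G * (PowerSeries.X ^ m * G)) =
      ((2 * m : ℕ) : ℕ∞) := by
    simp only [PowerSeries.order_mul, PowerSeries.order_X_pow, hg, add_zero]
    push_cast
    ring
  have ho2 : ((n : ℕ) : ℕ∞) ≤ PowerSeries.order (C * (PowerSeries.X : PowerSeries k) ^ n) := by
    rw [PowerSeries.order_mul, PowerSeries.order_X_pow]
    exact le_add_self
  have ho1 : PowerSeries.order (E * ((PowerSeries.X : PowerSeries k) ^ m * G)) =
      2 • PowerSeries.order s + (m : ℕ∞) := by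
    rw [PowerSeries.order_mul, PowerSeries.order_mul, PowerSeries.order_X_pow, hg, add_zero, hE,
      PowerSeries.order_expand]
  have hlt : ((2 * m : ℕ) : ℕ∞) < (n : ℕ∞) := by exact_mod_cast hmn
  have hmin := PowerSeries.min_order_le_order_add (E * ((PowerSeries.X : PowerSeries k) ^ m * G))
    (C * (PowerSeries.X : PowerSeries k) ^ n)
  rw [h1', hR] at hmin
  have ho1le : PowerSeries.order (E * ((PowerSeries.X : PowerSeries k) ^ m * G)) ≤ ((2 * m : ℕ) : ℕ∞) := by
    rcases min_le_iff.mp hmin with h | h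
    · exact h
    · exact absurd (lt_of_lt_of_le hlt (ho2.trans h)) (lt_irrefl _)
  have hne : PowerSeries.order (E * ((PowerSeries.X : PowerSeries k) ^ m * G)) ≠
      PowerSeries.order (C * (PowerSeries.X : PowerSeries k) ^ n) := by
    intro heq
    rw [heq] at ho1le
    exact absurd (lt_of_lt_of_le hlt (ho2.trans ho1le)) (lt_irrefl _)
  have hadd := PowerSeries.order_add_of_order_ne _ _ hne
  rw [h1', hR] at hadd
  have ho1eq : PowerSeries.order (E * ((PowerSeries.X : PowerSeries k) ^ m * G)) = ((2 * m : ℕ) : ℕ∞) := by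
    rw [hadd]
    symm
    apply min_eq_left
    exact ho1le.trans (hlt.le.trans ho2)
  rw [ho1] at ho1eq
  -- order s is finite
  have hs : PowerSeries.order s ≠ ⊤ := by
    intro htop
    rw [htop] at ho1eq
    have h3 : (2 • (⊤ : ℕ∞) + (m : ℕ∞)) = ⊤ := by simp
    exact ENat.coe_ne_top (2 * m) (ho1eq.symm.trans h3)
  obtain ⟨j, hj⟩ := ENat.ne_top_iff_exists.mp hs
  rw [← hj] at ho1eq
  have : 2 * j + m = 2 * m := by
    have h : ((2 * j + m : ℕ) : ℕ∞) = ((2 * m : ℕ) : ℕ∞) := by
      rw [← ho1eq]
      push_cast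
      rw [nsmul_eq_mul]
      rfl
    exact_mod_cast h
  obtain ⟨t, ht⟩ := hm
  omega

end Groth.Agent.S19486
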