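import Groth.Statements.S19502
import Mathlib

set_option autoImplicit false
universe u
open W4c3ghconstell

namespace Groth.Agent.S19502

/-- Let ι index the irreducible representations, θ : ι → ℚ a weight which is negative exactly on the
finite set D₋, h h' : ι → ℕ with h' ≤ h pointwise (the isotypic dimensions of an object and of a
sub-object) and Σ_i θ_i h_i summable. For a finite set D of indices put S_D = Σ_{i ∉ D} θ_i h_i, d =
#(D ∖ D₋) and θ̃_D = Σ_{i ∈ D} θ_i h'_i + (S_D / d) · Σ_{i ∈ D ∖ D₋} h'_i / h_i, the modified weight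
attached to the parameters chosen for D (a quotient by zero is read as zero). Then for finite sets
D₋ ⊆ D ⊆ D̃ contained in the locus θ ≠ 0: (first error term) θ̃_{D̃} − θ̃_D = Σ_{τ ∈ D̃ ∖ D} (θ_τ
h_τ + S_{D̃}/d̃) · (h'_τ/h_τ − (1/d) Σ_{σ ∈ D ∖ D₋} h'_σ/h_σ); (second error term) Σ_i θ_i h'_i −
θ̃_D = Σ_{τ ∉ D} θ_τ h_τ · (h'_τ/h_τ − (1/d) Σ_{σ ∈ D ∖ D₋} h'_σ/h_σ). -/
theorem result {ι : Type u} [DecidableEq ι]
    (θ : ι → ℚ) (h h' : ι → ℕ) (hle : ∀ i, h' i ≤ h i) (hfin : {i | θ i < 0}.Finite)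
    (hsum : Summable (fun i => (θ i : ℝ) * (h i : ℝ))) (D D' : Finset ι)
    (hDm : hfin.toFinset ⊆ D) (hDD' : D ⊆ D') (hsupp : ∀ i ∈ D', θ i ≠ 0) :
    (((∑ i ∈ D', (θ i : ℝ) * (h' i : ℝ)) + ((∑' i, if i ∈ D' then (0 : ℝ) else (θ i : ℝ) * (h i : ℝ)) / ((D' \ hfin.toFinset).card : ℝ)) * (∑ σ ∈ D' \ hfin.toFinset, ((h' σ : ℝ) / (h σ : ℝ)))) - ((∑ i ∈ D, (θ i : ℝ) * (h' i : ℝ)) + ((∑' i, if i ∈ D then (0 : ℝ) else (θ i : ℝ) * (h i : ℝ)) / ((D \ hfin.toFinset).card : ℝ)) * (∑ σ ∈ D \ hfin.toFinset, ((h' σ : ℝ) / (h σ : ℝ)))) =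
      ∑ τ ∈ D' \ D, ((θ τ : ℝ) * (h τ : ℝ) + (∑' i, if i ∈ D' then (0 : ℝ) else (θ i : ℝ) * (h i : ℝ)) / ((D' \ hfin.toFinset).card : ℝ)) *
        (((h' τ : ℝ) / (h τ : ℝ)) - (1 / ((D \ hfin.toFinset).card : ℝ)) * (∑ σ ∈ D \ hfin.toFinset, ((h' σ : ℝ) / (h σ : ℝ))))) ∧
    ((∑' i, (θ i : ℝ) * (h' i : ℝ)) - ((∑ i ∈ D, (θ i : ℝ) * (h' i : ℝ)) + ((∑' i, if i ∈ D then (0 : ℝ) else (θ i : ℝ) * (h i : ℝ)) / ((D \ hfin.toFinset).card : ℝ)) * (∑ σ ∈ D \ hfin.toFinset, ((h' σ : ℝ) / (h σ : ℝ)))) =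
      ∑' τ, if τ ∈ D then (0 : ℝ) else (θ τ : ℝ) * (h τ : ℝ) *
        (((h' τ : ℝ) / (h τ : ℝ)) - (1 / ((D \ hfin.toFinset).card : ℝ)) * (∑ σ ∈ D \ hfin.toFinset, ((h' σ : ℝ) / (h σ : ℝ))))) := by
  classical
  set Dm := hfin.toFinset with hDm'
  set F : ι → ℝ := fun i => (θ i : ℝ) * (h i : ℝ) with hF
  set G : ι → ℝ := fun i => (θ i : ℝ) * (h' i : ℝ) with hG
  set r : ι → ℝ := fun i => (h' i : ℝ) / (h i : ℝ) with hr
  -- pointwise facts
  have hFr : ∀ i, F i * r i = G i := by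
    intro i
    simp only [hF, hG, hr]
    by_cases h0 : (h i : ℝ) = 0
    · have h0' : h i = 0 := by exact_mod_cast h0
      have : h' i = 0 := Nat.le_zero.mp (h0' ▸ hle i)
      simp [h0', this]
    · field_simp
  have hr01 : ∀ i, 0 ≤ r i ∧ r i ≤ 1 := by
    intro i
    simp only [hr]
    constructor
    · positivity
    · by_cases h0 : (h i : ℝ) = 0
      · simp [h0]
      · rw [div_le_one (lt_of_le_of_ne (by positivity) (Ne.symm h0))]
        exact_mod_cast hle i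
  have hGsum : Summable G := by
    refine Summable.of_norm_bounded (g := fun i => |F i|) hsum.abs ?_
    intro i
    rw [← hFr i, norm_mul, Real.norm_eq_abs, Real.norm_eq_abs, abs_of_nonneg (hr01 i).1]
    exact mul_le_of_le_one_right (abs_nonneg _) (hr01 i).2
  -- truncated sums
  have hind : ∀ (E : Finset ι) (H : ι → ℝ), Summable H →
      Summable (fun i => if i ∈ E then (0 : ℝ) else H i) := by
    intro E H hH
    have : (fun i => if i ∈ E then (0 : ℝ) else H i) = Set.indicator ((E : Set ι)ᶜ) H := by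
      funext i
      by_cases hi : i ∈ E <;> simp [Set.indicator, hi]
    rw [this]
    exact hH.indicator _
  have htrunc : ∀ (E : Finset ι) (H : ι → ℝ), Summable H →
      (∑' i, if i ∈ E then (0 : ℝ) else H i) = (∑' i, H i) - ∑ i ∈ E, H i := by
    intro E H hH
    have h1 : ∀ i, H i = (if i ∈ E then (0 : ℝ) else H i) + (if i ∈ E then H i else 0) := by
      intro i; by_cases hi : i ∈ E <;> simp [hi]
    have h2 : Summable (fun i => if i ∈ E then H i else (0 : ℝ)) :=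
      summable_of_ne_finset_zero (s := E) (fun i hi => by simp [hi])
    have h3 : (∑' i, if i ∈ E then H i else (0 : ℝ)) = ∑ i ∈ E, H i := by
      rw [tsum_eq_sum (s := E) (fun i hi => by simp [hi])]
      exact Finset.sum_congr rfl (fun i hi => by simp [hi])
    have h4 := (hind E H hH).tsum_add h2
    rw [h3] at h4
    have h5 : (∑' i, H i) = ∑' i, ((if i ∈ E then (0 : ℝ) else H i) + (if i ∈ E then H i else 0)) :=
      tsum_congr h1
    rw [h5, h4]
    ring
  set S := ∑' i, if i ∈ D then (0 : ℝ) else F i with hS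
  set S' := ∑' i, if i ∈ D' then (0 : ℝ) else F i with hS'
  have hSS' : S - S' = ∑ τ ∈ D' \ D, F τ := by
    rw [hS, hS', htrunc D F hsum, htrunc D' F hsum, ← Finset.sum_sdiff hDD']
    ring
  -- finite decompositions
  have hsplit : D' \ Dm = (D \ Dm) ∪ (D' \ D) := by
    ext i
    simp only [Finset.mem_sdiff, Finset.mem_union]
    constructor
    · rintro ⟨h1, h2⟩
      by_cases hi : i ∈ D
      · exact Or.inl ⟨hi, h2⟩
      · exact Or.inr ⟨h1, hi⟩
    · rintro (⟨h1, h2⟩ | ⟨h1, h2⟩)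
      · exact ⟨hDD' h1, h2⟩
      · exact ⟨h1, fun h3 => h2 (hDm h3)⟩
  have hdisj : Disjoint (D \ Dm) (D' \ D) := by
    rw [Finset.disjoint_left]
    intro i h1 h2
    exact (Finset.mem_sdiff.mp h2).2 (Finset.mem_sdiff.mp h1).1
  set A := ∑ σ ∈ D \ Dm, r σ with hA
  set ρ := ∑ σ ∈ D' \ D, r σ with hρ
  have hA' : ∑ σ ∈ D' \ Dm, r σ = A + ρ := by
    rw [hsplit, Finset.sum_union hdisj]
  set d : ℝ := ((D \ Dm).card : ℝ) with hd
  set e : ℝ := ((D' \ D).card : ℝ) with he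
  have hd' : ((D' \ Dm).card : ℝ) = d + e := by
    rw [hsplit, Finset.card_union_of_disjoint hdisj]
    push_cast
    rfl
  have hd0 : d = 0 → A = 0 := by
    intro h0
    have : (D \ Dm).card = 0 := by
      rw [hd] at h0
      exact_mod_cast h0
    rw [Finset.card_eq_zero] at this
    rw [hA, this, Finset.sum_empty]
  have hdnn : 0 ≤ d := by positivity
  have henn : 0 ≤ e := by positivity
  constructor
  · -- first identity
    have hGD' : ∑ i ∈ D', G i = ∑ i ∈ D, G i + ∑ i ∈ D' \ D, G i := by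
      rw [← Finset.sum_sdiff hDD']
      ring
    have hRHS : ∑ τ ∈ D' \ D, (F τ + S' / (d + e)) * (r τ - 1 / d * A) =
        ∑ τ ∈ D' \ D, G τ - (1 / d * A) * ∑ τ ∈ D' \ D, F τ + (S' / (d + e)) * ρ -
          (S' / (d + e)) * (1 / d * A) * e := by
      have : ∀ τ, (F τ + S' / (d + e)) * (r τ - 1 / d * A) =
          G τ - (1 / d * A) * F τ + (S' / (d + e)) * r τ - (S' / (d + e)) * (1 / d * A) := by
        intro τ
        rw [← hFr τ]
        ring
      simp only [this, Finset.sum_add_distrib, Finset.sum_sub_distrib, ← Finset.mul_sum,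
        Finset.sum_const, nsmul_eq_mul]
      rw [← he, ← hρ]
      ring
    change (∑ i ∈ D', G i + S' / ((D' \ Dm).card : ℝ) * ∑ σ ∈ D' \ Dm, r σ) -
        (∑ i ∈ D, G i + S / d * A) =
      ∑ τ ∈ D' \ D, (F τ + S' / ((D' \ Dm).card : ℝ)) * (r τ - 1 / d * A)
    rw [hd', hA', hRHS, hGD', ← hSS']
    by_cases h0 : d = 0
    · rw [hd0 h0]
      ring
    · have hde : d + e ≠ 0 := by
        have : 0 < d := lt_of_le_of_ne hdnn (Ne.symm h0)
        linarith
      field_simp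
      ring
  · -- second identity
    change (∑' i, G i) - (∑ i ∈ D, G i + S / d * A) =
      ∑' τ, if τ ∈ D then (0 : ℝ) else F τ * (r τ - 1 / d * A)
    have h1 : ∀ τ, (if τ ∈ D then (0 : ℝ) else F τ * (r τ - 1 / d * A)) =
        (if τ ∈ D then (0 : ℝ) else G τ) - (1 / d * A) * (if τ ∈ D then (0 : ℝ) else F τ) := by
      intro τ
      by_cases hτ : τ ∈ D
      · simp [hτ]
      · simp only [hτ, if_false]
        rw [← hFr τ]
        ring
    rw [tsum_congr h1, ((hind D G hGsum).tsum_sub ((hind D F hsum).mul_left (1 / d * A))),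
      htrunc D G hGsum, tsum_mul_left, ← hS]
    ring

end Groth.Agent.S19502
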