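import Groth.Statements.S19515
import Groth.Agent.H54.FibrationNormal
import Groth.Agent.H54.FpqcLocTriv4

set_option autoImplicit false
universe u
open CategoryTheory CategoryTheory.Limits AlgebraicGeometry
open Variety

namespace Groth.Agent.S19515

/-- Let k be a field and f : X → Y a k-morphism between proper k-schemes which is a fibration, i.e. O_Y
→ f_*O_X is an isomorphism (Γ(V, O_Y) → Γ(f⁻¹V, O_X) bijective for every open V ⊆ Y). If X is
geometrically normal, i.e. its base change to every algebraic closure of k has all local rings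
integrally closed domains, then Y is geometrically normal in the same sense. -/
theorem result (k : Type u) [Field k] (X Y : Scheme.{u})
    [X.Over (Spec (CommRingCat.of k))] [Y.Over (Spec (CommRingCat.of k))] [IsProper (X ↘ Spec (CommRingCat.of k))] [IsProper (Y ↘ Spec (CommRingCat.of k))]
    (f : X ⟶ Y) (hf : f ≫ (Y ↘ Spec (CommRingCat.of k)) = X ↘ Spec (CommRingCat.of k)) (hfib : ∀ V : Y.Opens, IsIso (f.app V))
    (hX : ∀ (K : Type u) [Field K] [Algebra k K] [IsAlgClosure k K],
      Pi1.IsNormalScheme (pullback (X ↘ Spec (CommRingCat.of k)) (Spec.map (CommRingCat.ofHom (algebraMap k K)))))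
    (K : Type u) [Field K] [Algebra k K] [IsAlgClosure k K] :
    Pi1.IsNormalScheme (pullback (Y ↘ Spec (CommRingCat.of k)) (Spec.map (CommRingCat.ofHom (algebraMap k K)))) := by
  haveI : IsProper (f ≫ (Y ↘ Spec (CommRingCat.of k))) := hf ▸ inferInstance
  haveI : IsProper f := IsProper.of_comp f (Y ↘ Spec (CommRingCat.of k))
  generalize hs : Spec.map (CommRingCat.ofHom (algebraMap k K)) = s at *
  have hsflat : Flat s := by
    subst hs
    rw [Flat.SpecMap_iff]
    exact (RingHom.flat_algebraMap_iff).2 inferInstance
  haveI : IsLocallyNoetherian (Spec (CommRingCat.of K)) := inferInstance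
  let fK : pullback (X ↘ Spec (CommRingCat.of k)) s ⟶ pullback (Y ↘ Spec (CommRingCat.of k)) s :=
    pullback.map _ _ _ _ f (𝟙 _) (𝟙 _) (by rw [Category.comp_id, hf]) (by rw [Category.comp_id, Category.id_comp])
  have hfst : fK ≫ pullback.fst _ _ = pullback.fst _ _ ≫ f := pullback.lift_fst _ _ _
  have hsnd : fK ≫ pullback.snd _ _ = pullback.snd _ _ := by
    have := pullback.lift_snd (f := Y ↘ Spec (CommRingCat.of k)) (g := s)
      (pullback.fst (X ↘ Spec (CommRingCat.of k)) s ≫ f)
      (pullback.snd (X ↘ Spec (CommRingCat.of k)) s ≫ 𝟙 _)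
      (by rw [Category.assoc, hf, Category.comp_id]; exact pullback.condition)
    exact this.trans (Category.comp_id _)
  have hpb : IsPullback (pullback.fst (X ↘ Spec (CommRingCat.of k)) s) fK f
      (pullback.fst (Y ↘ Spec (CommRingCat.of k)) s) := by
    refine IsPullback.of_bot ?_ hfst.symm (IsPullback.of_hasPullback (Y ↘ Spec (CommRingCat.of k)) s)
    rw [hsnd, hf]
    exact IsPullback.of_hasPullback _ _
  haveI : Flat (pullback.fst (Y ↘ Spec (CommRingCat.of k)) s) :=
    MorphismProperty.pullback_fst _ _ hsflat
  have hfib' := Groth.Agent.H54.FpqcLocTriv.bijective_app_baseChange hpb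
    (fun V => ConcreteCategory.bijective_of_isIso (f.app V))
  haveI : IsProper fK := MorphismProperty.of_isPullback hpb (inferInstance : IsProper f)
  haveI : LocallyOfFiniteType (pullback.snd (X ↘ Spec (CommRingCat.of k)) s) :=
    MorphismProperty.pullback_snd _ _ inferInstance
  haveI : IsLocallyNoetherian (pullback (X ↘ Spec (CommRingCat.of k)) s) :=
    LocallyOfFiniteType.isLocallyNoetherian (pullback.snd (X ↘ Spec (CommRingCat.of k)) s)
  have hXK : Pi1.IsNormalScheme (pullback (X ↘ Spec (CommRingCat.of k)) s) := by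
    subst hs
    exact hX K
  exact Groth.Agent.H54.FibrationNormal.isNormalScheme_of_fibration fK fK.isClosedMap
    (fun V => (ConcreteCategory.isIso_iff_bijective _).2 (hfib' V)) hXK

end Groth.Agent.S19515
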