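import Groth.Statements.S19522
import Mathlib

set_option autoImplicit false
universe u
open TensorProduct
open GLin

namespace Groth.Agent.S19522

/-- Let k be a field, A a commutative k-bialgebra coacting multiplicatively on a commutative k-algebra
R, and χ ∈ A a group-like element with an inverse χ' (χχ' = 1). Suppose the polynomial ring R[t]
carries a multiplicative coaction which restricts to the given one on constants and sends t to t ⊗
χ'. Then g ∈ R[t] is coinvariant if and only if, for every r, its r-th coefficient has coaction g_r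
↦ g_r ⊗ χ^r; that is, the ring of invariants of R[t] is the sum over r ≥ 0 of the weight-χ^r
semi-invariants of R times t^r. (The published statement is phrased for an affine variety with an
action of a linear algebraic group over an algebraically closed field of characteristic zero and
identifies the invariants of X × A¹ with the graded ring of invariant sections of the powers of the
linearised trivial bundle; this is its coordinate-ring content, valid over any field.) -/
theorem result (k : Type u) [Field k]
    (A : Type u) [CommRing A] [Bialgebra k A]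
    (R : Type u) [CommRing R] [Algebra k R] [HopfRep.Comod k A R] [GLin.IsCoactAlg k A R]
    [HopfRep.Comod k A (Polynomial R)] [GLin.IsCoactAlg k A (Polynomial R)]
    (χ χ' : A) (hχ : CoalgebraStruct.comul (R := k) (A := A) χ = χ ⊗ₜ[k] χ)
    (hχε : CoalgebraStruct.counit (R := k) (A := A) χ = 1) (hχχ' : χ * χ' = 1)
    (hC : ∀ r : R, HopfRep.Comod.coact (k := k) (A := A) (Polynomial.C r) =
      Algebra.TensorProduct.map (Polynomial.CAlgHom : R →ₐ[k] Polynomial R) (AlgHom.id k A)
        (HopfRep.Comod.coact (k := k) (A := A) r))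
    (hX : HopfRep.Comod.coact (k := k) (A := A) (Polynomial.X : Polynomial R) = Polynomial.X ⊗ₜ[k] χ')
    (g : Polynomial R) :
    g ∈ GLin.invariants k A (Polynomial R) ↔
      ∀ r : ℕ, g.coeff r ∈ HopfRep.eigenspace k A R (χ ^ r) := by
  classical
  -- the coaction on R[t] as an algebra hom
  let ρ' : Polynomial R →ₐ[k] Polynomial R ⊗[k] A := GLin.coactAlgHom k A (Polynomial R)
  have hρ' : ∀ f, ρ' f = HopfRep.Comod.coact (k := k) (A := A) f := fun f => rfl
  let CA : R ⊗[k] A →ₐ[k] Polynomial R ⊗[k] A :=
    Algebra.TensorProduct.map (Polynomial.CAlgHom : R →ₐ[k] Polynomial R) (AlgHom.id k A)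
  -- expansion of ρ' g
  have hexp : ρ' g = ∑ r ∈ g.support,
      CA (HopfRep.Comod.coact (k := k) (A := A) (g.coeff r)) * ((Polynomial.X ^ r) ⊗ₜ[k] (χ' ^ r)) := by
    conv_lhs => rw [g.as_sum_support_C_mul_X_pow]
    rw [map_sum]
    apply Finset.sum_congr rfl
    intro r _
    rw [map_mul, map_pow, hρ' (Polynomial.C _), hρ' Polynomial.X, hC, hX,
      Algebra.TensorProduct.tmul_pow]
  -- coefficient extraction
  let L : ℕ → Polynomial R ⊗[k] A →ₗ[k] R ⊗[k] A := fun r =>
    LinearMap.rTensor A ((Polynomial.lcoeff R r).restrictScalars k)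
  have hL : ∀ (r s : ℕ) (z : R ⊗[k] A) (a : A),
      L r (CA z * ((Polynomial.X ^ s) ⊗ₜ[k] a)) = if r = s then z * (1 ⊗ₜ[k] a) else 0 := by
    intro r s z a
    induction z using TensorProduct.induction_on with
    | zero => simp
    | add z₁ z₂ h₁ h₂ =>
      rw [map_add, add_mul, map_add, h₁, h₂, add_mul]
      split_ifs <;> simp
    | tmul x b =>
      simp only [CA, L, Algebra.TensorProduct.map_tmul, AlgHom.coe_id, id_eq,
        Algebra.TensorProduct.tmul_mul_tmul, LinearMap.rTensor_tmul, LinearMap.coe_restrictScalars,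
        Polynomial.lcoeff_apply, Polynomial.CAlgHom_apply, Polynomial.coeff_C_mul,
        Polynomial.coeff_X_pow, mul_one]
      split_ifs with h
      · simp
      · simp
  have hLg : ∀ r, L r (ρ' g) = HopfRep.Comod.coact (k := k) (A := A) (g.coeff r) * (1 ⊗ₜ[k] (χ' ^ r)) := by
    intro r
    rw [hexp, map_sum]
    simp only [hL]
    rw [Finset.sum_ite_eq]
    split_ifs with h
    · rfl
    · rw [Polynomial.notMem_support_iff.mp h, map_zero, zero_mul]
  have hχpow : ∀ r : ℕ, χ' ^ r * χ ^ r = 1 := by
    intro r
    rw [← mul_pow, mul_comm, hχχ', one_pow]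
  constructor
  · intro hg r
    have h1 : ρ' g = g ⊗ₜ[k] (1 : A) := hg
    have h2 := hLg r
    rw [h1] at h2
    simp only [L, LinearMap.rTensor_tmul, LinearMap.coe_restrictScalars, Polynomial.lcoeff_apply] at h2
    -- multiply by 1 ⊗ χ^r
    have h3 := congrArg (fun z => z * ((1 : R) ⊗ₜ[k] (χ ^ r))) h2
    simp only [mul_assoc, Algebra.TensorProduct.tmul_mul_tmul, mul_one, one_mul, hχpow] at h3
    have hmem : g.coeff r ∈ HopfRep.eigenspace k A R (χ ^ r) ↔
        HopfRep.Comod.coact (k := k) (A := A) (g.coeff r) = g.coeff r ⊗ₜ[k] (χ ^ r) := Iff.rfl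
    rw [hmem, h3, ← Algebra.TensorProduct.one_def, mul_one]
  · intro hg
    change ρ' g = g ⊗ₜ[k] (1 : A)
    rw [hexp]
    conv_rhs => rw [g.as_sum_support_C_mul_X_pow, TensorProduct.sum_tmul]
    apply Finset.sum_congr rfl
    intro r _
    have hmem : g.coeff r ∈ HopfRep.eigenspace k A R (χ ^ r) ↔
        HopfRep.Comod.coact (k := k) (A := A) (g.coeff r) = g.coeff r ⊗ₜ[k] (χ ^ r) := Iff.rfl
    have := hmem.mp (hg r)
    rw [this]
    simp only [CA, Algebra.TensorProduct.map_tmul, AlgHom.coe_id, id_eq,
      Algebra.TensorProduct.tmul_mul_tmul, Polynomial.CAlgHom_apply]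
    rw [mul_comm (χ ^ r), hχpow]

end Groth.Agent.S19522
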