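import Groth.Statements.S19533
import Groth.Agent.H38.AbVarFibre
import Groth.Agent.H38.SmoothGeomIntegral

set_option autoImplicit false
universe u
open CategoryTheory CategoryTheory.Limits MonoidalCategory CartesianMonoidalCategory MonObj GrpObj AlgebraicGeometry
open AbVar

namespace Groth.Agent.S19533

/-- Let k be an algebraically closed field, A an abelian variety over k (a k-group scheme whose
structure morphism is proper, smooth and geometrically connected) with unit point e, Y a scheme
separated over k and f : A → Y a morphism over k. Write F₀ for the connected component of e in the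
fibre f⁻¹(f(e)). Then the k-rational points of F₀ are stable under the group law: if k-points x and
y of A lie in F₀ then so do the product point x·y and the inverse point x⁻¹. (The published
statement is for Y a k-variety and concludes that F₀ with its reduced structure is an abelian
subvariety, together with the translation formula F_a = a + F₀; this row records the closure of
F₀(k) under multiplication and inversion, for Y merely separated over k.) -/
theorem result (k : Type u) [Field k] [IsAlgClosed k]
    (A : Over (Spec (CommRingCat.of k))) [GrpObj A] [IsProper A.hom] [Smooth A.hom] [GeometricallyConnected A.hom]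
    {Y : Scheme.{u}} (q : Y ⟶ Spec (CommRingCat.of k)) [IsSeparated q] (f : A.left ⟶ Y) (hf : f ≫ q = A.hom)
    (x y : 𝟙_ (Over (Spec (CommRingCat.of k))) ⟶ A)
    (hx : x.left (IsLocalRing.closedPoint k) ∈
      connectedComponentIn (f ⁻¹' {f (η[A].left (IsLocalRing.closedPoint k))}) (η[A].left (IsLocalRing.closedPoint k)))
    (hy : y.left (IsLocalRing.closedPoint k) ∈
      connectedComponentIn (f ⁻¹' {f (η[A].left (IsLocalRing.closedPoint k))}) (η[A].left (IsLocalRing.closedPoint k))) :
    (lift x y ≫ μ[A]).left (IsLocalRing.closedPoint k) ∈
        connectedComponentIn (f ⁻¹' {f (η[A].left (IsLocalRing.closedPoint k))}) (η[A].left (IsLocalRing.closedPoint k)) ∧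
      (x ≫ ι[A]).left (IsLocalRing.closedPoint k) ∈
        connectedComponentIn (f ⁻¹' {f (η[A].left (IsLocalRing.closedPoint k))}) (η[A].left (IsLocalRing.closedPoint k)) := by
  haveI : GeometricallyIntegral A.hom :=
    Groth.Agent.H38.SmoothGeomIntegral.geometricallyIntegral_of_smooth k A.hom
  -- translation by a point of the component preserves the component
  have key : ∀ z : 𝟙_ (Over (Spec (CommRingCat.of k))) ⟶ A,
      z.left (IsLocalRing.closedPoint k) ∈
        connectedComponentIn (f ⁻¹' {f (η[A].left (IsLocalRing.closedPoint k))})
          (η[A].left (IsLocalRing.closedPoint k)) →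
      (Groth.Agent.H38.AbVarFibre.tr k A z).left ''
          connectedComponentIn (f ⁻¹' {f (η[A].left (IsLocalRing.closedPoint k))})
            (η[A].left (IsLocalRing.closedPoint k)) =
        connectedComponentIn (f ⁻¹' {f (η[A].left (IsLocalRing.closedPoint k))})
          (η[A].left (IsLocalRing.closedPoint k)) := by
    intro z hz
    have h1 := Groth.Agent.H38.AbVarFibre.image_tr_eq k A q f hf z
    have hzF' : z.left (IsLocalRing.closedPoint k) ∈
        f ⁻¹' {f (η[A].left (IsLocalRing.closedPoint k))} :=
      connectedComponentIn_subset _ _ hz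
    have hzF : f (z.left (IsLocalRing.closedPoint k)) =
        f (η[A].left (IsLocalRing.closedPoint k)) := hzF'
    rw [hzF] at h1
    rw [h1]
    exact (connectedComponentIn_eq hz).symm
  constructor
  · rw [← key x hx]
    refine ⟨y.left (IsLocalRing.closedPoint k), hy, ?_⟩
    have h2 : y ≫ Groth.Agent.H38.AbVarFibre.tr k A x = lift x y ≫ μ[A] := by
      rw [Groth.Agent.H38.AbVarFibre.pt_comp_tr, Hom.mul_def]
    exact congr($(h2).left (IsLocalRing.closedPoint k))
  · have he : η[A].left (IsLocalRing.closedPoint k) ∈
        connectedComponentIn (f ⁻¹' {f (η[A].left (IsLocalRing.closedPoint k))})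
          (η[A].left (IsLocalRing.closedPoint k)) := mem_connectedComponentIn rfl
    rw [← key x hx] at he
    obtain ⟨d, hd, hde⟩ := he
    have h3 : (Groth.Agent.H38.AbVarFibre.tr k A x⁻¹).left
        ((Groth.Agent.H38.AbVarFibre.tr k A x).left d) = d := by
      have := Groth.Agent.H38.AbVarFibre.tr_tr_inv k A x
      exact congr($(this).left d)
    rw [hde] at h3
    have h4 : η[A] ≫ Groth.Agent.H38.AbVarFibre.tr k A x⁻¹ = x ≫ ι[A] := by
      rw [Groth.Agent.H38.AbVarFibre.pt_comp_tr, MonObj.one_eq_one, _root_.mul_one, Hom.inv_def]
    have h5 : (Groth.Agent.H38.AbVarFibre.tr k A x⁻¹).left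
        (η[A].left (IsLocalRing.closedPoint k)) = (x ≫ ι[A]).left (IsLocalRing.closedPoint k) :=
      congr($(h4).left (IsLocalRing.closedPoint k))
    rw [← h5, h3]
    exact hd

end Groth.Agent.S19533
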