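import Groth.Statements.S19544
import Groth.Agent.H36.BassCancel

set_option autoImplicit false
universe u
open CAlg

namespace Groth.Agent.S19544

/-- Let R be a Noetherian ring of Krull dimension d and P a finitely generated projective R-module of
constant rank n at every prime of R, with n > d. Then P is isomorphic to P₀ ⊕ R^(n-d) for some
module P₀; concretely, P has complementary submodules P₀ and Q with Q free of rank n - d. -/
theorem result (R : Type u) [CommRing R]
    [IsNoetherianRing R] (d n : ℕ) (hdim : ringKrullDim R = d)
    (P : Type u) [AddCommGroup P] [Module R P] [Module.Finite R P] [Module.Projective R P]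
    (hrk : ∀ p : PrimeSpectrum R, Module.rankAtStalk (R := R) P p = n) (hnd : d < n) :
    ∃ (P₀ Q : Submodule R P), IsCompl P₀ Q ∧ Nonempty (Q ≃ₗ[R] (Fin (n - d) → R)) := by
  obtain ⟨K, ⟨e⟩⟩ := H36.exists_split_free d hdim.le (n - d) P
    (fun p => by rw [hrk p]; omega)
  exact H36.exists_isCompl_of_equiv_prod e (LinearEquiv.refl R _)

end Groth.Agent.S19544
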