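import Groth.Statements.S19547
import Mathlib

set_option autoImplicit false
universe u
open TensorProduct
open Desc

namespace Groth.Agent.S19547

/-- Let A → A' be a faithfully flat homomorphism of commutative rings, M' an A'-module and φ : M' ⊗_A A'
→ A' ⊗_A M' an isomorphism of (A' ⊗_A A')-modules for the diagonal actions (x ⊗ y)(u ⊗ z) = xu ⊗ yz
and (x ⊗ y)(z ⊗ u) = xz ⊗ yu, satisfying the cocycle condition φ_13 = φ_23 ∘ φ_12 between the three
pullbacks to A' ⊗_A A' ⊗_A A'. Here linearity over A' ⊗_A A' is stated on the generators x ⊗ 1 and 1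
⊗ y, and the cocycle condition on pure tensors u ⊗ a ⊗ b: writing φ(u ⊗ a) = Σ a_i ⊗ u_i, it says Σ
a_i ⊗ φ(u_i ⊗ b) = Σ b_j ⊗ a ⊗ u'_j where φ(u ⊗ b) = Σ b_j ⊗ u'_j. Let M = {u ∈ M' : φ(u ⊗ 1) = 1 ⊗
u}, an A-submodule of M'. Then the canonical map λ : A' ⊗_A M → M', x ⊗ u ↦ xu, is an isomorphism. -/
theorem result (A A' : Type u) [CommRing A] [CommRing A']
    [Algebra A A'] [Module.FaithfullyFlat A A'] (M' : Type u) [AddCommGroup M'] [Module A M']
    [Module A' M'] [IsScalarTower A A' M']
    (φ : M' ⊗[A] A' →ₗ[A] A' ⊗[A] M') (hφ : Function.Bijective φ)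
    (h1 : ∀ (x : A') (u : M') (z : A'),
      φ ((x • u) ⊗ₜ[A] z) = LinearMap.rTensor M' (LinearMap.mulLeft A x) (φ (u ⊗ₜ[A] z)))
    (h2 : ∀ (y : A') (u : M') (z : A'),
      φ (u ⊗ₜ[A] (y * z)) = LinearMap.lTensor A' (Algebra.lsmul A A M' y) (φ (u ⊗ₜ[A] z)))
    (hcoc : ∀ (u : M') (a b : A'),
      LinearMap.lTensor A' φ (TensorProduct.assoc A A' M' A' (LinearMap.rTensor A' φ ((u ⊗ₜ[A] a) ⊗ₜ[A] b))) =
        LinearMap.lTensor A' (TensorProduct.mk A A' M' a) (φ (u ⊗ₜ[A] b)))
    (M : Submodule A M') (hM : ∀ u : M', u ∈ M ↔ φ (u ⊗ₜ[A] (1 : A')) = (1 : A') ⊗ₜ[A] u) :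
    Function.Bijective
      ((TensorProduct.lift (Algebra.lsmul A A M').toLinearMap) ∘ₗ (LinearMap.lTensor A' M.subtype)) := by
  classical
  -- notation
  let η : M' →ₗ[A] A' ⊗[A] M' := TensorProduct.mk A A' M' 1
  let θ : M' →ₗ[A] A' ⊗[A] M' := φ ∘ₗ (TensorProduct.mk A M' A').flip 1
  let lam' : A' ⊗[A] M' →ₗ[A] M' := TensorProduct.lift (Algebra.lsmul A A M').toLinearMap
  let ι : A' ⊗[A] M →ₗ[A] A' ⊗[A] M' := LinearMap.lTensor A' M.subtype
  let φe : M' ⊗[A] A' ≃ₗ[A] A' ⊗[A] M' := LinearEquiv.ofBijective φ hφ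
  let φt : A' ⊗[A] M' ≃ₗ[A] A' ⊗[A] M' := (TensorProduct.comm A A' M') ≪≫ₗ φe
  have hφt : ∀ (y : A') (v : M'), φt (y ⊗ₜ[A] v) = φ (v ⊗ₜ[A] y) := fun y v => rfl
  have hK : M = LinearMap.ker (θ - η) := by
    ext u
    rw [hM u, LinearMap.mem_ker, LinearMap.sub_apply, sub_eq_zero]
    rfl
  have hι_inj : Function.Injective ι :=
    Module.Flat.lTensor_preserves_injective_linearMap _ (Submodule.injective_subtype M)
  have hι_range : ∀ w : A' ⊗[A] M', LinearMap.lTensor A' θ w = LinearMap.lTensor A' η w →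
      w ∈ LinearMap.range ι := by
    intro w hw
    have hex : Function.Exact M.subtype (θ - η) := by
      rw [hK]
      exact LinearMap.exact_subtype_ker_map _
    have hex' := Module.Flat.lTensor_exact A' hex
    rw [LinearMap.exact_iff] at hex'
    rw [← hex', LinearMap.mem_ker, LinearMap.lTensor_sub, LinearMap.sub_apply, hw, sub_self]
  have hretr : ∀ u : M', lam' (η u) = u := by
    intro u
    simp [lam', η]
  -- (c)
  have hc : ∀ t : A' ⊗[A] M, φt (ι t) = η (lam' (ι t)) := by
    intro t
    induction t using TensorProduct.induction_on with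
    | zero => simp
    | add t₁ t₂ h₁ h₂ => simp only [map_add, h₁, h₂]
    | tmul x m =>
      have hm : φ ((m : M') ⊗ₜ[A] (1 : A')) = (1 : A') ⊗ₜ[A] (m : M') := (hM m).mp m.2
      have := h2 x (m : M') 1
      rw [mul_one, hm] at this
      simp only [ι, LinearMap.lTensor_tmul, Submodule.subtype_apply, hφt, this, lam', η,
        TensorProduct.lift.tmul, TensorProduct.mk_apply]
      rfl
  constructor
  · -- injective
    rw [← LinearMap.ker_eq_bot, LinearMap.ker_eq_bot']
    intro t ht
    have h0 : φt (ι t) = 0 := by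
      rw [hc t]
      have : lam' (ι t) = 0 := ht
      rw [this, map_zero]
    have := φt.injective (h0.trans (map_zero φt).symm)
    exact hι_inj (this.trans (map_zero ι).symm)
  · -- surjective
    intro u
    let w : A' ⊗[A] M' := φt.symm (η u)
    have hw : φt w = η u := φt.apply_symm_apply _
    let σ := TensorProduct.leftComm A A' A' M'
    -- Claim1
    have claim1 : ∀ w : A' ⊗[A] M', LinearMap.lTensor A' φt.toLinearMap (σ (LinearMap.lTensor A' θ w)) =
        LinearMap.lTensor A' η (φt w) := by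
      intro w
      induction w using TensorProduct.induction_on with
      | zero => simp
      | add w₁ w₂ h₁ h₂ => simp only [map_add, h₁, h₂]
      | tmul y v =>
        have hs : ∀ s : A' ⊗[A] M', LinearMap.lTensor A' φt.toLinearMap (σ (y ⊗ₜ[A] s)) =
            LinearMap.lTensor A' φ (TensorProduct.assoc A A' M' A' (s ⊗ₜ[A] y)) := by
          intro s
          induction s using TensorProduct.induction_on with
          | zero => simp
          | add s₁ s₂ h₁ h₂ => simp only [TensorProduct.tmul_add, TensorProduct.add_tmul, map_add, h₁, h₂]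
          | tmul a u' =>
            simp only [σ, TensorProduct.leftComm_tmul, LinearMap.lTensor_tmul, TensorProduct.assoc_tmul,
              LinearEquiv.coe_coe, hφt]
        have := hcoc v 1 y
        simp only [LinearMap.rTensor_tmul] at this
        rw [LinearMap.lTensor_tmul, hs, hφt]
        exact this
    have claim2 : ∀ w : A' ⊗[A] M', σ (LinearMap.lTensor A' η w) = (1 : A') ⊗ₜ[A] w := by
      intro w
      induction w using TensorProduct.induction_on with
      | zero => simp
      | add w₁ w₂ h₁ h₂ => simp only [map_add, h₁, h₂, TensorProduct.tmul_add]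
      | tmul y v => simp [σ, η]
    have h3 : LinearMap.lTensor A' θ w = LinearMap.lTensor A' η w := by
      apply σ.injective
      apply (LinearEquiv.lTensor A' φt).injective
      change LinearMap.lTensor A' φt.toLinearMap (σ (LinearMap.lTensor A' θ w)) =
        LinearMap.lTensor A' φt.toLinearMap (σ (LinearMap.lTensor A' η w))
      rw [claim1, claim2, hw, LinearMap.lTensor_tmul]
      simp [η, hw]
    obtain ⟨t, ht⟩ := hι_range w h3
    refine ⟨t, ?_⟩
    change lam' (ι t) = u
    have h4 : η (lam' (ι t)) = η u := by rw [← hc t, ht, hw]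
    have := congrArg lam' h4
    rwa [hretr, hretr] at this

end Groth.Agent.S19547
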