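import Groth.Statements.S19548
import Mathlib

set_option autoImplicit false
universe u
open CategoryTheory AlgebraicGeometry
open RedSub

namespace Groth.Agent.S19548

private lemma exists_nat_sum {idx M N : Type} [AddCommGroup M] [AddCommGroup N]
    (P : RootPairing idx ℤ M N) (b : P.Base) :
    ∀ m ∈ AddSubmonoid.closure (P.root '' (b.support : Set idx)),
      ∃ f : idx → ℕ, m = ∑ j ∈ b.support, f j • P.root j := by
  classical
  intro m hm
  refine AddSubmonoid.closure_induction ?_ ⟨0, by simp⟩ ?_ hm
  · rintro - ⟨j, hj, rfl⟩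
    refine ⟨Pi.single j 1, ?_⟩
    rw [Finset.sum_eq_single_of_mem j hj]
    · simp
    · intro k _ hk
      simp [Pi.single_eq_of_ne hk]
  · rintro _ _ _ _ ⟨f, hf'⟩ ⟨g, hg'⟩
    exact ⟨f + g, by simp [hf', hg', add_smul, Finset.sum_add_distrib]⟩

private lemma isPos_of_mem_posRoots {idx M N : Type} [AddCommGroup M] [AddCommGroup N]
    (P : RootPairing idx ℤ M N) (b : P.Base) (a : idx) (ha : a ∈ RedSub.posRoots P b) :
    b.IsPos a := by
  obtain ⟨f, hf⟩ := exists_nat_sum P b _ ha
  have hf' : P.root a = ∑ j ∈ b.support, ((f j : ℤ)) • P.root j := by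
    rw [hf]; simp
  rw [RootPairing.Base.isPos_iff', RootPairing.Base.height_eq_sum hf']
  exact Finset.sum_nonneg (fun j _ => by positivity)

private lemma not_isPos_of_mem_negRoots {idx M N : Type} [AddCommGroup M] [AddCommGroup N]
    (P : RootPairing idx ℤ M N) (b : P.Base) (a : idx) (ha : a ∈ RedSub.negRoots P b) :
    ¬ b.IsPos a := by
  obtain ⟨f, hf⟩ := exists_nat_sum P b _ ha
  have hf' : P.root a = ∑ j ∈ b.support, (-(f j : ℤ)) • P.root j := by
    rw [← neg_neg (P.root a), hf]; simp
  rw [RootPairing.Base.isPos_iff, RootPairing.Base.height_eq_sum hf', not_lt]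
  exact Finset.sum_nonpos (fun j _ => by simp)

private lemma reflectionPerm_reflectionPerm' {idx M N : Type} [AddCommGroup M] [AddCommGroup N]
    (P : RootPairing idx ℤ M N) (j i : idx) :
    P.reflectionPerm (P.reflectionPerm j i) =
      P.reflectionPerm j * P.reflectionPerm i * P.reflectionPerm j := by
  ext k
  apply P.root.injective
  simp only [Equiv.Perm.coe_mul, Function.comp_apply, RootPairing.root_reflectionPerm,
    RootPairing.reflection_reflectionPerm, LinearEquiv.mul_apply]

private lemma reflectionPerm_wordPerm {idx M N : Type} [AddCommGroup M] [AddCommGroup N]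
    (P : RootPairing idx ℤ M N) (l : List idx) (a : idx) :
    P.reflectionPerm (RedSub.wordPerm P l a) =
      RedSub.wordPerm P l * P.reflectionPerm a * (RedSub.wordPerm P l)⁻¹ := by
  induction l with
  | nil => simp [RedSub.wordPerm]
  | cons x l ih =>
    have h1 : RedSub.wordPerm P (x :: l) = P.reflectionPerm x * RedSub.wordPerm P l := by
      simp [RedSub.wordPerm]
    rw [h1, Equiv.Perm.mul_apply, reflectionPerm_reflectionPerm', ih, mul_inv_rev,
      RootPairing.reflectionPerm_inv]
    simp only [mul_assoc]


/-- Let Φ be a finite reduced root system (a reduced root pairing over ℤ on a finite index set) with a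
base b, let w = σ_{α_1} ⋯ σ_{α_ℓ} be a reduced decomposition of a Weyl group element into simple
reflections (every α_j in the base, and no shorter word in the simple reflections gives the same
permutation of the roots), and let γ be a positive root with w⁻¹(γ) negative. Then for some i with 1
≤ i ≤ ℓ one has σ_γ σ_{α_1} ⋯ σ_{α_i} = σ_{α_1} ⋯ σ_{α_{i-1}}. (Indices are shifted by one below:
the word is a list and the prefixes are its first i + 1 and first i letters.) -/
theorem result {idx M N : Type}
    [AddCommGroup M] [AddCommGroup N] [Finite idx]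
    (P : RootPairing idx ℤ M N) [P.IsReduced] (b : P.Base) (l : List idx)
    (hl : ∀ a ∈ l, a ∈ b.support)
    (hred : ∀ l' : List idx, (∀ a ∈ l', a ∈ b.support) →
      RedSub.wordPerm P l' = RedSub.wordPerm P l → l.length ≤ l'.length)
    (c : idx) (hc : c ∈ RedSub.posRoots P b) (hneg : (RedSub.wordPerm P l).symm c ∈ RedSub.negRoots P b) :
    ∃ i : ℕ, i < l.length ∧
      P.reflectionPerm c * RedSub.wordPerm P (l.take (i + 1)) = RedSub.wordPerm P (l.take i) := by
  classical
  set γ : ℕ → idx := fun i => (RedSub.wordPerm P (l.take i)).symm c with hγdef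
  have h0 : b.IsPos (γ 0) := by
    have : γ 0 = c := by
      simp only [hγdef, RedSub.wordPerm, List.take_zero, List.map_nil, List.prod_nil]
      rfl
    rw [this]
    exact isPos_of_mem_posRoots P b c hc
  have hℓ : ¬ b.IsPos (γ l.length) := by
    have : γ l.length = (RedSub.wordPerm P l).symm c := by simp [hγdef]
    rw [this]
    exact not_isPos_of_mem_negRoots P b _ hneg
  have hex : ∃ i, i < l.length ∧ b.IsPos (γ i) ∧ ¬ b.IsPos (γ (i + 1)) := by
    by_contra hcon
    push Not at hcon
    have hall : ∀ i, i ≤ l.length → b.IsPos (γ i) := by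
      intro i
      induction i with
      | zero => intro _; exact h0
      | succ n ih => intro hn; exact hcon n (by omega) (ih (by omega))
    exact hℓ (hall _ le_rfl)
  obtain ⟨i, hi, hpi, hni⟩ := hex
  refine ⟨i, hi, ?_⟩
  have htake : l.take (i + 1) = l.take i ++ [l[i]] := by
    exact List.take_succ_eq_append_getElem hi
  have hw : RedSub.wordPerm P (l.take (i + 1)) =
      RedSub.wordPerm P (l.take i) * P.reflectionPerm l[i] := by
    rw [htake]
    simp only [RedSub.wordPerm, List.map_append, List.prod_append, List.map_cons, List.map_nil,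
      List.prod_cons, List.prod_nil, mul_one]
  have hγs : γ (i + 1) = P.reflectionPerm l[i] (γ i) := by
    simp only [hγdef, hw]
    rw [← Equiv.Perm.inv_def, mul_inv_rev, RootPairing.reflectionPerm_inv, Equiv.Perm.mul_apply,
      Equiv.Perm.inv_def]
  have hmem : l[i] ∈ b.support := hl _ (List.getElem_mem _)
  have heq : γ i = l[i] := by
    by_contra hne
    exact hni (hγs ▸ hpi.reflectionPerm hmem hne)
  have hc' : c = RedSub.wordPerm P (l.take i) l[i] := by
    rw [← heq]
    simp [hγdef]
  rw [hw, hc', reflectionPerm_wordPerm]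
  have hsq : P.reflectionPerm l[i] * P.reflectionPerm l[i] = 1 := by
    rw [← sq, RootPairing.reflectionPerm_sq]
  calc RedSub.wordPerm P (l.take i) * P.reflectionPerm l[i] * (RedSub.wordPerm P (l.take i))⁻¹ *
        (RedSub.wordPerm P (l.take i) * P.reflectionPerm l[i])
      = RedSub.wordPerm P (l.take i) * (P.reflectionPerm l[i] * P.reflectionPerm l[i]) := by
        group
    _ = RedSub.wordPerm P (l.take i) := by rw [hsq, mul_one]

end Groth.Agent.S19548
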