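import Groth.Statements.S19550
import Mathlib
import Groth.Agent.H97.Idem

set_option autoImplicit false
universe u
open SchFin SchFin.RSpace

namespace Groth.Agent.S19550

open SchFin in
/-- Let X be a well-connected schematic finite space and f : A → B a morphism of quasi-coherent algebras
between trivial étale covers A ≅ O_X^F and B ≅ O_X^E, F and E finite sets. Then f is induced by a
map of finite sets φ : E → F. Here the trivial algebras are written out: f is a family of
O_p-algebra maps (F → O_p) → (E → O_p), one for each point p, compatible with the restriction maps,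
and the conclusion says f_p(g) = g ∘ φ for every p and g. (The published statement names a map F →
E; a map of algebras of functions O^F → O^E is composition with a map E → F, which is what this row
states.) -/
theorem result (X : RSpace.{u})
    (hX : X.IsSchematic) (hW : X.IsWellConnected) (F E : Type) [Finite F] [Finite E]
    (f : ∀ p : X.pt, (F → X.ring p) →ₐ[X.ring p] (E → X.ring p))
    (hf : ∀ (p q : X.pt) (h : p ≤ q) (g : F → X.ring p) (e : E),
      X.res h (f p g e) = f q (fun i => X.res h (g i)) e) :
    ∃ φ : E → F, ∀ (p : X.pt) (g : F → X.ring p) (e : E), f p g e = g (φ e) := by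
  classical
  obtain ⟨hconn, hpw⟩ := hW
  haveI : Fintype F := Fintype.ofFinite F
  have hnt : ∀ p : X.pt, Nontrivial (X.ring p) := fun p => by
    haveI := hpw p
    exact PrimeSpectrum.nonempty_iff_nontrivial.mp inferInstance
  let c : ∀ p : X.pt, E → F → X.ring p := fun p e i => f p (Pi.single i 1) e
  have hc_idem : ∀ p e i, IsIdempotentElem (c p e i) := by
    intro p e i
    have h1 : (Pi.single i 1 : F → X.ring p) * Pi.single i 1 = Pi.single i 1 := by
      ext j
      by_cases hij : j = i <;> simp [Pi.single_apply, hij]
    have h2 := congrFun (congrArg (f p) h1) e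
    rw [map_mul] at h2
    exact h2
  have hc_orth : ∀ p e i j, i ≠ j → c p e i * c p e j = 0 := by
    intro p e i j hij
    have h1 : (Pi.single i 1 : F → X.ring p) * Pi.single j 1 = 0 := by
      ext l
      by_cases hli : l = i
      · subst hli
        simp [Pi.single_apply, hij]
      · simp [Pi.single_apply, hli]
    have h2 := congrFun (congrArg (f p) h1) e
    rw [map_mul, map_zero] at h2
    exact h2
  have hc_sum : ∀ p e, ∑ i, c p e i = 1 := by
    intro p e
    have h1 : (∑ i, Pi.single i 1 : F → X.ring p) = 1 := by
      ext j
      simp [Finset.sum_apply, Pi.single_apply]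
    have h2 := congrFun (congrArg (f p) h1) e
    rw [map_sum, map_one, Finset.sum_apply] at h2
    exact h2
  have hc_eval : ∀ p (g : F → X.ring p) e, f p g e = ∑ i, g i * c p e i := by
    intro p g e
    have h1 : g = ∑ i, g i • (Pi.single i 1 : F → X.ring p) := by
      ext j
      simp [Finset.sum_apply, Pi.single_apply]
    conv_lhs => rw [h1]
    rw [map_sum, Finset.sum_apply]
    apply Finset.sum_congr rfl
    intro i _
    rw [map_smul]
    rfl
  have hc_res : ∀ p q (h : p ≤ q) e i, X.res h (c p e i) = c q e i := by
    intro p q h e i
    have h1 := hf p q h (Pi.single i 1) e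
    rw [h1]
    have h2 : (fun j => X.res h ((Pi.single i 1 : F → X.ring p) j)) = (Pi.single i 1 : F → X.ring q) := by
      ext j
      by_cases hij : j = i <;> simp [Pi.single_apply, hij]
    rw [h2]
  have hc01 : ∀ p e i, c p e i = 0 ∨ c p e i = 1 := fun p e i => by
    haveI := hpw p
    exact Groth.Agent.H97.idem_eq_zero_or_one _ (hc_idem p e i)
  haveI : ConnectedSpace (PrimeSpectrum (X.sectRing Set.univ)) := hconn
  have hglob : ∀ e i, (∀ p, c p e i = 0) ∨ (∀ p, c p e i = 1) := by
    intro e i
    let s : X.sectRing Set.univ := ⟨fun q => c q.1 e i, fun q q' h => hc_res q.1 q'.1 h e i⟩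
    have hs : IsIdempotentElem s := by
      apply Subtype.ext
      funext q
      exact hc_idem q.1 e i
    rcases Groth.Agent.H97.idem_eq_zero_or_one s hs with h | h
    · left
      intro p
      exact congrFun (congrArg Subtype.val h) ⟨p, trivial⟩
    · right
      intro p
      exact congrFun (congrArg Subtype.val h) ⟨p, trivial⟩
  have hne : Nonempty X.pt := by
    by_contra hemp
    rw [not_nonempty_iff] at hemp
    haveI : Subsingleton (X.sectRing Set.univ) :=
      ⟨fun a b => Subtype.ext (funext fun q => (hemp.false q.1).elim)⟩
    have : Nontrivial (X.sectRing Set.univ) := PrimeSpectrum.nonempty_iff_nontrivial.mp inferInstance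
    exact not_subsingleton _ ‹_›
  obtain ⟨p0⟩ := hne
  have hex : ∀ e, ∃ i, c p0 e i = 1 := by
    intro e
    by_contra hno
    push_neg at hno
    have h0 : ∀ i, c p0 e i = 0 := fun i => (hc01 p0 e i).resolve_right (hno i)
    have h1 := hc_sum p0 e
    simp only [h0, Finset.sum_const_zero] at h1
    haveI := hnt p0
    exact zero_ne_one h1
  choose φ hφ using hex
  refine ⟨φ, fun p g e => ?_⟩
  haveI := hnt p0
  have h1 : c p e (φ e) = 1 := by
    rcases hglob e (φ e) with h | h
    · exfalso
      have := h p0
      rw [hφ e] at this
      exact one_ne_zero this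
    · exact h p
  have h0 : ∀ i, i ≠ φ e → c p e i = 0 := by
    intro i hi
    have := hc_orth p e i (φ e) hi
    rw [h1, mul_one] at this
    exact this
  rw [hc_eval, Finset.sum_eq_single (φ e)]
  · rw [h1, mul_one]
  · intro i _ hi
    rw [h0 i hi, mul_zero]
  · intro h
    exact absurd (Finset.mem_univ _) h

end Groth.Agent.S19550
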