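import Groth.Statements.S19551
import Groth.Agent.H15.Kron

set_option autoImplicit false
universe u v w
open KronMod

namespace Groth.Agent.S19551

/-- Case of two arrows. Over an algebraically closed field K, if a Kronecker module f = (f_0, f_1) with
two arrows between spaces V and W of the same finite dimension k is semistable, then some linear
combination z_0 f_0 + z_1 f_1 of its arrows is a linear isomorphism V → W: for two arrows the
semistable locus of dimension vector (k, k) lies in the open set of modules whose generic
combination is invertible, for every k. (The published statement, over an algebraically closed field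
of characteristic zero, also covers the dimension vectors (1, 1) and (2, 2) for any number of
arrows; this row states the two-arrow case for all k, without the characteristic assumption.) -/
theorem result (K : Type u) [Field K] [IsAlgClosed K]
    (V : Type v) (W : Type w)
    [AddCommGroup V] [Module K V] [FiniteDimensional K V]
    [AddCommGroup W] [Module K W] [FiniteDimensional K W]
    (f : Fin 2 → (V →ₗ[K] W)) (k : ℕ)
    (hV : Module.finrank K V = k) (hW : Module.finrank K W = k)
    (hf : KronMod.IsSemistable f) :
    ∃ z : Fin 2 → K, Function.Bijective ((∑ j, z j • f j : V →ₗ[K] W) : V → W) := by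
  classical
  have hk : 0 < k := by
    have := hf.1
    omega
  have hss : Groth.Agent.H15.Kron.SS (f 0) (f 1) := by
    intro V'
    by_cases hbot : V' = ⊥
    · rw [hbot]
      simp
    set W' : Submodule K W := V'.map (f 0) ⊔ V'.map (f 1) with hW'
    by_cases htop : V' = ⊤ ∧ W' = ⊤
    · rw [htop.1, htop.2, finrank_top, finrank_top, hV, hW]
    have hsub : KronMod.IsSubrep f V' W' := by
      intro j
      fin_cases j
      · exact le_sup_left
      · exact le_sup_right
    have := hf.2 V' W' hsub (fun h => hbot h.1) htop
    rw [hV, hW] at this
    exact Nat.le_of_mul_le_mul_left this hk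
  obtain ⟨a, b, hab⟩ := Groth.Agent.H15.Kron.exists_bijective k V W (f 0) (f 1) hV hW hss
  refine ⟨![a, b], ?_⟩
  have : (∑ j, (![a, b] : Fin 2 → K) j • f j : V →ₗ[K] W) = a • f 0 + b • f 1 := by
    simp [Fin.sum_univ_two]
  rw [this]
  exact hab

end Groth.Agent.S19551
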