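import Groth.Statements.S19552
import Groth.Agent.H36.BassCancel

set_option autoImplicit false
universe u
open CAlg

namespace Groth.Agent.S19552

/-- Let R be a Noetherian ring of Krull dimension d and P, Q finitely generated projective R-modules of
constant rank at every prime which have the same class in the Grothendieck group, i.e. are stably
isomorphic: P ⊕ R^m ≅ Q ⊕ R^m for some m. Then there is a positive integer N with P^N ≅ Q^N. (The
two exponents in the published display are read as the same integer N; for modules of positive rank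
an isomorphism between direct powers forces equal exponents.) -/
theorem result (R : Type u) [CommRing R] [IsNoetherianRing R]
    (d n : ℕ) (hdim : ringKrullDim R = d)
    (P Q : Type u) [AddCommGroup P] [Module R P] [Module.Finite R P] [Module.Projective R P]
    [AddCommGroup Q] [Module R Q] [Module.Finite R Q] [Module.Projective R Q]
    (hrk : ∀ p : PrimeSpectrum R, Module.rankAtStalk (R := R) P p = n)
    (hrk' : ∀ p : PrimeSpectrum R, Module.rankAtStalk (R := R) Q p = n)
    (m : ℕ) (e : (P × (Fin m → R)) ≃ₗ[R] (Q × (Fin m → R))) :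
    ∃ N : ℕ, 1 ≤ N ∧ Nonempty ((Fin N → P) ≃ₗ[R] (Fin N → Q)) := by
  rcases Nat.eq_zero_or_pos n with hn | hn
  · subst hn
    have hP : Subsingleton P :=
      (Module.rankAtStalk_eq_zero_iff_subsingleton (R := R)).1 (funext hrk)
    have hQ : Subsingleton Q :=
      (Module.rankAtStalk_eq_zero_iff_subsingleton (R := R)).1 (funext hrk')
    exact ⟨1, le_refl 1, ⟨LinearEquiv.ofSubsingleton _ _⟩⟩
  · refine ⟨d + 1, Nat.le_add_left 1 d, ?_⟩
    have hproj : Module.Projective R (Fin (d + 1) → P) :=
      Module.Projective.of_equiv
        (DFinsupp.linearEquivFunOnFintype (R := R) (ι := Fin (d + 1)) (M := fun _ => P))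
    have hrkN : ∀ p : PrimeSpectrum R, d + 1 ≤ Module.rankAtStalk (Fin (d + 1) → P) p := by
      intro p
      rw [Module.rankAtStalk_pi, finsum_eq_sum_of_fintype]
      simp only [hrk p, Finset.sum_const, Finset.card_univ, Fintype.card_fin, smul_eq_mul]
      exact Nat.le_mul_of_pos_right _ hn
    exact H36.cancel_free' d hdim.le (Fin (d + 1) → P) (Fin (d + 1) → Q)
      (Fin (d + 1) → (Fin m → R)) hrkN
      ((H36.piProdEquiv (R := R) (Fin (d + 1)) P (Fin m → R)).symm ≪≫ₗ
        (LinearEquiv.piCongrRight (fun _ => e)) ≪≫ₗ
        H36.piProdEquiv (R := R) (Fin (d + 1)) Q (Fin m → R))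

end Groth.Agent.S19552
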