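import Groth.Statements.S19556
import Mathlib

set_option autoImplicit false
universe u
open Mor
open CategoryTheory CategoryTheory.Limits AlgebraicGeometry

namespace Groth.Agent.S19556

/-- Let S be a scheme, p : X → S and q : Y → S schemes over S, and π : X → Y a finite surjective
morphism over S (π ≫ q = p). If X is separated over S then Y is separated over S. (The published
statement is about the quotient map X → X/G of a scheme by an action of a finite group scheme,
assumed to exist and then finite and surjective; this row keeps of it only a finite surjective
S-morphism π, which is all the argument uses.) -/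
theorem result {S X Y : Scheme.{u}} (p : X ⟶ S) (q : Y ⟶ S)
    (π : X ⟶ Y) (hπ : π ≫ q = p) [IsFinite π] [Surjective π] [IsSeparated p] :
    IsSeparated q := by
  -- the product map
  let ππ : pullback p p ⟶ pullback q q :=
    pullback.map p p q q π π (𝟙 S) ((Category.comp_id _).trans hπ.symm)
      ((Category.comp_id _).trans hπ.symm)
  have hfin : IsFinite ππ :=
    MorphismProperty.pullbackMap (P := @IsFinite) ‹IsFinite π› ‹IsFinite π› hπ.symm hπ.symm
  have hcomm : pullback.diagonal p ≫ ππ = π ≫ pullback.diagonal q := by
    apply pullback.hom_ext
    · simp only [ππ, Category.assoc, pullback.diagonal_fst, Category.comp_id]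
      rw [pullback.lift_fst, pullback.diagonal_fst_assoc]
    · simp only [ππ, Category.assoc, pullback.diagonal_snd, Category.comp_id]
      rw [pullback.lift_snd, pullback.diagonal_snd_assoc]
  have hclosedmap : IsClosedMap ππ.base := ππ.isClosedMap
  have hrangeX : IsClosed (Set.range (pullback.diagonal p).base) :=
    (pullback.diagonal p).isClosedEmbedding.isClosed_range
  have hrange : Set.range (pullback.diagonal q).base = ππ.base '' Set.range (pullback.diagonal p).base := by
    have hsurj : Function.Surjective π.base := π.surjective
    have h1 : Set.range (pullback.diagonal q).base = Set.range (π ≫ pullback.diagonal q).base := by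
      rw [Scheme.Hom.comp_base, TopCat.coe_comp, Set.range_comp, hsurj.range_eq, Set.image_univ]
    rw [h1, ← hcomm, Scheme.Hom.comp_base, TopCat.coe_comp, Set.range_comp]
  have hcl : IsClosed (Set.range (pullback.diagonal q).base) := by
    rw [hrange]
    exact hclosedmap _ hrangeX
  exact ⟨IsClosedImmersion.of_isPreimmersion _ hcl⟩

end Groth.Agent.S19556
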