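import Groth.Statements.S19562
import Mathlib

set_option autoImplicit false
universe u
open W4c1limliniiii

namespace Groth.Agent.S19562

theorem finrank_map_add_finrank_ker_inf {k E E' : Type*} [Field k] [AddCommGroup E] [Module k E]
    [AddCommGroup E'] [Module k E'] [FiniteDimensional k E] (F : E →ₗ[k] E') (V : Submodule k E) :
    Module.finrank k (V.map F) + Module.finrank k ↥(LinearMap.ker F ⊓ V) = Module.finrank k V := by
  have h := LinearMap.finrank_range_add_finrank_ker (F.domRestrict V)
  have h1 : LinearMap.range (F.domRestrict V) = V.map F := by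
    ext x
    simp [LinearMap.domRestrict]
  have h2 : (LinearMap.ker (F.domRestrict V)).map V.subtype = LinearMap.ker F ⊓ V := by
    ext x
    constructor
    · rintro ⟨y, hy, rfl⟩
      exact ⟨by simpa [LinearMap.domRestrict] using hy, y.2⟩
    · rintro ⟨hx1, hx2⟩
      exact ⟨⟨x, hx2⟩, by simpa [LinearMap.domRestrict] using hx1, rfl⟩
  rw [h1, ← Submodule.finrank_map_subtype_eq V (LinearMap.ker (F.domRestrict V)), h2] at h
  exact h

open TensorProduct in
/-- Let k be a field, 0 < r < d, and f_i, g_i (i < n) linear maps forward and backward between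
consecutive ones of n + 1 copies of k^d, forming a linked Grassmannian over Spec k whose scalar s is
zero: every composite f_i ∘ g_i and g_i ∘ f_i vanishes, rank f_i + rank g_i ≥ d, and for consecutive
indices im f_i ∩ ker f_{i+1} = 0 and im g_{i+1} ∩ ker g_i = 0. Let (V_i) be a k-valued point of the
linked Grassmannian of rank-r sub-bundles (subspaces V_i of k ⊗ k^d with quotient of rank d − r,
with f_i(V_i) ⊆ V_{i+1} and g_i(V_{i+1}) ⊆ V_i). Then (V_i) is exact, meaning ker g_i ∩ V_{i+1} ⊆
f_i(V_i) and ker f_i ∩ V_i ⊆ g_i(V_{i+1}) for all i, if and only if dim f_i(V_i) + dim g_i(V_{i+1})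
= r for all i. (The published assertion is for points with values in an arbitrary scheme and also
says that f_i(V_i) and g_i(V_{i+1}) are then sub-bundles; this row is the case of a field, where the
last clause is empty.) -/
theorem result (k : Type u) [Field k]
    (d r n : ℕ) (hr : 0 < r) (hrd : r < d) (f g : Fin n → ((Fin d → k) →ₗ[k] (Fin d → k)))
    (hI : ∀ i, (f i).comp (g i) = 0 ∧ (g i).comp (f i) = 0)
    (hII : ∀ i, d ≤ Module.finrank k (LinearMap.range (f i)) + Module.finrank k (LinearMap.range (g i)))
    (hIII : ∀ i j : Fin n, i.val + 1 = j.val →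
      LinearMap.range (f i) ⊓ LinearMap.ker (f j) = ⊥ ∧
        LinearMap.range (g j) ⊓ LinearMap.ker (g i) = ⊥)
    (V : Fin (n + 1) → Module.Grassmannian k (k ⊗[k] (Fin d → k)) (d - r))
    (hV : V ∈ W4c1limliniiii.LGPoints k d r n f g k) :
    W4c1limliniiii.IsExact k d r n f g k V ↔
      ∀ i : Fin n,
        Module.finrank k ↥(Submodule.map ((f i).baseChange k) (V i.castSucc).toSubmodule) +
          Module.finrank k ↥(Submodule.map ((g i).baseChange k) (V i.succ).toSubmodule) = r := by
  -- dimensions
  have hE : Module.finrank k (k ⊗[k] (Fin d → k)) = d := by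
    rw [Module.finrank_tensorProduct]
    simp
  have hdimV : ∀ j : Fin (n + 1), Module.finrank k (V j).toSubmodule = r := by
    intro j
    have h1 := Submodule.finrank_quotient_add_finrank (V j).toSubmodule
    have h2 := (V j).rankAtStalk_eq ⟨⊥, Ideal.isPrime_bot⟩
    rw [Module.rankAtStalk_eq_finrank_of_free] at h2
    simp only [Pi.natCast_apply, Nat.cast_id] at h2
    omega
  have hGF : ∀ i, ((g i).baseChange k).comp ((f i).baseChange k) = 0 := by
    intro i
    rw [← LinearMap.baseChange_comp, (hI i).2, LinearMap.baseChange_zero]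
  have hFG : ∀ i, ((f i).baseChange k).comp ((g i).baseChange k) = 0 := by
    intro i
    rw [← LinearMap.baseChange_comp, (hI i).1, LinearMap.baseChange_zero]
  -- the inclusions that always hold
  have hincl1 : ∀ i : Fin n, Submodule.map ((f i).baseChange k) (V i.castSucc).toSubmodule ≤
      LinearMap.ker ((g i).baseChange k) ⊓ (V i.succ).toSubmodule := by
    intro i
    refine le_inf ?_ (hV i).1
    rintro _ ⟨x, _, rfl⟩
    rw [LinearMap.mem_ker, ← LinearMap.comp_apply, hGF i, LinearMap.zero_apply]
  have hincl2 : ∀ i : Fin n, Submodule.map ((g i).baseChange k) (V i.succ).toSubmodule ≤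
      LinearMap.ker ((f i).baseChange k) ⊓ (V i.castSucc).toSubmodule := by
    intro i
    refine le_inf ?_ (hV i).2
    rintro _ ⟨x, _, rfl⟩
    rw [LinearMap.mem_ker, ← LinearMap.comp_apply, hFG i, LinearMap.zero_apply]
  have hrn1 := fun i : Fin n =>
    finrank_map_add_finrank_ker_inf ((f i).baseChange k) (V i.castSucc).toSubmodule
  have hrn2 := fun i : Fin n =>
    finrank_map_add_finrank_ker_inf ((g i).baseChange k) (V i.succ).toSubmodule
  constructor
  · intro hex i
    have h1 : Submodule.map ((f i).baseChange k) (V i.castSucc).toSubmodule =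
        LinearMap.ker ((g i).baseChange k) ⊓ (V i.succ).toSubmodule :=
      le_antisymm (hincl1 i) (hex i).1
    have := hrn2 i
    rw [hdimV] at this
    rw [h1]
    omega
  · intro hsum i
    have e1 := hrn1 i
    have e2 := hrn2 i
    rw [hdimV] at e1 e2
    have hs := hsum i
    constructor
    · have hle := hincl1 i
      have : Module.finrank k ↥(LinearMap.ker ((g i).baseChange k) ⊓ (V i.succ).toSubmodule) ≤
          Module.finrank k ↥(Submodule.map ((f i).baseChange k) (V i.castSucc).toSubmodule) := by omega
      exact (Submodule.eq_of_le_of_finrank_le hle this).ge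
    · have hle := hincl2 i
      have : Module.finrank k ↥(LinearMap.ker ((f i).baseChange k) ⊓ (V i.castSucc).toSubmodule) ≤
          Module.finrank k ↥(Submodule.map ((g i).baseChange k) (V i.succ).toSubmodule) := by omega
      exact (Submodule.eq_of_le_of_finrank_le hle this).ge

end Groth.Agent.S19562
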