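import Groth.Statements.S19565
import Mathlib

set_option autoImplicit false
universe u v w
open RootComb

namespace Groth.Agent.S19565

/-- Let Φ be a finite reduced crystallographic irreducible root system over a field of characteristic
zero, Δ a base of simple roots, I ⊆ Δ, and suppose the simple roots outside I are split into two
disjoint non-empty sets A and B. Then there are a simple root β ∈ A and a root δ such that δ is a
non-negative integer combination of the simple roots of I ∪ B (a positive root whose support avoids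
A), δ is not in the linear span of I (so δ is not a root of the Levi subsystem of I), and ⟨δ, β^∨⟩ <
0. (The published statement is made for the root system of a semisimple group; for a reducible
system such as A₁ × A₁ with I empty and A, B the two simple roots there is no such δ, and the
argument measures distances in a connected Dynkin diagram, so the root system is taken irreducible
here.) -/
theorem result
    {ι : Type u} [Finite ι] [DecidableEq ι] {k : Type v} [Field k] [CharZero k]
    {M : Type w} [AddCommGroup M] [Module k M] {N : Type w} [AddCommGroup N] [Module k N]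
    (P : RootPairing ι k M N) [P.IsCrystallographic] [P.IsReduced] [P.IsIrreducible] (b : P.Base)
    (I A B : Finset ι) (hcover : I ∪ A ∪ B = b.support) (hIA : Disjoint I A) (hIB : Disjoint I B)
    (hAB : Disjoint A B) (hA : A.Nonempty) (hB : B.Nonempty) :
    ∃ l ∈ A, ∃ j : ι, P.root j ∈ AddSubmonoid.closure (P.root '' ↑(I ∪ B)) ∧
      P.root j ∉ Submodule.span k (P.root '' ↑I) ∧ P.pairingIn ℤ j l < 0 := by
  classical
  by_contra hgoal
  push Not at hgoal
  have hIsub : I ⊆ b.support := by
    rw [← hcover]; intro x hx; simp [hx]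
  have hAsub : A ⊆ b.support := by
    rw [← hcover]; intro x hx; simp [hx]
  have hBsub : B ⊆ b.support := by
    rw [← hcover]; intro x hx; simp [hx]
  have hIBsub : I ∪ B ⊆ b.support := Finset.union_subset hIsub hBsub
  have hli : LinearIndepOn k P.root (b.support : Set ι) := b.linearIndepOn_root
  -- pairing formula
  have hpair : ∀ (j : ι) (a : ι → ℕ) (t : ι), P.root j = ∑ s ∈ I ∪ B, a s • P.root s →
      P.pairingIn ℤ j t = ∑ s ∈ I ∪ B, (a s : ℤ) * P.pairingIn ℤ s t := by
    intro j a t hj
    apply FaithfulSMul.algebraMap_injective ℤ k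
    rw [P.algebraMap_pairingIn, ← P.root_coroot_eq_pairing, hj]
    simp only [map_sum, map_nsmul, LinearMap.coe_sum, Finset.sum_apply, LinearMap.smul_apply,
      P.root_coroot_eq_pairing, map_mul, map_natCast, P.algebraMap_pairingIn, nsmul_eq_mul]
  have hclos : ∀ (j : ι) (a : ι → ℕ), P.root j = ∑ s ∈ I ∪ B, a s • P.root s →
      P.root j ∈ AddSubmonoid.closure (P.root '' ↑(I ∪ B)) := by
    intro j a hj
    rw [hj]
    refine AddSubmonoid.sum_mem _ (fun s hs => AddSubmonoid.nsmul_mem _ ?_ _)
    exact AddSubmonoid.subset_closure (Set.mem_image_of_mem _ (Finset.mem_coe.mpr hs))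
  -- coefficient vanishing
  have hcoef : ∀ (i : ι) (a : ι → ℕ) (x : M), i ∈ I ∪ B →
      x ∈ Submodule.span k (P.root '' ((b.support : Set ι) \ {i})) →
      x = ∑ s ∈ I ∪ B, a s • P.root s → a i = 0 := by
    intro i a x hi hx hxa
    have hi' : i ∈ (b.support : Set ι) := hIBsub hi
    have h1 : ((a i : k)) • P.root i ∈
        Submodule.span k (P.root '' ((b.support : Set ι) \ {i})) := by
      have h2 : ((a i : k)) • P.root i = x - ∑ s ∈ (I ∪ B).erase i, a s • P.root s := by
        rw [hxa, ← Finset.add_sum_erase _ _ hi, Nat.cast_smul_eq_nsmul]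
        abel
      rw [h2]
      refine Submodule.sub_mem _ hx (Submodule.sum_mem _ (fun s hs => ?_))
      rw [← Nat.cast_smul_eq_nsmul k]
      refine Submodule.smul_mem _ _ (Submodule.subset_span ⟨s, ⟨?_, ?_⟩, rfl⟩)
      · exact hIBsub (Finset.mem_of_mem_erase hs)
      · simpa using Finset.ne_of_mem_erase hs
    have h3 := hli.eq_zero_of_smul_mem_span hi' _ h1
    exact_mod_cast h3
  -- the predicate
  let p : b.support → Prop := fun t => (t : ι) ∈ I ∪ B ∧ ∃ (j : ι) (a : ι → ℕ),
    P.root j = ∑ s ∈ I ∪ B, a s • P.root s ∧ (∃ t1 ∈ B, 0 < a t1) ∧ 0 < a t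
  obtain ⟨t0, ht0⟩ := hB
  obtain ⟨l, hlA⟩ := hA
  have ht0IB : t0 ∈ I ∪ B := Finset.mem_union_right _ ht0
  have hp0 : p ⟨t0, hBsub ht0⟩ := by
    refine ⟨ht0IB, t0, Pi.single t0 1, ?_, ⟨t0, ht0, by simp⟩, by simp⟩
    rw [Finset.sum_eq_single_of_mem t0 ht0IB]
    · simp
    · intro s _ hs
      simp [Pi.single_eq_of_ne hs]
  have hstep : ∀ i j : b.support, p i → b.cartanMatrix j i ≠ 0 → p j := by
    rintro ⟨i, hi⟩ ⟨j', hj'⟩ ⟨hiIB, δ, a, hδ, ⟨t1, ht1B, hat1⟩, hai⟩ hcart
    by_cases hj'mem : j' ∈ I ∪ B ∧ 0 < a j'
    · exact ⟨hj'mem.1, δ, a, hδ, ⟨t1, ht1B, hat1⟩, hj'mem.2⟩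
    · have hne : i ≠ j' := by
        rintro rfl
        exact hj'mem ⟨hiIB, hai⟩
      have hij' : P.pairingIn ℤ i j' < 0 := by
        have h1 : P.pairingIn ℤ j' i ≠ 0 := hcart
        have h2 : P.pairingIn ℤ i j' ≠ 0 := fun h => h1 (P.pairingIn_eq_zero_iff.mp h)
        exact lt_of_le_of_ne (b.pairingIn_le_zero_of_ne hne hi hj') h2
      have hδj' : P.pairingIn ℤ δ j' < 0 := by
        rw [hpair δ a j' hδ]
        refine Finset.sum_neg' (fun s hs => ?_) ⟨i, hiIB, ?_⟩
        · by_cases hsj : s = j'
          · subst hsj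
            have : a s = 0 := by
              by_contra h0
              exact hj'mem ⟨hs, Nat.pos_of_ne_zero h0⟩
            simp [this]
          · exact mul_nonpos_of_nonneg_of_nonpos (by positivity)
              (b.pairingIn_le_zero_of_ne hsj (hIBsub hs) hj')
        · exact mul_neg_of_pos_of_neg (by exact_mod_cast hai) hij'
      have hδI : P.root δ ∉ Submodule.span k (P.root '' ↑I) := by
        intro hmem
        have ht1IB : t1 ∈ I ∪ B := Finset.mem_union_right _ ht1B
        have := hcoef t1 a (P.root δ) ht1IB ?_ hδ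
        · omega
        · refine Submodule.span_mono (Set.image_mono ?_) hmem
          intro s hs
          refine ⟨hIsub hs, ?_⟩
          rintro rfl
          exact (Finset.disjoint_left.mp hIB hs) ht1B
      by_cases hj'A : j' ∈ A
      · exact absurd (hgoal j' hj'A δ (hclos δ a hδ) hδI) (not_le.mpr hδj')
      · have hj'IB : j' ∈ I ∪ B := by
          have : j' ∈ I ∪ A ∪ B := by rw [hcover]; exact hj'
          simp only [Finset.mem_union] at this ⊢
          tauto
        have ha0 : a j' = 0 := by
          by_contra h0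
          exact hj'mem ⟨hj'IB, Nat.pos_of_ne_zero h0⟩
        have hneq : P.root δ ≠ -P.root j' := by
          intro heq
          have := hcoef i a (P.root δ) hiIB ?_ hδ
          · have hai' : 0 < a i := hai
            omega
          · rw [heq]
            refine Submodule.neg_mem _ (Submodule.subset_span ⟨j', ⟨hj', ?_⟩, rfl⟩)
            simpa using Ne.symm hne
        obtain ⟨δ', hδ'⟩ := P.root_add_root_mem_of_pairingIn_neg hδj' hneq
        refine ⟨hj'IB, δ', a + Pi.single j' 1, ?_, ⟨t1, ht1B, ?_⟩, by simp⟩
        · rw [hδ', hδ]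
          simp only [Pi.add_apply, add_smul, Finset.sum_add_distrib]
          congr 1
          rw [Finset.sum_eq_single_of_mem j' hj'IB]
          · simp
          · intro s _ hs
            simp [Pi.single_eq_of_ne hs]
        · simp only [Pi.add_apply]
          exact Nat.add_pos_left hat1 _
  have hfinal := b.induction_on_cartanMatrix p (i := ⟨t0, hBsub ht0⟩) (j := ⟨l, hAsub hlA⟩) hp0 hstep
  obtain ⟨hl, -⟩ := hfinal
  rcases Finset.mem_union.mp hl with h | h
  · exact (Finset.disjoint_left.mp hIA h) hlA
  · exact (Finset.disjoint_left.mp hAB hlA) h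

end Groth.Agent.S19565
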