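import Groth.Statements.S19568
import Groth.Agent.H3.EtNbhdImage

set_option autoImplicit false
universe u
open Hensel

namespace Groth.Agent.S19568

/-- Let A be a ring, I an ideal of A and B an A-algebra which is a henselization of the pair (A, I).
Consider étale A-algebras A' for which the induced map A/I → A'/IA' is bijective. Then: (a) every
such A' admits exactly one A-algebra map to B; (b) every element of B is the image of an element of
some such A' under an A-algebra map A' → B; (c) if an A-algebra map A' → B from such an algebra
sends an element s to 0, then there are another such algebra A'' and an A-algebra map A' → A''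
sending s to 0. (All algebras are taken in the universe of A. Together with the filteredness of the
category of these algebras, (a), (b) and (c) express that B, with the maps of (a), is their
colimit.) -/
theorem result (A : Type u) [CommRing A] (I : Ideal A)
    (B : Type u) [CommRing B] [Algebra A B] (hB : Hens2.IsPairHenselization A I B) :
    (∀ (A' : Type u) [CommRing A'] [Algebra A A'] [Algebra.Etale A A'],
        Function.Bijective (Ideal.quotientMap (I.map (algebraMap A A')) (algebraMap A A') Ideal.le_comap_map) →
          Nonempty (Unique (A' →ₐ[A] B))) ∧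
    (∀ x : B, ∃ (A' : Type u) (_ : CommRing A') (_ : Algebra A A') (_ : Algebra.Etale A A'),
        Function.Bijective (Ideal.quotientMap (I.map (algebraMap A A')) (algebraMap A A') Ideal.le_comap_map) ∧
          ∃ (φ : A' →ₐ[A] B) (s : A'), φ s = x) ∧
    (∀ (A' : Type u) [CommRing A'] [Algebra A A'] [Algebra.Etale A A'],
        Function.Bijective (Ideal.quotientMap (I.map (algebraMap A A')) (algebraMap A A') Ideal.le_comap_map) →
          ∀ (φ : A' →ₐ[A] B) (s : A'), φ s = 0 →
            ∃ (A'' : Type u) (_ : CommRing A'') (_ : Algebra A A'') (_ : Algebra.Etale A A''),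
              Function.Bijective (Ideal.quotientMap (I.map (algebraMap A A'')) (algebraMap A A'') Ideal.le_comap_map) ∧
                ∃ ψ : A' →ₐ[A] A'', ψ s = 0) := by
  open Groth.Agent.H3.EtNbhd in
  refine ⟨?_, ?_, ?_⟩
  · intro A' _ _ _ hbij
    have hN : IsNbhd I A' := (isNbhd_iff_bijective A').mpr hbij
    exact ⟨{ default := toHens hB.1 hN, uniq := fun φ => algHom_unique hB.1 hN _ _ }⟩
  · intro x
    obtain ⟨A', _, _, hN, φ, hφ⟩ := imageAlg_eq_top hB x
    have := hN.etale
    obtain ⟨s, hs⟩ := hφ rfl
    exact ⟨A', _, _, hN.etale, (isNbhd_iff_bijective A').mp hN, φ, s, hs⟩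
  · intro A' _ _ _ hbij φ s hs
    have hN : IsNbhd I A' := (isNbhd_iff_bijective A').mpr hbij
    obtain ⟨k, hk1, hks⟩ := exists_mul_eq_zero hB hN φ s hs
    have hN' : IsNbhd I (Localization.Away k) := hN.away k hk1
    have := hN'.etale
    refine ⟨Localization.Away k, _, _, hN'.etale, (isNbhd_iff_bijective _).mp hN',
      IsScalarTower.toAlgHom A A' (Localization.Away k), ?_⟩
    change algebraMap A' (Localization.Away k) s = 0
    have hu : IsUnit (algebraMap A' (Localization.Away k) k) :=
      IsLocalization.Away.algebraMap_isUnit k
    have h1 : algebraMap A' (Localization.Away k) k * algebraMap A' (Localization.Away k) s = 0 := by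
      rw [← map_mul, hks, map_zero]
    exact (hu.mul_right_eq_zero).mp h1

end Groth.Agent.S19568
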