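import Groth.Statements.S1957
import Groth.Agent.H10.EtaleRetract
import Mathlib.RingTheory.Polynomial.UniversalFactorizationRing

set_option autoImplicit false
universe u
open Polynomial
open EtAlg

namespace Groth.Agent.S1957

/-- Let A be a ring, I an ideal and f a monic polynomial over A. Suppose the image of f in (A/I)[x]
factors as g h where the leading coefficient of g is a unit and g, h generate the unit ideal. Then
there is an etale A-algebra A' such that A/I -> A'/IA' is bijective, together with a factorization f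
= g' h' in A'[x] whose reduction modulo IA' is the image of the given one. -/
theorem result (A : Type u) [CommRing A] (I : Ideal A) (f : A[X]) (hf : f.Monic)
    (g h : (A ⧸ I)[X]) (hgh : f.map (Ideal.Quotient.mk I) = g * h) (hlead : IsUnit g.leadingCoeff)
    (hcop : IsCoprime g h) :
    ∃ (A' : Type u) (_ : CommRing A') (_ : Algebra A A') (_ : Algebra.Etale A A'),
      Function.Bijective (Ideal.quotientMap (I.map (algebraMap A A')) (algebraMap A A') Ideal.le_comap_map) ∧
      ∃ g' h' : A'[X], f.map (algebraMap A A') = g' * h' ∧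
        g'.map (Ideal.Quotient.mk (I.map (algebraMap A A'))) =
          g.map (Ideal.quotientMap (I.map (algebraMap A A')) (algebraMap A A') Ideal.le_comap_map) ∧
        h'.map (Ideal.Quotient.mk (I.map (algebraMap A A'))) =
          h.map (Ideal.quotientMap (I.map (algebraMap A A')) (algebraMap A A') Ideal.le_comap_map) := by
  rcases subsingleton_or_nontrivial (A ⧸ I) with hsub | hnt
  · -- degenerate case: I = ⊤
    have hI : I = ⊤ := Ideal.Quotient.subsingleton_iff.mp hsub
    refine ⟨A, inferInstance, inferInstance, inferInstance, ?_, f, 1, by simp, ?_, ?_⟩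
    · have : Subsingleton (A ⧸ I.map (algebraMap A A)) := by
        rw [Ideal.Quotient.subsingleton_iff, hI, Ideal.map_top]
      exact ⟨fun _ _ _ => Subsingleton.elim _ _, fun y => ⟨0, Subsingleton.elim _ _⟩⟩
    all_goals
      have : Subsingleton (A ⧸ I.map (algebraMap A A)) := by
        rw [Ideal.Quotient.subsingleton_iff, hI, Ideal.map_top]
      exact Subsingleton.elim _ _
  -- normalise to monic factors
  obtain ⟨u, hu⟩ := hlead
  set v : A ⧸ I := ↑u⁻¹ with hv
  have huv : (u : A ⧸ I) * v = 1 := Units.mul_inv u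
  have hvu : v * (u : A ⧸ I) = 1 := Units.inv_mul u
  set g₁ : (A ⧸ I)[X] := C v * g with hg₁
  set h₁ : (A ⧸ I)[X] := C (u : A ⧸ I) * h with hh₁
  have hg₁m : g₁.Monic := by
    have hg0 : g ≠ 0 := by
      intro h0
      rw [h0, leadingCoeff_zero] at hu
      exact u.ne_zero hu
    rw [Monic, hg₁, leadingCoeff_mul' (by rw [leadingCoeff_C, ← hu, hvu]; exact one_ne_zero),
      leadingCoeff_C, ← hu, hvu]
  have hprod : g₁ * h₁ = f.map (Ideal.Quotient.mk I) := by
    rw [hgh, hg₁, hh₁]
    calc C v * g * (C (u : A ⧸ I) * h) = C (v * u) * (g * h) := by rw [C_mul]; ring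
      _ = g * h := by rw [hvu, C_1, one_mul]
  have hh₁m : h₁.Monic := hg₁m.of_mul_monic_left (by rw [hprod]; exact hf.map _)
  have hcop₁ : IsCoprime g₁ h₁ := by
    have hCu : IsUnit (C (u : A ⧸ I)) := (u.isUnit).map C
    have hCv : IsUnit (C v) := by
      rw [hv]; exact ((u⁻¹).isUnit).map C
    exact (isCoprime_mul_unit_left_left hCv g h₁).mpr
      ((isCoprime_mul_unit_left_right hCu g h).mpr hcop)
  set n := f.natDegree with hn'
  set m := g₁.natDegree with hm
  set k := h₁.natDegree with hk
  have hn : n = m + k := by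
    rw [hn', ← hf.natDegree_map (Ideal.Quotient.mk I), ← hprod, hg₁m.natDegree_mul hh₁m]
  let p : MonicDegreeEq A n := .mk f hf rfl
  let G₁ : MonicDegreeEq (A ⧸ I) m := .mk g₁ hg₁m rfl
  let H₁ : MonicDegreeEq (A ⧸ I) k := .mk h₁ hh₁m rfl
  let σ : UniversalCoprimeFactorizationRing m k hn p →ₐ[A] A ⧸ I :=
    (UniversalCoprimeFactorizationRing.homEquiv (A ⧸ I) m k hn p).symm ⟨(G₁, H₁), hprod, hcop₁⟩
  have hσ₁ : (UniversalCoprimeFactorizationRing.factor₁ m k hn p).1.map σ.toRingHom = g₁ := by
    have := congrArg (fun q => q.1.1.1)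
      ((UniversalCoprimeFactorizationRing.homEquiv (A ⧸ I) m k hn p).apply_symm_apply
        ⟨(G₁, H₁), hprod, hcop₁⟩)
    simp only [MonicDegreeEq.mk_coe, G₁] at this
    rw [← this]
    simp [σ, UniversalCoprimeFactorizationRing.homEquiv, UniversalFactorizationRing.homEquiv,
      UniversalCoprimeFactorizationRing.factor₁, MonicDegreeEq.map, Polynomial.map_map]
    rfl
  have hσ₂ : (UniversalCoprimeFactorizationRing.factor₂ m k hn p).1.map σ.toRingHom = h₁ := by
    have := congrArg (fun q => q.1.2.1)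
      ((UniversalCoprimeFactorizationRing.homEquiv (A ⧸ I) m k hn p).apply_symm_apply
        ⟨(G₁, H₁), hprod, hcop₁⟩)
    simp only [MonicDegreeEq.mk_coe, H₁] at this
    rw [← this]
    simp [σ, UniversalCoprimeFactorizationRing.homEquiv, UniversalFactorizationRing.homEquiv,
      UniversalCoprimeFactorizationRing.factor₂, MonicDegreeEq.map, Polynomial.map_map]
    rfl
  obtain ⟨u₀, hu₀⟩ := Ideal.Quotient.mk_surjective (u : A ⧸ I)
  set c := algebraMap A (UniversalCoprimeFactorizationRing m k hn p) u₀ with hc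
  have hσc : σ c = (u : A ⧸ I) := by
    rw [hc, σ.commutes, Ideal.Quotient.algebraMap_eq, hu₀]
  have hcu : IsUnit (σ c) := by rw [hσc]; exact u.isUnit
  obtain ⟨A', _, _, _, ι, σ', hσ'ι, hιc, hbij, hq⟩ :=
    Groth.Agent.H10.exists_etale_localization_of_retraction I σ c hcu
  refine ⟨A', inferInstance, inferInstance, inferInstance, hbij, ?_⟩
  set q := Ideal.quotientMap (I.map (algebraMap A A')) (algebraMap A A') Ideal.le_comap_map with hqdef
  obtain ⟨w, hw⟩ := hιc
  set g'₁ : A'[X] := (UniversalCoprimeFactorizationRing.factor₁ m k hn p).1.map ι.toRingHom with hg'₁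
  set h'₁ : A'[X] := (UniversalCoprimeFactorizationRing.factor₂ m k hn p).1.map ι.toRingHom with hh'₁
  have hmk : Ideal.Quotient.mk (I.map (algebraMap A A')) = q.comp σ'.toRingHom :=
    RingHom.ext fun x => (hq x).symm
  have hσ'ιr : σ'.toRingHom.comp ι.toRingHom = σ.toRingHom := by
    rw [← hσ'ι]; rfl
  have hg'₁map : g'₁.map (Ideal.Quotient.mk (I.map (algebraMap A A'))) = g₁.map q := by
    rw [hmk, hg'₁, ← Polynomial.map_map, Polynomial.map_map ι.toRingHom, hσ'ιr, hσ₁]
  have hh'₁map : h'₁.map (Ideal.Quotient.mk (I.map (algebraMap A A'))) = h₁.map q := by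
    rw [hmk, hh'₁, ← Polynomial.map_map, Polynomial.map_map ι.toRingHom, hσ'ιr, hσ₂]
  have hmkw : Ideal.Quotient.mk (I.map (algebraMap A A')) (w : A') = q (u : A ⧸ I) := by
    rw [hw, ← hq, ← hσc, ← hσ'ι]
    rfl
  have hmkwinv : Ideal.Quotient.mk (I.map (algebraMap A A')) ((↑w⁻¹ : A')) = q v := by
    have h1 : Ideal.Quotient.mk (I.map (algebraMap A A')) ((↑w⁻¹ : A')) *
        Ideal.Quotient.mk (I.map (algebraMap A A')) (w : A') = 1 := by
      rw [← map_mul, Units.inv_mul, map_one]
    have h2 : q (u : A ⧸ I) * q v = 1 := by rw [← map_mul, huv, map_one]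
    calc Ideal.Quotient.mk (I.map (algebraMap A A')) ((↑w⁻¹ : A'))
        = Ideal.Quotient.mk (I.map (algebraMap A A')) ((↑w⁻¹ : A')) * (q (u : A ⧸ I) * q v) := by
          rw [h2, mul_one]
      _ = q v := by rw [← mul_assoc, ← hmkw, h1, one_mul]
  refine ⟨C (w : A') * g'₁, C (↑w⁻¹ : A') * h'₁, ?_, ?_, ?_⟩
  · have h1 : g'₁ * h'₁ = f.map (algebraMap A A') := by
      rw [hg'₁, hh'₁, ← Polynomial.map_mul,
        UniversalCoprimeFactorizationRing.factor₁_mul_factor₂]
      change map ι.toRingHom (map (algebraMap A _) f) = _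
      rw [Polynomial.map_map]
      congr 1
      exact ι.comp_algebraMap
    calc f.map (algebraMap A A') = C ((w : A') * ↑w⁻¹) * (g'₁ * h'₁) := by
          rw [Units.mul_inv, C_1, one_mul, h1]
      _ = C (w : A') * g'₁ * (C (↑w⁻¹ : A') * h'₁) := by rw [C_mul]; ring
  · rw [Polynomial.map_mul, Polynomial.map_C, hmkw, hg'₁map, ← Polynomial.map_C, ← Polynomial.map_mul]
    congr 1
    rw [hg₁, ← mul_assoc, ← C_mul, huv, C_1, one_mul]
  · rw [Polynomial.map_mul, Polynomial.map_C, hmkwinv, hh'₁map, ← Polynomial.map_C,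
      ← Polynomial.map_mul]
    congr 1
    rw [hh₁, ← mul_assoc, ← C_mul, hvu, C_1, one_mul]

end Groth.Agent.S1957
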