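import Groth.Statements.S19571
import Mathlib

set_option autoImplicit false
universe u
open EtaPt
open CategoryTheory AlgebraicGeometry

namespace Groth.Agent.S19571

/-- Let f : Y → X be a morphism of schemes which is flat, surjective and locally of finite presentation.
Then every affine open U of X is covered by affine opens V each of which is the image f(W) of some
affine open W of Y; stated pointwise: for every x ∈ U there are an affine open V of X with x ∈ V ≤ U
and an affine open W of Y with f(W) = V as sets. (For such V and W the induced ring map Γ(V) → Γ(W)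
is then faithfully flat.) -/
theorem result
    {X Y : Scheme.{u}} (f : Y ⟶ X) [Flat f] [Surjective f] [LocallyOfFinitePresentation f]
    (U : X.affineOpens) (x : X) (hx : x ∈ (U : X.Opens)) :
    ∃ V : X.affineOpens, x ∈ (V : X.Opens) ∧ (V : X.Opens) ≤ (U : X.Opens) ∧
      ∃ W : Y.affineOpens, f.base '' ((W : Y.Opens) : Set Y) = ((V : X.Opens) : Set X) := by
  obtain ⟨y, rfl⟩ := f.surjective x
  -- an affine open neighbourhood of y inside the preimage of U
  have hy : y ∈ f ⁻¹ᵁ (U : X.Opens) := hx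
  obtain ⟨_, ⟨W', hW', rfl⟩, hyW', hW'U⟩ :=
    Y.isBasis_affineOpens.exists_subset_of_mem_open hy (f ⁻¹ᵁ (U : X.Opens)).2
  -- its image is open
  have hopen : IsOpen (f.base '' (W' : Set Y)) := f.isOpenMap _ W'.2
  let O : X.Opens := ⟨f.base '' (W' : Set Y), hopen⟩
  have hxO : f.base y ∈ O := ⟨y, hyW', rfl⟩
  obtain ⟨s, hsO, hxs⟩ := U.2.exists_basicOpen_le (V := O) ⟨f.base y, hxO⟩ hx
  refine ⟨⟨X.basicOpen s, U.2.basicOpen s⟩, hxs, X.basicOpen_le s, ?_⟩
  -- the affine open W
  let t : Γ(Y, W') := Y.presheaf.map (homOfLE hW'U).op (f.app U s)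
  have hWeq : Y.basicOpen t = W' ⊓ f ⁻¹ᵁ X.basicOpen s := by
    rw [Scheme.preimage_basicOpen]
    exact Scheme.basicOpen_res _ _ _
  refine ⟨⟨Y.basicOpen t, IsAffineOpen.basicOpen hW' t⟩, ?_⟩
  show f.base '' ((Y.basicOpen t : Y.Opens) : Set Y) = ((X.basicOpen s : X.Opens) : Set X)
  rw [hWeq]
  apply Set.Subset.antisymm
  · rintro _ ⟨w, ⟨_, hw2⟩, rfl⟩
    exact hw2
  · intro v hv
    obtain ⟨w, hwW', rfl⟩ := hsO hv
    exact ⟨w, ⟨hwW', hv⟩, rfl⟩

end Groth.Agent.S19571
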