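import Groth.Statements.S19574
import Mathlib
import Groth.Agent.H97.FlatRes

set_option autoImplicit false
universe u
open CategoryTheory MonoidalCategory
open Lie3Mod

namespace Groth.Agent.S19574

/-- Let R be a commutative ring and d ≥ 1. Let K be a chain complex of R-modules concentrated in degrees
0, …, d + 1, written … → 0 → P_{d+1} → P_d → … → P_1 → M with M = K_0, which is exact (so 0 →
P_{d+1} → … → P_1 → M → 0 is an exact sequence), such that P_1, …, P_d are flat R-modules and such
that for every ideal I of R the complex obtained by applying (R/I) ⊗_R − termwise is again exact.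
Then M is a flat R-module. (No flatness is assumed for P_{d+1}. The published lemma adds that for R
Noetherian it suffices to test prime ideals I; that refinement is not part of this statement.) -/
theorem result (R : Type u) [CommRing R]
    (d : ℕ) (hd : 1 ≤ d) (K : ChainComplex (ModuleCat.{u} R) ℕ)
    (hzero : ∀ i : ℕ, d + 1 < i → Limits.IsZero (K.X i))
    (hflat : ∀ i : ℕ, 1 ≤ i → i ≤ d → Module.Flat R (K.X i))
    (hK : K.Acyclic)
    (hbc : ∀ I : Ideal R,
      (((tensorLeft (ModuleCat.of R (R ⧸ I))).mapHomologicalComplex (ComplexShape.down ℕ)).obj K).Acyclic) :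
    Module.Flat R (K.X 0) := by
  haveI : Module.Flat R (K.X 1) := hflat 1 le_rfl hd
  have e1 : (K.sc' 2 1 0).Exact :=
    (K.exactAt_iff' 2 1 0 (by simp) (by simp)).mp (hK 1)
  have e0 : (K.sc' 1 0 0).Exact :=
    (K.exactAt_iff' 1 0 0 (by simp) (by simp)).mp (hK 0)
  have h1 : Function.Exact (K.d 2 1).hom (K.d 1 0).hom :=
    (ShortComplex.ShortExact.moduleCat_exact_iff_function_exact _).mp e1
  have h0 : Function.Exact (K.d 1 0).hom (K.d 0 0).hom :=
    (ShortComplex.ShortExact.moduleCat_exact_iff_function_exact _).mp e0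
  have hsurj : Function.Surjective (K.d 1 0).hom := by
    intro m
    have hz : (K.d 0 0).hom m = 0 := by
      rw [K.shape 0 0 (by simp)]
      rfl
    exact (h0 m).mp hz
  have h32 : (K.d 2 1).hom ∘ₗ (K.d 3 2).hom = 0 := by
    rw [← ModuleCat.hom_comp, K.d_comp_d]
    rfl
  apply Groth.Agent.H97.flat_of_partial_resolution (K.d 3 2).hom (K.d 2 1).hom (K.d 1 0).hom h32 h1 hsurj
  intro I
  have e2 := ((((tensorLeft (ModuleCat.of R (R ⧸ I))).mapHomologicalComplex
    (ComplexShape.down ℕ)).obj K).exactAt_iff' 3 2 1 (by simp) (by simp)).mp (hbc I 2)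
  exact (ShortComplex.ShortExact.moduleCat_exact_iff_function_exact _).mp e2

end Groth.Agent.S19574
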