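import Groth.Statements.S19575
import Groth.Agent.H69.EtaRelAway

set_option autoImplicit false
universe u
open EtaPt

namespace Groth.Agent.S19575

/-- Let η be the field-endofunctor datum of the pointwise construction, A a commutative ring with
finitely many minimal prime ideals and φ : A → B a ring map inducing a surjection on prime spectra.
If the canonical map A → (B/A)_η (the corestriction of φ onto the subring of B of elements whose
image in ∏_q F(k(q)) comes from M_η(A)) is bijective, then for every f ∈ A the canonical map A_f →
(B_f/A_f)_η attached to the localized map A_f → B_{φ(f)} is bijective as well. -/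
theorem result (η : EtaPt.FieldEndo.{u}) {A B : Type u} [CommRing A] [CommRing B]
    (hA : (minimalPrimes A).Finite) (φ : A →+* B) (hs : Function.Surjective (PrimeSpectrum.comap φ))
    (h : Function.Bijective (η.qRel φ)) (f : A) :
    Function.Bijective (η.qRel (Localization.awayMap φ f)) := by
  obtain ⟨-, h2⟩ := Groth.Agent.H69.rel_away η φ f (Localization.awayMap φ f)
    (IsLocalization.map_comp _)
    (fun y hy => Groth.Agent.H69.exists_mem_M_of_mem_M_away η hA f hy)
  have hmap : ∀ a : A, Localization.awayMap φ f (algebraMap A (Localization.Away f) a) =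
      algebraMap B (Localization.Away (φ f)) (φ a) := fun a => IsLocalization.map_eq _ a
  have huA : IsUnit (algebraMap A (Localization.Away f) f) :=
    IsLocalization.Away.algebraMap_isUnit f
  have huB : IsUnit (algebraMap B (Localization.Away (φ f)) (φ f)) :=
    IsLocalization.Away.algebraMap_isUnit (φ f)
  constructor
  · rw [injective_iff_map_eq_zero]
    intro x hx
    have hx' : Localization.awayMap φ f x = 0 := congrArg Subtype.val hx
    obtain ⟨n, a, hna⟩ := IsLocalization.Away.surj f x
    have h0 : algebraMap B (Localization.Away (φ f)) (φ a) = 0 := by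
      rw [← hmap, ← hna, map_mul, hx', zero_mul]
    obtain ⟨⟨_, m, rfl⟩, hm⟩ :=
      (IsLocalization.map_eq_zero_iff (Submonoid.powers (φ f)) (Localization.Away (φ f)) (φ a)).1 h0
    have hm' : φ (f ^ m * a) = 0 := by rw [map_mul, map_pow]; exact hm
    have h3 : f ^ m * a = 0 := by
      apply h.1
      apply Subtype.ext
      show φ (f ^ m * a) = φ 0
      rw [hm', map_zero]
    have h4 : algebraMap A (Localization.Away f) a = 0 := by
      have := congrArg (algebraMap A (Localization.Away f)) h3
      rw [map_mul, map_pow, map_zero] at this
      exact (huA.pow m).mul_right_eq_zero.1 this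
    rw [h4] at hna
    exact (huA.pow n).mul_left_eq_zero.1 hna
  · rintro ⟨y, hy⟩
    obtain ⟨x, hx, n, hn⟩ := h2 y hy
    obtain ⟨a, ha⟩ := h.2 ⟨x, hx⟩
    have ha' : φ a = x := congrArg Subtype.val ha
    let z : Localization.Away f :=
      IsLocalization.mk' (Localization.Away f) a (⟨f ^ n, n, rfl⟩ : Submonoid.powers f)
    have hz : z * algebraMap A (Localization.Away f) f ^ n = algebraMap A (Localization.Away f) a := by
      rw [← map_pow]
      exact IsLocalization.mk'_spec (Localization.Away f) a (⟨f ^ n, n, rfl⟩ : Submonoid.powers f)
    refine ⟨z, Subtype.ext ?_⟩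
    show Localization.awayMap φ f z = y
    apply (huB.pow n).mul_left_injective
    show Localization.awayMap φ f z * _ = y * _
    rw [hn, ← ha', ← hmap a, ← hz, map_mul, map_pow, hmap f]

end Groth.Agent.S19575
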