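import Groth.Statements.S19576
import Groth.Agent.H69.EtaRelAway

set_option autoImplicit false
universe u
open EtaPt

namespace Groth.Agent.S19576

/-- Let η be the field-endofunctor datum of the pointwise construction, A a commutative ring with
finitely many minimal prime ideals and φ : A → B a ring map inducing a surjection on prime spectra.
If finitely many elements f_1, …, f_n of A generate the unit ideal and, for each i, the canonical
map A_{f_i} → (B_{f_i}/A_{f_i})_η attached to the localized map A_{f_i} → B_{φ(f_i)} is bijective,
then the canonical map A → (B/A)_η is bijective. -/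
theorem result (η : EtaPt.FieldEndo.{u}) {A B : Type u} [CommRing A] [CommRing B]
    (hA : (minimalPrimes A).Finite) (φ : A →+* B) (hs : Function.Surjective (PrimeSpectrum.comap φ))
    (s : Finset A) (hspan : Ideal.span (s : Set A) = ⊤)
    (h : ∀ f ∈ s, Function.Bijective (η.qRel (Localization.awayMap φ f))) :
    Function.Bijective (η.qRel φ) := by
  classical
  have hmap : ∀ (f a : A), Localization.awayMap φ f (algebraMap A (Localization.Away f) a) =
      algebraMap B (Localization.Away (φ f)) (φ a) := fun f a => IsLocalization.map_eq _ a
  constructor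
  · rw [injective_iff_map_eq_zero]
    intro a ha
    have ha' : φ a = 0 := congrArg Subtype.val ha
    have : a ∈ (⊥ : Submodule A A) := by
      apply Submodule.mem_of_span_eq_top_of_smul_pow_mem _ (s : Set A) hspan
      rintro ⟨f, hf⟩
      have h0 : algebraMap A (Localization.Away f) a = 0 := by
        apply (h f hf).1
        apply Subtype.ext
        show Localization.awayMap φ f (algebraMap A (Localization.Away f) a) =
          Localization.awayMap φ f 0
        rw [hmap, ha', map_zero, map_zero]
      obtain ⟨⟨_, m, rfl⟩, hm⟩ :=
        (IsLocalization.map_eq_zero_iff (Submonoid.powers f) (Localization.Away f) a).1 h0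
      exact ⟨m, by simpa using hm⟩
    simpa using this
  · rintro ⟨b, hb⟩
    let _ : Algebra A B := φ.toAlgebra
    have hmem : b ∈ LinearMap.range (Algebra.linearMap A B) := by
      apply Submodule.mem_of_span_eq_top_of_smul_pow_mem _ (s : Set A) hspan
      rintro ⟨f, hf⟩
      obtain ⟨h1, -⟩ := Groth.Agent.H69.rel_away η φ f (Localization.awayMap φ f)
        (IsLocalization.map_comp _)
        (fun y hy => Groth.Agent.H69.exists_mem_M_of_mem_M_away η hA f hy)
      have hb' : algebraMap B (Localization.Away (φ f)) b ∈ η.rel (Localization.awayMap φ f) :=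
        h1 ⟨b, hb, rfl⟩
      obtain ⟨z, hz⟩ := (h f hf).2 ⟨_, hb'⟩
      have hz' : Localization.awayMap φ f z = algebraMap B (Localization.Away (φ f)) b :=
        congrArg Subtype.val hz
      obtain ⟨n, a, hna⟩ := IsLocalization.Away.surj f z
      have h3 : algebraMap B (Localization.Away (φ f)) (φ a) =
          algebraMap B (Localization.Away (φ f)) (b * φ f ^ n) := by
        rw [← hmap, ← hna, map_mul, map_pow, hmap, hz', map_mul, map_pow]
      obtain ⟨⟨_, m, rfl⟩, hm⟩ :=
        (IsLocalization.eq_iff_exists (Submonoid.powers (φ f)) (Localization.Away (φ f))).1 h3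
      refine ⟨m + n, f ^ m * a, ?_⟩
      show φ (f ^ m * a) = φ (f ^ (m + n)) * b
      rw [map_mul, map_pow, map_pow, hm, pow_add]
      ring
    obtain ⟨a, ha⟩ := hmem
    exact ⟨a, Subtype.ext ha⟩

end Groth.Agent.S19576
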