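import Groth.Statements.S19577
import Groth.Agent.H69.EtaRel

set_option autoImplicit false
universe u
open EtaPt

namespace Groth.Agent.S19577

/-- Let f : A → B be a homomorphism of commutative rings, each with only finitely many minimal primes.
Then M_η(f) : M_η(A) → M_η(B) is integral exactly when f is integral, and Spec M_η(f) is surjective
exactly when Spec f is. Here η is the field-endofunctor datum of the pointwise construction, M_η(A)
⊆ ∏_p F(k(p)) the subring attached to A with q_A : A → M_η(A), and M_η(f) : M_η(A) → M_η(B) the ring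
map induced by N_η(f), pinned here as the ring map g compatible with N_η(f) under the two subring
inclusions. -/
theorem result (η : EtaPt.FieldEndo.{u}) {A B : Type u} [CommRing A] [CommRing B]
    (hA : (minimalPrimes A).Finite) (hB : (minimalPrimes B).Finite) (f : A →+* B)
    (g : η.M A →+* η.M B) (hg : ∀ x : η.M A, ((g x : η.M B) : η.N B) = η.Nmap f (x : η.N A)) :
    (f.IsIntegral ↔ g.IsIntegral) ∧
      (Function.Surjective (PrimeSpectrum.comap f) ↔ Function.Surjective (PrimeSpectrum.comap g)) := by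
  have hcomm : g.comp (η.q A) = (η.q B).comp f := by
    refine RingHom.ext fun a => ?_
    apply Subtype.ext
    rw [RingHom.comp_apply, hg]
    show η.Nmap f (η.t A a) = η.t B (f a)
    exact η.Nmap_t_apply f a
  have hspec : ∀ Q' : PrimeSpectrum (η.M B),
      PrimeSpectrum.comap f (PrimeSpectrum.comap (η.q B) Q') =
        PrimeSpectrum.comap (η.q A) (PrimeSpectrum.comap g Q') := by
    intro Q'
    apply PrimeSpectrum.ext
    show Ideal.comap f (Ideal.comap (η.q B) Q'.asIdeal) =
      Ideal.comap (η.q A) (Ideal.comap g Q'.asIdeal)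
    rw [Ideal.comap_comap, Ideal.comap_comap, hcomm]
  refine ⟨⟨?_, ?_⟩, ⟨?_, ?_⟩⟩
  · intro hf
    have h1 : ((η.q B).comp f).IsIntegral :=
      RingHom.IsIntegral.trans f (η.q B) hf (Groth.Agent.H69.q_isIntegral η hB)
    rw [← hcomm] at h1
    exact RingHom.IsIntegral.tower_top _ _ h1
  · intro hgi b
    have h1 : (g.comp (η.q A)).IsIntegral :=
      RingHom.IsIntegral.trans (η.q A) g (Groth.Agent.H69.q_isIntegral η hA) hgi
    rw [hcomm] at h1
    obtain ⟨P, hP, hroot⟩ := h1 (η.q B b)
    rw [← Polynomial.hom_eval₂] at hroot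
    have h2 : η.t B (Polynomial.eval₂ f b P) = 0 := congrArg Subtype.val hroot
    obtain ⟨m, hm⟩ := Groth.Agent.H69.isNilpotent_of_t_eq_zero η h2
    refine ⟨P ^ m, hP.pow m, ?_⟩
    rw [Polynomial.eval₂_pow, hm]
  · intro hf Q
    obtain ⟨P', hP'⟩ := hf (PrimeSpectrum.comap (η.q A) Q)
    obtain ⟨Q', hQ'⟩ := Groth.Agent.H69.comap_q_surjective η P'
    refine ⟨Q', ?_⟩
    apply Groth.Agent.H69.comap_q_injective η hA
    rw [← hspec, hQ', hP']
  · intro hgs p
    obtain ⟨Q, hQ⟩ := Groth.Agent.H69.comap_q_surjective η p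
    obtain ⟨Q', hQ'⟩ := hgs Q
    exact ⟨PrimeSpectrum.comap (η.q B) Q', by rw [hspec, hQ', hQ]⟩

end Groth.Agent.S19577
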