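import Groth.Statements.S19578
import Groth.Agent.H69.EtaRel

set_option autoImplicit false
universe u
open EtaPt

namespace Groth.Agent.S19578

/-- Let f : A → B be a homomorphism of commutative rings, each with only finitely many minimal primes,
and suppose the induced map M_η(f) : M_η(A) → M_η(B) is an isomorphism. Then Spec f is a bijection
between the prime ideals of B and of A, and for every prime q of B, with p = f⁻¹(q), there is a ring
map φ : k(q) → F(k(p)) whose composite with the residue field map k(p) → k(q) equals η_{k(p)}. Here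
η is the field-endofunctor datum of the pointwise construction, M_η(A) ⊆ ∏_p F(k(p)) the subring
attached to A with q_A : A → M_η(A), and M_η(f) : M_η(A) → M_η(B) the ring map induced by N_η(f),
pinned here as the ring map g compatible with N_η(f) under the two subring inclusions. -/
theorem result (η : EtaPt.FieldEndo.{u}) {A B : Type u} [CommRing A] [CommRing B]
    (hA : (minimalPrimes A).Finite) (hB : (minimalPrimes B).Finite) (f : A →+* B)
    (g : η.M A →+* η.M B) (hg : ∀ x : η.M A, ((g x : η.M B) : η.N B) = η.Nmap f (x : η.N A))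
    (hbij : Function.Bijective g) :
    Function.Bijective (PrimeSpectrum.comap f) ∧
      ∀ Q : PrimeSpectrum B,
        ∃ φ : Q.asIdeal.ResidueField →+* η.obj (PrimeSpectrum.comap f Q).asIdeal.ResidueField,
          φ.comp (Ideal.ResidueField.map (PrimeSpectrum.comap f Q).asIdeal Q.asIdeal f rfl) =
            η.eta (PrimeSpectrum.comap f Q).asIdeal.ResidueField := by
  classical
  have hcomm : g.comp (η.q A) = (η.q B).comp f := by
    refine RingHom.ext fun a => ?_
    apply Subtype.ext
    rw [RingHom.comp_apply, hg]
    show η.Nmap f (η.t A a) = η.t B (f a)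
    exact η.Nmap_t_apply f a
  have hspec : ∀ Q' : PrimeSpectrum (η.M B),
      PrimeSpectrum.comap f (PrimeSpectrum.comap (η.q B) Q') =
        PrimeSpectrum.comap (η.q A) (PrimeSpectrum.comap g Q') := by
    intro Q'
    apply PrimeSpectrum.ext
    show Ideal.comap f (Ideal.comap (η.q B) Q'.asIdeal) =
      Ideal.comap (η.q A) (Ideal.comap g Q'.asIdeal)
    rw [Ideal.comap_comap, Ideal.comap_comap, hcomm]
  let e : η.M A ≃+* η.M B := RingEquiv.ofBijective g hbij
  have he : ∀ x, e x = g x := fun x => rfl
  have hginj : Function.Injective (PrimeSpectrum.comap g) :=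
    PrimeSpectrum.comap_injective_of_surjective g hbij.2
  have hgsurj : Function.Surjective (PrimeSpectrum.comap g) := by
    intro Q
    refine ⟨PrimeSpectrum.comap e.symm.toRingHom Q, ?_⟩
    apply PrimeSpectrum.ext
    ext x
    show e.symm (g x) ∈ Q.asIdeal ↔ x ∈ Q.asIdeal
    rw [← he, e.symm_apply_apply]
  refine ⟨⟨?_, ?_⟩, ?_⟩
  · intro P₁ P₂ h12
    obtain ⟨Q₁, rfl⟩ := Groth.Agent.H69.comap_q_surjective η P₁
    obtain ⟨Q₂, rfl⟩ := Groth.Agent.H69.comap_q_surjective η P₂
    rw [hspec, hspec] at h12
    have := hginj (Groth.Agent.H69.comap_q_injective η hA h12)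
    rw [this]
  · intro p
    obtain ⟨Q, hQ⟩ := Groth.Agent.H69.comap_q_surjective η p
    obtain ⟨Q', hQ'⟩ := hgsurj Q
    exact ⟨PrimeSpectrum.comap (η.q B) Q', by rw [hspec, hQ', hQ]⟩
  · intro Q
    set P := PrimeSpectrum.comap f Q with hP
    let ψ : B →+* η.obj P.asIdeal.ResidueField :=
      (Groth.Agent.H69.evalM η P).comp (e.symm.toRingHom.comp (η.q B))
    have hψ : ∀ b : B, η.map (Groth.Agent.H69.resMap f Q) (ψ b) =
        η.eta Q.asIdeal.ResidueField (algebraMap B Q.asIdeal.ResidueField b) := by
      intro b
      have h1 : g (e.symm (η.q B b)) = η.q B b := by rw [← he, e.apply_symm_apply]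
      have h2 := congrArg (fun z : η.M B => (z : η.N B) Q) h1
      simp only [hg] at h2
      rw [Groth.Agent.H69.Nmap_apply] at h2
      exact h2
    have hker : ∀ b : B, ψ b = 0 ↔ b ∈ Q.asIdeal := by
      intro b
      rw [← map_eq_zero_iff _ (Groth.Agent.H69.map_injective η (Groth.Agent.H69.resMap f Q)), hψ,
        map_eq_zero_iff _ (Groth.Agent.H69.eta_injective η _),
        Ideal.algebraMap_residueField_eq_zero]
    let φ : Q.asIdeal.ResidueField →+* η.obj P.asIdeal.ResidueField :=
      Ideal.ResidueField.lift Q.asIdeal ψ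
        (by
          intro x hx
          rw [RingHom.mem_ker]
          exact (hker x).2 hx)
        (by
          intro x hx
          rw [Submonoid.mem_comap]
          show IsUnit _
          rw [isUnit_iff_ne_zero]
          intro h0
          exact hx ((hker x).1 h0))
    refine ⟨φ, ?_⟩
    apply Ideal.ResidueField.ringHom_ext
    apply RingHom.ext
    intro a
    show φ (Groth.Agent.H69.resMap f Q (algebraMap A _ a)) = _
    rw [Groth.Agent.H69.resMap_algebraMap]
    have h1 : φ (algebraMap B _ (f a)) = ψ (f a) :=
      Ideal.ResidueField.lift_algebraMap _ _ _ _ _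
    rw [h1]
    show Groth.Agent.H69.evalM η P (e.symm (η.q B (f a))) = _
    have h2 : e.symm (η.q B (f a)) = η.q A a := by
      rw [e.symm_apply_eq, he]
      exact (RingHom.congr_fun hcomm a).symm
    rw [h2]
    rfl

end Groth.Agent.S19578
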