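import Groth.Statements.S19586
import Groth.Agent.H94.ExtPowerAnn
import Groth.Agent.H94.Hypersurface2

set_option autoImplicit false
universe u
open KaehlerDifferential
open LocInt

namespace Groth.Agent.S19586

/-- Let A → B be a smooth ring map with Ω_{B/A} of rank n at every prime of B, g ∈ B a nonzerodivisor
and R = B/gB, so that Spec R is a hypersurface of virtual relative dimension n − 1 over Spec A. Let
J ⊆ R be the annihilator of the n-th exterior power of Ω_{R/A} and Z = V(J) ⊆ Spec R. Then the
underlying set of Z is exactly the set of primes at which R is not smooth over A: for a prime p of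
R, J ⊆ p if and only if the localization R_p is not formally smooth over A. -/
theorem result (A B R : Type u) [CommRing A] [CommRing B] [CommRing R]
    [Algebra A B] [Algebra B R] [Algebra A R] [IsScalarTower A B R] [Algebra.Smooth A B] (n : ℕ)
    (hn : ∀ p : PrimeSpectrum B, Module.rankAtStalk (Ω[B⁄A]) p = n)
    (g : B) (hg : IsSMulRegular B g) (hsurj : Function.Surjective (algebraMap B R))
    (hker : RingHom.ker (algebraMap B R) = Ideal.span {g}) (p : PrimeSpectrum R) :
    (⋀[R]^n (Ω[R⁄A])).annihilator ≤ p.asIdeal ↔ p ∉ Algebra.smoothLocus A R := by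
  classical
  open TensorProduct Groth.Agent.H94 in
  -- finiteness
  haveI : Algebra.FiniteType A R :=
    Algebra.FiniteType.of_surjective (IsScalarTower.toAlgHom A B R) hsurj
  let K := p.asIdeal.ResidueField
  let q : Ideal B := p.asIdeal.comap (algebraMap B R)
  haveI : q.IsPrime := Ideal.comap_isPrime _ _
  -- the presentation `Ω[R/A] = (R ⊗ Ω[B/A]) / R w`
  let f : R ⊗[B] Ω[B⁄A] →ₗ[R] Ω[R⁄A] := KaehlerDifferential.mapBaseChange A B R
  have hfsurj : Function.Surjective f := KaehlerDifferential.mapBaseChange_surjective A B R hsurj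
  let w : R ⊗[B] Ω[B⁄A] := (1 : R) ⊗ₜ[B] D A B g
  have hgR : algebraMap B R g = 0 := by
    rw [← RingHom.mem_ker, hker]; exact Ideal.mem_span_singleton_self g
  have hkerf : LinearMap.ker f = Submodule.span R {w} := by
    apply le_antisymm
    · intro z hz
      have hz' : z ∈ (LinearMap.ker (KaehlerDifferential.mapBaseChange A B R)).restrictScalars B := hz
      rw [← KaehlerDifferential.range_kerCotangentToTensor A B R hsurj] at hz'
      obtain ⟨c, rfl⟩ := hz'
      obtain ⟨j, rfl⟩ := Ideal.toCotangent_surjective _ c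
      rw [KaehlerDifferential.kerCotangentToTensor_toCotangent]
      have hj : (j : B) ∈ Ideal.span {g} := hker ▸ j.2
      obtain ⟨b, hb⟩ := Ideal.mem_span_singleton'.mp hj
      rw [← hb, Derivation.leibniz, TensorProduct.tmul_add, TensorProduct.tmul_smul,
        TensorProduct.tmul_smul]
      have h1 : g • ((1 : R) ⊗ₜ[B] D A B b) = 0 := by
        rw [TensorProduct.smul_tmul', Algebra.smul_def, mul_one, hgR, TensorProduct.zero_tmul]
      rw [h1, add_zero]
      have h2 : b • ((1 : R) ⊗ₜ[B] D A B g) = (algebraMap B R b) • w := by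
        rw [algebraMap_smul]
      rw [h2]
      exact Submodule.smul_mem _ _ (Submodule.mem_span_singleton_self w)
    · rw [Submodule.span_le, Set.singleton_subset_iff, SetLike.mem_coe, LinearMap.mem_ker]
      show KaehlerDifferential.mapBaseChange A B R ((1 : R) ⊗ₜ[B] D A B g) = 0
      rw [KaehlerDifferential.mapBaseChange_tmul, KaehlerDifferential.map_D, hgR, map_zero,
        smul_zero]
  -- rank of `K ⊗ (R ⊗ Ω[B/A])`
  have hrank : Module.finrank K (K ⊗[R] (R ⊗[B] Ω[B⁄A])) = n := by
    have h1 := Module.rankAtStalk_eq (M := R ⊗[B] Ω[B⁄A]) p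
    rw [Module.rankAtStalk_baseChange, hn] at h1
    exact h1.symm
  haveI : FiniteDimensional K (K ⊗[R] (R ⊗[B] Ω[B⁄A])) := inferInstance
  -- Step A: the annihilator condition in terms of `1 ⊗ w`
  have hA : (⋀[R]^n (Ω[R⁄A])).annihilator ≤ p.asIdeal ↔ (1 : K) ⊗ₜ[R] w = 0 := by
    rw [← ExtPowerAnn.finrank_le_finrank_iff K f hfsurj w hkerf, hrank]
    exact ExtPowerAnn.ann_extPower_le_iff p n
  -- Step B: move to `K ⊗[B] Ω[B/A]`
  have hB : (1 : K) ⊗ₜ[R] w = 0 ↔ (1 : K) ⊗ₜ[B] D A B g = 0 := by
    let c := AlgebraTensorModule.cancelBaseChange B R K K Ω[B⁄A]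
    have hc : c ((1 : K) ⊗ₜ[R] w) = (1 : K) ⊗ₜ[B] D A B g := by
      show c ((1 : K) ⊗ₜ[R] ((1 : R) ⊗ₜ[B] D A B g)) = _
      rw [AlgebraTensorModule.cancelBaseChange_tmul, one_smul]
    rw [← hc, LinearEquiv.map_eq_zero_iff]
  -- Step C: the Jacobian criterion
  haveI : Algebra.IsSmoothAt A q := by
    have h1 : (⟨q, inferInstance⟩ : PrimeSpectrum B) ∈ Algebra.smoothLocus A B := by
      rw [Algebra.smoothLocus_eq_univ]; trivial
    exact h1
  have hKq : RingHom.ker (algebraMap B K) = q := by
    rw [IsScalarTower.algebraMap_eq B R K, ← RingHom.comap_ker,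
      Ideal.ker_algebraMap_residueField]
  have hgq : algebraMap B (Localization.AtPrime q) g ≠ 0 := by
    intro h0
    obtain ⟨s, hs⟩ := (IsLocalization.map_eq_zero_iff q.primeCompl
      (Localization.AtPrime q) g).mp h0
    have hs0 : (s : B) = 0 := by
      apply hg
      show g • (s : B) = g • 0
      rw [smul_zero, smul_eq_mul, mul_comm]
      exact hs
    exact s.2 (hs0 ▸ q.zero_mem)
  have hC := Hypersurface2.isSmoothAt_iff_of_surjective A g hsurj hker p.asIdeal q rfl K hKq
  rw [hA, hB]
  show _ ↔ ¬ Algebra.IsSmoothAt A p.asIdeal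
  rw [hC]
  constructor
  · rintro h0 (h1 | h1)
    · exact hgq h1
    · exact h1 h0
  · intro h
    by_contra h0
    exact h (Or.inr h0)

end Groth.Agent.S19586
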