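import Groth.Statements.S1959
import Groth.Agent.H10.IntegralIdeal

set_option autoImplicit false
universe u
open Polynomial
open EtAlg

namespace Groth.Agent.S1959

/-- Let I be an ideal of a ring A, A -> B an integral ring map and b an element of B whose image in B/IB
is idempotent. Then there are d ≥ 1 and a monic polynomial f over A with f(b) = 0 whose reduction
modulo I is x^d (x - 1)^d. -/
theorem result (A B : Type u) [CommRing A] [CommRing B] [Algebra A B]
    [Algebra.IsIntegral A B] (I : Ideal A) (b : B)
    (hb : IsIdempotentElem (Ideal.Quotient.mk (I.map (algebraMap A B)) b)) :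
    ∃ (f : A[X]) (d : ℕ), f.Monic ∧ 1 ≤ d ∧ aeval b f = 0 ∧
      f.map (Ideal.Quotient.mk I) = X ^ d * (X - 1) ^ d := by
  rcases subsingleton_or_nontrivial A with hA | hA
  · have hB : Subsingleton B := by
      refine subsingleton_of_zero_eq_one ?_
      rw [← map_zero (algebraMap A B), ← map_one (algebraMap A B), Subsingleton.elim (0 : A) 1]
    exact ⟨1, 1, monic_one, le_rfl, Subsingleton.elim _ _, Subsingleton.elim _ _⟩
  have hc : b ^ 2 - b ∈ I.map (algebraMap A B) := by
    rw [← Ideal.Quotient.eq, map_pow, pow_two]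
    exact hb
  obtain ⟨p, hp, hcoeff, hpe⟩ :=
    Groth.Agent.H10.exists_monic_coeff_mem_pow_of_mem_map I (b ^ 2 - b) hc
  set q : A[X] := X ^ 2 - X with hq
  have hdeg : (X : A[X]).degree < ((2 : ℕ) : WithBot ℕ) := by
    rw [degree_X]; norm_num
  have hqm : q.Monic := by
    rw [hq]
    exact monic_X_pow_sub hdeg
  have hqdeg : q.natDegree = 2 := by
    rw [hq]
    refine (natDegree_sub_eq_left_of_natDegree_lt ?_).trans (natDegree_X_pow 2)
    rw [natDegree_X_pow, natDegree_X]
    norm_num
  have hpmap : p.map (Ideal.Quotient.mk I) = X ^ p.natDegree := by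
    ext k
    rw [coeff_map, coeff_X_pow]
    split_ifs with h
    · rw [h, hp.coeff_natDegree, map_one]
    · rcases lt_or_gt_of_ne h with h' | h'
      · rw [Ideal.Quotient.eq_zero_iff_mem]
        exact Ideal.pow_le_self (by omega) (hcoeff k)
      · rw [coeff_eq_zero_of_natDegree_lt h', map_zero]
  refine ⟨p.comp q * q, p.natDegree + 1, (hp.comp hqm (by rw [hqdeg]; norm_num)).mul hqm,
    by omega, ?_, ?_⟩
  · rw [map_mul, aeval_comp]
    have : aeval b q = b ^ 2 - b := by simp [hq]
    rw [this, hpe, zero_mul]
  · rw [Polynomial.map_mul, Polynomial.map_comp, hpmap]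
    have : q.map (Ideal.Quotient.mk I) = X * (X - 1) := by
      simp [hq]; ring
    rw [this, X_pow_comp, ← pow_succ, mul_pow]

end Groth.Agent.S1959
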