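import Groth.Statements.S19590
import Mathlib
import Groth.Agent.H97.Minkowski

set_option autoImplicit false
open BddFin

namespace Groth.Agent.S19590

/-- For every n, the orders of the finite subgroups of GL_n(ℤ) are bounded: there is B such that every
finite subgroup of GL_n(ℤ) has at most B elements. -/
theorem result (n : ℕ) :
    ∃ B : ℕ, ∀ H : Subgroup (Matrix.GeneralLinearGroup (Fin n) ℤ), Finite H → Nat.card H ≤ B := by
  refine ⟨Nat.card (Matrix.GeneralLinearGroup (Fin n) (ZMod 3)), ?_⟩
  intro H hH
  let φ : Matrix.GeneralLinearGroup (Fin n) ℤ →* Matrix.GeneralLinearGroup (Fin n) (ZMod 3) :=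
    Matrix.GeneralLinearGroup.map (Int.castRingHom (ZMod 3))
  let ψ : H →* Matrix.GeneralLinearGroup (Fin n) (ZMod 3) := φ.comp H.subtype
  have hinj : Function.Injective ψ := by
    rw [injective_iff_map_eq_one]
    intro k hk
    -- k has finite order
    obtain ⟨m, hm, hkm⟩ := (isOfFinOrder_of_finite k).exists_pow_eq_one
    -- entries of k - 1 divisible by 3
    have hent : ∀ i j, (3 : ℤ) ∣ ((k : Matrix.GeneralLinearGroup (Fin n) ℤ).val - 1) i j := by
      intro i j
      have h1 : (ψ k).val i j = (1 : Matrix (Fin n) (Fin n) (ZMod 3)) i j := by rw [hk]; rfl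
      have h2 : (ψ k).val i j =
          ((Int.castRingHom (ZMod 3)) ((k : Matrix.GeneralLinearGroup (Fin n) ℤ).val i j)) := rfl
      rw [h2] at h1
      have h3 : ((((k : Matrix.GeneralLinearGroup (Fin n) ℤ).val - 1) i j : ℤ) : ZMod 3) = 0 := by
        simp only [Matrix.sub_apply, Int.cast_sub]
        rw [sub_eq_zero]
        simp only [eq_intCast] at h1
        rw [h1]
        simp [Matrix.one_apply]
      exact (ZMod.intCast_zmod_eq_zero_iff_dvd _ 3).mp h3
    let X : Matrix (Fin n) (Fin n) ℤ :=
      fun i j => ((k : Matrix.GeneralLinearGroup (Fin n) ℤ).val - 1) i j / 3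
    have hX : (k : Matrix.GeneralLinearGroup (Fin n) ℤ).val = 1 + (3 : ℤ) • X := by
      ext i j
      have := Int.mul_ediv_cancel' (hent i j)
      simp only [Matrix.add_apply, Matrix.smul_apply, smul_eq_mul, X]
      rw [this]
      simp
    have hpow : (1 + (3 : ℤ) • X) ^ m = 1 := by
      rw [← hX]
      have := congrArg (fun g : H => (g : Matrix.GeneralLinearGroup (Fin n) ℤ).val) hkm
      simpa using this
    have hX0 := Groth.Agent.H97.eq_one_of_pow m hm X hpow
    rw [hX0, smul_zero, add_zero] at hX
    apply Subtype.ext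
    apply Units.ext
    exact hX
  exact Nat.card_le_card_of_injective ψ hinj

end Groth.Agent.S19590
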