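import Groth.Statements.S19591
import Mathlib

set_option autoImplicit false
universe u v
open BddFin

namespace Groth.Agent.S19591

/-- Let K be a perfect field of characteristic 2, V a finite-dimensional K-vector space with dim V > 2
and q a quadratic form on V whose polar bilinear form is non-degenerate. Then q represents zero
non-trivially. (Non-degeneracy of the polar form, which is alternating in characteristic 2, forces
dim V to be even, as the published lemma notes.) -/
theorem result
    (K : Type u) [Field K] [CharP K 2] [PerfectField K]
    (V : Type v) [AddCommGroup V] [Module K V] [FiniteDimensional K V]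
    (hV : 2 < Module.finrank K V) (q : QuadraticForm K V)
    (hq : (QuadraticMap.polarBilin q).Nondegenerate) :
    ∃ v : V, v ≠ 0 ∧ q v = 0 := by
  classical
  have h2 : (2 : K) = 0 := CharTwo.two_eq_zero
  -- pick a nonzero vector
  have hpos : 0 < Module.finrank K V := by omega
  obtain ⟨v, hv⟩ := Module.finrank_pos_iff_exists_ne_zero.mp hpos
  by_cases hqv : q v = 0
  · exact ⟨v, hv, hqv⟩
  -- the linear functional B(v, ·)
  set φ : V →ₗ[K] K := QuadraticMap.polarBilin q v with hφ
  have hker : 2 ≤ Module.finrank K (LinearMap.ker φ) := by
    have h1 := LinearMap.finrank_range_add_finrank_ker φ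
    have h3 : Module.finrank K (LinearMap.range φ) ≤ 1 := by
      have := Submodule.finrank_le (LinearMap.range φ)
      simpa using this
    omega
  -- find w in the kernel not in span of v
  have hspan : Module.finrank K (Submodule.span K {v}) = 1 := finrank_span_singleton hv
  have hnle : ¬ LinearMap.ker φ ≤ Submodule.span K {v} := by
    intro hle
    have := Submodule.finrank_mono hle
    omega
  obtain ⟨w, hwker, hwspan⟩ := Set.not_subset.mp hnle
  have hBvw : QuadraticMap.polar q v w = 0 := by
    have : φ w = 0 := hwker
    simpa [hφ] using this
  -- perfect: q w / q v is a square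
  obtain ⟨c, hc⟩ : ∃ c : K, c ^ 2 = q w / q v := by
    haveI : ExpChar K 2 := ExpChar.prime Nat.prime_two
    haveI : PerfectRing K 2 := PerfectField.toPerfectRing 2
    obtain ⟨c, hc⟩ := surjective_frobenius K 2 (q w / q v)
    exact ⟨c, by simpa [frobenius_def] using hc⟩
  refine ⟨c • v + w, ?_, ?_⟩
  · intro h0
    apply hwspan
    have : w = (-c) • v := by
      rw [neg_smul]
      exact eq_neg_of_add_eq_zero_right h0
    rw [this]
    exact Submodule.smul_mem _ _ (Submodule.mem_span_singleton_self v)
  · have hadd : q (c • v + w) = q (c • v) + q w + QuadraticMap.polar q (c • v) w := by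
      simp [QuadraticMap.polar]
    rw [hadd, QuadraticMap.polar_smul_left, hBvw, QuadraticMap.map_smul]
    have : c * c * q v = q w := by
      have : c * c = q w / q v := by rw [← hc]; ring
      rw [this]; field_simp
    simp only [smul_eq_mul, mul_zero, add_zero]
    rw [this]
    have : q w + q w = 2 * q w := by ring
    rw [this, h2, zero_mul]

end Groth.Agent.S19591
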