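import Groth.Statements.S19595
import Mathlib
import Groth.Agent.H76.NodeStructP

set_option autoImplicit false
universe u
open ArLef

namespace Groth.Agent.S19595

/-- In the case of a smooth point lying on the divisorial part of the fixed locus with multiplicity i
strictly between 0 and j, let B be a discrete valuation ring with uniformizer π and residue field k,
B[[t]] the complete local ring of a semi-stable arithmetic surface over B at a point x where the
closed fibre is smooth, and σ a ring automorphism of B[[t]] with σ(π) = π + γ π^j (γ a unit of B, j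
≥ 1) and σ(b) - b ∈ π^j B[[t]] for all b ∈ B (σ lies over an automorphism τ of B with v(τ(π) - π) =
j). Suppose σ(t) - t = π^i f with 0 < i < j and π not dividing f, so that the fixed-point ideal I of
σ is (π^j, π^i f) and its divisorial part near x is the closed fibre with multiplicity i. Then the
residual fixed-point scheme, with ideal (I : π^i), has length (j - i) m at x, where m is the length
of k[[t]]/(f mod π) (the order at x of the derivation induced by σ on the closed fibre). -/
theorem result (B : Type u) [CommRing B] [IsDomain B] [IsDiscreteValuationRing B] (π : B) (hπ : Irreducible π)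
    (j i : ℕ) (hi : 0 < i) (hij : i < j) (γ : B) (hγ : IsUnit γ)
    (σ : PowerSeries B ≃+* PowerSeries B)
    (hσB : ∀ b : B, σ (algebraMap B (PowerSeries B) b) - algebraMap B (PowerSeries B) b ∈
      Ideal.span ({algebraMap B (PowerSeries B) (π ^ j)} : Set (PowerSeries B)))
    (hσπ : σ (algebraMap B (PowerSeries B) π) = algebraMap B (PowerSeries B) (π + γ * π ^ j))
    (f : PowerSeries B) (hf : σ PowerSeries.X - PowerSeries.X = algebraMap B (PowerSeries B) (π ^ i) * f)
    (hfπ : ¬ (algebraMap B (PowerSeries B) π ∣ f)) :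
    Module.length (PowerSeries B) (PowerSeries B ⧸ (ArLef.fixIdeal σ).colon ({algebraMap B (PowerSeries B) (π ^ i)} : Set (PowerSeries B))) =
      ((j - i : ℕ) : ℕ∞) * Module.length (PowerSeries (IsLocalRing.ResidueField B)) (PowerSeries (IsLocalRing.ResidueField B) ⧸
        Ideal.span ({PowerSeries.map (IsLocalRing.residue B) f} : Set (PowerSeries (IsLocalRing.ResidueField B)))) := by
  open PowerSeries Groth.Agent.H76.NodeStruct in
  have halg : ∀ b : B, algebraMap B (PowerSeries B) b = C b := fun b => rfl
  simp only [halg] at hσB hσπ hf hfπ ⊢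
  have hfix : ∀ r, σ r - r ∈ ArLef.fixIdeal σ := fun r => Ideal.subset_span ⟨r, rfl⟩
  have hγu : IsUnit (C γ : PowerSeries B) := hγ.map _
  have hCπ0 : (C π : PowerSeries B) ≠ 0 := by
    intro h
    have := congrArg PowerSeries.constantCoeff h
    rw [PowerSeries.constantCoeff_C, map_zero] at this
    exact hπ.ne_zero this
  set J : Ideal (PowerSeries B) :=
    Ideal.span {(C π : PowerSeries B) ^ j} ⊔ Ideal.span {(C π : PowerSeries B) ^ i * f} with hJ
  have hpfix : (C π : PowerSeries B) ^ j ∈ ArLef.fixIdeal σ := by
    have h2 : C γ * (C π : PowerSeries B) ^ j ∈ ArLef.fixIdeal σ := by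
      have := hfix (C π)
      rwa [hσπ, map_add, add_sub_cancel_left, map_mul, map_pow] at this
    have := Ideal.mul_mem_left _ (↑hγu.unit⁻¹ : PowerSeries B) h2
    rwa [← mul_assoc, IsUnit.val_inv_mul, one_mul] at this
  have hXfix : (C π : PowerSeries B) ^ i * f ∈ ArLef.fixIdeal σ := by
    have := hfix X
    rwa [hf, map_pow] at this
  have hJle : J ≤ ArLef.fixIdeal σ :=
    sup_le ((Ideal.span_singleton_le_iff_mem _).mpr hpfix)
      ((Ideal.span_singleton_le_iff_mem _).mpr hXfix)
  have hfixeq : ArLef.fixIdeal σ = J := by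
    refine fixIdeal_ps_eq B (σ : PowerSeries B →+* PowerSeries B) J hJle ?_ ?_
    · intro b
      have := hσB b
      rw [map_pow] at this
      exact (le_sup_left : Ideal.span {(C π : PowerSeries B) ^ j} ≤ J) this
    · show σ X - X ∈ J
      rw [hf, map_pow]
      exact Ideal.mem_sup_right (Ideal.mem_span_singleton_self _)
  have hcolon : J.colon ({(C π : PowerSeries B) ^ i} : Set (PowerSeries B)) =
      Ideal.span {(C π : PowerSeries B) ^ (j - i)} ⊔ Ideal.span {f} := by
    ext x
    rw [Submodule.mem_colon_singleton, smul_eq_mul, hJ, Submodule.mem_sup, Submodule.mem_sup]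
    constructor
    · rintro ⟨y, hy, z, hz, hyz⟩
      obtain ⟨a, rfl⟩ := Ideal.mem_span_singleton'.mp hy
      obtain ⟨b, rfl⟩ := Ideal.mem_span_singleton'.mp hz
      refine ⟨a * (C π : PowerSeries B) ^ (j - i), Ideal.mem_span_singleton'.mpr ⟨a, rfl⟩,
        b * f, Ideal.mem_span_singleton'.mpr ⟨b, rfl⟩, ?_⟩
      have hpow : (C π : PowerSeries B) ^ j = (C π) ^ (j - i) * (C π) ^ i := by
        rw [← pow_add, Nat.sub_add_cancel hij.le]
      have hne : (C π : PowerSeries B) ^ i ≠ 0 := pow_ne_zero _ hCπ0
      apply mul_right_cancel₀ hne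
      rw [← hyz, hpow]
      ring
    · rintro ⟨y, hy, z, hz, hyz⟩
      obtain ⟨a, rfl⟩ := Ideal.mem_span_singleton'.mp hy
      obtain ⟨b, rfl⟩ := Ideal.mem_span_singleton'.mp hz
      refine ⟨a * (C π : PowerSeries B) ^ j, Ideal.mem_span_singleton'.mpr ⟨a, rfl⟩,
        b * ((C π : PowerSeries B) ^ i * f), Ideal.mem_span_singleton'.mpr ⟨b, rfl⟩, ?_⟩
      have hpow : (C π : PowerSeries B) ^ j = (C π) ^ (j - i) * (C π) ^ i := by
        rw [← pow_add, Nat.sub_add_cancel hij.le]
      rw [← hyz, hpow]
      ring
  have reg : IsSMulRegular (PowerSeries B ⧸ Ideal.span ({f} : Set (PowerSeries B)))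
      (C π : PowerSeries B) := by
    refine regular_mod_of_prime (C π) f (span_C_pi_isPrime B π hπ) ?_ ?_
    · intro z hz
      exact (mul_eq_zero.mp hz).resolve_left hCπ0
    · intro h
      exact hfπ (Ideal.mem_span_singleton.mp h)
  have halg' : (algebraMap B (PowerSeries B) (π ^ i)) = (C π : PowerSeries B) ^ i := by
    rw [halg, map_pow]
  rw [hfixeq, halg', hcolon, length_pow_general (C π) f reg (j - i), length_quot_pi_ps B π hπ f]

end Groth.Agent.S19595
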