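import Groth.Statements.S19599
import Groth.Agent.H40.CD.ProjChartsMult
import Groth.Agent.H40.CD.EqLocusFp

set_option autoImplicit false
open CategoryTheory MonoidalCategory CartesianMonoidalCategory MonObj GrpObj AlgebraicGeometry
universe u
open SGA3x

namespace Groth.Agent.S19599

/-- Let G be an affine group scheme of finite presentation over a scheme S and H ⊆ G a closed subgroup
scheme of finite presentation over S which is of multiplicative type (of finite type). Then the
centralizer of H in G (points of G commuting with every point of H after any base change) is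
representable by a closed subscheme of G. Here G is not assumed smooth, and smoothness of the
centralizer is not asserted. -/
theorem result {S : Scheme.{u}} (G H : Over S) [GrpObj G] [GrpObj H]
    (hGa : IsAffineHom G.hom) (hGfp : LocallyOfFinitePresentation G.hom)
    (i : H ⟶ G) [IsMonHom i] (hi : IsClosedImmersion i.left) (hHfp : LocallyOfFinitePresentation H.hom)
    (hH : SGA3x.IsMultTypeFT H) :
    ∃ (C : Over S) (c : C ⟶ G), IsClosedImmersion c.left ∧
      ∀ (X : Over S) (g : X ⟶ G), (∃ z : X ⟶ C, z ≫ c = g) ↔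
        ∀ (X' : Over S) (x : X' ⟶ X) (a : X' ⟶ H), (x ≫ g) * (a ≫ i) = (a ≫ i) * (x ≫ g) := by
  haveI := hGa
  haveI : IsSeparated G.hom := inferInstance
  let α : H ⊗ G ⟶ G := (snd H G) * (fst H G ≫ i)
  let β : H ⊗ G ⟶ G := (fst H G ≫ i) * (snd H G)
  obtain ⟨E, jE, hjE, hE, -⟩ := Groth.Agent.H40.CD.exists_closed_eq_locus α β
  obtain ⟨W, cW, hcW, hW, -⟩ := Groth.Agent.H40.CD.exists_closed_locus_of_hasProjCharts H G jE
    (Groth.Agent.H40.CD.hasProjCharts_of_isMultTypeFT H hH)
  refine ⟨Over.mk (cW ≫ G.hom), Over.homMk cW rfl, hcW, fun T g => ?_⟩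
  rw [Groth.Agent.H40.CD.over_factors_iff, ← hW]
  have key : ∀ (T' : Over S) (t : T' ⟶ T) (a : T' ⟶ H),
      (∃ z : T'.left ⟶ E, z ≫ jE = (lift a (t ≫ g)).left) ↔
        (t ≫ g) * (a ≫ i) = (a ≫ i) * (t ≫ g) := by
    intro T' t a
    rw [hE, ← Over.comp_left, ← Over.comp_left]
    have h1 : lift a (t ≫ g) ≫ α = (t ≫ g) * (a ≫ i) := by
      change lift a (t ≫ g) ≫ ((snd H G) * (fst H G ≫ i)) = _
      rw [MonObj.comp_mul, lift_snd, lift_fst_assoc]
    have h2 : lift a (t ≫ g) ≫ β = (a ≫ i) * (t ≫ g) := by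
      change lift a (t ≫ g) ≫ ((fst H G ≫ i) * (snd H G)) = _
      rw [MonObj.comp_mul, lift_snd, lift_fst_assoc]
    rw [h1, h2]
    constructor
    · intro h'
      ext
      exact h'
    · intro h'
      rw [h']
  constructor
  · intro h T' t a
    exact (key T' t a).mp (h T' t a)
  · intro h T' t a
    exact (key T' t a).mpr (h T' t a)

end Groth.Agent.S19599
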