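import Groth.Statements.S19603
import Groth.Agent.H93.OrbitClosure
import Groth.Agent.H93.LinCoact

set_option autoImplicit false
universe u
open GIT

namespace Groth.Agent.S19603

/-- For the whole projective space U = P(V), let k be an algebraically closed field of arbitrary
characteristic and G = Spec A a linearly reductive affine algebraic group acting linearly on affine
ι-space, and let v be a vector. Then some invariant homogeneous polynomial of positive degree is
non-zero at v (the point of v is semistable) if and only if the origin is not in the closure of the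
orbit of v. -/
theorem result (k : Type u) [Field k] [IsAlgClosed k]
    (A : Type u) [CommRing A] [HopfAlgebra k A] [Algebra.FiniteType k A] (hG : HopfRep.IsLinearlyReductive k A)
    (ι : Type u) [Fintype ι] [HopfRep.Comod k A (MvPolynomial ι k)] [GLin.IsCoactAlg k A (MvPolynomial ι k)]
    (hlin : GLin.IsLinear k A ι) (v : ι → k) :
    GLin.IsSemistableVec k A v ↔
      ¬ GLin.InOrbitClosure k A (GLin.vecPt k ι v) (GLin.vecPt k ι (fun _ => (0 : k))) := by
  classical
  constructor
  · intro hss hclos
    apply hss
    intro F hF d hd hFd
    have h1 := Groth.Agent.H93.apply_eq_of_inOrbitClosure (A := A) _ _ hclos F hF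
    have h2 : GLin.vecPt k ι v F = MvPolynomial.eval v F := rfl
    have h3 : GLin.vecPt k ι (fun _ => (0 : k)) F = MvPolynomial.coeff 0 F := by
      rw [GLin.vecPt, MvPolynomial.aeval_zero', MvPolynomial.constantCoeff_eq]
      rfl
    rw [← h2, ← h1, h3]
    apply hFd.coeff_eq_zero
    rw [map_zero]
    exact (Nat.pos_iff_ne_zero.1 hd).symm
  · intro hnc
    by_contra hns
    have hnull : GLin.IsNullform k A v := not_not.1 hns
    apply hnc
    intro f hf
    obtain ⟨ψ, h1, h2, -⟩ := Groth.Agent.H93.exists_reynolds_dualAct (R := MvPolynomial ι k) hG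
    set g := Groth.Agent.H93.dualAct (MvPolynomial ι k) ψ f with hg
    have hgI : g ∈ RingHom.ker (GLin.orbitHom k A (GLin.vecPt k ι v)) := by
      rw [Groth.Agent.H93.mem_ker_orbitHom_iff] at hf ⊢
      exact Groth.Agent.H93.dualAct_mem_of_isSubcomod (Groth.Agent.H93.isSubcomod_ker_theta _) ψ hf
    have hgC : g ∈ GLin.invariants k A (MvPolynomial ι k) := h1 f
    have hgv : GLin.vecPt k ι v g = 0 :=
      Groth.Agent.H93.apply_eq_zero_of_mem_ker_orbitHom (A := A) _ g hgI
    have hcomp : ∀ d, 0 < d → MvPolynomial.eval v (MvPolynomial.homogeneousComponent d g) = 0 :=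
      fun d hd => hnull _ (Groth.Agent.H93.homogeneousComponent_mem_invariants hlin d g hgC) d hd
        (MvPolynomial.homogeneousComponent_isHomogeneous d g)
    have hev : MvPolynomial.eval v g = MvPolynomial.coeff 0 g := by
      conv_lhs => rw [← MvPolynomial.sum_homogeneousComponent g]
      rw [map_sum, Finset.sum_eq_single 0]
      · rw [MvPolynomial.homogeneousComponent_zero, MvPolynomial.eval_C]
      · intro d _ hd
        exact hcomp d (Nat.pos_of_ne_zero hd)
      · intro h
        simp at h
    have h0 : MvPolynomial.homogeneousComponent 0 g = MvPolynomial.homogeneousComponent 0 f := by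
      rw [hg, Groth.Agent.H93.homogeneousComponent_dualAct hlin, MvPolynomial.homogeneousComponent_zero]
      apply h2
      rw [← MvPolynomial.algebraMap_eq]
      exact (GLin.invariants k A (MvPolynomial ι k)).algebraMap_mem _
    have h0' : MvPolynomial.coeff 0 g = MvPolynomial.coeff 0 f := by
      rw [MvPolynomial.homogeneousComponent_zero, MvPolynomial.homogeneousComponent_zero] at h0
      exact MvPolynomial.C_injective _ _ h0
    rw [RingHom.mem_ker]
    have h3 : GLin.vecPt k ι (fun _ => (0 : k)) f = MvPolynomial.coeff 0 f := by
      rw [GLin.vecPt, MvPolynomial.aeval_zero', MvPolynomial.constantCoeff_eq]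
      rfl
    have h4 : GLin.vecPt k ι v g = MvPolynomial.eval v g := rfl
    change GLin.vecPt k ι (fun _ => (0 : k)) f = 0
    rw [h3, ← h0', ← hev, ← h4, hgv]

end Groth.Agent.S19603
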