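import Groth.Statements.S19609
import Mathlib

set_option autoImplicit false
universe u
open CartMod

namespace Groth.Agent.S19609

theorem mem_pow_iff {R : Type u} [CommRing R] (p : R) (n : ℕ) (x : R) :
    x ∈ (Ideal.span {p} ^ n • ⊤ : Submodule R R) ↔ p ^ n ∣ x := by
  rw [smul_eq_mul, Ideal.mul_top, Ideal.span_singleton_pow, Ideal.mem_span_singleton]

/-- Let p be a prime and u : A → B a ring homomorphism between commutative rings which are complete and
separated for the p-adic topology and have no p-torsion (flat over the p-adic base). If u induces a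
bijection A/pA → B/pB (injectivity: u a ∈ pB forces a ∈ pA; surjectivity: every b ∈ B is congruent
to some u a modulo pB), then u is bijective. (The published statement is for a morphism of flat
p-adic formal schemes over the Witt vectors of a perfect field: if its special fibre is an
isomorphism, so is the morphism; this row is its affine, ring-level case.) -/
theorem result (p : ℕ) [Fact p.Prime]
    {A B : Type u} [CommRing A] [CommRing B]
    [IsAdicComplete (Ideal.span {(p : A)}) A] [IsAdicComplete (Ideal.span {(p : B)}) B]
    (hA : IsSMulRegular A (p : A)) (hB : IsSMulRegular B (p : B)) (u : A →+* B)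
    (hinj : ∀ a : A, u a ∈ Ideal.span {(p : B)} → a ∈ Ideal.span {(p : A)})
    (hsurj : ∀ b : B, ∃ a : A, b - u a ∈ Ideal.span {(p : B)}) :
    Function.Bijective u := by
  have hup : u (p : A) = (p : B) := map_natCast u p
  constructor
  · rw [injective_iff_map_eq_zero]
    have hdiv : ∀ n : ℕ, ∀ a : A, u a = 0 → (p : A) ^ n ∣ a := by
      intro n
      induction n with
      | zero => intro a _; simp
      | succ n ih =>
        intro a ha
        have h1 : a ∈ Ideal.span {(p : A)} := hinj a (by rw [ha]; exact Ideal.zero_mem _)
        obtain ⟨a', rfl⟩ := Ideal.mem_span_singleton.mp h1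
        have h2 : (p : B) • u a' = (p : B) • (0 : B) := by
          rw [smul_zero, smul_eq_mul, ← hup, ← map_mul, ha]
        have h3 : u a' = 0 := hB h2
        obtain ⟨c, hc⟩ := ih a' h3
        exact ⟨c, by rw [hc, pow_succ]; ring⟩
    intro a ha
    apply IsHausdorff.haus (inferInstance : IsHausdorff (Ideal.span {(p : A)}) A)
    intro n
    rw [SModEq.sub_mem, sub_zero, mem_pow_iff]
    exact hdiv n a ha
  · intro b
    -- one approximation step
    choose α hα using hsurj
    have hβ : ∀ b : B, ∃ c : B, b - u (α b) = (p : B) * c := fun b =>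
      Ideal.mem_span_singleton.mp (hα b)
    choose β hβ using hβ
    -- the sequence of remainders
    let r : ℕ → B := fun n => Nat.rec b (fun _ x => β x) n
    have hr0 : r 0 = b := rfl
    have hrs : ∀ n, r (n + 1) = β (r n) := fun n => rfl
    let s : ℕ → A := fun n => ∑ i ∈ Finset.range n, (p : A) ^ i * α (r i)
    have hs : ∀ n, b - u (s n) = (p : B) ^ n * r n := by
      intro n
      induction n with
      | zero => simp [s, hr0]
      | succ n ih =>
        have : s (n + 1) = s n + (p : A) ^ n * α (r n) := Finset.sum_range_succ _ _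
        rw [this, map_add, map_mul, map_pow, hup, hrs]
        have h1 := hβ (r n)
        calc b - (u (s n) + (p : B) ^ n * u (α (r n)))
            = (b - u (s n)) - (p : B) ^ n * u (α (r n)) := by ring
          _ = (p : B) ^ n * (r n - u (α (r n))) := by rw [ih]; ring
          _ = (p : B) ^ (n + 1) * β (r n) := by rw [h1]; ring
    have hcauchy : ∀ {m n : ℕ}, m ≤ n →
        s m ≡ s n [SMOD (Ideal.span {(p : A)} ^ m • ⊤ : Submodule A A)] := by
      intro m n hmn
      rw [SModEq.sub_mem, mem_pow_iff]
      have : s n = s m + ∑ i ∈ Finset.Ico m n, (p : A) ^ i * α (r i) := by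
        simp only [s]
        rw [Finset.sum_range_add_sum_Ico _ hmn]
      rw [this]
      have h2 : s m - (s m + ∑ i ∈ Finset.Ico m n, (p : A) ^ i * α (r i))
          = - ∑ i ∈ Finset.Ico m n, (p : A) ^ i * α (r i) := by ring
      rw [h2, dvd_neg]
      apply Finset.dvd_sum
      intro i hi
      have hmi : m ≤ i := (Finset.mem_Ico.mp hi).1
      exact Dvd.dvd.mul_right (pow_dvd_pow _ hmi) _
    obtain ⟨L, hL⟩ := IsPrecomplete.prec (inferInstance : IsPrecomplete (Ideal.span {(p : A)}) A) hcauchy
    refine ⟨L, ?_⟩
    symm
    rw [IsHausdorff.eq_iff_smodEq (I := Ideal.span {(p : B)})]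
    intro n
    rw [SModEq.sub_mem, mem_pow_iff]
    have h1 : (p : A) ^ n ∣ s n - L := by
      have := hL n
      rwa [SModEq.sub_mem, mem_pow_iff] at this
    obtain ⟨c, hc⟩ := h1
    have h2 : b - u L = (b - u (s n)) + u (s n - L) := by
      rw [map_sub]; ring
    rw [h2, hs n, hc, map_mul, map_pow, hup]
    exact ⟨r n + u c, by ring⟩

end Groth.Agent.S19609
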