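import Groth.Statements.S19611
import Mathlib

set_option autoImplicit false
universe u
open CategoryTheory AlgebraicGeometry
open CartMod

namespace Groth.Agent.S19611

/-- For a prime p and a scheme Y of characteristic p, write Y♭ for the scheme-theoretic image of the
absolute Frobenius F_Y : Y → Y, i.e. the closed subscheme of Y defined by the sections of O_Y whose
p-th power vanishes, and Y → Y♭ for the canonical morphism through which F_Y factors. Then Y → Y♭ is
an epimorphism of schemes: two morphisms g₁, g₂ from Y♭ to a scheme Z with equal composites Y → Y♭ →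
Z are equal. (The published statement is for k-morphisms g₁, g₂ from Y♭ to a k-scheme Z over a
perfect field k of characteristic p, compared after Frobenius twist through Y → (Y♭)'; this row asks
right-cancellation against morphisms to every scheme Z, which is equivalent to it for k-morphisms.) -/
theorem result (p : ℕ) [Fact p.Prime] (Y : Scheme.{u}) [FrobSch.IsCharP Y p] :
    Epi (FrobSch.frob Y p).toImage := by
  have hqc : QuasiCompact (FrobSch.frob Y p) := ⟨fun U _ hc => hc⟩
  have hcomp : (FrobSch.frob Y p).toImage ≫ (FrobSch.frob Y p).imageι = FrobSch.frob Y p :=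
    (FrobSch.frob Y p).toImage_imageι
  have hι_inj : Function.Injective (FrobSch.frob Y p).imageι :=
    (FrobSch.frob Y p).imageι.isEmbedding.injective
  have hid : ∀ x : Y, (FrobSch.frob Y p).imageι ((FrobSch.frob Y p).toImage x) = x := by
    intro x
    have h1 : ((FrobSch.frob Y p).toImage ≫ (FrobSch.frob Y p).imageι) x = (FrobSch.frob Y p) x := by
      rw [hcomp]
    exact h1
  have hsurj : Function.Surjective (FrobSch.frob Y p).toImage := fun y =>
    ⟨(FrobSch.frob Y p).imageι y, hι_inj (hid _)⟩
  have hind : Topology.IsInducing (FrobSch.frob Y p).toImage := by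
    apply Topology.IsInducing.of_comp (FrobSch.frob Y p).toImage.continuous
      (FrobSch.frob Y p).imageι.continuous
    have : (⇑(FrobSch.frob Y p).imageι ∘ ⇑(FrobSch.frob Y p).toImage) = id := funext hid
    rw [this]
    exact Topology.IsInducing.id
  apply CategoryTheory.Functor.epi_of_epi_map (Scheme.forgetToLocallyRingedSpace)
  apply CategoryTheory.Functor.epi_of_epi_map (LocallyRingedSpace.forgetToSheafedSpace)
  apply SheafedSpace.epi_of_base_surjective_of_stalk_mono _ hsurj
  intro x
  apply ConcreteCategory.mono_of_injective
  have hiso := TopCat.Presheaf.stalkPushforward.stalkPushforward_iso_of_isInducing (C := CommRingCat)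
    (f := (FrobSch.frob Y p).toImage.base) hind Y.presheaf x
  have hinj1 := (FrobSch.frob Y p).stalkFunctor_toImage_injective ((FrobSch.frob Y p).toImage x)
  have hinj2 : Function.Injective
      (Y.presheaf.stalkPushforward CommRingCat (FrobSch.frob Y p).toImage.base x) :=
    (ConcreteCategory.bijective_of_isIso _).1
  change Function.Injective ⇑(CommRingCat.Hom.hom
    ((TopCat.Presheaf.stalkFunctor CommRingCat ((FrobSch.frob Y p).toImage x)).map
        (FrobSch.frob Y p).toImage.c ≫
      Y.presheaf.stalkPushforward CommRingCat (FrobSch.frob Y p).toImage.base x))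
  rw [CommRingCat.hom_comp, RingHom.coe_comp]
  exact hinj2.comp hinj1

end Groth.Agent.S19611
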