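import Groth.Statements.S19612
import Mathlib

set_option autoImplicit false
universe u
open scoped TensorProduct
open CartMod

namespace Groth.Agent.S19612

/-- Let k be a perfect field of characteristic p, W = W(k) the ring of Witt vectors of k, and A a
commutative W-algebra which is complete and separated for the p-adic topology (an adic W-algebra).
Then flatness of A over W is equivalent to flatness of A/p^nA = (W/p^nW) ⊗_W A over W/p^nW for every
n ≥ 1. -/
theorem result (p : ℕ) [Fact p.Prime] (k : Type u) [Field k]
    [CharP k p] [PerfectRing k p] (A : Type u) [CommRing A] [Algebra (WittVector p k) A]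
    [IsAdicComplete (Ideal.span {(p : WittVector p k)}) A] :
    Module.Flat (WittVector p k) A ↔
      ∀ n : ℕ, 1 ≤ n →
        Module.Flat (WittVector p k ⧸ (Ideal.span {(p : WittVector p k)} ^ n))
          ((WittVector p k ⧸ (Ideal.span {(p : WittVector p k)} ^ n)) ⊗[WittVector p k] A) := by
  classical
  constructor
  · intro hflat n hn
    infer_instance
  · intro h
    have hp0 : (p : WittVector p k) ≠ 0 := WittVector.p_nonzero p k
    -- key: p-torsion is zero
    have key : ∀ a : A, (p : WittVector p k) • a = 0 → a = 0 := by
      intro a ha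
      apply IsHausdorff.haus (inferInstance : IsHausdorff (Ideal.span {(p : WittVector p k)}) A)
      intro n
      rw [SModEq.zero]
      have hfl := h (n + 1) (by omega)
      set I : Ideal (WittVector p k) := Ideal.span {(p : WittVector p k)} with hI
      set t : (WittVector p k ⧸ I ^ (n + 1)) ⊗[WittVector p k] A := (1 : WittVector p k ⧸ I ^ (n + 1)) ⊗ₜ a with ht
      set pbar : WittVector p k ⧸ I ^ (n + 1) := Ideal.Quotient.mk _ (p : WittVector p k) with hpbar
      have hpt : pbar • t = 0 := by
        rw [ht, TensorProduct.smul_tmul', smul_eq_mul, mul_one]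
        have : pbar = (p : WittVector p k) • (1 : WittVector p k ⧸ I ^ (n + 1)) := by
          rw [hpbar, Algebra.smul_def, mul_one]; rfl
        rw [this, TensorProduct.smul_tmul, ha, TensorProduct.tmul_zero]
      obtain ⟨κ, c, y, hxy, hcy⟩ := Module.Flat.isTrivialRelation_of_sum_smul_eq_zero
        (ι := Unit) (f := fun _ => pbar) (x := fun _ => t) (by simpa using hpt)
      have hle : I ^ (n + 1) • (⊤ : Submodule (WittVector p k) A) ≤ I ^ n • ⊤ :=
        Submodule.smul_mono_left (Ideal.pow_le_pow_right (Nat.le_succ n))
      let q : (WittVector p k ⧸ I ^ (n + 1)) ⊗[WittVector p k] A →ₗ[WittVector p k]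
          A ⧸ (I ^ n • (⊤ : Submodule (WittVector p k) A)) :=
        (Submodule.factor hle) ∘ₗ (TensorProduct.quotTensorEquivQuotSMul A (I ^ (n + 1))).toLinearMap
      have hqt : q t = Submodule.Quotient.mk a := by
        simp only [q, ht, LinearMap.comp_apply, LinearEquiv.coe_coe]
        rw [← map_one (Ideal.Quotient.mk (I ^ (n + 1))), TensorProduct.quotTensorEquivQuotSMul_mk_tmul,
          one_smul]
        rfl
      have hkill : ∀ z : A ⧸ (I ^ n • (⊤ : Submodule (WittVector p k) A)),
          ((p : WittVector p k) ^ n) • z = 0 := by
        intro z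
        obtain ⟨z', rfl⟩ := Submodule.Quotient.mk_surjective _ z
        rw [← Submodule.Quotient.mk_smul, Submodule.Quotient.mk_eq_zero]
        exact Submodule.smul_mem_smul (Ideal.pow_mem_pow (Ideal.mem_span_singleton_self _) n)
          Submodule.mem_top
      have hq0 : q t = 0 := by
        have := hxy ()
        simp only at this
        rw [this, map_sum]
        apply Finset.sum_eq_zero
        intro j _
        -- c () j = p^n • mk d
        have hcj := hcy j
        simp only [Finset.univ_unique, Finset.sum_singleton] at hcj
        obtain ⟨cj, hcj'⟩ := Ideal.Quotient.mk_surjective (c () j)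
        rw [← hcj', hpbar, ← map_mul, Ideal.Quotient.eq_zero_iff_mem, hI, Ideal.span_singleton_pow,
          Ideal.mem_span_singleton'] at hcj
        obtain ⟨d, hd⟩ := hcj
        have hcjd : cj = (p : WittVector p k) ^ n * d := by
          apply mul_left_cancel₀ hp0
          rw [← hd, pow_succ]
          ring
        have : c () j = ((p : WittVector p k) ^ n) • (Ideal.Quotient.mk (I ^ (n + 1)) d) := by
          rw [← hcj', hcjd, map_mul, Algebra.smul_def]
          rfl
        rw [this, smul_assoc, map_smul, hkill]
      rw [hqt, Submodule.Quotient.mk_eq_zero] at hq0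
      exact hq0
    rw [IsDedekindDomain.flat_iff_torsion_eq_bot, eq_bot_iff]
    rintro a ⟨⟨w, hw⟩, hwa⟩
    rw [Submodule.mem_bot]
    obtain ⟨m, b, hb⟩ := WittVector.exists_eq_pow_p_mul' w (nonZeroDivisors.ne_zero hw)
    have hpm : ((p : WittVector p k) ^ m) • a = 0 := by
      have h1 : w • a = 0 := hwa
      rw [hb, mul_comm, mul_smul] at h1
      have := congrArg (fun z => ((b⁻¹ : (WittVector p k)ˣ) : WittVector p k) • z) h1
      simpa [smul_smul] using this
    clear hwa hb
    induction m with
    | zero => simpa using hpm
    | succ m ih =>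
      apply ih
      apply key
      rw [smul_smul, ← pow_succ']
      exact hpm

end Groth.Agent.S19612
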