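import Groth.Statements.S19618
import Groth.Agent.H8.CartierCodim

set_option autoImplicit false
universe u
open CategoryTheory CategoryTheory.Limits AlgebraicGeometry Opposite TopologicalSpace
open BlowUp

namespace Groth.Agent.S19618

/-- Let X be a locally Noetherian scheme, Y an effective Cartier divisor on X (a quasi-coherent ideal
sheaf which, near every point, is generated on some affine open by one nonzerodivisor; Y is its
support) and Z a closed integral subscheme (a closed immersion i from an integral scheme with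
generic point ξ). If Y and Z intersect properly — every point ζ of Y ∩ Z which is maximal under
generization inside Y ∩ Z satisfies dim O_{X,ζ} = codim(Y,X) + codim(Z,X), where codim(Y,X) is the
infimum over y ∈ Y of dim O_{X,y} and codim(Z,X) = dim O_{X,i(ξ)} — then Z is not contained in Y. -/
theorem result {X Z : Scheme.{u}}
    [IsLocallyNoetherian X] (𝓘 : X.IdealSheafData) (hY : BlowUp.IsEffCartierIdeal 𝓘)
    (i : Z ⟶ X) [IsClosedImmersion i] [IsIntegral Z]
    (hprop : ∀ ζ : ↥X, ζ ∈ (𝓘.support : Set ↥X) ∩ Set.range i.base →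
        (∀ ζ' : ↥X, ζ' ∈ (𝓘.support : Set ↥X) ∩ Set.range i.base → ζ' ⤳ ζ → ζ' = ζ) →
        ringKrullDim ↑(X.presheaf.stalk ζ) =
          (⨅ y : (𝓘.support : Set ↥X), ringKrullDim ↑(X.presheaf.stalk y.1)) +
            ringKrullDim ↑(X.presheaf.stalk (i (genericPoint ↥Z)))) :
    ¬ Set.range i.base ⊆ (𝓘.support : Set ↥X) := by
  intro hsub
  have hζr : i (genericPoint ↥Z) ∈ Set.range i.base := ⟨genericPoint ↥Z, rfl⟩
  have hζ : i (genericPoint ↥Z) ∈ (𝓘.support : Set ↥X) ∩ Set.range i.base := ⟨hsub hζr, hζr⟩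
  have hmax : ∀ ζ' : ↥X, ζ' ∈ (𝓘.support : Set ↥X) ∩ Set.range i.base →
      ζ' ⤳ i (genericPoint ↥Z) → ζ' = i (genericPoint ↥Z) := by
    rintro _ ⟨-, z', rfl⟩ hsp
    have h1 : z' ⤳ genericPoint ↥Z := i.isClosedEmbedding.isInducing.specializes_iff.mp hsp
    have h2 : genericPoint ↥Z ⤳ z' := genericPoint_specializes z'
    rw [(h1.antisymm h2).eq]
  have h := hprop _ hζ hmax
  rw [Groth.Agent.H8.iInf_ringKrullDim_stalk_support 𝓘 hY ⟨_, hζ.1⟩] at h
  obtain ⟨_, ⟨U, hU, rfl⟩, hζU, -⟩ :=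
    X.isBasis_affineOpens.exists_subset_of_mem_open (Set.mem_univ (i (genericPoint ↥Z))) isOpen_univ
  have : IsNoetherianRing Γ(X, U) := IsLocallyNoetherian.component_noetherian ⟨U, hU⟩
  rw [Groth.Agent.H8.ringKrullDim_stalk_eq_height hU _ hζU] at h
  have hfin : (hU.primeIdealOf ⟨i (genericPoint ↥Z), hζU⟩).asIdeal.height ≠ ⊤ :=
    Ideal.height_ne_top (hU.primeIdealOf ⟨i (genericPoint ↥Z), hζU⟩).isPrime.ne_top
  obtain ⟨n, hn⟩ := ENat.ne_top_iff_exists.mp hfin
  rw [← hn] at h
  have h' : (n : ℕ) = 1 + n := by exact_mod_cast h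
  omega

end Groth.Agent.S19618
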