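import Groth.Statements.S19628
import Mathlib
import Groth.Agent.H74.DeRhamBC

set_option autoImplicit false
universe u
open DeRham
open scoped TensorProduct

namespace Groth.Agent.S19628

open exteriorPower in
/-- In the affine case, at ring level, let k ⊆ K be an extension of fields of characteristic zero, A a
smooth k-algebra and A' = K ⊗_k A (a pushout square of commutative rings with the scalar-tower
conventions). Let d be the de Rham differential of A over k, d' that of A' over K, and ψ the map of
de Rham complexes induced by A → A', assumed compatible with d and d'. Then for every p the K-span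
of ψ(closed p-forms of A/k) is the module of closed p-forms of A'/K, and the K-span of ψ(exact
p-forms of A/k) is the module of exact p-forms of A'/K. Together with the degreewise base-change
bijection for exterior powers of differentials, this says that the natural map H^p_dR(A/k) ⊗_k K →
H^p_dR(A'/K) is an isomorphism. (The source states the isomorphism H^i_dR(X) ⊗_k K ≅ H^i_dR(X_K) for
a smooth variety X, induced by a quasi-isomorphism of complexes; this row is the case of an affine
X, phrased through closed and exact forms.) -/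
theorem result
    (k K : Type u) [Field k] [Field K] [CharZero k] [Algebra k K]
    (A A' : Type u) [CommRing A] [CommRing A'] [Algebra k A] [Algebra.Smooth k A]
    [Algebra A A'] [Algebra k A'] [IsScalarTower k A A'] [Algebra K A'] [IsScalarTower k K A']
    [Algebra.IsPushout k K A A']
    (d : ∀ p : ℕ, ↥(⋀[A]^p (Ω[A⁄k])) →ₗ[k] ↥(⋀[A]^(p + 1) (Ω[A⁄k])))
    (hd : DeRham.IsDiff (KaehlerDifferential.D k A) d)
    (d' : ∀ p : ℕ, ↥(⋀[A']^p (Ω[A'⁄K])) →ₗ[K] ↥(⋀[A']^(p + 1) (Ω[A'⁄K])))
    (hd' : DeRham.IsDiff (KaehlerDifferential.D K A') d')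
    (ψ : ∀ p : ℕ, ↥(⋀[A]^p (Ω[A⁄k])) →+ ↥(⋀[A']^p (Ω[A'⁄K])))
    (hψ : DeRham.IsCxMap (KaehlerDifferential.D k A) (KaehlerDifferential.D K A') (algebraMap A A') ψ)
    (hcomm : ∀ (p : ℕ) (x : ↥(⋀[A]^p (Ω[A⁄k]))), ψ (p + 1) (d p x) = d' p (ψ p x))
    (p : ℕ) :
    Submodule.span K (ψ p '' (DeRham.cocycles d p : Set ↥(⋀[A]^p (Ω[A⁄k])))) = DeRham.cocycles d' p ∧
      Submodule.span K (ψ p '' (DeRham.coboundaries d p : Set ↥(⋀[A]^p (Ω[A⁄k])))) =
        DeRham.coboundaries d' p := by
  classical
  have hΦ : ∀ (q : ℕ) (s : K) (x : ↥(⋀[A]^q (Ω[A⁄k]))),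
      Groth.Agent.H74.DeRhamBC.Phi k K A A' q (s ⊗ₜ[k] x) = s • ψ q x :=
    fun q s x => Groth.Agent.H74.DeRhamBC.Phi_tmul q ψ hψ s x
  have hΦ1 : ∀ (q : ℕ) (x : ↥(⋀[A]^q (Ω[A⁄k]))),
      Groth.Agent.H74.DeRhamBC.Phi k K A A' q ((1 : K) ⊗ₜ[k] x) = ψ q x := by
    intro q x; rw [hΦ, one_smul]
  have hbij := fun q => Groth.Agent.H74.DeRhamBC.Phi_bijective k K A A' q
  -- compatibility with the differentials
  have hT : ∀ (q : ℕ) (z : K ⊗[k] ↥(⋀[A]^q (Ω[A⁄k]))),
      d' q (Groth.Agent.H74.DeRhamBC.Phi k K A A' q z) =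
        Groth.Agent.H74.DeRhamBC.Phi k K A A' (q + 1)
          (TensorProduct.AlgebraTensorModule.lTensor K K (d q) z) := by
    intro q z
    induction z using TensorProduct.induction_on with
    | zero => simp
    | add x y hx hy => simp only [map_add, hx, hy]
    | tmul s x =>
      rw [hΦ, map_smul, ← hcomm, TensorProduct.AlgebraTensorModule.lTensor_tmul, hΦ]
  -- range of a base-changed map
  have hrange : ∀ (q : ℕ),
      LinearMap.range (TensorProduct.AlgebraTensorModule.lTensor K K (d q)) ≤
        Submodule.span K (Set.range fun x : ↥(⋀[A]^q (Ω[A⁄k])) => (1 : K) ⊗ₜ[k] d q x) := by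
    rintro q _ ⟨z, rfl⟩
    induction z using TensorProduct.induction_on with
    | zero => simp
    | add x y hx hy => rw [map_add]; exact add_mem hx hy
    | tmul s x =>
      rw [TensorProduct.AlgebraTensorModule.lTensor_tmul]
      have : s ⊗ₜ[k] d q x = s • ((1 : K) ⊗ₜ[k] d q x) := by
        rw [TensorProduct.smul_tmul', smul_eq_mul, mul_one]
      rw [this]
      exact Submodule.smul_mem _ _ (Submodule.subset_span ⟨x, rfl⟩)
  have hkerT : ∀ (q : ℕ),
      LinearMap.ker (TensorProduct.AlgebraTensorModule.lTensor K K (d q)) ≤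
        Submodule.span K (Set.range fun x : LinearMap.ker (d q) =>
          (1 : K) ⊗ₜ[k] (x : ↥(⋀[A]^q (Ω[A⁄k])))) := by
    intro q
    rw [Module.Flat.ker_lTensor_eq K K (d q)]
    rintro _ ⟨z, rfl⟩
    induction z using TensorProduct.induction_on with
    | zero => simp
    | add x y hx hy => rw [map_add]; exact add_mem hx hy
    | tmul s x =>
      rw [TensorProduct.AlgebraTensorModule.lTensor_tmul]
      have : s ⊗ₜ[k] (LinearMap.ker (d q)).subtype x =
          s • ((1 : K) ⊗ₜ[k] (x : ↥(⋀[A]^q (Ω[A⁄k])))) := by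
        rw [TensorProduct.smul_tmul', smul_eq_mul, mul_one]; rfl
      rw [this]
      exact Submodule.smul_mem _ _ (Submodule.subset_span ⟨x, rfl⟩)
  refine ⟨?_, ?_⟩
  · apply le_antisymm
    · rw [Submodule.span_le]
      rintro _ ⟨x, hx, rfl⟩
      have hx' : d p x = 0 := hx
      change d' p (ψ p x) = 0
      rw [← hcomm, hx', map_zero]
    · intro y hy
      have hy' : d' p y = 0 := hy
      obtain ⟨z, rfl⟩ := (hbij p).2 y
      rw [hT] at hy'
      have hz : z ∈ LinearMap.ker (TensorProduct.AlgebraTensorModule.lTensor K K (d p)) :=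
        (hbij (p + 1)).1 (hy'.trans (map_zero _).symm)
      have hspan : ∀ z ∈ Submodule.span K (Set.range fun x : LinearMap.ker (d p) =>
          (1 : K) ⊗ₜ[k] (x : ↥(⋀[A]^p (Ω[A⁄k])))),
          Groth.Agent.H74.DeRhamBC.Phi k K A A' p z ∈
            Submodule.span K (ψ p '' (DeRham.cocycles d p : Set ↥(⋀[A]^p (Ω[A⁄k])))) := by
        intro z hz'
        induction hz' using Submodule.span_induction with
        | mem w hw =>
          obtain ⟨x, rfl⟩ := hw
          rw [hΦ1]
          exact Submodule.subset_span ⟨x, x.2, rfl⟩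
        | zero => rw [map_zero]; exact zero_mem _
        | add a b _ _ ha hb => rw [map_add]; exact add_mem ha hb
        | smul c a _ ha => rw [map_smul]; exact Submodule.smul_mem _ _ ha
      exact hspan z (hkerT p hz)
  · cases p with
    | zero =>
      have e1 : DeRham.coboundaries d 0 = ⊥ := rfl
      have e2 : DeRham.coboundaries d' 0 = ⊥ := rfl
      rw [e1, e2, Submodule.span_eq_bot]
      rintro _ ⟨x, hx, rfl⟩
      have : x = 0 := hx
      rw [this, map_zero]
    | succ p =>
      change Submodule.span K (ψ (p + 1) '' (LinearMap.range (d p) : Set _)) =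
        LinearMap.range (d' p)
      apply le_antisymm
      · rw [Submodule.span_le]
        rintro _ ⟨_, ⟨x, rfl⟩, rfl⟩
        exact ⟨ψ p x, (hcomm p x).symm⟩
      · rintro _ ⟨w, rfl⟩
        obtain ⟨z, rfl⟩ := (hbij p).2 w
        rw [hT]
        have hspan : ∀ t ∈ Submodule.span K (Set.range fun x : ↥(⋀[A]^p (Ω[A⁄k])) =>
            (1 : K) ⊗ₜ[k] d p x),
            Groth.Agent.H74.DeRhamBC.Phi k K A A' (p + 1) t ∈
              Submodule.span K (ψ (p + 1) '' (LinearMap.range (d p) : Set _)) := by
          intro t ht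
          induction ht using Submodule.span_induction with
          | mem w hw =>
            obtain ⟨x, rfl⟩ := hw
            rw [hΦ1]
            exact Submodule.subset_span ⟨d p x, ⟨x, rfl⟩, rfl⟩
          | zero => rw [map_zero]; exact zero_mem _
          | add a b _ _ ha hb => rw [map_add]; exact add_mem ha hb
          | smul c a _ ha => rw [map_smul]; exact Submodule.smul_mem _ _ ha
        exact hspan _ (hrange p (LinearMap.mem_range_self _ z))

end Groth.Agent.S19628
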