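import Groth.Statements.S1963
import Groth.Agent.H3.ValEtMain
import Groth.Agent.H20.EtaleNormal
import Mathlib.RingTheory.Smooth.Flat
import Mathlib.RingTheory.Flat.FaithfullyFlat.Basic
import Mathlib.RingTheory.Flat.Localization
import Mathlib.RingTheory.PrincipalIdealDomain
import Mathlib.Algebra.GCDMonoid.IntegrallyClosed

set_option autoImplicit false
universe u
open EtAlg

namespace Groth.Agent.S1963

/-- Let A be a valuation ring, B an etale A-algebra and m a prime of B lying over the maximal ideal of
A. Then the localization B_m is a valuation ring, the map A -> B_m is injective and local, and the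
extension is weakly unramified: every nonzero element of B_m is a unit multiple of the image of an
element of A. -/
theorem result (A B : Type u) [CommRing A] [IsDomain A] [ValuationRing A]
    [CommRing B] [Algebra A B] [Algebra.Etale A B] (m : Ideal B) [m.IsPrime]
    (hm : m.comap (algebraMap A B) = IsLocalRing.maximalIdeal A) :
    IsDomain (Localization.AtPrime m) ∧ (∀ _ : IsDomain (Localization.AtPrime m), ValuationRing (Localization.AtPrime m)) ∧
    Function.Injective (algebraMap A (Localization.AtPrime m)) ∧ IsLocalHom (algebraMap A (Localization.AtPrime m)) ∧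
    ∀ b : Localization.AtPrime m, b ≠ 0 → ∃ (a : A) (u : (Localization.AtPrime m)ˣ),
      b = u * algebraMap A (Localization.AtPrime m) a := by
  have hlies : m.LiesOver (IsLocalRing.maximalIdeal A) := ⟨hm.symm⟩
  have hicA : IsIntegrallyClosed A := by
    classical
    let _ : GCDMonoid A := IsBezout.toGCDDomain A
    exact GCDMonoid.toIsIntegrallyClosed
  have hic : IsIntegrallyClosed (Localization.AtPrime (IsLocalRing.maximalIdeal A)) :=
    isIntegrallyClosed_of_isLocalization _ (IsLocalRing.maximalIdeal A).primeCompl
      (Ideal.primeCompl_le_nonZeroDivisors _)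
  obtain ⟨hdom, hnorm⟩ :=
    Groth.Agent.H20.isDomain_and_isIntegrallyClosed_localization_of_etale (R := A) (S := B)
      (IsLocalRing.maximalIdeal A) m
  have hloc : IsLocalHom (algebraMap A (Localization.AtPrime m)) := by
    constructor
    intro a ha
    rw [IsScalarTower.algebraMap_apply A B (Localization.AtPrime m)] at ha
    have h1 := (IsLocalization.AtPrime.isUnit_to_map_iff (Localization.AtPrime m) m _).mp ha
    by_contra hna
    have h2 : a ∈ IsLocalRing.maximalIdeal A := (IsLocalRing.mem_maximalIdeal a).mpr hna
    rw [← hm, Ideal.mem_comap] at h2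
    exact h1 h2
  have hflatB : Module.Flat A B := inferInstance
  have hflat : Module.Flat A (Localization.AtPrime m) :=
    Module.Flat.trans A B (Localization.AtPrime m)
  have hff : Module.FaithfullyFlat A (Localization.AtPrime m) :=
    Module.FaithfullyFlat.of_flat_of_isLocalHom
  have hinj : Function.Injective (algebraMap A (Localization.AtPrime m)) :=
    FaithfulSMul.algebraMap_injective A _
  have hD := Groth.Agent.H3.ValEt.stdData_of_etale A B m
  refine ⟨hdom, fun _ => ?_, hinj, hloc, fun b hb => ?_⟩
  · exact Groth.Agent.H3.ValEt.valuationRing_of_isIntegrallyClosed hinj hD.isAlgebraic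
  · exact Groth.Agent.H3.ValEt.isUA_of_ne_zero hinj hD b hb

end Groth.Agent.S1963
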