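import Groth.Statements.S19630
import Mathlib

set_option autoImplicit false
universe u
open DeRham

namespace Groth.Agent.S19630

open exteriorPower in
/-- In the affine case, at ring level, let k ⊆ K be a finite extension of fields of characteristic zero
and B a smooth K-algebra, so that Y = Spec B is a smooth affine variety over K which may also be
regarded over k. Let ψ be the map of de Rham complexes from Ω•_{B/k} to Ω•_{B/K} induced by the
identity of B. Then ψ is bijective in every degree: the de Rham complex of Y over k and over K
coincide, and hence the natural map H^i_dR(Y/k) → H^i_dR(Y/K) is an isomorphism. (The source states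
the isomorphism on de Rham cohomology for any smooth variety Y over K, through the equality of the
two de Rham complexes; this row is that equality for affine Y.) -/
theorem result
    (k K : Type u) [Field k] [Field K] [CharZero k] [Algebra k K] [Module.Finite k K]
    (B : Type u) [CommRing B] [Algebra K B] [Algebra k B] [IsScalarTower k K B] [Algebra.Smooth K B]
    (ψ : ∀ p : ℕ, ↥(⋀[B]^p (Ω[B⁄k])) →+ ↥(⋀[B]^p (Ω[B⁄K])))
    (hψ : DeRham.IsCxMap (KaehlerDifferential.D k B) (KaehlerDifferential.D K B) (RingHom.id B) ψ)
    (p : ℕ) :
    Function.Bijective (ψ p) := by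
  classical
  -- Ω[K/k] = 0
  have hunr : Algebra.FormallyUnramified k K := Algebra.FormallyUnramified.of_isSeparable k K
  have hsub : Subsingleton (Ω[K⁄k]) := hunr.subsingleton_kaehlerDifferential
  let π : Ω[B⁄k] →ₗ[B] Ω[B⁄K] := KaehlerDifferential.map k K B B
  have hπsurj : Function.Surjective π := KaehlerDifferential.map_surjective k K B
  have hπinj : Function.Injective π := by
    rw [← LinearMap.ker_eq_bot, eq_bot_iff]
    intro x hx
    have hex := KaehlerDifferential.exact_mapBaseChange_map k K B
    obtain ⟨y, rfl⟩ := (hex x).mp hx
    have hy0 : ∀ y : TensorProduct K B (Ω[K⁄k]), y = 0 := by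
      intro y
      induction y using TensorProduct.induction_on with
      | zero => rfl
      | tmul b w => rw [Subsingleton.elim w 0, TensorProduct.tmul_zero]
      | add y₁ y₂ h₁ h₂ => rw [h₁, h₂, add_zero]
    have := hy0 y
    rw [this, map_zero]
    exact Submodule.zero_mem _
  let πe : Ω[B⁄k] ≃ₗ[B] Ω[B⁄K] := LinearEquiv.ofBijective π ⟨hπinj, hπsurj⟩
  let φ : ↥(⋀[B]^p (Ω[B⁄k])) →ₗ[B] ↥(⋀[B]^p (Ω[B⁄K])) := exteriorPower.map p π
  have hφbij : Function.Bijective φ := by
    constructor
    · apply exteriorPower.map_injective (πe.symm : Ω[B⁄K] →ₗ[B] Ω[B⁄k])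
      exact LinearMap.ext fun x => πe.symm_apply_apply x
    · exact exteriorPower.map_surjective hπsurj
  -- ψ p = φ
  have hψφ : ∀ x, ψ p x = φ x := by
    have hspan := exteriorPower.ιMulti_span_of_span B p (Ω[B⁄k])
      (KaehlerDifferential.span_range_derivation k B)
    have key : ∀ x ∈ Submodule.span B (⇑(exteriorPower.ιMulti B p) ''
        {a : Fin p → Ω[B⁄k] | Set.range a ⊆ Set.range (KaehlerDifferential.D k B)}),
        ∀ c : B, ψ p (c • x) = φ (c • x) := by
      intro x hx
      induction hx using Submodule.span_induction with
      | mem x hx =>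
        obtain ⟨a, ha, rfl⟩ := hx
        intro c
        have : ∀ i, ∃ b, KaehlerDifferential.D k B b = a i := fun i => ha ⟨i, rfl⟩
        choose b hb using this
        have ha' : a = fun i => KaehlerDifferential.D k B (b i) := by
          funext i; exact (hb i).symm
        have h1 := hψ p c b
        simp only [DeRham.gen, RingHom.id_apply] at h1
        rw [ha', h1, map_smul]
        congr 1
        change _ = exteriorPower.map p π _
        rw [exteriorPower.map_apply_ιMulti]
        congr 1
        funext i
        simp [π]
      | zero => intro c; simp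
      | add x y _ _ hx hy => intro c; rw [smul_add, map_add, map_add, hx c, hy c]
      | smul c' x _ hx => intro c; rw [smul_smul]; exact hx (c * c')
    intro x
    have := key x (by rw [hspan]; trivial) 1
    simpa using this
  have : (ψ p : _ → _) = φ := funext hψφ
  rw [this]
  exact hφbij

end Groth.Agent.S19630
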