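import Groth.Statements.S19632
import Groth.Agent.H98.LaurentDeriv

set_option autoImplicit false
universe u
open DeRham

namespace Groth.Agent.S19632

/-- Let k be a field of characteristic zero and G_m = Spec k[t, t⁻¹] the multiplicative group. The
kernel of the differential d : k[t, t⁻¹] → Ω¹ of the de Rham complex of G_m consists of the
constants: for a Laurent polynomial f, df = 0 if and only if f lies in the image of k. Equivalently
H^0_dR(G_m/k) = k. (Characteristic zero is used: in characteristic p the element t^p is closed.) -/
theorem result (k : Type u) [Field k] [CharZero k]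
    (f : LaurentPolynomial k) :
    KaehlerDifferential.D k (LaurentPolynomial k) f = 0 ↔ f ∈ Set.range (algebraMap k (LaurentPolynomial k)) := by
  constructor
  · intro h
    have h1 : Groth.Agent.H98.laurentDeriv k f = 0 := by
      have := (Groth.Agent.H98.laurentDeriv k).liftKaehlerDifferential_comp_D f
      rw [← this, h, map_zero]
    have h2 : ∀ n : ℤ, n ≠ 0 → f.coeff n = 0 := by
      intro n hn
      have := Groth.Agent.H98.laurentDeriv_coeff k f (n - 1)
      rw [h1, sub_add_cancel] at this
      have hn' : ((n : ℤ) : k) ≠ 0 := Int.cast_ne_zero.mpr hn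
      have h0 : ((n : ℤ) : k) * f.coeff n = 0 := by
        rw [← this]; rfl
      exact (mul_eq_zero.mp h0).resolve_left hn'
    refine ⟨f.coeff 0, ?_⟩
    rw [← LaurentPolynomial.C_eq_algebraMap]
    ext n
    rw [LaurentPolynomial.C_apply]
    split_ifs with hn
    · rw [hn]
    · exact (h2 n hn).symm
  · rintro ⟨c, rfl⟩
    exact Derivation.map_algebraMap _ c

end Groth.Agent.S19632
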