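import Groth.Statements.S1965
import Groth.Agent.S0498
import Mathlib

set_option autoImplicit false
universe u
open Polynomial
open EtAlg

namespace Groth.Agent.S1965

section
variable {A : Type u} [CommRing A]

/-- a polynomial all of whose coefficients lie in an ideal takes values in that ideal. -/
theorem eval_mem_of_coeff_mem {J : Ideal A} {Q : A[X]} (hQ : ∀ i, Q.coeff i ∈ J) (x : A) :
    Q.eval x ∈ J := by
  rw [Polynomial.eval_eq_sum_range]
  exact Ideal.sum_mem _ fun i _ => Ideal.mul_mem_right _ _ (hQ i)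

theorem derivative_coeff_mem {J : Ideal A} {Q : A[X]} (hQ : ∀ i, Q.coeff i ∈ J) (i : ℕ) :
    (derivative Q).coeff i ∈ J := by
  rw [Polynomial.coeff_derivative]
  exact Ideal.mul_mem_right _ _ (hQ _)

/-- The key "Newton" step: if `f(a) = e² t` and `f'(a) = e` with `t` in the maximal ideal of a
henselian local ring then `f` has a root `a + e y` with `y ∈ t A`. -/
theorem exists_root_of_eval_eq_sq_mul [HenselianLocalRing A] (f : A[X]) (a e t : A)
    (h0 : f.eval a = e ^ 2 * t) (h1 : (derivative f).eval a = e)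
    (ht : t ∈ IsLocalRing.maximalIdeal A) :
    ∃ y : A, f.eval (a + e * y) = 0 ∧ ∃ w : A, y = t * w := by
  set T := taylor a f with hT
  set G := T.divX.divX with hG
  have hT0 : T.coeff 0 = e ^ 2 * t := by rw [hT, taylor_coeff_zero, h0]
  have hT1 : T.coeff 1 = e := by rw [hT, taylor_coeff_one, h1]
  have hdecomp : T = C (e ^ 2 * t) + X * (C e + X * G) := by
    have e1 := Polynomial.divX_mul_X_add T
    have e2 := Polynomial.divX_mul_X_add T.divX
    rw [Polynomial.coeff_divX, zero_add, hT1] at e2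
    rw [hT0] at e1
    rw [← hG] at e2
    calc T = T.divX * X + C (e ^ 2 * t) := e1.symm
      _ = (G * X + C e) * X + C (e ^ 2 * t) := by rw [e2]
      _ = _ := by ring
  set h : A[X] := C t + X + X ^ 2 * G.comp (C e * X) with hh
  have hh0 : h.eval 0 = t := by
    simp [hh]
  have hh1 : (derivative h).eval 0 = 1 := by
    simp [hh, Polynomial.derivative_mul]
  obtain ⟨y, hy, hy0⟩ := Groth.Agent.S0498.result A h 0
    (by rw [← map_zero (IsLocalRing.residue A), Polynomial.eval₂_at_apply, hh0]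
        exact (IsLocalRing.residue_eq_zero_iff _).2 ht)
    (by rw [← map_zero (IsLocalRing.residue A), Polynomial.eval₂_at_apply, hh1, map_one]
        exact one_ne_zero)
  have hym : y ∈ IsLocalRing.maximalIdeal A := (IsLocalRing.residue_eq_zero_iff _).1 hy0
  have hy' : t + y + y ^ 2 * G.eval (e * y) = 0 := by
    have := hy
    rw [Polynomial.IsRoot.def, hh] at this
    simpa using this
  refine ⟨y, ?_, ?_⟩
  · have : f.eval (a + e * y) = T.eval (e * y) := by
      rw [hT, taylor_eval, add_comm]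
    rw [this, hdecomp]
    simp only [eval_add, eval_mul, eval_C, eval_X]
    linear_combination e ^ 2 * hy'
  · have hu : IsUnit (1 + y * G.eval (e * y)) := by
      have hm : y * G.eval (e * y) ∈ IsLocalRing.maximalIdeal A := Ideal.mul_mem_right _ _ hym
      have := IsLocalRing.isUnit_one_sub_self_of_mem_nonunits _ (neg_mem hm)
      simpa using this
    obtain ⟨u, hu⟩ := hu
    refine ⟨- ↑u⁻¹, ?_⟩
    have h3 : y * (u : A) = - t := by rw [hu]; linear_combination hy'
    have h4 : (u : A) * ↑u⁻¹ = 1 := Units.mul_inv u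
    linear_combination (↑u⁻¹ : A) * h3 - y * h4

end

/-- Let A be a complete Noetherian local domain of Krull dimension 1 with maximal ideal m, P a
polynomial over A and α a root of P which is not a root of the derivative P'. Then for every c there
is an n such that for every polynomial Q all of whose coefficients lie in m^n, the polynomial P + Q
has a root β with β - α in m^c. -/
theorem result (A : Type u) [CommRing A] [IsDomain A] [IsLocalRing A] [IsNoetherianRing A]
    [IsAdicComplete (IsLocalRing.maximalIdeal A) A] (hdim : ringKrullDim A = 1) (P : A[X]) (α : A)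
    (hα : P.eval α = 0) (hα' : (derivative P).eval α ≠ 0) (c : ℕ) :
    ∃ n : ℕ, ∀ Q : A[X], (∀ i, Q.coeff i ∈ IsLocalRing.maximalIdeal A ^ n) →
      ∃ β : A, (P + Q).eval β = 0 ∧ β - α ∈ IsLocalRing.maximalIdeal A ^ c := by
  have hd : (derivative P).eval α ≠ 0 := hα'
  set d := (derivative P).eval α with hddef
  have hrad : IsLocalRing.maximalIdeal A ≤ (Ideal.span {d}).radical := by
    rw [Ideal.radical_eq_sInf]
    refine le_sInf ?_
    rintro 𝔭 ⟨hle, hprime⟩
    have hdim' : Order.krullDim (PrimeSpectrum A) ≤ 1 := hdim.le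
    rcases (Order.krullDim_le_one_iff.1 hdim') ⟨𝔭, hprime⟩ with hmin | hmax
    · exfalso
      have h1 : (⟨𝔭, hprime⟩ : PrimeSpectrum A) ≤ ⟨⊥, Ideal.isPrime_bot⟩ :=
        hmin (b := ⟨⊥, Ideal.isPrime_bot⟩) (by
          change (⊥ : Ideal A) ≤ 𝔭
          exact bot_le)
      have hd𝔭 : d ∈ 𝔭 := hle (Ideal.mem_span_singleton_self d)
      have h2 : 𝔭 ≤ ⊥ := h1
      exact hd (h2 hd𝔭)
    · have h1 := hmax (b := ⟨IsLocalRing.maximalIdeal A, inferInstance⟩)
        (by
          change 𝔭 ≤ IsLocalRing.maximalIdeal A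
          exact IsLocalRing.le_maximalIdeal hprime.ne_top)
      exact h1
  obtain ⟨N, hN⟩ := Ideal.exists_pow_le_of_le_radical_of_fg hrad (IsNoetherian.noetherian _)
  haveI : HenselianLocalRing A := by
    have h := IsAdicComplete.henselianRing A (IsLocalRing.maximalIdeal A)
    exact ⟨fun f hf a₀ h₁ h₂ => h.is_henselian f hf a₀ h₁ (h₂.map _)⟩
  refine ⟨2 * N + c + 1, fun Q hQ => ?_⟩
  have hq0 : Q.eval α ∈ IsLocalRing.maximalIdeal A ^ (2 * N + c + 1) :=
    eval_mem_of_coeff_mem hQ α
  have hq1 : (derivative Q).eval α ∈ IsLocalRing.maximalIdeal A ^ (2 * N + c + 1) :=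
    eval_mem_of_coeff_mem (derivative_coeff_mem hQ) α
  have hle1 : IsLocalRing.maximalIdeal A ^ (2 * N + c + 1) ≤
      Ideal.span {d} * IsLocalRing.maximalIdeal A := by
    calc IsLocalRing.maximalIdeal A ^ (2 * N + c + 1)
        ≤ IsLocalRing.maximalIdeal A ^ (N + 1) := Ideal.pow_le_pow_right (by omega)
      _ = IsLocalRing.maximalIdeal A ^ N * IsLocalRing.maximalIdeal A := pow_succ _ _
      _ ≤ Ideal.span {d} * IsLocalRing.maximalIdeal A := Ideal.mul_mono_left hN
  obtain ⟨μ, hμ, hμ'⟩ := Ideal.mem_span_singleton_mul.1 (hle1 hq1)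
  have hle2 : IsLocalRing.maximalIdeal A ^ (2 * N + c + 1) ≤
      Ideal.span {d ^ 2} * IsLocalRing.maximalIdeal A ^ (c + 1) := by
    calc IsLocalRing.maximalIdeal A ^ (2 * N + c + 1)
        = IsLocalRing.maximalIdeal A ^ N * IsLocalRing.maximalIdeal A ^ N *
            IsLocalRing.maximalIdeal A ^ (c + 1) := by
          rw [← pow_add, ← pow_add]; congr 1; omega
      _ ≤ Ideal.span {d} * Ideal.span {d} * IsLocalRing.maximalIdeal A ^ (c + 1) :=
          Ideal.mul_mono (Ideal.mul_mono hN hN) le_rfl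
      _ = Ideal.span {d ^ 2} * IsLocalRing.maximalIdeal A ^ (c + 1) := by
          rw [Ideal.span_singleton_mul_span_singleton, sq]
  obtain ⟨t0, ht0, ht0'⟩ := Ideal.mem_span_singleton_mul.1 (hle2 hq0)
  have hu : IsUnit (1 + μ) := by
    have := IsLocalRing.isUnit_one_sub_self_of_mem_nonunits _ (neg_mem hμ)
    simpa using this
  obtain ⟨u, hu⟩ := hu
  have huu : (u : A) * ↑u⁻¹ = 1 := Units.mul_inv u
  have hpow : IsLocalRing.maximalIdeal A ^ (c + 1) ≤ IsLocalRing.maximalIdeal A ^ c :=
    Ideal.pow_le_pow_right (by omega)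
  have hpow1 : IsLocalRing.maximalIdeal A ^ (c + 1) ≤ IsLocalRing.maximalIdeal A := by
    calc _ ≤ IsLocalRing.maximalIdeal A ^ 1 := Ideal.pow_le_pow_right (by omega)
      _ = _ := pow_one _
  have ht : t0 * (↑u⁻¹ : A) ^ 2 ∈ IsLocalRing.maximalIdeal A ^ (c + 1) :=
    Ideal.mul_mem_right _ _ ht0
  have h0 : (P + Q).eval α = (d * (u : A)) ^ 2 * (t0 * (↑u⁻¹ : A) ^ 2) := by
    rw [eval_add, hα, zero_add, ← ht0']
    linear_combination (-(d ^ 2 * t0) * ((u : A) * ↑u⁻¹ + 1)) * huu
  have h1 : (derivative (P + Q)).eval α = d * (u : A) := by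
    rw [derivative_add, eval_add, ← hμ', hu]
    ring
  obtain ⟨y, hy, w, hw⟩ := exists_root_of_eval_eq_sq_mul (P + Q) α (d * (u : A))
    (t0 * (↑u⁻¹ : A) ^ 2) h0 h1 (hpow1 ht)
  refine ⟨α + d * (u : A) * y, hy, ?_⟩
  rw [add_sub_cancel_left, hw]
  have : d * (u : A) * (t0 * (↑u⁻¹ : A) ^ 2 * w) = (t0 * (↑u⁻¹ : A) ^ 2) * (d * (u : A) * w) := by
    ring
  rw [this]
  exact Ideal.mul_mem_right _ _ (hpow ht)

end Groth.Agent.S1965
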