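import Groth.Statements.S1966
import Mathlib.Dynamics.Newton
import Mathlib.RingTheory.Jacobson.Ideal
import Mathlib.RingTheory.Nilpotent.Lemmas

set_option autoImplicit false
universe u
open EtAlg

namespace Groth.Agent.S1966

open Polynomial

section

variable {A : Type u} [CommRing A] {As : ℕ → Type u} [∀ k, CommRing (As k)]
    (t : ∀ k, As (k + 1) →+* As k)
    (hnil : ∀ k (x : As (k + 1)), t k x = 0 → IsNilpotent x)
    (p : ∀ k, A →+* As k) (hp : ∀ k, (t k).comp (p (k + 1)) = p k)

include hp in
theorem t_p (j : ℕ) (z : A) : t j (p (j + 1) z) = p j z := by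
  rw [← hp j]; rfl

include hp in
theorem p_eq_zero_of_le {k : ℕ} {z : A} (hz : p k z = 0) : ∀ d j, j + d = k → p j z = 0 := by
  intro d
  induction d with
  | zero => intro j hj; rw [Nat.add_zero] at hj; rw [hj]; exact hz
  | succ d ih =>
    intro j hj
    rw [← t_p t p hp, ih (j + 1) (by omega), map_zero]

include hnil hp in
theorem isNilpotent_p {k : ℕ} {z : A} (hz : p k z = 0) (j : ℕ) : IsNilpotent (p j z) := by
  rcases le_total j k with h | h
  · obtain ⟨d, rfl⟩ := Nat.exists_eq_add_of_le h
    rw [p_eq_zero_of_le t p hp hz d j rfl]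
    exact IsNilpotent.zero
  · induction j, h using Nat.le_induction with
    | base => rw [hz]; exact IsNilpotent.zero
    | succ j _ ih =>
      obtain ⟨n, hn⟩ := ih
      rw [← t_p t p hp, ← map_pow] at hn
      obtain ⟨m, hm⟩ := hnil j _ hn
      exact ⟨n * m, by rw [pow_mul, hm]⟩

end

/-- Towers indexed by the natural numbers: let (A_k) be rings with surjective transition maps A_{k+1} ->
A_k whose kernels consist of nilpotent elements, and let A be a ring with compatible projections p_k
: A -> A_k identifying A with the set of compatible sequences (p is jointly injective and every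
compatible sequence comes from an element of A). Then for every k the pair (A, ker p_k) is
henselian. -/
theorem result (A : Type u) [CommRing A] (As : ℕ → Type u) [∀ k, CommRing (As k)]
    (t : ∀ k, As (k + 1) →+* As k) (ht : ∀ k, Function.Surjective (t k))
    (hnil : ∀ k (x : As (k + 1)), t k x = 0 → IsNilpotent x)
    (p : ∀ k, A →+* As k) (hp : ∀ k, (t k).comp (p (k + 1)) = p k)
    (hinj : ∀ a b : A, (∀ k, p k a = p k b) → a = b)
    (hsurj : ∀ x : ∀ k, As k, (∀ k, t k (x (k + 1)) = x k) → ∃ a : A, ∀ k, p k a = x k) (k : ℕ) :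
    HenselianRing A (RingHom.ker (p k)) := by
  have hnilp : ∀ {z : A}, p k z = 0 → ∀ j, IsNilpotent (p j z) :=
    fun hz j => isNilpotent_p t hnil p hp hz j
  -- units: if z ∈ ker p_k then 1 + z is a unit
  have hunit1 : ∀ z : A, p k z = 0 → IsUnit (z + 1) := by
    intro z hz
    have hu : ∀ j, IsUnit (p j (z + 1)) := by
      intro j
      rw [map_add, map_one]
      exact (hnilp hz j).isUnit_add_one
    choose w hw using fun j => (hu j)
    have hcompat : ∀ j, t j ((↑(w (j + 1))⁻¹ : As (j + 1))) = ↑(w j)⁻¹ := by
      intro j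
      have h1 : t j (↑(w (j + 1)) : As (j + 1)) = ↑(w j) := by
        rw [hw, hw, t_p t p hp]
      have h2 : (↑(w j) : As j) * t j ((↑(w (j + 1))⁻¹ : As (j + 1))) = 1 := by
        rw [← h1, ← map_mul, Units.mul_inv, map_one]
      exact (Units.eq_inv_of_mul_eq_one_right (by rw [mul_comm]; exact h2))
    obtain ⟨b, hb⟩ := hsurj (fun j => (↑(w j)⁻¹ : As j)) hcompat
    refine isUnit_iff_exists_inv.mpr ⟨b, hinj _ _ fun j => ?_⟩
    rw [map_mul, hb, ← hw, Units.mul_inv, map_one]
  refine ⟨?_, ?_⟩
  · intro x hx
    rw [Ideal.mem_jacobson_bot]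
    intro y
    exact hunit1 (x * y) (by rw [map_mul, RingHom.mem_ker.mp hx, zero_mul])
  · intro f hf a₀ h₁ h₂
    rw [RingHom.mem_ker] at h₁
    rw [isUnit_iff_exists_inv] at h₂
    obtain ⟨v, hv⟩ := h₂
    obtain ⟨v, rfl⟩ := Ideal.Quotient.mk_surjective v
    rw [← map_mul, ← map_one (Ideal.Quotient.mk _), Ideal.Quotient.eq, RingHom.mem_ker] at hv
    -- level j data
    have hN : ∀ j, IsNilpotent (aeval (p j a₀) (f.map (p j))) := by
      intro j
      rw [coe_aeval_eq_eval, eval_map_apply]
      exact hnilp h₁ j
    have hU : ∀ j, IsUnit (aeval (p j a₀) (derivative (f.map (p j)))) := by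
      intro j
      rw [coe_aeval_eq_eval, derivative_map, eval_map_apply]
      have h := (hnilp hv j).isUnit_add_one
      rw [← map_one (p j), ← map_add, sub_add_cancel, map_mul] at h
      exact isUnit_of_mul_isUnit_left h
    choose r hr hruniq using fun j => existsUnique_nilpotent_sub_and_aeval_eq_zero (hN j) (hU j)
    have hcompat : ∀ j, t j (r (j + 1)) = r j := by
      intro j
      apply hruniq j
      constructor
      · have := (hr (j + 1)).1.map (t j)
        rwa [map_sub, t_p t p hp] at this
      · have := congrArg (t j) (hr (j + 1)).2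
        rw [map_zero, coe_aeval_eq_eval, ← eval_map_apply, Polynomial.map_map, hp j] at this
        rw [coe_aeval_eq_eval]
        exact this
    obtain ⟨a, ha⟩ := hsurj r hcompat
    refine ⟨a, ?_, ?_⟩
    · rw [IsRoot.def]
      apply hinj
      intro j
      rw [map_zero, ← eval_map_apply, ha]
      have := (hr j).2
      rwa [coe_aeval_eq_eval] at this
    · rw [RingHom.mem_ker, map_sub, sub_eq_zero, ha]
      symm
      apply hruniq k
      refine ⟨by rw [sub_self]; exact IsNilpotent.zero, ?_⟩
      rw [coe_aeval_eq_eval, eval_map_apply, h₁]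

end Groth.Agent.S1966
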