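import Groth.Statements.S19679
import Groth.Agent.H40.BalProd
import Groth.Agent.H40.InvPts

set_option autoImplicit false
universe u
open CategoryTheory MonoidalCategory CartesianMonoidalCategory MonObj AlgebraicGeometry
open ChGrp

namespace Groth.Agent.S19679

/-- Let k be an algebraically closed field of characteristic zero, G and H affine group schemes of
finite type over k (algebraic groups) with i : H → G a homomorphism which is a closed immersion, and
Z a reduced affine k-scheme of finite type (an affine variety) with an action of H. Let Y, with its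
G-action and j : G × Z → Y, be the balanced product G ×^H Z for the fppf topology: j is
G-equivariant for left translation on the first factor, it is a torsor for the twisted H-action
h·(g, z) = (g i(h)⁻¹, h·z), and it has sections fppf-locally on Y. If π_Z : Z → P is a categorical
quotient of Z by H and π_Y : Y → Q a categorical quotient of Y by G, then the projection G × Z → Z
induces an isomorphism Q ≅ P, inverse to the morphism induced by the H-invariant map z ↦ π_Y(j(e,
z)): there are mutually inverse φ : P → Q and χ : Q → P with π_Z followed by φ equal to z ↦ π_Y(j(e,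
z)) and j followed by π_Y and χ equal to the projection followed by π_Z (so Y//G ≅ Z//H). (The
source assumes G and H reductive and defines G ×^H Z as the quotient (G × Z)//H, a principal
H-bundle; here the quotients are part of the data, the balanced product is taken in its torsor form,
and reductivity is not needed.) -/
theorem result
    (k : Type u) [Field k] [IsAlgClosed k] [CharZero k]
    (G H Z Y P Q : Over (Spec (CommRingCat.of k))) [GrpObj G] [GrpObj H]
    [IsAffine G.left] [LocallyOfFiniteType G.hom] [IsAffine H.left] [LocallyOfFiniteType H.hom]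
    (i : H ⟶ G) [IsMonHom i] [IsClosedImmersion i.left]
    [IsAffine Z.left] [LocallyOfFiniteType Z.hom] [IsReduced Z.left]
    (aZ : AlgGrp.Action H Z) (aY : AlgGrp.Action G Y) (j : G ⊗ Z ⟶ Y)
    (hY : ChGrp.IsBalProd Scheme.fppfPrecoverage i aZ aY j)
    (πZ : Z ⟶ P) (hP : GIT.IsCatQuot aZ πZ) (πY : Y ⟶ Q) (hQ : GIT.IsCatQuot aY πY) :
    ∃ (φ : P ⟶ Q) (χ : Q ⟶ P), φ ≫ χ = 𝟙 P ∧ χ ≫ φ = 𝟙 Q ∧
      πZ ≫ φ = lift (toUnit Z ≫ η[G]) (𝟙 Z) ≫ j ≫ πY ∧ j ≫ πY ≫ χ = snd G Z ≫ πZ := by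
  obtain ⟨hY1, hY2, hY3⟩ := hY
  have hY3' : NonAbH1.IsLocallyTrivialFor Scheme.fpqcPrecoverage (Over.mk j.left : Over Y.left) :=
    Groth.Agent.H40.IsLocallyTrivialFor.mono Scheme.fppfPrecoverage_le_fpqcPrecoverage hY3
  obtain ⟨hPinv, hPuniv⟩ := hP
  obtain ⟨hQinv, hQuniv⟩ := hQ
  have hPinv' := (Groth.Agent.H40.isInvariant_iff aZ πZ).1 hPinv
  have hQinv' := (Groth.Agent.H40.isInvariant_iff aY πY).1 hQinv
  have hjepi : Epi j := Groth.Agent.H40.epi_of_locallyTrivial j hY3'
  have hpair : ∀ {T : Over (Spec (CommRingCat.of k))} (p : T ⟶ G ⊗ Z),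
      ∃ (g : T ⟶ G) (z : T ⟶ Z), p = lift g z :=
    fun p => ⟨_, _, Groth.Agent.H40.eq_lift_fst_snd p⟩
  -- the section `z ↦ (1, z)`
  have hsec : ∀ {T W : Over (Spec (CommRingCat.of k))} (z : T ⟶ Z) (f : G ⊗ Z ⟶ W),
      z ≫ lift (toUnit Z ≫ η[G]) (𝟙 Z) ≫ f = lift (1 : T ⟶ G) z ≫ f := by
    intro T W z f
    rw [← Category.assoc, comp_lift, Category.comp_id, Hom.one_def, ← Category.assoc]
    congr 3
    exact toUnit_unique _ _
  -- `(g, z) ↦ πY (j (g, z))` does not depend on `g`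
  have hconst : ∀ {T : Over (Spec (CommRingCat.of k))} (g : T ⟶ G) (z : T ⟶ Z),
      lift g z ≫ j ≫ πY = lift (1 : T ⟶ G) z ≫ j ≫ πY := by
    intro T g z
    have := Groth.Agent.H40.psmul_lift_comp_of_isEquivariant aY j hY1 g (1 : T ⟶ G) z
    rw [_root_.mul_one] at this
    rw [← Category.assoc, ← this, hQinv', Category.assoc]
  -- the invariant map `Z ⟶ Q`
  have hψ₀ : GIT.IsInvariant aZ (lift (toUnit Z ≫ η[G]) (𝟙 Z) ≫ j ≫ πY) := by
    rw [Groth.Agent.H40.isInvariant_iff]
    intro T h z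
    rw [hsec, hsec]
    have h1 := Groth.Agent.H40.psmul_comp_of_isPullback (ChGrp.twist i aZ) j hY2 h (lift (h ≫ i) z)
    rw [Groth.Agent.H40.psmul_twist, _root_.mul_inv_cancel] at h1
    rw [← Category.assoc, h1, Category.assoc, hconst]
  obtain ⟨φ, hφ, -⟩ := hPuniv Q _ hψ₀
  -- the map `Y ⟶ P`
  obtain ⟨ψ, hψ, -⟩ := Groth.Agent.H40.existsUnique_desc_over_of_locallyTrivial j hY3'
    (snd G Z ≫ πZ) (by
      intro T z₁ z₂ h12
      obtain ⟨h, hh⟩ := Groth.Agent.H40.exists_psmul_of_isPullback (ChGrp.twist i aZ) j hY2 z₁ z₂ h12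
      obtain ⟨g, z, rfl⟩ := hpair z₂
      rw [Groth.Agent.H40.psmul_twist] at hh
      rw [← hh, lift_snd_assoc, lift_snd_assoc, hPinv'])
  have hψinv : GIT.IsInvariant aY ψ := by
    have hepi : Epi (G ◁ j) := Groth.Agent.H40.epi_whiskerLeft_of_locallyTrivial j hY3'
    change aY.act ≫ ψ = snd G Y ≫ ψ
    have e1 : G ◁ j ≫ aY.act =
        ((NonAbH1.trivialAction G).prod (AlgGrp.Action.trivial G Z)).act ≫ j := hY1.symm
    have e2 : G ◁ j ≫ snd G Y = snd G (G ⊗ Z) ≫ j := whiskerLeft_snd _ _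
    rw [← cancel_epi (G ◁ j), reassoc_of% e1, reassoc_of% e2, hψ]
    apply AlgGrp.Action.hom_ext_lift₂
    intro T g' p
    obtain ⟨g, z, rfl⟩ := hpair p
    rw [← Category.assoc, ← Groth.Agent.H40.psmul_def, Groth.Agent.H40.psmul_leftMul,
      lift_snd_assoc, lift_snd_assoc, lift_snd_assoc]
  obtain ⟨χ, hχ, -⟩ := hQuniv P ψ hψinv
  have hjχ : j ≫ πY ≫ χ = snd G Z ≫ πZ := by rw [hχ, hψ]
  refine ⟨φ, χ, ?_, ?_, hφ, hjχ⟩
  · obtain ⟨c, -, hcu⟩ := hPuniv P πZ hPinv
    have e1 : πZ ≫ φ ≫ χ = πZ := by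
      rw [← Category.assoc, hφ, Category.assoc, Category.assoc, hjχ, lift_snd_assoc,
        Category.id_comp]
    rw [hcu (φ ≫ χ) e1, hcu (𝟙 P) (Category.comp_id _)]
  · obtain ⟨c, -, hcu⟩ := hQuniv Q πY hQinv
    have hψφ : ψ ≫ φ = πY := by
      rw [← cancel_epi j, ← Category.assoc, hψ, Category.assoc, hφ]
      apply AlgGrp.Action.hom_ext_lift₂
      intro T g z
      rw [lift_snd_assoc, hsec, hconst g z]
    have e2 : πY ≫ χ ≫ φ = πY := by rw [← Category.assoc, hχ, hψφ]
    rw [hcu (χ ≫ φ) e2, hcu (𝟙 Q) (Category.comp_id _)]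

end Groth.Agent.S19679
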