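import Groth.Statements.S19681
import Groth.Agent.H40.BalProdSub
set_option backward.isDefEq.respectTransparency.types false

set_option autoImplicit false
universe u
open CategoryTheory MonoidalCategory CartesianMonoidalCategory MonObj AlgebraicGeometry
open ChGrp

namespace Groth.Agent.S19681

/-- Let k be an algebraically closed field of characteristic zero, G and H affine group schemes of
finite type over k with i : H → G a homomorphism which is a closed immersion, and Z a reduced affine
k-scheme of finite type with an action of H. Let Y, with its G-action and j : G × Z → Y, be the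
balanced product G ×^H Z for the fppf topology (j is G-equivariant for left translation on the first
factor, a torsor for the twisted H-action h·(g, z) = (g i(h)⁻¹, h·z), with sections fppf-locally on
Y). Let c : Y' → Y be a closed immersion from a reduced scheme Y' with a G-action making c
equivariant (a closed G-invariant subvariety of Y). Then Y' is again a balanced product: there are a
closed immersion c' : Z' → Z, an H-action on Z' for which c' is equivariant (a closed H-invariant
subscheme of Z), and a morphism j' : G × Z' → Y' with j' followed by c equal to G × c' followed by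
j, such that j' makes Y' the balanced product G ×^H Z' for the fppf topology. (The source assumes G
and H reductive and defines G ×^H Z as the quotient (G × Z)//H, a principal H-bundle; here the
balanced product is taken in its torsor form and reductivity is not needed.) -/
theorem result
    (k : Type u) [Field k] [IsAlgClosed k] [CharZero k]
    (G H Z Y Y' : Over (Spec (CommRingCat.of k))) [GrpObj G] [GrpObj H]
    [IsAffine G.left] [LocallyOfFiniteType G.hom] [IsAffine H.left] [LocallyOfFiniteType H.hom]
    (i : H ⟶ G) [IsMonHom i] [IsClosedImmersion i.left]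
    [IsAffine Z.left] [LocallyOfFiniteType Z.hom] [IsReduced Z.left]
    (aZ : AlgGrp.Action H Z) (aY : AlgGrp.Action G Y) (j : G ⊗ Z ⟶ Y)
    (hY : ChGrp.IsBalProd Scheme.fppfPrecoverage i aZ aY j)
    (c : Y' ⟶ Y) [IsClosedImmersion c.left] [IsReduced Y'.left]
    (aY' : AlgGrp.Action G Y') (hc : AlgGrp.Action.IsEquivariant aY' aY c) :
    ∃ (Z' : Over (Spec (CommRingCat.of k))) (c' : Z' ⟶ Z) (aZ' : AlgGrp.Action H Z') (j' : G ⊗ Z' ⟶ Y'),
      IsClosedImmersion c'.left ∧ AlgGrp.Action.IsEquivariant aZ' aZ c' ∧
      j' ≫ c = (G ◁ c') ≫ j ∧ ChGrp.IsBalProd Scheme.fppfPrecoverage i aZ' aY' j' := by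
  have hmono : Mono c := by
    have : Mono ((Over.forget _).map c) := (inferInstance : Mono c.left)
    exact (Over.forget _).mono_of_mono_map this
  have he : ∀ {T : Over (Spec (CommRingCat.of k))} (z : T ⟶ Z),
      z ≫ lift (toUnit Z ≫ η[G]) (𝟙 Z) ≫ j = lift (1 : T ⟶ G) z ≫ j := by
    intro T z
    rw [← Category.assoc, comp_lift, Category.comp_id, Hom.one_def, ← Category.assoc]
    congr 3
    exact toUnit_unique _ _
  obtain ⟨aZ', j', h1, h2, h3⟩ := Groth.Agent.H40.exists_balProd_sub_aux Scheme.fppfPrecoverage
    i aZ aY j hY c aY' hc (lift (toUnit Z ≫ η[G]) (𝟙 Z) ≫ j) he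
    (Limits.pullback.fst (lift (toUnit Z ≫ η[G]) (𝟙 Z) ≫ j) c)
    (Limits.pullback.snd (lift (toUnit Z ≫ η[G]) (𝟙 Z) ≫ j) c)
    (IsPullback.of_hasPullback _ _)
  refine ⟨_, Limits.pullback.fst (lift (toUnit Z ≫ η[G]) (𝟙 Z) ≫ j) c, aZ', j', ?_, h1, h2, h3⟩
  have hpb := (IsPullback.of_hasPullback (lift (toUnit Z ≫ η[G]) (𝟙 Z) ≫ j) c).map (Over.forget _)
  exact MorphismProperty.of_isPullback (P := @IsClosedImmersion) hpb.flip
    (inferInstance : IsClosedImmersion c.left)

end Groth.Agent.S19681
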