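import Groth.Statements.S1971
import Groth.Agent.H10.HenselRadical

set_option autoImplicit false
universe u
open EtAlg

namespace Groth.Agent.S1971

theorem aux (A : Type u) [CommRing A] (I J : Ideal A) (h : I.radical = J.radical)
    (B : Type u) [CommRing B] [Algebra A B] (hB : Hens2.IsPairHenselization A I B) :
    Hens2.IsPairHenselization A J B := by
  have hmap : ∀ {C : Type u} [CommRing C] (f : A →+* C) (I J : Ideal A), I.radical = J.radical →
      I.map f ≤ (J.map f).radical := by
    intro C _ f I J hIJ
    calc I.map f ≤ (I.radical).map f := Ideal.map_mono Ideal.le_radical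
      _ = (J.radical).map f := by rw [hIJ]
      _ ≤ (J.map f).radical := Ideal.map_radical_le f
  obtain ⟨hH, hU⟩ := hB
  refine ⟨?_, ?_⟩
  · refine Groth.Agent.H10.henselianRing_of_radical_eq ?_ hH
    apply le_antisymm
    · exact Ideal.radical_le_radical_iff.mpr (hmap _ I J h)
    · exact Ideal.radical_le_radical_iff.mpr (hmap _ J I h.symm)
  · intro C _ K f hK hf
    have hK' : HenselianRing C K.radical := Groth.Agent.H10.henselianRing_radical K
    refine hU C K.radical f hK' ?_
    exact (hmap f I J h).trans (Ideal.radical_mono hf)

/-- Let A be a ring with ideals I and J having the same zero locus in Spec A. Then an A-algebra is a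
henselization of the pair (A, I) if and only if it is a henselization of the pair (A, J). -/
theorem result (A : Type u) [CommRing A] (I J : Ideal A)
    (h : PrimeSpectrum.zeroLocus (I : Set A) = PrimeSpectrum.zeroLocus (J : Set A)) (B : Type u) [CommRing B] [Algebra A B] :
    Hens2.IsPairHenselization A I B ↔ Hens2.IsPairHenselization A J B := by
  have hrad : I.radical = J.radical := by
    rw [← PrimeSpectrum.vanishingIdeal_zeroLocus_eq_radical,
      ← PrimeSpectrum.vanishingIdeal_zeroLocus_eq_radical, h]
  exact ⟨aux A I J hrad B, aux A J I hrad.symm B⟩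

end Groth.Agent.S1971
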