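import Groth.Statements.S19710
import Groth.Agent.H86.LLS9
import Groth.Agent.S18175

set_option autoImplicit false
open FunFld Groth.Agent.H86 Groth.Agent.H55

namespace Groth.Agent.S19710

/-- Let `k` be an algebraically closed field of characteristic zero. A `g^r_d` on a function field `K/k`
of one variable is a divisor `D` of degree `d` with a subspace `V ⊆ L(D)` of dimension `r + 1`;
`V(-nP) = V ∩ L(D - nP)`, and the `i`-th vanishing order `m_i(V, P)` (`m_0 < ⋯ < m_r`) equals `m`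
exactly when `dim V(-mP) = r + 1 - i` and `dim V(-(m+1)P) = r - i`. Let `K_Y` have genus `0` and
carry a `g^r_d` `(D_Y, V_Y)` with at least a cusp at a place `Q_Y` (`dim V_Y(-2Q_Y) ≥ r`); let
`(D_Z, V_Z)` be a `g^r_d` on a second function field `K_Z`, compatible with `(D_Y, V_Y)` at a node
formed by a place `P ≠ Q_Y` of `K_Y` and a place `Q` of `K_Z` (`dim V_Y(-nP) + dim V_Z(-(d+1-n)Q) =
r + 1` for `0 ≤ n ≤ d + 1`), and let `P'` be a place of `K_Y` different from `P` and from `Q_Y`.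
Then `m_i(V_Y, P') < m_i(V_Z, Q)` for all but at most one index: the set of `i ≤ r` for which the
`i`-th vanishing order of `V_Y` at `P'` equals the `i`-th vanishing order of `V_Z` at `Q` has at
most one element. (In the source `Q_Y` is the point where the rational component `Y` meets a chain
of curves ending in a curve of positive genus, which forces the cusp condition assumed here; the
source works over the complex numbers.) -/
theorem result
    (k : Type*) [Field k] [IsAlgClosed k] [CharZero k]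
    (KY : Type*) [Field KY] [Algebra k KY] (hKY : FunFld.IsFunctionField k KY) (hg0 : FunFld.genus k KY = 0)
    (KZ : Type*) [Field KZ] [Algebra k KZ] (hKZ : FunFld.IsFunctionField k KZ)
    (d r : ℕ) (DY : FunFld.Divisor k KY) (hDY : DY.deg = d) (DZ : FunFld.Divisor k KZ) (hDZ : DZ.deg = d)
    (VY : Submodule k KY) (hVY : VY ≤ FunFld.L DY) (hVYr : Module.finrank k ↥VY = r + 1)
    (VZ : Submodule k KZ) (hVZ : VZ ≤ FunFld.L DZ) (hVZr : Module.finrank k ↥VZ = r + 1)
    (QY : FunFld.Place k KY) (hcusp : r ≤ Module.finrank k ↥(VY ⊓ FunFld.L (DY - Finsupp.single QY ((2 : ℤ)))))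
    (P : FunFld.Place k KY) (hP : P ≠ QY) (Q : FunFld.Place k KZ)
    (hcomp : ∀ n : ℕ, n ≤ d + 1 →
      Module.finrank k ↥(VY ⊓ FunFld.L (DY - Finsupp.single P ((n : ℤ)))) + Module.finrank k ↥(VZ ⊓ FunFld.L (DZ - Finsupp.single Q ((d : ℤ) + 1 - n))) = r + 1)
    (P' : FunFld.Place k KY) (hP'P : P' ≠ P) (hP'Q : P' ≠ QY) :
    {i : ℕ | i ≤ r ∧ ∃ m : ℕ,
        Module.finrank k ↥(VY ⊓ FunFld.L (DY - Finsupp.single P' ((m : ℤ)))) = r + 1 - i ∧
        Module.finrank k ↥(VY ⊓ FunFld.L (DY - Finsupp.single P' ((m : ℤ) + 1))) = r - i ∧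
        Module.finrank k ↥(VZ ⊓ FunFld.L (DZ - Finsupp.single Q ((m : ℤ)))) = r + 1 - i ∧
        Module.finrank k ↥(VZ ⊓ FunFld.L (DZ - Finsupp.single Q ((m : ℤ) + 1))) = r - i}.Subsingleton := by
  classical
  have key : ∀ i m : ℕ, i ≤ r → FF.vdim VY DY P' (m : ℤ) = r + 1 - i →
      FF.vdim VZ DZ Q ((m : ℤ) + 1) = r - i →
      m ≤ d ∧ ∃ f ∈ VY, f ≠ 0 ∧ div k f =
        -(DY - Finsupp.single P' (m : ℤ) - Finsupp.single P ((d : ℤ) - m)) := by
    intro i m hi h1 h2
    have hmd : m ≤ d := by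
      by_contra hlt
      have := FF.vdim_eq_zero hKY VY DY P' (n := (m : ℤ)) (by rw [hDY]; omega)
      omega
    refine ⟨hmd, ?_⟩
    have hc' : FF.vdim VY DY P (((d - m : ℕ)) : ℤ) +
        FF.vdim VZ DZ Q ((d : ℤ) + 1 - ((d - m : ℕ) : ℤ)) = r + 1 := hcomp (d - m) (by omega)
    have e1 : (((d - m : ℕ)) : ℤ) = (d : ℤ) - m := by omega
    have e2 : (d : ℤ) + 1 - ((d : ℤ) - m) = (m : ℤ) + 1 := by ring
    rw [e1, e2, h2] at hc'
    have hex := FF.vdim_add_le_exact hKY hVY hP'P (m : ℤ) ((d : ℤ) - m)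
    rw [hVYr, h1] at hex
    have hdeg : FunFld.Divisor.deg
        (DY - Finsupp.single P' (m : ℤ) - Finsupp.single P ((d : ℤ) - m)) = 0 := by
      rw [Divisor.deg_sub, Divisor.deg_sub, FF.deg_single_one hKY, FF.deg_single_one hKY, hDY]
      ring
    have hne : VY ⊓ L (DY - Finsupp.single P' (m : ℤ) - Finsupp.single P ((d : ℤ) - m)) ≠ ⊥ := by
      intro hb
      rw [hb, finrank_bot] at hex
      omega
    exact FF.exists_div_eq_of_inf_ne_bot hKY VY hdeg hne
  intro i hi i' hi'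
  obtain ⟨hi1, m, h1, h2, h3, h4⟩ := hi
  obtain ⟨hi1', m', h1', h2', h3', h4'⟩ := hi'
  obtain ⟨hmd, f, hfV, hf0, hdf⟩ := key i m hi1 h1 h4
  obtain ⟨hmd', g, hgV, hgne, hdg⟩ := key i' m' hi1' h1' h4'
  have hsupp : ∀ (m : ℕ) (f : KY), div k f =
      -(DY - Finsupp.single P' (m : ℤ) - Finsupp.single P ((d : ℤ) - m)) →
      ∀ R : FunFld.Place k KY, R ≠ P → R ≠ P' → (div k f + DY) R = 0 := by
    intro m f hdf R h1 h2
    rw [hdf]
    simp only [Finsupp.add_apply, Finsupp.neg_apply, Finsupp.sub_apply, Finsupp.single_apply,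
      if_neg (Ne.symm h1), if_neg (Ne.symm h2)]
    ring
  obtain ⟨c, hc⟩ := Groth.Agent.S18175.result k KY hKY hg0 d r DY hDY VY hVY hVYr QY hcusp P P'
    hP hP'Q f g hfV hgV hf0 hgne (hsupp m f hdf) (hsupp m' g hdg)
  have hc0 : c ≠ 0 := by
    intro h0
    rw [h0, zero_smul] at hc
    exact hgne hc
  have hdivg : div k g = div k f := by
    rw [hc, Algebra.smul_def, FF.div_mul hKY (by
      rw [Ne, map_eq_zero_iff _ (algebraMap k KY).injective]; exact hc0) hf0,
      div_algebraMap hKY, zero_add]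
  have hmm : m = m' := by
    have h5 : (div k g) P' = (div k f) P' := by rw [hdivg]
    rw [hdg, hdf] at h5
    simp only [Finsupp.neg_apply, Finsupp.sub_apply, Finsupp.single_apply, if_true,
      if_neg (Ne.symm hP'P)] at h5
    omega
  subst hmm
  have e1 : FF.vdim VY DY P' (m : ℤ) = r + 1 - i := h1
  have e2 : FF.vdim VY DY P' (m : ℤ) = r + 1 - i' := h1'
  omega

end Groth.Agent.S19710
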