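import Groth.Statements.S1975
import Groth.Agent.S1963
import Groth.Agent.H3.ValEtHens
import Groth.Agent.H3.HensUnion

set_option autoImplicit false
universe u
open EtAlg

namespace Groth.Agent.S1975

/-- Let A be a valuation ring and S a henselization or strict henselization of A. Then S is a valuation
ring, A -> S is injective, and every nonzero element of S is a unit multiple of the image of an
element of A (the value groups agree). -/
theorem result (A S : Type u) [CommRing A] [IsDomain A] [ValuationRing A] [CommRing S]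
    [IsLocalRing S] [Algebra A S] [IsLocalHom (algebraMap A S)]
    (h : Hensel.IsHenselization A S ∨ Hensel.IsStrictHenselization A S) :
    IsDomain S ∧ (∀ _ : IsDomain S, ValuationRing S) ∧ Function.Injective (algebraMap A S) ∧
      ∀ s : S, s ≠ 0 → ∃ (a : A) (u : Sˣ), s = u * algebraMap A S a := by
  obtain ⟨hU, hff⟩ := Groth.Agent.H3.HensUnion.package h
  have hicA : IsIntegrallyClosed A := by
    classical
    let _ : GCDMonoid A := IsBezout.toGCDDomain A
    exact GCDMonoid.toIsIntegrallyClosed
  obtain ⟨hdom, hnorm⟩ := (Groth.Agent.H3.HensUnion.normal_iff h).mpr ⟨inferInstance, hicA⟩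
  have hinj : Function.Injective (algebraMap A S) := FaithfulSMul.algebraMap_injective A S
  have key : ∀ s : Finset S, ∃ (L : Type u) (_ : CommRing L) (_ : IsDomain L)
      (_ : ValuationRing L) (_ : Algebra A L) (ψ : L →+* S), Function.Injective ψ ∧
      (∀ a, ψ (algebraMap A L a) = algebraMap A S a) ∧
      (∀ l : L, l ≠ 0 → ∃ (a : A) (u : Lˣ), l = u * algebraMap A L a) ∧
      (s : Set S) ⊆ Set.range ψ := by
    intro s
    obtain ⟨A', _, _, _, Q, _, hQ, ψ, hψ, hψA, hs⟩ := Groth.Agent.H3.ValEt.exists_local_alg hU s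
    obtain ⟨h1, h2, -, -, h5⟩ := Groth.Agent.S1963.result A A' Q hQ.over.symm
    exact ⟨Localization.AtPrime Q, inferInstance, h1, h2 h1, inferInstance, ψ, hψ, hψA, h5, hs⟩
  refine ⟨hdom, fun _ => ?_, hinj, fun s hs => ?_⟩
  · rw [ValuationRing.iff_dvd_total]
    refine ⟨fun x y => ?_⟩
    classical
    obtain ⟨L, _, _, _, _, ψ, hψ, -, -, hr⟩ := key {x, y}
    obtain ⟨x', hx'⟩ := hr (show x ∈ (({x, y} : Finset S) : Set S) by simp)
    obtain ⟨y', hy'⟩ := hr (show y ∈ (({x, y} : Finset S) : Set S) by simp)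
    rw [← hx', ← hy']
    rcases ValuationRing.dvd_total x' y' with h | h
    · exact Or.inl (map_dvd ψ h)
    · exact Or.inr (map_dvd ψ h)
  · obtain ⟨L, _, _, _, _, ψ, hψ, hψA, hUA, hr⟩ := key {s}
    obtain ⟨s', hss'⟩ := hr (show s ∈ (({s} : Finset S) : Set S) by simp)
    have hs' : s' ≠ 0 := by
      rintro rfl
      exact hs (by rw [← hss', map_zero])
    obtain ⟨a, u, hu⟩ := hUA s' hs'
    exact ⟨a, Units.map ψ.toMonoidHom u, by rw [← hss', hu, map_mul, hψA]; rfl⟩

end Groth.Agent.S1975
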