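import Groth.Statements.S19758
import Mathlib
import Groth.Agent.H81.Seg.SegH
import Groth.Agent.H81.Seg.OfRes
import Groth.Agent.H81.Seg.Ideals
import Groth.Agent.H98.GrStar.LCAcyc
import Groth.Agent.H98.SegreRingNoeth

set_option autoImplicit false
universe u
open scoped TensorProduct
open GrSegre

namespace Groth.Agent.S19758

/-- Let R and S be graded rings defined over a field k with m = R_+, T = R # S with irrelevant ideal
T_+, M a graded R-module and N a graded S-module on which multiplication by some homogeneous element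
of S of positive degree is bijective. Then H^q_{T_+}(M # N) ≅ H^q_m(M) # N as graded T-modules for
every q. Stated here as the existence of an injective k-linear map H^q_{T_+}(M # N) → H^q_m(M) ⊗_k N
presenting the left side as the Segre product of H^q_m(M) and N (existence of such a presentation
only; the published isomorphism is the one induced by a resolution). Here a graded ring defined over
k is a commutative k-algebra of finite type, graded in nonnegative degrees by k-subspaces with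
degree-zero part k·1; the Segre product T = R # S = ⊕_n R_n ⊗_k S_n is presented abstractly as a
graded k-algebra T with an injective k-algebra homomorphism ψ : T → R ⊗_k S carrying T_n onto the
k-span of the elementary tensors a ⊗ b with a ∈ R_n, b ∈ S_n; the Segre product M # N = ⊕_n M_n ⊗_k
N_n of a graded R-module M and a graded S-module N is presented abstractly as a graded T-module P
with an injective k-linear map φ : P → M ⊗_k N carrying P_n onto the k-span of the tensors x ⊗ y
with x ∈ M_n, y ∈ N_n and turning the action of t ∈ T into that of ψ(t) (acting factorwise on M ⊗_k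
N); graded local cohomology and its homogeneous pieces are computed from *injective resolutions in
the graded categories of R and T, and carry the k-vector space structures given. -/
theorem result (k : Type u) [Field k] (R : Type u) [CommRing R] [Algebra k R] (𝒜 : ℤ → Submodule k R) [GradedAlgebra 𝒜] (hposR : ∀ n : ℤ, n < 0 → 𝒜 n = ⊥) (h0R : 𝒜 0 = Submodule.span k {(1 : R)}) [Algebra.FiniteType k R] (S : Type u) [CommRing S] [Algebra k S] (ℬ : ℤ → Submodule k S) [GradedAlgebra ℬ] (hposS : ∀ n : ℤ, n < 0 → ℬ n = ⊥) (h0S : ℬ 0 = Submodule.span k {(1 : S)}) [Algebra.FiniteType k S] (T : Type u) [CommRing T] [Algebra k T] (𝒯 : ℤ → Submodule k T) [GradedAlgebra 𝒯] (ψ : T →ₐ[k] TensorProduct k R S) (hT : GrSeg.IsSegreRing 𝒜 ℬ 𝒯 ψ) (mR : HomogeneousIdeal 𝒜) (hmR : mR.toIdeal = Ideal.span (⋃ n ∈ Set.Ioi (0 : ℤ), (𝒜 n : Set R))) (mT : HomogeneousIdeal 𝒯) (hmT : mT.toIdeal = Ideal.span (⋃ n ∈ Set.Ioi (0 : ℤ), (𝒯 n : Set T))) (M : Type u) [AddCommGroup M] [Module R M] [Module k M] [IsScalarTower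 k R M] (ℳ : ℤ → AddSubgroup M) [DirectSum.Decomposition ℳ] [SetLike.GradedSMul 𝒜 ℳ] (EM : GrLC.StarInjRes 𝒜 ℳ) (N : Type u) [AddCommGroup N] [Module S N] [Module k N] [IsScalarTower k S N] (𝒩 : ℤ → AddSubgroup N) [DirectSum.Decomposition 𝒩] [SetLike.GradedSMul ℬ 𝒩] (e : ℕ) (he : 0 < e) (g : S) (hg : g ∈ ℬ (e : ℤ)) (hgN : Function.Bijective (fun y : N => g • y)) (P : Type u) [AddCommGroup P] [Module T P] [Module k P] [IsScalarTower k T P] (𝒬 : ℤ → AddSubgroup P) [DirectSum.Decomposition 𝒬] [SetLike.GradedSMul 𝒯 𝒬] (φ : P →ₗ[k] TensorProduct k M N) (hP : GrSeg.IsSegreMod ψ ℳ 𝒩 𝒬 φ) (EP : GrLC.StarInjRes 𝒯 𝒬) (q : ℕ) [Module k (EM.H mR q)] [IsScalarTower k R (EM.H mR q)] [Module k (EP.H mT q)] [IsScalarTower k T (EP.H mT q)] [DirectSum.Decomposition (EP.Hgr mT q)] : ∃ φ' : EP.H mT q →ₗ[k] TensorProduct k (EM.H mR q) N, GrSeg.IsSegreMod ψ (EM.Hgr mR q) 𝒩 (EP.Hgr mT q) φ' := by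
  classical
  haveI : IsNoetherianRing R := Algebra.FiniteType.isNoetherianRing k R
  haveI : IsNoetherianRing S := Algebra.FiniteType.isNoetherianRing k S
  haveI ftA : Algebra.FiniteType k (R ⊗[k] S) :=
    Algebra.FiniteType.trans (inferInstance : Algebra.FiniteType k R)
      (inferInstance : Algebra.FiniteType R (R ⊗[k] S))
  haveI : IsNoetherianRing (R ⊗[k] S) := Algebra.FiniteType.isNoetherianRing k _
  haveI : IsNoetherianRing T := Groth.Agent.H98.segre_ring_isNoetherian 𝒜 ℬ 𝒯 ψ hT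
  have hI : Groth.Agent.H81.Seg.IdealHyp ψ mR.toIdeal (Groth.Agent.H81.Seg.irr ℬ) mT.toIdeal := by
    rw [hmR, hmT]
    exact Groth.Agent.H81.Seg.idealHyp 𝒜 ℬ 𝒯 hT
  have hgS : g ∈ Groth.Agent.H81.Seg.irr ℬ :=
    Groth.Agent.H81.Seg.mem_irr ℬ (n := (e : ℤ)) (by exact_mod_cast he) hg
  have hN : ∀ j, Subsingleton (LocCoh.H (Groth.Agent.H81.Seg.irr ℬ) (j + 1) N) := fun j =>
    Groth.Agent.H81.Seg.subsingleton_H_of_bijective_smul _ g hgS N hgN (j + 1)
  have hN0 : DRing.torsionSub (Groth.Agent.H81.Seg.irr ℬ) N = ⊥ := by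
    rw [Submodule.eq_bot_iff]
    rintro y ⟨n, hn⟩
    have h1 : g ^ n • y = 0 := hn _ (Ideal.pow_mem_pow hgS n)
    have hpow : ∀ (n : ℕ) (y : N), g ^ n • y = 0 → y = 0 := by
      intro n
      induction n with
      | zero =>
        intro y hy
        rwa [pow_zero, one_smul] at hy
      | succ n ih =>
        intro y hy
        rw [pow_succ, mul_smul] at hy
        have h2 := ih (g • y) hy
        exact hgN.1 (h2.trans (smul_zero g).symm)
    exact hpow n y h1
  have hC : ∀ a j, Subsingleton (LocCoh.H mR.toIdeal (j + 1)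
      ((Groth.Agent.H81.Seg.ofRes (k := k) EM).X a)) :=
    fun a j => Groth.Agent.H98.GrStar.locCoh_subsingleton_of_isStarInj 𝒜 (EM.X a).gr mR
      (EM.starInj a) (j + 1) (Nat.le_add_left 1 j)
  let V := Groth.Agent.H81.Seg.resN (Groth.Agent.H81.Seg.ofRes (k := k) EM) 𝒯 hT 𝒩
    (Groth.Agent.H81.Seg.augOfRes (k := k) EM) hP mT hI hC hN
  obtain ⟨e', he'⟩ := V.exists_equiv EP q
  obtain ⟨Φ, hΦinj, hΦpc⟩ := Groth.Agent.H81.Seg.exists_segH
    (Groth.Agent.H81.Seg.ofRes (k := k) EM) 𝒯 hT 𝒩 mT hN hN0 mR hI hC q (H := EM.H mR q)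
    (EM.toH mR q) (Submodule.ker_mkQ _) (EM.Hgr mR q) (fun n x => Iff.rfl)
  have hsm : ∀ (t : T) (w : Groth.Agent.H81.Seg.TP ψ (EM.H mR q) N),
      t • w = GrSeg.act k R S (EM.H mR q) N (ψ t) w := fun t w => rfl
  refine ⟨(Φ ∘ₗ e'.symm.toLinearMap).restrictScalars k, ?_, ?_, ?_⟩
  · exact hΦinj.comp e'.symm.injective
  · intro n
    ext y
    constructor
    · rintro ⟨x, hx, rfl⟩
      have hx' : e'.symm x ∈ V.Hgr q n := by
        rw [he' n, LinearEquiv.apply_symm_apply]
        exact hx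
      obtain ⟨z, hz, hzx⟩ := hx'
      exact (hΦpc n _).mp ⟨z, hz, congrArg Φ hzx⟩
    · intro hy
      obtain ⟨w, hw, hwy⟩ := (hΦpc n y).mpr hy
      refine ⟨e' (Submodule.Quotient.mk w), ?_, ?_⟩
      · exact (he' n _).mp ⟨w, hw, rfl⟩
      · change Φ (e'.symm (e' (Submodule.Quotient.mk w))) = y
        rw [LinearEquiv.symm_apply_apply]
        exact hwy
  · intro t p
    exact (congrArg Φ (map_smul e'.symm t p)).trans
      ((map_smul Φ t (e'.symm p)).trans (hsm t _))

end Groth.Agent.S19758
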