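import Groth.Statements.S1976
import Groth.Agent.H10.WeaklyEtaleResidue
import Groth.Agent.H10.IndEtaleUnion
import Groth.Agent.S0736

set_option autoImplicit false
universe u
open CategoryTheory
open EtAlg

namespace Groth.Agent.S1976

/-- (2) ⇔ (3): a K-algebra B over a field K is weakly etale exactly when it can be written as a filtered
colimit of etale K-algebras, and in that case its finitely generated K-subalgebras are etale. -/
theorem result (K : Type u) [Field K] (B : Type u) [CommRing B] [Algebra K B] :
    (Algebra.WeaklyEtale K B ↔ EtPBC.IsIndEtale K B) ∧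
    (Algebra.WeaklyEtale K B → ∀ S : Subalgebra K B, S.FG → Algebra.Etale K S) := by
  have hfg : Algebra.WeaklyEtale K B → ∀ S : Subalgebra K B, S.FG → Algebra.Etale K S := by
    intro hB S hS
    have h1 : Algebra.WeaklyEtale K S := Groth.Agent.H10.weaklyEtale_subalgebra K B S
    have h2 : Algebra.FormallyUnramified K S := Groth.Agent.H10.formallyUnramified_of_weaklyEtale K S
    have h3 : Algebra.FiniteType K S := (Subalgebra.fg_iff_finiteType S).1 hS
    have h4 : Algebra.FormallyEtale K S := Algebra.FormallyEtale.of_formallyUnramified_of_field K S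
    exact ⟨h4, Algebra.FinitePresentation.of_finiteType.mp h3⟩
  refine ⟨⟨fun hB => ?_, fun h => Groth.Agent.S0736.result K B h⟩, hfg⟩
  apply Groth.Agent.H10.isIndEtale_of_directedOn (P := {S : Subalgebra K B | S.FG})
  · intro S hS T hT
    exact ⟨S ⊔ T, Subalgebra.FG.sup hS hT, le_sup_left, le_sup_right⟩
  · exact ⟨⊥, Subalgebra.fg_bot⟩
  · intro b
    exact ⟨Algebra.adjoin K {b}, Subalgebra.fg_def.2 ⟨{b}, Set.finite_singleton b, rfl⟩,
      Algebra.subset_adjoin (Set.mem_singleton b)⟩
  · intro S hS
    exact hfg hB S hS

end Groth.Agent.S1976
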