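import Groth.Statements.S19785
import Groth.Agent.H75.MuPar

set_option autoImplicit false
universe u
open CategoryTheory MonoidalCategory CartesianMonoidalCategory MonObj AlgebraicGeometry Opposite
open GIT

namespace Groth.Agent.S19785

/-- Let k be an algebraically closed field, G a connected reductive algebraic group over k acting by σ
on a scheme X proper over k, L a G-linearised line bundle on X in total-space form, x a k-point of X
and λ : 𝔾_m → G a one-parameter subgroup. Let γ be a k-point of G lying in the parabolic subgroup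
P(λ), i.e. such that the morphism u ↦ λ(u)·γ·λ(u)⁻¹ from 𝔾_m to G extends to the affine line
(λ(u)γλ(u)⁻¹ has a limit in G as u → 0), and let λ' be the conjugate one-parameter subgroup u ↦
γ⁻¹·λ(u)·γ. Then μ^L(x, λ) = μ^L(x, λ'): the numerical function (the limit of λ(u)·x as u → 0 exists
and 𝔾_m acts on the fibre of L over it with exponent m) takes the same values at (x, λ) and at (x,
λ'). (The published statement is for any reductive G; this row takes G connected.) -/
theorem result (k : Type u) [Field k] [IsAlgClosed k]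
    (G X : Over (Spec (CommRingCat.of k))) [GrpObj G] (hG : Red.IsReductive G) [IsProper X.hom]
    (a : AlgGrp.Action G X) (B : GLinSh.LinBun G a) (x : 𝟙_ (Over (Spec (CommRingCat.of k))) ⟶ X)
    (l : Red.Gm (Spec (CommRingCat.of k)) ⟶ G) [IsMonHom l] (g₀ : 𝟙_ (Over (Spec (CommRingCat.of k))) ⟶ G)
    (hg₀ : ∃ f : HMNum.A1 (Spec (CommRingCat.of k)) ⟶ G, HMNum.incl (Spec (CommRingCat.of k)) ≫ f = l * (toUnit _ ≫ g₀) * l⁻¹)
    (l' : Red.Gm (Spec (CommRingCat.of k)) ⟶ G) [IsMonHom l'] (hl' : l' = (toUnit _ ≫ g₀)⁻¹ * l * (toUnit _ ≫ g₀))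
    (m : ℤ) : HMNum.IsMu B l x m ↔ HMNum.IsMu B l' x m := by
  have hne : Nonempty (𝟙_ (Over (Spec (CommRingCat.of k)))).left :=
    (inferInstance : Nonempty (PrimeSpectrum k))
  have hT : ∀ p q : (𝟙_ (Over (Spec (CommRingCat.of k)))).left, p = q := by
    intro p q
    exact Subsingleton.elim (α := PrimeSpectrum k) p q
  have haff : IsAffineHom G.hom := hG.1
  have hsep : IsSeparated G.hom := inferInstance
  obtain ⟨f, hf⟩ := hg₀
  have hid : toUnit (𝟙_ (Over (Spec (CommRingCat.of k)))) = 𝟙 _ := toUnit_unique _ _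
  have hconj := Groth.Agent.H75.MuTrans.isMu_conj_iff B l l' hT g₀
    (Groth.Agent.H75.MuTrans.isConj_of_eq l l' g₀ hl') x m
  rw [← hconj]
  constructor
  · intro h
    have := Groth.Agent.H75.MuTrans.isMu_par B l g₀ f hf hT x m h
    rw [hid, Category.id_comp] at this
    exact this
  · intro h
    have hf' : HMNum.incl (Spec (CommRingCat.of k)) ≫ f⁻¹ = l * (toUnit _ ≫ g₀⁻¹) * l⁻¹ := by
      rw [GrpObj.comp_inv, hf, GrpObj.comp_inv]
      group
    have := Groth.Agent.H75.MuTrans.isMu_par B l g₀⁻¹ f⁻¹ hf' hT _ m h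
    rw [hid, Category.id_comp, Groth.Agent.H75.MuTrans.act_inv_act] at this
    exact this

end Groth.Agent.S19785
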