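import Groth.Statements.S19856
import Mathlib.RingTheory.IntegralDomain
import Mathlib.RingTheory.LocalRing.ResidueField.Basic
import Mathlib.Tactic.LinearCombination
import Mathlib.GroupTheory.OrderOfElement
-- import your own Groth.Agent.* helpers here

set_option autoImplicit false
universe u v
open CAlg

namespace Groth.Agent.S19856

/-- Ring-level form: let O be a discrete valuation ring and G a finite group acting faithfully on O by
ring automorphisms, such that every element of G acts trivially on the residue field of O (that is,
g • a - a lies in the maximal ideal for all a) and such that the order of G is nonzero in the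
residue field of O. Then G is cyclic. (The source states this for a finite group of order invertible
in an algebraically closed field k acting faithfully on a smooth connected k-variety and the
subgroup of elements fixing pointwise a codimension-one irreducible component of the ramification
locus, applied to the local ring at the generic point of that component; it is stated here for an
arbitrary discrete valuation ring with a faithful action. The source also shows that this subgroup
is nontrivial; that geometric part is not stated.) -/
theorem result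
    (O : Type u) [CommRing O] [IsDomain O] [IsDiscreteValuationRing O]
    (G : Type v) [Group G] [Finite G] [MulSemiringAction G O] [FaithfulSMul G O]
    (htriv : ∀ (g : G) (a : O), g • a - a ∈ IsLocalRing.maximalIdeal O)
    (hcard : ((Nat.card G : ℕ) : IsLocalRing.ResidueField O) ≠ 0) :
    IsCyclic G := by
  classical
  obtain ⟨π, hπ⟩ := IsDiscreteValuationRing.exists_irreducible O
  have hm : IsLocalRing.maximalIdeal O = Ideal.span {π} := hπ.maximalIdeal_eq
  have hπ0 : π ≠ 0 := hπ.ne_zero
  have hmem : ∀ x : O, x ∈ IsLocalRing.maximalIdeal O ↔ π ∣ x := by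
    intro x; rw [hm, Ideal.mem_span_singleton]
  have htriv' : ∀ (g : G) (x : O), π ∣ g • x - x := fun g x => (hmem _).1 (htriv g x)
  have hex : ∀ g : G, ∃ a : O, g • π = a * π := by
    intro g
    obtain ⟨c, hc⟩ := htriv' g π
    exact ⟨c + 1, by linear_combination hc⟩
  choose a ha using hex
  have ha1 : a 1 = 1 := by
    have h := ha 1
    rw [one_smul] at h
    have h' : (1 : O) * π = a 1 * π := by rw [one_mul]; exact h
    exact (mul_right_cancel₀ hπ0 h').symm
  have hamul : ∀ g h, a (g * h) = (g • a h) * a g := by
    intro g h
    apply mul_right_cancel₀ hπ0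
    rw [← ha, mul_smul, ha h, smul_mul', ha g]
    ring
  let f : G →* IsLocalRing.ResidueField O :=
    { toFun := fun g => IsLocalRing.residue O (a g)
      map_one' := by simp [ha1]
      map_mul' := fun g h => by
        rw [hamul, map_mul, mul_comm]
        congr 1
        rw [← sub_eq_zero, ← map_sub, IsLocalRing.residue_eq_zero_iff]
        exact htriv g (a h) }
  apply isCyclic_of_injective_ringHom f
  rw [injective_iff_map_eq_one]
  intro g hg
  have hag : π ∣ a g - 1 := by
    rw [← hmem, ← IsLocalRing.residue_eq_zero_iff, map_sub, map_one, sub_eq_zero]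
    exact hg
  have hNunit : IsUnit ((Nat.card G : ℕ) : O) := by
    by_contra h
    have h1 : ((Nat.card G : ℕ) : O) ∈ IsLocalRing.maximalIdeal O :=
      (IsLocalRing.mem_maximalIdeal _).2 h
    apply hcard
    have h2 := (IsLocalRing.residue_eq_zero_iff _).2 h1
    simpa using h2
  have hstar : ∀ (j : ℕ) (y : O), π ^ j ∣ y → π ^ (j + 1) ∣ g • y - y := by
    rintro j y ⟨b, hb⟩
    obtain ⟨c, hc⟩ := htriv' g b
    obtain ⟨d, hd⟩ : π ∣ a g ^ j - 1 :=
      dvd_trans hag (by simpa using sub_dvd_pow_sub_pow (a g) 1 j)
    refine ⟨a g ^ j * c + d * b, ?_⟩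
    have e1 : g • b = b + π * c := by linear_combination hc
    have e2 : a g ^ j = 1 + π * d := by linear_combination hd
    rw [hb, smul_mul', smul_pow', ha g, e1, mul_pow, e2]
    ring
  have hpow : ∀ (j : ℕ) (x : O), π ^ j ∣ g • x - x →
      ∀ i : ℕ, π ^ (j + 1) ∣ (g ^ i) • x - x - (i : O) * (g • x - x) := by
    intro j x hx i
    induction i with
    | zero => simp
    | succ i ih =>
      have h1 : π ^ j ∣ (g ^ i) • x - x := by
        have h0 : π ^ j ∣ (g ^ i) • x - x - (i : O) * (g • x - x) :=
          dvd_trans (pow_dvd_pow π (Nat.le_succ j)) ih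
        have h2 : π ^ j ∣ (i : O) * (g • x - x) := Dvd.dvd.mul_left hx _
        have h3 := dvd_add h0 h2
        simpa using h3
      have h3 := hstar j _ h1
      have e : (g ^ (i + 1)) • x - x - ((i + 1 : ℕ) : O) * (g • x - x) =
          (g • ((g ^ i) • x - x) - ((g ^ i) • x - x)) +
            ((g ^ i) • x - x - (i : O) * (g • x - x)) := by
        rw [pow_succ', mul_smul, smul_sub]
        push_cast
        ring
      rw [e]
      exact dvd_add h3 ih
  have hall : ∀ (x : O) (j : ℕ), π ^ (j + 1) ∣ g • x - x := by
    intro x j
    induction j with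
    | zero => simpa using htriv' g x
    | succ j ih =>
      have h := hpow (j + 1) x ih (Nat.card G)
      have hgN : g ^ Nat.card G = 1 := pow_card_eq_one'
      rw [hgN, one_smul, sub_self, zero_sub] at h
      have h' := (dvd_neg.1 h)
      exact (hNunit.dvd_mul_left).1 h'
  apply FaithfulSMul.eq_of_smul_eq_smul (α := O)
  intro x
  rw [one_smul]
  by_contra hne
  have hδ : g • x - x ≠ 0 := sub_ne_zero.2 hne
  obtain ⟨n, u, hu⟩ := IsDiscreteValuationRing.eq_unit_mul_pow_irreducible hδ hπ
  have h := hall x n
  rw [hu, pow_succ, mul_comm (u : O)] at h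
  have h2 : π ∣ (u : O) := (mul_dvd_mul_iff_left (pow_ne_zero n hπ0)).1 h
  exact hπ.not_isUnit (isUnit_of_dvd_unit h2 u.isUnit)

end Groth.Agent.S19856
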