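import Groth.Statements.S19868
import Groth.Agent.H83.PLieMatrix

set_option autoImplicit false
universe u v
open PLie

namespace Groth.Agent.S19868

open DualNumber in
/-- Let K be a field of prime characteristic p, K[ε] the ring of dual numbers (taken with its
characteristic-p structure) and a, …, i ∈ K. Let L be a Lie algebra over K[ε], free as a module with
basis x = bs 0, y = bs 1, z = bs 2 and brackets [x,y] = aε x + bε y + cε z, [x,z] = dε x + eε y + fε
z, [y,z] = (1 + gε) x + hε y + iε z, a first-order deformation of the Heisenberg algebra (the Jacobi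
identity forces b + f = 0). Then L carries a p-mapping over K[ε] if and only if b = c = e = 0 when p
= 2; for odd p there is no condition. (The published statement is about the singularity of the point
h_3 in the restrictable locus of the rank-one-centre stratum of the moduli scheme of based
three-dimensional Lie algebras over the prime field; this row states the restrictability criterion
for the first-order deformations of h_3 asserted in its proof, over any field of characteristic p in
place of the prime field.) -/
theorem result (K : Type u) [Field K] (p : ℕ) [Fact p.Prime] [CharP K p]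
    [CharP (DualNumber K) p] (a b c d e f g h i : K)
    (L : Type v) [LieRing L] [LieAlgebra (DualNumber K) L] (bs : Module.Basis (Fin 3) (DualNumber K) L)
    (hxy : ⁅bs 0, bs 1⁆ = (a • ε : DualNumber K) • bs 0 + (b • ε : DualNumber K) • bs 1 + (c • ε : DualNumber K) • bs 2)
    (hxz : ⁅bs 0, bs 2⁆ = (d • ε : DualNumber K) • bs 0 + (e • ε : DualNumber K) • bs 1 + (f • ε : DualNumber K) • bs 2)
    (hyz : ⁅bs 1, bs 2⁆ = (1 + g • ε : DualNumber K) • bs 0 + (h • ε : DualNumber K) • bs 1 + (i • ε : DualNumber K) • bs 2) :
    Nonempty (PLie.PMap (DualNumber K) p L) ↔ (p = 2 → b = 0 ∧ c = 0 ∧ e = 0) := by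
    classical
    have hpp : p.Prime := Fact.out
    have hyx : ⁅bs 1, bs 0⁆ = -⁅bs 0, bs 1⁆ := (lie_skew _ _).symm
    have hzx : ⁅bs 2, bs 0⁆ = -⁅bs 0, bs 2⁆ := (lie_skew _ _).symm
    have hzy : ⁅bs 2, bs 1⁆ = -⁅bs 1, bs 2⁆ := (lie_skew _ _).symm
    have hM0 : Groth.Agent.H83.adMat (DualNumber K) bs 0 =
        !![0, a • ε, d • ε; 0, b • ε, e • ε; 0, c • ε, f • ε] := by
      refine Matrix.ext fun r s => ?_
      fin_cases r <;> fin_cases s <;> simp [Groth.Agent.H83.adMat_apply, hxy, hxz]
    have hM1 : Groth.Agent.H83.adMat (DualNumber K) bs 1 =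
        !![-(a • ε), 0, 1 + g • ε; -(b • ε), 0, h • ε; -(c • ε), 0, i • ε] := by
      refine Matrix.ext fun r s => ?_
      fin_cases r <;> fin_cases s <;> simp [Groth.Agent.H83.adMat_apply, hyx, hxy, hyz]
    have hM2 : Groth.Agent.H83.adMat (DualNumber K) bs 2 =
        !![-(d • ε), -(1 + g • ε), 0; -(e • ε), -(h • ε), 0; -(f • ε), -(i • ε), 0] := by
      refine Matrix.ext fun r s => ?_
      fin_cases r <;> fin_cases s <;> simp [Groth.Agent.H83.adMat_apply, hzx, hzy, hxz, hyz]
    have hS0 : Groth.Agent.H83.adMat (DualNumber K) bs 0 ^ 2 = 0 := by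
      rw [hM0, pow_two, Matrix.mul_fin_three]
      refine Matrix.ext fun r s => ?_
      fin_cases r <;> fin_cases s <;> simp
    have hS1 : Groth.Agent.H83.adMat (DualNumber K) bs 1 ^ 2 =
        !![-(c • ε), 0, (i - a) • ε; 0, 0, -(b • ε); 0, 0, -(c • ε)] := by
      rw [hM1, pow_two, Matrix.mul_fin_three]
      refine Matrix.ext fun r s => ?_
      fin_cases r <;> fin_cases s <;> simp <;> ext <;> simp <;> ring
    have hS2 : Groth.Agent.H83.adMat (DualNumber K) bs 2 ^ 2 =
        !![e • ε, (h + d) • ε, 0; 0, e • ε, 0; 0, f • ε, 0] := by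
      rw [hM2, pow_two, Matrix.mul_fin_three]
      refine Matrix.ext fun r s => ?_
      fin_cases r <;> fin_cases s <;> simp <;> ext <;> simp <;> ring
    have hbf : b + f = 0 := by
      have hJ := leibniz_lie (bs 0) (bs 1) (bs 2)
      rw [hyz, hxy, hxz] at hJ
      have hJ0 := congrArg (fun v => TrivSqZeroExt.snd (bs.repr v 0)) hJ
      simp [lie_add, add_lie, lie_smul, smul_lie, hxy, hxz, hyz, hzy, hzx, hyx] at hJ0
      exact hJ0.symm
    rw [Groth.Agent.H83.nonempty_pmap_iff_matrix (DualNumber K) p bs]
    have hzero : ∀ M : Matrix (Fin 3) (Fin 3) (DualNumber K), M = 0 →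
        ∃ c' : Fin 3 → DualNumber K, M = ∑ j, c' j • Groth.Agent.H83.adMat (DualNumber K) bs j :=
      fun M hM => ⟨0, by simp [hM]⟩
    constructor
    · intro H hp2
      subst hp2
      obtain ⟨c1, h1⟩ := H 1
      obtain ⟨c2, h2⟩ := H 2
      rw [hS1, Fin.sum_univ_three, hM0, hM1, hM2] at h1
      rw [hS2, Fin.sum_univ_three, hM0, hM1, hM2] at h2
      have e00 := congrArg TrivSqZeroExt.snd (congrFun (congrFun h1 0) 0)
      have e01 := congrArg TrivSqZeroExt.fst (congrFun (congrFun h1 0) 1)
      have e02 := congrArg TrivSqZeroExt.fst (congrFun (congrFun h1 0) 2)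
      have e12 := congrArg TrivSqZeroExt.snd (congrFun (congrFun h1 1) 2)
      have e11 := congrArg TrivSqZeroExt.snd (congrFun (congrFun h1 1) 1)
      have f00 := congrArg TrivSqZeroExt.snd (congrFun (congrFun h2 0) 0)
      have f01 := congrArg TrivSqZeroExt.fst (congrFun (congrFun h2 0) 1)
      have f02 := congrArg TrivSqZeroExt.fst (congrFun (congrFun h2 0) 2)
      simp at e00 e01 e02 e12 e11 f00 f01 f02
      rw [e01] at e00 e11
      rw [← e02] at e00 e12
      rw [f01, ← f02] at f00
      have hc : c = 0 := by simpa using e00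
      have he : e = 0 := by simpa using f00
      have hb : b = 0 := by
        have : b * b = 0 := by linear_combination (-b) * e12 + e * e11
        exact mul_self_eq_zero.mp this
      exact ⟨hb, hc, he⟩
    · intro H i'
      have h2p : 2 ≤ p := hpp.two_le
      have hQ0 : (Groth.Agent.H83.adMat (DualNumber K) bs 0 ^ 2) ^ 2 = 0 := by rw [hS0]; simp
      have hQ1 : (Groth.Agent.H83.adMat (DualNumber K) bs 1 ^ 2) ^ 2 = 0 := by
        rw [hS1, pow_two, Matrix.mul_fin_three]
        refine Matrix.ext fun r s => ?_
        fin_cases r <;> fin_cases s <;> simp <;> ext <;> simp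
      have hQ2 : (Groth.Agent.H83.adMat (DualNumber K) bs 2 ^ 2) ^ 2 = 0 := by
        rw [hS2, pow_two, Matrix.mul_fin_three]
        refine Matrix.ext fun r s => ?_
        fin_cases r <;> fin_cases s <;> simp <;> ext <;> simp
      rcases Nat.lt_or_ge p 4 with hp4 | hp4
      · have h23 : p = 2 ∨ p = 3 := by
          interval_cases p
          · exact Or.inl rfl
          · exact Or.inr rfl
        rcases h23 with rfl | rfl
        · obtain ⟨hb, hc, he⟩ := H rfl
          have hf : f = 0 := by rw [hb, zero_add] at hbf; exact hbf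
          subst hb hc he hf
          fin_cases i'
          · exact hzero _ hS0
          · refine ⟨![0, (i - a) • ε, 0], ?_⟩
            simp only [Fin.mk_one, Fin.isValue]
            rw [hS1, Fin.sum_univ_three, hM0, hM1, hM2]
            refine Matrix.ext fun r s => ?_
            fin_cases r <;> fin_cases s <;> simp <;> ext <;> simp
          · refine ⟨![0, 0, -((h + d) • ε)], ?_⟩
            simp only [Fin.reduceFinMk, Fin.isValue]
            rw [hS2, Fin.sum_univ_three, hM0, hM1, hM2]
            refine Matrix.ext fun r s => ?_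
            fin_cases r <;> fin_cases s <;> simp <;> ext <;> simp
        · fin_cases i'
          · apply hzero
            simp only [Fin.zero_eta, Fin.isValue]
            rw [pow_succ, hS0, zero_mul]
          · refine ⟨![0, -(c • ε), 0], ?_⟩
            simp only [Fin.mk_one, Fin.isValue]
            rw [pow_succ, hS1, Fin.sum_univ_three, hM0, hM1, hM2, Matrix.mul_fin_three]
            refine Matrix.ext fun r s => ?_
            fin_cases r <;> fin_cases s <;> simp <;> ext <;> simp
          · refine ⟨![0, 0, e • ε], ?_⟩
            simp only [Fin.reduceFinMk, Fin.isValue]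
            rw [pow_succ, hS2, Fin.sum_univ_three, hM0, hM1, hM2, Matrix.mul_fin_three]
            refine Matrix.ext fun r s => ?_
            fin_cases r <;> fin_cases s <;> simp <;> ext <;> simp
      · have hpow : ∀ M : Matrix (Fin 3) (Fin 3) (DualNumber K), (M ^ 2) ^ 2 = 0 → M ^ p = 0 := by
          intro M hM
          have : p = 2 * 2 + (p - 4) := by omega
          rw [this, pow_add, pow_mul, hM, zero_mul]
        apply hzero
        fin_cases i'
        · exact hpow _ hQ0
        · exact hpow _ hQ1
        · exact hpow _ hQ2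

end Groth.Agent.S19868
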