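import Groth.Statements.S1987
import Mathlib

set_option autoImplicit false
universe u
open Polynomial
open EtAlg

namespace Groth.Agent.S1987

section
variable {A : Type u} [CommRing A] [IsDomain A] [IsDiscreteValuationRing A] {π : A}
  {n : ℕ}

omit [IsDomain A] [IsDiscreteValuationRing A] in
theorem monic_f (hn : 2 ≤ n) : (X ^ n - C π : A[X]).Monic := monic_X_pow_sub_C π (by omega)

theorem irreducible_f (hπ : Irreducible π) (hn : 2 ≤ n) : Irreducible (X ^ n - C π : A[X]) := by
  have hmon := monic_f (π := π) hn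
  have hdeg : (X ^ n - C π : A[X]).natDegree = n := natDegree_X_pow_sub_C
  have hprime : (Ideal.span {π}).IsPrime :=
    (Ideal.span_singleton_prime hπ.ne_zero).2 hπ.prime
  refine Polynomial.IsEisensteinAt.irreducible (𝓟 := Ideal.span {π}) ⟨?_, ?_, ?_⟩ hprime
    hmon.isPrimitive (by omega)
  · rw [hmon.leadingCoeff]
    exact fun h => hprime.ne_top ((Ideal.eq_top_iff_one _).2 h)
  · intro k hk
    rw [hdeg] at hk
    have : (X ^ n - C π : A[X]).coeff k = - (C π : A[X]).coeff k := by
      rw [coeff_sub, coeff_X_pow, if_neg (by omega), zero_sub]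
    rw [this, coeff_C]
    split_ifs
    · exact neg_mem (Ideal.mem_span_singleton_self π)
    · simp
  · have : (X ^ n - C π : A[X]).coeff 0 = - π := by
      rw [coeff_sub, coeff_X_pow, if_neg (by omega), zero_sub, coeff_C_zero]
    rw [this, Ideal.span_singleton_pow, Ideal.mem_span_singleton]
    rintro ⟨c, hc⟩
    have h1 : π * (1 + π * c) = 0 := by linear_combination -hc
    rcases mul_eq_zero.1 h1 with h | h
    · exact hπ.ne_zero h
    · have : IsUnit π := isUnit_iff_exists_inv.2 ⟨-c, by linear_combination -h⟩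
      exact hπ.not_isUnit this

local notation "A'" => AdjoinRoot (X ^ n - C π : A[X])
local notation "rt" => AdjoinRoot.root (X ^ n - C π : A[X])

omit [IsDomain A] [IsDiscreteValuationRing A] in
theorem root_pow : (rt) ^ n = algebraMap A (A') π := by
  have h := AdjoinRoot.mk_self (f := (X ^ n - C π : A[X]))
  rw [map_sub, map_pow, AdjoinRoot.mk_X, AdjoinRoot.mk_C] at h
  rw [AdjoinRoot.algebraMap_eq]
  exact sub_eq_zero.1 h

theorem isDomain' (hπ : Irreducible π) (hn : 2 ≤ n) : IsDomain (A') :=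
  AdjoinRoot.isDomain_of_prime (irreducible_f hπ hn).prime

omit [IsDomain A] [IsDiscreteValuationRing A] in
theorem exists_eq_add_root_mul (a' : A') :
    ∃ (a : A) (b : A'), a' = algebraMap A (A') a + (rt) * b := by
  obtain ⟨p, rfl⟩ := AdjoinRoot.mk_surjective a'
  refine ⟨p.coeff 0, AdjoinRoot.mk _ p.divX, ?_⟩
  conv_lhs => rw [← Polynomial.divX_mul_X_add p]
  rw [map_add, map_mul, AdjoinRoot.mk_X, AdjoinRoot.mk_C, AdjoinRoot.algebraMap_eq]
  ring

theorem root_mem_jacobson (hπ : Irreducible π) (hn : 2 ≤ n) :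
    (rt) ∈ Ideal.jacobson (⊥ : Ideal (A')) := by
  haveI : Module.Finite A (A') := (monic_f (π := π) hn).finite_adjoinRoot
  haveI : Algebra.IsIntegral A (A') := Algebra.IsIntegral.of_finite A (A')
  rw [Ideal.jacobson, Ideal.mem_sInf]
  rintro M ⟨-, hM⟩
  have hmax : (M.comap (algebraMap A (A'))).IsMaximal :=
    Ideal.isMaximal_comap_of_isIntegral_of_isMaximal (R := A) M
  have heq := IsLocalRing.eq_maximalIdeal hmax
  have hπM : algebraMap A (A') π ∈ M := by
    have : π ∈ M.comap (algebraMap A (A')) := by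
      rw [heq]; exact hπ.not_isUnit
    exact this
  rw [← root_pow] at hπM
  exact hM.isPrime.mem_of_pow_mem n hπM

theorem isUnit_of_isUnit (hπ : Irreducible π) (hn : 2 ≤ n) {a : A} (ha : IsUnit a) (b : A') :
    IsUnit (algebraMap A (A') a + (rt) * b) := by
  obtain ⟨u, rfl⟩ := ha
  have h := (Ideal.mem_jacobson_bot.1 (root_mem_jacobson hπ hn)) (algebraMap A (A') ↑u⁻¹ * b)
  have h2 : IsUnit (algebraMap A (A') (u : A)) := (u.isUnit).map _
  have := h2.mul h
  convert this using 1
  have h3 : algebraMap A (A') (u : A) * algebraMap A (A') ↑u⁻¹ = 1 := by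
    rw [← map_mul, Units.mul_inv, map_one]
  linear_combination (-(rt) * b) * h3

theorem isLocalRing' (hπ : Irreducible π) (hn : 2 ≤ n) : IsLocalRing (A') := by
  haveI := isDomain' hπ hn
  refine IsLocalRing.of_isUnit_or_isUnit_one_sub_self fun a' => ?_
  obtain ⟨a, b, rfl⟩ := exists_eq_add_root_mul a'
  rcases IsLocalRing.isUnit_or_isUnit_one_sub_self a with h | h
  · exact Or.inl (isUnit_of_isUnit hπ hn h b)
  · right
    have := isUnit_of_isUnit hπ hn h (-b)
    convert this using 1
    rw [map_sub, map_one]; ring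

theorem maximalIdeal_eq (hπ : Irreducible π) (hn : 2 ≤ n) [IsLocalRing (A')] :
    IsLocalRing.maximalIdeal (A') = Ideal.span {rt} := by
  have hn0 : n ≠ 0 := by omega
  apply le_antisymm
  · intro a' ha'
    obtain ⟨a, b, rfl⟩ := exists_eq_add_root_mul a'
    have ha : ¬ IsUnit a := fun h => ha' (isUnit_of_isUnit hπ hn h b)
    have : a ∈ IsLocalRing.maximalIdeal A := ha
    rw [hπ.maximalIdeal_eq, Ideal.mem_span_singleton] at this
    obtain ⟨c, rfl⟩ := this
    rw [Ideal.mem_span_singleton]
    refine ⟨(rt) ^ (n - 1) * algebraMap A (A') c + b, ?_⟩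
    rw [map_mul, ← root_pow]
    obtain ⟨m, rfl⟩ : ∃ m, n = m + 1 := ⟨n - 1, by omega⟩
    simp only [Nat.add_sub_cancel]
    ring
  · rw [Ideal.span_le, Set.singleton_subset_iff]
    have := root_mem_jacobson hπ hn
    rw [IsLocalRing.jacobson_eq_maximalIdeal _ bot_ne_top] at this
    exact this

theorem isDVR (hπ : Irreducible π) (hn : 2 ≤ n) [IsDomain (A')] :
    IsDiscreteValuationRing (A') := by
  haveI := isLocalRing' hπ hn
  haveI : IsNoetherianRing (A') := by
    show IsNoetherianRing (A[X] ⧸ Ideal.span {(X ^ n - C π : A[X])})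
    infer_instance
  have hmax := maximalIdeal_eq hπ hn
  have hrt0 : (rt) ≠ 0 := by
    intro h0
    have h1 := root_pow (π := π) (n := n)
    rw [h0, zero_pow (by omega)] at h1
    have hinj : Function.Injective (algebraMap A (A')) := by
      rw [AdjoinRoot.algebraMap_eq]
      apply AdjoinRoot.of.injective_of_degree_ne_zero
      rw [degree_X_pow_sub_C (by omega)]
      exact_mod_cast (by omega : n ≠ 0)
    exact hπ.ne_zero (hinj (by rw [← h1, map_zero]))
  have hnf : ¬ IsField (A') := by
    rw [IsLocalRing.isField_iff_maximalIdeal_eq, hmax]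
    intro h
    rw [Ideal.span_singleton_eq_bot] at h
    exact hrt0 h
  refine ((IsDiscreteValuationRing.TFAE (A') hnf).out 0 4).2 ?_
  rw [hmax]
  exact ⟨⟨_, rfl⟩⟩

section TotRam

variable {K₁ : Type u} [Field K₁] [Algebra (AdjoinRoot (X ^ n - C π : A[X])) K₁]

local notation "gg" => RingHom.comp (algebraMap (A') K₁) (algebraMap A (A'))

omit [IsDomain A] [IsDiscreteValuationRing A] in
/-- the root has valuation `< 1` for any valuation subring dominating `A`. -/
theorem val_root_lt_one [IsLocalRing A] (hπ : Irreducible π) (hn : 2 ≤ n) (V : ValuationSubring K₁)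
    (h : EtRam.Dominates A (gg) V) : V.valuation (algebraMap (A') K₁ (rt)) < 1 := by
  have h1 := h.2 π hπ.not_isUnit
  rw [RingHom.comp_apply, ← root_pow, map_pow, map_pow] at h1
  by_contra hcon
  rw [not_lt] at hcon
  exact absurd h1 (not_lt.2 (one_le_pow₀ hcon))

omit [IsDomain A] [IsDiscreteValuationRing A] in
theorem image_mem [IsLocalRing A] (hπ : Irreducible π) (hn : 2 ≤ n) (V : ValuationSubring K₁)
    (h : EtRam.Dominates A (gg) V) (a' : A') : algebraMap (A') K₁ a' ∈ V := by
  have hx : algebraMap (A') K₁ (rt) ∈ V :=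
    (V.valuation_le_one_iff _).1 (val_root_lt_one hπ hn V h).le
  obtain ⟨p, rfl⟩ := AdjoinRoot.mk_surjective a'
  induction p using Polynomial.induction_on' with
  | add p q hp hq => rw [map_add, map_add]; exact add_mem hp hq
  | monomial k a =>
    rw [← C_mul_X_pow_eq_monomial, map_mul, map_pow, AdjoinRoot.mk_X, AdjoinRoot.mk_C, map_mul,
      map_pow, ← AdjoinRoot.algebraMap_eq]
    exact mul_mem (h.1 a) (pow_mem hx k)

variable [IsDomain (AdjoinRoot (X ^ n - C π : A[X]))]
  [IsDiscreteValuationRing (AdjoinRoot (X ^ n - C π : A[X]))]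
  [IsFractionRing (AdjoinRoot (X ^ n - C π : A[X])) K₁]

/-- every element of a valuation subring dominating `A` comes from `A'`. -/
theorem exists_of_mem (hπ : Irreducible π) (hn : 2 ≤ n) (V : ValuationSubring K₁)
    (h : EtRam.Dominates A (gg) V) (y : K₁) (hy : y ∈ V) :
    ∃ a' : A', algebraMap (A') K₁ a' = y := by
  by_cases hy0 : y = 0
  · exact ⟨0, by rw [hy0, map_zero]⟩
  rcases ValuationRing.isInteger_or_isInteger (A') y with ⟨a', ha'⟩ | ⟨a', ha'⟩
  · exact ⟨a', ha'⟩
  · by_cases hu : IsUnit a'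
    · obtain ⟨u, rfl⟩ := hu
      refine ⟨↑u⁻¹, ?_⟩
      have h1 : algebraMap (A') K₁ ↑u⁻¹ * algebraMap (A') K₁ ↑u = 1 := by
        rw [← map_mul, Units.inv_mul, map_one]
      have h2 : algebraMap (A') K₁ ↑u⁻¹ * y⁻¹ = 1 := by
        have : algebraMap (A') K₁ ↑u = y⁻¹ := ha'
        rw [← this]; exact h1
      exact (mul_inv_eq_one₀ hy0).1 h2
    · exfalso
      have hm : a' ∈ IsLocalRing.maximalIdeal (A') := hu
      rw [maximalIdeal_eq hπ hn, Ideal.mem_span_singleton] at hm
      obtain ⟨c, rfl⟩ := hm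
      have hv : V.valuation y⁻¹ < 1 := by
        have : algebraMap (A') K₁ ((rt) * c) = y⁻¹ := ha'
        rw [← this, map_mul, map_mul]
        have h1 := val_root_lt_one hπ hn V h
        have h2 : V.valuation (algebraMap (A') K₁ c) ≤ 1 :=
          (V.valuation_le_one_iff _).2 (image_mem hπ hn V h c)
        calc _ ≤ V.valuation (algebraMap (A') K₁ (rt)) * 1 := by gcongr
          _ < 1 := by rwa [mul_one]
      have hy1 : V.valuation y ≤ 1 := (V.valuation_le_one_iff _).2 hy
      have : V.valuation (y * y⁻¹) < 1 := by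
        rw [map_mul]
        calc _ ≤ 1 * V.valuation y⁻¹ := by gcongr
          _ < 1 := by rwa [one_mul]
      rw [mul_inv_cancel₀ hy0, map_one] at this
      exact lt_irrefl _ this

omit [IsDomain A] [IsDiscreteValuationRing A] in
theorem mem_V0_iff (y : K₁) :
    y ∈ (ValuationRing.valuation (A') K₁).valuationSubring ↔ ∃ a' : A', algebraMap (A') K₁ a' = y :=
  ValuationRing.mem_integer_iff (A') K₁ y

theorem root_ne_zero' (hπ : Irreducible π) (hn : 2 ≤ n) : (rt) ≠ 0 := by
  intro h0
  have h1 := maximalIdeal_eq hπ hn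
  rw [h0, Ideal.span_singleton_eq_bot.2 rfl] at h1
  exact IsDiscreteValuationRing.not_a_field (A') h1

theorem V0_dominates (hπ : Irreducible π) (hn : 2 ≤ n) :
    EtRam.Dominates A (gg) (ValuationRing.valuation (A') K₁).valuationSubring := by
  set V₀ := (ValuationRing.valuation (A') K₁).valuationSubring with hV₀
  have hx0 : algebraMap (A') K₁ (rt) ≠ 0 := by
    intro h
    exact root_ne_zero' hπ hn ((IsFractionRing.injective (A') K₁) (h.trans (map_zero _).symm))
  have hx : V₀.valuation (algebraMap (A') K₁ (rt)) < 1 := by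
    by_contra hcon
    rw [not_lt, Valuation.one_le_val_iff _ hx0, V₀.valuation_le_one_iff, mem_V0_iff] at hcon
    obtain ⟨b, hb⟩ := hcon
    have h1 : algebraMap (A') K₁ ((rt) * b) = algebraMap (A') K₁ 1 := by
      rw [map_mul, hb, mul_inv_cancel₀ hx0, map_one]
    have h2 := (IsFractionRing.injective (A') K₁) h1
    have h3 : (rt) ∈ IsLocalRing.maximalIdeal (A') := by
      rw [maximalIdeal_eq hπ hn]; exact Ideal.mem_span_singleton_self _
    exact h3 (isUnit_iff_exists_inv.2 ⟨b, h2⟩)
  refine ⟨fun a => (mem_V0_iff _).2 ⟨algebraMap A (A') a, rfl⟩, fun a ha => ?_⟩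
  rw [hπ.maximalIdeal_eq, Ideal.mem_span_singleton] at ha
  obtain ⟨c, rfl⟩ := ha
  rw [RingHom.comp_apply, map_mul, ← root_pow, map_mul, map_pow, map_mul, map_pow]
  have h2 : V₀.valuation (algebraMap (A') K₁ (algebraMap A (A') c)) ≤ 1 :=
    (V₀.valuation_le_one_iff _).2 ((mem_V0_iff _).2 ⟨_, rfl⟩)
  have h3 : V₀.valuation (algebraMap (A') K₁ (rt)) ^ n < 1 :=
    pow_lt_one₀ zero_le hx (by omega)
  calc _ ≤ V₀.valuation (algebraMap (A') K₁ (rt)) ^ n * 1 := by gcongr
    _ < 1 := by rwa [mul_one]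

theorem isTotallyRamified (hπ : Irreducible π) (hn : 2 ≤ n) :
    EtRam.IsTotallyRamified A (gg) := by
  refine ⟨⟨_, V0_dominates hπ hn⟩, ?_, ?_⟩
  · intro V V' hV hV'
    ext y
    constructor
    · intro hy
      obtain ⟨a', rfl⟩ := exists_of_mem hπ hn V hV y hy
      exact image_mem hπ hn V' hV' a'
    · intro hy
      obtain ⟨a', rfl⟩ := exists_of_mem hπ hn V' hV' y hy
      exact image_mem hπ hn V hV a'
  · intro V hV r
    obtain ⟨⟨y, hy⟩, rfl⟩ := IsLocalRing.residue_surjective r
    obtain ⟨a', rfl⟩ := exists_of_mem hπ hn V hV y hy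
    obtain ⟨a, b, rfl⟩ := exists_eq_add_root_mul a'
    refine ⟨a, ?_⟩
    show IsLocalRing.residue V _ = IsLocalRing.residue V _
    rw [← sub_eq_zero, ← map_sub, IsLocalRing.residue_eq_zero_iff,
      ValuationSubring.valuation_lt_one_iff]
    have : ((RingHom.codRestrict (gg) V hV.1 a - ⟨_, hy⟩ : V) : K₁) =
        - (algebraMap (A') K₁ (rt) * algebraMap (A') K₁ b) := by
      simp [map_add, map_mul]
    rw [this, Valuation.map_neg, map_mul]
    have h1 := val_root_lt_one hπ hn V hV
    have h2 : V.valuation (algebraMap (A') K₁ b) ≤ 1 :=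
      (V.valuation_le_one_iff _).2 (image_mem hπ hn V hV b)
    calc _ ≤ V.valuation (algebraMap (A') K₁ (rt)) * 1 := by gcongr
      _ < 1 := by rwa [mul_one]

end TotRam

end

/-- Let A be a discrete valuation ring with uniformizer π and n ≥ 2, and let A' = A[x]/(x^n - π). Then
x^n - π is irreducible over A, A' is an integrally closed discrete valuation ring (so it is the
integral closure of A in its fraction field K₁ = K(π^{1/n}), of degree n over K), the maximal ideal
of A generates the n-th power of the maximal ideal of A' (ramification index n), and K₁ is totally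
ramified with respect to A. -/
theorem result (A : Type u) [CommRing A] [IsDomain A] [IsDiscreteValuationRing A] (π : A)
    (hπ : Irreducible π) (n : ℕ) (hn : 2 ≤ n) :
    Irreducible (X ^ n - C π : A[X]) ∧
    ∃ (_ : IsDomain (AdjoinRoot (X ^ n - C π : A[X]))) (_ : IsDiscreteValuationRing (AdjoinRoot (X ^ n - C π : A[X]))),
      IsIntegrallyClosed (AdjoinRoot (X ^ n - C π : A[X])) ∧
      (IsLocalRing.maximalIdeal A).map (algebraMap A (AdjoinRoot (X ^ n - C π : A[X]))) = IsLocalRing.maximalIdeal (AdjoinRoot (X ^ n - C π : A[X])) ^ n ∧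
      ∀ (K₁ : Type u) [Field K₁] [Algebra (AdjoinRoot (X ^ n - C π : A[X])) K₁] [IsFractionRing (AdjoinRoot (X ^ n - C π : A[X])) K₁],
        EtRam.IsTotallyRamified A ((algebraMap (AdjoinRoot (X ^ n - C π : A[X])) K₁).comp (algebraMap A (AdjoinRoot (X ^ n - C π : A[X])))) := by
  refine ⟨irreducible_f hπ hn, isDomain' hπ hn, ?_⟩
  haveI := isDomain' hπ hn
  refine ⟨isDVR hπ hn, ?_⟩
  haveI := isDVR hπ hn
  refine ⟨inferInstance, ?_, ?_⟩
  · rw [maximalIdeal_eq hπ hn, hπ.maximalIdeal_eq, Ideal.map_span, Set.image_singleton,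
      Ideal.span_singleton_pow, root_pow]
  · intro K₁ _ _ _
    exact isTotallyRamified hπ hn

end Groth.Agent.S1987
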