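import Groth.Statements.S19879
import Groth.Agent.H74.FixFinite
import Groth.Agent.S18397
import Mathlib.AlgebraicGeometry.Morphisms.Finite

set_option autoImplicit false
universe u
open LVCorr

namespace Groth.Agent.S19879

open AlgebraicGeometry CategoryTheory CategoryTheory.Limits in
/-- Let k₀ be a finite field with p^e elements, K an algebraic closure of k₀, C₀ a scheme of finite type
over k₀, C = C₀ ×_{k₀} Spec K with its projections, and Fr : C → C the n-th power of the geometric
Frobenius (over K, compatible with the (e·n)-th power of the absolute p-Frobenius of C₀). Let X be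
locally of finite type over K and c₁, c₂ : C → X morphisms over K with c₂ locally quasi-finite, and
let d < p^(e n) be such that for every closed point x of X, with J_x the inverse image under c₂ of
the ideal sheaf of the reduced point x, one has (√J_x)^d ⊂ J_x (so p^(e n) exceeds the ramification
degree of c₂). Then the scheme of fixed points of the twisted correspondence (c₁ ∘ Fr, c₂), namely
the pullback of (c₁ ∘ Fr, c₂) : C → X ×_K X along the diagonal of X, has finite and discrete
underlying topological space. (In the source X, c₁ and c₂ are also defined over k₀ and all schemes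
are separated; neither is needed here.) -/
theorem result {C C₀ X Fx : Scheme.{u}}
    (p : ℕ) [Fact p.Prime] (k₀ : Type u) [Field k₀] [Fintype k₀] [CharP k₀ p] (e : ℕ)
    (hq : Fintype.card k₀ = p ^ e) (K : Type u) [Field K] [Algebra k₀ K] [IsAlgClosure k₀ K]
    (f₀ : C₀ ⟶ Spec (CommRingCat.of k₀)) [LocallyOfFiniteType f₀] [QuasiCompact f₀] [FrobSch.IsCharP C₀ p]
    (πC₀ : C ⟶ C₀) (πK : C ⟶ Spec (CommRingCat.of K))
    (hC : IsPullback πC₀ πK f₀ (Spec.map (CommRingCat.ofHom (algebraMap k₀ K))))
    (n : ℕ) (Fr : C ⟶ C)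
    (hFr₀ : Fr ≫ πC₀ = πC₀ ≫ End.asHom (End.of (FrobSch.frob C₀ p) ^ (e * n)))
    (hFrK : Fr ≫ πK = πK)
    (pX : X ⟶ Spec (CommRingCat.of K)) [LocallyOfFiniteType pX]
    (c₁ c₂ : C ⟶ X) (hc₁ : c₁ ≫ pX = πK) (hc₂ : c₂ ≫ pX = πK)
    [LocallyQuasiFinite c₂] [LocallyOfFiniteType c₂]
    (hcomm : (Fr ≫ c₁) ≫ pX = c₂ ≫ pX) (d : ℕ) (hn : d < p ^ (e * n))
    (hd : ∀ (x : X) (hx : IsClosed ({x} : Set X)),
      ((Scheme.IdealSheafData.vanishingIdeal ⟨{x}, hx⟩).comap c₂).radical ^ d ≤
        (Scheme.IdealSheafData.vanishingIdeal ⟨{x}, hx⟩).comap c₂)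
    (i : Fx ⟶ C) (δ : Fx ⟶ X) (hF : IsPullback i δ (pullback.lift (Fr ≫ c₁) c₂ hcomm) (pullback.diagonal pX)) :
    Finite Fx ∧ DiscreteTopology Fx := by
  have hπK1 : LocallyOfFiniteType πK := MorphismProperty.of_isPullback hC inferInstance
  have hπK2 : QuasiCompact πK := MorphismProperty.of_isPullback hC inferInstance
  have hCn : IsLocallyNoetherian C := LocallyOfFiniteType.isLocallyNoetherian πK
  have hCc : CompactSpace C := QuasiCompact.compactSpace_of_compactSpace πK
  have hCN : IsNoetherian C := {}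
  have hi : IsImmersion i := MorphismProperty.of_isPullback hF.flip inferInstance
  have hFxn : IsLocallyNoetherian Fx := LocallyOfFiniteType.isLocallyNoetherian i
  have hFxN : TopologicalSpace.NoetherianSpace Fx := i.isEmbedding.isInducing.noetherianSpace
  have hXJ : JacobsonSpace X := LocallyOfFiniteType.jacobsonSpace pX
  have hδ1 : δ = i ≫ Fr ≫ c₁ := by
    have h := congrArg (· ≫ pullback.fst pX pX) hF.w
    simp only [Category.assoc, pullback.lift_fst, pullback.diagonal_fst, Category.comp_id] at h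
    exact h.symm
  have hδ2 : δ = i ≫ c₂ := by
    have h := congrArg (· ≫ pullback.snd pX pX) hF.w
    simp only [Category.assoc, pullback.lift_snd, pullback.diagonal_snd, Category.comp_id] at h
    exact h.symm
  have hδ : LocallyOfFiniteType δ := by rw [hδ2]; infer_instance
  apply Groth.Agent.H74.FixClopen.finite_discrete_of_closed_points_open
  intro y hy
  have hx : IsClosed ({δ y} : Set X) := δ.closePoints_subset_preimage_closedPoints hy
  obtain ⟨W, hW, -, k, hk⟩ := Groth.Agent.S18397.result p k₀ e hq K f₀ πC₀ πK hC n Fr hFr₀ hFrK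
    pX c₁ c₂ hc₁ hc₂ hcomm d hn hd (δ y) hx
  have hWi : Set.range i.base ⊆ (W : Set C) := by
    rintro _ ⟨z, rfl⟩
    apply hW
    refine ⟨δ z, ?_⟩
    rw [← Scheme.Hom.comp_apply, ← Scheme.Hom.comp_apply, hF.w]
  have hopen := Groth.Agent.H74.FixClopen.isOpen_preimage_support (Fr ≫ c₁) c₂ i δ hδ1 hδ2
    (Scheme.IdealSheafData.vanishingIdeal ⟨{δ y}, hx⟩) W hWi k hk
  rw [Scheme.IdealSheafData.coe_support_vanishingIdeal] at hopen
  have hdisc : _root_.IsDiscrete (δ.base ⁻¹' ({δ y} : Set X)) := by
    have h1 : δ.base ⁻¹' ({δ y} : Set X) = i ⁻¹' (c₂ ⁻¹' ({δ y} : Set X)) := by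
      ext z
      simp only [Set.mem_preimage, Set.mem_singleton_iff]
      rw [← Scheme.Hom.comp_apply, ← hδ2]
    rw [h1]
    exact (c₂.isDiscrete_preimage_singleton _).preimage i.continuous.continuousOn
      i.isEmbedding.injective
  exact Groth.Agent.H74.FixClopen.isOpen_singleton_of_isOpen_of_isDiscrete hopen hdisc rfl

end Groth.Agent.S19879
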