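import Groth.Statements.S19890
import Groth.Agent.H14.UFDDescent

set_option autoImplicit false
universe u
open CAlg

namespace Groth.Agent.S19890

/-- Let R → R' be a faithfully flat ring map between Noetherian integrally closed local domains. Then
unique factorization descends along this map: when R' is a UFD, so is R. (The first assertion of the
lemma, descent of principality for an ideal whose extension to R' is principal, is a separate
statement.) -/
theorem result
    (R R' : Type u) [CommRing R] [CommRing R'] [IsDomain R] [IsDomain R']
    [IsNoetherianRing R] [IsNoetherianRing R'] [IsLocalRing R] [IsLocalRing R']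
    [IsIntegrallyClosed R] [IsIntegrallyClosed R']
    [Algebra R R'] [Module.FaithfullyFlat R R'] [UniqueFactorizationMonoid R'] :
    UniqueFactorizationMonoid R := by
  haveI : IsLocalHom (algebraMap R R') := by
    refine ⟨fun r hr => ?_⟩
    by_contra hnu
    have hrm : r ∈ IsLocalRing.maximalIdeal R := (IsLocalRing.mem_maximalIdeal r).mpr hnu
    have hne := Module.FaithfullyFlat.submodule_ne_top (R := R) (M := R')
      (IsLocalRing.maximalIdeal.isMaximal R)
    apply hne
    rw [eq_top_iff]
    intro x _
    obtain ⟨u, hu⟩ := hr
    have : x = r • ((↑u⁻¹ : R') * x) := by
      rw [Algebra.smul_def, ← hu, ← mul_assoc, Units.mul_inv, one_mul]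
    rw [this]
    exact Submodule.smul_mem_smul hrm trivial
  exact (Groth.Agent.H14.ufd_of_flat_localHom R R' inferInstance).2

end Groth.Agent.S19890
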