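import Groth.Statements.S19892
import Groth.Agent.H22.CenterDense

set_option autoImplicit false
universe u
open CategoryTheory AlgebraicGeometry
open ValCrit

namespace Groth.Agent.S19892

/-- Let h : Z → Y and f : Y → X be morphisms of quasi-compact quasi-separated schemes, with h dominant
and f locally of finite type. Then f is proper if and only if the following refined valuative
criterion holds: for every point z of Z, every valuation ring R of the residue field κ(z) and every
morphism φ : Spec R → X whose restriction to Spec κ(z) is the canonical morphism Spec κ(z) → Z → Y →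
X, there is exactly one morphism Spec R → Y lying over φ and restricting to Spec κ(z) → Z → Y on the
generic point. (The published statement does not require h to be dominant; its proof uses that every
point of Y generalises to a point of h(Z), and for Z empty the criterion holds whatever f is, so
dominance of h is assumed here.) -/
theorem result {X Y Z : Scheme.{u}} (h : Z ⟶ Y) (f : Y ⟶ X)
    [CompactSpace ↥Z] [QuasiSeparatedSpace ↥Z] [CompactSpace ↥Y] [QuasiSeparatedSpace ↥Y]
    [CompactSpace ↥X] [QuasiSeparatedSpace ↥X] (hd : DenseRange h.base)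
    [LocallyOfFiniteType f] :
    IsProper f ↔
      ∀ (z : ↥Z) (R : ValuationSubring ↑(Z.residueField z)) (φ : Spec (CommRingCat.of ↥R) ⟶ X),
        Spec.map (CommRingCat.ofHom R.subtype) ≫ φ = Z.fromSpecResidueField z ≫ h ≫ f →
        ∃! φ' : Spec (CommRingCat.of ↥R) ⟶ Y,
          Spec.map (CommRingCat.ofHom R.subtype) ≫ φ' = Z.fromSpecResidueField z ≫ h ∧ φ' ≫ f = φ := by
  constructor
  · intro hprop z R φ hφ
    have hφ' : (Z.fromSpecResidueField z ≫ h) ≫ f =
        Spec.map (CommRingCat.ofHom R.subtype) ≫ φ := by
      rw [Category.assoc]; exact hφ.symm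
    obtain ⟨l, h1, h2⟩ := Groth.Agent.H22.CenterDense.existsLiftAt_of_universallyClosed f
      (L := Z.residueField z) (Z.fromSpecResidueField z ≫ h) R φ hφ'
    refine ⟨l, ⟨h1, h2⟩, fun l' hl' => ?_⟩
    exact Groth.Agent.H22.CenterCor.uniqueLiftAt_of_isSeparated f (L := Z.residueField z)
      (Z.fromSpecResidueField z ≫ h) R l' l hl'.1 h1 (hl'.2.trans h2.symm)
  · intro H
    have : QuasiCompact h := inferInstance
    have : QuasiCompact f := inferInstance
    have : QuasiSeparated f := inferInstance
    have hE : ∀ z : Z, Groth.Agent.H22.CenterLemma.ExistsLiftAt (L := Z.residueField z) f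
        (Z.fromSpecResidueField z ≫ h) := by
      intro z R i₂ w
      obtain ⟨l, ⟨h1, h2⟩, -⟩ := H z R i₂ (by rw [← w, Category.assoc])
      exact ⟨l, h1, h2⟩
    have hU : ∀ z : Z, Groth.Agent.H22.CenterLemma.UniqueLiftAt (L := Z.residueField z) f
        (Z.fromSpecResidueField z ≫ h) := by
      intro z R l₁ l₂ h1 h2 h12
      obtain ⟨l, -, huniq⟩ := H z R (l₁ ≫ f) (by rw [← Category.assoc, h1, Category.assoc])
      exact (huniq l₁ ⟨h1, rfl⟩).trans (huniq l₂ ⟨h2, h12.symm⟩).symm
    have hsep : IsSeparated f := Groth.Agent.H22.CenterDense.isSeparated_of_dense f h hd hU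
    have huc : UniversallyClosed f :=
      Groth.Agent.H22.CenterDense.universallyClosed_of_dense f h hd hE hU
    exact { }


end Groth.Agent.S19892
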