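import Groth.Statements.S19895
import Groth.Agent.H99.VerlindeD
-- import your own Groth.Agent.* helpers here

set_option autoImplicit false
open Complex
open VerlindeComb

namespace Groth.Agent.S19895

/-- Fix integers r ≥ 2 and k ≥ 1, and two partitions λ, λ' with k ≥ λ_1 ≥ ⋯ ≥ λ_{r-1} ≥ λ_r = 0 and k ≥
λ'_1 ≥ ⋯ ≥ λ'_{r-1} ≥ λ'_r = 0 such that λ is not equivalent to the dual partition λ'* = (k − λ'_r,
…, k − λ'_1), two integer vectors being equivalent when their difference is a constant vector (a, …,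
a). For an integer vector v with r + k > v_1 > ⋯ > v_{r-1} > v_r = 0 put z(v)_j = exp(2πi v_j / (r +
k)), let S_μ(v) = det(z(v)_j^{μ_i + r − i}) / det(z(v)_j^{r − i}) be the Schur value and P(v) =
∏_{i<j} (2 sin(π (v_i − v_j)/(r + k)))². Then the sum over all such v of exp(−2πi (|λ| + |λ'|) (v_1
+ ⋯ + v_r) / (r (r + k))) · S_λ(v) · S_{λ'}(v) · P(v) vanishes; that is, the genus-zero Verlinde
number of rank r, degree 0 and level k with two parabolic points of types λ, λ' is zero. (Only the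
vanishing case is stated; the complementary case, where the number equals 1, is not part of this
statement. The source allows r = 1, where the non-equivalence hypothesis cannot hold.) Indices are
0-based below: lam i stands for λ_{i+1}. -/
theorem result (r k : ℕ) (hr : 2 ≤ r)
    (hk : 1 ≤ k) (lam lam' : Fin r → ℕ) (hlam : Antitone lam) (hlamk : ∀ i, lam i ≤ k)
    (hlam0 : ∀ i : Fin r, (i : ℕ) = r - 1 → lam i = 0)
    (hlam' : Antitone lam') (hlam'k : ∀ i, lam' i ≤ k) (hlam'0 : ∀ i : Fin r, (i : ℕ) = r - 1 → lam' i = 0)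
    (hne : ¬ ∃ a : ℤ, ∀ i, (lam i : ℤ) - ((k - lam' (Fin.rev i) : ℕ) : ℤ) = a)
    (z : (Fin r → ℕ) → Fin r → ℂ)
    (hz : ∀ v j, z v j = Complex.exp (2 * Real.pi * Complex.I * (v j : ℂ) / ((r : ℂ) + k)))
    (S : (Fin r → ℕ) → (Fin r → ℕ) → ℂ)
    (hS : ∀ μ v, S μ v = (Matrix.of fun i j : Fin r => z v j ^ (μ i + (r - 1 - (i : ℕ)))).det /
        (Matrix.of fun i j : Fin r => z v j ^ (r - 1 - (i : ℕ))).det)
    (P : (Fin r → ℕ) → ℝ)
    (hP : ∀ v, P v = ∏ p ∈ (Finset.univ : Finset (Fin r × Fin r)).filter (fun p => p.1 < p.2),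
        ((2 : ℝ) * Real.sin (Real.pi * ((v p.1 : ℝ) - (v p.2 : ℝ)) / ((r : ℝ) + k))) ^ 2) :
    (∑ v ∈ (Finset.univ : Finset (Fin r → Fin (r + k))).filter
        (fun v : Fin r → Fin (r + k) => StrictAnti v ∧ ∀ i : Fin r, (i : ℕ) = r - 1 → (v i : ℕ) = 0),
      Complex.exp (-(2 * Real.pi * Complex.I * (((∑ i, lam i) + (∑ i, lam' i) : ℕ) : ℂ) *
          ((∑ j, (v j : ℕ) : ℕ) : ℂ) / ((r : ℂ) * ((r : ℂ) + k)))) *
        S lam (fun j => (v j : ℕ)) * S lam' (fun j => (v j : ℕ)) * (P (fun j => (v j : ℕ)) : ℂ)) = 0 := by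
  have hzfun : z = fun v j => Groth.Agent.H99.Verlinde.zz r k v j :=
    funext fun v => funext fun j => hz v j
  have hSfun : S = fun μ v => Groth.Agent.H99.Verlinde.DD r k μ v /
      Groth.Agent.H99.Verlinde.Delta r k v := by
    funext μ v
    rw [hS, hzfun]
    rfl
  have hPfun : P = Groth.Agent.H99.Verlinde.PP r k := funext fun v => hP v
  subst hSfun hPfun
  have key : ∀ v ∈ Groth.Agent.H99.Verlinde.AA r k,
      Complex.exp (-(2 * Real.pi * Complex.I * (((∑ i, lam i) + (∑ i, lam' i) : ℕ) : ℂ) *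
          ((∑ j, (v j : ℕ) : ℕ) : ℂ) / ((r : ℂ) * ((r : ℂ) + k)))) *
        (fun μ v => Groth.Agent.H99.Verlinde.DD r k μ v / Groth.Agent.H99.Verlinde.Delta r k v)
          lam (fun j => (v j : ℕ)) *
        (fun μ v => Groth.Agent.H99.Verlinde.DD r k μ v / Groth.Agent.H99.Verlinde.Delta r k v)
          lam' (fun j => (v j : ℕ)) *
        (Groth.Agent.H99.Verlinde.PP r k (fun j => (v j : ℕ)) : ℂ) =
      Groth.Agent.H99.Verlinde.eps r *
        Groth.Agent.H99.Verlinde.FF r k lam lam' (Groth.Agent.H99.Verlinde.ww r k v) := by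
    intro v hv
    have hsa : StrictAnti v := ((Groth.Agent.H99.Verlinde.mem_AA r k v).mp hv).1
    have hinj : Function.Injective (Groth.Agent.H99.Verlinde.zz r k
        (Groth.Agent.H99.Verlinde.ww r k v)) := by
      apply Groth.Agent.H99.Verlinde.zz_injective r k (by omega)
      · intro j; exact (v j).2
      · intro i j hij
        apply hsa.injective
        apply Fin.ext
        exact hij
    exact Groth.Agent.H99.Verlinde.summand_eq r k (by omega) lam lam'
      (Groth.Agent.H99.Verlinde.ww r k v) hinj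
  change ∑ v ∈ Groth.Agent.H99.Verlinde.AA r k, _ = 0
  rw [Finset.sum_congr rfl key, ← Finset.mul_sum]
  by_cases hd : r ∣ (∑ i, lam i + ∑ i, lam' i)
  · rw [Groth.Agent.H99.Verlinde.sum_AA_eq_zero_of_dvd r k (by omega) lam lam' hlam hlamk hlam'
      hlam'k hne hd, mul_zero]
  · rw [Groth.Agent.H99.Verlinde.sum_AA_eq_zero_of_not_dvd hr lam lam' hd, mul_zero]

end Groth.Agent.S19895
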