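import Groth.Statements.S19898
import Mathlib
import Groth.Agent.H89.SymNorm

set_option autoImplicit false
universe u
open scoped TensorProduct
open SymTen

namespace Groth.Agent.S19898

/-- Let R be a commutative ring and R' a commutative R-algebra that is free of rank d as an R-module.
Let (C, γ) be the degree-d divided power algebra of R' over R, given as an R-algebra C with a
multiplicative homogeneous degree-d polynomial law γ : R' → C that is universal among such laws; let
φ : C → T^d_R(R') be the R-algebra homomorphism into the d-fold tensor power whose composite with γ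
is the law x ↦ x ⊗ ⋯ ⊗ x, and π : C → R the R-algebra homomorphism whose composite with γ is the
norm law of R' over R. Let T^d_R(R') act on itself factor by factor and let I_d ⊂ T^d_R(R') be the
R-span of the pure tensors with two equal factors, so that T^d_R(R')/I_d is the top exterior power
Λ^d_R(R'), free of rank one. Then for every c ∈ C and every x ∈ T^d_R(R') the element φ(c)·x − π(c)
x lies in I_d: the symmetric tensor φ(c) acts on Λ^d_R(R') as multiplication by the scalar π(c),
i.e. the homomorphism TS^d_R(R') → R given by the action on the top exterior power, composed with φ,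
equals π. (The source states this for R' finite locally free of constant rank d; the free case is
the affine-local form.) -/
theorem result (R : Type u) [CommRing R] (R' : Type u) [CommRing R']
    [Algebra R R'] [Module.Free R R'] [Module.Finite R R'] (d : ℕ) (hd : Module.finrank R R' = d)
    {C : Type u} [CommRing C] [Algebra R C] (γ : PolLaw.MulLaw R R' C d) (hγ : PolLaw.IsGammaD γ)
    (φ : C →ₐ[R] (⨂[R] _ : Fin d, R')) (hφ : PolLaw.MulLaw.postcomp φ γ = SymTen.tpowLaw R R' d)
    (π : C →ₐ[R] R) (hπ : PolLaw.MulLaw.postcomp π γ = PolLaw.normLaw R R' d hd)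
    (c : C) (x : ⨂[R] _ : Fin d, R') :
    SymTen.tpowAct R R' R' d (φ c) x - π c • x ∈ SymTen.altSpan R R' d := by
  classical
  rcases subsingleton_or_nontrivial R with hR | hR
  · have hsub : Subsingleton (⨂[R] _ : Fin d, R') := Module.subsingleton R _
    rw [Subsingleton.elim (SymTen.tpowAct R R' R' d (φ c) x - π c • x) 0]
    exact Submodule.zero_mem _
  have hcard : Fintype.card (Module.Free.ChooseBasisIndex R R') = d := by
    rw [← hd, Module.finrank_eq_card_chooseBasisIndex]
  let b : Module.Basis (Fin d) R R' :=
    (Module.Free.chooseBasis R R').reindex (Fintype.equivFinOfCardEq hcard)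
  have hTS : ∀ c, φ c ∈ SymTen.TS R R' d :=
    Groth.Agent.H89.SymNorm.phi_mem_TS R R' d γ hγ φ hφ
  have hφ' : PolLaw.postcomp φ.toLinearMap γ.law = (SymTen.tpowLaw R R' d).law :=
    congrArg PolLaw.MulLaw.law hφ
  have hφ'' : ∀ (S : Type u) [CommSemiring S] [Algebra R S] (z : S ⊗[R] R'),
      φ.toLinearMap.lTensor S (γ.law.toFun' S z) = (SymTen.tpowLaw R R' d).law.toFun' S z := by
    intro S _ _ z
    exact congrFun (congrFun (congrFun (congrFun (congrArg PolynomialLaw.toFun' hφ') S) _) _) z
  have hlaw := Groth.Agent.H89.SymNorm.psi_law R R' d hd b γ φ hφ'' hTS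
  obtain ⟨f, -, hfu⟩ := hγ R (PolLaw.normLaw R R' d hd)
  have h1 : Groth.Agent.H89.SymNorm.psi R R' d b φ hTS = f := hfu _ hlaw
  have h2 : π = f := hfu π (congrArg PolLaw.MulLaw.law hπ)
  exact Groth.Agent.H89.SymNorm.final R R' d b φ hTS π (h1.trans h2.symm) c x

end Groth.Agent.S19898
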