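import Groth.Statements.S19901
import Groth.Agent.H94.LciSmoothST
import Groth.Agent.H64.LocQ.Good
import Groth.Agent.H64.LocQ.CompSquare

set_option autoImplicit false
universe u
open CategoryTheory AlgebraicGeometry
open AlgSt

namespace Groth.Agent.S19901

/-- Let f : 𝒳 → 𝒴, q : 𝒴 → 𝒵 and p : 𝒳 → 𝒵 be morphisms of algebraic stacks forming a 2-commutative
triangle (a 2-isomorphism between q ∘ f and p is given). If q is smooth and p is a local complete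
intersection morphism (Koszul), then f is a local complete intersection morphism. Smooth and local
complete intersection morphisms of algebraic stacks are read on one square of smooth scheme charts. -/
theorem result
    (S : Scheme.{u}) (𝒳 : AlgSt.Cat S) (𝒴 : AlgSt.Cat S) (𝒵 : AlgSt.Cat S)
    (h𝒳 : AlgSt.IsAlgStack Scheme.fppfPrecoverage 𝒳)
    (h𝒴 : AlgSt.IsAlgStack Scheme.fppfPrecoverage 𝒴)
    (h𝒵 : AlgSt.IsAlgStack Scheme.fppfPrecoverage 𝒵)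
    (f : 𝒳 ⥤ᵇ 𝒴) (q : 𝒴 ⥤ᵇ 𝒵) (p : 𝒳 ⥤ᵇ 𝒵) (e : BasedFunctor.comp f q ≅ p)
    (hq : AlgSt.LocQ (AlgSp.LocP @Smooth) q) (hp : AlgSt.LocQ AlgSp.IsLCIMor p) :
    AlgSt.LocQ AlgSp.IsLCIMor f := by
  have hP := Groth.Agent.H94.LciSmoothST.isSmoothLocalST_lci (S := S)
  have hX := h𝒳.isStack.1
  have hY := h𝒴.isStack.1
  have hZ := h𝒵.isStack.1
  obtain ⟨W, z, hz₁, hz₂⟩ := h𝒵.atlas
  obtain ⟨V, y, k, β, hy₁, hℓq₁, -, hysj⟩ :=
    Groth.Agent.H64.LocQ.exists_good_square_over h𝒴 h𝒵 q z hz₁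
  obtain ⟨U, x, h, α, hx₁, hℓf₁, -, hxsj⟩ :=
    Groth.Agent.H64.LocQ.exists_good_square_over h𝒳 h𝒴 f y hy₁
  have hys := hysj hz₂
  have hxs := hxsj hys
  -- `k` is smooth
  have hk : AlgSp.LocP @Smooth ((AlgSp.yon S).map k) :=
    Groth.Agent.H64.LocQ.prop_of_locQ Groth.Agent.H64.LocQ.isSmoothLocalST_smooth hY hZ q hq
      y z k β hz₁ hℓq₁
  -- the composite square
  have hℓ := Groth.Agent.H64.LocQ.sm_lift_comp f q x y z h k α β hX hY hZ hℓf₁ hℓq₁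
  have hp' : AlgSt.LocQ AlgSp.IsLCIMor (BasedFunctor.comp f q) := by
    obtain ⟨U', V', x', y', h', α', h1, h2, h3, h4⟩ := hp
    exact ⟨U', V', x', y', h', Groth.Agent.H64.bwlIso x' e ≪≫ α', h1, h2, h3, h4⟩
  have hhk : AlgSp.IsLCIMor ((AlgSp.yon S).map (h ≫ k)) :=
    Groth.Agent.H64.LocQ.prop_of_locQ hP hX hZ (BasedFunctor.comp f q) hp' x z (h ≫ k)
      (Groth.Agent.H64.LocQ.compIso f q x y z h k α β) hz₁ hℓ
  rw [Functor.map_comp] at hhk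
  have hh : AlgSp.IsLCIMor ((AlgSp.yon S).map h) :=
    Groth.Agent.H94.LciSp.isLCIMor_of_comp_smooth (AlgSp.IsAlgSpace.yon_obj W) _ _ hk hhk
  exact ⟨U, V, x, y, h, α, hx₁, hxs, hy₁, hh⟩

end Groth.Agent.S19901
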