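import Groth.Statements.S19903
import Groth.Agent.H65.AlgStInertia
import Groth.Agent.H64.Psh.DiagIff
import Groth.Agent.H64.Psh.PCompInst
-- import your own Groth.Agent.* helpers here

set_option autoImplicit false
universe u
open CategoryTheory AlgebraicGeometry
open AlgSt

namespace Groth.Agent.S19903

/-- For a morphism f : 𝒳 → 𝒴 of algebraic stacks, if the relative inertia 𝓘_{𝒳/𝒴} → 𝒳 is locally
separated then the neutral section e : 𝒳 → 𝓘_{𝒳/𝒴} (the second diagonal of f) is an immersion, and
likewise if the diagonal of f is locally separated. The inertia and the diagonal are representable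
by algebraic spaces and local separatedness is the property of such morphisms. (The published
statement asserts the equivalence of the three conditions: inertia locally separated, diagonal
locally separated, neutral section an immersion; only the two implications towards the last
condition are stated here.) -/
theorem result
    (S : Scheme.{u}) (𝒳 : AlgSt.Cat S) (𝒴 : AlgSt.Cat S)
    (h𝒳 : AlgSt.IsAlgStack Scheme.fppfPrecoverage 𝒳)
    (h𝒴 : AlgSt.IsAlgStack Scheme.fppfPrecoverage 𝒴)
    (f : 𝒳 ⥤ᵇ 𝒴) :
    (AlgSt.RepByAlgSpWith AlgSp.IsLocallySeparatedMor (FibCat.inertiaToBase f) →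
        AlgSt.IsImm (FibCat.inertiaNeutral f)) ∧
      (AlgSt.RepByAlgSpWith AlgSp.IsLocallySeparatedMor (FibCat.diag f) →
        AlgSt.IsImm (FibCat.inertiaNeutral f)) := by
  have hX := h𝒳.isStack.1
  have hY := h𝒴.isStack.1
  have hfp : FibCat.IsFibGrpd (FibCat.fp f f).p := Groth.Agent.H32.isFibGrpd_fp _ _ hX hX hY
  have hI := Groth.Agent.H65.AlgStInertia.isFibGrpd_inertia hX hY f
  constructor
  · intro h
    have h2 : AlgSt.RepByAlgSpWith (AlgSp.RepWith (S := S) @IsImmersion)
        (FibCat.diag (FibCat.inertiaToBase f)) :=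
      Groth.Agent.H64.PTh.repByAlgSpWith_diag_of_diagonal _
        (Groth.Agent.H64.PTh.stableBC_of_inst _) hI hX _ h
    exact Groth.Agent.H65.AlgStInertia.repByAlgSpWith_inertiaNeutral_of_diag _ hX hY f h2
  · intro h
    have h2 : AlgSt.RepByAlgSpWith (AlgSp.RepWith (S := S) @IsImmersion)
        (FibCat.diag (FibCat.diag f)) :=
      Groth.Agent.H64.PTh.repByAlgSpWith_diag_of_diagonal _
        (Groth.Agent.H64.PTh.stableBC_of_inst _) hX hfp _ h
    exact (Groth.Agent.H65.AlgStInertia.repByAlgSpWith_inertiaNeutral_iff _ f).2 h2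

end Groth.Agent.S19903
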