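import Groth.Statements.S19907
import Mathlib
import Groth.Agent.H47.EtaleLift
-- import your own Groth.Agent.* helpers here

set_option autoImplicit false
universe u
open CategoryTheory TensorProduct
open ArtFun

namespace Groth.Agent.S19907

open TensorProduct

section General

open Algebra

set_option backward.isDefEq.respectTransparency false in
/-- A hom of extensions out of the canonical (polynomial) extension. -/
noncomputable def selfHom {R S : Type u} [CommRing R] [CommRing S] [Algebra R S]
    (Q : Extension.{u} R S) : (Generators.self R S).toExtension.Hom Q :=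
  { toRingHom := (MvPolynomial.aeval Q.σ).toRingHom
    toRingHom_algebraMap := (MvPolynomial.aeval Q.σ).commutes
    algebraMap_toRingHom := by
      have : (IsScalarTower.toAlgHom R Q.Ring S).comp (MvPolynomial.aeval Q.σ) =
          IsScalarTower.toAlgHom _ (Generators.self R S).toExtension.Ring _ := by
        ext i
        change _ = algebraMap (Generators.self R S).Ring _ (.X i)
        simp
      exact DFunLike.congr_fun this }

set_option backward.isDefEq.respectTransparency false in
theorem bijective_of_extension {R S T : Type u} [CommRing R] [CommRing S] [CommRing T]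
    [Algebra R S] [Algebra R T] [Algebra S T] [IsScalarTower R S T] [Module.Flat S T]
    (P : Extension.{u} R S) (Q : Extension.{u} R T) (f : P.Hom Q)
    [alg : Algebra P.Ring Q.Ring] (halg : algebraMap P.Ring Q.Ring = f.toRingHom)
    [FormallySmooth R P.Ring] [FormallySmooth R Q.Ring]
    (H₁ : f.toRingHom.FormallyEtale)
    (H₂ : Function.Bijective ((f.mapKer halg).liftBaseChange Q.Ring)) :
    Function.Bijective ((Algebra.H1Cotangent.map R R S T).liftBaseChange T) := by
  haveI : FormallySmooth R (Generators.self R S).toExtension.Ring :=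
    inferInstanceAs (FormallySmooth R (MvPolynomial _ _))
  haveI : FormallySmooth R (Generators.self R T).toExtension.Ring :=
    inferInstanceAs (FormallySmooth R (MvPolynomial _ _))
  let e := Extension.tensorH1CotangentOfFormallyEtale f halg H₁ H₂
  let eP := P.equivH1CotangentOfFormallySmooth
  let eQ := Q.equivH1CotangentOfFormallySmooth
  have key : ∀ x, eQ (Extension.H1Cotangent.map f x) =
      Algebra.H1Cotangent.map R R S T (eP x) := by
    intro x
    obtain ⟨y, rfl⟩ := eP.symm.surjective x
    rw [LinearEquiv.apply_symm_apply]
    change Extension.H1Cotangent.equivOfFormallySmooth _ _ _ = _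
    rw [← Extension.H1Cotangent.equivOfFormallySmooth_symm, LinearEquiv.symm_apply_eq,
      @Extension.H1Cotangent.equivOfFormallySmooth_apply (f := selfHom Q)]
    change _ = Extension.H1Cotangent.map (selfHom Q) (Extension.H1Cotangent.map _ y)
    have h2 : eP.symm y = Extension.H1Cotangent.map (selfHom P) y := by
      change (Extension.H1Cotangent.equivOfFormallySmooth _ _).symm y = _
      rw [Extension.H1Cotangent.equivOfFormallySmooth_symm,
        @Extension.H1Cotangent.equivOfFormallySmooth_apply (f := selfHom P)]
    rw [h2, ← Extension.H1Cotangent.map_comp_apply, ← Extension.H1Cotangent.map_comp_apply,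
      Extension.H1Cotangent.map_eq]
  let c : T ⊗[S] P.H1Cotangent ≃ₗ[T] T ⊗[S] Algebra.H1Cotangent R S :=
    TensorProduct.AlgebraTensorModule.congr (LinearEquiv.refl T T) eP
  have hsq : (Algebra.H1Cotangent.map R R S T).liftBaseChange T ∘ₗ c.toLinearMap =
      eQ.toLinearMap ∘ₗ e.toLinearMap := by
    ext x : 3
    simp only [AlgebraTensorModule.curry_apply, curry_apply, LinearMap.coe_restrictScalars,
      LinearMap.coe_comp, LinearEquiv.coe_coe, Function.comp_apply]
    change (Algebra.H1Cotangent.map R R S T).liftBaseChange T (1 ⊗ₜ eP x) =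
      eQ ((Extension.H1Cotangent.map f).liftBaseChange T (1 ⊗ₜ x))
    rw [LinearMap.liftBaseChange_tmul, LinearMap.liftBaseChange_tmul, one_smul, one_smul, key]
  have hb : Function.Bijective
      (⇑((Algebra.H1Cotangent.map R R S T).liftBaseChange T) ∘ ⇑c) := by
    have : ⇑((Algebra.H1Cotangent.map R R S T).liftBaseChange T) ∘ ⇑c = ⇑eQ ∘ ⇑e := by
      funext z
      exact LinearMap.congr_fun hsq z
    rw [this]
    exact eQ.bijective.comp e.bijective
  exact (Function.Bijective.of_comp_iff _ c.bijective).mp hb

set_option backward.isDefEq.respectTransparency false in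
theorem main {R S T : Type u} [CommRing R] [CommRing S] [CommRing T] [Algebra R S] [Algebra R T]
    [Algebra S T] [IsScalarTower R S T] (hS : Function.Surjective (algebraMap R S))
    [Algebra.Etale S T] :
    Function.Bijective ((Algebra.H1Cotangent.map R R S T).liftBaseChange T) := by
  classical
  set I : Ideal R := RingHom.ker (algebraMap R S) with hI
  letI algQS : Algebra (R ⧸ I) S :=
    (Ideal.Quotient.lift I (algebraMap R S) (fun a ha => ha)).toAlgebra
  haveI : IsScalarTower R (R ⧸ I) S := IsScalarTower.of_algebraMap_eq (fun r => rfl)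
  letI algQT : Algebra (R ⧸ I) T := ((algebraMap S T).comp (algebraMap (R ⧸ I) S)).toAlgebra
  haveI : IsScalarTower (R ⧸ I) S T := IsScalarTower.of_algebraMap_eq (fun r => rfl)
  haveI : IsScalarTower R (R ⧸ I) T := IsScalarTower.of_algebraMap_eq (fun r => by
    rw [IsScalarTower.algebraMap_apply R S T]; rfl)
  have hbij : Function.Bijective (algebraMap (R ⧸ I) S) := by
    constructor
    · rw [injective_iff_map_eq_zero]
      intro x hx
      obtain ⟨r, rfl⟩ := Ideal.Quotient.mk_surjective x
      exact Ideal.Quotient.eq_zero_iff_mem.mpr hx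
    · intro s
      obtain ⟨r, rfl⟩ := hS s
      exact ⟨Ideal.Quotient.mk I r, rfl⟩
  haveI : Algebra.Etale (R ⧸ I) S :=
    Algebra.Etale.of_equiv (AlgEquiv.ofBijective (Algebra.ofId (R ⧸ I) S) hbij)
  haveI : Algebra.Etale (R ⧸ I) T := Algebra.Etale.comp (R ⧸ I) S T
  obtain ⟨E, _, _, hE, ⟨ε⟩⟩ := Groth.Agent.H47.exists_etale_lift_quotient R I T
  let φ : E →ₐ[R] T :=
    (ε.toAlgHom.restrictScalars R).comp Algebra.TensorProduct.includeRight
  have hφ : Function.Surjective φ := ε.surjective.comp
    (Algebra.TensorProduct.includeRight_surjective _ Ideal.Quotient.mk_surjective)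
  have hφker : ∀ y : E, φ y = 0 → y ∈ (I • ⊤ : Submodule R E) := by
    intro y hy
    have h1 : (1 : R ⧸ I) ⊗ₜ[R] y = 0 := ε.injective (by rw [map_zero]; exact hy)
    have h2 := congrArg (TensorProduct.quotTensorEquivQuotSMul E I) h1
    rw [map_zero, ← map_one (Ideal.Quotient.mk I),
      TensorProduct.quotTensorEquivQuotSMul_mk_tmul, one_smul] at h2
    exact (Submodule.Quotient.mk_eq_zero _).mp h2
  let P : Algebra.Extension.{u} R S := .ofSurjective (Algebra.ofId R S) hS
  let Q : Algebra.Extension.{u} R T := .ofSurjective φ hφ
  let f : P.Hom Q :=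
    { toRingHom := algebraMap R E
      toRingHom_algebraMap := fun x => rfl
      algebraMap_toRingHom := fun x => by
        change φ (algebraMap R E x) = algebraMap S T (algebraMap R S x)
        rw [AlgHom.commutes, ← IsScalarTower.algebraMap_apply] }
  letI : Algebra P.Ring Q.Ring := (inferInstance : Algebra R E)
  haveI : Algebra.FormallySmooth R P.Ring := (inferInstance : Algebra.FormallySmooth R R)
  haveI : Algebra.FormallySmooth R Q.Ring := (inferInstance : Algebra.FormallySmooth R E)
  haveI : Module.Flat S T := inferInstance
  refine bijective_of_extension P Q f rfl ?_ ?_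
  · exact RingHom.formallyEtale_algebraMap.mpr (inferInstance : Algebra.FormallyEtale R E)
  · have hcomp : ∀ z : E ⊗[R] I,
        ((f.mapKer rfl).liftBaseChange Q.Ring z).1 =
          TensorProduct.rid R E ((Submodule.subtype I).lTensor E z) := by
      intro z
      induction z using TensorProduct.induction_on with
      | zero => simp
      | tmul c i =>
        rw [LinearMap.lTensor_tmul, TensorProduct.rid_tmul]
        change c * algebraMap R E i = (i : R) • c
        rw [Algebra.smul_def, mul_comm]
      | add a b ha hb =>
        rw [map_add, map_add, map_add, ← ha, ← hb]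
        rfl
    constructor
    · intro x y hxy
      have hinj : Function.Injective ((Submodule.subtype I).lTensor E) :=
        Module.Flat.lTensor_preserves_injective_linearMap _ Subtype.val_injective
      apply hinj
      apply (TensorProduct.rid R E).injective
      rw [← hcomp, ← hcomp, hxy]
    · rintro ⟨y, hy⟩
      have hy' : y ∈ (I • ⊤ : Submodule R E) := hφker y hy
      have key : ∀ y ∈ (I • ⊤ : Submodule R E), ∃ z : E ⊗[R] I,
          ((f.mapKer rfl).liftBaseChange Q.Ring z).1 = y := by
        intro y hy
        refine Submodule.smul_induction_on hy ?_ ?_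
        · intro r hr n _
          refine ⟨n ⊗ₜ ⟨r, hr⟩, ?_⟩
          rw [hcomp, LinearMap.lTensor_tmul, TensorProduct.rid_tmul, Submodule.subtype_apply]
        · rintro a b ⟨za, rfl⟩ ⟨zb, rfl⟩
          exact ⟨za + zb, by rw [map_add]; rfl⟩
      obtain ⟨z, hz⟩ := key y hy'
      exact ⟨z, Subtype.ext hz⟩

end General

set_option linter.style.haveILetI false in
theorem etale_range {Λ : Type u} {k : Type u} [CommRing Λ] [Field k] [Algebra Λ k]
    [Module.Finite Λ k]
    [Algebra.IsSeparable (↥(algebraMap Λ k).range) k] :
    Algebra.Etale (↥(algebraMap Λ k).range) k := by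
  have hint : Algebra.IsIntegral (↥(algebraMap Λ k).range) k := by
    constructor
    intro x
    have hx : IsIntegral Λ x := Algebra.IsIntegral.isIntegral x
    obtain ⟨p, hp, hpx⟩ := hx
    refine ⟨p.map (algebraMap Λ k).rangeRestrict, hp.map _, ?_⟩
    rw [Polynomial.eval₂_map]
    exact hpx
  have hf : IsField (↥(algebraMap Λ k).range) :=
    isField_of_isIntegral_of_isField (S := k) Subtype.val_injective (Field.toIsField k)
  letI : Field (↥(algebraMap Λ k).range) := hf.toField
  haveI : Algebra.FormallyEtale (↥(algebraMap Λ k).range) k :=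
    Algebra.FormallyEtale.of_isSeparable _ _
  haveI : Module.Finite (↥(algebraMap Λ k).range) k := by
    have : Module.Finite Λ k := inferInstance
    letI : Algebra Λ (↥(algebraMap Λ k).range) := (algebraMap Λ k).rangeRestrict.toAlgebra
    haveI : IsScalarTower Λ (↥(algebraMap Λ k).range) k :=
      IsScalarTower.of_algebraMap_eq (fun _ ↦ rfl)
    exact Module.Finite.of_restrictScalars_finite Λ _ _
  haveI : Algebra.FinitePresentation (↥(algebraMap Λ k).range) k :=
    Algebra.FinitePresentation.of_finiteType.mp inferInstance
  exact {}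

/-- Let Λ be a Noetherian ring with a finite ring map to a field k, let k' ⊂ k be the image of Λ and m_Λ
the kernel, so that m_Λ/m_Λ² = H₁(L_{k'/Λ}) (Λ → k' being surjective with kernel m_Λ). If k is
separable over k', the canonical map m_Λ/m_Λ² ⊗_{k'} k → H₁(L_{k/Λ}) is an isomorphism. Stated for
H₁(L_{k'/Λ}) in place of m_Λ/m_Λ²: the k-linear base change of the functoriality map H₁(L_{k'/Λ}) →
H₁(L_{k/Λ}) is bijective. (The general construction of the map and the case k = k' are the other
assertions of the source; only the separable case is stated here.) -/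
theorem result {Λ : Type u} {k : Type u} [CommRing Λ] [Field k] [Algebra Λ k]
    [IsNoetherianRing Λ] [Module.Finite Λ k]
    [Algebra.IsSeparable (↥(algebraMap Λ k).range) k] :
    letI : Algebra Λ (↥(algebraMap Λ k).range) := (algebraMap Λ k).rangeRestrict.toAlgebra
    letI : IsScalarTower Λ (↥(algebraMap Λ k).range) k := IsScalarTower.of_algebraMap_eq (fun _ ↦ rfl)
    Function.Bijective ((Algebra.H1Cotangent.map Λ Λ (↥(algebraMap Λ k).range) k).liftBaseChange k) := by
  letI : Algebra Λ (↥(algebraMap Λ k).range) := (algebraMap Λ k).rangeRestrict.toAlgebra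
  letI : IsScalarTower Λ (↥(algebraMap Λ k).range) k :=
    IsScalarTower.of_algebraMap_eq (fun _ ↦ rfl)
  haveI hE : Algebra.Etale (↥(algebraMap Λ k).range) k := etale_range
  exact main (R := Λ) (S := ↥(algebraMap Λ k).range) (T := k)
    (algebraMap Λ k).rangeRestrict_surjective

end Groth.Agent.S19907
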