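import Groth.Statements.S19912
import Mathlib
import Groth.Agent.Lead.RegularLocal3

set_option autoImplicit false
universe u
open CategoryTheory CategoryTheory.Limits AlgebraicGeometry
open Models

namespace Groth.Agent.S19912

/-- Let R be a discrete valuation ring with fraction field K and YR a scheme over Spec R. Let V be a
discrete valuation ring which is an R-algebra in such a way that the maximal ideal of R generates
the maximal ideal of V (ramification index one), and let σ : Spec V -> YR be a morphism over Spec R
sending the closed point of Spec V to y. If the local ring of YR at y is regular, then the local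
ring at y of the special fibre of YR, namely O_{YR,y}/𝔪_R O_{YR,y}, is regular. (The published
statement takes YR a normal projective flat model of a smooth projective geometrically connected
curve Y over K and phrases the hypothesis through a point Q of Y rational over an extension L of K
unramified over K with y in the closure of Q: by the valuative criterion such a point yields a
morphism as above from the spectrum of the localization of the integral closure of R in L at a
maximal ideal over y, which is the form used here.) -/
theorem result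
    (R : Type u) [CommRing R] [IsDomain R] [IsDiscreteValuationRing R]
    (YR : Over (Spec (CommRingCat.of R)))
    (V : Type u) [CommRing V] [IsDomain V] [IsDiscreteValuationRing V] [Algebra R V]
    (hV : Ideal.map (algebraMap R V) (IsLocalRing.maximalIdeal R) = IsLocalRing.maximalIdeal V)
    (σ : Spec (CommRingCat.of V) ⟶ YR.left)
    (hσ : σ ≫ YR.hom = Spec.map (CommRingCat.ofHom (algebraMap R V)))
    (y : YR.left) (hy : σ.base (IsLocalRing.closedPoint V) = y)
    (hreg : IsRegularLocalRing (YR.left.presheaf.stalk y)) :
    IsRegularLocalRing (YR.left.presheaf.stalk y ⧸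
      Ideal.map (Models.stalkHom R YR y) (IsLocalRing.maximalIdeal R)) := by
  subst hy
  haveI := hreg
  set x₀ : ↥(Spec (CommRingCat.of V)) := IsLocalRing.closedPoint V with hx₀
  set O := YR.left.presheaf.stalk (σ.base x₀) with hO
  obtain ⟨ϖ, hϖ⟩ := IsDiscreteValuationRing.exists_irreducible R
  set φ : R →+* O := Models.stalkHom R YR (σ.base x₀) with hφ
  set t : O := φ ϖ with ht
  -- the map `V → stalk`
  let g : V →+* (Spec (CommRingCat.of V)).presheaf.stalk x₀ :=
    ((Spec (CommRingCat.of V)).presheaf.germ ⊤ x₀ trivial).hom.comp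
      (Scheme.ΓSpecIso (CommRingCat.of V)).inv.hom
  let ψ : O →+* (Spec (CommRingCat.of V)).presheaf.stalk x₀ := (σ.stalkMap x₀).hom
  have hcomm : ∀ r : R, ψ (φ r) = g (algebraMap R V r) := by
    intro r
    have h1 : φ r = (YR.left.presheaf.germ ⊤ (σ.base x₀) trivial).hom
        ((YR.hom.appTop).hom ((Scheme.ΓSpecIso (CommRingCat.of R)).inv.hom r)) := rfl
    rw [h1]
    have h2 := Scheme.Hom.germ_stalkMap_apply σ ⊤ x₀ trivial
      ((YR.hom.appTop).hom ((Scheme.ΓSpecIso (CommRingCat.of R)).inv.hom r))
    have h3 : (σ.app ⊤).hom ((YR.hom.appTop).hom ((Scheme.ΓSpecIso (CommRingCat.of R)).inv.hom r)) =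
        (Scheme.ΓSpecIso (CommRingCat.of V)).inv.hom (algebraMap R V r) := by
      have h4 := Scheme.ΓSpecIso_inv_naturality (CommRingCat.ofHom (algebraMap R V))
      rw [← hσ] at h4
      have h5 := congrArg (fun q => q.hom r) h4
      simp only [CommRingCat.hom_comp, RingHom.comp_apply, CommRingCat.hom_ofHom] at h5
      rw [h5]
      rfl
    refine h2.trans ?_
    show ((Spec (CommRingCat.of V)).presheaf.germ (σ ⁻¹ᵁ ⊤) x₀ trivial).hom
      ((σ.app ⊤).hom ((YR.hom.appTop).hom ((Scheme.ΓSpecIso (CommRingCat.of R)).inv.hom r))) = _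
    rw [h3]
    rfl
  -- `g` is bijective
  have hgbij : Function.Bijective g := by
    haveI : IsLocalization.AtPrime ((Spec.structureSheaf V).presheaf.stalk x₀) x₀.asIdeal :=
      StructureSheaf.IsLocalization.to_stalk (R := V) x₀
    have hH : x₀.asIdeal.primeCompl ≤ IsUnit.submonoid V := by
      intro a ha
      have : a ∉ IsLocalRing.maximalIdeal V := ha
      rw [IsLocalRing.mem_maximalIdeal, mem_nonunits_iff, not_not] at this
      exact this
    exact (IsLocalization.atUnits V x₀.asIdeal.primeCompl
      (S := (Spec.structureSheaf V).presheaf.stalk x₀) hH).bijective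
  let e : V ≃+* (Spec (CommRingCat.of V)).presheaf.stalk x₀ := RingEquiv.ofBijective g hgbij
  have he : ∀ a, e a = g a := fun a => rfl
  let χ : O →+* V := (e.symm : _ →+* V).comp ψ
  have hχφ : ∀ r : R, χ (φ r) = algebraMap R V r := by
    intro r
    show e.symm (ψ (φ r)) = _
    rw [hcomm, ← he, RingEquiv.symm_apply_apply]
  haveI hψloc : IsLocalHom ψ := inferInstanceAs (IsLocalHom (σ.stalkMap x₀).hom)
  haveI hχloc : IsLocalHom χ := by
    constructor
    intro a ha
    have h1 : IsUnit (ψ a) := by
      have h0 : IsUnit (e (χ a)) := ha.map e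
      have h00 : e (χ a) = ψ a := by
        show e (e.symm (ψ a)) = ψ a
        rw [RingEquiv.apply_symm_apply]
      rwa [h00] at h0
    exact isUnit_of_map_unit ψ a h1
  -- the maximal ideal of `V`
  have hmV : IsLocalRing.maximalIdeal V = Ideal.span {algebraMap R V ϖ} := by
    rw [← hV, hϖ.maximalIdeal_eq, Ideal.map_span, Set.image_singleton]
  have hfϖ_mem : algebraMap R V ϖ ∈ IsLocalRing.maximalIdeal V := by
    rw [hmV]; exact Ideal.mem_span_singleton_self _
  have hfϖ_ne : algebraMap R V ϖ ≠ 0 := by
    intro h0
    apply IsDiscreteValuationRing.not_a_field V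
    rw [hmV, h0]
    exact Ideal.span_singleton_eq_bot.mpr rfl
  have htm : t ∈ IsLocalRing.maximalIdeal O := by
    rw [IsLocalRing.mem_maximalIdeal, mem_nonunits_iff]
    intro hu
    have h1 : IsUnit (χ t) := hu.map χ
    rw [ht, hχφ] at h1
    exact hfϖ_mem h1
  have htsq : t ∉ IsLocalRing.maximalIdeal O ^ 2 := by
    intro hsq
    have h1 : χ t ∈ (IsLocalRing.maximalIdeal O ^ 2).map χ := Ideal.mem_map_of_mem χ hsq
    rw [Ideal.map_pow] at h1
    have h2 : χ t ∈ IsLocalRing.maximalIdeal V ^ 2 :=
      Ideal.pow_right_mono (IsLocalRing.map_maximalIdeal_le χ) 2 h1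
    rw [ht, hχφ, hmV, Ideal.span_singleton_pow, Ideal.mem_span_singleton'] at h2
    obtain ⟨c, hc⟩ := h2
    have h3 : algebraMap R V ϖ * (c * algebraMap R V ϖ - 1) = 0 := by
      linear_combination hc
    rcases mul_eq_zero.mp h3 with h4 | h4
    · exact hfϖ_ne h4
    · have : IsUnit (algebraMap R V ϖ) :=
        IsUnit.of_mul_eq_one_right c (sub_eq_zero.mp h4)
      exact hfϖ_mem this
  obtain ⟨T, hcard, hspan⟩ := Groth.Agent.Lead.RLR.exists_finset_span_insert O t htm htsq
  have hres := (Groth.Agent.Lead.RLR.quotient_regular O t T hspan (by omega)).1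
  have hideal : Ideal.map (Models.stalkHom R YR (σ.base x₀)) (IsLocalRing.maximalIdeal R) =
      Ideal.span {t} := by
    rw [hϖ.maximalIdeal_eq, Ideal.map_span, Set.image_singleton]
  rw [hideal]
  exact hres

end Groth.Agent.S19912
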