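import Groth.Statements.S1992
import Mathlib

set_option autoImplicit false
universe u
open Polynomial
open EtAlg

namespace Groth.Agent.S1992

section
variable {A : Type u} [CommRing A]
  (hA : ∀ f : A[X], f.Monic → ∃ s : Multiset A, f = (s.map fun a => X - C a).prod)
  (p : Ideal A) [p.IsPrime]

include hA in
/-- a monic polynomial over `A_p`, after scaling roots by a unit, is a product of linear factors. -/
theorem exists_scaleRoots_eq_prod (f : (Localization.AtPrime p)[X]) (hf : f.Monic) :
    ∃ (u : Localization.AtPrime p) (_ : IsUnit u) (t : Multiset (Localization.AtPrime p)),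
      f.scaleRoots u = (t.map fun a => X - C a).prod := by
  classical
  obtain ⟨b, hb⟩ := IsLocalization.exist_integer_multiples_of_finset p.primeCompl f.coeffs
  set u := algebraMap A (Localization.AtPrime p) (b : A) with hu
  have huu : IsUnit u := IsLocalization.map_units _ b
  have hcoef : ∀ i, ∃ a : A, algebraMap A (Localization.AtPrime p) a = u * f.coeff i := by
    intro i
    by_cases h0 : f.coeff i = 0
    · exact ⟨0, by rw [h0, mul_zero, map_zero]⟩
    · obtain ⟨a, ha⟩ := hb _ (Polynomial.coeff_mem_coeffs h0)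
      exact ⟨a, by rw [ha, Algebra.smul_def]⟩
  have hlifts : f.scaleRoots u ∈ Polynomial.lifts (algebraMap A (Localization.AtPrime p)) := by
    rw [Polynomial.lifts_iff_coeff_lifts]
    intro i
    rw [Polynomial.coeff_scaleRoots]
    rcases lt_trichotomy i f.natDegree with hi | hi | hi
    · obtain ⟨a, ha⟩ := hcoef i
      refine ⟨a * (b : A) ^ (f.natDegree - i - 1), ?_⟩
      rw [map_mul, ha, map_pow, ← hu]
      have : f.natDegree - i = (f.natDegree - i - 1) + 1 := by omega
      conv_rhs => rw [this, pow_succ]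
      ring
    · refine ⟨1, ?_⟩
      rw [hi, Nat.sub_self, pow_zero, mul_one, map_one]
      exact hf.coeff_natDegree.symm
    · refine ⟨0, ?_⟩
      rw [map_zero, Polynomial.coeff_eq_zero_of_natDegree_lt hi, zero_mul]
  obtain ⟨G, hG, -, hGm⟩ := Polynomial.lifts_and_natDegree_eq_and_monic hlifts
    ((Polynomial.monic_scaleRoots_iff u).2 hf)
  obtain ⟨s, hs⟩ := hA G hGm
  refine ⟨u, huu, s.map (algebraMap A (Localization.AtPrime p)), ?_⟩
  rw [← hG, hs, Polynomial.map_multiset_prod, Multiset.map_map, Multiset.map_map]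
  congr 1
  apply Multiset.map_congr rfl
  intro a _
  simp

include hA in
theorem exists_root_near (f : (Localization.AtPrime p)[X]) (hf : f.Monic)
    (x : Localization.AtPrime p) (hx : f.eval x ∈ IsLocalRing.maximalIdeal (Localization.AtPrime p)) :
    ∃ a, f.IsRoot a ∧ a - x ∈ IsLocalRing.maximalIdeal (Localization.AtPrime p) := by
  obtain ⟨u, hu, t, ht⟩ := exists_scaleRoots_eq_prod hA p f hf
  have h1 : (f.scaleRoots u).eval (u * x) ∈ IsLocalRing.maximalIdeal (Localization.AtPrime p) := by
    rw [Polynomial.scaleRoots_eval_mul]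
    exact Ideal.mul_mem_left _ _ hx
  rw [ht, Polynomial.eval_multiset_prod, Multiset.map_map,
    (IsLocalRing.maximalIdeal.isMaximal _).isPrime.multiset_prod_mem_iff_exists_mem] at h1
  obtain ⟨y, hy, hym⟩ := h1
  rw [Multiset.mem_map] at hy
  obtain ⟨β, hβ, rfl⟩ := hy
  simp only [Function.comp_apply, Polynomial.eval_sub, Polynomial.eval_X, Polynomial.eval_C] at hym
  obtain ⟨v, rfl⟩ := hu
  refine ⟨↑v⁻¹ * β, ?_, ?_⟩
  · have h2 : (f.scaleRoots (v : Localization.AtPrime p)).eval (v * (↑v⁻¹ * β)) = 0 := by
      rw [← mul_assoc, Units.mul_inv, one_mul, ht, Polynomial.eval_multiset_prod, Multiset.map_map]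
      apply Multiset.prod_eq_zero
      rw [Multiset.mem_map]
      exact ⟨β, hβ, by simp⟩
    rw [Polynomial.scaleRoots_eval_mul] at h2
    rw [Polynomial.IsRoot.def]
    exact (v.isUnit.pow _).mul_right_eq_zero.1 h2
  · have : ↑v⁻¹ * β - x = - ↑v⁻¹ * (↑v * x - β) := by
      have h3 : (↑v⁻¹ : Localization.AtPrime p) * ↑v = 1 := Units.inv_mul v
      linear_combination x * h3
    rw [this]
    exact Ideal.mul_mem_left _ _ hym

include hA in
theorem exists_root (f : (Localization.AtPrime p)[X]) (hf : f.Monic) (hdeg : 0 < f.natDegree) :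
    ∃ a, f.IsRoot a := by
  obtain ⟨u, hu, t, ht⟩ := exists_scaleRoots_eq_prod hA p f hf
  have hcard : Multiset.card t = f.natDegree := by
    rw [← Polynomial.natDegree_scaleRoots f u, ht, Polynomial.natDegree_multiset_prod_X_sub_C_eq_card]
  have hne : t ≠ 0 := by
    intro h0
    rw [h0, Multiset.card_zero] at hcard
    omega
  obtain ⟨β, hβ⟩ := Multiset.exists_mem_of_ne_zero hne
  obtain ⟨v, rfl⟩ := hu
  refine ⟨↑v⁻¹ * β, ?_⟩
  have h2 : (f.scaleRoots (v : Localization.AtPrime p)).eval (v * (↑v⁻¹ * β)) = 0 := by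
    rw [← mul_assoc, Units.mul_inv, one_mul, ht, Polynomial.eval_multiset_prod, Multiset.map_map]
    apply Multiset.prod_eq_zero
    rw [Multiset.mem_map]
    exact ⟨β, hβ, by simp⟩
  rw [Polynomial.scaleRoots_eval_mul] at h2
  rw [Polynomial.IsRoot.def]
  exact (v.isUnit.pow _).mul_right_eq_zero.1 h2

end

/-- Let A be an absolutely integrally closed ring, i.e. every monic polynomial over A is a product of
linear factors X - a. Then for every prime p of A the localization A_p is a strictly henselian local
ring (henselian with separably closed residue field). -/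
theorem result (A : Type u) [CommRing A]
    (hA : ∀ f : A[X], f.Monic → ∃ s : Multiset A, f = (s.map fun a => X - C a).prod)
    (p : Ideal A) [p.IsPrime] :
    EtCoh.IsStrictlyHenselianLocalRing (Localization.AtPrime p) := by
  have hH : HenselianLocalRing (Localization.AtPrime p) :=
    { is_henselian := fun f hf a₀ h0 _ => exists_root_near hA p f hf a₀ h0 }
  refine ⟨hH, ?_⟩
  apply IsSepClosed.of_exists_root
  intro q hq hirr _
  have hlifts : q ∈ Polynomial.lifts (IsLocalRing.residue (Localization.AtPrime p)) := by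
    rw [Polynomial.lifts_iff_coeff_lifts]
    intro i
    exact IsLocalRing.residue_surjective _
  obtain ⟨F, hF, hFdeg, hFm⟩ := Polynomial.lifts_and_natDegree_eq_and_monic hlifts hq
  have hdeg : 0 < F.natDegree := by
    rw [hFdeg]
    exact hirr.natDegree_pos
  obtain ⟨a, ha⟩ := exists_root hA p F hFm hdeg
  refine ⟨IsLocalRing.residue _ a, ?_⟩
  rw [← hF, Polynomial.eval_map, Polynomial.eval₂_at_apply, ha, map_zero]

end Groth.Agent.S1992
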