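import Groth.Statements.S19967
import Mathlib

set_option autoImplicit false
universe u
open CategoryTheory CategoryTheory.Limits AlgebraicGeometry
open FlatMor

namespace Groth.Agent.S19967

/-- Let f : S' → S be a flat morphism of locally Noetherian schemes, i : C → S and i' : C' → S' closed
immersions with C and C' integral, and g : C' → C with g ≫ i = i' ≫ f. Let φ : C' → C ×_S S' be the
induced morphism and η ∈ S the image of the generic point of C. If φ becomes an isomorphism after
base change along the canonical morphism Spec O_{S,η} → S (that is, after pulling back to (C ×_S S')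
×_S Spec O_{S,η}), then φ is an isomorphism. (In the source S and S' are excellent surfaces over an
algebraically closed field, C and C' regular curves not inside the singular loci, and the
isomorphism over Spec O_{S,η} is part of the definition of a morphism of surface-curve pairs; those
extra hypotheses play no part.) -/
theorem result
    {S S' C C' : Scheme.{u}} [IsLocallyNoetherian S] [IsLocallyNoetherian S']
    (f : S' ⟶ S) [Flat f] (i : C ⟶ S) [IsClosedImmersion i] [IsIntegral C]
    (i' : C' ⟶ S') [IsClosedImmersion i'] [IsIntegral C']
    (g : C' ⟶ C) (hsq : g ≫ i = i' ≫ f)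
    (hgen : IsIso (pullback.snd (pullback.lift g i' hsq)
      (pullback.fst (pullback.fst i f ≫ i) (S.fromSpecStalk (i.base (genericPoint C)))))) :
    IsIso (pullback.lift g i' hsq) := by
  -- the map `φ` is a closed immersion
  have hcl2 : IsClosedImmersion (pullback.snd i f) := inferInstance
  have hcl : IsClosedImmersion (pullback.lift g i' hsq) := by
    have h1 : IsClosedImmersion (pullback.lift g i' hsq ≫ pullback.snd i f) := by
      rw [pullback.lift_snd]; infer_instance
    exact IsClosedImmersion.of_comp (pullback.lift g i' hsq) (pullback.snd i f)
  -- the generic point inclusion, base changed to `C`, is scheme-theoretically dominant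
  have hqs : QuasiSeparatedSpace S := inferInstance
  have hqc : QuasiCompact (S.fromSpecStalk (i.base (genericPoint C))) := inferInstance
  have hdom : IsDominant (pullback.fst i (S.fromSpecStalk (i.base (genericPoint C)))) := by
    rw [isDominant_iff]
    have hmem : genericPoint C ∈ Set.range
        (pullback.fst i (S.fromSpecStalk (i.base (genericPoint C)))).base := by
      rw [Scheme.Pullback.range_fst, Set.mem_preimage, Scheme.range_fromSpecStalk]
      exact specializes_rfl
    have hd : Dense ({genericPoint C} : Set C) :=
      dense_iff_closure_eq.mpr (genericPoint_spec C)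
    exact hd.mono (Set.singleton_subset_iff.mpr hmem)
  have hsd : IsSchemeTheoreticallyDominant
      (pullback.fst i (S.fromSpecStalk (i.base (genericPoint C)))) :=
    IsSchemeTheoreticallyDominant.of_isDominant _
  have hsd2 : IsSchemeTheoreticallyDominant
      (pullback.fst (pullback.fst i f)
        (pullback.fst i (S.fromSpecStalk (i.base (genericPoint C))))) := inferInstance
  have hρ : pullback.fst (pullback.fst i f ≫ i) (S.fromSpecStalk (i.base (genericPoint C))) =
      (pullbackRightPullbackFstIso i (S.fromSpecStalk (i.base (genericPoint C)))
        (pullback.fst i f)).inv ≫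
        pullback.fst (pullback.fst i f)
          (pullback.fst i (S.fromSpecStalk (i.base (genericPoint C)))) := by
    rw [Iso.eq_inv_comp, pullbackRightPullbackFstIso_hom_fst]
  have hsd3 : IsSchemeTheoreticallyDominant
      (pullback.fst (pullback.fst i f ≫ i) (S.fromSpecStalk (i.base (genericPoint C)))) := by
    rw [hρ]; infer_instance
  -- conclude
  rw [IsClosedImmersion.isIso_iff_ker_eq_bot]
  apply le_bot_iff.mp
  have hfac : (inv (pullback.snd (pullback.lift g i' hsq)
      (pullback.fst (pullback.fst i f ≫ i) (S.fromSpecStalk (i.base (genericPoint C))))) ≫
      pullback.fst (pullback.lift g i' hsq)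
        (pullback.fst (pullback.fst i f ≫ i) (S.fromSpecStalk (i.base (genericPoint C))))) ≫
      pullback.lift g i' hsq =
      pullback.fst (pullback.fst i f ≫ i) (S.fromSpecStalk (i.base (genericPoint C))) := by
    have hc := pullback.condition (f := pullback.lift g i' hsq)
      (g := pullback.fst (pullback.fst i f ≫ i) (S.fromSpecStalk (i.base (genericPoint C))))
    rw [Category.assoc, hc, IsIso.inv_hom_id_assoc]
  calc (pullback.lift g i' hsq).ker ≤ ((inv (pullback.snd (pullback.lift g i' hsq)
      (pullback.fst (pullback.fst i f ≫ i) (S.fromSpecStalk (i.base (genericPoint C))))) ≫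
      pullback.fst (pullback.lift g i' hsq)
        (pullback.fst (pullback.fst i f ≫ i) (S.fromSpecStalk (i.base (genericPoint C))))) ≫
      pullback.lift g i' hsq).ker := Scheme.Hom.le_ker_comp _ _
    _ = ⊥ := by rw [hfac]; exact hsd3.ker_eq_bot

end Groth.Agent.S19967
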