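import Groth.Statements.S1997
import Mathlib

set_option autoImplicit false
universe u
open CategoryTheory
open EtAlg

namespace Groth.Agent.S1997

open TensorProduct

/-- If all ideals of `A` are flat, then a submodule of a flat module is flat. -/
theorem flat_of_injective_of_flat {A : Type u} [CommRing A] (hA : ∀ I : Ideal A, Module.Flat A I)
    {N F : Type u} [AddCommGroup N] [AddCommGroup F] [Module A N] [Module A F] [Module.Flat A F]
    (ι : N →ₗ[A] F) (hι : Function.Injective ι) : Module.Flat A N := by
  rw [Module.Flat.iff_rTensor_injective']
  intro I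
  haveI := hA I
  have h1 : Function.Injective (ι.lTensor I) :=
    Module.Flat.lTensor_preserves_injective_linearMap ι hι
  have h2 : Function.Injective (I.subtype.rTensor F) :=
    Module.Flat.rTensor_preserves_injective_linearMap _ I.injective_subtype
  have h3 : (ι.lTensor A) ∘ₗ (I.subtype.rTensor N) = (I.subtype.rTensor F) ∘ₗ (ι.lTensor I) := by
    ext; simp
  refine Function.Injective.of_comp (f := ι.lTensor A) ?_
  rw [← LinearMap.coe_comp, h3]
  exact h2.comp h1

/-- Let A be a ring all of whose ideals are flat (weak dimension at most one) and A -> B a flat,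
injective ring map which is an epimorphism in the category of commutative rings. Then A is
integrally closed in B. -/
theorem result (A B : Type u) [CommRing A] [CommRing B] [Algebra A B]
    (hA : ∀ I : Ideal A, Module.Flat A I) [Module.Flat A B] (hinj : Function.Injective (algebraMap A B))
    (hepi : Epi (CommRingCat.ofHom (algebraMap A B))) : IsIntegrallyClosedIn A B := by
  rw [isIntegrallyClosedIn_iff]
  refine ⟨hinj, fun {x} hx => ?_⟩
  let C : Subalgebra A B := Algebra.adjoin A {x}
  haveI : Module.Finite A C := Module.Finite.iff_fg.2 hx.fg_adjoin_singleton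
  haveI : Module.Flat A C :=
    flat_of_injective_of_flat hA C.val.toLinearMap Subtype.val_injective
  haveI : Algebra.IsEpi A B := CommRingCat.epi_iff_epi.1 hepi
  haveI : Algebra.IsEpi A C := by
    refine ⟨?_⟩
    have h1 : Function.Injective (TensorProduct.map C.val.toLinearMap C.val.toLinearMap) :=
      TensorProduct.map_injective_of_flat_flat' _ _ Subtype.val_injective Subtype.val_injective
    have h2 : Function.Injective (TensorProduct.lift (LinearMap.mul A B)) :=
      Algebra.IsEpi.injective_lift_mul
    have h3 : C.val.toLinearMap ∘ₗ TensorProduct.lift (LinearMap.mul A C) =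
        TensorProduct.lift (LinearMap.mul A B) ∘ₗ
          TensorProduct.map C.val.toLinearMap C.val.toLinearMap := by
      ext; simp
    refine Function.Injective.of_comp (f := C.val.toLinearMap) ?_
    rw [← LinearMap.coe_comp, h3]
    exact h2.comp h1
  have hs := (Algebra.isEpi_iff_surjective_algebraMap_of_finite (R := A) (A := C)).1 inferInstance
  obtain ⟨a, ha⟩ := hs ⟨x, Algebra.subset_adjoin rfl⟩
  exact ⟨a, congrArg Subtype.val ha⟩

end Groth.Agent.S1997
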