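import Groth.Statements.S19974
import Mathlib.Algebra.TrivSqZeroExt.Basic
-- import your own Groth.Agent.* helpers here

set_option autoImplicit false
universe u v w x
open scoped BigOperators
open DefMod

namespace Groth.Agent.S19974


section Helpers

variable {K : Type u} [Field K] {O : Type v} [CommRing O] [Algebra K O] (δ : Derivation K O O)
  {B : Type w} [Ring B] [Algebra K B] (ι : O →ₐ[K] B) (d : B)

/-- The "normal form" map `Σ f_i ∂^i ↦ Σ ι(f_i) d^i`. -/
noncomputable def T : (ℕ →₀ O) →ₗ[K] B :=
  Finsupp.lsum K (fun i => (LinearMap.mulRight K (d ^ i)) ∘ₗ ι.toLinearMap)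

theorem T_apply (c : ℕ →₀ O) : T ι d c = c.sum (fun i f => ι f * d ^ i) := by
  unfold T
  rw [Finsupp.lsum_apply]
  rfl

theorem T_single (i : ℕ) (f : O) : T ι d (Finsupp.single i f) = ι f * d ^ i := by
  simp [T]

/-- multiplication by `g` on coefficients, as a `K`-linear map -/
noncomputable def smulL (K : Type u) [Field K] {O : Type v} [CommRing O] [Algebra K O] (g : O) :
    (ℕ →₀ O) →ₗ[K] (ℕ →₀ O) :=
  Finsupp.mapRange.linearMap (LinearMap.mulLeft K g)

/-- shift of exponents -/
noncomputable def shiftL (K : Type u) [Field K] (O : Type v) [CommRing O] [Algebra K O] :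
    (ℕ →₀ O) →ₗ[K] (ℕ →₀ O) :=
  Finsupp.lmapDomain O K (fun i => i + 1)

/-- `δ` on coefficients -/
noncomputable def derL : (ℕ →₀ O) →ₗ[K] (ℕ →₀ O) :=
  Finsupp.mapRange.linearMap (δ : O →ₗ[K] O)

theorem T_smulL (g : O) (c : ℕ →₀ O) : T ι d (smulL K g c) = ι g * T ι d c := by
  have : (T ι d) ∘ₗ (smulL K g) = (LinearMap.mulLeft K (ι g)) ∘ₗ (T ι d) := by
    refine Finsupp.lhom_ext fun i f => ?_
    simp [smulL, T_single, mul_assoc]
  exact LinearMap.congr_fun this c

theorem T_shift_der (hd : ∀ f : O, d * ι f = ι f * d + ι (δ f)) (c : ℕ →₀ O) :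
    T ι d (shiftL K O c) + T ι d (derL δ c) = d * T ι d c := by
  have : (T ι d) ∘ₗ (shiftL K O) + (T ι d) ∘ₗ (derL δ) = (LinearMap.mulLeft K d) ∘ₗ (T ι d) := by
    refine Finsupp.lhom_ext fun i f => ?_
    simp only [LinearMap.add_apply, LinearMap.comp_apply, shiftL, derL, Finsupp.lmapDomain_apply,
      Finsupp.mapDomain_single, Finsupp.mapRange.linearMap_apply, Finsupp.mapRange_single,
      T_single, LinearMap.mulLeft_apply]
    rw [← mul_assoc, hd f, add_mul, pow_succ', mul_assoc]
    rfl
  exact LinearMap.congr_fun this c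

end Helpers

/-- Let K be a field of characteristic 0, O a commutative K-algebra with a K-linear derivation δ, and D
the ring of differential operators O[∂], presented abstractly as a K-algebra D with an algebra map ι
: O → D and an element ∂ of D such that ∂ ι(f) = ι(f) ∂ + ι(δ f) for every f in O and such that
every element of D is in a unique way a finite sum of terms ι(f_i) ∂^i. Let E be a left D-module,
given as a K-vector space with a K-algebra map ρ : D → End_K(E), which is finite free as an
O-module. A K-derivation of D with values in the D-bimodule End_K(E) is a K-linear map s with s(PQ)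
= s(P) ρ(Q) + ρ(P) s(Q); a K-derivation of O with values in End_K(E) is a K-linear map r with r(fg)
= r(f) ρ(ι g) + ρ(ι f) r(g). Then: (a) for every K-derivation s of D into End_K(E), the pair (r, v)
= (s ∘ ι, s(∂)) satisfies the identity [r(f), ρ(∂)] + [ρ(ι f), v] + r(δ f) = 0 for all f in O; (b)
conversely, for every K-derivation r of O into End_K(E) and every v in End_K(E) satisfying that
identity for all f, there is exactly one K-derivation s of D into End_K(E) with s ∘ ι = r and s(∂) =
v. In other words s ↦ (s ∘ ι, s(∂)) maps the K-derivations of D injectively onto the pairs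
satisfying the identity. -/
theorem result
    (K : Type u) [Field K] [CharZero K]
    (O : Type v) [CommRing O] [Algebra K O] (δ : Derivation K O O)
    (D : Type w) [Ring D] [Algebra K D] (ι : O →ₐ[K] D) (d : D)
    (hd : ∀ f : O, d * ι f = ι f * d + ι (δ f))
    (hbasis : Function.Bijective (fun c : ℕ →₀ O => c.sum (fun i f => ι f * d ^ i)))
    (E : Type x) [AddCommGroup E] [Module K E] (ρ : D →ₐ[K] Module.End K E)
    (hE : ∃ (n : ℕ) (b : Fin n → E), Function.Bijective (fun c : Fin n → O => ∑ i, ρ (ι (c i)) (b i))) :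
    (∀ s : D →ₗ[K] Module.End K E, (∀ P Q : D, s (P * Q) = s P * ρ Q + ρ P * s Q) →
      ∀ f : O, (s (ι f) * ρ d - ρ d * s (ι f)) + (ρ (ι f) * s d - s d * ρ (ι f)) + s (ι (δ f)) = 0) ∧
    ∀ (r : O →ₗ[K] Module.End K E) (v : Module.End K E),
      (∀ f g : O, r (f * g) = r f * ρ (ι g) + ρ (ι f) * r g) →
      (∀ f : O, (r f * ρ d - ρ d * r f) + (ρ (ι f) * v - v * ρ (ι f)) + r (δ f) = 0) →
      ∃! s : D →ₗ[K] Module.End K E,
        (∀ P Q : D, s (P * Q) = s P * ρ Q + ρ P * s Q) ∧ s ∘ₗ ι.toLinearMap = r ∧ s d = v := by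
  classical
  refine ⟨?_, ?_⟩
  · intro s hs f
    have h1 := congrArg s (hd f)
    rw [hs, map_add, hs] at h1
    -- h1 : s d * ρ (ι f) + ρ d * s (ι f) = s (ι f) * ρ d + ρ (ι f) * s d + s (ι (δ f))
    have : (s (ι f) * ρ d - ρ d * s (ι f)) + (ρ (ι f) * s d - s d * ρ (ι f)) + s (ι (δ f)) =
        (s (ι f) * ρ d + ρ (ι f) * s d + s (ι (δ f))) - (s d * ρ (ι f) + ρ d * s (ι f)) := by abel
    rw [this, ← h1, sub_self]
  · intro r v hr hrv
    -- the basis equivalence
    let e : (ℕ →₀ O) ≃ₗ[K] D := LinearEquiv.ofBijective (T ι d) (by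
      have : (fun c : ℕ →₀ O => c.sum (fun i f => ι f * d ^ i)) = T ι d := by
        funext c; rw [T_apply]
      rw [← this]; exact hbasis)
    have he : ∀ c, e c = T ι d c := fun c => rfl
    -- the target ring
    let B := TrivSqZeroExt (Module.End K E) (Module.End K E)
    have hr1 : r 1 = 0 := by
      have := hr 1 1
      rw [mul_one, map_one ι, map_one ρ, mul_one, one_mul] at this
      have h2 : r 1 + r 1 = r 1 + 0 := by rw [add_zero]; exact this.symm
      exact add_left_cancel h2
    let ι' : O →ₐ[K] B :=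
      { toFun := fun f => (ρ (ι f), r f)
        map_one' := by
          refine TrivSqZeroExt.ext ?_ ?_
          · change ρ (ι 1) = 1
            rw [map_one, map_one]
          · change r 1 = 0
            exact hr1
        map_mul' := by
          intro f g
          refine TrivSqZeroExt.ext ?_ ?_
          · rw [TrivSqZeroExt.fst_mul]
            change ρ (ι (f * g)) = ρ (ι f) * ρ (ι g)
            rw [map_mul, map_mul]
          · rw [TrivSqZeroExt.snd_mul]
            change r (f * g) = ρ (ι f) • r g + MulOpposite.op (ρ (ι g)) • r f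
            rw [hr f g, add_comm, smul_eq_mul, op_smul_eq_mul]
        map_zero' := by
          refine TrivSqZeroExt.ext ?_ ?_
          · change ρ (ι 0) = 0
            rw [map_zero, map_zero]
          · change r 0 = 0
            rw [map_zero]
        map_add' := by
          intro f g
          refine TrivSqZeroExt.ext ?_ ?_
          · rw [TrivSqZeroExt.fst_add]
            change ρ (ι (f + g)) = ρ (ι f) + ρ (ι g)
            rw [map_add, map_add]
          · rw [TrivSqZeroExt.snd_add]
            change r (f + g) = r f + r g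
            rw [map_add]
        commutes' := by
          intro c
          refine TrivSqZeroExt.ext ?_ ?_
          · rw [TrivSqZeroExt.algebraMap_eq_inl', TrivSqZeroExt.fst_inl]
            change ρ (ι (algebraMap K O c)) = _
            rw [AlgHom.commutes, AlgHom.commutes]
          · rw [TrivSqZeroExt.algebraMap_eq_inl', TrivSqZeroExt.snd_inl]
            change r (algebraMap K O c) = 0
            rw [Algebra.algebraMap_eq_smul_one, map_smul, hr1, smul_zero] }
    have hι'fst : ∀ f, (ι' f).fst = ρ (ι f) := fun f => rfl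
    have hι'snd : ∀ f, (ι' f).snd = r f := fun f => rfl
    let d' : B := (ρ d, v)
    have hd' : ∀ f : O, d' * ι' f = ι' f * d' + ι' (δ f) := by
      intro f
      refine TrivSqZeroExt.ext ?_ ?_
      · rw [TrivSqZeroExt.fst_mul, TrivSqZeroExt.fst_add, TrivSqZeroExt.fst_mul, hι'fst, hι'fst]
        change ρ d * ρ (ι f) = ρ (ι f) * ρ d + ρ (ι (δ f))
        rw [← map_mul, hd f, map_add, map_mul]
      · rw [TrivSqZeroExt.snd_mul, TrivSqZeroExt.snd_add, TrivSqZeroExt.snd_mul, hι'fst, hι'snd,
          hι'snd, smul_eq_mul, smul_eq_mul, op_smul_eq_mul, op_smul_eq_mul]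
        change ρ d * r f + v * ρ (ι f) = ρ (ι f) * v + r f * ρ d + r (δ f)
        have := hrv f
        have h3 : ρ (ι f) * v + r f * ρ d + r (δ f) - (ρ d * r f + v * ρ (ι f)) =
          (r f * ρ d - ρ d * r f) + (ρ (ι f) * v - v * ρ (ι f)) + r (δ f) := by abel
        rw [this] at h3
        exact (sub_eq_zero.mp h3).symm
    -- the multiplicative map Φ
    let Φ : D →ₗ[K] B := (T ι' d') ∘ₗ e.symm.toLinearMap
    have hΦT : ∀ c, Φ (T ι d c) = T ι' d' c := by
      intro c
      change T ι' d' (e.symm (T ι d c)) = _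
      rw [← he, e.symm_apply_apply]
    have hsurj : ∀ P : D, ∃ c, T ι d c = P := fun P => ⟨e.symm P, e.apply_symm_apply P⟩
    have hA : ∀ f Q, Φ (ι f * Q) = ι' f * Φ Q := by
      intro f Q
      obtain ⟨c, rfl⟩ := hsurj Q
      rw [← T_smulL, hΦT, hΦT, T_smulL]
    have hB : ∀ Q, Φ (d * Q) = d' * Φ Q := by
      intro Q
      obtain ⟨c, rfl⟩ := hsurj Q
      rw [← T_shift_der δ ι d hd, map_add, hΦT, hΦT, hΦT, T_shift_der δ ι' d' hd']
    have hC : ∀ (i : ℕ) Q, Φ (d ^ i * Q) = d' ^ i * Φ Q := by
      intro i
      induction i with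
      | zero => intro Q; simp
      | succ i ih => intro Q; rw [pow_succ', mul_assoc, hB, ih, pow_succ', mul_assoc]
    have hΦ1 : Φ 1 = 1 := by
      have : (1 : D) = T ι d (Finsupp.single 0 1) := by rw [T_single]; simp
      rw [this, hΦT, T_single]; simp
    have hΦmul : ∀ P Q, Φ (P * Q) = Φ P * Φ Q := by
      intro P Q
      obtain ⟨c, rfl⟩ := hsurj P
      induction c using Finsupp.induction_linear with
      | zero => simp
      | add c₁ c₂ h₁ h₂ => rw [map_add, add_mul, map_add, h₁, h₂, map_add, add_mul]
      | single i f =>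
        rw [T_single, mul_assoc, hA, hC]
        have : Φ (ι f * d ^ i) = ι' f * d' ^ i := by
          have := hA f (d ^ i * 1)
          rw [hC, hΦ1, mul_one, mul_one] at this
          exact this
        rw [this, mul_assoc]
    have hΦι : ∀ f, Φ (ι f) = ι' f := by
      intro f
      have := hA f 1
      rwa [hΦ1, mul_one, mul_one] at this
    have hΦd : Φ d = d' := by
      have := hB 1
      rwa [hΦ1, mul_one, mul_one] at this
    have hΦfst : ∀ P, (Φ P).fst = ρ P := by
      intro P
      obtain ⟨c, rfl⟩ := hsurj P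
      induction c using Finsupp.induction_linear with
      | zero => simp
      | add c₁ c₂ h₁ h₂ => rw [map_add, map_add, TrivSqZeroExt.fst_add, h₁, h₂, map_add]
      | single i f =>
        rw [hΦT, T_single, T_single, TrivSqZeroExt.fst_mul, TrivSqZeroExt.fst_pow, map_mul, map_pow]
        rfl
    -- the derivation
    let s : D →ₗ[K] Module.End K E :=
      { toFun := fun P => (Φ P).snd
        map_add' := fun P Q => by rw [map_add, TrivSqZeroExt.snd_add]
        map_smul' := fun c P => by rw [map_smul, TrivSqZeroExt.snd_smul]; rfl }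
    have hs_apply : ∀ P, s P = (Φ P).snd := fun P => rfl
    have hsder : ∀ P Q : D, s (P * Q) = s P * ρ Q + ρ P * s Q := by
      intro P Q
      rw [hs_apply, hΦmul, TrivSqZeroExt.snd_mul, hΦfst, hΦfst, hs_apply, hs_apply]
      simp only [smul_eq_mul, MulOpposite.smul_eq_mul_unop, MulOpposite.unop_op]
      rw [add_comm]
    refine ⟨s, ⟨hsder, ?_, ?_⟩, ?_⟩
    · ext f x
      simp only [LinearMap.comp_apply, AlgHom.toLinearMap_apply]
      rw [hs_apply, hΦι]
      rfl
    · rw [hs_apply, hΦd]
      rfl
    · rintro s' ⟨hs'der, hs'ι, hs'd⟩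
      have hs'ιf : ∀ f, s' (ι f) = r f := fun f => by
        rw [← hs'ι]; rfl
      have hsιf : ∀ f, s (ι f) = r f := fun f => by rw [hs_apply, hΦι]; rfl
      have hsd : s d = v := by rw [hs_apply, hΦd]; rfl
      have hpow : ∀ i : ℕ, s' (d ^ i) = s (d ^ i) := by
        intro i
        induction i with
        | zero =>
          have h1 : (1 : D) = ι 1 := (map_one ι).symm
          rw [pow_zero, h1, hs'ιf, hsιf]
        | succ i ih => rw [pow_succ, hs'der, hsder, ih, hs'd, hsd]
      apply LinearMap.ext
      intro P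
      obtain ⟨c, rfl⟩ := hsurj P
      induction c using Finsupp.induction_linear with
      | zero => simp
      | add c₁ c₂ h₁ h₂ => rw [map_add, map_add, map_add, h₁, h₂]
      | single i f => rw [T_single, hs'der, hsder, hpow, hs'ιf, hsιf]

end Groth.Agent.S19974
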