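import Groth.Statements.S1998
import Mathlib.Algebra.Polynomial.Lifts
import Mathlib.RingTheory.Jacobson.Ideal

set_option autoImplicit false
universe u
open EtAlg

namespace Groth.Agent.S1998

open Polynomial

section

variable {ι : Type u} [Preorder ι] [IsDirected ι (· ≤ ·)] [Nonempty ι]
  (G : ι → Type u) [∀ i, CommRing (G i)] (f : ∀ i j, i ≤ j → G i →+* G j)
  [DirectedSystem G fun i j h => f i j h] (I : ∀ i, Ideal (G i))
  (hI : ∀ i j (h : i ≤ j), (I i).map (f i j h) ≤ I j)

local notation "L" => Ring.DirectLimit G fun i j h => f i j h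
local notation "ofL" => Ring.DirectLimit.of G (fun i j h => f i j h)

omit [IsDirected ι (· ≤ ·)] [Nonempty ι] [DirectedSystem G fun i j h => f i j h] in
include hI in
theorem f_mem {i j : ι} (h : i ≤ j) {y : G i} (hy : y ∈ I i) : f i j h y ∈ I j :=
  hI i j h (Ideal.mem_map_of_mem _ hy)

/-- The ideal of the colimit consisting of images of elements of the `I i`. -/
def imgIdeal : Ideal L where
  carrier := {x | ∃ i, ∃ y ∈ I i, ofL i y = x}
  zero_mem' := by
    obtain ⟨i⟩ := ‹Nonempty ι›
    exact ⟨i, 0, (I i).zero_mem, map_zero _⟩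
  add_mem' := by
    rintro _ _ ⟨i, y, hy, rfl⟩ ⟨j, z, hz, rfl⟩
    obtain ⟨k, hik, hjk⟩ := exists_ge_ge i j
    refine ⟨k, f i k hik y + f j k hjk z,
      (I k).add_mem (f_mem G f I hI hik hy) (f_mem G f I hI hjk hz), ?_⟩
    rw [map_add, Ring.DirectLimit.of_f, Ring.DirectLimit.of_f]
  smul_mem' := by
    rintro c _ ⟨i, y, hy, rfl⟩
    obtain ⟨j, c, rfl⟩ := Ring.DirectLimit.exists_of c
    obtain ⟨k, hik, hjk⟩ := exists_ge_ge i j
    refine ⟨k, f j k hjk c * f i k hik y, (I k).mul_mem_left _ (f_mem G f I hI hik hy), ?_⟩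
    rw [map_mul, Ring.DirectLimit.of_f, Ring.DirectLimit.of_f, smul_eq_mul]

include hI in
theorem iSup_eq : (⨆ i, (I i).map (ofL i)) = imgIdeal G f I hI := by
  apply le_antisymm
  · refine iSup_le fun i => ?_
    rw [Ideal.map_le_iff_le_comap]
    intro y hy
    exact ⟨i, y, hy, rfl⟩
  · rintro _ ⟨i, y, hy, rfl⟩
    exact (le_iSup (fun i => (I i).map (ofL i)) i) (Ideal.mem_map_of_mem _ hy)

include hI in
theorem exists_mem_of_of_mem {k : ι} {z : G k} (hz : ofL k z ∈ imgIdeal G f I hI) :
    ∃ (m : ι) (hkm : k ≤ m), f k m hkm z ∈ I m := by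
  obtain ⟨i, y, hy, hyz⟩ := hz
  obtain ⟨l, hil, hkl⟩ := exists_ge_ge i k
  have h0 : ofL l (f k l hkl z - f i l hil y) = 0 := by
    rw [map_sub, Ring.DirectLimit.of_f, Ring.DirectLimit.of_f, hyz, sub_self]
  obtain ⟨m, hlm, hm⟩ := Ring.DirectLimit.of.zero_exact h0
  refine ⟨m, hkl.trans hlm, ?_⟩
  rw [map_sub, sub_eq_zero, DirectedSystem.map_map' (f := f), DirectedSystem.map_map' (f := f)] at hm
  rw [hm]
  exact f_mem G f I hI _ hy

end

/-- Let (A_j, I_j) be a directed system of henselian pairs (ring maps A_j -> A_k for j ≤ k carrying I_j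
into I_k). Then the direct limit A of the A_j together with the ideal generated by the images of the
I_j is a henselian pair. -/
theorem result {ι : Type u} [Preorder ι] [IsDirected ι (· ≤ ·)] [Nonempty ι]
    (G : ι → Type u) [∀ i, CommRing (G i)] (f : ∀ i j, i ≤ j → G i →+* G j)
    [DirectedSystem G fun i j h => f i j h] (I : ∀ i, Ideal (G i))
    (hI : ∀ i j (h : i ≤ j), (I i).map (f i j h) ≤ I j) (hh : ∀ i, HenselianRing (G i) (I i)) :
    HenselianRing (Ring.DirectLimit G fun i j h => f i j h)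
      (⨆ i, (I i).map (Ring.DirectLimit.of G (fun i j h => f i j h) i)) := by
  rw [iSup_eq G f I hI]
  refine ⟨?_, ?_⟩
  · -- Jacobson condition
    rintro _ ⟨i, x, hx, rfl⟩
    rw [Ideal.mem_jacobson_bot]
    intro y
    obtain ⟨j, y, rfl⟩ := Ring.DirectLimit.exists_of y
    obtain ⟨k, hik, hjk⟩ := exists_ge_ge i j
    have hu : IsUnit (f i k hik x * f j k hjk y + 1) :=
      Ideal.mem_jacobson_bot.mp ((hh k).jac (f_mem G f I hI hik hx)) _
    have := hu.map (Ring.DirectLimit.of G (fun i j h => f i j h) k)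
    rwa [map_add, map_mul, map_one, Ring.DirectLimit.of_f, Ring.DirectLimit.of_f] at this
  · intro φ hφ a₀ h₁ h₂
    -- descend the data
    obtain ⟨i₁, p₁, hp₁⟩ := Ring.DirectLimit.Polynomial.exists_of φ
    obtain ⟨p, hp, -, hpm⟩ := Polynomial.lifts_and_natDegree_eq_and_monic
      ((Polynomial.mem_lifts _).mpr ⟨p₁, hp₁⟩) hφ
    obtain ⟨i₂, a, rfl⟩ := Ring.DirectLimit.exists_of a₀
    rw [isUnit_iff_exists_inv] at h₂
    obtain ⟨v, hv⟩ := h₂
    obtain ⟨v, rfl⟩ := Ideal.Quotient.mk_surjective v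
    obtain ⟨i₃, v, rfl⟩ := Ring.DirectLimit.exists_of v
    rw [← map_mul, ← map_one (Ideal.Quotient.mk _), Ideal.Quotient.eq] at hv
    -- common index
    obtain ⟨k₀, h1k₀, h2k₀⟩ := exists_ge_ge i₁ i₂
    obtain ⟨k, hk₀k, h3k⟩ := exists_ge_ge k₀ i₃
    have h1k := h1k₀.trans hk₀k
    have h2k := h2k₀.trans hk₀k
    set pk : (G k)[X] := p.map (f i₁ k h1k) with hpk
    set ak : G k := f i₂ k h2k a with hak
    set vk : G k := f i₃ k h3k v with hvk
    have hmapk : pk.map (Ring.DirectLimit.of G (fun i j h => f i j h) k) = φ := by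
      rw [hpk, Polynomial.map_map, ← hp]
      congr 1
      ext x
      simp
    have hofa : Ring.DirectLimit.of G (fun i j h => f i j h) k ak =
        Ring.DirectLimit.of G (fun i j h => f i j h) i₂ a := by
      rw [hak, Ring.DirectLimit.of_f]
    have hofv : Ring.DirectLimit.of G (fun i j h => f i j h) k vk =
        Ring.DirectLimit.of G (fun i j h => f i j h) i₃ v := by
      rw [hvk, Ring.DirectLimit.of_f]
    have e1 : Ring.DirectLimit.of G (fun i j h => f i j h) k (pk.eval ak) ∈ imgIdeal G f I hI := by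
      rw [← Polynomial.eval_map_apply, hmapk, hofa] -- may need adjusting
      exact h₁
    have e2 : Ring.DirectLimit.of G (fun i j h => f i j h) k ((derivative pk).eval ak * vk - 1) ∈
        imgIdeal G f I hI := by
      rw [map_sub, map_mul, map_one, ← Polynomial.eval_map_apply, ← Polynomial.derivative_map,
        hmapk, hofa, hofv]
      exact hv
    obtain ⟨m₁, hkm₁, hm₁⟩ := exists_mem_of_of_mem G f I hI e1
    obtain ⟨m₂, hkm₂, hm₂⟩ := exists_mem_of_of_mem G f I hI e2
    obtain ⟨m, h1m, h2m⟩ := exists_ge_ge m₁ m₂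
    have hkm := hkm₁.trans h1m
    set pm : (G m)[X] := pk.map (f k m hkm) with hpm'
    set am : G m := f k m hkm ak with ham
    set vm : G m := f k m hkm vk with hvm
    have hpmm : pm.Monic := (hpm.map _).map _
    have hm₁' : pm.eval am ∈ I m := by
      have := f_mem G f I hI h1m hm₁
      rw [DirectedSystem.map_map' (f := f)] at this
      rw [hpm', ham, Polynomial.eval_map_apply]
      exact this
    have hm₂' : (derivative pm).eval am * vm - 1 ∈ I m := by
      have := f_mem G f I hI h2m hm₂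
      rw [DirectedSystem.map_map' (f := f), map_sub, map_mul, map_one] at this
      rw [hpm', ham, hvm, Polynomial.derivative_map, Polynomial.eval_map_apply]
      exact this
    have hunit : IsUnit (Ideal.Quotient.mk (I m) ((derivative pm).eval am)) := by
      rw [isUnit_iff_exists_inv]
      refine ⟨Ideal.Quotient.mk (I m) vm, ?_⟩
      rw [← map_mul, ← map_one (Ideal.Quotient.mk _), Ideal.Quotient.eq]
      exact hm₂'
    obtain ⟨b, hb, hba⟩ := (hh m).is_henselian pm hpmm am hm₁' hunit
    refine ⟨Ring.DirectLimit.of G (fun i j h => f i j h) m b, ?_, ?_⟩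
    · have hmapm : pm.map (Ring.DirectLimit.of G (fun i j h => f i j h) m) = φ := by
        rw [hpm', Polynomial.map_map, ← hmapk]
        congr 1
        ext x
        simp
      rw [Polynomial.IsRoot.def, ← hmapm, Polynomial.eval_map_apply, hb, map_zero]
    · refine ⟨m, b - am, hba, ?_⟩
      rw [map_sub, ham, Ring.DirectLimit.of_f, hofa]

end Groth.Agent.S1998
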