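import Groth.Statements.S8259
import Mathlib.AlgebraicGeometry.ProjectiveSpectrum.Proper

set_option autoImplicit false
universe u
open CategoryTheory CategoryTheory.Limits AlgebraicGeometry Opposite TopologicalSpace
open scoped HomogeneousIdeal
open EGA2

namespace Groth.Agent.S8259

/-- The relative homogeneous spectrum Proj(𝒮) of a quasi-coherent positively graded O_Y-algebra 𝒮 is
separated over Y. -/
theorem result {Y P : Scheme.{u}} (𝒮 : RelProj.QCGrAlg Y) (p : P ⟶ Y)
    (chart : ∀ (U : Y.Opens) (hU : IsAffineOpen U), (((p ⁻¹ᵁ U : P.Opens) : Scheme.{u}) ≅ Proj (𝒮.deg U hU)))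
    (hP : RelProj.IsRelProj 𝒮 p chart) : IsSeparated p := by
  rw [IsZariskiLocalAtTarget.iff_of_iSup_eq_top (P := @IsSeparated)
    (fun i : Y.affineOpens => (i : Y.Opens)) (iSup_affineOpens_eq_top Y)]
  intro U
  have hU : IsAffineOpen (U : Y.Opens) := U.2
  have h1 := hP.chart_over U hU
  have h2 : p ∣_ (U : Y.Opens) ≫ (U : Y.Opens).ι = (p ⁻¹ᵁ (U : Y.Opens)).ι ≫ p :=
    morphismRestrict_ι p (U : Y.Opens)
  have h3 : hU.fromSpec = hU.isoSpec.inv ≫ (U : Y.Opens).ι := by
    simp [IsAffineOpen.isoSpec_inv_ι]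
  have h4 : p ∣_ (U : Y.Opens) =
      (chart U hU).hom ≫ Proj.toSpecZero (𝒮.deg U hU) ≫ Spec.map (𝒮.strZero U hU) ≫ hU.isoSpec.inv := by
    rw [← cancel_mono (U : Y.Opens).ι, h2, ← h1, h3]
    simp only [Category.assoc]
  rw [h4]
  infer_instance

end Groth.Agent.S8259
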