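import Groth.Statements.S19985
import Groth.Agent.H41.RelConeFibre3
import Groth.Agent.S8259

set_option autoImplicit false
universe u
open CategoryTheory CategoryTheory.Limits AlgebraicGeometry Opposite TopologicalSpace
open scoped HomogeneousIdeal
noncomputable section
open EGA2

namespace Groth.Agent.S19985

/-- Let 𝒮 be a quasi-coherent positively graded O_Y-algebra with 𝒮_0 = O_Y which is generated by 𝒮_1
(over every affine open U the ring 𝒮(U) is generated by its degree-0 and degree-1 parts), Ŝ = 𝒮[z]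
(graded homomorphism ι : 𝒮 → Ŝ and a degree-one global section z, polynomial over affine opens), C =
Spec(𝒮), X = Proj(𝒮) and Ĉ = Proj(Ŝ) with their charts, E ⊆ C and Ê ⊆ Ĉ the pointed cones, i : C → Ĉ
the canonical open immersion and p : Ê → X the canonical retraction (the morphism which on each
affine piece Spec Ŝ(U)_(ι f), f ∈ 𝒮(U) homogeneous of positive degree, is Spec of 𝒮(U)_(f) → Ŝ(U)_(ι
f) followed by the chart of X). Then p is of finite type (locally of finite type and quasi-compact)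
and for every point x of X the fibre p⁻¹(x) = Ê ×_X Spec k(x) is isomorphic over k(x) to the affine
line Spec k(x)[T]; and for every factorisation i' : E → Ê of i restricted to E, the composite π = p
∘ i' : E → X is of finite type and its fibre at every x is isomorphic over k(x) to Spec k(x)[T,
T⁻¹]. -/
theorem result {Y PC P : Scheme.{u}} (𝒮 𝒮h : RelProj.QCGrAlg Y) (h0 : RelCone.StrZeroBij 𝒮)
    (hgen : 𝒮.IsGenDegOne)
    (ι : 𝒮.toQCAlg ⟶ 𝒮h.toQCAlg) (z : 𝒮h.presheaf.obj (op ⊤)) (hz : RelCone.IsPolyOver 𝒮 𝒮h ι z)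
    (pC : PC ⟶ Y)
    (chartC : ∀ (U : Y.Opens) (hU : IsAffineOpen U), (((pC ⁻¹ᵁ U : PC.Opens) : Scheme.{u}) ≅ Proj (𝒮h.deg U hU)))
    (hPC : RelProj.IsRelProj 𝒮h pC chartC)
    (p : P ⟶ Y)
    (chart : ∀ (U : Y.Opens) (hU : IsAffineOpen U), (((p ⁻¹ᵁ U : P.Opens) : Scheme.{u}) ≅ Proj (𝒮.deg U hU)))
    (hP : RelProj.IsRelProj 𝒮 p chart)
    (i : 𝒮.toQCAlg.spec ⟶ PC) (hi : RelCone.IsConeImm 𝒮 hz pC chartC i)
    (r : ((RelCone.pointedProjCone 𝒮 hz pC chartC : PC.Opens) : Scheme.{u}) ⟶ P)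
    (hr : (∀ (U : Y.Opens) (hU : IsAffineOpen U) (d : ℕ) (hd : 0 < d) (f : 𝒮.presheaf.obj (op U)) (hf : f ∈ 𝒮.deg U hU d)
        (g : Spec (CommRingCat.of (HomogeneousLocalization.Away (𝒮h.deg U hU) ((RelProj.gradedHomAt ι hz.graded U hU) f))) ⟶
          ((RelCone.pointedProjCone 𝒮 hz pC chartC : PC.Opens) : Scheme.{u})),
        g ≫ (RelCone.pointedProjCone 𝒮 hz pC chartC).ι =
            Proj.awayι (𝒮h.deg U hU) ((RelProj.gradedHomAt ι hz.graded U hU) f) ((RelProj.gradedHomAt ι hz.graded U hU).2 hf) hd ≫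
              RelProj.emb pC chartC U hU →
          g ≫ r =
            Spec.map (CommRingCat.ofHom (HomogeneousLocalization.Away.map (RelProj.gradedHomAt ι hz.graded U hU) f)) ≫
              Proj.awayι (𝒮.deg U hU) f hf hd ≫ RelProj.emb p chart U hU)) :
    (LocallyOfFiniteType r ∧ QuasiCompact r ∧
        ∀ x : ↥P, ∃ e : pullback r (P.fromSpecResidueField x) ≅ Spec (CommRingCat.of (Polynomial (P.residueField x))),
          e.hom ≫ Spec.map (CommRingCat.ofHom (algebraMap (P.residueField x) (Polynomial (P.residueField x)))) =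
            pullback.snd r (P.fromSpecResidueField x)) ∧
      ∀ i' : ((RelCone.pointedCone 𝒮 : 𝒮.toQCAlg.spec.Opens) : Scheme.{u}) ⟶
          ((RelCone.pointedProjCone 𝒮 hz pC chartC : PC.Opens) : Scheme.{u}),
        i' ≫ (RelCone.pointedProjCone 𝒮 hz pC chartC).ι = (RelCone.pointedCone 𝒮).ι ≫ i →
          LocallyOfFiniteType (i' ≫ r) ∧ QuasiCompact (i' ≫ r) ∧
        ∀ x : ↥P, ∃ e : pullback (i' ≫ r) (P.fromSpecResidueField x) ≅ Spec (CommRingCat.of (LaurentPolynomial (P.residueField x))),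
          e.hom ≫ Spec.map (CommRingCat.ofHom (algebraMap (P.residueField x) (LaurentPolynomial (P.residueField x)))) =
            pullback.snd (i' ≫ r) (P.fromSpecResidueField x) := by
  have hW := Groth.Agent.H41.RelConeLib.pointedProjCone_eq_domQ hz pC chartC hPC
  have hc := (Groth.Agent.H41.RelPMap9.cond_iff_chartwise ι hz.graded chart chartC hPC _ hW r).mp hr
  have hcomp := Groth.Agent.H41.RelConeImm.comp_pC hz pC chartC hPC i hi
  have hsep : IsSeparated pC := Groth.Agent.S8259.result 𝒮h pC chartC hPC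
  have haff : IsAffineHom i := by
    have : IsAffineHom (i ≫ pC) := by rw [hcomp]; infer_instance
    exact IsAffineHom.of_comp i pC
  have hr_aff : IsAffineHom r :=
    Groth.Agent.H41.RelConeLib.isAffineHom hz pC chartC hPC p chart hP _ hW r hc
  have hft_r : LocallyOfFiniteType r := by
    refine Groth.Agent.H41.FibreGen.of_openCover_isPullback @LocallyOfFiniteType r
      (Groth.Agent.H41.RelConeFibre.degOneCover p chart hgen) (fun s => ?_)
    have h : LocallyOfFiniteType (Spec.map (CommRingCat.ofHom (HomogeneousLocalization.Away.map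
        (RelProj.gradedHomAt ι hz.graded s.1.1 s.1.2) s.2.1))) := by
      rw [HasRingHomProperty.Spec_iff (P := @LocallyOfFiniteType)]
      exact Groth.Agent.H41.FibreGen.finiteType_of_polynomial _
        (Groth.Agent.H41.AwayPoly.polyEquiv (𝒮.deg s.1.1 s.1.2) (𝒮h.deg s.1.1 s.1.2)
          (RelProj.gradedHomAt ι hz.graded s.1.1 s.1.2) (RelCone.restrictTop 𝒮h z s.1.1)
          (hz.deg_z s.1.1 s.1.2) (Groth.Agent.H41.RelConeLib.bij hz s.1.1 s.1.2) s.2.2)
        (Groth.Agent.H41.AwayPoly.polyEquiv_C (𝒮.deg s.1.1 s.1.2) (𝒮h.deg s.1.1 s.1.2)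
          (RelProj.gradedHomAt ι hz.graded s.1.1 s.1.2) (RelCone.restrictTop 𝒮h z s.1.1)
          (hz.deg_z s.1.1 s.1.2) (Groth.Agent.H41.RelConeLib.bij hz s.1.1 s.1.2) s.2.2)
    exact ⟨_, Groth.Agent.H41.RelConeFibre.kf hz pC chartC hPC _ hW s.1.1 s.1.2 one_pos s.2.2, _,
      Groth.Agent.H41.RelConeFibre.isPullback_kf hz pC chartC hPC p chart hP _ hW r hc
        s.1.1 s.1.2 one_pos s.2.2, h⟩
  refine ⟨⟨hft_r, inferInstance, fun x => ?_⟩, fun i' hi' => ?_⟩
  · obtain ⟨U, hU, f, hf, hx⟩ := Groth.Agent.H41.RelConeFibre.exists_degOne_chart p chart hgen x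
    exact Groth.Agent.H41.FibreGen.exists_fibre_iso r x
      (Proj.awayι (𝒮.deg U hU) f hf one_pos ≫ RelProj.emb p chart U hU) hx
      (Groth.Agent.H41.RelConeFibre.kf hz pC chartC hPC _ hW U hU one_pos hf) _
      (Groth.Agent.H41.RelConeFibre.isPullback_kf hz pC chartC hPC p chart hP _ hW r hc
        U hU one_pos hf)
      (CommRingCat.ofHom (algebraMap (P.residueField x) (Polynomial (P.residueField x))))
      (fun ψ => Groth.Agent.H41.FibreGen.exists_isPushout_polynomial _
        (Groth.Agent.H41.AwayPoly.polyEquiv (𝒮.deg U hU) (𝒮h.deg U hU)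
          (RelProj.gradedHomAt ι hz.graded U hU) (RelCone.restrictTop 𝒮h z U)
          (hz.deg_z U hU) (Groth.Agent.H41.RelConeLib.bij hz U hU) hf)
        (Groth.Agent.H41.AwayPoly.polyEquiv_C (𝒮.deg U hU) (𝒮h.deg U hU)
          (RelProj.gradedHomAt ι hz.graded U hU) (RelCone.restrictTop 𝒮h z U)
          (hz.deg_z U hU) (Groth.Agent.H41.RelConeLib.bij hz U hU) hf) ψ.hom)
  · have hoi := Groth.Agent.H41.RelConeFibre.isOpenImmersion_i' hz pC chartC hPC _ i hi _ i' hi'
    refine ⟨inferInstance, ?_, fun x => ?_⟩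
    · have := Groth.Agent.H41.RelConeRetr.isAffineHom_comp hz pC chartC hPC p chart hP i hi _ hW
        r hc _ rfl i' hi'
      infer_instance
    · obtain ⟨U, hU, f, hf, hx⟩ :=
        Groth.Agent.H41.RelConeFibre.exists_degOne_chart p chart hgen x
      exact Groth.Agent.H41.FibreGen.exists_fibre_iso (i' ≫ r) x
        (Proj.awayι (𝒮.deg U hU) f hf one_pos ≫ RelProj.emb p chart U hU) hx
        (Groth.Agent.H41.RelConeFibre.kf' hz pC chartC hPC _ hW i hi _ rfl i' hi' U hU hf) _
        (Groth.Agent.H41.RelConeFibre.isPullback_kf'_comp hz pC chartC hPC p chart hP _ hW r hc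
          i hi _ rfl i' hi' U hU hf)
        (CommRingCat.ofHom (algebraMap (P.residueField x)
          (LaurentPolynomial (P.residueField x))))
        (fun ψ => Groth.Agent.H41.FibreGen.exists_isPushout_laurent _
          (Groth.Agent.H41.AwayPoly.laurentEquiv' (𝒮.deg U hU) (𝒮h.deg U hU)
            (RelProj.gradedHomAt ι hz.graded U hU) (RelCone.restrictTop 𝒮h z U)
            (hz.deg_z U hU) (Groth.Agent.H41.RelConeLib.bij hz U hU) hf)
          (Groth.Agent.H41.AwayPoly.laurentEquiv'_C (𝒮.deg U hU) (𝒮h.deg U hU)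
            (RelProj.gradedHomAt ι hz.graded U hU) (RelCone.restrictTop 𝒮h z U)
            (hz.deg_z U hU) (Groth.Agent.H41.RelConeLib.bij hz U hU) hf) ψ.hom)

end Groth.Agent.S19985
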