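import Groth.Statements.S1999
import Groth.Agent.H1.RamMain2

set_option autoImplicit false
universe u
open scoped Pointwise
open EtAlg

namespace Groth.Agent.S1999

/-- Parts (2)–(5) in the case of part (6): let A be a discrete valuation ring with fraction field K, L/K
a finite Galois extension with group G, B the integral closure of A in L, m a maximal ideal of B
whose residue field is separable over that of A, and e the ramification index of m over A. Let D be
the decomposition group (stabilizer of m), I the inertia group (elements acting trivially on B/m)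
and P the wild inertia group, here the elements of D acting trivially on B/m² (the description valid
in the separable residue field case). Then P ≤ I, P is normal in D, P is a p-group if the residue
characteristic is p > 0 and trivial if it is 0, and I/P is cyclic of order the prime-to-p part of e
and isomorphic to a subgroup of the e-th roots of unity of B/m — more precisely to the full group of
e-th roots of unity of B/m. -/
theorem result (A K L B : Type u) [CommRing A] [IsDomain A] [IsDiscreteValuationRing A]
    [CommRing B] [IsDomain B] [Field K] [Field L] [Algebra A K] [Algebra B L] [IsFractionRing A K] [IsFractionRing B L]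
    [Algebra A B] [Algebra K L] [Algebra A L] [IsScalarTower A K L] [IsScalarTower A B L] [IsIntegralClosure B A L]
    [FiniteDimensional K L] [IsGalois K L] (m : Ideal B) [m.IsMaximal]
    [Algebra.IsSeparable (A ⧸ m.comap (algebraMap A B)) (B ⧸ m)] :
    letI := IsIntegralClosure.MulSemiringAction A K L B
    let D : Subgroup (L ≃ₐ[K] L) := MulAction.stabilizer (L ≃ₐ[K] L) m
    let I : Subgroup (L ≃ₐ[K] L) := m.inertia (L ≃ₐ[K] L)
    let P : Subgroup (L ≃ₐ[K] L) := D ⊓ (m ^ 2).inertia (L ≃ₐ[K] L)
    let e : ℕ := Ideal.ramificationIdx' (IsLocalRing.maximalIdeal A) m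
    P ≤ I ∧ I ≤ D ∧ (P.subgroupOf D).Normal ∧
    (∀ p : ℕ, p.Prime → CharP (A ⧸ m.comap (algebraMap A B)) p → IsPGroup p P) ∧
    (CharZero (A ⧸ m.comap (algebraMap A B)) → P = ⊥) ∧
    (∀ [(P.subgroupOf I).Normal],
      IsCyclic (I ⧸ P.subgroupOf I) ∧
      (∀ p : ℕ, p.Prime → CharP (A ⧸ m.comap (algebraMap A B)) p → Nat.card (I ⧸ P.subgroupOf I) = e / p ^ e.factorization p) ∧
      (CharZero (A ⧸ m.comap (algebraMap A B)) → Nat.card (I ⧸ P.subgroupOf I) = e) ∧
      Nonempty (I ⧸ P.subgroupOf I ≃* ↥(rootsOfUnity e (B ⧸ m)))) := by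
  letI := IsIntegralClosure.MulSemiringAction A K L B
  intro D I P e
  have hDed : IsDedekindDomain B := IsIntegralClosure.isDedekindDomain A K L B
  have hfin : Module.Finite A B := IsIntegralClosure.finite A K L B
  have hint : Algebra.IsIntegral A B := IsIntegralClosure.isIntegral_algebra A L
  have hgal : IsGaloisGroup (L ≃ₐ[K] L) A B := IsGaloisGroup.of_isFractionRing _ _ _ K L
  have hinj : Function.Injective (algebraMap A B) := by
    have h1 : Function.Injective (algebraMap A L) := by
      rw [IsScalarTower.algebraMap_eq A K L]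
      exact (algebraMap K L).injective.comp (IsFractionRing.injective A K)
    rw [IsScalarTower.algebraMap_eq A B L] at h1
    exact Function.Injective.of_comp h1
  have hfaith : FaithfulSMul A B := (faithfulSMul_iff_algebraMap_injective A B).mpr hinj
  have htf : Module.IsTorsionFree A B := inferInstance
  have hflat : Module.Flat A B := inferInstance
  have hfaithG : FaithfulSMul (L ≃ₐ[K] L) B := hgal.faithful
  have hpmax : (m.comap (algebraMap A B)).IsMaximal :=
    Ideal.isMaximal_comap_of_isIntegral_of_isMaximal m
  have hp : m.comap (algebraMap A B) = IsLocalRing.maximalIdeal A :=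
    IsLocalRing.eq_maximalIdeal hpmax
  have hp0 : m.comap (algebraMap A B) ≠ ⊥ := by
    rw [hp]; exact IsDiscreteValuationRing.not_a_field A
  have hm0 : m ≠ ⊥ := by
    intro h
    apply hp0
    rw [h]
    exact Ideal.comap_bot_of_injective _ hinj
  have hinjq : Function.Injective (algebraMap (A ⧸ m.comap (algebraMap A B)) (B ⧸ m)) :=
    Ideal.quotientMap_injective
  have hPI : P ≤ I := Groth.Agent.H1.Ram.wildGrp_le_inertia m
  refine ⟨hPI, Ideal.inertia_le_stabilizer m, Groth.Agent.H1.Ram.wildGrp_normal m, ?_, ?_, ?_⟩
  · intro p hpp hchar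
    have : Fact p.Prime := ⟨hpp⟩
    have : CharP (B ⧸ m) p := charP_of_injective_algebraMap hinjq p
    exact Groth.Agent.H1.Ram.isPGroup_wildGrp m p
  · intro hchar
    have : CharZero (B ⧸ m) := charZero_of_injective_algebraMap hinjq
    exact Groth.Agent.H1.Ram.wildGrp_eq_bot m
  · intro hnorm
    obtain ⟨π, hπ, hπ2⟩ := Groth.Agent.H1.Ram.exists_unif m hm0
    have hker := Groth.Agent.H1.Ram.ker_theta (A := A) (G := L ≃ₐ[K] L) m hπ hπ2
    have hcard : Nat.card I = e := by
      have := Groth.Agent.H1.Ram.card_inertia_eq (A := A) (G := L ≃ₐ[K] L) m hp0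
      rw [hp] at this
      exact this
    obtain ⟨h1, h2, h3⟩ := Groth.Agent.H1.Ram.tame_of_ker_eq
      (Groth.Agent.H1.Ram.theta (G := L ≃ₐ[K] L) hπ hπ2) (P.subgroupOf I) hker
    rw [hcard] at h2 h3
    refine ⟨h1, ?_, ?_, ?_⟩
    · intro p hpp hchar
      have : Fact p.Prime := ⟨hpp⟩
      have : CharP (B ⧸ m) p := charP_of_injective_algebraMap hinjq p
      have hpg : IsPGroup p (P.subgroupOf I) :=
        (Groth.Agent.H1.Ram.isPGroup_wildGrp m p).comap_of_injective _ (Subgroup.subtype_injective _)
      exact (h2 p hpp this hpg).1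
    · intro hchar
      have : CharZero (B ⧸ m) := charZero_of_injective_algebraMap hinjq
      have hbot : P.subgroupOf I = ⊥ := by
        have : P = ⊥ := Groth.Agent.H1.Ram.wildGrp_eq_bot m
        rw [this]; simp
      exact (h3 hbot).1
    · obtain ⟨p, hchar⟩ := CharP.exists (B ⧸ m)
      rcases CharP.char_is_prime_or_zero (B ⧸ m) p with hpp | rfl
      · have : Fact p.Prime := ⟨hpp⟩
        have hpg : IsPGroup p (P.subgroupOf I) :=
          (Groth.Agent.H1.Ram.isPGroup_wildGrp m p).comap_of_injective _
            (Subgroup.subtype_injective _)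
        exact (h2 p hpp hchar hpg).2
      · have : CharZero (B ⧸ m) := CharP.charP_to_charZero _
        have hbot : P.subgroupOf I = ⊥ := by
          have : P = ⊥ := Groth.Agent.H1.Ram.wildGrp_eq_bot m
          rw [this]; simp
        exact (h3 hbot).2

end Groth.Agent.S1999
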