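import Groth.Statements.S19994
import Groth.Agent.H36.CHRMain

set_option autoImplicit false
universe u v w
open WildQuot

namespace Groth.Agent.S19994

/-- Let `A` be a complete regular local ring of Krull dimension at least `2` and prime characteristic
`p`, with maximal ideal `m`; let `k` be a field with a ring map `k → A` whose composite with `A →
A/m` is onto; let `G` be a group of order `p` acting on `A` by ring automorphisms fixing the image
of `k` and ramified precisely at the origin (for every prime `P ≠ m`, the inertia subgroup of `P`,
i.e. the elements of `G` fixing every element modulo `P`, is trivial). Then the singular locus of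
`Spec A^G` is contained in the closed point: for every non-maximal prime ideal `P` of the invariant
ring `A^G`, the localization `(A^G)_P` is a regular local ring. (The published statement also
asserts that the punctured spectrum of `A` is a `G`-torsor over the punctured spectrum of `A^G`;
this row omits that clause. Together with the non-regularity of `A^G` itself, the singular locus is
exactly the closed point.) -/
theorem result
    (p : ℕ) [Fact p.Prime] (A : Type u) [CommRing A] [IsRegularLocalRing A] [CharP A p]
    [IsAdicComplete (IsLocalRing.maximalIdeal A) A] (hdim : 2 ≤ ringKrullDim A)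
    (k : Type v) [Field k] [Algebra k A]
    (hk : Function.Surjective (IsLocalRing.residue A ∘ algebraMap k A))
    (G : Type w) [Group G] [Finite G] [MulSemiringAction G A] (hcard : Nat.card G = p)
    (hGk : ∀ (σ : G) (c : k), σ • algebraMap k A c = algebraMap k A c)
    (hram : ∀ P : Ideal A, P.IsPrime → P ≠ IsLocalRing.maximalIdeal A → P.inertia G = ⊥)
    (P : Ideal (FixedPoints.subring A G)) [P.IsPrime] (hP : ¬ P.IsMaximal) :
    IsRegularLocalRing (Localization.AtPrime P) := by
  classical
  have : Algebra.IsInvariant (FixedPoints.subring A G) A G :=
    ⟨fun a ha => ⟨⟨a, ha⟩, rfl⟩⟩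
  have : Algebra.IsIntegral (FixedPoints.subring A G) A :=
    Algebra.IsInvariant.isIntegral (FixedPoints.subring A G) A G
  have hinj : Function.Injective (algebraMap (FixedPoints.subring A G) A) :=
    Subtype.val_injective
  have hne : ∀ Q : Ideal A, Q.IsPrime → Q.comap (algebraMap (FixedPoints.subring A G) A) = P →
      Q ≠ IsLocalRing.maximalIdeal A := by
    intro Q _ hQ hQm
    apply hP
    rw [← hQ, hQm]
    exact Ideal.isMaximal_comap_of_isIntegral_of_isMaximal (IsLocalRing.maximalIdeal A)
  have hin : ∀ Q : Ideal A, Q.IsPrime → Q.comap (algebraMap (FixedPoints.subring A G) A) = P →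
      Q.inertia G = ⊥ := fun Q hQp hQ => hram Q hQp (hne Q hQp hQ)
  obtain ⟨Q, -, hQp, hQ⟩ := Ideal.exists_ideal_over_prime_of_isIntegral P (⊥ : Ideal A) (by
    intro x hx
    have : algebraMap (FixedPoints.subring A G) A x = 0 := hx
    rw [hinj (this.trans (map_zero _).symm)]
    exact P.zero_mem)
  have := hQp
  have : IsRegularLocalRing (Localization.AtPrime Q) :=
    Groth.Agent.Lead.RLR.isRegularLocalRing_localization A Q
  exact Groth.Agent.H36.CHR.isRegularLocalRing_atPrime (G := G) hinj P hin Q hQ

end Groth.Agent.S19994
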