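import Groth.Statements.S19995
import Groth.Agent.H22.HartogsSection
open CategoryTheory AlgebraicGeometry Limits

set_option autoImplicit false
universe u
open CategoryTheory AlgebraicGeometry
open WildQuot

namespace Groth.Agent.S19995

/-- Let `S` be a Noetherian scheme, `f_1 : G_1 → S` and `f_2 : G_2 → S` finite flat morphisms, and `U ⊆
S` an open subset such that at every point of `S` outside `U` the local ring of `S` has depth at
least `2` (equivalently, for Noetherian `S`: `U` contains every point of codimension at most `1` and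
every point at which `S` fails Serre's condition `S_2`). Then every morphism `f_1⁻¹(U) → f_2⁻¹(U)`
over `U` is the restriction of exactly one `S`-morphism `G_1 → G_2`. (The published statements draw
this conclusion for homomorphisms of finite flat group schemes and for group-scheme actions on
finite flat schemes; this row states the underlying extension property of morphisms of finite flat
`S`-schemes, from which those follow by uniqueness.) -/
theorem result
    (S G₁ G₂ : Scheme.{u}) [AlgebraicGeometry.IsNoetherian S] (f₁ : G₁ ⟶ S) (f₂ : G₂ ⟶ S)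
    [AlgebraicGeometry.IsFinite f₁] [AlgebraicGeometry.Flat f₁]
    [AlgebraicGeometry.IsFinite f₂] [AlgebraicGeometry.Flat f₂]
    (U : S.Opens)
    (hU : ∀ s : S, s ∉ U → (2 : ℕ∞) ≤ LocCoh.depth (S.presheaf.stalk s) (S.presheaf.stalk s))
    (φU : ((f₁ ⁻¹ᵁ U : G₁.Opens) : Scheme.{u}) ⟶ ((f₂ ⁻¹ᵁ U : G₂.Opens) : Scheme.{u}))
    (hφU : φU ≫ (f₂ ⁻¹ᵁ U).ι ≫ f₂ = (f₁ ⁻¹ᵁ U).ι ≫ f₁) :
    ∃! φ : G₁ ⟶ G₂, φ ≫ f₂ = f₁ ∧ (f₁ ⁻¹ᵁ U).ι ≫ φ = φU ≫ (f₂ ⁻¹ᵁ U).ι := by
  haveI : IsLocallyNoetherian G₁ := LocallyOfFiniteType.isLocallyNoetherian f₁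
  have hdepth : ∀ x : G₁, x ∉ f₁ ⁻¹ᵁ U → (2 : ℕ∞) ≤
      LocCoh.depth (G₁.presheaf.stalk x) (G₁.presheaf.stalk x) := by
    intro x hx
    have h1 := hU (f₁ x) hx
    rw [Groth.Agent.H49.FibreDepth.depth_stalk_eq_add f₁ x (Flat.stalkMap f₁ x)]
    exact le_add_right h1
  let σU : ((f₁ ⁻¹ᵁ U : G₁.Opens) : Scheme.{u}) ⟶ pullback f₁ f₂ :=
    pullback.lift (f₁ ⁻¹ᵁ U).ι (φU ≫ (f₂ ⁻¹ᵁ U).ι) (by rw [Category.assoc, hφU])
  obtain ⟨σ, ⟨hσ1, hσ2⟩, hσuniq⟩ := Groth.Agent.H22.HartogsSection.existsUnique_section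
    (f₁ ⁻¹ᵁ U) hdepth (pullback.fst f₁ f₂) σU (pullback.lift_fst _ _ _)
  refine ⟨σ ≫ pullback.snd f₁ f₂, ⟨?_, ?_⟩, ?_⟩
  · rw [Category.assoc, ← pullback.condition, ← Category.assoc, hσ1, Category.id_comp]
  · rw [← Category.assoc, hσ2, pullback.lift_snd]
  · rintro φ' ⟨h1, h2⟩
    have h3 := hσuniq (pullback.lift (𝟙 _) φ' (by rw [Category.id_comp, h1]))
      ⟨pullback.lift_fst _ _ _, by
        apply pullback.hom_ext
        · rw [Category.assoc, pullback.lift_fst, pullback.lift_fst, Category.comp_id]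
        · rw [Category.assoc, pullback.lift_snd, pullback.lift_snd, h2]⟩
    rw [← h3, pullback.lift_snd]

end Groth.Agent.S19995
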