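import Groth.Statements.S20008
import Groth.Agent.S18975
import Groth.Agent.H40.ExtTorsor
import Groth.Agent.H40.FpqcTors
import Groth.Agent.H40.TorsProp
import Groth.Agent.H40.PrincBundle
import Groth.Agent.H42.CartierMain
import Groth.Agent.H38.GrpFibreFlat

set_option autoImplicit false
universe u
open CategoryTheory MonoidalCategory CartesianMonoidalCategory MonObj AlgebraicGeometry
open GIT

namespace Groth.Agent.S20008

/-- An extension of special groups is special. Over an algebraically closed field k of characteristic
zero, let G be an affine group scheme of finite type over k with a closed normal subgroup scheme N,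
the kernel of a surjective homomorphism q : G → Q onto an affine group scheme Q of finite type over
k (the factor group G/N). Call an affine group scheme H of finite type over k special when for every
action of H on a k-scheme X and every morphism ψ : X → Y of k-schemes which is an H-torsor over Y —
the square formed by the action, the second projection H ×_k X → X and ψ twice is cartesian, and ψ
acquires sections on the members of some fpqc covering family of Y — the morphism ψ acquires
sections on the members of some Zariski open covering of Y. If N and Q are special, then G is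
special. -/
theorem result
    (k : Type u) [Field k] [IsAlgClosed k] [CharZero k]
    (G N Q : Over (Spec (CommRingCat.of k))) [GrpObj G] [GrpObj N] [GrpObj Q]
    [IsAffine G.left] [LocallyOfFiniteType G.hom]
    (iN : N ⟶ G) [IsMonHom iN] [IsClosedImmersion iN.left] (hnorm : AlgGrp.IsNormalHom iN)
    (q : G ⟶ Q) [IsMonHom q] [Surjective q.left] [IsAffine Q.left] [LocallyOfFiniteType Q.hom]
    (hker : AlgGrp.IsKernel iN q)
    (hN : ∀ (X Y : Over (Spec (CommRingCat.of k))) (b : AlgGrp.Action N X) (ψ : X ⟶ Y),
      IsPullback b.act (snd N X) ψ ψ →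
      NonAbH1.IsLocallyTrivialFor Scheme.fpqcPrecoverage (Over.mk ψ.left : Over Y.left) →
      NonAbH1.IsLocallyTrivialFor Scheme.zariskiPrecoverage (Over.mk ψ.left : Over Y.left))
    (hQ : ∀ (X Y : Over (Spec (CommRingCat.of k))) (b : AlgGrp.Action Q X) (ψ : X ⟶ Y),
      IsPullback b.act (snd Q X) ψ ψ →
      NonAbH1.IsLocallyTrivialFor Scheme.fpqcPrecoverage (Over.mk ψ.left : Over Y.left) →
      NonAbH1.IsLocallyTrivialFor Scheme.zariskiPrecoverage (Over.mk ψ.left : Over Y.left))
    (X Y : Over (Spec (CommRingCat.of k))) (a : AlgGrp.Action G X) (φ : X ⟶ Y)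
    (hcart : IsPullback a.act (snd G X) φ φ)
    (hloc : NonAbH1.IsLocallyTrivialFor Scheme.fpqcPrecoverage (Over.mk φ.left : Over Y.left)) :
    NonAbH1.IsLocallyTrivialFor Scheme.zariskiPrecoverage (Over.mk φ.left : Over Y.left) := by
  obtain ⟨haff, hgq⟩ := Groth.Agent.S18975.result k G X Y a φ hcart hloc
  have hsurj : Surjective φ.left := ⟨hgq.surj⟩
  have hqc : QuasiCompact φ.left := inferInstance
  have hflat : Flat φ.left := by
    obtain ⟨R, hR, hs⟩ := hloc
    have hs' : ∀ ⦃Z : Scheme.{u}⦄ (g : Z ⟶ Y.left), R g → ∃ s : Z ⟶ X.left, s ≫ φ.left = g :=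
      fun Z g hg => hs g hg
    have h1 : Flat (snd G X).left := by
      change Flat (Limits.pullback.snd G.hom X.hom)
      infer_instance
    exact Groth.Agent.H40.QuotShLoc.prop_of_isKernelPair_of_local_sections (snd G X) a.act
      @Flat Groth.Agent.H40.flat_descendsAlong φ hcart.flip hR hs' h1
  have hbase : IsAffine ((Functor.fromPUnit (Spec (CommRingCat.of k))).obj Q.right) :=
    inferInstanceAs (IsAffine (Spec (CommRingCat.of k)))
  have hQ0 : IsAffineHom Q.hom := isAffineHom_of_isAffine _
  have hG0 : IsAffineHom G.hom := isAffineHom_of_isAffine _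
  have hF : IsAffineHom (fst X Q).left := by
    change IsAffineHom (Limits.pullback.fst X.hom Q.hom)
    exact MorphismProperty.pullback_fst (P := @IsAffineHom) _ _ hQ0
  have hGR : GeometricallyReduced Q.hom :=
    Groth.Agent.H42.Cartier.geometricallyReduced_of_charZero Q
  have hGfp : LocallyOfFinitePresentation G.hom :=
    LocallyOfFinitePresentation.iff_locallyOfFiniteType.mpr inferInstance
  have hGflat : Flat G.hom := inferInstance
  have hqflat : Flat q.left := (Groth.Agent.H38.GrpFibreFlat.flat_of_surjective G Q q).1
  have hqqc : QuasiCompact q.left := Groth.Agent.H40.quasiCompact_left_of_over q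
  have hq : NonAbH1.IsLocallyTrivialFor Scheme.fpqcPrecoverage (Over.mk q.left : Over Q.left) :=
    Groth.Agent.H40.isLocallyTrivialFor_of_fpqc q.left
  obtain ⟨P, π, r, cbar, hπr, hNtors, hlocπ, hrtors, hlocr, -⟩ :=
    Groth.Agent.H40.ExtTorsor.exists_tower iN q hker hq a φ hcart hloc
  have hzr := hQ P Y cbar r hrtors hlocr
  have hzπ := hN X P (a.restrict iN) π hNtors hlocπ
  have hz := Groth.Agent.H40.isLocallyTrivialFor_comp π.left r.left hzπ hzr
  rw [show π.left ≫ r.left = φ.left from congr(($hπr).left)] at hz
  exact hz

end Groth.Agent.S20008
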