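import Groth.Statements.S20018
-- import your own Groth.Agent.* helpers here

set_option autoImplicit false
open CAlg

namespace Groth.Agent.S20018

open PowerSeries in
theorem trunc_eq_iff {R : Type*} [CommRing R] (n : ℕ) (f g : PowerSeries R) :
    PowerSeries.trunc n f = PowerSeries.trunc n g ↔
      ∀ j, j < n → PowerSeries.coeff j f = PowerSeries.coeff j g := by
  constructor
  · intro h j hj
    have := congrArg (fun p => Polynomial.coeff p j) h
    simpa [PowerSeries.coeff_trunc, hj] using this
  · intro h
    ext j
    rw [PowerSeries.coeff_trunc, PowerSeries.coeff_trunc]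
    split_ifs with hj
    · exact h j hj
    · rfl

open PowerSeries in
theorem coeff_mul_one_sub {R : Type*} [CommRing R] (P : PowerSeries R) (a : R) (n j : ℕ) :
    PowerSeries.coeff j (P * (1 - PowerSeries.C a * PowerSeries.X ^ (n + 1))) =
      PowerSeries.coeff j P - if n + 1 ≤ j then a * PowerSeries.coeff (j - (n + 1)) P else 0 := by
  have : P * (1 - PowerSeries.C a * PowerSeries.X ^ (n + 1)) =
      P - PowerSeries.C a * (PowerSeries.X ^ (n + 1) * P) := by ring
  rw [this, map_sub, PowerSeries.coeff_C_mul, PowerSeries.coeff_X_pow_mul']
  split_ifs <;> simp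

/-- the partial products, defined recursively from `x` -/
noncomputable def pp {R : Type*} [CommRing R] (x : PowerSeries R) : ℕ → PowerSeries R
  | 0 => 1
  | (N + 1) => pp x N * (1 - PowerSeries.C (PowerSeries.coeff (N + 1) (pp x N) - PowerSeries.coeff (N + 1) x) *
      PowerSeries.X ^ (N + 1))

theorem const_prod {R : Type*} [CommRing R] (α : ℕ → R) (N : ℕ) :
    PowerSeries.coeff 0 (∏ i ∈ Finset.range N,
          (1 - PowerSeries.C (α i) * PowerSeries.X ^ (i + 1) : PowerSeries R)) = 1 := by
  induction N with
  | zero => simp
  | succ N ih =>
    rw [Finset.prod_range_succ, coeff_mul_one_sub, ih]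
    simp

open PowerSeries in
/-- Product expansion of big Witt vectors: let R be a commutative ring and x ∈ 1 + tR[[t]] a formal
power series with constant term 1. Then x can be written uniquely as an infinite product ∏_{i ≥ 1}
(1 - α_i t^i) with α_i ∈ R. The infinite product is expressed through its truncations: there is a
unique sequence α : ℕ → R (α i standing for the coefficient attached to t^{i+1}) such that for every
N the series x and the finite product ∏_{i=0}^{N} (1 - α_i t^{i+1}) agree modulo t^{N+2}. -/
theorem result
    (R : Type*) [CommRing R] (x : PowerSeries R) (hx : PowerSeries.constantCoeff x = 1) :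
    ∃! α : ℕ → R, ∀ N : ℕ,
      PowerSeries.trunc (N + 2) x =
        PowerSeries.trunc (N + 2) (∏ i ∈ Finset.range (N + 1),
          (1 - PowerSeries.C (α i) * PowerSeries.X ^ (i + 1) : PowerSeries R)) := by
  have hx0 : PowerSeries.coeff 0 x = 1 := by simpa using hx
  refine ⟨fun N => PowerSeries.coeff (N + 1) (pp x N) - PowerSeries.coeff (N + 1) x, ?_, ?_⟩
  · -- existence
    have hprod : ∀ N, (∏ i ∈ Finset.range N,
          (1 - PowerSeries.C (PowerSeries.coeff (i + 1) (pp x i) - PowerSeries.coeff (i + 1) x) *
            PowerSeries.X ^ (i + 1) : PowerSeries R)) = pp x N := by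
      intro N
      induction N with
      | zero => simp [pp]
      | succ N ih => rw [Finset.prod_range_succ, ih]; rfl
    have hpp0 : ∀ N, PowerSeries.coeff 0 (pp x N) = 1 := by
      intro N
      rw [← hprod N]
      exact const_prod _ N
    have key : ∀ N, ∀ j, j < N + 1 → PowerSeries.coeff j x = PowerSeries.coeff j (pp x N) := by
      intro N
      induction N with
      | zero =>
        intro j hj
        have : j = 0 := by omega
        subst this
        rw [hx0, hpp0]
      | succ N ih =>
        intro j hj
        change _ = PowerSeries.coeff j (pp x N * _)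
        rw [coeff_mul_one_sub]
        by_cases hjN : j < N + 1
        · rw [if_neg (by omega), sub_zero]
          exact ih j hjN
        · have : j = N + 1 := by omega
          subst this
          rw [if_pos le_rfl, Nat.sub_self, hpp0]
          ring
    intro N
    beta_reduce
    rw [hprod (N + 1), trunc_eq_iff]
    intro j hj
    exact key (N + 1) j hj
  · -- uniqueness
    intro β hβ
    have hβ' : ∀ N, ∀ j, j < N + 2 → PowerSeries.coeff j x = PowerSeries.coeff j (∏ i ∈ Finset.range (N + 1),
          (1 - PowerSeries.C (β i) * PowerSeries.X ^ (i + 1) : PowerSeries R)) := by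
      intro N
      exact (trunc_eq_iff _ _ _).1 (hβ N)
    have hprod : ∀ N, (∏ i ∈ Finset.range N,
          (1 - PowerSeries.C (β i) * PowerSeries.X ^ (i + 1) : PowerSeries R)) = pp x N ∧
          ∀ i, i < N → β i = PowerSeries.coeff (i + 1) (pp x i) - PowerSeries.coeff (i + 1) x := by
      intro N
      induction N with
      | zero => simp [pp]
      | succ N ih =>
        obtain ⟨ih1, ih2⟩ := ih
        have hN := hβ' N (N + 1) (by omega)
        rw [Finset.prod_range_succ, coeff_mul_one_sub, if_pos le_rfl, Nat.sub_self, const_prod, ih1,
          mul_one] at hN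
        have hβN : β N = PowerSeries.coeff (N + 1) (pp x N) - PowerSeries.coeff (N + 1) x := by
          rw [hN]; ring
        refine ⟨?_, ?_⟩
        · rw [Finset.prod_range_succ, ih1, hβN]; rfl
        · intro i hi
          by_cases hiN : i < N
          · exact ih2 i hiN
          · have : i = N := by omega
            subst this
            exact hβN
    funext N
    exact (hprod (N + 1)).2 N (by omega)

end Groth.Agent.S20018
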