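import Groth.Statements.S20022
import Mathlib.LinearAlgebra.Basis.Basic
-- import your own Groth.Agent.* helpers here

set_option autoImplicit false
universe u
open GrLC

namespace Groth.Agent.S20022

/-- Let R be a commutative ℤ-graded ring whose degree-zero subring R_0 is a field k and which is the
Laurent polynomial ring k[T, T⁻¹] on a homogeneous invertible element T of positive degree d, in the
following intrinsic sense: T is a unit lying in R_d, and every nonzero homogeneous element of degree
n equals a·T^j for some a ∈ R_0 and some integer j with j·d = n (so R_n = 0 unless d divides n, and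
R_{jd} = k·T^j). Then every graded R-module M is free in the graded sense: M has an R-basis
consisting of homogeneous elements. (The other case of condition (2), R = k concentrated in degree
zero, is not included.) -/
theorem result (R : Type u) [CommRing R]
    (𝒜 : ℤ → AddSubgroup R) [GradedRing 𝒜] (h0 : IsField (GrLC.deg0 𝒜))
    (d : ℤ) (hd : 0 < d) (T : Rˣ) (hT : (T : R) ∈ 𝒜 d)
    (hA : ∀ (n : ℤ) (x : R), x ∈ 𝒜 n → x ≠ 0 →
      ∃ j : ℤ, ∃ a ∈ 𝒜 0, j * d = n ∧ x = a * ((T ^ j : Rˣ) : R))
    (M : Type u) [AddCommGroup M] [Module R M] (ℳ : ℤ → AddSubgroup M)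
    [DirectSum.Decomposition ℳ] [SetLike.GradedSMul 𝒜 ℳ] :
    ∃ (κ : Type u) (b : Module.Basis κ R M), ∀ i : κ, SetLike.IsHomogeneousElem ℳ (b i) := by
  classical
  -- every nonzero homogeneous element is a unit
  have hunit : ∀ (n : ℤ) (x : R), x ∈ 𝒜 n → x ≠ 0 → IsUnit x := by
    intro n x hx hx0
    obtain ⟨j, a, ha, -, rfl⟩ := hA n x hx hx0
    have ha0 : a ≠ 0 := by
      rintro rfl
      exact hx0 (zero_mul _)
    have ha' : (⟨a, ha⟩ : GrLC.deg0 𝒜) ≠ 0 := by
      intro h
      exact ha0 (congrArg Subtype.val h)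
    obtain ⟨b, hb⟩ := h0.mul_inv_cancel ha'
    have hab : a * (b : R) = 1 := congrArg Subtype.val hb
    exact (IsUnit.of_mul_eq_one _ hab).mul (Units.isUnit _)
  -- components of `r • x` for homogeneous `x`
  have L1 : ∀ (r : R) (e : ℤ) (x : M), x ∈ ℳ e → ∀ N : ℤ,
      ((DirectSum.decompose ℳ (r • x) N : ℳ N) : M) =
        ((DirectSum.decompose 𝒜 r (N - e) : 𝒜 (N - e)) : R) • x := by
    intro r e x hx N
    induction r using DirectSum.Decomposition.inductionOn 𝒜 with
    | zero => simp
    | @homogeneous a r =>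
      have hmem : (r : R) • x ∈ ℳ (a + e) := SetLike.GradedSMul.smul_mem r.2 hx
      by_cases h : a + e = N
      · subst h
        rw [DirectSum.decompose_of_mem_same ℳ hmem]
        have : a + e - e = a := by ring
        rw [this, DirectSum.decompose_of_mem_same 𝒜 r.2]
      · rw [DirectSum.decompose_of_mem_ne ℳ hmem h]
        have h' : a ≠ N - e := by omega
        rw [DirectSum.decompose_of_mem_ne 𝒜 r.2 h', zero_smul]
    | add r₁ r₂ h₁ h₂ =>
      rw [add_smul, DirectSum.decompose_add, DirectSum.add_apply, AddSubgroup.coe_add, h₁, h₂,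
        DirectSum.decompose_add, DirectSum.add_apply, AddSubgroup.coe_add, add_smul]
  -- maximal linearly independent family of homogeneous elements
  let H := {m : M // SetLike.IsHomogeneousElem ℳ m}
  let v : H → M := Subtype.val
  obtain ⟨s, hs_li, hs_max⟩ := exists_maximal_linearIndepOn R v
  set Nsub : Submodule R M := Submodule.span R (v '' s) with hN
  -- closed under homogeneous components
  have hcomp : ∀ y ∈ Nsub, ∀ n : ℤ, ((DirectSum.decompose ℳ y n : ℳ n) : M) ∈ Nsub := by
    intro y hy
    induction hy using Submodule.closure_induction with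
    | zero => intro n; simp
    | add x y hx hy ihx ihy =>
      intro n
      rw [DirectSum.decompose_add, DirectSum.add_apply, AddSubgroup.coe_add]
      exact Nsub.add_mem (ihx n) (ihy n)
    | smul_mem r x hx =>
      intro n
      obtain ⟨⟨m, e, hme⟩, hms, rfl⟩ := hx
      rw [L1 r e m hme n]
      exact Nsub.smul_mem _ (Submodule.subset_span ⟨⟨m, e, hme⟩, hms, rfl⟩)
  -- every homogeneous element lies in the span
  have hhom : ∀ (e : ℤ) (m : M), m ∈ ℳ e → m ∈ Nsub := by
    intro e m hme
    by_cases hms : (⟨m, e, hme⟩ : H) ∈ s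
    · exact Submodule.subset_span ⟨⟨m, e, hme⟩, hms, rfl⟩
    · obtain ⟨a, ha0, ham⟩ := hs_max ⟨m, e, hme⟩ hms
      change a • m ∈ Nsub at ham
      have : ∃ n : ℤ, ((DirectSum.decompose 𝒜 a n : 𝒜 n) : R) ≠ 0 := by
        by_contra hcon
        push Not at hcon
        apply ha0
        rw [← DirectSum.sum_support_decompose 𝒜 a]
        exact Finset.sum_eq_zero fun i _ => hcon i
      obtain ⟨n, hn⟩ := this
      have h1 := hcomp _ ham (n + e)
      rw [L1 a e m hme (n + e)] at h1
      have : n + e - e = n := by ring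
      rw [this] at h1
      obtain ⟨u, hu⟩ := hunit n _ (DirectSum.decompose 𝒜 a n).2 hn
      have : m = (↑u⁻¹ : R) • (((DirectSum.decompose 𝒜 a n : 𝒜 n) : R) • m) := by
        rw [smul_smul, ← hu, Units.inv_mul, one_smul]
      rw [this]
      exact Nsub.smul_mem _ h1
  have htop : Nsub = ⊤ := by
    rw [eq_top_iff]
    intro x _
    rw [← DirectSum.sum_support_decompose ℳ x]
    exact Nsub.sum_mem fun i _ => hhom i _ (DirectSum.decompose ℳ x i).2
  have hli : LinearIndependent R (fun i : s => v i) := hs_li
  have hsp : ⊤ ≤ Submodule.span R (Set.range (fun i : s => v i)) := by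
    rw [← htop, hN]
    apply Submodule.span_mono
    rintro _ ⟨i, hi, rfl⟩
    exact ⟨⟨i, hi⟩, rfl⟩
  refine ⟨s, Module.Basis.mk hli hsp, fun i => ?_⟩
  rw [Module.Basis.mk_apply]
  exact i.1.2

end Groth.Agent.S20022
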