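import Groth.Statements.S20025
import Groth.Agent.H99.QuarticA

set_option autoImplicit false
universe u
open InvQ

namespace Groth.Agent.S20025

/-- For the special fibre of the invariant map, over a field in which 2 and 3 are nonzero, consider a
split binary quartic f = ∏_i (μ_i X₀ − λ_i X₁) given by four root points (λ_i, μ_i) ≠ (0, 0), with a
double zero (vanishing discriminant ∏_{i<j} (λ_j μ_i − λ_i μ_j)²) and no triple zero (no three root
points pairwise proportional); these are the forms of the fibre over the special point P³/Q² = 6 of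
the invariant map. Then exactly one of the two alternatives holds: f is a nonzero constant times the
form X₀² X₁ (X₀ − X₁) after an invertible linear substitution of the variables, or f is a nonzero
constant times X₀² X₁² after such a substitution. So this fibre consists of exactly two classes
under substitutions and scalars (one double zero and two simple zeros; two double zeros). (The
dimensions of the two orbits and which of them is open or closed in the fibre are not part of this
row; stated for split forms over any such field.) -/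
theorem result (k : Type u) [Field k]
    (h2 : (2 : k) ≠ 0) (h3 : (3 : k) ≠ 0) (la mu : Fin 4 → k)
    (hne : ∀ i, la i ≠ 0 ∨ mu i ≠ 0) (hd : W4c6intromoduli.disc la mu = 0)
    (h3z : ∀ i j l : Fin 4, i ≠ j → j ≠ l → i ≠ l →
      ¬ (la i * mu j = la j * mu i ∧ la j * mu l = la l * mu j)) :
    Xor
      (∃ (M : Matrix (Fin 2) (Fin 2) k) (c : k), IsUnit M.det ∧ c ≠ 0 ∧
        W4c6intromoduli.binForm la mu =
          MvPolynomial.C c * W4c6intromoduli.subst M
            (MvPolynomial.X 0 ^ 2 * MvPolynomial.X 1 * (MvPolynomial.X 0 - MvPolynomial.X 1)))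
      (∃ (M : Matrix (Fin 2) (Fin 2) k) (c : k), IsUnit M.det ∧ c ≠ 0 ∧
        W4c6intromoduli.binForm la mu =
          MvPolynomial.C c * W4c6intromoduli.subst M
            (MvPolynomial.X 0 ^ 2 * MvPolynomial.X 1 ^ 2)) := by
  open Groth.Agent.H99.QuarticA in
  -- a proportional pair
  have hpair : ∃ p : Fin 4 × Fin 4, p.1 < p.2 ∧ la p.2 * mu p.1 - la p.1 * mu p.2 = 0 := by
    unfold W4c6intromoduli.disc at hd
    rw [Finset.prod_eq_zero_iff] at hd
    obtain ⟨p, hp, h0⟩ := hd
    rw [Finset.mem_filter] at hp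
    exact ⟨p, hp.2, pow_eq_zero_iff (by norm_num) |>.mp h0⟩
  obtain ⟨⟨i, j⟩, hlt, h0⟩ := hpair
  simp only at hlt h0
  have hother : ∀ i j : Fin 4, i < j → ∃ l m : Fin 4, i ≠ j ∧ i ≠ l ∧ i ≠ m ∧ j ≠ l ∧ j ≠ m ∧ l ≠ m := by
    decide
  obtain ⟨l, m, hij, hil, him, hjl, hjm, hlm⟩ := hother i j hlt
  have hprop : la i * mu j = la j * mu i := by linear_combination -h0
  obtain ⟨s, hs, h1, h2⟩ := prop_scalar (la i) (mu i) (la j) (mu j) (hne i) (hne j) hprop
  have hDil : mu l * la i - la l * mu i ≠ 0 := by
    intro h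
    apply h3z i j l hij hjl hil
    refine ⟨hprop, ?_⟩
    rw [h1, h2]
    linear_combination s * h
  have hDim' : mu m * la i - la m * mu i ≠ 0 := by
    intro h
    apply h3z i j m hij hjm him
    refine ⟨hprop, ?_⟩
    rw [h1, h2]
    linear_combination s * h
  by_cases hpl : la l * mu m = la m * mu l
  · -- two double zeros
    obtain ⟨s', hs', h3, h4⟩ := prop_scalar (la l) (mu l) (la m) (mu m) (hne l) (hne m) hpl
    have hB := case_two la mu i j l m hij hil him hjl hjm hlm s s' hs hs' h1 h2 h3 h4
      (by intro h; apply hDil; linear_combination h)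
    refine Or.inr ⟨hB, ?_⟩
    rintro ⟨M₁, c₁, hM₁, hc₁, e₁⟩
    obtain ⟨M₂, c₂, hM₂, hc₂, e₂⟩ := hB
    exact not_both _ M₁ M₂ c₁ c₂ hM₁ hM₂ hc₂ e₁ e₂
  · -- one double zero
    have hA := case_one la mu i j l m hij hil him hjl hjm hlm s hs h1 h2 hDil
      (by intro h; apply hDim'; linear_combination -h)
      (by intro h; apply hpl; linear_combination -h)
    refine Or.inl ⟨hA, ?_⟩
    rintro ⟨M₂, c₂, hM₂, hc₂, e₂⟩
    obtain ⟨M₁, c₁, hM₁, hc₁, e₁⟩ := hA
    exact not_both _ M₁ M₂ c₁ c₂ hM₁ hM₂ hc₂ e₁ e₂

end Groth.Agent.S20025
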