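import Groth.Statements.S20027
import Mathlib
import Groth.Agent.H81.VerOfRange
import Groth.Agent.H81.PolyVer
import Groth.Agent.H81.VerType
import Groth.Agent.H81.VerGorIff
import Groth.Agent.H85.GrLCBridge

set_option maxHeartbeats 800000
set_option linter.style.haveILetI false

set_option autoImplicit false
universe u
open GrLC

namespace Groth.Agent.S20027

attribute [local instance] MvPolynomial.weightedGradedAlgebra

/-- Let k be a field, s ≥ 1, d ≥ 1, and R = k[X_1, …, X_s] graded with every variable in degree 1.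
Present the Veronese subring R^(d) = ⊕_j R_{jd} as a commutative ring R' with an injective ring
homomorphism φ : R' → R whose image is the set of polynomials whose homogeneous components in all
degrees not divisible by d are zero, and let m' be the maximal ideal of R' that is the preimage of
the ideal of polynomials with zero constant term (the irrelevant ideal of R^(d)). Let n be the least
integer such that n ≥ s and d divides n. Then the type of R^(d), namely the Bass number μ_s(m', R')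
= dim over the residue field of Ext^s over the local ring R'_{m'} from its residue field to R'_{m'}
(here s = dim R'), equals the binomial coefficient (n − 1 choose s − 1). -/
theorem result (k : Type u) [Field k] (s d : ℕ) (hs : 1 ≤ s)
    (hd : 1 ≤ d) (R' : Type u) [CommRing R'] (φ : R' →+* MvPolynomial (Fin s) k)
    (hφ : Function.Injective φ)
    (hrange : ∀ p : MvPolynomial (Fin s) k, p ∈ φ.range ↔
      ∀ j : ℕ, ¬ d ∣ j → MvPolynomial.homogeneousComponent j p = 0)
    (m' : Ideal R') [m'.IsMaximal]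
    (hm' : m' = Ideal.comap φ (RingHom.ker (MvPolynomial.constantCoeff : MvPolynomial (Fin s) k →+* k)))
    (n : ℕ) (hsn : s ≤ n) (hdn : d ∣ n) (hmin : ∀ n' : ℕ, s ≤ n' → d ∣ n' → n ≤ n') :
    GrLC.bassNum m' R' s = (Nat.choose (n - 1) (s - 1) : ℕ∞) := by
  classical
  obtain ⟨r, rfl⟩ : ∃ r, s = r + 1 := ⟨s - 1, by omega⟩
  haveI := Groth.Agent.H98.Canon.isGorensteinRing_mvPolynomial k (r + 1)
  have hpos : ∀ l : ℤ, l < 0 → Groth.Agent.H81.PolyVer.gr k (r + 1) l = ⊥ :=
    Groth.Agent.H98.Canon.selfGr_eq_bot_of_neg k (r + 1) (Groth.Agent.H81.PolyVer.wt (r + 1))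
      (Groth.Agent.H81.PolyVer.wt_pos (r + 1))
  have h0 : IsField (GrLC.deg0 (Groth.Agent.H81.PolyVer.gr k (r + 1))) :=
    Groth.Agent.H98.Canon.isField_deg0 k (r + 1) (Groth.Agent.H81.PolyVer.wt (r + 1))
      (Groth.Agent.H81.PolyVer.wt_pos (r + 1))
  have hm : GrLC.IsStarLocal (Groth.Agent.H81.PolyVer.gr k (r + 1))
      (Groth.Agent.H85.GrLCBridge.irrH (Groth.Agent.H81.PolyVer.gr k (r + 1))) :=
    Groth.Agent.H85.GrLCBridge.isStarLocal_irrH _ hpos h0
  have hstd := Groth.Agent.H81.PolyVer.span_pos_eq_span_one k (r + 1)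
  have hn : ringKrullDim (MvPolynomial (Fin (r + 1)) k) = ((r + 1 : ℕ) : WithBot ℕ∞) :=
    Groth.Agent.H98.Canon.ringKrullDim_mvPolynomial_fin k (r + 1)
  have ha := Groth.Agent.H98.Canon.endDeg_wpoly k (r + 1) (Groth.Agent.H81.PolyVer.wt (r + 1))
    (Groth.Agent.H81.PolyVer.wt_pos (r + 1))
    (Groth.Agent.H85.GrLCBridge.irrH (Groth.Agent.H81.PolyVer.gr k (r + 1))) hm rfl
    (Groth.Agent.H98.GrStar.res (Groth.Agent.H81.PolyVer.gr k (r + 1))
      (Groth.Agent.H81.PolyVer.gr k (r + 1)))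
  have hsum : (Finset.univ : Finset (Fin (r + 1))).sum (Groth.Agent.H81.PolyVer.wt (r + 1)) =
      ((r + 1 : ℕ) : ℤ) := by
    change (∑ _i : Fin (r + 1), (1 : ℤ)) = _
    simp
  rw [hsum] at ha
  -- the Veronese grading on `R'`
  have hd0 : 0 < d := hd
  have hrange' : ∀ p : MvPolynomial (Fin (r + 1)) k, p ∈ φ.range ↔
      ∀ l : ℤ, ¬ (d : ℤ) ∣ l →
        (DirectSum.decompose (Groth.Agent.H81.PolyVer.gr k (r + 1)) p l :
          MvPolynomial (Fin (r + 1)) k) = 0 :=
    fun p => (hrange p).trans (Groth.Agent.H81.PolyVer.range_iff k (r + 1) d p)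
  letI gR' : GradedRing (Groth.Agent.H81.VerOfRange.pieces
      (Groth.Agent.H81.PolyVer.gr k (r + 1)) φ d) :=
    Groth.Agent.H81.VerOfRange.gradedRing _ φ d hφ hd0 hrange'
  have hv : Groth.Agent.H98.Ver.IsVer (Groth.Agent.H81.PolyVer.gr k (r + 1))
      (Groth.Agent.H81.VerOfRange.pieces (Groth.Agent.H81.PolyVer.gr k (r + 1)) φ d) φ d :=
    Groth.Agent.H81.VerOfRange.isVer _ φ d hφ hd0 hrange'
  have hposV := Groth.Agent.H98.Ver.hpos' hv hpos
  have h0V := Groth.Agent.H98.Ver.isField_deg0' hv h0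
  haveI : Nontrivial R' := Groth.Agent.H98.Ver.nontrivial' hv
  have hirr_ne := Groth.Agent.H81.VerGorIff.irr_ne_top
    (Groth.Agent.H81.VerOfRange.pieces (Groth.Agent.H81.PolyVer.gr k (r + 1)) φ d) hposV
  have hirr_max := Groth.Agent.H85.GrLCBase.isMaximal_irr
    (Groth.Agent.H81.VerOfRange.pieces (Groth.Agent.H81.PolyVer.gr k (r + 1)) φ d) hposV h0V
    (Groth.Agent.H81.VerGorIff.irr _) hirr_ne (Groth.Agent.H81.VerGorIff.irr_toIdeal _)
  have hle : (Groth.Agent.H81.VerGorIff.irr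
      (Groth.Agent.H81.VerOfRange.pieces (Groth.Agent.H81.PolyVer.gr k (r + 1)) φ d)).toIdeal ≤
      m' := by
    rw [Groth.Agent.H81.VerGorIff.irr_toIdeal, Ideal.span_le]
    intro x hx
    obtain ⟨j, hj, hxj⟩ := Set.mem_iUnion₂.mp hx
    have hj' : (0 : ℤ) < j := hj
    rw [hm', SetLike.mem_coe, Ideal.mem_comap, RingHom.mem_ker]
    exact Groth.Agent.H81.PolyVer.constantCoeff_eq_zero_of_mem k (r + 1) (n := j * d)
      (mul_pos hj' (by exact_mod_cast hd0)) hxj
  have heq : (Groth.Agent.H81.VerGorIff.irr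
      (Groth.Agent.H81.VerOfRange.pieces (Groth.Agent.H81.PolyVer.gr k (r + 1)) φ d)).toIdeal =
      m' := hirr_max.eq_of_le (Ideal.IsMaximal.ne_top inferInstance) hle
  subst heq
  -- the residue `ρ = n - s`
  have hρq : n - (r + 1) < d := by
    by_contra hcon
    push Not at hcon
    have h1 : r + 1 ≤ n - d := by omega
    have h2 : d ∣ n - d := Nat.dvd_sub hdn (dvd_refl d)
    have := hmin (n - d) h1 h2
    omega
  have key := Groth.Agent.H81.VerType.bassNum_veronese (MvPolynomial (Fin (r + 1)) k)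
    (Groth.Agent.H81.PolyVer.gr k (r + 1)) hpos h0
    (Groth.Agent.H85.GrLCBridge.irrH (Groth.Agent.H81.PolyVer.gr k (r + 1))) hm rfl hstd (r + 1) hn
    (Groth.Agent.H98.GrStar.res (Groth.Agent.H81.PolyVer.gr k (r + 1))
      (Groth.Agent.H81.PolyVer.gr k (r + 1))) (-((r + 1 : ℕ) : ℤ)) ha d hd0 R'
    (Groth.Agent.H81.VerOfRange.pieces (Groth.Agent.H81.PolyVer.gr k (r + 1)) φ d) φ hφ hv.deg
    (Groth.Agent.H81.VerGorIff.irr _) (Groth.Agent.H81.VerGorIff.irr_toIdeal _)
    (((n - (r + 1) : ℕ) : ℤ)) (by positivity) (by exact_mod_cast hρq) (by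
      obtain ⟨c, hc⟩ := hdn
      refine ⟨-c, ?_⟩
      have : ((n - (r + 1) : ℕ) : ℤ) = (n : ℤ) - ((r + 1 : ℕ) : ℤ) := by
        rw [Nat.cast_sub hsn]
      rw [this, hc]
      push_cast
      ring)
  rw [key, Groth.Agent.H81.PolyVer.finrank_comp k r (n - (r + 1))]
  have h1 : n - (r + 1) + r = n - 1 := by omega
  have h2 : r + 1 - 1 = r := by omega
  rw [h1, h2]

end Groth.Agent.S20027
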