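import Groth.Statements.S2008
import Mathlib.RingTheory.Flat.FaithfullyFlat.Algebra
import Mathlib.RingTheory.TensorProduct.Quotient
import Mathlib.RingTheory.Flat.Stability
import Mathlib.Algebra.Module.Torsion.Basic
import Mathlib.RingTheory.Spectrum.Prime.RingHom

set_option autoImplicit false
universe u
open TensorProduct
open EtAlg

namespace Groth.Agent.S2008

section

variable {R S : Type u} [CommRing R] [CommRing S] [Algebra R S] (I : Ideal R)

theorem flat_quotient [Module.Flat R S] : Module.Flat (R ⧸ I) (S ⧸ I.map (algebraMap R S)) :=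
  Module.Flat.of_linearEquiv
    (Algebra.TensorProduct.quotIdealMapEquivQuotTensor (A := R) S I).toLinearEquiv

/-- (1) → (3) -/
theorem nontrivial_of_faithfullyFlat
    [Module.FaithfullyFlat (R ⧸ I) (S ⧸ I.map (algebraMap R S))]
    (M : Type u) [AddCommGroup M] [Module R M] (hM : ∀ (a : R) (m : M), a ∈ I → a • m = 0)
    [Nontrivial M] : Nontrivial (S ⊗[R] M) := by
  have hT : Module.IsTorsionBySet R M (I : Set R) := fun m a => hM a.1 m a.2
  let _ := hT.module
  have : IsScalarTower R (R ⧸ I) M := hT.isScalarTower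
  -- the surjection S ⊗[R] M → (S/IS) ⊗[R/I] M
  let SI := S ⧸ I.map (algebraMap R S)
  let g : S →ₗ[R] M →ₗ[R] (SI ⊗[R ⧸ I] M) :=
    LinearMap.mk₂ R (fun s m => (Ideal.Quotient.mk _ s : SI) ⊗ₜ[R ⧸ I] m)
      (fun s s' m => by rw [map_add, TensorProduct.add_tmul])
      (fun c s m => by
        rw [TensorProduct.smul_tmul']
        congr 1)
      (fun s m m' => by rw [TensorProduct.tmul_add])
      (fun c s m => by rw [TensorProduct.tmul_smul])
  have hsurj : Function.Surjective (TensorProduct.lift g) := by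
    rw [← LinearMap.range_eq_top, eq_top_iff]
    rintro y -
    induction y using TensorProduct.induction_on with
    | zero => exact Submodule.zero_mem _
    | tmul s m =>
      obtain ⟨s, rfl⟩ := Ideal.Quotient.mk_surjective s
      exact ⟨s ⊗ₜ m, by simp [g]⟩
    | add x y hx hy => exact Submodule.add_mem _ hx hy
  have : Nontrivial (SI ⊗[R ⧸ I] M) := inferInstance
  exact hsurj.nontrivial

/-- (3) → (4) -/
theorem nontrivial_of_pow_torsion [Module.Flat R S]
    (h : ∀ (M : Type u) [AddCommGroup M] [Module R M], (∀ (a : R) (m : M), a ∈ I → a • m = 0) →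
        Nontrivial M → Nontrivial (S ⊗[R] M))
    (M : Type u) [AddCommGroup M] [Module R M] (hM : ∀ m : M, ∃ n : ℕ, ∀ a ∈ I ^ n, a • m = 0)
    [Nontrivial M] : Nontrivial (S ⊗[R] M) := by
  classical
  let N : Submodule R M := Submodule.torsionBySet R M (I : Set R)
  have hN : ∀ (a : R) (x : N), a ∈ I → a • x = 0 := by
    intro a x ha
    apply Subtype.ext
    have := (Submodule.mem_torsionBySet_iff _ _).mp x.2 ⟨a, ha⟩
    simpa using this
  have hNnt : Nontrivial N := by
    obtain ⟨m, hm⟩ := exists_ne (0 : M)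
    have hex := hM m
    have hn0 : Nat.find hex ≠ 0 := by
      intro h0
      have := Nat.find_spec hex
      rw [h0] at this
      exact hm (by simpa using this 1 (by simp))
    obtain ⟨k, hk⟩ := Nat.exists_eq_succ_of_ne_zero hn0
    have hmin : ¬ ∀ a ∈ I ^ k, a • m = 0 := Nat.find_min hex (by omega)
    push Not at hmin
    obtain ⟨b, hb, hbm⟩ := hmin
    have hmem : b • m ∈ N := by
      rw [Submodule.mem_torsionBySet_iff]
      rintro ⟨a, ha⟩
      change a • b • m = 0
      rw [← mul_smul]
      refine Nat.find_spec hex _ ?_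
      rw [hk, pow_succ']
      exact Ideal.mul_mem_mul ha hb
    exact ⟨⟨⟨b • m, hmem⟩, 0, fun h0 => hbm (congrArg Subtype.val h0)⟩⟩
  have h1 : Nontrivial (S ⊗[R] N) := h N hN hNnt
  exact (Module.Flat.lTensor_preserves_injective_linearMap (M := S) N.subtype
    Subtype.val_injective).nontrivial

/-- (4) → (2) -/
theorem exists_comap_eq
    (h : ∀ (M : Type u) [AddCommGroup M] [Module R M], (∀ m : M, ∃ n : ℕ, ∀ a ∈ I ^ n, a • m = 0) →
        Nontrivial M → Nontrivial (S ⊗[R] M))
    (p : PrimeSpectrum (R ⧸ I)) :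
    ∃ q, PrimeSpectrum.comap (Ideal.quotientMap (I.map (algebraMap R S)) (algebraMap R S)
      Ideal.le_comap_map) q = p := by
  let P : Ideal R := p.asIdeal.comap (Ideal.Quotient.mk I)
  have hP : P.IsPrime := Ideal.comap_isPrime _ _
  have hIP : I ≤ P := by
    intro a ha
    change Ideal.Quotient.mk I a ∈ p.asIdeal
    rw [Ideal.Quotient.eq_zero_iff_mem.mpr ha]
    exact Ideal.zero_mem _
  have hnt : Nontrivial (S ⊗[R] P.ResidueField) := by
    apply h
    · intro x
      refine ⟨1, fun a ha => ?_⟩
      rw [pow_one] at ha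
      rw [Algebra.smul_def, (Ideal.algebraMap_residueField_eq_zero).mpr (hIP ha), zero_mul]
    · infer_instance
  have hnt' : Nontrivial (P.ResidueField ⊗[R] S) :=
    (TensorProduct.comm R S P.ResidueField).injective.nontrivial
  obtain ⟨q, hq⟩ := (PrimeSpectrum.nontrivial_iff_mem_rangeComap (S := S) ⟨P, hP⟩).mp hnt'
  have hq' : q.asIdeal.comap (algebraMap R S) = P := congrArg PrimeSpectrum.asIdeal hq
  have hISq : I.map (algebraMap R S) ≤ q.asIdeal := by
    rw [Ideal.map_le_iff_le_comap, hq']
    exact hIP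
  have hker : RingHom.ker (Ideal.Quotient.mk (I.map (algebraMap R S))) ≤ q.asIdeal := by
    rw [Ideal.mk_ker]; exact hISq
  let qbar : PrimeSpectrum (S ⧸ I.map (algebraMap R S)) :=
    ⟨q.asIdeal.map (Ideal.Quotient.mk _),
      Ideal.map_isPrime_of_surjective Ideal.Quotient.mk_surjective hker⟩
  refine ⟨qbar, PrimeSpectrum.ext ?_⟩
  apply Ideal.comap_injective_of_surjective (Ideal.Quotient.mk I) Ideal.Quotient.mk_surjective
  change ((q.asIdeal.map (Ideal.Quotient.mk _)).comap _).comap _ = P
  rw [Ideal.comap_comap, Ideal.quotientMap_comp_mk, ← Ideal.comap_comap,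
    Ideal.comap_map_of_surjective _ Ideal.Quotient.mk_surjective, ← RingHom.ker_eq_comap_bot,
    sup_eq_left.mpr hker, hq']

end

/-- For a ring map R -> S and an ideal I of R the following are equivalent: (1) S is flat over R and
S/IS is faithfully flat over R/I; (2) S is flat over R and Spec(S/IS) -> Spec(R/I) is surjective;
(3) S is flat over R and S ⊗_R M is nonzero for every nonzero R-module M killed by I; (4) S is flat
over R and S ⊗_R M is nonzero for every nonzero I-power torsion R-module M. (Faithfulness of base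
change on these subcategories is stated as detection of nonzero objects, which is equivalent for an
exact functor.) -/
theorem result (R S : Type u) [CommRing R] [CommRing S] [Algebra R S] (I : Ideal R) :
    List.TFAE [
      Module.Flat R S ∧ Module.FaithfullyFlat (R ⧸ I) (S ⧸ I.map (algebraMap R S)),
      Module.Flat R S ∧ Function.Surjective (PrimeSpectrum.comap (Ideal.quotientMap (I.map (algebraMap R S)) (algebraMap R S) Ideal.le_comap_map)),
      Module.Flat R S ∧ ∀ (M : Type u) [AddCommGroup M] [Module R M], (∀ (a : R) (m : M), a ∈ I → a • m = 0) →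
        Nontrivial M → Nontrivial (S ⊗[R] M),
      Module.Flat R S ∧ ∀ (M : Type u) [AddCommGroup M] [Module R M], (∀ m : M, ∃ n : ℕ, ∀ a ∈ I ^ n, a • m = 0) →
        Nontrivial M → Nontrivial (S ⊗[R] M)] := by
  tfae_have 1 → 3 := by
    rintro ⟨hfl, hff⟩
    exact ⟨hfl, fun M _ _ hM _ => nontrivial_of_faithfullyFlat I M hM⟩
  tfae_have 3 → 4 := by
    rintro ⟨hfl, h⟩
    refine ⟨hfl, fun M _ _ hM hnt => ?_⟩
    exact nontrivial_of_pow_torsion I h M hM
  tfae_have 4 → 2 := by
    rintro ⟨hfl, h⟩
    refine ⟨hfl, fun p => ?_⟩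
    exact exists_comap_eq I h p
  tfae_have 2 → 1 := by
    rintro ⟨hfl, h⟩
    have := flat_quotient (S := S) I
    exact ⟨hfl, Module.FaithfullyFlat.of_comap_surjective h⟩
  tfae_finish

end Groth.Agent.S2008
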