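import Groth.Statements.S2012
import Mathlib.RingTheory.Finiteness.ModuleFinitePresentation
import Mathlib.RingTheory.Flat.EquationalCriterion
import Mathlib.RingTheory.Nakayama
import Mathlib.RingTheory.IntegralClosure.IsIntegralClosure.Basic

set_option autoImplicit false
universe u
open EtAlg

namespace Groth.Agent.S2012

/-- Let A be a ring and I an ideal contained in its Jacobson radical. Let B be an A-algebra which is
flat, integral and of finite presentation over A and such that A/I -> B/IB is bijective. Then A -> B
is bijective. -/
theorem result (A B : Type u) [CommRing A] [CommRing B] [Algebra A B]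
    (I : Ideal A) (hI : I ≤ (⊥ : Ideal A).jacobson) [Module.Flat A B] [Algebra.IsIntegral A B] [Algebra.FinitePresentation A B]
    (hq : Function.Bijective (Ideal.quotientMap (I.map (algebraMap A B)) (algebraMap A B) Ideal.le_comap_map)) :
    Function.Bijective (algebraMap A B) := by
  have hfin : Module.Finite A B := Algebra.IsIntegral.finite
  have hfp : Module.FinitePresentation A B := .of_finite_of_finitePresentation A B
  have hproj : Module.Projective A B := Module.Flat.projective_of_finitePresentation
  set φ : A →ₗ[A] B := Algebra.linearMap A B with hφ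
  -- surjectivity
  have hsurj : Function.Surjective φ := by
    rw [← LinearMap.range_eq_top, eq_top_iff]
    refine Submodule.le_of_le_smul_of_le_jacobson_bot (Module.Finite.fg_top) hI ?_
    intro b _
    obtain ⟨a, ha⟩ := hq.2 (Ideal.Quotient.mk _ b)
    obtain ⟨a, rfl⟩ := Ideal.Quotient.mk_surjective a
    rw [Ideal.quotientMap_mk, Ideal.Quotient.eq] at ha
    have hb : b = φ a + (b - φ a) := by ring
    rw [hb]
    refine Submodule.add_mem_sup (LinearMap.mem_range_self _ _) ?_
    rw [Ideal.smul_top_eq_map]
    have : b - φ a = -(algebraMap A B a - b) := by simp [hφ]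
    rw [this]
    exact Submodule.neg_mem _ ha
  refine ⟨?_, hsurj⟩
  -- injectivity
  obtain ⟨s, hs⟩ := Module.projective_lifting_property φ LinearMap.id hsurj
  set π : A →ₗ[A] A := LinearMap.id - s.comp φ with hπ
  have hπker : ∀ a, π a ∈ LinearMap.ker φ := by
    intro a
    have := LinearMap.congr_fun hs (φ a)
    simp only [LinearMap.comp_apply, LinearMap.id_apply] at this
    simp [hπ, this]
  have hπid : ∀ k ∈ LinearMap.ker φ, π k = k := by
    intro k hk
    rw [LinearMap.mem_ker] at hk
    simp [hπ, hk]
  have hkerI : ∀ k ∈ LinearMap.ker φ, k ∈ I := by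
    intro k hk
    rw [LinearMap.mem_ker] at hk
    have h0 : Ideal.quotientMap (I.map (algebraMap A B)) (algebraMap A B) Ideal.le_comap_map
        (Ideal.Quotient.mk I k) = 0 := by
      rw [Ideal.quotientMap_mk]
      have : algebraMap A B k = 0 := hk
      rw [this, map_zero]
    have := hq.1 (h0.trans (map_zero _).symm)
    rwa [Ideal.Quotient.eq_zero_iff_mem] at this
  have hKbot : LinearMap.ker φ = ⊥ := by
    refine Submodule.eq_bot_of_le_smul_of_le_jacobson_bot I _ ?_ ?_ hI
    · refine ⟨{π 1}, ?_⟩
      apply le_antisymm
      · rw [Submodule.span_le]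
        simpa using hπker 1
      · intro k hk
        rw [← hπid k hk]
        have : π k = k • π 1 := by rw [← map_smul, smul_eq_mul, mul_one]
        rw [this]
        exact Submodule.smul_mem _ _ (Submodule.subset_span (by simp))
    · intro k hk
      rw [← hπid k hk]
      have : π k = k • π 1 := by rw [← map_smul, smul_eq_mul, mul_one]
      rw [this]
      exact Submodule.smul_mem_smul (hkerI k hk) (hπker 1)
  have : Function.Injective φ := LinearMap.ker_eq_bot.mp hKbot
  exact this

end Groth.Agent.S2012
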