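import Groth.Statements.S2014
import Mathlib

set_option autoImplicit false
universe u
open EtAlg

namespace Groth.Agent.S2014

/-- Let R be a Noetherian local ring of Krull dimension 1 and x an element of the maximal ideal
contained in no minimal prime of R. Then the number of minimal prime ideals of R is at most the
length of R/xR as an R-module. -/
theorem result (R : Type u) [CommRing R] [IsNoetherianRing R] [IsLocalRing R]
    (hdim : ringKrullDim R = 1) (x : R) (hx : x ∈ IsLocalRing.maximalIdeal R) (hmin : ∀ p ∈ minimalPrimes R, x ∉ p) :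
    (Set.ncard (minimalPrimes R) : ℕ∞) ≤ Module.length R (R ⧸ Ideal.span {x}) := by
  classical
  have hfin : (minimalPrimes R).Finite := minimalPrimes.finite_of_isNoetherianRing R
  haveI : Finite (minimalPrimes R) := hfin.to_subtype
  set r := Set.ncard (minimalPrimes R) with hr
  have e : (minimalPrimes R) ≃ Fin r :=
    Finite.equivFinOfCardEq (by rw [hr, Nat.card_coe_set_eq])
  let q : Fin r → Ideal R := fun i => (e.symm i : Ideal R)
  have hqmin : ∀ i, q i ∈ minimalPrimes R := fun i => (e.symm i).2
  have hqinj : Function.Injective q := fun i j hij =>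
    e.symm.injective (Subtype.ext hij)
  have hqprime : ∀ i, (q i).IsPrime := fun i => (hqmin i).1.1
  let I : ℕ → Ideal R := fun j => (Finset.univ.filter (fun i : Fin r => i.val < j)).inf q
  have hIanti : ∀ j k, j ≤ k → I k ≤ I j := by
    intro j k hjk
    apply Finset.inf_mono
    intro i hi
    simp only [Finset.mem_filter, Finset.mem_univ, true_and] at hi ⊢
    omega
  have hIle : ∀ (i : Fin r) j, i.val < j → I j ≤ q i := by
    intro i j hij
    exact Finset.inf_le (by simp [hij])
  have hxjac : Ideal.span {x} ≤ Ideal.jacobson (⊥ : Ideal R) := by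
    rw [IsLocalRing.jacobson_eq_maximalIdeal _ bot_ne_top, Ideal.span_le,
      Set.singleton_subset_iff]
    exact hx
  -- strictness
  have hstrict : ∀ j, j < r → ¬ (I j ⊔ Ideal.span {x} ≤ I (j + 1) ⊔ Ideal.span {x}) := by
    intro j hj hle
    have h1 : I j ≤ I (j + 1) ⊔ Ideal.span {x} • I j := by
      intro a ha
      have ha' : a ∈ I (j + 1) ⊔ Ideal.span {x} := hle (Ideal.mem_sup_left ha)
      rw [Submodule.mem_sup] at ha'
      obtain ⟨b, hb, y, hy, rfl⟩ := ha'
      rw [Ideal.mem_span_singleton'] at hy
      obtain ⟨c, rfl⟩ := hy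
      have hc : c ∈ I j := by
        rw [Submodule.mem_finsetInf]
        intro i hi
        simp only [Finset.mem_filter, Finset.mem_univ, true_and] at hi
        have h2 : c * x ∈ q i := by
          have h3 : b + c * x ∈ q i := hIle i j hi ha
          have h4 : b ∈ q i := hIle i (j + 1) (by omega) hb
          exact (Ideal.add_mem_iff_right _ h4).1 h3
        rcases (hqprime i).mem_or_mem h2 with h | h
        · exact h
        · exact absurd h (hmin _ (hqmin i))
      refine Submodule.mem_sup.2 ⟨b, hb, c * x, ?_, rfl⟩
      rw [mul_comm]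
      exact Ideal.mul_mem_mul (Ideal.mem_span_singleton_self x) hc
    have h2 : I j ≤ I (j + 1) :=
      Submodule.le_of_le_smul_of_le_jacobson_bot (IsNoetherian.noetherian _) hxjac h1
    have h3 : I j ≤ q ⟨j, hj⟩ := h2.trans (hIle ⟨j, hj⟩ (j + 1) (by simp))
    rw [(hqprime ⟨j, hj⟩).inf_le'] at h3
    obtain ⟨i, hi, hile⟩ := h3
    simp only [Finset.mem_filter, Finset.mem_univ, true_and] at hi
    have h4 : q ⟨j, hj⟩ ≤ q i := (hqmin ⟨j, hj⟩).2 ⟨hqprime i, bot_le⟩ hile
    have h5 : q i = q ⟨j, hj⟩ := le_antisymm hile h4
    have h6 := hqinj h5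
    rw [Fin.ext_iff] at h6
    simp at h6
    omega
  -- the chain
  let J : ℕ → Ideal R := fun j => I j ⊔ Ideal.span {x}
  have hJanti : ∀ j k, j ≤ k → J k ≤ J j := fun j k hjk => sup_le_sup_right (hIanti j k hjk) _
  have hJlt : ∀ j, j < r → J (j + 1) < J j := fun j hj =>
    lt_of_le_not_ge (hJanti j (j + 1) (Nat.le_succ j)) (hstrict j hj)
  have hJltgen : ∀ j k, j < k → k ≤ r → J k < J j := by
    intro j k hjk hkr
    induction k, hjk using Nat.le_induction with
    | base => exact hJlt j (by omega)
    | succ k hk ih => exact (hJlt k (by omega)).trans (ih (by omega))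
  let p : LTSeries (Submodule R R) :=
    { length := r
      toFun := fun k => J (r - k.val)
      step := by
        intro k
        show J (r - k.val) < J (r - (k.val + 1))
        apply hJltgen
        · have := k.isLt; omega
        · omega }
  have hhead : (Ideal.span {x} : Submodule R R) ≤ p.head := by
    show Ideal.span {x} ≤ J (r - 0)
    exact le_sup_right
  have := Order.length_le_coheight hhead
  rw [Module.length_quotient]
  exact this

end Groth.Agent.S2014
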