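import Groth.Statements.S2017
import Mathlib.RingTheory.Adjoin.Tower
import Mathlib.LinearAlgebra.Finsupp.LinearCombination

set_option autoImplicit false
universe u
open EtAlg

namespace Groth.Agent.S2017

/-- Let R be a Noetherian ring, A, B, C R-algebras of finite type, f : A -> B a surjective R-algebra map
and g : C -> B an R-algebra map making B a finite C-module. Then the fibre product A ×_B C (the
equalizer of f ∘ pr₁ and g ∘ pr₂ in A × C) is an R-algebra of finite type. -/
theorem result (R A B C : Type u) [CommRing R] [IsNoetherianRing R] [CommRing A] [CommRing B]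
    [CommRing C] [Algebra R A] [Algebra R B] [Algebra R C] [Algebra.FiniteType R A] [Algebra.FiniteType R B]
    [Algebra.FiniteType R C] (f : A →ₐ[R] B) (hf : Function.Surjective f) (g : C →ₐ[R] B)
    (hg : (g.toRingHom).Finite) :
    Algebra.FiniteType R ↥(AlgHom.equalizer (f.comp (AlgHom.fst R A C)) (g.comp (AlgHom.snd R A C))) := by
  classical
  set E := AlgHom.equalizer (f.comp (AlgHom.fst R A C)) (g.comp (AlgHom.snd R A C)) with hE
  have hmem : ∀ a c, (a, c) ∈ E ↔ f a = g c := by
    intro a c
    simp [hE, AlgHom.mem_equalizer]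
  refine ⟨fg_of_fg_of_fg (A := R) (B := E) (C := A × C) Algebra.FiniteType.out ?_
    Subtype.val_injective⟩
  -- finite generation of B over C
  letI := g.toRingHom.toAlgebra
  have hfin : Module.Finite C B := hg
  obtain ⟨s, hs⟩ := hfin.fg_top
  -- lift generators to A
  choose lift hlift using hf
  -- generating set of A × C over E
  refine ⟨(s.image fun b => ((lift b, 0) : A × C)) ∪ {(1, 0), (0, 1)}, ?_⟩
  rw [eq_top_iff]
  rintro ⟨a, c⟩ -
  have hsplit : ((a, c) : A × C) = (a, 0) + (0, c) := by simp
  rw [hsplit]
  refine Submodule.add_mem _ ?_ ?_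
  · -- (a, 0)
    have hfa : f a ∈ Submodule.span C (s : Set B) := by rw [hs]; trivial
    rw [Submodule.mem_span_finset] at hfa
    obtain ⟨coef, -, hsum⟩ := hfa
    -- elements e_b = (lift (g (coef b)), coef b) ∈ E
    have heb : ∀ b : B, ((lift (g (coef b)), coef b) : A × C) ∈ E := by
      intro b
      rw [hmem, hlift]
    -- k = a - Σ lift(g (coef b)) * lift b ∈ ker f
    set k : A := a - ∑ b ∈ s, lift (g (coef b)) * lift b with hk
    have hkf : f k = 0 := by
      rw [hk, map_sub, map_sum, sub_eq_zero, ← hsum]
      refine Finset.sum_congr rfl fun b _ => ?_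
      rw [map_mul, hlift, hlift]
      rfl
    have hkE : ((k, 0) : A × C) ∈ E := by
      rw [hmem, hkf, map_zero]
    have hdecomp : ((a, 0) : A × C) =
        ∑ b ∈ s, (⟨_, heb b⟩ : E) • ((lift b, 0) : A × C) + (⟨_, hkE⟩ : E) • ((1, 0) : A × C) := by
      simp only [Subalgebra.smul_def, smul_eq_mul, Prod.mk_mul_mk, mul_zero, mul_one]
      rw [Prod.ext_iff]
      constructor
      · simp [Prod.fst_sum, hk]
      · simp [Prod.snd_sum]
    rw [hdecomp]
    refine Submodule.add_mem _ (Submodule.sum_mem _ fun b hb => ?_) ?_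
    · refine Submodule.smul_mem _ _ (Submodule.subset_span ?_)
      simp only [Finset.coe_union, Finset.coe_image, Set.mem_union, Set.mem_image, Finset.mem_coe]
      exact Or.inl ⟨b, hb, rfl⟩
    · refine Submodule.smul_mem _ _ (Submodule.subset_span ?_)
      simp
  · -- (0, c)
    have hcE : ((lift (g c), c) : A × C) ∈ E := by rw [hmem, hlift]
    have : ((0, c) : A × C) = (⟨_, hcE⟩ : E) • ((0, 1) : A × C) := by
      simp [Subalgebra.smul_def]
    rw [this]
    refine Submodule.smul_mem _ _ (Submodule.subset_span ?_)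
    simp

end Groth.Agent.S2017
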