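import Groth.Statements.S2018
import Mathlib.Algebra.Polynomial.Lifts
import Mathlib.RingTheory.IntegralClosure.IsIntegral.Basic

set_option autoImplicit false
universe u
open EtAlg

namespace Groth.Agent.S2018

open Polynomial in
/-- Let g : A' -> A be a surjective ring map and f : B -> A an integral ring map. Then the projection
from the fibre product B ×_A A' (the equalizer of f ∘ pr₁ and g ∘ pr₂ in B × A') to A' is integral. -/
theorem result (A A' B : Type u) [CommRing A] [CommRing A'] [CommRing B] (g : A' →+* A)
    (hg : Function.Surjective g) (f : B →+* A) (hf : f.IsIntegral) :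
    ((RingHom.snd B A').comp ((f.comp (RingHom.fst B A')).eqLocus (g.comp (RingHom.snd B A'))).subtype).IsIntegral := by
  intro a'
  set E := (f.comp (RingHom.fst B A')).eqLocus (g.comp (RingHom.snd B A')) with hE
  set π : E →+* A' := (RingHom.snd B A').comp E.subtype with hπ
  rcases subsingleton_or_nontrivial B with hB | hB
  · have hA : Subsingleton A := by
      refine subsingleton_of_zero_eq_one ?_
      rw [← map_zero f, ← map_one f, Subsingleton.elim (0 : B) 1]
    have hmem : ((0 : B), a') ∈ E := by
      simp only [hE, RingHom.mem_eqLocus]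
      exact Subsingleton.elim _ _
    have : a' = π ⟨_, hmem⟩ := rfl
    rw [this]
    exact π.isIntegralElem_map
  obtain ⟨p, hp, hpe⟩ := hf (g a')
  let φ : E →+* B := (RingHom.fst B A').comp E.subtype
  have hφ : Function.Surjective φ := by
    intro b
    obtain ⟨c, hc⟩ := hg (f b)
    exact ⟨⟨(b, c), by simp [hE, RingHom.mem_eqLocus, hc]⟩, rfl⟩
  have hcomm : g.comp π = f.comp φ := by
    ext ⟨x, hx⟩
    exact hx.symm
  have hpX : (p * X).Monic := hp.mul monic_X
  obtain ⟨P, hP, hdeg, hPm⟩ := Polynomial.lifts_and_natDegree_eq_and_monic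
    (Polynomial.mem_lifts_of_surjective hφ (p * X)) hpX
  have hk : g (eval₂ π a' P) = 0 := by
    rw [Polynomial.hom_eval₂, hcomm, ← Polynomial.eval₂_map, hP, Polynomial.eval₂_mul, hpe,
      zero_mul]
  have hkE : ((0 : B), eval₂ π a' P) ∈ E := by
    simp [hE, RingHom.mem_eqLocus, hk]
  have hkint : π.IsIntegralElem (eval₂ π a' P) := by
    have : eval₂ π a' P = π ⟨_, hkE⟩ := rfl
    rw [this]
    exact π.isIntegralElem_map
  let _ : Algebra E A' := π.toAlgebra
  have hdeg' : P.natDegree ≠ 0 := by
    rw [hdeg, Polynomial.natDegree_mul_X hp.ne_zero]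
    exact Nat.succ_ne_zero _
  exact IsIntegral.of_aeval_monic hPm hdeg' hkint

end Groth.Agent.S2018
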