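import Groth.Statements.S2029
import Groth.Agent.H91.ElemStdLocE

set_option autoImplicit false
universe u
open Smoothing

namespace Groth.Agent.S2029

open TensorProduct in
/-- Let `R → A → Λ` with `A` finitely presented over `R`, `S ⊆ R` a multiplicative subset and `R_S` the
localization. If `R_S ⊗ A → R_S ⊗ Λ` factors through a smooth `R_S`-algebra, then `A → Λ` factors
through an `R`-algebra `B` in which some element of `S` is elementary standard over `R`. -/
theorem result {R A Λ Rₛ B' : Type u} [CommRing R] [CommRing A] [Algebra R A]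
    [Algebra.FinitePresentation R A] [CommRing Λ] [Algebra R Λ] (φ : A →ₐ[R] Λ) (S : Submonoid R)
    [CommRing Rₛ] [Algebra R Rₛ] [IsLocalization S Rₛ] [CommRing B'] [Algebra Rₛ B']
    [Algebra.Smooth Rₛ B'] (g : Rₛ ⊗[R] A →ₐ[Rₛ] B') (h : B' →ₐ[Rₛ] Rₛ ⊗[R] Λ)
    (hgh : h.comp g = Algebra.TensorProduct.map (AlgHom.id Rₛ Rₛ) φ) :
    ∃ (B : Type u) (_ : CommRing B) (_ : Algebra R B) (α : A →ₐ[R] B) (β : B →ₐ[R] Λ),
      β.comp α = φ ∧ ∃ s ∈ S, Smoothing.IsElementaryStandard R B (algebraMap R B s) := by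
  obtain ⟨B'', _, _, _, _, _, ⟨r⟩, _⟩ :=
    Groth.Agent.H91.StdRetract.exists_standardSmooth_retract (R := Rₛ) (A := B')
  let g'' : Rₛ ⊗[R] A →ₐ[Rₛ] B'' := (IsScalarTower.toAlgHom Rₛ B' B'').comp g
  let h'' : B'' →ₐ[Rₛ] Rₛ ⊗[R] Λ := h.comp (r.restrictScalars Rₛ)
  refine Groth.Agent.H91.ElemStdLoc.delocalize_of_isStandardSmooth φ S g'' h'' ?_
  rw [← hgh]
  apply AlgHom.ext
  intro x
  change h (r (algebraMap B' B'' (g x))) = h (g x)
  rw [AlgHom.commutes]
  rfl

end Groth.Agent.S2029
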