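import Groth.Statements.S2032
import Groth.Agent.H20.ElemStd

set_option autoImplicit false
universe u
open Smoothing

namespace Groth.Agent.S2032

/-- For a finitely presented `R`-algebra `A` and `a ∈ A`, if `a` is elementary standard then `A_a` is
standard smooth over `R`. (Part (f), the converse for large powers of `a`, is not stated: as
published it fails, for example for the nodal cubic `A = {g ∈ ℚ[u] : g(0) = g(1)}` and `a =
u(u-1)`.) -/
theorem result {R A : Type u} [CommRing R] [CommRing A]
    [Algebra R A] [Algebra.FinitePresentation R A] (a : A)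
    (ha : Smoothing.IsElementaryStandard R A a) : Algebra.IsStandardSmooth R (Localization.Away a) := by
  classical
  obtain ⟨P, ⟨a₀, ha₀⟩, hKT⟩ := ha
  obtain ⟨a', ha'⟩ := P.surj a
  let f : Fin P.c → MvPolynomial (Fin P.n) R := fun j => P.rel (Fin.castLE P.hcm j)
  let I : Ideal (MvPolynomial (Fin P.n) R) := Ideal.span (Set.range P.rel)
  let F : Ideal (MvPolynomial (Fin P.n) R) := Ideal.span (Set.range f)
  have hIker : ∀ p, P.hom p = 0 ↔ p ∈ I := by
    intro p
    change p ∈ RingHom.ker P.hom.toRingHom ↔ _
    rw [P.ker_eq]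
  have himg : P.rel '' {j' : Fin P.m | (j' : ℕ) < P.c} = Set.range f := by
    ext x
    constructor
    · rintro ⟨j', hj', rfl⟩
      exact ⟨⟨j', hj'⟩, by simp [f, Fin.castLE]⟩
    · rintro ⟨j, rfl⟩
      exact ⟨Fin.castLE P.hcm j, by simp, rfl⟩
  have hFI : F ≤ I := by
    apply Ideal.span_mono
    rintro _ ⟨j, rfl⟩
    exact ⟨_, rfl⟩
  have hfg : I.FG := Submodule.fg_span (Set.finite_range _)
  have hmul : ∀ x ∈ I, a' * x ∈ F ⊔ I ^ 2 := by
    intro x hx
    induction hx using Submodule.span_induction with
    | mem x hx =>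
      obtain ⟨j, rfl⟩ := hx
      by_cases hj : (j : ℕ) < P.c
      · apply Ideal.mem_sup_left
        apply Ideal.mul_mem_left
        apply Ideal.subset_span
        rw [← himg]
        exact ⟨j, hj, rfl⟩
      · have := hKT a' ha' j (not_lt.1 hj)
        rw [himg] at this
        exact this
    | zero => simp
    | add x y _ _ hx hy => rw [mul_add]; exact Ideal.add_mem _ hx hy
    | smul r x _ hx =>
      rw [smul_eq_mul, mul_left_comm]
      exact Ideal.mul_mem_left _ _ hx
  obtain ⟨h, s, hh, hhs⟩ := Groth.Agent.H20.exists_mul_le_of_mul_le_sup_sq F I hFI hfg a' hmul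
  have hhom_h : P.hom h = a ^ s := by
    have : P.hom (h - a' ^ s) = 0 := (hIker _).2 hhs
    rw [map_sub, sub_eq_zero, map_pow, ha'] at this
    exact this
  have hg : P.hom (h * a') = a ^ (s + 1) := by
    rw [map_mul, hhom_h, ha', pow_succ]
  have hf : ∀ j, P.hom (f j) = 0 := by
    intro j
    rw [hIker]
    exact Ideal.subset_span ⟨_, rfl⟩
  have hgker : ∀ p, P.hom p = 0 → (h * a') * p ∈ Ideal.span (Set.range f) := by
    intro p hp
    rw [mul_right_comm]
    exact Ideal.mul_mem_right _ _ (hh p ((hIker p).1 hp))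
  have hΔ : IsUnit (algebraMap A (Localization.Away a)
      (P.hom (Matrix.det (Matrix.of fun j k' : Fin P.c => MvPolynomial.pderiv (Fin.castLE P.hcn k') (f j))))) := by
    have h1 : IsUnit (algebraMap A (Localization.Away a) a) :=
      IsLocalization.Away.algebraMap_isUnit a
    have h2 : algebraMap A (Localization.Away a) a =
        algebraMap A (Localization.Away a) a₀ * algebraMap A (Localization.Away a)
          (P.hom (Smoothing.jacobianMinor P.rel (Fin.castLE P.hcm) (Fin.castLE P.hcn))) :=
      (congrArg (algebraMap A (Localization.Away a)) ha₀).trans (map_mul _ _ _)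
    rw [h2] at h1
    exact isUnit_of_mul_isUnit_right h1
  exact Groth.Agent.H20.isStandardSmooth_away_of_presentation f (h * a') P.hom a (s + 1) hg hf hgker
    P.surj (Fin.castLE P.hcn) (Fin.castLE_injective P.hcn) (Nat.succ_ne_zero s) hΔ


end Groth.Agent.S2032
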