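import Groth.Statements.S2040
import Groth.Agent.H23.AdicOfFlat
import Groth.Agent.H23.AdicLocal
import Groth.Agent.S4514
import Groth.Agent.H96.GeomRegAdic
import Groth.Agent.H47.CohenArtin

set_option autoImplicit false
universe u
open CAlg

namespace Groth.Agent.S2040

open IsLocalRing TensorProduct


/-- For a complete Noetherian local ring `A` with residue field `k`, and a complete Noetherian local
`k`-algebra `B` which is formally smooth over `k` for the adic topology of its maximal ideal, there
is a Noetherian complete local ring `C` with a local homomorphism `A → C`, formally smooth for the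
adic topology of the maximal ideal of `C`, whose special fibre `C ⊗ k` is isomorphic to `B` over
`k`. -/
theorem result {A B : Type u} [CommRing A] [IsLocalRing A]
    [IsNoetherianRing A] [IsAdicComplete (IsLocalRing.maximalIdeal A) A] [CommRing B] [IsLocalRing B]
    [IsNoetherianRing B] [IsAdicComplete (IsLocalRing.maximalIdeal B) B]
    [Algebra (IsLocalRing.maximalIdeal A).ResidueField B]
    (hB : CAlgX.IsAdicFormallySmooth (IsLocalRing.maximalIdeal A).ResidueField B (IsLocalRing.maximalIdeal B)) :
    ∃ (C : Type u) (_ : CommRing C) (_ : IsLocalRing C) (_ : Algebra A C),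
      IsNoetherianRing C ∧ IsAdicComplete (IsLocalRing.maximalIdeal C) C ∧ IsLocalHom (algebraMap A C) ∧
        CAlgX.IsAdicFormallySmooth A C (IsLocalRing.maximalIdeal C) ∧
        Nonempty ((IsLocalRing.maximalIdeal A).Fiber C ≃ₐ[(IsLocalRing.maximalIdeal A).ResidueField] B) := by
  classical
  have hbij : Function.Bijective
      (algebraMap (A ⧸ maximalIdeal A) (maximalIdeal A).ResidueField) :=
    (maximalIdeal A).bijective_algebraMap_quotient_residueField
  -- the `A ⧸ 𝔪`-algebra structure on `B`
  letI algkB : Algebra (A ⧸ maximalIdeal A) B :=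
    ((algebraMap (maximalIdeal A).ResidueField B).comp
      (algebraMap (A ⧸ maximalIdeal A) (maximalIdeal A).ResidueField)).toAlgebra
  haveI : IsScalarTower (A ⧸ maximalIdeal A) (maximalIdeal A).ResidueField B :=
    IsScalarTower.of_algebraMap_eq' rfl
  have hB' : CAlgX.IsAdicFormallySmooth (A ⧸ maximalIdeal A) B (maximalIdeal B) :=
    (Groth.Agent.H23.AdicOfFlat.adic_iff_of_bijective hbij _).1 hB
  haveI : IsRegularLocalRing B :=
    Groth.Agent.H96.GeomRegAdic.regular_of_adic_field (maximalIdeal A).ResidueField B hB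
  letI : Algebra (ResidueField A) B := algkB
  obtain ⟨C, _, _, _, _, _, hcompl, hflat, ⟨e₀⟩⟩ := Groth.Agent.S4514.result (A := A) B
  haveI := hflat
  refine ⟨C, inferInstance, inferInstance, inferInstance, inferInstance, hcompl, inferInstance,
    ?_, ?_⟩
  · -- adic formal smoothness
    have hle : (maximalIdeal A).map (algebraMap A C) ≤ maximalIdeal C := by
      rw [Ideal.map_le_iff_le_comap]
      intro a ha
      rw [Ideal.mem_comap, mem_maximalIdeal, mem_nonunits_iff]
      intro hu
      exact (mem_maximalIdeal _).1 ha (isUnit_of_map_unit (algebraMap A C) a hu)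
    have hI : (maximalIdeal A).map (algebraMap A C) ≠ ⊤ := fun h' =>
      (maximalIdeal.isMaximal C).ne_top (top_le_iff.1 (h' ▸ hle))
    haveI : Nontrivial (C ⧸ (maximalIdeal A).map (algebraMap A C)) :=
      Ideal.Quotient.nontrivial_iff.2 hI
    haveI : IsLocalRing (C ⧸ (maximalIdeal A).map (algebraMap A C)) :=
      IsLocalRing.of_surjective' (Ideal.Quotient.mk _) Ideal.Quotient.mk_surjective
    have hmC : (maximalIdeal C).map (Ideal.Quotient.mk ((maximalIdeal A).map (algebraMap A C))) =
        maximalIdeal (C ⧸ (maximalIdeal A).map (algebraMap A C)) :=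
      Groth.Agent.H47.CohenArtin.map_maximalIdeal_of_surjective _ Ideal.Quotient.mk_surjective
    let e₁ : (C ⧸ (maximalIdeal A).map (algebraMap A C)) ≃ₐ[A ⧸ maximalIdeal A]
        (A ⧸ maximalIdeal A) ⊗[A] C :=
      Algebra.TensorProduct.quotIdealMapEquivQuotTensor C (maximalIdeal A)
    let e₀' : (A ⧸ maximalIdeal A) ⊗[A] C ≃ₐ[A ⧸ maximalIdeal A] B := e₀
    let e : (C ⧸ (maximalIdeal A).map (algebraMap A C)) ≃ₐ[A ⧸ maximalIdeal A] B := e₁.trans e₀'
    have he : ∀ y ∈ maximalIdeal B,
        e.symm y ∈ maximalIdeal (C ⧸ (maximalIdeal A).map (algebraMap A C)) := by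
      intro y hy
      rw [mem_maximalIdeal, mem_nonunits_iff] at hy ⊢
      intro hu
      exact hy ((isUnit_map_iff e.symm.toRingEquiv y).1 hu)
    have h₀ : CAlgX.IsAdicFormallySmooth (A ⧸ maximalIdeal A)
        (C ⧸ (maximalIdeal A).map (algebraMap A C))
        ((maximalIdeal C).map (Ideal.Quotient.mk ((maximalIdeal A).map (algebraMap A C)))) := by
      rw [hmC]
      exact Groth.Agent.H23.AdicLocal.adic_of_algEquiv e _ _ he hB'
    exact Groth.Agent.H23.AdicOfFlat.adic_of_flat h₀
  · -- the fibre
    let ι : (A ⧸ maximalIdeal A) ≃ₐ[A ⧸ maximalIdeal A] (maximalIdeal A).ResidueField :=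
      AlgEquiv.ofBijective (Algebra.ofId _ _) hbij
    let e₂ : (A ⧸ maximalIdeal A) ⊗[A] C ≃ₐ[A ⧸ maximalIdeal A] (maximalIdeal A).Fiber C :=
      Algebra.TensorProduct.congr ι AlgEquiv.refl
    let e₀' : (A ⧸ maximalIdeal A) ⊗[A] C ≃ₐ[A ⧸ maximalIdeal A] B := e₀
    let e₃ : (maximalIdeal A).Fiber C ≃ₐ[A ⧸ maximalIdeal A] B := e₂.symm.trans e₀'
    exact ⟨AlgEquiv.extendScalarsOfSurjective hbij.2 e₃⟩

end Groth.Agent.S2040
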