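import Groth.Statements.S2043
import Groth.Agent.H3.HfpHom
import Groth.Agent.H87.SmoothLiftHens

set_option autoImplicit false
universe u
open CAlg

namespace Groth.Agent.S2043

/-- Let `I ⊆ A` be an ideal, `B` a smooth `A`-algebra and `B → A/I` an `A`-algebra map. Then there is an
étale `A`-algebra `A'` with `A/I → A'/IA'` bijective and an `A`-algebra map `B → A'` lifting the
given map. -/
theorem result {A B : Type u} [CommRing A] [CommRing B] [Algebra A B]
    [Algebra.Smooth A B] (I : Ideal A) (σ : B →ₐ[A] A ⧸ I) :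
    ∃ (A' : Type u) (_ : CommRing A') (_ : Algebra A A'), Algebra.Etale A A' ∧
      Function.Bijective (algebraMap (A ⧸ I) (A' ⧸ I.map (algebraMap A A'))) ∧
      ∃ τ : B →ₐ[A] A', ∀ b : B,
        Ideal.Quotient.mk (I.map (algebraMap A A')) (τ b) =
          algebraMap (A ⧸ I) (A' ⧸ I.map (algebraMap A A')) (σ b) := by
  classical
  -- the henselization of the pair
  let H := Groth.Agent.H3.HensTower.Lim A I
  have hH : Hens2.IsPairHenselization A I H := Groth.Agent.H3.HensFlatMain.isPairHenselization_Lim A I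
  have hens : HenselianRing H (I.map (algebraMap A H)) := hH.1
  let κ : (A ⧸ I) →ₐ[A] H ⧸ I.map (algebraMap A H) :=
    Ideal.quotientMapₐ (I.map (algebraMap A H)) (Algebra.ofId A H) Ideal.le_comap_map
  obtain ⟨τH, hτH⟩ :=
    Groth.Agent.H87.SmoothHens.exists_lift_of_smooth_of_henselian H hens B (κ.comp σ)
  -- a presentation of `B`
  obtain ⟨n, f, hf, rs, hrs⟩ := Algebra.FinitePresentation.out (R := A) (A := B)
  let c : Fin n → H := fun i => τH (f (MvPolynomial.X i))
  have hc : ∀ p : MvPolynomial (Fin n) A,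
      MvPolynomial.eval₂ ((algebraMap A H).comp (algebraMap A A)) c p = τH (f p) := by
    intro p
    have h1 : (MvPolynomial.aeval c : MvPolynomial (Fin n) A →ₐ[A] H) = τH.comp f := by
      apply MvPolynomial.algHom_ext
      intro i
      rw [MvPolynomial.aeval_X, AlgHom.comp_apply]
    have h2 := congrArg (fun g : MvPolynomial (Fin n) A →ₐ[A] H => g p) h1
    simp only [AlgHom.comp_apply] at h2
    rw [← h2, MvPolynomial.aeval_def]
    rfl
  have hrs0 : ∀ r ∈ rs, MvPolynomial.eval₂ ((algebraMap A H).comp (algebraMap A A)) c r = 0 := by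
    intro r hr
    rw [hc]
    have h1 : r ∈ RingHom.ker f.toRingHom := by
      rw [← hrs]
      exact Ideal.subset_span hr
    have h2 : f r = 0 := h1
    rw [h2, map_zero]
  obtain ⟨A', _, _, hN, φ, s, hφs, hs0⟩ :=
    Groth.Agent.H3.HfpHom.exists_nbhd_eval_eq_zero (A₀ := A) hH c rs hrs0
  have hAet : Algebra.Etale A A' := hN.etale
  -- the map `B → A'`
  let τ₀ : MvPolynomial (Fin n) A →ₐ[A] A' := MvPolynomial.aeval s
  have hτ₀ : ∀ p, τ₀ p = MvPolynomial.eval₂ ((algebraMap A A').comp (algebraMap A A)) s p := by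
    intro p
    change MvPolynomial.aeval s p = _
    rw [MvPolynomial.aeval_def]
    rfl
  have hker : RingHom.ker f.toRingHom ≤ RingHom.ker τ₀.toRingHom := by
    rw [← hrs, Ideal.span_le]
    intro r hr
    change τ₀ r = 0
    rw [hτ₀]
    exact hs0 r hr
  let τ : B →ₐ[A] A' := AlgHom.liftOfSurjective f hf τ₀ (fun p hp => hker hp)
  have hτ : ∀ p, τ (f p) = τ₀ p := fun p => AlgHom.liftOfSurjective_apply f hf τ₀ _ p
  have hφτ : ∀ b, φ (τ b) = τH b := by
    intro b
    obtain ⟨p, rfl⟩ := hf b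
    have h1 : (φ.comp τ₀ : MvPolynomial (Fin n) A →ₐ[A] H) = τH.comp f := by
      apply MvPolynomial.algHom_ext
      intro i
      rw [AlgHom.comp_apply, AlgHom.comp_apply]
      change φ (MvPolynomial.aeval s (MvPolynomial.X i)) = _
      rw [MvPolynomial.aeval_X, hφs]
    have h2 := congrArg (fun g : MvPolynomial (Fin n) A →ₐ[A] H => g p) h1
    simp only [AlgHom.comp_apply] at h2
    rw [hτ, h2]
  -- injectivity modulo `I`
  have hinj : ∀ x : A', φ x ∈ I.map (algebraMap A H) → x ∈ I.map (algebraMap A A') := by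
    intro x hx
    obtain ⟨a, ha⟩ := hN.surj x
    have h1 : φ (x - algebraMap A A' a) ∈ I.map (algebraMap A H) :=
      Groth.Agent.H3.EtNbhd.algHom_mem_of_mem φ ha
    rw [map_sub, AlgHom.commutes] at h1
    have h2 : algebraMap A H a ∈ I.map (algebraMap A H) := by
      have h3 := Ideal.sub_mem _ hx h1
      rwa [sub_sub_cancel] at h3
    have h4 : a ∈ I := Groth.Agent.H3.PairHens.mem_of_algebraMap_mem hH h2
    have h5 : x = (x - algebraMap A A' a) + algebraMap A A' a := by ring
    rw [h5]
    exact Ideal.add_mem _ ha (Ideal.mem_map_of_mem _ h4)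
  refine ⟨A', inferInstance, inferInstance, hAet, ?_, τ, ?_⟩
  · exact (Groth.Agent.H3.EtNbhd.isNbhd_iff_bijective A').mp hN
  · intro b
    obtain ⟨a, ha⟩ := Ideal.Quotient.mk_surjective (σ b)
    rw [← ha]
    change _ = Ideal.Quotient.mk _ (algebraMap A A' a)
    rw [Ideal.Quotient.eq]
    apply hinj
    rw [map_sub, hφτ, AlgHom.commutes, ← Ideal.Quotient.eq, hτH, AlgHom.comp_apply, ← ha]
    rfl

end Groth.Agent.S2043
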