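import Groth.Statements.S6880
import Groth.Agent.H34.SkHom

set_option autoImplicit false
universe u
open CAlg

namespace Groth.Agent.S6880

/-- Let `R` be a Noetherian domain and `M` a finite reflexive `R`-module. For a prime `𝔭` with
`depth(R_𝔭) ≥ 2` one has `depth(M_𝔭) ≥ 2`; and if `R` has `(S_2)` then `M` has `(S_2)`. -/
theorem result (R : Type u) [CommRing R] [IsDomain R] [IsNoetherianRing R] (M : Type u)
    [AddCommGroup M] [Module R M] [Module.Finite R M] [Module.IsReflexive R M] :
    (∀ (p : Ideal R) [p.IsPrime], 2 ≤ LocCoh.depth (Localization.AtPrime p) (Localization.AtPrime p) →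
      2 ≤ LocCoh.depth (Localization.AtPrime p) (LocalizedModule p.primeCompl M)) ∧
    (LocCoh.HasSk 2 R R → LocCoh.HasSk 2 R M) := by
  constructor
  · intro p hp h
    have hrefl := Groth.Agent.H34.isReflexive_localization_atPrime R M p
    have : IsNoetherian (Localization.AtPrime p) (Localization.AtPrime p) := inferInstance
    have : Module.Finite (Localization.AtPrime p)
        (Module.Dual (Localization.AtPrime p) (LocalizedModule p.primeCompl M)) := inferInstance
    have h3 := Groth.Agent.H34.min_two_depth_le_depth_hom (A := Localization.AtPrime p)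
      (Module.Dual (Localization.AtPrime p) (LocalizedModule p.primeCompl M))
      (Localization.AtPrime p)
    rw [min_eq_left h] at h3
    unfold LocCoh.depth at h3 ⊢
    rw [Groth.Agent.H34.idealDepth_congr
      (Module.evalEquiv (Localization.AtPrime p) (LocalizedModule p.primeCompl M))]
    exact h3
  · intro h
    have : IsNoetherian R R := inferInstance
    have : Module.Finite R (Module.Dual R M) := inferInstance
    exact Groth.Agent.H34.hasSk_congr (Module.evalEquiv R M).symm 2
      (Groth.Agent.H34.hasSk_hom (Module.Dual R M) R 2 le_rfl h)

end Groth.Agent.S6880
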