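import Groth.Statements.S2054
import Mathlib
import Groth.Agent.H11.ReflS2
import Groth.Agent.S6879
import Groth.Agent.S6880

set_option autoImplicit false
universe u
open CAlg

namespace Groth.Agent.S2054

/-- Let `R` be a Noetherian normal domain and `M` a finite `R`-module. Then `M` is reflexive (the map to
its double dual is bijective) if and only if `M` is torsion free and satisfies Serre's condition
`(S_2)`. -/
theorem result {R M : Type u} [CommRing R] [IsDomain R] [IsNoetherianRing R]
    [IsIntegrallyClosed R] [AddCommGroup M] [Module R M] [Module.Finite R M] :
    Module.IsReflexive R M ↔ NoZeroSMulDivisors R M ∧ LocCoh.HasSk 2 R M := by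
  classical
  constructor
  · intro hrefl
    haveI := hrefl
    refine ⟨?_, (Groth.Agent.S6880.result R M).2 Groth.Agent.H11.ReflS2.hasSk_two_self⟩
    have htf : Module.IsTorsionFree R M := Groth.Agent.H34.isTorsionFree_of_isReflexive R M
    exact ⟨fun {c x} h => (Module.isTorsionFree_iff_smul_eq_zero.mp htf) c x h⟩
  · rintro ⟨hnz, hS2⟩
    haveI := hnz
    rw [Groth.Agent.S6879.result R M]
    intro p hp
    by_cases ht : p.height ≤ 1
    · left
      haveI := Groth.Agent.H11.ReflS2.isPrincipalIdealRing_of_height_le_one p ht
      haveI : Module.IsTorsionFree (Localization.AtPrime p) (LocalizedModule p.primeCompl M) :=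
        inferInstance
      haveI : Module.Finite (Localization.AtPrime p) (LocalizedModule p.primeCompl M) :=
        inferInstance
      haveI : Module.Free (Localization.AtPrime p) (LocalizedModule p.primeCompl M) :=
        inferInstance
      infer_instance
    · by_cases hM : Subsingleton M
      · left
        haveI : Subsingleton (LocalizedModule p.primeCompl M) :=
          LocalizedModule.instSubsingleton _
        infer_instance
      · right
        haveI : Nontrivial M := not_subsingleton_iff_nontrivial.mp hM
        have hsupp : Module.support R M = Set.univ := Module.support_of_noZeroSMulDivisors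
        have h2 : (2 : ℕ∞) ≤ p.height := by
          rw [not_le] at ht
          have := Order.add_one_le_of_lt ht
          simpa [one_add_one_eq_two] using this
        have := hS2 p
        rw [Groth.Agent.H14.ZClos.supportDim_localization hsupp p] at this
        have hk : ((2 : ℕ) : WithBot ℕ∞) = ((2 : ℕ∞) : WithBot ℕ∞) := rfl
        rw [hk, ← WithBot.coe_min, WithBot.coe_le_coe, min_eq_left h2] at this
        exact this


end Groth.Agent.S2054
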