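import Groth.Statements.S2055
import Groth.Agent.H11.TorsionHom

set_option autoImplicit false
universe u
open CAlg

namespace Groth.Agent.S2055

open TensorProduct in
/-- Let `R → S` be flat and `I ⊆ R` a finitely generated ideal with `R/I → S/IS` bijective. If one of
the `R`-modules `M`, `N` has every element killed by a power of `I`, then base change of linear maps
`Hom_R(M, N) → Hom_S(S ⊗ M, S ⊗ N)` is bijective. -/
theorem result {R S M N : Type u} [CommRing R] [CommRing S]
    [Algebra R S] [Module.Flat R S] (I : Ideal R) (hI : I.FG)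
    (hq : Function.Bijective (algebraMap (R ⧸ I) (S ⧸ I.map (algebraMap R S))))
    [AddCommGroup M] [Module R M] [AddCommGroup N] [Module R N]
    (hMN : (∀ x : M, ∃ n : ℕ, ∀ a ∈ I ^ n, a • x = 0) ∨ (∀ y : N, ∃ n : ℕ, ∀ a ∈ I ^ n, a • y = 0)) :
    Function.Bijective (fun f : M →ₗ[R] N => LinearMap.baseChange S f) := by
  classical
  have hQ : Groth.Agent.H10.QuotBij R S I := Groth.Agent.H11.TorsionHom.quotBij_of_bijective I hq
  have hsm : ∀ (g : S ⊗[R] M →ₗ[S] S ⊗[R] N) (s : S) (m : M),
      g (s ⊗ₜ[R] m) = s • g ((1 : S) ⊗ₜ[R] m) := by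
    intro g s m
    rw [← map_smul, TensorProduct.smul_tmul', smul_eq_mul, mul_one]
  have hst : ∀ (s : S) (y : N), s ⊗ₜ[R] y = s • ((1 : S) ⊗ₜ[R] y) := by
    intro s y
    rw [TensorProduct.smul_tmul', smul_eq_mul, mul_one]
  rcases hMN with hM | hN
  · -- `M` is power torsion
    constructor
    · intro f f' hff
      ext m
      obtain ⟨n, hn⟩ := hM m
      have h1 : (1 : S) ⊗ₜ[R] (f m - f' m) = 0 := by
        have := LinearMap.congr_fun hff ((1 : S) ⊗ₜ[R] m)
        simp only [LinearMap.baseChange_tmul] at this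
        rw [TensorProduct.tmul_sub, this, sub_self]
      have h2 : f m - f' m ∈ Groth.Agent.H11.TorsionHom.powTorsion I N := by
        refine ⟨n, fun a ha => ?_⟩
        rw [smul_sub, ← map_smul, ← map_smul, hn a ha, map_zero, map_zero, sub_zero]
      exact sub_eq_zero.mp
        (Groth.Agent.H11.TorsionHom.eq_zero_of_tmul_eq_zero I hQ _ h2 h1)
    · intro g
      let T := Groth.Agent.H11.TorsionHom.powTorsion I N
      let θ : T →ₗ[R] S ⊗[R] N := (LinearMap.lTensor S T.subtype) ∘ₗ (TensorProduct.mk R S T 1)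
      have hθa : ∀ y : T, θ y = (1 : S) ⊗ₜ[R] (y : N) := fun y => by
        simp [θ]
      have hθ : Function.Injective θ := by
        rw [← LinearMap.ker_eq_bot, LinearMap.ker_eq_bot']
        intro y hy
        rw [hθa] at hy
        exact Subtype.ext
          (Groth.Agent.H11.TorsionHom.eq_zero_of_tmul_eq_zero I hQ _ y.2 hy)
      let ψ : M →ₗ[R] S ⊗[R] N := (g.restrictScalars R) ∘ₗ (TensorProduct.mk R S M 1)
      have hψ : ∀ m, ψ m ∈ LinearMap.range θ := by
        intro m
        obtain ⟨n, hn⟩ := hM m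
        have hz : ∀ a ∈ I ^ n, a • ψ m = 0 := by
          intro a ha
          rw [← map_smul, hn a ha, map_zero]
        obtain ⟨y, hy, hyz⟩ :=
          Groth.Agent.H11.TorsionHom.exists_tmul_eq I hQ hI n (ψ m) hz
        exact ⟨⟨y, n, hy⟩, (hθa _).trans hyz⟩
      let e := LinearEquiv.ofInjective θ hθ
      let f : M →ₗ[R] N := T.subtype ∘ₗ e.symm.toLinearMap ∘ₗ (LinearMap.codRestrict _ ψ hψ)
      refine ⟨f, ?_⟩
      apply TensorProduct.AlgebraTensorModule.ext
      intro s m
      change LinearMap.baseChange S f (s ⊗ₜ[R] m) = g (s ⊗ₜ[R] m)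
      rw [LinearMap.baseChange_tmul, hsm, hst]
      congr 1
      have h1 : (1 : S) ⊗ₜ[R] f m = θ (e.symm (LinearMap.codRestrict _ ψ hψ m)) := by
        rw [hθa]; rfl
      rw [h1]
      have h2 : θ (e.symm (LinearMap.codRestrict _ ψ hψ m)) =
          ((e (e.symm (LinearMap.codRestrict _ ψ hψ m)) : LinearMap.range θ) : S ⊗[R] N) := rfl
      rw [h2, LinearEquiv.apply_symm_apply]
      rfl
  · -- `N` is power torsion
    have hbij := Groth.Agent.H10.mk_bijective_of_pow_torsion (S := S) I hQ N hN
    constructor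
    · intro f f' hff
      ext m
      have := LinearMap.congr_fun hff ((1 : S) ⊗ₜ[R] m)
      simp only [LinearMap.baseChange_tmul] at this
      exact hbij.1 this
    · intro g
      let e := LinearEquiv.ofBijective (TensorProduct.mk R S N 1) hbij
      let f : M →ₗ[R] N := e.symm.toLinearMap ∘ₗ (g.restrictScalars R) ∘ₗ (TensorProduct.mk R S M 1)
      refine ⟨f, ?_⟩
      apply TensorProduct.AlgebraTensorModule.ext
      intro s m
      change LinearMap.baseChange S f (s ⊗ₜ[R] m) = g (s ⊗ₜ[R] m)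
      rw [LinearMap.baseChange_tmul, hsm, hst]
      congr 1
      have h1 : (1 : S) ⊗ₜ[R] f m = e (f m) := rfl
      rw [h1]
      have h2 : e (f m) = e (e.symm (g ((1 : S) ⊗ₜ[R] m))) := rfl
      rw [h2, LinearEquiv.apply_symm_apply]


end Groth.Agent.S2055
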