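import Groth.Statements.S2059
import Groth.Agent.H11.CardJac

set_option autoImplicit false
universe u
open CAlg

namespace Groth.Agent.S2059

/-- Let `k` be a field and `S` a `k`-algebra generated by a set of cardinality smaller than that of `k`.
Then for every maximal ideal `𝔪` of `S` the residue field `S/𝔪` is algebraic over `k`, and `S` is a
Jacobson ring. -/
theorem result {k S : Type u} [Field k] [CommRing S] [Algebra k S]
    (s : Set S) (hs : Algebra.adjoin k s = ⊤) (hcard : Cardinal.mk s < Cardinal.mk k) :
    (∀ (m : Ideal S) [m.IsMaximal], Algebra.IsAlgebraic k (S ⧸ m)) ∧ IsJacobsonRing S := by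
  classical
  by_cases hfin : s.Finite
  · haveI : Algebra.FiniteType k S := ⟨⟨hfin.toFinset, by simpa using hs⟩⟩
    refine ⟨?_, isJacobsonRing_of_finiteType (A := k)⟩
    intro m hm
    letI := Ideal.Quotient.field m
    haveI : Algebra.FiniteType k (S ⧸ m) :=
      Algebra.FiniteType.of_surjective (Ideal.Quotient.mkₐ k m) (Ideal.Quotient.mkₐ_surjective k m)
    haveI := finite_of_finite_type_of_isJacobsonRing k (S ⧸ m)
    exact Algebra.IsAlgebraic.of_finite k (S ⧸ m)
  · have hinf : s.Infinite := hfin
    haveI : Infinite s := Set.infinite_coe_iff.mpr hinf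
    let Φ : MvPolynomial s k →ₐ[k] S := MvPolynomial.aeval (Subtype.val : s → S)
    have hΦ : Function.Surjective Φ := by
      rw [← AlgHom.range_eq_top, ← Algebra.adjoin_range_eq_range_aeval, Subtype.range_coe]
      exact hs
    refine ⟨?_, Groth.Agent.H11.CardJac.isJacobsonRing_of_surjective Φ hΦ hcard⟩
    intro m hm
    exact Groth.Agent.H11.CardJac.isAlgebraic_quotient Φ hΦ hcard m


end Groth.Agent.S2059
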