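import Groth.Statements.S2064
import Groth.Agent.H11.DepthSeq
import Mathlib

set_option autoImplicit false
universe u
open CategoryTheory
open CAlg

namespace Groth.Agent.S2064

/-- Let `R` be a Noetherian local ring and `0 → M_e → M_{e-1} → … → M_0` a complex of finite `R`-modules
with `depth(M_j) ≥ j`. If `i > 0` is the largest index at which the complex is not exact, then the
homology at `M_i` has depth at least one. -/
theorem result {R : Type u} [CommRing R] [IsLocalRing R] [IsNoetherianRing R]
    (C : ChainComplex (ModuleCat.{u} R) ℕ) (e : ℕ) (hzero : ∀ j, e < j → Limits.IsZero (C.X j))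
    (hfin : ∀ j, Module.Finite R (C.X j)) (hdepth : ∀ j, j ≤ e → (j : ℕ∞) ≤ LocCoh.depth R (C.X j))
    (i : ℕ) (hi : 0 < i) (hnot : ¬ C.ExactAt i) (habove : ∀ j, i < j → C.ExactAt j) :
    1 ≤ LocCoh.depth R (C.homology i) := by
  classical
  obtain ⟨i', rfl⟩ : ∃ i', i = i' + 1 := ⟨i - 1, by omega⟩
  haveI : ∀ j, IsNoetherian R (C.X j) := fun j =>
    haveI := hfin j
    isNoetherian_of_isNoetherianRing_of_finite R _
  have hfin' : ∀ j, Module.Finite R (C.X j) := hfin
  -- exactness above
  have hex : ∀ l, i' < l →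
      LinearMap.range (C.d (l + 2) (l + 1)).hom = LinearMap.ker (C.d (l + 1) l).hom := by
    intro l hl
    have h1 := habove (l + 1) (by omega)
    rw [C.exactAt_iff' (l + 2) (l + 1) l (by simp) (by simp)] at h1
    exact (ShortComplex.moduleCat_exact_iff_range_eq_ker _).1 h1
  have hie : i' + 1 ≤ e := by
    by_contra hcon
    exact hnot (ShortComplex.exact_of_isZero_X₂ _ (hzero _ (by omega)))
  -- depth of boundaries
  have claim : ∀ k l, i' ≤ l → e ≤ l + 1 + k →
      ((l + 2 : ℕ) : ℕ∞) ≤ LocCoh.depth R (LinearMap.range (C.d (l + 2) (l + 1)).hom) := by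
    have hzero_case : ∀ l, e ≤ l + 1 →
        ((l + 2 : ℕ) : ℕ∞) ≤ LocCoh.depth R (LinearMap.range (C.d (l + 2) (l + 1)).hom) := by
      intro l hl
      have hz := hzero (l + 2) (by omega)
      haveI : Subsingleton (C.X (l + 2)) := ModuleCat.subsingleton_of_isZero hz
      haveI : Subsingleton (LinearMap.range (C.d (l + 2) (l + 1)).hom) := by
        refine ⟨fun a b => Subtype.ext ?_⟩
        obtain ⟨x, hx⟩ := a.2
        obtain ⟨y, hy⟩ := b.2
        rw [← hx, ← hy, Subsingleton.elim x y]
      rw [Groth.Agent.H11.DepthSeq.depth_eq_top_of_subsingleton]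
      exact le_top
    intro k
    induction k with
    | zero => intro l _ hl; exact hzero_case l (by omega)
    | succ k ih =>
      intro l hil hl
      by_cases hle : e ≤ l + 1
      · exact hzero_case l hle
      · have ih' := ih (l + 1) (by omega) (by omega)
        have hx := hex (l + 1) (by omega)
        have hA : ((l + 2 + 1 : ℕ) : ℕ∞) ≤
            LocCoh.depth R (LinearMap.ker (C.d (l + 2) (l + 1)).hom) := by
          rw [← hx]
          exact ih'
        have hB : ((l + 2 : ℕ) : ℕ∞) ≤ LocCoh.depth R (C.X (l + 2)) :=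
          hdepth (l + 2) (by omega)
        exact Groth.Agent.H11.DepthSeq.le_depth_of_exact
          (LinearMap.ker (C.d (l + 2) (l + 1)).hom).subtype
          (C.d (l + 2) (l + 1)).hom.rangeRestrict
          (Submodule.subtype_injective _) (LinearMap.surjective_rangeRestrict _)
          (by
            intro y
            constructor
            · intro h
              have h' : (C.d (l + 2) (l + 1)).hom y = 0 := by
                have := congrArg Subtype.val h
                simpa using this
              exact ⟨⟨y, LinearMap.mem_ker.mpr h'⟩, rfl⟩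
            · rintro ⟨z, rfl⟩
              exact Subtype.ext (by simp))
          (l + 2) hA hB
  -- the homology
  let S := C.sc' (i' + 2) (i' + 1) i'
  have hdd : LinearMap.range (C.d (i' + 2) (i' + 1)).hom ≤ LinearMap.ker (C.d (i' + 1) i').hom := by
    rintro _ ⟨x, rfl⟩
    rw [LinearMap.mem_ker]
    have h := congrArg ModuleCat.Hom.hom (C.d_comp_d (i' + 2) (i' + 1) i')
    exact LinearMap.congr_fun h x
  have h2 : ((1 + 1 : ℕ) : ℕ∞) ≤
      LocCoh.depth R (LinearMap.range (C.d (i' + 2) (i' + 1)).hom) := by
    refine le_trans ?_ (claim e i' le_rfl (by omega))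
    exact_mod_cast (by omega : 1 + 1 ≤ i' + 2)
  have h1 : ((1 : ℕ) : ℕ∞) ≤ LocCoh.depth R (LinearMap.ker (C.d (i' + 1) i').hom) := by
    have h0 : 1 ≤ LocCoh.depth R (C.X (i' + 1)) := by
      refine le_trans ?_ (hdepth (i' + 1) hie)
      exact_mod_cast (by omega : 1 ≤ i' + 1)
    exact_mod_cast Groth.Agent.H72.DepthExt.one_le_idealDepth_ker
      (IsLocalRing.maximalIdeal R) (C.d (i' + 1) i').hom h0
  have h1' : ((1 : ℕ) : ℕ∞) ≤ LocCoh.depth R (LinearMap.ker S.g.hom) := h1
  have h2' : ((1 + 1 : ℕ) : ℕ∞) ≤ LocCoh.depth R (LinearMap.range S.f.hom) := h2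
  have hdd' : LinearMap.range S.f.hom ≤ LinearMap.ker S.g.hom := hdd
  haveI : Module.Finite R (LinearMap.ker S.g.hom) :=
    (inferInstance : Module.Finite R (LinearMap.ker (C.d (i' + 1) i').hom))
  haveI : Module.Finite R (LinearMap.range S.f.hom) :=
    (inferInstance : Module.Finite R (LinearMap.range (C.d (i' + 2) (i' + 1)).hom))
  have hH : ((1 : ℕ) : ℕ∞) ≤ LocCoh.depth R S.moduleCatLeftHomologyData.H := by
    change ((1 : ℕ) : ℕ∞) ≤ LocCoh.depth R
      (LinearMap.ker S.g.hom ⧸ LinearMap.range S.moduleCatToCycles)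
    exact Groth.Agent.H11.DepthSeq.le_depth_of_exact
      (Submodule.inclusion hdd')
      (LinearMap.range S.moduleCatToCycles).mkQ
      (Submodule.inclusion_injective hdd') (Submodule.mkQ_surjective _)
      (by
        intro y
        rw [Submodule.mkQ_apply, Submodule.Quotient.mk_eq_zero]
        constructor
        · rintro ⟨x, hx⟩
          refine ⟨⟨y.1, ⟨x, ?_⟩⟩, Subtype.ext rfl⟩
          have := congrArg Subtype.val hx
          simpa using this
        · rintro ⟨⟨b, ⟨x, hx⟩⟩, hb⟩
          refine ⟨x, Subtype.ext ?_⟩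
          have := congrArg Subtype.val hb
          simp only [Submodule.coe_inclusion] at this
          rw [← this, ← hx]
          rfl)
      1 h2' h1'
  let eqv := (C.homologyIsoSc' (i' + 2) (i' + 1) i' (by simp) (by simp) ≪≫
    S.moduleCatHomologyIso).toLinearEquiv
  have := Groth.Agent.H15.idealDepth_congr eqv (IsLocalRing.maximalIdeal R)
  unfold LocCoh.depth at hH ⊢
  rw [this]
  exact_mod_cast hH


end Groth.Agent.S2064
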