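import Groth.Statements.S2076
import Groth.Agent.H24.LimitClosedImmStage

set_option autoImplicit false
universe u
open CategoryTheory AlgebraicGeometry
open Lim

namespace Groth.Agent.S2076

/-- Let `X = lim X_i` be a cofiltered limit of quasi-compact schemes over `S` with affine transition
morphisms and `h : Y → X` a closed immersion with `Y → S` locally of finite type. Then `Y → X_i` is
a closed immersion for some `i`. -/
theorem result {I : Type u} [SmallCategory I] [IsCofiltered I] (S : Scheme.{u})
    (D : I ⥤ Over S) (c : Limits.Cone D) (hc : Limits.IsLimit c)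
    [∀ (i j : I) (f : i ⟶ j), IsAffineHom (D.map f).left] [∀ i, CompactSpace (D.obj i).left]
    {Y : Scheme.{u}} (h : Y ⟶ c.pt.left) [IsClosedImmersion h] [LocallyOfFiniteType (h ≫ c.pt.hom)] :
    ∃ i : I, IsClosedImmersion (h ≫ (c.π.app i).left) := by
  open Limits in
  have haff : ∀ {i j : I} (f : i ⟶ j), IsAffineHom ((D ⋙ Over.forget S).map f) := fun f => by
    dsimp; infer_instance
  have hc' : IsLimit ((Over.forget S).mapCone c) := isLimitOfPreserves (Over.forget S) hc
  let i₀ : I := (IsCofiltered.nonempty (C := I)).some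
  have hcomp : CompactSpace ((D ⋙ Over.forget S).obj i₀) :=
    ‹∀ i, CompactSpace (D.obj i).left› i₀
  let h' : Y ⟶ ((Over.forget S).mapCone c).pt := h
  have hcl : IsClosedImmersion h' := ‹IsClosedImmersion h›
  have hlft : LocallyOfFiniteType (h' ≫ ((Over.forget S).mapCone c).π.app i₀) := by
    have h1 : (h ≫ (c.π.app i₀).left) ≫ (D.obj i₀).hom = h ≫ c.pt.hom := by
      rw [Category.assoc, Over.w]
      rfl
    have h2 : LocallyOfFiniteType ((h ≫ (c.π.app i₀).left) ≫ (D.obj i₀).hom) := by
      rw [h1]; infer_instance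
    exact locallyOfFiniteType_of_comp (h ≫ (c.π.app i₀).left) (D.obj i₀).hom
  obtain ⟨j, hj⟩ := Groth.Agent.H24.exists_isClosedImmersion_comp_π (D := D ⋙ Over.forget S)
    (c := (Over.forget S).mapCone c) hc' i₀ h'
  exact ⟨j.left, hj⟩

end Groth.Agent.S2076
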