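import Groth.Statements.S2080
import Groth.Agent.H20.GenericFinite

set_option autoImplicit false
universe u
open CategoryTheory AlgebraicGeometry
open Mor

namespace Groth.Agent.S2080

/-- Let `f : X → Y` be locally of finite type, quasi-compact and quasi-separated, and `η` a generic
point of an irreducible component of `Y`. Then `f⁻¹{η}` is finite if and only if there is an affine
open `V ∋ η` such that `f⁻¹(V) → V` is finite. -/
theorem result {X Y : Scheme.{u}} (f : X ⟶ Y) [LocallyOfFiniteType f]
    [QuasiCompact f] [QuasiSeparated f] (η : Y) (hη : closure {η} ∈ irreducibleComponents (Y : Type u)) :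
    (f.base ⁻¹' {η}).Finite ↔ ∃ V : Y.Opens, IsAffineOpen V ∧ η ∈ V ∧ IsFinite (f ∣_ V) := by
  constructor
  · intro hfin
    obtain ⟨V, hV, hηV, -, hfinite⟩ :=
      Groth.Agent.H20.exists_isFinite_morphismRestrict_of_finite_fiber f hη hfin ⊤ trivial
    exact ⟨V, hV, hηV, hfinite⟩
  · rintro ⟨V, -, hηV, hfinite⟩
    exact Groth.Agent.H20.finite_fiber_of_isFinite_morphismRestrict f hηV

end Groth.Agent.S2080
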