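import Groth.Statements.S2089
import Groth.Agent.H72.Ischebeck
import Groth.Agent.H72.DepthCM

set_option autoImplicit false
universe u
open CAlg

namespace Groth.Agent.S2089

/-- Let `R` be a Noetherian local ring and `M` a finite `R`-module. For every associated prime `𝔭` of
`M` the depth of `M` is at most the dimension of `R/𝔭`. -/
theorem result {R M : Type u} [CommRing R] [IsLocalRing R] [IsNoetherianRing R]
    [AddCommGroup M] [Module R M] [Module.Finite R M] (p : Ideal R) (hp : p ∈ associatedPrimes R M) :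
    ((LocCoh.depth R M : ℕ∞) : WithBot ℕ∞) ≤ ringKrullDim (R ⧸ p) := by
  classical
  obtain ⟨hprime, x, hx⟩ := (isAssociatedPrime_iff).mp hp
  have hxmem : ∀ r, r ∈ p ↔ r • x = 0 := by
    intro r; rw [hx, Submodule.mem_colon_singleton, Submodule.mem_bot]
  have hx0 : x ≠ 0 := by
    intro h0; apply hprime.ne_top; rw [Ideal.eq_top_iff_one, hxmem, h0, smul_zero]
  haveI : Nontrivial M := ⟨⟨x, 0, hx0⟩⟩
  have h1 := Groth.Agent.H72.DepthCM.depth_le_supportDim (A := R) M
  have h2 : Module.supportDim R M ≤ ringKrullDim R := Module.supportDim_le_ringKrullDim R M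
  have h3 : ringKrullDim R < ⊤ := ringKrullDim_lt_top
  have hdfin : LocCoh.depth R M ≠ ⊤ := by
    intro htop
    rw [htop] at h1
    exact absurd (lt_of_le_of_lt (h1.trans h2) h3) (by simp)
  obtain ⟨d, hd⟩ := ENat.ne_top_iff_exists.mp hdfin
  by_contra hlt
  rw [not_le, ← hd] at hlt
  haveI : Nontrivial (R ⧸ p) := Ideal.Quotient.nontrivial_iff.mpr hprime.ne_top
  have hnb : ringKrullDim (R ⧸ p) ≠ ⊥ := by
    intro hb
    have h0 : (0 : WithBot ℕ∞) ≤ ringKrullDim (R ⧸ p) := ringKrullDim_nonneg_of_nontrivial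
    rw [hb] at h0
    exact absurd h0 (by simp)
  obtain ⟨e, he⟩ := WithBot.ne_bot_iff_exists.mp hnb
  rw [← he] at hlt
  have hlt' : e < (d : ℕ∞) := by exact_mod_cast hlt
  obtain ⟨r, hr⟩ := ENat.ne_top_iff_exists.mp (ne_top_of_lt hlt')
  rw [← hr] at hlt'
  have hrd : r < d := by exact_mod_cast hlt'
  have hsup : Module.supportDim R (R ⧸ p) ≤ ((r : ℕ) : WithBot ℕ∞) := by
    rw [Module.supportDim_quotient_eq_ringKrullDim, ← he, ← hr]
    rfl
  have hsub := Groth.Agent.H72.Ischebeck.main (A := R) M d hd.symm r (R ⧸ p) hsup 0 (by omega)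
  -- a nonzero map R/p → M
  let f : (R ⧸ p) →ₗ[R] M := Submodule.liftQ p (LinearMap.toSpanSingleton R M x) (by
    intro a ha
    rw [LinearMap.mem_ker, LinearMap.toSpanSingleton_apply]
    exact (hxmem a).mp ha)
  have hf1 : f (Ideal.Quotient.mk p 1) = x := by
    change f (Submodule.Quotient.mk 1) = x
    rw [Submodule.liftQ_apply, LinearMap.toSpanSingleton_apply, one_smul]
  have := hsub.elim (CategoryTheory.Abelian.Ext.mk₀ (ModuleCat.ofHom f))
    (CategoryTheory.Abelian.Ext.mk₀ (ModuleCat.ofHom (0 : (R ⧸ p) →ₗ[R] M)))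
  have h4 := (CategoryTheory.Abelian.Ext.mk₀_bijective _ _).1 this
  have h5 : f = 0 := by
    have := congrArg ModuleCat.Hom.hom h4
    simpa using this
  rw [h5] at hf1
  exact hx0 hf1.symm


end Groth.Agent.S2089
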