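import Groth.Statements.S2083
import Groth.Agent.S2089
import Groth.Agent.H15.Depth

set_option autoImplicit false
universe u
open CAlg

namespace Groth.Agent.S2083

/-- Let `R` be a Noetherian local ring, `M` a finite Cohen–Macaulay `R`-module and `g` a member of the
maximal ideal for which the support of `M/gM` has dimension exactly one less than that of `M`. Then
`g` is a nonzerodivisor on `M`, and the quotient `M/gM` is again Cohen–Macaulay, with depth one
smaller than that of `M`. -/
theorem result {R M : Type u} [CommRing R] [IsLocalRing R] [IsNoetherianRing R]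
    [AddCommGroup M] [Module R M] [Module.Finite R M] (hM : LocCoh.IsCohenMacaulayModule R M) (g : R)
    (hg : g ∈ IsLocalRing.maximalIdeal R)
    (hdim : Module.supportDim R (M ⧸ Ideal.span {g} • (⊤ : Submodule R M)) + 1 = Module.supportDim R M) :
    IsSMulRegular M g ∧ LocCoh.IsCohenMacaulayModule R (M ⧸ Ideal.span {g} • (⊤ : Submodule R M)) ∧
      LocCoh.depth R (M ⧸ Ideal.span {g} • (⊤ : Submodule R M)) + 1 = LocCoh.depth R M := by
  classical
  -- notation
  have hM' : Module.supportDim R M = ((LocCoh.depth R M : ℕ∞) : WithBot ℕ∞) := hM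
  haveI : Nontrivial M := by
    rw [← Module.supportDim_ne_bot_iff_nontrivial R, hM']
    exact WithBot.coe_ne_bot
  have hne : IsLocalRing.maximalIdeal R • (⊤ : Submodule R M) ≠ ⊤ :=
    (Submodule.top_ne_ideal_smul_of_le_jacobson_annihilator
      (IsLocalRing.maximalIdeal_le_jacobson _)).symm
  have h2 : Module.supportDim R M ≤ ringKrullDim R := Module.supportDim_le_ringKrullDim R M
  have h3 : ringKrullDim R < ⊤ := ringKrullDim_lt_top
  have hdfin : LocCoh.depth R M ≠ ⊤ := by
    intro htop
    rw [htop] at hM'
    rw [hM'] at h2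
    exact absurd (lt_of_le_of_lt h2 h3) (by simp)
  obtain ⟨d, hd⟩ := ENat.ne_top_iff_exists.mp hdfin
  rw [← hd] at hM'
  -- the quotient
  let e : (M ⧸ Ideal.span {g} • (⊤ : Submodule R M)) ≃ₗ[R] QuotSMulTop g M :=
    Submodule.quotEquivOfEq _ _ (Submodule.ideal_span_singleton_smul g ⊤)
  have hsdQ : Module.supportDim R (M ⧸ Ideal.span {g} • (⊤ : Submodule R M))
      = Module.supportDim R (QuotSMulTop g M) := Module.supportDim_eq_of_equiv e
  have hdepQ : LocCoh.depth R (M ⧸ Ideal.span {g} • (⊤ : Submodule R M))
      = LocCoh.depth R (QuotSMulTop g M) := Groth.Agent.H15.idealDepth_congr e _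
  -- extract the dimension of the quotient
  rw [hM'] at hdim
  have hsdQne : Module.supportDim R (M ⧸ Ideal.span {g} • (⊤ : Submodule R M)) ≠ ⊥ := by
    intro hb
    rw [hb] at hdim
    exact absurd hdim (by simp)
  obtain ⟨k', hk'⟩ := WithBot.ne_bot_iff_exists.mp hsdQne
  rw [← hk'] at hdim
  have hk'd : k' + 1 = (d : ℕ∞) := by exact_mod_cast hdim
  have hk'fin : k' ≠ ⊤ := by
    intro h
    rw [h] at hk'd
    simp at hk'd
  obtain ⟨k, hk⟩ := ENat.ne_top_iff_exists.mp hk'fin
  rw [← hk] at hk'd hk'
  have hkd : k + 1 = d := by exact_mod_cast hk'd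
  -- Step 1: regularity
  have hreg : IsSMulRegular M g := by
    by_contra hnr
    have hmem : g ∈ ⋃ p ∈ associatedPrimes R M, (p : Set R) := by
      rw [biUnion_associatedPrimes_eq_compl_regular R M]
      exact hnr
    simp only [Set.mem_iUnion, SetLike.mem_coe, exists_prop] at hmem
    obtain ⟨p, hp, hgp⟩ := hmem
    haveI hpp : p.IsPrime := hp.isPrime
    have h89 := Groth.Agent.S2089.result p hp
    have hle : Module.supportDim R (R ⧸ p)
        ≤ Module.supportDim R (M ⧸ Ideal.span {g} • (⊤ : Submodule R M)) := by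
      have hsub : Module.support R (R ⧸ p)
          ⊆ Module.support R (M ⧸ Ideal.span {g} • (⊤ : Submodule R M)) := by
        intro a ha
        rw [Module.support_eq_zeroLocus, Ideal.annihilator_quotient] at ha
        rw [Module.support_quotient]
        have hpS : (⟨p, hpp⟩ : PrimeSpectrum R) ∈ Module.support R M :=
          Module.mem_support_iff_of_finite.mpr (by
            have := IsAssociatedPrime.annihilator_le hp
            rwa [Submodule.annihilator_top] at this)
        have hpa : (⟨p, hpp⟩ : PrimeSpectrum R) ≤ a := ha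
        refine ⟨Module.mem_support_mono hpa hpS, ?_⟩
        rw [PrimeSpectrum.mem_zeroLocus, SetLike.coe_subset_coe, Ideal.span_le]
        simp only [Set.singleton_subset_iff, SetLike.mem_coe]
        exact ha hgp
      unfold Module.supportDim
      exact Order.krullDim_le_of_strictMono (fun a => ⟨a.1, hsub a.2⟩) (fun {_ _} lt => lt)
    rw [Module.supportDim_quotient_eq_ringKrullDim] at hle
    have := h89.trans hle
    rw [← hk', ← hd] at this
    have : (d : ℕ∞) ≤ (k : ℕ∞) := by exact_mod_cast this
    have : d ≤ k := by exact_mod_cast this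
    omega
  -- Step 2: depth of the quotient
  have hgm : g ∈ IsLocalRing.maximalIdeal R := hg
  have hneQ : IsLocalRing.maximalIdeal R • (⊤ : Submodule R (QuotSMulTop g M)) ≠ ⊤ :=
    Groth.Agent.H15.smul_top_quotSMulTop_ne_top hgm hne
  have hdepthQ : LocCoh.depth R (QuotSMulTop g M) = (k : ℕ∞) := by
    apply le_antisymm
    · unfold LocCoh.depth
      apply Groth.Agent.H15.idealDepth_le_of_forall _ _ hneQ
      intro rs hrs hmem
      have hcons : RingTheory.Sequence.IsWeaklyRegular M (g :: rs) :=
        (RingTheory.Sequence.isWeaklyRegular_cons_iff M g rs).mpr ⟨hreg, hrs⟩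
      have hle := Groth.Agent.H15.le_idealDepth (IsLocalRing.maximalIdeal R) M hcons
        (by
          intro r hr
          rcases List.mem_cons.mp hr with rfl | hr
          · exact hgm
          · exact hmem r hr)
      have hd' : LocCoh.idealDepth (IsLocalRing.maximalIdeal R) M = (d : ℕ∞) := hd.symm
      rw [hd', List.length_cons] at hle
      have : rs.length + 1 ≤ d := by exact_mod_cast hle
      have : rs.length ≤ k := by omega
      exact_mod_cast this
    · unfold LocCoh.depth
      apply Groth.Agent.H15.le_idealDepth_quotSMulTop _ M g hgm hreg k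
      have hd' : LocCoh.idealDepth (IsLocalRing.maximalIdeal R) M = (d : ℕ∞) := hd.symm
      rw [hd', hkd]
  refine ⟨hreg, ?_, ?_⟩
  · change Module.supportDim R (M ⧸ Ideal.span {g} • (⊤ : Submodule R M))
      = ((LocCoh.depth R (M ⧸ Ideal.span {g} • (⊤ : Submodule R M)) : ℕ∞) : WithBot ℕ∞)
    rw [hdepQ, hdepthQ, ← hk']
  · rw [hdepQ, hdepthQ, ← hd]
    exact_mod_cast hkd


end Groth.Agent.S2083
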