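import Groth.Statements.S2088
import Groth.Agent.H80.ResExtIter

set_option autoImplicit false
universe u
open CAlg

namespace Groth.Agent.S2088

/-- Let `(R, 𝔪, k)` be a local ring and `K/k` a field extension. Then there is a flat local homomorphism
of local rings `R → R'` with `𝔪R' = 𝔪_{R'}` whose residue field is isomorphic to `K` over `k`. -/
theorem result {R K : Type u} [CommRing R] [IsLocalRing R] [Field K]
    [Algebra (IsLocalRing.ResidueField R) K] :
    ∃ (R' : Type u) (_ : CommRing R') (_ : IsLocalRing R') (_ : Algebra R R') (_ : IsLocalHom (algebraMap R R')),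
      Module.Flat R R' ∧ (IsLocalRing.maximalIdeal R).map (algebraMap R R') = IsLocalRing.maximalIdeal R' ∧
      Nonempty (IsLocalRing.ResidueField R' ≃ₐ[IsLocalRing.ResidueField R] K) := by
  classical
  let φ₀ : R →+* K := (algebraMap (IsLocalRing.ResidueField R) K).comp (IsLocalRing.residue R)
  haveI hφ₀ : IsLocalHom φ₀ := by
    constructor
    intro r hr
    by_contra hnu
    have h0 : IsLocalRing.residue R r = 0 :=
      (IsLocalRing.residue_eq_zero_iff r).mpr ((IsLocalRing.mem_maximalIdeal r).mpr hnu)
    have h1 : φ₀ r = 0 := by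
      change algebraMap (IsLocalRing.ResidueField R) K (IsLocalRing.residue R r) = 0
      rw [h0, map_zero]
    rw [h1] at hr
    exact not_isUnit_zero hr
  obtain ⟨R', _, f, φ', hW, ⟨hloc, hlh⟩, hcomp, hsurj, -⟩ := Groth.Agent.H80.ResExt.main R φ₀
  letI : Algebra R R' := f.toAlgebra
  haveI hlocf : IsLocalHom (algebraMap R R') := hW.isLocalHom
  refine ⟨R', inferInstance, hloc, inferInstance, hlocf, hW.flat, hW.map_maximalIdeal, ⟨?_⟩⟩
  let ψ : IsLocalRing.ResidueField R' →+* K := IsLocalRing.ResidueField.lift φ'
  have hψbij : Function.Bijective ψ := by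
    refine ⟨ψ.injective, fun y => ?_⟩
    obtain ⟨x, rfl⟩ := hsurj y
    exact ⟨IsLocalRing.residue R' x, IsLocalRing.ResidueField.lift_residue_apply φ' x⟩
  let ψa : IsLocalRing.ResidueField R' →ₐ[IsLocalRing.ResidueField R] K :=
    { ψ with
      commutes' := fun z => by
        obtain ⟨r, rfl⟩ := IsLocalRing.residue_surjective z
        change ψ (IsLocalRing.ResidueField.map (algebraMap R R') (IsLocalRing.residue R r)) = _
        rw [IsLocalRing.ResidueField.map_residue]
        change φ' (f r) = φ₀ r
        rw [← hcomp]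
        rfl }
  exact AlgEquiv.ofBijective ψa hψbij

end Groth.Agent.S2088
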