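import Groth.Statements.S2090
import Groth.Agent.H15.Depth
import Groth.Agent.H14.D15.DepthLoc
import Mathlib

set_option autoImplicit false
universe u
open CAlg
open Pointwise

namespace Groth.Agent.S2090

/-- Let `R` be Noetherian and `φ : M → N` a map of `R`-modules with `M` finite. Suppose that for every
prime `𝔭` either `φ_𝔭` is bijective, or `M_𝔭` has depth at least two and `𝔭` is not an associated
prime of `N`. Then `φ` is bijective. -/
theorem result {R M N : Type u} [CommRing R] [IsNoetherianRing R] [AddCommGroup M]
    [Module R M] [Module.Finite R M] [AddCommGroup N] [Module R N] (φ : M →ₗ[R] N)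
    (h : ∀ (p : Ideal R) [p.IsPrime],
      Function.Bijective (LocalizedModule.map p.primeCompl φ) ∨
        (2 ≤ LocCoh.depth (Localization.AtPrime p) (LocalizedModule p.primeCompl M) ∧
          p ∉ associatedPrimes R N)) :
    Function.Bijective φ := by
  classical
  -- injectivity
  have hinj : Function.Injective φ := by
    rw [← LinearMap.ker_eq_bot]
    by_contra hK
    haveI : Nontrivial (LinearMap.ker φ) := Submodule.nontrivial_iff_ne_bot.mpr hK
    obtain ⟨p, hp⟩ := associatedPrimes.nonempty R (LinearMap.ker φ)
    have hpM : p ∈ associatedPrimes R M :=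
      associatedPrimes.subset_of_injective (f := (LinearMap.ker φ).subtype)
        (Submodule.subtype_injective _) hp
    haveI hpp : p.IsPrime := hp.isPrime
    obtain ⟨-, x, hx⟩ := (isAssociatedPrime_iff).mp hp
    have hxmem : ∀ r, r ∈ p ↔ r • x = 0 := by
      intro r; rw [hx, Submodule.mem_colon_singleton, Submodule.mem_bot]
    rcases h p with hb | ⟨h2, -⟩
    · have h0 : LocalizedModule.map p.primeCompl φ (LocalizedModule.mk (x : M) 1) = 0 := by
        rw [LocalizedModule.map_mk, LinearMap.mem_ker.mp x.2, LocalizedModule.zero_mk]
      have h1 := hb.1 (h0.trans (map_zero _).symm)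
      rw [← LocalizedModule.zero_mk (1 : p.primeCompl), LocalizedModule.mk_eq] at h1
      obtain ⟨t, ht⟩ := h1
      rw [one_smul, one_smul, smul_zero, Submonoid.smul_def] at ht
      have : (t : R) ∈ p := (hxmem t).mpr (Subtype.ext (by simpa using ht))
      exact t.2 this
    · have hd0 :=
        Groth.Agent.H14.D15.depth_localization_eq_zero_of_mem_associatedPrimes M p hpM
      have := h2.trans hd0
      simp at this
  refine ⟨hinj, ?_⟩
  rw [← LinearMap.range_eq_top]
  by_contra hR
  haveI : Nontrivial (N ⧸ LinearMap.range φ) :=
    Submodule.Quotient.nontrivial_iff.mpr hR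
  obtain ⟨p, hp⟩ := associatedPrimes.nonempty R (N ⧸ LinearMap.range φ)
  haveI hpp : p.IsPrime := hp.isPrime
  obtain ⟨-, qbar, hq⟩ := (isAssociatedPrime_iff).mp hp
  obtain ⟨n, rfl⟩ := Submodule.Quotient.mk_surjective _ qbar
  have hn : ∀ r, r ∈ p ↔ r • n ∈ LinearMap.range φ := by
    intro r
    rw [hq, Submodule.mem_colon_singleton, Submodule.mem_bot, ← Submodule.Quotient.mk_smul,
      Submodule.Quotient.mk_eq_zero]
  let φp := LocalizedModule.map p.primeCompl φ
  let ν : LocalizedModule p.primeCompl N := LocalizedModule.mk n 1
  have hA : ν ∉ LinearMap.range φp := by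
    rintro ⟨μ, hμ⟩
    induction μ using LocalizedModule.induction_on with
    | h m s =>
      simp only [φp, ν] at hμ
      rw [LocalizedModule.map_mk, LocalizedModule.mk_eq] at hμ
      obtain ⟨t, ht⟩ := hμ
      rw [one_smul, Submonoid.smul_def, Submonoid.smul_def, Submonoid.smul_def] at ht
      have h1 : ((t : R) * (s : R)) • n ∈ LinearMap.range φ :=
        ⟨(t : R) • m, by rw [map_smul, ht, mul_smul]⟩
      have h2 := (hn _).mpr h1
      rcases Ideal.IsPrime.mem_or_mem hpp h2 with h3 | h3
      exacts [t.2 h3, s.2 h3]
  have hB : ∀ c ∈ IsLocalRing.maximalIdeal (Localization.AtPrime p), c • ν ∈ LinearMap.range φp := by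
    intro c hc
    obtain ⟨r, s, rfl⟩ := IsLocalization.exists_mk'_eq p.primeCompl c
    have hr : r ∈ p := (IsLocalization.AtPrime.mk'_mem_maximal_iff _ p r s).mp hc
    obtain ⟨m, hm⟩ := (hn r).mp hr
    refine ⟨LocalizedModule.mk m s, ?_⟩
    simp only [φp, ν]
    rw [LocalizedModule.map_mk, hm, ← Localization.mk_eq_mk', LocalizedModule.mk_smul_mk, mul_one]
  rcases h p with hb | ⟨h2, hpN⟩
  · exact hA (hb.2 ν)
  · apply hpN
    have hinjp : Function.Injective φp := LocalizedModule.map_injective p.primeCompl φ hinj
    have key : ∃ ν' : LocalizedModule p.primeCompl N, ν' ≠ 0 ∧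
        ∀ c ∈ IsLocalRing.maximalIdeal (Localization.AtPrime p), c • ν' = 0 := by
      by_cases htop : IsLocalRing.maximalIdeal (Localization.AtPrime p) •
          (⊤ : Submodule (Localization.AtPrime p) (LocalizedModule p.primeCompl M)) = ⊤
      · have hsub : Subsingleton (LocalizedModule p.primeCompl M) := by
          by_contra hns
          rw [not_subsingleton_iff_nontrivial] at hns
          exact (Submodule.top_ne_ideal_smul_of_le_jacobson_annihilator
            (IsLocalRing.maximalIdeal_le_jacobson _)) htop.symm
        refine ⟨ν, fun h0 => hA (h0 ▸ zero_mem _), fun c hc => ?_⟩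
        obtain ⟨μ, hμ⟩ := hB c hc
        rw [← hμ, Subsingleton.elim μ 0, map_zero]
      · obtain ⟨rs, hlen, hmem, hreg⟩ := Groth.Agent.H15.exists_isRegular_of_le_idealDepth
          _ _ htop 2 h2
        match rs, hlen, hmem, hreg with
        | [a, b], _, hmem, hreg =>
          obtain ⟨ha, hb'⟩ := (RingTheory.Sequence.isWeaklyRegular_cons_iff _ a [b]).mp
            hreg.toIsWeaklyRegular
          obtain ⟨hb, -⟩ := (RingTheory.Sequence.isWeaklyRegular_cons_iff _ b []).mp hb'
          have ham := hmem a (by simp)
          have hbm := hmem b (by simp)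
          obtain ⟨x, hx⟩ := hB a ham
          obtain ⟨y, hy⟩ := hB b hbm
          have e1 : b • x = a • y := hinjp (by rw [map_smul, map_smul, hx, hy, smul_comm])
          have hxa : x ∈ a • (⊤ : Submodule (Localization.AtPrime p)
              (LocalizedModule p.primeCompl M)) := by
            have h1 : b • (Submodule.Quotient.mk x :
                QuotSMulTop a (LocalizedModule p.primeCompl M)) = b • 0 := by
              rw [smul_zero, ← Submodule.Quotient.mk_smul, e1, Submodule.Quotient.mk_eq_zero]
              exact Submodule.smul_mem_pointwise_smul _ _ _ Submodule.mem_top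
            exact (Submodule.Quotient.mk_eq_zero _).mp (hb (by
              change b • (Submodule.Quotient.mk x :
                QuotSMulTop a (LocalizedModule p.primeCompl M)) = b • 0
              exact h1))
          obtain ⟨m, -, rfl⟩ := (Submodule.mem_smul_pointwise_iff_exists _ _ _).mp hxa
          have hν'a : a • (ν - φp m) = 0 := by rw [smul_sub, ← hx, map_smul, sub_self]
          refine ⟨ν - φp m, ?_, ?_⟩
          · intro h0
            apply hA
            rw [sub_eq_zero.mp h0]
            exact ⟨m, rfl⟩
          · intro c hc
            obtain ⟨z, hz⟩ := hB c hc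
            have hz' : φp (z - c • m) = c • (ν - φp m) := by
              rw [map_sub, map_smul, hz, smul_sub]
            have h3 : a • (z - c • m) = 0 :=
              hinjp (by rw [map_smul, hz', smul_comm, hν'a, smul_zero, map_zero])
            have h4 : z - c • m = 0 := ha (by
              change a • (z - c • m) = a • 0
              rw [h3, smul_zero])
            rw [← hz', h4, map_zero]
    obtain ⟨ν', hν'0, hν'⟩ := key
    have hass : IsLocalRing.maximalIdeal (Localization.AtPrime p) ∈
        associatedPrimes (Localization.AtPrime p) (LocalizedModule p.primeCompl N) := by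
      rw [AssociatedPrimes.mem_iff, isAssociatedPrime_iff]
      refine ⟨inferInstance, ν', ?_⟩
      apply le_antisymm
      · intro c hc
        rw [Submodule.mem_colon_singleton, Submodule.mem_bot]
        exact hν' c hc
      · apply IsLocalRing.le_maximalIdeal
        intro htop
        rw [Ideal.eq_top_iff_one, Submodule.mem_colon_singleton, one_smul,
          Submodule.mem_bot] at htop
        exact hν'0 htop
    have := Module.associatedPrimes.comap_mem_associatedPrimes_of_mem_associatedPrimes_of_isLocalizedModule_of_fg
      p.primeCompl (LocalizedModule.mkLinearMap p.primeCompl N) _ hass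
      ((isNoetherianRing_iff_ideal_fg R).mp ‹_› _)
    have h3 : Ideal.comap (algebraMap R (Localization.AtPrime p))
        (IsLocalRing.maximalIdeal (Localization.AtPrime p)) = p :=
      IsLocalization.AtPrime.under_maximalIdeal (Localization.AtPrime p) p
    rwa [h3] at this


end Groth.Agent.S2090
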