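import Groth.Statements.S2093
import Groth.Agent.H36.ZariskiRed

set_option autoImplicit false
universe u
open CAlg

namespace Groth.Agent.S2093

/-- Let `(R, 𝔪)` be a Noetherian local domain and `x ∈ 𝔪` nonzero such that `R/xR` has no embedded
associated primes, and for every associated prime `𝔭` of `R/xR` the local ring `R_𝔭` is regular and
the completion of `R/𝔭` is reduced. Then the completion of `R` is reduced. -/
theorem result {R : Type u} [CommRing R] [IsDomain R] [IsLocalRing R]
    [IsNoetherianRing R] (x : R) (hx : x ≠ 0) (hxm : x ∈ IsLocalRing.maximalIdeal R)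
    (hemb : ∀ p ∈ associatedPrimes R (R ⧸ Ideal.span {x}), p ∈ (Ideal.span {x}).minimalPrimes)
    (hreg : ∀ p ∈ associatedPrimes R (R ⧸ Ideal.span {x}), ∀ (_ : p.IsPrime),
      IsRegularLocalRing (Localization.AtPrime p) ∧
        IsReduced (AdicCompletion ((IsLocalRing.maximalIdeal R).map (Ideal.Quotient.mk p)) (R ⧸ p))) :
    IsReduced (AdicCompletion (IsLocalRing.maximalIdeal R) R) := by
  refine Groth.Agent.H36.ZariskiRed.isReduced_adicCompletion R x hxm
    (mem_nonZeroDivisors_of_ne_zero hx) ?_
  intro p hp hpp
  have := hpp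
  obtain ⟨hregp, hred⟩ := hreg p hp hpp
  refine ⟨?_, hred⟩
  rw [Groth.Agent.Lead.RLR.exists_isDiscreteValuationRing_iff]
  refine ⟨hregp, ?_⟩
  have hdim : ringKrullDim (Localization.AtPrime p) = p.height :=
    IsLocalization.AtPrime.ringKrullDim_eq_height p _
  have hle : p.height ≤ 1 :=
    Ideal.height_le_one_of_isPrincipal_of_mem_minimalPrimes _ p (hemb p hp)
  have h1 := hregp.spanFinrank_maximalIdeal
  have hfg : (IsLocalRing.maximalIdeal (Localization.AtPrime p)).FG :=
    (isNoetherianRing_iff_ideal_fg _).mp inferInstance _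
  have hne0 : (IsLocalRing.maximalIdeal (Localization.AtPrime p)).spanFinrank ≠ 0 := by
    intro h0
    rw [Submodule.spanFinrank_eq_zero_iff_eq_bot hfg] at h0
    have hxp : x ∈ p := by
      have := (hemb p hp).1.2
      exact this (Ideal.mem_span_singleton_self x)
    have hmem : algebraMap R (Localization.AtPrime p) x ∈
        IsLocalRing.maximalIdeal (Localization.AtPrime p) := by
      rw [← Localization.AtPrime.map_eq_maximalIdeal]
      exact Ideal.mem_map_of_mem _ hxp
    rw [h0, Ideal.mem_bot] at hmem
    have hinj : Function.Injective (algebraMap R (Localization.AtPrime p)) :=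
      IsLocalization.injective _ p.primeCompl_le_nonZeroDivisors
    exact hx (hinj (by rw [hmem, map_zero]))
  have hle1 : (IsLocalRing.maximalIdeal (Localization.AtPrime p)).spanFinrank ≤ 1 := by
    have h2 : ((IsLocalRing.maximalIdeal (Localization.AtPrime p)).spanFinrank : WithBot ℕ∞) ≤ 1 := by
      rw [h1, hdim]
      exact_mod_cast hle
    exact_mod_cast h2
  omega

end Groth.Agent.S2093
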