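import Groth.Statements.S2095
import Mathlib.RingTheory.TensorProduct.Maps
import Mathlib.Tactic

set_option autoImplicit false
universe u
open CAlg

namespace Groth.Agent.S2095

open TensorProduct in
/-- Let `R → S` be a ring map, `𝔫 ⊆ S` an ideal and `R → R'` a ring map admitting an `R`-linear
retraction. If `R' → R' ⊗ S` is formally smooth for the adic topology of the extension of `𝔫`, then
`R → S` is formally smooth for the `𝔫`-adic topology. -/
theorem result {R S R' : Type u} [CommRing R] [CommRing S] [Algebra R S]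
    (𝔫 : Ideal S) [CommRing R'] [Algebra R R'] (ρ : R' →ₗ[R] R) (hρ : ∀ r : R, ρ (algebraMap R R' r) = r)
    (h : CAlgX.IsAdicFormallySmooth R' (R' ⊗[R] S)
      (𝔫.map (Algebra.TensorProduct.includeRight : S →ₐ[R] R' ⊗[R] S))) :
    CAlgX.IsAdicFormallySmooth R S 𝔫 := by
  classical
  intro A _ _ J hJ ψ hψ
  obtain ⟨k, hk⟩ := hψ
  -- base change of the test algebra
  let incA : A →ₐ[R] R' ⊗[R] A := Algebra.TensorProduct.includeRight
  let J' : Ideal (R' ⊗[R] A) := J.map incA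
  have hJ' : J' ^ 2 = ⊥ := by
    rw [← Ideal.map_pow, hJ, Ideal.map_bot]
  have hle : J ≤ J'.comap incA := Ideal.le_comap_map
  let q : A ⧸ J →ₐ[R] (R' ⊗[R] A) ⧸ J' := Ideal.quotientMapₐ J' incA hle
  let ψ' : R' ⊗[R] S →ₐ[R'] (R' ⊗[R] A) ⧸ J' :=
    Algebra.TensorProduct.lift (Algebra.ofId R' ((R' ⊗[R] A) ⧸ J')) (q.comp ψ)
      (fun x y => Commute.all _ _)
  have hψ'1 : ∀ s : S, ψ' ((1 : R') ⊗ₜ[R] s) = q (ψ s) := by
    intro s
    simp [ψ']
  have hψ'k : ∃ k : ℕ, ∀ x ∈ (𝔫.map (Algebra.TensorProduct.includeRight : S →ₐ[R] R' ⊗[R] S)) ^ k,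
      ψ' x = 0 := by
    refine ⟨k, ?_⟩
    intro x hx
    rw [← Ideal.map_pow] at hx
    have hle2 : (𝔫 ^ k).map (Algebra.TensorProduct.includeRight : S →ₐ[R] R' ⊗[R] S) ≤
        RingHom.ker ψ'.toRingHom := by
      rw [Ideal.map_le_iff_le_comap]
      intro y hy
      rw [Ideal.mem_comap, RingHom.mem_ker]
      change ψ' ((1 : R') ⊗ₜ[R] y) = 0
      rw [hψ'1, hk y hy, map_zero]
    exact hle2 hx
  obtain ⟨χ', hχ'⟩ := h (R' ⊗[R] A) J' hJ' ψ' hψ'k
  -- the contraction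
  let lam : R' ⊗[R] A →ₗ[R] A := (TensorProduct.lid R A).toLinearMap ∘ₗ (ρ.rTensor A)
  have hlam_tmul : ∀ (r' : R') (a : A), lam (r' ⊗ₜ[R] a) = ρ r' • a := by
    intro r' a
    simp [lam]
  have hρ1 : ρ 1 = 1 := by
    have := hρ 1
    rwa [map_one] at this
  have hlam_one : ∀ a : A, lam ((1 : R') ⊗ₜ[R] a) = a := by
    intro a
    rw [hlam_tmul, hρ1, one_smul]
  have hlam_mul : ∀ (a : A) (z : R' ⊗[R] A), lam (((1 : R') ⊗ₜ[R] a) * z) = a * lam z := by
    intro a z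
    induction z with
    | zero => simp
    | tmul r' b =>
      rw [Algebra.TensorProduct.tmul_mul_tmul, one_mul, hlam_tmul, hlam_tmul, mul_smul_comm]
    | add x y hx hy => rw [mul_add, map_add, hx, hy, map_add, mul_add]
  have hlam_J' : ∀ z ∈ J', ∀ c : R' ⊗[R] A, lam (c * z) ∈ J := by
    intro z hz
    induction hz using Submodule.span_induction with
    | mem x hx =>
      obtain ⟨j, hj, rfl⟩ := hx
      intro c
      induction c with
      | zero => simp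
      | tmul r' a =>
        change lam ((r' ⊗ₜ[R] a) * ((1 : R') ⊗ₜ[R] j)) ∈ J
        rw [Algebra.TensorProduct.tmul_mul_tmul, hlam_tmul]
        exact J.smul_of_tower_mem _ (J.mul_mem_left a hj)
      | add x y hx hy =>
        rw [add_mul, map_add]
        exact J.add_mem hx hy
    | zero => intro c; simp
    | add x y _ _ hx hy =>
      intro c
      rw [mul_add, map_add]
      exact J.add_mem (hx c) (hy c)
    | smul a x _ hx =>
      intro c
      rw [smul_eq_mul, ← mul_assoc]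
      exact hx (c * a)
  have hlam_J : ∀ z ∈ J', lam z ∈ J := by
    intro z hz
    have := hlam_J' z hz 1
    rwa [one_mul] at this
  -- the candidate
  let σ : S → A := fun s => lam (χ' ((1 : R') ⊗ₜ[R] s))
  have hχ'mk : ∀ s : S, Ideal.Quotient.mk J' (χ' ((1 : R') ⊗ₜ[R] s)) = q (ψ s) := by
    intro s
    have := congr_arg (fun g : R' ⊗[R] S →ₐ[R'] (R' ⊗[R] A) ⧸ J' => g ((1 : R') ⊗ₜ[R] s)) hχ'
    simp only [AlgHom.comp_apply, Ideal.Quotient.mkₐ_eq_mk] at this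
    rw [this, hψ'1]
  have hσmk : ∀ s : S, Ideal.Quotient.mk J (σ s) = ψ s := by
    intro s
    obtain ⟨a, ha⟩ := Ideal.Quotient.mk_surjective (ψ s)
    have h1 : χ' ((1 : R') ⊗ₜ[R] s) - (1 : R') ⊗ₜ[R] a ∈ J' := by
      rw [← Ideal.Quotient.eq, hχ'mk, ← ha]
      rfl
    have h2 := hlam_J _ h1
    rw [map_sub, hlam_one] at h2
    rw [← ha]
    exact (Ideal.Quotient.eq).2 h2
  have hd : ∀ s : S, χ' ((1 : R') ⊗ₜ[R] s) - (1 : R') ⊗ₜ[R] (σ s) ∈ J' := by
    intro s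
    rw [← Ideal.Quotient.eq, hχ'mk, ← hσmk]
    rfl
  have hlamd : ∀ s : S, lam (χ' ((1 : R') ⊗ₜ[R] s) - (1 : R') ⊗ₜ[R] (σ s)) = 0 := by
    intro s
    rw [map_sub, hlam_one, sub_self]
  have hσmul : ∀ s t : S, σ (s * t) = σ s * σ t := by
    intro s t
    have hdd : (χ' ((1 : R') ⊗ₜ[R] s) - (1 : R') ⊗ₜ[R] (σ s)) *
        (χ' ((1 : R') ⊗ₜ[R] t) - (1 : R') ⊗ₜ[R] (σ t)) = 0 := by
      have : (χ' ((1 : R') ⊗ₜ[R] s) - (1 : R') ⊗ₜ[R] (σ s)) *
          (χ' ((1 : R') ⊗ₜ[R] t) - (1 : R') ⊗ₜ[R] (σ t)) ∈ J' ^ 2 := by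
        rw [pow_two]
        exact Ideal.mul_mem_mul (hd s) (hd t)
      rw [hJ'] at this
      exact (Ideal.mem_bot).1 this
    have hprod : χ' ((1 : R') ⊗ₜ[R] (s * t)) =
        ((1 : R') ⊗ₜ[R] (σ s)) * (χ' ((1 : R') ⊗ₜ[R] t) - (1 : R') ⊗ₜ[R] (σ t)) +
        ((1 : R') ⊗ₜ[R] (σ t)) * (χ' ((1 : R') ⊗ₜ[R] s) - (1 : R') ⊗ₜ[R] (σ s)) +
        (1 : R') ⊗ₜ[R] (σ s * σ t) := by
      have e1 : ((1 : R') ⊗ₜ[R] (s * t) : R' ⊗[R] S) =
          ((1 : R') ⊗ₜ[R] s) * ((1 : R') ⊗ₜ[R] t) := by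
        rw [Algebra.TensorProduct.tmul_mul_tmul, one_mul]
      have e2 : ((1 : R') ⊗ₜ[R] (σ s * σ t) : R' ⊗[R] A) =
          ((1 : R') ⊗ₜ[R] σ s) * ((1 : R') ⊗ₜ[R] σ t) := by
        rw [Algebra.TensorProduct.tmul_mul_tmul, one_mul]
      rw [e1, map_mul, e2]
      linear_combination hdd
    change lam (χ' ((1 : R') ⊗ₜ[R] (s * t))) = σ s * σ t
    rw [hprod, map_add, map_add, hlam_mul, hlam_mul, hlamd, hlamd, hlam_one]
    ring
  have hσone : σ 1 = 1 := by
    change lam (χ' ((1 : R') ⊗ₜ[R] (1 : S))) = 1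
    rw [← Algebra.TensorProduct.one_def, map_one, Algebra.TensorProduct.one_def, hlam_one]
  have hσadd : ∀ s t : S, σ (s + t) = σ s + σ t := by
    intro s t
    change lam (χ' ((1 : R') ⊗ₜ[R] (s + t))) = _
    rw [TensorProduct.tmul_add, map_add, map_add]
  have hσalg : ∀ r : R, σ (algebraMap R S r) = algebraMap R A r := by
    intro r
    change lam (χ' ((1 : R') ⊗ₜ[R] (algebraMap R S r))) = _
    have e1 : ((1 : R') ⊗ₜ[R] (algebraMap R S r) : R' ⊗[R] S) =
        algebraMap R' (R' ⊗[R] S) (algebraMap R R' r) := by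
      rw [Algebra.TensorProduct.algebraMap_apply, Algebra.algebraMap_eq_smul_one,
        TensorProduct.tmul_smul, TensorProduct.smul_tmul', Algebra.algebraMap_eq_smul_one]
      simp [Algebra.smul_def]
    rw [e1, AlgHom.commutes, Algebra.TensorProduct.algebraMap_apply]
    change lam ((algebraMap R R' r) ⊗ₜ[R] (1 : A)) = _
    rw [hlam_tmul, hρ, Algebra.algebraMap_eq_smul_one]
  let χ : S →ₐ[R] A :=
    { toFun := σ
      map_one' := hσone
      map_mul' := hσmul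
      map_zero' := by
        have := hσadd 0 0
        rw [add_zero] at this
        exact left_eq_add.mp this
      map_add' := hσadd
      commutes' := hσalg }
  refine ⟨χ, ?_⟩
  apply AlgHom.ext
  intro s
  exact hσmk s


end Groth.Agent.S2095
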