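import Groth.Statements.S2097
import Mathlib.RingTheory.Noetherian.Nilpotent
import Mathlib.RingTheory.FinitePresentation

set_option autoImplicit false
universe u
open CAlg

namespace Groth.Agent.S2097

/-- Let `R → S` be smooth, `A` an `R`-algebra and `I ⊆ A` an ideal all of whose elements are nilpotent.
Every `R`-algebra map `S → A/I` lifts to an `R`-algebra map `S → A`. -/
theorem result {R S A : Type u} [CommRing R] [CommRing S] [Algebra R S] [Algebra.Smooth R S]
    [CommRing A] [Algebra R A] (I : Ideal A) (hI : ∀ x ∈ I, IsNilpotent x) (g : S →ₐ[R] A ⧸ I) :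
    ∃ f : S →ₐ[R] A, (Ideal.Quotient.mkₐ R I).comp f = g := by
  obtain ⟨n, φ, hφ, hker⟩ := (inferInstance : Algebra.FinitePresentation R S).out
  choose a ha using fun i : Fin n => Ideal.Quotient.mk_surjective (g (φ (MvPolynomial.X i)))
  let ψ : MvPolynomial (Fin n) R →ₐ[R] A := MvPolynomial.aeval a
  have hψ : (Ideal.Quotient.mkₐ R I).comp ψ = g.comp φ := by
    apply MvPolynomial.algHom_ext
    intro i
    simp [ψ, ha]
  let I' : Ideal A := (RingHom.ker φ.toRingHom).map ψ.toRingHom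
  have hI'fg : I'.FG := hker.map _
  have hI'le : I' ≤ I := by
    rw [Ideal.map_le_iff_le_comap]
    intro p hp
    have h1 : Ideal.Quotient.mk I (ψ p) = g (φ p) := AlgHom.congr_fun hψ p
    have h2 : φ p = 0 := hp
    rw [Ideal.mem_comap]
    change ψ p ∈ I
    rw [← Ideal.Quotient.eq_zero_iff_mem, h1, h2, map_zero]
  have hnil : IsNilpotent I' :=
    hI'fg.isNilpotent_iff_le_nilradical.2 (fun x hx => hI x (hI'le hx))
  have hkerle : RingHom.ker φ.toRingHom ≤
      RingHom.ker ((Ideal.Quotient.mkₐ R I').comp ψ).toRingHom := by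
    intro p hp
    rw [RingHom.mem_ker]
    change Ideal.Quotient.mk I' (ψ p) = 0
    rw [Ideal.Quotient.eq_zero_iff_mem]
    exact Ideal.mem_map_of_mem _ hp
  let ψ' : S →ₐ[R] A ⧸ I' := AlgHom.liftOfSurjective φ hφ ((Ideal.Quotient.mkₐ R I').comp ψ) hkerle
  obtain ⟨f, hf⟩ := Algebra.FormallySmooth.exists_lift I' hnil ψ'
  refine ⟨f, ?_⟩
  apply AlgHom.ext
  intro s
  obtain ⟨p, rfl⟩ := hφ s
  have h1 : Ideal.Quotient.mk I' (f (φ p)) = Ideal.Quotient.mk I' (ψ p) := by
    have := AlgHom.congr_fun hf (φ p)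
    simp only [AlgHom.comp_apply, Ideal.Quotient.mkₐ_eq_mk] at this
    rw [this]
    exact AlgHom.liftOfSurjective_apply φ hφ _ hkerle p
  have h2 : f (φ p) - ψ p ∈ I := hI'le ((Ideal.Quotient.mk_eq_mk_iff_sub_mem _ _).1 h1)
  have h3 : Ideal.Quotient.mk I (f (φ p)) = Ideal.Quotient.mk I (ψ p) :=
    (Ideal.Quotient.mk_eq_mk_iff_sub_mem _ _).2 h2
  change Ideal.Quotient.mk I (f (φ p)) = g (φ p)
  rw [h3]
  exact AlgHom.congr_fun hψ p


end Groth.Agent.S2097
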