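import Groth.Statements.S2100
import Mathlib
import Groth.Agent.H56.NoetherPrime

set_option autoImplicit false
universe u
open CAlg

namespace Groth.Agent.S2100

/-- Let `k` be a field, `𝔮` a prime of `k[x_1, …, x_n]` and `r` the transcendence degree of `κ(𝔮)` over
`k`. Then there is a finite `k`-algebra map `φ : k[y_1, …, y_n] → k[x_1, …, x_n]` with `φ⁻¹(𝔮) =
(y_{r+1}, …, y_n)`. -/
theorem result {k : Type u} [Field k] (n r : ℕ) (q : Ideal (MvPolynomial (Fin n) k))
    [q.IsPrime] (hr : Algebra.trdeg k q.ResidueField = r) :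
    ∃ φ : MvPolynomial (Fin n) k →ₐ[k] MvPolynomial (Fin n) k, φ.toRingHom.Finite ∧
      q.comap φ = Ideal.span (Set.range fun i : {i : Fin n // r ≤ (i : ℕ)} => MvPolynomial.X (i : Fin n)) := by
  classical
  obtain ⟨h, hh, φ, hφ, hcomap, hdim⟩ := Groth.Agent.H56.NoetherPrime.core n q
  -- identify `r = n - h`
  have hrh : r = n - h := by
    obtain ⟨m, hm1, hm2, -⟩ :=
      Groth.Agent.H14.ringKrullDim_eq_trdeg_of_finiteType_domain k (MvPolynomial (Fin n) k ⧸ q)
    have hmh : m = n - h := by
      rw [hdim] at hm2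
      exact_mod_cast hm2.symm
    let e0 : FractionRing (MvPolynomial (Fin n) k ⧸ q) ≃ₐ[MvPolynomial (Fin n) k ⧸ q]
        q.ResidueField := FractionRing.algEquiv _ _
    let e1 : FractionRing (MvPolynomial (Fin n) k ⧸ q) ≃ₐ[k] q.ResidueField :=
      e0.restrictScalars k
    have h1 : Algebra.trdeg k q.ResidueField = m := by
      rw [← e1.trdeg_eq, hm1]
    rw [hr] at h1
    have : r = m := by exact_mod_cast h1
    omega
  -- reverse the variables
  let ρ : MvPolynomial (Fin n) k ≃ₐ[k] MvPolynomial (Fin n) k :=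
    MvPolynomial.renameEquiv k Fin.revPerm
  refine ⟨φ.comp ρ.toAlgHom, ?_, ?_⟩
  · have hρ : (ρ.toAlgHom.toRingHom).IsIntegral :=
      RingHom.isIntegral_of_surjective _ ρ.surjective
    exact Groth.Agent.H56.NoetherPrime.finite_of_isIntegral _
      (RingHom.IsIntegral.trans _ _ hρ hφ)
  · ext p
    have h1 : p ∈ q.comap (φ.comp ρ.toAlgHom) ↔ ρ p ∈ q.comap φ := Iff.rfl
    rw [h1, hcomap]
    have h2 : ρ p ∈ Ideal.span (MvPolynomial.X '' {i : Fin n | (i : ℕ) < h}) ↔
        p ∈ (Ideal.span (MvPolynomial.X '' {i : Fin n | (i : ℕ) < h})).map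
          ρ.symm.toAlgHom.toRingHom := by
      constructor
      · intro hp
        have := Ideal.mem_map_of_mem ρ.symm.toAlgHom.toRingHom hp
        have h6 : ρ.symm.toAlgHom.toRingHom (ρ p) = p := ρ.symm_apply_apply p
        rwa [h6] at this
      · intro hp
        have := Ideal.mem_map_of_mem ρ.toAlgHom.toRingHom hp
        rw [Ideal.map_map] at this
        have hid : ρ.toAlgHom.toRingHom.comp ρ.symm.toAlgHom.toRingHom = RingHom.id _ := by
          apply RingHom.ext
          intro x
          exact ρ.apply_symm_apply x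
        rw [hid, Ideal.map_id] at this
        exact this
    rw [h2, Ideal.map_span]
    have h3 : (⇑ρ.symm.toAlgHom.toRingHom) '' (MvPolynomial.X '' {i : Fin n | (i : ℕ) < h}) =
        Set.range fun i : {i : Fin n // r ≤ (i : ℕ)} => MvPolynomial.X (i : Fin n) := by
      ext y
      simp only [Set.mem_image, Set.mem_setOf_eq, Set.mem_range, Subtype.exists]
      constructor
      · rintro ⟨_, ⟨i, hi, rfl⟩, rfl⟩
        refine ⟨Fin.rev i, ?_, ?_⟩
        · rw [Fin.val_rev]
          omega
        · change _ = ρ.symm (MvPolynomial.X i)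
          rw [AlgEquiv.eq_symm_apply]
          simp [ρ]
      · rintro ⟨j, hj, rfl⟩
        refine ⟨MvPolynomial.X (Fin.rev j), ⟨Fin.rev j, ?_, rfl⟩, ?_⟩
        · rw [Fin.val_rev]
          have := j.isLt
          omega
        · change ρ.symm (MvPolynomial.X (Fin.rev j)) = _
          rw [AlgEquiv.symm_apply_eq]
          simp [ρ]
    rw [h3]

end Groth.Agent.S2100
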