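import Groth.Statements.S2102
import Mathlib

set_option autoImplicit false
universe u
open CategoryTheory AlgebraicGeometry
open Mor

namespace Groth.Agent.S2102

/-- The ring of global sections of an integral normal scheme is an integrally closed domain. -/
theorem result (X : Scheme.{u}) [IsIntegral X] (hX : Pi1.IsNormalScheme X) :
    IsIntegrallyClosed (Γ(X, ⊤) : Type u) := by
  classical
  let η := genericPoint X
  have hη : ∀ U : X.Opens, (U : Set X).Nonempty → η ∈ U := fun U hU =>
    ((genericPoint_spec X).mem_open_set_iff U.isOpen).mpr (by simpa using hU)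
  let ψ : Γ(X, ⊤) →+* X.functionField := (X.presheaf.germ ⊤ η trivial).hom
  have hψ : Function.Injective ψ := germ_injective_of_isIntegral X (U := ⊤) η trivial
  letI : Algebra Γ(X, ⊤) X.functionField := ψ.toAlgebra
  haveI : FaithfulSMul Γ(X, ⊤) X.functionField :=
    (faithfulSMul_iff_algebraMap_injective _ _).mpr hψ
  suffices h : IsIntegrallyClosedIn Γ(X, ⊤) X.functionField from
    IsIntegrallyClosed.of_isIntegrallyClosedIn Γ(X, ⊤) X.functionField
  rw [isIntegrallyClosedIn_iff]
  refine ⟨hψ, ?_⟩
  intro z hz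
  -- local sections
  have hloc : ∀ x : X, ∃ (U : X.Opens) (_ : x ∈ U) (hηU : η ∈ U) (s : Γ(X, U)),
      X.presheaf.germ U η hηU s = z := by
    intro x
    let ιx : X.presheaf.stalk x →+* X.functionField :=
      (X.presheaf.stalkSpecializes (genericPoint_specializes x)).hom
    have hcomp : ψ = ιx.comp (X.presheaf.germ ⊤ x trivial).hom := by
      ext a
      change (X.presheaf.germ ⊤ η trivial) a =
        (X.presheaf.germ ⊤ x trivial ≫ X.presheaf.stalkSpecializes _) a
      rw [TopCat.Presheaf.germ_stalkSpecializes]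
    have hz' : ιx.IsIntegralElem z := by
      have : ψ.IsIntegralElem z := hz
      rw [hcomp] at this
      exact RingHom.IsIntegralElem.of_comp this
    haveI := (hX x).2
    obtain ⟨t, ht⟩ := (IsIntegrallyClosed.isIntegral_iff (R := X.presheaf.stalk x)
      (K := X.functionField)).mp hz'
    obtain ⟨U, m, s, hs⟩ := TopCat.Presheaf.exists_germ_eq X.presheaf t
    refine ⟨U, m, hη U ⟨x, m⟩, s, ?_⟩
    rw [← ht, ← hs]
    change _ = (X.presheaf.germ U x m ≫ X.presheaf.stalkSpecializes _) s
    rw [TopCat.Presheaf.germ_stalkSpecializes]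
  choose U hxU hηU s hs using hloc
  have hcompat : TopCat.Presheaf.IsCompatible X.presheaf U s := by
    intro i j
    apply germ_injective_of_isIntegral X (U := U i ⊓ U j) η ⟨hηU i, hηU j⟩
    rw [TopCat.Presheaf.germ_res_apply, TopCat.Presheaf.germ_res_apply, hs, hs]
  have hcover : (⊤ : X.Opens) ≤ iSup U := fun x _ =>
    TopologicalSpace.Opens.mem_iSup.mpr ⟨x, hxU x⟩
  obtain ⟨g, hg, -⟩ := TopCat.Sheaf.existsUnique_gluing' X.sheaf U ⊤
    (fun i => homOfLE le_top) hcover s hcompat
  refine ⟨g, ?_⟩
  change X.presheaf.germ ⊤ η trivial g = z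
  rw [← hs η, ← hg η]
  exact (TopCat.Presheaf.germ_res_apply X.presheaf (homOfLE le_top) η (hηU η) g).symm


end Groth.Agent.S2102
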