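import Groth.Statements.S2111
import Groth.Agent.H15.CDivNormal
import Mathlib

set_option autoImplicit false
universe u
open CAlg

namespace Groth.Agent.S2111

/-- Let `R` be a Noetherian normal domain with fraction field `K`. An element of `K` which lies in `R_𝔭`
for every prime `𝔭` of height one lies in `R`. -/
theorem result {R : Type u} [CommRing R] [IsDomain R] [IsNoetherianRing R]
    [IsIntegrallyClosed R] (x : FractionRing R)
    (hx : ∀ (p : Ideal R) [p.IsPrime], p.height = 1 →
      x ∈ Set.range (algebraMap (Localization.AtPrime p) (FractionRing R))) :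
    x ∈ Set.range (algebraMap R (FractionRing R)) := by
  classical
  by_contra hxR
  let N : Submodule R (FractionRing R) := LinearMap.range (Algebra.linearMap R (FractionRing R))
  have hN : ∀ y : FractionRing R, y ∈ N ↔ ∃ a, algebraMap R (FractionRing R) a = y := by
    intro y
    simp only [N, LinearMap.mem_range, Algebra.linearMap_apply]
  let I : Ideal R := N.colon {x}
  have hI : I ≠ ⊤ := by
    intro htop
    rw [Ideal.eq_top_iff_one, Submodule.mem_colon_singleton, one_smul, hN] at htop
    exact hxR htop
  obtain ⟨p, hpmax, hIp⟩ := Ideal.exists_le_maximal I hI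
  haveI hpp : p.IsPrime := hpmax.isPrime
  have hf : ¬ ∃ a s : R, s ∉ p ∧ x * algebraMap R (FractionRing R) s
      = algebraMap R (FractionRing R) a := by
    rintro ⟨a, s, hs, h⟩
    apply hs
    apply hIp
    rw [Submodule.mem_colon_singleton, hN]
    exact ⟨a, by rw [← h, Algebra.smul_def, mul_comm]⟩
  obtain ⟨q, b, c, hqprime, -, hb, hq, hnot⟩ :=
    Groth.Agent.H15.CDivAlg.exists_prime_not_mem p x hf
  haveI := hqprime
  have hdepth : LocCoh.depth (Localization.AtPrime q) (Localization.AtPrime q) = 1 :=
    Groth.Agent.H15.CDivAlg.depth_eq_one_of_colon q (Localization.AtPrime q) b c hb hq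
  haveI : IsIntegrallyClosed (Localization.AtPrime q) :=
    isIntegrallyClosed_of_isLocalization _ q.primeCompl q.primeCompl_le_nonZeroDivisors
  haveI : IsDiscreteValuationRing (Localization.AtPrime q) :=
    Groth.Agent.H15.CDivAlg.isDiscreteValuationRing_of_depth_eq_one hdepth
  have hheight : q.height = 1 := by
    have h1 := IsLocalization.AtPrime.ringKrullDim_eq_height q (Localization.AtPrime q)
    have h2 := IsDiscreteValuationRing.ringKrullDim_eq_one (Localization.AtPrime q)
    rw [h2] at h1
    exact_mod_cast h1.symm
  obtain ⟨z, hz⟩ := hx q hheight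
  obtain ⟨a, s, rfl⟩ := IsLocalization.exists_mk'_eq q.primeCompl z
  apply hnot
  refine ⟨a, s, s.2, ?_⟩
  rw [← hz, IsScalarTower.algebraMap_apply R (Localization.AtPrime q) (FractionRing R) (s : R),
    ← map_mul, IsLocalization.mk'_spec, ← IsScalarTower.algebraMap_apply]


end Groth.Agent.S2111
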