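import Groth.Statements.S2112
import Mathlib
import Groth.Agent.H48.GeomConn

set_option autoImplicit false
universe u
open CAlg

namespace Groth.Agent.S2112

open TensorProduct in
/-- Let `k` be a separably closed field and `R`, `S` two `k`-algebras each having exactly one minimal
prime ideal. Then `R ⊗_k S` has exactly one minimal prime ideal. -/
theorem result {k R S : Type u} [Field k] [IsSepClosed k] [CommRing R] [CommRing S]
    [Algebra k R] [Algebra k S] (hR : CAlgX.HasUniqueMinimalPrime R) (hS : CAlgX.HasUniqueMinimalPrime S) :
    CAlgX.HasUniqueMinimalPrime (R ⊗[k] S) := by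
  have key : ∀ (A : Type u) [CommRing A],
      CAlgX.HasUniqueMinimalPrime A ↔ (nilradical A).IsPrime := by
    intro A _
    constructor
    · rintro ⟨p, hp, huniq⟩
      have hmin : minimalPrimes A = {p} := by
        ext q
        constructor
        · intro hq
          exact huniq q hq
        · rintro rfl
          exact hp
      have h2 : nilradical A = p := by
        rw [nilradical, ← Ideal.sInf_minimalPrimes]
        show sInf (minimalPrimes A) = p
        rw [hmin, sInf_singleton]
      rw [h2]
      exact hp.1.1
    · intro h
      refine ⟨nilradical A, ⟨⟨h, bot_le⟩, fun q hq _ => ?_⟩, fun q hq => ?_⟩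
      · haveI := hq.1
        exact nilradical_le_prime q
      · haveI := hq.1.1
        exact le_antisymm (hq.2 ⟨h, bot_le⟩ (nilradical_le_prime q)) (nilradical_le_prime q)
  rw [key] at hR hS ⊢
  haveI : IrreducibleSpace (PrimeSpectrum R) :=
    PrimeSpectrum.irreducibleSpace_iff_isPrime_nilradical.mpr hR
  haveI : IrreducibleSpace (PrimeSpectrum S) :=
    PrimeSpectrum.irreducibleSpace_iff_isPrime_nilradical.mpr hS
  exact PrimeSpectrum.irreducibleSpace_iff_isPrime_nilradical.mp
    (Groth.Agent.H48.irreducibleSpace_tensor_of_isSepClosed (k := k) (R := R) (S := S))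

end Groth.Agent.S2112
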