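import Groth.Statements.S2113
import Groth.Agent.H11.GDomain

set_option autoImplicit false
universe u
open CAlg

namespace Groth.Agent.S2113

/-- A Noetherian ring in which each prime is maximal or else lies below infinitely many primes is a
Jacobson ring. -/
theorem result {R : Type u} [CommRing R] [IsNoetherianRing R]
    (h : ∀ (p : Ideal R) [p.IsPrime], p.IsMaximal ∨ {q : PrimeSpectrum R | p ≤ q.asIdeal}.Infinite) :
    IsJacobsonRing R := by
  classical
  rw [isJacobsonRing_iff_prime_eq]
  by_contra hcon
  rw [not_forall] at hcon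
  obtain ⟨P0, hP0⟩ := hcon
  rw [Classical.not_imp] at hP0
  let Bad : Set (Ideal R) := {P | P.IsPrime ∧ P.jacobson ≠ P}
  have hne : Bad.Nonempty := ⟨P0, hP0⟩
  obtain ⟨p, hpBad, hpmax⟩ := set_has_maximal_iff_noetherian.mpr inferInstance Bad hne
  obtain ⟨hpp, hpj⟩ := hpBad
  haveI := hpp
  have hnotmax : ¬ Ideal.IsMaximal p := fun hm => hpj (Ideal.jacobson_eq_self_of_isMaximal (H := hm))
  have hinf := (h p).resolve_left hnotmax
  have hgood : ∀ q : Ideal R, q.IsPrime → p < q → q.jacobson = q := by
    intro q hq hpq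
    by_contra hne
    exact hpmax q ⟨hq, hne⟩ hpq
  by_cases hint : ∀ f, (∀ q : Ideal R, q.IsPrime → p < q → f ∈ q) → f ∈ p
  · apply hpj
    apply le_antisymm _ Ideal.le_jacobson
    intro f hf
    apply hint
    intro q hq hpq
    rw [← hgood q hq hpq]
    exact Ideal.jacobson_mono hpq.le hf
  · rw [not_forall] at hint
    obtain ⟨f, hf⟩ := hint
    rw [Classical.not_imp] at hf
    obtain ⟨hfq, hfp⟩ := hf
    have hmk : Function.Surjective (Ideal.Quotient.mk p) := Ideal.Quotient.mk_surjective
    have hfin := Groth.Agent.H11.GDomain.finite_primes (D := R ⧸ p) (Ideal.Quotient.mk p f)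
      (by rwa [Ne, Ideal.Quotient.eq_zero_iff_mem]) (by
        intro Q hQ hQ0
        have hlt : p < Q.comap (Ideal.Quotient.mk p) := by
          refine lt_of_le_of_ne ?_ ?_
          · intro x hx
            rw [Ideal.mem_comap, Ideal.Quotient.eq_zero_iff_mem.mpr hx]
            exact Q.zero_mem
          · intro heq
            apply hQ0
            rw [eq_bot_iff]
            intro y hy
            obtain ⟨x, rfl⟩ := hmk y
            have : x ∈ Q.comap (Ideal.Quotient.mk p) := hy
            rw [← heq] at this
            rw [Ideal.mem_bot, Ideal.Quotient.eq_zero_iff_mem]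
            exact this
        exact hfq _ (Ideal.comap_isPrime _ _) hlt)
    apply hinf
    refine Set.Finite.subset (hfin.image (PrimeSpectrum.comap (Ideal.Quotient.mk p))) ?_
    intro q hq
    have hpq : p ≤ q.asIdeal := hq
    have hker : RingHom.ker (Ideal.Quotient.mk p) ≤ q.asIdeal := by
      rw [Ideal.mk_ker]; exact hpq
    haveI := q.2
    refine ⟨⟨q.asIdeal.map (Ideal.Quotient.mk p), Ideal.map_isPrime_of_surjective hmk hker⟩,
      trivial, ?_⟩
    apply PrimeSpectrum.ext
    change (q.asIdeal.map (Ideal.Quotient.mk p)).comap (Ideal.Quotient.mk p) = q.asIdeal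
    rw [Ideal.comap_map_of_surjective _ hmk, ← RingHom.ker_eq_comap_bot, Ideal.mk_ker]
    exact sup_eq_left.mpr hpq


end Groth.Agent.S2113
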