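import Groth.Statements.S2119
import Groth.Agent.H11.Nagata

set_option autoImplicit false
universe u
open CAlg

namespace Groth.Agent.S2119

/-- Nagata's criterion for factoriality, final assertion: let `A` be a domain in which every nonzero
nonunit factors into irreducibles, and `S` the multiplicative subset generated by a set of prime
elements. If the localization `S⁻¹A` is a unique factorization domain, then so is `A`. -/
theorem result {A : Type u} [CommRing A] [IsDomain A]
    (hfac : ∀ a : A, a ≠ 0 → ¬ IsUnit a → ∃ f : Multiset A, (∀ b ∈ f, Irreducible b) ∧ Associated f.prod a) (P : Set A)
    (hP : ∀ p ∈ P, Prime p) [IsDomain (Localization (Submonoid.closure P))]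
    (hS : UniqueFactorizationMonoid (Localization (Submonoid.closure P))) : UniqueFactorizationMonoid A := by
  exact Groth.Agent.H11.ufm_of_localization P hP hS hfac


end Groth.Agent.S2119
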