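import Groth.Statements.S2123
import Mathlib

set_option autoImplicit false
universe u
open CategoryTheory AlgebraicGeometry
open Mor

namespace Groth.Agent.S2123

/-- Let `X` be an integral separated scheme and `x, y` points such that the closure of `x` is not
contained in the closure of `y`. Then, inside the function field of `X`, the local ring at `x` is
not contained in the local ring at `y`. -/
theorem result (X : Scheme.{u}) [IsIntegral X] [X.IsSeparated] (x y : X)
    (h : ¬ closure ({x} : Set X) ⊆ closure {y}) :
    ¬ Set.range (X.presheaf.stalkSpecializes (genericPoint_specializes x)) ⊆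
        Set.range (X.presheaf.stalkSpecializes (genericPoint_specializes y)) := by
  classical
  intro hsub
  apply h
  rw [← specializes_iff_closure_subset]
  -- the two maps into the function field
  let ιx : X.presheaf.stalk x →+* X.presheaf.stalk (genericPoint X) :=
    (X.presheaf.stalkSpecializes (genericPoint_specializes x)).hom
  let ιy : X.presheaf.stalk y →+* X.presheaf.stalk (genericPoint X) :=
    (X.presheaf.stalkSpecializes (genericPoint_specializes y)).hom
  have hιy : Function.Injective ιy :=
    IsFractionRing.injective (X.presheaf.stalk y) X.functionField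
  have hmem : ∀ a, ιx a ∈ ιy.range := by
    intro a
    exact hsub ⟨a, rfl⟩
  let e : X.presheaf.stalk y ≃+* ιy.range :=
    RingEquiv.ofBijective ιy.rangeRestrict
      ⟨fun a b hab => hιy (congrArg Subtype.val hab), ιy.rangeRestrict_surjective⟩
  let φ : X.presheaf.stalk x →+* X.presheaf.stalk y :=
    (e.symm : ιy.range →+* X.presheaf.stalk y).comp (ιx.codRestrict ιy.range hmem)
  have hφ : ∀ a, ιy (φ a) = ιx a := by
    intro a
    have h1 : e (φ a) = ⟨ιx a, hmem a⟩ := by
      change e (e.symm (ιx.codRestrict ιy.range hmem a)) = _
      rw [RingEquiv.apply_symm_apply]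
      rfl
    exact congrArg Subtype.val h1
  let φ' : X.presheaf.stalk x ⟶ X.presheaf.stalk y := CommRingCat.ofHom φ
  have hφ' : φ' ≫ X.presheaf.stalkSpecializes (genericPoint_specializes y) =
      X.presheaf.stalkSpecializes (genericPoint_specializes x) := by
    ext a
    exact hφ a
  -- the two morphisms `Spec O_y ⟶ X`
  have hab : X.fromSpecStalk y = Spec.map φ' ≫ X.fromSpecStalk x := by
    haveI : IsDominant (Spec.map (X.presheaf.stalkSpecializes (genericPoint_specializes y))) := by
      constructor
      change DenseRange (PrimeSpectrum.comap ιy)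
      rw [PrimeSpectrum.denseRange_comap_iff_ker_le_nilRadical,
        (RingHom.injective_iff_ker_eq_bot ιy).mp hιy]
      exact bot_le
    refine ext_of_isDominant
      (Spec.map (X.presheaf.stalkSpecializes (genericPoint_specializes y))) ?_
    rw [Scheme.SpecMap_stalkSpecializes_fromSpecStalk, ← Category.assoc, ← Spec.map_comp, hφ',
      Scheme.SpecMap_stalkSpecializes_fromSpecStalk]
  have hy : X.fromSpecStalk y (IsLocalRing.closedPoint (X.presheaf.stalk y)) = y :=
    Scheme.fromSpecStalk_closedPoint
  have hmemr : y ∈ Set.range (X.fromSpecStalk x) := by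
    rw [← hy, hab, Scheme.Hom.comp_apply]
    exact ⟨_, rfl⟩
  rw [Scheme.range_fromSpecStalk] at hmemr
  exact hmemr


end Groth.Agent.S2123
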