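import Groth.Statements.S2134
import Mathlib.Tactic

set_option autoImplicit false
universe u
open CAlg

namespace Groth.Agent.S2134

/-- Let `K/k` be a field extension and `(K_α)` a nonempty family of intermediate fields, directed
downwards, with intersection `k`. For a `K`-subspace `V` of `K^n` (`n ≥ 1`), `V` contains a nonzero
vector with all coordinates in `k` if and only if for every `α` it contains a nonzero vector with
all coordinates in `K_α`. -/
theorem result {k K : Type u} [Field k] [Field K] [Algebra k K] {ι : Type u} [Nonempty ι]
    (F : ι → IntermediateField k K) (hdir : ∀ a b : ι, ∃ c, F c ≤ F a ⊓ F b) (hinf : ⨅ a, F a = ⊥) (n : ℕ) (hn : 1 ≤ n)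
    (V : Submodule K (Fin n → K)) :
    (∃ v ∈ V, v ≠ 0 ∧ ∀ i, v i ∈ Set.range (algebraMap k K)) ↔
      ∀ a, ∃ v ∈ V, v ≠ 0 ∧ ∀ i, v i ∈ F a := by
  classical
  constructor
  · rintro ⟨v, hv, hv0, hvk⟩ a
    refine ⟨v, hv, hv0, fun i => ?_⟩
    obtain ⟨c, hc⟩ := hvk i
    rw [← hc]
    exact (F a).algebraMap_mem c
  · intro H
    have key : ∀ S : Finset (Fin n),
        (∀ a, ∃ v ∈ V, v ≠ 0 ∧ (∀ i, v i ∈ F a) ∧ (∀ i, i ∉ S → v i = 0)) →
        ∃ v ∈ V, v ≠ 0 ∧ (∀ i, v i ∈ Set.range (algebraMap k K)) ∧ (∀ i, i ∉ S → v i = 0) := by
      intro S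
      induction S using Finset.induction_on with
      | empty =>
        intro h
        obtain ⟨a⟩ := ‹Nonempty ι›
        obtain ⟨v, _, hv0, _, hvS⟩ := h a
        exfalso
        apply hv0
        ext i
        exact hvS i (Finset.notMem_empty i)
      | insert i S' hi IH =>
        intro h
        by_cases hcase : ∀ a, ∃ v ∈ V, v ≠ 0 ∧ (∀ i, v i ∈ F a) ∧ (∀ i, i ∉ S' → v i = 0)
        · obtain ⟨v, hv, hv0, hvk, hvS⟩ := IH hcase
          refine ⟨v, hv, hv0, hvk, fun j hj => hvS j ?_⟩
          intro hj'
          exact hj (Finset.mem_insert_of_mem hj')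
        · rw [not_forall] at hcase
          obtain ⟨a₀, ha₀⟩ := hcase
          -- any K_c-vector (c ≤ a₀) in V supported in insert i S' with i-th coordinate zero vanishes
          have hzero : ∀ w ∈ V, (∀ j, w j ∈ F a₀) → (∀ j, j ∉ insert i S' → w j = 0) →
              w i = 0 → w = 0 := by
            intro w hw hwF hwS hwi
            by_contra hw0
            apply ha₀
            refine ⟨w, hw, hw0, hwF, fun j hj => ?_⟩
            by_cases hji : j = i
            · rw [hji]; exact hwi
            · apply hwS
              rw [Finset.mem_insert]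
              rintro (h1 | h1)
              · exact hji h1
              · exact hj h1
          -- normalized vectors
          have hnorm : ∀ c, F c ≤ F a₀ → ∃ u ∈ V, u i = 1 ∧ (∀ j, u j ∈ F c) ∧
              (∀ j, j ∉ insert i S' → u j = 0) := by
            intro c hc
            obtain ⟨v, hv, hv0, hvF, hvS⟩ := h c
            have hvi : v i ≠ 0 := by
              intro hvi
              exact hv0 (hzero v hv (fun j => hc (hvF j)) hvS hvi)
            refine ⟨(v i)⁻¹ • v, V.smul_mem _ hv, ?_, fun j => ?_, fun j hj => ?_⟩
            · simp [hvi]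
            · simp only [Pi.smul_apply, smul_eq_mul]
              exact (F c).mul_mem ((F c).inv_mem (hvF i)) (hvF j)
            · simp [hvS j hj]
          obtain ⟨u, hu, hui, huF, huS⟩ := hnorm a₀ le_rfl
          refine ⟨u, hu, ?_, fun j => ?_, huS⟩
          · intro h0
            rw [h0] at hui
            simp at hui
          · rw [← IntermediateField.mem_bot, ← hinf]
            have : u j ∈ ((⨅ a, F a : IntermediateField k K) : Set K) := by
              rw [IntermediateField.coe_iInf]
              rw [Set.mem_iInter]
              intro b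
              obtain ⟨c, hc⟩ := hdir a₀ b
              obtain ⟨w, hw, hwi, hwF, hwS⟩ := hnorm c (hc.trans inf_le_left)
              have huw : u - w = 0 := by
                apply hzero (u - w) (V.sub_mem hu hw)
                · intro j
                  exact (F a₀).sub_mem (huF j) ((hc.trans inf_le_left) (hwF j))
                · intro j hj
                  simp [huS j hj, hwS j hj]
                · simp [hui, hwi]
              have : u = w := sub_eq_zero.1 huw
              rw [this]
              exact (hc.trans inf_le_right) (hwF j)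
            exact this
    have := key Finset.univ (fun a => by
      obtain ⟨v, hv, hv0, hvF⟩ := H a
      exact ⟨v, hv, hv0, hvF, fun i hi => absurd (Finset.mem_univ i) hi⟩)
    obtain ⟨v, hv, hv0, hvk, _⟩ := this
    exact ⟨v, hv, hv0, hvk⟩


end Groth.Agent.S2134
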