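import Groth.Statements.S2138
import Groth.Agent.H11.SymbFlat

set_option autoImplicit false
universe u
open CAlg

namespace Groth.Agent.S2138

/-- Let `R → S` be flat and `𝔭` a prime of `R` whose extension `𝔮 = 𝔭S` is prime. Then for every `n` the
extension to `S` of the symbolic power `𝔭^{(n)}` (the contraction of `𝔭ⁿR_𝔭`) equals the symbolic
power `𝔮^{(n)}`. -/
theorem result {R S : Type u} [CommRing R] [CommRing S] [Algebra R S] [Module.Flat R S]
    (p : Ideal R) [p.IsPrime] [(p.map (algebraMap R S)).IsPrime] (n : ℕ) :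
    (((p ^ n).map (algebraMap R (Localization.AtPrime p))).comap (algebraMap R (Localization.AtPrime p))).map
        (algebraMap R S) =
      (((p.map (algebraMap R S)) ^ n).map (algebraMap S (Localization.AtPrime (p.map (algebraMap R S))))).comap
        (algebraMap S (Localization.AtPrime (p.map (algebraMap R S)))) := by
  classical
  have hq : (p.map (algebraMap R S)).IsPrime := inferInstance
  set q := p.map (algebraMap R S) with hqdef
  set P : Ideal R := ((p ^ n).map (algebraMap R (Localization.AtPrime p))).comap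
    (algebraMap R (Localization.AtPrime p)) with hPdef
  have hP : ∀ x, x ∈ P ↔ ∃ m ∈ p.primeCompl, m * x ∈ p ^ n := by
    intro x
    rw [hPdef, Ideal.mem_comap]
    exact IsLocalization.algebraMap_mem_map_algebraMap_iff p.primeCompl _ _ x
  have hQ : ∀ y, y ∈ ((q ^ n).map (algebraMap S (Localization.AtPrime q))).comap
      (algebraMap S (Localization.AtPrime q)) ↔ ∃ m ∈ q.primeCompl, m * y ∈ q ^ n := by
    intro y
    rw [Ideal.mem_comap]
    exact IsLocalization.algebraMap_mem_map_algebraMap_iff q.primeCompl _ _ y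
  have hqn : q ^ n = (p ^ n).map (algebraMap R S) := (Ideal.map_pow _ _ _).symm
  have hpP : p ^ n ≤ P := Ideal.le_comap_map
  apply le_antisymm
  · rw [Ideal.map_le_iff_le_comap]
    intro x hx
    obtain ⟨s, hs, hsx⟩ := (hP x).mp hx
    rw [Ideal.mem_comap, hQ]
    refine ⟨algebraMap R S s, Groth.Agent.H11.SymbFlat.algebraMap_not_mem p hq hs, ?_⟩
    rw [hqn, ← map_mul]
    exact Ideal.mem_map_of_mem _ hsx
  · intro y hy
    obtain ⟨t, ht, hty⟩ := (hQ y).mp hy
    have hty' : t * y ∈ P.map (algebraMap R S) := by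
      rw [hqn] at hty
      exact Ideal.map_mono hpP hty
    -- regularity on `R ⧸ P`
    have hM1 : ∀ a ∈ p ^ n, ∀ m : R ⧸ P, a • m = 0 := by
      intro a ha m
      obtain ⟨m, rfl⟩ := Ideal.Quotient.mk_surjective m
      rw [Algebra.smul_def, Ideal.Quotient.algebraMap_eq, ← map_mul,
        Ideal.Quotient.eq_zero_iff_mem]
      exact Ideal.mul_mem_right _ _ (hpP ha)
    have hM2 : ∀ s ∉ p, IsSMulRegular (R ⧸ P) s := by
      intro s hs x y hxy
      obtain ⟨x, rfl⟩ := Ideal.Quotient.mk_surjective x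
      obtain ⟨y, rfl⟩ := Ideal.Quotient.mk_surjective y
      change s • Ideal.Quotient.mk P x = s • Ideal.Quotient.mk P y at hxy
      rw [Algebra.smul_def, Algebra.smul_def, Ideal.Quotient.algebraMap_eq, ← map_mul, ← map_mul,
        Ideal.Quotient.eq, ← mul_sub] at hxy
      rw [Ideal.Quotient.eq]
      obtain ⟨m, hm, hmx⟩ := (hP _).mp hxy
      refine (hP _).mpr ⟨m * s, ?_, by rwa [mul_assoc]⟩
      exact Submonoid.mul_mem _ hm hs
    have hinj := Groth.Agent.H11.SymbFlat.ml p hq n (R ⧸ P) hM1 hM2 t ht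
    have h1 : Groth.Agent.H11.SymbFlat.T (R := R) (R ⧸ P) t ((1 : R ⧸ P) ⊗ₜ[R] y) = 0 := by
      rw [Groth.Agent.H11.SymbFlat.T_tmul]
      exact (Groth.Agent.H11.SymbFlat.one_tmul_eq_zero_iff P _).mpr hty'
    have h2 : (1 : R ⧸ P) ⊗ₜ[R] y = 0 := hinj (by rw [h1, map_zero])
    exact (Groth.Agent.H11.SymbFlat.one_tmul_eq_zero_iff P y).mp h2


end Groth.Agent.S2138
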