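import Groth.Statements.S2139
import Groth.Agent.H11.TotalFracNormal

set_option autoImplicit false
universe u
open CAlg

namespace Groth.Agent.S2139

/-- Let `R` be a reduced ring with finitely many minimal primes. Then every localization of `R` at a
prime is an integrally closed domain if and only if `R` is integrally closed in its total ring of
fractions. -/
theorem result {R : Type u} [CommRing R] [IsReduced R] (hfin : (minimalPrimes R).Finite) :
    (∀ (p : Ideal R) [p.IsPrime], IsDomain (Localization.AtPrime p) ∧ IsIntegrallyClosed (Localization.AtPrime p)) ↔
      IsIntegrallyClosedIn R (FractionRing R) := by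
  constructor
  · intro h
    exact Groth.Agent.H11.TotalFracNormal.forward (FractionRing R) h
  · intro hIC p _
    obtain ⟨d⟩ := Groth.Agent.H11.TotalFracNormal.exists_data hfin hIC p
    haveI hdom : IsDomain (Localization.AtPrime p) := d.isDomain (Localization.AtPrime p)
    exact ⟨hdom, d.isIntegrallyClosed (Localization.AtPrime p) hIC⟩


end Groth.Agent.S2139
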