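import Groth.Statements.S2140
import Groth.Agent.S2073
import Groth.Agent.H11.GenFree

set_option autoImplicit false
universe u
open CAlg

namespace Groth.Agent.S2140

/-- Let `R → S` be an injective ring map of finite type between domains. Then there are nonzero `f ∈ R`
and `g ∈ S` such that `S_{fg}` is a finitely presented `R_f`-algebra. -/
theorem result {R S : Type u} [CommRing R] [IsDomain R] [CommRing S] [IsDomain S]
    [Algebra R S] [Algebra.FiniteType R S] (hinj : Function.Injective (algebraMap R S)) :
    ∃ (f : R) (g : S), f ≠ 0 ∧ g ≠ 0 ∧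
      ∀ (Rf Sfg : Type u) [CommRing Rf] [CommRing Sfg] [Algebra R Rf] [IsLocalization.Away f Rf]
        [Algebra S Sfg] [IsLocalization.Away (algebraMap R S f * g) Sfg] [Algebra Rf Sfg] [Algebra R Sfg]
        [IsScalarTower R S Sfg] [IsScalarTower R Rf Sfg], Algebra.FinitePresentation Rf Sfg := by
  classical
  obtain ⟨d, y, S', hy, hyS', hS'fg, hint, f, hf0, hfS⟩ :=
    Groth.Agent.S2073.result (R := R) (S := S) hinj
  set D : Subalgebra R S := Algebra.adjoin R (Set.range y) with hD
  obtain ⟨s, hs⟩ := hS'fg
  have hsint : ∀ x ∈ (s : Set S), IsIntegral D x := fun x hx =>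
    hint x (hs ▸ Algebra.subset_adjoin hx)
  have hW : (Subalgebra.toSubmodule (Algebra.adjoin D (s : Set S))).FG :=
    fg_adjoin_of_finite s.finite_toSet hsint
  have hS'W : ∀ z ∈ S', z ∈ Subalgebra.toSubmodule (Algebra.adjoin D (s : Set S)) := by
    intro z hz
    rw [← hs] at hz
    have hle : Algebra.adjoin R (s : Set S) ≤
        (Algebra.adjoin D (s : Set S)).restrictScalars R :=
      Algebra.adjoin_le Algebra.subset_adjoin
    exact hle hz
  obtain ⟨k, x, hx⟩ := Submodule.fg_iff_exists_fin_generating_family.mp hW
  obtain ⟨r, ι, g', hι, hg'0, hg'⟩ :=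
    Groth.Agent.H11.GenFree.exists_free_of_span (D := D) (N := S) k x
  rw [hx] at hg'
  refine ⟨f, (g' : S), hf0, ?_, ?_⟩
  · intro h0
    exact hg'0 (Subtype.ext h0)
  intro Rf Sfg _ _ _ _ _ _ _ _ _ _
  suffices h : Algebra.FinitePresentation R Sfg by
    haveI : Algebra.FinitePresentation R Rf := IsLocalization.Away.finitePresentation f
    exact Algebra.FinitePresentation.of_restrict_scalars_finitePresentation R Rf Sfg
  -- the element `h = f * g'` of `D`
  set h : D := algebraMap R D f * g' with hh
  have hhS : (h : S) = algebraMap R S f * (g' : S) := by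
    rw [hh]; rfl
  have hloc : IsLocalization (Algebra.algebraMapSubmonoid S (Submonoid.powers h)) Sfg := by
    rw [Algebra.algebraMapSubmonoid_powers]
    have : algebraMap D S h = algebraMap R S f * (g' : S) := hhS
    rw [this]
    infer_instance
  haveI : IsLocalizedModule (Submonoid.powers h) (IsScalarTower.toAlgHom D S Sfg).toLinearMap :=
    isLocalizedModule_iff_isLocalization.mpr hloc
  have hrange : ∀ n : S, ∃ c ∈ Submonoid.powers h, c • n ∈ LinearMap.range ι := by
    intro n
    obtain ⟨m, hm⟩ := hfS n
    have h1 : g' • (f ^ m • n) ∈ LinearMap.range ι := hg' _ (hS'W _ hm)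
    refine ⟨h ^ (m + 1), ⟨m + 1, rfl⟩, ?_⟩
    have h2 : h ^ (m + 1) • n = (algebraMap R D f * g' ^ m) • (g' • (f ^ m • n)) := by
      rw [hh, mul_pow, smul_smul, Algebra.smul_def (f ^ m) n, Subalgebra.smul_def,
        Subalgebra.smul_def]
      simp only [smul_eq_mul, Subalgebra.coe_mul, Subalgebra.coe_pow, Subalgebra.coe_algebraMap,
        map_pow]
      ring
    rw [h2]
    exact Submodule.smul_mem _ _ h1
  haveI hlm : IsLocalizedModule (Submonoid.powers h)
      ((IsScalarTower.toAlgHom D S Sfg).toLinearMap ∘ₗ ι) :=
    Groth.Agent.H11.GenFree.isLocalizedModule_comp _ ι _ hι hrange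
  -- the localization `D_h` and its action on `Sfg`
  have hunit : IsUnit (algebraMap D Sfg h) := by
    have h1 : algebraMap D Sfg h = algebraMap S Sfg (algebraMap R S f * (g' : S)) := by
      rw [IsScalarTower.algebraMap_apply D S Sfg]
      exact congrArg _ hhS
    rw [h1]
    exact IsLocalization.Away.algebraMap_isUnit _
  letI : Algebra (Localization.Away h) Sfg :=
    (IsLocalization.Away.lift (S := Localization.Away h) h hunit).toAlgebra
  haveI : IsScalarTower D (Localization.Away h) Sfg :=
    IsScalarTower.of_algebraMap_eq' (by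
      ext a
      exact (IsLocalization.Away.lift_eq h hunit a).symm)
  haveI : Module.Free (Localization.Away h) Sfg :=
    Module.free_of_isLocalizedModule (Submonoid.powers h)
      ((IsScalarTower.toAlgHom D S Sfg).toLinearMap ∘ₗ ι)
  haveI : Module.Finite (Localization.Away h) Sfg :=
    Module.Finite.of_isLocalizedModule (Submonoid.powers h)
      ((IsScalarTower.toAlgHom D S Sfg).toLinearMap ∘ₗ ι)
  haveI : Module.FinitePresentation (Localization.Away h) Sfg :=
    Module.finitePresentation_of_projective _ _
  haveI : Algebra.FinitePresentation (Localization.Away h) Sfg :=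
    Algebra.FinitePresentation.of_finitePresentation _ _
  haveI : Algebra.FinitePresentation R D := Algebra.FinitePresentation.equiv hy.aevalEquiv
  haveI : Algebra.FinitePresentation D (Localization.Away h) :=
    IsLocalization.Away.finitePresentation h
  haveI : Algebra.FinitePresentation R (Localization.Away h) :=
    Algebra.FinitePresentation.trans R D (Localization.Away h)
  haveI : IsScalarTower R (Localization.Away h) Sfg :=
    IsScalarTower.of_algebraMap_eq (by
      intro a
      rw [IsScalarTower.algebraMap_apply R D (Localization.Away h),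
        ← IsScalarTower.algebraMap_apply D (Localization.Away h) Sfg,
        ← IsScalarTower.algebraMap_apply R D Sfg])
  exact Algebra.FinitePresentation.trans R (Localization.Away h) Sfg


end Groth.Agent.S2140
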