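import Groth.Statements.S2146
import Groth.Agent.H11.LocalProd

set_option autoImplicit false
universe u
open CAlg

namespace Groth.Agent.S2146

/-- Let `S` be a finitely presented `R`-algebra and `𝔮` a prime of `S` over `𝔭` such that the induced
map `R_𝔭 → S_𝔮` is bijective. Then for some `f ∉ 𝔭` there is an `R_f`-algebra `C` with `S_f ≅ R_f ×
C` as `R_f`-algebras. -/
theorem result {R S : Type u} [CommRing R] [CommRing S] [Algebra R S]
    [Algebra.FinitePresentation R S] (q : Ideal S) [q.IsPrime] (p : Ideal R) [p.IsPrime] [q.LiesOver p]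
    (h : Function.Bijective (Localization.localRingHom p q (algebraMap R S) (q.over_def p))) :
    ∃ f : R, f ∉ p ∧ ∀ (Rf Sf : Type u) [CommRing Rf] [CommRing Sf] [Algebra R Rf] [IsLocalization.Away f Rf]
      [Algebra S Sf] [IsLocalization.Away (algebraMap R S f) Sf] [Algebra Rf Sf] [Algebra R Sf] [IsScalarTower R S Sf]
      [IsScalarTower R Rf Sf],
      ∃ (C : Type u) (_ : CommRing C) (_ : Algebra Rf C), Nonempty (Sf ≃ₐ[Rf] (Rf × C)) := by
  classical
  let eqv : Localization.AtPrime p ≃+* Localization.AtPrime q := RingEquiv.ofBijective _ h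
  have heqv : ∀ x, eqv x = Localization.localRingHom p q (algebraMap R S) (q.over_def p) x :=
    fun _ => rfl
  let ψ : S →ₐ[R] Localization.AtPrime p :=
    { (eqv.symm.toRingHom.comp (algebraMap S (Localization.AtPrime q))) with
      commutes' := by
        intro r
        change eqv.symm (algebraMap S (Localization.AtPrime q) (algebraMap R S r)) = _
        rw [RingEquiv.symm_apply_eq, heqv, Localization.localRingHom_to_map] }
  have hψ : ∀ s, ψ s = eqv.symm (algebraMap S (Localization.AtPrime q) s) := fun _ => rfl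
  have ha : ∀ s, ψ s = 0 → ∃ h ∈ q.primeCompl, h * s = 0 := by
    intro s hs
    rw [hψ, RingEquiv.symm_apply_eq, map_zero] at hs
    obtain ⟨m, hm⟩ := (IsLocalization.map_eq_zero_iff q.primeCompl _ s).mp hs
    exact ⟨m, m.2, hm⟩
  have hb : ∀ h ∈ q.primeCompl, IsUnit (ψ h) := by
    intro h hh
    rw [hψ]
    exact (IsLocalization.map_units (Localization.AtPrime q) (⟨h, hh⟩ : q.primeCompl)).map
      eqv.symm
  obtain ⟨f1, a, hf1, N, σ1, hh, hap, -, h1, -, h2⟩ :=
    Groth.Agent.H11.LocalProd.exists_data p q.primeCompl ψ ha hb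
  refine ⟨f1 * a, fun hmem => ?_, ?_⟩
  · rcases Ideal.IsPrime.mem_or_mem inferInstance hmem with h' | h'
    · exact hf1 h'
    · exact hap h'
  · intro Rf Sf _ _ _ _ _ _ _ _ _ _
    obtain ⟨σ, u, -, he, hK⟩ :=
      Groth.Agent.H11.LocalProd.decomp_of_data f1 a N σ1 hh h1 h2 Rf Sf
    exact ⟨Sf ⧸ Ideal.span {algebraMap S Sf hh * u}, inferInstance, inferInstance,
      Groth.Agent.H11.LocalProd.prod_of_retraction σ _ he hK⟩


end Groth.Agent.S2146
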