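import Groth.Statements.S2148
import Groth.Agent.H13.PBasisKaehler

set_option autoImplicit false
universe u
open CAlg

namespace Groth.Agent.S2148

/-- Let `k` be a perfect field of characteristic `p > 0` and `K` an extension field of `k`. For `a ∈ K`,
the differential `da` vanishes in `Ω_{K/k}` if and only if `a` is a `p`-th power in `K`. -/
theorem result {k K : Type u} [Field k] [Field K] [Algebra k K] (p : ℕ) [Fact p.Prime]
    [CharP k p] [PerfectRing k p] (a : K) :
    KaehlerDifferential.D k K a = 0 ↔ ∃ b : K, b ^ p = a := by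
  haveI : CharP K p := charP_of_injective_algebraMap (algebraMap k K).injective p
  constructor
  · intro hD
    have h1 := (Groth.Agent.H13.PB.mem_adjoin_iff_D_mem_span (k := k) p (∅ : Set K) a).mpr (by
      rw [Set.image_empty, Submodule.span_empty, hD]; exact Submodule.zero_mem _)
    rw [Algebra.adjoin_empty] at h1
    obtain ⟨c, hc⟩ := Algebra.mem_bot.mp h1
    have hc2 : (c : K) = a := hc
    have key : ∀ y ∈ EGA41.pPowerSubalgebra p k K, ∃ b : K, b ^ p = y := by
      intro y hy
      unfold EGA41.pPowerSubalgebra at hy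
      induction hy using Algebra.adjoin_induction with
      | mem y hy =>
        obtain ⟨b, rfl⟩ := hy
        exact ⟨b, rfl⟩
      | algebraMap c =>
        obtain ⟨c', hc'⟩ := surjective_frobenius k p c
        refine ⟨algebraMap k K c', ?_⟩
        rw [← map_pow]
        congr 1
      | add x y _ _ hx hy =>
        obtain ⟨b1, rfl⟩ := hx
        obtain ⟨b2, rfl⟩ := hy
        exact ⟨b1 + b2, add_pow_char b1 b2 p⟩
      | mul x y _ _ hx hy =>
        obtain ⟨b1, rfl⟩ := hx
        obtain ⟨b2, rfl⟩ := hy
        exact ⟨b1 * b2, mul_pow b1 b2 p⟩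
    obtain ⟨b, hb⟩ := key c c.2
    exact ⟨b, hb.trans hc2⟩
  · rintro ⟨b, rfl⟩
    rw [Derivation.leibniz_pow]
    have : ((p : ℕ) : K) = 0 := CharP.cast_eq_zero K p
    rw [← Nat.cast_smul_eq_nsmul K, this, zero_smul]


end Groth.Agent.S2148
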