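import Groth.Statements.S2154
import Groth.Agent.H24.LimitFiniteBase

set_option autoImplicit false
universe u
open CategoryTheory AlgebraicGeometry
open Lim

namespace Groth.Agent.S2154

/-- Let `S` be quasi-compact and quasi-separated and `X = lim X_i` a cofiltered limit of quasi-compact
quasi-separated `S`-schemes locally of finite type over `S`, with finite transition morphisms. If `X
→ S` is integral then `X_i → S` is finite for all `i` beyond some index. -/
theorem result {I : Type u} [SmallCategory I] [IsCofiltered I] (S : Scheme.{u}) [CompactSpace S]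
    [QuasiSeparatedSpace S] (D : I ⥤ Over S) (c : Limits.Cone D) (hc : Limits.IsLimit c)
    [∀ (i j : I) (f : i ⟶ j), IsFinite (D.map f).left] [∀ i, CompactSpace (D.obj i).left]
    [∀ i, QuasiSeparatedSpace (D.obj i).left] [∀ i, LocallyOfFiniteType (D.obj i).hom] [IsIntegralHom c.pt.hom] :
    ∃ i₀ : I, ∀ (i : I) (_ : i ⟶ i₀), IsFinite (D.obj i).hom := by
  open Limits in
  let D' : I ⥤ Scheme.{u} := D ⋙ Over.forget S
  let t : D' ⟶ (Functor.const I).obj S :=
    { app := fun i => (D.obj i).hom
      naturality := fun i j f => by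
        simp only [Functor.const_obj_obj, Functor.const_obj_map, Category.comp_id]
        exact Over.w (D.map f) }
  have hc' : Limits.IsLimit ((Over.forget S).mapCone c) := Limits.isLimitOfPreserves (Over.forget S) hc
  let i₁ : I := (IsCofiltered.nonempty (C := I)).some
  have h1 : ∀ {i j : I} (f : i ⟶ j), IsFinite (D'.map f) := fun f =>
    ‹∀ (i j : I) (f : i ⟶ j), IsFinite (D.map f).left› _ _ f
  have h2 : ∀ i, CompactSpace (D'.obj i) := fun i => ‹∀ i, CompactSpace (D.obj i).left› i
  have h3 : ∀ i, QuasiSeparatedSpace (D'.obj i) := fun i =>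
    ‹∀ i, QuasiSeparatedSpace (D.obj i).left› i
  have h4 : ∀ i, LocallyOfFiniteType (Groth.Agent.H24.strMap D' t i) := fun i =>
    ‹∀ i, LocallyOfFiniteType (D.obj i).hom› i
  have h5 : IsIntegralHom (((Over.forget S).mapCone c).π.app i₁ ≫
      Groth.Agent.H24.strMap D' t i₁) := by
    have : ((Over.forget S).mapCone c).π.app i₁ ≫ Groth.Agent.H24.strMap D' t i₁ = c.pt.hom :=
      Over.w (c.π.app i₁)
    rw [this]; exact ‹IsIntegralHom c.pt.hom›
  obtain ⟨j, hj⟩ := Groth.Agent.H24.exists_isFinite_app D' t ((Over.forget S).mapCone c) hc' i₁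
  refine ⟨j, fun i g => ?_⟩
  have hnat : (D.obj i).hom = (D.map g).left ≫ (D.obj j).hom := (Over.w (D.map g)).symm
  have hj' : IsFinite (D.obj j).hom := hj
  rw [hnat]
  infer_instance

end Groth.Agent.S2154
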