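import Groth.Statements.S2160
import Mathlib

set_option autoImplicit false
universe u
open CAlg

namespace Groth.Agent.S2160

/-- Let `R` be a Noetherian local domain of Krull dimension at least `2`. Then every nonempty open
subset of `Spec R` is infinite. -/
theorem result {R : Type u} [CommRing R] [IsDomain R] [IsLocalRing R] [IsNoetherianRing R]
    (hdim : 2 ≤ ringKrullDim R) (U : Set (PrimeSpectrum R)) (hU : IsOpen U) (hne : U.Nonempty) : U.Infinite := by
  classical
  obtain ⟨x0, hx0⟩ := hne
  obtain ⟨_, ⟨f, rfl⟩, hxf, hfU⟩ :=
    PrimeSpectrum.isTopologicalBasis_basic_opens.exists_subset_of_mem_open hx0 hU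
  have hf0 : f ≠ 0 := by
    rintro rfl
    simp at hxf
  -- height one primes
  let H1 : Set (PrimeSpectrum R) := {p | p.asIdeal.height = 1}
  have hmht : (2 : ℕ∞) ≤ (IsLocalRing.maximalIdeal R).height := by
    have h1 := IsLocalRing.maximalIdeal_height_eq_ringKrullDim (R := R)
    rw [← h1] at hdim
    have h2 : ((2 : ℕ∞) : WithBot ℕ∞) ≤ ((IsLocalRing.maximalIdeal R).height : WithBot ℕ∞) := hdim
    exact WithBot.coe_le_coe.mp h2
  have hH1 : H1.Infinite := by
    intro hfin
    let s : Finset (PrimeSpectrum R) := hfin.toFinset
    -- the family of primes: ⊥ and the height one primes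
    let g : Option (PrimeSpectrum R) → Ideal R := fun o => o.elim ⊥ (fun p => p.asIdeal)
    let t : Finset (Option (PrimeSpectrum R)) := insert none (s.map ⟨some, Option.some_injective _⟩)
    have hprime : ∀ i ∈ t, i ≠ none → i ≠ none → (g i).IsPrime := by
      intro i _ hi _
      cases i with
      | none => exact absurd rfl hi
      | some p => exact p.2
    have hnot : ¬ ((IsLocalRing.maximalIdeal R : Set R) ⊆ ⋃ i ∈ (t : Set _), (g i : Set R)) := by
      rw [Ideal.subset_union_prime none none hprime]
      rintro ⟨i, hi, hle⟩
      cases i with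
      | none =>
        have : IsLocalRing.maximalIdeal R = ⊥ := le_bot_iff.mp hle
        rw [this, Ideal.height_bot] at hmht
        simp at hmht
      | some p =>
        have hp1 : p ∈ H1 := by
          have : some p ∈ s.map ⟨some, Option.some_injective _⟩ := by
            rcases Finset.mem_insert.mp hi with h | h
            · exact absurd h (by simp)
            · exact h
          rw [Finset.mem_map] at this
          obtain ⟨p', hp', hpp'⟩ := this
          have : p' = p := Option.some_injective _ hpp'
          rw [← this]
          exact hfin.mem_toFinset.mp hp'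
        have hpm : p.asIdeal = IsLocalRing.maximalIdeal R :=
          le_antisymm (IsLocalRing.le_maximalIdeal p.2.ne_top) hle
        have : p.asIdeal.height = 1 := hp1
        rw [hpm] at this
        rw [this] at hmht
        norm_num at hmht
    rw [Set.not_subset] at hnot
    obtain ⟨x, hxm, hxn⟩ := hnot
    have hx0' : x ≠ 0 := by
      rintro rfl
      apply hxn
      simp only [Set.mem_iUnion]
      exact ⟨none, by simp [t], by simp [g]⟩
    have hxm' : Ideal.span {x} ≤ IsLocalRing.maximalIdeal R := by
      rw [Ideal.span_le]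
      simpa using hxm
    obtain ⟨q, hq, -⟩ := Ideal.exists_minimalPrimes_le hxm'
    haveI := hq.isPrime
    have hq1 : q.height ≤ 1 :=
      Ideal.height_le_one_of_isPrincipal_of_mem_minimalPrimes (Ideal.span {x}) q hq
    have hxq : x ∈ q := hq.1.2 (Ideal.mem_span_singleton_self x)
    have hq0 : q.height ≠ 0 := by
      rw [Ne, Ideal.height_eq_zero_iff_eq_bot]
      rintro rfl
      exact hx0' (by simpa using hxq)
    have hqh : q.height = 1 := le_antisymm hq1 (Order.one_le_iff_pos.mpr (pos_iff_ne_zero.mpr hq0))
    apply hxn
    simp only [Set.mem_iUnion]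
    refine ⟨some ⟨q, hq.isPrime⟩, ?_, hxq⟩
    simp only [t, Finset.coe_insert, Finset.coe_map, Function.Embedding.coeFn_mk,
      Set.mem_insert_iff, Set.mem_image, Finset.mem_coe]
    right
    exact ⟨⟨q, hq.isPrime⟩, hfin.mem_toFinset.mpr hqh, rfl⟩
  -- those containing f are finite
  have hA : {p ∈ H1 | f ∈ p.asIdeal}.Finite := by
    have hfinmin := Ideal.finite_minimalPrimes_of_isNoetherianRing R (Ideal.span {f})
    refine (hfinmin.preimage (f := fun p : PrimeSpectrum R => p.asIdeal) ?_).subset ?_
    · intro a _ b _ hab
      exact PrimeSpectrum.ext hab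
    · rintro p ⟨hp1, hfp⟩
      have hp1' : p.asIdeal.height = 1 := hp1
      have hle : Ideal.span {f} ≤ p.asIdeal := by
        rw [Ideal.span_le]
        simpa using hfp
      have hge : (1 : ℕ∞) ≤ (Ideal.span {f}).height :=
        Ideal.one_le_height_span_singleton_of_mem_nonZeroDivisors
          (mem_nonZeroDivisors_of_ne_zero hf0)
      exact Ideal.mem_minimalPrimes_of_height_le hle (by rw [hp1']; exact hge)
  refine (hH1.diff hA).mono ?_
  rintro p ⟨hp1, hpA⟩
  apply hfU
  change f ∉ p.asIdeal
  intro hfp
  exact hpA ⟨hp1, hfp⟩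


end Groth.Agent.S2160
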