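import Groth.Statements.S2161
import Groth.Agent.H69.ChowSN

set_option autoImplicit false
universe u
open CAlg

namespace Groth.Agent.S2161

/-- Let R → S be a ring map whose kernel consists of nilpotent elements, and suppose S is generated as
an R-algebra by elements x for which some power (T − x)ⁿ, n > 0, is the image of a polynomial over
R. Then Spec S → Spec R is a homeomorphism, and for every prime 𝔮 of S over 𝔭 the extension
κ(𝔮)/κ(𝔭) is purely inseparable. -/
theorem result {R S : Type u} [CommRing R] [CommRing S] [Algebra R S]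
    (hker : ∀ r : R, algebraMap R S r = 0 → IsNilpotent r) (G : Set S) (hG : Algebra.adjoin R G = ⊤)
    (hpow : ∀ x ∈ G, ∃ (n : ℕ) (P : Polynomial R), 0 < n ∧
      Polynomial.map (algebraMap R S) P = (Polynomial.X - Polynomial.C x) ^ n) :
    IsHomeomorph (PrimeSpectrum.comap (algebraMap R S)) ∧
      ∀ (q : Ideal S) [q.IsPrime] (p : Ideal R) [p.IsPrime] [q.LiesOver p],
        @IsPurelyInseparable p.ResidueField q.ResidueField _ _
          (Ideal.ResidueField.mapₐ p q (Algebra.ofId R S) (q.over_def p)).toRingHom.toAlgebra := by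
  classical
  -- each generator is integral
  have hint : ∀ x ∈ G, IsIntegral R x := by
    intro x hx
    obtain ⟨n, P, hn, hP⟩ := hpow x hx
    rcases subsingleton_or_nontrivial S with hS | hS
    · rw [Subsingleton.elim x 0]
      exact isIntegral_zero
    have hM : ((Polynomial.X - Polynomial.C x) ^ n : Polynomial S).Monic :=
      (Polynomial.monic_X_sub_C x).pow n
    have hdeg : ((Polynomial.X - Polynomial.C x) ^ n : Polynomial S).natDegree = n := by
      rw [(Polynomial.monic_X_sub_C x).natDegree_pow, Polynomial.natDegree_X_sub_C, mul_one]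
    let Q : Polynomial R := Polynomial.X ^ n +
      ∑ i : Fin n, Polynomial.C (P.coeff i) * Polynomial.X ^ (i : ℕ)
    have hQm : Q.Monic := Polynomial.monic_X_pow_add (Polynomial.degree_sum_fin_lt _)
    refine ⟨Q, hQm, ?_⟩
    have hmap : Q.map (algebraMap R S) = (Polynomial.X - Polynomial.C x) ^ n := by
      conv_rhs => rw [hM.as_sum, hdeg]
      simp only [Q, Polynomial.map_add, Polynomial.map_pow, Polynomial.map_X,
        Polynomial.map_sum, Polynomial.map_mul, Polynomial.map_C]
      congr 1
      rw [Finset.sum_range]
      refine Finset.sum_congr rfl fun i _ => ?_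
      rw [← hP, Polynomial.coeff_map]
    rw [Polynomial.eval₂_eq_eval_map, hmap]
    simp [hn.ne']
  have hIntAlg : Algebra.IsIntegral R S := by
    refine ⟨fun s => ?_⟩
    have h1 : Algebra.adjoin R G ≤ integralClosure R S := Algebra.adjoin_le hint
    have h2 : s ∈ Algebra.adjoin R G := by rw [hG]; trivial
    exact h1 h2
  have hφint : (algebraMap R S).IsIntegral := fun s => hIntAlg.isIntegral s
  have hsurj : Function.Surjective (PrimeSpectrum.comap (algebraMap R S)) := by
    intro p
    have hle : RingHom.ker (algebraMap R S) ≤ p.asIdeal := by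
      intro r hr
      obtain ⟨m, hm⟩ := hker r hr
      exact p.isPrime.mem_of_pow_mem m (hm ▸ p.asIdeal.zero_mem)
    obtain ⟨Q, -, hQ, hQp⟩ := Ideal.exists_ideal_over_prime_of_isIntegral p.asIdeal
      (⊥ : Ideal S) (by rw [← RingHom.ker_eq_comap_bot]; exact hle)
    exact ⟨⟨Q, hQ⟩, PrimeSpectrum.ext hQp⟩
  have hext : ∀ (L : Type u) [Field L] (α β : S →+* L),
      α.comp (algebraMap R S) = β.comp (algebraMap R S) → α = β := by
    intro L _ α β hαβ
    let _ : Algebra R L := (α.comp (algebraMap R S)).toAlgebra
    let α' : S →ₐ[R] L := { α with commutes' := fun r => rfl }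
    let β' : S →ₐ[R] L := { β with commutes' := fun r =>
      (RingHom.congr_fun hαβ r).symm }
    have : α' = β' := by
      apply AlgHom.ext_of_adjoin_eq_top hG
      intro x hx
      obtain ⟨n, P, hn, hP⟩ := hpow x hx
      show α x = β x
      have h1 : (P.map (algebraMap R S)).map α = (P.map (algebraMap R S)).map β := by
        rw [Polynomial.map_map, Polynomial.map_map, hαβ]
      rw [hP] at h1
      simp only [Polynomial.map_pow, Polynomial.map_sub, Polynomial.map_X,
        Polynomial.map_C] at h1
      have h2 := congrArg (Polynomial.eval (α x)) h1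
      simp only [Polynomial.eval_pow, Polynomial.eval_sub, Polynomial.eval_X,
        Polynomial.eval_C, sub_self, zero_pow hn.ne'] at h2
      exact sub_eq_zero.1 (pow_eq_zero_iff hn.ne' |>.1 h2.symm)
    ext s
    exact DFunLike.congr_fun this s
  refine ⟨?_, ?_⟩
  · exact Groth.Agent.H69.isHomeomorph_of_isUnivHomeo _
      (Groth.Agent.H69.isUnivHomeo_of _ hφint hsurj hext)
  · intro q _ p _ _
    obtain rfl : p = q.under R := q.over_def p
    exact Groth.Agent.H69.isPurelyInseparable_of_ringHom_ext (algebraMap R S) hext ⟨q, inferInstance⟩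

end Groth.Agent.S2161
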