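import Groth.Statements.S2163
import Mathlib

set_option autoImplicit false
universe u
open CAlg

namespace Groth.Agent.S2163

/-- A ring `R` is coherent — every finitely generated ideal is a finitely presented module — if and only
if for every index set `A` (in the same universe) the product module `R^A` is flat. -/
theorem result {R : Type u} [CommRing R] :
    (∀ I : Ideal R, I.FG → Module.FinitePresentation R I) ↔ ∀ (A : Type u), Module.Flat R (A → R) := by
  classical
  -- the presentation map of a finitely generated ideal
  have key : ∀ (l : ℕ) (f : Fin l → R),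
      ∃ π : (Fin l → R) →ₗ[R] (Ideal.span (Set.range f) : Ideal R), Function.Surjective π ∧
        ∀ c, c ∈ LinearMap.ker π ↔ ∑ i, c i * f i = 0 := by
    intro l f
    have hmem : ∀ c, Fintype.linearCombination R f c ∈ (Ideal.span (Set.range f) : Ideal R) := by
      intro c
      have : Fintype.linearCombination R f c ∈ LinearMap.range (Fintype.linearCombination R f) :=
        ⟨c, rfl⟩
      rw [Fintype.range_linearCombination] at this
      exact this
    refine ⟨LinearMap.codRestrict _ (Fintype.linearCombination R f) hmem, ?_, ?_⟩
    · rintro ⟨z, hz⟩
      have hz' : z ∈ LinearMap.range (Fintype.linearCombination R f) := by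
        rw [Fintype.range_linearCombination]; exact hz
      obtain ⟨c, rfl⟩ := hz'
      exact ⟨c, rfl⟩
    · intro c
      rw [LinearMap.ker_codRestrict, LinearMap.mem_ker, Fintype.linearCombination_apply]
      simp only [smul_eq_mul]
  constructor
  · intro hcoh A
    rw [Module.Flat.iff_forall_isTrivialRelation]
    intro l f x hfx
    obtain ⟨π, hπ, hker⟩ := key l f
    haveI : Module.FinitePresentation R (Ideal.span (Set.range f) : Ideal R) :=
      hcoh _ ⟨Finset.univ.image f, by simp⟩
    have hK : (LinearMap.ker π).FG := Module.FinitePresentation.fg_ker π hπ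
    obtain ⟨k, b, hb⟩ := Submodule.fg_iff_exists_fin_generating_family.mp hK
    have hbK : ∀ j, b j ∈ LinearMap.ker π := fun j => hb ▸ Submodule.subset_span ⟨j, rfl⟩
    have hx : ∀ a : A, (fun i => x i a) ∈ LinearMap.ker π := by
      intro a
      rw [hker]
      have := congrFun hfx a
      simp only [Finset.sum_apply, Pi.smul_apply, smul_eq_mul, Pi.zero_apply] at this
      rw [← this]
      exact Finset.sum_congr rfl fun i _ => mul_comm _ _
    have hy : ∀ a : A, ∃ y : Fin k → R, ∑ j, y j • b j = fun i => x i a := by
      intro a
      have := hx a
      rw [← hb] at this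
      exact (Submodule.mem_span_range_iff_exists_fun R).mp this
    choose y hy using hy
    refine ⟨k, fun i j => b j i, fun j a => y a j, ?_, ?_⟩
    · intro i
      funext a
      have := congrFun (hy a) i
      simp only [Finset.sum_apply, Pi.smul_apply, smul_eq_mul] at this ⊢
      rw [← this]
      exact Finset.sum_congr rfl fun j _ => mul_comm _ _
    · intro j
      have := (hker (b j)).mp (hbK j)
      rw [← this]
      exact Finset.sum_congr rfl fun i _ => mul_comm _ _
  · intro hflat I hI
    obtain ⟨l, f, hf⟩ := Submodule.fg_iff_exists_fin_generating_family.mp hI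
    have hI' : I = Ideal.span (Set.range f) := hf.symm
    subst hI'
    obtain ⟨π, hπ, hker⟩ := key l f
    refine Module.finitePresentation_of_surjective π hπ ?_
    -- apply flatness of `R ^ K`
    haveI := hflat (LinearMap.ker π)
    let x : Fin l → (LinearMap.ker π → R) := fun i c => c.1 i
    have hfx : ∑ i, f i • x i = 0 := by
      funext c
      have := (hker c.1).mp c.2
      simp only [Finset.sum_apply, Pi.smul_apply, smul_eq_mul, Pi.zero_apply]
      rw [← this]
      exact Finset.sum_congr rfl fun i _ => mul_comm _ _
    obtain ⟨k, a, y, h1, h2⟩ := Module.Flat.iff_forall_isTrivialRelation.mp inferInstance hfx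
    have hbK : ∀ j, (fun i => a i j) ∈ LinearMap.ker π := by
      intro j
      rw [hker, ← h2 j]
      exact Finset.sum_congr rfl fun i _ => mul_comm _ _
    refine ⟨Finset.univ.image fun j => (fun i => a i j), ?_⟩
    apply le_antisymm
    · rw [Submodule.span_le]
      intro c hc
      simp only [Finset.coe_image, Finset.coe_univ, Set.image_univ, Set.mem_range] at hc
      obtain ⟨j, rfl⟩ := hc
      exact hbK j
    · intro c hc
      have hc' : c = ∑ j, y j ⟨c, hc⟩ • (fun i => a i j) := by
        funext i
        have := congrFun (h1 i) ⟨c, hc⟩
        simp only [Finset.sum_apply, Pi.smul_apply, smul_eq_mul] at this ⊢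
        change c i = _ at this
        rw [this]
        exact Finset.sum_congr rfl fun j _ => mul_comm _ _
      rw [hc']
      refine Submodule.sum_mem _ fun j _ => Submodule.smul_mem _ _ (Submodule.subset_span ?_)
      simp


end Groth.Agent.S2163
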