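import Groth.Statements.S2165
import Groth.Agent.H26.ComplQuot
import Groth.Agent.Lead.RegularCompletion

set_option autoImplicit false
universe u
open LCI

namespace Groth.Agent.S2165

/-- Let R be a regular ring, p a prime ideal of R and f_1, ..., f_r a regular sequence of R contained in
p. Then the local ring R_p/(f_1, ..., f_r) is a complete intersection: its completion is a regular
local ring modulo a regular sequence. The instance hypothesis that the quotient is local always
holds. -/
theorem result {R : Type u} [CommRing R] [IsRegularRing R]
    (p : Ideal R) [p.IsPrime] (rs : List R) (hmem : ∀ r ∈ rs, r ∈ p)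
    (hreg : RingTheory.Sequence.IsRegular R rs)
    [IsLocalRing (Localization.AtPrime p ⧸
      Ideal.map (algebraMap R (Localization.AtPrime p)) (Ideal.ofList rs))] :
    Pi1.IsCompleteIntersection (Localization.AtPrime p ⧸
      Ideal.map (algebraMap R (Localization.AtPrime p)) (Ideal.ofList rs)) := by
  classical
  let L := Localization.AtPrime p
  let I : Ideal L := Ideal.map (algebraMap R L) (Ideal.ofList rs)
  let L' := AdicCompletion (IsLocalRing.maximalIdeal L) L
  have : IsRegularLocalRing L := inferInstance
  have : IsNoetherianRing L := inferInstance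
  have hB : IsRegularLocalRing L' := Groth.Agent.Lead.RLR.isRegularLocalRing_adicCompletion L
  have : Module.FaithfullyFlat L L' := Module.FaithfullyFlat.of_flat_of_isLocalHom
  have h1 : RingTheory.Sequence.IsRegular L (rs.map (algebraMap R L)) :=
    hreg.toIsWeaklyRegular.isRegular_of_isLocalization_of_mem L p hmem
  have h2 : RingTheory.Sequence.IsRegular L' ((rs.map (algebraMap R L)).map (algebraMap L L')) :=
    h1.of_faithfullyFlat
  refine ⟨L', inferInstance, hB, (rs.map (algebraMap R L)).map (algebraMap L L'), ?_, h2, ?_⟩
  · intro r hr
    rw [List.mem_map] at hr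
    obtain ⟨r', hr', rfl⟩ := hr
    rw [List.mem_map] at hr'
    obtain ⟨x, hx, rfl⟩ := hr'
    rw [AdicCompletion.maximalIdeal_eq_map (R := L)]
    apply Ideal.mem_map_of_mem
    rw [IsLocalization.AtPrime.to_map_mem_maximal_iff L p]
    exact hmem x hx
  · obtain ⟨e⟩ := Groth.Agent.H26.ComplQuot.nonempty_adicCompletion_quotient_equiv L I
    have hI : I.map (algebraMap L L') =
        Ideal.span {r | r ∈ (rs.map (algebraMap R L)).map (algebraMap L L')} := by
      change Ideal.map (algebraMap L L') (Ideal.map (algebraMap R L) (Ideal.ofList rs)) =
        Ideal.ofList _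
      rw [Ideal.map_ofList, Ideal.map_ofList]
    exact ⟨e.trans (Ideal.quotEquivOfEq hI)⟩

end Groth.Agent.S2165
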