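import Groth.Statements.S2170
import Mathlib.Tactic

set_option autoImplicit false
open Finset
open Models

namespace Groth.Agent.S2170

/-- Let A be a symmetric real n × n matrix with non-negative off-diagonal entries and m a vector with
positive entries such that for every i, ∑_{j ≠ i} A_{ij} m_j ≤ −A_{ii} m_i. Then the kernel of A is
the span of the vectors equal to m on an index set I and zero off I, for those I such that A_{ij} =
0 whenever i ∈ I and j ∉ I and such that equality holds in the above inequality for every i ∈ I. The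
published statement omits the symmetry of A (without which it fails) and applies it only to
symmetric matrices; stated here with A symmetric. -/
theorem result {n : ℕ} (A : Matrix (Fin n) (Fin n) ℝ) (m : Fin n → ℝ)
    (hsymm : A.IsSymm) (hA : ∀ i j, i ≠ j → 0 ≤ A i j) (hm : ∀ i, 0 < m i)
    (hle : ∀ i, ∑ j ∈ univ.erase i, A i j * m j ≤ -(A i i * m i)) :
    LinearMap.ker (Matrix.mulVecLin A) = Submodule.span ℝ
      {x : Fin n → ℝ | ∃ I : Finset (Fin n), (∀ i ∈ I, ∀ j ∉ I, A i j = 0) ∧
        (∀ i ∈ I, ∑ j ∈ univ.erase i, A i j * m j = -(A i i * m i)) ∧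
        x = fun i => if i ∈ I then m i else 0} := by
  have hsym : ∀ i j, A i j = A j i := fun i j => (hsymm.apply i j).symm
  have hrow : ∀ i, ∑ j, A i j * m j = A i i * m i + ∑ j ∈ univ.erase i, A i j * m j := by
    intro i
    exact (Finset.add_sum_erase univ (fun j => A i j * m j) (Finset.mem_univ i)).symm
  apply le_antisymm
  · intro x hx
    have hx' : A.mulVec x = 0 := by simpa using hx
    set c : Fin n → ℝ := fun i => x i / m i with hc
    have hxc : ∀ i, x i = c i * m i := fun i => by
      simp only [hc]; field_simp [(hm i).ne']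
    set r : Fin n → ℝ := fun i => ∑ j, A i j * m j with hr
    have hr_le : ∀ i, r i ≤ 0 := by
      intro i
      have h1 := hle i
      have h2 : r i = A i i * m i + ∑ j ∈ univ.erase i, A i j * m j := hrow i
      linarith
    have hS12 : ∑ i, ∑ j, A i j * m i * m j * c i ^ 2 = ∑ i, ∑ j, A i j * m i * m j * c j ^ 2 := by
      rw [Finset.sum_comm]
      refine Finset.sum_congr rfl (fun i _ => Finset.sum_congr rfl (fun j _ => ?_))
      rw [hsym j i]; ring
    have hq : ∑ i, x i * (A.mulVec x) i = ∑ i, ∑ j, A i j * m i * m j * (c i * c j) := by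
      refine Finset.sum_congr rfl (fun i _ => ?_)
      simp only [Matrix.mulVec, dotProduct, Finset.mul_sum]
      refine Finset.sum_congr rfl (fun j _ => ?_)
      rw [hxc i, hxc j]; ring
    have hd : ∑ i, c i ^ 2 * m i * r i = ∑ i, ∑ j, A i j * m i * m j * c i ^ 2 := by
      refine Finset.sum_congr rfl (fun i _ => ?_)
      simp only [hr, Finset.mul_sum]
      refine Finset.sum_congr rfl (fun j _ => ?_)
      ring
    have hsq : ∑ i, ∑ j, A i j * m i * m j * (c i - c j) ^ 2 =
        ∑ i, ∑ j, A i j * m i * m j * c i ^ 2 + ∑ i, ∑ j, A i j * m i * m j * c j ^ 2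
          - 2 * ∑ i, ∑ j, A i j * m i * m j * (c i * c j) := by
      rw [Finset.mul_sum, ← Finset.sum_add_distrib, ← Finset.sum_sub_distrib]
      refine Finset.sum_congr rfl (fun i _ => ?_)
      rw [Finset.mul_sum, ← Finset.sum_add_distrib, ← Finset.sum_sub_distrib]
      refine Finset.sum_congr rfl (fun j _ => ?_)
      ring
    have hq0 : ∑ i, x i * (A.mulVec x) i = 0 := by
      simp [hx']
    have hkey : 2 * ∑ i, c i ^ 2 * m i * r i = ∑ i, ∑ j, A i j * m i * m j * (c i - c j) ^ 2 := by
      rw [hsq, hd, ← hS12, ← hq, hq0]; ring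
    have hterm1 : ∀ i ∈ (univ : Finset (Fin n)), c i ^ 2 * m i * r i ≤ 0 := by
      intro i _
      have : 0 ≤ c i ^ 2 * m i := mul_nonneg (sq_nonneg _) (hm i).le
      exact mul_nonpos_of_nonneg_of_nonpos this (hr_le i)
    have hterm2 : ∀ i ∈ (univ : Finset (Fin n)), ∀ j ∈ (univ : Finset (Fin n)),
        0 ≤ A i j * m i * m j * (c i - c j) ^ 2 := by
      intro i _ j _
      by_cases hij : i = j
      · subst hij; simp
      · exact mul_nonneg (mul_nonneg (mul_nonneg (hA i j hij) (hm i).le) (hm j).le) (sq_nonneg _)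
    have hL : ∑ i, c i ^ 2 * m i * r i ≤ 0 := Finset.sum_nonpos hterm1
    have hR : 0 ≤ ∑ i, ∑ j, A i j * m i * m j * (c i - c j) ^ 2 :=
      Finset.sum_nonneg (fun i hi => Finset.sum_nonneg (hterm2 i hi))
    have hL0 : ∑ i, c i ^ 2 * m i * r i = 0 := by linarith
    have hR0 : ∑ i, ∑ j, A i j * m i * m j * (c i - c j) ^ 2 = 0 := by linarith
    have h1 : ∀ i, c i ≠ 0 → r i = 0 := by
      intro i hci
      have := (Finset.sum_eq_zero_iff_of_nonpos hterm1).1 hL0 i (Finset.mem_univ i)
      have hpos : c i ^ 2 * m i ≠ 0 := mul_ne_zero (pow_ne_zero _ hci) (hm i).ne'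
      exact (mul_eq_zero.1 this).resolve_left hpos
    have h2 : ∀ i j, A i j ≠ 0 → c i = c j := by
      intro i j hAij
      have hi := (Finset.sum_eq_zero_iff_of_nonneg
        (fun i hi => Finset.sum_nonneg (hterm2 i hi))).1 hR0 i (Finset.mem_univ i)
      have hj := (Finset.sum_eq_zero_iff_of_nonneg (hterm2 i (Finset.mem_univ i))).1 hi j
        (Finset.mem_univ j)
      have hne : A i j * m i * m j ≠ 0 :=
        mul_ne_zero (mul_ne_zero hAij (hm i).ne') (hm j).ne'
      have := (mul_eq_zero.1 hj).resolve_left hne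
      have := pow_eq_zero_iff (two_ne_zero) |>.1 this
      linarith
    have hxsum : x = ∑ t ∈ (univ.image c).erase 0,
        t • (fun i => if i ∈ univ.filter (fun i => c i = t) then m i else 0) := by
      funext i
      simp only [Finset.sum_apply, Pi.smul_apply, smul_eq_mul, Finset.mem_filter,
        Finset.mem_univ, true_and, mul_ite, mul_zero]
      rw [Finset.sum_ite_eq]
      by_cases hci : c i = 0
      · rw [hxc i, hci]; simp
      · rw [if_pos]
        · exact hxc i
        · exact Finset.mem_erase.2 ⟨hci, Finset.mem_image_of_mem c (Finset.mem_univ i)⟩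
    rw [hxsum]
    refine Submodule.sum_mem _ (fun t ht => Submodule.smul_mem _ _ (Submodule.subset_span ?_))
    have ht0 : t ≠ 0 := (Finset.mem_erase.1 ht).1
    refine ⟨univ.filter (fun i => c i = t), ?_, ?_, rfl⟩
    · intro i hi j hj
      simp only [Finset.mem_filter, Finset.mem_univ, true_and] at hi hj
      by_contra hne
      exact hj ((h2 i j hne).symm.trans hi)
    · intro i hi
      simp only [Finset.mem_filter, Finset.mem_univ, true_and] at hi
      have hri : r i = 0 := h1 i (by rw [hi]; exact ht0)
      have h2' : r i = A i i * m i + ∑ j ∈ univ.erase i, A i j * m j := hrow i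
      linarith
  · rw [Submodule.span_le]
    rintro x ⟨I, hI1, hI2, rfl⟩
    simp only [SetLike.mem_coe, LinearMap.mem_ker, Matrix.mulVecLin_apply]
    funext i
    simp only [Matrix.mulVec, dotProduct, Pi.zero_apply]
    by_cases hi : i ∈ I
    · have h1 : ∑ j, A i j * (if j ∈ I then m j else 0) = ∑ j, A i j * m j := by
        refine Finset.sum_congr rfl (fun j _ => ?_)
        by_cases hj : j ∈ I
        · simp [hj]
        · simp [hj, hI1 i hi j hj]
      rw [h1, hrow i, hI2 i hi]; ring
    · refine Finset.sum_eq_zero (fun j _ => ?_)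
      by_cases hj : j ∈ I
      · rw [hsym i j, hI1 j hj i hi]; simp
      · simp [hj]

end Groth.Agent.S2170
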