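import Groth.Statements.S2178
import Groth.Agent.H11.NumKer

set_option autoImplicit false
open Finset
open Models Models.NumericalType

namespace Groth.Agent.S2178

/-- The Picard group of a numerical type (the cokernel of the matrix (a i j / w i) acting on Z^n) has
free rank one: its rank as a Z-module is 1. -/
theorem result {n : ℕ} (T : Models.NumericalType n) : Module.finrank ℤ T.Pic = 1 := by
  have hrel : ∀ (v : Fin n → ℤ) (i : Fin n),
      (T.a.mulVec v) i = T.w i * (T.picMatrix.mulVec v) i := by
    intro v i
    simp only [Matrix.mulVec, dotProduct, Finset.mul_sum]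
    refine Finset.sum_congr rfl (fun j _ => ?_)
    have : T.a i j = T.w i * (T.a i j / T.w i) := (Int.mul_ediv_cancel' (T.w_dvd i j)).symm
    rw [Models.NumericalType.picMatrix, ← mul_assoc, ← this]
  have hPm : T.picMatrix.mulVec T.m = 0 := by
    ext i
    have h1 := hrel T.m i
    rw [T.mulVec_m] at h1
    simp only [Pi.zero_apply] at h1 ⊢
    rcases mul_eq_zero.1 h1.symm with h | h
    · exact absurd h (T.w_pos i).ne'
    · exact h
  have hker : ∀ v : Fin n → ℤ, T.picMatrix.mulVec v = 0 →
      ∀ i j, v i * T.m j = v j * T.m i := by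
    intro v hv
    apply Groth.Agent.H11.NT.ker_int T v
    ext i
    rw [hrel v i, hv]
    simp
  exact Groth.Agent.H11.NT.finrank_coker_eq_one T.pos T.picMatrix T.m T.m_pos hPm hker


end Groth.Agent.S2178
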