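import Groth.Statements.S2183
import Groth.Agent.H11.NumType
import Groth.Agent.S2182
import Mathlib.Tactic

set_option autoImplicit false
open Finset
open Models Models.NumericalType

namespace Groth.Agent.S2183

open Classical in
/-- Let T be a minimal numerical type with n > 1 indices and genus g at least 2, and let J be the set of
indices which are not (-2)-indices. Then J has at most 2g - 2 elements, and for j in J one has g j <
g, m j * |a j j| at most 6g - 6, and m i * a i j at most 6g - 6 for every index i. -/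
theorem result {n : ℕ} (T : Models.NumericalType n) (hmin : T.IsMinimal) (hn : 1 < n) (hg : 2 ≤ T.genus) :
    ((univ.filter fun j => ¬T.IsMinusTwo j).card : ℤ) ≤ 2 * T.genus - 2 ∧
      ∀ j, ¬T.IsMinusTwo j →
        T.g j < T.genus ∧ T.m j * |T.a j j| ≤ 6 * T.genus - 6 ∧
          ∀ i, T.m i * T.a i j ≤ 6 * T.genus - 6 := by
  have hd : ∀ i, ∃ d : ℤ, 1 ≤ d ∧ T.a i i = -(d * T.w i) ∧ (T.g i = 0 → 2 ≤ d) := by
    intro i
    obtain ⟨k, hk⟩ := T.w_dvd i i
    have hneg := Groth.Agent.H11.NT.diag_neg T hn i
    have hw := T.w_pos i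
    have hk0 : k < 0 := by
      by_contra hk0
      rw [not_lt] at hk0
      have : 0 ≤ T.w i * k := mul_nonneg hw.le hk0
      omega
    refine ⟨-k, by omega, by rw [hk]; ring, fun hg0 => ?_⟩
    by_contra hlt
    have hk1 : k = -1 := by omega
    exact hmin i ⟨hg0, by rw [hk, hk1]; ring⟩
  choose d hd1 hda hd2 using hd
  have h2g : 2 * T.genus - 2 = ∑ i, T.m i * T.w i * (2 * T.g i - 2 + d i) := by
    obtain ⟨k, hk⟩ := Groth.Agent.H11.NT.two_dvd_sum T
    unfold Models.NumericalType.genus
    rw [hk, Int.mul_ediv_cancel_left _ (by norm_num : (2:ℤ) ≠ 0)]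
    have h1 : ∑ i, T.m i * T.w i * (2 * T.g i - 2 + d i) =
        2 * ∑ i, T.m i * T.w i * (T.g i - 1) - ∑ i, T.m i * T.a i i := by
      rw [Finset.mul_sum, ← Finset.sum_sub_distrib]
      refine Finset.sum_congr rfl (fun i _ => ?_)
      rw [hda i]; ring
    rw [h1, hk]; ring
  have hmw : ∀ i, 1 ≤ T.m i * T.w i := by
    intro i
    have := mul_pos (T.m_pos i) (T.w_pos i)
    omega
  have hfac_nonneg : ∀ i, 0 ≤ 2 * T.g i - 2 + d i := by
    intro i
    by_cases hg0 : T.g i = 0
    · have := hd2 i hg0
      omega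
    · have := T.g_nonneg i
      have := hd1 i
      omega
  have hterm_nonneg : ∀ i, 0 ≤ T.m i * T.w i * (2 * T.g i - 2 + d i) := fun i =>
    mul_nonneg (by have := hmw i; omega) (hfac_nonneg i)
  have hfac_pos : ∀ j, ¬T.IsMinusTwo j → 1 ≤ 2 * T.g j - 2 + d j := by
    intro j hj
    by_cases hg0 : T.g j = 0
    · have h2 := hd2 j hg0
      have hne : d j ≠ 2 := by
        intro h
        apply hj
        refine ⟨hg0, ?_⟩
        rw [hda j, h]; ring
      omega
    · have := T.g_nonneg j
      have := hd1 j
      omega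
  have hterm_ge : ∀ j, 2 * T.g j - 2 + d j ≤ T.m j * T.w j * (2 * T.g j - 2 + d j) := by
    intro j
    have h1 := hmw j
    have h2 := hfac_nonneg j
    nlinarith
  have hterm_pos : ∀ j, ¬T.IsMinusTwo j → 1 ≤ T.m j * T.w j * (2 * T.g j - 2 + d j) := by
    intro j hj
    have := hfac_pos j hj
    have := hterm_ge j
    omega
  have hterm_le : ∀ j, T.m j * T.w j * (2 * T.g j - 2 + d j) ≤ 2 * T.genus - 2 := by
    intro j
    rw [h2g]
    exact Finset.single_le_sum (f := fun i => T.m i * T.w i * (2 * T.g i - 2 + d i))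
      (fun i _ => hterm_nonneg i) (Finset.mem_univ j)
  refine ⟨?_, ?_⟩
  · rw [h2g]
    calc ((univ.filter fun j => ¬T.IsMinusTwo j).card : ℤ)
        = ∑ j ∈ univ.filter (fun j => ¬T.IsMinusTwo j), (1 : ℤ) := by simp
      _ ≤ ∑ j ∈ univ.filter (fun j => ¬T.IsMinusTwo j),
            T.m j * T.w j * (2 * T.g j - 2 + d j) := by
          refine Finset.sum_le_sum (fun j hj => hterm_pos j ?_)
          simpa using hj
      _ ≤ ∑ j, T.m j * T.w j * (2 * T.g j - 2 + d j) :=
          Finset.sum_le_sum_of_subset_of_nonneg (Finset.filter_subset _ _)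
            (fun i _ _ => hterm_nonneg i)
  · intro j hj
    have habs : |T.a j j| = d j * T.w j := by
      rw [hda j, abs_neg, abs_of_nonneg]
      exact mul_nonneg (by have := hd1 j; omega) (T.w_pos j).le
    have hbound : T.m j * |T.a j j| ≤ 6 * T.genus - 6 := by
      rw [habs]
      by_cases hg0 : T.g j = 0
      · have h2 := hd2 j hg0
        have hne : d j ≠ 2 := by
          intro h
          apply hj
          refine ⟨hg0, ?_⟩
          rw [hda j, h]; ring
        have h3 : 3 ≤ d j := by omega
        have h4 := hterm_le j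
        rw [hg0] at h4
        have h5 := hmw j
        nlinarith
      · have hg1 : 1 ≤ T.g j := by have := T.g_nonneg j; omega
        have h4 := hterm_le j
        have h5 := hmw j
        nlinarith
    refine ⟨?_, hbound, fun i => ?_⟩
    · by_cases hg0 : T.g j = 0
      · omega
      · have hg1 : 1 ≤ T.g j := by have := T.g_nonneg j; omega
        have h4 := hterm_le j
        have h5 := hterm_ge j
        have h6 := hd1 j
        omega
    · by_cases hij : 0 < T.a i j
      · exact ((Groth.Agent.S2182.result T i j hij).1).trans hbound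
      · rw [not_lt] at hij
        have : T.m i * T.a i j ≤ 0 := mul_nonpos_of_nonneg_of_nonpos (T.m_pos i).le hij
        omega


end Groth.Agent.S2183
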