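import Groth.Statements.S2196
import Mathlib.RingTheory.Unramified.Locus
import Mathlib.LinearAlgebra.Matrix.Charpoly.LinearMap
import Mathlib.Tactic
open TensorProduct

set_option autoImplicit false
universe u v
open Disc

namespace Groth.Agent.S2196

/-- Let A -> B be a ring map of finite type and D its Noether different (the image in B of the
annihilator of the kernel of B tensor_A B -> B). Then a prime q of B contains D exactly when A -> B
is not unramified at q. -/
theorem result {A : Type u} {B : Type v}
    [CommRing A] [CommRing B] [Algebra A B] [Algebra.FiniteType A B] :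
    {q : PrimeSpectrum B | Disc.noetherDifferent A B ≤ q.asIdeal} =
      (Algebra.unramifiedLocus A B)ᶜ := by
  classical
  rw [Algebra.unramifiedLocus_eq_compl_support, compl_compl, Module.support_eq_zeroLocus]
  have hμ : Function.Surjective (Algebra.TensorProduct.lmul' (S := B) A) :=
    fun b => ⟨b ⊗ₜ 1, by simp⟩
  have hsm : ∀ (b : B) (ω : Ω[B⁄A]), b • ω = (b ⊗ₜ[A] (1:B)) • ω := by
    intro b ω
    have : (b ⊗ₜ[A] (1:B)) = b • (1 : B ⊗[A] B) := by
      rw [Algebra.TensorProduct.one_def, TensorProduct.smul_tmul', smul_eq_mul, mul_one]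
    rw [this, smul_assoc, one_smul]
  have h1 : Disc.noetherDifferent A B ≤ Module.annihilator B Ω[B⁄A] := by
    intro d hd
    unfold Disc.noetherDifferent at hd
    rw [Ideal.mem_map_iff_of_surjective _ hμ] at hd
    obtain ⟨e, he, rfl⟩ := hd
    rw [Module.mem_annihilator]
    intro ω
    obtain ⟨x, rfl⟩ := KaehlerDifferential.fromIdeal_surjective A B ω
    rw [hsm]
    have hmem : (Algebra.TensorProduct.lmul' (S := B) A e) ⊗ₜ[A] (1 : B) - e ∈
        KaehlerDifferential.ideal A B := by
      rw [KaehlerDifferential.ideal, RingHom.mem_ker]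
      simp
    have hsplit : ((Algebra.TensorProduct.lmul' (S := B) A e) ⊗ₜ[A] (1 : B)) =
        e + ((Algebra.TensorProduct.lmul' (S := B) A e) ⊗ₜ[A] (1 : B) - e) := by ring
    rw [hsplit, add_smul]
    have h0 : ((Algebra.TensorProduct.lmul' (S := B) A e) ⊗ₜ[A] (1 : B) - e) •
        (KaehlerDifferential.fromIdeal A B x) = 0 :=
      Ideal.Cotangent.smul_eq_zero_of_mem hmem _
    rw [h0, add_zero, ← map_smul]
    have : e • x = 0 := by
      ext
      exact (Submodule.mem_annihilator.1 he) x.1 x.2
    rw [this, map_zero]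
  have h2 : Module.annihilator B Ω[B⁄A] ≤ (Disc.noetherDifferent A B).radical := by
    intro a ha
    rw [Module.mem_annihilator] at ha
    have hfin : Module.Finite (B ⊗[A] B) (KaehlerDifferential.ideal A B) :=
      Module.Finite.of_fg (KaehlerDifferential.ideal_fg A B)
    let f : Module.End (B ⊗[A] B) (KaehlerDifferential.ideal A B) :=
      algebraMap (B ⊗[A] B) (Module.End (B ⊗[A] B) (KaehlerDifferential.ideal A B)) (a ⊗ₜ[A] (1:B))
    have hf : LinearMap.range f ≤ (KaehlerDifferential.ideal A B) • ⊤ := by
      rintro _ ⟨x, rfl⟩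
      have := ha (KaehlerDifferential.fromIdeal A B x)
      rw [hsm, ← map_smul] at this
      have h3 : f x = (a ⊗ₜ[A] (1:B)) • x := Module.algebraMap_end_apply _ _ _ _ _
      rw [h3]
      exact (Submodule.Quotient.mk_eq_zero _).1 this
    obtain ⟨p, hpm, -, hpc, hp0⟩ :=
      LinearMap.exists_monic_and_natDegree_eq_and_coeff_mem_pow_and_aeval_eq_zero
        (B ⊗[A] B) f (KaehlerDifferential.ideal A B) hf
    have he : p.eval (a ⊗ₜ[A] (1:B)) ∈ Submodule.annihilator (KaehlerDifferential.ideal A B) := by
      rw [Submodule.mem_annihilator]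
      intro x hx
      have h4 : Polynomial.aeval f p = algebraMap (B ⊗[A] B) _ (p.eval (a ⊗ₜ[A] (1:B))) := by
        rw [Polynomial.aeval_algebraMap_apply, Polynomial.coe_aeval_eq_eval]
      rw [h4] at hp0
      have h5 := congr_arg (fun g : Module.End (B ⊗[A] B) (KaehlerDifferential.ideal A B) =>
        ((g ⟨x, hx⟩ : KaehlerDifferential.ideal A B) : B ⊗[A] B)) hp0
      simpa [Module.algebraMap_end_apply] using h5
    have hμe : Algebra.TensorProduct.lmul' (S := B) A (p.eval (a ⊗ₜ[A] (1:B))) = a ^ p.natDegree := by
      have h6 : p.map (Algebra.TensorProduct.lmul' (S := B) A).toRingHom = Polynomial.X ^ p.natDegree := by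
        ext k
        rw [Polynomial.coeff_map, Polynomial.coeff_X_pow]
        split_ifs with hk
        · rw [hk]
          have : p.coeff p.natDegree = 1 := hpm
          rw [this, map_one]
        · rcases lt_or_gt_of_ne hk with hlt | hgt
          · have hk' := hpc k
            have : p.coeff k ∈ KaehlerDifferential.ideal A B := by
              refine Ideal.pow_le_self ?_ hk'
              omega
            exact this
          · rw [Polynomial.coeff_eq_zero_of_natDegree_lt hgt, map_zero]
      have h7 := Polynomial.hom_eval₂ p (RingHom.id _) (Algebra.TensorProduct.lmul' (S := B) A).toRingHom (a ⊗ₜ[A] (1:B))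
      rw [Polynomial.eval₂_id, RingHom.comp_id, ← Polynomial.eval_map, h6] at h7
      simpa using h7
    refine ⟨p.natDegree, ?_⟩
    rw [← hμe]
    exact Ideal.mem_map_of_mem _ he
  ext q
  simp only [Set.mem_ofPred_eq, PrimeSpectrum.mem_zeroLocus, SetLike.coe_subset_coe]
  constructor
  · intro h
    exact h2.trans ((Ideal.IsPrime.radical_le_iff q.2).2 h)
  · intro h
    exact h1.trans h


end Groth.Agent.S2196
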