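import Groth.Statements.S2197
import Groth.Agent.H11.AnnFlat

set_option autoImplicit false
universe u
open Disc TensorProduct

namespace Groth.Agent.S2197

/-- Part (2): let A -> B be a ring map of finite type and A -> A' a flat ring map, and let B' = B
tensor_A A'. Then the Noether different of B' over A' is the extension to B' of the Noether
different of B over A. -/
theorem result {A B A' B' : Type u} [CommRing A] [CommRing B]
    [CommRing A'] [CommRing B'] [Algebra A B] [Algebra A A'] [Algebra A B'] [Algebra B B']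
    [Algebra A' B'] [IsScalarTower A B B'] [IsScalarTower A A' B']
    [Algebra.IsPushout A B A' B'] [Algebra.FiniteType A B] [Module.Flat A A'] :
    Disc.noetherDifferent A' B' = (Disc.noetherDifferent A B).map (algebraMap B B') := by
  classical
  let f : B →ₐ[A] B' := IsScalarTower.toAlgHom A B B'
  have hf : IsBaseChange A' f.toLinearMap :=
    (Algebra.IsPushout.symm (inferInstance : Algebra.IsPushout A B A' B')).out
  let φ : B ⊗[A] B →ₐ[A] B' ⊗[A'] B' :=
    (Algebra.TensorProduct.mapOfCompatibleSMul A' A A B' B').comp (Algebra.TensorProduct.map f f)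
  have hφ_tmul : ∀ x y : B, φ (x ⊗ₜ[A] y) = f x ⊗ₜ[A'] f y := by
    intro x y
    simp [φ]
  -- step 1
  have h1 : IsBaseChange A' (TensorProduct.AlgebraTensorModule.map f.toLinearMap
      (LinearMap.id (R := A) (M := B))) :=
    isBaseChange_tensorProduct_map (R := A) (S := A) (P := B) A' hf
  -- step 2
  let e : B' ⊗[A] B ≃ₗ[A'] B' ⊗[A'] B' :=
    (TensorProduct.AlgebraTensorModule.cancelBaseChange A A' A' B' B).symm ≪≫ₗ
      TensorProduct.AlgebraTensorModule.congr (LinearEquiv.refl A' B') hf.equiv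
  have he : ∀ (x : B') (y : B), e (x ⊗ₜ[A] y) = x ⊗ₜ[A'] f y := by
    intro x y
    simp [e, IsBaseChange.equiv_tmul]
  let E : A' ⊗[A] (B ⊗[A] B) ≃ₗ[A'] B' ⊗[A'] B' := h1.equiv ≪≫ₗ e
  have hE : ∀ t : B ⊗[A] B, E (1 ⊗ₜ[A] t) = φ.toLinearMap t := by
    intro t
    induction t with
    | zero => simp
    | add x y hx hy => rw [TensorProduct.tmul_add, map_add, map_add, hx, hy]
    | tmul x y =>
      simp only [E, LinearEquiv.trans_apply, IsBaseChange.equiv_tmul, one_smul,
        TensorProduct.AlgebraTensorModule.map_tmul, LinearMap.id_apply, AlgHom.toLinearMap_apply]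
      rw [he, hφ_tmul]
  have hφbc : IsBaseChange A' φ.toLinearMap := IsBaseChange.of_equiv E hE
  -- flatness of `φ`
  have hφflat : (φ : B ⊗[A] B →+* B' ⊗[A'] B').Flat := by
    letI : Algebra (B ⊗[A] B) (B' ⊗[A'] B') := (φ : B ⊗[A] B →+* B' ⊗[A'] B').toAlgebra
    haveI : IsScalarTower A (B ⊗[A] B) (B' ⊗[A'] B') :=
      IsScalarTower.of_algebraMap_eq' (by
        ext a
        exact (φ.commutes a).symm)
    have hpo : Algebra.IsPushout A A' (B ⊗[A] B) (B' ⊗[A'] B') := by
      exact ⟨hφbc⟩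
    have hpo' : Algebra.IsPushout A (B ⊗[A] B) A' (B' ⊗[A'] B') := hpo.symm
    change Module.Flat (B ⊗[A] B) (B' ⊗[A'] B')
    exact Module.Flat.isBaseChange (R := A) (S := B ⊗[A] B) (M := A') (N := B' ⊗[A'] B') hpo'.out
  let μ : B ⊗[A] B →ₐ[A] B := Algebra.TensorProduct.lmul' (S := B) A
  let μ' : B' ⊗[A'] B' →ₐ[A'] B' := Algebra.TensorProduct.lmul' (S := B') A'
  have hcomm : (μ' : B' ⊗[A'] B' →+* B').comp (φ : B ⊗[A] B →+* B' ⊗[A'] B') =
      (algebraMap B B').comp (μ : B ⊗[A] B →+* B) := by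
    have : (μ'.restrictScalars A).comp φ = f.comp μ := by
      ext x <;> simp [μ, φ, μ', f]
    exact congrArg (fun g : B ⊗[A] B →ₐ[A] B' => (g : B ⊗[A] B →+* B')) this
  -- the kernel of `μ'` is the extension of the kernel of `μ`
  have hker : RingHom.ker μ' = (RingHom.ker μ).map (φ : B ⊗[A] B →+* B' ⊗[A'] B') := by
    apply le_antisymm
    · change KaehlerDifferential.ideal A' B' ≤ _
      rw [← KaehlerDifferential.span_range_eq_ideal, Ideal.span_le]
      rintro _ ⟨s, rfl⟩
      refine hf.inductionOn s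
        (fun s => (1 : B') ⊗ₜ[A'] s - s ⊗ₜ[A'] (1 : B') ∈
          ((RingHom.ker μ).map (φ : B ⊗[A] B →+* B' ⊗[A'] B') : Set (B' ⊗[A'] B'))) ?_ ?_ ?_ ?_
      · simp
      · intro b
        have h1 : (1 : B) ⊗ₜ[A] b - b ⊗ₜ[A] (1 : B) ∈ RingHom.ker μ := by
          rw [RingHom.mem_ker]; simp [μ]
        have h2 : (1 : B') ⊗ₜ[A'] f.toLinearMap b - f.toLinearMap b ⊗ₜ[A'] (1 : B') =
            φ ((1 : B) ⊗ₜ[A] b - b ⊗ₜ[A] (1 : B)) := by
          rw [map_sub, hφ_tmul, hφ_tmul, map_one]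
          rfl
        rw [h2]
        exact Ideal.mem_map_of_mem _ h1
      · intro a' n hn
        have h3 : (1 : B') ⊗ₜ[A'] (a' • n) - (a' • n) ⊗ₜ[A'] (1 : B') =
            a' • ((1 : B') ⊗ₜ[A'] n - n ⊗ₜ[A'] (1 : B')) := by
          rw [smul_sub, TensorProduct.tmul_smul, ← TensorProduct.smul_tmul']
        rw [h3, Algebra.smul_def]
        exact Ideal.mul_mem_left _ _ hn
      · intro n₁ n₂ h₁ h₂
        have h4 : (1 : B') ⊗ₜ[A'] (n₁ + n₂) - (n₁ + n₂) ⊗ₜ[A'] (1 : B') =
            ((1 : B') ⊗ₜ[A'] n₁ - n₁ ⊗ₜ[A'] (1 : B')) +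
              ((1 : B') ⊗ₜ[A'] n₂ - n₂ ⊗ₜ[A'] (1 : B')) := by
          rw [TensorProduct.tmul_add, TensorProduct.add_tmul]; abel
        rw [h4]
        exact Ideal.add_mem _ h₁ h₂
    · rw [Ideal.map_le_iff_le_comap]
      intro x hx
      rw [Ideal.mem_comap, RingHom.mem_ker]
      have := RingHom.congr_fun hcomm x
      rw [RingHom.mem_ker] at hx
      change μ' (φ x) = 0
      change μ' (φ x) = algebraMap B B' (μ x) at this
      rw [this, hx, map_zero]
  have hfg : (RingHom.ker μ).FG := KaehlerDifferential.ideal_fg A B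
  have hann := Groth.Agent.H11.AnnFlat.annihilator_map_ringHom
    (φ : B ⊗[A] B →+* B' ⊗[A'] B') hφflat (RingHom.ker μ) hfg
  unfold Disc.noetherDifferent
  change Ideal.map (μ' : B' ⊗[A'] B' →+* B') (Submodule.annihilator (RingHom.ker μ')) =
    Ideal.map (algebraMap B B') (Ideal.map (μ : B ⊗[A] B →+* B)
      (Submodule.annihilator (RingHom.ker μ)))
  rw [hker, hann, Ideal.map_map, Ideal.map_map, hcomm]


end Groth.Agent.S2197
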