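import Groth.Statements.S2199
import Groth.Agent.H59.SmallExt

set_option autoImplicit false
universe u
open LCI

namespace Groth.Agent.S2199

/-- For a Noetherian local ring (A, m) and proper ideals I inside J such that A/J has finite
Tor-dimension as a module over A/I (canonical algebra structure), the map I/mI -> J/mJ is injective:
an element of I lying in mJ already lies in mI. -/
theorem result {A : Type u} [CommRing A] [IsNoetherianRing A] [IsLocalRing A]
    (I J : Ideal A) (hIJ : I ≤ J) (hJ : J ≠ ⊤) [Algebra (A ⧸ I) (A ⧸ J)]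
    [IsScalarTower A (A ⧸ I) (A ⧸ J)] (hfd : DRing.HasFiniteTorDim (A ⧸ I) (A ⧸ J))
    (x : A) (hx : x ∈ I) (hxm : x ∈ IsLocalRing.maximalIdeal A * J) :
    x ∈ IsLocalRing.maximalIdeal A * I := by
  obtain ⟨d, hd⟩ := hfd
  have htower : ∀ a : A, algebraMap (A ⧸ I) (A ⧸ J) (Ideal.Quotient.mk I a) =
      Ideal.Quotient.mk J a := by
    intro a
    have := IsScalarTower.algebraMap_apply A (A ⧸ I) (A ⧸ J) a
    exact this.symm
  have hsurj : Function.Surjective (Algebra.linearMap (A ⧸ I) (A ⧸ J)) := by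
    intro b
    obtain ⟨a, rfl⟩ := Ideal.Quotient.mk_surjective b
    exact ⟨Ideal.Quotient.mk I a, htower a⟩
  have : Module.Finite (A ⧸ I) (A ⧸ J) := Module.Finite.of_surjective _ hsurj
  have hpd := Groth.Agent.H59.NLVasc1.hasProjectiveDimensionLT_of_hasTorDimLE d (A ⧸ J) hd
  have hpd' : CategoryTheory.HasProjectiveDimensionLT (ModuleCat.of (A ⧸ I) (A ⧸ J))
      (2 * (d + 1)) :=
    CategoryTheory.hasProjectiveDimensionLT_of_ge _ (d + 1) _ (by omega)
  exact Groth.Agent.H59.SmallExt.mem_mul_of_hasProjectiveDimensionLT I J hIJ hJ (d + 1) hpd'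
    x hx hxm

end Groth.Agent.S2199
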