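import Groth.Statements.S2203
import Groth.Agent.H11.Morita

set_option autoImplicit false
universe u
open CategoryTheory
open QCohCat

namespace Groth.Agent.S2203

/-- Ring-isomorphism part of the statement: let A and B be commutative rings whose categories of modules
are equivalent. Then A and B are isomorphic as rings. (The source moreover describes the equivalence
as base change followed by tensoring with an invertible module.) -/
theorem result (A B : Type u) [CommRing A] [CommRing B]
    (F : ModuleCat.{u} A ≌ ModuleCat.{u} B) : Nonempty (A ≃+* B) := by
  exact Groth.Agent.H11.Morita.ringEquiv_of_equivalence A B F


end Groth.Agent.S2203
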