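import Groth.Statements.S2215
import Groth.Agent.H11.DiscFree

set_option autoImplicit false
universe u v
open Disc

namespace Groth.Agent.S2215

/-- Special case: B finite free over A (the source allows flat quasi-finite maps of Noetherian rings).
Let omega = Hom_A(B, A) with its B-module structure through the argument and tau in omega the trace.
Then an element of B lies in the Noether different of B over A exactly when it is of the form
phi(tau) for some B-linear map phi : omega -> B. -/
theorem result {A : Type u} {B : Type v} [CommRing A]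
    [CommRing B] [Algebra A B] [IsNoetherianRing A] [Module.Finite A B] [Module.Free A B] :
    (Disc.noetherDifferent A B : Set B) =
      Set.range (fun φ : Disc.Omega A B →ₗ[B] B => φ (Disc.Omega.trace A B)) := by
  classical
  let b : Module.Basis (Module.Free.ChooseBasisIndex A B) A B := Module.Free.chooseBasis A B
  have hsurj : Function.Surjective (Algebra.TensorProduct.lmul' (S := B) A) := by
    intro x
    exact ⟨x ⊗ₜ[A] 1, by simp⟩
  ext d
  constructor
  · intro hd
    have hd' : d ∈ Ideal.map (Algebra.TensorProduct.lmul' (S := B) A)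
      (Submodule.annihilator (RingHom.ker (Algebra.TensorProduct.lmul' (S := B) A))) := hd
    rw [Ideal.mem_map_iff_of_surjective _ hsurj] at hd'
    obtain ⟨ξ, hξ, rfl⟩ := hd'
    refine ⟨Groth.Agent.H11.DiscFree.phiOf ξ hξ, ?_⟩
    change Groth.Agent.H11.DiscFree.phiOf ξ hξ (Disc.Omega.trace A B) = _
    rw [Groth.Agent.H11.DiscFree.trace_decomp b, map_sum,
      Groth.Agent.H11.DiscFree.lmul_eq_sum b ξ]
    refine Finset.sum_congr rfl (fun i _ => ?_)
    rw [map_smul, smul_eq_mul]
    rfl
  · rintro ⟨Φ, rfl⟩
    change Φ (Disc.Omega.trace A B) ∈ Ideal.map (Algebra.TensorProduct.lmul' (S := B) A)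
      (Submodule.annihilator (RingHom.ker (Algebra.TensorProduct.lmul' (S := B) A)))
    rw [Ideal.mem_map_iff_of_surjective _ hsurj]
    refine ⟨Groth.Agent.H11.DiscFree.xi b Φ, Groth.Agent.H11.DiscFree.xi_mem_annihilator b Φ, ?_⟩
    rw [Groth.Agent.H11.DiscFree.trace_decomp b, map_sum,
      Groth.Agent.H11.DiscFree.lmul_eq_sum b]
    refine Finset.sum_congr rfl (fun i _ => ?_)
    rw [map_smul, smul_eq_mul]
    congr 1
    exact Groth.Agent.H11.DiscFree.pair_xi b Φ (Groth.Agent.H11.DiscFree.cd b i)


end Groth.Agent.S2215
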