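import Groth.Statements.S2205
import Groth.Agent.H11.DiscDiff
import Groth.Agent.S2215
import Groth.Agent.S2196

set_option autoImplicit false
universe u v
open Disc

namespace Groth.Agent.S2205

/-- Special case: affine, with B finite free over the Noetherian ring A (the source allows flat
quasi-finite morphisms of Noetherian schemes); then the relative dualizing module is Hom_A(B, A) and
the trace element is the usual trace. A prime q of B contains the different (the set of b with b
Hom_A(B, A) inside B Trace) if and only if A -> B is not unramified at q; for such maps unramified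
and etale at q agree. -/
theorem result {A : Type u} {B : Type v} [CommRing A]
    [CommRing B] [Algebra A B] [IsNoetherianRing A] [Module.Finite A B] [Module.Free A B]
    (q : Ideal B) [q.IsPrime] :
    Disc.differentSet A B ⊆ q ↔ ¬Algebra.IsUnramifiedAt A q := by
  classical
  let b : Module.Basis (Module.Free.ChooseBasisIndex A B) A B := Module.Free.chooseBasis A B
  have h15 := Groth.Agent.S2215.result (A := A) (B := B)
  have h96 := Groth.Agent.S2196.result (A := A) (B := B)
  have hiff : Disc.differentSet A B ⊆ q ↔ Disc.noetherDifferent A B ≤ q := by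
    constructor
    · intro h d hd
      have hd' : d ∈ (Disc.noetherDifferent A B : Set B) := hd
      rw [h15] at hd'
      obtain ⟨Φ, rfl⟩ := hd'
      exact h (Groth.Agent.H11.DiscFree.phi_trace_mem_differentSet b Φ)
    · intro h d hd
      obtain ⟨Φ, hΦ⟩ := Groth.Agent.H11.DiscFree.exists_phi_trace_eq_sq b d hd
      have h1 : d * d ∈ (Disc.noetherDifferent A B : Set B) := by
        rw [h15]; exact ⟨Φ, hΦ⟩
      have h2 : d * d ∈ q := h h1
      rcases (‹q.IsPrime›).mem_or_mem h2 with h3 | h3 <;> exact h3
  rw [hiff]
  have h3 : (⟨q, ‹q.IsPrime›⟩ : PrimeSpectrum B) ∈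
      {q : PrimeSpectrum B | Disc.noetherDifferent A B ≤ q.asIdeal} ↔
      (⟨q, ‹q.IsPrime›⟩ : PrimeSpectrum B) ∈ (Algebra.unramifiedLocus A B)ᶜ := by
    rw [h96]
  exact h3


end Groth.Agent.S2205
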