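import Groth.Statements.S2206
import Groth.Agent.H59.DiagSmooth
import Groth.Agent.H59.NLVasc1

set_option autoImplicit false
universe u
open TensorProduct
open LCI

namespace Groth.Agent.S2206

/-- Let A be a Noetherian ring and B a flat A-algebra of finite type, viewed as an algebra over B
tensor_A B through the multiplication map. If B, as a module over B tensor_A B, has finite
Tor-dimension (the diagonal is a perfect ring map), then B is smooth over A. -/
theorem result {A B : Type u} [CommRing A] [CommRing B]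
    [Algebra A B] [IsNoetherianRing A] [Algebra.FiniteType A B] [Module.Flat A B]
    [Algebra (B ⊗[A] B) B]
    (hmul : ∀ x y : B, algebraMap (B ⊗[A] B) B (x ⊗ₜ[A] y) = x * y)
    (h : DRing.HasFiniteTorDim (B ⊗[A] B) B) : Algebra.Smooth A B := by
  classical
  obtain ⟨n, φ, hφ⟩ := Algebra.FiniteType.iff_quotient_mvPolynomial''.mp ‹Algebra.FiniteType A B›
  letI algPB : Algebra (MvPolynomial (Fin n) A) B := φ.toAlgebra
  haveI : IsScalarTower A (MvPolynomial (Fin n) A) B :=
    IsScalarTower.of_algebraMap_eq' φ.comp_algebraMap.symm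
  have hsurj : Function.Surjective (algebraMap (MvPolynomial (Fin n) A) B) := hφ
  haveI hBN : IsNoetherianRing B := Algebra.FiniteType.isNoetherianRing A B
  haveI hTN : IsNoetherianRing (MvPolynomial (Fin n) A ⊗[A] B) :=
    Algebra.FiniteType.isNoetherianRing (MvPolynomial (Fin n) A) _
  haveI hBBN : IsNoetherianRing (B ⊗[A] B) := Algebra.FiniteType.isNoetherianRing B _
  haveI hfp : Algebra.FinitePresentation A B := Algebra.FinitePresentation.of_finiteType.mp ‹_›
  have hsurjBB : Function.Surjective (algebraMap (B ⊗[A] B) B) := by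
    intro b
    exact ⟨b ⊗ₜ 1, by rw [hmul, mul_one]⟩
  haveI hfinBB : Module.Finite (B ⊗[A] B) B :=
    Module.Finite.of_surjective (Algebra.linearMap (B ⊗[A] B) B) hsurjBB
  obtain ⟨d, hd⟩ := h
  have hpd0 := Groth.Agent.H59.NLVasc1.hasProjectiveDimensionLT_of_hasTorDimLE d B hd
  have hpd : CategoryTheory.HasProjectiveDimensionLT (ModuleCat.of (B ⊗[A] B) B) (2 * (d + 1)) :=
    CategoryTheory.hasProjectiveDimensionLT_of_ge _ (d + 1) _ (by omega)
  haveI hcot0 : Module.Finite (MvPolynomial (Fin n) A)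
      (RingHom.ker (algebraMap (MvPolynomial (Fin n) A) B)).Cotangent :=
    Module.Finite.of_surjective (Ideal.toCotangent _) (Ideal.toCotangent_surjective _)
  haveI hcot : Module.Finite B
      (Groth.Agent.H23.SmoothQuot.ext (A := A) hsurj).Cotangent :=
    Groth.Agent.H23.SmoothQuot.finite_cotangent hsurj
  have hmax : ∀ (𝔮 : Ideal B) [𝔮.IsMaximal], Algebra.IsSmoothAt A 𝔮 := by
    intro 𝔮 h𝔮
    exact Groth.Agent.H59.DiagSmooth.core hsurj hmul (d + 1) hpd 𝔮
  have hopen : IsOpen (Algebra.smoothLocus A B) := Algebra.isOpen_smoothLocus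
  have huniv : Algebra.smoothLocus A B = Set.univ := by
    rw [Set.eq_univ_iff_forall]
    intro x
    by_contra hx
    have hcl : IsClosed (Algebra.smoothLocus A B)ᶜ := hopen.isClosed_compl
    obtain ⟨K, hK⟩ := (PrimeSpectrum.isClosed_iff_zeroLocus_ideal _).mp hcl
    have hxK : K ≤ x.asIdeal := by
      have : x ∈ PrimeSpectrum.zeroLocus (K : Set B) := by rw [← hK]; exact hx
      exact (PrimeSpectrum.mem_zeroLocus _ _).mp this
    have hKne : K ≠ ⊤ := by
      rintro rfl
      exact x.2.ne_top (top_le_iff.mp hxK)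
    obtain ⟨𝔪, h𝔪, hK𝔪⟩ := Ideal.exists_le_maximal K hKne
    have hm1 : (⟨𝔪, h𝔪.isPrime⟩ : PrimeSpectrum B) ∈ (Algebra.smoothLocus A B)ᶜ := by
      rw [hK]
      exact (PrimeSpectrum.mem_zeroLocus _ _).mpr hK𝔪
    exact hm1 (hmax 𝔪)
  haveI hfs : Algebra.FormallySmooth A B := Algebra.smoothLocus_eq_univ_iff.mp huniv
  exact ⟨hfs, hfp⟩

end Groth.Agent.S2206
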