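import Groth.Statements.S2207
import Mathlib

set_option autoImplicit false
universe u v
open DPow

namespace Groth.Agent.S2207

/-- Existence in case (2): let I = (x) be a principal ideal of A with a divided power structure and B
any A-algebra. Then there is a divided power structure on I B for which A -> B is a homomorphism of
divided power rings. -/
theorem result {A : Type u} {B : Type v} [CommRing A] [CommRing B] [Algebra A B]
    (x : A) (γ : DividedPowers (Ideal.span {x})) :
    ∃ δ : DividedPowers ((Ideal.span {x}).map (algebraMap A B)), γ.IsDPMorphism δ (algebraMap A B) := by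
  classical
  let f := algebraMap A B
  have hxI : x ∈ (Ideal.span {x} : Ideal A) := Ideal.subset_span rfl
  have hJmem : ∀ y : B, y ∈ (Ideal.span {x} : Ideal A).map f ↔ ∃ b : B, y = b * f x := by
    intro y
    rw [Ideal.map_span, Set.image_singleton, Ideal.mem_span_singleton']
    exact ⟨fun ⟨b, hb⟩ => ⟨b, hb.symm⟩, fun ⟨b, hb⟩ => ⟨b, hb.symm⟩⟩
  -- `γ n x = a n * x` for `n ≠ 0`
  have ha : ∀ n : ℕ, n ≠ 0 → ∃ a : A, γ.dpow n x = a * x := by
    intro n hn
    have := γ.dpow_mem hn hxI
    rw [Ideal.mem_span_singleton'] at this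
    obtain ⟨a, ha⟩ := this
    exact ⟨a, ha.symm⟩
  -- well-definedness
  have hpow : ∀ (b b' : B), b * f x = b' * f x → ∀ n : ℕ, n ≠ 0 → b ^ n * f x = b' ^ n * f x := by
    intro b b' hbb' n hn
    induction n with
    | zero => exact absurd rfl hn
    | succ n ih =>
      rcases Nat.eq_zero_or_pos n with rfl | hn0
      · simpa using hbb'
      · have := ih (Nat.pos_iff_ne_zero.mp hn0)
        calc b ^ (n + 1) * f x = b * (b ^ n * f x) := by ring
          _ = b * (b' ^ n * f x) := by rw [this]
          _ = b' ^ n * (b * f x) := by ring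
          _ = b' ^ n * (b' * f x) := by rw [hbb']
          _ = b' ^ (n + 1) * f x := by ring
  have hwd : ∀ (b b' : B), b * f x = b' * f x → ∀ n : ℕ,
      b ^ n * f (γ.dpow n x) = b' ^ n * f (γ.dpow n x) := by
    intro b b' hbb' n
    rcases Nat.eq_zero_or_pos n with rfl | hn0
    · simp
    · obtain ⟨a, ha⟩ := ha n (Nat.pos_iff_ne_zero.mp hn0)
      have := hpow b b' hbb' n (Nat.pos_iff_ne_zero.mp hn0)
      rw [ha, map_mul]
      calc b ^ n * (f a * f x) = f a * (b ^ n * f x) := by ring
        _ = f a * (b' ^ n * f x) := by rw [this]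
        _ = b' ^ n * (f a * f x) := by ring
  -- the divided power function
  let d : ℕ → B → B := fun n y =>
    if hy : y ∈ (Ideal.span {x} : Ideal A).map f then (Classical.choose ((hJmem y).mp hy)) ^ n * f (γ.dpow n x) else 0
  have hd : ∀ (n : ℕ) (b : B), d n (b * f x) = b ^ n * f (γ.dpow n x) := by
    intro n b
    have hy : b * f x ∈ (Ideal.span {x} : Ideal A).map f := (hJmem _).mpr ⟨b, rfl⟩
    simp only [d, dif_pos hy]
    exact hwd _ _ (Classical.choose_spec ((hJmem _).mp hy)).symm n
  let δ : DividedPowers ((Ideal.span {x} : Ideal A).map f) :=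
    { dpow := d
      dpow_null := by
        intro n y hy
        simp only [d, dif_neg hy]
      dpow_zero := by
        intro y hy
        obtain ⟨b, rfl⟩ := (hJmem y).mp hy
        rw [hd, γ.dpow_zero hxI, pow_zero, map_one, one_mul]
      dpow_one := by
        intro y hy
        obtain ⟨b, rfl⟩ := (hJmem y).mp hy
        rw [hd, γ.dpow_one hxI, pow_one]
      dpow_mem := by
        intro n y hn hy
        obtain ⟨b, rfl⟩ := (hJmem y).mp hy
        rw [hd]
        exact Ideal.mul_mem_left _ _ (Ideal.mem_map_of_mem _ (γ.dpow_mem hn hxI))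
      dpow_add := by
        intro n y y' hy hy'
        obtain ⟨b, rfl⟩ := (hJmem y).mp hy
        obtain ⟨b', rfl⟩ := (hJmem y').mp hy'
        rw [← add_mul, hd, add_pow, Finset.sum_mul,
          Finset.Nat.sum_antidiagonal_eq_sum_range_succ
            (fun i j => d i (b * f x) * d j (b' * f x)) n]
        refine Finset.sum_congr rfl fun k hk => ?_
        have hk' : k ≤ n := Nat.lt_succ_iff.mp (Finset.mem_range.mp hk)
        rw [hd, hd]
        have h1 := γ.mul_dpow (m := k) (n := n - k) hxI
        rw [Nat.add_sub_cancel' hk'] at h1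
        calc b ^ k * b' ^ (n - k) * ((n.choose k : ℕ) : B) * f (γ.dpow n x)
            = b ^ k * b' ^ (n - k) * f ((n.choose k : A) * γ.dpow n x) := by
              rw [map_mul, map_natCast]; ring
          _ = b ^ k * b' ^ (n - k) * f (γ.dpow k x * γ.dpow (n - k) x) := by rw [h1]
          _ = b ^ k * f (γ.dpow k x) * (b' ^ (n - k) * f (γ.dpow (n - k) x)) := by
              rw [map_mul]; ring
      dpow_mul := by
        intro n c y hy
        obtain ⟨b, rfl⟩ := (hJmem y).mp hy
        rw [← mul_assoc, hd, hd, mul_pow, mul_assoc]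
      mul_dpow := by
        intro m n y hy
        obtain ⟨b, rfl⟩ := (hJmem y).mp hy
        rw [hd, hd, hd]
        have h1 := γ.mul_dpow (m := m) (n := n) hxI
        calc b ^ m * f (γ.dpow m x) * (b ^ n * f (γ.dpow n x))
            = b ^ (m + n) * f (γ.dpow m x * γ.dpow n x) := by rw [map_mul, pow_add]; ring
          _ = b ^ (m + n) * f (((m + n).choose m : A) * γ.dpow (m + n) x) := by rw [h1]
          _ = ((m + n).choose m : B) * (b ^ (m + n) * f (γ.dpow (m + n) x)) := by
              rw [map_mul, map_natCast]; ring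
      dpow_comp := by
        intro m n y hn hy
        obtain ⟨b, rfl⟩ := (hJmem y).mp hy
        obtain ⟨a, ha⟩ := ha n hn
        rw [hd n b, ha, map_mul, ← mul_assoc, hd, hd]
        have h1 := γ.dpow_comp (m := m) hn hxI
        calc (b ^ n * f a) ^ m * f (γ.dpow m x)
            = b ^ (m * n) * f (a ^ m * γ.dpow m x) := by
              rw [map_mul, map_pow, mul_pow, ← pow_mul, mul_comm n m]; ring
          _ = b ^ (m * n) * f (γ.dpow m (γ.dpow n x)) := by rw [ha, γ.dpow_mul hxI]
          _ = b ^ (m * n) * f ((Nat.uniformBell m n : A) * γ.dpow (m * n) x) := by rw [h1]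
          _ = (Nat.uniformBell m n : B) * (b ^ (m * n) * f (γ.dpow (m * n) x)) := by
              rw [map_mul, map_natCast]; ring }
  refine ⟨δ, le_refl _, ?_⟩
  intro n a ha'
  rw [Ideal.mem_span_singleton'] at ha'
  obtain ⟨c, rfl⟩ := ha'
  change d n (f (c * x)) = f (γ.dpow n (c * x))
  rw [map_mul, hd, γ.dpow_mul hxI, map_mul, map_pow]


end Groth.Agent.S2207
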