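import Groth.Statements.S2211
import Mathlib

set_option autoImplicit false
universe u
open DPow

namespace Groth.Agent.S2211

/-- First part: let p be a prime and A a ring in which every integer prime to p is invertible, I an
ideal of A. Two divided power structures on I coincide exactly when their p-th divided power maps
agree on I. -/
theorem result {A : Type u} [CommRing A] (p : ℕ) (hp : p.Prime)
    (hA : ∀ n : ℕ, ¬ p ∣ n → IsUnit (n : A)) {I : Ideal A} (γ γ' : DividedPowers I) :
    γ = γ' ↔ ∀ x ∈ I, γ.dpow p x = γ'.dpow p x := by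
  classical
  haveI : Fact p.Prime := ⟨hp⟩
  constructor
  · rintro rfl x _
    rfl
  intro h
  -- `p` does not divide the uniform Bell numbers `uniformBell m p`
  have hbell : ∀ m : ℕ, ¬ p ∣ Nat.uniformBell m p := by
    intro m hdiv
    rw [Nat.uniformBell_eq, hp.prime.dvd_finsetProd_iff] at hdiv
    obtain ⟨i, _, hi⟩ := hdiv
    have hlucas := Choose.choose_modEq_choose_mod_mul_choose_div_nat
      (n := i * p + p - 1) (k := p - 1) (p := p)
    have hp1 : 1 ≤ p := hp.one_lt.le
    have e1 : (i * p + p - 1) % p = p - 1 := by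
      have : i * p + p - 1 = (p - 1) + p * i := by
        have : i * p + p - 1 = i * p + (p - 1) := Nat.add_sub_assoc hp1 _
        rw [this]; ring
      rw [this, Nat.add_mul_mod_self_left, Nat.mod_eq_of_lt (Nat.sub_lt hp.pos one_pos)]
    have e2 : (i * p + p - 1) / p = i := by
      have : i * p + p - 1 = (p - 1) + p * i := by
        have : i * p + p - 1 = i * p + (p - 1) := Nat.add_sub_assoc hp1 _
        rw [this]; ring
      rw [this, Nat.add_mul_div_left _ _ hp.pos, Nat.div_eq_of_lt (Nat.sub_lt hp.pos one_pos),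
        zero_add]
    have e3 : (p - 1) % p = p - 1 := Nat.mod_eq_of_lt (Nat.sub_lt hp.pos one_pos)
    have e4 : (p - 1) / p = 0 := Nat.div_eq_of_lt (Nat.sub_lt hp.pos one_pos)
    rw [e1, e2, e3, e4, Nat.choose_self, Nat.choose_zero_right, mul_one] at hlucas
    have h0 : (i * p + p - 1).choose (p - 1) ≡ 0 [MOD p] := (Nat.modEq_zero_iff_dvd).mpr hi
    have h10 : 1 ≡ 0 [MOD p] := hlucas.symm.trans h0
    have : p ∣ 1 := (Nat.modEq_zero_iff_dvd).mp h10
    exact hp.one_lt.ne' (Nat.dvd_one.mp this)
  have main : ∀ n : ℕ, ∀ x ∈ I, γ.dpow n x = γ'.dpow n x := by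
    intro n
    induction n using Nat.strong_induction_on with
    | _ n ih =>
      intro x hx
      rcases Nat.eq_zero_or_pos n with rfl | hn
      · rw [γ.dpow_zero hx, γ'.dpow_zero hx]
      by_cases hpn : p ∣ n
      · obtain ⟨m, rfl⟩ := hpn
        have hm : m < p * m := by
          have hm0 : 0 < m := Nat.pos_of_mul_pos_left hn
          calc m = 1 * m := (one_mul m).symm
            _ < p * m := Nat.mul_lt_mul_of_pos_right hp.one_lt hm0
        have hpx : γ.dpow p x ∈ I := γ.dpow_mem hp.ne_zero hx
        have h1 := γ.dpow_comp (m := m) hp.ne_zero hx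
        have h2 := γ'.dpow_comp (m := m) hp.ne_zero hx
        rw [← h x hx, ← ih m hm _ hpx, h1, mul_comm m p] at h2
        exact (hA _ (hbell m)).mul_right_injective h2
      · have hn1 : 1 + (n - 1) = n := by omega
        have h1 := γ.mul_dpow (m := 1) (n := n - 1) hx
        have h2 := γ'.mul_dpow (m := 1) (n := n - 1) hx
        rw [hn1, Nat.choose_one_right, γ.dpow_one hx] at h1
        rw [hn1, Nat.choose_one_right, γ'.dpow_one hx, ← ih (n - 1) (by omega) x hx, h1] at h2
        exact (hA n hpn).mul_right_injective h2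
  exact DividedPowers.ext _ _ (fun n x hx => main n x hx)


end Groth.Agent.S2211
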