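import Groth.Statements.S2219
import Groth.Agent.H80.TraceFilt

set_option autoImplicit false
universe u
open Disc

namespace Groth.Agent.S2219

/-- Equivalence of (1) and (3): let k be a field and A a finite-dimensional local k-algebra with residue
field k'. Then the trace map Tr_{A/k} is not identically zero if and only if k' is separable over k
and the length of A as a module over itself is not divisible by the characteristic of k (no
condition in characteristic zero). -/
theorem result (k A : Type u) [Field k] [CommRing A]
    [Algebra k A] [FiniteDimensional k A] [IsLocalRing A] :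
    Algebra.trace k A ≠ 0 ↔
      (Algebra.IsSeparable k (IsLocalRing.ResidueField A) ∧
        ∀ p : ℕ, p.Prime → CharP k p → ¬ p ∣ (Module.length A A).toNat) := by
  classical
  rw [Groth.Agent.H80.TraceFilt.trace_ne_zero_iff k (C := A)]
  have hfl : IsFiniteLength A A := Groth.Agent.H80.TraceFilt.isFiniteLength_self k
  have hlen : (Module.length A A).toNat ≠ 0 := by
    obtain ⟨n, hn⟩ := Module.length_ne_top_iff.mpr hfl |> ENat.ne_top_iff_exists.mp
    rw [← hn, ENat.toNat_coe]
    intro h0
    rw [h0] at hn
    have : Module.length A A = 0 := hn.symm
    rw [Module.length_eq_zero_iff] at this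
    exact not_subsingleton A this
  constructor
  · rintro ⟨h1, h2⟩
    refine ⟨h2, fun p hp hchar hdvd => ?_⟩
    exact h1 ((CharP.cast_eq_zero_iff k p _).mpr hdvd)
  · rintro ⟨h1, h2⟩
    refine ⟨?_, h1⟩
    intro h0
    obtain ⟨p, hchar⟩ := CharP.exists k
    rcases CharP.char_is_prime_or_zero k p with hp | hp
    · exact h2 p hp hchar ((CharP.cast_eq_zero_iff k p _).mp h0)
    · subst hp
      have : CharZero k := CharP.charP_to_charZero k
      exact hlen (Nat.cast_eq_zero.mp h0)

end Groth.Agent.S2219
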