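import Groth.Statements.S2220
import Groth.Agent.H11.AnnFlat

set_option autoImplicit false
universe u
open AlgebraicGeometry
open Disc TensorProduct

namespace Groth.Agent.S2220

/-- Part (2): for ring maps A -> B' -> B with B' of finite type over A and Spec B -> Spec B' an open
immersion, the Noether different of B over A is the ideal generated by the image of that of B'. -/
theorem result {A B' B : Type u} [CommRing A] [CommRing B']
    [CommRing B] [Algebra A B'] [Algebra A B] [Algebra B' B] [IsScalarTower A B' B]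
    [Algebra.FiniteType A B']
    (h : IsOpenImmersion (Spec.map (CommRingCat.ofHom (algebraMap B' B)))) :
    Disc.noetherDifferent A B = (Disc.noetherDifferent A B').map (algebraMap B' B) := by
  classical
  -- flatness and epi-ness of `B' → B`
  have hflat : (algebraMap B' B).Flat := by
    have h1 : AlgebraicGeometry.Flat (Spec.map (CommRingCat.ofHom (algebraMap B' B))) :=
      inferInstance
    rwa [HasRingHomProperty.Spec_iff (P := @AlgebraicGeometry.Flat)] at h1
  have hepi : Algebra.IsEpi B' B := by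
    rw [← CommRingCat.epi_iff_epi]
    have hmono : CategoryTheory.Mono (Spec.map (CommRingCat.ofHom (algebraMap B' B))) :=
      inferInstance
    have h2 : CategoryTheory.Mono (CommRingCat.ofHom (algebraMap B' B)).op :=
      Scheme.Spec.mono_of_mono_map hmono
    exact CategoryTheory.unop_epi_of_mono (CommRingCat.ofHom (algebraMap B' B)).op
  have hepi' : ∀ b : B, (1 : B) ⊗ₜ[B'] b = b ⊗ₜ[B'] 1 :=
    (Algebra.isEpi_iff_forall_one_tmul_eq B' B).mp hepi
  let f : B' →ₐ[A] B := IsScalarTower.toAlgHom A B' B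
  let ψ : B' ⊗[A] B' →ₐ[A] B ⊗[A] B := Algebra.TensorProduct.map f f
  have hψflat : (ψ : B' ⊗[A] B' →+* B ⊗[A] B).Flat :=
    RingHom.Flat.tensorProductMap (f := f) (g := f) hflat hflat
  let μ : B ⊗[A] B →ₐ[A] B := Algebra.TensorProduct.lmul' (S := B) A
  let μ' : B' ⊗[A] B' →ₐ[A] B' := Algebra.TensorProduct.lmul' (S := B') A
  have hcomm : (μ : B ⊗[A] B →+* B).comp (ψ : B' ⊗[A] B' →+* B ⊗[A] B) =
      (algebraMap B' B).comp (μ' : B' ⊗[A] B' →+* B') := by
    have : μ.comp ψ = f.comp μ' := by
      ext x <;> simp [μ, ψ, μ', f]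
    exact congrArg (fun g : B' ⊗[A] B' →ₐ[A] B => (g : B' ⊗[A] B' →+* B)) this
  -- the kernel of `μ` is the extension of the kernel of `μ'`
  have hker : RingHom.ker μ = (RingHom.ker μ').map (ψ : B' ⊗[A] B' →+* B ⊗[A] B) := by
    apply le_antisymm
    · change KaehlerDifferential.ideal A B ≤ _
      rw [← KaehlerDifferential.span_range_eq_ideal, Ideal.span_le]
      rintro _ ⟨b, rfl⟩
      have hmem : (1 : B) ⊗ₜ[A] b - b ⊗ₜ[A] (1 : B) ∈
          LinearMap.ker (TensorProduct.mapOfCompatibleSMul B' A B' B B) := by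
        rw [LinearMap.mem_ker, map_sub, TensorProduct.mapOfCompatibleSMul_tmul,
          TensorProduct.mapOfCompatibleSMul_tmul, hepi' b, sub_self]
      rw [TensorProduct.AlgebraTensorModule.ker_mapOfCompatibleSMul] at hmem
      have hle : Submodule.span B' {x : B ⊗[A] B | ∃ (a : B') (m : B) (n : B),
          (a • m) ⊗ₜ[A] n - m ⊗ₜ[A] (a • n) = x} ≤
          ((RingHom.ker μ').map (ψ : B' ⊗[A] B' →+* B ⊗[A] B)).restrictScalars B' := by
        rw [Submodule.span_le]
        rintro _ ⟨a, m, n, rfl⟩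
        have h1 : a ⊗ₜ[A] (1 : B') - (1 : B') ⊗ₜ[A] a ∈ RingHom.ker μ' := by
          rw [RingHom.mem_ker]
          simp [μ']
        have h2 : (a • m) ⊗ₜ[A] n - m ⊗ₜ[A] (a • n) =
            (m ⊗ₜ[A] n) * ψ (a ⊗ₜ[A] (1 : B') - (1 : B') ⊗ₜ[A] a) := by
          simp [ψ, f, mul_sub, Algebra.smul_def, mul_comm]
        change _ ∈ (RingHom.ker μ').map (ψ : B' ⊗[A] B' →+* B ⊗[A] B)
        rw [h2]
        exact Ideal.mul_mem_left _ _ (Ideal.mem_map_of_mem _ h1)
      exact hle hmem
    · rw [Ideal.map_le_iff_le_comap]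
      intro x hx
      rw [Ideal.mem_comap, RingHom.mem_ker]
      have := RingHom.congr_fun hcomm x
      simp only [RingHom.comp_apply] at this
      rw [RingHom.mem_ker] at hx
      change μ (ψ x) = 0
      change μ (ψ x) = algebraMap B' B (μ' x) at this
      rw [this, hx, map_zero]
  have hfg : (RingHom.ker μ').FG := KaehlerDifferential.ideal_fg A B'
  have hann := Groth.Agent.H11.AnnFlat.annihilator_map_ringHom
    (ψ : B' ⊗[A] B' →+* B ⊗[A] B) hψflat (RingHom.ker μ') hfg
  unfold Disc.noetherDifferent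
  change Ideal.map (μ : B ⊗[A] B →+* B) (Submodule.annihilator (RingHom.ker μ)) =
    Ideal.map (algebraMap B' B) (Ideal.map (μ' : B' ⊗[A] B' →+* B')
      (Submodule.annihilator (RingHom.ker μ')))
  rw [hker, hann, Ideal.map_map, Ideal.map_map, hcomm]


end Groth.Agent.S2220
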