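import Groth.Statements.S2221
import Groth.Agent.H11.InvRankOne
import Groth.Agent.S2215

set_option autoImplicit false
universe u
open Disc

namespace Groth.Agent.S2221

/-- Affine finite free case: let A be a Noetherian ring and B an A-algebra which is finite free as an
A-module, and suppose omega = Hom_A(B, A) is an invertible B-module. Then the different of B over A
(the b with b omega inside B Trace) equals the Noether different of B over A. -/
theorem result {A B : Type u} [CommRing A]
    [CommRing B] [Algebra A B] [IsNoetherianRing A] [Module.Finite A B] [Module.Free A B]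
    [Module.Invertible B (Disc.Omega A B)] :
    Disc.differentSet A B = (Disc.noetherDifferent A B : Set B) := by
  have h15 := Groth.Agent.S2215.result (A := A) (B := B)
  ext d
  constructor
  · intro hd
    -- d • φ ∈ B τ for all φ; use a partition of unity in ω^∨ ⊗ ω
    have key : ∀ t : TensorProduct B (Module.Dual B (Disc.Omega A B)) (Disc.Omega A B),
        d * contractLeft B (Disc.Omega A B) t ∈ Disc.noetherDifferent A B := by
      intro t
      induction t with
      | zero => simp
      | tmul Φ φ =>
        obtain ⟨c, hc⟩ := hd φ.toLinearMap
        have h1 : d • φ = c • Disc.Omega.trace A B := by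
          apply Disc.Omega.ext
          apply LinearMap.ext
          intro y
          simpa [Disc.Omega.trace] using hc y
        have h2 : Φ (Disc.Omega.trace A B) ∈ (Disc.noetherDifferent A B : Set B) := by
          rw [h15]; exact ⟨Φ, rfl⟩
        rw [contractLeft_apply]
        have : d * Φ φ = c * Φ (Disc.Omega.trace A B) := by
          rw [← smul_eq_mul, ← map_smul, h1, map_smul, smul_eq_mul]
        rw [this]
        exact Ideal.mul_mem_left _ _ h2
      | add x y hx hy =>
        rw [map_add, mul_add]; exact Ideal.add_mem _ hx hy
    obtain ⟨t, ht⟩ := (Module.Invertible.bijective (R := B) (M := Disc.Omega A B)).2 1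
    have := key t
    rw [ht, mul_one] at this
    exact this
  · intro hd
    rw [h15] at hd
    obtain ⟨Φ, rfl⟩ := hd
    intro φ
    refine ⟨Φ ⟨φ⟩, fun y => ?_⟩
    have h := Groth.Agent.H11.dual_apply_smul_comm Φ (Disc.Omega.trace A B) ⟨φ⟩
    have h' := congr_arg (fun ψ : Disc.Omega A B => ψ.toLinearMap y) h
    simpa [Disc.Omega.trace] using h'


end Groth.Agent.S2221
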