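import Groth.Statements.S2225
import Groth.Agent.H26.GorFibreField
import Groth.Agent.S3624
import Groth.Agent.S0342

set_option autoImplicit false
universe u
open CategoryTheory AlgebraicGeometry
open Models

namespace Groth.Agent.S2225

/-- Part (1), for the closed fibre: let R be a discrete valuation ring with fraction field K, C a smooth
proper curve over K and X a regular model of C over R (flat, of finite type, all local rings
regular). Then every local ring of the special fibre X_k is a Gorenstein local ring; together with
flatness and regularity of the generic fibre this says X -> Spec R is a Gorenstein morphism. -/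
theorem result (R : Type u) [CommRing R] [IsDomain R]
    [IsDiscreteValuationRing R] (C X : Scheme.{u})
    (f : C ⟶ Spec (CommRingCat.of (FractionRing R))) (p : X ⟶ Spec (CommRingCat.of R))
    (hC : Curve.IsSmoothProperCurve (FractionRing R) C f) (hX : Models.IsModel R X p C f)
    (hreg : Models.IsRegularScheme X) (x : ↥(Models.specialFibre R X p)) :
    LocCoh.IsGorensteinLocalRing ((Models.specialFibre R X p).presheaf.stalk x) := by
  obtain ⟨hflat, hlft, -, -⟩ := hX
  have hNX : IsLocallyNoetherian X := LocallyOfFiniteType.isLocallyNoetherian p
  have hG : Dual3.IsGorenstein X := ⟨hNX, fun x' => by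
    have := hreg x'
    exact Groth.Agent.S0342.result (X.presheaf.stalk x')⟩
  have hmor := (Groth.Agent.S3624.result X (Spec (CommRingCat.of R)) p hG).1
  let σ : Spec (CommRingCat.of (IsLocalRing.ResidueField R)) ⟶ Spec (CommRingCat.of R) :=
    Spec.map (CommRingCat.ofHom (algebraMap R (IsLocalRing.ResidueField R)))
  have hpb : IsPullback (Limits.pullback.fst p σ) (Limits.pullback.snd p σ) p σ := IsPullback.of_hasPullback p σ
  have hN : IsLocallyNoetherian
      (p.fiber (σ (IsLocalRing.closedPoint (IsLocalRing.ResidueField R)))) :=
    inferInstanceAs (IsLocallyNoetherian (Limits.pullback p ((Spec (CommRingCat.of R)).fromSpecResidueField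
      (σ (IsLocalRing.closedPoint (IsLocalRing.ResidueField R))))))
  exact (Groth.Agent.H26.GorFibreField.gor_stalk_pullback_field_iff p (IsLocalRing.ResidueField R) σ
    _ _ hpb (Or.inl hlft) x).mpr (hmor _).2

end Groth.Agent.S2225
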