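import Groth.Statements.S2237
import Groth.Agent.H46.LCISynt
import Groth.Agent.H46.SyntLocal

set_option autoImplicit false
universe u
attribute [local instance] HasDerivedCategory.standard
open LCI

namespace Groth.Agent.S2237

theorem ringKrullDim_fiber_eq_zero {A S : Type u} [CommRing A] [CommRing S] [Algebra A S]
    [Algebra.QuasiFinite A S] (p : Ideal A) [p.IsPrime] [Nontrivial (p.Fiber S)] :
    ringKrullDim (p.Fiber S) = 0 := by
  have hart : IsArtinianRing (p.Fiber S) := inferInstance
  have hk : Ring.KrullDimLE 0 (p.Fiber S) := inferInstance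
  exact le_antisymm (Ring.krullDimLE_iff.mp hk) ringKrullDim_nonneg_of_nontrivial

/-- Implication (2) to (5), affine form: let A -> B be flat, quasi-finite and a local complete
intersection homomorphism (finite type with a Koszul-regular presentation). Then for every prime q
of B there are g in B outside q, a natural number n and polynomials f_1, ..., f_n in A[x_1, ...,
x_n] such that B_g is isomorphic as an A-algebra to A[x_1, ..., x_n]/(f_1, ..., f_n). -/
theorem result {A B : Type u} [CommRing A]
    [CommRing B] [Algebra A B] [Module.Flat A B] [Algebra.QuasiFinite A B] (hlci : LCI.IsLCI A B)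
    (q : Ideal B) [q.IsPrime] :
    ∃ g : B, g ∉ q ∧ ∃ (n : ℕ) (f : Fin n → MvPolynomial (Fin n) A),
      Nonempty (Localization.Away g ≃ₐ[A]
        (MvPolynomial (Fin n) A ⧸ Ideal.span (Set.range f))) := by
  have hs : Synt.IsSyntomic A B :=
    Groth.Agent.H46.LCISynt.isSyntomic_of_flat_of_isLCI A B inferInstance hlci
  obtain ⟨g, hg, n, c, F, hGCI, ⟨e⟩⟩ := Groth.Agent.H46.SyntLocal.main A B hs q
  refine ⟨g, hg, ?_⟩
  -- the localization is nontrivial
  have : Nontrivial (Localization.Away g) := by
    by_contra hnt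
    rw [not_nontrivial_iff_subsingleton] at hnt
    have h0 : (0 : B) ∈ Submonoid.powers g :=
      (IsLocalization.subsingleton_iff (M := Submonoid.powers g)
        (S := Localization.Away g)).mp hnt
    obtain ⟨k, hk⟩ := h0
    apply hg
    apply Ideal.IsPrime.mem_of_pow_mem inferInstance k
    have hk' : g ^ k = 0 := hk
    rw [hk']
    exact Ideal.zero_mem _
  have : Nontrivial (Synt.RelGCIRing A n c F) := e.symm.toEquiv.nontrivial
  have : Algebra.QuasiFinite A (Synt.RelGCIRing A n c F) :=
    (Algebra.QuasiFinite.iff_of_algEquiv e).mp inferInstance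
  obtain ⟨q'⟩ := (inferInstance : Nonempty (PrimeSpectrum (Synt.RelGCIRing A n c F)))
  let p : Ideal A := q'.asIdeal.under A
  have : p.IsPrime := inferInstance
  have : q'.asIdeal.LiesOver p := ⟨rfl⟩
  let Q : PrimeSpectrum (p.Fiber (Synt.RelGCIRing A n c F)) :=
    PrimeSpectrum.primesOverOrderIsoFiber A (Synt.RelGCIRing A n c F) p ⟨q'.asIdeal, q'.isPrime, ‹_›⟩
  have : Nontrivial (p.Fiber (Synt.RelGCIRing A n c F)) := by
    by_contra hnt
    rw [not_nontrivial_iff_subsingleton] at hnt
    exact Q.isPrime.ne_top (Subsingleton.elim _ _)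
  obtain ⟨hcn, hdim⟩ := hGCI ⟨p, inferInstance⟩ inferInstance
  have hz : ringKrullDim (p.Fiber (Synt.RelGCIRing A n c F)) = 0 :=
    ringKrullDim_fiber_eq_zero p
  have h0 : ((n - c : ℕ) : WithBot ℕ∞) = 0 := by
    rw [← hdim]
    exact hz
  have h1 : n - c = 0 := by exact_mod_cast h0
  obtain rfl : c = n := by omega
  exact ⟨c, F, ⟨e⟩⟩

end Groth.Agent.S2237
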