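import Groth.Statements.S2326
import Groth.Agent.H18.Ideal.MulIdeal
import Groth.Agent.H96.FiniteTypeExt
import Groth.Agent.S3566

set_option autoImplicit false
universe u
open CategoryTheory CategoryTheory.Limits AlgebraicGeometry
open EGA2

namespace Groth.Agent.S2326

/-- Let X be a quasi-compact separated scheme (the source also allows a prescheme with Noetherian
underlying space) and L an invertible module. Suppose that for every quasi-coherent ideal sheaf I of
finite type there are n > 0 and k > 0 with I ⊗ L^{⊗n} a quotient of O_X^k. Then L is ample. -/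
theorem result (X : Scheme.{u}) [CompactSpace X] [X.IsSeparated] (L : X.Modules) (hL : PicF.IsInvertible L)
    (h : ∀ I : X.IdealSheafData, BlowUp.IsFiniteTypeIdeal I →
      ∃ (n k : ℕ) (p : FlatMod.freeMod X k ⟶ CohB1.tensorMod (ClSub.idealMod I) (CohB1.tensorPow L (n + 1))), 0 < k ∧ Epi p) :
    CohB1.IsAmple L := by
  classical
  haveI : QuasiSeparatedSpace X := inferInstance
  rw [Groth.Agent.S3566.result X L hL]
  refine TopologicalSpace.isTopologicalBasis_of_isOpen_of_nhds ?_ ?_
  · rintro _ ⟨n, s, rfl⟩
    exact (CohB1.genLocus _ s).isOpen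
  · intro x W hxW hW
    obtain ⟨U, hUaff, hxU, hUW⟩ := TopologicalSpace.Opens.isBasis_iff_nbhd.1
      X.isBasis_affineOpens (U := ⟨W, hW⟩) hxW
    obtain ⟨I, hIfg, hIsupp⟩ :=
      Groth.Agent.H96.FiniteTypeExt.exists_finiteType_support_eq U hUaff.isCompact
    obtain ⟨n, k, p, -, hp⟩ := h I hIfg
    have hM : PicF.IsInvertible (CohB1.tensorPow L (n + 1)) :=
      Groth.Agent.H18.STL.isInvertible_tensorPow hL _
    have hx : x ∉ I.support := by
      intro hxs
      have : x ∈ (I.support : Set X) := hxs
      rw [hIsupp] at this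
      exact this hxU
    obtain ⟨j, hj⟩ := Groth.Agent.H18.IdealTw.exists_mem_genLocus_comp hM
      (fun j : Fin k => Sigma.ι (fun _ : Fin k => Coh.structureModule X) j ≫ p)
      (fun {Q} g hg => by
        have h1 : p ≫ g = 0 := by
          refine Sigma.hom_ext _ _ (fun j => ?_)
          rw [comp_zero, ← Category.assoc]
          exact hg j
        exact (cancel_epi p).1 (h1.trans comp_zero.symm))
      (Groth.Agent.H18.IdealTw.mulHom (ClSub.idealModι I) _) x
      (Groth.Agent.H18.IdealTw.surjective_stalk_mulHom_ideal I _ hx)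
    have hmem : ((CohB1.genLocus (CohB1.tensorPow L (n + 1))
        ((Sigma.ι (fun _ : Fin k => Coh.structureModule X) j ≫ p) ≫
          Groth.Agent.H18.IdealTw.mulHom (ClSub.idealModι I) _) : X.Opens) : Set X) ∈
        {U : Set X | ∃ (n : ℕ) (s : Coh.structureModule X ⟶ CohB1.tensorPow L (n + 1)),
          U = (CohB1.genLocus (CohB1.tensorPow L (n + 1)) s : Set X)} :=
      ⟨n, (Sigma.ι (fun _ : Fin k => Coh.structureModule X) j ≫ p) ≫
          Groth.Agent.H18.IdealTw.mulHom (ClSub.idealModι I) _, rfl⟩
    refine ⟨_, hmem, hj, ?_⟩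
    intro y hy
    have hys := Groth.Agent.H18.IdealTw.genLocus_comp_mulHom_disjoint I hM
      (Sigma.ι (fun _ : Fin k => Coh.structureModule X) j ≫ p) hy
    have hyU : y ∈ U := by
      by_contra hyU
      apply hys
      show y ∈ (I.support : Set X)
      rw [hIsupp]
      exact hyU
    exact hUW hyU

end Groth.Agent.S2326
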