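import Groth.Statements.S2333
import Groth.Agent.H18.STL.BasicOpenCover

set_option autoImplicit false
universe u
open CategoryTheory CategoryTheory.Limits AlgebraicGeometry
open EGA2

namespace Groth.Agent.S2333

/-- Let f : X → Y and g : Y → Z be morphisms of schemes with f quasi-compact, and L an O_X-module which
is ample relative to the composite g ∘ f. Then L is ample relative to f. (No separatedness
hypothesis on g is imposed.) -/
theorem result {X Y Z : Scheme.{u}} (f : X ⟶ Y) (g : Y ⟶ Z) [QuasiCompact f]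
    (L : X.Modules) (hL : RelAmple.IsRelAmple (f ≫ g) L) : RelAmple.IsRelAmple f L := by
  obtain ⟨-, hA⟩ := hL
  refine ⟨inferInstance, fun V => ?_⟩
  haveI : IsAffine (V.1 : Scheme.{u}) := V.2
  haveI : CompactSpace ↥(f ⁻¹ᵁ V.1 : Scheme.{u}) :=
    isCompact_iff_compactSpace.1 (QuasiCompact.isCompact_preimage (f := f) _ V.1.isOpen
      V.2.isCompact)
  have hex : ∀ v : (V.1 : Scheme.{u}), ∃ (W : Z.affineOpens) (h' : Γ((V.1 : Scheme.{u}), ⊤)),
      v ∈ (V.1 : Scheme.{u}).basicOpen h' ∧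
        (V.1 : Scheme.{u}).basicOpen h' ≤ V.1.ι ⁻¹ᵁ (g ⁻¹ᵁ W.1) := by
    intro v
    obtain ⟨W, hWaff, hvW, -⟩ := TopologicalSpace.Opens.isBasis_iff_nbhd.1 Z.isBasis_affineOpens
      (show g (V.1.ι v) ∈ (⊤ : Z.Opens) from trivial)
    obtain ⟨_, ⟨h', rfl⟩, hvh, hle⟩ := TopologicalSpace.Opens.isBasis_iff_nbhd.1
      (isBasis_basicOpen (V.1 : Scheme.{u})) (show v ∈ V.1.ι ⁻¹ᵁ (g ⁻¹ᵁ W) from hvW)
    exact ⟨⟨W, hWaff⟩, h', hvh, hle⟩
  choose W h' hv hle using hex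
  refine Groth.Agent.H18.STL.isAmple_of_basicOpen_cover
    (fun v => (f ∣_ V.1).appTop (h' v)) (fun p => ⟨(f ∣_ V.1) p, ?_⟩) (fun v => ?_)
  · rw [← Scheme.preimage_basicOpen_top]
    exact hv _
  · have hcpt : CompactSpace ↥((f ⁻¹ᵁ V.1 : Scheme.{u}).basicOpen ((f ∣_ V.1).appTop (h' v)) :
        Scheme.{u}) := by
      rw [← Scheme.preimage_basicOpen_top]
      exact isCompact_iff_compactSpace.1 (QuasiCompact.isCompact_preimage (f := f ∣_ V.1) _
        ((V.1 : Scheme.{u}).basicOpen (h' v)).isOpen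
        ((isAffineOpen_top (V.1 : Scheme.{u})).basicOpen (h' v)).isCompact)
    have h1 := Groth.Agent.H18.STL.OI.isAmple_restrict_of_range_le (L := L)
      ((f ≫ g) ⁻¹ᵁ (W v).1).ι
      (((f ⁻¹ᵁ V.1 : Scheme.{u}).basicOpen ((f ∣_ V.1).appTop (h' v))).ι ≫ (f ⁻¹ᵁ V.1).ι)
      (by
        rintro _ ⟨p, rfl⟩
        have hp : p.1 ∈ (f ∣_ V.1) ⁻¹ᵁ (V.1 : Scheme.{u}).basicOpen (h' v) := by
          rw [Scheme.preimage_basicOpen_top]
          exact p.2
        have h2 := hle v hp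
        rw [Scheme.Opens.range_ι]
        change (f ≫ g) ((f ⁻¹ᵁ V.1).ι p.1) ∈ (W v).1
        have h3 : V.1.ι ((f ∣_ V.1) p.1) = f ((f ⁻¹ᵁ V.1).ι p.1) := by
          rw [← Scheme.Hom.comp_apply, morphismRestrict_ι]
          rfl
        change g (V.1.ι ((f ∣_ V.1) p.1)) ∈ (W v).1 at h2
        rw [h3] at h2
        exact h2)
      hcpt (hA (W v))
    exact Groth.Agent.H18.STL.isAmple_of_iso
      ((Scheme.Modules.restrictFunctorComp _ _).app L) h1

end Groth.Agent.S2333
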