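import Groth.Statements.S2335
import Groth.Agent.H22.DVRUC
import Groth.Agent.H22.DVRSep

set_option autoImplicit false
universe u
open CategoryTheory CategoryTheory.Limits AlgebraicGeometry
open EGA2

namespace Groth.Agent.S2335

/-- Let Y be locally Noetherian and f : X → Y of finite type. Then f is proper if and only if for every
discrete valuation ring A with fraction field K and every commutative square Spec K → X, Spec A → Y,
there is exactly one morphism Spec A → X making both triangles commute. -/
theorem result {X Y : Scheme.{u}} [IsLocallyNoetherian Y] (f : X ⟶ Y) [LocallyOfFiniteType f] [QuasiCompact f] :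
    IsProper f ↔ ∀ (A : Type u) [CommRing A] [IsDomain A] [IsDiscreteValuationRing A] (x : (Spec (CommRingCat.of (FractionRing A))) ⟶ X) (y : (Spec (CommRingCat.of A)) ⟶ Y),
      x ≫ f = (Spec.map (CommRingCat.ofHom (algebraMap A (FractionRing A)))) ≫ y → ∃! l : (Spec (CommRingCat.of A)) ⟶ X, l ≫ f = y ∧ (Spec.map (CommRingCat.ofHom (algebraMap A (FractionRing A)))) ≫ l = x := by
  constructor
  · intro hp A _ _ _ x y hxy
    obtain ⟨l, hl1, hl2⟩ := Groth.Agent.H22.DVRUC.dvrExist_of_universallyClosed f A x y hxy
    refine ⟨l, ⟨hl1, hl2⟩, ?_⟩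
    rintro l' ⟨hl1', hl2'⟩
    have hU := IsSeparated.valuativeCriterion f
    let S : ValuativeCommSq f :=
      { R := A
        K := FractionRing A
        i₁ := x
        i₂ := y
        commSq := ⟨hxy⟩ }
    have hsub : Subsingleton S.commSq.LiftStruct := hU S
    let l₁ : S.commSq.LiftStruct := ⟨l, hl2, hl1⟩
    let l₂ : S.commSq.LiftStruct := ⟨l', hl2', hl1'⟩
    exact congrArg CommSq.LiftStruct.l (Subsingleton.elim l₂ l₁)
  · intro H
    have hsep : IsSeparated f := by
      apply Groth.Agent.H22.DVRSep.isSeparated_of_dvr_uniqueness f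
      intro A _ _ _ g₁ g₂ h1 h2
      obtain ⟨l, -, hl⟩ := H A (Spec.map (CommRingCat.ofHom (algebraMap A (FractionRing A))) ≫ g₁)
        (g₁ ≫ f) (by simp only [Category.assoc])
      rw [hl g₁ ⟨rfl, rfl⟩, hl g₂ ⟨h1.symm, h2.symm⟩]
    have huc : UniversallyClosed f := by
      apply Groth.Agent.H22.DVRUC.universallyClosed_of_dvrExist f
      intro A _ _ _ x y hxy
      obtain ⟨l, hl, -⟩ := H A x y hxy
      exact ⟨l, hl⟩
    exact { }

end Groth.Agent.S2335
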