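import Groth.Statements.S2336
import Groth.Agent.H18.STL.QuasiAffine2

set_option autoImplicit false
universe u
open CategoryTheory CategoryTheory.Limits AlgebraicGeometry
open EGA2

namespace Groth.Agent.S2336

/-- Let X be a quasi-compact separated scheme (the source also allows a prescheme with Noetherian
underlying space). Then X is quasi-affine if and only if O_X is an ample invertible module. -/
theorem result (X : Scheme.{u}) [CompactSpace X] [X.IsSeparated] :
    X.IsQuasiAffine ↔ CohB1.IsAmple (Coh.structureModule X) := by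
  constructor
  · intro h
    exact Groth.Agent.H18.STL.isAmple_of_isQuasiAffine
      Groth.Agent.H67.ParaExt.isInvertible_structureModule
  · rintro ⟨-, -, hcov⟩
    refine Scheme.IsQuasiAffine.of_forall_exists_mem_basicOpen X (fun x => ?_)
    obtain ⟨k, a, hxa, haff⟩ := hcov x
    let 𝔄₀ : Groth.Agent.H18.STL.Atlas (Coh.structureModule X) :=
      ⟨PUnit.{u + 1}, fun _ => ⊤, fun _ => ⟨PUnit.unit, trivial⟩,
        fun _ => Groth.Agent.H18.STL.oneSec X ⊤,
        fun _ => Groth.Agent.H18.STL.isBasisOn_oneSec ⊤⟩
    have w := Groth.Agent.H18.STL.hasWeight_tensorPow 𝔄₀ (k + 1)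
    have h1 := w.genLocus_inf a PUnit.unit
    have h2 : CohB1.genLocus (CohB1.tensorPow (Coh.structureModule X) (k + 1)) a =
        X.basicOpen (w.coords a PUnit.unit) := by
      rw [← h1]
      exact (inf_top_eq _).symm
    exact ⟨w.coords a PUnit.unit, h2 ▸ haff, h2 ▸ hxa⟩

end Groth.Agent.S2336
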