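import Groth.Statements.S2341
-- import your own Groth.Agent.* helpers here
import Groth.Agent.H6.QuasiAffineHom2

set_option autoImplicit false
universe u
open CategoryTheory CategoryTheory.Limits AlgebraicGeometry
open EGA2

namespace Groth.Agent.S2341

/-- A quasi-compact morphism X → Y whose underlying map is a homeomorphism onto its image (for instance
a closed immersion) is quasi-affine. -/
theorem result {X Y : Scheme.{u}} (f : X ⟶ Y) [QuasiCompact f]
    (hf : Topology.IsEmbedding f.base) : Mor2.IsQuasiAffine f := by
  exact (Groth.Agent.H6.QuasiAffineHom.P_iff f).mp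
    (Groth.Agent.H6.QuasiAffineHom.P_of_isEmbedding f hf)

end Groth.Agent.S2341
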