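import Groth.Statements.S2342
import Groth.Agent.H22.ValSection
import Mathlib.AlgebraicGeometry.FunctionField
import Mathlib.AlgebraicGeometry.ResidueField

set_option autoImplicit false
universe u
open CategoryTheory CategoryTheory.Limits AlgebraicGeometry
open EGA2

namespace Groth.Agent.S2342

/-- Let A be a valuation ring with Y = Spec A, X an integral separated scheme and f : X → Y a morphism
which is closed as a map of topological spaces, such that the fibre over the generic point of Y
consists of exactly one point x and the induced map from the residue field of the generic point of Y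
to that of x is bijective. Then f is an isomorphism. -/
theorem result (A : Type u) [CommRing A] [IsDomain A] [ValuationRing A]
    (X : Scheme.{u}) [IsIntegral X] [X.IsSeparated] (f : X ⟶ Spec (CommRingCat.of A)) (hf : IsClosedMap f.base)
    (x : X) (hx : f.base ⁻¹' {genericPoint (Spec (CommRingCat.of A))} = {x})
    (hres : Function.Bijective (f.residueFieldMap x).hom) : IsIso f := by
  classical
  let R : CommRingCat.{u} := CommRingCat.of A
  have hRdom : IsDomain R := inferInstanceAs (IsDomain A)
  let ξ : Spec R := (⊥ : PrimeSpectrum R)
  have hξ : genericPoint (Spec R) = ξ := genericPoint_eq_bot_of_affine R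
  have hfx : f.base x = ξ := by
    have : x ∈ f.base ⁻¹' {genericPoint (Spec (CommRingCat.of A))} := by rw [hx]; rfl
    exact this.trans hξ
  -- x is the generic point of X
  have hη : genericPoint X = x := by
    have h1 : f.base (genericPoint X) ⤳ f.base x :=
      ((genericPoint_spec X).specializes trivial).map f.base.hom.continuous
    have h2 : f.base x ⤳ f.base (genericPoint X) := by
      rw [hfx, ← hξ]
      exact (genericPoint_spec (Spec R)).specializes trivial
    have h3 : f.base (genericPoint X) = f.base x := h1.antisymm h2 |>.eq
    have : genericPoint X ∈ f.base ⁻¹' {genericPoint (Spec (CommRingCat.of A))} := by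
      show f.base (genericPoint X) = _
      rw [h3, hfx, hξ]
    rw [hx] at this
    exact this
  have key : ∀ (p : Ideal A) [p.IsPrime], p = ⊥ → IsFractionRing A p.ResidueField := by
    intro p _ hp; subst hp; infer_instance
  let K : Type u := (f.base x).asIdeal.ResidueField
  have hfrac : IsFractionRing A K := key _ (by rw [hfx]; rfl)
  have hiso : IsIso (f.residueFieldMap x) := (ConcreteCategory.isIso_iff_bijective _).mpr hres
  let e := Scheme.Spec.residueFieldIso R (f.base x)
  let θ : X.residueField x ⟶ CommRingCat.of K := inv (f.residueFieldMap x) ≫ e.hom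
  let x' : Spec (CommRingCat.of K) ⟶ X := Spec.map θ ≫ X.fromSpecResidueField x
  have hx' : x' ≫ f = Spec.map (CommRingCat.ofHom (algebraMap A K)) := by
    simp only [x', Category.assoc]
    rw [← Scheme.Hom.SpecMap_residueFieldMap_fromSpecResidueField, ← Spec.map_comp_assoc]
    have : f.residueFieldMap x ≫ θ = e.hom := by simp [θ]
    rw [this, ← Scheme.Spec.map_residueFieldIso_inv_eq_fromSpecResidueField,
      ← Spec.map_comp_assoc, Iso.inv_hom_id, Spec.map_id, Category.id_comp]
  obtain ⟨s, ⟨hs1, hs2⟩, -⟩ := Groth.Agent.H22.section_extends_of_valuationRing A K X f hf x' hx'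
  have hci : IsClosedImmersion (s ≫ f) := hs1 ▸ inferInstance
  have hcs : IsClosedImmersion s := IsClosedImmersion.of_comp s f
  have hsξ : s.base ξ = x := by
    have : s.base ξ ∈ f.base ⁻¹' {genericPoint (Spec (CommRingCat.of A))} := by
      show f.base (s.base ξ) = _
      rw [← Scheme.Hom.comp_apply, hs1, hξ]
      rfl
    rw [hx] at this
    exact this
  have hsurj : Surjective s := by
    constructor
    have hcl : IsClosed (Set.range s.base) := s.isClosedEmbedding.isClosed_range
    have hmem : x ∈ Set.range s.base := ⟨ξ, hsξ⟩
    have hsub : closure {x} ⊆ Set.range s.base :=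
      hcl.closure_subset_iff.mpr (Set.singleton_subset_iff.mpr hmem)
    have hcx : closure {x} = Set.univ := by
      rw [← hη]; exact (genericPoint_spec X).def
    rw [hcx] at hsub
    exact fun y => hsub (Set.mem_univ y)
  have hsiso : IsIso s := isIso_of_isClosedImmersion_of_surjective s
  have : IsIso (s ≫ f) := hs1 ▸ inferInstance
  exact IsIso.of_isIso_comp_left s f

end Groth.Agent.S2342
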