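import Groth.Statements.S2343
-- import your own Groth.Agent.* helpers here
import Groth.Agent.H6.IsolatedSplit

set_option autoImplicit false
universe u
open CategoryTheory CategoryTheory.Limits AlgebraicGeometry
open EGA2

namespace Groth.Agent.S2343

/-- Let A be a complete Noetherian local ring, X a separated scheme locally of finite type over Spec A,
and x a point of X over the closed point which is isolated in its fibre. Then the local ring of X at
x is a finite A-module and the canonical morphism Spec O_{X,x} → X is both an open and a closed
immersion (X is the disjoint sum of Spec O_{X,x} and another open subscheme). -/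
theorem result (A : Type u) [CommRing A] [IsLocalRing A] [IsNoetherianRing A]
    [IsAdicComplete (IsLocalRing.maximalIdeal A) A] (X : Scheme.{u}) (f : X ⟶ Spec (CommRingCat.of A)) [LocallyOfFiniteType f] [IsSeparated f]
    (x : X) (hx : f.base x = IsLocalRing.closedPoint A)
    (hisol : IsOpen ((Subtype.val : (f.base ⁻¹' {IsLocalRing.closedPoint A}) → X) ⁻¹' {x})) :
    ((Scheme.ΓSpecIso (CommRingCat.of A)).inv ≫ f.appTop ≫ X.presheaf.germ ⊤ x trivial).hom.Finite ∧ IsOpenImmersion (X.fromSpecStalk x) ∧ IsClosedImmersion (X.fromSpecStalk x) := by
  have : HenselianLocalRing A := Groth.Agent.H22.FinitePart.henselianLocalRing_of_isAdicComplete A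
  exact Groth.Agent.H6.IsolatedSplit.isolated_point_splits A X f x hx hisol

end Groth.Agent.S2343
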