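import Groth.Statements.S2344
import Groth.Agent.H22.ExtendValPoints
import Mathlib.RingTheory.DiscreteValuationRing.TFAE

set_option autoImplicit false
universe u
open CategoryTheory CategoryTheory.Limits AlgebraicGeometry
open EGA2

namespace Groth.Agent.S2344

/-- Let X be a normal algebraic curve over k (separated, of finite type, nonempty, local rings at closed
points of dimension one, all local rings integrally closed domains), Y proper over k, U a dense open
of X and g : U → Y a k-morphism. Then g extends uniquely to a k-morphism X → Y. -/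
theorem result (k : Type u) [Field k] (X Y : Scheme.{u}) [X.Over (Spec (CommRingCat.of k))] [Y.Over (Spec (CommRingCat.of k))]
    [LocallyOfFiniteType (X ↘ (Spec (CommRingCat.of k)))] [QuasiCompact (X ↘ (Spec (CommRingCat.of k)))] [IsSeparated (X ↘ (Spec (CommRingCat.of k)))] [Nonempty X] (hcurve : (∀ x : X, IsClosed ({x} : Set X) → ringKrullDim (X.presheaf.stalk x) = 1)) (hnorm : Pi1.IsNormalScheme X)
    [IsProper (Y ↘ (Spec (CommRingCat.of k)))] (U : X.Opens) (hU : Dense (U : Set X)) (g : (U : Scheme.{u}) ⟶ Y)
    (hg : g ≫ (Y ↘ (Spec (CommRingCat.of k))) = U.ι ≫ (X ↘ (Spec (CommRingCat.of k)))) :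
    ∃! g' : X ⟶ Y, U.ι ≫ g' = g ∧ g' ≫ (Y ↘ (Spec (CommRingCat.of k))) = X ↘ (Spec (CommRingCat.of k)) := by
  classical
  have hN : IsLocallyNoetherian X :=
    LocallyOfFiniteType.isLocallyNoetherian (X ↘ Spec (CommRingCat.of k))
  have hC : CompactSpace X :=
    QuasiCompact.compactSpace_of_compactSpace (X ↘ Spec (CommRingCat.of k))
  have hred : IsReduced X := by
    have : ∀ x : X, _root_.IsReduced (X.presheaf.stalk x) := fun x => by
      have := (hnorm x).1
      infer_instance
    exact isReduced_of_isReduced_stalk X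
  refine H22.ExtendValPoints.existsUnique_extension_of_valuationRing_closedPoints
    (Y ↘ Spec (CommRingCat.of k)) (X ↘ Spec (CommRingCat.of k)) (fun y _ => inferInstance) ?_
    U hU g hg
  intro x hx
  obtain ⟨hdom, hic⟩ := hnorm x
  refine ⟨hdom, ?_⟩
  have hdim := hcurve x hx
  have hNx : IsNoetherianRing (X.presheaf.stalk x) := inferInstance
  have htf := (tfae_of_isNoetherianRing_of_isLocalRing_of_isDomain
    (X.presheaf.stalk x)).out 3 1
  refine htf.mp ⟨hic, ?_⟩
  intro P hP0 hPprime
  have hle1 : Ring.KrullDimLE 1 (X.presheaf.stalk x) := Ring.krullDimLE_iff.mpr hdim.le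
  have hmax := Ring.krullDimLE_one_iff_of_noZeroDivisors.mp hle1 P hP0 hPprime
  exact IsLocalRing.eq_maximalIdeal hmax


end Groth.Agent.S2344
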