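import Groth.Statements.S2347
import Groth.Agent.H22.IntegralSection

set_option autoImplicit false
universe u
open CategoryTheory CategoryTheory.Limits AlgebraicGeometry
open EGA2

namespace Groth.Agent.S2347

/-- Let X be an integral normal scheme, X' an integral scheme and g : X' → X an integral morphism. If g
has a rational section (a morphism s from a dense open U of X to X' with g ∘ s the inclusion of U),
then g is an isomorphism. -/
theorem result {X X' : Scheme.{u}} [IsIntegral X] [IsIntegral X'] (hX : Pi1.IsNormalScheme X)
    (g : X' ⟶ X) [IsIntegralHom g] (U : X.Opens) (hU : Dense (U : Set X)) (s : (U : Scheme.{u}) ⟶ X') (hs : s ≫ g = U.ι) :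
    IsIso g := by
  have hoi : IsOpenImmersion (s ≫ g) := hs ▸ inferInstance
  have hne : (U : Set X).Nonempty := hU.nonempty
  have hηU : genericPoint X ∈ U :=
    ((genericPoint_spec X).mem_open_set_iff U.isOpen).mpr (by simpa using hne)
  let u : U.toScheme := ⟨genericPoint X, hηU⟩
  have hu : (s ≫ g).base u = genericPoint X := by
    have : (s ≫ g).base u = U.ι.base u := congrArg (fun f : U.toScheme ⟶ X => f.base u) hs
    exact this
  exact Groth.Agent.H22.IntegralSection.isIso_of_isIntegralHom_of_section
    (fun x => (hX x).2) g s u hu

end Groth.Agent.S2347
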