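import Groth.Statements.S8851
import Groth.Agent.H8.BlowUpAss

set_option autoImplicit false
universe u
open CategoryTheory CategoryTheory.Limits AlgebraicGeometry TopologicalSpace
open SDiv

namespace Groth.Agent.S8851

/-- Let X be a reduced scheme, 𝓘 a quasi-coherent ideal sheaf on X and b : X' ⟶ X a blowing up of X in
𝓘. Then X' is reduced. -/
theorem result {X X' : Scheme.{u}} [IsReduced X] (𝓘 : X.IdealSheafData) (b : X' ⟶ X)
    (hb : BlowUp.IsBlowUp b 𝓘) : IsReduced X' := by
  refine ⟨fun U => ⟨fun t ht => ?_⟩⟩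
  by_contra hne
  obtain ⟨y, hyU, hyw, hgy⟩ := Groth.Agent.H8.exists_isWeakAssPoint_germ_ne_zero_structure t hne
  apply hgy
  have hiso : IsIso (b.stalkMap y) := (Groth.Agent.H8.blowUp_weakAss hb hyw).2.1
  let e : X.presheaf.stalk (b y) ≃+* X'.presheaf.stalk y :=
    (asIso (b.stalkMap y)).commRingCatIsoToRingEquiv
  have h1 : IsNilpotent (X'.presheaf.germ U y hyU t) := ht.map _
  have h2 : IsNilpotent (e.symm (X'.presheaf.germ U y hyU t)) := h1.map e.symm
  have h3 : e.symm (X'.presheaf.germ U y hyU t) = 0 := h2.eq_zero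
  exact (EmbeddingLike.map_eq_zero_iff (f := e.symm)).mp h3

end Groth.Agent.S8851
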