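import Groth.Statements.S2348
import Groth.Agent.H8.BlowUpAss
import Groth.Agent.H8.MeroDense
import Groth.Agent.S8851

set_option autoImplicit false
universe u
open CategoryTheory CategoryTheory.Limits AlgebraicGeometry
open EGA2

namespace Groth.Agent.S2348

open Groth.Agent.H8 Curv2

set_option backward.isDefEq.respectTransparency false in
/-- On an integral scheme the only weakly associated point of the structure sheaf is the generic
point. -/
lemma eq_genericPoint_of_weakAss {Y : Scheme.{u}} [IsIntegral Y] {y : Y}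
    (hy : IsWeakAssPoint (Coh.structureModule Y) y) : y = genericPoint Y := by
  rw [isWeakAssPoint_structure_iff] at hy
  have hm : IsLocalRing.maximalIdeal (Y.presheaf.stalk y) = ⊥ := by
    rw [eq_bot_iff]
    intro r hr
    rw [Ideal.mem_bot]
    by_contra hr0
    exact hr (isUnit_of_mem_nonZeroDivisors_of_isAssociatedPrime hy
      (mem_nonZeroDivisors_of_ne_zero hr0))
  obtain ⟨_, ⟨W, hW, rfl⟩, hyW, -⟩ :=
    Y.isBasis_affineOpens.exists_subset_of_mem_open (Set.mem_univ y) isOpen_univ
  have hW : IsAffineOpen W := hW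
  have hyW : y ∈ W := hyW
  have hne : Nonempty W := ⟨⟨y, hyW⟩⟩
  have hηW : genericPoint Y ∈ W :=
    ((genericPoint_spec Y).mem_open_set_iff W.isOpen).mpr ⟨y, Set.mem_univ _, hyW⟩
  let _ : Algebra Γ(Y, W) (Y.presheaf.stalk y) :=
    TopCat.Presheaf.algebra_section_stalk Y.presheaf ⟨y, hyW⟩
  have hloc : IsLocalization.AtPrime (Y.presheaf.stalk y) (hW.primeIdealOf ⟨y, hyW⟩).asIdeal :=
    hW.isLocalization_stalk ⟨y, hyW⟩
  refine primeIdealOf_injective hW hyW hηW ?_
  have h1 : (hW.primeIdealOf ⟨genericPoint Y, hηW⟩).asIdeal = ⊥ := by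
    have := hW.primeIdealOf_genericPoint
    rw [genericPoint_eq_bot_of_affine] at this
    exact congrArg PrimeSpectrum.asIdeal this
  rw [h1, eq_bot_iff]
  intro r hr
  have h2 : algebraMap Γ(Y, W) (Y.presheaf.stalk y) r ∈
      IsLocalRing.maximalIdeal (Y.presheaf.stalk y) :=
    (IsLocalization.AtPrime.to_map_mem_maximal_iff (Y.presheaf.stalk y)
      (hW.primeIdealOf ⟨y, hyW⟩).asIdeal r).mpr hr
  rw [hm, Ideal.mem_bot] at h2
  have hinj : Function.Injective (algebraMap Γ(Y, W) (Y.presheaf.stalk y)) :=
    IsLocalization.injective (M := (hW.primeIdealOf ⟨y, hyW⟩).asIdeal.primeCompl) _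
      (Ideal.primeCompl_le_nonZeroDivisors _)
  rw [Ideal.mem_bot]
  exact hinj (h2.trans (map_zero _).symm)


/-- For an ideal of O_Y: let Y be an integral scheme, I a nonzero quasi-coherent ideal sheaf and b : X →
Y a blowing up of Y in I (characterised by its universal property). Then X is integral, b sends the
generic point of X to that of Y and induces a bijection on their residue fields (b is birational).
The printed statement also asserts that b is surjective; the proof does not show this and it fails
when I is not of finite type, so it is left out. -/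
theorem result {X Y : Scheme.{u}} [IsIntegral Y] (I : Y.IdealSheafData) (hI : I ≠ ⊥)
    (b : X ⟶ Y) (hb : BlowUp.IsBlowUp b I) :
    ∃ (_ : IsIntegral X), ∃ hgen : b.base (genericPoint X) = genericPoint Y,
      Function.Bijective (b.residueFieldMap (genericPoint X)).hom := by
  have hred : IsReduced X := Groth.Agent.S8851.result I b hb
  let U : Y.Opens := I.support.compl
  have hiso : IsIso (b ∣_ U) := Groth.Agent.S1682.result I b hb
  have hkey : ∀ x₁ x₂ : X, IsWeakAssPoint (Coh.structureModule X) x₁ →
      IsWeakAssPoint (Coh.structureModule X) x₂ → x₁ = x₂ := by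
    intro x₁ x₂ h₁ h₂
    obtain ⟨hs₁, -, hw₁⟩ := blowUp_weakAss hb h₁
    obtain ⟨hs₂, -, hw₂⟩ := blowUp_weakAss hb h₂
    have e₁ := eq_genericPoint_of_weakAss hw₁
    have e₂ := eq_genericPoint_of_weakAss hw₂
    have : (⟨x₁, hs₁⟩ : ↥(b ⁻¹ᵁ U)) = ⟨x₂, hs₂⟩ := by
      apply (b ∣_ U).homeomorph.injective
      apply Subtype.ext
      simp only [Scheme.Hom.homeomorph_apply, morphismRestrict_base_coe]
      rw [e₁, e₂]
    exact congrArg Subtype.val this
  have hex : ∀ V : X.Opens, (V : Set X).Nonempty →
      ∃ x ∈ V, IsWeakAssPoint (Coh.structureModule X) x := by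
    intro V hV
    have : Nonempty V := hV.to_subtype
    obtain ⟨y, hyV, hy, -⟩ :=
      exists_isWeakAssPoint_germ_ne_zero_structure (1 : Γ(X, V)) one_ne_zero
    exact ⟨y, hyV, hy⟩
  have hη : genericPoint Y ∈ U := by
    intro hmem
    apply hI
    rw [← Scheme.IdealSheafData.support_eq_top_iff, ← top_le_iff]
    intro z _
    have h1 : z ∈ closure ({genericPoint Y} : Set Y) := by
      rw [(genericPoint_spec Y).def]; trivial
    exact (I.support.isClosed.closure_subset_iff.mpr (Set.singleton_subset_iff.mpr hmem)) h1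
  have hne : Nonempty X := ⟨((b ∣_ U).homeomorph.symm ⟨genericPoint Y, hη⟩).1⟩
  have hirr : IrreducibleSpace X :=
    { isPreirreducible_univ := by
        rintro u v hu hv ⟨x, -, hxu⟩ ⟨x', -, hxv⟩
        obtain ⟨y, hyu, hy⟩ := hex ⟨u, hu⟩ ⟨x, hxu⟩
        obtain ⟨y', hyv, hy'⟩ := hex ⟨v, hv⟩ ⟨x', hxv⟩
        have := hkey y y' hy hy'
        subst this
        exact ⟨y, trivial, hyu, hyv⟩
      toNonempty := hne }
  have hint : IsIntegral X := isIntegral_of_irreducibleSpace_of_isReduced X
  have hξ : IsWeakAssPoint (Coh.structureModule X) (genericPoint X) := by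
    obtain ⟨y, -, hy⟩ := hex ⊤ ⟨genericPoint X, trivial⟩
    have := eq_genericPoint_of_weakAss hy
    rwa [this] at hy
  obtain ⟨-, hstalk, hw⟩ := blowUp_weakAss hb hξ
  refine ⟨hint, eq_genericPoint_of_weakAss hw, ?_⟩
  exact (IsLocalRing.ResidueField.mapEquiv
    (asIso (b.stalkMap (genericPoint X))).commRingCatIsoToRingEquiv).bijective

end Groth.Agent.S2348
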