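import Groth.Statements.S4449
import Groth.Agent.H22.CenterCor

set_option autoImplicit false
universe u
open CategoryTheory CategoryTheory.Limits AlgebraicGeometry
open EGA2
open Groth.Agent.H22.LocalPt Groth.Agent.H22.CenterLemma Groth.Agent.H22.CenterCor

namespace Groth.Agent.S4449

/-- Case of an arbitrary integral separated base: let Y and X be integral separated schemes and f : X ⟶
Y a dominant morphism of finite type, ξ the generic point of X. Suppose that every valuation subring
R of K(X) other than K(X) itself which dominates the local ring of Y at a point y (via O_{Y,y} →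
O_{Y,f(ξ)} → K(X)) dominates the local ring of X at some point x (via O_{X,x} → K(X)). Then f is
proper. (Compare the locally Noetherian variant with discrete valuation rings.) -/
theorem result {X Y : Scheme.{u}} [IsIntegral X] [IsIntegral Y]
    [X.IsSeparated] [Y.IsSeparated] (f : X ⟶ Y) [IsDominant f] [LocallyOfFiniteType f] [QuasiCompact f]
    (h : ∀ (R : ValuationSubring X.functionField), R ≠ ⊤ →
      ∀ (y : Y) (hy : f.base (genericPoint X) ⤳ y),
        ((∀ a : Y.presheaf.stalk y, (Y.presheaf.stalkSpecializes hy ≫ f.stalkMap (genericPoint X)).hom a ∈ R) ∧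
          ∀ a ∈ IsLocalRing.maximalIdeal (Y.presheaf.stalk y),
            R.valuation ((Y.presheaf.stalkSpecializes hy ≫ f.stalkMap (genericPoint X)).hom a) < 1) →
        ∃ x : X, (∀ a : X.presheaf.stalk x, algebraMap (X.presheaf.stalk x) X.functionField a ∈ R) ∧
          ∀ a ∈ IsLocalRing.maximalIdeal (X.presheaf.stalk x), R.valuation (algebraMap (X.presheaf.stalk x) X.functionField a) < 1) :
    IsProper f := by
  classical
  let g : Spec (.of X.functionField) ⟶ X := X.fromSpecStalk (genericPoint X)
  have hgpt : g = pt (genericPoint X) (𝟙 _) := by
    simp [pt, g]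
  have hgcp : g (IsLocalRing.closedPoint X.functionField) = genericPoint X :=
    Scheme.fromSpecStalk_closedPoint
  have hgen : ∀ x : X, g (IsLocalRing.closedPoint X.functionField) ⤳ x := by
    intro x
    rw [hgcp]
    exact (genericPoint_spec X).specializes trivial
  have hU : UniqueLiftAt f g := uniqueLiftAt_of_isSeparated f g
  have hE : ExistsLiftAt f g := by
    intro R i₂ w
    by_cases hR : R = ⊤
    · subst hR
      let ι : X.functionField →+* (⊤ : ValuationSubring X.functionField) :=
        (RingHom.id X.functionField).codRestrict
          (⊤ : ValuationSubring X.functionField).toSubring (fun _ => trivial)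
      have h1 : CommRingCat.ofHom ι ≫
          CommRingCat.ofHom (⊤ : ValuationSubring X.functionField).subtype = 𝟙 _ := by
        ext a; rfl
      have h2 : CommRingCat.ofHom (⊤ : ValuationSubring X.functionField).subtype ≫
          CommRingCat.ofHom ι = 𝟙 _ := by
        ext a; rfl
      refine ⟨Spec.map (CommRingCat.ofHom ι) ≫ g, ?_, ?_⟩
      · rw [← Category.assoc, ← Spec.map_comp, h1, Spec.map_id, Category.id_comp]
      · rw [Category.assoc, w, ← Category.assoc, ← Spec.map_comp, h2, Spec.map_id,
          Category.id_comp]
    · obtain ⟨y, β, hβloc, rfl, -⟩ := exists_eq_pt i₂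
      have hy : f.base (genericPoint X) ⤳ y := by
        have h1 := congrArg (fun u : Spec (.of X.functionField) ⟶ Y =>
          u (IsLocalRing.closedPoint X.functionField)) w
        simp only [Scheme.Hom.comp_apply] at h1
        rw [hgcp] at h1
        rw [h1]
        exact pt_apply_specializes y β _
      have I : Y.presheaf.stalkSpecializes hy ≫ f.stalkMap (genericPoint X) =
          β ≫ CommRingCat.ofHom R.subtype := by
        apply pt_inj (x := y)
        calc pt y (Y.presheaf.stalkSpecializes hy ≫ f.stalkMap (genericPoint X))
            = pt (f (genericPoint X)) (f.stalkMap (genericPoint X)) :=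
              (pt_specializes hy _).symm
          _ = pt (f (genericPoint X)) (f.stalkMap (genericPoint X) ≫ 𝟙 _) := by
              rw [Category.comp_id]
          _ = pt (genericPoint X) (𝟙 _) ≫ f := (pt_comp ..).symm
          _ = g ≫ f := by rw [hgpt]
          _ = Spec.map (CommRingCat.ofHom R.subtype) ≫ pt y β := w
          _ = pt y (β ≫ CommRingCat.ofHom R.subtype) := map_pt ..
      have I' : ∀ a : Y.presheaf.stalk y,
          (Y.presheaf.stalkSpecializes hy ≫ f.stalkMap (genericPoint X)).hom a =
            ((β a : R) : X.functionField) := by
        intro a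
        have := congrArg (fun ψ => ψ.hom a) I
        simpa using this
      obtain ⟨x, hx1, hx2⟩ := h R hR y hy ⟨fun a => by rw [I']; exact (β a).2, fun a ha => by
        rw [I', ← ValuationSubring.valuation_lt_one_iff]
        rw [IsLocalRing.mem_maximalIdeal] at ha ⊢
        intro hu
        exact ha (hβloc.map_nonunit a hu)⟩
      have hξx : genericPoint X ⤳ x := (genericPoint_spec X).specializes trivial
      let α : X.presheaf.stalk x ⟶ .of R :=
        CommRingCat.ofHom ((algebraMap (X.presheaf.stalk x) X.functionField).codRestrict
          R.toSubring hx1)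
      have hα : α ≫ CommRingCat.ofHom R.subtype = X.presheaf.stalkSpecializes hξx := by
        ext a; rfl
      have hl1 : Spec.map (CommRingCat.ofHom R.subtype) ≫ pt x α = g := by
        rw [map_pt, hα, hgpt, pt_specializes hξx, Category.comp_id]
      refine ⟨pt x α, hl1, ?_⟩
      have : IsDominant (Spec.map (CommRingCat.ofHom R.subtype)) :=
        isDominant_SpecMap_of_injective _ Subtype.val_injective
      apply ext_of_isDominant (ι := Spec.map (CommRingCat.ofHom R.subtype))
      rw [← Category.assoc, hl1, w]
  have : UniversallyClosed f := universallyClosed_of_liftAt f g hgen hE hU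
  exact { }


end Groth.Agent.S4449
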