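import Groth.Statements.S2354
import Groth.Agent.H22.ExtendClosed
import Groth.Agent.H14.RegularNormal
import Groth.Agent.Lead.RegularLocal
import Mathlib.RingTheory.DiscreteValuationRing.TFAE

set_option autoImplicit false
universe u
open CategoryTheory CategoryTheory.Limits AlgebraicGeometry
open EGA2

namespace Groth.Agent.S2354

/-- Extension over points of codimension ≤ 1: let Y be reduced and locally Noetherian with regular local
ring at every point whose local ring has dimension at most one, f : X → Y separated, of finite type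
and closed as a map, V a dense open of Y and s : V → X a section of f over V. Then s extends to a
section of f over an open U ⊇ V containing every point of Y whose local ring has dimension at most
one. (The source states that the indeterminacy locus has codimension ≥ 2 under the hypothesis that
the non-regular locus has codimension ≥ 2; with codimension measured by dimensions of local rings
this pointwise form is equivalent.) -/
theorem result {X Y : Scheme.{u}} [IsLocallyNoetherian Y] [IsReduced Y]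
    (hreg : ∀ y : Y, ringKrullDim (Y.presheaf.stalk y) ≤ 1 → IsRegularLocalRing (Y.presheaf.stalk y))
    (f : X ⟶ Y) [IsSeparated f] [LocallyOfFiniteType f] [QuasiCompact f] (hcl : IsClosedMap f.base)
    (V : Y.Opens) (hV : Dense (V : Set Y)) (s : (V : Scheme.{u}) ⟶ X) (hs : s ≫ f = V.ι) :
    ∃ (U : Y.Opens) (hVU : V ≤ U) (s' : (U : Scheme.{u}) ⟶ X), s' ≫ f = U.ι ∧ Y.homOfLE hVU ≫ s' = s ∧
      ∀ y : Y, ringKrullDim (Y.presheaf.stalk y) ≤ 1 → y ∈ U := by
  classical
  have hs' : s ≫ f = V.ι ≫ 𝟙 Y := by rw [Category.comp_id]; exact hs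
  -- local extension at a point of codimension ≤ 1 outside `V`
  have step : ∀ y : Y, ringKrullDim (Y.presheaf.stalk y) ≤ 1 → y ∉ V →
      ∃ (Uy : Y.Opens) (hle : V ≤ Uy) (k : Uy.toScheme ⟶ X), y ∈ Uy ∧ k ≫ f = Uy.ι ≫ 𝟙 Y ∧
        Y.homOfLE hle ≫ k = s := by
    intro y hdim hyV
    have hR : IsRegularLocalRing (Y.presheaf.stalk y) := hreg y hdim
    have hdom : IsDomain (Y.presheaf.stalk y) := Groth.Agent.Lead.RLR.isDomain _
    have hic : IsIntegrallyClosed (Y.presheaf.stalk y) :=
      Groth.Agent.H14.isIntegrallyClosed_of_isRegularLocalRing _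
    have hN : IsNoetherianRing (Y.presheaf.stalk y) := inferInstance
    have hval : ValuationRing (Y.presheaf.stalk y) := by
      have htf := (tfae_of_isNoetherianRing_of_isLocalRing_of_isDomain
        (Y.presheaf.stalk y)).out 3 1
      refine htf.mp ⟨hic, ?_⟩
      intro P hP0 hPprime
      have hle1 : Ring.KrullDimLE 1 (Y.presheaf.stalk y) := Ring.krullDimLE_iff.mpr hdim
      have hmax := Ring.krullDimLE_one_iff_of_noZeroDivisors.mp hle1 P hP0 hPprime
      exact IsLocalRing.eq_maximalIdeal hmax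
    obtain ⟨W₀, hyW₀, hW₀, hinj⟩ := Y.exists_germ_injective y
    obtain ⟨w, hwW₀, hwV⟩ := hV.inter_open_nonempty W₀ W₀.2 ⟨y, hyW₀⟩
    let K := FractionRing (Y.presheaf.stalk y)
    have hK : Function.Injective (algebraMap (Y.presheaf.stalk y) K) :=
      IsFractionRing.injective _ _
    obtain ⟨ub, hub⟩ := H22.exists_lift_generic_of_nonempty V y hW₀ hyW₀ hinj ⟨w, hwW₀, hwV⟩ K hK
    have hi : (ub ≫ s) ≫ f = Spec.map (CommRingCat.ofHom (algebraMap (Y.presheaf.stalk y) K)) ≫
        Y.fromSpecStalk y := by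
      rw [Category.assoc, hs, hub]
    obtain ⟨φ, hφ1, hφ2⟩ := H22.ExtendClosed.exists_lift_stalk_of_isClosedMap f hcl y K (ub ≫ s) hi
    have hφ1' : φ ≫ f = Y.fromSpecStalk y ≫ 𝟙 Y := by rw [Category.comp_id]; exact hφ1
    obtain ⟨Vy, hyVy, v, hv, hvg, -⟩ := H22.exists_extension_of_specStalk (𝟙 Y) f V s hs' y W₀ hW₀
      hyW₀ hinj φ hφ1' K hK ub hub hφ2
    obtain ⟨k, hk1, hk2⟩ := H22.exists_glue_sup V Vy s v hvg.symm
    refine ⟨V ⊔ Vy, le_sup_left, k, Or.inr hyVy, ?_, hk1⟩
    apply H22.hom_ext_sup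
    · rw [← Category.assoc, hk1, hs', Scheme.homOfLE_ι_assoc]
    · rw [← Category.assoc, hk2, hv, Scheme.homOfLE_ι_assoc]
  -- the family of extensions
  let J := Option {y : Y // ringKrullDim (Y.presheaf.stalk y) ≤ 1 ∧ y ∉ V}
  have H : ∀ j : J, ∃ (Uj : Y.Opens) (hle : V ≤ Uj) (k : Uj.toScheme ⟶ X),
      k ≫ f = Uj.ι ≫ 𝟙 Y ∧ Y.homOfLE hle ≫ k = s ∧ ∀ y, j = some y → y.1 ∈ Uj := by
    intro j
    cases j with
    | none =>
      refine ⟨V, le_rfl, s, hs', ?_, by simp⟩
      rw [Scheme.homOfLE_rfl, Category.id_comp]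
    | some y =>
      obtain ⟨Uy, hle, k, hyU, hk1, hk2⟩ := step y.1 y.2.1 y.2.2
      refine ⟨Uy, hle, k, hk1, hk2, ?_⟩
      intro y' hy'
      rw [← Option.some.inj hy']
      exact hyU
  choose Uj hle k hk1 hk2 hk3 using H
  obtain ⟨G, hG⟩ := H22.exists_glue_iSup Uj k (fun i j =>
    H22.homOfLE_comp_eq_of_dense (𝟙 Y) f V hV s (Uj i) (Uj j) (hle i) (hle j) (k i) (k j) (hk1 i)
      (hk1 j) (hk2 i) (hk2 j))
  have hVU : V ≤ ⨆ j, Uj j := (hle none).trans (le_iSup Uj none)
  refine ⟨⨆ j, Uj j, hVU, G, ?_, ?_, ?_⟩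
  · rw [← Category.comp_id (⨆ j, Uj j).ι]
    apply H22.hom_ext_iSup
    intro j
    rw [← Category.assoc, hG j, hk1 j, Scheme.homOfLE_ι_assoc]
  · have : Y.homOfLE hVU = Y.homOfLE (hle none) ≫ Y.homOfLE (le_iSup Uj none) := by
      rw [Scheme.homOfLE_homOfLE]
    rw [this, Category.assoc, hG none, hk2 none]
  · intro y hdim
    by_cases hyV : y ∈ V
    · exact hVU hyV
    · exact le_iSup Uj (some ⟨y, hdim, hyV⟩) (hk3 _ ⟨y, hdim, hyV⟩ rfl)


end Groth.Agent.S2354
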