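import Groth.Statements.S2358
import Groth.Agent.H12.RedClosure

set_option autoImplicit false
universe u
open CategoryTheory CategoryTheory.Limits AlgebraicGeometry
open EGA2

namespace Groth.Agent.S2358

/-- Let X be an integral normal scheme, g : X' → X an integral morphism, U a dense open of X and s : U →
X' a section of g over U. Then there is a section of g over all of X extending s. -/
theorem result {X X' : Scheme.{u}} [IsIntegral X] (hX : Pi1.IsNormalScheme X)
    (g : X' ⟶ X) [IsIntegralHom g] (U : X.Opens) (hU : Dense (U : Set X)) (s : (U : Scheme.{u}) ⟶ X') (hs : s ≫ g = U.ι) :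
    ∃ s' : X ⟶ X', s' ≫ g = 𝟙 X ∧ U.ι ≫ s' = s := by
  have hne : (U : Set X).Nonempty := hU.nonempty
  have : Nonempty U := ⟨⟨_, hne.some_mem⟩⟩
  have hUint : IsIntegral (U : Scheme.{u}) := inferInstance
  let Z := Groth.Agent.H12.RedClosure.redCl s
  let ι : Z ⟶ X' := Groth.Agent.H12.RedClosure.redClι s
  let sZ : (U : Scheme.{u}) ⟶ Z := Groth.Agent.H12.RedClosure.redLift s
  have hsZ : sZ ≫ ι = s := Groth.Agent.H12.RedClosure.redLift_ι s
  have hirr : IrreducibleSpace Z := Groth.Agent.H12.RedClosure.irreducibleSpace_redCl s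
  have hZint : IsIntegral Z := (isIntegral_iff_irreducibleSpace_and_isReduced _).mpr ⟨hirr, inferInstance⟩
  let gZ : Z ⟶ X := ι ≫ g
  have hgZ : IsIntegralHom gZ := inferInstance
  have hsg : sZ ≫ gZ = U.ι := by
    show sZ ≫ ι ≫ g = U.ι
    rw [← Category.assoc, hsZ, hs]
  have hoi : IsOpenImmersion (sZ ≫ gZ) := hsg ▸ inferInstance
  have hηU : genericPoint X ∈ U :=
    ((genericPoint_spec X).mem_open_set_iff U.isOpen).mpr (by simpa using hne)
  let u : U.toScheme := ⟨genericPoint X, hηU⟩
  have hu : (sZ ≫ gZ).base u = genericPoint X := by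
    have : (sZ ≫ gZ).base u = U.ι.base u := congrArg (fun f : U.toScheme ⟶ X => f.base u) hsg
    exact this
  have hiso : IsIso gZ := Groth.Agent.H22.IntegralSection.isIso_of_isIntegralHom_of_section
    (fun x => (hX x).2) gZ sZ u hu
  refine ⟨inv gZ ≫ ι, ?_, ?_⟩
  · show (inv gZ ≫ ι) ≫ g = 𝟙 X
    rw [Category.assoc]
    exact IsIso.inv_hom_id gZ
  · have : U.ι ≫ inv gZ = sZ := by
      rw [← hsg, Category.assoc, IsIso.hom_inv_id, Category.comp_id]
    rw [← Category.assoc, this, hsZ]

end Groth.Agent.S2358
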