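import Groth.Statements.S4809
import Groth.Agent.H22.ZMTLocalIso
import Groth.Agent.H22.LocalIsoInj

set_option autoImplicit false
universe u
open CategoryTheory AlgebraicGeometry
open Lim8

namespace Groth.Agent.S4809

/-- Let Y be an integral normal scheme (every local ring integrally closed), X an integral scheme, and f
: X ⟶ Y a locally quasi-finite morphism (locally of finite type with discrete fibres) which is
birational: f maps the generic point of X to that of Y and its stalk map at the generic point of X,
the induced homomorphism of function fields, is an isomorphism. Then f is a local isomorphism, and f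
is an open immersion as soon as it is separated. -/
theorem result {X Y : Scheme.{u}} [IsIntegral X] [IsIntegral Y]
    (hN : ∀ y : Y, IsIntegrallyClosed (Y.presheaf.stalk y)) (f : X ⟶ Y) [LocallyQuasiFinite f]
    [LocallyOfFiniteType f] (hgen : f (genericPoint X) = genericPoint Y)
    (hbir : IsIso (f.stalkMap (genericPoint X))) :
    IsLocalIso f ∧ (IsSeparated f → IsOpenImmersion f) := by
  classical
  have hbij : ∀ x : X, Function.Bijective (f.stalkMap x).hom := fun x =>
    H22.ZMTLocalIso.bijective_stalkMap_of_quasiFiniteAt f hgen hbir x (f.quasiFiniteAt x)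
      (hN (f x))
  have hloc : IsLocalIso f :=
    ⟨fun x => H22.ZMTLocalIso.exists_isOpenImmersion_of_bijective_stalkMap f x (hbij x)⟩
  refine ⟨hloc, fun hsep => ?_⟩
  apply H22.LocalIsoInj.isOpenImmersion_of_isLocalIso_of_injective f
  intro x₁ x₂ h12
  obtain ⟨U, hU, hiso⟩ :=
    H22.ZMTLocalIso.exists_isIso_morphismRestrict_of_bijective_stalkMap f x₁ (hbij x₁)
  have h1 : x₁ ∈ f ⁻¹ᵁ U := hU
  have h2 : x₂ ∈ f ⁻¹ᵁ U := by
    change f x₂ ∈ U
    rw [← h12]
    exact hU
  have hinj : Function.Injective (f ∣_ U) := by
    intro a b hab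
    have h3 := congrArg (inv (f ∣_ U)) hab
    rw [← Scheme.Hom.comp_apply, ← Scheme.Hom.comp_apply, IsIso.hom_inv_id] at h3
    exact h3
  have h4 : (⟨x₁, h1⟩ : (f ⁻¹ᵁ U).toScheme) = ⟨x₂, h2⟩ := by
    apply hinj
    apply Subtype.ext
    rw [morphismRestrict_base_coe, morphismRestrict_base_coe]
    exact h12
  exact congrArg Subtype.val h4


end Groth.Agent.S4809
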