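import Mathlib
import Groth.Statements.S2470
import Groth.Agent.H72.FlatCM
import Groth.Agent.H39.RegularCrit
import Groth.Agent.H26.RegularFlat
import Groth.Agent.H26.CMFlat
import Groth.Agent.S2082
import Groth.Agent.S11564
-- import your own Groth.Agent.* helpers here

set_option autoImplicit false
universe u
open EGA41

namespace Groth.Agent.S2470

open IsLocalRing

open IsLocalRing in
/-- Let A → B be a local homomorphism of Noetherian local rings with maximal ideals 𝔪, 𝔫 and residue
fields k, k', and let B₀ = B/𝔪B be the closed fibre. The following are equivalent: (a) B is regular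
and the canonical map (𝔪/𝔪²) ⊗_k k' → 𝔫/𝔫² is injective — stated here through dimensions, as
rank_{k'} 𝔫/𝔫² = rank_k 𝔪/𝔪² + rank_{k'} of the cotangent space of B₀, which is equivalent since the
cokernel of that map is the cotangent space of B₀; (c) B and B₀ are regular and B is flat over A;
(d) A and B₀ are regular and B is flat over A; (e) A and B₀ are regular and dim B = dim A + dim B₀.
(Condition (b) of the source, on regular systems of parameters, is not stated.) -/
theorem result {A B : Type u} [CommRing A] [IsLocalRing A] [IsNoetherianRing A] [CommRing B] [IsLocalRing B] [IsNoetherianRing B]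
    [Algebra A B] [IsLocalHom (algebraMap A B)] [IsLocalRing (B ⧸ (maximalIdeal A).map (algebraMap A B))] :
    [IsRegularLocalRing B ∧
       Module.finrank (ResidueField B) (CotangentSpace B) =
         Module.finrank (ResidueField A) (CotangentSpace A) +
           Module.finrank (ResidueField (B ⧸ (maximalIdeal A).map (algebraMap A B))) (CotangentSpace (B ⧸ (maximalIdeal A).map (algebraMap A B))),
     IsRegularLocalRing B ∧ IsRegularLocalRing (B ⧸ (maximalIdeal A).map (algebraMap A B)) ∧ Module.Flat A B,
     IsRegularLocalRing A ∧ IsRegularLocalRing (B ⧸ (maximalIdeal A).map (algebraMap A B)) ∧ Module.Flat A B,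
     IsRegularLocalRing A ∧ IsRegularLocalRing (B ⧸ (maximalIdeal A).map (algebraMap A B)) ∧
       ringKrullDim B = ringKrullDim A + ringKrullDim (B ⧸ (maximalIdeal A).map (algebraMap A B))].TFAE := by
  -- numerical invariants
  obtain ⟨nA, hnA⟩ := Groth.Agent.H72.FlatCM.exists_ringKrullDim_eq_natCast A
  obtain ⟨nB, hnB⟩ := Groth.Agent.H72.FlatCM.exists_ringKrullDim_eq_natCast B
  obtain ⟨n0, hn0⟩ := Groth.Agent.H72.FlatCM.exists_ringKrullDim_eq_natCast
    (B ⧸ (maximalIdeal A).map (algebraMap A B))
  have hcA := spanFinrank_maximalIdeal_eq_finrank_cotangentSpace (R := A)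
  have hcB := spanFinrank_maximalIdeal_eq_finrank_cotangentSpace (R := B)
  have hc0 := spanFinrank_maximalIdeal_eq_finrank_cotangentSpace
    (R := B ⧸ (maximalIdeal A).map (algebraMap A B))
  have hkA := ringKrullDim_le_spanFinrank_maximalIdeal A
  have hkB := ringKrullDim_le_spanFinrank_maximalIdeal B
  have hk0 := ringKrullDim_le_spanFinrank_maximalIdeal (B ⧸ (maximalIdeal A).map (algebraMap A B))
  rw [hnA] at hkA
  rw [hnB] at hkB
  rw [hn0] at hk0
  have hkA' : nA ≤ (maximalIdeal A).spanFinrank := by exact_mod_cast hkA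
  have hkB' : nB ≤ (maximalIdeal B).spanFinrank := by exact_mod_cast hkB
  have hk0' : n0 ≤ (maximalIdeal (B ⧸ (maximalIdeal A).map (algebraMap A B))).spanFinrank := by
    exact_mod_cast hk0
  -- `dim B ≤ dim A + dim B₀`
  have hF2 : nB ≤ nA + n0 := by
    have hlies : (maximalIdeal B).LiesOver (maximalIdeal A) := by
      constructor
      have h4 : (maximalIdeal B).comap (algebraMap A B) = maximalIdeal A :=
        ((IsLocalRing.local_hom_TFAE (algebraMap A B)).out 0 4).mp ‹IsLocalHom (algebraMap A B)›
      exact h4.symm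
    have h := Ideal.height_le_height_add_of_liesOver (R := A) (S := B)
      (maximalIdeal A) (maximalIdeal B)
    rw [Groth.Agent.H72.FlatCM.map_mk_maximalIdeal _
      (Groth.Agent.H72.FlatCM.mB_ne_top (A := A) (B := B))] at h
    have hA' := IsLocalRing.maximalIdeal_height_eq_ringKrullDim (R := A)
    have hB' := IsLocalRing.maximalIdeal_height_eq_ringKrullDim (R := B)
    have h0' := IsLocalRing.maximalIdeal_height_eq_ringKrullDim
      (R := B ⧸ (maximalIdeal A).map (algebraMap A B))
    rw [hnA] at hA'
    rw [hnB] at hB'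
    rw [hn0] at h0'
    have hA'' : (maximalIdeal A).height = (nA : ℕ∞) := by exact_mod_cast hA'
    have hB'' : (maximalIdeal B).height = (nB : ℕ∞) := by exact_mod_cast hB'
    have h0'' : (maximalIdeal (B ⧸ (maximalIdeal A).map (algebraMap A B))).height = (n0 : ℕ∞) := by
      exact_mod_cast h0'
    rw [hA'', hB'', h0''] at h
    exact_mod_cast h
  -- `μ(m_B) ≤ μ(m_A) + μ(m_{B₀})`
  have hF3 : (maximalIdeal B).spanFinrank ≤ (maximalIdeal A).spanFinrank +
      (maximalIdeal (B ⧸ (maximalIdeal A).map (algebraMap A B))).spanFinrank := by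
    have h1 := Groth.Agent.H39.spanFinrank_maximalIdeal_le_add (A := B)
      ((maximalIdeal A).map (algebraMap A B))
    have h2 := Ideal.spanFinrank_map_le_of_fg (algebraMap A B)
      (IsNoetherian.noetherian (maximalIdeal A))
    omega
  have regA : IsRegularLocalRing A ↔ (maximalIdeal A).spanFinrank = nA := by
    rw [isRegularLocalRing_iff, hnA]
    exact_mod_cast Iff.rfl
  have regB : IsRegularLocalRing B ↔ (maximalIdeal B).spanFinrank = nB := by
    rw [isRegularLocalRing_iff, hnB]
    exact_mod_cast Iff.rfl
  have reg0 : IsRegularLocalRing (B ⧸ (maximalIdeal A).map (algebraMap A B)) ↔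
      (maximalIdeal (B ⧸ (maximalIdeal A).map (algebraMap A B))).spanFinrank = n0 := by
    rw [isRegularLocalRing_iff, hn0]
    exact_mod_cast Iff.rfl
  tfae_have 1 → 4 := by
    rintro ⟨hB, hfin⟩
    rw [← hcA, ← hcB, ← hc0] at hfin
    have hB' := regB.1 hB
    refine ⟨regA.2 (by omega), reg0.2 (by omega), ?_⟩
    rw [hnA, hnB, hn0]
    have : nB = nA + n0 := by omega
    exact_mod_cast this
  tfae_have 4 → 3 := by
    rintro ⟨hA, h0, hdim⟩
    refine ⟨hA, h0, ?_⟩
    have hA' := regA.1 hA
    have h0' := reg0.1 h0
    have hd : nB = nA + n0 := by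
      rw [hnA, hnB, hn0] at hdim
      exact_mod_cast hdim
    have hB : IsRegularLocalRing B := regB.2 (by omega)
    have hCM : LocCoh.IsCohenMacaulayLocalRing B :=
      Groth.Agent.H26.CMFlat.isCohenMacaulayLocalRing_of_isRegularLocalRing B
    exact Groth.Agent.S2082.result hdim
  tfae_have 3 → 2 := by
    rintro ⟨hA, h0, hflat⟩
    exact ⟨Groth.Agent.H26.isRegularLocalRing_of_flat_of_regular_fibre A B, h0, hflat⟩
  tfae_have 2 → 1 := by
    rintro ⟨hB, h0, hflat⟩
    refine ⟨hB, ?_⟩
    rw [Groth.Agent.S11564.result A B, add_comm]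
  tfae_finish

end Groth.Agent.S2470
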