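import Groth.Statements.S2472
import Groth.Agent.H23.TwistPS
import Groth.Agent.H13.AdicTowerFamily
import Groth.Agent.H47.FSField

set_option autoImplicit false
universe u
open EGA41

namespace Groth.Agent.S2472


theorem perfect_bot {k : Type u} [Field k] : PerfectField (⊥ : Subfield k) := by
  obtain h0 | ⟨p, hp, hpk⟩ := CharP.exists' k
  · infer_instance
  · haveI := hp
    letI := ZMod.algebra k p
    haveI : Finite (⊥ : Subfield k) := by
      rw [Subfield.bot_eq_of_zMod_algebra p]
      exact (Set.finite_range (algebraMap (ZMod p) k)).to_subtype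
    infer_instance

open IsLocalRing in
/-- (⇒) -/
theorem finite_of_exists {k K : Type u} [Field k] [Field K] [Algebra k K]
    (A : Type u) [CommRing A] [IsLocalRing A] [IsNoetherianRing A] [Algebra k A]
    (h : CAlgX.IsAdicFormallySmooth k A (maximalIdeal A)) (e : ResidueField A ≃ₐ[k] K) :
    Module.Finite K (EGA41.imperfection ℤ k K) := by
  letI : Algebra A K := ((e : ResidueField A →+* K).comp (residue A)).toAlgebra
  haveI : IsScalarTower k A K := IsScalarTower.of_algebraMap_eq (fun x => by
    show algebraMap k K x = e (residue A (algebraMap k A x))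
    rw [← e.commutes x, IsScalarTower.algebraMap_apply k A (ResidueField A),
      IsLocalRing.ResidueField.algebraMap_eq])
  have hπ : Function.Surjective (algebraMap A K) := by
    show Function.Surjective ((e : ResidueField A →+* K).comp (residue A))
    rw [RingHom.coe_comp]
    exact e.surjective.comp (residue_surjective)
  have hinj0 := Groth.Agent.H13.AdicTower.injective_of_adic h
  have hinj := (Groth.Agent.H23.ImperfCore.injective_lTensor_iff hπ _).mp hinj0
  exact Groth.Agent.H23.ImperfCore.finite_imperfection hπ hinj

open IsLocalRing in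
/-- (⇐) -/
theorem exists_of_finite {k K : Type u} [Field k] [Field K] [Algebra k K]
    (hfin : Module.Finite K (EGA41.imperfection ℤ k K)) (n : ℕ)
    (hn : Module.finrank K (EGA41.imperfection ℤ k K) ≤ n) :
    ∃ (A : Type u) (_ : CommRing A) (_ : IsLocalRing A) (_ : IsNoetherianRing A) (_ : Algebra k A),
      IsAdicComplete (maximalIdeal A) A ∧ CAlgX.IsAdicFormallySmooth k A (maximalIdeal A) ∧
      Nonempty (ResidueField A ≃ₐ[k] K) ∧ ringKrullDim A = n := by
  haveI : PerfectField (⊥ : Subfield k) := perfect_bot
  haveI : Algebra.FormallySmooth (⊥ : Subfield k) k :=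
    Groth.Agent.H47.formallySmooth_of_perfectField_field
  haveI : Algebra.FormallySmooth (⊥ : Subfield k) K :=
    Groth.Agent.H47.formallySmooth_of_perfectField_field
  exact Groth.Agent.H23.TwistPS.exists_of_finite (k₀ := (⊥ : Subfield k))
    (fun t => Groth.Agent.H13.AdicTowerFamily.D_int_bot t) n hn


open IsLocalRing in
/-- Existence part and the range of dimensions: let k ⊆ K be fields. There is a Noetherian local
k-algebra A, formally smooth over k for its adic topology, whose residue field is k-isomorphic to K,
if and only if Υ_{K/k} is a finite-dimensional K-vector space. When this holds, for every integer n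
≥ rank Υ_{K/k} there is such an A which is moreover complete and of dimension n. (The source's
uniqueness-up-to-isomorphism clause for a given dimension is not stated.) -/
theorem result {k K : Type u} [Field k] [Field K] [Algebra k K] :
    ((∃ (A : Type u) (_ : CommRing A) (_ : IsLocalRing A) (_ : IsNoetherianRing A) (_ : Algebra k A),
        CAlgX.IsAdicFormallySmooth k A (maximalIdeal A) ∧ Nonempty (ResidueField A ≃ₐ[k] K)) ↔
      Module.Finite K (EGA41.imperfection ℤ k K)) ∧
    (Module.Finite K (EGA41.imperfection ℤ k K) → ∀ n : ℕ, Module.finrank K (EGA41.imperfection ℤ k K) ≤ n →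
      ∃ (A : Type u) (_ : CommRing A) (_ : IsLocalRing A) (_ : IsNoetherianRing A) (_ : Algebra k A),
        IsAdicComplete (maximalIdeal A) A ∧ CAlgX.IsAdicFormallySmooth k A (maximalIdeal A) ∧
        Nonempty (ResidueField A ≃ₐ[k] K) ∧ ringKrullDim A = n) := by
  refine ⟨⟨?_, ?_⟩, ?_⟩
  · rintro ⟨A, _, _, _, _, h, ⟨e⟩⟩
    exact finite_of_exists A h e
  · intro hfin
    obtain ⟨A, i1, i2, i3, i4, -, h, he, -⟩ := exists_of_finite hfin _ le_rfl
    exact ⟨A, i1, i2, i3, i4, h, he⟩
  · intro hfin n hn
    exact exists_of_finite hfin n hn

end Groth.Agent.S2472
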