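import Groth.Statements.S2476
import Groth.Agent.H23.ComplDiffFree
import Groth.Agent.H23.ComplDiffRank
import Groth.Agent.H96.GeomRegAdic

set_option autoImplicit false
universe u
open EGA41

namespace Groth.Agent.S2476

open IsLocalRing in
/-- Let k₀ be a field and A a complete Noetherian local k₀-algebra, formally smooth over k₀ for the adic
topology, whose residue field K is a finitely generated extension of k₀. Then the 𝔪-adic completion
Ω̂_{A/k₀} of Ω_{A/k₀} is a free A-module of rank dim A + trdeg_{k₀} K. -/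
theorem result {k₀ A : Type u} [Field k₀] [CommRing A] [IsLocalRing A] [IsNoetherianRing A] [Algebra k₀ A]
    [IsAdicComplete (maximalIdeal A) A] (hfs : CAlgX.IsAdicFormallySmooth k₀ A (maximalIdeal A))
    [Algebra.EssFiniteType k₀ (ResidueField A)] :
    Module.Finite A (AdicCompletion (maximalIdeal A) (Ω[A⁄k₀])) ∧ Module.Free A (AdicCompletion (maximalIdeal A) (Ω[A⁄k₀])) ∧
      (Module.finrank A (AdicCompletion (maximalIdeal A) (Ω[A⁄k₀])) : WithBot ℕ∞) =
        ringKrullDim A + (Cardinal.toNat (Algebra.trdeg k₀ (ResidueField A)) : WithBot ℕ∞) := by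
  obtain ⟨hfin, hrank⟩ := Groth.Agent.H23.ComplDiffRank.finrank_eq hfs
  obtain ⟨h1, h2, h3⟩ := Groth.Agent.H23.ComplDiffFree.main hfs hfin
  refine ⟨h1, h2, ?_⟩
  haveI : IsRegularLocalRing A := Groth.Agent.H96.GeomRegAdic.regular_of_adic_field k₀ A hfs
  have h4 : ringKrullDim A = (Module.finrank (ResidueField A) (CotangentSpace A) : WithBot ℕ∞) := by
    rw [← IsRegularLocalRing.spanFinrank_maximalIdeal,
      IsLocalRing.spanFinrank_maximalIdeal_eq_finrank_cotangentSpace]
  rw [h3, hrank, h4]
  push_cast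
  rfl

end Groth.Agent.S2476
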