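import Groth.Statements.S2479
import Groth.Agent.H17.ProConsQcqs
import Groth.Agent.S3398
import Groth.Agent.S3400

set_option autoImplicit false
universe u
open EGA41

namespace Groth.Agent.S2479

open AlgebraicGeometry CategoryTheory Topology in
/-- Let X be a quasi-compact and quasi-separated scheme and E ⊆ X. Then E = f(X') for some quasi-compact
morphism f : X' → X if and only if E is an intersection of a family of constructible subsets of X. -/
theorem result {X : Scheme.{u}} [CompactSpace X] [QuasiSeparatedSpace X] (E : Set X) :
    (∃ (X' : Scheme.{u}) (f : X' ⟶ X), QuasiCompact f ∧ Set.range f.base = E) ↔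
      ∃ S : Set (Set X), (∀ s ∈ S, IsConstructible s) ∧ E = ⋂₀ S := by
  rw [← Groth.Agent.H17.isProConstructible_iff_exists_sInter]
  constructor
  · rintro ⟨X', f, hf, rfl⟩
    have := Groth.Agent.S3398.result f Set.univ (Groth.Agent.H17.isProConstructible_univ X')
    rwa [Set.image_univ] at this
  · intro hE
    obtain ⟨X', f, hX', hf⟩ := (Groth.Agent.S3400.result X E).mp hE
    exact ⟨X', f, inferInstance, hf⟩

end Groth.Agent.S2479
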