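import Groth.Statements.S9316
import Groth.Agent.H46.AdicSmoothSmallExt

set_option autoImplicit false
universe u
open CAlg

namespace Groth.Agent.S9316

open IsLocalRing Groth.Agent.H46 in
/-- Let `R → S` be a local homomorphism of local rings with `S` Noetherian. Then `R → S` is formally
smooth for the adic topology of the maximal ideal of `S` if and only if lifts exist along small
extensions: for every Artinian local ring `A` with a local structure map `R → A`, every ideal `J` of
`A` of square zero which has length one as an `A`-module, and every local `R`-algebra homomorphism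
`ψ : S → A/J` inducing a bijection on residue fields, there is an `R`-algebra homomorphism `S → A`
lifting `ψ`. -/
theorem result {R S : Type u} [CommRing R] [CommRing S]
    [IsLocalRing R] [IsLocalRing S] [IsNoetherianRing S] [Algebra R S] [IsLocalHom (algebraMap R S)] :
    CAlgX.IsAdicFormallySmooth R S (maximalIdeal S) ↔
      ∀ (A : Type u) [CommRing A] [IsLocalRing A] [IsArtinianRing A] [Algebra R A]
        [IsLocalHom (algebraMap R A)] (J : Ideal A), J ^ 2 = ⊥ → Module.length A J = 1 →
        ∀ [IsLocalRing (A ⧸ J)] (ψ : S →ₐ[R] A ⧸ J) [IsLocalHom ψ.toRingHom],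
          Function.Bijective (ResidueField.map ψ.toRingHom) →
          ∃ χ : S →ₐ[R] A, (Ideal.Quotient.mkₐ R J).comp χ = ψ := by
  constructor
  · intro h A _ _ _ _ _ J hJ _ _ ψ _ _
    obtain ⟨n, hn⟩ : ∃ n : ℕ, maximalIdeal A ^ n = ⊥ := by
      have := IsArtinianRing.isNilpotent_jacobson_bot (R := A)
      rw [IsLocalRing.jacobson_eq_maximalIdeal ⊥ bot_ne_top] at this
      exact this
    apply h A J hJ ψ
    refine ⟨n, ?_⟩
    intro x hx
    have h1 : (maximalIdeal S).map ψ.toRingHom ≤ (maximalIdeal A).map (Ideal.Quotient.mk J) := by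
      rw [Ideal.map_le_iff_le_comap]
      intro s hs
      rw [Ideal.mem_comap]
      obtain ⟨a, ha⟩ := Ideal.Quotient.mk_surjective (ψ.toRingHom s)
      rw [← ha]
      apply Ideal.mem_map_of_mem
      rw [mem_maximalIdeal, mem_nonunits_iff] at hs ⊢
      intro hau
      apply hs
      have : IsUnit (ψ.toRingHom s) := by rw [← ha]; exact hau.map _
      exact isUnit_of_map_unit ψ.toRingHom s this
    have h2 : ψ.toRingHom x ∈ (maximalIdeal S ^ n).map ψ.toRingHom := Ideal.mem_map_of_mem _ hx
    rw [Ideal.map_pow] at h2
    have h3 := Ideal.pow_right_mono h1 n h2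
    rw [← Ideal.map_pow, hn, Ideal.map_bot] at h3
    exact h3
  · intro H
    apply isAdicFormallySmooth_of_gtl
    intro A _ _ J ψ k _ hk tors
    apply gtl_of_surjLiftTors ?_ A J ψ k hk tors
    intro t A' _ _ p hp htors
    apply surjLiftTors_of_surjLiftSimple t ?_ A' p hp htors
    intro A'' _ _ p'' hp'' hK'' hs
    exact surjLiftSimple_of_smallExt H t A'' p'' hp'' hK'' hs

end Groth.Agent.S9316
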