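import Groth.Statements.S2481
import Groth.Agent.S9316
import Groth.Agent.H91.AdicLift

set_option autoImplicit false
universe u
open EGA41

namespace Groth.Agent.S2481

open IsLocalRing in
/-- Let A → B be a local homomorphism of Noetherian local rings with the adic topologies, K the residue
field of B. Then B is formally smooth over A if and only if: for every Artinian local ring C with a
local homomorphism A → C, every nilpotent ideal J of C and every local A-algebra homomorphism u : B
→ C/J inducing a bijection of residue fields (so that C has residue field K and u induces the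
identity on it), u is induced by a local A-algebra homomorphism B → C. -/
theorem result {A B : Type u} [CommRing A] [IsLocalRing A] [IsNoetherianRing A] [CommRing B] [IsLocalRing B] [IsNoetherianRing B]
    [Algebra A B] [IsLocalHom (algebraMap A B)] :
    EGA41.IsFormallySmoothAdic A (maximalIdeal A) B (maximalIdeal B) ↔
      ∀ (C : Type u) [CommRing C] [IsLocalRing C] [IsArtinianRing C] [Algebra A C] [IsLocalHom (algebraMap A C)]
        (J : Ideal C), IsNilpotent J → ∀ [IsLocalRing (C ⧸ J)] (u : B →ₐ[A] C ⧸ J) [IsLocalHom u.toRingHom],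
        Function.Bijective (ResidueField.map u.toRingHom) →
        ∃ f : B →ₐ[A] C, IsLocalHom f.toRingHom ∧ (Ideal.Quotient.mkₐ A J).comp f = u := by
  constructor
  · intro hFS C _ _ _ _ _ J hJ _ u _ _
    obtain ⟨n, hn⟩ : ∃ n : ℕ, maximalIdeal C ^ n = ⊥ := by
      have := IsArtinianRing.isNilpotent_jacobson_bot (R := C)
      rw [IsLocalRing.jacobson_eq_maximalIdeal ⊥ bot_ne_top] at this
      exact this
    have hA : ∃ k : ℕ, (maximalIdeal A ^ k).map (algebraMap A C) = ⊥ := by
      refine ⟨n, ?_⟩
      rw [eq_bot_iff, ← hn, Ideal.map_pow]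
      apply Ideal.pow_right_mono
      rw [Ideal.map_le_iff_le_comap]
      intro a ha
      rw [Ideal.mem_comap, mem_maximalIdeal, mem_nonunits_iff] at *
      intro hu
      exact ha (isUnit_of_map_unit (algebraMap A C) a hu)
    have hu : ∃ k : ℕ, ∀ x ∈ maximalIdeal B ^ k, u x = 0 := by
      refine ⟨n, ?_⟩
      intro x hx
      have h1 : (maximalIdeal B).map u.toRingHom ≤ (maximalIdeal C).map (Ideal.Quotient.mk J) := by
        rw [Ideal.map_le_iff_le_comap]
        intro s hs
        rw [Ideal.mem_comap]
        obtain ⟨a, ha⟩ := Ideal.Quotient.mk_surjective (u.toRingHom s)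
        rw [← ha]
        apply Ideal.mem_map_of_mem
        rw [mem_maximalIdeal, mem_nonunits_iff] at hs ⊢
        intro hau
        apply hs
        have : IsUnit (u.toRingHom s) := by rw [← ha]; exact hau.map _
        exact isUnit_of_map_unit u.toRingHom s this
      have h2 : u.toRingHom x ∈ (maximalIdeal B ^ n).map u.toRingHom := Ideal.mem_map_of_mem _ hx
      rw [Ideal.map_pow] at h2
      have h3 := Ideal.pow_right_mono h1 n h2
      rw [← Ideal.map_pow, hn, Ideal.map_bot] at h3
      exact h3
    obtain ⟨v, hv⟩ := hFS C J hJ hA u hu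
    refine ⟨v, ⟨fun b hb => ?_⟩, hv⟩
    have h1 : IsUnit (u.toRingHom b) := by
      have := AlgHom.congr_fun hv b
      rw [AlgHom.comp_apply] at this
      show IsUnit (u b)
      rw [← this]
      exact hb.map _
    exact isUnit_of_map_unit u.toRingHom b h1
  · intro H
    have hAd : CAlgX.IsAdicFormallySmooth A B (maximalIdeal B) := by
      rw [Groth.Agent.S9316.result]
      intro C _ _ _ _ _ J hJ _ _ ψ _ hbij
      obtain ⟨f, _, hf⟩ := H C J ⟨2, hJ⟩ ψ hbij
      exact ⟨f, hf⟩
    intro C _ _ J hJ _ u hu
    obtain ⟨n, hn⟩ := hJ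
    obtain ⟨k, hk⟩ := hu
    have hker : RingHom.ker (Ideal.Quotient.mkₐ A J).toRingHom ^ (n + 1) = ⊥ := by
      have : RingHom.ker (Ideal.Quotient.mkₐ A J).toRingHom = J := Ideal.mk_ker
      rw [this, pow_succ, hn]
      simp
    exact Groth.Agent.H91.AdicSmooth.exists_lift_of_nilpotent hAd n (Ideal.Quotient.mkₐ A J)
      Ideal.Quotient.mk_surjective hker u k hk

end Groth.Agent.S2481
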