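import Groth.Statements.S2484
import Groth.Agent.H47.FSSep
-- import your own Groth.Agent.* helpers here

set_option autoImplicit false
universe u
open EGA41

namespace Groth.Agent.S2484

/-- Let K ⊆ E ⊆ F be fields. (i) If F is a separable extension of E, then Υ_{F/E/K} = 0, i.e. the
canonical map Ω_{E/K} ⊗_E F → Ω_{F/K} is injective. (ii) Conversely, if F is separable over K and
this map is injective, then F is separable over E. (Separable means geometrically reduced.) -/
theorem result {K E F : Type u} [Field K] [Field E] [Field F] [Algebra K E] [Algebra E F] [Algebra K F] [IsScalarTower K E F] :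
    (Algebra.IsGeometricallyReduced E F → Function.Injective (KaehlerDifferential.mapBaseChange K E F)) ∧
    (Algebra.IsGeometricallyReduced K F → Function.Injective (KaehlerDifferential.mapBaseChange K E F) → Algebra.IsGeometricallyReduced E F) := by
  constructor
  · intro hEF
    haveI : Algebra.FormallySmooth E F :=
      Groth.Agent.H47.formallySmooth_field_iff_isGeometricallyReduced.mpr hEF
    have hex := Algebra.H1Cotangent.exact_δ_mapBaseChange K E F
    rw [injective_iff_map_eq_zero]
    intro z hz
    obtain ⟨w, rfl⟩ := (hex z).mp hz
    rw [Subsingleton.elim w 0, map_zero]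
  · intro hKF hinj
    haveI : Algebra.FormallySmooth K F :=
      Groth.Agent.H47.formallySmooth_field_iff_isGeometricallyReduced.mpr hKF
    have hex1 := Algebra.H1Cotangent.exact_map_δ K E F
    have hex2 := Algebra.H1Cotangent.exact_δ_mapBaseChange K E F
    have hsub : Subsingleton (Algebra.H1Cotangent E F) := by
      refine ⟨fun a b => ?_⟩
      have hδ : ∀ w : Algebra.H1Cotangent E F, Algebra.H1Cotangent.δ K E F w = 0 := by
        intro w
        apply hinj
        rw [map_zero]
        exact (hex2 _).mpr ⟨w, rfl⟩
      have hzero : ∀ w : Algebra.H1Cotangent E F, w = 0 := by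
        intro w
        obtain ⟨v, rfl⟩ := (hex1 w).mp (hδ w)
        rw [Subsingleton.elim v 0, map_zero]
      rw [hzero a, hzero b]
    haveI : Algebra.FormallySmooth E F := ⟨inferInstance, hsub⟩
    exact Groth.Agent.H47.formallySmooth_field_iff_isGeometricallyReduced.mp inferInstance

end Groth.Agent.S2484
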