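import Groth.Statements.S2552
import Groth.Agent.H99.CodepthOpenM

set_option autoImplicit false
open CategoryTheory AlgebraicGeometry
universe u
open EGA43

namespace Groth.Agent.S2552

/-- Let f : X → Y be a morphism locally of finite presentation and F a finitely presented O_X-module
which is flat over Y. Then the set of points x ∈ X such that the stalk at x of the restriction of F
to the fibre X_{f(x)} is either zero or a Cohen–Macaulay module over the local ring of X_{f(x)} at x
is open in X. (A zero stalk counts as Cohen–Macaulay, as in the published statement, which is why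
the condition is stated as a disjunction; the published statement also has further parts, which are
not asserted here.) -/
theorem result {X Y : Scheme.{u}} (f : X ⟶ Y) [LocallyOfFinitePresentation f]
    (F : X.Modules) (hF : CohB1.IsFP F) (hflat : FlatMod.IsFlatOver f F) :
    IsOpen {x : X |
      Subsingleton (((Scheme.Modules.pullback (f.fiberι (f.base x))).obj F).presheaf.stalk (f.asFiber x)) ∨
      LocCoh.IsCohenMacaulayModule ((f.fiber (f.base x)).presheaf.stalk (f.asFiber x))
        (((Scheme.Modules.pullback (f.fiberι (f.base x))).obj F).presheaf.stalk (f.asFiber x))} := by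
  have : SheafOfModules.IsFinitePresentation (R := X.ringCatSheaf) F := hF
  have : Coh.IsQCoh F := SheafOfModules.instIsQuasicoherentOfIsFinitePresentation.{u, u, u}
    (R := X.ringCatSheaf) F
  have hFc : Coh.IsCoh F := Groth.Agent.H99.FibrePropGenM.isCoh_of_isFP F hF
  have h := Groth.Agent.H99.CodepthOpenM.isOpen_fibCodepthLEM 0 f F hF hflat
  convert h using 1
  ext x
  rw [Set.mem_ofPred_eq, Set.mem_ofPred_eq,
    Groth.Agent.H99.CodepthOpenM.fibMP_codepthLEM_iff 0 f F hFc x]
  have := Groth.Agent.H49.CMChart.isLocallyNoetherian_fiber f (f x)
  have := Groth.Agent.H13.finite_stalk_of_isCoh _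
    (Groth.Agent.H99.FibModProp.isCoh_pullback (f.fiberι (f x)) F hFc) (f.asFiber x)
  unfold LocCoh.IsCohenMacaulayModule
  constructor
  · rintro (h1 | h1)
    · rw [(Module.supportDim_eq_bot_iff_subsingleton _ _).mpr h1]
      exact bot_le
    · rw [h1]
      simp
  · intro h1
    rcases subsingleton_or_nontrivial (((Scheme.Modules.pullback (f.fiberι (f x))).obj F).presheaf.stalk
      (f.asFiber x)) with h2 | h2
    · exact Or.inl h2
    · right
      refine le_antisymm ?_ (Groth.Agent.H29.CML.depth_le_supportDim _)
      simpa using h1

end Groth.Agent.S2552
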