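import Groth.Statements.S2556
import Mathlib
import Groth.Agent.S4934
import Groth.Agent.H17.UO.FibreGen
import Groth.Agent.H17.Chev.FamCycT
import Groth.Agent.H6.UnivOpenDVR2
import Groth.Agent.H25.OpenAt

set_option autoImplicit false
open CategoryTheory AlgebraicGeometry
universe u
open EGA43

namespace Groth.Agent.S2556

/-- Suppose Y is a locally Noetherian scheme whose local rings are all geometrically unibranch, and f :
X ⟶ Y is locally of finite type. Then f is universally open exactly when its underlying map of
spaces is open. -/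
theorem result {X Y : Scheme.{u}} [IsLocallyNoetherian Y]
    (hY : ∀ y : Y, CAlg2.IsGeomUnibranch (Y.presheaf.stalk y)) (f : X ⟶ Y) [LocallyOfFiniteType f] :
    UniversallyOpen f ↔ IsOpenMap f.base := by
  constructor
  · intro h
    exact f.isOpenMap
  · intro hopen
    apply Groth.Agent.H6.UnivOpenDVR.universallyOpen_of_forall_isUnivOpenAt f
    intro x
    obtain ⟨z, hzx, hspec, hmax, -, -⟩ :=
      Groth.Agent.H17.Chev.exists_maximal_fibre_point_fibreDimAt_eq f x
    have hmax' : ∀ x' : X, f.base x' = f.base z → z ∈ closure {x'} → x' = z :=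
      fun x' h1 h2 => hmax x' h1 (specializes_iff_mem_closure.mpr h2)
    have hz : EGA43.IsUnivOpenAt f z :=
      ((Groth.Agent.S4934.result f z hmax' (hY _)).out 3 0).mp
        (Groth.Agent.H25.isOpenAt_of_isOpenMap hopen z)
    exact Groth.Agent.H17.UO.isUnivOpenAt_of_specializes f x z hspec hzx hz

end Groth.Agent.S2556
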