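import Groth.Statements.S2561
import Groth.Agent.H17.Flat.Step1
import Groth.Agent.H17.Flat.GenFibre

set_option autoImplicit false
set_option linter.style.haveILetI false
open CategoryTheory AlgebraicGeometry
universe u
open EGA43

namespace Groth.Agent.S2561

open Groth.Agent.H17.Flat Groth.Agent.H15.StalkLoc Groth.Agent.H99.LocFactorial
  Groth.Agent.H49.FibreStalk IsLocalRing

attribute [local instance] Curv2.stalkAlgebra in
/-- Main argument for S2561 (EGA IV 15.2.2). -/
theorem main {X Y : Scheme.{u}} [IsLocallyNoetherian Y]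
    (f : X ⟶ Y) [LocallyOfFiniteType f] (x : X)
    (hopen : ∀ z : ↥(f.fiber (f.base x)), f.asFiber x ∈ closure {z} →
      (∀ z' : ↥(f.fiber (f.base x)), z ∈ closure {z'} → z' = z) →
      EGA43.IsUnivOpenAt f ((f.fiberι (f.base x)).base z))
    (hred : FBase.IsGeomReducedAt (f.fiberToSpecResidueField (f.base x)) (f.asFiber x))
    (hy : _root_.IsReduced (Y.presheaf.stalk (f.base x))) :
    (f.stalkMap x).hom.Flat := by
  classical
  haveI : IsLocallyNoetherian X := LocallyOfFiniteType.isLocallyNoetherian f
  letI algAB : Algebra (Y.presheaf.stalk (f x)) (X.presheaf.stalk x) := (f.stalkMap x).hom.toAlgebra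
  haveI locAB : IsLocalHom (algebraMap (Y.presheaf.stalk (f x)) (X.presheaf.stalk x)) :=
    inferInstanceAs (IsLocalHom (f.stalkMap x).hom)
  let κy := ResidueField (Y.presheaf.stalk (f x))
  letI ov : (f.fiber (f x)).Over (Spec (CommRingCat.of κy)) := ⟨f.fiberToSpecResidueField (f x)⟩
  have hG : Curv2.IsGeomReducedAt κy (f.fiber (f x)) (f.asFiber x) := hred
  -- reducedness of the closed fibre ring
  have hredring : _root_.IsReduced (X.presheaf.stalk x ⧸
      (maximalIdeal (Y.presheaf.stalk (f x))).map
        (algebraMap (Y.presheaf.stalk (f x)) (X.presheaf.stalk x))) := by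
    have hGR : Algebra.IsGeometricallyReduced κy ((f.fiber (f x)).presheaf.stalk (f.asFiber x)) :=
      (Groth.Agent.H25.GeomRedAt.isGeomReducedAt_iff κy (f.fiber (f x)) (f.asFiber x)).mp hG
    haveI : _root_.IsReduced ((f.fiber (f x)).presheaf.stalk (f.asFiber x)) :=
      Algebra.isReduced_of_isGeometricallyReduced κy
    let e := quotientEquivStalkAsFiber f x
    exact isReduced_of_injective e.toRingHom e.injective
  refine flat_of_flat_at_generic_fibre hredring ?_
  intro q hqprime hqmin
  obtain ⟨z₀, hz₀, rfl⟩ := exists_genPrime_eq' x q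
  have hfz₀ : f z₀ = f x := map_eq_of_fibreIdeal_le_genPrime f hz₀ hqmin.1.2
  obtain ⟨w, rfl⟩ : z₀ ∈ Set.range (f.fiberι (f x)) := by
    rw [Scheme.Hom.range_fiberι]; exact hfz₀
  -- `w` generizes `asFiber x`
  have hwx : w ⤳ f.asFiber x := by
    refine ((f.fiberι (f x)).isEmbedding.toIsInducing.specializes_iff).mp ?_
    rw [f.fiberι_asFiber x]
    exact hz₀
  -- `w` is maximal
  have hwmax : ∀ w' : ↥(f.fiber (f x)), w' ⤳ w → w' = w := by
    intro w' hw'
    have h1 : f.fiberι (f x) w' ⤳ f.fiberι (f x) w := hw'.map (f.fiberι (f x)).continuous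
    have h2 : f (f.fiberι (f x) w') = f x := (f.range_fiberι (f x)).le ⟨w', rfl⟩
    have h3 : fibreIdeal f x ≤ genPrime (h1.trans hz₀) :=
      fibreIdeal_le_genPrime_of_map_eq f (h1.trans hz₀) h2
    have h4 : genPrime (h1.trans hz₀) ≤ genPrime hz₀ := genPrime_mono hz₀ h1
    have h5 : genPrime hz₀ ≤ genPrime (h1.trans hz₀) := hqmin.2 ⟨inferInstance, h3⟩ h4
    have h6 := eq_of_genPrime_eq (h1.trans hz₀) hz₀ (le_antisymm h4 h5)
    exact (f.fiberι (f x)).isEmbedding.injective h6
  have hop := hopen w (specializes_iff_mem_closure.mp hwx)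
    (fun w' hw' => hwmax w' (specializes_iff_mem_closure.mpr hw'))
  have hGw : FBase.IsGeomReducedAt (f.fiberToSpecResidueField (f x)) w :=
    Groth.Agent.H25.GeomRedAt.isGeomReducedAt_of_specializes κy (f.fiber (f x)) (f.asFiber x) w
      hwx hG
  have hstep := flat_stalkMap_of_generic_fibre_point f (f x) w hwmax hGw hop hy
  -- the specialization map on `Y` is an isomorphism
  have hins : Inseparable (f x) (f (f.fiberι (f x) w)) := .of_eq hfz₀.symm
  have hbij : Function.Bijective
      (Y.presheaf.stalkSpecializes (f.base.hom.map_specializes hz₀)).hom :=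
    (ConcreteCategory.isIso_iff_bijective (Y.presheaf.stalkCongr hins).hom).mp inferInstance
  have h1 : (Y.presheaf.stalkSpecializes (f.base.hom.map_specializes hz₀) ≫
      f.stalkMap (f.fiberι (f x) w)).hom.Flat := by
    rw [CommRingCat.hom_comp]
    exact RingHom.Flat.comp (RingHom.Flat.of_bijective hbij) hstep
  rw [Scheme.Hom.stalkSpecializes_stalkMap f _ _ hz₀, CommRingCat.hom_comp] at h1
  -- the local ring at `z₀` is the localization at `q`
  letI algBC : Algebra (X.presheaf.stalk x) (X.presheaf.stalk (f.fiberι (f x) w)) :=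
    (X.presheaf.stalkSpecializes hz₀).hom.toAlgebra
  haveI locC := isLocalization_stalkSpecializes hz₀
  letI algAC : Algebra (Y.presheaf.stalk (f x)) (X.presheaf.stalk (f.fiberι (f x) w)) :=
    ((algebraMap (X.presheaf.stalk x) (X.presheaf.stalk (f.fiberι (f x) w))).comp
      (algebraMap (Y.presheaf.stalk (f x)) (X.presheaf.stalk x))).toAlgebra
  haveI tow : IsScalarTower (Y.presheaf.stalk (f x)) (X.presheaf.stalk x)
      (X.presheaf.stalk (f.fiberι (f x) w)) := IsScalarTower.of_algebraMap_eq' rfl
  haveI hflatC : Module.Flat (Y.presheaf.stalk (f x)) (X.presheaf.stalk (f.fiberι (f x) w)) := h1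
  let e : X.presheaf.stalk (f.fiberι (f x) w) ≃ₐ[X.presheaf.stalk x]
      Localization.AtPrime (genPrime hz₀) :=
    IsLocalization.algEquiv (genPrime hz₀).primeCompl _ _
  exact Module.Flat.of_linearEquiv (e.restrictScalars (Y.presheaf.stalk (f x))).toLinearEquiv.symm

/-- Let Y be locally Noetherian, f : X ⟶ Y locally of finite type, x a point of X with y = f x. Suppose
that f is universally open at the generic point of every irreducible component of the fibre over y
passing through x, that this fibre is geometrically reduced at x, and that the local ring of Y at y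
is reduced. Then the local homomorphism O_{Y,y} ⟶ O_{X,x} is flat. -/
theorem result {X Y : Scheme.{u}} [IsLocallyNoetherian Y]
    (f : X ⟶ Y) [LocallyOfFiniteType f] (x : X)
    (hopen : ∀ z : ↥(f.fiber (f.base x)), f.asFiber x ∈ closure {z} →
      (∀ z' : ↥(f.fiber (f.base x)), z ∈ closure {z'} → z' = z) →
      EGA43.IsUnivOpenAt f ((f.fiberι (f.base x)).base z))
    (hred : FBase.IsGeomReducedAt (f.fiberToSpecResidueField (f.base x)) (f.asFiber x))
    (hy : _root_.IsReduced (Y.presheaf.stalk (f.base x))) :
    (f.stalkMap x).hom.Flat := by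
  exact main f x hopen hred hy

end Groth.Agent.S2561
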