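import Groth.Statements.S2568
import Mathlib
import Groth.Agent.H17.Unib.SchemeOpen
import Groth.Agent.H17.Chev.QFAff3
import Groth.Agent.H17.Chev.DimEqScheme
import Groth.Agent.H17.Val.ValGeo
import Groth.Agent.H66.SmoothGUStalk
import Groth.Agent.H42.AffSmooth

set_option autoImplicit false
open CategoryTheory AlgebraicGeometry
universe u
open EGA43

namespace Groth.Agent.S2568

/-- Chevalley's criterion in the case of irreducible source and base: let X and Y be irreducible
schemes, all local rings of Y geometrically unibranch, and f : X ⟶ Y a dominant morphism locally of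
finite type such that for every point x the local dimension at x of the fibre through x equals the
dimension of the generic fibre (the fibre over the image of the generic point of X). Then f is
universally open. -/
theorem result {X Y : Scheme.{u}} [IrreducibleSpace X] [IrreducibleSpace Y]
    (hY : ∀ y : Y, CAlg2.IsGeomUnibranch (Y.presheaf.stalk y)) (f : X ⟶ Y) [LocallyOfFiniteType f] [IsDominant f]
    (h : ∀ x : X, FlatMor.fibreDimAt f x = topologicalKrullDim ↥(f.fiber (f.base (genericPoint X)))) :
    UniversallyOpen f := by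
  refine Groth.Agent.H6.UnivOpenDVR.universallyOpen_of_forall_isUnivOpenAt f (fun x => ?_)
  obtain ⟨e, he⟩ := Groth.Agent.H17.Chev.exists_nat_eq_fibreDimAt f x
  obtain ⟨W, g, hxW, hg, hqf⟩ :=
    Groth.Agent.H17.Chev.exists_lqf_affineSpace_of_fibreDimAt_eq f x e he
  set q := 𝔸(ULift.{u} (Fin e); Y) ↘ Y with hq_def
  have : LocallyQuasiFinite g := hqf
  have : LocallyOfFiniteType (g ≫ q) := by rw [hg]; infer_instance
  have : LocallyOfFiniteType g := locallyOfFiniteType_of_comp g q
  have : Flat q := Groth.Agent.H42.AffSmooth.flat_over _ Y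
  have : UniversallyOpen q := inferInstance
  -- the generic point of `W`
  have hηW : genericPoint X ∈ W := (genericPoint_specializes x).mem_open W.2 hxW
  let ζ : ↥(W : Scheme.{u}) := ⟨genericPoint X, hηW⟩
  let w : ↥(W : Scheme.{u}) := ⟨x, hxW⟩
  have hζw : ζ ⤳ w := (subtype_specializes_iff _ _).mpr (genericPoint_specializes x)
  have hmaxζ : IsMax ζ := by
    intro b _
    exact (show ζ ⤳ b from (subtype_specializes_iff _ _).mpr (genericPoint_specializes b.1))
  have hfd : FlatMor.fibreDimAt (g ≫ q) ζ = e := by
    rw [hg, Groth.Agent.H17.Chev.fibreDimAt_ι_comp f W ζ]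
    show FlatMor.fibreDimAt f (genericPoint X) = e
    rw [h (genericPoint X), ← h x, he]
  have hqg : q.base (g.base ζ) = f.base (genericPoint X) := by
    have := congrArg (fun m => m.base ζ) hg
    exact this
  have hfmax : IsMax (f.base (genericPoint X)) := by
    rw [Groth.Agent.H17.Val.map_genericPoint_of_isDominant f]
    intro b _
    exact (show genericPoint Y ⤳ b from genericPoint_specializes b)
  have hgmax : IsMax (g.base ζ) := by
    refine Groth.Agent.H17.Chev.isMax_of_le_dim_closure_asFiber Y e (g.base ζ) ?_ ?_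
    · rw [← hq_def, hqg]; exact hfmax
    · rw [← hq_def, ← Groth.Agent.H17.Chev.dim_closure_asFiber_comp_lqf g q ζ,
        Groth.Agent.H17.Chev.dim_closure_asFiber_eq_fibreDimAt_of_isMax (g ≫ q) ζ hmaxζ, hfd]
  have hgen : ∀ t : ↥𝔸(ULift.{u} (Fin e); Y), g.base ζ ⤳ t := by
    intro t
    have h1 : g.base ζ ⤳ genericPoint ↥𝔸(ULift.{u} (Fin e); Y) :=
      hgmax (show g.base ζ ≤ genericPoint _ from genericPoint_specializes (g.base ζ))
    exact h1.trans (genericPoint_specializes t)
  have h1 : EGA43.IsUnivOpenAt g w :=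
    Groth.Agent.H17.Unib.isUnivOpenAt_of_quasiFiniteAt g w ζ hζw (g.quasiFiniteAt w)
      (Groth.Agent.H66.SmoothGU.isGeomUnibranch_stalk_affineSpace e _ (hY _)) hgen
  have h2 : EGA43.IsUnivOpenAt (g ≫ q) w :=
    Groth.Agent.S4925.result g q w h1
      (Groth.Agent.H6.UnivOpenDVR.isUnivOpenAt_of_universallyOpen q _)
  rw [hg] at h2
  exact Groth.Agent.S4926.result _ _ _ h2

end Groth.Agent.S2568
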