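import Groth.Statements.S2574
import Groth.Agent.H70.FlatAss.Basic
-- import your own Groth.Agent.* helpers here

set_option autoImplicit false
open TensorProduct
universe u
open EGA43

namespace Groth.Agent.S2574

/-- Let A be a Noetherian ring, J a nilpotent ideal of A and M an A-module. Then M is flat over A if and
only if (A/J) ⊗_A M is flat over A/J and, for every associated prime p of A, the localization M_p is
flat over A_p. -/
theorem result {A : Type u} [CommRing A] [IsNoetherianRing A]
    (J : Ideal A) (hJ : IsNilpotent J) (M : Type u) [AddCommGroup M] [Module A M] :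
    Module.Flat A M ↔
      Module.Flat (A ⧸ J) ((A ⧸ J) ⊗[A] M) ∧
        ∀ p : associatedPrimes A A,
          haveI : p.1.IsPrime := IsAssociatedPrime.isPrime p.2
          Module.Flat (Localization.AtPrime p.1) (LocalizedModule p.1.primeCompl M) := by
  constructor
  · intro hflat
    refine ⟨inferInstance, fun p => ?_⟩
    haveI : p.1.IsPrime := IsAssociatedPrime.isPrime p.2
    infer_instance
  · rintro ⟨h1, h2⟩
    obtain ⟨n, hn⟩ := hJ
    have key := Groth.Agent.H70.FlatAss.main J M ?hJ (associatedPrimes A A) ?hPs n A
      (fun x => ⟨x, rfl⟩) (by simpa using hn) (subset_refl _)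
    · exact Module.Flat.of_linearEquiv (TensorProduct.lid A M).symm
    case hJ =>
      intro C _ _ hC
      letI : Algebra (A ⧸ J) C := (Ideal.Quotient.lift J (algebraMap A C) (fun a ha => by
        have : algebraMap A C a ∈ J.map (algebraMap A C) := Ideal.mem_map_of_mem _ ha
        rw [hC] at this
        simpa using this)).toAlgebra
      haveI : IsScalarTower A (A ⧸ J) C := IsScalarTower.of_algebraMap_eq (fun x => rfl)
      exact Groth.Agent.H70.FlatAss.flat_baseChange_of_tower (A ⧸ J) C M
    case hPs =>
      intro p hp
      have hpp : p.IsPrime := IsAssociatedPrime.isPrime hp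
      refine ⟨hpp, ?_⟩
      have := h2 ⟨p, hp⟩
      exact Module.Flat.trans A (Localization.AtPrime p) _

end Groth.Agent.S2574
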