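import Groth.Statements.S2593
import Mathlib
import Groth.Agent.S1454
import Groth.Agent.H17.Chev.QFAff3
import Groth.Agent.H66.SmoothGUStalk
import Groth.Agent.H42.AffSmooth

set_option autoImplicit false
open CategoryTheory AlgebraicGeometry
universe u
open EGA43

namespace Groth.Agent.S2593

/-- Chevalley's criterion for universal openness: let Y be a locally Noetherian scheme all of whose
local rings are geometrically unibranch and f : X ⟶ Y a morphism locally of finite type which is
equidimensional at every point of X. Then f is universally open. (The published statement has an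
arbitrary base; a locally Noetherian base is assumed here, and without it the statement fails, e.g.
for the inclusion of a non-open closed point of the spectrum of an infinite product of copies of
𝔽₂.) -/
theorem result {X Y : Scheme.{u}} [IsLocallyNoetherian Y]
    (hY : ∀ y : Y, CAlg2.IsGeomUnibranch (Y.presheaf.stalk y)) (f : X ⟶ Y) [LocallyOfFiniteType f]
    (h : ∀ x : X, EGA43.IsEquidimAt f x) : UniversallyOpen f := by
  choose e U g hxU hcomm hqf hcomp using
    fun x => Groth.Agent.H17.Chev.exists_lqf_affineSpace_of_isEquidimAt f x (h x)
  have hsup : iSup U = ⊤ := by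
    rw [eq_top_iff]
    intro x _
    exact TopologicalSpace.Opens.mem_iSup.mpr ⟨x, hxU x⟩
  rw [IsZariskiLocalAtSource.iff_of_iSup_eq_top (P := @UniversallyOpen) U hsup]
  intro x
  set q := 𝔸(ULift.{u} (Fin (e x)); Y) ↘ Y with hq_def
  have : LocallyQuasiFinite (g x) := hqf x
  have : LocallyOfFiniteType (g x ≫ q) := by rw [hcomm x]; infer_instance
  have : LocallyOfFiniteType (g x) := locallyOfFiniteType_of_comp (g x) q
  have : IsLocallyNoetherian 𝔸(ULift.{u} (Fin (e x)); Y) :=
    LocallyOfFiniteType.isLocallyNoetherian q
  have : Flat q := Groth.Agent.H42.AffSmooth.flat_over _ Y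
  have : UniversallyOpen (g x) := by
    refine Groth.Agent.S1454.result (g x)
      (fun y' => Groth.Agent.H66.SmoothGU.isGeomUnibranch_stalk_affineSpace (e x) y' (hY _)) ?_
    intro Z hZ ξ hξ
    refine ⟨closure ((g x).base '' Z), hcomp x Z hZ, ?_⟩
    have h1 : closure ((g x).base '' Z) = closure {(g x).base ξ} := by
      have h2 : Z = closure {ξ} := hξ.def.symm
      apply subset_antisymm
      · rw [h2]
        apply closure_minimal _ isClosed_closure
        have := image_closure_subset_closure_image (f := (g x).base) (s := {ξ}) (g x).base.hom.continuous
        simpa using this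
      · apply closure_mono
        rw [Set.singleton_subset_iff]
        exact ⟨ξ, hξ.mem, rfl⟩
    rw [h1]
    exact isGenericPoint_closure
  have : UniversallyOpen q := inferInstance
  rw [← hcomm x]
  infer_instance

end Groth.Agent.S2593
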