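import Groth.Statements.S2911
import Groth.Agent.H68.EtQuotMain
-- import your own Groth.Agent.* helpers here

set_option autoImplicit false
open CategoryTheory CategoryTheory.Limits AlgebraicGeometry
universe u
open SGA1

namespace Groth.Agent.S2911

/-- With the existence of the quotient taken as a hypothesis: Let Y be locally Noetherian, f : X ⟶ Y
etale, separated and quasi-compact, G a finite group acting on X by Y-automorphisms, p : X ⟶ X' a
quotient of X by G and q : X' ⟶ Y the induced morphism. Then p and q are etale, and if f is finite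
then q is finite. -/
theorem result {X X' Y : Scheme.{u}} {G : Type u} [Group G] [Finite G] (ρ : G →* Aut X)
    [IsLocallyNoetherian Y] (f : X ⟶ Y) [Etale f] [IsSeparated f] [QuasiCompact f] (hρ : ∀ g : G, (ρ g).hom ≫ f = f)
    (p : X ⟶ X') (hp : SGA1.IsQuot ρ p) (q : X' ⟶ Y) (hq : p ≫ q = f) :
    Etale p ∧ Etale q ∧ (IsFinite f → IsFinite q) := by
  refine ⟨Groth.Agent.H68.EQ.etale_quot ρ f hρ p hp q hq,
    Groth.Agent.H68.EQ.etale_quot_target ρ f hρ p hp q hq, fun hfin => ?_⟩
  subst hq
  have : LocallyOfFiniteType q :=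
    Groth.Agent.H15.Quot.locallyOfFiniteType_of_comp hp (p ≫ q) q rfl
  have haff : IsAffineHom q :=
    ⟨fun U hU => Groth.Agent.H15.Quot.isAffineOpen_of_isAffineOpen_preimage hp (q ⁻¹ᵁ U)
      (hU.preimage (p ≫ q))⟩
  rw [IsFinite.iff_isIntegralHom_and_locallyOfFiniteType]
  refine ⟨{ haff with isIntegral_app := fun U hU => ?_ }, inferInstance⟩
  have h1 : ((p ≫ q).app U).hom.IsIntegral := IsIntegralHom.isIntegral_app (f := p ≫ q) U hU
  have h2 : ((p.app (q ⁻¹ᵁ U)).hom.comp (q.app U).hom).IsIntegral := by
    intro x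
    have := h1 x
    rw [Scheme.Hom.comp_app] at this
    exact this
  exact RingHom.IsIntegral.tower_bot _ _ (hp.injective _) h2

end Groth.Agent.S2911
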