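import Groth.Statements.S2913
-- import your own Groth.Agent.* helpers here

set_option autoImplicit false
open CategoryTheory CategoryTheory.Limits AlgebraicGeometry Opposite
universe u
open SGA1

namespace Groth.Agent.S2913

/-- Let g : S' ⟶ S be a surjective morphism of schemes such that for every open U of S the map O_S(U) →
O_{S'}(g⁻¹U) is injective. Then g is an epimorphism in the category of schemes. -/
theorem result {S' S : Scheme.{u}} (g : S' ⟶ S) [Surjective g]
    (hinj : ∀ U : S.Opens, Function.Injective (g.app U).hom) : Epi g := by
  constructor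
  intro Z a b hab
  have hbase : a.base = b.base := by
    ext s
    obtain ⟨s', rfl⟩ := g.surjective s
    have := congrArg (fun f => f.base s') hab
    simpa using this
  refine Scheme.Hom.ext hbase fun U => ?_
  apply CommRingCat.hom_ext
  apply RingHom.ext
  intro x
  apply hinj (b ⁻¹ᵁ U)
  have h1 := Scheme.Hom.congr_app hab U
  rw [Scheme.Hom.comp_app, Scheme.Hom.comp_app] at h1
  have h2 := g.naturality (eqToHom congr((TopologicalSpace.Opens.map $hbase.symm).obj U)).op
  have h1x := congrArg (fun f => f.hom x) h1
  have h2x := congrArg (fun f => f.hom ((a.app U).hom x)) h2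
  simp only [CommRingCat.hom_comp, RingHom.coe_comp, Function.comp_apply] at h1x h2x ⊢
  erw [h2x, h1x]
  have key : ∀ {V W : S'.Opens} (e : V ⟶ W) (e' : W ⟶ V) (y : Γ(S', W)),
      (S'.presheaf.map e'.op).hom ((S'.presheaf.map e.op).hom y) = y := by
    intro V W e e' y
    have hVW : V = W := le_antisymm e.le e'.le
    subst hVW
    have h1 : e = 𝟙 V := Subsingleton.elim _ _
    have h2 : e' = 𝟙 V := Subsingleton.elim _ _
    rw [h1, h2]
    simp
  exact key _ _ _

end Groth.Agent.S2913
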