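import Groth.Statements.S2916
import Groth.Agent.H69.UnivSubmFF
import Groth.Agent.S3709

set_option autoImplicit false
open CategoryTheory CategoryTheory.Limits AlgebraicGeometry Opposite
universe u
open SGA1

namespace Groth.Agent.S2916

/-- Let g : S' ⟶ S be universally submersive with geometrically connected fibres (the base change of S'
to any algebraically closed field valued point of S is connected). Then S' is connected whenever S
is, and for schemes X, Y etale over S every S'-morphism between their base changes comes from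
exactly one S-morphism X ⟶ Y. -/
theorem result {S' S : Scheme.{u}} (g : S' ⟶ S)
    (hg : SGA1.UnivSubmersive g)
    (hconn : ∀ (K : Type u) [Field K] [IsAlgClosed K] (ξ : Spec (CommRingCat.of K) ⟶ S), ConnectedSpace ↑(pullback g ξ)) :
    (ConnectedSpace S → ConnectedSpace S') ∧
    ∀ (X Y : Over S) [Etale X.hom] [Etale Y.hom], Function.Bijective ((Over.pullback g).map : (X ⟶ Y) → _) := by
  classical
  refine ⟨?_, ?_⟩
  · intro hS
    have hq : Topology.IsQuotientMap g.base := hg (𝟙 S') (𝟙 S) g (IsPullback.id_vert g)
    have hfib : ∀ s : ↥S, _root_.IsPreconnected (g.base ⁻¹' {s}) := by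
      intro s
      let K := AlgebraicClosure (S.residueField s)
      obtain ⟨ξ, hξ⟩ : ∃ ξ : Spec (CommRingCat.of K) ⟶ S,
        ξ = Spec.map (CommRingCat.ofHom (algebraMap (S.residueField s) K)) ≫
          S.fromSpecResidueField s := ⟨_, rfl⟩
      have hξt : ∀ t, ξ.base t = s := by
        intro t
        rw [hξ, Scheme.Hom.comp_base, TopCat.comp_app]
        exact Scheme.fromSpecResidueField_apply s _
      have hc := hconn K ξ
      obtain ⟨t₀⟩ : Nonempty ↥(Spec (CommRingCat.of K)) := inferInstance
      have hrange : g.base ⁻¹' {s} = Set.range (pullback.fst g ξ).base := by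
        ext s'
        constructor
        · intro hs'
          have h1 : g.base s' = ξ.base t₀ := by rw [hξt t₀]; exact hs'
          obtain ⟨z, hz, -⟩ := Scheme.Pullback.exists_preimage_pullback (f := g) (g := ξ) s' t₀ h1
          exact ⟨z, hz⟩
        · rintro ⟨z, rfl⟩
          show g.base ((pullback.fst g ξ).base z) = s
          rw [← TopCat.comp_app, ← Scheme.Hom.comp_base, pullback.condition, Scheme.Hom.comp_base,
            TopCat.comp_app, hξt]
      rw [hrange]
      exact isPreconnected_range (pullback.fst g ξ).continuous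
    have hpre : PreconnectedSpace ↥S' :=
      Groth.Agent.H69.UnivSubmFF.preconnectedSpace_of_isQuotientMap hq hfib
    have hne : Nonempty ↥S' := by
      obtain ⟨s⟩ : Nonempty ↥S := inferInstance
      obtain ⟨s', -⟩ := hq.surjective s
      exact ⟨s'⟩
    exact { toPreconnectedSpace := hpre, toNonempty := hne }
  · intro X Y _ _
    have hmapleft : ∀ φ : X ⟶ Y, ((Over.pullback g).map φ).left ≫ pullback.fst Y.hom g =
        pullback.fst X.hom g ≫ φ.left := by
      intro φ
      exact pullback.lift_fst _ _ _
    constructor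
    · intro φ₁ φ₂ h
      obtain ⟨f', hf'def⟩ : ∃ f' : pullback X.hom g ⟶ pullback Y.hom g,
        f' = ((Over.pullback g).map φ₁).left := ⟨_, rfl⟩
      have hf' : f' ≫ pullback.snd Y.hom g = pullback.snd X.hom g := by
        rw [hf'def]; exact Over.w ((Over.pullback g).map φ₁)
      have hcoc := Groth.Agent.H69.UnivSubmFF.cocycle_of_geomConnected g hconn X.hom Y.hom f' hf'
      obtain ⟨u, -, huniq⟩ := Groth.Agent.S3709.result g hg X.hom Y.hom f' hf' hcoc
      have h1 : φ₁.left = u := huniq φ₁.left ⟨Over.w φ₁, by rw [hf'def]; exact hmapleft φ₁⟩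
      have h2 : φ₂.left = u := huniq φ₂.left ⟨Over.w φ₂, by rw [hf'def, h]; exact hmapleft φ₂⟩
      exact Over.OverMorphism.ext (h1.trans h2.symm)
    · intro ψ
      obtain ⟨f', hf'def⟩ : ∃ f' : pullback X.hom g ⟶ pullback Y.hom g, f' = ψ.left := ⟨_, rfl⟩
      have hf' : f' ≫ pullback.snd Y.hom g = pullback.snd X.hom g := by
        rw [hf'def]; exact Over.w ψ
      have hcoc := Groth.Agent.H69.UnivSubmFF.cocycle_of_geomConnected g hconn X.hom Y.hom f' hf'
      obtain ⟨u, ⟨hu1, hu2⟩, -⟩ := Groth.Agent.S3709.result g hg X.hom Y.hom f' hf' hcoc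
      refine ⟨Over.homMk u hu1, ?_⟩
      apply Over.OverMorphism.ext
      show ((Over.pullback g).map (Over.homMk u hu1)).left = ψ.left
      rw [← hf'def]
      apply pullback.hom_ext
      · rw [hmapleft, hu2]
        rfl
      · rw [hf']
        exact pullback.lift_snd _ _ _

end Groth.Agent.S2916
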