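import Mathlib
import Groth.Statements.S2933
import Groth.Agent.H72.EquidimS2
-- import your own Groth.Agent.* helpers here

set_option autoImplicit false
universe u
open LocCoh

namespace Groth.Agent.S2933

open Groth.Agent.H72.EquidimS2

/-- Let A be a Noetherian ring with connected spectrum and d ≥ 1 an integer such that every prime p with
dim A_p ≥ d has depth A_p ≥ 2. Then for any two minimal primes p', p'' of A there is a finite
sequence of minimal primes starting at p' and ending at p'' such that any two consecutive members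
are both contained in some prime of height at most d − 1 (Spec A is connected in codimension d − 1). -/
theorem result (A : Type u) [CommRing A] [IsNoetherianRing A] [ConnectedSpace (PrimeSpectrum A)] (d : ℕ) (hd : 1 ≤ d) (h : ∀ p : PrimeSpectrum A, (d : ℕ∞) ≤ p.asIdeal.height → (2 : ℕ∞) ≤ LocCoh.depth (Localization.AtPrime p.asIdeal) (Localization.AtPrime p.asIdeal)) (p' p'' : PrimeSpectrum A) (hp' : p'.asIdeal ∈ minimalPrimes A) (hp'' : p''.asIdeal ∈ minimalPrimes A) : ∃ l : List (PrimeSpectrum A), l.head? = some p' ∧ l.getLast? = some p'' ∧ (∀ p ∈ l, p.asIdeal ∈ minimalPrimes A) ∧ List.IsChain (fun p q => ∃ r : PrimeSpectrum A, p ≤ r ∧ q ≤ r ∧ r.asIdeal.height ≤ (d - 1 : ℕ)) l := by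
  classical
  set rel : PrimeSpectrum A → PrimeSpectrum A → Prop := fun p q =>
    p.asIdeal ∈ minimalPrimes A ∧ q.asIdeal ∈ minimalPrimes A ∧
      ∃ r : PrimeSpectrum A, p ≤ r ∧ q ≤ r ∧ r.asIdeal.height ≤ (d - 1 : ℕ) with hrel
  have key : Relation.ReflTransGen rel p' p'' := by
    by_contra hcon
    set Y : Set (Ideal A) := {I | I ∈ minimalPrimes A ∧
      ∃ q : PrimeSpectrum A, q.asIdeal = I ∧ Relation.ReflTransGen rel p' q} with hY
    set Z : Set (Ideal A) := {I | I ∈ minimalPrimes A ∧
      ¬ ∃ q : PrimeSpectrum A, q.asIdeal = I ∧ Relation.ReflTransGen rel p' q} with hZ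
    have hYZ : Y ∪ Z = minimalPrimes A := by
      ext q
      simp only [hY, hZ, Set.mem_union, Set.mem_ofPred_eq]
      constructor
      · rintro (⟨hq, -⟩ | ⟨hq, -⟩) <;> exact hq
      · intro hq
        by_cases hdq : ∃ q' : PrimeSpectrum A, q'.asIdeal = q ∧ Relation.ReflTransGen rel p' q'
        · exact Or.inl ⟨hq, hdq⟩
        · exact Or.inr ⟨hq, hdq⟩
    have hdisj : Disjoint Y Z := by
      rw [Set.disjoint_left]
      rintro q ⟨-, h1⟩ ⟨-, h2⟩
      exact h2 h1
    have hYm : Y ⊆ minimalPrimes A := hYZ ▸ Set.subset_union_left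
    have hZm : Z ⊆ minimalPrimes A := hYZ ▸ Set.subset_union_right
    have hYfin : Y.Finite := (minimalPrimes.finite_of_isNoetherianRing A).subset hYm
    have hZfin : Z.Finite := (minimalPrimes.finite_of_isNoetherianRing A).subset hZm
    have hp'Y : p'.asIdeal ∈ Y := ⟨hp', p', rfl, Relation.ReflTransGen.refl⟩
    have hp''Z : p''.asIdeal ∈ Z := by
      refine ⟨hp'', ?_⟩
      rintro ⟨q, hq, hq'⟩
      have : q = p'' := PrimeSpectrum.ext hq
      exact hcon (this ▸ hq')
    -- use connectedness to find a prime containing both intersections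
    have hconn : IsPreconnected (Set.univ : Set (PrimeSpectrum A)) := isPreconnected_univ
    rw [isPreconnected_closed_iff] at hconn
    have hcover : (Set.univ : Set (PrimeSpectrum A)) ⊆
        PrimeSpectrum.zeroLocus ((sInf Y : Ideal A) : Set A) ∪
          PrimeSpectrum.zeroLocus ((sInf Z : Ideal A) : Set A) := by
      intro x _
      obtain ⟨p0, hp0, hle⟩ := Ideal.exists_minimalPrimes_le (bot_le : (⊥ : Ideal A) ≤ x.asIdeal)
      have hp0' : p0 ∈ Y ∪ Z := hYZ ▸ hp0
      rcases hp0' with hp0Y | hp0Z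
      · left
        rw [PrimeSpectrum.mem_zeroLocus, SetLike.coe_subset_coe]
        exact (sInf_le hp0Y).trans hle
      · right
        rw [PrimeSpectrum.mem_zeroLocus, SetLike.coe_subset_coe]
        exact (sInf_le hp0Z).trans hle
    obtain ⟨x, -, hxY, hxZ⟩ := hconn _ _ (PrimeSpectrum.isClosed_zeroLocus _)
      (PrimeSpectrum.isClosed_zeroLocus _) hcover
      ⟨p', Set.mem_univ _, by
        rw [PrimeSpectrum.mem_zeroLocus, SetLike.coe_subset_coe]; exact sInf_le hp'Y⟩
      ⟨p'', Set.mem_univ _, by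
        rw [PrimeSpectrum.mem_zeroLocus, SetLike.coe_subset_coe]; exact sInf_le hp''Z⟩
    rw [PrimeSpectrum.mem_zeroLocus, SetLike.coe_subset_coe] at hxY hxZ
    have hsup : sInf Y ⊔ sInf Z ≤ x.asIdeal := sup_le hxY hxZ
    obtain ⟨P, hPmin, -⟩ := Ideal.exists_minimalPrimes_le hsup
    have hPprime : P.IsPrime := hPmin.1.1
    have hnd := not_two_le_depth_of_mem_minimalPrimes_sup Y Z hYZ hdisj P hPmin
    have hht : P.height ≤ (d - 1 : ℕ) := by
      by_contra hc2
      push Not at hc2
      apply hnd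
      apply h ⟨P, hPprime⟩
      have := Order.add_one_le_of_lt hc2
      have e : ((d - 1 : ℕ) : ℕ∞) + 1 = (d : ℕ∞) := by
        have : d - 1 + 1 = d := Nat.sub_add_cancel hd
        exact_mod_cast this
      rwa [e] at this
    have hYP : sInf Y ≤ P := le_sup_left.trans hPmin.1.2
    have hZP : sInf Z ≤ P := le_sup_right.trans hPmin.1.2
    obtain ⟨p1, hp1, hp1P⟩ := exists_le_of_sInf_le Y hYfin P hYP
    obtain ⟨p2, hp2, hp2P⟩ := exists_le_of_sInf_le Z hZfin P hZP
    obtain ⟨hp1m, q1, hq1, hq1'⟩ := hp1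
    have hp2prime : p2.IsPrime := hp2.1.1.1
    apply hp2.2
    refine ⟨⟨p2, hp2prime⟩, rfl, Relation.ReflTransGen.tail hq1' ?_⟩
    refine ⟨hq1 ▸ hp1m, hp2.1, ⟨P, hPprime⟩, ?_, hp2P, hht⟩
    change q1.asIdeal ≤ P
    rw [hq1]
    exact hp1P
  obtain ⟨l, hl, hchain, hhead, hlast⟩ := List.exists_isChain_ne_nil_of_relationReflTransGen key
  refine ⟨l, ?_, ?_, ?_, ?_⟩
  · rw [List.head?_eq_some_head hl, hhead]
  · rw [List.getLast?_eq_some_getLast hl, hlast]
  · apply List.IsChain.induction (fun p => p.asIdeal ∈ minimalPrimes A) l hchain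
    · intro x y hxy _
      exact hxy.2.1
    · intro _
      rw [hhead]
      exact hp'
  · exact hchain.imp (fun p q hpq => hpq.2.2)

end Groth.Agent.S2933
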