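import Groth.Statements.S2954
import Groth.Agent.H15.Weyl2

set_option autoImplicit false
open RootPairing
open scoped Pointwise
universe u
open RootD

namespace Groth.Agent.S2954

/-- For a finite crystallographic reduced root pairing (over a domain of characteristic zero), the Weyl
group acts freely and transitively on bases: for two bases b, b' there is exactly one element of the
Weyl group carrying the set of simple roots of b onto that of b'. -/
theorem result {ι R M N : Type*} [CommRing R] [CharZero R] [IsDomain R] [AddCommGroup M] [Module R M]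
    [AddCommGroup N] [Module R N] (P : RootPairing ι R M N) [Finite ι] [P.IsCrystallographic] [P.IsReduced]
    (b b' : P.Base) :
    ∃! g : P.weylGroup, (fun i : ι => (g : P.Aut) • i) '' (b.support : Set ι) = (b'.support : Set ι) := by
  obtain ⟨g, hg, hpos⟩ := Groth.Agent.H15.exists_weyl_pos b b'
  have himage : ∀ (b₁ b₂ : P.Base) (h : P.Aut), (∀ i, b₁.IsPos i → b₂.IsPos (h • i)) →
      (fun i : ι => h • i) '' (b₁.support : Set ι) = (b₂.support : Set ι) := by
    intro b₁ b₂ h hp
    apply Set.Subset.antisymm
    · rintro _ ⟨i, hi, rfl⟩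
      exact Groth.Agent.H15.smul_mem_support b₁ b₂ h hp i hi
    · intro i' hi'
      refine ⟨h⁻¹ • i', ?_, smul_inv_smul h i'⟩
      exact Groth.Agent.H15.smul_mem_support b₂ b₁ h⁻¹
        (Groth.Agent.H15.isPos_inv_smul b₁ b₂ h hp) i' hi'
  refine ⟨⟨g, hg⟩, himage b b' g hpos, ?_⟩
  rintro ⟨g₂, hg₂⟩ h₂
  simp only at h₂
  apply Subtype.ext
  simp only
  -- g⁻¹ * g₂ preserves the simple roots of b
  have h1 : (fun i : ι => g • i) '' (b.support : Set ι) = (b'.support : Set ι) := himage b b' g hpos
  have hsimple : ∀ j ∈ b.support, b.IsPos ((g⁻¹ * g₂) • j) := by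
    intro j hj
    have hj2 : g₂ • j ∈ (b'.support : Set ι) := by
      rw [← h₂]
      exact ⟨j, hj, rfl⟩
    rw [← h1] at hj2
    obtain ⟨k, hk, hk'⟩ := hj2
    have : (g⁻¹ * g₂) • j = k := by
      rw [mul_smul, ← hk']
      exact inv_smul_smul g k
    rw [this]
    exact RootPairing.Base.isPos_of_mem_support hk
  have hone := Groth.Agent.H15.eq_one_of_preserves_pos b (g⁻¹ * g₂)
    (P.weylGroup.mul_mem (P.weylGroup.inv_mem hg) hg₂)
    (Groth.Agent.H15.isPos_smul_of_simple b b (g⁻¹ * g₂) hsimple)
  exact (inv_mul_eq_one.mp hone).symm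

end Groth.Agent.S2954
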