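import Groth.Statements.S2955
-- import your own Groth.Agent.* helpers here

set_option autoImplicit false
open RootPairing
open scoped Pointwise Classical
universe u
open RootD

namespace Groth.Agent.S2955

/-- Let P be a finite crystallographic reduced root pairing over a domain of characteristic zero, with a
base b, and write 2ρ for the sum of the positive roots with respect to b. Then for every simple root
β (an index in the support of b) the reflection in β sends 2ρ to 2ρ − 2β (equivalently, the coroot
of β pairs to 1 with ρ; only the reflection identity is asserted). -/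
theorem result {ι R M N : Type*} [CommRing R] [CharZero R] [IsDomain R] [AddCommGroup M] [Module R M]
    [AddCommGroup N] [Module R N] (P : RootPairing ι R M N) [Finite ι] [P.IsCrystallographic] [P.IsReduced]
    [Fintype ι] (b : P.Base) (j : ι) (hj : j ∈ b.support) :
    P.reflection j (∑ i, if b.IsPos i then P.root i else 0) =
      (∑ i, if b.IsPos i then P.root i else 0) - (2 : R) • P.root j := by
  classical
  set σ := P.reflectionPerm j with hσ
  set j' := σ j with hj'
  have hposj : b.IsPos j := RootPairing.Base.isPos_of_mem_support hj
  have hnegj' : ¬ b.IsPos j' := by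
    have := RootPairing.Base.IsPos.neg_iff_not b j
    simp only [RootPairing.indexNeg_neg] at this
    intro h
    exact (this.mp h) hposj
  have hjj' : j ≠ j' := by
    intro h
    rw [← h] at hnegj'
    exact hnegj' hposj
  have hrootj' : P.root j' = - P.root j := by
    rw [hj', hσ, root_reflectionPerm, reflection_apply_self]
  have hσσ : ∀ i, σ (σ i) = i := fun i => P.reflectionPerm_self j i
  -- positivity is preserved away from j, j'
  have hpos_iff : ∀ i, i ≠ j → i ≠ j' → (b.IsPos (σ i) ↔ b.IsPos i) := by
    intro i hij hij'
    constructor
    · intro h
      have hne : σ i ≠ j := by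
        intro h2
        apply hij'
        rw [hj', ← h2, hσσ]
      have := RootPairing.Base.IsPos.reflectionPerm h hj hne
      rwa [← hσ, hσσ] at this
    · intro h
      exact RootPairing.Base.IsPos.reflectionPerm h hj hij
  -- apply the reflection termwise and reindex
  have h1 : P.reflection j (∑ i, if b.IsPos i then P.root i else 0) =
      ∑ i, if b.IsPos i then P.root (σ i) else 0 := by
    rw [map_sum]
    refine Finset.sum_congr rfl fun i _ => ?_
    split_ifs
    · rw [hσ, root_reflectionPerm]
    · rw [map_zero]
  have h2 : (∑ i, if b.IsPos i then P.root (σ i) else 0) =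
      ∑ i, if b.IsPos (σ i) then P.root i else 0 := by
    rw [← Equiv.sum_comp σ]
    refine Finset.sum_congr rfl fun i _ => ?_
    rw [hσσ]
  have h3 : ∀ i, (if b.IsPos (σ i) then P.root i else 0) =
      (if b.IsPos i then P.root i else 0) - (if i = j then P.root j else 0)
        - (if i = j' then P.root j else 0) := by
    intro i
    by_cases hij : i = j
    · subst hij
      rw [if_neg hnegj', if_pos hposj, if_pos rfl, if_neg hjj']
      simp
    · by_cases hij' : i = j'
      · rw [hij', hσσ, if_pos hposj, if_neg hnegj', if_neg (Ne.symm hjj'), if_pos rfl, hrootj']
        simp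
      · rw [if_neg hij, if_neg hij']
        simp only [sub_zero]
        by_cases hp : b.IsPos i
        · rw [if_pos hp, if_pos ((hpos_iff i hij hij').mpr hp)]
        · rw [if_neg hp, if_neg (fun h => hp ((hpos_iff i hij hij').mp h))]
  rw [h1, h2, Finset.sum_congr rfl (fun i _ => h3 i), Finset.sum_sub_distrib, Finset.sum_sub_distrib]
  simp only [Finset.sum_ite_eq', Finset.mem_univ, if_true]
  rw [two_smul]
  abel


end Groth.Agent.S2955
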