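import Groth.Statements.S2965

set_option autoImplicit false
universe u
open SGA3t2b

namespace Groth.Agent.S2965

open Polynomial in
/-- Implication (iv) ⇒ (i) (global form, finite free module): let u be an endomorphism of a finite free
module M over a commutative ring A whose characteristic polynomial is X^r · Q with Q(0) invertible.
Then M is the direct sum of two u-stable submodules M', M'' such that u is nilpotent on M' and
bijective on M''. -/
theorem result {A : Type u} [CommRing A] {M : Type u} [AddCommGroup M] [Module A M]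
    [Module.Free A M] [Module.Finite A M] (u : M →ₗ[A] M) (r : ℕ) (Q : A[X]) (hQ : IsUnit (Q.coeff 0))
    (h : u.charpoly = X ^ r * Q) :
    ∃ M' M'' : Submodule A M, IsCompl M' M'' ∧ (∀ x ∈ M', u x ∈ M') ∧ (∀ x ∈ M'', u x ∈ M'') ∧
      (∃ n : ℕ, ∀ x ∈ M', (u ^ n) x = 0) ∧ Set.BijOn u M'' M'' := by
  obtain ⟨c, hc⟩ := hQ
  -- Q = C (Q.coeff 0) + X * Q.divX
  have hQdecomp : Q = X * Q.divX + C (Q.coeff 0) := (Polynomial.X_mul_divX_add Q).symm
  have hcop1 : IsCoprime (X : A[X]) Q := by
    refine ⟨- C (↑c⁻¹ : A) * Q.divX, C (↑c⁻¹ : A), ?_⟩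
    have : C (↑c⁻¹ : A) * C (Q.coeff 0) = 1 := by
      rw [← C_mul, ← hc, Units.inv_mul, C_1]
    calc -C (↑c⁻¹ : A) * Q.divX * X + C (↑c⁻¹ : A) * Q
        = -C (↑c⁻¹ : A) * Q.divX * X + C (↑c⁻¹ : A) * (X * Q.divX + C (Q.coeff 0)) := by
          rw [← hQdecomp]
      _ = C (↑c⁻¹ : A) * C (Q.coeff 0) := by ring
      _ = 1 := this
  have hcop : IsCoprime ((X : A[X]) ^ r) Q := hcop1.pow_left
  have hCH : aeval u (X ^ r * Q) = 0 := by
    rw [← h]; exact LinearMap.aeval_self_charpoly u
  have hsup := sup_ker_aeval_eq_ker_aeval_mul_of_coprime u hcop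
  rw [hCH, LinearMap.ker_zero] at hsup
  have hdisj := disjoint_ker_aeval_of_isCoprime u hcop
  have hXr : aeval u ((X : A[X]) ^ r) = u ^ r := by simp
  refine ⟨LinearMap.ker (aeval u ((X : A[X]) ^ r)), LinearMap.ker (aeval u Q),
    ⟨hdisj, codisjoint_iff.mpr hsup⟩, ?_, ?_, ⟨r, ?_⟩, ?_⟩
  · intro x hx
    rw [LinearMap.mem_ker] at hx ⊢
    have : aeval u ((X : A[X]) ^ r) (u x) = u (aeval u ((X : A[X]) ^ r) x) := by
      have hcomm : Commute (aeval u ((X : A[X]) ^ r)) u := by
        have := (Commute.all ((X : A[X]) ^ r) X).map (aeval u)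
        simpa using this
      exact LinearMap.congr_fun hcomm.eq x
    rw [this, hx, map_zero]
  · intro x hx
    rw [LinearMap.mem_ker] at hx ⊢
    have : aeval u Q (u x) = u (aeval u Q x) := by
      have hcomm : Commute (aeval u Q) u := by
        have := (Commute.all Q X).map (aeval u)
        simpa using this
      exact LinearMap.congr_fun hcomm.eq x
    rw [this, hx, map_zero]
  · intro x hx
    rw [LinearMap.mem_ker, hXr] at hx
    exact hx
  · -- bijectivity on ker Q(u)
    have hcommQ : Commute (aeval u Q) u := by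
      have := (Commute.all Q X).map (aeval u)
      simpa using this
    have hcommD : Commute (aeval u Q.divX) u := by
      have := (Commute.all Q.divX X).map (aeval u)
      simpa using this
    have hQu : aeval u Q = u * aeval u Q.divX + algebraMap A (Module.End A M) (Q.coeff 0) := by
      have := congrArg (aeval u) hQdecomp
      rw [this]
      simp only [map_add, map_mul, aeval_X, aeval_C]
    -- on ker Q(u):  u (Q.divX(u) x) = - c • x
    have key : ∀ x ∈ LinearMap.ker (aeval u Q), u (aeval u Q.divX x) = - (Q.coeff 0) • x := by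
      intro x hx
      rw [LinearMap.mem_ker, hQu] at hx
      simp only [LinearMap.add_apply, Module.End.mul_apply, Module.algebraMap_end_apply] at hx
      rw [neg_smul]
      exact eq_neg_of_add_eq_zero_left hx
    have hstab : ∀ x ∈ LinearMap.ker (aeval u Q), u x ∈ LinearMap.ker (aeval u Q) := by
      intro x hx
      rw [LinearMap.mem_ker] at hx ⊢
      have : aeval u Q (u x) = u (aeval u Q x) := LinearMap.congr_fun hcommQ.eq x
      rw [this, hx, map_zero]
    have hstabD : ∀ x ∈ LinearMap.ker (aeval u Q), aeval u Q.divX x ∈ LinearMap.ker (aeval u Q) := by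
      intro x hx
      rw [LinearMap.mem_ker] at hx ⊢
      have hc2 : Commute (aeval u Q) (aeval u Q.divX) := (Commute.all Q Q.divX).map (aeval u)
      have : aeval u Q (aeval u Q.divX x) = aeval u Q.divX (aeval u Q x) := LinearMap.congr_fun hc2.eq x
      rw [this, hx, map_zero]
    refine ⟨fun x hx => hstab x hx, ?_, ?_⟩
    · intro x hx y hy hxy
      have hx' := key x hx
      have hy' := key y hy
      have e1 : aeval u Q.divX (u x) = u (aeval u Q.divX x) := LinearMap.congr_fun hcommD.eq x
      have e2 : aeval u Q.divX (u y) = u (aeval u Q.divX y) := LinearMap.congr_fun hcommD.eq y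
      have : - (Q.coeff 0) • x = - (Q.coeff 0) • y := by
        rw [← hx', ← hy', ← e1, ← e2, hxy]
      have h2 : (Q.coeff 0) • x = (Q.coeff 0) • y := by
        simpa using this
      have h3 := congrArg (fun z => (↑c⁻¹ : A) • z) h2
      simp only [smul_smul] at h3
      rw [← hc, Units.inv_mul, one_smul, one_smul] at h3
      exact h3
    · intro y hy
      refine ⟨aeval u Q.divX (-(↑c⁻¹ : A) • y), hstabD _ (Submodule.smul_mem _ _ hy), ?_⟩
      rw [key _ (Submodule.smul_mem _ _ hy), smul_smul, ← hc]
      simp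

end Groth.Agent.S2965
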