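import Groth.Statements.S2966
import Groth.Agent.H82.FlagBC
import Groth.Agent.H82.MultUnip

set_option autoImplicit false
universe u
open scoped TensorProduct
open SGA3t2b

namespace Groth.Agent.S2966

open HopfRep TensorProduct in
/-- the one-dimensional comodule attached to a group-like element -/
@[reducible] noncomputable def glComod {K : Type u} [Field K] {B : Type u} [CommRing B] [Bialgebra K B]
    (g : B) (hg : IsGroupLikeElem K g) : Comod K B K where
  coact := (TensorProduct.mk K K B).flip g
  coassoc := by
    ext
    simp [hg.comul_eq_tmul_self]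
  counit_comp := by
    ext
    simp [hg.counit_eq_one]

open HopfRep TensorProduct in
lemma groupLike_eq_one_of_isUnipotent {K : Type u} [Field K] {B : Type u} [CommRing B]
    [Bialgebra K B] (hU : IsUnipotent K B) (g : B) (hg : IsGroupLikeElem K g) : g = 1 := by
  letI := glComod g hg
  have h1 := hU K inferInstance inferInstance
  obtain ⟨v, hv, hv0⟩ := (Submodule.ne_bot_iff _).mp h1
  have h2 : (v ⊗ₜ[K] g : K ⊗[K] B) = v ⊗ₜ[K] (1 : B) := hv
  have h3 := congrArg (TensorProduct.lid K B) h2
  simp only [TensorProduct.lid_tmul] at h3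
  exact smul_right_injective B hv0 h3

/-- In Hopf-algebra form (with unipotent taken in the representation-theoretic sense: affine and every
non-zero finite-dimensional representation has a non-zero fixed vector): let k be a field, A_M the
coordinate Hopf algebra of an affine k-group M of finite type which is of multiplicative type in the
sense that it becomes diagonalisable over an algebraic closure of k, and A_U that of a unipotent
affine k-group U of finite type. Then (i) every homomorphism M -> U and (ii) every homomorphism U ->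
M is trivial: every bialgebra map A_U -> A_M, resp. A_M -> A_U, factors through the counit. -/
theorem result {k : Type u} [Field k] {AM AU : Type u} [CommRing AM] [CommRing AU]
    [HopfAlgebra k AM] [HopfAlgebra k AU] [Algebra.FiniteType k AM] [Algebra.FiniteType k AU]
    (hM : HopfRep.IsDiagonalizable (AlgebraicClosure k) (AlgebraicClosure k ⊗[k] AM)) (hU : HopfRep.IsUnipotent k AU) :
    (∀ φ : AU →ₐc[k] AM, SGA3t2b.IsTrivialBialgHom φ) ∧ (∀ ψ : AM →ₐc[k] AU, SGA3t2b.IsTrivialBialgHom ψ) := by
  refine ⟨fun φ => ?_, fun ψ => ?_⟩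
  · intro a
    let Φ : k ⊗[k] AU →ₐc[k] k ⊗[k] AM := Bialgebra.TensorProduct.map (BialgHom.id k k) φ
    have h1 := Groth.Agent.H82.MultUnip.main k AM AU hM hU k Φ ((1 : k) ⊗ₜ[k] a)
    have h2 : Φ ((1 : k) ⊗ₜ[k] a) = (1 : k) ⊗ₜ[k] φ a := by
      simp [Φ]
    rw [h2] at h1
    have h3 := congrArg (TensorProduct.lid k AM) h1
    simpa [Algebra.TensorProduct.algebraMap_apply, Algebra.algebraMap_eq_smul_one,
      Algebra.TensorProduct.one_def] using h3
  · intro a
    let K := AlgebraicClosure k
    have hUK : HopfRep.IsUnipotent K (K ⊗[k] AU) := Groth.Agent.H82.FlagBC.unip_baseChange hU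
    let Ψ : K ⊗[k] AM →ₐc[K] K ⊗[k] AU := Bialgebra.TensorProduct.map (BialgHom.id K K) ψ
    have key : ∀ x : K ⊗[k] AM, Ψ x = algebraMap K (K ⊗[k] AU)
        (CoalgebraStruct.counit (R := K) (A := K ⊗[k] AM) x) := by
      intro x
      have hx : x ∈ Submodule.span K {a : K ⊗[k] AM | IsGroupLikeElem K a} := by
        rw [show Submodule.span K {a : K ⊗[k] AM | IsGroupLikeElem K a} = ⊤ from hM]
        trivial
      induction hx using Submodule.span_induction with
      | mem g hg =>
        have hg' : IsGroupLikeElem K g := hg
        rw [groupLike_eq_one_of_isUnipotent hUK (Ψ g) (hg'.map Ψ), hg'.counit_eq_one, map_one]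
      | zero => simp
      | add x y _ _ hx hy => rw [map_add, hx, hy, map_add, map_add]
      | smul c x _ hx => rw [map_smul, hx, map_smul, smul_eq_mul, map_mul, Algebra.smul_def]
    have h1 := key ((1 : K) ⊗ₜ[k] a)
    have h2 : Ψ ((1 : K) ⊗ₜ[k] a) = (1 : K) ⊗ₜ[k] ψ a := by
      simp [Ψ]
    rw [h2] at h1
    have hinj : Function.Injective (Algebra.TensorProduct.includeRight : AU →ₐ[k] K ⊗[k] AU) :=
      Algebra.TensorProduct.includeRight_injective (algebraMap k K).injective
    apply hinj
    rw [Algebra.TensorProduct.includeRight_apply, h1]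
    simp [Algebra.TensorProduct.algebraMap_apply, Algebra.algebraMap_eq_smul_one,
      Algebra.TensorProduct.one_def, TensorProduct.smul_tmul']

end Groth.Agent.S2966
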