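import Groth.Statements.S2967

set_option autoImplicit false
universe u
open SGA3t2b

namespace Groth.Agent.S2967

theorem iter_add {k : Type u} [Field k] (p : ℕ) [Fact p.Prime] [CharP k p]
    {V : Type u} [AddCommGroup V] [Module k V]
    (φ : V →ₛₗ[frobenius k p] V) (n : ℕ) (x y : V) : φ^[n] (x + y) = φ^[n] x + φ^[n] y := by
  induction n generalizing x y with
  | zero => rfl
  | succ n ih => simp only [Function.iterate_succ, Function.comp_apply, map_add, ih]

theorem iter_zero {k : Type u} [Field k] (p : ℕ) [Fact p.Prime] [CharP k p]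
    {V : Type u} [AddCommGroup V] [Module k V]
    (φ : V →ₛₗ[frobenius k p] V) (n : ℕ) : φ^[n] 0 = 0 := by
  induction n with
  | zero => rfl
  | succ n ih => simp only [Function.iterate_succ, Function.comp_apply, map_zero, ih]

theorem iter_smul {k : Type u} [Field k] (p : ℕ) [Fact p.Prime] [CharP k p]
    {V : Type u} [AddCommGroup V] [Module k V]
    (φ : V →ₛₗ[frobenius k p] V) (n : ℕ) (c : k) (x : V) :
    φ^[n] (c • x) = (c ^ (p ^ n)) • φ^[n] x := by
  induction n generalizing c x with
  | zero => simp
  | succ n ih =>
    simp only [Function.iterate_succ, Function.comp_apply]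
    rw [LinearMap.map_smulₛₗ, ih, frobenius_def, ← pow_mul, pow_succ']

/-- The kernel of an iterate, as a subspace. -/
def iterKer {k : Type u} [Field k] (p : ℕ) [Fact p.Prime] [CharP k p]
    {V : Type u} [AddCommGroup V] [Module k V]
    (φ : V →ₛₗ[frobenius k p] V) (n : ℕ) : Submodule k V where
  carrier := {x | φ^[n] x = 0}
  add_mem' := by
    intro x y hx hy
    simp only [Set.mem_ofPred_eq] at hx hy ⊢
    rw [iter_add, hx, hy, add_zero]
  zero_mem' := iter_zero p φ n
  smul_mem' := by
    intro c x hx
    simp only [Set.mem_ofPred_eq] at hx ⊢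
    rw [iter_smul, hx, smul_zero]

/-- A commutative p-Lie algebra over a field k of characteristic p is recorded as a k-vector space g
together with its p-th power map φ, which is additive and Frobenius-semilinear. Let g be
finite-dimensional and non-zero, and assume every element of g is killed by some iterate of φ (g is
unipotent). Then the k-subspace of g spanned by the image φ(g) is a proper subspace. -/
theorem result {k : Type u} [Field k] (p : ℕ) [Fact p.Prime] [CharP k p]
    {V : Type u} [AddCommGroup V] [Module k V] [FiniteDimensional k V] [Nontrivial V]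
    (φ : V →ₛₗ[frobenius k p] V) (hφ : ∀ x : V, ∃ n : ℕ, φ^[n] x = 0) :
    Submodule.span k (Set.range φ) ≠ ⊤ := by
  classical
  intro htop
  -- a uniform exponent
  have hmono : ∀ (x : V) (m n : ℕ), m ≤ n → φ^[m] x = 0 → φ^[n] x = 0 := by
    intro x m n hmn hx
    obtain ⟨d, rfl⟩ := Nat.exists_eq_add_of_le hmn
    rw [add_comm, Function.iterate_add_apply, hx, iter_zero]
  have huniform : ∃ N : ℕ, ∀ x : V, φ^[N] x = 0 := by
    let b := Module.finBasis k V
    choose n hn using fun i => hφ (b i)
    refine ⟨Finset.univ.sup n, fun x => ?_⟩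
    have hb : ∀ i, b i ∈ iterKer p φ (Finset.univ.sup n) := fun i =>
      hmono (b i) (n i) _ (Finset.le_sup (Finset.mem_univ i)) (hn i)
    have hle : (⊤ : Submodule k V) ≤ iterKer p φ (Finset.univ.sup n) := by
      rw [← b.span_eq, Submodule.span_le]
      rintro _ ⟨i, rfl⟩
      exact hb i
    exact hle Submodule.mem_top
  let N := Nat.find huniform
  have hN : ∀ x : V, φ^[N] x = 0 := Nat.find_spec huniform
  have hNpos : N ≠ 0 := by
    intro h0
    obtain ⟨x, hx⟩ := exists_ne (0 : V)
    have := hN x
    rw [h0] at this
    exact hx this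
  obtain ⟨m, hm⟩ := Nat.exists_eq_succ_of_ne_zero hNpos
  have hm' : ∀ x : V, φ^[m] x = 0 := by
    have hle : (⊤ : Submodule k V) ≤ iterKer p φ m := by
      rw [← htop, Submodule.span_le]
      rintro _ ⟨y, rfl⟩
      show φ^[m] (φ y) = 0
      rw [← Function.iterate_succ_apply, ← hm]
      exact hN y
    intro x
    exact hle Submodule.mem_top
  have : N ≤ m := Nat.find_min' huniform hm'
  omega

end Groth.Agent.S2967
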