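import Groth.Statements.S2978
import Mathlib.RingTheory.Noetherian.Basic
import Mathlib.RingTheory.Finiteness.Finsupp
import Mathlib.LinearAlgebra.Pi

set_option autoImplicit false
universe u
open SGA3b

namespace Groth.Agent.S2978

/-- Let A be a Noetherian ring, M a set and a : M × M → A a family vanishing off the diagonal which is a
finite sum of decomposable families: a(m, m') = Σ_i b_i(m) c_i(m') for finitely many b_i, c_i : M →
A. Then a has finite support. -/
theorem result (A : Type u) [CommRing A] [IsNoetherianRing A] (M : Type u)
    (a : M × M → A) (hdiag : ∀ m m', m ≠ m' → a (m, m') = 0)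
    (ι : Type u) [Fintype ι] (b c : ι → M → A) (hdec : ∀ m m', a (m, m') = ∑ i, b i m * c i m') :
    Set.Finite {p : M × M | a p ≠ 0} := by
  classical
  rcases isEmpty_or_nonempty M with hM | hM
  · exact Set.toFinite _
  -- vectors v m = (b i m)_i in A^ι
  let v : M → (ι → A) := fun m i => b i m
  -- pairing with w m' = (c i m')_i
  let ev : M → ((ι → A) →ₗ[A] A) := fun m' =>
    ∑ i, (c i m') • (LinearMap.proj i : (ι → A) →ₗ[A] A)
  have hev : ∀ m m', ev m' (v m) = a (m, m') := by
    intro m m'
    simp only [ev, v, LinearMap.sum_apply, LinearMap.smul_apply, LinearMap.proj_apply, smul_eq_mul]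
    rw [hdec]
    exact Finset.sum_congr rfl fun i _ => mul_comm _ _
  -- the span of all v m is finitely generated
  have hfg : (Submodule.span A (Set.range v)).FG := IsNoetherian.noetherian _
  obtain ⟨t, htsub, hts⟩ := Submodule.fg_span_iff_fg_span_finset_subset (Set.range v) |>.mp hfg
  -- choose preimages
  have : ∀ x ∈ t, ∃ m, v m = x := fun x hx => htsub hx
  choose! pre hpre using this
  let T : Finset M := t.image pre
  refine Set.Finite.subset ((T ×ˢ T : Finset (M × M)).finite_toSet) ?_
  rintro ⟨m, m'⟩ hmm
  simp only [Set.mem_ofPred_eq] at hmm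
  have hmeq : m = m' := by
    by_contra hne
    exact hmm (hdiag m m' hne)
  subst hmeq
  suffices hmT : m ∈ T by
    simp only [Finset.coe_product, Set.mem_prod, Finset.mem_coe]
    exact ⟨hmT, hmT⟩
  by_contra hmT
  apply hmm
  -- v m is in the span of t
  have hvm : v m ∈ Submodule.span A (t : Set (ι → A)) := by
    rw [← hts]
    exact Submodule.subset_span ⟨m, rfl⟩
  rw [← hev m m]
  -- ev m vanishes on t
  have hvan : ∀ x ∈ Submodule.span A (t : Set (ι → A)), ev m x = 0 := by
    intro x hx
    induction hx using Submodule.span_induction with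
    | mem x hx =>
      have hx' : x ∈ t := hx
      rw [← hpre x hx', hev]
      apply hdiag
      intro h
      apply hmT
      rw [← h]
      exact Finset.mem_image_of_mem pre hx'
    | zero => exact map_zero _
    | add x y _ _ hx hy => rw [map_add, hx, hy, add_zero]
    | smul r x _ hx => rw [map_smul, hx, smul_zero]
  exact hvan _ hvm

end Groth.Agent.S2978
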