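import Groth.Statements.S2982
import Groth.Agent.H15.MTKerG5

set_option autoImplicit false
universe u
open TensorProduct SGA3b
open SGA3b

namespace Groth.Agent.S2982

/-- Let H = Spec A be an R-group of multiplicative type and of finite type, G = Spec C an affine R-group
with C of finite presentation over R, u : H ⟶ G a homomorphism given by the bialgebra map φ : C → A,
and J the ideal of the kernel of u (generated by the image of the augmentation ideal of C), a Hopf
ideal (the instance hypothesis holds automatically for this J). Then Ker u = Spec (A/J) is of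
multiplicative type (with locally constant type). (Affine group schemes over an affine base are
taken in Hopf-algebra form; base change is the tensor product.) -/
theorem result (R : Type u) [CommRing R] (A : Type u) [CommRing A] [HopfAlgebra R A] (hft : Algebra.FiniteType R A) (h : IsMultType R A)
    (C : Type u) [CommRing C] [HopfAlgebra R C] (hC : Algebra.FinitePresentation R C) (φ : C →ₐc[R] A)
    (J : Ideal A) [J.IsHopfIdeal R] (hJ : J = Ideal.map φ (RingHom.ker (Bialgebra.counitAlgHom R C))) :
    IsMultType R (A ⧸ J) := by
  classical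
  obtain ⟨sA, hsA, hconstA⟩ := h
  have hCft : Algebra.FiniteType R C := Algebra.FiniteType.of_finitePresentation
  have key : ∀ f ∈ sA, ∃ X : Set R, (∃ k : ℕ, f ^ k ∈ Ideal.span X) ∧
      ∀ x ∈ X, IsMultTypeConst (Localization.Away x) (Localization.Away x ⊗[R] (A ⧸ J)) :=
    fun f hf => Groth.Agent.H15.MTG.exists_cover_of_constG f (hconstA f hf) hCft φ J hJ
  choose X hX1 hX2 using key
  refine ⟨⋃ (f : R) (hf : f ∈ sA), X f hf, ?_, ?_⟩
  · set s : Set R := ⋃ (f : R) (hf : f ∈ sA), X f hf with hs
    have h1 : Ideal.span sA ≤ (Ideal.span s).radical := by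
      rw [Ideal.span_le]
      intro f hf
      obtain ⟨k, hk⟩ := hX1 f hf
      refine ⟨k, Ideal.span_mono ?_ hk⟩
      intro x hx
      exact Set.mem_iUnion.mpr ⟨f, Set.mem_iUnion.mpr ⟨hf, hx⟩⟩
    rw [hsA, top_le_iff] at h1
    exact Ideal.radical_eq_top.mp h1
  · intro x hx
    obtain ⟨f, hx⟩ := Set.mem_iUnion.mp hx
    obtain ⟨hf, hx⟩ := Set.mem_iUnion.mp hx
    exact hX2 f hf x hx

end Groth.Agent.S2982
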