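import Groth.Statements.S2983
import Groth.Agent.H15.MTConn

set_option autoImplicit false
universe u
open TensorProduct SGA3b
open SGA3b

namespace Groth.Agent.S2983

/-- Let R be a ring with connected spectrum (no idempotents other than 0 and 1), G = Spec A a
diagonalisable R-group of finite type, and H = Spec (A/J) a closed subgroup (J a Hopf ideal) which
is of multiplicative type. Then H is diagonalisable. (Affine group schemes over an affine base are
taken in Hopf-algebra form; base change is the tensor product.) -/
theorem result (R : Type u) [CommRing R] (A : Type u) [CommRing A] [HopfAlgebra R A] [Nontrivial R] (hconn : ∀ e : R, IsIdempotentElem e → e = 0 ∨ e = 1)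
    (hG : IsDiagFT R A) (J : Ideal A) [J.IsHopfIdeal R] (hH : IsMultType R (A ⧸ J)) : IsDiag R (A ⧸ J) := by
  obtain ⟨M, hM, -, ⟨e₀⟩⟩ := hG
  let q : MonoidAlgebra R M →ₐc[R] A ⧸ J :=
    (Bialgebra.Quotient.mkBialgHom J).comp (e₀.symm : MonoidAlgebra R M →ₐc[R] A)
  have hq : Function.Surjective q := by
    intro b
    obtain ⟨a, rfl⟩ := Ideal.Quotient.mk_surjective b
    obtain ⟨x, rfl⟩ := e₀.symm.surjective a
    exact ⟨x, rfl⟩
  exact Groth.Agent.H15.MTC.isDiag_of_surjective_of_connected hconn hH q hq

end Groth.Agent.S2983
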