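import Groth.Statements.S2984
import Groth.Agent.H15.MultType

set_option autoImplicit false
universe u
open TensorProduct SGA3b
open SGA3b

namespace Groth.Agent.S2984

/-- Let R be a ring and G = Spec A an R-group scheme of multiplicative type and of finite type, with A a
Hopf algebra over R. Then A is finite over R if and only if the n-th power map of G is trivial for
some n > 0 (the kernel ₙG is all of G). (Affine group schemes over an affine base are taken in
Hopf-algebra form; base change is the tensor product.) -/
theorem result (R : Type u) [CommRing R] (A : Type u) [CommRing A] [HopfAlgebra R A] (hft : Algebra.FiniteType R A) (h : IsMultType R A) :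
    Module.Finite R A ↔ ∃ n : ℕ, 0 < n ∧ torsionIdeal R A n = ⊥ := by
  obtain ⟨s, hs, hloc⟩ := h
  constructor
  · intro hfin
    obtain ⟨t, hts, ht⟩ := (Ideal.span_eq_top_iff_finite s).mp hs
    have hex : ∀ f : R, f ∈ s → ∃ n : ℕ, 0 < n ∧ ∀ k : ℕ, n ∣ k →
        torsionIdeal (Localization.Away f) (Localization.Away f ⊗[R] A) k = ⊥ := fun f hf =>
      Groth.Agent.H15.MT.exists_torsionIdeal_eq_bot_of_finite _ _ (hloc f hf)
    classical
    let nf : R → ℕ := fun f => if hf : f ∈ s then (hex f hf).choose else 1
    have hnf_pos : ∀ f, 0 < nf f := by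
      intro f
      by_cases hf : f ∈ s
      · simp only [nf, dif_pos hf]; exact (hex f hf).choose_spec.1
      · simp only [nf, dif_neg hf]; exact one_pos
    refine ⟨∏ f ∈ t, nf f, Finset.prod_pos fun f _ => hnf_pos f, ?_⟩
    rw [eq_bot_iff]
    intro x hx
    refine Submodule.mem_of_span_eq_top_of_smul_pow_mem (⊥ : Submodule R A) (t : Set R) ht x ?_
    rintro ⟨f, hft'⟩
    have hfs : f ∈ s := hts hft'
    have hdvd : nf f ∣ ∏ g ∈ t, nf g := Finset.dvd_prod_of_mem nf hft'
    have h0 : torsionIdeal (Localization.Away f) (Localization.Away f ⊗[R] A) (∏ g ∈ t, nf g) = ⊥ := by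
      have := (hex f hfs).choose_spec.2 (∏ g ∈ t, nf g)
      apply this
      simpa only [nf, dif_pos hfs] using hdvd
    have h1 := Groth.Agent.H15.MT.tmul_eq_zero_of_torsionIdeal_bc (Localization.Away f) A _ h0 x hx
    have h2 : TensorProduct.mk R (Localization.Away f) A 1 x = 0 := h1
    rw [IsLocalizedModule.eq_zero_iff (Submonoid.powers f)] at h2
    obtain ⟨⟨_, k, rfl⟩, hk⟩ := h2
    exact ⟨k, by simpa [Submonoid.smul_def] using hk⟩
  · rintro ⟨n, hn, hT⟩
    refine Module.Finite.of_localizationSpan' s hs
      (Mₚ := fun g => Localization.Away g.val ⊗[R] A) (Rₚ := fun g => Localization.Away g.val)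
      (fun g => TensorProduct.mk R (Localization.Away g.val) A 1) ?_
    intro g
    exact Groth.Agent.H15.MT.finite_of_torsionIdeal_eq_bot _ _ inferInstance (hloc g.val g.property) n hn
      (Groth.Agent.H15.MT.torsionIdeal_bc_eq_bot _ A n hT)

end Groth.Agent.S2984
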