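import Groth.Statements.S3022
import Groth.Agent.H17.Grp.GrpDim

set_option autoImplicit false
universe u
open CategoryTheory MonoidalCategory CartesianMonoidalCategory MonObj GrpObj AlgebraicGeometry TensorProduct
open SGA3

namespace Groth.Agent.S3022

/-- Let S be a scheme and G a group scheme over S which is flat and locally of finite presentation. Then
s ↦ dim G_s (the dimension of the fibre, i.e. of the subspace of G lying over s) is a locally
constant function on S. -/
theorem result (S : Scheme.{u}) (G : Over S) [GrpObj G] [Flat G.hom]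
    [LocallyOfFinitePresentation G.hom] :
    IsLocallyConstant (fun s : S => topologicalKrullDim ↥(G.hom.base ⁻¹' {s})) := by
  rw [IsLocallyConstant.iff_exists_open]
  intro s
  obtain ⟨d, hd⟩ := Groth.Agent.H17.Chev.exists_nat_eq_fibreDimAt G.hom (η[G].left.base (s : S))
  have hU1 : IsOpen {t : S | FlatMor.fibreDimAt G.hom (η[G].left.base (t : S)) ≤ d} :=
    (Groth.Agent.H17.Chev.isOpen_setOf_fibreDimAt_le G.hom d).preimage η[G].left.continuous
  rcases Nat.eq_zero_or_pos d with rfl | hpos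
  · refine ⟨_, hU1, ?_, ?_⟩
    · change FlatMor.fibreDimAt G.hom (η[G].left.base (s : S)) ≤ _
      rw [hd]
    · intro t ht
      change topologicalKrullDim ↥(G.hom.base ⁻¹' {t}) = topologicalKrullDim ↥(G.hom.base ⁻¹' {s})
      rw [Groth.Agent.H17.Grp.dim_fibre_eq_fibreDimAt_unit,
        Groth.Agent.H17.Grp.dim_fibre_eq_fibreDimAt_unit, hd]
      exact le_antisymm ht (Groth.Agent.H17.Chev.fibreDimAt_nonneg _ _)
  · have hU2 : IsOpen {t : S | ((d - 1 : ℕ) : WithBot ℕ∞) < topologicalKrullDim ↥(G.hom.fiber t)} :=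
      Groth.Agent.H17.Chev.isOpen_setOf_lt_dim_fiber_of_flat G.hom _
    refine ⟨_, hU1.inter hU2, ⟨?_, ?_⟩, ?_⟩
    · change FlatMor.fibreDimAt G.hom (η[G].left.base (s : S)) ≤ _
      rw [hd]
    · change ((d - 1 : ℕ) : WithBot ℕ∞) < topologicalKrullDim ↥(G.hom.fiber s)
      rw [Groth.Agent.H17.Chev.dim_fiber_eq, Groth.Agent.H17.Grp.dim_fibre_eq_fibreDimAt_unit, hd]
      exact_mod_cast (by omega : d - 1 < d)
    · rintro t ⟨ht1, ht2⟩
      change topologicalKrullDim ↥(G.hom.base ⁻¹' {t}) = topologicalKrullDim ↥(G.hom.base ⁻¹' {s})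
      have ht2' : ((d - 1 : ℕ) : WithBot ℕ∞) < topologicalKrullDim ↥(G.hom.fiber t) := ht2
      have ht1' : FlatMor.fibreDimAt G.hom (η[G].left.base (t : S)) ≤ d := ht1
      rw [Groth.Agent.H17.Chev.dim_fiber_eq, Groth.Agent.H17.Grp.dim_fibre_eq_fibreDimAt_unit]
        at ht2'
      obtain ⟨d', hd'⟩ :=
        Groth.Agent.H17.Chev.exists_nat_eq_fibreDimAt G.hom (η[G].left.base (t : S))
      rw [Groth.Agent.H17.Grp.dim_fibre_eq_fibreDimAt_unit,
        Groth.Agent.H17.Grp.dim_fibre_eq_fibreDimAt_unit, hd, hd']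
      rw [hd'] at ht1' ht2'
      have h1 : d' ≤ d := by exact_mod_cast ht1'
      have h2 : d - 1 < d' := by exact_mod_cast ht2'
      have : d' = d := by omega
      rw [this]

end Groth.Agent.S3022
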