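import Groth.Statements.S3023
import Groth.Agent.H38.GrpConnComp

set_option autoImplicit false
universe u
open CategoryTheory MonoidalCategory CartesianMonoidalCategory MonObj GrpObj AlgebraicGeometry TensorProduct
open SGA3

namespace Groth.Agent.S3023

/-- Let G be a group scheme over a field k (not necessarily locally of finite type). There is a group
scheme G⁰ over k with a homomorphism G⁰ ⟶ G that is a flat closed immersion (so the local rings of
G⁰ are those of G) and whose image is the connected component of the identity point of G. The
published statement describes this underlying space as the irreducible component of the identity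
point, which coincides with its connected component; the connected component is the form used here. -/
theorem result (k : Type u) [Field k] (G : Over (Spec (CommRingCat.of k))) [GrpObj G] :
    ∃ (G0 : Over (Spec (CommRingCat.of k))) (_ : GrpObj G0) (i : G0 ⟶ G), IsMonHom i ∧ IsClosedImmersion i.left ∧ Flat i.left ∧
      (∀ pt : ↥(𝟙_ (Over (Spec (CommRingCat.of k)))).left, Set.range i.left.base = connectedComponent (η[G].left.base pt)) := by
  obtain ⟨G₀, inst, incl, hmon, hci, hflat, hrange, -, -⟩ :=
    Groth.Agent.H38.GrpConnComp.exists_identityComponent k G
  refine ⟨G₀, inst, incl, hmon, hci, hflat, ?_⟩
  intro pt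
  have h := Groth.Agent.H38.GrpComp.unit_left_apply k G pt
  change Set.range ⇑incl.left = connectedComponent (η[G].left pt)
  rw [h]
  exact hrange

end Groth.Agent.S3023
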