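import Groth.Statements.S3036
import Groth.Agent.H15.GrpHomProper

set_option autoImplicit false
universe u
open CategoryTheory MonoidalCategory CartesianMonoidalCategory MonObj GrpObj AlgebraicGeometry TensorProduct
open SGA3

namespace Groth.Agent.S3036

/-- Let A be a local artinian ring and u : G → H a homomorphism between group schemes locally of finite
type over A which is a quasi-compact monomorphism. Then u is a closed immersion. -/
theorem result (A : Type u) [CommRing A] [IsArtinianRing A] [IsLocalRing A]
    (G H : Over (Spec (CommRingCat.of A))) [GrpObj G] [GrpObj H] [LocallyOfFiniteType G.hom] [LocallyOfFiniteType H.hom]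
    (u : G ⟶ H) [IsMonHom u] [Mono u] [QuasiCompact u.left] : IsClosedImmersion u.left := by
  have hmonoL : Mono u.left := by
    have : Mono ((Over.forget _).map u) := inferInstance
    exact ‹Mono ((Over.forget _).map u)›
  -- the kernel is trivial
  set t := Limits.pullback.snd u.left (η[H] : 𝟙_ (Over (Spec (CommRingCat.of A))) ⟶ H).left with ht
  have hmonot : Mono t := inferInstance
  have hcond : (η[G] : 𝟙_ (Over (Spec (CommRingCat.of A))) ⟶ G).left ≫ u.left =
      𝟙 _ ≫ (η[H] : 𝟙_ (Over (Spec (CommRingCat.of A))) ⟶ H).left := by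
    rw [← Over.comp_left, IsMonHom.one_hom, Category.id_comp]
  have hsec : Limits.pullback.lift (η[G] : 𝟙_ (Over (Spec (CommRingCat.of A))) ⟶ G).left (𝟙 _) hcond ≫ t = 𝟙 _ :=
    Limits.pullback.lift_snd _ _ _
  have hse : IsSplitEpi t := ⟨⟨⟨_, hsec⟩⟩⟩
  have hiso : IsIso t := isIso_of_mono_of_isSplitEpi t
  have hK : UniversallyClosed t := inferInstance
  have hproper := Groth.Agent.H15.GrpHomProper.isProper_of_artinian A G H u hK
  exact (IsClosedImmersion.iff_isProper_and_mono u.left).mpr ⟨hproper, hmonoL⟩

end Groth.Agent.S3036
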