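import Groth.Statements.S3037
import Groth.Agent.H15.GrpHomProper
import Groth.Agent.H38.GrpQFHom

set_option autoImplicit false
universe u
open CategoryTheory MonoidalCategory CartesianMonoidalCategory MonObj GrpObj AlgebraicGeometry TensorProduct
open SGA3

namespace Groth.Agent.S3037

/-- (iii) ⟺ (v): let A be a local artinian ring and u : G → H a quasi-compact homomorphism between group
schemes locally of finite type over A. Then u is finite if and only if the kernel of u (the fibre of
u over the unit section) is a discrete space. -/
theorem result (A : Type u) [CommRing A] [IsArtinianRing A] [IsLocalRing A]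
    (G H : Over (Spec (CommRingCat.of A))) [GrpObj G] [GrpObj H] [LocallyOfFiniteType G.hom] [LocallyOfFiniteType H.hom]
    (u : G ⟶ H) [IsMonHom u] [QuasiCompact u.left] :
    IsFinite u.left ↔ DiscreteTopology ↥(Limits.pullback u.left (η[H] : 𝟙_ (Over (Spec (CommRingCat.of A))) ⟶ H).left) := by
  set e := (η[H] : 𝟙_ (Over (Spec (CommRingCat.of A))) ⟶ H).left with he
  set t := Limits.pullback.snd u.left e with ht
  have hsub := Groth.Agent.H15.GrpHomProper.subsingleton_spec_artinian A
  have hft : LocallyOfFiniteType u.left := by
    have : LocallyOfFiniteType (u.left ≫ H.hom) := by rw [Over.w u]; infer_instance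
    exact locallyOfFiniteType_of_comp u.left H.hom
  have hftt : LocallyOfFiniteType t := inferInstance
  have hqct : QuasiCompact t := inferInstance
  constructor
  · intro h
    have hfin : IsFinite t := inferInstance
    have hlqf : LocallyQuasiFinite t := inferInstance
    obtain ⟨s0⟩ : Nonempty ↥(𝟙_ (Over (Spec (CommRingCat.of A)))).left :=
      (inferInstance : Nonempty ↥(Spec (CommRingCat.of A)))
    have h1 := t.isDiscrete_preimage_singleton s0
    have h2 : t ⁻¹' {s0} = Set.univ := by
      ext x
      simp only [Set.mem_preimage, Set.mem_singleton_iff, Set.mem_univ, iff_true]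
      exact Subsingleton.elim (α := ↥(Spec (CommRingCat.of A))) _ _
    rw [h2] at h1
    exact isDiscrete_univ_iff.mp h1
  · intro hdisc
    have hlqf : LocallyQuasiFinite t := by
      rw [locallyQuasiFinite_iff_isDiscrete_preimage_singleton]
      intro x
      rw [isDiscrete_iff_discreteTopology]
      infer_instance
    have hart : IsLocallyArtinian (𝟙_ (Over (Spec (CommRingCat.of A)))).left := by
      change IsLocallyArtinian (Spec (CommRingCat.of A))
      exact Scheme.isLocallyArtinianScheme_Spec.mpr ‹IsArtinianRing A›
    have hfin : IsFinite t := IsFinite.of_locallyQuasiFinite t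
    have hK : UniversallyClosed t := inferInstance
    have hproper := Groth.Agent.H15.GrpHomProper.isProper_of_artinian A G H u hK
    -- quasi-finiteness at the unit point
    have hcond : (η[G] : 𝟙_ (Over (Spec (CommRingCat.of A))) ⟶ G).left ≫ u.left = 𝟙 _ ≫ e := by
      rw [he, ← Over.comp_left, IsMonHom.one_hom, Category.id_comp]
    obtain ⟨s0⟩ : Nonempty ↥(𝟙_ (Over (Spec (CommRingCat.of A)))).left :=
      (inferInstance : Nonempty ↥(Spec (CommRingCat.of A)))
    let p := (Limits.pullback.lift (η[G] : 𝟙_ (Over (Spec (CommRingCat.of A))) ⟶ G).left (𝟙 _) hcond) s0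
    have hp : t.QuasiFiniteAt p := t.quasiFiniteAt p
    have hξ := (Groth.Agent.H17.quasiFiniteAt_iff_of_isPullback
      (IsPullback.of_hasPullback u.left e) p).mp hp
    have hlqfu : LocallyQuasiFinite u.left :=
      Groth.Agent.H38.GrpQFHom.locallyQuasiFinite_of_quasiFiniteAt G H u _ hξ
    exact IsFinite.of_isProper_of_locallyQuasiFinite u.left

end Groth.Agent.S3037
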