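import Groth.Statements.S3043
import Mathlib.AlgebraicGeometry.Morphisms.Integral
import Mathlib.AlgebraicGeometry.Morphisms.Affine
import Mathlib.AlgebraicGeometry.Morphisms.QuasiCompact

set_option autoImplicit false
universe u
open CategoryTheory MonoidalCategory CartesianMonoidalCategory MonObj GrpObj AlgebraicGeometry TensorProduct
open SGA3

namespace Groth.Agent.S3043

set_option linter.style.haveILetI false

theorem id_appLE {X : Scheme.{u}} (U V : X.Opens) (e : V ≤ (𝟙 X : X ⟶ X) ⁻¹ᵁ U) :
    (𝟙 X : X ⟶ X).appLE U V e = X.presheaf.map (homOfLE e).op := by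
  rw [Scheme.Hom.appLE]
  simp only [Scheme.Hom.id_app]
  exact Category.id_comp _

/-- Let π : X → S be a morphism of schemes admitting a section ε (ε followed by π is the identity). If π
is injective on underlying points, then π is an integral morphism. -/
theorem result (X S : Scheme.{u}) (π : X ⟶ S) (ε : S ⟶ X) (hε : ε ≫ π = 𝟙 S)
    (hinj : Function.Injective π.base) : IsIntegralHom π := by
  -- `π` and `ε` are inverse bijections on points
  have h1 : ∀ s : S, π.base (ε.base s) = s := fun s => by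
    rw [← Scheme.Hom.comp_apply, hε]; rfl
  have h2 : ∀ x : X, ε.base (π.base x) = x := fun x => hinj (h1 _)
  have hind : Topology.IsInducing π.base := by
    have hemb : Topology.IsEmbedding π.base :=
      Topology.IsEmbedding.of_leftInverse (f := ε.base) (g := π.base) h2 ε.continuous π.continuous
    exact hemb.isInducing
  have hrange : Set.range π.base = Set.univ := Set.range_eq_univ.mpr fun s => ⟨ε.base s, h1 s⟩
  have haff : IsAffineHom π := isAffineHom_of_isInducing π hind (by rw [hrange]; exact isClosed_univ)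
  refine { haff with isIntegral_app := fun V hV => ?_ }
  have hU : IsAffineOpen (π ⁻¹ᵁ V) := hV.preimage π
  have hle : V ≤ ε ⁻¹ᵁ (π ⁻¹ᵁ V) := fun s hs => by
    change π.base (ε.base s) ∈ V
    rw [h1]; exact hs
  let σ := ε.appLE (π ⁻¹ᵁ V) V hle
  have hσ : π.app V ≫ σ = 𝟙 _ := by
    change π.app V ≫ ε.appLE (π ⁻¹ᵁ V) V hle = 𝟙 _
    rw [Scheme.Hom.app_eq_appLE, Scheme.Hom.appLE_comp_appLE]
    have hle' : V ≤ (𝟙 S : S ⟶ S) ⁻¹ᵁ V := le_rfl
    have : (ε ≫ π).appLE V V (by rw [hε]; exact hle') = (𝟙 S : S ⟶ S).appLE V V hle' := by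
      congr 1
    rw [this]
    exact (Groth.Agent.S3043.id_appLE V V hle').trans (S.presheaf.map_id _)
  intro a
  -- decompose `a = (a - π♯ σ a) + π♯ σ a`
  let n : Γ(X, π ⁻¹ᵁ V) := a - (π.app V).hom (σ.hom a)
  have hσn : σ.hom n = 0 := by
    have : σ.hom ((π.app V).hom (σ.hom a)) = σ.hom a := by
      rw [← CommRingCat.comp_apply, hσ]; rfl
    simp only [n, map_sub, this, sub_self]
  have hnil : IsNilpotent n := by
    rw [Scheme.isNilpotent_iff_basicOpen_eq_bot_of_isCompact hU.isCompact]
    rw [eq_bot_iff]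
    intro x hx
    have hxU : x ∈ π ⁻¹ᵁ V := X.basicOpen_le n hx
    have hs : π.base x ∈ V := hxU
    have h3 : π.base x ∈ ε ⁻¹ᵁ (X.basicOpen n) := by
      change ε.base (π.base x) ∈ X.basicOpen n
      rw [h2]; exact hx
    rw [Scheme.preimage_basicOpen] at h3
    have h4 : π.base x ∈ S.basicOpen (σ.hom n) := by
      have : S.basicOpen (σ.hom n) = V ⊓ S.basicOpen ((ε.app (π ⁻¹ᵁ V)).hom n) := by
        change S.basicOpen ((ε.app (π ⁻¹ᵁ V) ≫ S.presheaf.map (homOfLE hle).op).hom n) = _
        rw [CommRingCat.comp_apply, Scheme.basicOpen_res]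
      rw [this]
      exact ⟨hs, h3⟩
    rw [hσn, Scheme.basicOpen_zero] at h4
    exact h4
  have : a = n + (π.app V).hom (σ.hom a) := by simp only [n, sub_add_cancel]
  change (π.app V).hom.IsIntegralElem a
  rw [this]
  refine RingHom.IsIntegralElem.add _ ?_ ((π.app V).hom.isIntegralElem_map)
  obtain ⟨k, hk⟩ := hnil
  letI := (π.app V).hom.toAlgebra
  change IsIntegral Γ(S, V) n
  rcases Nat.eq_zero_or_pos k with rfl | hkpos
  · rw [pow_zero] at hk
    have : n = 0 := by rw [← _root_.mul_one n, hk, mul_zero]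
    rw [this]; exact isIntegral_zero
  · exact IsIntegral.of_pow hkpos (by rw [hk]; exact isIntegral_zero)

end Groth.Agent.S3043
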