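import Groth.Statements.S3046
import Groth.Agent.H15.Comm

set_option autoImplicit false
universe u
open TensorProduct
open SGA3

namespace Groth.Agent.S3046

/-- Let A be a commutative Hopf algebra over a commutative ring k, D and E two ε-derivations A → k
(tangent vectors at the identity of G = Spec A), R a commutative k-algebra and t, t' ∈ R with t² = 0
= t'². Let x = e + tD and y = e + t'E be the corresponding R-points of G. Then the commutator x y
x⁻¹ y⁻¹ (product of points; the inverse of a point is its composite with the antipode) is the point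
a ↦ ε(a) + [D, E](a) · t t', where [D, E] = D ⋆ E − E ⋆ D is the convolution commutator. -/
theorem result (k : Type u) [CommRing k] (A : Type u) [CommRing A] [HopfAlgebra k A]
    (D E : LieHopf.Lie k A) (R : Type u) [CommRing R] [Algebra k R] (t t' : R) (ht : t * t = 0) (ht' : t' * t' = 0)
    (a : A) :
    Dyn.conv3 k A
        (Dyn.conv3 k A (LieHopf.ptOfLie D R t ht) (LieHopf.ptOfLie E R t' ht')
          ((LieHopf.ptOfLie D R t ht).comp (HopfAlgebra.antipodeAlgHom k A)))
        ((LieHopf.ptOfLie E R t' ht').comp (HopfAlgebra.antipodeAlgHom k A))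
        ((Algebra.ofId k R).comp (Bialgebra.counitAlgHom k A)) a =
      algebraMap k R (Bialgebra.counitAlgHom k A a) + algebraMap k R (LieHopf.bracketLin D E a) * (t * t') := by
  have hunit : ((Algebra.ofId k R).comp (Bialgebra.counitAlgHom k A)) =
      Groth.Agent.H15.unitPt k A R := rfl
  rw [hunit, Groth.Agent.H15.conv3_eq_conv2, Groth.Agent.H15.conv2_unit_right,
    Groth.Agent.H15.conv3_eq_conv2]
  have hlin : ∀ f g : A →ₐ[k] R, WithConv.toConv (Groth.Agent.H15.conv2 k A f g).toLinearMap =
      WithConv.toConv f.toLinearMap * WithConv.toConv g.toLinearMap := fun f g => rfl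
  have hmain : WithConv.toConv (Groth.Agent.H15.conv2 k A (Groth.Agent.H15.conv2 k A
      (Groth.Agent.H15.conv2 k A (LieHopf.ptOfLie D R t ht) (LieHopf.ptOfLie E R t' ht'))
        ((LieHopf.ptOfLie D R t ht).comp (HopfAlgebra.antipodeAlgHom k A)))
      ((LieHopf.ptOfLie E R t' ht').comp (HopfAlgebra.antipodeAlgHom k A))).toLinearMap =
      1 + (t * t') • (Groth.Agent.H15.dR k A D R * Groth.Agent.H15.dR k A E R -
        Groth.Agent.H15.dR k A E R * Groth.Agent.H15.dR k A D R) := by
    rw [hlin, hlin, hlin, Groth.Agent.H15.ptOfLie_toLinearMap, Groth.Agent.H15.ptOfLie_toLinearMap,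
      Groth.Agent.H15.ptOfLie_inv_toLinearMap, Groth.Agent.H15.ptOfLie_inv_toLinearMap]
    exact Groth.Agent.H15.comm_calc t t' ht ht' _ _
  have h := congrArg (fun f : WithConv (A →ₗ[k] R) => f a) hmain
  simp only at h
  refine Eq.trans h ?_
  have hsub : ∀ (f g : WithConv (A →ₗ[k] R)) (c : R), (1 + c • (f - g)) a =
      algebraMap k R (CoalgebraStruct.counit (R := k) a) + c * (f a - g a) := by
    intro f g c
    rfl
  rw [hsub, Groth.Agent.H15.dR_mul_apply, Groth.Agent.H15.dR_mul_apply]
  simp only [LieHopf.bracketLin, LinearMap.sub_apply, map_sub, Bialgebra.counitAlgHom_apply]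
  rw [mul_comm]
  rfl

end Groth.Agent.S3046
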