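import Groth.Statements.S3047
import Groth.Agent.H4.StalkPullSh

set_option autoImplicit false
open CategoryTheory CategoryTheory.Limits AlgebraicGeometry Opposite
universe u
open EtDesc

namespace Groth.Agent.S3047

/-- For a surjective morphism of schemes f : X' -> X, the inverse image functor f^* on sheaves of sets
for the small etale sites is faithful and reflects isomorphisms. -/
theorem result {X' X : Scheme.{u}} (f : X' ⟶ X) [Surjective f] :
    (EtDesc.pullSh f).Faithful ∧ (EtDesc.pullSh f).ReflectsIsomorphisms := by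
  have hs : ⋃ x' : X', Set.range (Groth.Agent.H4.Stalks.geomPt x' ≫ f) = Set.univ := by
    ext s
    simp only [Set.mem_iUnion, Set.mem_range, Set.mem_univ, iff_true]
    obtain ⟨x', hx'⟩ := Surjective.surj (f := f) s
    refine ⟨x', default, ?_⟩
    rw [Scheme.Hom.comp_apply, Groth.Agent.H4.Stalks.geomPt_default, hx']
  have hjri := Groth.Agent.H4.StalkPullSh.jri_of_surjective
    (fun x' : X' => Groth.Agent.H4.Stalks.geomPt x' ≫ f) hs
  have hiso : ∀ {F G : EtDesc.Sh X} (a : F ⟶ G), IsIso ((EtDesc.pullSh f).map a) → IsIso a := by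
    intro F G a ha
    rw [hjri.isIso_iff]
    rintro ⟨_, ⟨x'⟩⟩
    show IsIso ((Groth.Agent.H4.StalkPullSh.stalkSh (Groth.Agent.H4.Stalks.geomPt x' ≫ f)).map a)
    rw [NatIso.isIso_map_iff
      (Groth.Agent.H4.StalkPullSh.stalkPullIsoSh f (Groth.Agent.H4.Stalks.geomPt x')) a]
    dsimp
    infer_instance
  refine ⟨?_, ⟨fun a ha => hiso a ha⟩⟩
  constructor
  intro F G a b hab
  have hfaith := hjri.jointlyFaithful
  apply hfaith.map_injective
  rintro ⟨_, ⟨x'⟩⟩
  show (Groth.Agent.H4.StalkPullSh.stalkSh (Groth.Agent.H4.Stalks.geomPt x' ≫ f)).map a =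
    (Groth.Agent.H4.StalkPullSh.stalkSh (Groth.Agent.H4.Stalks.geomPt x' ≫ f)).map b
  have e := Groth.Agent.H4.StalkPullSh.stalkPullIsoSh f (Groth.Agent.H4.Stalks.geomPt x')
  have na := e.hom.naturality a
  have nb := e.hom.naturality b
  rw [← cancel_mono (e.hom.app G), na, nb]
  dsimp
  rw [hab]

end Groth.Agent.S3047
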