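import Groth.Statements.S3058
import Groth.Agent.H28.ToposCoprod

set_option autoImplicit false
open CategoryTheory CategoryTheory.Limits Opposite
universe u
open ToposFin

namespace Groth.Agent.S3058

/-- For a topos of sheaves of sets on a small site: the coproduct of a small family of objects is
quasi-compact if and only if every member is quasi-compact and all but finitely many members are
initial (empty) objects. -/
theorem result {C : Type u} [SmallCategory C] {J : GrothendieckTopology C} {ι : Type u}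
    (F : ι → ToposFin.Sh J) :
    ToposFin.IsQC (∐ F) ↔ (∀ i, ToposFin.IsQC (F i)) ∧ {i | IsEmpty (F i ≅ ⊥_ (ToposFin.Sh J))}.Finite := by
  classical
  have hc := coproductIsCoproduct F
  have hcov : Groth.Agent.H28.IsCover (Sigma.ι F) :=
    Groth.Agent.H28.isCover_cofan_inj (Cofan.mk (∐ F) (Sigma.ι F)) hc
  have hmono : ∀ i, Mono (Sigma.ι F i) := fun i =>
    Groth.Agent.H28.mono_cofan_inj (Cofan.mk (∐ F) (Sigma.ι F)) hc i
  have hdisj : ∀ k l, k ≠ l → ∀ (W : ToposFin.Sh J) (a : W ⟶ F k) (b : W ⟶ F l),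
      a ≫ Sigma.ι F k = b ≫ Sigma.ι F l → Nonempty (IsInitial W) := fun k l hkl W a b hab =>
    Groth.Agent.H28.isInitial_of_cofan_inj_eq (Cofan.mk (∐ F) (Sigma.ι F)) hc hkl a b hab
  constructor
  · intro h
    refine ⟨fun i => Groth.Agent.H28.isQC_of_disjoint_cover h (Sigma.ι F) hcov hmono hdisj i, ?_⟩
    obtain ⟨t, ht⟩ := Groth.Agent.H28.IsQC.exists_finset h _ hcov
    refine Set.Finite.subset t.finite_toSet ?_
    intro i hi
    by_contra hit
    have h1 := ht.pullback_snd (Sigma.ι F i)
    have h2 : Nonempty (IsInitial (F i)) := by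
      refine Groth.Agent.H28.isInitial_of_isCover_of_isInitial h1 ?_
      rintro ⟨j, hj⟩
      have hji : j ≠ i := fun e => hit (by simpa [← e] using hj)
      exact hdisj j i hji _ _ _ pullback.condition
    exact hi.false (h2.some.uniqueUpToIso initialIsInitial)
  · rintro ⟨hqc, hfin⟩
    have h1 := hcov.of_subfamily_of_isInitial (fun i => i ∈ {i | IsEmpty (F i ≅ ⊥_ (ToposFin.Sh J))}) ?_
    · have : Finite {i // i ∈ {i | IsEmpty (F i ≅ ⊥_ (ToposFin.Sh J))}} := hfin
      exact Groth.Agent.H28.IsQC.of_finite_cover _ h1 (fun i => hqc i.1)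
    · intro i hi
      have : ¬ IsEmpty (F i ≅ ⊥_ (ToposFin.Sh J)) := hi
      rw [not_isEmpty_iff] at this
      exact ⟨initialIsInitial.ofIso this.some.symm⟩

end Groth.Agent.S3058
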