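import Groth.Statements.S3068
import Groth.Agent.H28.ToposQS

set_option autoImplicit false
open CategoryTheory CategoryTheory.Limits Opposite
universe u
open ToposFin

namespace Groth.Agent.S3068

/-- For a topos of sheaves of sets on a small site: given a generating family of quasi-compact objects
G_a, an object Y is quasi-separated if and only if every morphism G_a -> Y is quasi-compact. -/
theorem result {C : Type u} [SmallCategory C] {J : GrothendieckTopology C} {α : Type u} (G : α → ToposFin.Sh J) (hG : ∀ a, ToposFin.IsQC (G a))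
    (hgen : ∀ X : ToposFin.Sh J, ∃ (ι : Type u) (a : ι → α) (π : ∀ i, G (a i) ⟶ X), Epi (Sigma.desc π))
    (Y : ToposFin.Sh J) :
    ToposFin.IsQS Y ↔ ∀ (a : α) (s : G a ⟶ Y), ToposFin.IsQCHom s := by
  have hS : Groth.Agent.H28.CoversAll (Set.range G) := by
    intro X
    obtain ⟨ι, a, π, hπ⟩ := hgen X
    exact ⟨ι, fun i => G (a i), π, fun i => ⟨a i, rfl⟩,
      (Groth.Agent.H28.isCover_iff_epi_sigmaDesc π).2 hπ⟩
  have hqc : ∀ K ∈ Set.range G, ToposFin.IsQC K := by
    rintro K ⟨a, rfl⟩
    exact hG a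
  rw [Groth.Agent.H28.isQS_iff_of_coversAll hS hqc Y]
  constructor
  · intro h a s
    exact h _ ⟨a, rfl⟩ s
  · rintro h K ⟨a, rfl⟩ s
    exact h a s

end Groth.Agent.S3068
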