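import Groth.Statements.S3073
import Groth.Agent.H69.HenselLocalH

set_option autoImplicit false
open CategoryTheory CategoryTheory.Limits AlgebraicGeometry Opposite
universe u
open EtDesc

namespace Groth.Agent.S3073

/-- Let A be a henselian local ring, Y = Spec A with closed point y, and F an abelian sheaf on Y_et (not
necessarily torsion). Then for every n the restriction map H^n(Y, F) -> H^n(Spec k(y), F|_{k(y)})
along the closed point is bijective. (Left exactness of the pullback functor carried as a binder.) -/
theorem result (A : Type u) [CommRing A] [HenselianLocalRing A]
    (F : EtCoh.Ab (Spec (CommRingCat.of A)))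
    [PreservesFiniteLimits (EtCoh.pull
      (Spec.map (CommRingCat.ofHom (IsLocalRing.residue A))))] (n : ℕ) :
    Function.Bijective (EtCore.Hpull (Spec.map (CommRingCat.ofHom (IsLocalRing.residue A))) F n) := by
  have hci : IsClosedImmersion (Spec.map (CommRingCat.ofHom (IsLocalRing.residue A))) :=
    IsClosedImmersion.spec_of_surjective _ (IsLocalRing.residue_surjective (R := A))
  have hint : IsIntegralHom (Spec.map (CommRingCat.ofHom (IsLocalRing.residue A))) := inferInstance
  have hui : UniversallyInjective (Spec.map (CommRingCat.ofHom (IsLocalRing.residue A))) :=
    inferInstance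
  have hcounit := (Groth.Agent.S0631.result
    (Spec.map (CommRingCat.ofHom (IsLocalRing.residue A)))).2.2.2
  exact Groth.Agent.H69.HenselLocalH.Hpull_bijective_of_counit A F hcounit n

end Groth.Agent.S3073
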