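import Groth.Statements.S3079
import Groth.Agent.H60.Canon4
-- import your own Groth.Agent.* helpers here

set_option autoImplicit false
universe w v u
open CategoryTheory
open SGA4

namespace Groth.Agent.S3079

open Groth.Agent.H60.Canon in

open CategoryTheory.Limits in
/-- For the topos of sheaves of sets on a small site (C, J): a presheaf F on the topos with values in an
arbitrary category E' is a sheaf for the canonical topology of the topos if and only if F, as a
functor on the opposite category, preserves all u-small limits (i.e. turns u-small colimits of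
sheaves into limits in E'). -/
theorem result {C : Type u} [SmallCategory C] (J : GrothendieckTopology C)
    {E' : Type v} [Category.{w} E'] (F : (Sheaf J (Type u))ᵒᵖ ⥤ E') :
    Presheaf.IsSheaf (Sheaf.canonicalTopology (Sheaf J (Type u))) F ↔ PreservesLimitsOfSize.{u, u} F := by
  constructor
  · intro hF
    refine ⟨fun {K} _ => ⟨fun {D} => ⟨fun {c} hc => ⟨?_⟩⟩⟩⟩
    apply coyonedaJointlyReflectsLimits
    intro e
    refine ((Types.isLimit_iff _).2 ?_).some
    intro s hs
    have hG := hF e.unop
    have key := existsUnique_of_sheaf (J := J) (F ⋙ coyoneda.obj e) (K := Kᵒᵖ) (D := D.leftOp)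
      (fun k => s k.unop) (fun k k' φ => hs φ.unop) (c := coconeLeftOpOfCone c)
      (isColimitCoconeLeftOpOfCone D hc) hG
    obtain ⟨t, ht, hu⟩ := key
    exact ⟨t, fun j => ht (Opposite.op j), fun t' ht' => hu t' (fun k => ht' k.unop)⟩
  · intro hF e
    exact isSheaf_of_preserves (F ⋙ coyoneda.obj (Opposite.op e))

end Groth.Agent.S3079
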