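import Groth.Statements.S3080
import Groth.Agent.H60.Canon6
-- import your own Groth.Agent.* helpers here

set_option autoImplicit false
universe v u
open CategoryTheory
open SGA4

namespace Groth.Agent.S3080

open Groth.Agent.H60.Canon CategoryTheory.Limits in

open CategoryTheory.Limits in
/-- Let (C, J) and (D, K) be small sites and f a functor from sheaves of sets on (C, J) to sheaves of
sets on (D, K) which preserves finite limits and sends u-small jointly epimorphic families to
jointly epimorphic families. Then f is a left adjoint (so it is the inverse-image functor of a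
morphism of topoi) and f preserves all u-small colimits. -/
theorem result {C D : Type u} [SmallCategory C] [SmallCategory D]
    (J : GrothendieckTopology C) (K : GrothendieckTopology D) (f : Sheaf J (Type u) ⥤ Sheaf K (Type u))
    [PreservesFiniteLimits f] (hf : SGA4.PreservesEpiFamilies.{u + 1, u + 1, u} f) :
    f.IsLeftAdjoint ∧ PreservesColimitsOfSize.{u, u} f := by
  haveI : RepresentablyFlat f := flat_of_preservesFiniteLimits f
  have hcov : CoverPreserving (Sheaf.canonicalTopology (Sheaf J (Type u)))
      (Sheaf.canonicalTopology (Sheaf K (Type u))) f := by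
    refine ⟨fun {X S} hS => ?_⟩
    have hS' : LocSurj S := (mem_canonical_iff S).1 hS
    rw [mem_canonical_iff]
    apply JE.locSurj
    intro Z g h H
    have hepi : SGA4.IsEpiFamily
        (fun i : (Σ W : Cᵒᵖ, {s : X.obj.obj W // S (hat J W s)}) => hat J i.1 i.2.1) := by
      intro Z' a b hab
      refine (isColimit S hS').hom_ext (fun j => ?_)
      exact hab ⟨j.unop.obj.1, ⟨j.unop.obj.2, j.unop.property⟩⟩
    have := hf _ X _ _ hepi
    apply this Z g h
    intro i
    exact H _ _ (Sieve.image_mem_functorPushforward f S i.2.2)
  haveI : f.IsContinuous (Sheaf.canonicalTopology (Sheaf J (Type u)))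
      (Sheaf.canonicalTopology (Sheaf K (Type u))) :=
    Functor.isContinuous_of_coverPreserving (compatiblePreservingOfFlat _ _) hcov
  have hcolim : PreservesColimitsOfSize.{u, u} f := by
    apply preservesColimitsOfSize_of_isSheaf_yoneda
    intro Z
    exact Functor.op_comp_isSheaf_of_isSheaf_type f _ (Sheaf.isSheaf_yoneda_obj Z)
  exact ⟨isLeftAdjoint_of_preservesColimitsOfSize J K f, hcolim⟩

end Groth.Agent.S3080
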