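import Groth.Statements.S3082
import Mathlib.CategoryTheory.Sites.LeftExact
import Mathlib.CategoryTheory.Generator.Basic
import Mathlib.CategoryTheory.Sites.Sheafification

set_option autoImplicit false
universe u
open CategoryTheory
open SGA4

namespace Groth.Agent.S3082

/-- Let (C, J) be a small site and G a set of objects of C such that each object of C has a covering
family whose members all lie in G. Then the sheafifications of the presheaves represented by the
members of G form a detecting family in the category Sh(C, J) of set-valued sheaves on (C, J): any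
morphism of sheaves that is bijective on sections over each member of G is an isomorphism. -/
theorem result {C : Type u} [SmallCategory C] (J : GrothendieckTopology C) (G : Set C)
    (hG : ∀ X : C, ∃ (ι : Type u) (Y : ι → C) (f : ∀ i, Y i ⟶ X), Sieve.ofArrows Y f ∈ J X ∧ ∀ i, Y i ∈ G) :
    (ObjectProperty.ofObj fun X : G => (presheafToSheaf J (Type u)).obj (yoneda.obj (X : C))).IsDetecting := by
  apply ObjectProperty.IsSeparating.isDetecting
  intro A B f g hfg
  have key : ∀ (Y : C) (_ : Y ∈ G) (a : A.obj.obj (Opposite.op Y)),
      f.hom.app (Opposite.op Y) a = g.hom.app (Opposite.op Y) a := by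
    intro Y hY a
    let adj := sheafificationAdjunction J (Type u)
    let h : (presheafToSheaf J (Type u)).obj (yoneda.obj Y) ⟶ A :=
      (adj.homEquiv _ _).symm (yonedaEquiv.symm a)
    have h1 := hfg _ (ObjectProperty.ofObj_apply
      (fun X : G => (presheafToSheaf J (Type u)).obj (yoneda.obj (X : C))) ⟨Y, hY⟩) h
    have h2 := congrArg (adj.homEquiv _ _) h1
    rw [adj.homEquiv_naturality_right, adj.homEquiv_naturality_right] at h2
    simp only [h, Equiv.apply_symm_apply] at h2
    have h3 := congrArg yonedaEquiv h2
    rw [yonedaEquiv_comp, yonedaEquiv_comp, Equiv.apply_symm_apply] at h3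
    exact h3
  apply Sheaf.hom_ext
  ext X a
  obtain ⟨ι, Y, π, hcov, hG'⟩ := hG X.unop
  have hsep : Presieve.IsSeparatedFor B.obj (Sieve.ofArrows Y π).arrows :=
    (((isSheaf_iff_isSheaf_of_type J B.obj).mp B.property) _ hcov).isSeparatedFor
  apply hsep.ext
  intro Z q hq
  obtain ⟨i, r, rfl⟩ := (Sieve.mem_ofArrows_iff Y π q).mp hq
  have n1 := NatTrans.naturality_apply f.hom (r ≫ π i).op a
  have n2 := NatTrans.naturality_apply g.hom (r ≫ π i).op a
  refine (n1.symm.trans ?_).trans n2
  have e : (ConcreteCategory.hom (A.obj.map (r ≫ π i).op)) a =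
      (ConcreteCategory.hom (A.obj.map r.op)) ((ConcreteCategory.hom (A.obj.map (π i).op)) a) := by
    rw [op_comp, Functor.map_comp]
    rfl
  have n3 := NatTrans.naturality_apply f.hom r.op ((ConcreteCategory.hom (A.obj.map (π i).op)) a)
  have n4 := NatTrans.naturality_apply g.hom r.op ((ConcreteCategory.hom (A.obj.map (π i).op)) a)
  rw [e, n3, n4, key (Y i) (hG' i)]

end Groth.Agent.S3082
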