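import Groth.Statements.S3086
import Groth.Agent.H60.GlueT5
import Groth.Agent.H60.GlueT7
import Groth.Agent.H60.Giraud4
import Groth.Agent.H60.VK
import Groth.Agent.H60.ER
-- import your own Groth.Agent.* helpers here

set_option autoImplicit false
universe u
open CategoryTheory
open SGA4

namespace Groth.Agent.S3086

open CategoryTheory.Limits in

open CategoryTheory.Limits in
/-- For sheaf topoi on small sites): let ρ be a functor from sheaves of sets on (C, J) to sheaves of
sets on (D, K) which preserves finite limits and is accessible. Then the glued category of triples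
(Y, X, Y -> ρ X) is a topos. -/
theorem result {C D : Type u} [SmallCategory C] [SmallCategory D] (J : GrothendieckTopology C)
    (K : GrothendieckTopology D) (ρ : Sheaf J (Type u) ⥤ Sheaf K (Type u)) [PreservesFiniteLimits ρ]
    [ρ.IsAccessible.{u}] :
    SGA4.IsTopos.{u + 1, u} (Comma (𝟭 (Sheaf K (Type u))) ρ) := by
  obtain ⟨κ, hκ, hρ⟩ := Functor.IsAccessible.exists_cardinal.{u} (F := ρ)
  obtain ⟨PP, hPPs, hPP⟩ :=
    HasCardinalFilteredGenerator.exists_small_generator (Cᵒᵖ ⥤ Type u) κ
  have hb := Groth.Agent.H60.GlueT.hasDisjointUniversalCoproducts_comma ρ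
    (Groth.Agent.H60.VK.hasDisjointUniversalCoproducts K)
    (Groth.Agent.H60.VK.hasDisjointUniversalCoproducts J)
  have hc := Groth.Agent.H60.GlueT.isEffectiveUniversalEquivRel_comma ρ
    (fun _ _ p₁ p₂ h => Groth.Agent.H60.ER.isEffectiveUniversalEquivRel K p₁ p₂ h)
    (fun _ _ p₁ p₂ h => Groth.Agent.H60.ER.isEffectiveUniversalEquivRel J p₁ p₂ h)
  exact Groth.Agent.H60.Giraud.isTopos hb hc (Groth.Agent.H60.GlueT.genProp ρ PP)
    (Groth.Agent.H60.GlueT.isDetecting_genProp ρ κ hPP)

end Groth.Agent.S3086
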