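import Groth.Statements.S3089
import Groth.Agent.H31.MonoRestr

set_option autoImplicit false
universe u
open CategoryTheory
open CohSite

namespace Groth.Agent.S3089

open Opposite in
/-- For abelian sheaves on the topos of sheaves of sets on a small site: let F be an abelian sheaf which
is totally acyclic, i.e. H^q(X, F) = 0 for every sheaf of sets X and every q > 0, and let Y -> X be
a monomorphism of sheaves of sets. Then the restriction map H^0(X, F) -> H^0(Y, F) is surjective. -/
theorem result {C : Type u} [SmallCategory C] {J : GrothendieckTopology C}
    (F : Sheaf J AddCommGrpCat.{u}) (hF : CohCx.IsTotallyAcyclic F) {Y X : Sheaf J (Type u)} (ι : Y ⟶ X) [Mono ι] :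
    Function.Surjective ((CohCx.HK0Functor J F).map ι.op) := by
  intro s
  obtain ⟨r, hr⟩ := Groth.Agent.H31.MonoRestr.restr_surjective F hF ι s
  exact ⟨r, hr⟩

end Groth.Agent.S3089
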