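import Groth.Statements.S3092
import Groth.Agent.H34.HyperSh2

set_option autoImplicit false
universe u
open CategoryTheory
open Hyper

namespace Groth.Agent.S3092

open Opposite CategoryTheory.Limits in
/-- In the topos of sheaves of sets on a small site; coskeleta assumed to exist: let v : K -> L be a
morphism of simplicial sheaves of sets and n ≥ 0 such that v_p is an isomorphism for p < n, v_n is
an epimorphism, and K, L are n-coskeletal (the units K -> cosk_n K, L -> cosk_n L are isomorphisms).
Then every v_p is an epimorphism and v induces a quasi-isomorphism between the chain complexes of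
free abelian sheaves Z[K] -> Z[L]. -/
theorem result {C : Type u} [SmallCategory C] (J : GrothendieckTopology C)
    [∀ (n : ℕ) (F : (SimplexCategory.Truncated n)ᵒᵖ ⥤ Sheaf J (Type u)),
      (SimplexCategory.Truncated.inclusion n).op.HasRightKanExtension F]
    {K L : SimplicialObject (Sheaf J (Type u))} (v : K ⟶ L) (n : ℕ)
    (h1 : ∀ p : ℕ, p < n → IsIso (v.app (op (SimplexCategory.mk p))))
    (h2 : Epi (v.app (op (SimplexCategory.mk n))))
    (h3 : IsIso ((SimplicialObject.coskAdj n).unit.app K) ∧ IsIso ((SimplicialObject.coskAdj n).unit.app L)) :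
    (∀ p : ℕ, Epi (v.app (op (SimplexCategory.mk p)))) ∧
    QuasiIso ((AlgebraicTopology.alternatingFaceMapComplex _).map
      (Functor.whiskerRight v (Sheaf.composeAndSheafify J AddCommGrpCat.free.{u}))) := by
  obtain ⟨h3K, h3L⟩ := h3
  let ι := sheafToPresheaf J (Type u)
  let v' : ((SimplicialObject.whiskering _ _).obj ι).obj K ⟶
      ((SimplicialObject.whiskering _ _).obj ι).obj L := Functor.whiskerRight v ι
  have hK : K.IsCoskeletal n := (SimplicialObject.isCoskeletal_iff_isIso K n).2 h3K
  have hL : L.IsCoskeletal n := (SimplicialObject.isCoskeletal_iff_isIso L n).2 h3L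
  have hK' := Groth.Agent.H34.HyperCosk.isCoskeletal_comp ι n K
  have hL' := Groth.Agent.H34.HyperCosk.isCoskeletal_comp ι n L
  have h1' : ∀ i : ℕ, i < n → IsIso (v'.app (op (SimplexCategory.mk i))) := by
    intro i hi
    have := h1 i hi
    exact inferInstanceAs (IsIso (ι.map (v.app _)))
  have h2' : Presheaf.IsLocallySurjective J (v'.app (op (SimplexCategory.mk n))) :=
    (Sheaf.isLocallySurjective_iff_epi (v.app (op (SimplexCategory.mk n)))).2 h2
  have h3' := (SimplicialObject.isCoskeletal_iff_isIso _ n).1 hK'
  have h4' := (SimplicialObject.isCoskeletal_iff_isIso _ n).1 hL'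
  constructor
  · intro p
    have := Groth.Agent.H34.HyperSh.isLocallySurjective_main J v' n h1' h2' h3' h4'
      (op (SimplexCategory.mk p))
    exact (Sheaf.isLocallySurjective_iff_epi (v.app (op (SimplexCategory.mk p)))).1 this
  · exact Groth.Agent.H34.HyperSh.quasiIso_main J v' n h1' h2' h3' h4'

end Groth.Agent.S3092
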