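import Groth.Statements.S3093

set_option autoImplicit false
universe u
open CohTop

namespace Groth.Agent.S3093

/-- Let X be a topological space and K ⊆ X a compact subset such that any two distinct points of K have
disjoint open neighbourhoods in X. If A and B are subsets of K that are closed in K and W is an open
subset of X containing A ∩ B, then there are open subsets U ⊇ A and V ⊇ B of X with U ∩ V ⊆ W. -/
theorem result {X : Type u} [TopologicalSpace X] {K : Set X} (hK : IsCompact K)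
    (hsep : ∀ x ∈ K, ∀ y ∈ K, x ≠ y → ∃ U V : Set X, IsOpen U ∧ IsOpen V ∧ x ∈ U ∧ y ∈ V ∧ Disjoint U V)
    {A B W : Set X} (hA : A ⊆ K) (hB : B ⊆ K) (hAc : IsClosed (Subtype.val ⁻¹' A : Set K))
    (hBc : IsClosed (Subtype.val ⁻¹' B : Set K)) (hW : IsOpen W) (hABW : A ∩ B ⊆ W) :
    ∃ U V : Set X, IsOpen U ∧ IsOpen V ∧ A ⊆ U ∧ B ⊆ V ∧ U ∩ V ⊆ W := by
  have : CompactSpace K := isCompact_iff_compactSpace.mp hK
  have hAcomp : IsCompact A := by
    have h1 : IsCompact (Subtype.val ⁻¹' A : Set K) := hAc.isCompact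
    have h2 := h1.image continuous_subtype_val
    rwa [Subtype.image_preimage_coe, Set.inter_eq_right.mpr hA] at h2
  have hBcomp : IsCompact B := by
    have h1 : IsCompact (Subtype.val ⁻¹' B : Set K) := hBc.isCompact
    have h2 := h1.image continuous_subtype_val
    rwa [Subtype.image_preimage_coe, Set.inter_eq_right.mpr hB] at h2
  have hA' : IsCompact (A \ W) := hAcomp.diff hW
  have hB' : IsCompact (B \ W) := hBcomp.diff hW
  have hsepN : SeparatedNhds (A \ W) (B \ W) := by
    rw [separatedNhds_iff_disjoint, hA'.disjoint_nhdsSet_left]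
    intro x hx
    rw [hB'.disjoint_nhdsSet_right]
    intro y hy
    have hxy : x ≠ y := by
      rintro rfl
      exact hx.2 (hABW ⟨hx.1, hy.1⟩)
    obtain ⟨U, V, hU, hV, hxU, hyV, hUV⟩ := hsep x (hA hx.1) y (hB hy.1) hxy
    exact Filter.disjoint_of_disjoint_of_mem hUV (hU.mem_nhds hxU) (hV.mem_nhds hyV)
  obtain ⟨U', V', hU', hV', hAU, hBV, hUV⟩ := hsepN
  refine ⟨U' ∪ W, V' ∪ W, hU'.union hW, hV'.union hW, ?_, ?_, ?_⟩
  · intro x hx
    by_cases hxW : x ∈ W
    · exact Or.inr hxW
    · exact Or.inl (hAU ⟨hx, hxW⟩)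
  · intro x hx
    by_cases hxW : x ∈ W
    · exact Or.inr hxW
    · exact Or.inl (hBV ⟨hx, hxW⟩)
  · rintro x ⟨hx1 | hx1, hx2 | hx2⟩
    · exact absurd hx2 (Set.disjoint_left.mp hUV hx1)
    · exact hx2
    · exact hx1
    · exact hx1

end Groth.Agent.S3093
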