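import Groth.Statements.S3120
import Groth.Agent.H4.PullComp
import Groth.Agent.S0652

set_option autoImplicit false
universe u
open CategoryTheory CategoryTheory.Limits AlgebraicGeometry Opposite
open EtDual

namespace Groth.Agent.S3120

/-- Let f : X → Y be a morphism of schemes, j : V → Y an open immersion, and U = X ×_Y V with
projections f' : U → V and j' : U → X (an open immersion). Then for every abelian sheaf G on the
small étale site of V, the sheaves f^*(j_!G) and j'_!(f'^*G) on X are isomorphic. (The published
statement gives a unique isomorphism compatible with the base change map for j_*; only the existence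
of an isomorphism is stated here. The prelude's instances for the inverse image functors along f and
f' are carried as binders.) -/
theorem result {X Y V : Scheme.{u}} (f : X ⟶ Y) (j : V ⟶ Y) [IsOpenImmersion j]
    [EtCoh.BCCont f] [EtCoh.BCCont (pullback.snd f j)] (G : EtCoh.Ab V) :
    Nonempty ((EtCoh.pull f).obj ((EtShriek.extZero j).obj G) ≅
      (EtShriek.extZero (pullback.fst f j)).obj ((EtCoh.pull (pullback.snd f j)).obj G)) := by
  open Groth.Agent.H4.PullComp Groth.Agent.H4.EtRestr Groth.Agent.H4.ExtZeroStalk in
  apply Groth.Agent.S0652.result (pullback.fst f j) ((EtCoh.pull (pullback.snd f j)).obj G)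
    ((EtCoh.pull f).obj ((EtShriek.extZero j).obj G))
  · -- restriction
    have hunit : IsIso ((EtShriek.extZeroAdj j).unit.app G) := inferInstance
    exact ⟨(pullRestrIso (pullback.fst f j)).symm.app _ ≪≫
      (pullSquare f j (pullback.snd f j) (pullback.fst f j) pullback.condition).app _ ≪≫
      (EtCoh.pull (pullback.snd f j)).mapIso
        ((pullRestrIso j).app _ ≪≫ (asIso ((EtShriek.extZeroAdj j).unit.app G)).symm)⟩
  · -- vanishing of stalks
    intro Ω _ _ ξ hξ
    refine IsZero.of_iso ?_ ((Groth.Agent.H4.StalkPull.stalkPullIso f ξ).symm.app _)
    apply isZero_stalk_extZero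
    intro u hu
    have hmem : ξ.base default ∈ Set.range (pullback.fst f j).base := by
      refine ⟨(pullback.lift ξ u hu.symm).base default, ?_⟩
      have := pullback.lift_fst ξ u hu.symm
      exact congrArg (fun t : Spec (CommRingCat.of Ω) ⟶ X => t.base default) this
    exact hξ ⟨default, rfl⟩ hmem

end Groth.Agent.S3120
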