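import Groth.Statements.S3134
import Mathlib.LinearAlgebra.Matrix.Adjugate
import Mathlib.Tactic

set_option autoImplicit false
open Polynomial
open SGA4h

namespace Groth.Agent.S3134

open Matrix Finset

theorem derivative_det {n : Type*} [Fintype n] [DecidableEq n] {R : Type*} [CommRing R]
    (M : Matrix n n R[X]) :
    derivative M.det = ∑ j, (M.updateCol j (fun i => derivative (M i j))).det := by
  simp only [Matrix.det_apply, map_sum]
  rw [Finset.sum_comm]
  apply Finset.sum_congr rfl
  intro σ _
  rw [Units.smul_def, map_zsmul, derivative_prod_finset, Finset.smul_sum]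
  apply Finset.sum_congr rfl
  intro j _
  rw [Units.smul_def]
  congr 1
  rw [← Finset.prod_erase_mul (Finset.univ) _ (Finset.mem_univ j)]
  congr 1
  · apply Finset.prod_congr rfl
    intro i hi
    rw [Matrix.updateCol_ne (Finset.ne_of_mem_erase hi)]
  · rw [Matrix.updateCol_self]

theorem derivative_det_eq_trace {n : Type*} [Fintype n] [DecidableEq n] {R : Type*} [CommRing R]
    (M : Matrix n n R[X]) :
    derivative M.det = Matrix.trace (M.adjugate * M.map (derivative : R[X] → R[X])) := by
  rw [derivative_det]
  simp only [Matrix.trace, Matrix.diag, Matrix.mul_apply]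
  apply Finset.sum_congr rfl
  intro j _
  rw [← Matrix.cramer_apply, Matrix.cramer_eq_adjugate_mulVec]
  simp [Matrix.mulVec, dotProduct]

section
variable {R : Type} [CommRing R] {m : Type} [Fintype m] [DecidableEq m] (A : Matrix m m R)
set_option linter.unusedSectionVars false

/-- the matrix `Σ Aᵏ Xᵏ` of power series -/
noncomputable def geomMat : Matrix m m (PowerSeries R) :=
  fun i j => PowerSeries.mk (fun k => (A ^ k) i j)

noncomputable def MP : Matrix m m (PowerSeries R) :=
  1 - (PowerSeries.X : PowerSeries R) • A.map (PowerSeries.C)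

theorem MP_mul_geomMat : MP A * geomMat A = 1 := by
  ext i l : 1
  rw [MP, Matrix.sub_mul, Matrix.one_mul, Matrix.smul_mul, Matrix.sub_apply, Matrix.smul_apply,
    Matrix.mul_apply]
  ext k
  rw [map_sub, smul_eq_mul]
  simp only [geomMat, Matrix.map_apply, PowerSeries.coeff_mk]
  rcases k with _ | k
  · simp [Matrix.one_apply]
  · rw [PowerSeries.coeff_succ_X_mul, map_sum]
    simp only [PowerSeries.coeff_C_mul, PowerSeries.coeff_mk]
    rw [pow_succ', Matrix.mul_apply]
    simp [Matrix.one_apply]
    split_ifs <;> simp

theorem coeff_trace_geom (k : ℕ) :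
    PowerSeries.coeff k (Matrix.trace (geomMat A * ((PowerSeries.X : PowerSeries R) • A.map (PowerSeries.C)))) =
      if k = 0 then 0 else (A ^ k).trace := by
  simp only [Matrix.trace, Matrix.diag, Matrix.mul_apply, Matrix.smul_apply, Matrix.map_apply,
    smul_eq_mul, map_sum, geomMat]
  rcases k with _ | k
  · simp
  · simp only [Nat.succ_ne_zero, if_false]
    apply Finset.sum_congr rfl
    intro i _
    rw [pow_succ, Matrix.mul_apply]
    apply Finset.sum_congr rfl
    intro j _
    rw [mul_comm (PowerSeries.X : PowerSeries R), ← mul_assoc, PowerSeries.coeff_succ_mul_X,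
      mul_comm, PowerSeries.coeff_C_mul, PowerSeries.coeff_mk, mul_comm]

end

section
variable {R : Type} [CommRing R] {m : Type} [Fintype m] [DecidableEq m] (A : Matrix m m R)
set_option linter.unusedSectionVars false

theorem map_derivative_charmat :
    ((1 : Matrix m m R[X]) - (X : R[X]) • A.map C).map (derivative : R[X] → R[X]) = -(A.map C) := by
  ext i j : 1
  simp only [Matrix.map_apply, Matrix.sub_apply, Matrix.smul_apply, Matrix.neg_apply, smul_eq_mul,
    Matrix.one_apply]
  split_ifs <;> simp

theorem map_coe_charmat :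
    ((1 : Matrix m m R[X]) - (X : R[X]) • A.map C).map
      (Polynomial.coeToPowerSeries.ringHom : R[X] →+* PowerSeries R) = MP A := by
  ext i j : 1
  simp only [MP, Matrix.map_apply, Matrix.sub_apply, Matrix.smul_apply, smul_eq_mul,
    Matrix.one_apply, map_sub, map_mul]
  split_ifs <;> simp

theorem adjugate_MP : (MP A).adjugate = (MP A).det • geomMat A := by
  calc (MP A).adjugate = (MP A).adjugate * (MP A * geomMat A) := by
        rw [MP_mul_geomMat, Matrix.mul_one]
    _ = ((MP A).adjugate * MP A) * geomMat A := by rw [Matrix.mul_assoc]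
    _ = (MP A).det • geomMat A := by
        rw [Matrix.adjugate_mul, Matrix.smul_mul, Matrix.one_mul]

theorem main_identity :
    ((-(X * Polynomial.derivative A.charpolyRev) : R[X]) : PowerSeries R) =
      (A.charpolyRev : PowerSeries R) * PowerSeries.mk (fun n => if n = 0 then 0 else (A ^ n).trace) := by
  have h1 : -(X * Polynomial.derivative A.charpolyRev) =
      Matrix.trace (((1 : Matrix m m R[X]) - (X : R[X]) • A.map C).adjugate *
        ((X : R[X]) • A.map C)) := by
    rw [Matrix.charpolyRev, derivative_det_eq_trace, map_derivative_charmat, Matrix.mul_neg,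
      Matrix.trace_neg, mul_neg, neg_neg, Matrix.mul_smul, Matrix.trace_smul, smul_eq_mul]
  have hcoe : ∀ p : R[X], (p : PowerSeries R) = Polynomial.coeToPowerSeries.ringHom p := fun _ => rfl
  rw [h1, hcoe, hcoe, Matrix.charpolyRev, RingHom.map_det, AddMonoidHom.map_trace]
  have hM : (Polynomial.coeToPowerSeries.ringHom : R[X] →+* PowerSeries R).mapMatrix
      ((1 : Matrix m m R[X]) - (X : R[X]) • A.map C) = MP A := map_coe_charmat A
  have h2 : (((1 : Matrix m m R[X]) - (X : R[X]) • A.map C).adjugate * ((X : R[X]) • A.map C)).map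
      (Polynomial.coeToPowerSeries.ringHom : R[X] →+* PowerSeries R) =
      (MP A).adjugate * ((PowerSeries.X : PowerSeries R) • A.map (PowerSeries.C)) := by
    rw [Matrix.map_mul, ← RingHom.mapMatrix_apply, RingHom.map_adjugate, hM]
    congr 1
    ext i j : 1
    simp
    exact mul_comm _ _
  rw [hM, h2, adjugate_MP, Matrix.smul_mul, Matrix.trace_smul, smul_eq_mul]
  congr 1
  ext k
  rw [coeff_trace_geom, PowerSeries.coeff_mk]
end


/-- For a square matrix A over a commutative ring, with P(T) = det(1 − A·T), one has −T·P′(T) = P(T) ·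
Σ_{n ≥ 1} Tr(Aⁿ) Tⁿ as formal power series (equivalently T d/dT log P(T)⁻¹ = Σ_{n≥1} Tr(Aⁿ) Tⁿ). -/
theorem result (R : Type) [CommRing R] (m : Type) [Fintype m] [DecidableEq m]
    (A : Matrix m m R) :
    ((-(X * Polynomial.derivative A.charpolyRev) : R[X]) : PowerSeries R) =
      (A.charpolyRev : PowerSeries R) * PowerSeries.mk (fun n => if n = 0 then 0 else (A ^ n).trace) := by
  exact main_identity A

end Groth.Agent.S3134
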