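import Groth.Statements.S3207
import Groth.Agent.H22.QFRankOne
import Mathlib.AlgebraicGeometry.Morphisms.FlatMono
import Mathlib.AlgebraicGeometry.Morphisms.FormallyUnramified

set_option autoImplicit false
universe u
open CategoryTheory CategoryTheory.Limits AlgebraicGeometry
open SGA7

namespace Groth.Agent.S3207

/-- Let g : T -> S be locally quasi-finite, of finite presentation, separated and flat. If for every
maximal point s of S (a point with no proper generization) the fibre of g over s is either empty or
mapped isomorphically onto Spec κ(s) (rank at most 1), then g is an open immersion. -/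
theorem result {T S : Scheme.{u}} (g : T ⟶ S) [LocallyQuasiFinite g]
    [LocallyOfFinitePresentation g] [QuasiCompact g] [IsSeparated g] [Flat g]
    (h : ∀ s : S, (∀ t : S, t ⤳ s → t = s) →
      IsEmpty ↑(pullback g (S.fromSpecResidueField s)) ∨ IsIso (pullback.snd g (S.fromSpecResidueField s))) :
    IsOpenImmersion g := by
  haveI : LocallyOfFiniteType g := inferInstance
  have hall := Groth.Agent.H22.QFRankOne.forall_fibre_of_maximal g h
  have hiso : ∀ t : T, IsIso (g.fiberToSpecResidueField (g t)) := by
    intro t
    rcases hall (g t) with he | hi
    · exact (he.false (g.asFiber t)).elim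
    · exact hi
  -- universally injective
  haveI : UniversallyInjective g := by
    have h3 : UniversallyInjective g ↔ (Function.Injective g ∧
        ∀ x, (g.residueFieldMap x).hom.IsPurelyInseparable) :=
      (tfae_universallyInjective g).out 0 2
    rw [h3]
    refine ⟨fun t₁ t₂ h12 => ?_, fun t => ?_⟩
    · haveI := hiso t₂
      exact Groth.Agent.H22.QFRankOne.eq_of_map_eq g t₂ t₁ h12
    · haveI := hiso t
      have hbij := Groth.Agent.H22.QFRankOne.bijective_residueFieldMap g t
      letI := (g.residueFieldMap t).hom.toAlgebra
      change IsPurelyInseparable (S.residueField (g t)) (T.residueField t)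
      rw [isPurelyInseparable_iff]
      intro x
      obtain ⟨a, rfl⟩ := hbij.2 x
      exact ⟨isIntegral_algebraMap, fun _ => ⟨a, rfl⟩⟩
  -- formally unramified
  haveI : FormallyUnramified g := by
    refine HasRingHomProperty.of_stalkMap (P := @FormallyUnramified)
      RingHom.FormallyUnramified.ofLocalizationPrime (fun t => ?_)
    haveI := hiso t
    have hbij := Groth.Agent.H22.QFRankOne.bijective_residueFieldMap g t
    have hmax := Groth.Agent.H22.QFRankOne.map_maximalIdeal g t
    algebraize [(g.stalkMap t).hom]
    haveI : IsLocalHom (algebraMap (S.presheaf.stalk (g t)) (T.presheaf.stalk t)) :=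
      inferInstanceAs <| IsLocalHom (g.stalkMap t).hom
    haveI : Algebra.EssFiniteType (S.presheaf.stalk (g t)) (T.presheaf.stalk t) := by
      rw [← RingHom.essFiniteType_algebraMap, RingHom.algebraMap_toAlgebra]
      exact LocallyOfFiniteType.stalkMap g t
    haveI : Algebra.IsSeparable (IsLocalRing.ResidueField (S.presheaf.stalk (g t)))
        (IsLocalRing.ResidueField (T.presheaf.stalk t)) := by
      refine ⟨fun x => ?_⟩
      obtain ⟨a, ha⟩ := hbij.2 x
      have hx : x = algebraMap (IsLocalRing.ResidueField (S.presheaf.stalk (g t)))
          (IsLocalRing.ResidueField (T.presheaf.stalk t)) a := ha.symm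
      rw [hx]
      exact isSeparable_algebraMap (F := IsLocalRing.ResidueField (S.presheaf.stalk (g t)))
        (K := IsLocalRing.ResidueField (T.presheaf.stalk t)) a
    exact Algebra.FormallyUnramified.of_map_maximalIdeal hmax
  -- the diagonal is an isomorphism
  have hs : Surjective (pullback.diagonal g) := (UniversallyInjective.iff_diagonal g).mp inferInstance
  have ho : IsOpenImmersion (pullback.diagonal g) := inferInstance
  have hi : IsIso (pullback.diagonal g) := (isIso_iff_isOpenImmersion_and_surjective _).mpr ⟨ho, hs⟩
  have hm : Mono g := (pullback.isIso_diagonal_iff g).mp hi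
  exact IsOpenImmersion.of_flat_of_mono g

end Groth.Agent.S3207
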