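import Groth.Statements.S3208
import Groth.Agent.H16.RootsCongr

set_option autoImplicit false
open SGA7

namespace Groth.Agent.S3208

/-- Let E be a commutative ring which is finitely generated and torsion-free as an additive group, u an
element of E of finite multiplicative order (u^m = 1 for some m > 0), and n ≥ 2 an integer with u ≡
1 modulo nE (i.e. 1 - u = n·v for some v ∈ E). Then u² = 1, and if n ≥ 3 then u = 1. -/
theorem result (E : Type) [CommRing E] [NoZeroSMulDivisors ℤ E] [Module.Finite ℤ E] (u : E) (m : ℕ) (hm : 0 < m)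
    (hu : u ^ m = 1) (n : ℕ) (hn : 2 ≤ n) (hcong : ∃ v : E, 1 - u = (n : E) * v) :
    u ^ 2 = 1 ∧ (3 ≤ n → u = 1) := by
  obtain ⟨v, hv⟩ := hcong
  have hdiv : (n : E) ∣ u - 1 := ⟨-v, by linear_combination -hv⟩
  constructor
  · by_cases h3 : 3 ≤ n
    · have := Groth.Agent.H16.claimB m u hm hu n h3 hdiv
      rw [this, one_pow]
    · have hn2 : n = 2 := by omega
      subst hn2
      have hdiv4 : ((4 : ℕ) : E) ∣ u ^ 2 - 1 := by
        refine ⟨-v * (1 - v), ?_⟩
        have hu' : u = 1 - 2 * v := by
          push_cast at hv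
          linear_combination -hv
        rw [hu']
        push_cast
        ring
      have hu2 : (u ^ 2) ^ m = 1 := by
        rw [← pow_mul, mul_comm, pow_mul, hu, one_pow]
      exact Groth.Agent.H16.claimB m (u ^ 2) hm hu2 4 (by norm_num) hdiv4
  · intro h3
    exact Groth.Agent.H16.claimB m u hm hu n h3 hdiv

end Groth.Agent.S3208
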