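import Groth.Statements.S3209
import Mathlib.LinearAlgebra.TensorProduct.RightExactness
import Mathlib.Tactic

set_option autoImplicit false
universe u
open TensorProduct
open SGA7

namespace Groth.Agent.S3209

theorem algmap_eq_lTensor (R S M N : Type u) [CommRing R] [CommRing S] [CommRing M] [CommRing N]
    [Algebra R S] [Algebra R M] [Algebra R N] (h : M →ₐ[R] N) (z : S ⊗[R] M) :
    Algebra.TensorProduct.map (AlgHom.id R S) h z = LinearMap.lTensor S h.toLinearMap z := by
  induction z using TensorProduct.induction_on with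
  | zero => simp
  | tmul s m => simp
  | add x y hx hy => rw [map_add, map_add, hx, hy]

theorem main (R B' B C S : Type u) [CommRing R] [CommRing B'] [CommRing B] [CommRing C]
    [CommRing S] [Algebra R B'] [Algebra R B] [Algebra R C] [Algebra R S]
    (f : B' →ₐ[R] B) (hf : Function.Surjective f) (g : C →ₐ[R] B)
    (hJ : Function.Injective (LinearMap.lTensor S (LinearMap.ker f.toLinearMap).subtype)) :
    let P := AlgHom.equalizer (f.comp (AlgHom.fst R B' C)) (g.comp (AlgHom.snd R B' C))
    let p₁ : ↥P →ₗ[R] B' := ((AlgHom.fst R B' C).comp P.val).toLinearMap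
    let p₂ : ↥P →ₗ[R] C := ((AlgHom.snd R B' C).comp P.val).toLinearMap
    Function.Injective (fun z : S ⊗[R] ↥P => (LinearMap.lTensor S p₁ z, LinearMap.lTensor S p₂ z)) ∧
    ∀ (x : S ⊗[R] B') (y : S ⊗[R] C),
      LinearMap.lTensor S f.toLinearMap x = LinearMap.lTensor S g.toLinearMap y →
        ∃ z : S ⊗[R] ↥P, LinearMap.lTensor S p₁ z = x ∧ LinearMap.lTensor S p₂ z = y := by
  intro P p₁ p₂
  let J := LinearMap.ker f.toLinearMap
  have hJmem : ∀ b : B', b ∈ J ↔ f b = 0 := fun b => LinearMap.mem_ker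
  have hmemP : ∀ (b' : B') (c : C), (b', c) ∈ P ↔ f b' = g c := by
    intro b' c
    simp [P, AlgHom.mem_equalizer]
  let ι : ↥J →ₗ[R] ↥P :=
    { toFun := fun j => ⟨(j.1, 0), by
        rw [hmemP]
        have := (hJmem j.1).mp j.2
        simpa using this⟩
      map_add' := fun a b => by ext <;> simp
      map_smul' := fun r a => by ext <;> simp }
  have hι₁ : p₁ ∘ₗ ι = J.subtype := by
    ext j; rfl
  have hι₂ : p₂ ∘ₗ ι = 0 := by
    ext j; rfl
  have hex : Function.Exact ι p₂ := by
    intro z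
    constructor
    · intro hz
      obtain ⟨⟨b', c⟩, hzP⟩ := z
      have hc : c = 0 := hz
      subst hc
      have hb : b' ∈ J := by
        rw [hJmem]
        have := (hmemP b' 0).mp hzP
        simpa using this
      exact ⟨⟨b', hb⟩, rfl⟩
    · rintro ⟨j, rfl⟩
      rfl
  have hsurj : Function.Surjective p₂ := by
    intro c
    obtain ⟨b', hb'⟩ := hf (g c)
    exact ⟨⟨(b', c), (hmemP b' c).mpr hb'⟩, rfl⟩
  have hexf : Function.Exact J.subtype f.toLinearMap := by
    intro b
    constructor
    · intro hb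
      exact ⟨⟨b, hb⟩, rfl⟩
    · rintro ⟨j, rfl⟩
      exact j.2
  have hfsurj : Function.Surjective f.toLinearMap := hf
  have hexS := lTensor_exact S hex hsurj
  have hexfS := lTensor_exact S hexf hfsurj
  have hsurjS := LinearMap.lTensor_surjective S hsurj
  have hcomm : f.toLinearMap ∘ₗ p₁ = g.toLinearMap ∘ₗ p₂ := by
    ext z
    exact (hmemP z.1.1 z.1.2).mp z.2
  constructor
  · intro z z' hzz'
    rw [← sub_eq_zero]
    have h1 : LinearMap.lTensor S p₁ (z - z') = 0 := by
      rw [map_sub, sub_eq_zero]; exact congrArg Prod.fst hzz'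
    have h2 : LinearMap.lTensor S p₂ (z - z') = 0 := by
      rw [map_sub, sub_eq_zero]; exact congrArg Prod.snd hzz'
    obtain ⟨w, hw⟩ := (hexS (z - z')).mp h2
    rw [← hw] at h1 ⊢
    rw [← LinearMap.comp_apply, ← LinearMap.lTensor_comp, hι₁] at h1
    have : w = 0 := hJ (by rw [h1, map_zero])
    rw [this, map_zero]
  · intro x y hxy
    obtain ⟨z₀, hz₀⟩ := hsurjS y
    have h1 : LinearMap.lTensor S f.toLinearMap (x - LinearMap.lTensor S p₁ z₀) = 0 := by
      rw [map_sub, ← LinearMap.comp_apply, ← LinearMap.lTensor_comp, hcomm, LinearMap.lTensor_comp,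
        LinearMap.comp_apply, hz₀, hxy, sub_self]
    obtain ⟨w, hw⟩ := (hexfS _).mp h1
    refine ⟨z₀ + LinearMap.lTensor S ι w, ?_, ?_⟩
    · rw [map_add, ← LinearMap.comp_apply, ← LinearMap.lTensor_comp, hι₁, hw]
      abel
    · rw [map_add, ← LinearMap.comp_apply, ← LinearMap.lTensor_comp, hι₂, hz₀]
      simp

/-- Let f : B' → B be a surjective map of R-algebras with kernel J, g : C → B a map of R-algebras, P =
B' ×_B C their fibre product (the equalizer of f ∘ pr₁ and g ∘ pr₂ in B' × C) and S an R-algebra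
such that S ⊗_R J → S ⊗_R B' is injective (this holds when Tor_1^R(B, S) = 0, the published
hypothesis, and in particular when S is flat). Then the canonical map S ⊗_R P → (S ⊗_R B') ×_{S ⊗_R
B} (S ⊗_R C) is bijective: it is injective, and every pair with the same image in S ⊗_R B comes from
S ⊗_R P. -/
theorem result (R B' B C S : Type u) [CommRing R] [CommRing B'] [CommRing B] [CommRing C]
    [CommRing S] [Algebra R B'] [Algebra R B] [Algebra R C] [Algebra R S]
    (f : B' →ₐ[R] B) (hf : Function.Surjective f) (g : C →ₐ[R] B)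
    (hJ : Function.Injective (LinearMap.lTensor S (LinearMap.ker f.toLinearMap).subtype)) :
    letI P := AlgHom.equalizer (f.comp (AlgHom.fst R B' C)) (g.comp (AlgHom.snd R B' C))
    letI φ₁ := Algebra.TensorProduct.map (AlgHom.id R S) ((AlgHom.fst R B' C).comp P.val)
    letI φ₂ := Algebra.TensorProduct.map (AlgHom.id R S) ((AlgHom.snd R B' C).comp P.val)
    Function.Injective (fun z : S ⊗[R] ↥P => (φ₁ z, φ₂ z)) ∧
    ∀ (x : S ⊗[R] B') (y : S ⊗[R] C),
      Algebra.TensorProduct.map (AlgHom.id R S) f x = Algebra.TensorProduct.map (AlgHom.id R S) g y →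
        ∃ z : S ⊗[R] ↥P, φ₁ z = x ∧ φ₂ z = y := by
  have h := main R B' B C S f hf g hJ
  obtain ⟨h1, h2⟩ := h
  refine ⟨?_, ?_⟩
  · intro z z' hzz'
    apply h1
    simp only [Prod.mk.injEq] at hzz' ⊢
    rw [← algmap_eq_lTensor, ← algmap_eq_lTensor, ← algmap_eq_lTensor, ← algmap_eq_lTensor]
    exact hzz'
  · intro x y hxy
    rw [algmap_eq_lTensor, algmap_eq_lTensor] at hxy
    obtain ⟨z, hz1, hz2⟩ := h2 x y hxy
    refine ⟨z, ?_, ?_⟩
    · rw [algmap_eq_lTensor]; exact hz1
    · rw [algmap_eq_lTensor]; exact hz2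

end Groth.Agent.S3209
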