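import Groth.Statements.S3214
import Mathlib

set_option autoImplicit false
open Polynomial
universe u
open SGA7II

namespace Groth.Agent.S3214

/-- In the recursive form established in its proof: let A = Z[X_1, ..., X_a] (a >= 1), P = prod_i (T -
X_i) in A[T] and S_i the i-th elementary symmetric function. Writing a_j for the coefficient of
T^{a-1} in the remainder of T^{a-1+j} modulo P, one has a_0 = 1 and sum_{i=0}^{a} (-1)^i S_i a_{j-i}
= 0 for every j > 0 (with a_m = 0 for m < 0); equivalently sum_j (-1)^j a_j is the inverse of sum_i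
S_i. (The source works in formal power series; the identity involves only polynomials.) -/
theorem result (a : ℕ) (ha : 0 < a) :
    let P : (MvPolynomial (Fin a) ℤ)[X] := ∏ i : Fin a, (X - C (MvPolynomial.X i))
    let coef : ℤ → MvPolynomial (Fin a) ℤ := fun j =>
      if j < 0 then 0 else ((X : (MvPolynomial (Fin a) ℤ)[X]) ^ (a - 1 + j.toNat) %ₘ P).coeff (a - 1)
    coef 0 = 1 ∧ ∀ j : ℕ, 0 < j →
      (∑ i ∈ Finset.range (a + 1), (-1 : MvPolynomial (Fin a) ℤ) ^ i * MvPolynomial.esymm (Fin a) ℤ i *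
        coef ((j : ℤ) - i)) = 0 := by
  classical
  intro P coef
  have hPmonic : P.Monic := monic_prod_of_monic _ _ (fun i _ => monic_X_sub_C _)
  have hPdeg : P.natDegree = a := by
    rw [natDegree_prod_of_monic _ _ (fun i _ => monic_X_sub_C _)]
    simp
  have hsmall : ∀ n, n < a → ((X : (MvPolynomial (Fin a) ℤ)[X]) ^ n %ₘ P) = X ^ n := by
    intro n hn
    rw [modByMonic_eq_self_iff hPmonic, degree_X_pow, degree_eq_natDegree hPmonic.ne_zero, hPdeg]
    exact_mod_cast hn
  have hP : P = ∑ i ∈ Finset.range (a + 1),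
      (-1) ^ i * (C (MvPolynomial.esymm (Fin a) ℤ i) * X ^ (a - i)) := by
    have h := Multiset.prod_X_sub_X_eq_sum_esymm
      (Finset.univ.val.map fun i : Fin a => (MvPolynomial.X i : MvPolynomial (Fin a) ℤ))
    have hcard : Multiset.card (Finset.univ.val.map fun i : Fin a =>
        (MvPolynomial.X i : MvPolynomial (Fin a) ℤ)) = a := by simp
    rw [hcard, Multiset.map_map] at h
    simp only [MvPolynomial.esymm_eq_multiset_esymm]
    rw [← h]
    rfl
  constructor
  · show (if (0 : ℤ) < 0 then 0 else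
      ((X : (MvPolynomial (Fin a) ℤ)[X]) ^ (a - 1 + (0 : ℤ).toNat) %ₘ P).coeff (a - 1)) = 1
    rw [if_neg (lt_irrefl _)]
    simp only [Int.toNat_zero, add_zero]
    rw [hsmall (a - 1) (by omega), coeff_X_pow, if_pos rfl]
  · intro j hj
    -- `X^(j-1) * P ≡ 0`
    have h0 : (X ^ (j - 1) * P) %ₘ P = 0 :=
      (modByMonic_eq_zero_iff_dvd hPmonic).2 (dvd_mul_left _ _)
    have hexp : X ^ (j - 1) * P = ∑ i ∈ Finset.range (a + 1),
        ((-1 : MvPolynomial (Fin a) ℤ) ^ i * MvPolynomial.esymm (Fin a) ℤ i) •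
          (X : (MvPolynomial (Fin a) ℤ)[X]) ^ (j - 1 + (a - i)) := by
      conv_lhs => rw [hP]
      rw [Finset.mul_sum]
      apply Finset.sum_congr rfl
      intro i _
      rw [smul_eq_C_mul, pow_add, map_mul, map_pow, map_neg, map_one]
      ring
    have h1 : (∑ i ∈ Finset.range (a + 1),
        ((-1 : MvPolynomial (Fin a) ℤ) ^ i * MvPolynomial.esymm (Fin a) ℤ i) •
          ((X : (MvPolynomial (Fin a) ℤ)[X]) ^ (j - 1 + (a - i)) %ₘ P)) = 0 := by
      rw [← h0, hexp]
      have := map_sum (modByMonicHom P) (fun i => ((-1 : MvPolynomial (Fin a) ℤ) ^ i *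
        MvPolynomial.esymm (Fin a) ℤ i) • (X : (MvPolynomial (Fin a) ℤ)[X]) ^ (j - 1 + (a - i)))
        (Finset.range (a + 1))
      simp only [modByMonicHom_apply, map_smul] at this
      rw [this]
    have h2 := congrArg (fun q => q.coeff (a - 1)) h1
    simp only [finsetSum_coeff, coeff_smul, smul_eq_mul, coeff_zero] at h2
    rw [← h2]
    apply Finset.sum_congr rfl
    intro i hi
    rw [Finset.mem_range] at hi
    congr 1
    show (if ((j : ℤ) - (i : ℤ)) < 0 then 0 else
      ((X : (MvPolynomial (Fin a) ℤ)[X]) ^ (a - 1 + ((j : ℤ) - (i : ℤ)).toNat) %ₘ P).coeff (a - 1))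
      = _
    by_cases hij : (j : ℤ) - (i : ℤ) < 0
    · rw [if_pos hij]
      have hlt : j - 1 + (a - i) < a - 1 := by omega
      rw [hsmall _ (by omega), coeff_X_pow, if_neg (by omega)]
    · rw [if_neg hij]
      have : a - 1 + ((j : ℤ) - (i : ℤ)).toNat = j - 1 + (a - i) := by omega
      rw [this]

end Groth.Agent.S3214
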