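import Groth.Statements.S3240
import Groth.Agent.H69.SkyPushTorsion

set_option autoImplicit false
universe u
open CategoryTheory AlgebraicGeometry
open Dix

namespace Groth.Agent.S3240

/-- Let X be quasi-compact and quasi-separated, x a point of X with i_x : Spec κ(x) → X, and F an
abelian étale sheaf on Spec κ(x). Then for every q ≥ 1 the sheaf R^q i_{x*} F is a torsion sheaf on
X_ét and the group H^q(X_ét, i_{x*} F) is a torsion group. -/
theorem result (X : Scheme.{u}) [CompactSpace X] [QuasiSeparatedSpace X] (x : X) (F : EtCoh.Ab (Spec (X.residueField x))) (q : ℕ) (hq : 1 ≤ q) : EtCoh.IsTorsion ((EtCoh.Rpush (X.fromSpecResidueField x) q).obj F) ∧ IsAddTorsion (EtCoh.H X ((Dix.skyPush X x).obj F) q) := by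
  obtain ⟨p, rfl⟩ : ∃ p, q = p + 1 := ⟨q - 1, by omega⟩
  refine ⟨?_, ?_⟩
  · exact Groth.Agent.H69.SkyPushTorsion.isTorsion_Rpush_succ (k := X.residueField x)
      (X.fromSpecResidueField x) F p
  · intro y
    exact Groth.Agent.H69.SkyPushTorsion.isOfFinAddOrder_H_push (k := X.residueField x)
      (X.fromSpecResidueField x) F p y

end Groth.Agent.S3240
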