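import Groth.Statements.S3243
import Groth.Agent.H69.FieldConstH1

set_option autoImplicit false
universe u
open CategoryTheory AlgebraicGeometry
open Dix

namespace Groth.Agent.S3243

/-- Let X be quasi-compact and quasi-separated, x a point of X and M a torsion-free abelian group, M_x
the constant sheaf on Spec κ(x). Then H¹(X_ét, i_{x*} M_x) = 0. -/
theorem result (X : Scheme.{u}) [CompactSpace X] [QuasiSeparatedSpace X] (x : X) (M : Type) [AddCommGroup M] [IsAddTorsionFree M] : Subsingleton (EtCoh.H X ((Dix.skyPush X x).obj (EtCoh.const (Spec (X.residueField x)) M)) 1) := by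
  have htf : IsAddTorsionFree (AddCommGrpCat.of (ULift.{u + 1} M)) := by
    change IsAddTorsionFree (ULift.{u + 1} M)
    refine ⟨fun n hn a b hab => ?_⟩
    apply ULift.ext
    have h2 : n • a.down = n • b.down := congrArg ULift.down hab
    exact nsmul_right_injective hn h2
  have h1 := Groth.Agent.H69.FieldConstH1.H1_cst_subsingleton_of_field (X.residueField x)
    (AddCommGrpCat.of (ULift.{u + 1} M))
  exact Groth.Agent.H69.FieldConstH1.H1_push_subsingleton (X.fromSpecResidueField x) _ h1

end Groth.Agent.S3243
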