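import Groth.Statements.S3246
import Groth.Agent.H39.ExtTorsion2
import Groth.Agent.S0108

set_option autoImplicit false
universe u
open CategoryTheory AlgebraicGeometry
open Dix

namespace Groth.Agent.S3246

/-- Let X be a scheme, ℓ a prime and n an integer with cd_ℓ(X) ≤ n (étale cohomology of ℓ-primary
torsion sheaves vanishes above degree n). Then the ℓ-primary torsion of H^i(X_ét, G_m) is zero for i
> n + 1; if moreover ℓ is invertible on X, it is zero for i > n. -/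
theorem result (X : Scheme.{u}) (ℓ : ℕ) (hℓ : ℓ.Prime) (n : ℕ) (hcd : Dix.CohDimLEAt X ℓ n) : (∀ i : ℕ, n + 1 < i → ∀ ξ : EtCoh.H X (EtCoh.Gm X) i, (∃ k : ℕ, ℓ ^ k • ξ = 0) → ξ = 0) ∧ (Dix.InvertibleOn X ℓ → ∀ i : ℕ, n < i → ∀ ξ : EtCoh.H X (EtCoh.Gm X) i, (∃ k : ℕ, ℓ ^ k • ξ = 0) → ξ = 0) := by
  have H : ∀ G : EtCoh.Ab X, ℓ • 𝟙 G = 0 → ∀ q : ℕ, n < q →
      ∀ x : Abelian.Ext ((constantSheaf X.smallEtaleTopology AddCommGrpCat.{u + 1}).obj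
        (AddCommGrpCat.of (ULift ℤ))) G q, x = 0 := by
    intro G hG q hq x
    haveI : Subsingleton (EtCoh.H X G q) :=
      hcd G (Groth.Agent.H39.ExtTorsion2.isPrimaryTorsion_of_nsmul_id_eq_zero G ℓ hG) q hq
    exact Subsingleton.elim (α := EtCoh.H X G q) _ _
  refine ⟨fun i hi ξ hξ => ?_, fun hinv i hi ξ hξ => ?_⟩
  · exact Groth.Agent.H39.ExtTorsion.eq_zero_of_pow_nsmul_eq_zero _ (EtCoh.Gm X) ℓ n H i hi ξ hξ
  · haveI : Epi (ℓ • 𝟙 (EtCoh.Gm X)) :=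
      Groth.Agent.S0108.result X ℓ (Groth.Agent.H39.ExtTorsion2.isUnit_natCast_of_invertibleOn X ℓ hinv)
    exact Groth.Agent.H39.ExtTorsion2.eq_zero_of_pow_nsmul_eq_zero_of_epi _ (EtCoh.Gm X) ℓ n H i hi ξ hξ

end Groth.Agent.S3246
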