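import Groth.Statements.S3350

set_option autoImplicit false
open Finset
open Models Models.NumericalType

namespace Groth.Agent.S3350

private lemma row_split {n : ℕ} (T : Models.NumericalType n) (i j : Fin n) (hij : i ≠ j) :
    T.a i i * T.m i + T.a i j * T.m j +
      ∑ k ∈ (univ.erase i).erase j, T.a i k * T.m k = 0 := by
  have h := congrFun T.mulVec_m i
  simp only [Matrix.mulVec, dotProduct, Pi.zero_apply] at h
  rw [← Finset.add_sum_erase univ _ (mem_univ i)] at h
  have hj : j ∈ univ.erase i := by simp [hij.symm]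
  rw [← Finset.add_sum_erase _ _ hj] at h
  linarith

private lemma rest_nonneg {n : ℕ} (T : Models.NumericalType n) (i j : Fin n) :
    0 ≤ ∑ k ∈ (univ.erase i).erase j, T.a i k * T.m k := by
  apply Finset.sum_nonneg
  intro k hk
  simp only [mem_erase, mem_univ, and_true] at hk
  exact mul_nonneg (T.offDiag_nonneg i k (Ne.symm hk.2)) (T.m_pos k).le

private lemma rest_zero {n : ℕ} (T : Models.NumericalType n) (i j : Fin n)
    (h : ∑ k ∈ (univ.erase i).erase j, T.a i k * T.m k = 0) (k : Fin n) (hki : k ≠ i) (hkj : k ≠ j) :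
    T.a i k = 0 := by
  have hnn : ∀ k ∈ (univ.erase i).erase j, 0 ≤ T.a i k * T.m k := by
    intro k hk
    simp only [mem_erase, mem_univ, and_true] at hk
    exact mul_nonneg (T.offDiag_nonneg i k (Ne.symm hk.2)) (T.m_pos k).le
  have := (Finset.sum_eq_zero_iff_of_nonneg hnn).mp h k (by simp [hki, hkj])
  rcases mul_eq_zero.mp this with h | h
  · exact h
  · have := T.m_pos k
    omega

/-- Classification of proper subgraphs with two vertices: Let T be a numerical type on n > 2 indices and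
i ≠ j two (-2)-indices (g = 0 and a_ii = -2 w_i, a_jj = -2 w_j) with a_ij > 0. Then, after possibly
exchanging i and j, one of the following holds with w = w_i: (A2) w_j = w, a_ij = w, 2 m_i ≥ m_j and
2 m_j ≥ m_i; (B2) w_j = 2w, a_ij = 2w, m_i ≥ m_j and 2 m_j ≥ m_i; (G2) w_j = 3w, a_ij = 3w, 2 m_i ≥
3 m_j and 2 m_j ≥ m_i. -/
theorem result {n : ℕ} (T : Models.NumericalType n) (hn : 2 < n) (i j : Fin n)
    (hij : i ≠ j) (hi : T.IsMinusTwo i) (hj : T.IsMinusTwo j) (hpos : 0 < T.a i j) :
    ∃ i' j' : Fin n, ((i' = i ∧ j' = j) ∨ (i' = j ∧ j' = i)) ∧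
      ((T.w j' = T.w i' ∧ T.a i' j' = T.w i' ∧ T.m j' ≤ 2 * T.m i' ∧ T.m i' ≤ 2 * T.m j') ∨
        (T.w j' = 2 * T.w i' ∧ T.a i' j' = 2 * T.w i' ∧ T.m j' ≤ T.m i' ∧ T.m i' ≤ 2 * T.m j') ∨
        (T.w j' = 3 * T.w i' ∧ T.a i' j' = 3 * T.w i' ∧ 3 * T.m j' ≤ 2 * T.m i' ∧ T.m i' ≤ 2 * T.m j')) := by
  have hsym : T.a j i = T.a i j := by
    have := T.symm
    exact congrFun (congrFun this i) j
  set a := T.a i j with ha
  have hmi := T.m_pos i
  have hmj := T.m_pos j
  have hwi := T.w_pos i
  have hwj := T.w_pos j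
  have e1 := row_split T i j hij
  have e2 := row_split T j i hij.symm
  have r1 := rest_nonneg T i j
  have r2 := rest_nonneg T j i
  rw [hi.2] at e1
  rw [hj.2, hsym] at e2
  -- inequalities
  have I1 : a * T.m j ≤ 2 * T.w i * T.m i := by nlinarith
  have I2 : a * T.m i ≤ 2 * T.w j * T.m j := by nlinarith
  obtain ⟨s, hs⟩ := T.w_dvd i j
  obtain ⟨t, ht⟩ := T.w_dvd j i
  rw [hsym] at ht
  rw [← ha] at hs
  have hs1 : 1 ≤ s := by
    by_contra h
    have : s ≤ 0 := by omega
    have : T.w i * s ≤ 0 := mul_nonpos_of_nonneg_of_nonpos hwi.le this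
    omega
  have ht1 : 1 ≤ t := by
    by_contra h
    have : t ≤ 0 := by omega
    have : T.w j * t ≤ 0 := mul_nonpos_of_nonneg_of_nonpos hwj.le this
    omega
  -- strictness from connectedness
  have hstrict : a * a < 4 * T.w i * T.w j := by
    by_contra hge
    push Not at hge
    -- product of inequalities
    have hprod : a * T.m j * (a * T.m i) ≤ 2 * T.w i * T.m i * (2 * T.w j * T.m j) :=
      mul_le_mul I1 I2 (by positivity) (by positivity)
    have hmm : 0 < T.m i * T.m j := mul_pos hmi hmj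
    have hE1 : a * T.m j = 2 * T.w i * T.m i := by
      by_contra hne
      have hlt : a * T.m j < 2 * T.w i * T.m i := lt_of_le_of_ne I1 hne
      have : a * T.m j * (a * T.m i) < 2 * T.w i * T.m i * (2 * T.w j * T.m j) := by
        have h3 : 0 < a * T.m i := by positivity
        calc a * T.m j * (a * T.m i) < 2 * T.w i * T.m i * (a * T.m i) :=
              mul_lt_mul_of_pos_right hlt h3
          _ ≤ 2 * T.w i * T.m i * (2 * T.w j * T.m j) :=
              mul_le_mul_of_nonneg_left I2 (by positivity)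
      nlinarith
    have hE2 : a * T.m i = 2 * T.w j * T.m j := by
      by_contra hne
      have hlt : a * T.m i < 2 * T.w j * T.m j := lt_of_le_of_ne I2 hne
      have : a * T.m j * (a * T.m i) < 2 * T.w i * T.m i * (2 * T.w j * T.m j) := by
        have h3 : 0 < a * T.m j := by positivity
        calc a * T.m j * (a * T.m i) < a * T.m j * (2 * T.w j * T.m j) :=
              mul_lt_mul_of_pos_left hlt h3
          _ ≤ 2 * T.w i * T.m i * (2 * T.w j * T.m j) :=
              mul_le_mul_of_nonneg_right I1 (by positivity)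
      nlinarith
    have hR1 : ∑ k ∈ (univ.erase i).erase j, T.a i k * T.m k = 0 := by linarith
    have hR2 : ∑ k ∈ (univ.erase j).erase i, T.a j k * T.m k = 0 := by linarith
    -- connectedness with I = {i, j}
    have hIne : ({i, j} : Finset (Fin n)) ≠ univ := by
      intro h
      have hc : ({i, j} : Finset (Fin n)).card = n := by rw [h]; simp
      have : ({i, j} : Finset (Fin n)).card ≤ 2 := Finset.card_le_two
      omega
    obtain ⟨p, hp, q, hq, hpq⟩ := T.connected {i, j} ⟨i, by simp⟩ hIne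
    simp only [mem_insert, mem_singleton, not_or] at hp hq
    rcases hp with rfl | rfl
    · exact hpq (rest_zero T p j hR1 q hq.1 hq.2)
    · exact hpq (rest_zero T p i hR2 q hq.2 hq.1)
  have hst : s * t < 4 := by
    have h1 : a * a = T.w i * T.w j * (s * t) := by
      calc a * a = (T.w i * s) * (T.w j * t) := by rw [← hs, ← ht]
        _ = T.w i * T.w j * (s * t) := by ring
    have hww : 0 < T.w i * T.w j := mul_pos hwi hwj
    by_contra hge
    push Not at hge
    have : T.w i * T.w j * 4 ≤ T.w i * T.w j * (s * t) := mul_le_mul_of_nonneg_left hge hww.le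
    nlinarith
  have hs3 : s ≤ 3 := by nlinarith
  have ht3 : t ≤ 3 := by nlinarith
  have hcases : (s = 1 ∧ t = 1) ∨ (s = 2 ∧ t = 1) ∨ (s = 3 ∧ t = 1) ∨ (s = 1 ∧ t = 2) ∨ (s = 1 ∧ t = 3) := by
    interval_cases s <;> interval_cases t <;> simp_all
  rcases hcases with ⟨rfl, rfl⟩ | ⟨rfl, rfl⟩ | ⟨rfl, rfl⟩ | ⟨rfl, rfl⟩ | ⟨rfl, rfl⟩
  · -- a = w i = w j
    refine ⟨i, j, Or.inl ⟨rfl, rfl⟩, Or.inl ⟨by linarith, by linarith, ?_, ?_⟩⟩
    · have : T.w i * T.m j ≤ T.w i * (2 * T.m i) := by nlinarith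
      exact le_of_mul_le_mul_left this hwi
    · have : T.w j * T.m i ≤ T.w j * (2 * T.m j) := by nlinarith
      exact le_of_mul_le_mul_left this hwj
  · -- a = 2 w i = w j
    refine ⟨i, j, Or.inl ⟨rfl, rfl⟩, Or.inr (Or.inl ⟨by linarith, by linarith, ?_, ?_⟩)⟩
    · have : T.w i * T.m j ≤ T.w i * (T.m i) := by nlinarith
      exact le_of_mul_le_mul_left this hwi
    · have : T.w j * T.m i ≤ T.w j * (2 * T.m j) := by nlinarith
      exact le_of_mul_le_mul_left this hwj
  · -- a = 3 w i = w j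
    refine ⟨i, j, Or.inl ⟨rfl, rfl⟩, Or.inr (Or.inr ⟨by linarith, by linarith, ?_, ?_⟩)⟩
    · have : T.w i * (3 * T.m j) ≤ T.w i * (2 * T.m i) := by nlinarith
      exact le_of_mul_le_mul_left this hwi
    · have : T.w j * T.m i ≤ T.w j * (2 * T.m j) := by nlinarith
      exact le_of_mul_le_mul_left this hwj
  · -- a = w i = 2 w j : swap
    refine ⟨j, i, Or.inr ⟨rfl, rfl⟩, Or.inr (Or.inl ⟨by linarith, by rw [hsym]; linarith, ?_, ?_⟩)⟩
    · have : T.w j * T.m i ≤ T.w j * (T.m j) := by nlinarith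
      exact le_of_mul_le_mul_left this hwj
    · have : T.w i * T.m j ≤ T.w i * (2 * T.m i) := by nlinarith
      exact le_of_mul_le_mul_left this hwi
  · -- a = w i = 3 w j : swap
    refine ⟨j, i, Or.inr ⟨rfl, rfl⟩, Or.inr (Or.inr ⟨by linarith, by rw [hsym]; linarith, ?_, ?_⟩)⟩
    · have : T.w j * (3 * T.m i) ≤ T.w j * (2 * T.m j) := by nlinarith
      exact le_of_mul_le_mul_left this hwj
    · have : T.w i * T.m j ≤ T.w i * (2 * T.m i) := by nlinarith
      exact le_of_mul_le_mul_left this hwi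

end Groth.Agent.S3350
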