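import Groth.Statements.S3351
import Groth.Agent.H17.Lattice

set_option autoImplicit false
open Models

namespace Groth.Agent.S3351

/-- Let L be a finite free Z-module with a positive definite symmetric integral bilinear form, A ⊆ L a
submodule with L/A torsion free and B the orthogonal complement of A. Write M^# for the dual lattice
of a sublattice M, identified here with the Z-dual Hom(M, Z) through the form. Then the natural maps
L/(A ⊕ B) → B^#/B and L/(A ⊕ B) → A^#/A are injective: an element x of L whose functional ⟨x, -⟩ on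
B (resp. on A) is represented by an element of B (resp. of A) lies in A ⊕ B. Moreover the
restriction maps L^# → B^# and L^# → A^# are surjective, so that the cokernels of the two injections
are quotients of L^#/L. -/
theorem result {L : Type} [AddCommGroup L] [Module.Finite ℤ L] [Module.Free ℤ L]
    (B : LinearMap.BilinForm ℤ L) (hsymm : B.IsSymm) (hpos : ∀ x, x ≠ 0 → 0 < B x x)
    (A : Submodule ℤ L) (htf : ∀ (c : ℤ) (x : L), c ≠ 0 → c • x ∈ A → x ∈ A) :
    (∀ x : L, (∃ b ∈ B.orthogonal A, ∀ b' ∈ B.orthogonal A, B x b' = B b b') → x ∈ A ⊔ B.orthogonal A) ∧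
      (∀ x : L, (∃ a ∈ A, ∀ a' ∈ A, B x a' = B a a') → x ∈ A ⊔ B.orthogonal A) ∧
      (∀ ψ : Module.Dual ℤ ↥(B.orthogonal A), ∃ φ : Module.Dual ℤ L, φ ∘ₗ (B.orthogonal A).subtype = ψ) ∧
      (∀ ψ : Module.Dual ℤ ↥A, ∃ φ : Module.Dual ℤ L, φ ∘ₗ A.subtype = ψ) := by
  have key : ∀ y : L, (∀ b' ∈ B.orthogonal A, B y b' = 0) → y ∈ A := by
    intro y hy
    have hposA : ∀ x : A, x ≠ 0 → 0 < (B.restrict A) x x := by
      intro x hx
      simp only [LinearMap.BilinForm.restrict_apply, LinearMap.domRestrict_apply]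
      exact hpos x (by simpa using hx)
    obtain ⟨N, hN, a, ha⟩ :=
      Groth.Agent.H17.exists_smul_eq_of_posDef (B.restrict A) hposA ((B y).comp A.subtype)
    have hc : N • y - (a : L) ∈ B.orthogonal A := by
      intro a' ha'
      have h1 := LinearMap.congr_fun ha ⟨a', ha'⟩
      simp only [LinearMap.smul_apply, LinearMap.comp_apply, Submodule.subtype_apply,
        LinearMap.BilinForm.restrict_apply, LinearMap.domRestrict_apply] at h1
      rw [map_sub, map_smul, hsymm.eq a' y, hsymm.eq a' a, h1, sub_self]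
    have h0 : B (N • y - (a : L)) (N • y - (a : L)) = 0 := by
      have h2 : B (a : L) (N • y - (a : L)) = 0 := hc a a.2
      rw [LinearMap.map_sub₂, LinearMap.map_smul₂, hy _ hc, h2]
      simp
    have h3 : N • y - (a : L) = 0 := by
      by_contra h
      exact (hpos _ h).ne' h0
    exact htf N y hN (by rw [sub_eq_zero.mp h3]; exact a.2)
  have hsat : ∀ (c : ℤ) (x : L), c ≠ 0 → c • x ∈ B.orthogonal A → x ∈ B.orthogonal A := by
    intro c x hc hx n hn
    have := hx n hn
    rw [map_smul, smul_eq_mul] at this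
    rcases mul_eq_zero.mp this with h | h
    · exact absurd h hc
    · exact h
  refine ⟨?_, ?_, ?_, ?_⟩
  · rintro x ⟨b, hb, hxb⟩
    have hy : x - b ∈ A := key (x - b) (fun b' hb' => by
      rw [map_sub, LinearMap.sub_apply, hxb b' hb', sub_self])
    have : x = (x - b) + b := by abel
    rw [this]
    exact Submodule.add_mem_sup hy hb
  · rintro x ⟨a, ha, hxa⟩
    have hy : x - a ∈ B.orthogonal A := by
      intro a' ha'
      rw [map_sub, hsymm.eq a' x, hsymm.eq a' a, hxa a' ha', sub_self]
    have : x = a + (x - a) := by abel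
    rw [this]
    exact Submodule.add_mem_sup ha hy
  · intro ψ
    obtain ⟨r, hr⟩ := Groth.Agent.H17.exists_retraction_of_saturated (B.orthogonal A) hsat
    refine ⟨ψ ∘ₗ r, ?_⟩
    ext a
    simp [hr a]
  · intro ψ
    obtain ⟨r, hr⟩ := Groth.Agent.H17.exists_retraction_of_saturated A htf
    refine ⟨ψ ∘ₗ r, ?_⟩
    ext a
    simp [hr a]

end Groth.Agent.S3351
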