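import Groth.Statements.S3352
import Groth.Agent.H17.Lattice
import Mathlib.LinearAlgebra.Isomorphisms
import Mathlib.LinearAlgebra.Dual.Defs

set_option autoImplicit false
open Models

namespace Groth.Agent.S3352

/-- Let L₀, L₁ be finite free ℤ-modules with positive definite symmetric integral bilinear forms, the
form on L₀ unimodular (x ↦ ⟨x, −⟩ is a bijection L₀ → Hom(L₀, ℤ)), and let d : L₀ → L₁ and d* : L₁ →
L₀ be adjoint. Identify Im(d)^# (the dual lattice of Im(d)) with Hom(Im(d), ℤ) through the form on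
L₁. Then there is an isomorphism Φ from the torsion subgroup of Coker(d* d) onto Im(d)^#/Im(d),
determined by: for x ∈ L₀ whose class is torsion, Φ[x] is the class of the functional d(y') ↦ ⟨x,
y'⟩ (equivalently the class of (1/a)·d(y) when a·x = d* d(y)). -/
theorem result {L₀ L₁ : Type} [AddCommGroup L₀] [AddCommGroup L₁]
    [Module.Finite ℤ L₀] [Module.Free ℤ L₀] [Module.Finite ℤ L₁] [Module.Free ℤ L₁]
    (B₀ : LinearMap.BilinForm ℤ L₀) (B₁ : LinearMap.BilinForm ℤ L₁) (h₀s : B₀.IsSymm) (h₁s : B₁.IsSymm)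
    (h₀p : ∀ x, x ≠ 0 → 0 < B₀ x x) (h₁p : ∀ x, x ≠ 0 → 0 < B₁ x x) (huni : Function.Bijective B₀)
    (d : L₀ →ₗ[ℤ] L₁) (ds : L₁ →ₗ[ℤ] L₀) (hadj : ∀ x y, B₁ (d x) y = B₀ x (ds y)) :
    ∃ Φ : ↥(Submodule.torsion ℤ (L₀ ⧸ LinearMap.range (ds ∘ₗ d))) ≃ₗ[ℤ]
        (Module.Dual ℤ ↥(LinearMap.range d) ⧸
          LinearMap.range ((B₁.compl₂ (LinearMap.range d).subtype) ∘ₗ (LinearMap.range d).subtype)),
      ∀ (x : L₀) (hx : Submodule.Quotient.mk x ∈ Submodule.torsion ℤ (L₀ ⧸ LinearMap.range (ds ∘ₗ d)))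
        (ψ : Module.Dual ℤ ↥(LinearMap.range d)),
        (∀ y' : L₀, ψ ⟨d y', LinearMap.mem_range_self d y'⟩ = B₀ x y') →
          Φ ⟨Submodule.Quotient.mk x, hx⟩ = Submodule.Quotient.mk ψ := by
  classical
  -- basic identity
  have hkey : ∀ z y' : L₀, B₁ (d z) (d y') = B₀ (ds (d z)) y' := by
    intro z y'
    rw [h₁s.eq, hadj, h₀s.eq]
  let e₀ : L₀ ≃ₗ[ℤ] Module.Dual ℤ L₀ := LinearEquiv.ofBijective B₀ huni
  have he₀_apply : ∀ x, e₀ x = B₀ x := fun x => rfl
  let D : Submodule ℤ L₁ := LinearMap.range d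
  let d' : L₀ →ₗ[ℤ] D := d.rangeRestrict
  have hd'_apply : ∀ y', d' y' = ⟨d y', LinearMap.mem_range_self d y'⟩ := fun _ => rfl
  have hd'_coe : ∀ y', ((d' y' : D) : L₁) = d y' := fun _ => rfl
  let R : Submodule ℤ L₀ := LinearMap.range (ds ∘ₗ d)
  let J : Submodule ℤ (Module.Dual ℤ D) := LinearMap.range ((B₁.compl₂ D.subtype) ∘ₗ D.subtype)
  let Ψ : Module.Dual ℤ D →ₗ[ℤ] (L₀ ⧸ R) := R.mkQ ∘ₗ e₀.symm.toLinearMap ∘ₗ d'.dualMap
  have hΨ_apply : ∀ ψ, Ψ ψ = Submodule.Quotient.mk (e₀.symm (ψ ∘ₗ d')) := fun ψ => rfl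
  -- characterization of e₀.symm
  have hsymm_eq : ∀ (ψ : Module.Dual ℤ D) (x : L₀), (∀ y', ψ (d' y') = B₀ x y') →
      e₀.symm (ψ ∘ₗ d') = x := by
    intro ψ x h
    rw [LinearEquiv.symm_apply_eq]
    ext y'
    simp [he₀_apply, h y']
  have hker : LinearMap.ker Ψ = J := by
    ext ψ
    rw [LinearMap.mem_ker, hΨ_apply, Submodule.Quotient.mk_eq_zero]
    constructor
    · rintro ⟨z, hz⟩
      refine ⟨⟨d z, LinearMap.mem_range_self d z⟩, ?_⟩
      ext ⟨y, y', rfl⟩
      have h1 : B₀ (e₀.symm (ψ ∘ₗ d')) y' = ψ (d' y') := by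
        have := LinearMap.congr_fun (e₀.apply_symm_apply (ψ ∘ₗ d')) y'
        simpa [he₀_apply] using this
      have h2 : ψ (d' y') = B₁ (d z) (d y') := by
        rw [← h1, ← hz, hkey]
        rfl
      simp only [LinearMap.comp_apply, Submodule.subtype_apply, LinearMap.compl₂_apply]
      rw [← h2, hd'_apply]
    · rintro ⟨⟨y, z, rfl⟩, rfl⟩
      refine ⟨z, ?_⟩
      symm
      apply hsymm_eq
      intro y'
      simp only [LinearMap.comp_apply, Submodule.subtype_apply, LinearMap.compl₂_apply]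
      rw [← hkey, hd'_coe]
  have hposD : ∀ x : D, x ≠ 0 → 0 < (B₁.restrict D) x x := by
    intro x hx
    simp only [LinearMap.BilinForm.restrict_apply, LinearMap.domRestrict_apply]
    exact h₁p x (by simpa using hx)
  have hrange : LinearMap.range Ψ = Submodule.torsion ℤ (L₀ ⧸ R) := by
    ext q
    constructor
    · rintro ⟨ψ, rfl⟩
      obtain ⟨N, hN, y, hy⟩ := Groth.Agent.H17.exists_smul_eq_of_posDef (B₁.restrict D) hposD ψ
      obtain ⟨y, z, rfl⟩ := y
      rw [Submodule.mem_torsion_iff]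
      refine ⟨⟨N, mem_nonZeroDivisors_of_ne_zero hN⟩, ?_⟩
      change N • Ψ ψ = 0
      rw [← map_smul, hΨ_apply, Submodule.Quotient.mk_eq_zero]
      refine ⟨z, ?_⟩
      symm
      apply hsymm_eq
      intro y'
      rw [hy]
      simp only [LinearMap.BilinForm.restrict_apply, LinearMap.domRestrict_apply]
      rw [hd'_coe, hkey]
      rfl
    · intro hq
      induction q using Submodule.Quotient.induction_on with
      | H x =>
        rw [Submodule.mem_torsion_iff] at hq
        obtain ⟨⟨a, ha⟩, hax⟩ := hq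
        have ha0 : a ≠ 0 := nonZeroDivisors.ne_zero ha
        change a • (Submodule.Quotient.mk x : L₀ ⧸ R) = 0 at hax
        rw [← Submodule.Quotient.mk_smul, Submodule.Quotient.mk_eq_zero] at hax
        obtain ⟨z, hz⟩ := hax
        have hvan : LinearMap.ker d ≤ LinearMap.ker (B₀ x) := by
          intro y' hy'
          rw [LinearMap.mem_ker] at hy' ⊢
          have h1 : a * B₀ x y' = 0 := by
            have : B₀ (a • x) y' = 0 := by
              rw [← hz]
              simp only [LinearMap.comp_apply]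
              rw [← hkey, hy', map_zero]
            rwa [LinearMap.map_smul₂, smul_eq_mul] at this
          rcases mul_eq_zero.mp h1 with h | h
          · exact absurd h ha0
          · exact h
        let ψ : Module.Dual ℤ D :=
          ((LinearMap.ker d).liftQ (B₀ x) hvan) ∘ₗ d.quotKerEquivRange.symm.toLinearMap
        refine ⟨ψ, ?_⟩
        rw [hΨ_apply]
        congr 1
        apply hsymm_eq
        intro y'
        simp only [ψ, LinearMap.comp_apply, LinearEquiv.coe_coe, hd'_apply]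
        rw [LinearMap.quotKerEquivRange_symm_apply_image]
        simp
  let e1 := Ψ.quotKerEquivRange
  let e2 := Submodule.quotEquivOfEq J (LinearMap.ker Ψ) hker.symm
  let e3 := LinearEquiv.ofEq _ _ hrange
  refine ⟨(e2 ≪≫ₗ e1 ≪≫ₗ e3).symm, ?_⟩
  intro x hx ψ hψ
  rw [LinearEquiv.symm_apply_eq]
  apply Subtype.ext
  simp only [LinearEquiv.trans_apply, e2, e3, e1, Submodule.quotEquivOfEq_mk,
    LinearEquiv.coe_ofEq_apply, LinearMap.quotKerEquivRange_apply_mk]
  rw [hΨ_apply]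
  congr 1
  symm
  apply hsymm_eq
  intro y'
  rw [hd'_apply]
  exact hψ y'

end Groth.Agent.S3352
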