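import Groth.Statements.S3401
import Groth.Agent.H17.ProConsScheme
import Mathlib.AlgebraicGeometry.Noetherian

set_option autoImplicit false
open CategoryTheory AlgebraicGeometry
universe u
open EGA41

namespace Groth.Agent.S3401

/-- Let X be a scheme and E a subset of X. If E is ind-constructible then for every point x of E the set
E ∩ cl{x} is a neighbourhood of x in cl{x}; when X is locally Noetherian the converse holds. (As
published, the necessity clause quantifies over all points x of X; for x outside E the condition
cannot hold, and the argument uses x ∈ E, so it is stated here for x ∈ E.) Stated as an equivalence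
for X locally Noetherian. -/
theorem result (X : Scheme.{u}) [IsLocallyNoetherian X]
    (E : Set X) :
    ProCons.IsIndConstructible E ↔
      ∀ x ∈ E, (Subtype.val ⁻¹' E : Set ↥(closure ({x} : Set X))) ∈ nhds (⟨x, subset_closure rfl⟩ : ↥(closure ({x} : Set X))) := by
  have hB := Groth.Agent.H17.goodBasis_scheme X
  constructor
  · intro hE x hxE
    obtain ⟨W, hW, hxW⟩ := hB.exists_mem x
    have hcons := Groth.Agent.H17.consOpen_restrict_of_ind hB hE hW
    have hWo : IsOpen W := hB.isOpen _ hW
    have := hB.spectralSpace hW
    set x' : ↥W := ⟨x, hxW⟩ with hx'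
    -- enlarge by the open complement of the closure of x'
    have hopen : Groth.Agent.H17.ConsOpen ((closure ({x'} : Set ↥W))ᶜ) := by
      have hcl : IsClosed (closure ({x'} : Set ↥W)) := isClosed_closure
      have hbasis := (PrespectralSpace.isTopologicalBasis (X := ↥W))
      apply Groth.Agent.H17.consOpen_of_forall_exists
      intro z hz
      obtain ⟨V, ⟨hVo, hVc⟩, hzV, hVU⟩ := hbasis.exists_subset_of_mem_open hz hcl.isOpen_compl
      exact ⟨V, Groth.Agent.H17.consOpen_of_isOpen_isCompact hVo hVc, hzV, hVU⟩
    obtain ⟨V, hVo, hxV, hVE⟩ := Groth.Agent.H17.exists_isOpen_subset_of_forall_specializes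
      (hcons.union hopen) x' (by
        intro z hz
        by_cases hzc : z ∈ closure ({x'} : Set ↥W)
        · left
          have hxz : x' ⤳ z := specializes_iff_mem_closure.mpr hzc
          have : z = x' := (hz.antisymm hxz).eq
          rw [this]
          exact hxE
        · right
          exact hzc)
    have hV'o : IsOpen (Subtype.val '' V : Set X) := hWo.isOpenMap_subtype_val V hVo
    rw [mem_nhds_iff]
    refine ⟨Subtype.val ⁻¹' (Subtype.val '' V : Set X), ?_, hV'o.preimage continuous_subtype_val,
      ⟨x', hxV, rfl⟩⟩
    rintro ⟨y, hy⟩ ⟨v, hvV, rfl⟩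
    rcases hVE hvV with h | h
    · exact h
    · exfalso
      apply h
      rw [closure_subtype]
      have : (Subtype.val '' ({x'} : Set ↥W) : Set X) = {x} := by simp [hx']
      rw [this]
      exact hy
  · intro h
    apply Groth.Agent.H17.ind_of_consOpen_restrict hB
    intro x₀
    obtain ⟨W, hW, hxW⟩ := hB.exists_mem x₀
    refine ⟨W, hW, hxW, ?_⟩
    obtain ⟨U, hU, rfl⟩ := hW
    have : IsNoetherianRing Γ(X, U) := IsLocallyNoetherian.component_noetherian ⟨U, hU⟩
    have hN : TopologicalSpace.NoetherianSpace ↥(U : Set X) := noetherianSpace_of_isAffineOpen U hU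
    apply Groth.Agent.H17.consOpen_of_forall_exists
    rintro ⟨x, hxU⟩ hxE
    have hnh := h x hxE
    rw [mem_nhds_subtype] at hnh
    obtain ⟨t, ht, hsub⟩ := hnh
    obtain ⟨V, hVt, hVo, hxV⟩ := mem_nhds_iff.mp ht
    refine ⟨(Subtype.val ⁻¹' V) ∩ (Subtype.val ⁻¹' (closure ({x} : Set X))), ?_, ⟨hxV, subset_closure rfl⟩, ?_⟩
    · apply Groth.Agent.H17.ConsOpen.inter
      · exact Groth.Agent.H17.consOpen_of_isOpen_isCompact (hVo.preimage continuous_subtype_val)
          (TopologicalSpace.NoetherianSpace.isCompact _)
      · rw [Groth.Agent.H17.consOpen_iff_compl]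
        exact Groth.Agent.H17.consClosed_of_isOpen_isCompact
          ((isClosed_closure.preimage continuous_subtype_val).isOpen_compl)
          (TopologicalSpace.NoetherianSpace.isCompact _)
    · rintro ⟨y, hyU⟩ ⟨hyV, hycl⟩
      exact hsub (a := ⟨y, hycl⟩) (hVt hyV)

end Groth.Agent.S3401
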