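import Groth.Statements.S3407
import Groth.Agent.S2561
import Groth.Agent.S4963
import Groth.Agent.H58.SkOpen.RedOpen
import Groth.Agent.H54.UnivOpenDed
import Groth.Agent.H25.OpenAt

set_option autoImplicit false
open CategoryTheory AlgebraicGeometry
universe u
open EGA43

namespace Groth.Agent.S3407

/-- A surjective closed immersion is universally open. -/
theorem universallyOpen_of_isClosedImmersion_of_surjective {Y₀ Y : Scheme.{u}} (i : Y₀ ⟶ Y)
    [hc : IsClosedImmersion i] [hs : Surjective i] : UniversallyOpen i := by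
  constructor
  intro P Y' i₁ i₂ f' hsq
  haveI : IsClosedImmersion f' := MorphismProperty.of_isPullback hsq.flip hc
  haveI : Surjective f' := MorphismProperty.of_isPullback hsq.flip hs
  exact (f'.isEmbedding.isOpenEmbedding_of_surjective f'.surjective).isOpenMap


/-- Let Y be locally Noetherian, f : X ⟶ Y locally of finite type, x a point of X and y = f x. Suppose f
is universally open at the generic point of every irreducible component of the fibre X_y passing
through x, and X_y is geometrically reduced at x. Then there is an open neighbourhood U of x such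
that the restriction of f to U is universally open and, for every point x' of U, the fibre of f
through x' is geometrically reduced at x'. -/
theorem result {X Y : Scheme.{u}} [IsLocallyNoetherian Y] (f : X ⟶ Y)
    [LocallyOfFiniteType f] (x : X)
    (hopen : ∀ z : ↥(f.fiber (f.base x)), f.asFiber x ∈ closure {z} →
      (∀ z' : ↥(f.fiber (f.base x)), z ∈ closure {z'} → z' = z) →
      EGA43.IsUnivOpenAt f ((f.fiberι (f.base x)).base z))
    (hred : FBase.IsGeomReducedAt (f.fiberToSpecResidueField (f.base x)) (f.asFiber x)) :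
    ∃ U : X.Opens, x ∈ U ∧ UniversallyOpen (U.ι ≫ f) ∧
      ∀ x' : X, x' ∈ U → FBase.IsGeomReducedAt (f.fiberToSpecResidueField (f.base x')) (f.asFiber x') := by
  classical
  -- the reduced base and the base change
  let Y₀ : Scheme.{u} := Y.nilradical.subscheme
  let i : Y₀ ⟶ Y := Y.nilradical.subschemeι
  haveI : IsReduced Y₀ := Groth.Agent.H54.UOD.isReduced_nilradical_subscheme Y
  haveI : Surjective i := ⟨Groth.Agent.H54.UOD.surjective_nilradical_subschemeι Y⟩
  haveI : IsLocallyNoetherian Y₀ := LocallyOfFiniteType.isLocallyNoetherian i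
  let X₀ : Scheme.{u} := Limits.pullback f i
  let j : X₀ ⟶ X := Limits.pullback.fst f i
  let f₀ : X₀ ⟶ Y₀ := Limits.pullback.snd f i
  have sq : IsPullback j f₀ f i := IsPullback.of_hasPullback f i
  haveI : LocallyOfFiniteType f₀ := inferInstanceAs (LocallyOfFiniteType (Limits.pullback.snd f i))
  haveI : LocallyOfFinitePresentation f₀ := by
    rw [HasRingHomProperty.iff_appLE (P := @LocallyOfFinitePresentation)]
    intro U V e
    haveI : IsNoetherianRing Γ(Y₀, U.1) := IsLocallyNoetherian.component_noetherian U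
    exact RingHom.FinitePresentation.of_finiteType.mp (f₀.finiteType_appLE U.2 V.2 e)
  haveI : IsClosedImmersion j := inferInstanceAs (IsClosedImmersion (Limits.pullback.fst f i))
  haveI : Surjective j := inferInstanceAs (Surjective (Limits.pullback.fst f i))
  haveI : UniversallyOpen i := universallyOpen_of_isClosedImmersion_of_surjective i
  have hjopen : IsOpenMap j := (j.isEmbedding.isOpenEmbedding_of_surjective j.surjective).isOpenMap
  have hiinj : Function.Injective i := i.isEmbedding.injective
  obtain ⟨x₀, rfl⟩ := j.surjective x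
  -- geometric reducedness of the fibres is insensitive to the base change
  have hgr : ∀ t : X₀, FBase.IsGeomReducedAt (f₀.fiberToSpecResidueField (f₀.base t)) (f₀.asFiber t) ↔
      FBase.IsGeomReducedAt (f.fiberToSpecResidueField (f.base (j t))) (f.asFiber (j t)) := by
    intro t
    rw [Groth.Agent.H58.SkOpen.geomReducedAt_iff_rkSk, Groth.Agent.H58.SkOpen.geomReducedAt_iff_rkSk]
    exact (Groth.Agent.H58.SkOpen.isStableQ_rkSk 0).baseChange f f₀ j i sq inferInstance t
  have hw : ∀ t : X₀, i (f₀ t) = f (j t) := fun t => by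
    rw [← Scheme.Hom.comp_apply, ← Scheme.Hom.comp_apply, sq.w]
  -- the hypothesis on universal openness
  have hopen₀ : ∀ z₀ : ↥(f₀.fiber (f₀.base x₀)), f₀.asFiber x₀ ∈ closure {z₀} →
      (∀ z' : ↥(f₀.fiber (f₀.base x₀)), z₀ ∈ closure {z'} → z' = z₀) →
      EGA43.IsUnivOpenAt f₀ ((f₀.fiberι (f₀.base x₀)).base z₀) := by
    intro z₀ hz₀ hmax
    have hfz : f (j (f₀.fiberι _ z₀)) = f (j x₀) := by
      rw [← hw, ← hw]
      congr 1
      exact (f₀.range_fiberι _).le ⟨z₀, rfl⟩
    obtain ⟨z, hz⟩ : j (f₀.fiberι _ z₀) ∈ Set.range (f.fiberι (f (j x₀))) := by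
      rw [f.range_fiberι]; exact hfz
    have h1 : EGA43.IsUnivOpenAt f (f.fiberι _ z) := by
      refine hopen z ?_ ?_
      · rw [← specializes_iff_mem_closure,
          ← (f.fiberι _).isEmbedding.toIsInducing.specializes_iff, hz, f.fiberι_asFiber]
        refine Specializes.map ?_ j.continuous
        have h2 : z₀ ⤳ f₀.asFiber x₀ := specializes_iff_mem_closure.mpr hz₀
        have h3 := h2.map (f₀.fiberι _).continuous
        rwa [f₀.fiberι_asFiber] at h3
      · intro z' hz'
        obtain ⟨t₀, ht₀⟩ := j.surjective (f.fiberι _ z')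
        have hsp : f.fiberι _ z' ⤳ f.fiberι _ z :=
          (specializes_iff_mem_closure.mpr hz').map (f.fiberι _).continuous
        rw [hz, ← ht₀] at hsp
        have hsp₀ : t₀ ⤳ f₀.fiberι _ z₀ := (j.isEmbedding.toIsInducing.specializes_iff).mp hsp
        have hft₀ : f₀ t₀ = f₀ x₀ := by
          apply hiinj
          rw [hw, hw, ht₀]
          exact (f.range_fiberι _).le ⟨z', rfl⟩
        obtain ⟨z'₀, hz'₀⟩ : t₀ ∈ Set.range (f₀.fiberι (f₀ x₀)) := by
          rw [f₀.range_fiberι]; exact hft₀
        rw [← hz'₀] at hsp₀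
        have h4 := hmax z'₀ (specializes_iff_mem_closure.mp
          ((f₀.fiberι _).isEmbedding.toIsInducing.specializes_iff.mp hsp₀))
        apply (f.fiberι _).isEmbedding.injective
        rw [← ht₀, ← hz'₀, h4, hz]
    rw [hz] at h1
    exact Groth.Agent.H25.isUnivOpenAt_of_isPullback h1 sq _ rfl
  have hred₀ := (hgr x₀).mpr hred
  have hflat₀ := Groth.Agent.S2561.result f₀ x₀ hopen₀ hred₀ inferInstance
  have hO := Groth.Agent.S4963.result f₀
  let U₀ : X₀.Opens := ⟨_, hO⟩
  have hx₀U : x₀ ∈ U₀ := ⟨hflat₀, hred₀⟩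
  haveI : Flat (U₀.ι ≫ f₀) := by
    rw [Flat.iff_flat_stalkMap]
    intro u
    rw [Scheme.Hom.stalkMap_comp]
    change ((f₀.stalkMap (U₀.ι u)) ≫ (U₀.ι.stalkMap u)).hom.Flat
    rw [CommRingCat.hom_comp]
    refine RingHom.Flat.comp ?_ (RingHom.Flat.of_bijective
      ((ConcreteCategory.isIso_iff_bijective (U₀.ι.stalkMap u)).mp inferInstance))
    exact u.2.1
  let U : X.Opens := ⟨j '' (U₀ : Set X₀), hjopen _ U₀.isOpen⟩
  refine ⟨U, ⟨x₀, hx₀U, rfl⟩, ?_, ?_⟩
  · have hrange : Set.range (U₀.ι ≫ j) ⊆ Set.range U.ι := by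
      rintro _ ⟨u, rfl⟩
      rw [Scheme.Opens.range_ι]
      exact ⟨U₀.ι u, u.2, rfl⟩
    let g : (U₀ : Scheme.{u}) ⟶ (U : Scheme.{u}) := IsOpenImmersion.lift U.ι (U₀.ι ≫ j) hrange
    have hg : g ≫ U.ι = U₀.ι ≫ j := IsOpenImmersion.lift_fac _ _ _
    haveI : Surjective g := by
      refine ⟨fun u => ?_⟩
      obtain ⟨t, ht, htu⟩ := u.2
      refine ⟨⟨t, ht⟩, ?_⟩
      apply U.ι.isEmbedding.injective
      rw [← Scheme.Hom.comp_apply, hg]
      exact htu
    haveI : UniversallyOpen (g ≫ U.ι ≫ f) := by
      rw [← Category.assoc, hg, Category.assoc, sq.w, ← Category.assoc]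
      infer_instance
    exact Groth.Agent.H54.UOD.universallyOpen_of_comp_surjective g (U.ι ≫ f)
  · rintro x' ⟨t, ht, rfl⟩
    exact (hgr t).mp ht.2

end Groth.Agent.S3407
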