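import Groth.Statements.S3408
import Groth.Agent.S2561
import Groth.Agent.S4963
import Groth.Agent.H17.Flat.RedStalk
import Groth.Agent.H25.ReducedLocus

set_option autoImplicit false
open CategoryTheory AlgebraicGeometry
universe u
open EGA43

namespace Groth.Agent.S3408

/-- Let Y be locally Noetherian, f : X ⟶ Y locally of finite type, x a point of X and y = f x. Suppose f
is universally open at the generic point of every irreducible component of X_y passing through x,
X_y is geometrically reduced at x, and the local ring O_{Y,y} is reduced. Then there is an open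
neighbourhood U of x such that the restriction of f to U is flat and U is a reduced scheme. -/
theorem result {X Y : Scheme.{u}} [IsLocallyNoetherian Y] (f : X ⟶ Y)
    [LocallyOfFiniteType f] (x : X)
    (hopen : ∀ z : ↥(f.fiber (f.base x)), f.asFiber x ∈ closure {z} →
      (∀ z' : ↥(f.fiber (f.base x)), z ∈ closure {z'} → z' = z) →
      EGA43.IsUnivOpenAt f ((f.fiberι (f.base x)).base z))
    (hred : FBase.IsGeomReducedAt (f.fiberToSpecResidueField (f.base x)) (f.asFiber x))
    (hy : _root_.IsReduced (Y.presheaf.stalk (f.base x))) :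
    ∃ U : X.Opens, x ∈ U ∧ Flat (U.ι ≫ f) ∧ IsReduced (U : Scheme.{u}) := by
  classical
  haveI : IsLocallyNoetherian X := LocallyOfFiniteType.isLocallyNoetherian f
  haveI : LocallyOfFinitePresentation f := by
    rw [HasRingHomProperty.iff_appLE (P := @LocallyOfFinitePresentation)]
    intro U V e
    haveI : IsNoetherianRing Γ(Y, U.1) := IsLocallyNoetherian.component_noetherian U
    exact RingHom.FinitePresentation.of_finiteType.mp (f.finiteType_appLE U.2 V.2 e)
  have hflat := Groth.Agent.S2561.result f x hopen hred hy
  have hO := Groth.Agent.S4963.result f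
  have hxW : x ∈ {x : X | (f.stalkMap x).hom.Flat ∧
      FBase.IsGeomReducedAt (f.fiberToSpecResidueField (f.base x)) (f.asFiber x)} := ⟨hflat, hred⟩
  have hxred : _root_.IsReduced (X.presheaf.stalk x) :=
    Groth.Agent.H17.Flat.isReduced_stalk_of_flat f x hflat hy
      (minimalPrimes.finite_of_isNoetherianRing _) (fun z hz => (hz.mem_open hO hxW).2)
  have hR := Groth.Agent.H25.ReducedLocus.isOpen_reducedLocus X
  let U : X.Opens := ⟨_, hO.inter hR⟩
  refine ⟨U, ⟨hxW, hxred⟩, ?_, ?_⟩
  · rw [Flat.iff_flat_stalkMap]
    intro u
    rw [Scheme.Hom.stalkMap_comp]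
    change ((f.stalkMap (U.ι u)) ≫ (U.ι.stalkMap u)).hom.Flat
    rw [CommRingCat.hom_comp]
    refine RingHom.Flat.comp ?_ (RingHom.Flat.of_bijective
      ((ConcreteCategory.isIso_iff_bijective (U.ι.stalkMap u)).mp inferInstance))
    exact u.2.1.1
  · haveI : ∀ u : U, _root_.IsReduced ((U : Scheme.{u}).presheaf.stalk u) := fun u => by
      haveI : _root_.IsReduced (X.presheaf.stalk (U.ι u)) := u.2.2
      let e := (asIso (U.ι.stalkMap u)).commRingCatIsoToRingEquiv
      exact isReduced_of_injective e.symm.toRingHom e.symm.injective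
    exact isReduced_of_isReduced_stalk _

end Groth.Agent.S3408
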