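import Groth.Statements.S3409
import Groth.Agent.S2561
import Groth.Agent.S4963
import Groth.Agent.H58.SkOpen.RedOpen
import Groth.Agent.H54.UnivOpenDed
import Groth.Agent.H25.OpenAt
import Groth.Agent.H17.Flat.EquidimFlat
import Groth.Agent.H17.Flat.RedStalk

set_option autoImplicit false
open CategoryTheory AlgebraicGeometry
universe u
open EGA43

namespace Groth.Agent.S3409

set_option linter.style.haveILetI false

open Groth.Agent.H49.FibreStalk Groth.Agent.H17.Flat Groth.Agent.H17.Chev IsLocalRing

/-- A surjective closed immersion is universally open. -/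
theorem universallyOpen_of_isClosedImmersion_of_surjective {Y₀ Y : Scheme.{u}} (i : Y₀ ⟶ Y)
    [hc : IsClosedImmersion i] [hs : Surjective i] : UniversallyOpen i := by
  constructor
  intro P Y' i₁ i₂ f' hsq
  haveI : IsClosedImmersion f' := MorphismProperty.of_isPullback hsq.flip hc
  haveI : Surjective f' := MorphismProperty.of_isPullback hsq.flip hs
  exact (f'.isEmbedding.isOpenEmbedding_of_surjective f'.surjective).isOpenMap


/-- Let Y be locally Noetherian, f : X ⟶ Y locally of finite type, x a point of X and y = f x. Suppose f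
is universally open at the generic point of every irreducible component of X_y through x, X_y is
geometrically reduced at x, and all irreducible components of X_y passing through x have the same
dimension. Then f is equidimensional at x. -/
theorem result {X Y : Scheme.{u}} [IsLocallyNoetherian Y] (f : X ⟶ Y)
    [LocallyOfFiniteType f] (x : X)
    (hopen : ∀ z : ↥(f.fiber (f.base x)), f.asFiber x ∈ closure {z} →
      (∀ z' : ↥(f.fiber (f.base x)), z ∈ closure {z'} → z' = z) →
      EGA43.IsUnivOpenAt f ((f.fiberι (f.base x)).base z))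
    (hred : FBase.IsGeomReducedAt (f.fiberToSpecResidueField (f.base x)) (f.asFiber x))
    (heq : ∃ e : ℕ, ∀ Z ∈ irreducibleComponents (↥(f.fiber (f.base x)) : Type u), f.asFiber x ∈ Z →
      topologicalKrullDim (↥Z : Type u) = e) :
    EGA43.IsEquidimAt f x := by
  classical
  -- the reduced base and the base change
  let Y₀ : Scheme.{u} := Y.nilradical.subscheme
  let i : Y₀ ⟶ Y := Y.nilradical.subschemeι
  haveI : IsReduced Y₀ := Groth.Agent.H54.UOD.isReduced_nilradical_subscheme Y
  haveI : Surjective i := ⟨Groth.Agent.H54.UOD.surjective_nilradical_subschemeι Y⟩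
  haveI : IsLocallyNoetherian Y₀ := LocallyOfFiniteType.isLocallyNoetherian i
  let X₀ : Scheme.{u} := Limits.pullback f i
  let j : X₀ ⟶ X := Limits.pullback.fst f i
  let f₀ : X₀ ⟶ Y₀ := Limits.pullback.snd f i
  have sq : IsPullback j f₀ f i := IsPullback.of_hasPullback f i
  haveI : LocallyOfFiniteType f₀ := inferInstanceAs (LocallyOfFiniteType (Limits.pullback.snd f i))
  haveI : LocallyOfFinitePresentation f₀ := by
    rw [HasRingHomProperty.iff_appLE (P := @LocallyOfFinitePresentation)]
    intro U V e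
    haveI : IsNoetherianRing Γ(Y₀, U.1) := IsLocallyNoetherian.component_noetherian U
    exact RingHom.FinitePresentation.of_finiteType.mp (f₀.finiteType_appLE U.2 V.2 e)
  haveI : IsClosedImmersion j := inferInstanceAs (IsClosedImmersion (Limits.pullback.fst f i))
  haveI : Surjective j := inferInstanceAs (Surjective (Limits.pullback.fst f i))
  have hjopen : IsOpenMap j := (j.isEmbedding.isOpenEmbedding_of_surjective j.surjective).isOpenMap
  have hjOE : Topology.IsOpenEmbedding j.base :=
    j.isEmbedding.isOpenEmbedding_of_surjective j.surjective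
  have hiinj : Function.Injective i := i.isEmbedding.injective
  obtain ⟨x₀, rfl⟩ := j.surjective x
  -- geometric reducedness of the fibres is insensitive to the base change
  have hgr : ∀ t : X₀, FBase.IsGeomReducedAt (f₀.fiberToSpecResidueField (f₀.base t)) (f₀.asFiber t) ↔
      FBase.IsGeomReducedAt (f.fiberToSpecResidueField (f.base (j t))) (f.asFiber (j t)) := by
    intro t
    rw [Groth.Agent.H58.SkOpen.geomReducedAt_iff_rkSk, Groth.Agent.H58.SkOpen.geomReducedAt_iff_rkSk]
    exact (Groth.Agent.H58.SkOpen.isStableQ_rkSk 0).baseChange f f₀ j i sq inferInstance t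
  have hw : ∀ t : X₀, i (f₀ t) = f (j t) := fun t => by
    rw [← Scheme.Hom.comp_apply, ← Scheme.Hom.comp_apply, sq.w]
  -- the hypothesis on universal openness
  have hopen₀ : ∀ z₀ : ↥(f₀.fiber (f₀.base x₀)), f₀.asFiber x₀ ∈ closure {z₀} →
      (∀ z' : ↥(f₀.fiber (f₀.base x₀)), z₀ ∈ closure {z'} → z' = z₀) →
      EGA43.IsUnivOpenAt f₀ ((f₀.fiberι (f₀.base x₀)).base z₀) := by
    intro z₀ hz₀ hmax
    have hfz : f (j (f₀.fiberι _ z₀)) = f (j x₀) := by
      rw [← hw, ← hw]
      congr 1
      exact (f₀.range_fiberι _).le ⟨z₀, rfl⟩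
    obtain ⟨z, hz⟩ : j (f₀.fiberι _ z₀) ∈ Set.range (f.fiberι (f (j x₀))) := by
      rw [f.range_fiberι]; exact hfz
    have h1 : EGA43.IsUnivOpenAt f (f.fiberι _ z) := by
      refine hopen z ?_ ?_
      · rw [← specializes_iff_mem_closure,
          ← (f.fiberι _).isEmbedding.toIsInducing.specializes_iff, hz, f.fiberι_asFiber]
        refine Specializes.map ?_ j.continuous
        have h2 : z₀ ⤳ f₀.asFiber x₀ := specializes_iff_mem_closure.mpr hz₀
        have h3 := h2.map (f₀.fiberι _).continuous
        rwa [f₀.fiberι_asFiber] at h3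
      · intro z' hz'
        obtain ⟨t₀, ht₀⟩ := j.surjective (f.fiberι _ z')
        have hsp : f.fiberι _ z' ⤳ f.fiberι _ z :=
          (specializes_iff_mem_closure.mpr hz').map (f.fiberι _).continuous
        rw [hz, ← ht₀] at hsp
        have hsp₀ : t₀ ⤳ f₀.fiberι _ z₀ := (j.isEmbedding.toIsInducing.specializes_iff).mp hsp
        have hft₀ : f₀ t₀ = f₀ x₀ := by
          apply hiinj
          rw [hw, hw, ht₀]
          exact (f.range_fiberι _).le ⟨z', rfl⟩
        obtain ⟨z'₀, hz'₀⟩ : t₀ ∈ Set.range (f₀.fiberι (f₀ x₀)) := by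
          rw [f₀.range_fiberι]; exact hft₀
        rw [← hz'₀] at hsp₀
        have h4 := hmax z'₀ (specializes_iff_mem_closure.mp
          ((f₀.fiberι _).isEmbedding.toIsInducing.specializes_iff.mp hsp₀))
        apply (f.fiberι _).isEmbedding.injective
        rw [← ht₀, ← hz'₀, h4, hz]
    rw [hz] at h1
    exact Groth.Agent.H25.isUnivOpenAt_of_isPullback h1 sq _ rfl
  have hred₀ := (hgr x₀).mpr hred
  have hflat₀ := Groth.Agent.S2561.result f₀ x₀ hopen₀ hred₀ inferInstance
  have hO := Groth.Agent.S4963.result f₀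
  let V₀ : X₀.Opens := ⟨_, hO⟩
  have hx₀V : x₀ ∈ V₀ := ⟨hflat₀, hred₀⟩
  haveI : Flat (V₀.ι ≫ f₀) := by
    rw [Flat.iff_flat_stalkMap]
    intro u
    rw [Scheme.Hom.stalkMap_comp]
    change ((f₀.stalkMap (V₀.ι u)) ≫ (V₀.ι.stalkMap u)).hom.Flat
    rw [CommRingCat.hom_comp]
    refine RingHom.Flat.comp ?_ (RingHom.Flat.of_bijective
      ((ConcreteCategory.isIso_iff_bijective (V₀.ι.stalkMap u)).mp inferInstance))
    exact u.2.1
  obtain ⟨e, he⟩ := heq
  -- the fibre dimension is insensitive to the base change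
  have hφ : ∀ t : X₀, FlatMor.fibreDimAt f₀ t = FlatMor.fibreDimAt f (j t) := by
    intro t
    rw [fibreDimAt_eq, fibreDimAt_eq]
    exact localDim_fibre_eq_of_isOpenEmbedding f.base f₀.base j.base i.base hjOE hiinj hw t
  have hrad : (fibreIdeal f₀ x₀).IsRadical := by
    haveI := isReduced_quotient_fibreIdeal f₀ x₀ hred₀
    exact (Ideal.isRadical_iff_quotient_reduced _).mpr inferInstance
  have hlft : LocallyOfFiniteType (f.fiberToSpecResidueField (f (j x₀))) :=
    inferInstanceAs (LocallyOfFiniteType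
      (Limits.pullback.snd f (Y.fromSpecResidueField (f (j x₀)))))
  -- the fibre dimension at the maximal points of the fibre through `x₀`
  have hmaxe : ∀ w : X₀, w ⤳ x₀ → f₀ w = f₀ x₀ →
      (∀ w' : X₀, w' ⤳ w → f₀ w' = f₀ w → w' = w) → FlatMor.fibreDimAt f₀ w = e := by
    intro w hw0 hfw hwmax
    rw [hφ]
    have hfjw : f (j w) = f (j x₀) := by rw [← hw, ← hw, hfw]
    obtain ⟨z, hz⟩ : j w ∈ Set.range (f.fiberι (f (j x₀))) := by
      rw [f.range_fiberι]; exact hfjw
    have hzmax : IsMax z := by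
      intro z' hz'
      have h1 : z' ⤳ z := hz'
      have h2 := h1.map (f.fiberι _).continuous
      rw [hz] at h2
      obtain ⟨t₀, ht₀⟩ := j.surjective (f.fiberι _ z')
      rw [← ht₀] at h2
      have h3 : t₀ ⤳ w := j.isEmbedding.toIsInducing.specializes_iff.mp h2
      have h4 : f₀ t₀ = f₀ w := by
        apply hiinj
        rw [hw, hw, ht₀, hfjw]
        exact (f.range_fiberι _).le ⟨z', rfl⟩
      have h5 := hwmax t₀ h3 h4
      have h6 : z' = z := by
        apply (f.fiberι _).isEmbedding.injective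
        rw [← ht₀, h5, hz]
      rw [h6]
    have hZ := closure_mem_irreducibleComponents_of_isMax _ z hzmax
    have hxZ : f.asFiber (j x₀) ∈ closure {z} := by
      rw [← specializes_iff_mem_closure,
        ← (f.fiberι _).isEmbedding.toIsInducing.specializes_iff, hz, f.fiberι_asFiber]
      exact hw0.map j.continuous
    have h1 := he _ hZ hxZ
    have h2 := dim_irreducibleComponent_eq_localDim (Y.residueField (f (j x₀)))
      (f.fiberToSpecResidueField (f (j x₀))) _ hZ z isGenericPoint_closure
    have h3 := localDim_fiber_eq_fibreDimAt f (f (j x₀)) z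
    rw [hz] at h3
    rw [← h3, ← h2, h1]
  obtain ⟨N, hxN, hNV, hNe, hNmax⟩ := exists_open_fibreDimAt_eq_of_flat_of_reduced f₀ V₀ x₀ hx₀V
    hflat₀ hrad e hmaxe
  let U : X.Opens := ⟨j '' (N : Set X₀), hjopen _ N.isOpen⟩
  refine isEquidimAt_of_forall_fibreDimAt_eq f (j x₀) e U ⟨x₀, hxN, rfl⟩ ?_ ?_
  · rintro ξ ⟨ξ₀, hξ₀N, rfl⟩ hξmax
    have hξ₀max : IsMax ξ₀ := by
      intro b hb
      have h1 : b ⤳ ξ₀ := hb
      have h2 : j ξ₀ ⤳ j b := hξmax (show j ξ₀ ≤ j b from h1.map j.continuous)
      exact (show ξ₀ ⤳ b from j.isEmbedding.toIsInducing.specializes_iff.mp h2)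
    obtain ⟨h1, h2⟩ := hNmax ξ₀ hξ₀N hξ₀max
    constructor
    · have hmaxY : IsMax (f (j ξ₀)) := by
        intro y hy
        have hy1 : y ⤳ f (j ξ₀) := hy
        obtain ⟨y₀, rfl⟩ := i.surjective y
        rw [← hw] at hy1
        have hy2 : y₀ ⤳ f₀ ξ₀ := i.isEmbedding.toIsInducing.specializes_iff.mp hy1
        have hy3 : f₀ ξ₀ ⤳ y₀ := h1 (show f₀ ξ₀ ≤ y₀ from hy2)
        have hy4 := hy3.map i.continuous
        rw [hw] at hy4
        exact hy4
      exact closure_mem_irreducibleComponents_of_isMax Y _ hmaxY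
    · exact ((h2.map j.continuous).map f.continuous).mem_closure
  · rintro u ⟨u₀, hu₀N, rfl⟩
    rw [← hφ]
    exact hNe u₀ hu₀N

end Groth.Agent.S3409
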