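import Groth.Statements.S3410
import Groth.Agent.H17.Flat.UniqComp
import Groth.Agent.H17.Flat.RedStalk
import Groth.Agent.H25.GeomPtInt
import Groth.Agent.H58.SkOpen.RedOpen
import Groth.Agent.H54.UnivOpenDed
import Groth.Agent.H25.OpenAt

set_option autoImplicit false
open CategoryTheory AlgebraicGeometry
universe u
open EGA43

namespace Groth.Agent.S3410

set_option linter.style.haveILetI false

/-- A surjective closed immersion is universally open. -/
theorem universallyOpen_of_isClosedImmersion_of_surjective {Y₀ Y : Scheme.{u}} (i : Y₀ ⟶ Y)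
    [hc : IsClosedImmersion i] [hs : Surjective i] : UniversallyOpen i := by
  constructor
  intro P Y' i₁ i₂ f' hsq
  haveI : IsClosedImmersion f' := MorphismProperty.of_isPullback hsq.flip hc
  haveI : Surjective f' := MorphismProperty.of_isPullback hsq.flip hs
  exact (f'.isEmbedding.isOpenEmbedding_of_surjective f'.surjective).isOpenMap

open Groth.Agent.H49.FibreStalk Groth.Agent.H17.Flat IsLocalRing

/-- A scheme over a field which is geometrically pointwise integral at a point has a domain as local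
ring there. -/
theorem isDomain_stalk_of_isGeomPtIntegralAt {k : Type u} [Field k] {X : Scheme.{u}}
    (f : X ⟶ Spec (CommRingCat.of k)) (x : X) (h : FBase.IsGeomPtIntegralAt f x) :
    IsDomain (X.presheaf.stalk x) := by
  obtain ⟨x', hx'⟩ := (Groth.Agent.H25.GeomPtInt.surjective_bcFst f k).surj x
  have h1 : IsDomain ((Groth.Agent.H25.BCTower.BC f k).presheaf.stalk x') := h k x' hx'
  haveI := Groth.Agent.H25.GeomPtInt.flat_bcFst f k
  have := Groth.Agent.H25.GeomPtInt.isDomain_stalk_of_flat (Groth.Agent.H25.BCTower.BC.fst f k) x' h1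
  rw [hx'] at this
  exact this

theorem fibreIdeal_comp {P Q S : Scheme.{u}} (a : P ⟶ Q) (b : Q ⟶ S) (p : P) :
    fibreIdeal (a ≫ b) p = (fibreIdeal b (a p)).map (a.stalkMap p).hom := by
  change Ideal.map ((a ≫ b).stalkMap p).hom (maximalIdeal (S.presheaf.stalk (b (a p)))) =
    Ideal.map (a.stalkMap p).hom (Ideal.map (b.stalkMap (a p)).hom
      (maximalIdeal (S.presheaf.stalk (b (a p)))))
  rw [Ideal.map_map, ← CommRingCat.hom_comp, ← Scheme.Hom.stalkMap_comp]
  rfl

/-- The main statement, separated from `result`. -/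
theorem main {X Y : Scheme.{u}} [IsLocallyNoetherian Y]
    (f : X ⟶ Y) [LocallyOfFiniteType f] (x : X)
    (hopen : ∀ z : ↥(f.fiber (f.base x)), f.asFiber x ∈ closure {z} →
      (∀ z' : ↥(f.fiber (f.base x)), z ∈ closure {z'} → z' = z) →
      EGA43.IsUnivOpenAt f ((f.fiberι (f.base x)).base z))
    (hint : FBase.IsGeomPtIntegralAt (f.fiberToSpecResidueField (f.base x)) (f.asFiber x))
    (hY : CAlg2.IsGeomUnibranch (Y.presheaf.stalk (f.base x))) :
    (∃! Z : Set X, Z ∈ irreducibleComponents (X : Type u) ∧ x ∈ Z) ∧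
      (IsDomain (Y.presheaf.stalk (f.base x)) → IsDomain (X.presheaf.stalk x) ∧ (f.stalkMap x).hom.Flat) := by
  classical
  haveI : LocallyOfFinitePresentation f := by
    rw [HasRingHomProperty.iff_appLE (P := @LocallyOfFinitePresentation)]
    intro U V e
    haveI : IsNoetherianRing Γ(Y, U.1) := IsLocallyNoetherian.component_noetherian U
    exact RingHom.FinitePresentation.of_finiteType.mp (f.finiteType_appLE U.2 V.2 e)
  -- the reduced base and the base change
  let Y₀ : Scheme.{u} := Y.nilradical.subscheme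
  let i : Y₀ ⟶ Y := Y.nilradical.subschemeι
  haveI : IsReduced Y₀ := Groth.Agent.H54.UOD.isReduced_nilradical_subscheme Y
  haveI : Surjective i := ⟨Groth.Agent.H54.UOD.surjective_nilradical_subschemeι Y⟩
  haveI : IsLocallyNoetherian Y₀ := LocallyOfFiniteType.isLocallyNoetherian i
  let X₀ : Scheme.{u} := Limits.pullback f i
  let j : X₀ ⟶ X := Limits.pullback.fst f i
  let f₀ : X₀ ⟶ Y₀ := Limits.pullback.snd f i
  have sq : IsPullback j f₀ f i := IsPullback.of_hasPullback f i
  haveI : LocallyOfFiniteType f₀ := inferInstanceAs (LocallyOfFiniteType (Limits.pullback.snd f i))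
  haveI : IsClosedImmersion j := inferInstanceAs (IsClosedImmersion (Limits.pullback.fst f i))
  haveI : Surjective j := inferInstanceAs (Surjective (Limits.pullback.fst f i))
  have hiinj : Function.Injective i := i.isEmbedding.injective
  obtain ⟨x₀, rfl⟩ := j.surjective x
  -- geometric reducedness of the fibres is insensitive to the base change
  have hgr : ∀ t : X₀, FBase.IsGeomReducedAt (f₀.fiberToSpecResidueField (f₀.base t)) (f₀.asFiber t) ↔
      FBase.IsGeomReducedAt (f.fiberToSpecResidueField (f.base (j t))) (f.asFiber (j t)) := by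
    intro t
    rw [Groth.Agent.H58.SkOpen.geomReducedAt_iff_rkSk, Groth.Agent.H58.SkOpen.geomReducedAt_iff_rkSk]
    exact (Groth.Agent.H58.SkOpen.isStableQ_rkSk 0).baseChange f f₀ j i sq inferInstance t
  have hw : ∀ t : X₀, i (f₀ t) = f (j t) := fun t => by
    rw [← Scheme.Hom.comp_apply, ← Scheme.Hom.comp_apply, sq.w]
  -- the hypothesis on universal openness
  have hopen₀ : ∀ z₀ : ↥(f₀.fiber (f₀.base x₀)), f₀.asFiber x₀ ∈ closure {z₀} →
      (∀ z' : ↥(f₀.fiber (f₀.base x₀)), z₀ ∈ closure {z'} → z' = z₀) →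
      EGA43.IsUnivOpenAt f₀ ((f₀.fiberι (f₀.base x₀)).base z₀) := by
    intro z₀ hz₀ hmax
    have hfz : f (j (f₀.fiberι _ z₀)) = f (j x₀) := by
      rw [← hw, ← hw]
      congr 1
      exact (f₀.range_fiberι _).le ⟨z₀, rfl⟩
    obtain ⟨z, hz⟩ : j (f₀.fiberι _ z₀) ∈ Set.range (f.fiberι (f (j x₀))) := by
      rw [f.range_fiberι]; exact hfz
    have h1 : EGA43.IsUnivOpenAt f (f.fiberι _ z) := by
      refine hopen z ?_ ?_
      · rw [← specializes_iff_mem_closure,
          ← (f.fiberι _).isEmbedding.toIsInducing.specializes_iff, hz, f.fiberι_asFiber]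
        refine Specializes.map ?_ j.continuous
        have h2 : z₀ ⤳ f₀.asFiber x₀ := specializes_iff_mem_closure.mpr hz₀
        have h3 := h2.map (f₀.fiberι _).continuous
        rwa [f₀.fiberι_asFiber] at h3
      · intro z' hz'
        obtain ⟨t₀, ht₀⟩ := j.surjective (f.fiberι _ z')
        have hsp : f.fiberι _ z' ⤳ f.fiberι _ z :=
          (specializes_iff_mem_closure.mpr hz').map (f.fiberι _).continuous
        rw [hz, ← ht₀] at hsp
        have hsp₀ : t₀ ⤳ f₀.fiberι _ z₀ := (j.isEmbedding.toIsInducing.specializes_iff).mp hsp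
        have hft₀ : f₀ t₀ = f₀ x₀ := by
          apply hiinj
          rw [hw, hw, ht₀]
          exact (f.range_fiberι _).le ⟨z', rfl⟩
        obtain ⟨z'₀, hz'₀⟩ : t₀ ∈ Set.range (f₀.fiberι (f₀ x₀)) := by
          rw [f₀.range_fiberι]; exact hft₀
        rw [← hz'₀] at hsp₀
        have h4 := hmax z'₀ (specializes_iff_mem_closure.mp
          ((f₀.fiberι _).isEmbedding.toIsInducing.specializes_iff.mp hsp₀))
        apply (f.fiberι _).isEmbedding.injective
        rw [← ht₀, ← hz'₀, h4, hz]
    rw [hz] at h1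
    exact Groth.Agent.H25.isUnivOpenAt_of_isPullback h1 sq _ rfl
  -- geometric reducedness
  have hred : FBase.IsGeomReducedAt (f.fiberToSpecResidueField (f.base (j x₀))) (f.asFiber (j x₀)) := by
    intro K _ _ x' hx'
    haveI := hint K x' hx'
    infer_instance
  have hred₀ := (hgr x₀).mpr hred
  -- the fibre ideal at `x` is prime
  have hdom : (fibreIdeal f (j x₀)).IsPrime := by
    haveI : IsDomain ((f.fiber (f (j x₀))).presheaf.stalk (f.asFiber (j x₀))) :=
      isDomain_stalk_of_isGeomPtIntegralAt (f.fiberToSpecResidueField (f (j x₀))) _ hint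
    let e := quotientEquivStalkAsFiber f (j x₀)
    haveI : IsDomain (X.presheaf.stalk (j x₀) ⧸ fibreIdeal f (j x₀)) :=
      e.injective.isDomain e.toRingHom
    exact (Ideal.Quotient.isDomain_iff_prime _).mp inferInstance
  -- the fibre ideal at `x₀` is prime
  have hkerj := ker_stalkMap_le_nilradical j j.isEmbedding.toIsInducing j.surjective x₀
  have hdom₀ : (fibreIdeal f₀ x₀).IsPrime := by
    have h1 : fibreIdeal f₀ x₀ = (fibreIdeal f (j x₀)).map (j.stalkMap x₀).hom := by
      rw [← fibreIdeal_comp j f x₀]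
      have h2 : fibreIdeal (j ≫ f) x₀ = fibreIdeal (f₀ ≫ i) x₀ :=
        congrArg (fun h : X₀ ⟶ Y => fibreIdeal h x₀) sq.w
      rw [h2, fibreIdeal_comp f₀ i x₀]
      change Ideal.map (f₀.stalkMap x₀).hom (maximalIdeal (Y₀.presheaf.stalk (f₀ x₀))) = _
      congr 1
      exact (IsLocalRing.map_maximalIdeal_of_surjective (i.stalkMap (f₀ x₀)).hom
        (i.stalkMap_surjective (f₀ x₀))).symm
    rw [h1]
    haveI := hdom
    exact Ideal.map_isPrime_of_surjective (j.stalkMap_surjective x₀)
      (hkerj.trans (nilradical_le_prime _))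
  -- geometric unibranchness of the reduced base
  have hGU₀ : CAlg2.IsGeomUnibranch (Y₀.presheaf.stalk (f₀ x₀)) :=
    isGeomUnibranch_of_surjective (i.stalkMap (f₀ x₀)).hom (i.stalkMap_surjective (f₀ x₀))
      (ker_stalkMap_le_nilradical i i.isEmbedding.toIsInducing i.surjective (f₀ x₀))
      (Groth.Agent.H17.UO.gu_congr (hw x₀).symm hY)
  -- the smallest generization
  obtain ⟨g₀, hg₀, hmin₀⟩ := exists_smallest_generization_of_geomUnibranch f₀ x₀ hopen₀ hred₀
    hdom₀ inferInstance hGU₀
  have hg : j g₀ ⤳ j x₀ := hg₀.map j.continuous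
  have hmin : ∀ z : X, z ⤳ j x₀ → j g₀ ⤳ z := by
    intro z hz
    obtain ⟨z₀, rfl⟩ := j.surjective z
    exact (hmin₀ z₀ (j.isEmbedding.toIsInducing.specializes_iff.mp hz)).map j.continuous
  have hNP : (nilradical (X.presheaf.stalk (j x₀))).IsPrime :=
    isPrime_nilradical_of_smallest_generization (j x₀) (j g₀) hg hmin
  refine ⟨?_, ?_⟩
  · have h1 := Groth.Agent.H14.HensProp.EtNbhdMain.encard_eq_one_of_isPrime_nilradical (j x₀) hNP
    obtain ⟨Z₀, hZ₀⟩ := Set.encard_eq_one.mp h1
    have hmem : Z₀ ∈ {Z : Set X | Z ∈ irreducibleComponents X ∧ j x₀ ∈ Z} := by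
      rw [hZ₀]; exact Set.mem_singleton _
    refine ⟨Z₀, hmem, fun Z hZ => ?_⟩
    have : Z ∈ {Z : Set X | Z ∈ irreducibleComponents X ∧ j x₀ ∈ Z} := hZ
    rw [hZ₀] at this
    exact this
  · intro hdY
    haveI := hdY
    have hyred : _root_.IsReduced (Y.presheaf.stalk (f (j x₀))) := inferInstance
    have hflat := Groth.Agent.S2561.result f (j x₀) hopen hred hyred
    refine ⟨?_, hflat⟩
    have hO := Groth.Agent.S4963.result f
    haveI : _root_.IsReduced (X.presheaf.stalk (j x₀)) :=
      isReduced_stalk_of_flat f (j x₀) hflat hyred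
        (minimalPrimes.finite_of_isNoetherianRing _)
        (fun z hz => (hz.mem_open hO ⟨hflat, hred⟩).2)
    rw [nilradical_eq_zero] at hNP
    exact IsDomain.of_bot_isPrime _


/-- Let Y be locally Noetherian, f : X ⟶ Y locally of finite type, x a point of X and y = f x. Suppose f
is universally open at the generic point of every irreducible component of X_y through x, X_y is
geometrically pointwise integral at x, and O_{Y,y} is geometrically unibranch. Then x lies on
exactly one irreducible component of X. If moreover O_{Y,y} is a domain, then O_{X,x} is a domain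
and O_{Y,y} ⟶ O_{X,x} is flat. -/
theorem result {X Y : Scheme.{u}} [IsLocallyNoetherian Y]
    (f : X ⟶ Y) [LocallyOfFiniteType f] (x : X)
    (hopen : ∀ z : ↥(f.fiber (f.base x)), f.asFiber x ∈ closure {z} →
      (∀ z' : ↥(f.fiber (f.base x)), z ∈ closure {z'} → z' = z) →
      EGA43.IsUnivOpenAt f ((f.fiberι (f.base x)).base z))
    (hint : FBase.IsGeomPtIntegralAt (f.fiberToSpecResidueField (f.base x)) (f.asFiber x))
    (hY : CAlg2.IsGeomUnibranch (Y.presheaf.stalk (f.base x))) :
    (∃! Z : Set X, Z ∈ irreducibleComponents (X : Type u) ∧ x ∈ Z) ∧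
      (IsDomain (Y.presheaf.stalk (f.base x)) → IsDomain (X.presheaf.stalk x) ∧ (f.stalkMap x).hom.Flat) := by
  exact main f x hopen hint hY

end Groth.Agent.S3410
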