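import Groth.Statements.S3419
import Groth.Agent.H51.ConnCompDim
import Groth.Agent.H17.Chev.Main
import Groth.Agent.H17.Chev.TopAux

set_option autoImplicit false
open CategoryTheory AlgebraicGeometry
universe u
open EGA43

namespace Groth.Agent.S3419

/-- Let Y be locally Noetherian, f : X ⟶ Y locally of finite type and g a section of f; for y in Y let
X⁰_y be the connected component of the fibre f⁻¹(y) containing g(y). Suppose every X⁰_y is
irreducible. Then y ↦ dim X⁰_y is upper semicontinuous on Y; and if this function is constant on a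
neighbourhood of a point y, then X⁰_y is contained in the closure of X⁰_{y'} for every generization
y' of y. -/
theorem result {X Y : Scheme.{u}} [IsLocallyNoetherian Y] (f : X ⟶ Y)
    [LocallyOfFiniteType f] (g : Y ⟶ X) (hg : g ≫ f = 𝟙 Y)
    (hirr : ∀ y : Y, IsIrreducible (connectedComponentIn (f.base ⁻¹' {y}) (g.base y))) :
    UpperSemicontinuous (fun y : Y => topologicalKrullDim ↥(connectedComponentIn (f.base ⁻¹' {y}) (g.base y))) ∧
      ∀ y : Y, (∃ V ∈ nhds y, ∀ z ∈ V, topologicalKrullDim ↥(connectedComponentIn (f.base ⁻¹' {z}) (g.base z)) = topologicalKrullDim ↥(connectedComponentIn (f.base ⁻¹' {y}) (g.base y))) →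
        ∀ y' : Y, y' ⤳ y → connectedComponentIn (f.base ⁻¹' {y}) (g.base y) ⊆ closure (connectedComponentIn (f.base ⁻¹' {y'}) (g.base y')) := by
  have hgy : ∀ y : Y, f.base (g.base y) = y := fun y => by
    have := congrArg (fun h => h.base y) hg
    simpa using this
  have hdim : ∀ y : Y, topologicalKrullDim
      ↥(connectedComponentIn (f.base ⁻¹' {y}) (g.base y)) = FlatMor.fibreDimAt f (g.base y) :=
    fun y => (Groth.Agent.H51.fibreComp_facts f y (g.base y) (hgy y) (hirr y)).2.1
  constructor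
  · rw [upperSemicontinuous_iff]
    intro y
    rw [upperSemicontinuousAt_iff]
    intro c hc
    obtain ⟨n, hn⟩ := Groth.Agent.H17.Chev.exists_nat_eq_fibreDimAt f (g.base y)
    have hopen := (Groth.Agent.H17.Chev.isOpen_setOf_fibreDimAt_le f n).preimage g.continuous
    have hy : y ∈ g.base ⁻¹' {x | FlatMor.fibreDimAt f x ≤ n} := hn.le
    filter_upwards [hopen.mem_nhds hy] with z hz
    change topologicalKrullDim _ < c
    rw [hdim z]
    change topologicalKrullDim _ < c at hc
    rw [hdim y, hn] at hc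
    exact lt_of_le_of_lt hz hc
  · rintro y ⟨V, hV, hconst⟩ y' hy'
    obtain ⟨⟨W, hW, hCW⟩, hdimC, -⟩ :=
      Groth.Agent.H51.fibreComp_facts f y (g.base y) (hgy y) (hirr y)
    obtain ⟨-, hdimC', ξ', hξ'C', hξ'⟩ :=
      Groth.Agent.H51.fibreComp_facts f y' (g.base y') (hgy y') (hirr y')
    have hy'V : y' ∈ V := mem_of_mem_nhds (hy' hV)
    have hd := hconst y' hy'V
    set C := connectedComponentIn (f.base ⁻¹' {y}) (g.base y) with hCdef
    set C' := connectedComponentIn (f.base ⁻¹' {y'}) (g.base y') with hC'def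
    set T := closure ({ξ'} : Set X) with hTdef
    have hTcl : T ⊆ closure C' := closure_mono (Set.singleton_subset_iff.mpr hξ'C')
    have hfξ' : f.base ξ' = y' := connectedComponentIn_subset (f.base ⁻¹' {y'}) _ hξ'C'
    have hgyT : g.base y ∈ T := by
      have h1 : g.base y' ⤳ g.base y := hy'.map g.continuous
      have h2 : g.base y' ∈ T := hξ' (mem_connectedComponentIn (hgy y'))
      exact h1.mem_closed isClosed_closure h2
    have key := Groth.Agent.H17.Chev.dim_generic_le_localDim f T isClosed_closure ξ'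
      isGenericPoint_closure (g.base y) hgyT
    have hA : topologicalKrullDim ↥C' ≤ topologicalKrullDim ↥(T ∩ f.base ⁻¹' {f.base ξ'}) := by
      have hsub : C' ⊆ T ∩ f.base ⁻¹' {f.base ξ'} := fun c hc =>
        ⟨hξ' hc, by rw [hfξ']; exact connectedComponentIn_subset (f.base ⁻¹' {y'}) _ hc⟩
      exact (Topology.IsEmbedding.inclusion hsub).isInducing.topologicalKrullDim_le
    have hgyC : g.base y ∈ C := mem_connectedComponentIn (hgy y)
    have hgyW : g.base y ∈ W := by
      have := hgyC
      rw [hCW] at this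
      exact this.1
    have hB1 : FlatMor.localDim ↥(T ∩ f.base ⁻¹' {f.base (g.base y)}) ⟨g.base y, hgyT, rfl⟩ =
        FlatMor.localDim ↥(T ∩ f.base ⁻¹' {y}) ⟨g.base y, hgyT, hgy y⟩ :=
      Groth.Agent.H17.Chev.localDim_subtype_congr (by rw [hgy y]) _ _ _
    have hB2 : FlatMor.localDim ↥(C ∩ T) ⟨g.base y, hgyC, hgyT⟩ =
        FlatMor.localDim ↥(T ∩ f.base ⁻¹' {y}) ⟨g.base y, hgyT, hgy y⟩ := by
      refine Groth.Agent.H17.Chev.localDim_eq_of_inter_subset (T ∩ f.base ⁻¹' {y}) (C ∩ T) W hW
        (fun c hc => ⟨hc.2, connectedComponentIn_subset (f.base ⁻¹' {y}) _ hc.1⟩) ?_ (g.base y) ⟨hgyC, hgyT⟩ hgyW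
      rintro c ⟨hcW, hcT, hcF⟩
      refine ⟨?_, hcT⟩
      rw [hCW]
      exact ⟨hcW, hcF⟩
    have hB3 : FlatMor.localDim ↥(C ∩ T) ⟨g.base y, hgyC, hgyT⟩ ≤ topologicalKrullDim ↥(C ∩ T) :=
      Groth.Agent.H17.Chev.localDim_le_dim _
    by_contra hnot
    have hne : C ∩ T ≠ C := by
      intro h
      apply hnot
      intro c hc
      rw [← h] at hc
      exact hTcl hc.2
    have hlt := Groth.Agent.H51.topologicalKrullDim_add_one_le_of_ssubset C (C ∩ T) (hirr y)
      Set.inter_subset_left T isClosed_closure rfl hne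
    obtain ⟨n, hn⟩ := Groth.Agent.H17.Chev.exists_nat_eq_fibreDimAt f (g.base y)
    have h5 : topologicalKrullDim ↥C' ≤ topologicalKrullDim ↥(C ∩ T) :=
      hA.trans (key.trans (by rw [hB1, ← hB2]; exact hB3))
    rw [hd, hdimC, hn] at h5
    rw [hdimC, hn] at hlt
    have h6 : ((n : ℕ) : WithBot ℕ∞) + 1 ≤ n := le_trans (by gcongr) hlt
    have h7 : ((n + 1 : ℕ) : WithBot ℕ∞) ≤ (n : ℕ) := by exact_mod_cast h6
    have h8 : n + 1 ≤ n := by exact_mod_cast h7
    omega

end Groth.Agent.S3419
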