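import Groth.Statements.S3428
import Groth.Agent.H99.FibClosureMain

set_option autoImplicit false
open CategoryTheory AlgebraicGeometry
universe u
open EGA43

namespace Groth.Agent.S3428

/-- Let f : X ⟶ S be of finite presentation (locally of finite presentation, quasi-compact,
quasi-separated) and Z a locally constructible subset of X. Then the set of points s of S such that
Z ∩ f⁻¹(s) is closed in the fibre f⁻¹(s) (with the topology induced from X), the set of s such that
it is open in the fibre, and the set of s such that it is locally closed in the fibre, are locally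
constructible in S. -/
theorem result {X S : Scheme.{u}} (f : X ⟶ S)
    [LocallyOfFinitePresentation f] [QuasiCompact f] [QuasiSeparated f] (Z : Set X)
    (hZ : Topology.IsLocallyConstructible Z) :
    Topology.IsLocallyConstructible {s : S | IsClosed (Subtype.val ⁻¹' Z : Set ↥(f.base ⁻¹' {s}))} ∧
      Topology.IsLocallyConstructible {s : S | IsOpen (Subtype.val ⁻¹' Z : Set ↥(f.base ⁻¹' {s}))} ∧
      Topology.IsLocallyConstructible {s : S | IsLocallyClosed (Subtype.val ⁻¹' Z : Set ↥(f.base ⁻¹' {s}))} := by
  refine ⟨Groth.Agent.H99.FibClosureMain.isLocallyConstructible_closed f Z hZ, ?_, ?_⟩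
  · have h := Groth.Agent.H99.FibClosureMain.isLocallyConstructible_closed f Zᶜ
      (Groth.Agent.H17.isLocallyConstructible_compl hZ)
    have hE : {s : S | IsOpen (Subtype.val ⁻¹' Z : Set ↥(f.base ⁻¹' {s}))} =
        {s : S | IsClosed (Subtype.val ⁻¹' Zᶜ : Set ↥(f.base ⁻¹' {s}))} := by
      ext s
      simp only [Set.mem_ofPred_eq, Set.preimage_compl, isClosed_compl_iff]
    rw [hE]
    exact h
  · have h1 := Groth.Agent.H99.FibClosureMain.isLocallyConstructible_fibCl f Z hZ
    have h2 := h1.inter (Groth.Agent.H17.isLocallyConstructible_compl hZ)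
    have h := Groth.Agent.H99.FibClosureMain.isLocallyConstructible_closed f _ h2
    have hE : {s : S | IsLocallyClosed (Subtype.val ⁻¹' Z : Set ↥(f.base ⁻¹' {s}))} =
        {s : S | IsClosed (Subtype.val ⁻¹'
          ({x : X | x ∈ closure (Z ∩ f.base ⁻¹' {f.base x})} ∩ Zᶜ) : Set ↥(f.base ⁻¹' {s}))} := by
      ext s
      simp only [Set.mem_ofPred_eq]
      rw [isLocallyClosed_iff_isOpen_coborder, coborder, isOpen_compl_iff,
        Groth.Agent.H12.closure_preimage_val]
      have hset : (Subtype.val ⁻¹' closure (Z ∩ f.base ⁻¹' {s}) \ Subtype.val ⁻¹' Z :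
          Set ↥(f.base ⁻¹' {s})) = Subtype.val ⁻¹'
          ({x : X | x ∈ closure (Z ∩ f.base ⁻¹' {f.base x})} ∩ Zᶜ) := by
        ext ⟨x, hx⟩
        have hx' : f.base x = s := hx
        subst hx'
        simp only [Set.mem_sdiff, Set.mem_preimage, Set.mem_inter_iff, Set.mem_ofPred_eq,
          Set.mem_compl_iff]
      rw [hset]
    rw [hE]
    exact h

end Groth.Agent.S3428
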