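import Groth.Statements.S3432
import Groth.Agent.H17.JacSpace

set_option autoImplicit false
open CategoryTheory AlgebraicGeometry
universe u
open EGA43

namespace Groth.Agent.S3432

/-- Let X be a locally Noetherian scheme and Y a closed subset of X such that every nonempty closed
subset of X meets Y. Then the open subscheme X ∖ Y (equivalently, the subspace X ∖ Y) is a Jacobson
space. -/
theorem result (X : Scheme.{u}) [IsLocallyNoetherian X] (Y : Set X)
    (hY : IsClosed Y) (hmeet : ∀ Z : Set X, IsClosed Z → Z.Nonempty → (Z ∩ Y).Nonempty) :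
    JacobsonSpace ↥(Yᶜ) := by
  apply Groth.Agent.H17.jacobsonSpace_compl _ Y hY hmeet
  intro y
  obtain ⟨W, hW', hyW, -⟩ :=
    TopologicalSpace.Opens.isBasis_iff_nbhd.mp X.isBasis_affineOpens (U := ⊤) (Set.mem_univ y)
  have hW : IsAffineOpen W := hW'
  have hN : IsNoetherianRing Γ(X, W) := IsLocallyNoetherian.component_noetherian ⟨W, hW⟩
  have hy : y ∈ Set.range hW.fromSpec := by
    rw [hW.range_fromSpec]
    exact hyW
  exact ⟨Γ(X, W), inferInstance, hN, hW.fromSpec.base, hW.fromSpec.isOpenEmbedding, hy⟩

end Groth.Agent.S3432
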