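import Groth.Statements.S3433
import Groth.Agent.H17.JacDim

set_option autoImplicit false
universe u
open EGA43

namespace Groth.Agent.S3433

/-- Let A be a Noetherian local ring with maximal ideal m and let Y be the punctured spectrum Spec A ∖
{m}. Then Y is a Jacobson space, and a point p of Y is closed in Y if and only if dim A/p = 1. -/
theorem result (A : Type u) [CommRing A] [IsNoetherianRing A] [IsLocalRing A] :
    JacobsonSpace ↥({IsLocalRing.closedPoint A}ᶜ : Set (PrimeSpectrum A)) ∧
      ∀ p : ↥({IsLocalRing.closedPoint A}ᶜ : Set (PrimeSpectrum A)),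
        IsClosed ({p} : Set ↥({IsLocalRing.closedPoint A}ᶜ : Set (PrimeSpectrum A))) ↔
          ringKrullDim (A ⧸ p.1.asIdeal) = 1 := by
  constructor
  · apply Groth.Agent.H17.jacobsonSpace_compl
    · intro y
      exact ⟨A, inferInstance, inferInstance, id, Topology.IsOpenEmbedding.id, ⟨y, rfl⟩⟩
    · rw [PrimeSpectrum.isClosed_singleton_iff_isMaximal]
      exact IsLocalRing.maximalIdeal.isMaximal A
    · intro Z hZ ⟨q, hq⟩
      refine ⟨IsLocalRing.closedPoint A, ?_, rfl⟩
      exact (IsLocalRing.specializes_closedPoint q).mem_closed hZ hq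
  · intro p
    have hp : p.1 ≠ IsLocalRing.closedPoint A := p.2
    let mk := Ideal.Quotient.mk p.1.asIdeal
    have hsurj : Function.Surjective mk := Ideal.Quotient.mk_surjective
    have hker : RingHom.ker mk = p.1.asIdeal := Ideal.mk_ker
    rw [Groth.Agent.H17.ringKrullDim_eq_one_iff_of_isDomain]
    constructor
    · intro hcl
      refine ⟨fun hF => ?_, fun I hI0 hI => ?_⟩
      · have hmax : p.1.asIdeal.IsMaximal := Ideal.Quotient.maximal_of_isField _ hF
        apply hp
        apply PrimeSpectrum.ext
        exact IsLocalRing.eq_maximalIdeal hmax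
      · -- the prime `q = comap mk I`
        let q : PrimeSpectrum A := ⟨I.comap mk, inferInstance⟩
        have hpq : p.1.asIdeal ≤ q.asIdeal := by
          intro a ha
          change mk a ∈ I
          rw [Ideal.Quotient.eq_zero_iff_mem.mpr ha]
          exact zero_mem _
        have hIq : I = q.asIdeal.map mk := (Ideal.map_comap_of_surjective mk hsurj I).symm
        by_cases hq : q = IsLocalRing.closedPoint A
        · have hqmax : q.asIdeal.IsMaximal := by
            rw [hq]; exact IsLocalRing.maximalIdeal.isMaximal A
          rw [hIq]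
          rcases Ideal.map_eq_top_or_isMaximal_of_surjective mk hsurj hqmax with h | h
          · exact absurd (hIq ▸ h) hI.ne_top
          · exact h
        · exfalso
          let q' : ↥({IsLocalRing.closedPoint A}ᶜ : Set (PrimeSpectrum A)) := ⟨q, hq⟩
          have hspec : p ⤳ q' := by
            rw [subtype_specializes_iff]
            exact (PrimeSpectrum.le_iff_specializes p.1 q).mp hpq
          have : q' ∈ ({p} : Set _) := hspec.mem_closed hcl rfl
          have hqp : q = p.1 := congrArg Subtype.val this
          apply hI0
          rw [hIq, hqp, Ideal.map_eq_bot_iff_le_ker, hker]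
    · rintro ⟨-, hdim⟩
      rw [← closure_subset_iff_isClosed]
      intro q hq
      by_contra hne
      have hne' : q ≠ p := hne
      have hspec : p.1 ⤳ q.1 := (subtype_specializes_iff p q).mp (specializes_iff_mem_closure.mpr hq)
      have hpq : p.1.asIdeal ≤ q.1.asIdeal := (PrimeSpectrum.le_iff_specializes p.1 q.1).mpr hspec
      have hprime : (q.1.asIdeal.map mk).IsPrime :=
        Ideal.map_isPrime_of_surjective hsurj (by rw [hker]; exact hpq)
      have hcm : (q.1.asIdeal.map mk).comap mk = q.1.asIdeal := by
        rw [Ideal.comap_map_of_surjective mk hsurj, ← RingHom.ker_eq_comap_bot, hker]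
        exact sup_eq_left.mpr hpq
      have hne0 : q.1.asIdeal.map mk ≠ ⊥ := by
        intro h
        rw [h, ← RingHom.ker_eq_comap_bot, hker] at hcm
        exact hne' (Subtype.ext (PrimeSpectrum.ext hcm.symm))
      have hmax := hdim _ hne0 hprime
      have hqmax : q.1.asIdeal.IsMaximal := by
        rw [← hcm]
        exact Ideal.comap_isMaximal_of_surjective mk hsurj
      exact q.2 (PrimeSpectrum.ext (IsLocalRing.eq_maximalIdeal hqmax))

end Groth.Agent.S3433
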