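import Groth.Statements.S3434
import Groth.Agent.H22.LocalProper

set_option autoImplicit false
open CategoryTheory AlgebraicGeometry
universe u
open EGA43

namespace Groth.Agent.S3434

/-- Let Y be an integral locally Noetherian scheme, X an integral scheme, f : X ⟶ Y separated, dominant
and of finite type, and y a point of Y; write K for the function field of X (the local ring at its
generic point ξ), into which O_{Y,y} maps through O_{Y,f ξ}. Then f is proper over some open
neighbourhood of y if and only if every discrete valuation ring of K which dominates (the image of)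
O_{Y,y} dominates (the image of) O_{X,x} for some point x of X; such an x lies over y. -/
theorem result {X Y : Scheme.{u}} [IsIntegral X] [IsIntegral Y] [IsLocallyNoetherian Y]
    (f : X ⟶ Y) [IsSeparated f] [IsDominant f] [LocallyOfFiniteType f] [QuasiCompact f] (y : Y)
    (hξ : f.base (genericPoint X) ⤳ y) :
    (∃ U : Y.Opens, y ∈ U ∧ IsProper (f ∣_ U)) ↔
      ∀ A : ValuationSubring X.functionField, IsDiscreteValuationRing A →
        (∀ r : Y.presheaf.stalk y, A.valuation ((Y.presheaf.stalkSpecializes hξ ≫ f.stalkMap (genericPoint X)) r) ≤ 1) →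
        (∀ r ∈ IsLocalRing.maximalIdeal (Y.presheaf.stalk y),
            A.valuation ((Y.presheaf.stalkSpecializes hξ ≫ f.stalkMap (genericPoint X)) r) < 1) →
        ∃ x : X, f.base x = y ∧
          (∀ r : X.presheaf.stalk x, A.valuation (X.presheaf.stalkSpecializes (genericPoint_specializes x) r) ≤ 1) ∧
          (∀ r ∈ IsLocalRing.maximalIdeal (X.presheaf.stalk x),
            A.valuation (X.presheaf.stalkSpecializes (genericPoint_specializes x) r) < 1) := by
  constructor
  · rintro ⟨U, hyU, hprop⟩ A hA h1 h2
    have hdom : Groth.Agent.H22.DVRCenter.DominatesBase f A y hξ :=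
      ⟨fun r => (A.valuation_le_one_iff _).mp (h1 r), h2⟩
    obtain ⟨x, hfx, hx⟩ :=
      Groth.Agent.H22.LocalProper.exists_center_of_universallyClosed_restrict U y hyU hξ A hdom
    exact ⟨x, hfx, fun r => (A.valuation_le_one_iff _).mpr (hx.1 r), hx.2⟩
  · intro H
    obtain ⟨_, ⟨W, hW, rfl⟩, hyW, -⟩ := Y.isBasis_affineOpens.exists_subset_of_mem_open
      (Set.mem_univ y) isOpen_univ
    have hDVR : ∀ A : ValuationSubring X.functionField, IsDiscreteValuationRing A →
        Groth.Agent.H22.DVRCenter.DominatesBase f A y hξ →
          ∃ x : X, f.base x = y ∧ Groth.Agent.H22.DomCenter.Dominates A x := by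
      intro A hA hdom
      obtain ⟨x, hfx, h1, h2⟩ := H A hA
        (fun r => (A.valuation_le_one_iff _).mpr (hdom.1 r)) hdom.2
      exact ⟨x, hfx, fun r => (A.valuation_le_one_iff _).mp (h1 r), h2⟩
    obtain ⟨U, hyU, hUW, hU⟩ := Groth.Agent.H22.LocalProper.exists_open_centers hW y hyW hξ hDVR
    exact ⟨U, hyU, Groth.Agent.H22.LocalProper.isProper_restrict_of_centers U
      (hξ.mem_open U.isOpen hyU) hU⟩


end Groth.Agent.S3434
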