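import Groth.Statements.S3435
import Mathlib.RingTheory.Kaehler.Basic
import Mathlib.LinearAlgebra.TensorProduct.RightExactness

set_option autoImplicit false
universe u
open EGA41

namespace Groth.Agent.S3435

open TensorProduct in
/-- Let Λ → A → B → C be ring homomorphisms. The homomorphism Ω_{B/Λ} ⊗_B C → Ω_{B/A} ⊗_B C maps the
imperfection module Υ_{C/B/Λ} (the kernel of Ω_{B/Λ} ⊗_B C → Ω_{C/Λ}) onto the imperfection module
Υ_{C/B/A} (the kernel of Ω_{B/A} ⊗_B C → Ω_{C/A}): every element of Υ_{C/B/A} is the image of some
element of Υ_{C/B/Λ}. -/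
theorem result (Λ A B C : Type u) [CommRing Λ] [CommRing A] [CommRing B] [CommRing C]
    [Algebra Λ A] [Algebra Λ B] [Algebra Λ C] [Algebra A B] [Algebra A C] [Algebra B C]
    [IsScalarTower Λ A B] [IsScalarTower Λ A C] [IsScalarTower Λ B C] [IsScalarTower A B C] :
    ∀ ω ∈ EGA41.imperfection A B C, ∃ η ∈ EGA41.imperfection Λ B C,
      (KaehlerDifferential.map Λ A B B).baseChange C η = ω := by
  intro ω hω
  -- notation
  let αΛ := KaehlerDifferential.mapBaseChange Λ B C
  let αA := KaehlerDifferential.mapBaseChange A B C
  let πB := KaehlerDifferential.map Λ A B B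
  let πC := KaehlerDifferential.map Λ A C C
  have hπBsurj : Function.Surjective πB := KaehlerDifferential.map_surjective Λ A B
  have hbc_surj : Function.Surjective (πB.baseChange C) := by
    have := LinearMap.lTensor_surjective C hπBsurj
    exact this
  -- commutative square
  have hsq : ∀ η, πC (αΛ η) = αA (πB.baseChange C η) := by
    intro η
    induction η using TensorProduct.induction_on with
    | zero => simp
    | tmul c x =>
      simp only [αΛ, αA, KaehlerDifferential.mapBaseChange_tmul, map_smul,
        LinearMap.baseChange_tmul]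
      congr 1
      have hx : x ∈ Submodule.span B (Set.range (KaehlerDifferential.D Λ B)) := by
        rw [KaehlerDifferential.span_range_derivation]; trivial
      induction hx using Submodule.span_induction with
      | mem x hx =>
        obtain ⟨b, rfl⟩ := hx
        simp [πB, πC]
      | zero => simp
      | add x y _ _ hx hy => simp only [map_add, hx, hy]
      | smul b x _ hx =>
        simp only [LinearMap.map_smul_of_tower, map_smul, hx]
    | add x y hx hy => simp only [map_add, hx, hy]
  -- the submodule of good elements
  let S : Submodule C (Ω[C⁄Λ]) := Submodule.map αΛ (LinearMap.ker (πB.baseChange C))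
  have hS : LinearMap.range (KaehlerDifferential.mapBaseChange Λ A C) ≤ S := by
    rintro _ ⟨ζ, rfl⟩
    induction ζ using TensorProduct.induction_on with
    | zero => simp
    | tmul c x =>
      rw [KaehlerDifferential.mapBaseChange_tmul]
      apply S.smul_mem
      have hx : x ∈ Submodule.span A (Set.range (KaehlerDifferential.D Λ A)) := by
        rw [KaehlerDifferential.span_range_derivation]; trivial
      induction hx using Submodule.span_induction with
      | mem x hx =>
        obtain ⟨a, rfl⟩ := hx
        refine ⟨(1 : C) ⊗ₜ[B] KaehlerDifferential.D Λ B (algebraMap A B a), ?_, ?_⟩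
        · simp [πB]
        · simp [αΛ, ← IsScalarTower.algebraMap_apply]
      | zero => simp
      | add x y _ _ hx hy => rw [map_add]; exact S.add_mem hx hy
      | smul a x _ hx =>
        rw [LinearMap.map_smul_of_tower]
        rw [← algebraMap_smul C a]
        exact S.smul_mem _ hx
    | add x y hx hy => rw [map_add]; exact S.add_mem hx hy
  obtain ⟨η₀, hη₀⟩ := hbc_surj ω
  have h1 : αΛ η₀ ∈ LinearMap.ker πC := by
    rw [LinearMap.mem_ker, hsq, hη₀]
    exact hω
  rw [← KaehlerDifferential.range_mapBaseChange] at h1
  obtain ⟨ξ, hξ, hξ'⟩ := hS h1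
  refine ⟨η₀ - ξ, ?_, ?_⟩
  · change αΛ (η₀ - ξ) = 0
    rw [map_sub, hξ', sub_self]
  · rw [map_sub, hη₀, LinearMap.mem_ker.mp hξ, sub_zero]

end Groth.Agent.S3435
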