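import Groth.Statements.S3436
import Mathlib
import Groth.Agent.H23.AdicFT

set_option autoImplicit false
open CategoryTheory AlgebraicGeometry
universe u
open EGA42

namespace Groth.Agent.S3436

/-- Let X and Y be locally Noetherian schemes, f : X ⟶ Y locally of finite type, x a point of X and y =
f x; give O_{X,x} the O_{Y,y}-algebra structure coming from f. Then O_{X,x} is formally smooth over
O_{Y,y} for the adic topologies of the two local rings (topologies defined by the maximal ideals) if
and only if it is formally smooth for the discrete topologies. -/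
theorem result {X Y : Scheme.{u}} [IsLocallyNoetherian X] [IsLocallyNoetherian Y]
    (f : X ⟶ Y) [LocallyOfFiniteType f] (x : X) :
    letI : Algebra (Y.presheaf.stalk (f.base x)) (X.presheaf.stalk x) := (f.stalkMap x).hom.toAlgebra
    EGA41.IsFormallySmoothAdic (Y.presheaf.stalk (f.base x)) (IsLocalRing.maximalIdeal (Y.presheaf.stalk (f.base x)))
        (X.presheaf.stalk x) (IsLocalRing.maximalIdeal (X.presheaf.stalk x)) ↔
      Algebra.FormallySmooth (Y.presheaf.stalk (f.base x)) (X.presheaf.stalk x) := by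
  letI alg : Algebra (Y.presheaf.stalk (f x)) (X.presheaf.stalk x) := (f.stalkMap x).hom.toAlgebra
  obtain ⟨V, hV, hyV, -⟩ := TopologicalSpace.Opens.isBasis_iff_nbhd.mp Y.isBasis_affineOpens
    (TopologicalSpace.Opens.mem_top (f x))
  obtain ⟨U, hU, hxU, e⟩ := TopologicalSpace.Opens.isBasis_iff_nbhd.mp X.isBasis_affineOpens
    (show x ∈ f ⁻¹ᵁ V from hyV)
  have hft : (f.appLE V U e).hom.FiniteType :=
    HasRingHomProperty.appLE @LocallyOfFiniteType f ‹_› ⟨V, hV⟩ ⟨U, hU⟩ e
  have hnoeth : IsNoetherianRing Γ(Y, V) := IsLocallyNoetherian.component_noetherian ⟨V, hV⟩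
  letI algAB : Algebra Γ(Y, V) Γ(X, U) := (f.appLE V U e).hom.toAlgebra
  have hft' : Algebra.FiniteType Γ(Y, V) Γ(X, U) := hft
  letI algAA' : Algebra Γ(Y, V) (Y.presheaf.stalk (f x)) :=
    Y.presheaf.algebra_section_stalk ⟨f x, hyV⟩
  letI algBS : Algebra Γ(X, U) (X.presheaf.stalk x) :=
    X.presheaf.algebra_section_stalk ⟨x, hxU⟩
  have hlocA : IsLocalization.AtPrime (Y.presheaf.stalk (f x)) (hV.primeIdealOf ⟨f x, hyV⟩).asIdeal :=
    hV.isLocalization_stalk ⟨f x, hyV⟩
  have hlocB : IsLocalization.AtPrime (X.presheaf.stalk x) (hU.primeIdealOf ⟨x, hxU⟩).asIdeal :=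
    hU.isLocalization_stalk ⟨x, hxU⟩
  letI algAS : Algebra Γ(Y, V) (X.presheaf.stalk x) :=
    ((algebraMap Γ(X, U) (X.presheaf.stalk x)).comp (algebraMap Γ(Y, V) Γ(X, U))).toAlgebra
  have t1 : IsScalarTower Γ(Y, V) Γ(X, U) (X.presheaf.stalk x) :=
    IsScalarTower.of_algebraMap_eq' rfl
  have t2 : IsScalarTower Γ(Y, V) (Y.presheaf.stalk (f x)) (X.presheaf.stalk x) := by
    apply IsScalarTower.of_algebraMap_eq
    intro a
    change X.presheaf.germ U x hxU ((f.appLE V U e) a) =
      f.stalkMap x (Y.presheaf.germ V (f x) hyV a)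
    rw [Scheme.Hom.germ_stalkMap_apply, Scheme.Hom.appLE]
    simp
  constructor
  · intro h
    have h' : CAlgX.IsAdicFormallySmooth (Y.presheaf.stalk (f x)) (X.presheaf.stalk x)
        (IsLocalRing.maximalIdeal (X.presheaf.stalk x)) := by
      intro E _ _ N hN ψ hψ
      obtain ⟨k, hk⟩ := hψ
      refine h E N ⟨2, hN⟩ ⟨2 * k, ?_⟩ ψ ⟨k, hk⟩
      have hloc : IsLocalHom (algebraMap (Y.presheaf.stalk (f x)) (X.presheaf.stalk x)) :=
        inferInstanceAs (IsLocalHom (f.stalkMap x).hom)
      have hle : (IsLocalRing.maximalIdeal (Y.presheaf.stalk (f x))).map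
          (algebraMap (Y.presheaf.stalk (f x)) (X.presheaf.stalk x)) ≤
          IsLocalRing.maximalIdeal (X.presheaf.stalk x) :=
        ((IsLocalRing.local_hom_TFAE
          (algebraMap (Y.presheaf.stalk (f x)) (X.presheaf.stalk x))).out 0 2).mp hloc
      have hk1 : (IsLocalRing.maximalIdeal (Y.presheaf.stalk (f x)) ^ k).map
          (algebraMap (Y.presheaf.stalk (f x)) E) ≤ N := by
        rw [Ideal.map_le_iff_le_comap]
        intro a ha
        rw [Ideal.mem_comap, ← Ideal.Quotient.eq_zero_iff_mem]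
        have h1 : Ideal.Quotient.mk N (algebraMap _ E a) =
            ψ (algebraMap (Y.presheaf.stalk (f x)) (X.presheaf.stalk x) a) := by
          rw [ψ.commutes]; rfl
        rw [h1]
        apply hk
        have h2 := Ideal.mem_map_of_mem
          (algebraMap (Y.presheaf.stalk (f x)) (X.presheaf.stalk x)) ha
        rw [Ideal.map_pow] at h2
        exact Ideal.pow_right_mono hle k h2
      rw [eq_bot_iff, two_mul, pow_add, Ideal.map_mul, ← hN, pow_two]
      exact Ideal.mul_mono hk1 hk1
    exact Groth.Agent.H23.AdicFT.formallySmooth_of_adic_of_finiteType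
      (A := Γ(Y, V)) (B := Γ(X, U))
      (hV.primeIdealOf ⟨f x, hyV⟩).asIdeal.primeCompl (hU.primeIdealOf ⟨x, hxU⟩).asIdeal h'
  · intro h E _ _ N hN _ ψ _
    exact Algebra.FormallySmooth.exists_lift N hN ψ

end Groth.Agent.S3436
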