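import Groth.Statements.S3440
import Groth.Agent.S0386
import Groth.Agent.H72.Miracle
import Groth.Agent.H49.CMLocalize
import Groth.Agent.H26.CMFlat
import Groth.Agent.H51.FlatDimFormula
import Groth.Agent.H49.FibreStalk
import Groth.Agent.H17.Chev.OpenAt4

set_option autoImplicit false
set_option linter.style.haveILetI false
open CategoryTheory AlgebraicGeometry
universe u
open EGA43

namespace Groth.Agent.S3440

/-- Let Y be locally Noetherian, f : X ⟶ Y locally of finite type, x a point of X and y = f x; suppose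
O_{Y,y} is regular and O_{X,x} is Cohen–Macaulay. The following are equivalent: a) O_{Y,y} ⟶ O_{X,x}
is flat and the local ring of X_y at x is Cohen–Macaulay; b) O_{Y,y} ⟶ O_{X,x} is flat; c) the
restriction of f to some open neighbourhood of x is universally open; d) f is open at the generic
point of every irreducible component of X_y through x; e') dim O_{X,x} = dim O_{Y,y} + dim
O_{X_y,x}. -/
theorem result {X Y : Scheme.{u}} [IsLocallyNoetherian Y] (f : X ⟶ Y)
    [LocallyOfFiniteType f] (x : X) (hreg : IsRegularLocalRing (Y.presheaf.stalk (f.base x)))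
    (hCM : LocCoh.IsCohenMacaulayLocalRing (X.presheaf.stalk x)) :
    List.TFAE [
      (f.stalkMap x).hom.Flat ∧ LocCoh.IsCohenMacaulayLocalRing ((f.fiber (f.base x)).presheaf.stalk (f.asFiber x)),
      (f.stalkMap x).hom.Flat,
      ∃ U : X.Opens, x ∈ U ∧ UniversallyOpen (U.ι ≫ f),
      (∀ z : ↥(f.fiber (f.base x)), f.asFiber x ∈ closure {z} →
          (∀ z' : ↥(f.fiber (f.base x)), z ∈ closure {z'} → z' = z) →
          EGA43.IsOpenAt f.base ((f.fiberι (f.base x)).base z)),
      ringKrullDim (X.presheaf.stalk x) =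
        ringKrullDim (Y.presheaf.stalk (f.base x)) + ringKrullDim ((f.fiber (f.base x)).presheaf.stalk (f.asFiber x)) ] := by
  haveI hXN : IsLocallyNoetherian X := LocallyOfFiniteType.isLocallyNoetherian f
  haveI hlfp : LocallyOfFinitePresentation f :=
    Groth.Agent.H51.locallyOfFinitePresentation_of_isLocallyNoetherian f
  letI alg : Algebra (Y.presheaf.stalk (f.base x)) (X.presheaf.stalk x) :=
    (f.stalkMap x).hom.toAlgebra
  haveI : IsLocalHom (algebraMap (Y.presheaf.stalk (f.base x)) (X.presheaf.stalk x)) :=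
    inferInstanceAs (IsLocalHom (f.stalkMap x).hom)
  have e := Groth.Agent.H49.FibreStalk.quotientEquivStalkAsFiber f x
  tfae_have 1 → 2 := fun h => h.1
  tfae_have 2 → 1 := by
    intro hfl
    haveI : Module.Flat (Y.presheaf.stalk (f.base x)) (X.presheaf.stalk x) := hfl
    refine ⟨hfl, ?_⟩
    have h1 := (Groth.Agent.H72.FlatCM.isCohenMacaulayLocalRing_iff_of_flat
      (A := Y.presheaf.stalk (f.base x)) (B := X.presheaf.stalk x)).mp hCM
    exact Groth.Agent.H49.isCohenMacaulayLocalRing_of_ringEquiv e h1.2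
  tfae_have 2 → 3 := by
    intro hfl
    have hopen := Groth.Agent.S0386.result f
    let U : X.Opens := ⟨{x | (f.stalkMap x).hom.Flat}, hopen⟩
    refine ⟨U, hfl, ?_⟩
    haveI : Flat (U.ι ≫ f) := by
      apply Flat.of_stalkMap
      intro u
      have h3 : (CommRingCat.Hom.hom ((U.ι ≫ f).stalkMap u)) =
          (U.ι.stalkMap u).hom.comp (f.stalkMap (U.ι.base u)).hom := by
        rw [Scheme.Hom.stalkMap_comp]; rfl
      rw [h3]
      refine RingHom.Flat.comp u.2 ?_
      exact RingHom.Flat.of_bijective (ConcreteCategory.bijective_of_isIso (U.ι.stalkMap u))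
    infer_instance
  tfae_have 3 → 4 := by
    rintro ⟨U, hxU, hU⟩ z hz _
    have h1 : z ⤳ f.asFiber x := specializes_iff_mem_closure.mpr hz
    have h2 := h1.map (f.fiberι (f.base x)).continuous
    rw [f.fiberι_asFiber] at h2
    have hzU : (f.fiberι (f.base x)).base z ∈ U := h2.mem_open U.2 hxU
    intro W hW
    obtain ⟨W', hW'W, hW'o, hzW'⟩ := mem_nhds_iff.mp hW
    rw [mem_nhds_iff]
    refine ⟨(U.ι ≫ f).base '' (U.ι.base ⁻¹' W'), ?_, ?_, ?_⟩
    · rintro _ ⟨u, hu, rfl⟩
      exact ⟨U.ι.base u, hW'W hu, rfl⟩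
    · exact (U.ι ≫ f).isOpenMap _ (hW'o.preimage U.ι.continuous)
    · exact ⟨⟨_, hzU⟩, hzW', rfl⟩
  tfae_have 4 → 5 := Groth.Agent.H17.Chev.stalk_dim_eq_add_of_isOpenAt f x
  tfae_have 5 → 2 := by
    intro hdim
    haveI := hreg
    haveI : IsNoetherianRing (X.presheaf.stalk x) := hCM.toIsNoetherian
    have hfl := Groth.Agent.H72.Miracle.flat_of_isCohenMacaulay (Y.presheaf.stalk (f.base x))
      (X.presheaf.stalk x) (X.presheaf.stalk x) hCM.supportDim_eq_depth (by
        rw [Module.supportDim_self_eq_ringKrullDim, hdim]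
        congr 1
        rw [← RingEquiv.ringKrullDim e]
        have h1 : (Ideal.map (algebraMap (Y.presheaf.stalk (f.base x)) (X.presheaf.stalk x))
            (IsLocalRing.maximalIdeal (Y.presheaf.stalk (f.base x))) •
            (⊤ : Submodule (X.presheaf.stalk x) (X.presheaf.stalk x))) =
            Ideal.map (algebraMap (Y.presheaf.stalk (f.base x)) (X.presheaf.stalk x))
              (IsLocalRing.maximalIdeal (Y.presheaf.stalk (f.base x))) := by
          rw [smul_eq_mul, Ideal.mul_top]
        rw [h1, Module.supportDim_quotient_eq_ringKrullDim]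
        rfl)
    exact hfl
  tfae_finish

end Groth.Agent.S3440
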