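import Groth.Statements.S3449
import Groth.Agent.H17.Chev.EquiCodim

set_option autoImplicit false
open CategoryTheory AlgebraicGeometry
universe u
open EGA43

namespace Groth.Agent.S3449

/-- Let S be a locally Noetherian scheme which is Jacobson, whose local rings are universally catenary,
and whose irreducible components S' are equidimensional in the sense that for every closed point s
of S' the dimension of S' equals the dimension of S' at s (the Krull dimension of the set of
generizations of s inside S'). Let X and Y be S-schemes, each locally of finite type over the base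
S, and let f : X ⟶ Y be a morphism over S, with X irreducible and f dominant; let η be the generic
point of Y and e the dimension of the fibre over η. Then dim X = dim Y + e. -/
theorem result {X Y S : Scheme.{u}} [IsLocallyNoetherian S]
    [JacobsonSpace S] (h2 : ∀ s : S, CAlg.IsUniversallyCatenary (S.presheaf.stalk s))
    (h3 : ∀ S' ∈ irreducibleComponents (S : Type u), ∀ s ∈ S', IsClosed ({s} : Set S) →
      topologicalKrullDim (↥S' : Type u) = topologicalKrullDim ↥{t : S | t ∈ S' ∧ t ⤳ s})
    (p : X ⟶ S) (q : Y ⟶ S) [LocallyOfFiniteType p] [LocallyOfFiniteType q] (f : X ⟶ Y) (hf : f ≫ q = p)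
    [IrreducibleSpace X] [IrreducibleSpace Y] [IsDominant f] :
    topologicalKrullDim (X : Type u) =
      topologicalKrullDim (Y : Type u) + topologicalKrullDim ↥(f.fiber (genericPoint Y)) := by
  have hJX : JacobsonSpace X := LocallyOfFiniteType.jacobsonSpace p
  have hJY : JacobsonSpace Y := LocallyOfFiniteType.jacobsonSpace q
  have hlftf : LocallyOfFiniteType f := by
    have : LocallyOfFiniteType (f ≫ q) := by rw [hf]; infer_instance
    exact locallyOfFiniteType_of_comp f q
  have hYN : IsLocallyNoetherian Y := LocallyOfFiniteType.isLocallyNoetherian q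
  obtain ⟨x₀, -, hx₀⟩ := nonempty_inter_closedPoints (X := X) (Z := Set.univ)
    ⟨genericPoint X, trivial⟩ isClosed_univ.isLocallyClosed
  have hy₀ : IsClosed ({f.base x₀} : Set Y) := f.closePoints_subset_preimage_closedPoints hx₀
  rw [Groth.Agent.H17.Chev.topologicalKrullDim_eq_stalk_dim_of_isClosed h2 h3 p x₀ hx₀,
    Groth.Agent.H17.Chev.topologicalKrullDim_eq_stalk_dim_of_isClosed h2 h3 q (f.base x₀) hy₀]
  have hcat : CAlg.IsUniversallyCatenary (Y.presheaf.stalk (f.base x₀)) := by
    let : Algebra (S.presheaf.stalk (q.base (f.base x₀))) (Y.presheaf.stalk (f.base x₀)) :=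
      (q.stalkMap (f.base x₀)).hom.toAlgebra
    have : Algebra.EssFiniteType (S.presheaf.stalk (q.base (f.base x₀)))
        (Y.presheaf.stalk (f.base x₀)) := LocallyOfFiniteType.stalkMap q (f.base x₀)
    exact Groth.Agent.S9126.result (S.presheaf.stalk (q.base (f.base x₀))) (Y.presheaf.stalk (f.base x₀)) (h2 _)
  have key := Groth.Agent.H17.Chev.stalk_dim_add_fibreDimAt_eq f x₀ hcat
  rw [Groth.Agent.H17.Chev.fibreDimAt_eq_stalk_of_isClosed f x₀ hx₀] at key
  have hlft : LocallyOfFiniteType (f.fiberToSpecResidueField (f.base x₀)) :=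
    inferInstanceAs (LocallyOfFiniteType (Limits.pullback.snd f (Y.fromSpecResidueField (f.base x₀))))
  have : IsLocallyNoetherian (f.fiber (f.base x₀)) :=
    LocallyOfFiniteType.isLocallyNoetherian (f.fiberToSpecResidueField (f.base x₀))
  obtain ⟨n, hn⟩ := Groth.Agent.H17.Chev.exists_nat_eq_ringKrullDim
    ((f.fiber (f.base x₀)).presheaf.stalk (f.asFiber x₀))
  rw [hn] at key
  refine Groth.Agent.H17.Chev.eq_of_add_natCast_eq_add_natCast (n := n) ?_
  rw [key]
  ring

end Groth.Agent.S3449
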