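import Groth.Statements.S3451
import Groth.Agent.H99.FibEquiGen
import Groth.Agent.H99.FibrePropGen

set_option autoImplicit false
open CategoryTheory AlgebraicGeometry
universe u
open EGA43

namespace Groth.Agent.S3451

/-- Let f : X ⟶ S be locally of finite presentation. The set of points x of X such that the fibre of f
through x is equidimensional at x (all irreducible components of that fibre passing through x have
the same dimension) is locally constructible in X. -/
theorem result {X S : Scheme.{u}} (f : X ⟶ S)
    [LocallyOfFinitePresentation f] :
    Topology.IsLocallyConstructible {x : X | ∃ e : ℕ,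
      ∀ Z ∈ irreducibleComponents (↥(f.fiber (f.base x)) : Type u), f.asFiber x ∈ Z →
        topologicalKrullDim (↥Z : Type u) = e} := by
  have hgood : Groth.Agent.H99.FibrePropGen.IsGoodGen
      (fun X S f x => Groth.Agent.H99.FibEqui.FibEqui f x) :=
    { baseChange := fun X S X' S' f f' g' g h hlft x' => by
        have := hlft
        exact Groth.Agent.H99.FibEqui.fibEqui_baseChange f f' g' g h x'
      openImm := fun U X S j f hj hlft u => by
        have := hj
        exact Groth.Agent.H99.FibEqui.fibEqui_openImm j f u
      generic := fun X S f hN hI hlft hqc => by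
        have := hN
        have := hI
        have := hlft
        have := hqc
        obtain ⟨U, hU, hO⟩ := Groth.Agent.H99.FibEquiGen.generic_isOpen f
        exact ⟨U, ⟨_, hU⟩, hO⟩ }
  have h := Groth.Agent.H99.FibrePropGen.isLocallyConstructible hgood f
  have hE : {x : X | ∃ e : ℕ,
      ∀ Z ∈ irreducibleComponents (↥(f.fiber (f.base x)) : Type u), f.asFiber x ∈ Z →
        topologicalKrullDim (↥Z : Type u) = e} = {x : X | Groth.Agent.H99.FibEqui.FibEqui f x} := by
    ext x
    exact (Groth.Agent.H99.FibEqui.fibEqui_iff f x).symm
  rw [hE]
  exact h

end Groth.Agent.S3451
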