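import Groth.Statements.S3453
import Groth.Agent.H99.CodepthFib
import Groth.Agent.H17.ProConsCompl

set_option autoImplicit false
open CategoryTheory AlgebraicGeometry
universe u
open EGA43

namespace Groth.Agent.S3453

/-- Let f : X ⟶ S be locally of finite presentation and n a natural number. The set of points x of X
such that the local ring of the fibre of f through x at x has codepth n (its Krull dimension equals
its depth plus n) is locally constructible in X. -/
theorem result {X S : Scheme.{u}} (f : X ⟶ S)
    [LocallyOfFinitePresentation f] (n : ℕ) :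
    Topology.IsLocallyConstructible {x : X |
      ringKrullDim ((f.fiber (f.base x)).presheaf.stalk (f.asFiber x)) =
        ((LocCoh.depth ((f.fiber (f.base x)).presheaf.stalk (f.asFiber x)) ((f.fiber (f.base x)).presheaf.stalk (f.asFiber x)) : ℕ∞) : WithBot ℕ∞) + n} := by
  have hN : ∀ x : X, IsNoetherianRing ((f.fiber (f.base x)).presheaf.stalk (f.asFiber x)) := by
    intro x
    have := Groth.Agent.H49.CMChart.isLocallyNoetherian_fiber f (f.base x)
    infer_instance
  have h1 := Groth.Agent.H99.CodepthFib.isLocallyConstructible_fibCodepthLE n f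
  have h2 := Groth.Agent.H17.isLocallyConstructible_compl
    (Groth.Agent.H99.CodepthFib.isLocallyConstructible_fibCodepthLE (n - 1) f)
  by_cases hn : n = 0
  · convert h1 using 1
    ext x
    have := hN x
    rw [Set.mem_ofPred_eq, Set.mem_ofPred_eq,
      Groth.Agent.H99.CodepthProp.codepth_eq_iff n
        ((f.fiber (f.base x)).presheaf.stalk (f.asFiber x))]
    constructor
    · intro h
      exact h.1
    · intro h
      exact ⟨h, Or.inl hn⟩
  · convert h1.inter h2 using 1
    ext x
    have := hN x
    rw [Set.mem_ofPred_eq, Set.mem_inter_iff, Set.mem_compl_iff, Set.mem_ofPred_eq,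
      Set.mem_ofPred_eq,
      Groth.Agent.H99.CodepthProp.codepth_eq_iff n
        ((f.fiber (f.base x)).presheaf.stalk (f.asFiber x))]
    constructor
    · rintro ⟨h, h' | h'⟩
      · exact absurd h' hn
      · exact ⟨h, h'⟩
    · rintro ⟨h, h'⟩
      exact ⟨h, Or.inr h'⟩

end Groth.Agent.S3453
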