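import Groth.Statements.S3457
import Groth.Agent.H17.Chev.EquidimStar

set_option autoImplicit false
open CategoryTheory AlgebraicGeometry
universe u
open EGA43

namespace Groth.Agent.S3457

/-- Let Y be locally Noetherian, f : X ⟶ Y locally of finite type, x a point of X with y = f x, and
suppose f is equidimensional at x and O_{Y,y} is universally catenary. Let e be the local dimension
at x of the fibre X_y. Then for every minimal prime 𝔭 of O_{X,x} (that is, for every irreducible
component X_j of X through x, with O_{X_j,x} = O_{X,x}/𝔭 and O_{Y_j,y} = O_{Y,y}/(𝔭 ∩ O_{Y,y})) one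
has dim(O_{X,x}/𝔭) + trdeg_{κ(y)} κ(x) = dim(O_{Y,y}/(𝔭 ∩ O_{Y,y})) + e. -/
theorem result {X Y : Scheme.{u}} [IsLocallyNoetherian Y] (f : X ⟶ Y)
    [LocallyOfFiniteType f] (x : X) (h : EGA43.IsEquidimAt f x)
    (hcat : CAlg.IsUniversallyCatenary (Y.presheaf.stalk (f.base x))) :
    letI : Algebra (Y.residueField (f.base x)) (X.residueField x) := (f.residueFieldMap x).hom.toAlgebra
    ∀ 𝔭 ∈ minimalPrimes (X.presheaf.stalk x),
      ringKrullDim (X.presheaf.stalk x ⧸ 𝔭) +
          (Cardinal.toNat (Algebra.trdeg (Y.residueField (f.base x)) (X.residueField x)) : WithBot ℕ∞) =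
        ringKrullDim (Y.presheaf.stalk (f.base x) ⧸ 𝔭.comap (f.stalkMap x).hom) + FlatMor.fibreDimAt f x := by
  intro 𝔭 h𝔭
  have h𝔭p : 𝔭.IsPrime := h𝔭.1.1
  let P : PrimeSpectrum (X.presheaf.stalk x) := ⟨𝔭, h𝔭p⟩
  have hmax := Groth.Agent.H17.Chev.isMax_fromSpecStalk_of_mem_minimalPrimes X x P h𝔭
  have hξx := Groth.Agent.H17.Chev.fromSpecStalk_specializes X x P
  obtain ⟨e, U, hxU, hmaxU, hfibU⟩ := Groth.Agent.H17.Chev.exists_opens_of_isEquidimAt f x h
  obtain ⟨hstar, hloc⟩ := Groth.Agent.H17.Chev.coheight_closure_eq_add_of_fibreDimAt_eq f x hcat e U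
    hxU hfibU _ hmax hξx
  have hX := Groth.Agent.H17.Chev.ringKrullDim_quotient_eq_coheight X x P
  have hQ := Groth.Agent.H17.Chev.fromSpecStalk_comap_stalkMap f x P
  have hY := Groth.Agent.H17.Chev.ringKrullDim_quotient_eq_coheight Y (f.base x)
    (PrimeSpectrum.comap (f.stalkMap x).hom P)
  have hY' : ringKrullDim (Y.presheaf.stalk (f.base x) ⧸ 𝔭.comap (f.stalkMap x).hom) =
      (Order.coheight (⟨f.base x, (hξx.map f.continuous).mem_closure⟩ :
        ↥(closure ({f.base ((X.fromSpecStalk x).base P)} : Set Y))) : WithBot ℕ∞) := by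
    rw [show 𝔭.comap (f.stalkMap x).hom = (PrimeSpectrum.comap (f.stalkMap x).hom P).asIdeal from rfl,
      hY]
    congr 1
    exact Groth.Agent.H17.Chev.coheight_subtype_congr' (by rw [hQ]) rfl _ _
  have hT := Groth.Agent.H17.Chev.dim_closure_asFiber_eq_trdeg f x
  have hK := Groth.Agent.H17.Chev.localDim_inter_fibre_eq_coheight_add f
    (closure {(X.fromSpecStalk x).base P}) isClosed_closure x hξx.mem_closure
  rw [hloc, hT] at hK
  have hX' : ringKrullDim (X.presheaf.stalk x ⧸ 𝔭) =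
      (Order.coheight (⟨x, hξx.mem_closure⟩ :
        ↥(closure ({(X.fromSpecStalk x).base P} : Set X))) : WithBot ℕ∞) := hX
  rw [hX', hY', hstar, hfibU x hxU, add_assoc, ← hK]

end Groth.Agent.S3457
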