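import Groth.Statements.S3459
import Groth.Agent.H17.Flat.AdmMain

set_option autoImplicit false
open CategoryTheory AlgebraicGeometry
universe u
open EGA43

namespace Groth.Agent.S3459

set_option linter.style.haveILetI false

open Groth.Agent.H15.StalkLoc Groth.Agent.H99.LocFactorial Groth.Agent.H17.Flat in
/-- The main statement, separated from `result`. -/
theorem main {X Y : Scheme.{u}} [IrreducibleSpace Y]
    [IsLocallyNoetherian Y] (f : X ⟶ Y) [LocallyOfFiniteType f] (x : X)
    (h1 : ∃! Zc : Set ↥(f.fiber (f.base x)), Zc ∈ irreducibleComponents (↥(f.fiber (f.base x)) : Type u) ∧ f.asFiber x ∈ Zc)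
    (h2 : ∀ z : ↥(f.fiber (f.base x)), f.asFiber x ∈ closure {z} →
      (∀ z' : ↥(f.fiber (f.base x)), z ∈ closure {z'} → z' = z) →
      FBase.IsGeomReducedAt (f.fiberToSpecResidueField (f.base x)) z) :
    letI adm : TopologicalSpace.Closeds X → Prop := fun X' =>
      (X' : Set X) ∈ irreducibleComponents (X : Type u) ∧ ∃ hx : x ∈ X',
        FlatMor.localDim ↥((X' : Set X) ∩ f.base ⁻¹' {f.base x}) ⟨x, ⟨hx, Set.mem_singleton (f.base x)⟩⟩ =
          FlatMor.fibreDimAt f x ∧
        ∀ w : ↥(Scheme.IdealSheafData.vanishingIdeal X').subscheme,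
          f.base ((Scheme.IdealSheafData.vanishingIdeal X').subschemeι.base w) = f.base x →
          x ∈ closure {(Scheme.IdealSheafData.vanishingIdeal X').subschemeι.base w} →
          (∀ t : X, t ∈ (X' : Set X) → f.base t = f.base x →
              (Scheme.IdealSheafData.vanishingIdeal X').subschemeι.base w ∈ closure {t} →
              t = (Scheme.IdealSheafData.vanishingIdeal X').subschemeι.base w) →
          EGA43.IsUnivOpenAt ((Scheme.IdealSheafData.vanishingIdeal X').subschemeι ≫ f) w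
    {X' : TopologicalSpace.Closeds X | adm X'}.Subsingleton ∧
      ∀ X' : TopologicalSpace.Closeds X, adm X' →
        ∀ ζ : ↥(f.fiber (genericPoint Y)), closure {(f.fiberι (genericPoint Y)).base ζ} = (X' : Set X) →
          FBase.IsGeomReducedAt (f.fiberToSpecResidueField (genericPoint Y)) ζ := by
  classical
  -- the generic point of the fibre component through `x`
  obtain ⟨Zc, ⟨hZc, hxZc⟩, hZuniq⟩ := h1
  have hZcirr : IsIrreducible Zc := hZc.1
  have hZccl : IsClosed Zc := isClosed_of_mem_irreducibleComponents Zc hZc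
  obtain ⟨z₀, hz₀⟩ : ∃ z₀, IsGenericPoint z₀ Zc := ⟨_, hZcirr.isGenericPoint_genericPoint hZccl⟩
  have hz₀top : ∀ z : ↥(f.fiber (f.base x)), z ⤳ f.asFiber x → z₀ ⤳ z := by
    intro z hz
    obtain ⟨Z', hZ', hzZ'⟩ := exists_mem_irreducibleComponents_subset_of_isIrreducible
      (closure {z}) isIrreducible_singleton.closure
    have hxZ' : f.asFiber x ∈ Z' := hzZ' (specializes_iff_mem_closure.mp hz)
    have hZ'eq : Z' = Zc := hZuniq Z' ⟨hZ', hxZ'⟩
    rw [specializes_iff_mem_closure, hz₀.def, ← hZ'eq]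
    exact hzZ' (subset_closure rfl)
  have hz₀x : z₀ ⤳ f.asFiber x := by
    rw [specializes_iff_mem_closure, hz₀.def]; exact hxZc
  have hz₀max : ∀ z' : ↥(f.fiber (f.base x)), z₀ ∈ closure {z'} → z' = z₀ := by
    intro z' hz'
    have h1 : z' ⤳ z₀ := specializes_iff_mem_closure.mpr hz'
    have h2 : z₀ ⤳ z' := hz₀top z' (h1.trans hz₀x)
    exact (Specializes.antisymm h1 h2).eq
  have hz₀red := h2 z₀ (specializes_iff_mem_closure.mp hz₀x) hz₀max
  obtain ⟨w, hwdef⟩ : ∃ w : X, f.fiberι (f x) z₀ = w := ⟨_, rfl⟩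
  have hfw : f w = f x := by
    rw [← hwdef]; exact (f.range_fiberι (f x)).le ⟨z₀, rfl⟩
  have hwx : w ⤳ x := by
    rw [← hwdef]
    have := hz₀x.map (f.fiberι (f x)).continuous
    rwa [f.fiberι_asFiber] at this
  have hwtop : ∀ t : X, f t = f x → t ⤳ x → w ⤳ t := by
    intro t hft htx
    obtain ⟨z, rfl⟩ : t ∈ Set.range (f.fiberι (f x)) := by rw [f.range_fiberι]; exact hft
    have hz : z ⤳ f.asFiber x :=
      (f.fiberι (f x)).isEmbedding.toIsInducing.specializes_iff.mp
        (by rw [f.fiberι_asFiber]; exact htx)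
    rw [← hwdef]
    exact (hz₀top z hz).map (f.fiberι (f x)).continuous
  have hwred : FBase.IsGeomReducedAt (f.fiberToSpecResidueField (f w)) (f.asFiber w) :=
    (isGeomReducedAt_fiber_iff_asFiber f w (f x) hfw z₀ hwdef).mp hz₀red
  have hfacts := adm_facts f x w hfw hwx hwtop hwred
  refine ⟨?_, ?_⟩
  · intro X'₁ h₁ X'₂ h₂
    obtain ⟨hirr₁, hx₁, hdim₁, hUO₁⟩ := h₁
    obtain ⟨hirr₂, hx₂, hdim₂, hUO₂⟩ := h₂
    obtain ⟨hw₁, -, hP₁⟩ := hfacts X'₁ hx₁ hdim₁ hUO₁
    obtain ⟨hw₂, -, hP₂⟩ := hfacts X'₂ hx₂ hdim₂ hUO₂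
    obtain ⟨ξ₁, hξ₁⟩ : ∃ ξ, IsGenericPoint ξ (X'₁ : Set X) :=
      ⟨_, hirr₁.1.isGenericPoint_genericPoint X'₁.isClosed⟩
    obtain ⟨ξ₂, hξ₂⟩ : ∃ ξ, IsGenericPoint ξ (X'₂ : Set X) :=
      ⟨_, hirr₂.1.isGenericPoint_genericPoint X'₂.isClosed⟩
    have hξ₁w : ξ₁ ⤳ w := hξ₁.specializes hw₁
    have hξ₂w : ξ₂ ⤳ w := hξ₂.specializes hw₂
    have e₁ : genPrime hξ₁w = nilradical (X.presheaf.stalk w) :=
      le_antisymm (hP₁ ξ₁ hξ₁w hξ₁.mem (hξ₁.def ▸ le_rfl)) (nilradical_le_prime _)
    have e₂ : genPrime hξ₂w = nilradical (X.presheaf.stalk w) :=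
      le_antisymm (hP₂ ξ₂ hξ₂w hξ₂.mem (hξ₂.def ▸ le_rfl)) (nilradical_le_prime _)
    have hξ : ξ₁ = ξ₂ := eq_of_genPrime_eq hξ₁w hξ₂w (e₁.trans e₂.symm)
    apply TopologicalSpace.Closeds.ext
    rw [← hξ₁.def, ← hξ₂.def, hξ]
  · intro X' hadm ζ hζ
    obtain ⟨-, hx', hdim', hUO'⟩ := hadm
    obtain ⟨hw', hG, -⟩ := hfacts X' hx' hdim' hUO'
    have hfξ : f ((f.fiberι (genericPoint Y)) ζ) = genericPoint Y :=
      (f.range_fiberι (genericPoint Y)).le ⟨ζ, rfl⟩
    have hξw : (f.fiberι (genericPoint Y)) ζ ⤳ w := by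
      rw [specializes_iff_mem_closure]
      have : closure {(f.fiberι (genericPoint Y)) ζ} = (X' : Set X) := hζ
      rw [this]; exact hw'
    exact (isGeomReducedAt_fiber_iff_asFiber f _ (genericPoint Y) hfξ ζ rfl).mpr (hG _ hξw)


/-- Let Y be an irreducible locally Noetherian scheme with generic point η, f : X ⟶ Y locally of finite
type, x a point of X and y = f x. Suppose (1) x lies on exactly one irreducible component Z of the
fibre X_y, and (2) X_y is geometrically reduced at the generic point of Z. Call an irreducible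
component X' of X containing x admissible when the local dimension at x of X' ∩ f⁻¹(y) equals that
of f⁻¹(y) and the restriction of f to X' (with its reduced structure) is universally open at the
generic points of the irreducible components of X' ∩ f⁻¹(y) containing x. Then there is at most one
admissible X'; and if X' is admissible, the fibre X_η is geometrically reduced at the generic point
of X'. -/
theorem result {X Y : Scheme.{u}} [IrreducibleSpace Y]
    [IsLocallyNoetherian Y] (f : X ⟶ Y) [LocallyOfFiniteType f] (x : X)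
    (h1 : ∃! Zc : Set ↥(f.fiber (f.base x)), Zc ∈ irreducibleComponents (↥(f.fiber (f.base x)) : Type u) ∧ f.asFiber x ∈ Zc)
    (h2 : ∀ z : ↥(f.fiber (f.base x)), f.asFiber x ∈ closure {z} →
      (∀ z' : ↥(f.fiber (f.base x)), z ∈ closure {z'} → z' = z) →
      FBase.IsGeomReducedAt (f.fiberToSpecResidueField (f.base x)) z) :
    letI adm : TopologicalSpace.Closeds X → Prop := fun X' =>
      (X' : Set X) ∈ irreducibleComponents (X : Type u) ∧ ∃ hx : x ∈ X',
        FlatMor.localDim ↥((X' : Set X) ∩ f.base ⁻¹' {f.base x}) ⟨x, ⟨hx, Set.mem_singleton (f.base x)⟩⟩ =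
          FlatMor.fibreDimAt f x ∧
        ∀ w : ↥(Scheme.IdealSheafData.vanishingIdeal X').subscheme,
          f.base ((Scheme.IdealSheafData.vanishingIdeal X').subschemeι.base w) = f.base x →
          x ∈ closure {(Scheme.IdealSheafData.vanishingIdeal X').subschemeι.base w} →
          (∀ t : X, t ∈ (X' : Set X) → f.base t = f.base x →
              (Scheme.IdealSheafData.vanishingIdeal X').subschemeι.base w ∈ closure {t} →
              t = (Scheme.IdealSheafData.vanishingIdeal X').subschemeι.base w) →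
          EGA43.IsUnivOpenAt ((Scheme.IdealSheafData.vanishingIdeal X').subschemeι ≫ f) w
    {X' : TopologicalSpace.Closeds X | adm X'}.Subsingleton ∧
      ∀ X' : TopologicalSpace.Closeds X, adm X' →
        ∀ ζ : ↥(f.fiber (genericPoint Y)), closure {(f.fiberι (genericPoint Y)).base ζ} = (X' : Set X) →
          FBase.IsGeomReducedAt (f.fiberToSpecResidueField (genericPoint Y)) ζ := by
  exact main f x h1 h2

end Groth.Agent.S3459
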