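import Groth.Statements.S3460
import Mathlib

set_option autoImplicit false
open CategoryTheory AlgebraicGeometry
universe u
open EGA43

namespace Groth.Agent.S3460

/-- Let Y be locally Noetherian and f : X ⟶ Y of finite type. Then there exist a scheme Z, a proper
morphism g : X ⟶ Z and an immersion h : Z ⟶ Y with f = g ≫ h if and only if f is proper at every
point of f(X), i.e. every point of f(X) has an open neighbourhood U in Y over which the restriction
of f is proper. -/
theorem result {X Y : Scheme.{u}} [IsLocallyNoetherian Y]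
    (f : X ⟶ Y) [LocallyOfFiniteType f] [QuasiCompact f] :
    (∃ (Z : Scheme.{u}) (g : X ⟶ Z) (h : Z ⟶ Y), IsProper g ∧ IsImmersion h ∧ g ≫ h = f) ↔
      ∀ x : X, ∃ U : Y.Opens, f.base x ∈ U ∧ IsProper (f ∣_ U) := by
  constructor
  · rintro ⟨Z, g, h, hg, hh, rfl⟩ x
    have hmem : ∀ z : X, (g ≫ h) z ∈ h.coborderRange := by
      intro z
      have : (g ≫ h) z = h.coborderRange.ι (h.liftCoborder (g z)) := by
        rw [← Scheme.Hom.comp_apply, h.liftCoborder_ι, Scheme.Hom.comp_apply]
      rw [this]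
      exact (h.liftCoborder (g z)).2
    refine ⟨h.coborderRange, hmem x, ?_⟩
    let p := g ≫ h.liftCoborder
    have hp : p ≫ h.coborderRange.ι = g ≫ h := by
      simp only [p, Category.assoc, h.liftCoborder_ι]
    have htop : (g ≫ h) ⁻¹ᵁ h.coborderRange = ⊤ := by
      rw [eq_top_iff]
      intro z _
      exact hmem z
    have hiso : IsIso ((g ≫ h) ⁻¹ᵁ h.coborderRange).ι :=
      isIso_of_isOpenImmersion_of_opensRange_eq_top _ (by
        rw [Scheme.Opens.opensRange_ι]; exact htop)
    have heq : (g ≫ h) ∣_ h.coborderRange = ((g ≫ h) ⁻¹ᵁ h.coborderRange).ι ≫ p := by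
      rw [← cancel_mono h.coborderRange.ι, morphismRestrict_ι, Category.assoc, hp]
    rw [heq]
    infer_instance
  · intro H
    choose U hxU hprop using H
    let U₀ : Y.Opens := ⨆ x, U x
    have hrange : Set.range f ⊆ Set.range U₀.ι := by
      rintro _ ⟨x, rfl⟩
      rw [Scheme.Opens.range_ι]
      exact TopologicalSpace.Opens.mem_iSup.mpr ⟨x, hxU x⟩
    let g := IsOpenImmersion.lift U₀.ι f hrange
    have hg : g ≫ U₀.ι = f := IsOpenImmersion.lift_fac _ _ _
    refine ⟨U₀.toScheme, g, U₀.ι, ?_, inferInstance, hg⟩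
    let V : X → U₀.toScheme.Opens := fun x => U₀.ι ⁻¹ᵁ U x
    have hV : iSup V = ⊤ := by
      rw [eq_top_iff]
      intro z _
      obtain ⟨x, hx⟩ := TopologicalSpace.Opens.mem_iSup.mp z.2
      exact TopologicalSpace.Opens.mem_iSup.mpr ⟨x, hx⟩
    rw [IsZariskiLocalAtTarget.iff_of_iSup_eq_top (P := @IsProper) V hV]
    intro x
    have h1 : IsProper ((g ≫ U₀.ι) ∣_ U x) := by rw [hg]; exact hprop x
    rw [morphismRestrict_comp] at h1
    exact @IsProper.of_comp _ _ _ (g ∣_ V x) (U₀.ι ∣_ U x) h1 inferInstance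


end Groth.Agent.S3460
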