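import Groth.Statements.S3526
import Groth.Agent.H9.LeftDerivedFilteredColimits
import Mathlib.Algebra.Category.ModuleCat.LeftResolution
import Mathlib.Algebra.Category.ModuleCat.FilteredColimits
import Mathlib.Algebra.Category.ModuleCat.AB
import Mathlib.Algebra.Category.ModuleCat.Monoidal.Closed

set_option autoImplicit false
universe u
open HTor

namespace Groth.Agent.S3526

open CategoryTheory CategoryTheory.Limits in
/-- In the case of single modules, second variable: for an A-module M and p ≥ 0, the functor N ↦
Tor_p^A(M, N) preserves filtered colimits. (Tor is Mathlib's, left derived in the second variable.) -/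
theorem result (A : Type u) [CommRing A] (p : ℕ) (M : ModuleCat.{u} A)
    (J : Type u) [SmallCategory J] [IsFiltered J] :
    PreservesColimitsOfShape J ((CategoryTheory.Tor (ModuleCat.{u} A) p).obj M) := by
  have hforget : PreservesColimitsOfShape J (forget (ModuleCat.{u} A)) :=
    PreservesFilteredColimitsOfSize.preserves_filtered_colimits J
  have hfree : PreservesColimitsOfShape J (ModuleCat.free A) :=
    (ModuleCat.adj A).leftAdjoint_preservesColimits.preservesColimitsOfShape
  have hFr : PreservesColimitsOfShape J (forget (ModuleCat.{u} A) ⋙ ModuleCat.free A) :=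
    inferInstance
  have hepi : ∀ N : ModuleCat.{u} A, Epi ((ModuleCat.adj A).counit.app N) :=
    fun N => (ModuleCat.projectiveResolution A).epi_π_app N
  have hproj : ∀ N : ModuleCat.{u} A,
      Projective ((forget (ModuleCat.{u} A) ⋙ ModuleCat.free A).obj N) :=
    fun N => inferInstanceAs (Projective ((ModuleCat.free A).obj _))
  have htens : PreservesColimitsOfShape J
      ((MonoidalCategory.tensoringLeft (ModuleCat.{u} A)).obj M) :=
    (ihom.adjunction M).leftAdjoint_preservesColimits.preservesColimitsOfShape
  exact Groth.Agent.H9.FunctorialResolution.preservesColimitsOfShape_leftDerived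
    (forget (ModuleCat.{u} A) ⋙ ModuleCat.free A) (ModuleCat.adj A).counit
    ((MonoidalCategory.tensoringLeft (ModuleCat.{u} A)).obj M) p

end Groth.Agent.S3526
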