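import Groth.Statements.S3534
import Groth.Agent.H9.TorChangeRing
import Mathlib.RingTheory.Localization.BaseChange

set_option autoImplicit false
universe u
open HTor

namespace Groth.Agent.S3534

/-- Let S be a multiplicative subset of a commutative ring A, A' = S⁻¹A, and P, Q two A'-modules, viewed
as A-modules by restriction of scalars. Then for every n there is a bijective map Tor_n^A(P, Q) →
Tor_n^{A'}(P, Q) which is semilinear over A → A' (so that, in particular, every s ∈ S acts
bijectively on Tor_n^A(P, Q)). (Tor is taken as the left derived functor of the tensor product in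
the second variable. The published statement gives a canonical isomorphism, for hyper-Tor of
complexes; this is the case of single modules.) -/
theorem result (A A' : Type u) [CommRing A] [CommRing A'] [Algebra A A']
    (S : Submonoid A) [IsLocalization S A'] (P Q : Type u) [AddCommGroup P] [Module A' P] [Module A P]
    [IsScalarTower A A' P] [AddCommGroup Q] [Module A' Q] [Module A Q] [IsScalarTower A A' Q] (n : ℕ) :
    ∃ φ : DRing.Tor A n P Q →ₛₗ[algebraMap A A'] DRing.Tor A' n P Q, Function.Bijective φ := by
  have hflat : Module.Flat A A' := IsLocalization.flat A' S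
  have hloc : IsLocalizedModule S (LinearMap.id : Q →ₗ[A] Q) := isLocalizedModule_id S Q A'
  have hbc : IsBaseChange A' (LinearMap.id : Q →ₗ[A] Q) := IsLocalizedModule.isBaseChange S A' _
  let e : TensorProduct A A' Q ≃ₗ[A'] Q := hbc.equiv
  have e2 := ((((CategoryTheory.Tor (ModuleCat.{u} A') n).obj (ModuleCat.of A' P)).mapIso
    e.toModuleIso)).toLinearEquiv
  exact Groth.Agent.H9.TorChangeRing.SemiIso.of_right
    (Groth.Agent.H9.TorChangeRing.semiIso_tor P n (ModuleCat.of A Q)
      (fun q => Groth.Agent.H9.isZero_tor_succ_of_flat_left _ _ q)) e2

end Groth.Agent.S3534
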