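import Groth.Statements.S3537
import Groth.Agent.H9.TorChangeRing

set_option autoImplicit false
universe u
open HTor

namespace Groth.Agent.S3537

/-- Base change for Tor: let A → A′ be a homomorphism of commutative rings, P an A-module with
Tor_q^A(P, A′) = 0 for all q ≥ 1, and Q′ an A′-module, regarded also as an A-module. Then for every
n ≥ 0 there is a bijective map Tor_n^A(P, Q′) → Tor_n^{A′}(A′ ⊗_A P, Q′) that is semilinear over A →
A′. Here Tor is the left derived functor of the tensor product in the second variable, and only the
existence of such a bijective semilinear map is asserted. The published statement is the degenerate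
case of a base-change spectral sequence for hypertor of modules over schemes; stated here in the
affine case with a single module. -/
theorem result (A A' : Type u) [CommRing A] [CommRing A'] [Algebra A A']
    (P : Type u) [AddCommGroup P] [Module A P] (Q' : Type u) [AddCommGroup Q'] [Module A' Q'] [Module A Q']
    [IsScalarTower A A' Q'] (hP : ∀ q : ℕ, 0 < q → Subsingleton (DRing.Tor A q P A')) (n : ℕ) :
    ∃ φ : DRing.Tor A n P Q' →ₛₗ[algebraMap A A'] DRing.Tor A' n (TensorProduct A A' P) Q',
      Function.Bijective φ := by
  have hX : ∀ q : ℕ, CategoryTheory.Limits.IsZero (((CategoryTheory.Tor (ModuleCat.{u} A) (q + 1)).obj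
      (ModuleCat.of A A')).obj (ModuleCat.of A P)) := by
    intro q
    have := hP (q + 1) (Nat.succ_pos q)
    exact Groth.Agent.H9.isZero_tor_flip (ModuleCat.isZero_of_subsingleton _)
  obtain ⟨e1⟩ := Groth.Agent.H9.nonempty_tor_flip_iso (ModuleCat.of A P) (ModuleCat.of A Q') n
  obtain ⟨e2⟩ := Groth.Agent.H9.nonempty_tor_flip_iso (ModuleCat.of A' Q')
    (ModuleCat.of A' (TensorProduct A A' P)) n
  exact Groth.Agent.H9.TorChangeRing.SemiIso.of_left e1.toLinearEquiv
    (Groth.Agent.H9.TorChangeRing.SemiIso.of_right
      (Groth.Agent.H9.TorChangeRing.semiIso_tor Q' n (ModuleCat.of A P) hX) e2.toLinearEquiv)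

end Groth.Agent.S3537
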