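import Groth.Statements.S3544
import Groth.Agent.H43.EulerSS

set_option autoImplicit false
universe u
open HomAlg3

namespace Groth.Agent.S3544

open CategoryTheory CategoryTheory.Limits in
/-- Let E be a cohomological spectral sequence of modules over a ring A, starting at page 2, such that
the E₂ terms have finite length and only finitely many of them (all inside the finite set s of
bidegrees) are nonzero. Then for every r ≥ 2 the Euler–Poincaré characteristic of page r, the
alternating sum over s of (-1)^{p+q} times the length of E_r^{pq}, equals that of page 2. -/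
theorem result {A : Type u} [Ring A]
    (E : E₂CohomologicalSpectralSequence (ModuleCat.{u} A)) (s : Finset (ℤ × ℤ))
    (hs : ∀ pq : ℤ × ℤ, pq ∉ s → IsZero ((E.page 2).X pq))
    (hfl : ∀ pq : ℤ × ℤ, IsFiniteLength A ((E.page 2).X pq)) (r : ℤ) (hr : 2 ≤ r) :
    (s.sum fun pq => (((pq.1 + pq.2).negOnePow : ℤˣ) : ℤ) * ((Module.length A ((E.page r hr).X pq)).toNat : ℤ)) =
      s.sum fun pq => (((pq.1 + pq.2).negOnePow : ℤˣ) : ℤ) * ((Module.length A ((E.page 2).X pq)).toNat : ℤ) := by
  open Groth.Agent.H43.EulerSS in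
  suffices H : ∀ (r : ℤ) (hr : 2 ≤ r),
      (∀ pq : ℤ × ℤ, pq ∉ s → IsZero ((E.page r hr).X pq)) ∧
      (∀ pq : ℤ × ℤ, IsFiniteLength A ((E.page r hr).X pq)) ∧
      (s.sum fun pq => sgn pq * ((Module.length A ((E.page r hr).X pq)).toNat : ℤ)) =
        s.sum fun pq => sgn pq * ((Module.length A ((E.page 2).X pq)).toNat : ℤ) from
    (H r hr).2.2
  intro r hr
  induction r, hr using Int.leInduction with
  | base => exact ⟨hs, hfl, rfl⟩
  | succ r hr ih =>
    obtain ⟨h1, h2, h3⟩ := ih
    have hv : ((⟨r, 1 - r⟩ : ℤ × ℤ)).1 + ((⟨r, 1 - r⟩ : ℤ × ℤ)).2 = 1 := by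
      simp
    obtain ⟨k1, k2, k3⟩ := euler_homology (K := E.page r hr) hv s h1 h2
    have hlen : ∀ pq : ℤ × ℤ, Module.length A ((E.page (r + 1) (by omega)).X pq) =
        Module.length A ((E.page r hr).homology pq) := fun pq =>
      (LinearEquiv.length_eq (E.iso r (r + 1) pq rfl hr).toLinearEquiv).symm
    refine ⟨fun pq hpq => IsZero.of_iso (k1 pq hpq) (E.iso r (r + 1) pq rfl hr).symm,
      fun pq => ?_, ?_⟩
    · rw [← Module.length_ne_top_iff, hlen pq, Module.length_ne_top_iff]
      exact k2 pq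
    · rw [← h3, ← k3]
      exact Finset.sum_congr rfl fun pq _ => by rw [hlen pq]

end Groth.Agent.S3544
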