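import Groth.Statements.S3547
import Groth.Agent.H18.GrTildeStalk

set_option autoImplicit false
universe u
open CategoryTheory CategoryTheory.Limits AlgebraicGeometry
open EGA2

namespace Groth.Agent.S3547

/-- Let S be a graded ring, M a graded S-module, X = Proj S and p a point of X. The stalk of M(n)~ at p
is the module of fractions m/f in M_p with m, f homogeneous, f not in p and deg m = deg f + n:
precisely, evaluation at p is a bijection from the stalk at p of the sheaf of local sections of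
M(n)~ onto that module of fractions. -/
theorem result {R A : Type u} [CommRing R] [CommRing A] [Algebra R A] (𝒜 : ℕ → Submodule R A) [GradedAlgebra 𝒜]
    {M : Type u} [AddCommGroup M] [Module R M] [Module A M] [IsScalarTower R A M] (ℳ : ℕ → Submodule R M) [DirectSum.Decomposition ℳ] [SetLike.GradedSMul 𝒜 ℳ] (n : ℤ)
    (p : ProjectiveSpectrum 𝒜) :
    Function.Bijective (TopCat.stalkToFiber (GrTilde.isLocFrac 𝒜 ℳ n) p) := by
  constructor
  · -- injectivity
    apply TopCat.stalkToFiber_injective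
    intro U V fU hU fV hV e
    obtain ⟨U', hpU', hU'U, i, j, m, s, hm, hs, nin, hdeg, hval⟩ :=
      Groth.Agent.H18.exists_local_fraction 𝒜 ℳ n fU hU p U.2
    obtain ⟨V', hpV', hV'V, i', j', m', s', hm', hs', nin', hdeg', hval'⟩ :=
      Groth.Agent.H18.exists_local_fraction 𝒜 ℳ n fV hV p V.2
    have e3 : (LocalizedModule.mk m ⟨s, nin p hpU'⟩ : GrTilde.LocMod 𝒜 (M := M) p) =
        LocalizedModule.mk m' ⟨s', nin' p hpV'⟩ := by
      rw [← hval p hpU' U.2, ← hval' p hpV' V.2, e]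
    obtain ⟨u, hu⟩ := LocalizedModule.mk_eq.mp e3
    let W : TopologicalSpace.Opens (ProjectiveSpectrum.top 𝒜) :=
      (U' ⊓ V') ⊓ ProjectiveSpectrum.basicOpen 𝒜 u.1
    have hpW : p ∈ W := ⟨⟨hpU', hpV'⟩, u.2⟩
    refine ⟨⟨W, hpW⟩, homOfLE (fun y hy => hU'U hy.1.1),
      homOfLE (fun y hy => hV'V hy.1.2), ?_⟩
    intro w
    apply Subtype.ext
    have g1 := hval w.1 w.2.1.1 (hU'U w.2.1.1)
    have g2 := hval' w.1 w.2.1.2 (hV'V w.2.1.2)
    refine (g1.trans ?_).trans g2.symm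
    rw [LocalizedModule.mk_eq]
    exact ⟨⟨u.1, w.2.2⟩, hu⟩
  · -- surjectivity
    apply TopCat.stalkToFiber_surjective
    intro t
    obtain ⟨i, j, m, s, hm, hs, hsx, hdeg, ht⟩ :=
      Groth.Agent.H18.tildeAt_eq_fraction 𝒜 ℳ n p t.1 t.2
    refine ⟨⟨ProjectiveSpectrum.basicOpen 𝒜 s, hsx⟩,
      fun y => ⟨LocalizedModule.mk m ⟨s, y.2⟩,
        Submodule.subset_span ⟨i, j, ⟨m, hm⟩, ⟨s, hs⟩, y.2, hdeg, rfl⟩⟩, ?_, ?_⟩
    · intro y
      exact ⟨ProjectiveSpectrum.basicOpen 𝒜 s, y.2, 𝟙 _, i, j, ⟨m, hm⟩, ⟨s, hs⟩,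
        fun z => z.2, Or.inl hdeg, fun _ => rfl⟩
    · exact Subtype.ext ht.symm

end Groth.Agent.S3547
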