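import Groth.Statements.S3548
import Groth.Agent.H18.GrTildeZero

set_option autoImplicit false
universe u
open CategoryTheory CategoryTheory.Limits AlgebraicGeometry
open EGA2

namespace Groth.Agent.S3548

/-- Let S be a graded ring, M a graded S-module and X = Proj S. If for every z in M and every
homogeneous f of positive degree some power of f annihilates z, then the O_X-module M~ is zero. -/
theorem result {R A : Type u} [CommRing R] [CommRing A] [Algebra R A] (𝒜 : ℕ → Submodule R A) [GradedAlgebra 𝒜]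
    {M : Type u} [AddCommGroup M] [Module R M] [Module A M] [IsScalarTower R A M] (ℳ : ℕ → Submodule R M) [DirectSum.Decomposition ℳ] [SetLike.GradedSMul 𝒜 ℳ]
    (h : ∀ (z : M) (d : ℕ) (f : A), 0 < d → f ∈ 𝒜 d → ∃ k : ℕ, f ^ k • z = 0) :
    IsZero (GrTilde.tilde 𝒜 ℳ 0) := by
  rw [Groth.Agent.H18.isZero_tilde_iff]
  intro U s
  apply Groth.Agent.H18.sect_ext
  intro x
  obtain ⟨V, hxV, iV, i, j, m, t, nin, hdeg, hval⟩ := s.2 x
  have hv : ((s.1 x : GrTilde.tildeAt 𝒜 ℳ 0 x.1) : GrTilde.LocMod 𝒜 (M := M) x.1) =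
      LocalizedModule.mk m.1 ⟨t.1, nin ⟨x.1, hxV⟩⟩ := hval ⟨x.1, hxV⟩
  rw [hv]
  obtain ⟨e, g, he, hg, hgx⟩ := Groth.Agent.H18.exists_pos_homogeneous_notMem 𝒜 x.1
  obtain ⟨k, hk⟩ := h m.1 e g he hg
  change _ = (0 : GrTilde.LocMod 𝒜 (M := M) x.1)
  rw [← LocalizedModule.zero_mk (1 : x.1.asHomogeneousIdeal.toIdeal.primeCompl),
    LocalizedModule.mk_eq]
  refine ⟨⟨g ^ k, fun hmem => hgx (x.1.isPrime.mem_of_pow_mem k hmem)⟩, ?_⟩
  rw [one_smul, smul_zero, smul_zero]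
  exact hk

end Groth.Agent.S3548
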