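import Groth.Statements.S3549
import Groth.Agent.H18.GrTildeZero

set_option autoImplicit false
universe u
open CategoryTheory CategoryTheory.Limits AlgebraicGeometry
open EGA2

namespace Groth.Agent.S3549

/-- Let S be a graded ring whose irrelevant ideal S_+ is generated by the degree-one elements, M a
graded S-module and X = Proj S. If the O_X-module M~ is zero, then for every z in M and every
homogeneous f of positive degree some power of f annihilates z. -/
theorem result {R A : Type u} [CommRing R] [CommRing A] [Algebra R A] (𝒜 : ℕ → Submodule R A) [GradedAlgebra 𝒜]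
    (hgen : (HomogeneousIdeal.irrelevant 𝒜).toIdeal = Ideal.span (𝒜 1 : Set A))
    {M : Type u} [AddCommGroup M] [Module R M] [Module A M] [IsScalarTower R A M] (ℳ : ℕ → Submodule R M) [DirectSum.Decomposition ℳ] [SetLike.GradedSMul 𝒜 ℳ]
    (h : IsZero (GrTilde.tilde 𝒜 ℳ 0)) (z : M) (d : ℕ) (f : A) (hd : 0 < d) (hf : f ∈ 𝒜 d) :
    ∃ k : ℕ, f ^ k • z = 0 := by
  classical
  have key : ∀ (i : ℕ) (zi : M), zi ∈ ℳ i → ∃ k : ℕ, f ^ k • zi = 0 := by
    intro i zi hzi
    refine Groth.Agent.H18.exists_pow_smul_eq_zero_of_forall_localized_eq_zero 𝒜 ℳ hzi hd hf ?_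
    intro x hx
    obtain ⟨g, hg, hgx⟩ := Groth.Agent.H18.exists_degree_one_notMem 𝒜 hgen x
    have hi : (i : ℤ) = (i : ℕ) * (1 : ℕ) + 0 := by simp
    have hsec := (Groth.Agent.H18.isZero_tilde_iff 𝒜 ℳ 0).mp h _
      (Groth.Agent.H18.fracSection 𝒜 ℳ hi hzi hg)
    have hval := Groth.Agent.H18.fracSection_val 𝒜 ℳ hi hzi hg
      ⟨x, (ProjectiveSpectrum.mem_basicOpen 𝒜 g x).mpr hgx⟩
    rw [hsec] at hval
    have hval' : (0 : GrTilde.LocMod 𝒜 (M := M) x) = LocalizedModule.mk zi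
        (⟨g ^ i, fun h => hgx (x.isPrime.mem_of_pow_mem i h)⟩ :
          x.asHomogeneousIdeal.toIdeal.primeCompl) := hval
    rw [← LocalizedModule.zero_mk (1 : x.asHomogeneousIdeal.toIdeal.primeCompl),
      LocalizedModule.mk_eq] at hval'
    obtain ⟨u, hu⟩ := hval'
    refine ⟨u.1, u.2, ?_⟩
    have hu' : u.1 • (g ^ i) • (0 : M) = u.1 • (1 : A) • zi := hu
    rw [smul_zero, smul_zero, one_smul] at hu'
    exact hu'.symm
  choose kk hkk using fun i : ℕ => key i _ (DirectSum.decompose ℳ z i).2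
  have hK : ∀ i ∈ (DirectSum.decompose ℳ z).support,
      f ^ ((DirectSum.decompose ℳ z).support.sup kk) • ((DirectSum.decompose ℳ z i : ℳ i) : M) = 0 := by
    intro i hi
    obtain ⟨r, hr⟩ := Nat.exists_eq_add_of_le (Finset.le_sup (f := kk) hi)
    rw [hr, pow_add, mul_comm, mul_smul, hkk, smul_zero]
  obtain ⟨K, hKdef⟩ : ∃ K, K = (DirectSum.decompose ℳ z).support.sup kk := ⟨_, rfl⟩
  rw [← hKdef] at hK
  refine ⟨K, ?_⟩
  conv_lhs => rw [← DirectSum.sum_support_decompose ℳ z]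
  rw [Finset.smul_sum]
  exact Finset.sum_eq_zero hK

end Groth.Agent.S3549
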