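import Groth.Statements.S3551
import Groth.Agent.H18.GammaStarFG

set_option autoImplicit false
universe u
open CategoryTheory CategoryTheory.Limits AlgebraicGeometry
open EGA2

namespace Groth.Agent.S3551

/-- Let S be a graded ring whose irrelevant ideal S_+ is generated by finitely many elements of degree
one, and X = Proj S. Then every quasi-coherent O_X-module of finite type is isomorphic to N~ for
some finitely generated graded S-module N (graded in nonnegative degrees). -/
theorem result {R A : Type u} [CommRing R] [CommRing A] [Algebra R A] (𝒜 : ℕ → Submodule R A) [GradedAlgebra 𝒜]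
    (s : Finset A) (hs1 : ∀ f ∈ s, f ∈ 𝒜 1)
    (hs : (HomogeneousIdeal.irrelevant 𝒜).toIdeal = Ideal.span (s : Set A))
    (F : (Proj 𝒜).Modules) (hF : Coh.IsQCoh F) (hFT : CohB1.IsFT F) :
    ∃ (N : Type u) (_ : AddCommGroup N) (_ : Module R N) (_ : Module A N) (_ : IsScalarTower R A N)
      (𝒩 : ℕ → Submodule R N) (_ : DirectSum.Decomposition 𝒩) (_ : SetLike.GradedSMul 𝒜 𝒩),
      Module.Finite A N ∧ Nonempty (GrTilde.tilde 𝒜 𝒩 0 ≅ F) := by
  classical
  let D : Groth.Agent.H18.Charts 𝒜 :=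
    { I := ↥s, f := fun i => i.1, hf := fun i => hs1 i.1 i.2 }
  haveI : Fintype D.I := inferInstanceAs (Fintype ↥s)
  haveI : F.IsQuasicoherent := hF
  have hcov : ∀ x : ProjectiveSpectrum 𝒜, ∃ j, D.f j ∉ x.asHomogeneousIdeal := by
    intro x
    by_contra hcon
    push Not at hcon
    apply x.not_irrelevant_le
    change (HomogeneousIdeal.irrelevant 𝒜).toIdeal ≤ x.asHomogeneousIdeal.toIdeal
    rw [hs, Ideal.span_le]
    intro g hg
    exact hcon ⟨g, hg⟩
  have hiso2 := Groth.Agent.H18.GammaStar.isIso_alpha D F hcov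
  obtain ⟨p, hpfg, hphom, hp⟩ := Groth.Agent.H18.GammaStar.exists_fg_submodule D F hFT
  let _ : Module R (Groth.Agent.H18.GammaStar.M D F) := Groth.Agent.H18.GammaStar.moduleR D F
  let _ : Module A (Groth.Agent.H18.GammaStar.M D F) := Groth.Agent.H18.GammaStar.moduleA D F
  let _ : DirectSum.Decomposition (Groth.Agent.H18.GammaStar.grading D F) :=
    Groth.Agent.H18.GammaStar.decomposition D F
  let _ : SetLike.GradedSMul 𝒜 (Groth.Agent.H18.GammaStar.grading D F) :=
    Groth.Agent.H18.GammaStar.gradedSMul D F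
  let _ : SetLike.GradedSMul 𝒜 (Groth.Agent.H18.GrSub.grading (Groth.Agent.H18.GammaStar.grading D F) p) :=
    Groth.Agent.H18.GrSub.gradedSMul 𝒜 (Groth.Agent.H18.GammaStar.grading D F) p
  have hu : ∀ (i : ℕ) (m : p), m ∈ Groth.Agent.H18.GrSub.grading (Groth.Agent.H18.GammaStar.grading D F) p i →
      p.subtype m ∈ Groth.Agent.H18.GammaStar.grading D F i := fun i m hm => hm
  have hiso : IsIso (GrMod.map 𝒜 p.subtype hu 0) := by
    refine Groth.Agent.H18.TildeIso.isIso_map 𝒜 p.subtype hu 0 Subtype.val_injective ?_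
    intro x i m hm
    obtain ⟨j, hj⟩ := hcov x
    obtain ⟨k, hk⟩ := hp j i m hm
    have hmem : D.f j ^ k • m ∈ Groth.Agent.H18.GammaStar.grading D F (k + i) :=
      SetLike.GradedSMul.smul_mem (Groth.Agent.H18.GammaStar.fpow_mem D j k) hm
    exact ⟨k, D.f j ^ k, ⟨D.f j ^ k • m, hk⟩, Groth.Agent.H18.GammaStar.fpow_mem D j k,
      fun h => hj (x.isPrime.mem_of_pow_mem k h), hmem, rfl⟩
  refine ⟨p, inferInstance, inferInstance, inferInstance, inferInstance,
    Groth.Agent.H18.GrSub.grading (Groth.Agent.H18.GammaStar.grading D F) p,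
    Groth.Agent.H18.GrSub.decomposition hphom, inferInstance,
    Module.Finite.iff_fg.mpr hpfg, ⟨?_⟩⟩
  have e1 : GrMod.tilde 𝒜 (Groth.Agent.H18.GrSub.grading (Groth.Agent.H18.GammaStar.grading D F) p) 0 ≅
      GrMod.tilde 𝒜 (Groth.Agent.H18.GammaStar.grading D F) 0 :=
    @asIso _ _ _ _ (GrMod.map 𝒜 p.subtype hu 0) hiso
  have e2 : Groth.Agent.H18.GammaStar.Mtilde D F ≅ F :=
    @asIso _ _ _ _ (Groth.Agent.H18.GammaStar.alpha D F hcov) hiso2
  exact e1 ≪≫ e2

end Groth.Agent.S3551
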