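import Groth.Statements.S3553
import Groth.Agent.H18.ProjBasic

set_option autoImplicit false
universe u
open CategoryTheory CategoryTheory.Limits AlgebraicGeometry
open EGA2

namespace Groth.Agent.S3553

/-- In the case where the induced morphism is defined on all of Proj S: let φ : S' → S be a homomorphism
of graded rings such that S_+ is contained in the ideal generated by φ(S'_+), and suppose every
element of the kernel of φ is nilpotent. Then the induced morphism from Proj S to Proj S' has dense
image. -/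
theorem result {R A : Type u} [CommRing R] [CommRing A] [Algebra R A] (𝒜 : ℕ → Submodule R A) [GradedAlgebra 𝒜]
    {B : Type u} [CommRing B] [Algebra R B] (ℬ : ℕ → Submodule R B) [GradedAlgebra ℬ]
    (φ : 𝒜 →+*ᵍ ℬ) (hφ : HomogeneousIdeal.irrelevant ℬ ≤ (HomogeneousIdeal.irrelevant 𝒜).map φ)
    (hker : ∀ a : A, φ a = 0 → IsNilpotent a) :
    DenseRange (Proj.map φ hφ).base := by
  classical
  rw [denseRange_iff_closure_range]
  change closure (Set.range (ProjectiveSpectrum.comap φ hφ)) = Set.univ
  rw [← ProjectiveSpectrum.zeroLocus_vanishingIdeal_eq_closure, Set.eq_univ_iff_forall]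
  intro p
  rw [ProjectiveSpectrum.mem_zeroLocus]
  set v := ProjectiveSpectrum.vanishingIdeal (Set.range (ProjectiveSpectrum.comap φ hφ)) with hv
  -- homogeneous elements of `v` lie in `p`
  have hhom : ∀ (k : ℕ) (a : A), a ∈ 𝒜 k → a ∈ v → a ∈ p.asHomogeneousIdeal := by
    intro k a hak hav
    obtain ⟨i, s, hi, hs, hsp⟩ := Groth.Agent.H18.exists_pos_homogeneous_notMem 𝒜 p
    have has : a * s ∈ 𝒜 (k + i) := SetLike.mul_mem_graded hak hs
    have hφas : φ (a * s) ∈ ℬ (k + i) := φ.2 has
    have hnil : φ (a * s) ∈ (⊥ : Ideal B).radical := by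
      by_contra hcon
      obtain ⟨q, -, hq⟩ := Groth.Agent.H18.exists_relevant_prime_of_not_mem_radical ℬ ⊥
        (Ideal.IsHomogeneous.bot ℬ) (by omega : 0 < k + i) hφas hcon
      apply hq
      have h1 : a ∈ (ProjectiveSpectrum.comap φ hφ q).asHomogeneousIdeal :=
        (ProjectiveSpectrum.mem_vanishingIdeal _ a).mp hav _ ⟨q, rfl⟩
      have h2 : φ a ∈ q.asHomogeneousIdeal := h1
      rw [map_mul]
      exact Ideal.mul_mem_right _ _ h2
    obtain ⟨n, hn⟩ := hnil
    have hn' : φ ((a * s) ^ n) = 0 := by simpa [map_pow] using hn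
    have hnil2 : IsNilpotent (a * s) := by
      obtain ⟨m, hm⟩ := hker _ hn'
      exact ⟨n * m, by rw [pow_mul, hm]⟩
    obtain ⟨m, hm⟩ := hnil2
    have hmem : a * s ∈ p.asHomogeneousIdeal.toIdeal :=
      p.isPrime.mem_of_pow_mem m (hm ▸ Ideal.zero_mem _)
    rcases p.isPrime.mem_or_mem hmem with h | h
    · exact h
    · exact (hsp h).elim
  intro a hav
  have hav' : a ∈ v.toIdeal := hav
  change a ∈ p.asHomogeneousIdeal.toIdeal
  rw [← DirectSum.sum_support_decompose 𝒜 a]
  refine Ideal.sum_mem _ fun i _ => ?_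
  exact hhom i _ (Subtype.prop _) (v.isHomogeneous i hav')

end Groth.Agent.S3553
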