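import Groth.Statements.S3555
import Groth.Agent.H18.TwistStalk

set_option autoImplicit false
universe u
open CategoryTheory CategoryTheory.Limits AlgebraicGeometry
open EGA2

namespace Groth.Agent.S3555

/-- Let S be a graded ring whose irrelevant ideal S_+ is generated by the degree-one elements, X = Proj
S, and f homogeneous of degree d > 0. Then D_+(f) is the set of points p of X at which the global
section f/1 of O_X(d) does not vanish, i.e. at which its value generates the module of degree-d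
fractions at p. -/
theorem result {R A : Type u} [CommRing R] [CommRing A] [Algebra R A] (𝒜 : ℕ → Submodule R A) [GradedAlgebra 𝒜]
    (hgen : (HomogeneousIdeal.irrelevant 𝒜).toIdeal = Ideal.span (𝒜 1 : Set A))
    {d : ℕ} (hd : 0 < d) (f : 𝒜 d) (p : ProjectiveSpectrum 𝒜) :
    p ∈ ProjectiveSpectrum.basicOpen 𝒜 (f : A) ↔
      Submodule.span (Twist.A0 𝒜 p) {(Twist.globalOf 𝒜 f).1 ⟨p, trivial⟩} = ⊤ := by
  have hone : (1 : A) ∉ p.asHomogeneousIdeal :=
    fun h => p.isPrime.ne_top ((Ideal.eq_top_iff_one _).mpr h)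
  have hgval : (((Twist.globalOf 𝒜 f).1 ⟨p, trivial⟩ : Twist.twistAt 𝒜 d p) : Twist.Loc 𝒜 p) =
      Localization.mk f.1 ⟨1, hone⟩ := rfl
  constructor
  · intro hfp
    have hfp' : f.1 ∉ p.asHomogeneousIdeal := hfp
    rw [eq_top_iff]
    intro t _
    rw [Submodule.mem_span_singleton]
    obtain ⟨i, j, a, s, ha, hs, hsx, hdeg, ht⟩ :=
      Groth.Agent.H18.twistAt_eq_fraction 𝒜 d p t.1 t.2
    have hij : i = j + d := by exact_mod_cast hdeg
    have hsf : s * f.1 ∈ 𝒜 i := hij ▸ SetLike.mul_mem_graded hs f.2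
    have hsfx : s * f.1 ∉ p.asHomogeneousIdeal :=
      fun h => (p.isPrime.mem_or_mem h).elim hsx hfp'
    refine ⟨HomogeneousLocalization.mk ⟨i, ⟨a, ha⟩, ⟨s * f.1, hsf⟩, hsfx⟩, ?_⟩
    apply Subtype.ext
    rw [Twist.coe_smul_val, hgval, HomogeneousLocalization.val_mk, Localization.mk_mul, ht,
      Localization.mk_eq_mk_iff, Localization.r_iff_exists]
    refine ⟨1, ?_⟩
    simp only [OneMemClass.coe_one, one_mul, Submonoid.coe_mul, mul_one]
    ring
  · intro hspan
    change f.1 ∉ p.asHomogeneousIdeal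
    intro hfp
    obtain ⟨g, hg, hgx⟩ : ∃ g ∈ 𝒜 1, g ∉ p.asHomogeneousIdeal := by
      by_contra hcon
      push Not at hcon
      apply p.not_irrelevant_le
      change (HomogeneousIdeal.irrelevant 𝒜).toIdeal ≤ p.asHomogeneousIdeal.toIdeal
      rw [hgen, Ideal.span_le]
      exact fun g hg => hcon g hg
    have hgd : g ^ d ∈ 𝒜 d := by
      have := SetLike.pow_mem_graded d hg
      simpa [smul_eq_mul] using this
    let t : Twist.twistAt 𝒜 d p := ⟨Localization.mk (g ^ d) ⟨1, hone⟩,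
      Submodule.subset_span ⟨d, 0, ⟨g ^ d, hgd⟩, ⟨1, SetLike.GradedOne.one_mem⟩, hone, by simp, rfl⟩⟩
    have htmem : t ∈ Submodule.span (Twist.A0 𝒜 p) {(Twist.globalOf 𝒜 f).1 ⟨p, trivial⟩} := by
      rw [hspan]; trivial
    rw [Submodule.mem_span_singleton] at htmem
    obtain ⟨c, hc⟩ := htmem
    obtain ⟨⟨k, ⟨a, ha⟩, ⟨b, hb⟩, hbx⟩, rfl⟩ := HomogeneousLocalization.mk_surjective c
    have hc' := congrArg Subtype.val hc
    rw [Twist.coe_smul_val, hgval, HomogeneousLocalization.val_mk, Localization.mk_mul] at hc'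
    change _ = Localization.mk (g ^ d) ⟨1, hone⟩ at hc'
    rw [Localization.mk_eq_mk_iff, Localization.r_iff_exists] at hc'
    obtain ⟨u, hu⟩ := hc'
    simp only [OneMemClass.coe_one, one_mul, Submonoid.coe_mul, mul_one] at hu
    have h1 : u.1 * (a * f.1) ∈ p.asHomogeneousIdeal.toIdeal :=
      Ideal.mul_mem_left _ _ (Ideal.mul_mem_left _ _ hfp)
    rw [hu] at h1
    rcases p.isPrime.mem_or_mem h1 with h2 | h2
    · exact u.2 h2
    · rcases p.isPrime.mem_or_mem h2 with h3 | h3
      · exact hbx h3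
      · exact hgx (p.isPrime.mem_of_pow_mem d h3)

end Groth.Agent.S3555
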