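import Groth.Statements.S3558
import Groth.Agent.H18.ProjBasic

set_option autoImplicit false
universe u
open CategoryTheory CategoryTheory.Limits AlgebraicGeometry
open EGA2

namespace Groth.Agent.S3558

/-- For a graded ring S, Proj S is empty if and only if every element of the irrelevant ideal S_+ is
nilpotent. -/
theorem result {R A : Type u} [CommRing R] [CommRing A] [Algebra R A] (𝒜 : ℕ → Submodule R A) [GradedAlgebra 𝒜] :
    IsEmpty (Proj 𝒜) ↔ ∀ f ∈ (HomogeneousIdeal.irrelevant 𝒜).toIdeal, IsNilpotent f := by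
  have h := Groth.Agent.H18.zeroLocus_eq_empty_iff 𝒜 ⊥ (Ideal.IsHomogeneous.bot 𝒜)
  rw [ProjectiveSpectrum.zeroLocus_bot] at h
  constructor
  · intro hE f hf
    have hE' : IsEmpty (ProjectiveSpectrum 𝒜) := hE
    have h1 : (Set.univ : Set (ProjectiveSpectrum 𝒜)) = ∅ := Set.univ_eq_empty_iff.mpr hE'
    have := h.mp h1 hf
    rwa [← mem_nilradical, nilradical]
  · intro hN
    have h2 : (Set.univ : Set (ProjectiveSpectrum 𝒜)) = ∅ := h.mpr fun f hf => by
      have := hN f hf
      rwa [← mem_nilradical, nilradical] at this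
    exact Set.univ_eq_empty_iff.mp h2

end Groth.Agent.S3558
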