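import Groth.Statements.S3559
import Groth.Agent.H18.ProjBasic

set_option autoImplicit false
universe u
open CategoryTheory CategoryTheory.Limits AlgebraicGeometry
open EGA2

namespace Groth.Agent.S3559

/-- Let S be a graded ring and (f_i) a family of homogeneous elements of positive degree. The opens
D_+(f_i) cover Proj S if and only if every element of S_+ has a power in the ideal generated by the
f_i. -/
theorem result {R A : Type u} [CommRing R] [CommRing A] [Algebra R A] (𝒜 : ℕ → Submodule R A) [GradedAlgebra 𝒜]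
    {ι : Type u} (f : ι → A) (hf : ∀ i, ∃ d : ℕ, 0 < d ∧ f i ∈ 𝒜 d) :
    (⨆ i, Proj.basicOpen 𝒜 (f i)) = ⊤ ↔
      (HomogeneousIdeal.irrelevant 𝒜).toIdeal ≤ (Ideal.span (Set.range f)).radical := by
  have hI : (Ideal.span (Set.range f)).IsHomogeneous 𝒜 := by
    apply Ideal.homogeneous_span
    rintro _ ⟨i, rfl⟩
    obtain ⟨d, -, hd⟩ := hf i
    exact ⟨d, hd⟩
  rw [← Groth.Agent.H18.zeroLocus_eq_empty_iff 𝒜 _ hI, ProjectiveSpectrum.zeroLocus_span]
  constructor
  · intro h
    rw [Set.eq_empty_iff_forall_notMem]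
    intro p hp
    have hp' : p ∈ (⨆ i, Proj.basicOpen 𝒜 (f i)) := by rw [h]; trivial
    obtain ⟨i, hi⟩ := TopologicalSpace.Opens.mem_iSup.mp hp'
    exact hi (hp ⟨i, rfl⟩)
  · intro h
    refine top_le_iff.mp fun p _ => TopologicalSpace.Opens.mem_iSup.mpr ?_
    by_contra! H
    have : p ∈ ProjectiveSpectrum.zeroLocus 𝒜 (Set.range f) := by
      rintro _ ⟨i, rfl⟩
      have := H i
      simpa [Proj.mem_basicOpen] using this
    rw [h] at this
    exact this

end Groth.Agent.S3559
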