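import Groth.Statements.S3560
import Groth.Agent.H18.ProjBasic
import Groth.Agent.S3558
import Mathlib.RingTheory.Noetherian.Nilpotent

set_option autoImplicit false
universe u
open CategoryTheory CategoryTheory.Limits AlgebraicGeometry
open EGA2

namespace Groth.Agent.S3560

/-- Let S be a graded ring whose irrelevant ideal S_+ is finitely generated. Then Proj S is empty if and
only if there is n such that S_k = 0 for all k ≥ n. -/
theorem result {R A : Type u} [CommRing R] [CommRing A] [Algebra R A] (𝒜 : ℕ → Submodule R A) [GradedAlgebra 𝒜]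
    (hfg : (HomogeneousIdeal.irrelevant 𝒜).toIdeal.FG) :
    IsEmpty (Proj 𝒜) ↔ ∃ n : ℕ, ∀ k : ℕ, n ≤ k → 𝒜 k = ⊥ := by
  rw [Groth.Agent.S3558.result 𝒜]
  constructor
  · intro hN
    have hle : (HomogeneousIdeal.irrelevant 𝒜).toIdeal ≤ nilradical A := fun f hf =>
      mem_nilradical.mpr (hN f hf)
    obtain ⟨N, hNil⟩ := (Ideal.FG.isNilpotent_iff_le_nilradical hfg).mpr hle
    obtain ⟨D, hD⟩ := Groth.Agent.H18.exists_irrelevant_le_lowIdeal 𝒜 hfg
    refine ⟨N * D + 1, fun k hk => ?_⟩
    rw [eq_bot_iff]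
    intro x hx
    have := Groth.Agent.H18.graded_le_irrelevant_pow 𝒜 D hD N k (by omega) (by omega) x hx
    rw [hNil] at this
    simpa using this
  · rintro ⟨n, hn⟩
    have hle : (HomogeneousIdeal.irrelevant 𝒜).toIdeal ≤ nilradical A := by
      rw [HomogeneousIdeal.toIdeal_irrelevant_le]
      intro i hi x hx
      refine mem_nilradical.mpr ⟨n + 1, ?_⟩
      have h1 : x ^ (n + 1) ∈ 𝒜 ((n + 1) • i) := SetLike.pow_mem_graded (n + 1) hx
      have h2 : n ≤ (n + 1) • i := by
        rw [smul_eq_mul]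
        nlinarith
      rw [hn _ h2] at h1
      simpa using h1
    exact fun f hf => mem_nilradical.mp (hle hf)

end Groth.Agent.S3560
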