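import Groth.Statements.S3576
import Groth.Agent.H41.ConeFibre
import Groth.Agent.S3575

set_option autoImplicit false
universe u
open CategoryTheory CategoryTheory.Limits AlgebraicGeometry
open EGA2

namespace Groth.Agent.S3576

/-- Over an affine base Spec R: let S be a graded R-algebra whose irrelevant ideal is generated by its
degree-one elements, E the pointed affine cone of S and π : E → X = Proj S the canonical retraction
(the morphism restricting on each chart D(f), f homogeneous of positive degree, to Spec S_f → Spec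
S_(f) → Proj S). Then π is of finite type, and for every point x of X the fibre of π at x is
isomorphic over the residue field κ(x) to Spec κ(x)[T, T⁻¹]. -/
theorem result {R A : Type u} [CommRing R] [CommRing A] [Algebra R A] (𝒜 : ℕ → Submodule R A) [GradedAlgebra 𝒜]
    (hgen : (HomogeneousIdeal.irrelevant 𝒜).toIdeal = Ideal.span (𝒜 1 : Set A))
    (π : (Cone.pointed 𝒜 : Scheme.{u}) ⟶ Proj 𝒜)
    (hπ : ∀ (d : ℕ) (f : A) (hd : 0 < d) (hf : f ∈ 𝒜 d),
        Cone.chart hf hd ≫ π =
          Spec.map (CommRingCat.ofHom (algebraMap (HomogeneousLocalization.Away 𝒜 f) (Localization.Away f))) ≫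
            Proj.awayι 𝒜 f hf hd)
    (x : Proj 𝒜) :
    LocallyOfFiniteType π ∧ QuasiCompact π ∧
      ∃ e : pullback π ((Proj 𝒜).fromSpecResidueField x) ≅
          Spec (CommRingCat.of (LaurentPolynomial ((Proj 𝒜).residueField x))),
        e.hom ≫ Spec.map (CommRingCat.ofHom (algebraMap ((Proj 𝒜).residueField x)
          (LaurentPolynomial ((Proj 𝒜).residueField x)))) = pullback.snd π ((Proj 𝒜).fromSpecResidueField x) := by
  have hgen' : (HomogeneousIdeal.irrelevant 𝒜).toIdeal ≤ Ideal.span {a : A | a ∈ 𝒜 1} := hgen.le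
  have hcov : (HomogeneousIdeal.irrelevant 𝒜).toIdeal ≤
      Ideal.span (Set.range (fun s : 𝒜 1 => (s : A))) := by
    rw [hgen]
    apply Ideal.span_mono
    intro a ha
    exact ⟨⟨a, ha⟩, rfl⟩
  refine ⟨?_, ?_, ?_⟩
  · refine Groth.Agent.H41.FibreGen.of_openCover_isPullback @LocallyOfFiniteType π
      (Proj.affineOpenCoverOfIrrelevantLESpan 𝒜 (fun s : 𝒜 1 => (s : A)) (fun s => s.2)
        (fun _ => one_pos) hcov).openCover (fun (s : 𝒜 1) => ?_)
    have h : LocallyOfFiniteType (Spec.map (CommRingCat.ofHom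
        (algebraMap (HomogeneousLocalization.Away 𝒜 (s : A)) (Localization.Away (s : A))))) := by
      rw [HasRingHomProperty.Spec_iff (P := @LocallyOfFiniteType)]
      exact Groth.Agent.H41.FibreGen.finiteType_of_laurent _
        (Groth.Agent.H41.AwayLaurent.laurentEquiv 𝒜 s.2)
        (Groth.Agent.H41.AwayLaurent.laurentEquiv_C 𝒜 s.2)
    exact ⟨_, Cone.chart s.2 one_pos, _,
      Groth.Agent.H41.ConeFibre.isPullback_chart π hπ one_pos s.2, h⟩
  · have := (Groth.Agent.S3575.result 𝒜 π hπ).1
    infer_instance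
  · obtain ⟨f, hf, hxf⟩ := Groth.Agent.H41.ConeFibre.exists_deg_one_notMem 𝒜 hgen' x
    have hx : x ∈ Set.range (Proj.awayι 𝒜 f hf one_pos).base := by
      have : x ∈ (Proj.awayι 𝒜 f hf one_pos).opensRange := by
        rw [Proj.opensRange_awayι]; exact hxf
      exact this
    exact Groth.Agent.H41.FibreGen.exists_fibre_iso π x (Proj.awayι 𝒜 f hf one_pos) hx
      (Cone.chart hf one_pos) _
      (Groth.Agent.H41.ConeFibre.isPullback_chart π hπ one_pos hf)
      (CommRingCat.ofHom (algebraMap ((Proj 𝒜).residueField x)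
        (LaurentPolynomial ((Proj 𝒜).residueField x))))
      (fun ψ => Groth.Agent.H41.FibreGen.exists_isPushout_laurent _
        (Groth.Agent.H41.AwayLaurent.laurentEquiv 𝒜 hf)
        (Groth.Agent.H41.AwayLaurent.laurentEquiv_C 𝒜 hf) ψ.hom)

end Groth.Agent.S3576
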