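import Groth.Statements.S3579
import Groth.Agent.H18.TwistGen

set_option autoImplicit false
universe u
open CategoryTheory CategoryTheory.Limits AlgebraicGeometry
open EGA2

namespace Groth.Agent.S3579

/-- Let S be a graded ring whose irrelevant ideal S_+ is generated by finitely many elements of degree
one, X = Proj S, and let F be an O_X-module that is quasi-coherent and of finite type. Then for some
n₀ and all n ≥ n₀, the twist F(n) = F ⊗ O_X(n) is a quotient of a finite free module O_X^k (k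
depending on n); in particular F(n) is generated by finitely many global sections. -/
theorem result {R A : Type u} [CommRing R] [CommRing A] [Algebra R A] (𝒜 : ℕ → Submodule R A) [GradedAlgebra 𝒜]
    (s : Finset A) (hs1 : ∀ f ∈ s, f ∈ 𝒜 1)
    (hs : (HomogeneousIdeal.irrelevant 𝒜).toIdeal = Ideal.span (s : Set A))
    (F : (Proj 𝒜).Modules) (hF : Coh.IsQCoh F) (hFT : CohB1.IsFT F) :
    ∃ n₀ : ℕ, ∀ n : ℕ, n₀ ≤ n →
      ∃ (k : ℕ) (p : FlatMod.freeMod (Proj 𝒜) k ⟶ Twist.twistBy 𝒜 F (n : ℤ)), Epi p := by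
  classical
  let D : Groth.Agent.H18.Charts 𝒜 :=
    { I := ↥s, f := fun i => i.1, hf := fun i => hs1 i.1 i.2 }
  haveI : Fintype D.I := inferInstanceAs (Fintype ↥s)
  haveI : F.IsQuasicoherent := hF
  have hcov : ∀ x : ProjectiveSpectrum 𝒜, ∃ j, D.f j ∉ x.asHomogeneousIdeal := by
    intro x
    by_contra hcon
    push Not at hcon
    apply x.not_irrelevant_le
    change (HomogeneousIdeal.irrelevant 𝒜).toIdeal ≤ x.asHomogeneousIdeal.toIdeal
    rw [hs, Ideal.span_le]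
    intro g hg
    exact hcon ⟨g, hg⟩
  have hcov1 : ∀ x : ProjectiveSpectrum 𝒜, ∃ f : A, f ∈ 𝒜 1 ∧ f ∉ x.asHomogeneousIdeal := by
    intro x
    obtain ⟨j, hj⟩ := hcov x
    exact ⟨D.f j, D.hf j, hj⟩
  obtain ⟨n₀, h⟩ := Groth.Agent.H18.GammaStar.exists_generators_in_degree D F hFT
  refine ⟨n₀, fun n hn => ?_⟩
  obtain ⟨r, y, hy, hspan⟩ := h n hn
  let σ : Fin r → Γ(GrTilde.tilde 𝒜 (Groth.Agent.H18.GammaStar.grading D F) (n : ℤ), (⊤ : (Proj 𝒜).Opens)) :=
    fun i => (GrTilde.globalOf 𝒜 (Groth.Agent.H18.GammaStar.grading D F)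
      (⟨y i, hy i⟩ : Groth.Agent.H18.GammaStar.grading D F n) :
        GrTilde.sect 𝒜 (Groth.Agent.H18.GammaStar.grading D F) (n : ℤ) (Opposite.op ⊤))
  have hepi : Epi (Sigma.desc (fun i : Fin r => Groth.Agent.H18.sectionHom _ (σ i))) :=
    Groth.Agent.H18.epi_desc_sectionHom _ σ
      (Groth.Agent.H18.GammaStar.tildeShift_locally_generated D F hcov y hy hspan)
  have hiso2 := Groth.Agent.H18.GammaStar.isIso_alpha D F hcov
  have e2 : Groth.Agent.H18.GammaStar.Mtilde D F ≅ F :=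
    @asIso _ _ _ _ (Groth.Agent.H18.GammaStar.alpha D F hcov) hiso2
  obtain ⟨e3⟩ := Groth.Agent.H18.TwMul.nonempty_tensorMod_tilde_twist_iso 𝒜
    (Groth.Agent.H18.GammaStar.grading D F) hcov1 0 (n : ℤ) (n : ℤ) (zero_add _).symm
  let e : GrTilde.tilde 𝒜 (Groth.Agent.H18.GammaStar.grading D F) (n : ℤ) ≅
      Twist.twistBy 𝒜 F (n : ℤ) :=
    e3.symm ≪≫ Groth.Agent.H18.tensorModMapIsoLeft e2 (Twist.twist 𝒜 (n : ℤ))
  exact ⟨r, Sigma.desc (fun i : Fin r => Groth.Agent.H18.sectionHom _ (σ i)) ≫ e.hom, epi_comp _ _⟩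

end Groth.Agent.S3579
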