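import Groth.Statements.S3583
import Groth.Agent.H18.AffAlgBasic

set_option autoImplicit false
universe u
open CategoryTheory AlgebraicGeometry Opposite
open EGA2

namespace Groth.Agent.S3583

/-- In the form stated after its proof: let f : X → S and f' : X' → S be affine morphisms and h : X' → X
an S-morphism such that the O_S-algebra homomorphism A(h) : f_*O_X → f'_*O_{X'} is surjective (as a
map of quasi-coherent O_S-modules, i.e. on sections over every affine open of S). Then h is a closed
immersion. -/
theorem result {X X' S : Scheme.{u}} (f : X ⟶ S) [IsAffineHom f]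
    (f' : X' ⟶ S) [IsAffineHom f'] (h : X' ⟶ X) (w : h ≫ f = f')
    (hsurj : ∀ U : S.affineOpens, Function.Surjective ((AffAlg.algHom f f' h w).app (op U.1)).hom) :
    IsClosedImmersion h := by
  subst w
  have : IsAffineHom h := IsAffineHom.of_comp h f
  rw [HasAffineProperty.iff_of_iSup_eq_top (P := @IsClosedImmersion)
    (fun V : S.affineOpens => (⟨f ⁻¹ᵁ V.1, V.2.preimage f⟩ : X.affineOpens))
    (Groth.Agent.H18.iSup_preimage_affineOpens f)]
  intro V
  refine ⟨(V.2.preimage (h ≫ f) : IsAffineOpen ((h ≫ f) ⁻¹ᵁ V.1)), ?_⟩
  apply Groth.Agent.H18.surjective_appTop_morphismRestrict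
  have := hsurj V
  rw [Groth.Agent.H18.algHom_app_eq] at this
  exact this

end Groth.Agent.S3583
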