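import Groth.Statements.S3585
import Groth.Agent.H18.VA.ProjOfClosed
import Groth.Agent.S9710
import Groth.Agent.Lead.Coh.ProjSpaceCover

set_option autoImplicit false
universe u
open CategoryTheory CategoryTheory.Limits AlgebraicGeometry
open EGA2

namespace Groth.Agent.S3585

/-- Let A be a ring and f : X → Spec A a proper morphism, and suppose X carries an invertible O_X-module
which is ample relative to f (so f is quasi-projective). Then f is projective: X is isomorphic over
Spec A to Proj S for some graded A-algebra S whose degree-zero part is the image of A and whose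
irrelevant ideal is generated by finitely many elements of degree one. -/
theorem result {A : Type u} [CommRing A] {X : Scheme.{u}}
    (f : X ⟶ Spec (CommRingCat.of A)) [IsProper f]
    (L : X.Modules) (hL : PicF.IsInvertible L) (hamp : RelAmple.IsRelAmple f L) :
    ∃ (S : Type u) (_ : CommRing S) (_ : Algebra A S) (𝒮 : ℕ → Submodule A S) (_ : GradedAlgebra 𝒮) (s : Finset S),
      Function.Surjective (algebraMap A (𝒮 0)) ∧ (∀ g ∈ s, g ∈ 𝒮 1) ∧
      (HomogeneousIdeal.irrelevant 𝒮).toIdeal = Ideal.span (s : Set S) ∧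
      ∃ e : X ≅ Proj 𝒮, e.hom ≫ Proj.toSpecZero 𝒮 ≫ Spec.map (CommRingCat.ofHom (algebraMap A (𝒮 0))) = f := by
  classical
  have hA : CohB1.IsAmple L :=
    (Groth.Agent.H18.STL.isRelAmple_iff_isAmple_of_isAffine f L).1 hamp
  obtain ⟨d₀, -, h⟩ := Groth.Agent.S9710.result f L hA
  obtain ⟨n, i, hi, hcomm, -⟩ := h d₀ le_rfl
  haveI : IsProper (i ≫ pullback.snd (CohB1.ProjSpace.toSpec n (ULift.{u} ℤ))
      (specULiftZIsTerminal.from (Spec (CommRingCat.of A)))) := by rw [hcomm]; infer_instance
  haveI : IsProper i := IsProper.of_comp i (pullback.snd (CohB1.ProjSpace.toSpec n (ULift.{u} ℤ))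
      (specULiftZIsTerminal.from (Spec (CommRingCat.of A))))
  haveI : IsClosedImmersion i :=
    IsClosedImmersion.of_isPreimmersion i i.isClosedMap.isClosed_range
  obtain ⟨φ, hφ, -, -⟩ := Groth.Agent.H18.VA.exists_projSpaceOver_iso n A
  let j : X ⟶ Proj (CohB1.polyGrading n A) := i ≫ φ.hom
  haveI : IsClosedImmersion j := inferInstanceAs (IsClosedImmersion (i ≫ φ.hom))
  have hj : j ≫ Proj.toSpecZero (CohB1.polyGrading n A) ≫
      Spec.map (CommRingCat.ofHom (algebraMap A (CohB1.polyGrading n A 0))) = f := by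
    change (i ≫ φ.hom) ≫ CohB1.ProjSpace.toSpec n A = f
    rw [Category.assoc, hφ, hcomm]
  let s : Finset (MvPolynomial (Fin (n + 1)) A) :=
    Finset.univ.image (fun k : Fin (n + 1) => (MvPolynomial.X k : MvPolynomial (Fin (n + 1)) A))
  have hs1 : ∀ g ∈ s, g ∈ CohB1.polyGrading n A 1 := by
    intro g hg
    obtain ⟨k, -, rfl⟩ := Finset.mem_image.1 hg
    exact Groth.Agent.H18.VA.X_mem A n k
  have hs : (HomogeneousIdeal.irrelevant (CohB1.polyGrading n A)).toIdeal =
      Ideal.span (s : Set (MvPolynomial (Fin (n + 1)) A)) := by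
    have hcoe : (s : Set (MvPolynomial (Fin (n + 1)) A)) =
        Set.range (MvPolynomial.X : Fin (n + 1) → MvPolynomial (Fin (n + 1)) A) := by
      rw [Finset.coe_image, Finset.coe_univ, Set.image_univ]
    rw [hcoe]
    apply le_antisymm
    · exact Groth.Agent.Lead.Coh.irrelevant_le_span_X n A
    · rw [Ideal.span_le]
      rintro _ ⟨k, rfl⟩
      exact HomogeneousIdeal.mem_irrelevant_of_mem _ Nat.one_pos
        (Groth.Agent.H18.VA.X_mem A n k)
  obtain ⟨B, iB, iAB, ℬ, iG, t, h1, h2, h3, e, he⟩ :=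
    Groth.Agent.H18.VA.exists_proj_of_isClosedImmersion (CohB1.polyGrading n A) s hs1 hs
      (Groth.Agent.H18.VA.algebraMap_polyGrading_zero_surjective n A) j
  exact ⟨B, iB, iAB, ℬ, iG, t, h1, h2, h3, e, he.trans hj⟩

end Groth.Agent.S3585
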