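import Groth.Statements.S3588
import Groth.Agent.S3563
import Groth.Agent.S3553
import Groth.Agent.S3556

set_option autoImplicit false
universe u
open CategoryTheory CategoryTheory.Limits AlgebraicGeometry
open EGA2

namespace Groth.Agent.S3588

/-- Let S be a graded ring, N_+ the set of nilpotent elements of S_+ (an ideal of S), and S → S/N_+ the
quotient (here: any surjective homomorphism of graded rings φ : S → S' whose kernel is N_+). Then
the induced morphism Proj S' → Proj S is a closed immersion which is a homeomorphism of the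
underlying spaces, and Proj S' is reduced; thus Proj S' is the reduced closed subscheme (Proj
S)_red. -/
theorem result {R A : Type u} [CommRing R] [CommRing A] [Algebra R A] (𝒜 : ℕ → Submodule R A) [GradedAlgebra 𝒜]
    {B : Type u} [CommRing B] [Algebra R B] (ℬ : ℕ → Submodule R B) [GradedAlgebra ℬ]
    (φ : 𝒜 →+*ᵍ ℬ) (hsurj : Function.Surjective φ)
    (hker : ∀ a : A, φ a = 0 ↔ a ∈ (HomogeneousIdeal.irrelevant 𝒜).toIdeal ∧ IsNilpotent a)
    (hφ : HomogeneousIdeal.irrelevant ℬ ≤ (HomogeneousIdeal.irrelevant 𝒜).map φ) :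
    IsClosedImmersion (Proj.map φ hφ) ∧ IsHomeomorph (Proj.map φ hφ).base ∧
      AlgebraicGeometry.IsReduced (Proj ℬ) := by
  classical
  have hci : IsClosedImmersion (Proj.map φ hφ) := Groth.Agent.S3563.result 𝒜 ℬ φ hsurj hφ
  have hdense : DenseRange (Proj.map φ hφ).base :=
    Groth.Agent.S3553.result 𝒜 ℬ φ hφ (fun a ha => ((hker a).mp ha).2)
  have hce : Topology.IsClosedEmbedding (Proj.map φ hφ).base := (Proj.map φ hφ).isClosedEmbedding
  have hsurjB : Function.Surjective (Proj.map φ hφ).base := by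
    rw [← Set.range_eq_univ, ← hce.isClosed_range.closure_eq]
    exact hdense.closure_range
  refine ⟨hci, isHomeomorph_iff_isEmbedding_surjective.mpr ⟨hce.isEmbedding, hsurjB⟩, ?_⟩
  apply Groth.Agent.S3556.result ℬ
  intro g hg hgnil
  obtain ⟨a', rfl⟩ := hsurj g
  set a := a' - (DirectSum.decompose 𝒜 a' 0 : A) with ha
  have hφa : φ a = φ a' := by
    rw [ha, map_sub, GradedRingHom.map_directSumDecompose]
    have : ((DirectSum.decompose ℬ (φ a') 0 : ℬ 0) : B) = 0 := by simpa using hg
    rw [this, sub_zero]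
  have haI : a ∈ (HomogeneousIdeal.irrelevant 𝒜).toIdeal := by
    change ((DirectSum.decompose 𝒜 a 0 : 𝒜 0) : A) = 0
    rw [ha, DirectSum.decompose_sub, DirectSum.sub_apply, DirectSum.decompose_coe,
      DirectSum.of_eq_same]
    simp
  have hanil : IsNilpotent a := by
    obtain ⟨n, hn⟩ := hgnil
    have h1 : φ (a ^ n) = 0 := by rw [map_pow, hφa, hn]
    obtain ⟨m, hm⟩ := ((hker _).mp h1).2
    exact ⟨n * m, by rw [pow_mul, hm]⟩
  rw [← hφa]
  exact (hker a).mpr ⟨haI, hanil⟩

end Groth.Agent.S3588
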