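import Groth.Statements.S3593
import Groth.Agent.H18.PConeAlg

set_option autoImplicit false
universe u
open CategoryTheory CategoryTheory.Limits AlgebraicGeometry
open EGA2

namespace Groth.Agent.S3593

/-- Let S be a graded R-algebra, Ŝ a graded R-algebra with a graded homomorphism φ : S → Ŝ making Ŝ an
S-algebra, and z an element of Ŝ of degree one such that the S-algebra map S[X] → Ŝ, X ↦ z, is
bijective (so Ŝ = S[z] with z in degree one, the graded ring of the projective cone of S). Then
there is a ring isomorphism S ≅ Ŝ_(z) onto the degree-zero localization at z, sending a homogeneous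
a of degree n to φ(a)/z^n. (This is the isomorphism that identifies the affine cone Spec S with the
open D_+(z) of the projective cone Proj Ŝ; that identification itself is not asserted here.) -/
theorem result {R A : Type u} [CommRing R] [CommRing A] [Algebra R A] (𝒜 : ℕ → Submodule R A) [GradedAlgebra 𝒜]
    {B : Type u} [CommRing B] [Algebra R B] (ℬ : ℕ → Submodule R B) [GradedAlgebra ℬ]
    [Algebra A B] [IsScalarTower R A B] (φ : 𝒜 →+*ᵍ ℬ) (hφ : ∀ a : A, φ a = algebraMap A B a)
    (z : B) (hz : z ∈ ℬ 1) (hhat : Function.Bijective (Polynomial.aeval (R := A) z)) :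
    ∃ θ : A ≃+* HomogeneousLocalization.Away ℬ z,
      ∀ (n : ℕ) (a : A), a ∈ 𝒜 n → (θ a).val = Localization.mk (φ a) ⟨z ^ n, pow_mem (Submonoid.mem_powers z) n⟩ := by
  classical
  let ρ := Groth.Agent.H18.awayToBase ℬ z hhat
  have hbij : Function.Bijective ρ :=
    ⟨Groth.Agent.H18.awayToBase_injective 𝒜 ℬ φ hφ z hz hhat,
      Groth.Agent.H18.awayToBase_surjective 𝒜 ℬ φ hφ z hz hhat⟩
  refine ⟨(RingEquiv.ofBijective ρ hbij).symm, ?_⟩
  intro n a ha
  have hmem : φ a ∈ ℬ (n • 1) := by
    rw [smul_eq_mul, mul_one]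
    exact Graded.map_mem φ ha
  have h1 : (RingEquiv.ofBijective ρ hbij).symm a =
      HomogeneousLocalization.Away.mk ℬ hz n (φ a) hmem := by
    rw [RingEquiv.symm_apply_eq]
    change a = Groth.Agent.H18.awayToBase ℬ z hhat _
    rw [Groth.Agent.H18.awayToBase_mk ℬ z hz hhat, Groth.Agent.H18.evalOne_φ 𝒜 ℬ φ hφ]
  rw [h1, HomogeneousLocalization.Away.val_mk]

end Groth.Agent.S3593
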