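import Groth.Statements.S3596
import Groth.Agent.H18.PConeGlue

set_option autoImplicit false
universe u
open CategoryTheory CategoryTheory.Limits AlgebraicGeometry
open EGA2

namespace Groth.Agent.S3596

/-- For a homomorphism of graded rings φ : S' → S, the induced morphism p : G(φ) → Proj S'
(characterised on the charts as in the previous result) is affine. -/
theorem result {R A : Type u} [CommRing R] [CommRing A] [Algebra R A] (𝒜 : ℕ → Submodule R A) [GradedAlgebra 𝒜]
    {B : Type u} [CommRing B] [Algebra R B] (ℬ : ℕ → Submodule R B) [GradedAlgebra ℬ] (φ : 𝒜 →+*ᵍ ℬ)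
    (p : (PCone.dom φ : Scheme.{u}) ⟶ Proj 𝒜) (hp : ∀ (d : ℕ) (f : A) (hd : 0 < d) (hf : f ∈ 𝒜 d),
        PCone.chart φ hf hd ≫ p =
          Spec.map (CommRingCat.ofHom (HomogeneousLocalization.Away.map φ f)) ≫ Proj.awayι 𝒜 f hf hd) :
    IsAffineHom p := by
  apply isAffineHom_of_forall_exists_isAffineOpen
  intro x
  obtain ⟨i, s, hi, hs, hsx⟩ := Groth.Agent.H18.exists_pos_homogeneous_notMem 𝒜 x
  refine ⟨Proj.basicOpen 𝒜 s, hsx, Proj.isAffineOpen_basicOpen 𝒜 s hs hi, ?_⟩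
  rw [Groth.Agent.H18.pcone_preimage_basicOpen φ p hp hi hs]
  have h1 : (PCone.dom φ).ι ⁻¹ᵁ Proj.basicOpen ℬ (φ s) = (PCone.chart φ hs hi).opensRange := by
    ext y
    change y ∈ (PCone.dom φ).ι ⁻¹' (Proj.basicOpen ℬ (φ s) : Set (Proj ℬ)) ↔
      y ∈ Set.range (PCone.chart φ hs hi)
    rw [Groth.Agent.H18.range_pcone_chart]
  rw [h1]
  exact isAffineOpen_opensRange _

end Groth.Agent.S3596
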