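import Groth.Statements.S3598
import Groth.Agent.H41.ConeFibre
import Groth.Agent.S3596

set_option autoImplicit false
universe u
open CategoryTheory CategoryTheory.Limits AlgebraicGeometry
open EGA2

namespace Groth.Agent.S3598

/-- Let S be a graded algebra over a ring (an affine base) whose irrelevant ideal is generated by its
degree-one elements, and let Ŝ = S[z] be the graded S-algebra obtained by adjoining a variable z of
degree 1 (given as a graded S-algebra together with z of degree 1 such that S[T] → Ŝ, T ↦ z, is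
bijective). Let Ê be the pointed projective cone, covered by the charts Spec Ŝ_(f) for f ∈ S
homogeneous of positive degree, and p : Ê → X = Proj S the canonical retraction, i.e. the morphism
which on each chart Spec Ŝ_(f) is induced by S_(f) → Ŝ_(f). Then p is of finite type (locally of
finite type and quasi-compact) and its fibre at every point x of X is isomorphic over k(x) to the
affine line Spec k(x)[T]. -/
theorem result {R A : Type u} [CommRing R] [CommRing A] [Algebra R A] (𝒜 : ℕ → Submodule R A) [GradedAlgebra 𝒜]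
    {B : Type u} [CommRing B] [Algebra R B] (ℬ : ℕ → Submodule R B) [GradedAlgebra ℬ]
    [Algebra A B] [IsScalarTower R A B] (φ : 𝒜 →+*ᵍ ℬ) (hφ : ∀ a : A, φ a = algebraMap A B a)
    (z : B) (hz : z ∈ ℬ 1) (hhat : Function.Bijective (Polynomial.aeval (R := A) z))
    (hgen : (HomogeneousIdeal.irrelevant 𝒜).toIdeal = Ideal.span (𝒜 1 : Set A))
    (p : (PCone.dom φ : Scheme.{u}) ⟶ Proj 𝒜) (hp : ∀ (d : ℕ) (f : A) (hd : 0 < d) (hf : f ∈ 𝒜 d),
        PCone.chart φ hf hd ≫ p =
          Spec.map (CommRingCat.ofHom (HomogeneousLocalization.Away.map φ f)) ≫ Proj.awayι 𝒜 f hf hd) (x : Proj 𝒜) :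
    LocallyOfFiniteType p ∧ QuasiCompact p ∧
      ∃ e : pullback p ((Proj 𝒜).fromSpecResidueField x) ≅
          Spec (CommRingCat.of (Polynomial ((Proj 𝒜).residueField x))),
        e.hom ≫ Spec.map (CommRingCat.ofHom (algebraMap ((Proj 𝒜).residueField x)
          (Polynomial ((Proj 𝒜).residueField x)))) = pullback.snd p ((Proj 𝒜).fromSpecResidueField x) := by
  have hφ' : φ.toRingHom = algebraMap A B := RingHom.ext hφ
  have hbij : Function.Bijective (Polynomial.eval₂RingHom φ.toRingHom z) := by
    have : ⇑(Polynomial.eval₂RingHom φ.toRingHom z) = ⇑(Polynomial.aeval (R := A) z) := by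
      funext q
      rw [Polynomial.coe_eval₂RingHom, hφ', Polynomial.aeval_def]
    rw [this]
    exact hhat
  have hgen' : (HomogeneousIdeal.irrelevant 𝒜).toIdeal ≤ Ideal.span {a : A | a ∈ 𝒜 1} := hgen.le
  have hcov : (HomogeneousIdeal.irrelevant 𝒜).toIdeal ≤
      Ideal.span (Set.range (fun s : 𝒜 1 => (s : A))) := by
    rw [hgen]
    apply Ideal.span_mono
    intro a ha
    exact ⟨⟨a, ha⟩, rfl⟩
  refine ⟨?_, ?_, ?_⟩
  · refine Groth.Agent.H41.FibreGen.of_openCover_isPullback @LocallyOfFiniteType p
      (Proj.affineOpenCoverOfIrrelevantLESpan 𝒜 (fun s : 𝒜 1 => (s : A)) (fun s => s.2)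
        (fun _ => one_pos) hcov).openCover (fun (s : 𝒜 1) => ?_)
    have h : LocallyOfFiniteType (Spec.map (CommRingCat.ofHom
        (HomogeneousLocalization.Away.map φ (s : A)))) := by
      rw [HasRingHomProperty.Spec_iff (P := @LocallyOfFiniteType)]
      exact Groth.Agent.H41.FibreGen.finiteType_of_polynomial _
        (Groth.Agent.H41.AwayPoly.polyEquiv 𝒜 ℬ φ z hz hbij s.2)
        (Groth.Agent.H41.AwayPoly.polyEquiv_C 𝒜 ℬ φ z hz hbij s.2)
    exact ⟨_, PCone.chart φ s.2 one_pos, _,
      (Groth.Agent.H41.PConeIso.isPullback_chart φ p hp one_pos s.2).flip, h⟩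
  · have := Groth.Agent.S3596.result 𝒜 ℬ φ p hp
    infer_instance
  · obtain ⟨f, hf, hxf⟩ := Groth.Agent.H41.ConeFibre.exists_deg_one_notMem 𝒜 hgen' x
    have hx : x ∈ Set.range (Proj.awayι 𝒜 f hf one_pos).base := by
      have : x ∈ (Proj.awayι 𝒜 f hf one_pos).opensRange := by
        rw [Proj.opensRange_awayι]; exact hxf
      exact this
    exact Groth.Agent.H41.FibreGen.exists_fibre_iso p x (Proj.awayι 𝒜 f hf one_pos) hx
      (PCone.chart φ hf one_pos) _
      (Groth.Agent.H41.PConeIso.isPullback_chart φ p hp one_pos hf).flip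
      (CommRingCat.ofHom (algebraMap ((Proj 𝒜).residueField x)
        (Polynomial ((Proj 𝒜).residueField x))))
      (fun ψ => Groth.Agent.H41.FibreGen.exists_isPushout_polynomial _
        (Groth.Agent.H41.AwayPoly.polyEquiv 𝒜 ℬ φ z hz hbij hf)
        (Groth.Agent.H41.AwayPoly.polyEquiv_C 𝒜 ℬ φ z hz hbij hf) ψ.hom)

end Groth.Agent.S3598
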