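import Groth.Statements.S3623
import Groth.Agent.H26.GorLCI
import Groth.Agent.H49.SyntCM

set_option autoImplicit false
universe u
open CategoryTheory CategoryTheory.Limits AlgebraicGeometry
attribute [local instance] HasDerivedCategory.standard
open Dual3

namespace Groth.Agent.S3623

/-- Let f : Y → X be a local complete intersection morphism (affine-locally given by local complete
intersection ring maps) with X a Gorenstein scheme. Then Y is a Gorenstein scheme. -/
theorem result (Y X : Scheme.{u}) (f : Y ⟶ X) (hf : Dual3.IsLCIMor f) (hX : Dual3.IsGorenstein X) : Dual3.IsGorenstein Y := by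
  obtain ⟨hN, hX⟩ := hX
  have : IsLocallyNoetherian X := hN
  have hiso : ∀ (A B : Type u) [CommRing A] [CommRing B], (A ≃+* B) →
      LocCoh.IsGorensteinLocalRing A → LocCoh.IsGorensteinLocalRing B :=
    fun A B _ _ e h => Groth.Agent.H26.GorRegHom.isGorensteinLocalRing_of_ringEquiv e h
  have key : ∀ y : Y, ∃ U : Y.affineOpens, y ∈ U.1 ∧ LocCoh.IsGorensteinRing Γ(Y, U.1) := by
    intro y
    obtain ⟨U, V, e, hy, hlci⟩ := hf y
    let _ := (f.appLE V.1 U.1 e).hom.toAlgebra
    have : IsNoetherianRing Γ(X, V.1) := IsLocallyNoetherian.component_noetherian V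
    have hV : LocCoh.IsGorensteinRing Γ(X, V.1) :=
      ⟨fun p _ => Groth.Agent.H49.SyntCM.atPrime_of_forall_stalk
        (fun A _ => LocCoh.IsGorensteinLocalRing A) hiso V.2 (fun s _ => hX s) p⟩
    exact ⟨U, hy, Groth.Agent.H26.GorLCI.isGorensteinRing_of_isLCI _ _ hV hlci⟩
  choose U hyU hG using key
  refine ⟨?_, ?_⟩
  · refine isLocallyNoetherian_of_affine_cover (S := U) ?_ (fun y => (hG y).toIsNoetherian)
    rw [eq_top_iff]
    intro y _
    exact TopologicalSpace.Opens.mem_iSup.mpr ⟨y, hyU y⟩
  · intro y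
    exact Groth.Agent.H49.SyntCM.stalk_of_atPrime
      (fun A _ => LocCoh.IsGorensteinLocalRing A) hiso (U y).2 y (hyU y)
      ((hG y).isGorensteinLocalRing_localization _)

end Groth.Agent.S3623
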