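import Groth.Statements.S3626
import Groth.Agent.H26.GorMorBC

set_option autoImplicit false
universe u
open CategoryTheory CategoryTheory.Limits AlgebraicGeometry
attribute [local instance] HasDerivedCategory.standard
open Dual3

namespace Groth.Agent.S3626

/-- Let f : X → Y be flat and locally of finite type, g : Y' → Y any morphism and X' = Y' ×_Y X with
projections f' : X' → Y', g' : X' → X. Then for every point x' of X', f' is Gorenstein at x' if and
only if f is Gorenstein at g'(x'): formation of the Gorenstein locus commutes with base change. -/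
theorem result (X Y X' Y' : Scheme.{u}) (f : X ⟶ Y) [Flat f] [LocallyOfFiniteType f] (g : Y' ⟶ Y) (f' : X' ⟶ Y') (g' : X' ⟶ X) (hsq : IsPullback g' f' f g) (x' : X') : Dual3.IsGorensteinAt f' x' ↔ Dual3.IsGorensteinAt f (g' x') := by
  have hN : IsLocallyNoetherian (f.fiber (g (f' x'))) :=
    inferInstanceAs (IsLocallyNoetherian (pullback f (Y.fromSpecResidueField (g (f' x')))))
  have key := Groth.Agent.H26.GorMorBC.gor_fiber_stalk_iff_of_isPullback f f' g' g hsq x'
    (Or.inl inferInstance)
  have hf' : Flat f' := MorphismProperty.of_isPullback hsq inferInstance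
  exact ⟨fun h => ⟨Flat.stalkMap f _, key.mpr h.2⟩, fun h => ⟨Flat.stalkMap f' _, key.mp h.2⟩⟩

end Groth.Agent.S3626
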