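import Groth.Statements.S3627
import Groth.Agent.H26.GorMor

set_option autoImplicit false
universe u
open CategoryTheory CategoryTheory.Limits AlgebraicGeometry
attribute [local instance] HasDerivedCategory.standard
open Dual3

namespace Groth.Agent.S3627

/-- Let f : X → Y and g : Y → Z be morphisms such that the fibres of f, g and g ∘ f are locally
Noetherian, and let x be a point of X. (1) The composite g ∘ f is Gorenstein at x provided f is so
at x and g is so at f(x). (3) Conversely, if f is flat at x and the composite is Gorenstein there,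
then both factors are Gorenstein: f at x, and g at f(x). -/
theorem result (X Y Z : Scheme.{u}) (f : X ⟶ Y) (g : Y ⟶ Z) (hfibf : ∀ y, IsLocallyNoetherian (f.fiber y)) (hfibg : ∀ y, IsLocallyNoetherian (g.fiber y)) (hfibfg : ∀ z, IsLocallyNoetherian ((f ≫ g).fiber z)) (x : X) : (Dual3.IsGorensteinAt f x → Dual3.IsGorensteinAt g (f x) → Dual3.IsGorensteinAt (f ≫ g) x) ∧ (Dual3.IsGorensteinAt (f ≫ g) x → (f.stalkMap x).hom.Flat → Dual3.IsGorensteinAt f x ∧ Dual3.IsGorensteinAt g (f x)) := by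
  have hN1 : IsLocallyNoetherian ((f ≫ g).fiber ((f ≫ g) x)) := hfibfg _
  have hN2 := Groth.Agent.H49.CMMor.isNoetherianRing_quotient_of_fiber (f ≫ g) x
  have hN3 : IsLocallyNoetherian (g.fiber (g (f x))) := hfibg _
  have hN4 := Groth.Agent.H49.CMMor.isNoetherianRing_quotient_of_fiber g (f x)
  refine ⟨fun hf hg => ?_, fun hc hfl => ?_⟩
  · rw [Groth.Agent.H26.GorMor.isGorensteinAt_iff] at hf hg ⊢
    obtain ⟨hf1, hf2⟩ := hf
    obtain ⟨hg1, hg2⟩ := hg
    refine ⟨?_, ?_⟩
    · rw [Scheme.Hom.stalkMap_comp]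
      exact RingHom.Flat.comp hg1 hf1
    · exact (Groth.Agent.H26.GorMor.gor_comp_iff f g x hf1).mpr ⟨hg2, hf2⟩
  · rw [Groth.Agent.H26.GorMor.isGorensteinAt_iff] at hc ⊢
    rw [Groth.Agent.H26.GorMor.isGorensteinAt_iff]
    obtain ⟨hc1, hc2⟩ := hc
    have hgfl := Groth.Agent.H49.CMMor.flat_stalkMap_of_comp f g x hfl hc1
    have h := (Groth.Agent.H26.GorMor.gor_comp_iff f g x hfl).mp hc2
    exact ⟨⟨hfl, h.2⟩, ⟨hgfl, h.1⟩⟩

end Groth.Agent.S3627
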