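import Groth.Statements.S3665
import Groth.Agent.Lead.Coh.SubRange
import Groth.Agent.H18.SectionHom
import Groth.Agent.H44.FiniteSections
import Groth.Agent.H12.QCohIso
import Groth.Agent.H67.StalkLoc

set_option autoImplicit false
universe u
open CategoryTheory CategoryTheory.Limits AlgebraicGeometry
attribute [local instance] HasDerivedCategory.standard
open Dual3

namespace Groth.Agent.S3665

set_option linter.style.haveILetI false

open TopologicalSpace Groth.Agent.H18 Groth.Agent.Lead.SubRange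

/-- an ideal sheaf is the unit ideal over affine opens disjoint from its support -/
theorem ideal_eq_top_of_disjoint {X : Scheme.{u}} (I : X.IdealSheafData) (V : X.affineOpens)
    (h : (I.support : Set X) ∩ (V.1 : Set X) = ∅) : I.ideal V = ⊤ := by
  rw [Scheme.IdealSheafData.coe_support_inter] at h
  have h2 := (V.2.fromSpec_image_zeroLocus (I.ideal V)).trans h
  exact (PrimeSpectrum.zeroLocus_empty_iff_eq_top).1 (Set.image_eq_empty.1 h2)

/-- a section lying in `I^n F` for all `n` vanishes near the support of `I` (Krull intersection) -/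
theorem forward {X : Scheme.{u}} [IsLocallyNoetherian X] (I : X.IdealSheafData) (F : X.Modules)
    (hF : Coh.IsCoh F) (s : Γ(F, (⊤ : X.Opens)))
    (h : ∀ n : ℕ, s ∈ rng (Dual3.idealMulι (I ^ n) F) ⊤) :
    ∃ V : X.Opens, I.supportSet ⊆ (V : Set X) ∧ mres F (le_top : V ≤ ⊤) s = 0 := by
  haveI : F.IsQuasicoherent := hF.1
  haveI : SheafOfModules.IsFiniteType (R := X.ringCatSheaf) F := hF.2
  have key : ∀ W : X.affineOpens, ∃ r : Γ(X, W.1), r ∈ I.ideal W ∧
      r • mres F (le_top : W.1 ≤ ⊤) s = mres F (le_top : W.1 ≤ ⊤) s := by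
    intro W
    haveI : IsNoetherianRing Γ(X, W.1) := IsLocallyNoetherian.component_noetherian W
    haveI : Module.Finite Γ(X, W.1) Γ(F, W.1) :=
      Groth.Agent.H44.finite_sections_of_isFiniteType F W.2
    have hmem : mres F (le_top : W.1 ≤ ⊤) s ∈
        (⨅ n : ℕ, (I.ideal W) ^ n • (⊤ : Submodule Γ(X, W.1) Γ(F, W.1))) := by
      rw [Submodule.mem_iInf]
      intro n
      obtain ⟨t, ht⟩ := (mem_rng _ _ _).1 (h n)
      have h1 : mres F (le_top : W.1 ≤ ⊤) s ∈ rng (Dual3.idealMulι (I ^ n) F) W.1 := by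
        rw [mem_rng]
        refine ⟨mres _ (le_top : W.1 ≤ ⊤) t, ?_⟩
        rw [← Groth.Agent.H12.QCohExt.app_mres, ht]
      rw [rng_idealMulι (I ^ n) W.2] at h1
      exact h1
    obtain ⟨r, hr⟩ := (Ideal.mem_iInf_smul_pow_eq_bot_iff (I.ideal W) _).1 hmem
    exact ⟨r.1, r.2, hr⟩
  choose r hrI hrs using key
  refine ⟨⨆ W : X.affineOpens, X.basicOpen (1 - r W), ?_, ?_⟩
  · intro x hx
    obtain ⟨_, ⟨W, hWaff, rfl⟩, hxW, -⟩ :=
      X.isBasis_affineOpens.exists_subset_of_mem_open (Set.mem_univ x) isOpen_univ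
    let W' : X.affineOpens := ⟨W, hWaff⟩
    have hz : x ∈ X.zeroLocus (U := W'.1) (I.ideal W') := I.supportSet_subset_zeroLocus W' hx
    rw [Scheme.mem_zeroLocus_iff] at hz
    have h1 : x ∉ X.basicOpen (r W') := hz _ (hrI W')
    rw [Scheme.mem_basicOpen _ _ x hxW] at h1
    have h2 : x ∈ X.basicOpen (1 - r W') := by
      rw [Scheme.mem_basicOpen _ _ x hxW]
      have h3 : X.presheaf.germ W x hxW (r W') + X.presheaf.germ W x hxW (1 - r W') = 1 := by
        rw [← map_add, add_sub_cancel, map_one]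
      exact (IsLocalRing.isUnit_or_isUnit_of_add_one h3).resolve_left h1
    exact Opens.mem_iSup.2 ⟨W', h2⟩
  · refine Groth.Agent.H12.QCohIso.modules_eq_of_locally_eq F _ _ (fun x hx => ?_)
    obtain ⟨W, hxW⟩ := Opens.mem_iSup.1 hx
    refine ⟨X.basicOpen (1 - r W), le_iSup (fun W : X.affineOpens => X.basicOpen (1 - r W)) W,
      hxW, ?_⟩
    rw [mres_mres, map_zero]
    have hD : X.basicOpen (1 - r W) ≤ W.1 := X.basicOpen_le _
    have h0 : (1 - r W) • mres F (le_top : W.1 ≤ ⊤) s = 0 := by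
      rw [sub_smul, one_smul, hrs W, sub_self]
    have h1 := congrArg (mres F hD) h0
    rw [mres_smul, mres_mres, map_zero] at h1
    have hu : IsUnit (X.presheaf.map (homOfLE hD).op (1 - r W)) :=
      X.toRingedSpace.isUnit_res_basicOpen _
    exact (hu.smul_eq_zero).1 h1

/-- a section vanishing near the support of `I` lies in `I^n F` -/
theorem backward {X : Scheme.{u}} (I : X.IdealSheafData) (F : X.Modules)
    [F.IsQuasicoherent] (s : Γ(F, (⊤ : X.Opens))) (V : X.Opens)
    (hV : I.supportSet ⊆ (V : Set X)) (hs : mres F (le_top : V ≤ ⊤) s = 0) (n : ℕ) :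
    s ∈ rng (Dual3.idealMulι (I ^ n) F) ⊤ := by
  haveI : (Coh.structureModule X).IsQuasicoherent :=
    Groth.Agent.H67.StalkLoc.isQuasicoherent_structureModule X
  haveI : ((Dual3.idealMul (I ^ n)).obj F).IsQuasicoherent := isQuasicoherent_idealMul (I ^ n) F
  -- an affine cover subordinate to `V` and the complement of the support
  have hcovx : ∀ x : X, ∃ W : X.Opens, IsAffineOpen W ∧ x ∈ W ∧
      (W ≤ V ∨ (I.support : Set X) ∩ (W : Set X) = ∅) := by
    intro x
    by_cases hx : x ∈ V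
    · obtain ⟨_, ⟨W, hWaff, rfl⟩, hxW, hWV⟩ :=
        X.isBasis_affineOpens.exists_subset_of_mem_open (show x ∈ (V : Set X) from hx) V.isOpen
      exact ⟨W, hWaff, hxW, Or.inl hWV⟩
    · have hxs : x ∈ (I.support : Set X)ᶜ := fun hxs => hx (hV hxs)
      obtain ⟨_, ⟨W, hWaff, rfl⟩, hxW, hWV⟩ :=
        X.isBasis_affineOpens.exists_subset_of_mem_open hxs I.support.isClosed.isOpen_compl
      refine ⟨W, hWaff, hxW, Or.inr ?_⟩
      ext z
      simp only [Set.mem_inter_iff, Set.mem_empty_iff_false, iff_false, not_and]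
      intro hz hz'
      exact hWV hz' hz
  choose 𝒰 haff hmem hor using hcovx
  obtain ⟨u, hu⟩ := exists_fac_of_rng_le_cover 𝒰 (fun x => ⟨x, hmem x⟩) haff
    (sectionHom F s) (Dual3.idealMulι (I ^ n) F) (fun x => by
      rcases hor x with h1 | h2
      · rintro _ ⟨a, rfl⟩
        have h3 : appLin (sectionHom F s) (𝒰 x) a = 0 := by
          have h4 : mres F (le_top : 𝒰 x ≤ ⊤) s = 0 := by
            rw [← mres_mres F (le_top : V ≤ ⊤) h1, hs, map_zero]
          rw [appLin_apply]
          refine (sectionHom_app F s (𝒰 x) a).trans ?_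
          rw [h4]
          exact smul_zero (M := ↑Γ(X, 𝒰 x)) (A := ↑Γ(F, 𝒰 x)) a
        rw [h3]
        exact Submodule.zero_mem _
      · rw [rng_idealMulι (I ^ n) (haff x)]
        have h3 : (I ^ n).ideal ⟨𝒰 x, haff x⟩ = ⊤ := by
          rw [Scheme.IdealSheafData.ideal_pow, Pi.pow_apply,
            ideal_eq_top_of_disjoint I ⟨𝒰 x, haff x⟩ h2, Ideal.top_pow]
        rw [h3, Submodule.top_smul]
        exact le_top)
  refine (mem_rng _ _ _).2 ⟨u.app ⊤ (1 : Γ(X, (⊤ : X.Opens))), ?_⟩
  have h1 := congrArg (fun k => (Scheme.Modules.Hom.app k (⊤ : X.Opens)) (1 : Γ(X, (⊤ : X.Opens)))) hu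
  have h2 : (sectionHom F s).app ⊤ (1 : Γ(X, (⊤ : X.Opens))) = s := by
    rw [sectionHom_app_one, mres_self]
  exact h1.trans h2

/-- Let X be proper over a field k, I a quasi-coherent ideal with vanishing locus Z and F a coherent
O_X-module, so that H^0_c(X ∖ Z, F) = lim_n H^0(X, I^n F) = ⋂_n Γ(X, I^n F) inside Γ(X, F). Then a
global section s of F lies in the image of Γ(X, I^n F) for every n if and only if s restricts to
zero on some open neighbourhood of Z. -/
theorem result (k : Type u) [Field k] (X : Scheme.{u}) (f : X ⟶ Spec (CommRingCat.of k)) [IsProper f] (I : X.IdealSheafData) (F : X.Modules) (hF : Coh.IsCoh F) (s : F.val.obj (Opposite.op ⊤)) : (∀ n : ℕ, ∃ t : ((Dual3.idealMul (I ^ n)).obj F).val.obj (Opposite.op ⊤), (Dual3.idealMulι (I ^ n) F).val.app (Opposite.op ⊤) t = s) ↔ ∃ V : X.Opens, I.supportSet ⊆ (V : Set X) ∧ F.val.map (homOfLE le_top : V ⟶ ⊤).op s = 0 := by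
  haveI : IsLocallyNoetherian X := LocallyOfFiniteType.isLocallyNoetherian f
  haveI : F.IsQuasicoherent := hF.1
  constructor
  · intro h
    obtain ⟨V, hV, hs⟩ := forward I F hF s (fun n => (mem_rng _ _ _).2 (h n))
    exact ⟨V, hV, hs⟩
  · rintro ⟨V, hV, hs⟩ n
    exact (mem_rng _ _ _).1 (backward I F s V hV hs n)

end Groth.Agent.S3665
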