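import Groth.Statements.S3682
import Groth.Agent.H13.AlgClosedGeom

set_option autoImplicit false
universe u
open Pi1

namespace Groth.Agent.S3682

open AlgebraicGeometry CategoryTheory CategoryTheory.Limits in
theorem geomConn_aux (k : Type u) [Field k] [IsAlgClosed k] {W : Scheme.{u}}
    (a : W ⟶ Spec (CommRingCat.of k)) [ConnectedSpace W] : GeometricallyConnected a := by
  refine ⟨fun K _ y Z fst snd h => ?_⟩
  obtain ⟨φ, rfl⟩ := Spec.map_surjective y
  letI : Algebra k K := φ.hom.toAlgebra
  have hφ : φ = CommRingCat.ofHom (algebraMap k K) := rfl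
  rw [hφ] at h
  haveI := Groth.Agent.H13.geometricallyConnected_specMap_of_isAlgClosed k K
  haveI : ConnectedSpace ↥(pullback a
      (Spec.map (CommRingCat.ofHom (algebraMap k K)))) := inferInstance
  exact (h.isoPullback.hom.homeomorph.connectedSpace_iff).mpr inferInstance

open AlgebraicGeometry CategoryTheory CategoryTheory.Limits in
theorem conn_aux (k : Type u) [Field k] [IsAlgClosed k] {W T : Scheme.{u}}
    (a : W ⟶ Spec (CommRingCat.of k)) [ConnectedSpace W]
    (b : T ⟶ Spec (CommRingCat.of k)) [ConnectedSpace T] : ConnectedSpace ↥(pullback a b) := by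
  haveI := geomConn_aux k a
  infer_instance

open AlgebraicGeometry CategoryTheory CategoryTheory.Limits in
/-- The part saying that the homomorphism from the fundamental group of X x_k Y to the product of the
fundamental groups is surjective, in terms of covers. Let k be algebraically closed, X proper and
connected over k, Y locally Noetherian and connected over k. If X' is a connected finite etale cover
of X and Y' a connected finite etale cover of Y, then the product of X' and Y' over k is connected. -/
theorem result (k : Type u) [Field k] [IsAlgClosed k] {X Y : Scheme.{u}}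
    (pX : X ⟶ Spec (CommRingCat.of k)) (pY : Y ⟶ Spec (CommRingCat.of k)) [IsProper pX] [ConnectedSpace X]
    [IsLocallyNoetherian Y] [ConnectedSpace Y]
    (X' : FEt.Cat X) [ConnectedSpace X'.left] (Y' : FEt.Cat Y) [ConnectedSpace Y'.left] :
    ConnectedSpace ↥(pullback (X'.hom ≫ pX) (Y'.hom ≫ pY)) := by
  exact conn_aux k (W := X'.left) (T := Y'.left) (X'.hom ≫ pX) (Y'.hom ≫ pY)

end Groth.Agent.S3682
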