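import Groth.Statements.S3829
import Groth.Agent.H11.NzdSmooth2
import Groth.Agent.H11.LciFittSch
import Groth.Agent.H25.SmoothDescentScheme
import Groth.Agent.H25.FibreSmoothPt

set_option autoImplicit false
universe u
open CategoryTheory CategoryTheory.Limits AlgebraicGeometry TopologicalSpace
open Unram17

namespace Groth.Agent.S3829

/-- c) implies a) (case of a closed immersion): let f : X → S and h : Y → S be locally of finite
presentation, j : Y → X a closed immersion over S and y a point of Y. If h is smooth on a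
neighbourhood of y and, on some affine open neighbourhood of j(y) in X, the ideal of j is generated
by a regular sequence (j is a regular immersion near y), then f is smooth on an open neighbourhood
of j(y). -/
theorem result {X Y S : Scheme.{u}} (f : X ⟶ S) (h : Y ⟶ S)
    [LocallyOfFinitePresentation f] [LocallyOfFinitePresentation h] (j : Y ⟶ X) [IsClosedImmersion j]
    (hj : j ≫ f = h) (y : ↥Y) (hy : ∃ V : Y.Opens, y ∈ V ∧ Smooth (V.ι ≫ h))
    (hreg : ∃ (U : X.Opens) (hU : IsAffineOpen U), j y ∈ U ∧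
      ∃ rs : List Γ(X, U), RingTheory.Sequence.IsRegular Γ(X, U) rs ∧ j.ker.ideal ⟨U, hU⟩ = Ideal.ofList rs) :
    ∃ U : X.Opens, j y ∈ U ∧ Smooth (U.ι ≫ f) := by
  obtain ⟨V, hyV, hVsm⟩ := hy
  obtain ⟨U, hU, hxU, rs, hrs, hker⟩ := hreg
  haveI := hVsm
  have hysm : y ∈ h.smoothLocus :=
    Groth.Agent.H25.SmoothDescentScheme.mem_smoothLocus_of_smooth_nhd h y V hyV
  suffices hx : j.base y ∈ f.smoothLocus by
    haveI : Smooth (f.smoothLocus.ι ≫ f) :=
      Groth.Agent.H25.FibreSmoothPt.smooth_smoothLocus_ι_comp f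
    exact ⟨f.smoothLocus, hx, inferInstance⟩
  subst hj
  -- charts
  obtain ⟨_, ⟨V₀, hV₀, rfl⟩, hxV₀, -⟩ :=
    S.isBasis_affineOpens.exists_subset_of_mem_open (Set.mem_univ (f.base (j.base y))) isOpen_univ
  obtain ⟨g, hgle, hxg⟩ := hU.exists_basicOpen_le (V := U ⊓ f ⁻¹ᵁ V₀)
    ⟨j.base y, ⟨hxU, hxV₀⟩⟩ hxU
  have hO : IsAffineOpen (X.basicOpen g) := hU.basicOpen g
  have hxO : j.base y ∈ X.basicOpen g := hxg
  have hOU : X.basicOpen g ≤ U := X.basicOpen_le g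
  have e₀ : X.basicOpen g ≤ f ⁻¹ᵁ V₀ := fun z hz => (hgle hz).2
  haveI hloc : IsLocalization.Away g Γ(X, X.basicOpen g) := hU.isLocalization_basicOpen g
  have hZ : IsAffineOpen (j ⁻¹ᵁ (X.basicOpen g)) := hO.preimage j
  have hZU : IsAffineOpen (j ⁻¹ᵁ U) := hU.preimage j
  have eY : j ⁻¹ᵁ (X.basicOpen g) ≤ (j ≫ f) ⁻¹ᵁ V₀ := fun z hz => e₀ hz
  letI algAB : Algebra Γ(S, V₀) Γ(X, (X.basicOpen g)) := (f.appLE V₀ (X.basicOpen g) e₀).hom.toAlgebra
  letI algAC : Algebra Γ(S, V₀) Γ(Y, j ⁻¹ᵁ (X.basicOpen g)) := ((j ≫ f).appLE V₀ (j ⁻¹ᵁ (X.basicOpen g)) eY).hom.toAlgebra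
  haveI : Algebra.FinitePresentation Γ(S, V₀) Γ(X, (X.basicOpen g)) :=
    HasRingHomProperty.appLE @LocallyOfFinitePresentation f inferInstance ⟨V₀, hV₀⟩ ⟨(X.basicOpen g), hO⟩ e₀
  -- the regular sequence on `(X.basicOpen g)`
  obtain ⟨rs', hrs'def⟩ : ∃ rs' : List Γ(X, (X.basicOpen g)), rs' = rs.map (algebraMap Γ(X, U) Γ(X, (X.basicOpen g))) :=
    ⟨_, rfl⟩
  have hreg' : RingTheory.Sequence.IsWeaklyRegular Γ(X, (X.basicOpen g)) rs' := by
    rw [hrs'def]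
    exact hrs.1.of_isLocalization Γ(X, (X.basicOpen g)) (Submonoid.powers g)
  have hkerO : RingHom.ker (j.app (X.basicOpen g)).hom = Ideal.ofList rs' := by
    have h1 := Groth.Agent.H11.LciFittSch.ker_app_basicOpen j hU hZU g
    rw [h1, ← Scheme.Hom.ker_apply j ⟨U, hU⟩, hker, hrs'def, Ideal.map_ofList]
  -- the surjection `B → C`
  have hcomm : ∀ a : Γ(S, V₀), (j.app (X.basicOpen g)).hom (algebraMap Γ(S, V₀) Γ(X, (X.basicOpen g)) a) =
      algebraMap Γ(S, V₀) Γ(Y, j ⁻¹ᵁ (X.basicOpen g)) a := by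
    intro a
    have h1 := Scheme.Hom.appLE_comp_appLE j f V₀ (X.basicOpen g) (j ⁻¹ᵁ (X.basicOpen g)) e₀ le_rfl
    rw [Scheme.Hom.appLE_eq_app] at h1
    have h2 := congrArg (fun φ => φ.hom a) h1
    exact h2
  let φ : Γ(X, (X.basicOpen g)) →ₐ[Γ(S, V₀)] Γ(Y, j ⁻¹ᵁ (X.basicOpen g)) :=
    { (j.app (X.basicOpen g)).hom with commutes' := hcomm }
  have hφsurj : Function.Surjective φ := j.app_surjective (X.basicOpen g) hO
  have hφker : Ideal.ofList rs' = RingHom.ker φ := by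
    rw [← hkerO]; rfl
  -- primes
  have hyO : y ∈ j ⁻¹ᵁ (X.basicOpen g) := hxO
  have hqq : (hO.primeIdealOf ⟨j.base y, hxO⟩).asIdeal =
      (hZ.primeIdealOf ⟨y, hyO⟩).asIdeal.comap (j.app (X.basicOpen g)).hom := by
    have := IsAffineOpen.comap_primeIdealOf_appLE (X.basicOpen g) hO (j ⁻¹ᵁ (X.basicOpen g)) hZ le_rfl hyO (f := j)
    rw [Scheme.Hom.appLE_eq_app] at this
    exact congrArg PrimeSpectrum.asIdeal this.symm
  have hrsq : ∀ r ∈ rs', r ∈ (hO.primeIdealOf ⟨j.base y, hxO⟩).asIdeal := by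
    intro r hr
    rw [hqq, Ideal.mem_comap]
    have : r ∈ RingHom.ker (j.app (X.basicOpen g)).hom := by
      rw [hkerO]; exact Ideal.subset_span hr
    rw [RingHom.mem_ker.mp this]
    exact Ideal.zero_mem _
  have hrsle : Ideal.ofList rs' ≤ (hO.primeIdealOf ⟨j.base y, hxO⟩).asIdeal :=
    Ideal.span_le.mpr fun x hx => hrsq x hx
  haveI hp : ((hO.primeIdealOf ⟨j.base y, hxO⟩).asIdeal.map
      (Ideal.Quotient.mk (Ideal.ofList rs'))).IsPrime :=
    Groth.Agent.H11.NzdSmooth2.isPrime_map_mk _ _ hrsle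
  -- smoothness of `C` at `y`
  have hsmC : Algebra.FormallySmooth Γ(S, V₀)
      (Localization.AtPrime (hZ.primeIdealOf ⟨y, hyO⟩).asIdeal) :=
    (formallySmooth_stalkMap_iff V₀ hV₀ (j ⁻¹ᵁ (X.basicOpen g)) hZ eY hyO).mp
      (Scheme.Hom.mem_smoothLocus.mp hysm)
  have hsmQ : Algebra.FormallySmooth Γ(S, V₀) (Localization.AtPrime
      ((hO.primeIdealOf ⟨j.base y, hxO⟩).asIdeal.map (Ideal.Quotient.mk (Ideal.ofList rs')))) := by
    have := (Groth.Agent.H11.NzdSmooth2.smAt_iff (A := Γ(S, V₀)) φ hφsurj (Ideal.ofList rs') hφker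
      (hO.primeIdealOf ⟨j.base y, hxO⟩).asIdeal (hZ.primeIdealOf ⟨y, hyO⟩).asIdeal hqq).mpr hsmC
    exact this hp
  have hsmB := Groth.Agent.H11.NzdSmooth2.formallySmooth_of_quotient_regular (A := Γ(S, V₀))
    rs' hreg' (hO.primeIdealOf ⟨j.base y, hxO⟩).asIdeal hrsq hsmQ
  exact Scheme.Hom.mem_smoothLocus.mpr
    ((formallySmooth_stalkMap_iff V₀ hV₀ (X.basicOpen g) hO e₀ hxO).mpr hsmB)


end Groth.Agent.S3829
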