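import Groth.Statements.S3700
import Groth.Agent.H11.SmoothPairAt
import Groth.Agent.H39.RegImmStalk3
import Groth.Agent.S3829
import Groth.Agent.H25.SmoothDescentScheme

set_option autoImplicit false
universe u
open SGA1

namespace Groth.Agent.S3700

open AlgebraicGeometry CategoryTheory CategoryTheory.Limits in
/-- Let S be locally Noetherian, f : X -> S locally of finite type, Y the closed subscheme of X defined
by a quasi-coherent ideal, and x a point of Y at which Y is smooth over S. Then X is smooth over S
at x if and only if the closed immersion of Y in X is regular at x, that is, the kernel of O_{X,x}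
-> O_{Y,x} is generated by a regular sequence. (Smoothness at a point is membership in Mathlib's
smooth locus, the set of points where the map of local rings is formally smooth.) -/
theorem result {X S : Scheme.{u}} [IsLocallyNoetherian S] (f : X ⟶ S)
    [LocallyOfFiniteType f] [LocallyOfFinitePresentation f] (I : X.IdealSheafData)
    [LocallyOfFinitePresentation (I.subschemeι ≫ f)] (x : ↥I.subscheme) (hY : x ∈ (I.subschemeι ≫ f).smoothLocus) :
    I.subschemeι.base x ∈ f.smoothLocus ↔ CInt.IsRegularIdeal (RingHom.ker (I.subschemeι.stalkMap x).hom) := by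
  haveI : IsLocallyNoetherian X := LocallyOfFiniteType.isLocallyNoetherian f
  constructor
  · intro hx
    exact Groth.Agent.H39.RegImmStalk3.isRegularIdeal_ker_stalkMap_of_isRegularImmersionAt
      I.subschemeι x
      (Groth.Agent.H11.SmoothPairAt.isRegularImmersionAt_of_mem_smoothLocus f I.subschemeι x hx hY)
  · intro hreg
    obtain ⟨U, hzU, hcl, rs, hrs, hker⟩ :=
      Groth.Agent.H39.RegImmStalk3.isRegularImmersionAt_of_isRegularIdeal_ker I.subschemeι x hreg
    haveI : Smooth ((I.subschemeι ≫ f).smoothLocus.ι ≫ I.subschemeι ≫ f) :=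
      Groth.Agent.H25.FibreSmoothPt.smooth_smoothLocus_ι_comp (I.subschemeι ≫ f)
    obtain ⟨U', hxU', hsm⟩ := Groth.Agent.S3829.result f (I.subschemeι ≫ f) I.subschemeι rfl x
      ⟨(I.subschemeι ≫ f).smoothLocus, hY, inferInstance⟩
      ⟨U.1, U.2, hzU, rs, hrs, by rw [Scheme.Hom.ker_apply]; exact hker⟩
    haveI := hsm
    exact Groth.Agent.H25.SmoothDescentScheme.mem_smoothLocus_of_smooth_nhd f _ U' hxU'


end Groth.Agent.S3700
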