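import Groth.Statements.S3707
import Mathlib.AlgebraicGeometry.Morphisms.IsIso
import Mathlib.AlgebraicGeometry.Morphisms.UnderlyingMap

set_option autoImplicit false
universe u
open SGA1

namespace Groth.Agent.S3707

open AlgebraicGeometry CategoryTheory CategoryTheory.Limits in
/-- Let g : S' -> S be a surjective morphism of schemes, X and Y schemes over S with Y unramified over S
(formally unramified and locally of finite type), and X', Y' their base changes to S'. Then the map
sending an S-morphism X -> Y to the induced S'-morphism X' -> Y' is injective. -/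
theorem result {S S' X Y : Scheme.{u}} (g : S' ⟶ S) [Surjective g]
    (p : X ⟶ S) (q : Y ⟶ S) [FormallyUnramified q] [LocallyOfFiniteType q]
    (u v : X ⟶ Y) (hu : p ≫ 𝟙 S = u ≫ q) (hv : p ≫ 𝟙 S = v ≫ q)
    (h : pullback.map p g q g u (𝟙 S') (𝟙 S) hu ((Category.comp_id _).trans (Category.id_comp _).symm) =
      pullback.map p g q g v (𝟙 S') (𝟙 S) hv ((Category.comp_id _).trans (Category.id_comp _).symm)) :
    u = v := by
  have huv : u ≫ q = v ≫ q := hu.symm.trans hv
  let d := pullback.diagonal q
  let w : X ⟶ pullback q q := pullback.lift u v huv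
  let e := pullback.fst w d
  have heo : IsOpenImmersion e := inferInstance
  have heu : e ≫ u = pullback.snd w d := by
    have h1 : e ≫ w ≫ pullback.fst q q = pullback.snd w d ≫ d ≫ pullback.fst q q := by
      rw [← Category.assoc, ← Category.assoc, pullback.condition]
    rw [pullback.lift_fst, pullback.diagonal_fst, Category.comp_id] at h1
    exact h1
  have hev : e ≫ v = pullback.snd w d := by
    have h1 : e ≫ w ≫ pullback.snd q q = pullback.snd w d ≫ d ≫ pullback.snd q q := by
      rw [← Category.assoc, ← Category.assoc, pullback.condition]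
    rw [pullback.lift_snd, pullback.diagonal_snd, Category.comp_id] at h1
    exact h1
  let π := pullback.fst p g
  have hπ : π ≫ u = π ≫ v := by
    have h1 := congrArg (· ≫ pullback.fst q g) h
    simp only [pullback.map, pullback.lift_fst] at h1
    exact h1
  have hk : π ≫ w = (π ≫ u) ≫ d := by
    apply pullback.hom_ext
    · rw [Category.assoc, pullback.lift_fst, Category.assoc, pullback.diagonal_fst, Category.comp_id]
    · rw [Category.assoc, pullback.lift_snd, Category.assoc, pullback.diagonal_snd, Category.comp_id, hπ]
  let k : pullback p g ⟶ pullback w d := pullback.lift π (π ≫ u) hk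
  have hke : k ≫ e = π := pullback.lift_fst _ _ _
  have hes : Surjective e := by
    refine ⟨fun x => ?_⟩
    obtain ⟨x', hx'⟩ := (inferInstance : Surjective π).surj x
    refine ⟨k x', ?_⟩
    rw [← Scheme.Hom.comp_apply, hke]
    exact hx'
  have hiso : IsIso e := (isIso_iff_isOpenImmersion_and_surjective e).mpr ⟨heo, hes⟩
  rw [← cancel_epi e, heu, hev]

end Groth.Agent.S3707
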