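import Groth.Statements.S3718
import Groth.Agent.H75.TorsTrans
import Groth.Agent.H75.CommCover

set_option autoImplicit false
universe u
open CategoryTheory MonoidalCategory CartesianMonoidalCategory MonObj GrpObj AlgebraicGeometry
open Pi1

namespace Groth.Agent.S3718

/-- The covers that compute the prime-to-p part of the fundamental group of an abelian variety: let k be
algebraically closed, A an abelian variety over k (a proper, geometrically integral group scheme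
over k) and n ≥ 1 an integer invertible in k. Granted that multiplication by n (the n-th power of
the identity in the group Hom(A, A)) is a finite etale cover of A, it is a Galois cover, and its
automorphisms over A are exactly the translations x -> x + a by the k-points a of A with n a = 0,
each such a giving exactly one automorphism. (With the domination row this identifies the maximal
prime-to-p quotient of the fundamental group with the inverse limit of the prime-to-p torsion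
points.) -/
theorem result (k : Type u) [Field k] [IsAlgClosed k]
    (A : Over (Spec (CommRingCat.of k))) [GrpObj A] [IsProper A.hom] [GeometricallyIntegral A.hom]
    (n : ℕ) (hn1 : 1 ≤ n) (hn : IsUnit ((n : ℕ) : k)) :
    ∀ [hF : IsFinite ((𝟙 A) ^ (n : ℤ)).left] [hE : Etale ((𝟙 A) ^ (n : ℤ)).left],
      PiSp.IsGaloisCover (MorphismProperty.Over.mk ⊤ ((𝟙 A) ^ (n : ℤ)).left ⟨hF, hE⟩ : FEt.Cat A.left) ∧
      (∀ θ : Aut (MorphismProperty.Over.mk ⊤ ((𝟙 A) ^ (n : ℤ)).left ⟨hF, hE⟩ : FEt.Cat A.left),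
        ∃! a : 𝟙_ (Over (Spec (CommRingCat.of k))) ⟶ A, a ^ (n : ℤ) = 1 ∧
          θ.hom.left = ((𝟙 A) * (toUnit A ≫ a)).left) ∧
      (∀ a : 𝟙_ (Over (Spec (CommRingCat.of k))) ⟶ A, a ^ (n : ℤ) = 1 →
        ∃ θ : Aut (MorphismProperty.Over.mk ⊤ ((𝟙 A) ^ (n : ℤ)).left ⟨hF, hE⟩ : FEt.Cat A.left),
          θ.hom.left = ((𝟙 A) * (toUnit A ≫ a)).left) := by
  intro hF hE
  haveI hcomm : IsCommMonObj A := isCommMonObj_of_isProper_of_geometricallyIntegral A
  haveI hint : IsIntegral A.left := GeometricallyIntegral.isIntegral_of_subsingleton A.hom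
  have hNn : (𝟙 A) ^ (n : ℤ) = (𝟙 A) ^ n := zpow_natCast _ _
  haveI hmon : IsMonHom ((𝟙 A) ^ (n : ℤ)) := by
    rw [hNn]
    exact Groth.Agent.H75.CommCover.isMonHom_pow (𝟙 A) n
  -- torsion points
  have hpt : ∀ a : 𝟙_ (Over (Spec (CommRingCat.of k))) ⟶ A,
      a ^ (n : ℤ) = 1 ↔ a ≫ (𝟙 A) ^ (n : ℤ) = η[A] := by
    intro a
    rw [hNn, MonObj.comp_pow, Category.comp_id, zpow_natCast, MonObj.one_eq_one]
  -- translations by torsion points are automorphisms of the cover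
  have htr : ∀ a : 𝟙_ (Over (Spec (CommRingCat.of k))) ⟶ A, a ^ (n : ℤ) = 1 →
      ∃ θ : Aut (MorphismProperty.Over.mk ⊤ ((𝟙 A) ^ (n : ℤ)).left ⟨hF, hE⟩ : FEt.Cat A.left),
        θ.hom.left = ((𝟙 A) * (toUnit A ≫ a)).left := by
    intro a ha
    have h1 : Groth.Agent.H75.TransAut.tr a ≫ (𝟙 A) ^ (n : ℤ) = (𝟙 A) ^ (n : ℤ) :=
      Groth.Agent.H75.TransAut.tr_comp_hom _ a ((hpt a).mp ha)
    haveI : IsIso (Groth.Agent.H75.TransAut.tr a) := Groth.Agent.H75.TransAut.isIso_tr a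
    haveI : IsIso (Groth.Agent.H75.TransAut.tr a).left :=
      Functor.map_isIso (Over.forget _) (Groth.Agent.H75.TransAut.tr a)
    let e : A.left ≅ A.left := asIso (Groth.Agent.H75.TransAut.tr a).left
    refine ⟨MorphismProperty.Over.isoMk e ?_, ?_⟩
    · exact congr($(h1).left)
    · rfl
  refine ⟨⟨?_, ?_⟩, ?_, htr⟩
  · change ConnectedSpace ↥A.left
    infer_instance
  · intro Ω _ _ ξ s t
    let s0 : Spec (CommRingCat.of Ω) ⟶ A.left := s.1
    let t0 : Spec (CommRingCat.of Ω) ⟶ A.left := t.1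
    have hs2 : s0 ≫ ((𝟙 A) ^ (n : ℤ)).left = ξ := s.2
    have ht2 : t0 ≫ ((𝟙 A) ^ (n : ℤ)).left = ξ := t.2
    have hs : s0 ≫ A.hom = ξ ≫ A.hom := by
      rw [← hs2, Category.assoc, Over.w]
    have ht : t0 ≫ A.hom = ξ ≫ A.hom := by
      rw [← ht2, Category.assoc, Over.w]
    let s' : Over.mk (ξ ≫ A.hom) ⟶ A := Over.homMk s0 hs
    let t' : Over.mk (ξ ≫ A.hom) ⟶ A := Over.homMk t0 ht
    have hst : s' ≫ (𝟙 A) ^ (n : ℤ) = t' ≫ (𝟙 A) ^ (n : ℤ) := by
      apply Over.OverMorphism.ext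
      change s0 ≫ ((𝟙 A) ^ (n : ℤ)).left = t0 ≫ ((𝟙 A) ^ (n : ℤ)).left
      exact hs2.trans ht2.symm
    obtain ⟨a, haN, hat⟩ := Groth.Agent.H75.TorsTrans.exists_tr_of_geom_pts k A A
      ((𝟙 A) ^ (n : ℤ)) (ξ ≫ A.hom) s' t' hst
    obtain ⟨σ, hσ⟩ := htr a ((hpt a).mpr haN)
    refine ⟨σ, Subtype.ext ?_⟩
    change s0 ≫ σ.hom.left = t0
    rw [hσ]
    exact congr($(hat).left)
  · intro θ
    let θ0 : A.left ⟶ A.left := θ.hom.left
    have h1 : θ0 ≫ ((𝟙 A) ^ (n : ℤ)).left = ((𝟙 A) ^ (n : ℤ)).left :=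
      MorphismProperty.Over.w θ.hom
    have hθk : θ0 ≫ A.hom = A.hom := by
      have h2 : ((𝟙 A) ^ (n : ℤ)).left ≫ A.hom = A.hom := Over.w _
      rw [← h2, ← Category.assoc, h1]
    let θ' : A ⟶ A := Over.homMk θ0 hθk
    have hθ' : θ' ≫ (𝟙 A) ^ (n : ℤ) = (𝟙 A) ^ (n : ℤ) := by
      apply Over.OverMorphism.ext
      exact h1
    obtain ⟨a, haN, hat⟩ := Groth.Agent.H75.TorsTrans.exists_tr_of_comp_eq k A A
      ((𝟙 A) ^ (n : ℤ)) θ' hθ'
    refine ⟨a, ⟨(hpt a).mpr haN, congr($(hat).left)⟩, ?_⟩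
    rintro b ⟨-, hb⟩
    apply Groth.Agent.H75.TransAut.tr_injective
    apply Over.OverMorphism.ext
    have h3 : (Groth.Agent.H75.TransAut.tr a).left = θ.hom.left := congr($(hat).left).symm
    exact hb.symm.trans h3.symm

end Groth.Agent.S3718
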