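import Groth.Statements.S3731
import Groth.Agent.H16.TruncChain

set_option autoImplicit false
universe u v
open CategoryTheory CategoryTheory.Limits
attribute [local instance] HasDerivedCategory.standard
open EtDl

namespace Groth.Agent.S3731

/-- Let A be an abelian category, k ≥ 0, and K_0 -> K_1 -> ... -> K_{2k} a chain of 2k morphisms in the
derived category of A such that every K_i has H^p(K_i) = 0 for p outside [0, k] and every morphism
K_i -> K_{i+1} induces the zero map on H^p for all p < k. Let π : K_0 -> H^k(K_0)[-k] be the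
morphism to the top cohomology object placed in degree k that induces the identity on H^k. Then the
composite K_0 -> K_{2k} factors through π. -/
theorem result {A : Type u} [Category.{v} A] [Abelian A] (k : ℕ)
    (K : ComposableArrows (DerivedCategory A) (2 * k))
    (hK : ∀ (i : ℕ) (hi : i ≤ 2 * k) (p : ℤ), p < 0 ∨ (k : ℤ) < p →
      IsZero ((DerivedCategory.homologyFunctor A p).obj (K.obj' i)))
    (hf : ∀ (i : ℕ) (hi : i < 2 * k) (p : ℤ), p < (k : ℤ) →
      (DerivedCategory.homologyFunctor A p).map (K.map' i (i + 1)) = 0)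
    (π : K.obj' 0 ⟶ (DerivedCategory.singleFunctor A (k : ℤ)).obj
      ((DerivedCategory.homologyFunctor A (k : ℤ)).obj (K.obj' 0)))
    (hπ : (DerivedCategory.homologyFunctor A (k : ℤ)).map π ≫
      (DerivedCategory.singleFunctorCompHomologyFunctorIso A (k : ℤ)).hom.app
        ((DerivedCategory.homologyFunctor A (k : ℤ)).obj (K.obj' 0)) = 𝟙 _) :
    ∃ φ : (DerivedCategory.singleFunctor A (k : ℤ)).obj
        ((DerivedCategory.homologyFunctor A (k : ℤ)).obj (K.obj' 0)) ⟶ K.obj' (2 * k),
      K.map' 0 (2 * k) = π ≫ φ := by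
  obtain ⟨F, ι, h, hT⟩ := Pretriangulated.distinguished_cocone_triangle₁ π
  have hiso : IsIso ((DerivedCategory.homologyFunctor A (k : ℤ)).map π) := by
    have h1 : (DerivedCategory.homologyFunctor A (k : ℤ)).map π =
        ((DerivedCategory.singleFunctorCompHomologyFunctorIso A (k : ℤ)).app
          ((DerivedCategory.homologyFunctor A (k : ℤ)).obj (K.obj' 0))).inv := by
      rw [← cancel_mono ((DerivedCategory.singleFunctorCompHomologyFunctorIso A (k : ℤ)).app
          ((DerivedCategory.homologyFunctor A (k : ℤ)).obj (K.obj' 0))).hom, Iso.inv_hom_id]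
      exact hπ
    rw [h1]
    infer_instance
  haveI : (K.obj' 0).IsLE (k : ℤ) :=
    (DerivedCategory.isLE_iff _ _).2 (fun p hp => hK 0 (Nat.zero_le _) p (Or.inr hp))
  have hF : F.IsLE ((k : ℤ) - 1) := Groth.Agent.H16.TruncChain.fibre_isLE ι π h hT k hiso
  have hk2 : k ≤ 2 * k := by omega
  have hGE : (K.obj' k hk2).IsGE 0 :=
    (DerivedCategory.isGE_iff _ _).2 (fun p hp => hK k hk2 p (Or.inl hp))
  have hz := Groth.Agent.H16.TruncChain.chain_zero (2 * k) k hk2 K F ι hF hGE
    (fun i hi p hp => hf i (by omega) p hp)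
  have hz' : ι ≫ K.map' 0 (2 * k) = 0 := by
    rw [K.map'_comp 0 k (2 * k) (Nat.zero_le k) hk2 le_rfl, ← Category.assoc, hz, Limits.zero_comp]
  exact Pretriangulated.Triangle.yoneda_exact₂ _ hT _ hz'

end Groth.Agent.S3731
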