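import Groth.Statements.S3791
import Groth.Agent.H19.Lambda

set_option autoImplicit false
universe v u
open CategoryTheory CategoryTheory.Limits AlgebraicGeometry
attribute [local instance] HasDerivedCategory.standard
open KRR

namespace Groth.Agent.S3791

/-- Let K be a λ-ring with positive structure P and u an ample line element (for every x, u^n x is a
positive element minus a natural number for all large n). Then for every line element v, the element
v - 1 is nilpotent. -/
theorem result (K : Type v) [CommRing K] [LambdaRing.LambdaOps K] (P : LambdaRing.PosStructure K)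
    (u : K) (hu : KRR.IsAmpleElt P u) (w : K) (hw : P.IsLine w) : IsNilpotent (w - 1) := by
  obtain ⟨hul, hamp⟩ := hu
  obtain ⟨n₀, h₀⟩ := hamp (-w)
  obtain ⟨n₁, h₁⟩ := hamp (-1)
  set n := max n₀ n₁ with hn
  obtain ⟨e, m, he, hem⟩ := h₀ n (le_max_left _ _)
  obtain ⟨e', m', he', hem'⟩ := h₁ n (le_max_right _ _)
  have hline : P.IsLine (u ^ n * w) :=
    Groth.Agent.H19.isLine_mul P (Groth.Agent.H19.isLine_pow P hul n) hw
  have hline' : P.IsLine (u ^ n) := Groth.Agent.H19.isLine_pow P hul n
  have k1 : IsNilpotent (u ^ n * w - 1) :=
    Groth.Agent.H19.isNilpotent_sub_one_of_add_pos_eq_natCast P hline he m (by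
      have : u ^ n * w = (m : K) - e := by
        have := congrArg Neg.neg hem
        simp only [mul_neg, neg_neg, neg_sub] at this
        exact this
      rw [this]; ring)
  have k2 : IsNilpotent (u ^ n - 1) :=
    Groth.Agent.H19.isNilpotent_sub_one_of_add_pos_eq_natCast P hline' he' m' (by
      have : u ^ n = (m' : K) - e' := by
        have := congrArg Neg.neg hem'
        simp only [mul_neg, mul_one, neg_neg, neg_sub] at this
        exact this
      rw [this]; ring)
  have k3 : IsNilpotent (u ^ n * (w - 1)) := by
    have : u ^ n * (w - 1) = (u ^ n * w - 1) - (u ^ n - 1) := by ring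
    rw [this]
    exact (Commute.all _ _).isNilpotent_sub k1 k2
  obtain ⟨b, hb⟩ := (Groth.Agent.H19.isUnit_of_isLine P hline').exists_left_inv
  have : w - 1 = b * (u ^ n * (w - 1)) := by rw [← mul_assoc, hb, one_mul]
  rw [this]
  exact (Commute.all _ _).isNilpotent_mul_left k3

end Groth.Agent.S3791
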