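import Groth.Statements.S3795
import Groth.Agent.S3292
import Groth.Agent.S3285

set_option autoImplicit false
universe v u
open CategoryTheory CategoryTheory.Limits AlgebraicGeometry
attribute [local instance] HasDerivedCategory.standard
open KRR

namespace Groth.Agent.S3795

/-- Let K be a λ-ring with positive structure having the splitting property, j ≥ 2, n ≥ 0 and x ∈ K. If
ψ^j(x) - j^n x lies in ℚF^{n+1} (some positive multiple lies in F^{n+1}, γ-filtration), then x lies
in ℚF^n (some positive multiple of x lies in F^n). -/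
theorem result (K : Type v) [CommRing K] [LambdaRing.LambdaOps K] (P : LambdaRing.PosStructure K) (hK : LambdaRing.HasSplitting K P) (j : ℕ) (hj : 2 ≤ j) (n : ℕ) (x : K)
    (hx : ∃ N : ℕ, 1 ≤ N ∧ (N : K) * (LambdaRing.adams P j x - (j : K) ^ n * x) ∈ LambdaRing.gammaFiltration P (n + 1)) :
    ∃ N : ℕ, 1 ≤ N ∧ (N : K) * x ∈ LambdaRing.gammaFiltration P n := by
  obtain ⟨N, hN, hx⟩ := hx
  obtain ⟨f, hf⟩ := Groth.Agent.S3285.result K P hK j
  have hanti : ∀ a b : ℕ, a ≤ b → LambdaRing.gammaFiltration P b ≤ LambdaRing.gammaFiltration P a :=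
    fun a b hab => Groth.Agent.H17.gammaFiltration_antitone P hab
  have key : ∀ m : ℕ, m ≤ n → ∃ M : ℕ, 1 ≤ M ∧ (M : K) * x ∈ LambdaRing.gammaFiltration P m := by
    intro m
    induction m with
    | zero =>
      intro _
      exact ⟨1, le_rfl, by simp [LambdaRing.gammaFiltration]⟩
    | succ m ih =>
      intro hm
      obtain ⟨M, hM, hMx⟩ := ih (by omega)
      have h1 := Groth.Agent.S3292.result K P hK j (by omega) m _ hMx
      have hψ : LambdaRing.adams P j ((M : K) * x) = (M : K) * LambdaRing.adams P j x := by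
        rw [← hf, map_mul, map_natCast, hf]
      have h2 : (M : K) * ((N : K) * (LambdaRing.adams P j x - (j : K) ^ n * x)) ∈
          LambdaRing.gammaFiltration P (m + 1) := by
        rw [← nsmul_eq_mul]
        exact AddSubgroup.nsmul_mem _ (hanti _ _ (by omega) hx) M
      have h3 : (N : K) * (LambdaRing.adams P j ((M : K) * x) - (j : K) ^ m * ((M : K) * x)) ∈
          LambdaRing.gammaFiltration P (m + 1) := by
        rw [← nsmul_eq_mul]
        exact AddSubgroup.nsmul_mem _ h1 N
      have hpow : j ^ m < j ^ n := Nat.pow_lt_pow_right (by omega) (by omega)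
      obtain ⟨c, hc⟩ : ∃ c : ℕ, j ^ n = j ^ m + c := ⟨j ^ n - j ^ m, by omega⟩
      have hc1 : 1 ≤ c := by omega
      refine ⟨N * c * M, Nat.mul_pos (Nat.mul_pos (by omega) hc1) (by omega), ?_⟩
      have hcK : (j : K) ^ n = (j : K) ^ m + (c : K) := by exact_mod_cast congrArg (Nat.cast (R := K)) hc
      have e : ((N * c * M : ℕ) : K) * x =
          (N : K) * (LambdaRing.adams P j ((M : K) * x) - (j : K) ^ m * ((M : K) * x)) -
          (M : K) * ((N : K) * (LambdaRing.adams P j x - (j : K) ^ n * x)) := by
        rw [hψ, hcK]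
        push_cast
        ring
      rw [e]
      exact sub_mem h3 h2
  exact key n le_rfl

end Groth.Agent.S3795
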