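import Groth.Statements.S3808
import Groth.Agent.H19.PPBasic
import Mathlib.LinearAlgebra.TensorProduct.Quotient
import Mathlib.RingTheory.Localization.BaseChange

set_option autoImplicit false
universe u
open scoped TensorProduct
open PP16

namespace Groth.Agent.S3808

/-- Let A → B be a ring map, R a multiplicative subset of A, S one of B containing the image of R, and
A' = R⁻¹A, B' = S⁻¹B with the induced map A' → B'. Then the canonical map P^n_{B'/A} → P^n_{B'/A'}
is bijective. -/
theorem result (n : ℕ) (A B A' B' : Type u) [CommRing A] [CommRing B] [Algebra A B]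
    [CommRing A'] [CommRing B'] [Algebra A A'] [Algebra B B'] [Algebra A' B'] [Algebra A B']
    [IsScalarTower A A' B'] [IsScalarTower A B B'] (R : Submonoid A) (S : Submonoid B) [IsLocalization R A']
    [IsLocalization S B'] (hRS : ∀ r ∈ R, algebraMap A B r ∈ S) :
    Function.Bijective (PP16.map n A B' A' B') := by
  have hφm : ∀ x : B' ⊗[A] B', PP16.tensorMap A B' A' B' x =
      TensorProduct.mapOfCompatibleSMul A' A A' B' B' x := by
    intro x
    induction x using TensorProduct.induction_on with
    | zero => simp
    | tmul c c' => rw [PP16.tensorMap_tmul]; rfl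
    | add x y hx hy => rw [map_add, map_add, hx, hy]
  have hφ : Function.Surjective (PP16.tensorMap A B' A' B').toRingHom := by
    intro y
    obtain ⟨x, hx⟩ := TensorProduct.mapOfCompatibleSMul_surjective A' A A' B' B' y
    exact ⟨x, (hφm x).trans hx⟩
  have hcomp : TensorProduct.CompatibleSMul A A' B' B' :=
    IsLocalization.tensorProduct_compatibleSMul R A' B' B'
  have hk : RingHom.ker (PP16.tensorMap A B' A' B').toRingHom = ⊥ := by
    rw [eq_bot_iff]
    intro x hx
    have hx' : x ∈ LinearMap.ker (TensorProduct.mapOfCompatibleSMul A' A A' B' B') := by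
      rw [LinearMap.mem_ker, ← hφm]
      exact hx
    rw [TensorProduct.AlgebraTensorModule.ker_mapOfCompatibleSMul] at hx'
    have hle : Submodule.span A' {x | ∃ (a : A') (m : B') (k : B'),
        (a • m) ⊗ₜ[A] k - m ⊗ₜ[A] (a • k) = x} ≤ ⊥ := by
      rw [Submodule.span_le]
      rintro _ ⟨a, m, k, rfl⟩
      rw [TensorProduct.smul_tmul, sub_self]
      exact Submodule.zero_mem _
    exact hle hx'
  have hI := Groth.Agent.H19.ideal_map_tensorMap_of_surjective A B' A' B'
    (fun c => ⟨c, rfl⟩)
  have key := Groth.Agent.H19.quotPow_surjective_ker (PP16.tensorMap A B' A' B').toRingHom hφ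
    (KaehlerDifferential.ideal A B') (KaehlerDifferential.ideal A' B') hI (n + 1)
    (PP16.map n A B' A' B').toRingHom (fun x => PP16.map_mk n A B' A' B' x)
  refine ⟨?_, key.1⟩
  have h2 := key.2
  rw [hk, Ideal.map_bot] at h2
  exact (RingHom.injective_iff_ker_eq_bot _).mpr h2

end Groth.Agent.S3808
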