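import Groth.Statements.S3809
import Groth.Agent.H19.PPBasic
import Mathlib.LinearAlgebra.TensorProduct.Quotient

set_option autoImplicit false
universe u
open scoped TensorProduct
open PP16

namespace Groth.Agent.S3809

/-- Let A → B → C be ring maps. Then the canonical map P^n_{C/A} → P^n_{C/B} is surjective, and its
kernel is the ideal generated by the image, under the canonical map P^n_{B/A} → P^n_{C/A}, of the
augmentation ideal of P^n_{B/A}. -/
theorem result (n : ℕ) (A B C : Type u) [CommRing A] [CommRing B] [CommRing C]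
    [Algebra A B] [Algebra B C] [Algebra A C] [IsScalarTower A B C] :
    Function.Surjective (PP16.map n A C B C) ∧
      RingHom.ker (PP16.map n A C B C) = (PP16.augIdeal n A B).map (PP16.map n A B A C) := by
  have hφm : ∀ x : C ⊗[A] C, PP16.tensorMap A C B C x =
      TensorProduct.mapOfCompatibleSMul B A B C C x := by
    intro x
    induction x using TensorProduct.induction_on with
    | zero => simp
    | tmul c c' => rw [PP16.tensorMap_tmul]; rfl
    | add x y hx hy => rw [map_add, map_add, hx, hy]
  have hφ : Function.Surjective (PP16.tensorMap A C B C).toRingHom := by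
    intro y
    obtain ⟨x, hx⟩ := TensorProduct.mapOfCompatibleSMul_surjective B A B C C y
    exact ⟨x, (hφm x).trans hx⟩
  have hI := Groth.Agent.H19.ideal_map_tensorMap_of_surjective A C B C
    (fun c => ⟨c, rfl⟩)
  have key := Groth.Agent.H19.quotPow_surjective_ker (PP16.tensorMap A C B C).toRingHom hφ
    (KaehlerDifferential.ideal A C) (KaehlerDifferential.ideal B C) hI (n + 1)
    (PP16.map n A C B C).toRingHom (fun x => PP16.map_mk n A C B C x)
  refine ⟨key.1, ?_⟩
  have hker : RingHom.ker (PP16.map n A C B C) = RingHom.ker (PP16.map n A C B C).toRingHom := rfl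
  rw [hker, key.2]
  -- the kernel of `C ⊗[A] C → C ⊗[B] C`
  have hk : RingHom.ker (PP16.tensorMap A C B C).toRingHom =
      (KaehlerDifferential.ideal A B).map (PP16.tensorMap A B A C).toRingHom := by
    apply le_antisymm
    · intro x hx
      have hx' : x ∈ LinearMap.ker (TensorProduct.mapOfCompatibleSMul B A B C C) := by
        rw [LinearMap.mem_ker, ← hφm]
        exact hx
      rw [TensorProduct.AlgebraTensorModule.ker_mapOfCompatibleSMul] at hx'
      have hle : Submodule.span B {x | ∃ (a : B) (m : C) (n : C),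
          (a • m) ⊗ₜ[A] n - m ⊗ₜ[A] (a • n) = x} ≤
          ((KaehlerDifferential.ideal A B).map (PP16.tensorMap A B A C).toRingHom).restrictScalars B := by
        rw [Submodule.span_le]
        rintro _ ⟨b, m, k, rfl⟩
        have h1 : (b • m) ⊗ₜ[A] k - m ⊗ₜ[A] (b • k) =
            - ((m ⊗ₜ[A] k) * (PP16.tensorMap A B A C).toRingHom
              ((1 : B) ⊗ₜ[A] b - b ⊗ₜ[A] (1 : B))) := by
          change _ = - ((m ⊗ₜ[A] k) * (PP16.tensorMap A B A C) ((1 : B) ⊗ₜ[A] b - b ⊗ₜ[A] (1 : B)))
          rw [map_sub, PP16.tensorMap_tmul, PP16.tensorMap_tmul, map_one, mul_sub,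
            Algebra.TensorProduct.tmul_mul_tmul, Algebra.TensorProduct.tmul_mul_tmul, mul_one, mul_one,
            Algebra.smul_def, Algebra.smul_def, mul_comm m, mul_comm k]
          ring
        change _ ∈ (KaehlerDifferential.ideal A B).map (PP16.tensorMap A B A C).toRingHom
        rw [h1]
        apply neg_mem
        apply Ideal.mul_mem_left
        exact Ideal.mem_map_of_mem _ (KaehlerDifferential.one_smul_sub_smul_one_mem_ideal A b)
      exact hle hx'
    · rw [← KaehlerDifferential.span_range_eq_ideal, Ideal.map_span, Ideal.span_le]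
      rintro _ ⟨_, ⟨b, rfl⟩, rfl⟩
      change PP16.tensorMap A C B C (PP16.tensorMap A B A C ((1 : B) ⊗ₜ[A] b - b ⊗ₜ[A] (1 : B))) = 0
      rw [map_sub, PP16.tensorMap_tmul, PP16.tensorMap_tmul, map_one, map_sub, PP16.tensorMap_tmul,
        PP16.tensorMap_tmul, map_one, sub_eq_zero]
      change (1 : C) ⊗ₜ[B] (algebraMap B C b) = (algebraMap B C b) ⊗ₜ[B] (1 : C)
      rw [Algebra.algebraMap_eq_smul_one, TensorProduct.smul_tmul]
  rw [hk, Ideal.map_map]
  have e2 : (PP16.augIdeal n A B).map (PP16.map n A B A C) =
      (KaehlerDifferential.ideal A B).map ((PP16.map n A B A C).toRingHom.comp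
        (Ideal.Quotient.mk (KaehlerDifferential.ideal A B ^ (n + 1)))) :=
    Ideal.map_map (I := KaehlerDifferential.ideal A B)
      (Ideal.Quotient.mk (KaehlerDifferential.ideal A B ^ (n + 1))) (PP16.map n A B A C).toRingHom
  rw [e2]
  rfl

end Groth.Agent.S3809
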