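import Groth.Statements.S3810
import Groth.Agent.H19.PPBasic

set_option autoImplicit false
universe u
open scoped TensorProduct
open PP16

namespace Groth.Agent.S3810

/-- Let B be an A-algebra, K an ideal of B and C = B/K. Then the canonical map P^n_{B/A} → P^n_{C/A} is
surjective and its kernel is the ideal generated by the image of K under the structure map B →
P^n_{B/A} together with the image of K under the principal-part map d^n (the latter is an additive
subgroup, not a B-submodule, in general). -/
theorem result (n : ℕ) (A B : Type u) [CommRing A] [CommRing B] [Algebra A B]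
    (K : Ideal B) :
    Function.Surjective (PP16.map n A B A (B ⧸ K)) ∧
      RingHom.ker (PP16.map n A B A (B ⧸ K)) =
        K.map (algebraMap B (PP16.P n A B)) ⊔ K.map (PP16.dn n A B) := by
  have htm : (PP16.tensorMap A B A (B ⧸ K) : B ⊗[A] B →ₐ[A] (B ⧸ K) ⊗[A] (B ⧸ K)) =
      Algebra.TensorProduct.map (Ideal.Quotient.mkₐ A K) (Ideal.Quotient.mkₐ A K) := by
    apply Algebra.TensorProduct.ext'
    intro b c
    rw [PP16.tensorMap_tmul, Algebra.TensorProduct.map_tmul]
    rfl
  have hsurj : Function.Surjective (algebraMap B (B ⧸ K)) := Ideal.Quotient.mk_surjective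
  have hφ : Function.Surjective (PP16.tensorMap A B A (B ⧸ K)).toRingHom := by
    rw [htm]
    exact Algebra.TensorProduct.map_surjective _ _ (Ideal.Quotient.mkₐ_surjective A K)
      (Ideal.Quotient.mkₐ_surjective A K)
  have hI := Groth.Agent.H19.ideal_map_tensorMap_of_surjective A B A (B ⧸ K) hsurj
  have key := Groth.Agent.H19.quotPow_surjective_ker (PP16.tensorMap A B A (B ⧸ K)).toRingHom hφ
    (KaehlerDifferential.ideal A B) (KaehlerDifferential.ideal A (B ⧸ K)) hI (n + 1)
    (PP16.map n A B A (B ⧸ K)).toRingHom (fun x => PP16.map_mk n A B A (B ⧸ K) x)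
  refine ⟨key.1, ?_⟩
  have hker : RingHom.ker (PP16.map n A B A (B ⧸ K)) =
      RingHom.ker (PP16.map n A B A (B ⧸ K)).toRingHom := rfl
  rw [hker, key.2]
  have hk2 : RingHom.ker (PP16.tensorMap A B A (B ⧸ K)).toRingHom =
      K.map (Algebra.TensorProduct.includeLeft : B →ₐ[A] B ⊗[A] B) ⊔
        K.map (Algebra.TensorProduct.includeRight : B →ₐ[A] B ⊗[A] B) := by
    have := Algebra.TensorProduct.map_ker (Ideal.Quotient.mkₐ A K) (Ideal.Quotient.mkₐ A K)
      (Ideal.Quotient.mkₐ_surjective A K) (Ideal.Quotient.mkₐ_surjective A K)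
    have hkK : RingHom.ker (Ideal.Quotient.mkₐ A K) = K := Ideal.Quotient.mkₐ_ker A K
    rw [hkK] at this
    rw [← this, ← htm]
    rfl
  rw [hk2, Ideal.map_sup]
  have e1 : Ideal.map (Ideal.Quotient.mk (KaehlerDifferential.ideal A B ^ (n + 1)))
      (Ideal.map (Algebra.TensorProduct.includeLeft : B →ₐ[A] B ⊗[A] B) K) =
      Ideal.map (algebraMap B (PP16.P n A B)) K :=
    Ideal.map_map (I := K) (Algebra.TensorProduct.includeLeft : B →ₐ[A] B ⊗[A] B).toRingHom
      (Ideal.Quotient.mk (KaehlerDifferential.ideal A B ^ (n + 1)))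
  have e2 : Ideal.map (Ideal.Quotient.mk (KaehlerDifferential.ideal A B ^ (n + 1)))
      (Ideal.map (Algebra.TensorProduct.includeRight : B →ₐ[A] B ⊗[A] B) K) =
      Ideal.map (PP16.dn n A B) K :=
    Ideal.map_map (I := K) (Algebra.TensorProduct.includeRight : B →ₐ[A] B ⊗[A] B).toRingHom
      (Ideal.Quotient.mk (KaehlerDifferential.ideal A B ^ (n + 1)))
  rw [e1, e2]

end Groth.Agent.S3810
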