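import Groth.Statements.S3811
import Groth.Agent.H19.PPBasic

set_option autoImplicit false
universe u
open scoped TensorProduct
open PP16

namespace Groth.Agent.S3811

/-- Let B be an A-algebra with an A-algebra retraction g : B → A, and K the kernel of g. The composite
of d^n : B → P^n_{B/A} with the projection P^n_{B/A} → P^n_{B/A} / K P^n_{B/A} (base change of
P^n_{B/A} along g) is surjective with kernel K^(n+1); thus P^n_{B/A} ⊗_B A is identified with
B/K^(n+1), the class of d^n t corresponding to the class of t. -/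
theorem result (n : ℕ) (A B : Type u) [CommRing A] [CommRing B] [Algebra A B]
    (g : B →ₐ[A] A) :
    Function.Surjective ((Ideal.Quotient.mk ((RingHom.ker g).map (algebraMap B (PP16.P n A B)))).comp
        (PP16.dn n A B).toRingHom) ∧
      RingHom.ker ((Ideal.Quotient.mk ((RingHom.ker g).map (algebraMap B (PP16.P n A B)))).comp
        (PP16.dn n A B).toRingHom) = RingHom.ker g ^ (n + 1) := by
  have hg : Function.Surjective g := fun a => ⟨algebraMap A B a, g.commutes a⟩
  -- the map `b ⊗ c ↦ g(b) c`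
  let φ : B ⊗[A] B →ₐ[A] B :=
    (Algebra.TensorProduct.lid A B : A ⊗[A] B →ₐ[A] B).comp
      (Algebra.TensorProduct.map g (AlgHom.id A B))
  have hφt : ∀ b c : B, φ (b ⊗ₜ[A] c) = algebraMap A B (g b) * c := by
    intro b c
    simp [φ, Algebra.smul_def]
  have hφsurj : Function.Surjective φ.toRingHom := by
    intro c
    refine ⟨(1 : B) ⊗ₜ[A] c, ?_⟩
    change φ ((1 : B) ⊗ₜ[A] c) = c
    rw [hφt, map_one, map_one, one_mul]
  have hφker : RingHom.ker φ.toRingHom =
      (RingHom.ker g).map (Algebra.TensorProduct.includeLeft : B →ₐ[A] B ⊗[A] B) := by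
    rw [← Algebra.TensorProduct.rTensor_ker (C := B) g hg]
    ext x
    simp only [RingHom.mem_ker]
    change (Algebra.TensorProduct.lid A B) (Algebra.TensorProduct.map g (AlgHom.id A B) x) = 0 ↔
      Algebra.TensorProduct.map g (AlgHom.id A B) x = 0
    exact (Algebra.TensorProduct.lid A B).injective.eq_iff' (map_zero _)
  have hI : (KaehlerDifferential.ideal A B).map φ.toRingHom = RingHom.ker g := by
    apply le_antisymm
    · rw [← KaehlerDifferential.span_range_eq_ideal, Ideal.map_span, Ideal.span_le]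
      rintro _ ⟨_, ⟨b, rfl⟩, rfl⟩
      change φ ((1 : B) ⊗ₜ[A] b - b ⊗ₜ[A] (1 : B)) ∈ RingHom.ker g
      rw [map_sub, hφt, hφt, map_one, map_one, one_mul, mul_one, RingHom.mem_ker, map_sub,
        AlgHom.commutes]
      simp
    · intro k hk
      have h1 : k = φ.toRingHom ((1 : B) ⊗ₜ[A] k - k ⊗ₜ[A] (1 : B)) := by
        change k = φ ((1 : B) ⊗ₜ[A] k - k ⊗ₜ[A] (1 : B))
        rw [map_sub, hφt, hφt, map_one, map_one, one_mul, mul_one, RingHom.mem_ker.mp hk, map_zero,
          sub_zero]
      rw [h1]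
      exact Ideal.mem_map_of_mem _ (KaehlerDifferential.one_smul_sub_smul_one_mem_ideal A k)
  -- the induced map on quotients
  have hle : KaehlerDifferential.ideal A B ^ (n + 1) ≤ (RingHom.ker g ^ (n + 1)).comap φ.toRingHom := by
    rw [← Ideal.map_le_iff_le_comap, Ideal.map_pow, hI]
  let ψ : PP16.P n A B →+* B ⧸ RingHom.ker g ^ (n + 1) :=
    Ideal.quotientMap (RingHom.ker g ^ (n + 1)) φ.toRingHom hle
  have hψ : ∀ x : B ⊗[A] B, ψ (Ideal.Quotient.mk _ x) = Ideal.Quotient.mk _ (φ.toRingHom x) :=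
    fun x => Ideal.quotientMap_mk
  have key := Groth.Agent.H19.quotPow_surjective_ker φ.toRingHom hφsurj
    (KaehlerDifferential.ideal A B) (RingHom.ker g) hI (n + 1) ψ hψ
  have hkerψ : RingHom.ker ψ = (RingHom.ker g).map (algebraMap B (PP16.P n A B)) := by
    rw [key.2, hφker]
    exact Ideal.map_map (I := RingHom.ker g)
      (Algebra.TensorProduct.includeLeft : B →ₐ[A] B ⊗[A] B).toRingHom
      (Ideal.Quotient.mk (KaehlerDifferential.ideal A B ^ (n + 1)))
  have hψd : ∀ c : B, ψ (PP16.dn n A B c) = Ideal.Quotient.mk _ c := by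
    intro c
    change ψ (Ideal.Quotient.mk _ ((1 : B) ⊗ₜ[A] c)) = _
    rw [hψ]
    change Ideal.Quotient.mk _ (φ ((1 : B) ⊗ₜ[A] c)) = _
    rw [hφt, map_one, map_one, one_mul]
  constructor
  · intro y
    obtain ⟨p, rfl⟩ := Ideal.Quotient.mk_surjective y
    obtain ⟨c, hc⟩ := Ideal.Quotient.mk_surjective (ψ p)
    refine ⟨c, ?_⟩
    change Ideal.Quotient.mk _ (PP16.dn n A B c) = Ideal.Quotient.mk _ p
    rw [Ideal.Quotient.eq, ← hkerψ, RingHom.mem_ker, map_sub, hψd, hc, sub_self]
  · ext c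
    rw [RingHom.mem_ker]
    change Ideal.Quotient.mk _ (PP16.dn n A B c) = 0 ↔ _
    rw [Ideal.Quotient.eq_zero_iff_mem, ← hkerψ, RingHom.mem_ker, hψd, Ideal.Quotient.eq_zero_iff_mem]

end Groth.Agent.S3811
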