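import Groth.Statements.S3819
import Groth.Agent.H94.DiffSmoothQ

set_option autoImplicit false
universe u
open scoped TensorProduct
open PP16

namespace Groth.Agent.S3819

/-- Let B be an A-algebra containing the rational numbers (a scheme of characteristic 0) whose module of
differentials over A is a free B-module, of any rank. Then B is differentially smooth over A. -/
theorem result (A B : Type u) [CommRing A] [CommRing B] [Algebra A B] [Algebra ℚ B]
    (hΩ : Module.Free B (KaehlerDifferential A B)) : PP16.IsDiffSmooth A B := by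
  refine ⟨Module.Projective.of_free, ?_⟩
  intro ι _
  let b := Module.Free.chooseBasis B (KaehlerDifferential A B)
  have hq : Function.Surjective (H94.DiffSmoothQ.qq A B) :=
    KaehlerDifferential.fromIdeal_surjective A B
  have hq0 : ∀ x, H94.DiffSmoothQ.qq A B x = 0 ↔
      (x : B ⊗[A] B) ∈ KaehlerDifferential.ideal A B ^ 2 :=
    fun x => Ideal.toCotangent_eq_zero _ x
  obtain ⟨φ, hφ⟩ := H91.SymGr.exists_phi (ι := ι) (KaehlerDifferential.ideal A B)
    (H94.DiffSmoothQ.qq A B) hq hq0
  refine ⟨φ, ?_, H94.DiffSmoothQ.phi_bijective_of_free b φ hφ⟩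
  intro c
  have := hφ (fun i => ⟨(1 : B) ⊗ₜ[A] c i - c i ⊗ₜ[A] (1 : B),
    KaehlerDifferential.one_smul_sub_smul_one_mem_ideal A (c i)⟩)
  exact this

end Groth.Agent.S3819
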