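import Groth.Statements.S3828
import Groth.Agent.H19.QuasiRegInter
import Mathlib.RingTheory.Filtration

set_option autoImplicit false
universe u
open QReg16

namespace Groth.Agent.S3828

/-- Let A be a Noetherian ring, J an ideal of A, and f_1, …, f_r elements of A forming a weakly regular
sequence on A/J (each f_i a nonzerodivisor on A/(J + (f_1, …, f_{i−1}))) and generating an ideal R
contained in the Jacobson radical of A; put Q = J + R. Then J ∩ Rⁿ = J·Rⁿ for every n > 0, and J ∩
Q² = J·Q (equivalently, the canonical map J/JQ → Q/Q² is injective). -/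
theorem result {A : Type u} [CommRing A] [IsNoetherianRing A] (J : Ideal A)
    {r : ℕ} (f : Fin r → A) (hf : RingTheory.Sequence.IsWeaklyRegular (A ⧸ J) (List.ofFn f))
    (hrad : Ideal.span (Set.range f) ≤ (⊥ : Ideal A).jacobson) :
    (∀ n : ℕ, 0 < n → J ⊓ Ideal.span (Set.range f) ^ n = J * Ideal.span (Set.range f) ^ n) ∧
      J ⊓ (J ⊔ Ideal.span (Set.range f)) ^ 2 = J * (J ⊔ Ideal.span (Set.range f)) := by
  set R := Ideal.span (Set.range f) with hR
  -- Krull: ideals are closed for the `R`-adic topology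
  have krull : ∀ (L : Ideal A) (x : A), (∀ N : ℕ, x ∈ L ⊔ R ^ N) → x ∈ L := by
    intro L x hx
    have h1 : (Submodule.Quotient.mk x : A ⧸ L) ∈ (⨅ i : ℕ, R ^ i • ⊤ : Submodule A (A ⧸ L)) := by
      rw [Submodule.mem_iInf]
      intro N
      obtain ⟨l, hl, t, ht, hlt⟩ := Submodule.mem_sup.mp (hx N)
      have h2 : (Submodule.Quotient.mk x : A ⧸ L) = t • (Submodule.Quotient.mk 1 : A ⧸ L) := by
        rw [← Submodule.Quotient.mk_smul, smul_eq_mul, mul_one, ← hlt, Submodule.Quotient.mk_add,
          (Submodule.Quotient.mk_eq_zero L).mpr hl, zero_add]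
      rw [h2]
      exact Submodule.smul_mem_smul ht Submodule.mem_top
    rw [Ideal.iInf_pow_smul_eq_bot_of_le_jacobson R hrad, Submodule.mem_bot] at h1
    exact (Submodule.Quotient.mk_eq_zero L).mp h1
  have partA : ∀ n : ℕ, 0 < n → J ⊓ R ^ n = J * R ^ n := by
    intro n _
    apply le_antisymm
    · intro x hx
      apply krull
      intro N
      rcases le_total n N with hnN | hNn
      · rw [Groth.Agent.H19.QReg.inter_pow_eq J f hf n N hnN] at hx
        have hle : J * R ^ n ⊔ J ⊓ R ^ N ≤ J * R ^ n ⊔ R ^ N :=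
          sup_le le_sup_left (le_sup_of_le_right inf_le_right)
        exact hle hx
      · exact Ideal.mem_sup_right (Ideal.pow_le_pow_right hNn (Submodule.mem_inf.mp hx).2)
    · exact Ideal.mul_le_inf
  refine ⟨partA, ?_⟩
  apply le_antisymm
  · intro x hx
    obtain ⟨hxJ, hxQ⟩ := Submodule.mem_inf.mp hx
    have hQ2 : (J ⊔ R) ^ 2 ≤ J * (J ⊔ R) ⊔ R ^ 2 := by
      rw [pow_two, Ideal.sup_mul, pow_two]
      refine sup_le le_sup_left ?_
      rw [Ideal.mul_sup]
      refine sup_le ?_ le_sup_right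
      rw [mul_comm]
      exact le_sup_of_le_left (Ideal.mul_mono_right le_sup_right)
    obtain ⟨y, hy, z, hz, hyz⟩ := Submodule.mem_sup.mp (hQ2 hxQ)
    have hyJ : y ∈ J := Ideal.mul_le_left hy
    have hzJ : z ∈ J := by
      have : z = x - y := by rw [← hyz]; ring
      rw [this]
      exact J.sub_mem hxJ hyJ
    have hz2 : z ∈ J * R ^ 2 := by
      rw [← partA 2 (by norm_num)]
      exact Submodule.mem_inf.mpr ⟨hzJ, hz⟩
    have hz3 : z ∈ J * (J ⊔ R) :=
      Ideal.mul_mono_right ((Ideal.pow_le_self (by norm_num)).trans le_sup_right) hz2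
    rw [← hyz]
    exact Ideal.add_mem _ hy hz3
  · refine le_inf Ideal.mul_le_left ?_
    rw [pow_two]
    exact Ideal.mul_mono_left le_sup_left

end Groth.Agent.S3828
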