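import Groth.Statements.S3835
import Groth.Agent.H90.SchDenseDescent
import Groth.Agent.H25.SchDomOpen

set_option autoImplicit false
universe u
open CategoryTheory CategoryTheory.Limits AlgebraicGeometry TopologicalSpace
open Rat20

namespace Groth.Agent.S3835

/-- Let Y be separated over S, X an S-scheme with a schematically dense open subscheme U, h : U → Y an
S-morphism (a representative of a pseudo-morphism from X to Y over S), and f : X' → X a flat
morphism locally of finite presentation, X' being regarded as an S-scheme through f. Let x' be a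
point of X' with image x = f(x'). If there is an S-morphism from an open neighbourhood V' of x' to Y
agreeing with h ∘ f on f⁻¹(U) ∩ V' (the pulled-back pseudo-morphism is defined at x'), then there is
an S-morphism from an open neighbourhood V of x to Y agreeing with h on U ∩ V (the pseudo-morphism
is defined at x). -/
theorem result {X X' Y S : Scheme.{u}} (pX : X ⟶ S) (pY : Y ⟶ S)
    [IsSeparated pY] (U : X.Opens) (hU : CInt.IsSchematicallyDense U) (h : (U : Scheme.{u}) ⟶ Y)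
    (hh : h ≫ pY = U.ι ≫ pX) (f : X' ⟶ X) [Flat f] [LocallyOfFinitePresentation f] (x' : ↥X')
    (V' : X'.Opens) (hx' : x' ∈ V') (v' : (V' : Scheme.{u}) ⟶ Y) (hv'S : v' ≫ pY = V'.ι ≫ f ≫ pX)
    (hv' : X'.homOfLE (inf_le_right : f ⁻¹ᵁ U ⊓ V' ≤ V') ≫ v' =
      X'.homOfLE (inf_le_left : f ⁻¹ᵁ U ⊓ V' ≤ f ⁻¹ᵁ U) ≫ (f ∣_ U) ≫ h) :
    ∃ (V : X.Opens) (v : (V : Scheme.{u}) ⟶ Y), f x' ∈ V ∧ v ≫ pY = V.ι ≫ pX ∧
      X.homOfLE (inf_le_right : U ⊓ V ≤ V) ≫ v = X.homOfLE (inf_le_left : U ⊓ V ≤ U) ≫ h := by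
  classical
  -- affine neighbourhoods
  have keyA : ∃ A : X.Opens, IsAffineOpen A ∧ f x' ∈ A := by
    obtain ⟨A, hA, hxA, -⟩ := TopologicalSpace.Opens.isBasis_iff_nbhd.mp X.isBasis_affineOpens
      (TopologicalSpace.Opens.mem_top (f x'))
    exact ⟨A, hA, hxA⟩
  obtain ⟨A, hA, hxA⟩ := keyA
  have keyA' : ∃ A' : X'.Opens, IsAffineOpen A' ∧ x' ∈ A' ∧ A' ≤ V' ⊓ f ⁻¹ᵁ A := by
    obtain ⟨A', hA', hx'A', hA'le⟩ := TopologicalSpace.Opens.isBasis_iff_nbhd.mp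
      X'.isBasis_affineOpens (show x' ∈ V' ⊓ f ⁻¹ᵁ A from ⟨hx', hxA⟩)
    exact ⟨A', hA', hx'A', hA'le⟩
  obtain ⟨A', hA', hx'A', hA'le⟩ := keyA'
  have hA'V' : A' ≤ V' := hA'le.trans inf_le_left
  have hA'A : A' ≤ f ⁻¹ᵁ A := hA'le.trans inf_le_right
  have : IsAffine A'.toScheme := hA'
  have : IsAffine A.toScheme := hA
  -- the flat lfp morphism `A' ⟶ X` and its open image
  let fA : A'.toScheme ⟶ X := A'.ι ≫ f
  have : Flat fA := inferInstanceAs (Flat (A'.ι ≫ f))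
  have : LocallyOfFinitePresentation fA :=
    inferInstanceAs (LocallyOfFinitePresentation (A'.ι ≫ f))
  let W : X.Opens := ⟨Set.range fA, fA.isOpenMap.isOpen_range⟩
  have hWA : W ≤ A := by
    rintro _ ⟨a, rfl⟩
    exact hA'A a.2
  have hrange : Set.range fA ⊆ Set.range W.ι := by
    rw [Scheme.Opens.range_ι]
    exact subset_rfl
  let f' : A'.toScheme ⟶ W.toScheme := IsOpenImmersion.lift W.ι fA hrange
  have hf' : f' ≫ W.ι = fA := IsOpenImmersion.lift_fac _ _ _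
  have hfl : Flat f' := by
    have h1 : Flat (f' ≫ W.ι) := by rw [hf']; infer_instance
    exact MorphismProperty.of_postcomp (W := @Flat) (W' := @IsOpenImmersion) f' W.ι
      inferInstance h1
  have hlfp : LocallyOfFinitePresentation f' := by
    have h1 : LocallyOfFinitePresentation (f' ≫ W.ι) := by rw [hf']; infer_instance
    exact MorphismProperty.of_postcomp (W := @LocallyOfFinitePresentation)
      (W' := @IsOpenImmersion) f' W.ι inferInstance h1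
  have hsurj : Surjective f' := by
    refine ⟨fun w => ?_⟩
    obtain ⟨a, ha⟩ := w.2
    refine ⟨a, ?_⟩
    apply W.ι.injective
    rw [← Scheme.Hom.comp_apply, hf']
    exact ha
  have hqc : QuasiCompact f' := by
    have : QuasiCompact (f' ≫ X.homOfLE hWA) := inferInstance
    exact QuasiCompact.of_comp f' (X.homOfLE hWA)
  -- the data on `W`
  let UW : W.toScheme.Opens := W.ι ⁻¹ᵁ U
  have hUW : CInt.IsSchematicallyDense ((pullback.fst f' f') ⁻¹ᵁ (f' ⁻¹ᵁ UW)) := by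
    have : Flat (pullback.fst f' f' ≫ f' ≫ W.ι) := inferInstance
    have : LocallyOfFinitePresentation (pullback.fst f' f' ≫ f' ≫ W.ι) := inferInstance
    exact Groth.Agent.H25.SchDomOpen.isSchematicallyDense_preimage
      (pullback.fst f' f' ≫ f' ≫ W.ι) U hU
  let g : UW.toScheme ⟶ Y := (W.ι ∣_ U) ≫ h
  have hg : g ≫ pY = UW.ι ≫ W.ι ≫ pX := by
    change ((W.ι ∣_ U) ≫ h) ≫ pY = _
    rw [Category.assoc, hh, ← Category.assoc, morphismRestrict_ι, Category.assoc]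
  let g' : A'.toScheme ⟶ Y := X'.homOfLE hA'V' ≫ v'
  have hg'S : g' ≫ pY = f' ≫ W.ι ≫ pX := by
    change (X'.homOfLE hA'V' ≫ v') ≫ pY = _
    rw [Category.assoc, hv'S, ← Category.assoc, Scheme.homOfLE_ι, ← Category.assoc f', hf',
      Category.assoc]
  -- compatibility on the preimage of `U`
  let D : A'.toScheme.Opens := f' ⁻¹ᵁ UW
  have hDrange : Set.range (D.ι ≫ A'.ι) ⊆ Set.range (f ⁻¹ᵁ U ⊓ V').ι := by
    rw [Scheme.Opens.range_ι]
    rintro _ ⟨z, rfl⟩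
    refine ⟨?_, ?_⟩
    · change f ((D.ι ≫ A'.ι) z) ∈ U
      have h1 : f ((D.ι ≫ A'.ι) z) = W.ι (f' (D.ι z)) := by
        rw [← Scheme.Hom.comp_apply, ← Scheme.Hom.comp_apply, hf', ← Scheme.Hom.comp_apply,
          Category.assoc]
      rw [h1]
      exact z.2
    · rw [Scheme.Hom.comp_apply]
      exact hA'V' (D.ι z).2
  let d : D.toScheme ⟶ (f ⁻¹ᵁ U ⊓ V').toScheme :=
    IsOpenImmersion.lift (f ⁻¹ᵁ U ⊓ V').ι (D.ι ≫ A'.ι) hDrange
  have hd : d ≫ (f ⁻¹ᵁ U ⊓ V').ι = D.ι ≫ A'.ι := IsOpenImmersion.lift_fac _ _ _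
  have e1 : D.ι ≫ X'.homOfLE hA'V' =
      d ≫ X'.homOfLE (inf_le_right : f ⁻¹ᵁ U ⊓ V' ≤ V') := by
    rw [← cancel_mono V'.ι, Category.assoc, Category.assoc, Scheme.homOfLE_ι, Scheme.homOfLE_ι, hd]
  have e2 : (f' ∣_ UW) ≫ (W.ι ∣_ U) =
      d ≫ X'.homOfLE (inf_le_left : f ⁻¹ᵁ U ⊓ V' ≤ f ⁻¹ᵁ U) ≫ (f ∣_ U) := by
    rw [← cancel_mono U.ι]
    simp only [Category.assoc]
    rw [morphismRestrict_ι, morphismRestrict_ι, ← Category.assoc (f' ∣_ UW), morphismRestrict_ι,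
      Category.assoc, hf', ← Category.assoc (X'.homOfLE _), Scheme.homOfLE_ι, ← Category.assoc d,
      hd, Category.assoc]
  have hg' : (f' ⁻¹ᵁ UW).ι ≫ g' = (f' ∣_ UW) ≫ g := by
    change D.ι ≫ X'.homOfLE hA'V' ≫ v' = (f' ∣_ UW) ≫ (W.ι ∣_ U) ≫ h
    rw [← Category.assoc, e1, Category.assoc, hv', ← Category.assoc (f' ∣_ UW), e2]
    simp only [Category.assoc]
  obtain ⟨hW, hW1, hW2⟩ := Groth.Agent.H90.extends_of_extends_after_faithfullyFlat
    (W.ι ≫ pX) pY f' UW hUW g hg g' hg'S hg'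
  refine ⟨W, hW, ⟨⟨x', hx'A'⟩, rfl⟩, hW2, ?_⟩
  -- agreement on `U ⊓ W`
  have hErange : Set.range (U ⊓ W).ι ⊆ Set.range (UW.ι ≫ W.ι) := by
    rw [Scheme.Opens.range_ι]
    rintro z ⟨hzU, hzW⟩
    exact ⟨⟨⟨z, hzW⟩, hzU⟩, rfl⟩
  let e' : (U ⊓ W).toScheme ⟶ UW.toScheme :=
    IsOpenImmersion.lift (UW.ι ≫ W.ι) (U ⊓ W).ι hErange
  have he' : e' ≫ UW.ι ≫ W.ι = (U ⊓ W).ι := IsOpenImmersion.lift_fac _ _ _
  have e3 : X.homOfLE (inf_le_right : U ⊓ W ≤ W) = e' ≫ UW.ι := by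
    rw [← cancel_mono W.ι, Scheme.homOfLE_ι, Category.assoc, he']
  have e4 : X.homOfLE (inf_le_left : U ⊓ W ≤ U) = e' ≫ (W.ι ∣_ U) := by
    rw [← cancel_mono U.ι, Scheme.homOfLE_ι, Category.assoc, morphismRestrict_ι, he']
  rw [e3, e4, Category.assoc, hW1, Category.assoc]

end Groth.Agent.S3835
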