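import Groth.Statements.S3836
import Groth.Agent.H22.ZMTChart

set_option autoImplicit false
universe u
open CategoryTheory CategoryTheory.Limits AlgebraicGeometry TopologicalSpace
open Rat20

namespace Groth.Agent.S3836

set_option maxHeartbeats 1600000 in
theorem aux {X Y S : Scheme.{u}} (pX : X ⟶ S) (pY : Y ⟶ S)
    [LocallyOfFiniteType pY] [IsSeparated pY] (hX : ∀ y : ↥X, ∃ W : X.Opens, y ∈ W ∧ IsIntegral (W : Scheme.{u}))
    (U : X.Opens) (hU : Dense (U : Set ↥X)) (h : (U : Scheme.{u}) ⟶ Y) (hh : U.ι ≫ pX = h ≫ pY)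
    (x : ↥X) (hx : IsIntegrallyClosed (X.presheaf.stalk x))
    (K : Type u) [Field K] [Algebra ↑(X.presheaf.stalk x) K] [IsFractionRing ↑(X.presheaf.stalk x) K]
    (z : ↥(pullback pX pY)) (hz : pullback.fst pX pY z = x)
    (hzΓ : z ∈ closure (Set.range (pullback.lift U.ι h hh)))
    (hiso : ∃ W : (pullback pX pY).Opens, (W : Set ↥(pullback pX pY)) ∩ closure (Set.range (pullback.lift U.ι h hh)) ∩
      (pullback.fst pX pY) ⁻¹' {x} = {z}) :
    ∃ (V : X.Opens) (v : (V : Scheme.{u}) ⟶ Y), x ∈ V ∧ v ≫ pY = V.ι ≫ pX ∧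
      X.homOfLE (inf_le_right : U ⊓ V ≤ V) ≫ v = X.homOfLE (inf_le_left : U ⊓ V ≤ U) ≫ h := by
  classical
  -- integral neighbourhood, domain stalk, germ-injectivity
  obtain ⟨Wi, hxWi, hWi⟩ := hX x
  have hdomW : IsDomain (Wi.toScheme.presheaf.stalk ⟨x, hxWi⟩) := inferInstance
  have hiso' : IsIso (Wi.ι.stalkMap ⟨x, hxWi⟩) := inferInstance
  have hdom : IsDomain (X.presheaf.stalk x) :=
    Function.Injective.isDomain (Wi.ι.stalkMap ⟨x, hxWi⟩).hom
      ((ConcreteCategory.bijective_of_isIso (Wi.ι.stalkMap ⟨x, hxWi⟩)).1)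
  have hgi : X.IsGermInjectiveAt x :=
    inferInstanceAs (X.IsGermInjectiveAt (Wi.ι ⟨x, hxWi⟩))
  obtain ⟨W₀, hxW₀, hW₀, hinj⟩ := X.exists_germ_injective x
  have hK : Function.Injective (algebraMap (X.presheaf.stalk x) K) := IsFractionRing.injective _ _
  obtain ⟨ub₀, hub₀⟩ := H22.exists_lift_generic_of_dense U hU x hW₀ hxW₀ hinj K hK
  -- the projection and the graph section
  let q : pullback pX pY ⟶ X := pullback.fst pX pY
  let s : U.toScheme ⟶ pullback pX pY := pullback.lift U.ι h hh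
  have hs : s ≫ q = U.ι := pullback.lift_fst _ _ _
  have hs2 : s ≫ pullback.snd pX pY = h := pullback.lift_snd _ _ _
  obtain ⟨Wiso, hWiso⟩ := hiso
  have hzWiso : z ∈ Wiso := by
    have : z ∈ (Wiso : Set ↥(pullback pX pY)) ∩ closure (Set.range s) ∩ q ⁻¹' {x} := by
      rw [hWiso]; exact rfl
    exact this.1.1
  -- the generic point specializes to `z`
  have hξ : ∀ pt : Spec (CommRingCat.of K), (ub₀ ≫ s) pt ⤳ z := by
    intro pt
    rw [specializes_iff_forall_open]
    intro O hO hzO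
    have hzO' : z ∈ O ∩ (q ⁻¹ᵁ W₀ : (pullback pX pY).Opens) := ⟨hzO, by
      change q z ∈ W₀
      rw [hz]; exact hxW₀⟩
    obtain ⟨_, ⟨hwO, hwW⟩, ⟨w, rfl⟩⟩ := mem_closure_iff.mp hzΓ _
      (hO.inter (q ⁻¹ᵁ W₀ : (pullback pX pY).Opens).2) hzO'
    have hwW₀ : U.ι w ∈ W₀ := by
      have : q (s w) ∈ W₀ := hwW
      rwa [← Scheme.Hom.comp_apply, hs] at this
    have h1 : ub₀ pt ⤳ w := by
      refine (U.ι.isOpenEmbedding.isInducing.specializes_iff).mp ?_
      rw [← Scheme.Hom.comp_apply, hub₀]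
      exact H22.specializes_of_injective_germ hW₀ x hxW₀ hinj K hK pt _ hwW₀
    have h2 : s (ub₀ pt) ⤳ s w := h1.map s.continuous
    rw [Scheme.Hom.comp_apply]
    exact h2.mem_open hO hwO
  -- chart
  have hzW : z ∈ q ⁻¹ᵁ W₀ := by
    change q z ∈ W₀
    rw [hz]
    exact hxW₀
  obtain ⟨_, ⟨V, hV, rfl⟩, hzV, hVW'⟩ :=
    (pullback pX pY).isBasis_affineOpens.exists_subset_of_mem_open hzW (q ⁻¹ᵁ W₀).2
  have hVW : V ≤ q ⁻¹ᵁ W₀ := hVW'
  replace hV : IsAffineOpen V := hV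
  obtain ⟨c, hc⟩ := H22.exists_specMap_fromSpec_eq hV (ub₀ ≫ s) (by
    rintro _ ⟨pt, rfl⟩
    exact (hξ pt).mem_open V.2 hzV)
  have hcomm := H22.appLE_comp_eq_germ_comp q U s hs x hW₀ hxW₀ K ub₀ hub₀ hV hVW c hc
  have hker : RingHom.ker c.hom ≤ (hV.primeIdealOf ⟨z, hzV⟩).asIdeal :=
    H22.ker_le_primeIdealOf_of_specializes hV c (IsLocalRing.closedPoint K) z hzV
      (by rw [hc]; exact hξ _)
  have hi : ∀ t, c.hom t ∈ (algebraMap (X.presheaf.stalk x) K).range := by
    intro t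
    refine H22.mem_range_of_isolated_chart q x hW₀ hxW₀ K hV hVW c hcomm z hzV hz hker Wiso
      hzWiso ?_ t
    intro y hyV hyW hyx hykey
    -- `y` lies in the closure of the graph
    have hyΓ : y ∈ closure (Set.range s) := by
      let pt : Spec (CommRingCat.of K) := IsLocalRing.closedPoint K
      have h1 : Spec.map c pt ⤳ hV.primeIdealOf ⟨y, hyV⟩ := by
        refine (PrimeSpectrum.le_iff_specializes (R := Γ(pullback pX pY, V)) _ _).mp ?_
        intro a ha
        apply hykey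
        rw [RingHom.mem_ker]
        have h0 : pt.asIdeal = ⊥ :=
          (Ideal.eq_bot_or_top pt.asIdeal).resolve_right pt.isPrime.ne_top
        have ha' : c.hom a ∈ pt.asIdeal := ha
        rw [h0, Ideal.mem_bot] at ha'
        exact ha'
      have h2 : hV.fromSpec (Spec.map c pt) ⤳ y := by
        have := h1.map hV.fromSpec.continuous
        rwa [hV.fromSpec_primeIdealOf ⟨y, hyV⟩] at this
      refine h2.mem_closed isClosed_closure (subset_closure ⟨ub₀ pt, ?_⟩)
      rw [← Scheme.Hom.comp_apply, ← Scheme.Hom.comp_apply, hc]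
    have : y ∈ (Wiso : Set ↥(pullback pX pY)) ∩ closure (Set.range s) ∩ q ⁻¹' {x} :=
      ⟨⟨hyW, hyΓ⟩, hyx⟩
    rw [hWiso] at this
    exact this
  obtain ⟨ρ, hρ⟩ := H22.exists_ringHom_of_forall_mem_range hK c.hom hi
  obtain ⟨V', hxV', v, hv, hvh, -⟩ := H22.exists_extension_of_chart q U s hs x W₀ hW₀ hxW₀ hinj
    K hK ub₀ hub₀ V hV hVW (CommRingCat.ofHom ρ) (by
      rw [← hc]
      congr 2
      ext t
      exact congrFun (congrArg DFunLike.coe hρ) t)
  refine ⟨V', v ≫ pullback.snd pX pY, hxV', ?_, ?_⟩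
  · rw [Category.assoc, ← pullback.condition, ← Category.assoc]
    exact congrArg (· ≫ pX) hv
  · rw [← Category.assoc, hvh, Category.assoc, hs2]

/-- Let X be a locally integral S-scheme, Y an S-scheme locally of finite type and separated over S, and
h : U → Y an S-morphism on a dense open subset (a rational S-map ω). Let Γ be the closure in X ×_S Y
of the graph of h and p : Γ → X the projection. If x is a point of X whose local ring is integrally
closed and the fibre p⁻¹(x) contains an isolated point, then ω is defined at x: some S-morphism from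
an open neighbourhood of x to Y agrees with h on U. -/
theorem result {X Y S : Scheme.{u}} (pX : X ⟶ S) (pY : Y ⟶ S)
    [LocallyOfFiniteType pY] [IsSeparated pY] (hX : ∀ y : ↥X, ∃ W : X.Opens, y ∈ W ∧ IsIntegral (W : Scheme.{u}))
    (U : X.Opens) (hU : Dense (U : Set ↥X)) (h : (U : Scheme.{u}) ⟶ Y) (hh : U.ι ≫ pX = h ≫ pY)
    (x : ↥X) (hx : IsIntegrallyClosed (X.presheaf.stalk x))
    (z : ↥(pullback pX pY)) (hz : pullback.fst pX pY z = x)
    (hzΓ : z ∈ closure (Set.range (pullback.lift U.ι h hh)))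
    (hiso : ∃ W : (pullback pX pY).Opens, (W : Set ↥(pullback pX pY)) ∩ closure (Set.range (pullback.lift U.ι h hh)) ∩
      (pullback.fst pX pY) ⁻¹' {x} = {z}) :
    ∃ (V : X.Opens) (v : (V : Scheme.{u}) ⟶ Y), x ∈ V ∧ v ≫ pY = V.ι ≫ pX ∧
      X.homOfLE (inf_le_right : U ⊓ V ≤ V) ≫ v = X.homOfLE (inf_le_left : U ⊓ V ≤ U) ≫ h := by
  obtain ⟨Wi, hxWi, hWi⟩ := hX x
  have hdomW : IsDomain (Wi.toScheme.presheaf.stalk ⟨x, hxWi⟩) := inferInstance
  have hiso' : IsIso (Wi.ι.stalkMap ⟨x, hxWi⟩) := inferInstance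
  have hdom : IsDomain (X.presheaf.stalk x) :=
    Function.Injective.isDomain (Wi.ι.stalkMap ⟨x, hxWi⟩).hom
      ((ConcreteCategory.bijective_of_isIso (Wi.ι.stalkMap ⟨x, hxWi⟩)).1)
  exact aux pX pY hX U hU h hh x hx (FractionRing ↑(X.presheaf.stalk x)) z hz hzΓ hiso

end Groth.Agent.S3836
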