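import Groth.Statements.S3837
import Groth.Agent.S3836
import Groth.Agent.H22.RatMapPull

set_option autoImplicit false
universe u
open CategoryTheory CategoryTheory.Limits AlgebraicGeometry TopologicalSpace
open Rat20

namespace Groth.Agent.S3837

/-- Let X be a normal S-scheme (locally integral with integrally closed local rings), Y an S-scheme
locally of finite type and separated over S, h : U → Y an S-morphism on a dense open subset (a
rational S-map ω), and f : X' → X a morphism locally of finite type and universally open with X'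
reduced, so that f⁻¹(U) is dense and ω ∘ f is defined. Then for x' in X' with image x, ω is defined
at x if and only if ω ∘ f is defined at x': some S-morphism on an open neighbourhood of x agrees
with h on U if and only if some S-morphism on an open neighbourhood of x' agrees with h ∘ f on the
preimage of U. -/
theorem result {X X' Y S : Scheme.{u}} (pX : X ⟶ S) (pY : Y ⟶ S)
    [LocallyOfFiniteType pY] [IsSeparated pY] (hX : ∀ y : ↥X, ∃ W : X.Opens, y ∈ W ∧ IsIntegral (W : Scheme.{u}))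
    (hXn : ∀ y : ↥X, IsIntegrallyClosed (X.presheaf.stalk y))
    (U : X.Opens) (hU : Dense (U : Set ↥X)) (h : (U : Scheme.{u}) ⟶ Y) (hh : h ≫ pY = U.ι ≫ pX)
    (f : X' ⟶ X) [LocallyOfFiniteType f] [UniversallyOpen f] [IsReduced X'] (x' : ↥X') :
    (∃ (V : X.Opens) (v : (V : Scheme.{u}) ⟶ Y), f x' ∈ V ∧ v ≫ pY = V.ι ≫ pX ∧
        X.homOfLE (inf_le_right : U ⊓ V ≤ V) ≫ v = X.homOfLE (inf_le_left : U ⊓ V ≤ U) ≫ h) ↔
      ∃ (V' : X'.Opens) (v' : (V' : Scheme.{u}) ⟶ Y), x' ∈ V' ∧ v' ≫ pY = V'.ι ≫ f ≫ pX ∧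
        X'.homOfLE (inf_le_right : f ⁻¹ᵁ U ⊓ V' ≤ V') ≫ v' =
          X'.homOfLE (inf_le_left : f ⁻¹ᵁ U ⊓ V' ≤ f ⁻¹ᵁ U) ≫ (f ∣_ U) ≫ h := by
  classical
  constructor
  · rintro ⟨V, v, hxV, hv, hag⟩
    refine ⟨f ⁻¹ᵁ V, (f ∣_ V) ≫ v, hxV, ?_, ?_⟩
    · rw [Category.assoc, hv, ← Category.assoc, morphismRestrict_ι, Category.assoc]
    · -- restrict `f` to `U ⊓ V`
      have hle : f ⁻¹ᵁ U ⊓ f ⁻¹ᵁ V ≤ f ⁻¹ᵁ (U ⊓ V) := le_of_eq (by rfl)
      let r : ((f ⁻¹ᵁ U ⊓ f ⁻¹ᵁ V : X'.Opens) : Scheme.{u}) ⟶ ((U ⊓ V : X.Opens) : Scheme.{u}) :=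
        f.resLE (U ⊓ V) (f ⁻¹ᵁ U ⊓ f ⁻¹ᵁ V) hle
      have hA : X'.homOfLE (inf_le_right : f ⁻¹ᵁ U ⊓ f ⁻¹ᵁ V ≤ f ⁻¹ᵁ V) ≫ (f ∣_ V) =
          r ≫ X.homOfLE (inf_le_right : U ⊓ V ≤ V) := by
        rw [← cancel_mono V.ι, Category.assoc, morphismRestrict_ι, Scheme.homOfLE_ι_assoc,
          Category.assoc, Scheme.homOfLE_ι, Scheme.Hom.resLE_comp_ι]
      have hB : X'.homOfLE (inf_le_left : f ⁻¹ᵁ U ⊓ f ⁻¹ᵁ V ≤ f ⁻¹ᵁ U) ≫ (f ∣_ U) =
          r ≫ X.homOfLE (inf_le_left : U ⊓ V ≤ U) := by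
        rw [← cancel_mono U.ι, Category.assoc, morphismRestrict_ι, Scheme.homOfLE_ι_assoc,
          Category.assoc, Scheme.homOfLE_ι, Scheme.Hom.resLE_comp_ι]
      rw [← Category.assoc, hA, Category.assoc, hag, ← Category.assoc, ← hB, Category.assoc]
  · rintro ⟨V', v', hx'V', hv', hag'⟩
    let g : (V' : Scheme.{u}) ⟶ X := V'.ι ≫ f
    let j : ((f ⁻¹ᵁ U ⊓ V' : X'.Opens) : Scheme.{u}) ⟶ (V' : Scheme.{u}) :=
      X'.homOfLE (inf_le_right : f ⁻¹ᵁ U ⊓ V' ≤ V')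
    let k : ((f ⁻¹ᵁ U ⊓ V' : X'.Opens) : Scheme.{u}) ⟶ (U : Scheme.{u}) :=
      X'.homOfLE (inf_le_left : f ⁻¹ᵁ U ⊓ V' ≤ f ⁻¹ᵁ U) ≫ (f ∣_ U)
    have hjk : j ≫ g = k ≫ U.ι := by
      change X'.homOfLE _ ≫ V'.ι ≫ f = (X'.homOfLE _ ≫ (f ∣_ U)) ≫ U.ι
      rw [Scheme.homOfLE_ι_assoc, Category.assoc, morphismRestrict_ι, Scheme.homOfLE_ι_assoc]
    have hagree : j ≫ v' = k ≫ h := by
      change X'.homOfLE _ ≫ v' = (X'.homOfLE _ ≫ (f ∣_ U)) ≫ h
      rw [hag', Category.assoc]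
    have hrange : g.base ⁻¹' (U : Set X) ⊆ Set.range j.base := by
      intro w hw
      have hw' : w.1 ∈ f ⁻¹ᵁ U ⊓ V' := ⟨hw, w.2⟩
      refine ⟨⟨w.1, hw'⟩, ?_⟩
      apply Subtype.ext
      exact Scheme.homOfLE_apply _ _
    have hv'' : g ≫ pX = v' ≫ pY := by
      rw [hv', Category.assoc]
    have hUO : UniversallyOpen g := inferInstance
    let x'' : (V' : Scheme.{u}) := ⟨x', hx'V'⟩
    have hgx : g.base x'' = f.base x' := rfl
    let z := (pullback.lift g v' hv'').base x''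
    have hz : (pullback.fst pX pY).base z = f.base x' := by
      have := congrArg (fun φ => φ.base x'') (pullback.lift_fst g v' hv'')
      exact this
    have hzΓ : z ∈ closure (Set.range (pullback.lift U.ι h hh.symm).base) :=
      H22.RatMapPull.mem_closure_graph pX pY U h hh.symm g v' hv'' j k hjk hagree hrange hU x''
    have hsub := H22.RatMapPull.closure_graph_inter_fibre_subset pX pY U h hh.symm g v' hv'' j k
      hjk hagree hrange x''
    rw [hgx] at hsub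
    refine Groth.Agent.S3836.result pX pY hX U hU h hh.symm (f.base x') (hXn _) z hz hzΓ ⟨⊤, ?_⟩
    apply Set.Subset.antisymm
    · rintro w ⟨⟨-, hw1⟩, hw2⟩
      exact hsub ⟨hw1, hw2⟩
    · rintro w hw
      rw [Set.mem_singleton_iff] at hw
      subst hw
      exact ⟨⟨trivial, hzΓ⟩, hz⟩


end Groth.Agent.S3837
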