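import Groth.Statements.S3846
import Groth.Agent.S3845

set_option autoImplicit false
universe u
open CategoryTheory CategoryTheory.Limits AlgebraicGeometry TopologicalSpace
open Unram17

namespace Groth.Agent.S3846

/-- a) iff b''): let f : X → Y be locally of finite presentation and x a point of X. Then f is
unramified on some open neighbourhood of x if and only if, for every base change g : Y' → Y and
every section s' of X ×_Y Y' → Y', s' is a local isomorphism at every point y' of Y' such that
s'(y') lies over x. -/
theorem result {X Y : Scheme.{u}} (f : X ⟶ Y) [LocallyOfFinitePresentation f]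
    (x : ↥X) :
    (∃ U : X.Opens, x ∈ U ∧ FormallyUnramified (U.ι ≫ f)) ↔
      ∀ (Y' : Scheme.{u}) (g : Y' ⟶ Y) (s' : Y' ⟶ pullback f g), s' ≫ pullback.snd f g = 𝟙 Y' →
        ∀ y' : ↥Y', pullback.fst f g (s' y') = x → SchLoc.IsLocalIsoAt s' y' := by
  constructor
  · rintro ⟨U, hxU, hU⟩ Y' g s' hs' y' hy'
    have hP : MorphismProperty.HasOfPostcompProperty @IsOpenImmersion
        (@LocallyOfFiniteType ⊓ @FormallyUnramified) := by
      rw [MorphismProperty.hasOfPostcompProperty_iff_le_diagonal]
      intro X Y f ⟨hft, hfu⟩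
      exact inferInstanceAs <| IsOpenImmersion (pullback.diagonal f)
    let q := pullback.fst f g
    let p := pullback.snd f g
    let U' : (pullback f g).Opens := q ⁻¹ᵁ U
    have hpb : IsPullback (q ∣_ U) (U'.ι ≫ p) (U.ι ≫ f) g :=
      (isPullback_morphismRestrict q U).paste_vert (IsPullback.of_hasPullback f g)
    have hunr : FormallyUnramified (U'.ι ≫ p) :=
      MorphismProperty.of_isPullback (P := @FormallyUnramified) hpb hU
    have hlft : LocallyOfFiniteType (U'.ι ≫ p) := inferInstance
    refine ⟨s' ⁻¹ᵁ U', ?_, ?_⟩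
    · change q (s' y') ∈ U
      rw [hy']
      exact hxU
    · have h1 : (s' ∣_ U') ≫ (U'.ι ≫ p) = (s' ⁻¹ᵁ U').ι := by
        rw [← Category.assoc, morphismRestrict_ι, Category.assoc, hs', Category.comp_id]
      have h2 : IsOpenImmersion ((s' ∣_ U') ≫ (U'.ι ≫ p)) := by rw [h1]; infer_instance
      have h3 : IsOpenImmersion (s' ∣_ U') :=
        MorphismProperty.of_postcomp (W := @IsOpenImmersion)
          (W' := @LocallyOfFiniteType ⊓ @FormallyUnramified) (s' ∣_ U') (U'.ι ≫ p) ⟨hlft, hunr⟩ h2
      rw [← morphismRestrict_ι]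
      infer_instance
  · intro h
    rw [Groth.Agent.S3845.result f x]
    exact h X f (pullback.diagonal f) (pullback.diagonal_snd f) x (by
      rw [← Scheme.Hom.comp_apply, pullback.diagonal_fst]
      rfl)

end Groth.Agent.S3846
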