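import Groth.Statements.S3848
import Groth.Agent.H22.ChartMaps
import Groth.Agent.H22.AlgZMT
import Groth.Agent.H22.DVRGen
import Groth.Agent.H22.NoethNhdScheme

set_option autoImplicit false
universe u
open CategoryTheory CategoryTheory.Limits AlgebraicGeometry TopologicalSpace
open Rat20

namespace Groth.Agent.S3848

set_option maxHeartbeats 1600000 in
theorem aux {X Y : Scheme.{u}} [IsLocallyNoetherian X] (q : Y ⟶ X)
    [LocallyOfFiniteType q] (U : X.Opens) (hU : Dense (U : Set ↥X)) (h : (U : Scheme.{u}) ⟶ Y)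
    (hh : h ≫ q = U.ι) (x : ↥X) (hxU : x ∉ U) [IsDomain ↑(X.presheaf.stalk x)]
    (hx : IsIntegrallyClosed ↑(X.presheaf.stalk x)) (y₀ : ↥Y) (hy₀ : q y₀ = x)
    (K : Type u) [Field K] [Algebra ↑(X.presheaf.stalk x) K] [IsFractionRing ↑(X.presheaf.stalk x) K] :
    (∃ (U' : X.Opens) (hUU' : U ≤ U') (hxU' : x ∈ U') (h' : (U' : Scheme.{u}) ⟶ Y),
        h' ≫ q = U'.ι ∧ X.homOfLE hUU' ≫ h' = h ∧ h' ⟨x, hxU'⟩ = y₀) ↔
      ∀ (R : Type u) [CommRing R] [IsDomain R] [IsDiscreteValuationRing R]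
        (u : Spec (CommRingCat.of R) ⟶ X), u (IsLocalRing.closedPoint R) = x →
        ∀ ub : Spec (CommRingCat.of (FractionRing R)) ⟶ (U : Scheme.{u}),
          ub ≫ U.ι = Spec.map (CommRingCat.ofHom (algebraMap R (FractionRing R))) ≫ u →
          ∃ h₁ : Spec (CommRingCat.of R) ⟶ Y, h₁ ≫ q = u ∧ h₁ (IsLocalRing.closedPoint R) = y₀ ∧
            Spec.map (CommRingCat.ofHom (algebraMap R (FractionRing R))) ≫ h₁ = ub ≫ h := by
  classical
  obtain ⟨W₀, hxW₀, hW₀, hinj⟩ := X.exists_germ_injective x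
  have hK : Function.Injective (algebraMap (X.presheaf.stalk x) K) := IsFractionRing.injective _ _
  obtain ⟨ub₀, hub₀⟩ := H22.exists_lift_generic_of_dense U hU x hW₀ hxW₀ hinj K hK
  constructor
  · rintro ⟨U', hUU', hxU', h', hh', hres, hy'⟩ R _ _ _ u hux ub hub
    have hr : Set.range u ⊆ Set.range U'.ι := by
      have := H22.range_subset_of_closedPoint_mem U' u (by rw [hux]; exact hxU')
      simpa using this
    let u' : Spec (CommRingCat.of R) ⟶ U'.toScheme := IsOpenImmersion.lift U'.ι u hr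
    have hu' : u' ≫ U'.ι = u := IsOpenImmersion.lift_fac _ _ _
    refine ⟨u' ≫ h', ?_, ?_, ?_⟩
    · rw [Category.assoc, hh', hu']
    · rw [Scheme.Hom.comp_apply]
      have h1 : u' (IsLocalRing.closedPoint R) = ⟨x, hxU'⟩ := by
        apply Subtype.ext
        change U'.ι (u' _) = x
        rw [← Scheme.Hom.comp_apply, hu', hux]
      rw [h1, hy']
    · rw [← hres, ← Category.assoc, ← Category.assoc]
      congr 1
      rw [← cancel_mono U'.ι, Category.assoc, hu', Category.assoc, Scheme.homOfLE_ι, hub]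
  · intro H
    have hA : ¬ IsField (X.presheaf.stalk x) :=
      H22.not_isField_stalk_of_notMem U x hxU K hK ub₀ hub₀
    have hN : IsNoetherianRing (X.presheaf.stalk x) := inferInstance
    -- lifts over dominating DVRs of `K`
    have claim : ∀ (R : ValuationSubring K), IsDiscreteValuationRing R →
        (∀ a, algebraMap (X.presheaf.stalk x) K a ∈ R) →
        (∀ a ∈ IsLocalRing.maximalIdeal (X.presheaf.stalk x),
          R.valuation (algebraMap (X.presheaf.stalk x) K a) < 1) →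
        ∃ (ψ : X.presheaf.stalk x ⟶ CommRingCat.of R) (h₁ : Spec (CommRingCat.of R) ⟶ Y),
          (∀ a, ((ψ.hom a : R) : K) = algebraMap (X.presheaf.stalk x) K a) ∧ IsLocalHom ψ.hom ∧
          h₁ (IsLocalRing.closedPoint R) = y₀ ∧
          Spec.map (CommRingCat.ofHom R.subtype) ≫ h₁ = ub₀ ≫ h := by
      intro R hR hAR hmR
      obtain ⟨ψ, hψ, hψloc, hcl, hgen⟩ := H22.exists_spec_valuationSubring_hom x K R hAR hmR
      let e : Spec (CommRingCat.of (FractionRing R)) ⟶ Spec (CommRingCat.of K) :=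
        Spec.map (CommRingCat.ofHom ((FractionRing.algEquiv R K).symm : K →+* FractionRing R))
      let e' : Spec (CommRingCat.of K) ⟶ Spec (CommRingCat.of (FractionRing R)) :=
        Spec.map (CommRingCat.ofHom ((FractionRing.algEquiv R K) : FractionRing R →+* K))
      have he : e' ≫ e = 𝟙 _ := by
        rw [← Spec.map_comp, ← Spec.map_id]
        congr 1
        ext a
        simp
      have hgen' : Spec.map (CommRingCat.ofHom (algebraMap R (FractionRing R))) ≫
          (Spec.map ψ ≫ X.fromSpecStalk x) = (e ≫ ub₀) ≫ U.ι := by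
        rw [H22.DVRGen.specMap_algebraMap_fractionRing R, Category.assoc, Category.assoc, hub₀]
        exact congrArg (e ≫ ·) hgen
      obtain ⟨h₁, hh₁, hh₁cl, hh₁gen⟩ := H R (Spec.map ψ ≫ X.fromSpecStalk x) hcl (e ≫ ub₀)
        hgen'.symm
      refine ⟨ψ, h₁, hψ, hψloc, hh₁cl, ?_⟩
      rw [H22.DVRGen.specMap_algebraMap_fractionRing R] at hh₁gen
      have h2 := congrArg (e' ≫ ·) hh₁gen
      simp only [Category.assoc] at h2
      rw [reassoc_of% he, reassoc_of% he] at h2
      exact h2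
    obtain ⟨R₀, hR₀, hAR₀, hmR₀⟩ := H22.DVRDom.exists_dvr_dominating hA (L := K) ∅ (by
      rw [Finset.coe_empty, Set.union_empty]
      exact IsFractionRing.closure_range_algebraMap _ _)
    obtain ⟨ψ₀, h₁z, hψ₀, hψ₀loc, hcl₀, hgen₀⟩ := claim R₀ hR₀ hAR₀ hmR₀
    -- chart
    have hy₀W : y₀ ∈ q ⁻¹ᵁ W₀ := by
      change q y₀ ∈ W₀
      rw [hy₀]
      exact hxW₀
    obtain ⟨_, ⟨V, hV, rfl⟩, hy₀V, hVW'⟩ :=
      Y.isBasis_affineOpens.exists_subset_of_mem_open hy₀W (q ⁻¹ᵁ W₀).2
    have hVW : V ≤ q ⁻¹ᵁ W₀ := hVW'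
    replace hV : IsAffineOpen V := hV
    have hrange₀ : Set.range (ub₀ ≫ h) ⊆ (V : Set Y) := by
      rintro _ ⟨pt, rfl⟩
      rw [← hgen₀, Scheme.Hom.comp_apply]
      exact H22.range_subset_of_closedPoint_mem V h₁z (by rw [hcl₀]; exact hy₀V) ⟨_, rfl⟩
    obtain ⟨c, hc⟩ := H22.exists_specMap_fromSpec_eq hV (ub₀ ≫ h) hrange₀
    -- chart maps of the DVR lifts
    have claim2 : ∀ (R : ValuationSubring K), IsDiscreteValuationRing R →
        (∀ a, algebraMap (X.presheaf.stalk x) K a ∈ R) →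
        (∀ a ∈ IsLocalRing.maximalIdeal (X.presheaf.stalk x),
          R.valuation (algebraMap (X.presheaf.stalk x) K a) < 1) →
        ∃ (ψ : X.presheaf.stalk x ⟶ CommRingCat.of R) (γ : Γ(Y, V) ⟶ CommRingCat.of R),
          (∀ a, ((ψ.hom a : R) : K) = algebraMap (X.presheaf.stalk x) K a) ∧ IsLocalHom ψ.hom ∧
          (∀ t, ((γ.hom t : R) : K) = c.hom t) ∧
          Spec.map γ (IsLocalRing.closedPoint R) = hV.primeIdealOf ⟨y₀, hy₀V⟩ := by
      intro R hR hAR hmR
      obtain ⟨ψ, h₁, hψ, hψloc, hcl, hgen⟩ := claim R hR hAR hmR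
      obtain ⟨γ, hγ⟩ := H22.exists_specMap_fromSpec_eq hV h₁
        (H22.range_subset_of_closedPoint_mem V h₁ (by rw [hcl]; exact hy₀V))
      refine ⟨ψ, γ, hψ, hψloc, ?_, ?_⟩
      · have h3 : γ ≫ CommRingCat.ofHom R.subtype = c := by
          apply Spec.map_injective
          rw [← cancel_mono hV.fromSpec, Spec.map_comp, Category.assoc, hγ, hgen, hc]
        intro t
        exact congr($h3 t)
      · exact H22.specMap_apply_eq_primeIdealOf hV γ _ y₀ hy₀V (by rw [hγ]; exact hcl)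
    have hi : ∀ t, c.hom t ∈ (algebraMap (X.presheaf.stalk x) K).range := by
      intro t
      by_contra hnot
      obtain ⟨R, hR, hAR, hmR, htR⟩ := H22.exists_dvr_dominating_not_mem hnot
      obtain ⟨ψ, γ, -, -, hγc, -⟩ := claim2 R hR hAR hmR
      apply htR
      rw [← hγc t]
      exact (γ.hom t).2
    obtain ⟨ρ, hρ⟩ := H22.exists_ringHom_of_forall_mem_range hK c.hom hi
    obtain ⟨V', hxV', v, hv, hvφ, hvV, hvh⟩ := H22.exists_extension_of_chart' q U h hh x W₀ hW₀
      hxW₀ hinj K hK ub₀ hub₀ V hV hVW (CommRingCat.ofHom ρ) (by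
        rw [← hc]
        congr 2
        ext t
        exact congrFun (congrArg DFunLike.coe hρ) t)
    -- the value at `x`
    have hvx : v ⟨x, hxV'⟩ = y₀ := by
      have hcl : V'.fromSpecStalkOfMem x hxV' (IsLocalRing.closedPoint (X.presheaf.stalk x)) =
          ⟨x, hxV'⟩ := by
        apply Subtype.ext
        change V'.ι _ = x
        rw [← Scheme.Hom.comp_apply, Scheme.Opens.fromSpecStalkOfMem_ι, X.fromSpecStalk_closedPoint]
      rw [← hcl, ← Scheme.Hom.comp_apply, hvφ, Scheme.Hom.comp_apply]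
      obtain ⟨ψ, γ, hψ, hψloc, hγc, hγcl⟩ := claim2 R₀ hR₀ hAR₀ hmR₀
      have h5 : Spec.map (CommRingCat.ofHom ρ) (IsLocalRing.closedPoint (X.presheaf.stalk x)) =
          hV.primeIdealOf ⟨y₀, hy₀V⟩ := by
        rw [← hγcl]
        apply PrimeSpectrum.ext
        ext t
        change ρ t ∈ IsLocalRing.maximalIdeal (X.presheaf.stalk x) ↔
          γ.hom t ∈ IsLocalRing.maximalIdeal R₀
        have h6 : γ.hom t = ψ.hom (ρ t) := by
          apply Subtype.ext
          rw [hγc t, hψ (ρ t)]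
          exact (congrFun (congrArg DFunLike.coe hρ) t).symm
        rw [h6, IsLocalRing.mem_maximalIdeal, IsLocalRing.mem_maximalIdeal]
        haveI := hψloc
        exact (map_mem_nonunits_iff ψ.hom (ρ t)).symm
      exact (congrArg hV.fromSpec h5).trans (hV.fromSpec_primeIdealOf ⟨y₀, hy₀V⟩)
    -- points of `U` specializing to `x` are mapped into `V`
    obtain ⟨G, hGdef⟩ : ∃ G : X.Opens, G = U.ι ''ᵁ (h ⁻¹ᵁ V) := ⟨_, rfl⟩
    have hG : ∀ z ∈ U, z ⤳ x → z ∈ G := by
      intro z hzU hzx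
      let u₀ : U.toScheme := ⟨z, hzU⟩
      have hne : x ≠ U.ι u₀ := by
        intro hxz
        apply hxU
        rw [hxz]
        exact u₀.2
      obtain ⟨AR, uR, hAR, huRcl, huRgen⟩ :=
        H22.DVRSpec.exists_dvr_through_specialization U.ι u₀ x hzx hne
      let e : Spec (CommRingCat.of (FractionRing AR)) ⟶ Spec (U.toScheme.residueField u₀) :=
        Spec.map (CommRingCat.ofHom
          ((FractionRing.algEquiv AR (U.toScheme.residueField u₀)).symm :
            U.toScheme.residueField u₀ →+* FractionRing AR))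
      have hubR : (e ≫ U.toScheme.fromSpecResidueField u₀) ≫ U.ι =
          Spec.map (CommRingCat.ofHom (algebraMap AR (FractionRing AR))) ≫ uR := by
        rw [H22.DVRGen.specMap_algebraMap_fractionRing AR, Category.assoc, Category.assoc,
          ← huRgen]
        rfl
      obtain ⟨h₁, -, hh₁cl, hh₁gen⟩ := H AR uR huRcl (e ≫ U.toScheme.fromSpecResidueField u₀) hubR
      have h7 : h u₀ ∈ V := by
        let pt' : Spec (CommRingCat.of (FractionRing AR)) :=
          IsLocalRing.closedPoint (FractionRing AR)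
        have h8 : h u₀ = ((e ≫ U.toScheme.fromSpecResidueField u₀) ≫ h) pt' := by
          rw [Scheme.Hom.comp_apply, Scheme.Hom.comp_apply, Scheme.fromSpecResidueField_apply]
        rw [h8, ← hh₁gen, Scheme.Hom.comp_apply]
        exact H22.range_subset_of_closedPoint_mem V h₁ (by rw [hh₁cl]; exact hy₀V) ⟨_, rfl⟩
      rw [hGdef]
      exact ⟨u₀, h7, rfl⟩
    obtain ⟨V₂, hxV₂, hV₂⟩ := H22.exists_opens_nhd_inf_le U G x hG
    obtain ⟨V'', hV''def⟩ : ∃ V'' : X.Opens, V'' = V' ⊓ V₂ := ⟨_, rfl⟩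
    have hV''V' : V'' ≤ V' := hV''def ▸ inf_le_left
    have hV''V₂ : V'' ≤ V₂ := hV''def ▸ inf_le_right
    have hxV'' : x ∈ V'' := hV''def ▸ ⟨hxV', hxV₂⟩
    have hmap : ∀ z : (U ⊓ V'' : X.Opens), h (X.homOfLE (inf_le_left : U ⊓ V'' ≤ U) z) ∈ V := by
      intro z
      have hzG : z.1 ∈ G := hV₂ ⟨z.2.1, hV''V₂ z.2.2⟩
      rw [hGdef] at hzG
      obtain ⟨w, hw, hwz⟩ := hzG
      have : X.homOfLE (inf_le_left : U ⊓ V'' ≤ U) z = w := by
        apply Subtype.ext
        rw [Scheme.homOfLE_apply]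
        exact hwz.symm
      rw [this]
      exact hw
    have hagree := hvh V'' hV''V' hxV'' hmap
    obtain ⟨v'', hv''def⟩ : ∃ v'' : V''.toScheme ⟶ Y, v'' = X.homOfLE hV''V' ≫ v := ⟨_, rfl⟩
    have hagree' : X.homOfLE (inf_le_left : U ⊓ V'' ≤ U) ≫ h =
        X.homOfLE (inf_le_right : U ⊓ V'' ≤ V'') ≫ v'' := by
      rw [hv''def, ← Category.assoc, Scheme.homOfLE_homOfLE]
      exact hagree.symm
    obtain ⟨k, hk1, hk2⟩ := H22.exists_glue_sup U V'' h v'' hagree'
    refine ⟨U ⊔ V'', le_sup_left, Or.inr hxV'', k, ?_, hk1, ?_⟩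
    · apply H22.hom_ext_sup
      · rw [← Category.assoc, hk1, hh, Scheme.homOfLE_ι]
      · rw [← Category.assoc, hk2, hv''def, Category.assoc, hv, Scheme.homOfLE_ι,
          Scheme.homOfLE_ι]
    · have h9 : (⟨x, Or.inr hxV''⟩ : (U ⊔ V'' : X.Opens)) =
          X.homOfLE (le_sup_right : V'' ≤ U ⊔ V'') ⟨x, hxV''⟩ :=
        Subtype.ext (X.homOfLE_apply _ ⟨x, hxV''⟩).symm
      rw [h9, ← Scheme.Hom.comp_apply, hk2, hv''def, Scheme.Hom.comp_apply,
        Scheme.homOfLE_apply' _ _ hxV'']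
      exact hvx

/-- In the case S = X (valuative criterion for a rational map to be defined at a point): let X be a
locally Noetherian scheme, q : Y → X a morphism locally of finite type, U a dense open subset of X,
h : U → Y a section of q over U, x a point of X outside U whose local ring is an integrally closed
domain, and y₀ a point of Y over x with trivial residue field extension (an X-morphism Spec k(x) →
Y). Then h extends to a section h' of q over an open subset U' containing U and x with h'(x) = y₀ if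
and only if: for every discrete valuation ring R and every morphism u : Spec R → X sending the
closed point to x and the generic point into U, there is a morphism h₁ : Spec R → Y over X sending
the closed point to y₀ and agreeing with h at the generic point. -/
theorem result {X Y : Scheme.{u}} [IsLocallyNoetherian X] (q : Y ⟶ X)
    [LocallyOfFiniteType q] (U : X.Opens) (hU : Dense (U : Set ↥X)) (h : (U : Scheme.{u}) ⟶ Y)
    (hh : h ≫ q = U.ι) (x : ↥X) (hxU : x ∉ U) [IsDomain ↑(X.presheaf.stalk x)]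
    (hx : IsIntegrallyClosed ↑(X.presheaf.stalk x)) (y₀ : ↥Y) (hy₀ : q y₀ = x)
    (hk : Function.Bijective (q.residueFieldMap y₀)) :
    (∃ (U' : X.Opens) (hUU' : U ≤ U') (hxU' : x ∈ U') (h' : (U' : Scheme.{u}) ⟶ Y),
        h' ≫ q = U'.ι ∧ X.homOfLE hUU' ≫ h' = h ∧ h' ⟨x, hxU'⟩ = y₀) ↔
      ∀ (R : Type u) [CommRing R] [IsDomain R] [IsDiscreteValuationRing R]
        (u : Spec (CommRingCat.of R) ⟶ X), u (IsLocalRing.closedPoint R) = x →
        ∀ ub : Spec (CommRingCat.of (FractionRing R)) ⟶ (U : Scheme.{u}),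
          ub ≫ U.ι = Spec.map (CommRingCat.ofHom (algebraMap R (FractionRing R))) ≫ u →
          ∃ h₁ : Spec (CommRingCat.of R) ⟶ Y, h₁ ≫ q = u ∧ h₁ (IsLocalRing.closedPoint R) = y₀ ∧
            Spec.map (CommRingCat.ofHom (algebraMap R (FractionRing R))) ≫ h₁ = ub ≫ h := by
  exact aux q U hU h hh x hxU hx y₀ hy₀ (FractionRing ↑(X.presheaf.stalk x))

end Groth.Agent.S3848
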