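import Groth.Statements.S3849
import Groth.Agent.H22.ChartMaps
import Groth.Agent.H22.AlgZMT
import Groth.Agent.H22.DVRGen
import Mathlib.AlgebraicGeometry.Morphisms.QuasiFinite

set_option autoImplicit false
universe u
open CategoryTheory CategoryTheory.Limits AlgebraicGeometry TopologicalSpace
open Rat20

namespace Groth.Agent.S3849

set_option maxHeartbeats 800000 in
theorem aux {X Y : Scheme.{u}} [IsLocallyNoetherian X] (q : Y ⟶ X)
    [LocallyOfFiniteType q] [IsSeparated q] [LocallyQuasiFinite q] (U : X.Opens) (hU : Dense (U : Set ↥X))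
    (h : (U : Scheme.{u}) ⟶ Y) (hh : h ≫ q = U.ι) (x : ↥X) (hxU : x ∉ U) [IsDomain ↑(X.presheaf.stalk x)]
    (hx : IsIntegrallyClosed ↑(X.presheaf.stalk x))
    (K : Type u) [Field K] [Algebra ↑(X.presheaf.stalk x) K] [IsFractionRing ↑(X.presheaf.stalk x) K] :
    (∃ (U' : X.Opens) (hUU' : U ≤ U') (h' : (U' : Scheme.{u}) ⟶ Y),
        x ∈ U' ∧ h' ≫ q = U'.ι ∧ X.homOfLE hUU' ≫ h' = h) ↔
      ∃ (R : Type u) (_ : CommRing R) (_ : IsDomain R) (_ : IsDiscreteValuationRing R)
        (u : Spec (CommRingCat.of R) ⟶ X) (ub : Spec (CommRingCat.of (FractionRing R)) ⟶ (U : Scheme.{u}))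
        (h₁ : Spec (CommRingCat.of R) ⟶ Y),
        u (IsLocalRing.closedPoint R) = x ∧
          ub ≫ U.ι = Spec.map (CommRingCat.ofHom (algebraMap R (FractionRing R))) ≫ u ∧
          h₁ ≫ q = u ∧ Spec.map (CommRingCat.ofHom (algebraMap R (FractionRing R))) ≫ h₁ = ub ≫ h := by
  classical
  obtain ⟨W₀, hxW₀, hW₀, hinj⟩ := X.exists_germ_injective x
  have hK : Function.Injective (algebraMap (X.presheaf.stalk x) K) := IsFractionRing.injective _ _
  obtain ⟨ub₀, hub₀⟩ := H22.exists_lift_generic_of_dense U hU x hW₀ hxW₀ hinj K hK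
  constructor
  · rintro ⟨U', hUU', h', hxU', hh', hres⟩
    have hA : ¬ IsField (X.presheaf.stalk x) := by
      intro hF
      apply hxU
      let pt : Spec (CommRingCat.of K) := IsLocalRing.closedPoint K
      have h1 : Spec.map (CommRingCat.ofHom (algebraMap (X.presheaf.stalk x) K)) pt =
          IsLocalRing.closedPoint (X.presheaf.stalk x) := by
        apply PrimeSpectrum.ext
        have h2 : IsLocalRing.maximalIdeal (X.presheaf.stalk x) = ⊥ :=
          IsLocalRing.isField_iff_maximalIdeal_eq.mp hF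
        change Ideal.comap (algebraMap (X.presheaf.stalk x) K) pt.asIdeal =
          IsLocalRing.maximalIdeal (X.presheaf.stalk x)
        rw [h2]
        have h0 : pt.asIdeal = ⊥ :=
          (Ideal.eq_bot_or_top pt.asIdeal).resolve_right pt.isPrime.ne_top
        rw [h0, ← RingHom.ker_eq_comap_bot]
        exact (RingHom.injective_iff_ker_eq_bot _).mp hK
      have h3 : (ub₀ ≫ U.ι) pt = x := by
        rw [hub₀, Scheme.Hom.comp_apply, h1, X.fromSpecStalk_closedPoint]
      rw [← h3, Scheme.Hom.comp_apply]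
      exact (ub₀ pt).2
    have hN : IsNoetherianRing (X.presheaf.stalk x) := inferInstance
    obtain ⟨R, hR, hAR, hmR⟩ := H22.DVRDom.exists_dvr_dominating hA (L := K) ∅ (by
      rw [Finset.coe_empty, Set.union_empty]
      exact IsFractionRing.closure_range_algebraMap _ _)
    obtain ⟨ψ, -, -, hcl, hgen⟩ := H22.exists_spec_valuationSubring_hom x K R hAR hmR
    let u : Spec (CommRingCat.of R) ⟶ X := Spec.map ψ ≫ X.fromSpecStalk x
    let e : Spec (CommRingCat.of (FractionRing R)) ⟶ Spec (CommRingCat.of K) :=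
      Spec.map (CommRingCat.ofHom ((FractionRing.algEquiv R K).symm : K →+* FractionRing R))
    have hgen' : Spec.map (CommRingCat.ofHom (algebraMap R (FractionRing R))) ≫ u =
        (e ≫ ub₀) ≫ U.ι := by
      rw [H22.DVRGen.specMap_algebraMap_fractionRing R, Category.assoc, Category.assoc, hub₀]
      exact congrArg (e ≫ ·) hgen
    have hr : Set.range u ⊆ Set.range U'.ι := by
      have := H22.range_subset_of_closedPoint_mem U' u (by rw [hcl]; exact hxU')
      simpa using this
    let u' : Spec (CommRingCat.of R) ⟶ U'.toScheme := IsOpenImmersion.lift U'.ι u hr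
    have hu' : u' ≫ U'.ι = u := IsOpenImmersion.lift_fac _ _ _
    refine ⟨R, inferInstance, inferInstance, hR, u, e ≫ ub₀, u' ≫ h', hcl, hgen'.symm, ?_, ?_⟩
    · rw [Category.assoc, hh', hu']
    · rw [← hres, ← Category.assoc, ← Category.assoc]
      congr 1
      rw [← cancel_mono U'.ι, Category.assoc, hu', hgen', Category.assoc, Category.assoc,
        Scheme.homOfLE_ι, Category.assoc]
  · rintro ⟨R, _, _, _, u, ub, h₁, hux, hub, hh₁, hgen⟩
    obtain ⟨y₀, hy₀def⟩ : ∃ y₀, y₀ = h₁ (IsLocalRing.closedPoint R) := ⟨_, rfl⟩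
    have hqy₀ : q y₀ = x := by
      rw [← hux, ← hh₁, Scheme.Hom.comp_apply, hy₀def]
    let gen : Spec (CommRingCat.of (FractionRing R)) ⟶ Spec (CommRingCat.of R) :=
      Spec.map (CommRingCat.ofHom (algebraMap R (FractionRing R)))
    let pt' : Spec (CommRingCat.of (FractionRing R)) := IsLocalRing.closedPoint (FractionRing R)
    have hu₀x : U.ι (ub pt') ⤳ x := by
      have h1 : U.ι (ub pt') = u (gen pt') := by
        rw [← Scheme.Hom.comp_apply, hub, Scheme.Hom.comp_apply]
      rw [h1, ← hux]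
      exact (IsLocalRing.specializes_closedPoint _).map u.continuous
    have hu₀W₀ : U.ι (ub pt') ∈ W₀ := hu₀x.mem_open W₀.2 hxW₀
    have hξ : ∀ pt : Spec (CommRingCat.of K), (ub₀ ≫ h) pt ⤳ y₀ := by
      intro pt
      have h1 : ub₀ pt ⤳ ub pt' := by
        refine (U.ι.isOpenEmbedding.isInducing.specializes_iff).mp ?_
        rw [← Scheme.Hom.comp_apply, hub₀]
        exact H22.specializes_of_injective_germ hW₀ x hxW₀ hinj K hK pt _ hu₀W₀
      have h2 : h (ub₀ pt) ⤳ h (ub pt') := h1.map h.continuous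
      have h3 : h (ub pt') ⤳ y₀ := by
        have h4 : h (ub pt') = h₁ (gen pt') := by
          rw [← Scheme.Hom.comp_apply, ← hgen, Scheme.Hom.comp_apply]
        rw [h4, hy₀def]
        exact (IsLocalRing.specializes_closedPoint _).map h₁.continuous
      rw [Scheme.Hom.comp_apply]
      exact h2.trans h3
    have hy₀W : y₀ ∈ q ⁻¹ᵁ W₀ := by
      change q y₀ ∈ W₀
      rw [hqy₀]
      exact hxW₀
    obtain ⟨_, ⟨V, hV, rfl⟩, hy₀V, hVW'⟩ :=
      Y.isBasis_affineOpens.exists_subset_of_mem_open hy₀W (q ⁻¹ᵁ W₀).2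
    have hVW : V ≤ q ⁻¹ᵁ W₀ := hVW'
    obtain ⟨c, hc⟩ := H22.exists_specMap_fromSpec_eq hV (ub₀ ≫ h) (by
      rintro _ ⟨pt, rfl⟩
      exact (hξ pt).mem_open V.2 hy₀V)
    have hcomm := H22.appLE_comp_eq_germ_comp q U h hh x hW₀ hxW₀ K ub₀ hub₀ hV hVW c hc
    have hi : ∀ t, c.hom t ∈ (algebraMap (X.presheaf.stalk x) K).range := by
      intro t
      letI : Algebra Γ(X, W₀) (X.presheaf.stalk x) := (X.presheaf.germ W₀ x hxW₀).hom.toAlgebra
      letI : Algebra Γ(X, W₀) Γ(Y, V) := (q.appLE W₀ V hVW).hom.toAlgebra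
      letI : Algebra Γ(X, W₀) K :=
        ((algebraMap (X.presheaf.stalk x) K).comp (X.presheaf.germ W₀ x hxW₀).hom).toAlgebra
      haveI : IsScalarTower Γ(X, W₀) (X.presheaf.stalk x) K :=
        IsScalarTower.of_algebraMap_eq (fun _ => rfl)
      haveI hloc : IsLocalization.AtPrime (X.presheaf.stalk x)
          (hW₀.primeIdealOf ⟨x, hxW₀⟩).asIdeal := hW₀.isLocalization_stalk ⟨x, hxW₀⟩
      haveI hFT : Algebra.FiniteType Γ(X, W₀) Γ(Y, V) := q.finiteType_appLE hW₀ hV hVW
      haveI hQF : Algebra.QuasiFiniteAt Γ(X, W₀) (hV.primeIdealOf ⟨y₀, hy₀V⟩).asIdeal :=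
        (q.quasiFiniteAt y₀).quasiFiniteAt hV hW₀ hVW hy₀V
      let cA : Γ(Y, V) →ₐ[Γ(X, W₀)] K :=
        { c.hom with commutes' := fun a => congr($hcomm a) }
      have hker : RingHom.ker cA ≤ (hV.primeIdealOf ⟨y₀, hy₀V⟩).asIdeal :=
        H22.ker_le_primeIdealOf_of_specializes hV c (IsLocalRing.closedPoint K) y₀ hy₀V
          (by rw [hc]; exact hξ _)
      have hn : (hV.primeIdealOf ⟨y₀, hy₀V⟩).asIdeal.comap (algebraMap Γ(X, W₀) Γ(Y, V)) =
          (hW₀.primeIdealOf ⟨x, hxW₀⟩).asIdeal :=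
        H22.comap_appLE_primeIdealOf q hW₀ hV hVW y₀ hy₀V x hxW₀ hqy₀
      exact H22.mem_range_of_quasiFiniteAt (hW₀.primeIdealOf ⟨x, hxW₀⟩).asIdeal cA
        (hV.primeIdealOf ⟨y₀, hy₀V⟩).asIdeal hker hn t
    obtain ⟨ρ, hρ⟩ := H22.exists_ringHom_of_forall_mem_range hK c.hom hi
    obtain ⟨V', hxV', v, hv, hvh, -⟩ := H22.exists_extension_of_chart q U h hh x W₀ hW₀ hxW₀ hinj
      K hK ub₀ hub₀ V hV hVW (CommRingCat.ofHom ρ) (by
        rw [← hc]
        congr 2
        ext t
        exact congrFun (congrArg DFunLike.coe hρ) t)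
    obtain ⟨k, hk1, hk2⟩ := H22.exists_glue_sup U V' h v hvh.symm
    refine ⟨U ⊔ V', le_sup_left, k, Or.inr hxV', ?_, hk1⟩
    apply H22.hom_ext_sup
    · rw [← Category.assoc, hk1, hh, Scheme.homOfLE_ι]
    · rw [← Category.assoc, hk2, hv, Scheme.homOfLE_ι]

/-- In the case S = X (sections of q : Y → X): let X be a locally Noetherian scheme, q : Y → X
separated, locally of finite type and locally quasi-finite, U a dense open subset of X, h : U → Y a
section of q over U, and x a point of X outside U whose local ring is an integrally closed domain.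
Then h extends to a section of q over an open subset containing U and x if and only if there exist a
discrete valuation ring R, a morphism u : Spec R → X sending the closed point to x and the generic
point into U, and a morphism Spec R → Y over X agreeing with h at the generic point. -/
theorem result {X Y : Scheme.{u}} [IsLocallyNoetherian X] (q : Y ⟶ X)
    [LocallyOfFiniteType q] [IsSeparated q] [LocallyQuasiFinite q] (U : X.Opens) (hU : Dense (U : Set ↥X))
    (h : (U : Scheme.{u}) ⟶ Y) (hh : h ≫ q = U.ι) (x : ↥X) (hxU : x ∉ U) [IsDomain ↑(X.presheaf.stalk x)]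
    (hx : IsIntegrallyClosed ↑(X.presheaf.stalk x)) :
    (∃ (U' : X.Opens) (hUU' : U ≤ U') (h' : (U' : Scheme.{u}) ⟶ Y),
        x ∈ U' ∧ h' ≫ q = U'.ι ∧ X.homOfLE hUU' ≫ h' = h) ↔
      ∃ (R : Type u) (_ : CommRing R) (_ : IsDomain R) (_ : IsDiscreteValuationRing R)
        (u : Spec (CommRingCat.of R) ⟶ X) (ub : Spec (CommRingCat.of (FractionRing R)) ⟶ (U : Scheme.{u}))
        (h₁ : Spec (CommRingCat.of R) ⟶ Y),
        u (IsLocalRing.closedPoint R) = x ∧
          ub ≫ U.ι = Spec.map (CommRingCat.ofHom (algebraMap R (FractionRing R))) ≫ u ∧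
          h₁ ≫ q = u ∧ Spec.map (CommRingCat.ofHom (algebraMap R (FractionRing R))) ≫ h₁ = ub ≫ h := by
  exact aux q U hU h hh x hxU hx (FractionRing ↑(X.presheaf.stalk x))

end Groth.Agent.S3849
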