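import Groth.Statements.S3850
import Groth.Agent.H73.OmegaHatEtale

set_option autoImplicit false
universe u
open EGA418

namespace Groth.Agent.S3850

/-- b) iff c), in the case n = dim A: let k be a field, A a complete Noetherian local k-algebra whose
residue field is finite over k, of dimension n, p a non-maximal prime ideal of A contained in an
irreducible component of dimension n (there is a minimal prime q ⊆ p with dim A/q = n), and Ω̂ the
completion of the module of differentials of A over k for the topology of the maximal ideal. Then
Ω̂_p is a free A_p-module of rank n if and only if there is a local k-algebra map u : k[[T_1, …,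
T_n]] → A making A a finite algebra over the power series ring and étale over it at p. -/
theorem result (k A : Type u) [Field k] [CommRing A]
    [IsLocalRing A] [IsNoetherianRing A] [Algebra k A] [IsAdicComplete (IsLocalRing.maximalIdeal A) A]
    [Module.Finite k (IsLocalRing.ResidueField A)] (n : ℕ) (hn : ringKrullDim A = n)
    (p : Ideal A) [p.IsPrime] (hp : p ≠ IsLocalRing.maximalIdeal A)
    (hq : ∃ q ∈ minimalPrimes A, q ≤ p ∧ ringKrullDim (A ⧸ q) = n) :
    (Module.Free (Localization.AtPrime p)
        (LocalizedModule p.primeCompl (AdicCompletion (IsLocalRing.maximalIdeal A) (KaehlerDifferential k A))) ∧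
      Module.finrank (Localization.AtPrime p)
        (LocalizedModule p.primeCompl (AdicCompletion (IsLocalRing.maximalIdeal A) (KaehlerDifferential k A))) = n) ↔
      ∃ (_ : Algebra (MvPowerSeries (Fin n) k) A) (_ : IsScalarTower k (MvPowerSeries (Fin n) k) A),
        IsLocalHom (algebraMap (MvPowerSeries (Fin n) k) A) ∧ Module.Finite (MvPowerSeries (Fin n) k) A ∧
          Algebra.IsEtaleAt (MvPowerSeries (Fin n) k) p := by
  obtain ⟨q, hq, hqp, hd⟩ := hq
  haveI : q.IsPrime := hq.1.1
  have hq' : ∃ q ∈ minimalPrimes A, q ≤ p ∧ ringKrullDim (A ⧸ q) = ringKrullDim A :=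
    ⟨q, hq, hqp, by rw [hd, hn]⟩
  constructor
  · rintro ⟨hfree, hrank⟩
    haveI := hfree
    haveI := Groth.Agent.H73.OmegaHatLoc.finite_omegaHat k A
    haveI : Module.Finite (Localization.AtPrime p) (LocalizedModule p.primeCompl
        (AdicCompletion (IsLocalRing.maximalIdeal A) (KaehlerDifferential k A))) :=
      Module.Finite.of_isLocalizedModule p.primeCompl
        (LocalizedModule.mkLinearMap p.primeCompl _)
    let b := Module.finBasisOfFinrankEq (Localization.AtPrime p) (LocalizedModule p.primeCompl
        (AdicCompletion (IsLocalRing.maximalIdeal A) (KaehlerDifferential k A))) hrank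
    obtain ⟨alg, tower, hloc, hfin, hunr⟩ :=
      (Groth.Agent.H73.OmegaHatUnram.span_iff_exists_algebra k A p hp hq' n).mp ⟨b, b.span_eq⟩
    letI := alg
    haveI := tower
    haveI := hfin
    exact ⟨alg, tower, hloc, hfin, Groth.Agent.H73.OmegaHatReg.isEtaleAt k A n p q hqp hd hunr⟩
  · rintro ⟨alg, tower, hloc, hfin, het⟩
    letI := alg
    haveI := tower
    haveI := hfin
    have hunr : Algebra.IsUnramifiedAt (MvPowerSeries (Fin n) k) p := by
      haveI : Algebra.FormallyEtale (MvPowerSeries (Fin n) k) (Localization.AtPrime p) := het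
      show Algebra.FormallyUnramified (MvPowerSeries (Fin n) k) (Localization.AtPrime p)
      infer_instance
    obtain ⟨s, hs⟩ := (Groth.Agent.H73.OmegaHatUnram.span_iff_exists_algebra k A p hp hq' n).mpr
      ⟨alg, tower, hloc, hfin, hunr⟩
    haveI := Groth.Agent.H73.OmegaHatReg.isRegularLocalRing_atPrime k A n p q hqp hd hunr
    haveI : IsDomain (Localization.AtPrime p) := Groth.Agent.Lead.RLR.isDomain _
    exact Groth.Agent.H73.OmegaHatReg.free_of_span k A n p q hq hqp hd s hs

end Groth.Agent.S3850
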