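import Groth.Statements.S3852
-- import your own Groth.Agent.* helpers here

set_option autoImplicit false
universe u
open FCompl

namespace Groth.Agent.S3852

open AlgebraicGeometry in
/-- Second assertion; stated for quasi-coherent ideal sheaves, with the condition on supports as an
inclusion, which is what the proof uses: Let X be a Noetherian scheme and I, J ideal sheaves such
that the zero locus of J is contained in the zero locus of I. Then I^n ≤ J for some n ≥ 1. -/
theorem result
    (X : Scheme.{u}) [IsNoetherian X] (I J : X.IdealSheafData)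
    (h : (J.support : Set X) ⊆ I.support) :
    ∃ n : ℕ, I ^ (n + 1) ≤ J := by
  classical
  let 𝒰 := X.affineCover.finiteSubcover
  have hfin : Fintype 𝒰.I₀ := inferInstance
  let U : 𝒰.I₀ → X.affineOpens := fun i => ⟨(𝒰.f i).opensRange, isAffineOpen_opensRange (𝒰.f i)⟩
  have hU : ⨆ i, (U i).1 = ⊤ := 𝒰.iSup_opensRange
  have key : ∀ i, ∃ n : ℕ, (I.ideal (U i)) ^ n ≤ J.ideal (U i) := by
    intro i
    have hnoeth : IsNoetherianRing Γ(X, (U i).1) :=
      IsLocallyNoetherian.component_noetherian (U i)
    apply Ideal.exists_pow_le_of_le_radical_of_fg _ (IsNoetherian.noetherian _)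
    rw [← PrimeSpectrum.zeroLocus_subset_zeroLocus_iff]
    have h1 : (U i).2.fromSpec '' PrimeSpectrum.zeroLocus (J.ideal (U i) : Set Γ(X, (U i).1)) ⊆
        (U i).2.fromSpec '' PrimeSpectrum.zeroLocus (I.ideal (U i) : Set Γ(X, (U i).1)) := by
      rw [IsAffineOpen.fromSpec_image_zeroLocus, IsAffineOpen.fromSpec_image_zeroLocus,
        ← Scheme.IdealSheafData.coe_support_inter, ← Scheme.IdealSheafData.coe_support_inter]
      exact Set.inter_subset_inter_left _ h
    have hinj : Function.Injective (U i).2.fromSpec :=
      (U i).2.fromSpec.isOpenEmbedding.injective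
    exact (Set.image_subset_image_iff hinj).mp h1
  choose n hn using key
  refine ⟨Finset.univ.sup n, ?_⟩
  apply Scheme.IdealSheafData.le_of_iSup_eq_top U hU
  intro i
  rw [Scheme.IdealSheafData.ideal_pow]
  refine le_trans ?_ (hn i)
  exact Ideal.pow_le_pow_right (le_trans (Finset.le_sup (Finset.mem_univ i)) (Nat.le_succ _))

end Groth.Agent.S3852
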