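import Groth.Statements.S3855
import Groth.Agent.H19.SpecIdeal

set_option autoImplicit false
universe u
open FCompl

namespace Groth.Agent.S3855

open AlgebraicGeometry in
/-- Sufficiency (the formal spectrum presented as the system Spec(A/J) -> Spec(A/J^2) -> ...). For a
Noetherian ring A and an ideal J this system is a locally Noetherian adic formal system: the
transition maps are surjective closed immersions, the kernel ideal of Spec(A/J^(n+1)) ->
Spec(A/J^(n+2)) is the (n+1)-st power of that of Spec(A/J) -> Spec(A/J^(n+2)), and every level is
locally Noetherian. -/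
theorem result (A : Type u) [CommRing A] [IsNoetherianRing A] (J : Ideal A) :
    (FSch.spf A J).IsLocNoethFormal := by
  have hι : ∀ n, (FSch.spf A J).ι n = Groth.Agent.H19.specFactor J n (n + 1) (Nat.le_succ n) :=
    fun n => rfl
  have htoX : ∀ k, (FSch.spf A J).toX k = Groth.Agent.H19.specFactor J 0 k (Nat.zero_le k) := by
    intro k
    induction k with
    | zero => exact (Groth.Agent.H19.specFactor_self J 0).symm
    | succ k ih =>
      have : (FSch.spf A J).toX (k + 1) =
          CategoryTheory.CategoryStruct.comp ((FSch.spf A J).toX k) ((FSch.spf A J).ι k) := rfl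
      rw [this, ih, hι]
      exact Groth.Agent.H19.specFactor_comp J 0 k (k + 1) _ _
  refine ⟨?_, ?_, ?_⟩
  · intro n
    rw [hι]
    exact ⟨Groth.Agent.H19.isClosedImmersion_specFactor J _ _ _,
      Groth.Agent.H19.surjective_specFactor J _ _ _⟩
  · intro n
    rw [hι, htoX]
    exact Groth.Agent.H19.ker_specFactor_adic J n
  · intro n
    change IsLocallyNoetherian (Spec (CommRingCat.of (A ⧸ J ^ (n + 1))))
    infer_instance

end Groth.Agent.S3855
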