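import Groth.Statements.S3865
import Mathlib.AlgebraicGeometry.Morphisms.Finite
import Groth.Agent.H20.ComapMul

set_option autoImplicit false
universe u
open FCompl

namespace Groth.Agent.S3865

section Aux

open AlgebraicGeometry CategoryTheory CategoryTheory.Limits

lemma ker_eq_comap_of_isPullback {P X Y Z : Scheme.{u}} {fst : P ⟶ X} {snd : P ⟶ Z}
    {f : X ⟶ Y} {i : Z ⟶ Y} [IsClosedImmersion i] (H : IsPullback fst snd f i) :
    fst.ker = i.ker.comap f := by
  rw [← H.isoPullback_hom_fst, Scheme.Hom.ker_comp_of_isIso,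
    Scheme.IdealSheafData.ker_fst_of_isClosedImmersion]

lemma sq_aux {X X' : Scheme.{u}} (f : X ⟶ X') (A : X.IdealSheafData) (A' : X'.IdealSheafData)
    (h : A'.comap f = A) :
    IsPullback A.subschemeι (Scheme.IdealSheafData.subschemeMap A A' f
      (Scheme.IdealSheafData.le_map_iff_comap_le.mpr h.le)) f A'.subschemeι := by
  refine isPullback_of_isClosedImmersion _ _ _ _ ?_ ?_
  · exact (Scheme.IdealSheafData.subschemeMap_subschemeι A A' f _).symm
  · rw [Scheme.IdealSheafData.ker_subschemeι, Scheme.IdealSheafData.ker_subschemeι]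
    exact h

variable (𝔛 : FSch.Sys.{u}) (𝒜 : ∀ n, (𝔛.X n).IdealSheafData)
  (h : ∀ n, (𝒜 (n + 1)).comap (𝔛.ι n) = 𝒜 n) (hc : FSch.IdealCompat 𝔛 𝒜)

include h in
lemma sq (n : ℕ) : IsPullback (𝒜 n).subschemeι ((FSch.subSys 𝔛 𝒜 hc).ι n)
    (𝔛.ι n) (𝒜 (n + 1)).subschemeι :=
  sq_aux (𝔛.ι n) (𝒜 n) (𝒜 (n + 1)) (h n)

include h in
lemma sq' (m : ℕ) : IsPullback ((FSch.subSys 𝔛 𝒜 hc).toX m) (𝒜 0).subschemeι
    (𝒜 m).subschemeι (𝔛.toX m) := by
  induction m with
  | zero =>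
    have : IsIso ((FSch.subSys 𝔛 𝒜 hc).toX 0) := inferInstanceAs (IsIso (𝟙 _))
    have : IsIso (𝔛.toX 0) := inferInstanceAs (IsIso (𝟙 _))
    refine IsPullback.of_horiz_isIso ⟨?_⟩
    exact (Category.id_comp _).trans (Category.comp_id _).symm
  | succ m ih => exact ih.paste_horiz (sq 𝔛 𝒜 h hc m).flip

lemma isClosedImmersion_toX (hF : 𝔛.IsFormal) (m : ℕ) : IsClosedImmersion (𝔛.toX m) := by
  induction m with
  | zero => exact inferInstanceAs (IsClosedImmersion (𝟙 _))
  | succ m ih =>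
    have := (hF m).1
    exact inferInstanceAs (IsClosedImmersion (𝔛.toX m ≫ 𝔛.ι m))

include h in
lemma main (h𝔛 : 𝔛.IsLocNoethFormal) :
    (FSch.subSys 𝔛 𝒜 hc).IsLocNoethFormal ∧ FSch.IsAdicHom (FSch.subSysι 𝔛 𝒜 hc) := by
  obtain ⟨hF, hA, hN⟩ := h𝔛
  have hci : ∀ n, IsClosedImmersion (𝔛.ι n) := fun n => (hF n).1
  refine ⟨⟨?_, ?_, ?_⟩, fun n => (sq 𝔛 𝒜 h hc n).flip⟩
  · -- formal
    intro n
    have h1 : IsClosedImmersion ((FSch.subSys 𝔛 𝒜 hc).ι n) :=
      MorphismProperty.of_isPullback (P := @IsClosedImmersion) (sq 𝔛 𝒜 h hc n) (hci n)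
    have h2 : Surjective ((FSch.subSys 𝔛 𝒜 hc).ι n) :=
      MorphismProperty.of_isPullback (P := @Surjective) (sq 𝔛 𝒜 h hc n) ⟨(hF n).2⟩
    exact ⟨h1, h2.surj⟩
  · -- adic
    intro n
    have := hci n
    have := isClosedImmersion_toX 𝔛 hF (n + 1)
    have e1 := ker_eq_comap_of_isPullback (sq 𝔛 𝒜 h hc n).flip
    have e2 := ker_eq_comap_of_isPullback (sq' 𝔛 𝒜 h hc (n + 1))
    exact e1.trans ((congrArg (fun K => Scheme.IdealSheafData.comap K (𝒜 (n + 1)).subschemeι)
      (hA n)).trans ((Groth.Agent.H20.comap_pow _ _ _).trans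
        (congrArg (· ^ (n + 1)) e2.symm)))
  · intro n
    have := hN n
    have hft : LocallyOfFiniteType (𝒜 n).subschemeι := inferInstance
    exact @LocallyOfFiniteType.isLocallyNoetherian _ _ (𝒜 n).subschemeι hft _

end Aux

open AlgebraicGeometry in
/-- A formal scheme is presented as a system of thickenings (X_n)_n, and a coherent ideal of it as a
family of ideal sheaves A_n on the levels X_n, each A_n equal to the inverse image ideal of A_(n+1)
under X_n → X_(n+1). Let (X_n) be a locally Noetherian adic formal system and (A_n) such a family.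
Then the closed subschemes Y_n cut out by the A_n, with the induced transition maps, form a locally
Noetherian adic formal system, and its inclusion into (X_n) is adic: every square Y_n → Y_(n+1), X_n
→ X_(n+1) is cartesian. -/
theorem result (𝔛 : FSch.Sys.{u}) (h𝔛 : 𝔛.IsLocNoethFormal)
    (𝒜 : ∀ n, (𝔛.X n).IdealSheafData) (h : ∀ n, (𝒜 (n + 1)).comap (𝔛.ι n) = 𝒜 n) :
    (FSch.subSys 𝔛 𝒜 (fun n ↦ (h n).le)).IsLocNoethFormal ∧
      FSch.IsAdicHom (FSch.subSysι 𝔛 𝒜 (fun n ↦ (h n).le)) := by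
  exact main 𝔛 𝒜 h (fun n ↦ (h n).le) h𝔛

end Groth.Agent.S3865
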