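import Groth.Statements.S3867
import Groth.Agent.H20.SurjPushout
import Mathlib.RingTheory.Ideal.Quotient.PowTransition
import Mathlib.RingTheory.Nakayama

set_option autoImplicit false
universe u
open FCompl

namespace Groth.Agent.S3867

open AlgebraicGeometry in
/-- Formal spectra are presented as the systems Spec(A/I^(n+1)) and Spec(B/K^(n+1)), a morphism of
systems being adic when all its squares are cartesian. Let A be a Noetherian ring, complete and
separated for the I-adic topology of an ideal I, K an ideal of a ring B and φ : B → A a ring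
homomorphism with φ(K) ⊆ I. Then the induced morphism Spf(A) → Spf(B) is adic if and only if the
ideal of A generated by φ(K) is I. -/
theorem result (A B : Type u) [CommRing A] [CommRing B] [IsNoetherianRing A]
    (I : Ideal A) (K : Ideal B) [IsAdicComplete I A] (φ : B →+* A) (h : K ≤ I.comap φ) :
    FSch.IsAdicHom (FSch.spfMap I K φ h) ↔ K.map φ = I := by
  have hKI : K.map φ ≤ I := Ideal.map_le_iff_le_comap.mpr h
  -- the key computation of the two kernels
  have hker : ∀ n : ℕ,
      (RingHom.ker (Ideal.Quotient.factor
        (Ideal.pow_le_pow_right (I := K) (Nat.le_succ (n + 1))))).map (FSch.quotPowMap I K φ h (n + 1)) =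
        ((K.map φ) ^ (n + 1)).map (Ideal.Quotient.mk (I ^ (n + 2))) := by
    intro n
    rw [Ideal.Quotient.factor_ker, Ideal.map_map]
    have : (FSch.quotPowMap I K φ h (n + 1)).comp (Ideal.Quotient.mk (K ^ (n + 2))) =
        (Ideal.Quotient.mk (I ^ (n + 2))).comp φ := by
      ext x
      rfl
    rw [this, ← Ideal.map_map, Ideal.map_pow]
  have hcomm : ∀ n : ℕ,
      (Ideal.Quotient.factor (Ideal.pow_le_pow_right (I := I) (Nat.le_succ (n + 1)))).comp
        (FSch.quotPowMap I K φ h (n + 1)) =
      (FSch.quotPowMap I K φ h n).comp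
        (Ideal.Quotient.factor (Ideal.pow_le_pow_right (I := K) (Nat.le_succ (n + 1)))) := by
    intro n
    apply Ideal.Quotient.ringHom_ext
    ext x
    rfl
  constructor
  · intro hadic
    have h0 := hadic 0
    have hle := Groth.Agent.H20.ker_le_map_of_isPullback_Spec
      (FSch.quotPowMap I K φ h (0 + 1))
      (Ideal.Quotient.factor (Ideal.pow_le_pow_right (I := K) (Nat.le_succ (0 + 1))))
      (Ideal.Quotient.factor (Ideal.pow_le_pow_right (I := I) (Nat.le_succ (0 + 1))))
      (FSch.quotPowMap I K φ h 0)
      (Ideal.Quotient.factor_surjective _) (Ideal.Quotient.factor_surjective _) (hcomm 0) h0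
    rw [hker 0, Ideal.Quotient.factor_ker] at hle
    refine le_antisymm hKI ?_
    have hsup : I ≤ K.map φ ⊔ I • I := by
      intro x hx
      have hx' : Ideal.Quotient.mk (I ^ (0 + 2)) x ∈
          ((K.map φ) ^ (0 + 1)).map (Ideal.Quotient.mk (I ^ (0 + 2))) :=
        hle (Ideal.mem_map_of_mem _ (by simpa using hx))
      rw [Ideal.mem_map_iff_of_surjective _ Ideal.Quotient.mk_surjective] at hx'
      obtain ⟨y, hy, hyx⟩ := hx'
      rw [Ideal.Quotient.eq] at hyx
      have hy' : y ∈ K.map φ := by simpa using hy
      have hxy : x - y ∈ I • I := by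
        have : y - x ∈ I ^ 2 := hyx
        rw [pow_two] at this
        have h3 : x - y = -(y - x) := by ring
        rw [h3, smul_eq_mul]
        exact (I * I).neg_mem this
      have : x = y + (x - y) := by ring
      rw [this]
      exact Submodule.add_mem_sup hy' hxy
    exact Submodule.le_of_le_smul_of_le_jacobson_bot (IsNoetherian.noetherian I)
      (IsAdicComplete.le_jacobson_bot I) hsup
  · intro hK n
    have hpush := Groth.Agent.H20.isPushout_of_surjective
      (FSch.quotPowMap I K φ h (n + 1))
      (Ideal.Quotient.factor (Ideal.pow_le_pow_right (I := K) (Nat.le_succ (n + 1))))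
      (Ideal.Quotient.factor (Ideal.pow_le_pow_right (I := I) (Nat.le_succ (n + 1))))
      (FSch.quotPowMap I K φ h n)
      (Ideal.Quotient.factor_surjective _) (Ideal.Quotient.factor_surjective _) (hcomm n)
      (by rw [hker n, hK, Ideal.Quotient.factor_ker])
    exact isPullback_SpecMap_of_isPushout _ _ _ _ hpush

end Groth.Agent.S3867
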