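import Groth.Statements.S3872
import Groth.Agent.H20.ComplMap

set_option autoImplicit false
universe u
open FCompl

namespace Groth.Agent.S3872

/-- For a ring A, an ideal J and a prime ideal 𝔭 with J ⊆ 𝔭, let A{S⁻¹}, S = A ∖ 𝔭, be the completion of
A_𝔭 for the topology defined by the extension of J, and A_{S} the subring of A{S⁻¹} generated by the
images of the completed localizations A_{f}, f ∉ 𝔭 (the stalk ring of Spf(A) at 𝔭). Given that A_{S}
and A{S⁻¹} are local rings and that the inclusion A_{S} → A{S⁻¹} and the canonical map A_𝔭 → A{S⁻¹}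
are local homomorphisms (all four are carried here as instance hypotheses; the two about A_{S} are
stated separately), both maps induce bijections on residue fields; so the residue field of A_{S} is
the residue field κ(𝔭) of A_𝔭. -/
theorem result (A : Type u) [CommRing A] (J : Ideal A) (𝔭 : Ideal A)
    [𝔭.IsPrime] (hJ : J ≤ 𝔭) [IsLocalRing (FSch.stalkSubring A J 𝔭)] [IsLocalRing (FSch.cAtPrime A J 𝔭)]
    [IsLocalHom (FSch.stalkSubring A J 𝔭).subtype]
    [IsLocalHom (algebraMap (Localization.AtPrime 𝔭) (FSch.cAtPrime A J 𝔭))] :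
    Function.Bijective (IsLocalRing.ResidueField.map (FSch.stalkSubring A J 𝔭).subtype) ∧
      Function.Bijective
        (IsLocalRing.ResidueField.map (algebraMap (Localization.AtPrime 𝔭) (FSch.cAtPrime A J 𝔭))) := by
  let B := Localization.AtPrime 𝔭
  let I : Ideal B := J.map (algebraMap A B)
  have hI : I ≤ IsLocalRing.maximalIdeal B := by
    rw [← IsLocalization.AtPrime.map_eq_maximalIdeal 𝔭 B]
    exact Ideal.map_mono hJ
  have hker : ∀ x : FSch.cAtPrime A J 𝔭, AdicCompletion.evalₐ I 1 x = 0 →
      x ∈ IsLocalRing.maximalIdeal (FSch.cAtPrime A J 𝔭) := by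
    intro x hx
    by_contra hmem
    have hu : IsUnit x := IsLocalRing.notMem_maximalIdeal.mp hmem
    have hu' := hu.map (AdicCompletion.evalₐ I 1)
    rw [hx, isUnit_zero_iff] at hu'
    have h1 : (1 : B) ∈ I ^ 1 := by
      rw [← Ideal.Quotient.eq_zero_iff_mem, map_one]
      exact hu'.symm
    rw [pow_one] at h1
    exact (IsLocalRing.maximalIdeal.isMaximal B).ne_top
      (Ideal.eq_top_of_isUnit_mem _ (hI h1) isUnit_one)
  -- every residue class of the completion comes from `A_𝔭`
  have hrep : ∀ c : FSch.cAtPrime A J 𝔭, ∃ b : B,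
      IsLocalRing.residue _ (AdicCompletion.of I B b) = IsLocalRing.residue _ c := by
    intro c
    obtain ⟨b, hb⟩ := Ideal.Quotient.mk_surjective (AdicCompletion.evalₐ I 1 c)
    refine ⟨b, ?_⟩
    rw [← sub_eq_zero, ← map_sub, IsLocalRing.residue_eq_zero_iff]
    apply hker
    rw [map_sub, AdicCompletion.evalₐ_of, hb, sub_self]
  refine ⟨⟨RingHom.injective _, ?_⟩, ⟨RingHom.injective _, ?_⟩⟩
  · intro y
    obtain ⟨c, rfl⟩ := IsLocalRing.residue_surjective y
    obtain ⟨b, hb⟩ := hrep c
    obtain ⟨a, s, rfl⟩ := IsLocalization.exists_mk'_eq 𝔭.primeCompl b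
    have hf : (s : A) ∉ 𝔭 := s.2
    let y' : Localization.Away (s : A) :=
      IsLocalization.mk' (Localization.Away (s : A)) a
        (⟨(s : A), ⟨1, pow_one _⟩⟩ : Submonoid.powers (s : A))
    have hy' : FSch.awayToAtPrime A 𝔭 (s : A) hf y' = IsLocalization.mk' B a s := by
      unfold FSch.awayToAtPrime IsLocalization.Away.lift
      rw [IsLocalization.lift_mk'_spec]
      exact (IsLocalization.mk'_spec' B a s).symm
    have hmem : AdicCompletion.of I B (IsLocalization.mk' B a s) ∈ FSch.stalkSubring A J 𝔭 := by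
      have h1 : FSch.cAwayToAtPrime A J 𝔭 (s : A) hf (AdicCompletion.of _ _ y') =
          AdicCompletion.of I B (IsLocalization.mk' B a s) := by
        unfold FSch.cAwayToAtPrime
        rw [Groth.Agent.H20.complMap_of, hy']
      rw [← h1]
      have hle : (FSch.cAwayToAtPrime A J 𝔭 (s : A) hf).range ≤ FSch.stalkSubring A J 𝔭 :=
        le_iSup (fun f : {f : A // f ∉ 𝔭} => (FSch.cAwayToAtPrime A J 𝔭 f.1 f.2).range)
          ⟨(s : A), hf⟩
      exact hle ⟨_, rfl⟩
    refine ⟨IsLocalRing.residue _ ⟨_, hmem⟩, ?_⟩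
    rw [IsLocalRing.ResidueField.map_residue]
    exact hb
  · intro y
    obtain ⟨c, rfl⟩ := IsLocalRing.residue_surjective y
    obtain ⟨b, hb⟩ := hrep c
    refine ⟨IsLocalRing.residue _ b, ?_⟩
    rw [IsLocalRing.ResidueField.map_residue, AdicCompletion.algebraMap_apply]
    exact hb

end Groth.Agent.S3872
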