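import Groth.Statements.S3874
import Groth.Agent.H20.AdicQuot

set_option autoImplicit false
universe u
open FCompl

namespace Groth.Agent.S3874

/-- Let A be a Noetherian ring, J an ideal, f ∈ A and n ≥ 0, and let A_{f} be the completion of the
localization A_f for the topology defined by the extension of J. There is a ring isomorphism from
the localization of A/J^(n+1) away from the class of f onto A_{f} modulo the (n+1)-st power of the
extension of J to A_{f}, compatible with the canonical maps from A (and hence unique). In terms of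
formal spectra: the open D(f) of Spf(A) is Spf(A_{f}), and at level n its ring is the ring
(A/J^(n+1))_f of the open D(f) of Spec(A/J^(n+1)). -/
theorem result (A : Type u) [CommRing A] [IsNoetherianRing A] (J : Ideal A)
    (f : A) (n : ℕ) :
    ∃ e : Localization.Away (Ideal.Quotient.mk (J ^ (n + 1)) f) ≃+*
        FSch.cAway A J f ⧸ (J.map (algebraMap A (FSch.cAway A J f))) ^ (n + 1),
      ∀ a : A, e (algebraMap (A ⧸ J ^ (n + 1)) _ (Ideal.Quotient.mk (J ^ (n + 1)) a)) =
        Ideal.Quotient.mk _ (algebraMap A (FSch.cAway A J f) a) := by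
  let B := Localization.Away f
  let I : Ideal B := J.map (algebraMap A B)
  have hIfg : I.FG := IsNoetherian.noetherian I
  -- Step 1: the quotient of the localization is the localization of the quotient
  have hloc : IsLocalization.Away (Ideal.Quotient.mk (J ^ (n + 1)) f)
      (B ⧸ (J ^ (n + 1)).map (algebraMap A B)) := by
    have h0 : IsLocalization (Algebra.algebraMapSubmonoid (A ⧸ J ^ (n + 1)) (Submonoid.powers f))
        (B ⧸ (J ^ (n + 1)).map (algebraMap A B)) := inferInstance
    have h1 : Algebra.algebraMapSubmonoid (A ⧸ J ^ (n + 1)) (Submonoid.powers f) =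
        Submonoid.powers (Ideal.Quotient.mk (J ^ (n + 1)) f) := by
      rw [Algebra.algebraMapSubmonoid, Submonoid.map_powers]
      rfl
    rw [h1] at h0
    exact h0
  let e₁ : Localization.Away (Ideal.Quotient.mk (J ^ (n + 1)) f) ≃ₐ[A ⧸ J ^ (n + 1)]
      (B ⧸ (J ^ (n + 1)).map (algebraMap A B)) :=
    IsLocalization.algEquiv (Submonoid.powers (Ideal.Quotient.mk (J ^ (n + 1)) f)) _ _
  have hpow : (J ^ (n + 1)).map (algebraMap A B) = I ^ (n + 1) := Ideal.map_pow _ _ _
  let e₂ : (B ⧸ (J ^ (n + 1)).map (algebraMap A B)) ≃+* (B ⧸ I ^ (n + 1)) :=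
    Ideal.quotEquivOfEq hpow
  let ev : AdicCompletion I B →+* B ⧸ I ^ (n + 1) := (AdicCompletion.evalₐ I (n + 1)).toRingHom
  have hev : Function.Surjective ev := AdicCompletion.surjective_evalₐ I (n + 1)
  let e₃ : (AdicCompletion I B ⧸ RingHom.ker ev) ≃+* (B ⧸ I ^ (n + 1)) :=
    RingHom.quotientKerEquivOfSurjective hev
  have hker : RingHom.ker ev =
      (J.map (algebraMap A (AdicCompletion I B))) ^ (n + 1) := by
    have h1 : RingHom.ker ev = (I ^ (n + 1)).map (algebraMap B (AdicCompletion I B)) :=
      Groth.Agent.H20.ker_evalₐ_eq_map I hIfg (n + 1)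
    rw [h1, Ideal.map_pow, Ideal.map_map, ← IsScalarTower.algebraMap_eq]
  let e₄ : (AdicCompletion I B ⧸ RingHom.ker ev) ≃+*
      (AdicCompletion I B ⧸ (J.map (algebraMap A (AdicCompletion I B))) ^ (n + 1)) :=
    Ideal.quotEquivOfEq hker
  refine ⟨e₁.toRingEquiv.trans (e₂.trans (e₃.symm.trans e₄)), ?_⟩
  intro a
  have s1 : e₁ (algebraMap (A ⧸ J ^ (n + 1)) _ (Ideal.Quotient.mk (J ^ (n + 1)) a)) =
      Ideal.Quotient.mk _ (algebraMap A B a) := by
    rw [AlgEquiv.commutes]
    rfl
  have s3 : e₃.symm (Ideal.Quotient.mk (I ^ (n + 1)) (algebraMap A B a)) =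
      Ideal.Quotient.mk _ (algebraMap A (AdicCompletion I B) a) := by
    rw [RingEquiv.symm_apply_eq]
    change _ = ev (algebraMap A (AdicCompletion I B) a)
    rw [AdicCompletion.algebraMap_apply]
    exact (AdicCompletion.evalₐ_of I (n + 1) (algebraMap A B a)).symm
  change e₄ (e₃.symm (e₂ (e₁ _))) = _
  rw [s1]
  change e₄ (e₃.symm (Ideal.Quotient.mk (I ^ (n + 1)) (algebraMap A B a))) = _
  rw [s3]
  rfl

end Groth.Agent.S3874
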