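import Groth.Statements.S3875
import Groth.Agent.H20.ComapMul
import Groth.Agent.H20.SysPullback

set_option autoImplicit false
universe u
open FCompl

namespace Groth.Agent.S3875

open AlgebraicGeometry in
open CategoryTheory in
open CategoryTheory.Limits in
/-- Let g : X → S and h : Y → S be morphisms of schemes, R an ideal sheaf on X and J an ideal sheaf on
S, and consider the completions of S along J, of X along R, of Y along the inverse image of J under
h, and of X x_S Y along the inverse image of R under the first projection (completions presented by
the subschemes of the powers of these ideal sheaves); this is the case where the closed subset of Y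
is the full preimage of that of S. The four compatibility hypotheses between the powers of the ideal
sheaves (for g, for h, and for the two projections of X x_S Y): for each n, the inverse image of the
(n+1)-st power of the target ideal sheaf is contained in the (n+1)-st power of the source ideal
sheaf. These are hypotheses, carried as data for the completed morphisms; the published statement
assumes the schemes locally Noetherian, which this identity does not need. Then the square of
completed morphisms from the completion of X x_S Y along the preimage of the closed subset of X, to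
the completions of X and of Y, over the completion of S, is cartesian in the category of systems. -/
theorem result {X Y S : Scheme.{u}} (g : X ⟶ S) (h : Y ⟶ S)
    (𝓡 : X.IdealSheafData) (𝓙 : S.IdealSheafData)
    (hg : FSch.PowCompat g 𝓡 𝓙) (hh : FSch.PowCompat h (𝓙.comap h) 𝓙)
    (hp : FSch.PowCompat (pullback.fst g h) (𝓡.comap (pullback.fst g h)) 𝓡)
    (hq : FSch.PowCompat (pullback.snd g h) (𝓡.comap (pullback.fst g h)) (𝓙.comap h)) :
    IsPullback (FSch.completionMap (pullback.fst g h) (𝓡.comap (pullback.fst g h)) 𝓡 hp)
      (FSch.completionMap (pullback.snd g h) (𝓡.comap (pullback.fst g h)) (𝓙.comap h) hq)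
      (FSch.completionMap g 𝓡 𝓙 hg) (FSch.completionMap h (𝓙.comap h) 𝓙 hh) := by
  apply Groth.Agent.H20.sys_isPullback_of_levelwise
  intro n
  have HP : IsPullback ((𝓡.comap (pullback.fst g h)) ^ (n + 1)).subschemeι
      (Scheme.IdealSheafData.subschemeMap ((𝓡.comap (pullback.fst g h)) ^ (n + 1)) (𝓡 ^ (n + 1))
        (pullback.fst g h) (Scheme.IdealSheafData.le_map_iff_comap_le.mpr (hp n)))
      (pullback.fst g h) (𝓡 ^ (n + 1)).subschemeι := by
    refine isPullback_of_isClosedImmersion _ _ _ _ ?_ ?_
    · exact (Scheme.IdealSheafData.subschemeMap_subschemeι _ _ _ _).symm
    · rw [Scheme.IdealSheafData.ker_subschemeι, Scheme.IdealSheafData.ker_subschemeι,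
        Groth.Agent.H20.comap_pow]
  have m1 : Mono ((𝓙.comap h) ^ (n + 1)).subschemeι := inferInstance
  have m2 : Mono (𝓙 ^ (n + 1)).subschemeι := inferInstance
  exact Groth.Agent.H20.isPullback_of_mono_squares' (IsPullback.of_hasPullback g h) m1 m2 HP
    (Scheme.IdealSheafData.subschemeMap_subschemeι _ _ (pullback.snd g h)
      (Scheme.IdealSheafData.le_map_iff_comap_le.mpr (hq n)))
    (Scheme.IdealSheafData.subschemeMap_subschemeι _ _ g
      (Scheme.IdealSheafData.le_map_iff_comap_le.mpr (hg n)))
    (Scheme.IdealSheafData.subschemeMap_subschemeι _ _ h
      (Scheme.IdealSheafData.le_map_iff_comap_le.mpr (hh n)))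

end Groth.Agent.S3875
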