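import Groth.Statements.S3878
import Groth.Agent.S3876
import Groth.Agent.S0882
import Groth.Agent.H31.PushHU
-- import your own Groth.Agent.* helpers here

set_option autoImplicit false
open CategoryTheory CategoryTheory.Limits Opposite
universe u
open ToposFin

open Groth.Agent.H31.SieveExt Groth.Agent.H31.PushHU CategoryTheory.Abelian

namespace Groth.Agent.S3878

/-- Let (C, J) and (D, K) be small sites and u : D ⥤ C a continuous functor, giving a morphism of topoi
whose direct image on sheaves is F ↦ F ∘ u, with right derived functors R^q on abelian sheaves.
Assume that the topos of sheaves on (C, J) is algebraic and that for every object V of D the sheaf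
on C attached to u(V), which is the inverse image of the sheaf attached to V, is coherent. Then for
every q the higher direct image functor R^q on abelian sheaves preserves colimits indexed by any
small filtered category. The published hypotheses (a coherent morphism from an algebraic topos to a
locally coherent topos) give this situation with D the site of coherent algebraic objects of the
target. -/
theorem result {C D : Type u} [SmallCategory C]
    [SmallCategory D] (J : GrothendieckTopology C) (K : GrothendieckTopology D) (hE : ToposFin.IsAlgebraic J)
    (u : D ⥤ C) [u.IsContinuous K J] (hu : ∀ V : D, ToposFin.IsCoherent (ToposFin.eps J (u.obj V)))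
    (Λ : Type u) [SmallCategory Λ] [IsFiltered Λ] (q : ℕ) :
    PreservesColimitsOfShape Λ (CohSite.Rpush J K u q) := by
  constructor
  intro F
  refine Groth.Agent.S0882.result J K u F q (fun V => ?_)
  refine ⟨PUnit.{u + 1}, fun _ => V, fun _ => 𝟙 V, ?_, fun _ => ?_⟩
  · have h1 : (Sieve.ofArrows (fun _ : PUnit.{u + 1} => V) (fun _ => 𝟙 V)) (𝟙 V) :=
      Sieve.ofArrows_mk _ _ PUnit.unit
    rw [Sieve.id_mem_iff_eq_top.1 h1]
    exact K.top_mem V
  · have h1 : PreservesColimitsOfShape Λ
        ((extFunctor.{u} q).obj (op (Zs J (ToposFin.eps J (u.obj V)).obj))) :=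
      Groth.Agent.S3876.result hE (ToposFin.eps J (u.obj V)) (hu V) Λ q
    have e : (extFunctor.{u} q).obj (op (Zs J (ToposFin.eps J (u.obj V)).obj)) ≅
        (extFunctor.{u} q).obj (op (Zs J (yoneda.obj (u.obj V)))) :=
      (extFunctor.{u} q).mapIso (ZsSheafifyIso J (yoneda.obj (u.obj V))).op
    have h2 : PreservesColimitsOfShape Λ
        ((extFunctor.{u} q).obj (op (Zs J (yoneda.obj (u.obj V))))) :=
      preservesColimitsOfShape_of_natIso e
    have h3 : PreservesColimit F ((extFunctor.{u} q).obj (op (Zs J (yoneda.obj (u.obj V))))) :=
      inferInstance
    exact h3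

end Groth.Agent.S3878
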