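import Groth.Statements.S3893
import Groth.Agent.H34.CechSS5

set_option autoImplicit false
universe u
open CategoryTheory
open Hyper

namespace Groth.Agent.S3893

open Opposite CategoryTheory.Limits in
/-- (Degenerate case of the spectral sequence of a hypercovering; hypercoverings of an object X of a
small site with fibre products, coskeleta assumed to exist.) Let F be an abelian sheaf with H^q(U,
F) = 0 for every object U of the site and every q > 0. Then for every hypercovering K of X the Cech
cohomology groups of F with respect to K vanish in positive degrees. -/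
theorem result {C : Type u} [SmallCategory C] [HasPullbacks C]
    (J : GrothendieckTopology C) (X : C)
    [∀ (n : ℕ) (F : (SimplexCategory.Truncated n)ᵒᵖ ⥤ Limits.FormalCoproduct.{u} (Over X)),
      (SimplexCategory.Truncated.inclusion n).op.HasRightKanExtension F]
    (F : Sheaf J AddCommGrpCat.{u}) (hF : ∀ (U : C) (q : ℕ), Subsingleton (CohSite.HU F (q + 1) U))
    (K : SimplicialObject (FormalCoproduct.{u} (Over X))) (hK : Hyper.IsHypercovering J X K) (p : ℕ) :
    IsZero (Hyper.cechH X K F.obj (p + 1)) := by
  open Groth.Agent.H34.CechSS Groth.Agent.H30 in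
  let _ : HasDerivedCategory.{u + 1} (Groth.Agent.H34.CechSS.BB.{u}) := HasDerivedCategory.standard _
  let _ : HasDerivedCategory.{u + 1} AddCommGrpCat.{u} := HasDerivedCategory.standard _
  -- the higher derived functors of the Čech complex functor vanish on `F`
  have hz : ∀ q : ℕ, 0 < q → IsZero (((Tx J X K).rightDerived q).obj F) := by
    intro q hq
    obtain ⟨j, rfl⟩ : ∃ j, q = j + 1 := ⟨q - 1, by lia⟩
    obtain ⟨e⟩ := nonempty_rightDerived_Tx_iso J X K F (j + 1)
    refine IsZero.of_iso ?_ e
    have hP : IsZero ((Over.forget X).op ⋙ Sheaf.cohomologyPresheaf F (j + 1)) := by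
      rw [Functor.isZero_iff]
      intro V
      have hs : Subsingleton (CohSite.HU F (j + 1) V.unop.left) := hF V.unop.left j
      exact @AddCommGrpCat.isZero_of_subsingleton _ hs
    exact Functor.map_isZero (CK K) hP
  obtain ⟨e1⟩ := Degenerate.iso_of_isZero_higher (Tx J X K) (Hn.{u} 0)
    (fun Q _ q hq => hTx J X K hK Q q hq) F hz (p + 1)
  obtain ⟨e2⟩ := nonempty_abut_iso J X K hK F (p + 1)
  obtain ⟨e3⟩ := Groth.Agent.H34.CechSS.nonempty_rightDerived_iso
    (((Tx J X K).rightDerived 0).obj F) (p + 1)
  let e4 : ((Tx J X K).rightDerived 0).obj F ≅ (Tx J X K).obj F :=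
    (Tx J X K).rightDerivedZeroIsoSelf.app F
  obtain ⟨e5⟩ := Groth.Agent.S0482.result J F X (p + 1)
  have : Subsingleton (CohSite.HU F (p + 1) X) := hF X p
  have hsub : Subsingleton (Sheaf.H.{u} (F.over X) (p + 1)) := e5.symm.subsingleton
  have h0 : IsZero (AddCommGrpCat.of (Sheaf.H.{u} (F.over X) (p + 1))) :=
    AddCommGrpCat.isZero_of_subsingleton _
  have h1 : IsZero (((Hn.{u} 0).rightDerived (p + 1)).obj (((Tx J X K).rightDerived 0).obj F)) :=
    IsZero.of_iso h0 (e1.symm ≪≫ e2)
  have h2 : IsZero ((((Tx J X K).rightDerived 0).obj F).homology (p + 1)) :=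
    IsZero.of_iso h1 e3.symm
  exact IsZero.of_iso h2 ((HomologicalComplex.homologyFunctor _ _ (p + 1)).mapIso e4.symm)

end Groth.Agent.S3893
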