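import Groth.Statements.S3894
-- import your own Groth.Agent.* helpers here

set_option autoImplicit false
universe u
open CategoryTheory CategoryTheory.Limits Opposite
open Tors

namespace Groth.Agent.S3894

/-- A torsor P under an abelian sheaf G is trivial, i.e. equivariantly isomorphic to G acting on itself
by translations, if and only if P has a global section (a morphism from the final sheaf of sets). -/
theorem result {C : Type u} [SmallCategory C] {J : GrothendieckTopology C}
    {G : Sheaf J AddCommGrpCat.{u}} (T : Tors.Torsor G) : T.IsTrivial ↔ T.HasSection := by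
  constructor
  · rintro ⟨e, -⟩
    let z : ⊤_ (Sheaf J (Type u)) ⟶ (sheafCompose J (forget AddCommGrpCat.{u})).obj G :=
      ⟨{ app := fun U => ↾(fun _ => (0 : G.obj.obj U))
         naturality := by
           intro U V f
           ext x
           exact (map_zero (G.obj.map f).hom).symm }⟩
    exact ⟨z ≫ e.hom⟩
  · rintro ⟨s⟩
    let One : Sheaf J (Type u) := Sheaf.terminal J Types.isTerminalPUnit
    let s' : One ⟶ T.P := terminal.from One ≫ s
    let σ : ∀ U : Cᵒᵖ, T.P.obj.obj U := fun U => s'.hom.app U PUnit.unit
    have hσ : ∀ {U V : Cᵒᵖ} (f : U ⟶ V), T.P.obj.map f (σ U) = σ V := by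
      intro U V f
      have := congrArg (fun (k : One.obj.obj U ⟶ T.P.obj.obj V) => k PUnit.unit)
        (s'.hom.naturality f)
      exact this.symm
    let φ : (sheafCompose J (forget AddCommGrpCat.{u})).obj G ⟶ T.P :=
      ⟨{ app := fun U => ↾(fun g => T.vadd (U := U) g (σ U))
         naturality := by
           intro U V f
           ext g
           exact ((T.map_vadd f g (σ U)).trans (congrArg _ (hσ f))).symm }⟩
    have hφ : IsIso φ := by
      have : IsIso φ.hom := by
        apply (config := { allowSynthFailures := true }) NatIso.isIso_of_isIso_app
        intro U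
        rw [isIso_iff_bijective]
        constructor
        · intro g g' hgg
          exact (T.free_transitive (σ U) (T.vadd g' (σ U))).unique hgg rfl
        · intro q
          obtain ⟨g, hg, -⟩ := T.free_transitive (σ U) q
          exact ⟨g, hg⟩
      have : IsIso ((sheafToPresheaf J (Type u)).map φ) := this
      exact isIso_of_reflects_iso φ (sheafToPresheaf J (Type u))
    refine ⟨asIso φ, ?_⟩
    intro U g h
    exact T.add_vadd g h (σ U)

end Groth.Agent.S3894
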