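import Groth.Statements.S3898
import Groth.Agent.H60.CohExt
import Groth.Agent.H31.MonoRestr
-- import your own Groth.Agent.* helpers here

set_option autoImplicit false
open CategoryTheory CategoryTheory.Limits Opposite
universe u
open ToposFin

open Groth.Agent.H28 Groth.Agent.H31.SieveExt Groth.Agent.H31.LocTriv Groth.Agent.H31.MonoRestr
open Groth.Agent.H60.ExtColim Groth.Agent.H60.CohExt CategoryTheory.Abelian

namespace Groth.Agent.S3898

/-- For a single coherent open (topos of sheaves on a small site): let E be a coherent topos (algebraic
with coherent final object) and U a coherent subobject of the final object, with closed complement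
Z. Then for every q the functor F ↦ H^q_Z(E, F) (Ext groups out of Z/Z_U) preserves colimits indexed
by any small filtered category. The source states this for the family of supports attached to a
decreasing filtered family of such U, which is the filtered colimit of these cases. -/
theorem result {C : Type u} [SmallCategory C]
    {J : GrothendieckTopology C} (hE : ToposFin.IsAlgebraic J) (hT : ToposFin.IsCoherent (⊤_ (ToposFin.Sh J)))
    (U : ToposFin.Sh J) [Mono (terminal.from U)] (hU : ToposFin.IsCoherent U)
    (Λ : Type u) [SmallCategory Λ] [IsFiltered Λ] (q : ℕ) :
    PreservesColimitsOfShape Λ (ToposFin.HZFunctor U q) := by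
  obtain ⟨S, hqc, hgen, hpb, heq⟩ := hE
  have hS : CoversAll S := CoversAll.of_isGenerating hgen
  have hE' : HasQCGenerators J := coversAll_qc_iff.1 (coversAll_qc_of_subset hS hqc)
  let S₀ : ShortComplex (Sheaf J AddCommGrpCat.{u}) :=
    ShortComplex.mk (ZsMap (terminal.from U)) (cokernel.π (ZsMap (terminal.from U)))
      (cokernel.condition _)
  have hS₀ : S₀.ShortExact :=
    { exact := ShortComplex.exact_of_g_is_cokernel _ (cokernelIsCokernel _)
      mono_f := by
        change Mono (ZsMap (terminal.from U))
        infer_instance
      epi_g := by
        change Epi (cokernel.π _)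
        infer_instance }
  refine preservesColimitsOfShape_extFunctor (ToposFin.quotZ U) q (fun D => ?_)
  exact surj_inj_X₃ S₀ hS₀
    (fun D => surj0_inj0_of_isFP (isFP_of_isCoherent hE' hU) D)
    (fun D => surj0_inj0_of_isFP (isFP_of_isCoherent hE' hT) D)
    (fun D hD q x => acyc_of_isCoherent hqc hS hpb heq hU D hD q x)
    (fun D hD q x => acyc_of_isCoherent hqc hS hpb heq hT D hD q x) q D

end Groth.Agent.S3898
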