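import Groth.Statements.S4064
import Mathlib.CategoryTheory.Abelian.Refinements
import Groth.Agent.H20.ExtRep

set_option autoImplicit false
universe w v v'
open CategoryTheory CategoryTheory.Abelian
open SGA7

namespace Groth.Agent.S4064

/-- Let P -> F -> R and R -> E -> Q be short exact sequences in an abelian category (F an extension of R
by P, E an extension of Q by R). A blended extension of E by F is an object X with a monomorphism i
: F -> X and an epimorphism p : X -> E such that P -> X -> E (via i) and F -> X -> Q (via p) are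
short exact and F -> X -> E is the composite F -> R -> E. Such an X exists if and only if the
composite of the two extension classes, an element of Ext^2(Q, P), is zero. -/
theorem result {C : Type w} [Category.{v} C] [Abelian C]
    [HasExt.{v'} C] {P F R E Q : C} (a : P ⟶ F) (b : F ⟶ R) (wF : a ≫ b = 0)
    (hF : (ShortComplex.mk a b wF).ShortExact) (c : R ⟶ E) (d : E ⟶ Q) (wE : c ≫ d = 0)
    (hE : (ShortComplex.mk c d wE).ShortExact) :
    (∃ (X : C) (i : F ⟶ X) (p : X ⟶ E), i ≫ p = b ≫ c ∧
        (∃ w : (a ≫ i) ≫ p = 0, (ShortComplex.mk (a ≫ i) p w).ShortExact) ∧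
        (∃ w : i ≫ (p ≫ d) = 0, (ShortComplex.mk i (p ≫ d) w).ShortExact)) ↔
      hE.extClass.comp hF.extClass (rfl : 1 + 1 = 2) = 0 := by
  constructor
  · rintro ⟨X, i, p, hip, ⟨w1, h1⟩, ⟨w2, h2⟩⟩
    let φ : ShortComplex.mk i (p ≫ d) w2 ⟶ ShortComplex.mk c d wE :=
      { τ₁ := b, τ₂ := p, τ₃ := 𝟙 Q, comm₁₂ := hip.symm, comm₂₃ := by simp }
    have hnat := ShortComplex.ShortExact.extClass_naturality h2 hE φ
    have hnat' : hE.extClass = h2.extClass.comp (Ext.mk₀ b) (add_zero 1) := by
      rw [hnat]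
      exact (Ext.mk₀_id_comp _).symm
    rw [hnat', Ext.comp_assoc_of_second_deg_zero]
    have hz : (Ext.mk₀ b).comp hF.extClass (zero_add 1) = 0 := hF.comp_extClass
    rw [hz, Ext.comp_zero]
  · intro h0
    obtain ⟨β, hβ⟩ := Ext.covariant_sequence_exact₃ Q hF hE.extClass rfl h0
    obtain ⟨X, i, π, w, hS, hSβ⟩ := Groth.Agent.H20.exists_shortExact_extClass_eq β
    obtain ⟨φ, hφ1, hφ3⟩ := Groth.Agent.H20.exists_hom_of_extClass_comp_eq hS hE b (𝟙 Q)
      (by rw [hSβ, Ext.mk₀_id_comp]; exact hβ)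
    have hip : i ≫ φ.τ₂ = b ≫ c := by
      have := φ.comm₁₂
      rw [hφ1] at this
      exact this.symm
    have hpd : φ.τ₂ ≫ d = π := by
      have := φ.comm₂₃
      rw [hφ3] at this
      simpa using this
    have : Mono a := hF.mono_f
    have : Epi b := hF.epi_g
    have : Mono c := hE.mono_f
    have : Epi d := hE.epi_g
    have : Mono i := hS.mono_f
    have : Epi π := hS.epi_g
    have w1 : (a ≫ i) ≫ φ.τ₂ = 0 := by
      rw [Category.assoc, hip, reassoc_of% wF, Limits.zero_comp]
    have w2 : i ≫ (φ.τ₂ ≫ d) = 0 := by rw [hpd]; exact w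
    refine ⟨X, i, φ.τ₂, hip, ⟨w1, ?_⟩, ⟨w2, ?_⟩⟩
    · have hepi : Epi φ.τ₂ := by
        rw [epi_iff_surjective_up_to_refinements]
        intro A y
        obtain ⟨A₁, π₁, _, x₁, hx₁⟩ := surjective_up_to_refinements_of_epi π (y ≫ d)
        have hz : (π₁ ≫ y - x₁ ≫ φ.τ₂) ≫ d = 0 := by
          rw [Preadditive.sub_comp, Category.assoc, Category.assoc, hpd, hx₁, sub_self]
        obtain ⟨A₂, π₂, _, r, hr⟩ := hE.exact.exact_up_to_refinements _ hz
        obtain ⟨A₃, π₃, _, f, hf⟩ := surjective_up_to_refinements_of_epi b r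
        refine ⟨A₃, π₃ ≫ π₂ ≫ π₁, inferInstance, π₃ ≫ π₂ ≫ x₁ + f ≫ i, ?_⟩
        dsimp at hr
        rw [Preadditive.add_comp, Category.assoc, Category.assoc, Category.assoc, Category.assoc,
          Category.assoc, hip, ← reassoc_of% hf, ← hr, Preadditive.comp_sub,
          Preadditive.comp_sub]
        abel
      refine { exact := ?_ }
      rw [ShortComplex.exact_iff_exact_up_to_refinements]
      intro A x hx
      dsimp at x hx ⊢
      have hxπ : x ≫ π = 0 := by rw [← hpd, reassoc_of% hx, Limits.zero_comp]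
      obtain ⟨A₁, π₁, _, f, hf⟩ := hS.exact.exact_up_to_refinements x hxπ
      dsimp at f hf
      have hfb : f ≫ b = 0 := by
        rw [← cancel_mono c, Category.assoc, ← hip, ← reassoc_of% hf, hx, Limits.comp_zero, Limits.zero_comp]
      obtain ⟨A₂, π₂, _, z, hz⟩ := hF.exact.exact_up_to_refinements f hfb
      dsimp at z hz
      exact ⟨A₂, π₂ ≫ π₁, inferInstance, z, by
        rw [Category.assoc, hf, reassoc_of% hz]⟩
    · exact ShortComplex.shortExact_of_iso
        (ShortComplex.isoMk (Iso.refl _) (Iso.refl _) (Iso.refl _) (by simp) (by simp [hpd]) :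
          ShortComplex.mk i π w ≅ ShortComplex.mk i (φ.τ₂ ≫ d) w2) hS

end Groth.Agent.S4064
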