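import Groth.Statements.S4091
import Groth.Agent.H53.LftFppfSource2
import Groth.Agent.H53.LfpFppfSource
-- import your own Groth.Agent.* helpers here

set_option autoImplicit false
universe u
open CategoryTheory MonoidalCategory CartesianMonoidalCategory MonObj GrpObj AlgebraicGeometry CategoryTheory.Limits
open GrpQ

namespace Groth.Agent.S4091

set_option backward.isDefEq.respectTransparency.types false in
theorem qs_eq : @QuasiSeparated.{u} =
    targetAffineLocally (fun X _ _ _ ↦ QuasiSeparatedSpace X) :=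
  HasAffineProperty.eq_targetAffineLocally (P := @QuasiSeparated)
    (Q := fun X _ _ _ ↦ QuasiSeparatedSpace X)

theorem quasiCompact_of_comp_surjective {X Y S : Scheme.{u}} (p : X ⟶ Y) (q : Y ⟶ S)
    [Surjective p] [QuasiCompact (p ≫ q)] : QuasiCompact q := by
  refine ⟨fun U hU hU' => ?_⟩
  have h1 : IsCompact ((p ≫ q) ⁻¹' U) := QuasiCompact.isCompact_preimage U hU hU'
  have h2 : q ⁻¹' U = p '' ((p ≫ q) ⁻¹' U) := by
    have : ((p ≫ q) ⁻¹' U : Set X) = p ⁻¹' (q ⁻¹' U) := by
      ext x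
      simp
    rw [this, Set.image_preimage_eq _ p.surjective]
  rw [h2]
  exact h1.image p.continuous

theorem isQuasiSeparated_of_qs {X S : Scheme.{u}} (r : X ⟶ S) [QuasiSeparated r]
    (U : S.affineOpens) : IsQuasiSeparated ((r ⁻¹ᵁ U.1 : X.Opens) : Set X) := by
  have h : targetAffineLocally (fun X _ _ _ ↦ QuasiSeparatedSpace X) r := by
    rw [← qs_eq]
    infer_instance
  have h1 : QuasiSeparatedSpace ↥(r ⁻¹ᵁ U.1) := h U
  exact (isQuasiSeparated_iff_quasiSeparatedSpace _ (r ⁻¹ᵁ U.1).2).2 h1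

theorem quasiSeparated_of_comp_surjective {X Y S : Scheme.{u}} (p : X ⟶ Y) (q : Y ⟶ S)
    [Surjective p] [QuasiCompact p] [QuasiSeparated (p ≫ q)] : QuasiSeparated q := by
  rw [qs_eq]
  intro U
  show QuasiSeparatedSpace ↥(q ⁻¹ᵁ U.1)
  refine (isQuasiSeparated_iff_quasiSeparatedSpace _ (q ⁻¹ᵁ U.1).2).1 ?_
  have hX := isQuasiSeparated_of_qs (p ≫ q) U
  intro V₁ V₂ hV₁ hV₁o hV₁c hV₂ hV₂o hV₂c
  have h1 : IsCompact (p ⁻¹' V₁ ∩ p ⁻¹' V₂) := by
    refine hX _ _ ?_ (hV₁o.preimage p.continuous)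
      (QuasiCompact.isCompact_preimage V₁ hV₁o hV₁c) ?_ (hV₂o.preimage p.continuous)
      (QuasiCompact.isCompact_preimage V₂ hV₂o hV₂c)
    · intro x hx
      exact hV₁ hx
    · intro x hx
      exact hV₂ hx
  have h2 : V₁ ∩ V₂ = p '' (p ⁻¹' V₁ ∩ p ⁻¹' V₂) := by
    rw [← Set.preimage_inter, Set.image_preimage_eq _ p.surjective]
  rw [h2]
  exact h1.image p.continuous

/-- Let p : X → Y and q : Y → S be morphisms of schemes with p surjective, flat and of finite
presentation. If p ≫ q is of finite type then q is of finite type; if p ≫ q is of finite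
presentation then q is of finite presentation. -/
theorem result {X Y S : Scheme.{u}} (p : X ⟶ Y) (q : Y ⟶ S)
    [Surjective p] [Flat p] [LocallyOfFinitePresentation p] [QuasiCompact p] [QuasiSeparated p] :
    ((LocallyOfFiniteType (p ≫ q) ∧ QuasiCompact (p ≫ q)) → (LocallyOfFiniteType q ∧ QuasiCompact q)) ∧
    ((LocallyOfFinitePresentation (p ≫ q) ∧ QuasiCompact (p ≫ q) ∧ QuasiSeparated (p ≫ q)) →
      (LocallyOfFinitePresentation q ∧ QuasiCompact q ∧ QuasiSeparated q)) := by
  constructor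
  · rintro ⟨h1, h2⟩
    refine ⟨?_, quasiCompact_of_comp_surjective p q⟩
    exact Groth.Agent.H53.locallyOfFiniteType_of_fppf_family q (fun _ : Unit => X) (fun _ => p)
      (fun _ => inferInstance) (fun _ => inferInstance) (fun _ => h1)
      (fun y => ⟨(), p.surjective y⟩)
  · rintro ⟨h1, h2, h3⟩
    refine ⟨?_, quasiCompact_of_comp_surjective p q, quasiSeparated_of_comp_surjective p q⟩
    exact Groth.Agent.H53.locallyOfFinitePresentation_of_fppf_family q (fun _ : Unit => X)
      (fun _ => p) (fun _ => inferInstance) (fun _ => inferInstance) (fun _ => h1)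
      (fun y => ⟨(), p.surjective y⟩)

end Groth.Agent.S4091
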